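import Mathlib.LinearAlgebra.TensorProduct.Pi
import Mathlib.LinearAlgebra.TensorProduct.RightExactness
import Mathlib.Algebra.Module.FinitePresentation
import Mathlib.LinearAlgebra.Isomorphisms
import Mathlib.LinearAlgebra.Finsupp.LinearCombination

/-!
# Domination, purity and finitely presented cokernels (lead's helper library)

* `exists_solution_of_dominates`: equational form of domination.
* `factor_of_dominates`: if `g` is dominated by `f` and `coker f` is finitely presented,
  `g` factors through `f`.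
* `exists_section_of_universallyInjective`: universally exact sequences with finitely presented
  cokernel split.
-/

universe u

namespace Groth.Agent.Lib.MLPure_lead

open TensorProduct

variable {R : Type u} [CommRing R]

theorem rTensor_lTensor_comm {X Y A B : Type*} [AddCommGroup X] [Module R X] [AddCommGroup Y]
    [Module R Y] [AddCommGroup A] [Module R A] [AddCommGroup B] [Module R B]
    (φ : X →ₗ[R] Y) (ψ : A →ₗ[R] B) (t : X ⊗[R] A) :
    (φ.rTensor B) ((ψ.lTensor X) t) = (ψ.lTensor Y) ((φ.rTensor A) t) := by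
  rw [← LinearMap.comp_apply, ← LinearMap.comp_apply, LinearMap.rTensor_comp_lTensor,
    LinearMap.lTensor_comp_rTensor]

theorem piScalarRight_sum_tmul {X : Type*} [AddCommGroup X] [Module R X] {m n : ℕ}
    (x : Fin n → X) (c : Fin n → (Fin m → R)) (j : Fin m) :
    TensorProduct.piScalarRight R R X (Fin m) (∑ i, x i ⊗ₜ[R] c i) j = ∑ i, c i j • x i := by
  rw [map_sum, Finset.sum_apply]
  refine Finset.sum_congr rfl fun i _ => ?_
  rw [TensorProduct.piScalarRight_apply, TensorProduct.piScalarRightHom_tmul]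

theorem eq_sum_tmul_single {X : Type*} [AddCommGroup X] [Module R X] {n : ℕ}
    (v : X ⊗[R] (Fin n → R)) :
    v = ∑ i, (TensorProduct.piScalarRight R R X (Fin n) v) i ⊗ₜ[R]
      (Pi.single i (1 : R) : Fin n → R) := by
  apply (TensorProduct.piScalarRight R R X (Fin n)).injective
  ext j
  rw [piScalarRight_sum_tmul]
  simp [Pi.single_apply]

theorem exists_solution_of_dominates {M N M' : Type u} [AddCommGroup M] [Module R M]
    [AddCommGroup N] [Module R N] [AddCommGroup M'] [Module R M']
    (f : M →ₗ[R] N) (g : M →ₗ[R] M')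
    (hdom : ∀ (Q : Type u) [AddCommGroup Q] [Module R Q],
      LinearMap.ker (f.rTensor Q) ≤ LinearMap.ker (g.rTensor Q))
    {m n : ℕ} (k : Fin m → Fin n → R) (a : Fin m → M) (b : Fin n → N)
    (hab : ∀ j, f (a j) = ∑ i, k j i • b i) :
    ∃ a' : Fin n → M', ∀ j, g (a j) = ∑ i, k j i • a' i := by
  classical
  let c : Fin n → (Fin m → R) := fun i j => k j i
  let γ : (Fin n → R) →ₗ[R] (Fin m → R) := Fintype.linearCombination R c
  have hγ : ∀ i, γ (Pi.single i 1) = c i := fun i => by
    simp only [γ, Fintype.linearCombination_apply_single, one_smul]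
  let q : (Fin m → R) →ₗ[R] ((Fin m → R) ⧸ LinearMap.range γ) := (LinearMap.range γ).mkQ
  have hqγ : q ∘ₗ γ = 0 := LinearMap.range_mkQ_comp γ
  let t₀ : M ⊗[R] (Fin m → R) := ∑ j, a j ⊗ₜ[R] (Pi.single j (1 : R) : Fin m → R)
  have h1 : (f.rTensor (Fin m → R)) t₀ =
      (γ.lTensor N) (∑ i, b i ⊗ₜ[R] (Pi.single i (1 : R) : Fin n → R)) := by
    have e1 : (f.rTensor (Fin m → R)) t₀ =
        ∑ j', f (a j') ⊗ₜ[R] (Pi.single j' (1 : R) : Fin m → R) := by
      simp only [t₀, map_sum, LinearMap.rTensor_tmul]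
    have e2 : (γ.lTensor N) (∑ i, b i ⊗ₜ[R] (Pi.single i (1 : R) : Fin n → R)) =
        ∑ i, b i ⊗ₜ[R] c i := by
      simp only [map_sum, LinearMap.lTensor_tmul, hγ]
    rw [e1, e2]
    apply (TensorProduct.piScalarRight R R N (Fin m)).injective
    ext j
    rw [piScalarRight_sum_tmul, piScalarRight_sum_tmul]
    simp only [c, Pi.single_apply, ite_smul, one_smul, zero_smul, Finset.sum_ite_eq,
      Finset.mem_univ, if_true]
    exact hab j
  have h3 : (g.rTensor ((Fin m → R) ⧸ LinearMap.range γ)) ((q.lTensor M) t₀) = 0 := by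
    have h2 : (q.lTensor M) t₀ ∈
        LinearMap.ker (f.rTensor ((Fin m → R) ⧸ LinearMap.range γ)) := by
      rw [LinearMap.mem_ker, rTensor_lTensor_comm, h1, ← LinearMap.comp_apply,
        ← LinearMap.lTensor_comp, hqγ, LinearMap.lTensor_zero, LinearMap.zero_apply]
    exact LinearMap.mem_ker.mp (hdom _ h2)
  rw [rTensor_lTensor_comm] at h3
  have hex : Function.Exact (γ.lTensor M') (q.lTensor M') :=
    lTensor_exact M' (LinearMap.exact_map_mkQ_range γ) (Submodule.mkQ_surjective _)
  obtain ⟨v, hv⟩ := (hex _).mp h3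
  refine ⟨fun i => (TensorProduct.piScalarRight R R M' (Fin n) v) i, fun j => ?_⟩
  have e3 : (g.rTensor (Fin m → R)) t₀ =
      ∑ j', g (a j') ⊗ₜ[R] (Pi.single j' (1 : R) : Fin m → R) := by
    simp only [t₀, map_sum, LinearMap.rTensor_tmul]
  have e4 : (γ.lTensor M') v =
      ∑ i, (TensorProduct.piScalarRight R R M' (Fin n) v) i ⊗ₜ[R] c i := by
    conv_lhs => rw [eq_sum_tmul_single v]
    simp only [map_sum, LinearMap.lTensor_tmul, hγ]
  have h5 := congrArg (fun z => TensorProduct.piScalarRight R R M' (Fin m) z j) hv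
  rw [e3, e4, piScalarRight_sum_tmul, piScalarRight_sum_tmul] at h5
  simp only [c, Pi.single_apply, ite_smul, one_smul, zero_smul, Finset.sum_ite_eq,
    Finset.mem_univ, if_true] at h5
  exact h5.symm

theorem ker_le_ker_of_dominates {M N M' : Type u} [AddCommGroup M] [Module R M]
    [AddCommGroup N] [Module R N] [AddCommGroup M'] [Module R M']
    (f : M →ₗ[R] N) (g : M →ₗ[R] M')
    (hdom : LinearMap.ker (f.rTensor R) ≤ LinearMap.ker (g.rTensor R)) :
    LinearMap.ker f ≤ LinearMap.ker g := by
  intro x hx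
  have h1 : x ⊗ₜ[R] (1 : R) ∈ LinearMap.ker (f.rTensor R) := by
    rw [LinearMap.mem_ker, LinearMap.rTensor_tmul, LinearMap.mem_ker.mp hx, TensorProduct.zero_tmul]
  have h2 := LinearMap.mem_ker.mp (hdom h1)
  rw [LinearMap.rTensor_tmul] at h2
  have h3 := congrArg (TensorProduct.rid R M') h2
  rw [TensorProduct.rid_tmul, one_smul, map_zero] at h3
  exact LinearMap.mem_ker.mpr h3

theorem single_eq_smul_single {n : ℕ} (j : Fin n) (x : R) :
    (Pi.single j x : Fin n → R) = x • Pi.single j 1 := by
  ext i'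
  simp [Pi.single_apply]

theorem factor_of_dominates {M N M' : Type u} [AddCommGroup M] [Module R M]
    [AddCommGroup N] [Module R N] [AddCommGroup M'] [Module R M']
    (f : M →ₗ[R] N) (g : M →ₗ[R] M') [Module.FinitePresentation R (N ⧸ LinearMap.range f)]
    (hdom : ∀ (Q : Type u) [AddCommGroup Q] [Module R Q],
      LinearMap.ker (f.rTensor Q) ≤ LinearMap.ker (g.rTensor Q)) :
    ∃ h : N →ₗ[R] M', g = h ∘ₗ f := by
  classical
  obtain ⟨n, m, π, κ, hπ, hκπ⟩ :=
    Module.FinitePresentation.exists_fin' R (N ⧸ LinearMap.range f)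
  have hb : ∀ i : Fin n, ∃ b : N, (LinearMap.range f).mkQ b = π (Pi.single i 1) :=
    fun i => (LinearMap.range f).mkQ_surjective _
  choose b hb using hb
  let β : (Fin n → R) →ₗ[R] N := Fintype.linearCombination R b
  have hβ : ∀ r, (LinearMap.range f).mkQ (β r) = π r := by
    intro r
    have : (LinearMap.range f).mkQ ∘ₗ β = π := by
      refine LinearMap.pi_ext fun i x => ?_
      rw [single_eq_smul_single, map_smul, map_smul]
      simp only [LinearMap.comp_apply, β, Fintype.linearCombination_apply_single, one_smul, hb]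
    exact LinearMap.congr_fun this r
  have ha : ∀ j : Fin m, ∃ a : M, f a = β (κ (Pi.single j 1)) := by
    intro j
    have h0 : (LinearMap.range f).mkQ (β (κ (Pi.single j 1))) = 0 := by
      rw [hβ]; exact hκπ.apply_apply_eq_zero _
    rw [Submodule.mkQ_apply, Submodule.Quotient.mk_eq_zero] at h0
    exact h0
  choose a ha using ha
  obtain ⟨a', ha'⟩ := exists_solution_of_dominates f g hdom
    (fun j i => κ (Pi.single j 1) i) a b
    (fun j => by rw [ha j]; exact Fintype.linearCombination_apply R b _)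
  let α' : (Fin n → R) →ₗ[R] M' := Fintype.linearCombination R a'
  let A : (Fin m → R) →ₗ[R] M := Fintype.linearCombination R a
  have hfA : ∀ s, f (A s) = β (κ s) := by
    intro s
    have : f ∘ₗ A = β ∘ₗ κ := by
      refine LinearMap.pi_ext fun j x => ?_
      rw [single_eq_smul_single, map_smul, map_smul]
      simp only [LinearMap.comp_apply, A, Fintype.linearCombination_apply_single, one_smul, ha]
    exact LinearMap.congr_fun this s
  have hgA : ∀ s, g (A s) = α' (κ s) := by
    intro s
    have : g ∘ₗ A = α' ∘ₗ κ := by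
      refine LinearMap.pi_ext fun j x => ?_
      rw [single_eq_smul_single, map_smul, map_smul]
      simp only [LinearMap.comp_apply, A, Fintype.linearCombination_apply_single, one_smul, ha']
      simp only [α', Fintype.linearCombination_apply]
    exact LinearMap.congr_fun this s
  let σ : (M × (Fin n → R)) →ₗ[R] N := f.coprod β
  have hσ : Function.Surjective σ := by
    intro y
    obtain ⟨r, hr⟩ := hπ ((LinearMap.range f).mkQ y)
    have h0 : (LinearMap.range f).mkQ (y - β r) = 0 := by rw [map_sub, hβ, hr, sub_self]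
    rw [Submodule.mkQ_apply, Submodule.Quotient.mk_eq_zero] at h0
    obtain ⟨x, hx⟩ := h0
    refine ⟨(x, r), ?_⟩
    simp only [σ, LinearMap.coprod_apply]
    rw [hx, sub_add_cancel]
  let ht : (M × (Fin n → R)) →ₗ[R] M' := g.coprod α'
  have hle : LinearMap.ker σ ≤ LinearMap.ker ht := by
    rintro ⟨x, r⟩ hxr
    rw [LinearMap.mem_ker] at hxr ⊢
    simp only [σ, ht, LinearMap.coprod_apply] at hxr ⊢
    have hπr : π r = 0 := by
      rw [← hβ, Submodule.mkQ_apply, Submodule.Quotient.mk_eq_zero]
      refine ⟨-x, ?_⟩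
      rw [map_neg]; exact neg_eq_of_add_eq_zero_right hxr
    obtain ⟨s, rfl⟩ := (hκπ r).mp hπr
    have h1 : f (x + A s) = 0 := by rw [map_add, hfA]; exact hxr
    have h2 : g (x + A s) = 0 := LinearMap.mem_ker.mp
      (ker_le_ker_of_dominates f g (hdom R) (LinearMap.mem_ker.mpr h1))
    rw [map_add, hgA] at h2
    exact h2
  let e := σ.quotKerEquivOfSurjective hσ
  refine ⟨(LinearMap.ker σ).liftQ ht hle ∘ₗ e.symm.toLinearMap, ?_⟩
  ext x
  have h1 : e.symm (f x) = (LinearMap.ker σ).mkQ (x, 0) := by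
    rw [LinearEquiv.symm_apply_eq]
    simp only [e, Submodule.mkQ_apply, LinearMap.quotKerEquivOfSurjective_apply_mk, σ,
      LinearMap.coprod_apply, map_zero, add_zero]
  rw [LinearMap.comp_apply, LinearMap.comp_apply, LinearEquiv.coe_coe, h1, Submodule.mkQ_apply,
    Submodule.liftQ_apply]
  simp only [ht, LinearMap.coprod_apply, map_zero, add_zero]

theorem exists_section_of_universallyInjective {M₁ M₂ M₃ : Type u} [AddCommGroup M₁] [Module R M₁]
    [AddCommGroup M₂] [Module R M₂] [AddCommGroup M₃] [Module R M₃]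
    [Module.FinitePresentation R M₃]
    (f : M₁ →ₗ[R] M₂) (g : M₂ →ₗ[R] M₃) (hexact : Function.Exact f g)
    (hg : Function.Surjective g)
    (hf : ∀ (Q : Type u) [AddCommGroup Q] [Module R Q], Function.Injective (f.rTensor Q)) :
    ∃ s : M₃ →ₗ[R] M₂, g.comp s = LinearMap.id := by
  have hker : LinearMap.ker g = LinearMap.range f := LinearMap.exact_iff.mp hexact
  let e : (M₂ ⧸ LinearMap.range f) ≃ₗ[R] M₃ :=
    (Submodule.quotEquivOfEq _ _ hker.symm).trans (g.quotKerEquivOfSurjective hg)
  have : Module.FinitePresentation R (M₂ ⧸ LinearMap.range f) :=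
    Module.FinitePresentation.of_equiv e.symm
  obtain ⟨h, hh⟩ := factor_of_dominates f (LinearMap.id : M₁ →ₗ[R] M₁) (fun Q _ _ => by
    intro x hx
    rw [LinearMap.mem_ker] at hx ⊢
    have : x = 0 := hf Q (by rw [hx, map_zero])
    rw [this, map_zero])
  have hhf : ∀ x, h (f x) = x := fun x => (LinearMap.congr_fun hh x).symm
  let ρ : M₂ →ₗ[R] M₂ := LinearMap.id - f ∘ₗ h
  have hρ : LinearMap.ker g ≤ LinearMap.ker ρ := by
    intro y hy
    rw [hker] at hy
    obtain ⟨x, rfl⟩ := hy
    rw [LinearMap.mem_ker]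
    simp only [ρ, LinearMap.sub_apply, LinearMap.id_apply, LinearMap.comp_apply, hhf, sub_self]
  refine ⟨(LinearMap.ker g).liftQ ρ hρ ∘ₗ (g.quotKerEquivOfSurjective hg).symm.toLinearMap, ?_⟩
  ext z
  obtain ⟨y, rfl⟩ := hg z
  have h1 : (g.quotKerEquivOfSurjective hg).symm (g y) = (LinearMap.ker g).mkQ y := by
    rw [LinearEquiv.symm_apply_eq]
    simp only [Submodule.mkQ_apply, LinearMap.quotKerEquivOfSurjective_apply_mk]
  rw [LinearMap.comp_apply, LinearMap.comp_apply, LinearEquiv.coe_coe, h1, Submodule.mkQ_apply,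
    Submodule.liftQ_apply, LinearMap.id_apply]
  simp only [ρ, LinearMap.sub_apply, LinearMap.id_apply, LinearMap.comp_apply, map_sub]
  rw [hexact.apply_apply_eq_zero, sub_zero]

end Groth.Agent.Lib.MLPure_lead
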