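import Mathlib.LinearAlgebra.TensorProduct.Pi
import Mathlib.RingTheory.Finiteness.Basic
import Mathlib.LinearAlgebra.Span.Basic
import Mathlib.LinearAlgebra.Finsupp.LinearCombination

/-!
# Tensor products and arbitrary products (lead's helper library)

* `exists_sum_tmul_of_span_eq_top`: if `s : Fin n → N` spans `N`, every element of `N ⊗ Q` is
  `∑ j, s j ⊗ q j`.
* `piRightHom_surjective_of_finite`: for a finite module `N`, the canonical map
  `N ⊗ ∏ Q i → ∏ (N ⊗ Q i)` is surjective.
-/

universe u v w

namespace Groth.Agent.Lib.PiTensor_lead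

open TensorProduct

variable {R : Type u} [CommRing R]

theorem exists_sum_tmul_of_span_eq_top {N : Type v} [AddCommGroup N] [Module R N] {n : ℕ}
    (s : Fin n → N) (hs : Submodule.span R (Set.range s) = ⊤) (Q : Type w) [AddCommGroup Q]
    [Module R Q] (x : N ⊗[R] Q) : ∃ q : Fin n → Q, x = ∑ j, s j ⊗ₜ[R] q j := by
  induction x using TensorProduct.induction_on with
  | zero => exact ⟨0, by simp⟩
  | tmul a b =>
    have ha : a ∈ Submodule.span R (Set.range s) := by rw [hs]; trivial
    obtain ⟨c, rfl⟩ := (Submodule.mem_span_range_iff_exists_fun R).mp ha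
    refine ⟨fun j => c j • b, ?_⟩
    rw [TensorProduct.sum_tmul]
    refine Finset.sum_congr rfl fun j _ => ?_
    rw [TensorProduct.smul_tmul]
  | add a b ha hb =>
    obtain ⟨qa, rfl⟩ := ha
    obtain ⟨qb, rfl⟩ := hb
    refine ⟨qa + qb, ?_⟩
    simp [TensorProduct.tmul_add, Finset.sum_add_distrib]

theorem piRightHom_surjective_of_finite (N : Type v) [AddCommGroup N] [Module R N]
    [Module.Finite R N] {ι : Type*} (Q : ι → Type w) [∀ i, AddCommGroup (Q i)]
    [∀ i, Module R (Q i)] : Function.Surjective (TensorProduct.piRightHom R R N Q) := by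
  obtain ⟨n, s, hs⟩ := Module.Finite.exists_fin (R := R) (M := N)
  intro w
  choose q hq using fun i => exists_sum_tmul_of_span_eq_top s hs (Q i) (w i)
  refine ⟨∑ j, s j ⊗ₜ[R] (fun i => q i j), ?_⟩
  ext i
  rw [map_sum, Finset.sum_apply, hq i]
  simp

end Groth.Agent.Lib.PiTensor_lead
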