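import Groth.Agent.Lib.MittagLeffler_lead
import Groth.Agent.Lib.PiTensor_lead
import Groth.Agent.Lib.MLPure_lead
import Mathlib.LinearAlgebra.TensorProduct.Vanishing
import Mathlib.LinearAlgebra.TensorProduct.DirectLimit
import Mathlib.Algebra.Colimit.Finiteness
import Mathlib.Algebra.Category.ModuleCat.Basic
import Mathlib.LinearAlgebra.StdBasis

/-!
# Mittag-Leffler modules and domination (lead's helper library)

* `exists_fp_factor`: vanishing in `M ⊗ N` of the image of `z ∈ P ⊗ N` (`P` f.p.) is witnessed by a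
  finitely presented factorization `P → Q → M`.
* `exists_dominating_of_isMittagLeffler`, `isMittagLeffler_of_dominating`: the product
  characterization of Mittag-Leffler modules is equivalent to the domination characterization.
* `dominates_of_finitePresentation`: domination may be tested on finitely presented modules.
-/

universe u

namespace Groth.Agent.Lib.MLDom_lead

open TensorProduct CAlg Groth.Agent.Lib.MLPure_lead

variable {R : Type u} [CommRing R]

theorem piRightHom_apply {A : Type*} [AddCommGroup A] [Module R A] {ι : Type*} (N : ι → Type*)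
    [∀ i, AddCommGroup (N i)] [∀ i, Module R (N i)] (x : A ⊗[R] (∀ i, N i)) (i : ι) :
    TensorProduct.piRightHom R R A N x i =
      (LinearMap.proj i : (∀ i, N i) →ₗ[R] N i).lTensor A x := by
  induction x using TensorProduct.induction_on with
  | zero => simp
  | tmul a q => simp
  | add x y hx hy => rw [map_add, Pi.add_apply, hx, hy, map_add]

theorem comm_lTensor {A B N : Type*} [AddCommGroup A] [Module R A] [AddCommGroup B] [Module R B]
    [AddCommGroup N] [Module R N] (ψ : A →ₗ[R] B) (w : N ⊗[R] A) :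
    TensorProduct.comm R N B ((ψ.lTensor N) w) = (ψ.rTensor N) (TensorProduct.comm R N A w) := by
  induction w using TensorProduct.induction_on with
  | zero => simp
  | tmul a b => simp
  | add x y hx hy => simp only [map_add, hx, hy]

/-- Vanishing in `M ⊗ N` of an element coming from a finitely generated submodule happens in a
(bigger) finitely generated submodule. -/
theorem exists_fg_rTensor_eq_zero {M N : Type u} [AddCommGroup M] [Module R M] [AddCommGroup N]
    [Module R N] (M₀ : Submodule R M) (hM₀ : M₀.FG) (ξ : M₀ ⊗[R] N)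
    (hξ : (M₀.subtype.rTensor N) ξ = 0) :
    ∃ (M₁ : Submodule R M) (_ : M₁.FG) (h01 : M₀ ≤ M₁),
      ((Submodule.inclusion h01).rTensor N) ξ = 0 := by
  classical
  let i₀ : {P : Submodule R M // P.FG} := ⟨M₀, hM₀⟩
  have key := TensorProduct.directLimitLeft_rTensor_of (Module.fgSystem R M) N (i := i₀) ξ
  have hid : (Module.fgSystem.equiv R M).symm.toLinearMap ∘ₗ
      (Module.fgSystem.equiv R M).toLinearMap = LinearMap.id :=
    LinearMap.ext fun z => (Module.fgSystem.equiv R M).symm_apply_apply z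
  have h2 : ((Module.DirectLimit.of R {P : Submodule R M // P.FG} (fun P => P.1)
      (Module.fgSystem R M) i₀).rTensor N) ξ = 0 := by
    have hy : ((Module.fgSystem.equiv R M).toLinearMap.rTensor N)
        (((Module.DirectLimit.of R {P : Submodule R M // P.FG} (fun P => P.1)
          (Module.fgSystem R M) i₀).rTensor N) ξ) = 0 := by
      rw [← LinearMap.comp_apply, ← LinearMap.rTensor_comp, Module.fgSystem.equiv_comp_of]
      exact hξ
    have := congrArg ((Module.fgSystem.equiv R M).symm.toLinearMap.rTensor N) hy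
    rwa [← LinearMap.comp_apply, ← LinearMap.rTensor_comp, hid, LinearMap.rTensor_id,
      LinearMap.id_apply, map_zero] at this
  rw [h2, map_zero] at key
  obtain ⟨j, hij, hj⟩ := Module.DirectLimit.of.zero_exact key.symm
  exact ⟨j.1, j.2, hij, hj⟩

theorem span_single_one (n : ℕ) :
    Submodule.span R (Set.range (fun i : Fin n => (Pi.single i (1 : R) : Fin n → R))) = ⊤ := by
  classical
  have h : (fun i : Fin n => (Pi.single i (1 : R) : Fin n → R)) = ⇑(Pi.basisFun R (Fin n)) := by
    funext i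
    simp
  rw [h]
  exact (Pi.basisFun R (Fin n)).span_eq

theorem exists_fp_factor_fin {M N : Type u} [AddCommGroup M] [Module R M] [AddCommGroup N]
    [Module R N] {n : ℕ} (f : (Fin n → R) →ₗ[R] M) (z : (Fin n → R) ⊗[R] N)
    (hz : f.rTensor N z = 0) :
    ∃ (Q : Type u) (_ : AddCommGroup Q) (_ : Module R Q) (_ : Module.FinitePresentation R Q)
      (g : (Fin n → R) →ₗ[R] Q) (h : Q →ₗ[R] M), h ∘ₗ g = f ∧ g.rTensor N z = 0 := by
  classical
  obtain ⟨y, rfl⟩ := Groth.Agent.Lib.PiTensor_lead.exists_sum_tmul_of_span_eq_top _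
    (span_single_one (R := R) n) N z
  simp only [map_sum, LinearMap.rTensor_tmul] at hz
  let M₀ : Submodule R M := Submodule.span R (Set.range fun j : Fin n => f (Pi.single j 1))
  have hM₀ : M₀.FG := Submodule.fg_span (Set.finite_range _)
  let μ : Fin n → M₀ := fun j => ⟨f (Pi.single j 1), Submodule.subset_span (Set.mem_range_self j)⟩
  let ξ : M₀ ⊗[R] N := ∑ j, μ j ⊗ₜ[R] y j
  have hξ : (M₀.subtype.rTensor N) ξ = 0 := by
    simp only [ξ, map_sum, LinearMap.rTensor_tmul, Submodule.subtype_apply, μ]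
    exact hz
  obtain ⟨M₁, hM₁, h01, h1⟩ := exists_fg_rTensor_eq_zero M₀ hM₀ ξ hξ
  have : Module.Finite R M₁ := Module.Finite.iff_fg.mpr hM₁
  obtain ⟨r, s, hs⟩ := Module.Finite.exists_fin (R := R) (M := M₁)
  let m' : Fin n ⊕ Fin r → M₁ := Sum.elim (fun j => Submodule.inclusion h01 (μ j)) s
  let n' : Fin n ⊕ Fin r → N := Sum.elim y (fun _ => 0)
  have hm' : Submodule.span R (Set.range m') = ⊤ := by
    rw [eq_top_iff, ← hs]
    apply Submodule.span_mono
    rintro _ ⟨l, rfl⟩
    exact ⟨Sum.inr l, rfl⟩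
  have hsum : ∑ i', m' i' ⊗ₜ[R] n' i' = (0 : M₁ ⊗[R] N) := by
    rw [Fintype.sum_sum_type]
    simp only [m', n', Sum.elim_inl, Sum.elim_inr, TensorProduct.tmul_zero,
      Finset.sum_const_zero, add_zero]
    rw [← h1]
    simp only [ξ, map_sum, LinearMap.rTensor_tmul]
  obtain ⟨k, a, y', hy', ha⟩ := TensorProduct.vanishesTrivially_of_sum_tmul_eq_zero R hm' hsum
  let L : Submodule R (Fin n ⊕ Fin r → R) :=
    Submodule.span R (Set.range fun j : Fin k => (fun i' => a i' j : Fin n ⊕ Fin r → R))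
  have hQ : Module.FinitePresentation R ((Fin n ⊕ Fin r → R) ⧸ L) :=
    Module.finitePresentation_of_surjective L.mkQ L.mkQ_surjective
      (by rw [Submodule.ker_mkQ]; exact Submodule.fg_span (Set.finite_range _))
  let ε : (Fin n → R) →ₗ[R] (Fin n ⊕ Fin r → R) :=
    Fintype.linearCombination R (fun j => (Pi.single (Sum.inl j) (1 : R) : Fin n ⊕ Fin r → R))
  let ht : (Fin n ⊕ Fin r → R) →ₗ[R] M := M₁.subtype ∘ₗ Fintype.linearCombination R m'
  have hL : L ≤ LinearMap.ker ht := by
    apply Submodule.span_le.mpr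
    rintro _ ⟨j, rfl⟩
    show ht _ = 0
    simp only [ht, LinearMap.comp_apply, Fintype.linearCombination_apply, ha j, map_zero]
  have hsingle : ∀ v : Fin n ⊕ Fin r → R,
      ∑ i', v i' • (Pi.single i' (1 : R) : Fin n ⊕ Fin r → R) = v := by
    intro v
    ext i''
    simp [Finset.sum_apply, Pi.single_apply]
  refine ⟨(Fin n ⊕ Fin r → R) ⧸ L, inferInstance, inferInstance, hQ, L.mkQ ∘ₗ ε,
    L.liftQ ht hL, ?_, ?_⟩
  · refine LinearMap.pi_ext fun j x => ?_
    rw [single_eq_smul_single, map_smul, map_smul]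
    simp only [LinearMap.comp_apply, ε, Fintype.linearCombination_apply_single, one_smul,
      Submodule.mkQ_apply, Submodule.liftQ_apply, ht, m', Sum.elim_inl, Submodule.subtype_apply,
      Submodule.coe_inclusion, μ]
  · have hvan : ∑ i', (L.mkQ (Pi.single i' (1 : R)) ⊗ₜ[R] n' i' :
        ((Fin n ⊕ Fin r → R) ⧸ L) ⊗[R] N) = 0 := by
      apply TensorProduct.sum_tmul_eq_zero_of_vanishesTrivially R
      refine ⟨k, a, y', hy', fun j => ?_⟩
      simp only [← map_smul, ← map_sum]
      rw [hsingle, Submodule.mkQ_apply, Submodule.Quotient.mk_eq_zero]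
      exact Submodule.subset_span ⟨j, rfl⟩
    rw [Fintype.sum_sum_type] at hvan
    simp only [n', Sum.elim_inl, Sum.elim_inr, TensorProduct.tmul_zero,
      Finset.sum_const_zero, add_zero] at hvan
    simp only [map_sum, LinearMap.rTensor_tmul, LinearMap.comp_apply, ε,
      Fintype.linearCombination_apply_single, one_smul]
    exact hvan

theorem exists_fp_factor {M N P : Type u} [AddCommGroup M] [Module R M] [AddCommGroup N]
    [Module R N] [AddCommGroup P] [Module R P] [Module.FinitePresentation R P]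
    (f : P →ₗ[R] M) (z : P ⊗[R] N) (hz : f.rTensor N z = 0) :
    ∃ (Q : Type u) (_ : AddCommGroup Q) (_ : Module R Q) (_ : Module.FinitePresentation R Q)
      (g : P →ₗ[R] Q) (h : Q →ₗ[R] M), h ∘ₗ g = f ∧ g.rTensor N z = 0 := by
  obtain ⟨n, K, e, hK⟩ := Module.FinitePresentation.exists_fin R P
  let π : (Fin n → R) →ₗ[R] P := e.symm.toLinearMap ∘ₗ K.mkQ
  have hπ : Function.Surjective π := e.symm.surjective.comp K.mkQ_surjective
  have hπK : ∀ k ∈ K, π k = 0 := fun k hk => by
    simp only [π, LinearMap.comp_apply, Submodule.mkQ_apply,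
      (Submodule.Quotient.mk_eq_zero K).mpr hk, map_zero]
  obtain ⟨z', rfl⟩ := LinearMap.rTensor_surjective N hπ z
  have hz' : (f ∘ₗ π).rTensor N z' = 0 := by
    rw [LinearMap.rTensor_comp, LinearMap.comp_apply, hz]
  obtain ⟨Q', _, _, _, g', h', hh', hg'⟩ := exists_fp_factor_fin (f ∘ₗ π) z' hz'
  let L : Submodule R Q' := K.map g'
  have hL : L.FG := hK.map g'
  have hQ : Module.FinitePresentation R (Q' ⧸ L) :=
    Module.finitePresentation_of_surjective L.mkQ L.mkQ_surjective
      (by rw [Submodule.ker_mkQ]; exact hL)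
  have hle : L ≤ LinearMap.ker h' := by
    rintro _ ⟨k, hk, rfl⟩
    rw [LinearMap.mem_ker, ← LinearMap.comp_apply, hh', LinearMap.comp_apply, hπK k hk, map_zero]
  have hle' : K ≤ LinearMap.ker (L.mkQ ∘ₗ g') := by
    intro k hk
    rw [LinearMap.mem_ker, LinearMap.comp_apply, Submodule.mkQ_apply,
      Submodule.Quotient.mk_eq_zero]
    exact Submodule.mem_map_of_mem hk
  let g : P →ₗ[R] (Q' ⧸ L) := K.liftQ (L.mkQ ∘ₗ g') hle' ∘ₗ e.toLinearMap
  have hgπ : g ∘ₗ π = L.mkQ ∘ₗ g' := by
    refine LinearMap.ext fun r => ?_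
    simp only [g, π, LinearMap.comp_apply, LinearEquiv.coe_coe, LinearEquiv.apply_symm_apply,
      Submodule.mkQ_apply, Submodule.liftQ_apply]
  refine ⟨Q' ⧸ L, inferInstance, inferInstance, hQ, g, L.liftQ h' hle, ?_, ?_⟩
  · refine LinearMap.ext fun p => ?_
    obtain ⟨r, rfl⟩ := hπ p
    rw [LinearMap.comp_apply, ← LinearMap.comp_apply g π, hgπ, LinearMap.comp_apply,
      Submodule.mkQ_apply, Submodule.liftQ_apply, ← LinearMap.comp_apply h' g', hh',
      LinearMap.comp_apply]
  · rw [← LinearMap.comp_apply, ← LinearMap.rTensor_comp, hgπ, LinearMap.rTensor_comp,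
      LinearMap.comp_apply, hg', map_zero]

/-- A factorization of `f : P → M` through a standard finitely presented module. -/
structure Fact {M P : Type u} [AddCommGroup M] [Module R M] [AddCommGroup P] [Module R P]
    (f : P →ₗ[R] M) : Type u where
  r : ℕ
  L : Submodule R (Fin r → R)
  hL : L.FG
  g : P →ₗ[R] ((Fin r → R) ⧸ L)
  h : ((Fin r → R) ⧸ L) →ₗ[R] M
  comp : h ∘ₗ g = f

theorem exists_dominating_of_isMittagLeffler {M : Type u} [AddCommGroup M] [Module R M]
    (hM : IsMittagLeffler R M) (P : Type u) [AddCommGroup P] [Module R P]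
    [Module.FinitePresentation R P] (f : P →ₗ[R] M) :
    ∃ (Q : Type u) (_ : AddCommGroup Q) (_ : Module R Q) (_ : Module.FinitePresentation R Q)
      (g : P →ₗ[R] Q), ∀ (N : Type u) [AddCommGroup N] [Module R N],
        LinearMap.ker (f.rTensor N) = LinearMap.ker (g.rTensor N) := by
  classical
  have claim : ∃ j : Fact f, ∀ N : ModuleCat.{u} R,
      LinearMap.ker (f.rTensor N) ≤ LinearMap.ker (j.g.rTensor N) := by
    by_contra hcon
    push Not at hcon
    have hcon' : ∀ j : Fact f, ∃ (N : ModuleCat.{u} R) (y : P ⊗[R] N),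
        f.rTensor N y = 0 ∧ j.g.rTensor N y ≠ 0 := by
      intro j
      obtain ⟨N, hN⟩ := hcon j
      obtain ⟨y, hy, hy'⟩ := SetLike.not_le_iff_exists.mp hN
      exact ⟨N, y, LinearMap.mem_ker.mp hy, fun h0 => hy' (LinearMap.mem_ker.mpr h0)⟩
    choose N y hy hy' using hcon'
    obtain ⟨yt, hyt⟩ := Groth.Agent.Lib.PiTensor_lead.piRightHom_surjective_of_finite P
      (fun j => (N j : Type u)) (fun j => y j)
    have hcomp : ∀ j, (LinearMap.proj j : (∀ j, N j) →ₗ[R] N j).lTensor P yt = y j := by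
      intro j
      rw [← piRightHom_apply, hyt]
    have hξ : (f.rTensor (∀ j, N j)) yt = 0 := by
      apply hM (Fact f) (fun j => (N j : Type u))
      rw [map_zero]
      funext j
      rw [piRightHom_apply, ← rTensor_lTensor_comm, hcomp, hy]
      rfl
    obtain ⟨Q, _, _, _, g, h, hgh, hg0⟩ := exists_fp_factor f yt hξ
    obtain ⟨r, L, e, hL⟩ := Module.FinitePresentation.exists_fin R Q
    let j₀ : Fact f := ⟨r, L, hL, e.toLinearMap ∘ₗ g, h ∘ₗ e.symm.toLinearMap, by
      refine LinearMap.ext fun p => ?_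
      simp only [LinearMap.comp_apply, LinearEquiv.coe_coe, LinearEquiv.symm_apply_apply, ← hgh]⟩
    have h0 : (j₀.g.rTensor (N j₀)) (y j₀) = 0 := by
      rw [← hcomp j₀, rTensor_lTensor_comm]
      have : (j₀.g.rTensor (∀ j, N j)) yt = 0 := by
        show ((e.toLinearMap ∘ₗ g).rTensor _) yt = 0
        rw [LinearMap.rTensor_comp, LinearMap.comp_apply, hg0, map_zero]
      rw [this, map_zero]
    exact hy' j₀ h0
  obtain ⟨j, hj⟩ := claim
  have hfp : Module.FinitePresentation R ((Fin j.r → R) ⧸ j.L) :=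
    Module.finitePresentation_of_surjective j.L.mkQ j.L.mkQ_surjective
      (by rw [Submodule.ker_mkQ]; exact j.hL)
  refine ⟨(Fin j.r → R) ⧸ j.L, inferInstance, inferInstance, hfp, j.g,
    fun N _ _ => le_antisymm ?_ ?_⟩
  · exact hj (ModuleCat.of R N)
  · intro x hx
    rw [LinearMap.mem_ker] at hx ⊢
    rw [← j.comp, LinearMap.rTensor_comp, LinearMap.comp_apply, hx, map_zero]

theorem isMittagLeffler_of_dominating {M : Type u} [AddCommGroup M] [Module R M]
    (h : ∀ (n : ℕ) (f : (Fin n → R) →ₗ[R] M), ∃ (Q : Type u) (_ : AddCommGroup Q) (_ : Module R Q)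
      (_ : Module.FinitePresentation R Q) (g : (Fin n → R) →ₗ[R] Q),
      ∀ (N : Type u) [AddCommGroup N] [Module R N],
        LinearMap.ker (f.rTensor N) = LinearMap.ker (g.rTensor N)) :
    IsMittagLeffler R M := by
  classical
  intro ι N _ _
  rw [injective_iff_map_eq_zero]
  intro x hx
  obtain ⟨n, m, q, rfl⟩ := TensorProduct.exists_sum_tmul_eq x
  let f : (Fin n → R) →ₗ[R] M := Fintype.linearCombination R m
  obtain ⟨Q, _, _, _, g, hg⟩ := h n f
  let x₀ : (Fin n → R) ⊗[R] (∀ i, N i) := ∑ j, (Pi.single j (1 : R) : Fin n → R) ⊗ₜ[R] q j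
  have hx₀ : (f.rTensor (∀ i, N i)) x₀ = ∑ j, m j ⊗ₜ[R] q j := by
    simp only [x₀, f, map_sum, LinearMap.rTensor_tmul, Fintype.linearCombination_apply_single,
      one_smul]
  have hg0 : (g.rTensor (∀ i, N i)) x₀ = 0 := by
    apply Groth.Agent.Lib.MittagLeffler_lead.of_finitePresentation Q ι N
    rw [map_zero]
    funext i
    rw [piRightHom_apply, ← rTensor_lTensor_comm]
    have : (LinearMap.proj i : (∀ i, N i) →ₗ[R] N i).lTensor _ x₀ ∈
        LinearMap.ker (f.rTensor (N i)) := by
      rw [LinearMap.mem_ker, rTensor_lTensor_comm, hx₀, ← piRightHom_apply, hx]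
      rfl
    rw [hg (N i)] at this
    exact LinearMap.mem_ker.mp this
  have : x₀ ∈ LinearMap.ker (f.rTensor (∀ i, N i)) := by
    rw [hg (∀ i, N i)]
    exact LinearMap.mem_ker.mpr hg0
  rw [← hx₀]
  exact LinearMap.mem_ker.mp this

theorem dominates_of_finitePresentation {M N M' : Type u} [AddCommGroup M] [Module R M]
    [AddCommGroup N] [Module R N] [AddCommGroup M'] [Module R M']
    (f : M →ₗ[R] N) (g : M →ₗ[R] M')
    (hfp : ∀ (Q : Type u) [AddCommGroup Q] [Module R Q], Module.FinitePresentation R Q →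
      LinearMap.ker (f.rTensor Q) ≤ LinearMap.ker (g.rTensor Q))
    (Q : Type u) [AddCommGroup Q] [Module R Q] :
    LinearMap.ker (f.rTensor Q) ≤ LinearMap.ker (g.rTensor Q) := by
  classical
  intro z hz
  rw [LinearMap.mem_ker] at hz ⊢
  obtain ⟨n, m, q, rfl⟩ := TensorProduct.exists_sum_tmul_eq z
  let φ : (Fin n → R) →ₗ[R] Q := Fintype.linearCombination R q
  let z₀ : M ⊗[R] (Fin n → R) := ∑ j, m j ⊗ₜ[R] (Pi.single j (1 : R) : Fin n → R)
  have hz₀ : (φ.lTensor M) z₀ = ∑ j, m j ⊗ₜ[R] q j := by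
    simp only [z₀, φ, map_sum, LinearMap.lTensor_tmul, Fintype.linearCombination_apply_single,
      one_smul]
  rw [← hz₀] at hz ⊢
  rw [rTensor_lTensor_comm] at hz
  have hz' : (φ.rTensor N) (TensorProduct.comm R N _ ((f.rTensor (Fin n → R)) z₀)) = 0 := by
    rw [← comm_lTensor, hz, map_zero]
  obtain ⟨Q', _, _, hQ', φ', h, hh, hφ'⟩ := exists_fp_factor_fin φ _ hz'
  rw [← comm_lTensor] at hφ'
  have h1 : (φ'.lTensor N) ((f.rTensor (Fin n → R)) z₀) = 0 := by
    have := congrArg (TensorProduct.comm R N Q').symm hφ'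
    rwa [LinearEquiv.symm_apply_apply, map_zero] at this
  rw [← rTensor_lTensor_comm] at h1
  have h2 := LinearMap.mem_ker.mp (hfp Q' hQ' (LinearMap.mem_ker.mpr h1))
  rw [← hh, LinearMap.lTensor_comp, LinearMap.comp_apply, rTensor_lTensor_comm, h2, map_zero]

end Groth.Agent.Lib.MLDom_lead
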