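import Mathlib
import Groth.Prelude.Def_FlatCA
import Groth.Agent.Lib.MLDom_lead
import Groth.Agent.Lib.ComplComplete_helper3

set_option autoImplicit false
universe u

/-!
# Universal injectivity of `N → N^` (helper3)
-/

namespace Groth.Agent.Lib.UnivInjComplH3

open TensorProduct

variable {R S : Type u} [CommRing R] [CommRing S] [Algebra R S]
  (N : Type u) [AddCommGroup N] [Module S N] [Module R N] [IsScalarTower R S N]
  (Q : Type u) [AddCommGroup Q] [Module R Q]

theorem finite_tensor [Module.Finite S N] [Module.Finite R Q] : Module.Finite S (N ⊗[R] Q) := by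
  obtain ⟨m, g, hg⟩ := Module.Finite.exists_fin' R Q
  have e : N ⊗[R] (Fin m → R) ≃ₗ[S] (Fin m → N) := TensorProduct.piScalarRight R S N (Fin m)
  haveI : Module.Finite S (N ⊗[R] (Fin m → R)) := Module.Finite.equiv e.symm
  refine Module.Finite.of_surjective (TensorProduct.AlgebraTensorModule.lTensor S N g) ?_
  exact LinearMap.lTensor_surjective N hg

theorem eq_zero_of_mem_iInf [IsNoetherianRing S] [Module.Finite S N] [Module.Finite R Q]
    (I : Ideal R)
    (h : ∀ q ∈ associatedPrimes S (N ⊗[R] Q), I.map (algebraMap R S) ⊔ q ≠ ⊤)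
    (t : N ⊗[R] Q) (ht : ∀ n : ℕ, t ∈ (I ^ n • ⊤ : Submodule R (N ⊗[R] Q))) : t = 0 := by
  haveI : Module.Finite S (N ⊗[R] Q) := finite_tensor N Q
  have h1 : t ∈ (⨅ n : ℕ, (I.map (algebraMap R S)) ^ n • ⊤ : Submodule S (N ⊗[R] Q)) := by
    rw [Submodule.mem_iInf]
    intro n
    refine Submodule.smul_induction_on (ht n) ?_ ?_
    · intro a ha x _
      rw [← algebraMap_smul S a x]
      exact Submodule.smul_mem_smul
        (by rw [← Ideal.map_pow]; exact Ideal.mem_map_of_mem _ ha) Submodule.mem_top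
    · intro x y hx hy
      exact add_mem hx hy
  obtain ⟨r, hr⟩ := (Ideal.mem_iInf_smul_pow_eq_bot_iff _ t).1 h1
  by_contra ht0
  have h2 : (1 - (r : S)) ∈ {s : S | ∃ x : N ⊗[R] Q, x ≠ 0 ∧ s • x = 0} :=
    ⟨t, ht0, by rw [sub_smul, one_smul, hr, sub_self]⟩
  rw [← biUnion_associatedPrimes_eq_zero_divisors] at h2
  obtain ⟨q, hq, hrq⟩ := Set.mem_iUnion₂.1 h2
  apply h q hq
  rw [Ideal.eq_top_iff_one]
  have h3 : (1 : S) = r + (1 - r) := by ring
  rw [h3]
  exact Ideal.add_mem _ (Ideal.mem_sup_left r.2) (Ideal.mem_sup_right hrq)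

omit [Module S N] [IsScalarTower R S N] in
theorem mem_smul_top_of_lTensor_eq_zero (I : Ideal R) (t : Q ⊗[R] N)
    (ht : (AdicCompletion.of I N).lTensor Q t = 0) (n : ℕ) :
    t ∈ (I ^ n • ⊤ : Submodule R (Q ⊗[R] N)) := by
  have h1 : ((I ^ n • ⊤ : Submodule R N).mkQ).lTensor Q t = 0 := by
    have h2 := congrArg ((AdicCompletion.eval I N n).lTensor Q) ht
    rw [← LinearMap.comp_apply, ← LinearMap.lTensor_comp, AdicCompletion.eval_comp_of,
      map_zero] at h2
    exact h2
  have hex : Function.Exact ((I ^ n • ⊤ : Submodule R N).subtype.lTensor Q)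
      ((I ^ n • ⊤ : Submodule R N).mkQ.lTensor Q) :=
    lTensor_exact Q (LinearMap.exact_subtype_mkQ _) (Submodule.mkQ_surjective _)
  have key : ∀ y : Q ⊗[R] (I ^ n • ⊤ : Submodule R N),
      ((I ^ n • ⊤ : Submodule R N).subtype.lTensor Q) y ∈
        (I ^ n • ⊤ : Submodule R (Q ⊗[R] N)) := by
    intro y
    induction y using TensorProduct.induction_on with
    | zero => simp
    | tmul q m =>
      rw [LinearMap.lTensor_tmul]
      obtain ⟨m, hm⟩ := m
      show q ⊗ₜ[R] m ∈ _
      refine Submodule.smul_induction_on hm ?_ ?_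
      · intro a ha x _
        rw [TensorProduct.tmul_smul]
        exact Submodule.smul_mem_smul ha Submodule.mem_top
      · intro x y hx hy
        rw [TensorProduct.tmul_add]
        exact add_mem hx hy
    | add x y hx hy =>
      rw [map_add]
      exact add_mem hx hy
  obtain ⟨y, rfl⟩ := (hex t).1 h1
  exact key y

theorem lTensor_of_injective_of_finite [IsNoetherianRing S] [Module.Finite S N]
    [Module.Finite R Q] (I : Ideal R)
    (h : ∀ q ∈ associatedPrimes S (N ⊗[R] Q), I.map (algebraMap R S) ⊔ q ≠ ⊤) :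
    Function.Injective ((AdicCompletion.of I N).lTensor Q) := by
  rw [injective_iff_map_eq_zero]
  intro t ht
  have h1 : TensorProduct.comm R Q N t = 0 := by
    apply eq_zero_of_mem_iInf N Q I h
    intro n
    exact Groth.Agent.Lib.ComplCompleteH3.map_mem_smul_top _
      (TensorProduct.comm R Q N).toLinearMap _ (mem_smul_top_of_lTensor_eq_zero N Q I t ht n)
  exact (TensorProduct.comm R Q N).injective (h1.trans (map_zero _).symm)

theorem univInj [IsNoetherianRing R] [IsNoetherianRing S] [Module.Finite S N] (I : Ideal R)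
    (h : ∀ (Q : Type u) [AddCommGroup Q] [Module R Q], Module.Finite R Q →
      ∀ q ∈ associatedPrimes S (N ⊗[R] Q), I.map (algebraMap R S) ⊔ q ≠ ⊤) :
    FlatCA.UnivInj R (AdicCompletion.of I N) := by
  intro Q _ _
  rw [injective_iff_map_eq_zero]
  intro t ht
  obtain ⟨Q₀, hQ₀, hsub⟩ :=
    TensorProduct.exists_finite_submodule_left_of_setFinite ({t} : Set _) (Set.finite_singleton t)
  obtain ⟨t₀, rfl⟩ := hsub (Set.mem_singleton t)
  have hfg₀ : Q₀.FG := Module.Finite.iff_fg.1 hQ₀
  have h1 : (Q₀.subtype.rTensor (AdicCompletion I N))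
      ((AdicCompletion.of I N).lTensor Q₀ t₀) = 0 := by
    rw [← LinearMap.comp_apply, LinearMap.rTensor_comp_lTensor, ← LinearMap.lTensor_comp_rTensor,
      LinearMap.comp_apply]
    exact ht
  obtain ⟨Q₁, hQ₁, h01, h2⟩ := Groth.Agent.Lib.MLDom_lead.exists_fg_rTensor_eq_zero Q₀ hfg₀ _ h1
  haveI : Module.Finite R Q₁ := Module.Finite.iff_fg.2 hQ₁
  have h3 : (AdicCompletion.of I N).lTensor Q₁ ((Submodule.inclusion h01).rTensor N t₀) = 0 := by
    rw [← LinearMap.comp_apply, LinearMap.lTensor_comp_rTensor, ← LinearMap.rTensor_comp_lTensor,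
      LinearMap.comp_apply]
    exact h2
  have h4 : (Submodule.inclusion h01).rTensor N t₀ = 0 :=
    lTensor_of_injective_of_finite N Q₁ I (h Q₁ inferInstance)
      (h3.trans (map_zero _).symm)
  have h5 : Q₀.subtype = Q₁.subtype ∘ₗ Submodule.inclusion h01 := rfl
  rw [h5, LinearMap.rTensor_comp, LinearMap.comp_apply, h4, map_zero]

end Groth.Agent.Lib.UnivInjComplH3
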