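import Mathlib
import Groth.Prelude.Def_FlatCA
import Groth.Agent.Lib.AssFiberTensor_lead
import Groth.Agent.Lib.UnivInjCompl_helper3

/-!
# Associated primes of `N ⊗ Q` lie in the relative assassin (Noetherian case) (helper3)
-/

set_option autoImplicit false
universe u

namespace Groth.Agent.Lib.AssTensorNoethH3

open TensorProduct Function

section Fiber

attribute [local instance] Algebra.TensorProduct.rightAlgebra

variable {R S : Type u} [CommRing R] [CommRing S] [Algebra R S] (p : Ideal R) [p.IsPrime]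

theorem isUnit_algebraMap_fiber {r : R} (hr : r ∉ p) : IsUnit (algebraMap R (p.Fiber S) r) := by
  rw [IsScalarTower.algebraMap_apply R p.ResidueField (p.Fiber S)]
  apply IsUnit.map
  exact isUnit_iff_ne_zero.mpr (by rwa [Ne, Ideal.algebraMap_residueField_eq_zero])

theorem mem_of_smul_mem (P : Ideal (p.Fiber S)) {r : R} (hr : r ∉ p) {a : p.Fiber S}
    (h : r • a ∈ P) : a ∈ P := by
  have hu := isUnit_algebraMap_fiber (S := S) p hr
  have ha : a = ↑(hu.unit⁻¹) * (r • a) := by
    rw [Algebra.smul_def, ← mul_assoc, IsUnit.val_inv_mul, one_mul]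
  rw [ha]
  exact Ideal.mul_mem_left _ _ h

theorem fiberIdeal_comap (P : Ideal (p.Fiber S)) :
    FlatCA.fiberIdeal p (P.comap (algebraMap S (p.Fiber S))) = P := by
  apply le_antisymm
  · exact Ideal.map_comap_le
  · intro z hz
    obtain ⟨r, hr, s, hrs⟩ := Ideal.Fiber.exists_smul_eq_one_tmul p z
    have hs : s ∈ P.comap (algebraMap S (p.Fiber S)) := by
      rw [Ideal.mem_comap]
      show (1 : p.ResidueField) ⊗ₜ[R] s ∈ P
      rw [← hrs]
      exact Submodule.smul_of_tower_mem P r hz
    refine mem_of_smul_mem p _ hr ?_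
    rw [hrs]
    exact Ideal.mem_map_of_mem _ hs

theorem isPrime_of_comap_isPrime (P : Ideal (p.Fiber S))
    (h : (P.comap (algebraMap S (p.Fiber S))).IsPrime) : P.IsPrime := by
  refine ⟨fun htop => h.ne_top (by rw [htop, Ideal.comap_top]), ?_⟩
  intro a b hab
  obtain ⟨ra, hra, sa, hsa⟩ := Ideal.Fiber.exists_smul_eq_one_tmul p a
  obtain ⟨rb, hrb, sb, hsb⟩ := Ideal.Fiber.exists_smul_eq_one_tmul p b
  have h1 : (1 : p.ResidueField) ⊗ₜ[R] (sa * sb) ∈ P := by
    have h2 : (1 : p.ResidueField) ⊗ₜ[R] (sa * sb) = (ra • a) * (rb • b) := by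
      rw [hsa, hsb, Algebra.TensorProduct.tmul_mul_tmul, one_mul]
    rw [h2, smul_mul_smul_comm]
    exact Submodule.smul_of_tower_mem P _ hab
  have h3 : sa * sb ∈ P.comap (algebraMap S (p.Fiber S)) := h1
  rcases h.mem_or_mem h3 with h4 | h4
  · left
    refine mem_of_smul_mem p P hra ?_
    rw [hsa]
    exact h4
  · right
    refine mem_of_smul_mem p P hrb ?_
    rw [hsb]
    exact h4

variable (N : Type u) [AddCommGroup N] [Module S N] [Module R N] [IsScalarTower R S N]

/-- **Lemma C**: associated primes of `N ⊗ κ(p)` as an `S`-module give associated primes of the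
fibre module over the fibre ring. -/
theorem fiberIdeal_mem_of_mem (q : Ideal S)
    (hq : q ∈ associatedPrimes S (N ⊗[R] p.ResidueField)) :
    FlatCA.fiberIdeal p q ∈ associatedPrimes (p.Fiber S) (FlatCA.fiberMod p S N) := by
  obtain ⟨hqprime, z, hz⟩ := hq
  let Fib := p.Fiber S
  let F := FlatCA.fiberMod p S N
  haveI : IsScalarTower S Fib F := inferInstanceAs (IsScalarTower S Fib (Fib ⊗[S] N))
  let e : F ≃ₗ[S] N ⊗[R] p.ResidueField := Groth.Agent.Lib.AssFiberTensor.e p S N
  set z' : F := e.symm z with hz'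
  set P : Ideal Fib := ((⊥ : Submodule Fib F).colon {z'}).radical with hP
  have hcomap : P.comap (algebraMap S Fib) = q := by
    rw [hP, Ideal.comap_radical, hz]
    congr 1
    ext s
    rw [Ideal.mem_comap, Submodule.mem_colon_singleton, Submodule.mem_colon_singleton,
      algebraMap_smul, Submodule.mem_bot, Submodule.mem_bot, hz', ← map_smul,
      LinearEquiv.map_eq_zero_iff]
  have hPprime : P.IsPrime := isPrime_of_comap_isPrime p P (hcomap ▸ hqprime)
  rw [← hcomap, fiberIdeal_comap]
  exact ⟨hPprime, z', rfl⟩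

end Fiber

section Noeth

variable {R S : Type u} [CommRing R] [CommRing S] [Algebra R S]
  (N : Type u) [AddCommGroup N] [Module S N] [Module R N] [IsScalarTower R S N] [Module.Flat R N]

/-- **Lemma A**: dévissage of `Q` into quotients `R ⧸ 𝔭`. -/
theorem ass_tensor_subset [IsNoetherianRing R] (Q : Type u) [AddCommGroup Q] [Module R Q]
    [hQ : Module.Finite R Q] :
    associatedPrimes S (N ⊗[R] Q) ⊆
      {q | ∃ 𝔭 : PrimeSpectrum R, q ∈ associatedPrimes S (N ⊗[R] (R ⧸ 𝔭.asIdeal))} := by
  induction hQ using IsNoetherianRing.induction_on_isQuotientEquivQuotientPrime R with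
  | subsingleton Q =>
    rw [associatedPrimes.eq_empty_of_subsingleton]
    exact Set.empty_subset _
  | quotient Q 𝔭 f =>
    intro q hq
    refine ⟨𝔭, ?_⟩
    rwa [← LinearEquiv.AssociatedPrimes.eq
      (AlgebraTensorModule.congr (LinearEquiv.refl S N) f)]
  | exact Q₁ Q₂ Q₃ f g hf hg hfg h₁ h₃ =>
    have hinj : Function.Injective (AlgebraTensorModule.lTensor S N f) :=
      Module.Flat.lTensor_preserves_injective_linearMap (M := N) f hf
    have hex : Function.Exact (AlgebraTensorModule.lTensor S N f)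
        (AlgebraTensorModule.lTensor S N g) := lTensor_exact N hfg hg
    intro q hq
    rcases associatedPrimes.subset_union_of_exact hinj hex hq with h | h
    · exact h₁ h
    · exact h₃ h

/-- **Lemma B**. -/
theorem lemmaB [IsNoetherianRing S] (𝔭 : Ideal R) [𝔭.IsPrime] (q : Ideal S)
    (hq : q ∈ associatedPrimes S (N ⊗[R] (R ⧸ 𝔭))) :
    q.comap (algebraMap R S) = 𝔭 ∧ q ∈ associatedPrimes S (N ⊗[R] 𝔭.ResidueField) := by
  constructor
  · obtain ⟨hqprime, z, hz⟩ := (isAssociatedPrime_iff).mp hq
    have hsm : ∀ r : R, algebraMap R S r ∈ q ↔ r • z = 0 := by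
      intro r
      rw [hz, Submodule.mem_colon_singleton, Submodule.mem_bot, algebraMap_smul]
    ext r
    rw [Ideal.mem_comap, hsm]
    constructor
    · intro hr
      by_contra hr𝔭
      have hreg : IsSMulRegular (R ⧸ 𝔭) r := by
        intro a b hab
        have h1 : Ideal.Quotient.mk 𝔭 r * a = Ideal.Quotient.mk 𝔭 r * b := by
          simpa [Algebra.smul_def] using hab
        have h2 : Ideal.Quotient.mk 𝔭 r ≠ 0 := by
          rwa [Ne, Ideal.Quotient.eq_zero_iff_mem]
        exact mul_left_cancel₀ h2 h1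
      have hreg' : IsSMulRegular (N ⊗[R] (R ⧸ 𝔭)) r := IsSMulRegular.lTensor N hreg
      have hz0 : z = 0 := hreg'.right_eq_zero_of_smul hr
      apply hqprime.ne_top
      rw [hz, hz0, eq_top_iff]
      intro s _
      rw [Submodule.mem_colon_singleton, smul_zero]
      exact Submodule.zero_mem _
    · intro hr
      have hkill : ∀ w : N ⊗[R] (R ⧸ 𝔭), r • w = 0 := by
        intro w
        induction w using TensorProduct.induction_on with
        | zero => rw [smul_zero]
        | tmul n x =>
          obtain ⟨x, rfl⟩ := Ideal.Quotient.mk_surjective x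
          rw [TensorProduct.smul_tmul', TensorProduct.smul_tmul]
          have : r • (Ideal.Quotient.mk 𝔭 x) = 0 := by
            rw [Algebra.smul_def, Ideal.Quotient.algebraMap_eq, ← map_mul,
              Ideal.Quotient.eq_zero_iff_mem]
            exact Ideal.mul_mem_right _ _ hr
          rw [this, TensorProduct.tmul_zero]
        | add a b ha hb => rw [smul_add, ha, hb, add_zero]
      exact hkill z
  · let φ : (R ⧸ 𝔭) →ₗ[R] 𝔭.ResidueField :=
      (Algebra.linearMap (R ⧸ 𝔭) 𝔭.ResidueField).restrictScalars R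
    have hφ : Function.Injective φ := 𝔭.injective_algebraMap_quotient_residueField
    have hinj : Function.Injective (AlgebraTensorModule.lTensor S N φ) :=
      Module.Flat.lTensor_preserves_injective_linearMap (M := N) φ hφ
    exact associatedPrimes.subset_of_injective hinj hq

end Noeth

section Main

variable {R S : Type u} [CommRing R] [CommRing S] [Algebra R S] [IsNoetherianRing R]
  [IsNoetherianRing S] (I : Ideal R)
  (N : Type u) [AddCommGroup N] [Module S N] [Module R N] [IsScalarTower R S N]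
  [Module.Finite S N] [Module.Flat R N]

theorem main1200
    (h : ∀ (p : Ideal R) (q : Ideal S) [p.IsPrime] [q.IsPrime] [q.LiesOver p],
      FlatCA.fiberIdeal p q ∈ associatedPrimes (p.Fiber S) (FlatCA.fiberMod p S N) →
        I.map (algebraMap R S) ⊔ q ≠ ⊤) :
    FlatCA.UnivInj R (AdicCompletion.of I N) := by
  refine Groth.Agent.Lib.UnivInjComplH3.univInj (R := R) (S := S) N I ?_
  intro Q _ _ hQ q hq
  haveI := hQ
  obtain ⟨𝔭, h𝔭⟩ := ass_tensor_subset N Q hq
  obtain ⟨hover, hass⟩ := lemmaB N 𝔭.asIdeal q h𝔭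
  haveI : q.IsPrime := hq.isPrime
  haveI : q.LiesOver 𝔭.asIdeal := ⟨hover.symm⟩
  exact h 𝔭.asIdeal q (fiberIdeal_mem_of_mem 𝔭.asIdeal N q hass)

end Main

end Groth.Agent.Lib.AssTensorNoethH3
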