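import Groth.Agent.Lib.AssocBundle_lead

/-! # Associated bundles: fibre products (lead) -/

set_option backward.isDefEq.respectTransparency false
set_option backward.isDefEq.respectTransparency.types false
set_option linter.unusedSimpArgs false
set_option linter.unusedVariables false
set_option linter.unusedSectionVars false
set_option linter.style.longLine false
set_option maxHeartbeats 800000

universe u

open CategoryTheory CategoryTheory.Limits MonoidalCategory CartesianMonoidalCategory MonObj GrpObj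
  AlgebraicGeometry Opposite

namespace Groth.Agent.Lib.AssocBundle

open Groth.Agent.Lib.BundleStages Groth.Agent.Lib.TorsorSeq SchFpqcCovH7

variable {S : Scheme.{u}}

section fibre

variable {G H B : Over S} [GrpObj G] [GrpObj H] (j : H ⟶ G) [IsMonHom j] [Mono j]
  {X Y QX QY QXY : Over S}
  (aX : AlgGrp.Action H X) (aY : AlgGrp.Action H Y)
  (b : AlgGrp.Action H (G ⊗ X))
  (hb : ∀ (T : Over S) (h : T ⟶ H) (g : T ⟶ G) (x : T ⟶ X),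
    lift h (lift g x) ≫ b.act = lift (g * (h ≫ j)⁻¹) (lift h x ≫ aX.act))
  (c : AlgGrp.Action H (G ⊗ Y))
  (hc : ∀ (T : Over S) (h : T ⟶ H) (g : T ⟶ G) (x : T ⟶ Y),
    lift h (lift g x) ≫ c.act = lift (g * (h ≫ j)⁻¹) (lift h x ≫ aY.act))
  (d : AlgGrp.Action H (G ⊗ (X ⊗ Y)))
  (hd : ∀ (T : Over S) (h : T ⟶ H) (g : T ⟶ G) (x : T ⟶ X) (y : T ⟶ Y),
    lift h (lift g (lift x y)) ≫ d.act =
      lift (g * (h ≫ j)⁻¹) (lift (lift h x ≫ aX.act) (lift h y ≫ aY.act)))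
  (qX : G ⊗ X ⟶ QX) (hX : IsPB b qX) (qY : G ⊗ Y ⟶ QY) (hY : IsPB c qY)
  (qXY : G ⊗ (X ⊗ Y) ⟶ QXY) (hXY : IsPB d qXY)
  (fX : QXY ⟶ QX) (hfX : qXY ≫ fX = (G ◁ fst X Y) ≫ qX)
  (fY : QXY ⟶ QY) (hfY : qXY ≫ fY = (G ◁ snd X Y) ≫ qY)

include hb hc hd hX hY hXY hfX hfY in
theorem fibreProd_uniq {T : Over S} (w1 w2 : T ⟶ QXY) (e1 : w1 ≫ fX = w2 ≫ fX)
    (e2 : w1 ≫ fY = w2 ≫ fY) : w1 = w2 := by
  obtain ⟨T₁, P1, Z1, hcov1, -, hZ1⟩ := exists_lift_cover qXY hXY.cov w1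
  obtain ⟨T₂, P1', z2, hcov2, -, hz2⟩ := exists_lift_cover qXY hXY.cov (P1 ≫ w2)
  haveI := epi_of_isCov P1 hcov1
  haveI := epi_of_isCov P1' hcov2
  rw [← cancel_epi P1, ← cancel_epi P1']
  obtain ⟨z1, hz1⟩ : ∃ z1 : T₂ ⟶ G ⊗ (X ⊗ Y), z1 ≫ qXY = P1' ≫ P1 ≫ w1 :=
    ⟨P1' ≫ Z1, by rw [Category.assoc, hZ1]⟩
  rw [← hz1, hz2]
  obtain ⟨g1, x1, y1, rfl⟩ : ∃ g1 x1 y1, z1 = lift g1 (lift x1 y1) :=
    ⟨z1 ≫ fst _ _, (z1 ≫ snd _ _) ≫ fst _ _, (z1 ≫ snd _ _) ≫ snd _ _, by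
      rw [← lift_eta, ← lift_eta]⟩
  obtain ⟨g2, x2, y2, rfl⟩ : ∃ g2 x2 y2, z2 = lift g2 (lift x2 y2) :=
    ⟨z2 ≫ fst _ _, (z2 ≫ snd _ _) ≫ fst _ _, (z2 ≫ snd _ _) ≫ snd _ _, by
      rw [← lift_eta, ← lift_eta]⟩
  have kX1 : lift g1 x1 ≫ qX = (P1' ≫ P1 ≫ w1) ≫ fX := by
    rw [← hz1, Category.assoc, hfX, ← Category.assoc, lift_whiskerLeft, lift_fst]
  have kX2 : lift g2 x2 ≫ qX = (P1' ≫ P1 ≫ w2) ≫ fX := by
    rw [hz2, Category.assoc, hfX, ← Category.assoc, lift_whiskerLeft, lift_fst]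
  have kX : lift g1 x1 ≫ qX = lift g2 x2 ≫ qX := by
    rw [kX1, kX2]; simp only [Category.assoc, e1]
  obtain ⟨h, hh⟩ := exists_of_pb b.act qX hX.pb (lift g1 x1) (lift g2 x2) kX
  rw [hb] at hh
  have hg : g2 * (h ≫ j)⁻¹ = g1 := by
    simpa only [lift_fst] using congrArg (fun k => k ≫ fst G X) hh
  have hx : lift h x2 ≫ aX.act = x1 := by
    simpa only [lift_snd] using congrArg (fun k => k ≫ snd G X) hh
  have hz2' : (lift h (lift g2 (lift x2 y2)) ≫ d.act) ≫ qXY = lift g2 (lift x2 y2) ≫ qXY :=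
    hXY.act_q _ _
  rw [hd, hg, hx] at hz2'
  have kY1 : lift g1 y1 ≫ qY = (P1' ≫ P1 ≫ w1) ≫ fY := by
    rw [← hz1, Category.assoc, hfY, ← Category.assoc, lift_whiskerLeft, lift_snd]
  have kY2 : lift g1 (lift h y2 ≫ aY.act) ≫ qY = (P1' ≫ P1 ≫ w2) ≫ fY := by
    rw [hz2, ← hz2', Category.assoc, hfY, ← Category.assoc, lift_whiskerLeft, lift_snd]
  have hy : y1 = lift h y2 ≫ aY.act :=
    uniq_bundle j aY c hc qY hY g1 _ _ (by rw [kY1, kY2]; simp only [Category.assoc, e2])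
  rw [← hz2', ← hy]

include hb hc hd hX hY hXY hfX hfY in
theorem fibreProd (r : AlgGrp.Action H G)
    (hr : ∀ (T : Over S) (h : T ⟶ H) (g : T ⟶ G), lift h g ≫ r.act = g * (h ≫ j)⁻¹)
    (π : G ⟶ B) (hπ : IsPullback r.act (snd H G) π π)
    (pX : QX ⟶ B) (hpX : qX ≫ pX = fst G X ≫ π) (pY : QY ⟶ B) (hpY : qY ≫ pY = fst G Y ≫ π)
    (hsq : fX ≫ pX = fY ≫ pY) :
    IsPullback fX fY pX pY := by
  apply isPullback_of_exists_unique _ _ _ _ hsq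
  · intro T u v huv
    obtain ⟨T₁, P1, ZX, hcov1, -, hZX⟩ := exists_lift_cover qX hX.cov u
    obtain ⟨T₂, P1', zY, hcov2, -, hzY⟩ := exists_lift_cover qY hY.cov (P1 ≫ v)
    obtain ⟨cc, hcc, ⟨zX, hzX⟩, hzY⟩ : ∃ cc : T₂ ⟶ T, IsCov cc.left ∧
        (∃ zX : T₂ ⟶ G ⊗ X, cc ≫ u = zX ≫ qX) ∧ cc ≫ v = zY ≫ qY :=
      ⟨P1' ≫ P1, IsCov.comp hcov2 hcov1, ⟨P1' ≫ ZX, by rw [Category.assoc, hZX, Category.assoc]⟩,
        by rw [Category.assoc]; exact hzY⟩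
    obtain ⟨g1, x, rfl⟩ : ∃ g1 x, zX = lift g1 x := ⟨_, _, lift_eta zX⟩
    obtain ⟨g2, y, rfl⟩ : ∃ g2 y, zY = lift g2 y := ⟨_, _, lift_eta zY⟩
    have e : g1 ≫ π = g2 ≫ π := by
      have a1 : g1 ≫ π = (cc ≫ u) ≫ pX := by
        rw [hzX, Category.assoc, hpX, ← Category.assoc, lift_fst]
      have a2 : g2 ≫ π = (cc ≫ v) ≫ pY := by
        rw [hzY, Category.assoc, hpY, ← Category.assoc, lift_fst]
      rw [a1, a2, Category.assoc, Category.assoc, huv]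
    obtain ⟨h, hh⟩ := exists_of_pb r.act π hπ g1 g2 e
    rw [hr] at hh
    have hY' : lift g1 (lift h y ≫ aY.act) ≫ qY = cc ≫ v := by
      rw [hzY, ← hY.act_q h (lift g2 y), hc, hh]
    have hw'X : (lift g1 (lift x (lift h y ≫ aY.act)) ≫ qXY) ≫ fX = cc ≫ u := by
      rw [Category.assoc, hfX, ← Category.assoc, lift_whiskerLeft, lift_fst, hzX]
    have hw'Y : (lift g1 (lift x (lift h y ≫ aY.act)) ≫ qXY) ≫ fY = cc ≫ v := by
      rw [Category.assoc, hfY, ← Category.assoc, lift_whiskerLeft, lift_snd, hY']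
    obtain ⟨w, hw⟩ := desc_of_isCov cc hcc (lift g1 (lift x (lift h y ≫ aY.act)) ≫ qXY)
      (fun T₃ a₁ a₂ ha => fibreProd_uniq j aX aY b hb c hc d hd qX hX qY hY qXY hXY fX hfX fY hfY
        _ _ (comp_eq_of_cover a₁ a₂ cc _ fX u hw'X ha) (comp_eq_of_cover a₁ a₂ cc _ fY v hw'Y ha))
    haveI := epi_of_isCov cc hcc
    refine ⟨w, ?_, ?_⟩
    · rw [← cancel_epi cc, ← Category.assoc, hw, hw'X]
    · rw [← cancel_epi cc, ← Category.assoc, hw, hw'Y]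
  · intro T l l' h1 h2
    exact fibreProd_uniq j aX aY b hb c hc d hd qX hX qY hY qXY hXY fX hfX fY hfY l l' h1 h2

end fibre

end Groth.Agent.Lib.AssocBundle
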