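import Mathlib

/-!
# Naturality (in the first variable) of Mathlib's associator for the action of bifunctors on
homological complexes
-/

open CategoryTheory Category Limits

namespace Groth.Agent.Lib.AssocNat

open HomologicalComplex

variable {C₁ C₂ C₁₂ C₂₃ C₃ C₄ : Type*}
  [Category C₁] [Category C₂] [Category C₃] [Category C₄] [Category C₁₂] [Category C₂₃]
  [HasZeroMorphisms C₁] [HasZeroMorphisms C₂] [HasZeroMorphisms C₃]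
  [Preadditive C₁₂] [Preadditive C₂₃] [Preadditive C₄]
  {F₁₂ : C₁ ⥤ C₂ ⥤ C₁₂} {G : C₁₂ ⥤ C₃ ⥤ C₄}
  {F : C₁ ⥤ C₂₃ ⥤ C₄} {G₂₃ : C₂ ⥤ C₃ ⥤ C₂₃}
  [F₁₂.PreservesZeroMorphisms] [∀ (X₁ : C₁), (F₁₂.obj X₁).PreservesZeroMorphisms]
  [G.Additive] [∀ (X₁₂ : C₁₂), (G.obj X₁₂).PreservesZeroMorphisms]
  [G₂₃.PreservesZeroMorphisms] [∀ (X₂ : C₂), (G₂₃.obj X₂).PreservesZeroMorphisms]
  [F.PreservesZeroMorphisms] [∀ (X₁ : C₁), (F.obj X₁).Additive]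
  (associator : bifunctorComp₁₂ F₁₂ G ≅ bifunctorComp₂₃ F G₂₃)
  {ι₁ ι₂ ι₃ ι₁₂ ι₂₃ ι₄ : Type*} [DecidableEq ι₄]
  {c₁ : ComplexShape ι₁} {c₂ : ComplexShape ι₂} {c₃ : ComplexShape ι₃}
  (K₁ K₁' : HomologicalComplex C₁ c₁) (K₂ : HomologicalComplex C₂ c₂)
  (K₃ : HomologicalComplex C₃ c₃)
  (c₁₂ : ComplexShape ι₁₂) (c₂₃ : ComplexShape ι₂₃) (c₄ : ComplexShape ι₄)
  [TotalComplexShape c₁ c₂ c₁₂] [TotalComplexShape c₁₂ c₃ c₄]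
  [TotalComplexShape c₂ c₃ c₂₃] [TotalComplexShape c₁ c₂₃ c₄]
  [HasMapBifunctor K₁ K₂ F₁₂ c₁₂] [HasMapBifunctor K₁' K₂ F₁₂ c₁₂]
  [HasMapBifunctor K₂ K₃ G₂₃ c₂₃]
  [ComplexShape.Associative c₁ c₂ c₃ c₁₂ c₂₃ c₄]
  [DecidableEq ι₁₂] [DecidableEq ι₂₃]
  [HasMapBifunctor (mapBifunctor K₁ K₂ F₁₂ c₁₂) K₃ G c₄]
  [HasMapBifunctor (mapBifunctor K₁' K₂ F₁₂ c₁₂) K₃ G c₄]
  [HasMapBifunctor K₁ (mapBifunctor K₂ K₃ G₂₃ c₂₃) F c₄]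
  [HasMapBifunctor K₁' (mapBifunctor K₂ K₃ G₂₃ c₂₃) F c₄]

variable {K₁ K₁'}

set_option backward.isDefEq.respectTransparency false in
lemma ι₁₂_map₁ (f : K₁ ⟶ K₁') (i₁ : ι₁) (i₂ : ι₂) (i₃ : ι₃) (j : ι₄)
    (h : ComplexShape.r c₁ c₂ c₃ c₁₂ c₄ (i₁, i₂, i₃) = j) :
    mapBifunctor₁₂.ι F₁₂ G K₁ K₂ K₃ c₁₂ c₄ i₁ i₂ i₃ j h ≫
      (mapBifunctorMap (mapBifunctorMap f (𝟙 K₂) F₁₂ c₁₂) (𝟙 K₃) G c₄).f j =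
    (G.map ((F₁₂.map (f.f i₁)).app (K₂.X i₂))).app (K₃.X i₃) ≫
      mapBifunctor₁₂.ι F₁₂ G K₁' K₂ K₃ c₁₂ c₄ i₁ i₂ i₃ j h := by
  have h' : ComplexShape.π c₁₂ c₃ c₄ (ComplexShape.π c₁ c₂ c₁₂ ⟨i₁, i₂⟩, i₃) = j := h
  rw [mapBifunctor₁₂.ι_eq F₁₂ G K₁ K₂ K₃ c₁₂ c₄ i₁ i₂ i₃ _ j rfl h',
    mapBifunctor₁₂.ι_eq F₁₂ G K₁' K₂ K₃ c₁₂ c₄ i₁ i₂ i₃ _ j rfl h', assoc, ι_mapBifunctorMap]
  simp only [id_f, CategoryTheory.Functor.map_id, id_comp]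
  rw [← NatTrans.comp_app_assoc, ← G.map_comp, ι_mapBifunctorMap]
  simp only [id_f, CategoryTheory.Functor.map_id, id_comp, Functor.map_comp, NatTrans.comp_app,
    assoc, NatTrans.id_app]

set_option backward.isDefEq.respectTransparency false in
lemma ι₂₃_map₁ (f : K₁ ⟶ K₁') (i₁ : ι₁) (i₂ : ι₂) (i₃ : ι₃) (j : ι₄)
    (h : ComplexShape.r c₁ c₂ c₃ c₁₂ c₄ (i₁, i₂, i₃) = j) :
    mapBifunctor₂₃.ι F G₂₃ K₁ K₂ K₃ c₁₂ c₂₃ c₄ i₁ i₂ i₃ j h ≫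
      (mapBifunctorMap f (𝟙 (mapBifunctor K₂ K₃ G₂₃ c₂₃)) F c₄).f j =
    (F.map (f.f i₁)).app ((G₂₃.obj (K₂.X i₂)).obj (K₃.X i₃)) ≫
      mapBifunctor₂₃.ι F G₂₃ K₁' K₂ K₃ c₁₂ c₂₃ c₄ i₁ i₂ i₃ j h := by
  have h'' : ComplexShape.π c₁ c₂₃ c₄ (i₁, ComplexShape.π c₂ c₃ c₂₃ ⟨i₂, i₃⟩) = j :=
    (ComplexShape.assoc c₁ c₂ c₃ c₁₂ c₂₃ c₄ i₁ i₂ i₃).symm.trans h
  rw [mapBifunctor₂₃.ι_eq F G₂₃ K₁ K₂ K₃ c₁₂ c₂₃ c₄ i₁ i₂ i₃ _ j rfl h'',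
    mapBifunctor₂₃.ι_eq F G₂₃ K₁' K₂ K₃ c₁₂ c₂₃ c₄ i₁ i₂ i₃ _ j rfl h'', assoc, ι_mapBifunctorMap]
  simp only [id_f, CategoryTheory.Functor.map_id, id_comp, NatTrans.naturality_assoc]

variable [HasGoodTrifunctor₁₂Obj F₁₂ G K₁ K₂ K₃ c₁₂ c₄]
  [HasGoodTrifunctor₂₃Obj F G₂₃ K₁ K₂ K₃ c₁₂ c₂₃ c₄]
  [HasGoodTrifunctor₁₂Obj F₁₂ G K₁' K₂ K₃ c₁₂ c₄]
  [HasGoodTrifunctor₂₃Obj F G₂₃ K₁' K₂ K₃ c₁₂ c₂₃ c₄]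

set_option backward.isDefEq.respectTransparency false in
/-- naturality of the associator in the first variable -/
theorem mapBifunctorAssociator_hom_naturality₁ (f : K₁ ⟶ K₁') :
    mapBifunctorMap (mapBifunctorMap f (𝟙 K₂) F₁₂ c₁₂) (𝟙 K₃) G c₄ ≫
        (mapBifunctorAssociator associator K₁' K₂ K₃ c₁₂ c₂₃ c₄).hom =
      (mapBifunctorAssociator associator K₁ K₂ K₃ c₁₂ c₂₃ c₄).hom ≫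
        mapBifunctorMap f (𝟙 (mapBifunctor K₂ K₃ G₂₃ c₂₃)) F c₄ := by
  apply HomologicalComplex.hom_ext
  intro j
  apply mapBifunctor₁₂.hom_ext
  intro i₁ i₂ i₃ h
  simp only [comp_f, mapBifunctorAssociator, Hom.isoOfComponents_hom_f]
  rw [reassoc_of% (ι₁₂_map₁ (F₁₂ := F₁₂) (G := G) K₂ K₃ c₁₂ c₄ f i₁ i₂ i₃ j h),
    ι_mapBifunctorAssociatorX_hom, ι_mapBifunctorAssociatorX_hom_assoc,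
    ι₂₃_map₁ (F := F) (G₂₃ := G₂₃) K₂ K₃ c₁₂ c₂₃ c₄ f i₁ i₂ i₃ j h]
  have := congr_app (congr_app (associator.hom.naturality (f.f i₁)) (K₂.X i₂)) (K₃.X i₃)
  simp only [NatTrans.comp_app] at this
  exact (reassoc_of% this) _

end Groth.Agent.Lib.AssocNat
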