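import Groth.Agent.Lib.QuotStDesc_lead
import Groth.Agent.Lib.AlgSpCov_helper7
import Groth.Prelude.Def_StCoh
import Groth.Prelude.Def_GmPts
import Mathlib.Algebra.Homology.DerivedCategory.Ext.ExactSequences
import Mathlib.RingTheory.AdjoinRoot
import Mathlib.RingTheory.Flat.FaithfullyFlat.Basic
import Mathlib.RingTheory.RingHom.FaithfullyFlat
import Mathlib.AlgebraicGeometry.Morphisms.Flat
import Mathlib.AlgebraicGeometry.Morphisms.FinitePresentation

/-! # The Kummer sequence on the fppf site of `BG` (lead) -/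

set_option backward.isDefEq.respectTransparency false
set_option backward.isDefEq.respectTransparency.types false
set_option linter.unusedSimpArgs false
set_option linter.unusedVariables false
set_option linter.unusedSectionVars false
set_option linter.style.longLine false
set_option maxHeartbeats 800000

universe w' v' u' u

open CategoryTheory CategoryTheory.Limits AlgebraicGeometry Opposite

namespace Groth.Agent.Lib.KummerBG

section abstract

open Abelian

variable {C : Type u'} [Category.{v'} C] [Abelian C] [HasExt.{w'} C]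

theorem comp_mk₀_nsmul {Z A : C} (n k : ℕ) (x : Ext Z A k) :
    x.comp (Ext.mk₀ (n • 𝟙 A : A ⟶ A)) (add_zero k) = n • x := by
  induction n with
  | zero => rw [zero_nsmul, Ext.mk₀_zero, Ext.comp_zero, zero_nsmul]
  | succ m ih => rw [succ_nsmul, Ext.mk₀_add, Ext.comp_add, ih, Ext.comp_mk₀_id, succ_nsmul]

theorem postcomp_nsmul (Z A : C) (n k : ℕ) :
    (Ext.mk₀ (n • 𝟙 A : A ⟶ A)).postcomp Z (add_zero k) =
      DistribSMul.toAddMonoidHom (Ext Z A k) n :=
  AddMonoidHom.ext fun x => comp_mk₀_nsmul n k x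

variable {S : ShortComplex C} (hS : S.ShortExact) (Z : C)

include hS in
theorem range_f_eq_ker_g (k : ℕ) :
    ((Ext.mk₀ S.f).postcomp Z (add_zero k)).range =
      ((Ext.mk₀ S.g).postcomp Z (add_zero k)).ker := by
  ext x
  rw [AddMonoidHom.mem_range, AddMonoidHom.mem_ker]
  constructor
  · rintro ⟨y, rfl⟩
    show (y.comp (Ext.mk₀ S.f) (add_zero k)).comp (Ext.mk₀ S.g) (add_zero k) = 0
    rw [Ext.comp_assoc_of_third_deg_zero, Ext.mk₀_comp_mk₀, S.zero, Ext.mk₀_zero, Ext.comp_zero]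
  · intro hx
    exact Ext.covariant_sequence_exact₂ Z hS x hx

include hS in
theorem ker_f_equiv (k : ℕ) :
    Nonempty (((Ext.mk₀ S.f).postcomp Z (add_zero (k + 1))).ker ≃+
      Ext Z S.X₃ k ⧸ ((Ext.mk₀ S.g).postcomp Z (add_zero k)).range) := by
  let δ : Ext Z S.X₃ k →+ Ext Z S.X₁ (k + 1) := hS.extClass.postcomp Z (rfl : k + 1 = k + 1)
  have h1 : ((Ext.mk₀ S.f).postcomp Z (add_zero (k + 1))).ker = δ.range := by
    ext x
    rw [AddMonoidHom.mem_ker, AddMonoidHom.mem_range]
    constructor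
    · intro hx
      exact Ext.covariant_sequence_exact₁ Z hS x hx rfl
    · rintro ⟨x₃, rfl⟩
      show (x₃.comp hS.extClass (rfl : k + 1 = k + 1)).comp (Ext.mk₀ S.f) (add_zero (k + 1)) = 0
      rw [Ext.comp_assoc_of_third_deg_zero, hS.extClass_comp, Ext.comp_zero]
  have h2 : δ.ker = ((Ext.mk₀ S.g).postcomp Z (add_zero k)).range := by
    ext x
    rw [AddMonoidHom.mem_ker, AddMonoidHom.mem_range]
    constructor
    · intro hx
      exact Ext.covariant_sequence_exact₃ Z hS x rfl hx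
    · rintro ⟨x₂, rfl⟩
      show (x₂.comp (Ext.mk₀ S.g) (add_zero k)).comp hS.extClass (rfl : k + 1 = k + 1) = 0
      rw [Ext.comp_assoc_of_second_deg_zero, hS.comp_extClass, Ext.comp_zero]
  exact ⟨(AddEquiv.addSubgroupCongr h1).trans
    ((QuotientAddGroup.quotientKerEquivRange δ).symm.trans
      (QuotientAddGroup.quotientAddEquivOfEq h2))⟩

theorem kummer_abstract (Z A : C) (n : ℕ) [hepi : Epi (n • 𝟙 A : A ⟶ A)] :
    ((Ext.mk₀ (kernel.ι (n • 𝟙 A : A ⟶ A))).postcomp Z (add_zero 2)).range =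
        (DistribSMul.toAddMonoidHom (Ext Z A 2) n).ker ∧
      Nonempty (((Ext.mk₀ (kernel.ι (n • 𝟙 A : A ⟶ A))).postcomp Z (add_zero 2)).ker ≃+
        Ext Z A 1 ⧸ (DistribSMul.toAddMonoidHom (Ext Z A 1) n).range) := by
  have hS : (ShortComplex.mk (kernel.ι (n • 𝟙 A : A ⟶ A)) (n • 𝟙 A)
      (kernel.condition _)).ShortExact :=
    ShortComplex.ShortExact.mk'
      (ShortComplex.exact_of_f_is_kernel _ (kernelIsKernel (n • 𝟙 A : A ⟶ A)))
      (inferInstanceAs (Mono (kernel.ι (n • 𝟙 A : A ⟶ A)))) hepi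
  have h1 := range_f_eq_ker_g hS Z 2
  have h2 := ker_f_equiv hS Z 1
  rw [← postcomp_nsmul, ← postcomp_nsmul]
  exact ⟨h1, h2⟩

end abstract

section sheaf

theorem nsmul_id_hom_app {D : Type (u + 1)} [Category.{u} D] {J : GrothendieckTopology D}
    (F : Sheaf J AddCommGrpCat.{u + 1}) (n : ℕ) (U : Dᵒᵖ) (x : ToType (F.obj.obj U)) :
    (n • 𝟙 F : F ⟶ F).hom.app U x = n • x := by
  induction n with
  | zero =>
    rw [zero_nsmul, zero_nsmul]
    rfl
  | succ m ih =>
    rw [succ_nsmul, succ_nsmul]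
    show (m • 𝟙 F : F ⟶ F).hom.app U x + (𝟙 F : F ⟶ F).hom.app U x = m • x + x
    rw [ih]
    rfl

end sheaf

section geometry

variable {S : Scheme.{u}}

/-- Extracting an `n`-th root of a unit on an fppf cover. -/
theorem exists_root_cover (n : ℕ) (hn : 0 < n) (T' : Over S) (v : (Γ(T'.left, ⊤))ˣ) :
    ∃ (T'' : Over S) (r : T'' ⟶ T'), Flat r.left ∧ LocallyOfFinitePresentation r.left ∧
      Surjective r.left ∧
      ∃ c : Γ(T''.left, ⊤), c ^ n = r.left.appTop.hom (v : Γ(T'.left, ⊤)) := by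
  rcases subsingleton_or_nontrivial Γ(T'.left, ⊤) with hsub | hnt
  · refine ⟨T', 𝟙 T', ?_, ?_, ?_, 1, Subsingleton.elim _ _⟩
    · show Flat (𝟙 T'.left)
      infer_instance
    · show LocallyOfFinitePresentation (𝟙 T'.left)
      infer_instance
    · show Surjective (𝟙 T'.left)
      infer_instance
  · let R : CommRingCat.{u} := Γ(T'.left, ⊤)
    let f : Polynomial R := Polynomial.X ^ n - Polynomial.C (v : R)
    have hmon : f.Monic := Polynomial.monic_X_pow_sub_C _ hn.ne'
    have hdeg : f.natDegree = n := Polynomial.natDegree_X_pow_sub_C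
    let φ : R ⟶ CommRingCat.of (AdjoinRoot f) :=
      CommRingCat.ofHom (algebraMap R (AdjoinRoot f))
    have hroot : (AdjoinRoot.root f) ^ n = algebraMap R (AdjoinRoot f) (v : R) := by
      have h : AdjoinRoot.mk f (Polynomial.X ^ n - Polynomial.C (v : R)) = 0 :=
        AdjoinRoot.mk_self
      rw [map_sub, map_pow, AdjoinRoot.mk_X, AdjoinRoot.mk_C] at h
      exact sub_eq_zero.mp h
    have hff : Module.FaithfullyFlat R (AdjoinRoot f) := by
      haveI : Nonempty (Fin (AdjoinRoot.powerBasis' hmon).dim) := by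
        rw [AdjoinRoot.powerBasis'_dim, hdeg]
        exact ⟨⟨0, hn⟩⟩
      exact Module.FaithfullyFlat.of_linearEquiv R
        (Fin (AdjoinRoot.powerBasis' hmon).dim →₀ R)
        (AdjoinRoot.powerBasis' hmon).basis.repr
    have hfs : Flat (Spec.map φ) ∧ Surjective (Spec.map φ) := by
      rw [flat_and_surjective_SpecMap_iff]
      show (algebraMap R (AdjoinRoot f)).FaithfullyFlat
      rw [RingHom.faithfullyFlat_algebraMap_iff]
      exact hff
    have hfp : LocallyOfFinitePresentation (Spec.map φ) := by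
      rw [LocallyOfFinitePresentation.SpecMap_iff]
      show (algebraMap R (AdjoinRoot f)).FinitePresentation
      rw [RingHom.finitePresentation_algebraMap]
      infer_instance
    let r₀ : pullback T'.left.toSpecΓ (Spec.map φ) ⟶ T'.left := pullback.fst _ _
    have hr1 : Flat r₀ := MorphismProperty.pullback_fst (P := @Flat) _ _ hfs.1
    have hr2 : LocallyOfFinitePresentation r₀ :=
      MorphismProperty.pullback_fst (P := @LocallyOfFinitePresentation) _ _ hfp
    have hr3 : Surjective r₀ := MorphismProperty.pullback_fst (P := @Surjective) _ _ hfs.2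
    have e : r₀.appTop = φ ≫ (Scheme.ΓSpecIso (CommRingCat.of (AdjoinRoot f))).inv ≫
        (pullback.snd T'.left.toSpecΓ (Spec.map φ)).appTop := by
      have h1 : T'.left.toSpecΓ.appTop ≫ r₀.appTop =
          (Spec.map φ).appTop ≫ (pullback.snd T'.left.toSpecΓ (Spec.map φ)).appTop := by
        rw [← Scheme.Hom.comp_appTop, ← Scheme.Hom.comp_appTop]
        exact congrArg Scheme.Hom.appTop pullback.condition
      rw [Scheme.toSpecΓ_appTop] at h1
      rw [← Category.assoc, Scheme.ΓSpecIso_inv_naturality, Category.assoc, ← h1,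
        Iso.inv_hom_id_assoc]
    refine ⟨Over.mk (r₀ ≫ T'.hom), Over.homMk r₀ rfl, hr1, hr2, hr3,
      (pullback.snd T'.left.toSpecΓ (Spec.map φ)).appTop.hom
        ((Scheme.ΓSpecIso (CommRingCat.of (AdjoinRoot f))).inv.hom (AdjoinRoot.root f)), ?_⟩
    show _ = r₀.appTop.hom (v : R)
    rw [e]
    show _ = (pullback.snd T'.left.toSpecΓ (Spec.map φ)).appTop.hom
      ((Scheme.ΓSpecIso (CommRingCat.of (AdjoinRoot f))).inv.hom
        (algebraMap R (AdjoinRoot f) (v : R)))
    rw [← hroot, map_pow, map_pow]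

variable {K : Precoverage Scheme.{u}} {G : Over S} [GrpObj G] {X : Over S}
  {aX : AlgGrp.Action G X}

open AlgSt Groth.Agent.Lib.QuotStBasic Groth.Agent.Lib.QuotStDesc
open MonoidalCategory CartesianMonoidalCategory MonObj GrpObj

/-- the sieve of maps to the base over which the torsor has a section and the unit a root -/
def rootSieve (A : QuotObj K G aX) (a' : A.base ⟶ Red.Gm S) (n : ℕ) : Sieve A.base where
  arrows T' t := ∃ (s : T' ⟶ A.P) (w : (Γ(T'.left, ⊤))ˣ),
    s ≫ A.π = t ∧ w ^ n = GmPts.unitOfPt (t ≫ a')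
  downward_closed := by
    rintro T' T'' t ⟨s, w, rfl, hw⟩ g
    refine ⟨g ≫ s, Units.map g.left.appTop.hom.toMonoidHom w, Category.assoc _ _ _, ?_⟩
    rw [← map_pow, hw]
    simp only [Category.assoc]
    exact (GmPts.unitOfPt_comp g _).symm

theorem rootSieve_mem (A : QuotObj Scheme.fppfPrecoverage G aX) (a' : A.base ⟶ Red.Gm S)
    (n : ℕ) (hn : 0 < n) :
    rootSieve A a' n ∈ QuotSh.J Scheme.fppfPrecoverage S A.base := by
  refine (QuotSh.J Scheme.fppfPrecoverage S).transitive (secSieve_mem A) _ ?_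
  rintro T' t ⟨s, rfl⟩
  obtain ⟨T'', r, hr1, hr2, hr3, c, hc⟩ :=
    exists_root_cover n hn T' (GmPts.unitOfPt ((s ≫ A.π) ≫ a'))
  have hcov : Sieve.ofArrows (fun _ : PUnit.{u + 1} => T'') (fun _ => r) ∈ AlgSp.J S T' :=
    Groth.Agent.Lib.AlgSpCov_helper7.ofArrows_mem_J _ _ (fun _ => hr1) (fun _ => hr2)
      (fun t => ⟨PUnit.unit, hr3.surj t⟩)
  refine (QuotSh.J Scheme.fppfPrecoverage S).superset_covering ?_ hcov
  rintro Z g ⟨Y, h, g', ⟨i⟩, rfl⟩
  have hcu : IsUnit c := by
    have h0 : IsUnit (c ^ n) := by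
      rw [hc]
      exact RingHom.isUnit_map _ (Units.isUnit _)
    exact (isUnit_pow_iff hn.ne').1 h0
  refine ⟨(h ≫ r) ≫ s, Units.map h.left.appTop.hom.toMonoidHom hcu.unit,
    Category.assoc _ _ _, ?_⟩
  apply Units.ext
  have e1 : ((h ≫ r) ≫ s ≫ A.π) ≫ a' = (h ≫ r) ≫ ((s ≫ A.π) ≫ a') := by
    simp only [Category.assoc]
  rw [e1, GmPts.unitOfPt_comp]
  show (h.left.appTop.hom c) ^ n = (h ≫ r).left.appTop.hom
    ((GmPts.unitOfPt ((s ≫ A.π) ≫ a') : (Γ(T'.left, ⊤))ˣ) : Γ(T'.left, ⊤))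
  rw [Over.comp_left, Scheme.Hom.comp_appTop]
  show _ = h.left.appTop.hom (r.left.appTop.hom _)
  rw [← hc, map_pow]

variable (G)

theorem epi_powMap
    [StCoh.BaseCont Scheme.fppfPrecoverage (AlgSt.BG Scheme.fppfPrecoverage G)]
    (n : ℕ) (hn : 0 < n) :
    Epi (StCoh.powMap Scheme.fppfPrecoverage (AlgSt.BG Scheme.fppfPrecoverage G) n) := by
  haveI : Sheaf.IsLocallySurjective
      (StCoh.powMap Scheme.fppfPrecoverage (AlgSt.BG Scheme.fppfPrecoverage G) n) := by
    constructor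
    intro A a
    let a₀ : ULift.{u + 1} (Additive (A.base ⟶ Red.Gm S)) := a
    let a' : A.base ⟶ Red.Gm S := Additive.toMul a₀.down
    apply Functor.mem_restrictedTopology_of_functorPushforward_mem
    refine (QuotSh.J Scheme.fppfPrecoverage S).superset_covering ?_ (rootSieve_mem A a' n hn)
    rintro T' t ⟨s, w, rfl, hw⟩
    refine ⟨_, trivHom A s, 𝟙 _, ?_, (Category.id_comp _).symm⟩
    refine ⟨(ULift.up (Additive.ofMul (GmPts.ptOfUnit w)) :
      ULift.{u + 1} (Additive (T' ⟶ Red.Gm S))), ?_⟩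
    refine (nsmul_id_hom_app _ n _ _).trans ?_
    apply ULift.ext
    show n • Additive.ofMul (GmPts.ptOfUnit w : T' ⟶ Red.Gm S) =
      Additive.ofMul ((s ≫ A.π) ≫ a')
    rw [← ofMul_pow]
    congr 1
    apply (GmPts.equiv T').injective
    show GmPts.unitOfPt ((GmPts.ptOfUnit w : T' ⟶ Red.Gm S) ^ n) =
      GmPts.unitOfPt ((s ≫ A.π) ≫ a')
    rw [← hw]
    refine (map_pow (GmPts.equiv T') _ n).trans ?_
    rw [GmPts.equiv_apply, GmPts.unitOfPt_ptOfUnit]
  infer_instance

end geometry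

end Groth.Agent.Lib.KummerBG
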