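import Groth.Agent.Lib.RedDict_helper8
import Groth.Agent.Lib.KummerBG_lead
import Groth.Prelude.Def_GmPts
import Groth.Prelude.Def_NonAbH2

/-! # Points of diagonalisable groups `D_S(M)` and the Kummer sequence of group schemes (lead) -/

set_option linter.unusedSimpArgs false
set_option linter.unusedVariables false
set_option linter.unusedSectionVars false
set_option linter.style.longLine false
set_option maxHeartbeats 800000

universe u

open CategoryTheory CategoryTheory.Limits MonoidalCategory CartesianMonoidalCategory MonObj GrpObj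
  AlgebraicGeometry Opposite

namespace Groth.Agent.Lib.DSDict

open Groth.Agent.Lib.RedDictH8

section general

variable {C : Type*} [Category C] [CartesianMonoidalCategory C]

/-- A morphism of group objects which is multiplicative on points is a homomorphism. -/
theorem isMonHom_of_pointwise {G H : C} [GrpObj G] [GrpObj H] (φ : G ⟶ H)
    (h : ∀ (T : C) (x y : T ⟶ G), (x * y) ≫ φ = (x ≫ φ) * (y ≫ φ)) : IsMonHom φ where
  one_hom := by
    have h1 := h (𝟙_ C) 1 1
    rw [_root_.mul_one] at h1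
    have h2 : (1 : 𝟙_ C ⟶ G) ≫ φ = 1 := by
      have h3 : ((1 : 𝟙_ C ⟶ G) ≫ φ) * 1 = ((1 : 𝟙_ C ⟶ G) ≫ φ) * ((1 : 𝟙_ C ⟶ G) ≫ φ) := by
        rw [_root_.mul_one]
        exact h1
      exact (mul_left_cancel h3).symm
    have e : toUnit (𝟙_ C) = 𝟙 _ := toUnit_unique _ _
    rw [Hom.one_def, Hom.one_def, e, Category.id_comp, Category.id_comp] at h2
    exact h2
  mul_hom := by
    have h1 := h (G ⊗ G) (fst G G) (snd G G)
    rw [Hom.mul_def, Hom.mul_def, lift_fst_snd, Category.id_comp, lift_fst_comp_snd_comp] at h1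
    exact h1

/-- The sequence `G' → G → G''` gives a cartesian square `G × G' ≅ G ×_{G''} G` as soon as `u` is
a kernel of `v` on points. -/
theorem isPullback_of_kernel_on_points {G G' G'' : C} [GrpObj G] [GrpObj G'] [GrpObj G'']
    (u : G' ⟶ G) (v : G ⟶ G'') [IsMonHom u] [IsMonHom v] (huv : u ≫ v = 1)
    (hex : ∀ (T : C) (ζ : T ⟶ G), ζ ≫ v = 1 → ∃ z : T ⟶ G', z ≫ u = ζ)
    (hinj : ∀ (T : C) (z z' : T ⟶ G'), z ≫ u = z' ≫ u → z = z') :
    IsPullback (fst G G') ((G ◁ u) ≫ μ[G]) v v := by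
  have key : ∀ {T : C} (m : T ⟶ G ⊗ G'),
      m ≫ (G ◁ u) ≫ μ[G] = (m ≫ fst G G') * (m ≫ snd G G' ≫ u) := by
    intro T m
    rw [Hom.mul_def, ← Category.assoc]
    congr 1
    apply CartesianMonoidalCategory.hom_ext <;> simp
  have w : fst G G' ≫ v = ((G ◁ u) ≫ μ[G]) ≫ v := by
    have h1 := key (𝟙 (G ⊗ G'))
    rw [Category.id_comp, Category.id_comp, Category.id_comp] at h1
    rw [h1, MonObj.mul_comp, Category.assoc, huv, MonObj.comp_one, _root_.mul_one]
  have hζ : ∀ s : PullbackCone v v, (s.fst⁻¹ * s.snd) ≫ v = 1 := by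
    intro s
    rw [MonObj.mul_comp, GrpObj.inv_comp, s.condition, inv_mul_cancel]
  refine ⟨⟨w⟩, ⟨PullbackCone.IsLimit.mk w
    (fun s => lift s.fst (Classical.choose (hex s.pt (s.fst⁻¹ * s.snd) (hζ s))))
    (fun s => lift_fst _ _) (fun s => ?_) (fun s m hm₁ hm₂ => ?_)⟩⟩
  · have hz := Classical.choose_spec (hex s.pt (s.fst⁻¹ * s.snd) (hζ s))
    rw [key, lift_fst, lift_snd_assoc, hz, mul_inv_cancel_left]
  · have hz := Classical.choose_spec (hex s.pt (s.fst⁻¹ * s.snd) (hζ s))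
    apply CartesianMonoidalCategory.hom_ext
    · rw [hm₁, lift_fst]
    · rw [lift_snd]
      apply hinj
      rw [hz, Category.assoc]
      have h1 := key m
      rw [hm₂, hm₁] at h1
      rw [h1, inv_mul_cancel_left]

end general

variable {S : Scheme.{u}} {M N : Type} [AddCommGroup M] [AddCommGroup N]

/-- The character of a point of `D_S(M)`: the function `m ↦ x^*(e_m)`. -/
noncomputable def chr {T : Over S} (x : T ⟶ Red.DS S M) (m : M) : Γ(T.left, ⊤) :=
  ev (x.left ≫ pullback.fst _ _)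
    (MonoidAlgebra.single (Multiplicative.ofAdd m) (1 : ULift.{u} ℤ))

theorem chr_add {T : Over S} (x : T ⟶ Red.DS S M) (m m' : M) :
    chr x (m + m') = chr x m * chr x m' := by
  unfold chr
  rw [← ev_mul, MonoidAlgebra.single_mul_single, ← ofAdd_add, _root_.mul_one]

theorem chr_zero {T : Over S} (x : T ⟶ Red.DS S M) : chr x 0 = 1 := by
  unfold chr
  rw [ofAdd_zero, ← MonoidAlgebra.one_def, ev_one]

theorem chr_mul_neg {T : Over S} (x : T ⟶ Red.DS S M) (m : M) : chr x m * chr x (-m) = 1 := by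
  rw [← chr_add, add_neg_cancel, chr_zero]

theorem chr_mul {T : Over S} (x y : T ⟶ Red.DS S M) (m : M) :
    chr (x * y) m = chr x m * chr y m := by
  unfold chr
  refine ev_mul_of_grouplike _ x y _ ?_
  rw [MonoidAlgebra.comul_single]
  simp

theorem chr_one {T : Over S} (m : M) : chr (1 : T ⟶ Red.DS S M) m = 1 := by
  have h := chr_mul (1 : T ⟶ Red.DS S M) 1 m
  rw [show (1 : T ⟶ Red.DS S M) * 1 = 1 from _root_.mul_one (M := T ⟶ Red.DS S M) 1] at h
  have h' := chr_mul_neg (1 : T ⟶ Red.DS S M) m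
  calc chr (1 : T ⟶ Red.DS S M) m
      = chr (1 : T ⟶ Red.DS S M) m * (chr (1 : T ⟶ Red.DS S M) m * chr (1 : T ⟶ Red.DS S M) (-m)) := by
        rw [h', _root_.mul_one]
    _ = (chr (1 : T ⟶ Red.DS S M) m * chr (1 : T ⟶ Red.DS S M) m) * chr (1 : T ⟶ Red.DS S M) (-m) :=
        (_root_.mul_assoc _ _ _).symm
    _ = chr (1 : T ⟶ Red.DS S M) m * chr (1 : T ⟶ Red.DS S M) (-m) := by rw [← h]
    _ = 1 := h'

theorem chr_comp {T' T : Over S} (g : T' ⟶ T) (x : T ⟶ Red.DS S M) (m : M) :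
    chr (g ≫ x) m = g.left.appTop (chr x m) := by
  unfold chr
  rw [Over.comp_left, Category.assoc, ev_comp]

theorem chr_DSmap {T : Over S} (φ : M →+ N) (x : T ⟶ Red.DS S N) (m : M) :
    chr (x ≫ Red.DSmap S φ) m = chr x (φ m) := by
  unfold chr
  have h1 : (Red.DSmap S φ).left ≫ pullback.fst _ _ =
      pullback.fst _ _ ≫ (Red.diagMap (ULift.{u} ℤ) φ).left := pullback.lift_fst _ _ _
  have h2 : (Red.diagMap (ULift.{u} ℤ) φ).left = Spec.map (CommRingCat.ofHom
      (MonoidAlgebra.mapDomainAlgHom (ULift.{u} ℤ) (ULift.{u} ℤ)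
        (AddMonoidHom.toMultiplicative φ)).toRingHom) := rfl
  have h3 : (x ≫ Red.DSmap S φ).left ≫ pullback.fst _ _ =
      (x.left ≫ pullback.fst _ _) ≫ Spec.map (CommRingCat.ofHom
      (MonoidAlgebra.mapDomainAlgHom (ULift.{u} ℤ) (ULift.{u} ℤ)
        (AddMonoidHom.toMultiplicative φ)).toRingHom) := by
    refine Eq.trans ?_ (congrArg (fun k => (x.left ≫ pullback.fst _ _) ≫ k) h2)
    refine Eq.trans ?_ (Category.assoc _ _ _).symm
    refine Eq.trans ?_ (congrArg (fun k => x.left ≫ k) h1)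
    rw [Over.comp_left, Category.assoc]
  refine (congrArg (fun k => ev k _) h3).trans ?_
  refine (ev_comp_specMap (x.left ≫ pullback.fst _ _) _ _).trans ?_
  congr 1
  simp [MonoidAlgebra.mapDomain_single]

lemma ringHom_ext_monoidAlgebra' {B : Type u} [CommRing B]
    (θ₁ θ₂ : MonoidAlgebra (ULift.{u} ℤ) (Multiplicative M) →+* B)
    (h : ∀ m : M, θ₁ (MonoidAlgebra.single (Multiplicative.ofAdd m) 1) =
      θ₂ (MonoidAlgebra.single (Multiplicative.ofAdd m) 1)) : θ₁ = θ₂ := by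
  refine RingHom.ext fun x => ?_
  induction x using MonoidAlgebra.induction_on with
  | of g => simpa [MonoidAlgebra.of_apply] using h (Multiplicative.toAdd g)
  | add x y hx hy => rw [map_add, map_add, hx, hy]
  | smul r x hx =>
    rw [Algebra.smul_def, map_mul, map_mul, hx, ringHom_comm_algebraMap, ringHom_comm_algebraMap]

theorem chr_injective {T : Over S} (x y : T ⟶ Red.DS S M) (h : ∀ m, chr x m = chr y m) :
    x = y := by
  apply over_point_ext
  apply point_ext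
  intro s
  have := ringHom_ext_monoidAlgebra'
    ((Scheme.ΓSpecIso _).inv ≫ (x.left ≫ pullback.fst _ _).appTop).hom
    ((Scheme.ΓSpecIso _).inv ≫ (y.left ≫ pullback.fst _ _).appTop).hom h
  exact congrArg (fun θ => θ s) this

theorem exists_chr_eq {T : Over S} (ψ : Multiplicative M →* Γ(T.left, ⊤)) :
    ∃ x : T ⟶ Red.DS S M, ∀ m, chr x m = ψ (Multiplicative.ofAdd m) := by
  letI : Algebra (ULift.{u} ℤ) Γ(T.left, ⊤) := ULift.algebra' ℤ _
  let φ : MonoidAlgebra (ULift.{u} ℤ) (Multiplicative M) →ₐ[ULift.{u} ℤ] Γ(T.left, ⊤) :=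
    MonoidAlgebra.lift _ _ _ ψ
  obtain ⟨a, ha⟩ := exists_point T.left (CommRingCat.ofHom φ.toRingHom)
  obtain ⟨x, hx⟩ := exists_over_point (R := .of (ULift.{u} ℤ))
    (A := .of (MonoidAlgebra (ULift.{u} ℤ) (Multiplicative M)))
    (IsTerminal.from specULiftZIsTerminal S) a (specULiftZIsTerminal.hom_ext _ _)
  refine ⟨x, fun m => ?_⟩
  unfold chr
  refine (congrArg (fun k => ev k (MonoidAlgebra.single (Multiplicative.ofAdd m)
    (1 : ULift.{u} ℤ))) hx).trans ((ha _).trans ?_)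
  simp [φ, MonoidAlgebra.lift_single]

theorem DSmap_pointwise_mul {T : Over S} (φ : M →+ N) (x y : T ⟶ Red.DS S N) :
    (x * y) ≫ Red.DSmap S φ = (x ≫ Red.DSmap S φ) * (y ≫ Red.DSmap S φ) := by
  apply chr_injective
  intro m
  rw [chr_DSmap, chr_mul, chr_mul, chr_DSmap, chr_DSmap]

instance isMonHom_DSmap (φ : M →+ N) : IsMonHom (Red.DSmap S φ) :=
  isMonHom_of_pointwise _ (fun T x y => DSmap_pointwise_mul φ x y)

instance isMonHom_chi (m : M) : IsMonHom (Red.chi S m) := by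
  unfold Red.chi
  infer_instance

theorem chr_natCast {T : Over S} (x : T ⟶ Red.DS S ℤ) (k : ℕ) :
    chr x (k : ℤ) = chr x 1 ^ k := by
  induction k with
  | zero => rw [Nat.cast_zero, chr_zero, pow_zero]
  | succ j ih => rw [Nat.cast_succ, chr_add, ih, pow_succ]

theorem gmFn_eq_chr {T : Over S} (x : T ⟶ Red.Gm S) : Red.gmFn x = chr (M := ℤ) x 1 := rfl

section kummer

variable (n : ℕ)

theorem kummer_comp : Red.DSmap S (Int.castAddHom (ZMod n)) ≫ Red.chi S (n : ℤ) = 1 := by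
  apply chr_injective
  intro m
  unfold Red.chi
  rw [chr_DSmap, chr_one]
  have h1 := chr_DSmap (Int.castAddHom (ZMod n)) (𝟙 (Red.DS S (ZMod n)))
    ((zmultiplesHom ℤ (n : ℤ)) m)
  rw [Category.id_comp] at h1
  rw [h1]
  have h2 : (Int.castAddHom (ZMod n)) ((zmultiplesHom ℤ (n : ℤ)) m) = 0 := by
    simp
  rw [h2, chr_zero]

theorem kummer_exists {T : Over S} (ζ : T ⟶ Red.DS S ℤ) (hζ : ζ ≫ Red.chi S (n : ℤ) = 1) :
    ∃ z : T ⟶ Red.DS S (ZMod n), z ≫ Red.DSmap S (Int.castAddHom (ZMod n)) = ζ := by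
  have hn1 : chr ζ (n : ℤ) = 1 := by
    have h1 := chr_DSmap (zmultiplesHom ℤ (n : ℤ)) ζ 1
    have h2 : ζ ≫ Red.DSmap S (zmultiplesHom ℤ (n : ℤ)) = 1 := hζ
    rw [h2, chr_one] at h1
    rw [h1]
    simp
  let cu : ℤ → (Γ(T.left, ⊤))ˣ := fun k =>
    ⟨chr ζ k, chr ζ (-k), chr_mul_neg ζ k, by rw [_root_.mul_comm]; exact chr_mul_neg ζ k⟩
  let f : ℤ →+ Additive (Γ(T.left, ⊤))ˣ := AddMonoidHom.mk' (fun k => Additive.ofMul (cu k))
    (fun a b => by
      show Additive.ofMul (cu (a + b)) = Additive.ofMul (cu a * cu b)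
      congr 1
      exact Units.ext (chr_add ζ a b))
  have hf : f (n : ℤ) = 0 := by
    show Additive.ofMul (cu (n : ℤ)) = Additive.ofMul 1
    congr 1
    exact Units.ext hn1
  let g : ZMod n →+ Additive (Γ(T.left, ⊤))ˣ := ZMod.lift n ⟨f, hf⟩
  let ψ : Multiplicative (ZMod n) →* Γ(T.left, ⊤) :=
    { toFun := fun a => ((Additive.toMul (g (Multiplicative.toAdd a)) : (Γ(T.left, ⊤))ˣ) :
        Γ(T.left, ⊤))
      map_one' := by simp
      map_mul' := fun a b => by simp [toAdd_mul, map_add, toMul_add, Units.val_mul] }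
  obtain ⟨z, hz⟩ := exists_chr_eq (S := S) ψ
  refine ⟨z, ?_⟩
  apply chr_injective
  intro k
  rw [chr_DSmap, hz]
  show ((Additive.toMul (g ((Int.castAddHom (ZMod n)) k)) : (Γ(T.left, ⊤))ˣ) : Γ(T.left, ⊤)) =
    chr ζ k
  rw [ZMod.lift_castAddHom]
  rfl

theorem kummer_inj {T : Over S} (z z' : T ⟶ Red.DS S (ZMod n))
    (h : z ≫ Red.DSmap S (Int.castAddHom (ZMod n)) = z' ≫ Red.DSmap S (Int.castAddHom (ZMod n))) :
    z = z' := by
  apply chr_injective
  intro m
  obtain ⟨k, rfl⟩ := ZMod.intCast_surjective m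
  have h1 := chr_DSmap (Int.castAddHom (ZMod n)) z k
  have h2 := chr_DSmap (Int.castAddHom (ZMod n)) z' k
  rw [h] at h1
  exact (h1.symm.trans h2 : chr z ((Int.castAddHom (ZMod n)) k) = chr z' ((Int.castAddHom (ZMod n)) k))

theorem chi_locallyTrivial (hn : 0 < n) :
    NonAbH1.IsLocallyTrivialFor Scheme.fppfPrecoverage
      (Over.mk (Red.chi S (n : ℤ)).left : Over (Red.Gm S).left) := by
  obtain ⟨T'', r, hr1, hr2, hr3, c, hc⟩ :=
    Groth.Agent.Lib.KummerBG.exists_root_cover n hn (Red.Gm S) (GmPts.unitOfPt (𝟙 (Red.Gm S)))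
  have hcu : IsUnit c := by
    have h0 : IsUnit (c ^ n) := by
      rw [hc]
      exact RingHom.isUnit_map _ (Units.isUnit _)
    exact (isUnit_pow_iff hn.ne').1 h0
  let b : T'' ⟶ Red.Gm S := GmPts.ptOfUnit hcu.unit
  have hb : b ≫ Red.chi S (n : ℤ) = r := by
    apply GmPts.gmFn_injective
    show Red.gmFn (b ≫ Red.chi S (n : ℤ)) = Red.gmFn r
    have e1 : Red.gmFn (b ≫ Red.chi S (n : ℤ)) = Red.gmFn b ^ n := by
      unfold Red.chi
      rw [gmFn_eq_chr, chr_DSmap, gmFn_eq_chr]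
      have : (zmultiplesHom ℤ (n : ℤ)) 1 = ((n : ℕ) : ℤ) := by simp
      rw [this, chr_natCast]
    have e2 : Red.gmFn r = r.left.appTop.hom (Red.gmFn (𝟙 (Red.Gm S))) := by
      have := GmPts.gmFn_comp r (𝟙 (Red.Gm S))
      rw [Category.comp_id] at this
      exact this
    rw [e1, e2, GmPts.gmFn_ptOfUnit]
    exact hc
  refine ⟨Presieve.singleton r.left, Scheme.Hom.singleton_mem_fppfPrecoverage r.left, ?_⟩
  rintro S' f ⟨⟩
  exact ⟨b.left, congrArg (fun m => m.left) hb⟩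

theorem kummer_isExactSeq (K : Precoverage Scheme.{u}) (hK : Scheme.fppfPrecoverage ≤ K)
    (hn : 0 < n) :
    NonAbH1.IsExactSeq K (Red.DSmap S (Int.castAddHom (ZMod n))) (Red.chi S (n : ℤ)) := by
  refine ⟨inferInstance, inferInstance, kummer_comp n, ?_, ?_⟩
  · exact isPullback_of_kernel_on_points _ _ (kummer_comp n)
      (fun T ζ hζ => kummer_exists n ζ hζ) (fun T z z' h => kummer_inj n z z' h)
  · obtain ⟨R, hR, h⟩ := chi_locallyTrivial (S := S) n hn
    exact ⟨R, hK _ hR, h⟩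

end kummer

end Groth.Agent.Lib.DSDict
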