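import Groth.Statements.S18289
import Groth.Agent.Lib.AMonDense_lead
import Groth.Agent.Lib.SchFpqcCov_helper7
import Groth.Agent.Lib.DSDict_lead

/-! # Attractors for a subgroup magnet are fixed points of the quotient diagonalizable group (lead) -/

set_option backward.isDefEq.respectTransparency false
set_option backward.isDefEq.respectTransparency.types false
set_option linter.unusedSimpArgs false
set_option linter.unusedVariables false
set_option linter.unusedSectionVars false
set_option linter.style.longLine false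
set_option maxHeartbeats 800000

universe u

open CategoryTheory CategoryTheory.Limits MonoidalCategory CartesianMonoidalCategory MonObj GrpObj
  AlgebraicGeometry Opposite

namespace Groth.Agent.Lib.AttrFix

open Groth.Agent.Lib

/-! ### Freeness of monoid algebras over sub-monoid algebras with a transversal -/

theorem ff (R : Type*) [CommRing R] [Nontrivial R] {N₀ M Q : Type*} [AddCommMonoid N₀]
    [AddCommMonoid M] (f : N₀ →+ M) (mk : M → Q) (s : Q → M) (n : M → N₀)
    (F1 : ∀ m, f (n m) + s (mk m) = m) (F2 : ∀ n₀ q, mk (f n₀ + s q) = q)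
    (F3 : ∀ n₀ q, n (f n₀ + s q) = n₀) :
    (MonoidAlgebra.mapDomainRingHom R (AddMonoidHom.toMultiplicative f)).FaithfullyFlat := by
  letI alg : Algebra (MonoidAlgebra R (Multiplicative N₀)) (MonoidAlgebra R (Multiplicative M)) :=
    (MonoidAlgebra.mapDomainRingHom R (AddMonoidHom.toMultiplicative f)).toAlgebra
  let Φ : (Q →₀ MonoidAlgebra R (Multiplicative N₀)) →ₗ[MonoidAlgebra R (Multiplicative N₀)]
      MonoidAlgebra R (Multiplicative M) :=
    Finsupp.linearCombination _
      (fun q : Q => MonoidAlgebra.single (Multiplicative.ofAdd (s q)) (1 : R))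
  let Ψ : MonoidAlgebra R (Multiplicative M) →+ (Q →₀ MonoidAlgebra R (Multiplicative N₀)) :=
    (Finsupp.liftAddHom (fun g : Multiplicative M =>
      (Finsupp.singleAddHom (mk (Multiplicative.toAdd g))).comp
        (MonoidAlgebra.singleAddHom (Multiplicative.ofAdd (n (Multiplicative.toAdd g)))))).comp
      (MonoidAlgebra.coeffAddEquiv (R := R) (M := Multiplicative M)).toAddMonoidHom
  have hΦs : ∀ (q : Q) (h : Multiplicative N₀) (r : R),
      Φ (Finsupp.single q (MonoidAlgebra.single h r)) =
        MonoidAlgebra.single (Multiplicative.ofAdd (f (Multiplicative.toAdd h) + s q)) r := by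
    intro q h r
    show Finsupp.linearCombination _ _ _ = _
    rw [Finsupp.linearCombination_single, Algebra.smul_def, RingHom.algebraMap_toAlgebra]
    show MonoidAlgebra.mapDomain _ (MonoidAlgebra.single h r) * _ = _
    rw [MonoidAlgebra.mapDomain_single, MonoidAlgebra.single_mul_single, _root_.mul_one]
    rfl
  have hΨs : ∀ (g : Multiplicative M) (r : R), Ψ (MonoidAlgebra.single g r) =
      Finsupp.single (mk (Multiplicative.toAdd g))
        (MonoidAlgebra.single (Multiplicative.ofAdd (n (Multiplicative.toAdd g))) r) := by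
    intro g r
    show Finsupp.liftAddHom _ (Finsupp.single g r) = _
    rw [Finsupp.liftAddHom_apply_single]
    rfl
  have key : ∀ q : Q, (Ψ.comp Φ.toAddMonoidHom).comp (Finsupp.singleAddHom q) =
      Finsupp.singleAddHom q := by
    intro q
    refine MonoidAlgebra.addMonoidHom_ext (fun h r => ?_)
    show Ψ (Φ (Finsupp.single q (MonoidAlgebra.single h r))) =
      Finsupp.single q (MonoidAlgebra.single h r)
    rw [hΦs, hΨs]
    show Finsupp.single (mk (f (Multiplicative.toAdd h) + s q))
      (MonoidAlgebra.single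
        (Multiplicative.ofAdd (n (f (Multiplicative.toAdd h) + s q))) r) = _
    rw [F2, F3]
    rfl
  have hleft : ∀ x, Ψ (Φ x) = x := by
    intro x
    induction x using Finsupp.induction_linear with
    | zero => rw [map_zero, map_zero]
    | add x y hx hy => rw [map_add, map_add, hx, hy]
    | single q a => exact DFunLike.congr_fun (key q) a
  have hright : ∀ b, Φ (Ψ b) = b := by
    have h2 : Φ.toAddMonoidHom.comp Ψ = AddMonoidHom.id _ :=
      MonoidAlgebra.addMonoidHom_ext (fun g r => by
        show Φ (Ψ (MonoidAlgebra.single g r)) = MonoidAlgebra.single g r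
        rw [hΨs, hΦs]
        show MonoidAlgebra.single (Multiplicative.ofAdd
          (f (n (Multiplicative.toAdd g)) + s (mk (Multiplicative.toAdd g)))) r = _
        rw [F1]
        rfl)
    intro b
    exact DFunLike.congr_fun h2 b
  have hbij : Function.Bijective Φ :=
    ⟨Function.LeftInverse.injective hleft, Function.RightInverse.surjective hright⟩
  haveI : Module.Free (MonoidAlgebra R (Multiplicative N₀)) (MonoidAlgebra R (Multiplicative M)) :=
    Module.Free.of_equiv (LinearEquiv.ofBijective Φ hbij)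
  have main : Module.FaithfullyFlat (MonoidAlgebra R (Multiplicative N₀))
      (MonoidAlgebra R (Multiplicative M)) := inferInstance
  exact main

/-! ### Covers -/

theorem isCov_specMap {R₁ R₂ : CommRingCat.{u}} (φ : R₁ ⟶ R₂) (h : φ.hom.FaithfullyFlat) :
    SchFpqcCovH7.IsCov (Spec.map φ) := by
  obtain ⟨hfl, hs⟩ := (flat_and_surjective_SpecMap_iff φ).mpr h
  refine SchFpqcCovH7.isCov_of_data _ hfl hs (fun V hV => ⟨(Spec.map φ) ⁻¹ᵁ V, ?_, ?_⟩)
  · exact QuasiCompact.isCompact_preimage (f := Spec.map φ) _ V.isOpen hV.isCompact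
  · exact Set.image_preimage_eq _ hs.surj

theorem isCov_map (S : Scheme.{u}) {N₀ M : Type} [AddCommMonoid N₀] [AddCommGroup M] (f : N₀ →+ M)
    (hf : Function.Injective f) (Z' : AddSubgroup M) (hZ' : ∀ m, m ∈ Z' ↔ ∃ n, f n = m) :
    SchFpqcCovH7.IsCov (Magnet.AMonS.map S f).left := by
  have mem : ∀ m : M, -(Quotient.out (QuotientAddGroup.mk m : M ⧸ Z')) + m ∈ Z' := by
    intro m
    rw [← QuotientAddGroup.eq]
    exact QuotientAddGroup.out_eq' _
  choose n hn using fun m => (hZ' _).mp (mem m)
  have F1 : ∀ m, f (n m) + Quotient.out (QuotientAddGroup.mk m : M ⧸ Z') = m := by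
    intro m; rw [hn]; abel
  have F2 : ∀ (n₀ : N₀) (q : M ⧸ Z'),
      (QuotientAddGroup.mk (f n₀ + Quotient.out q) : M ⧸ Z') = q := by
    intro n₀ q
    rw [QuotientAddGroup.mk_add, (QuotientAddGroup.eq_zero_iff (f n₀)).mpr ((hZ' _).mpr ⟨n₀, rfl⟩),
      zero_add, QuotientAddGroup.out_eq']
  have F3 : ∀ (n₀ : N₀) (q : M ⧸ Z'), n (f n₀ + Quotient.out q) = n₀ := by
    intro n₀ q
    apply hf
    rw [hn, F2]
    abel
  have hff := ff (ULift.{u} ℤ) f (fun m => (QuotientAddGroup.mk m : M ⧸ Z'))
    (fun q => Quotient.out q) n F1 F2 F3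
  have e : (MonoidAlgebra.mapDomainBialgHom (ULift.{u} ℤ)
        (AddMonoidHom.toMultiplicative f)).toAlgHom.toRingHom =
      MonoidAlgebra.mapDomainRingHom (ULift.{u} ℤ) (AddMonoidHom.toMultiplicative f) :=
    RingHom.ext fun x => rfl
  have hc0 : SchFpqcCovH7.IsCov (Magnet.AMon.map (ULift.{u} ℤ) f).left := by
    rw [Magnet.AMon.map_left]
    apply isCov_specMap
    rw [CommRingCat.hom_ofHom, e]
    exact hff
  exact SchFpqcCovH7.IsCov.of_isPullback
    (AMonDense.isPullback_pullback_map (Limits.IsTerminal.from specULiftZIsTerminal S)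
      (Magnet.AMon.map (ULift.{u} ℤ) f)) hc0

/-! ### The general comparison -/

section Gen

variable {S : Scheme.{u}} {A B K X : Over S} [GrpObj A] [MonObj B] [MonObj K]
  (i : A ⟶ B) [IsMonHom i] (j : K ⟶ A) [IsMonHom j] (a : Magnet.MonAct A X)

/-- the comparison map from equivariant maps out of `B` to fixed points of `K` -/
noncomputable def tau (hji : ∀ (T : Over S) (g : T ⟶ K), g ≫ j ≫ i = 1) :
    Magnet.MonAct.eqvHom ((Magnet.MonAct.regular B).restrict i) a ⟶
      Magnet.MonAct.fixedPsh (a.restrict j) where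
  app T := TypeCat.ofHom fun φ =>
    ⟨lift (toUnit (unop T) ≫ η[B]) (𝟙 (unop T)) ≫ φ.1, fun T' t g => by
      have h := (Magnet.MonAct.mem_eqvHom_iff φ.1).mp φ.2 T' (g ≫ j) 1 t
      have e1 : t ≫ lift (toUnit (unop T) ≫ η[B]) (𝟙 (unop T)) = lift (1 : T' ⟶ B) t := by
        rw [comp_lift, Category.comp_id, comp_toUnit_assoc]
        rfl
      have hx : t ≫ lift (toUnit (unop T) ≫ η[B]) (𝟙 (unop T)) ≫ φ.1 =
          lift (1 : T' ⟶ B) t ≫ φ.1 := by
        rw [← Category.assoc, e1]
      rw [Magnet.MonAct.lift_restrict_act, hx, ← h, Magnet.MonAct.lift_restrict_act,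
        Magnet.MonAct.lift_regular_act, Category.assoc, hji, _root_.one_mul]⟩
  naturality T T' t := ConcreteCategory.hom_ext _ _ fun φ => Subtype.ext (by
    change lift (toUnit (unop T') ≫ η[B]) (𝟙 (unop T')) ≫ (B ◁ t.unop) ≫ φ.1 =
      t.unop ≫ lift (toUnit (unop T) ≫ η[B]) (𝟙 (unop T)) ≫ φ.1
    rw [lift_whiskerLeft_assoc, Category.id_comp, ← Category.assoc t.unop, comp_lift,
      Category.comp_id, comp_toUnit_assoc])

theorem main_gen (hcov : SchFpqcCovH7.IsCov i.left)
    (hji : ∀ (T : Over S) (g : T ⟶ K), g ≫ j ≫ i = 1)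
    (hex : ∀ (T : Over S) (k : T ⟶ A), k ≫ i = 1 → ∃ k' : T ⟶ K, k' ≫ j = k) :
    ∃ e : Magnet.MonAct.eqvHom ((Magnet.MonAct.regular B).restrict i) a ≅
        Magnet.MonAct.fixedPsh (a.restrict j),
      e.hom ≫ Magnet.MonAct.fixedPshι _ =
        Magnet.MonAct.eqvHom.evalAt ((Magnet.MonAct.regular B).restrict i) a η[B] := by
  haveI : IsIso (tau i j a hji) := by
    rw [NatTrans.isIso_iff_isIso_app]
    intro T
    rw [isIso_iff_bijective]
    constructor
    · intro φ₁ φ₂ h
      apply Subtype.ext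
      have h' : lift (toUnit (unop T) ≫ η[B]) (𝟙 (unop T)) ≫ φ₁.1 =
          lift (toUnit (unop T) ≫ η[B]) (𝟙 (unop T)) ≫ φ₂.1 := congrArg Subtype.val h
      haveI : Epi (i ▷ unop T) := SchFpqcCovH7.epi_of_isCov _
        (SchFpqcCovH7.isCov_whiskerRight i (unop T) hcov)
      rw [← cancel_epi (i ▷ unop T), AMonDense.orbit_formula i a φ₁.1 φ₁.2,
        AMonDense.orbit_formula i a φ₂.1 φ₂.2, h']
    · intro x
      obtain ⟨φ, hφ⟩ := SchFpqcCovH7.desc_of_isCov (i ▷ unop T)
        (SchFpqcCovH7.isCov_whiskerRight i (unop T) hcov) ((A ◁ x.1) ≫ a.act) (by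
          intro T' a₁ a₂ h12
          obtain ⟨g₁, t₁, rfl⟩ : ∃ g t, a₁ = lift g t :=
            ⟨a₁ ≫ fst _ _, a₁ ≫ snd _ _, (lift_comp_fst_snd a₁).symm⟩
          obtain ⟨g₂, t₂, rfl⟩ : ∃ g t, a₂ = lift g t :=
            ⟨a₂ ≫ fst _ _, a₂ ≫ snd _ _, (lift_comp_fst_snd a₂).symm⟩
          rw [lift_whiskerRight, lift_whiskerRight] at h12
          have hg : g₁ ≫ i = g₂ ≫ i := by
            have := congrArg (fun m => m ≫ fst _ _) h12
            simpa using this
          have ht : t₁ = t₂ := by
            have := congrArg (fun m => m ≫ snd _ _) h12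
            simpa using this
          subst ht
          have hk : (g₁⁻¹ * g₂) ≫ i = 1 := by
            rw [MonObj.mul_comp, ← hg, ← MonObj.mul_comp, inv_mul_cancel, MonObj.one_comp]
          obtain ⟨k', hk'⟩ := hex T' _ hk
          have hfix := x.2 T' t₁ k'
          rw [Magnet.MonAct.lift_restrict_act, hk'] at hfix
          rw [lift_whiskerLeft_assoc, lift_whiskerLeft_assoc]
          have h2 : g₂ = g₁ * (g₁⁻¹ * g₂) := (mul_inv_cancel_left g₁ g₂).symm
          rw [h2, Magnet.MonAct.lift_mul_act, hfix])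
      have hψ' : ∀ (T' : Over S) (g : T' ⟶ A) (t : T' ⟶ unop T),
          lift (g ≫ i) t ≫ φ = lift g (t ≫ x.1) ≫ a.act := by
        intro T' g t
        rw [← lift_whiskerRight_assoc, hφ, lift_whiskerLeft_assoc]
      have hEq : Magnet.MonAct.IsEquivariant
          (((Magnet.MonAct.regular B).restrict i).prod (Magnet.MonAct.trivial A (unop T))) a φ := by
        haveI : Epi (A ◁ (i ▷ unop T)) := SchFpqcCovH7.epi_of_isCov _
          (SchFpqcCovH7.isCov_whiskerLeft A (i ▷ unop T)
            (SchFpqcCovH7.isCov_whiskerRight i (unop T) hcov))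
        unfold Magnet.MonAct.IsEquivariant
        rw [← cancel_epi (A ◁ (i ▷ unop T))]
        apply Magnet.hom_ext_lift₂
        intro T' g w
        obtain ⟨g', t, rfl⟩ : ∃ g' t, w = lift g' t :=
          ⟨w ≫ fst _ _, w ≫ snd _ _, (lift_comp_fst_snd w).symm⟩
        have hL : lift g (lift g' t) ≫ (A ◁ (i ▷ unop T)) ≫
              (((Magnet.MonAct.regular B).restrict i).prod
                (Magnet.MonAct.trivial A (unop T))).act ≫ φ =
            lift ((g * g') ≫ i) t ≫ φ := by
          rw [lift_whiskerLeft_assoc, lift_whiskerRight, Magnet.MonAct.lift_prod_act_assoc,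
            Magnet.MonAct.lift_trivial_act, Magnet.MonAct.lift_restrict_act,
            Magnet.MonAct.lift_regular_act, ← MonObj.mul_comp]
        have hR : lift g (lift g' t) ≫ (A ◁ (i ▷ unop T)) ≫ (A ◁ φ) ≫ a.act =
            lift g (lift (g' ≫ i) t ≫ φ) ≫ a.act := by
          rw [lift_whiskerLeft_assoc, lift_whiskerLeft_assoc, lift_whiskerRight]
        calc _ = lift ((g * g') ≫ i) t ≫ φ := hL
          _ = lift g (lift (g' ≫ i) t ≫ φ) ≫ a.act := by
            rw [hψ' T' (g * g') t, Magnet.MonAct.lift_mul_act, hψ' T' g' t]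
          _ = _ := hR.symm
      refine ⟨⟨φ, hEq⟩, ?_⟩
      apply Subtype.ext
      show lift (toUnit (unop T) ≫ η[B]) (𝟙 (unop T)) ≫ φ = x.1
      have h1 : toUnit (unop T) ≫ η[B] = (1 : unop T ⟶ A) ≫ i := by
        rw [MonObj.one_comp]
        rfl
      rw [h1, hψ', Category.id_comp, Magnet.MonAct.lift_one_act]
  refine ⟨asIso (tau i j a hji), ?_⟩
  ext T φ
  rfl

end Gen

/-! ### Diagonalizable groups -/

theorem map_eq (S : Scheme.{u}) {N M : Type} [AddCommGroup N] [AddCommGroup M] (f : N →+ M) :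
    Magnet.AMonS.map S f = Red.DSmap S f := by
  unfold Magnet.AMonS.map Red.DSmap
  congr 1

set_option backward.isDefEq.respectTransparency true in
set_option backward.isDefEq.respectTransparency.types true in
theorem main_DS (S : Scheme.{u}) (M N₀ Q : Type) [AddCommGroup M] [AddCommGroup N₀]
    [AddCommGroup Q] (f : N₀ →+ M) (p : M →+ Q) (hf : Function.Injective f)
    (hp : Function.Surjective p) (hker : ∀ m, p m = 0 ↔ ∃ n, f n = m) (X : Over S)
    (a : AlgGrp.Action (Red.DS S M) X) :
    ∃ e : Magnet.MonAct.eqvHom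
          ((Magnet.MonAct.regular (Magnet.AMonS S N₀)).restrict (Magnet.AMonS.map S f))
          (Magnet.MonAct.ofAction a) ≅
        Magnet.MonAct.fixedPsh ((Magnet.MonAct.ofAction a).restrict (Magnet.AMonS.map S p)),
      e.hom ≫ Magnet.MonAct.fixedPshι _ =
        Magnet.MonAct.eqvHom.evalAt _ (Magnet.MonAct.ofAction a) η[Magnet.AMonS S N₀] := by
  have hcov := isCov_map S f hf p.ker (fun m => by rw [AddMonoidHom.mem_ker]; exact hker m)
  have hji : ∀ (T : Over S) (g : T ⟶ Magnet.AMonS S Q),
      g ≫ Magnet.AMonS.map S p ≫ Magnet.AMonS.map S f = 1 := by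
    intro T g
    rw [map_eq, map_eq]
    apply DSDict.chr_injective
    intro n
    rw [← Category.assoc, DSDict.chr_DSmap, DSDict.chr_DSmap, DSDict.chr_one,
      (hker (f n)).mpr ⟨n, rfl⟩, DSDict.chr_zero]
  have hex : ∀ (T : Over S) (k : T ⟶ Magnet.AMonS S M), k ≫ Magnet.AMonS.map S f = 1 →
      ∃ k' : T ⟶ Magnet.AMonS S Q, k' ≫ Magnet.AMonS.map S p = k := by
    intro T k hk
    rw [map_eq] at hk
    have h1 : ∀ n, DSDict.chr k (f n) = 1 := fun n => by
      rw [← DSDict.chr_DSmap, hk, DSDict.chr_one]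
    have wd : ∀ m m', p m = p m' → DSDict.chr k m = DSDict.chr k m' := by
      intro m m' h
      obtain ⟨n, hn⟩ := (hker (m - m')).mp (by rw [map_sub, h, sub_self])
      have h3 : m = m' + f n := by rw [hn]; abel
      rw [h3, DSDict.chr_add, h1, _root_.mul_one]
    choose c hc using hp
    let ψ : Multiplicative Q →* Γ(T.left, ⊤) :=
      { toFun := fun q => DSDict.chr k (c (Multiplicative.toAdd q))
        map_one' := (wd _ 0 (by rw [hc, map_zero]; rfl)).trans (DSDict.chr_zero k)
        map_mul' := fun q q' => by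
          rw [← DSDict.chr_add]
          apply wd
          rw [map_add, hc, hc, hc]
          rfl }
    obtain ⟨k', hk'⟩ := DSDict.exists_chr_eq ψ
    refine ⟨k', ?_⟩
    rw [map_eq]
    apply DSDict.chr_injective
    intro m
    rw [DSDict.chr_DSmap, hk']
    exact wd _ _ (hc (p m))
  exact main_gen (Magnet.AMonS.map S f) (Magnet.AMonS.map S p) (Magnet.MonAct.ofAction a)
    hcov hji hex

set_option backward.isDefEq.respectTransparency true in
set_option backward.isDefEq.respectTransparency.types true in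
theorem main89 (S : Scheme.{u}) (M : Type) [AddCommGroup M] (Z : AddSubgroup M) (X : Over S)
    (a : AlgGrp.Action (Red.DS S M) X) :
    ∃ e : Magnet.attr (Magnet.MonAct.ofAction a) Z.toAddSubmonoid ≅
        Magnet.MonAct.fixedPsh ((Magnet.MonAct.ofAction a).restrict
          (Magnet.AMonS.map S (QuotientAddGroup.mk' Z))),
      e.hom ≫ Magnet.MonAct.fixedPshι _ =
        Magnet.attrToX (Magnet.MonAct.ofAction a) Z.toAddSubmonoid :=
  main_DS S M ↥Z (M ⧸ Z) Z.subtype (QuotientAddGroup.mk' Z) Z.subtype_injective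
    (QuotientAddGroup.mk'_surjective Z)
    (fun m => by
      rw [QuotientAddGroup.mk'_apply, QuotientAddGroup.eq_zero_iff]
      exact ⟨fun h => ⟨⟨m, h⟩, rfl⟩, fun ⟨n, hn⟩ => hn ▸ n.2⟩) X a

end Groth.Agent.Lib.AttrFix
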