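import Groth.Statements.S18298
import Groth.Agent.Lib.AttrFix_lead

/-! # Change of group for attractors: `X^{f⁻¹Y ⊂ M} ≅ X^{Y ⊂ Z}` for `Y ≤ f(M)` (lead) -/

set_option linter.unusedSimpArgs false
set_option linter.unusedVariables false
set_option linter.unusedSectionVars false
set_option linter.style.longLine false
set_option maxHeartbeats 800000

universe u

open CategoryTheory CategoryTheory.Limits MonoidalCategory CartesianMonoidalCategory MonObj GrpObj
  AlgebraicGeometry Opposite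

namespace Groth.Agent.Lib.AttrComap

open Groth.Agent.Lib Groth.Agent.Lib.RedDictH8

/-! ### Points of base-changed spectra of bialgebras (monoid version of `RedDict_helper8`) -/

section BaseChangeMon

open TensorProduct

variable {R A : CommRingCat.{u}} [Bialgebra R A]
variable {S : Scheme.{u}} (f : S ⟶ Spec R)

lemma lift_cond' {X : Over S} (x y : X ⟶ Red.bc f ((Spec A).asOver (Spec R))) :
    (x.left ≫ pullback.fst _ _) ≫ ((Spec A).asOver (Spec R)).hom =
      (y.left ≫ pullback.fst _ _) ≫ ((Spec A).asOver (Spec R)).hom := by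
  have hx := Over.w x
  have hy := Over.w y
  rw [Category.assoc, Category.assoc, pullback.condition, ← Category.assoc, ← Category.assoc]
  congr 1
  exact hx.trans hy.symm

lemma mul_left_fst' {X : Over S} (x y : X ⟶ Red.bc f ((Spec A).asOver (Spec R))) :
    (x * y).left ≫ pullback.fst _ _ =
      pullback.lift (x.left ≫ pullback.fst _ _) (y.left ≫ pullback.fst _ _) (lift_cond' f x y) ≫
        μ[(Spec A).asOver (Spec R)].left := by
  rw [Hom.mul_def, Functor.obj.μ_def]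
  simp only [Over.comp_left, Category.assoc]
  have h1 : ((Over.pullback f).map μ[(Spec A).asOver (Spec R)]).left ≫
      pullback.fst ((Spec A).asOver (Spec R)).hom f =
      pullback.fst _ f ≫ μ[(Spec A).asOver (Spec R)].left :=
    pullback.lift_fst _ _ _
  rw [h1]
  simp only [← Category.assoc]
  congr 1
  apply pullback.hom_ext
  · simp only [Category.assoc, pullback.lift_fst]
    have := Over.μ_pullback_left_fst_fst (f := f) ((Spec A).asOver (Spec R))
      ((Spec A).asOver (Spec R))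
    rw [this]
    have h2 : (CartesianMonoidalCategory.lift x y).left ≫ pullback.fst _ _ = x.left := by
      have := congrArg Over.Hom.left (CartesianMonoidalCategory.lift_fst x y)
      exact this
    rw [reassoc_of% h2]
  · simp only [Category.assoc, pullback.lift_snd]
    have := Over.μ_pullback_left_fst_snd (f := f) ((Spec A).asOver (Spec R))
      ((Spec A).asOver (Spec R))
    rw [this]
    have h2 : (CartesianMonoidalCategory.lift x y).left ≫ pullback.snd _ _ = y.left := by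
      have := congrArg Over.Hom.left (CartesianMonoidalCategory.lift_snd x y)
      exact this
    rw [reassoc_of% h2]

lemma ev_mul_of_grouplike' {X : Over S} (x y : X ⟶ Red.bc f ((Spec A).asOver (Spec R))) (r : A)
    (hr : Coalgebra.comul (R := R) r = r ⊗ₜ[R] r) :
    ev ((x * y).left ≫ pullback.fst _ _) r =
      ev (x.left ≫ pullback.fst _ _) r * ev (y.left ≫ pullback.fst _ _) r := by
  have h0 := lift_cond' f x y
  have h1 := congrArg (fun m => ev (B := A) m r) (mul_left_fst' f x y)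
  have h2 := ev_lift_mul_left (R := R) (A := A) (x.left ≫ pullback.fst _ _)
    (y.left ≫ pullback.fst _ _) h0 r
  have h3 : pullback.lift (x.left ≫ pullback.fst _ _) (y.left ≫ pullback.fst _ _) h0 ≫
      μ[(Spec A).asOver (Spec R)].left =
      (pullback.lift (x.left ≫ pullback.fst _ _) (y.left ≫ pullback.fst _ _) h0 ≫
        (pullbackSpecIso R A A).hom) ≫
        Spec.map (CommRingCat.ofHom (RingHomClass.toRingHom (Bialgebra.comulAlgHom R A))) := by
    rw [mul_spec_asOver_spec_left, Category.assoc]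
    rfl
  refine h1.trans ((congrArg (fun m => ev (B := A) m r) h3).trans (h2.trans ?_))
  rw [hr, ev_lift_tmul]

lemma over_point_ext' {X : Over S} (x y : X ⟶ Red.bc f ((Spec A).asOver (Spec R)))
    (h : x.left ≫ pullback.fst _ _ = y.left ≫ pullback.fst _ _) : x = y := by
  apply Over.OverMorphism.ext
  apply pullback.hom_ext h
  exact (Over.w x).trans (Over.w y).symm

end BaseChangeMon

/-! ### Character dictionary for diagonalizable monoid schemes -/

section Dict

variable {S : Scheme.{u}} {N₀ P : Type} [AddCommMonoid N₀] [AddCommMonoid P]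

/-- The character of a point of `A(N₀)_S`. -/
noncomputable def chrM {T : Over S} (x : T ⟶ Magnet.AMonS S N₀) (n : N₀) : Γ(T.left, ⊤) :=
  ev (x.left ≫ pullback.fst _ _)
    (MonoidAlgebra.single (Multiplicative.ofAdd n) (1 : ULift.{u} ℤ))

theorem chrM_add {T : Over S} (x : T ⟶ Magnet.AMonS S N₀) (n n' : N₀) :
    chrM x (n + n') = chrM x n * chrM x n' := by
  unfold chrM
  rw [← ev_mul, MonoidAlgebra.single_mul_single, ← ofAdd_add, _root_.mul_one]

theorem chrM_zero {T : Over S} (x : T ⟶ Magnet.AMonS S N₀) : chrM x 0 = 1 := by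
  unfold chrM
  rw [ofAdd_zero, ← MonoidAlgebra.one_def, ev_one]

theorem chrM_mul {T : Over S} (x y : T ⟶ Magnet.AMonS S N₀) (n : N₀) :
    chrM (x * y) n = chrM x n * chrM y n := by
  unfold chrM
  refine ev_mul_of_grouplike' _ x y _ ?_
  rw [MonoidAlgebra.comul_single]
  simp

theorem chrM_map {T : Over S} (φ : P →+ N₀) (x : T ⟶ Magnet.AMonS S N₀) (p : P) :
    chrM (x ≫ Magnet.AMonS.map S φ) p = chrM x (φ p) := by
  unfold chrM
  have h1 : (Magnet.AMonS.map S φ).left ≫ pullback.fst _ _ =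
      pullback.fst _ _ ≫ (Magnet.AMon.map (ULift.{u} ℤ) φ).left := pullback.lift_fst _ _ _
  have h2 : (Magnet.AMon.map (ULift.{u} ℤ) φ).left = Spec.map (CommRingCat.ofHom
      (MonoidAlgebra.mapDomainBialgHom (ULift.{u} ℤ)
        (AddMonoidHom.toMultiplicative φ)).toAlgHom.toRingHom) := rfl
  have h3 : (x ≫ Magnet.AMonS.map S φ).left ≫ pullback.fst _ _ =
      (x.left ≫ pullback.fst _ _) ≫ Spec.map (CommRingCat.ofHom
      (MonoidAlgebra.mapDomainBialgHom (ULift.{u} ℤ)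
        (AddMonoidHom.toMultiplicative φ)).toAlgHom.toRingHom) := by
    refine Eq.trans ?_ (congrArg (fun k => (x.left ≫ pullback.fst _ _) ≫ k) h2)
    refine Eq.trans ?_ (Category.assoc _ _ _).symm
    refine Eq.trans ?_ (congrArg (fun k => x.left ≫ k) h1)
    rw [Over.comp_left, Category.assoc]
  refine (congrArg (fun k => ev k _) h3).trans ?_
  refine (ev_comp_specMap (x.left ≫ pullback.fst _ _) _ _).trans ?_
  congr 1
  exact MonoidAlgebra.mapDomain_single

theorem chrM_map_id (φ : P →+ N₀) (p : P) :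
    chrM (Magnet.AMonS.map S φ) p = chrM (𝟙 (Magnet.AMonS S N₀)) (φ p) := by
  rw [← Category.id_comp (Magnet.AMonS.map S φ), chrM_map]

lemma ringHom_ext_monoidAlgebra'' {B : Type u} [CommRing B]
    (θ₁ θ₂ : MonoidAlgebra (ULift.{u} ℤ) (Multiplicative N₀) →+* B)
    (h : ∀ m : N₀, θ₁ (MonoidAlgebra.single (Multiplicative.ofAdd m) 1) =
      θ₂ (MonoidAlgebra.single (Multiplicative.ofAdd m) 1)) : θ₁ = θ₂ := by
  refine RingHom.ext fun x => ?_
  induction x using MonoidAlgebra.induction_on with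
  | of g => simpa [MonoidAlgebra.of_apply] using h (Multiplicative.toAdd g)
  | add x y hx hy => rw [map_add, map_add, hx, hy]
  | smul r x hx =>
    rw [Algebra.smul_def, map_mul, map_mul, hx, ringHom_comm_algebraMap, ringHom_comm_algebraMap]

theorem chrM_injective {T : Over S} (x y : T ⟶ Magnet.AMonS S N₀)
    (h : ∀ n, chrM x n = chrM y n) : x = y := by
  apply over_point_ext'
  apply point_ext
  intro s
  have := ringHom_ext_monoidAlgebra''
    ((Scheme.ΓSpecIso _).inv ≫ (x.left ≫ pullback.fst _ _).appTop).hom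
    ((Scheme.ΓSpecIso _).inv ≫ (y.left ≫ pullback.fst _ _).appTop).hom h
  exact congrArg (fun θ => θ s) this

theorem mono_map_of_surjective (κ : P →+ N₀) (hκ : Function.Surjective κ) :
    Mono (Magnet.AMonS.map S κ) := by
  constructor
  intro T x y h
  apply chrM_injective
  intro n
  obtain ⟨p, rfl⟩ := hκ n
  rw [← chrM_map, ← chrM_map, h]

end Dict

/-! ### Covers -/

set_option backward.isDefEq.respectTransparency false in
set_option backward.isDefEq.respectTransparency.types false in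
theorem isCov_of_transversal (S : Scheme.{u}) {N₀ M' Q : Type} [AddCommMonoid N₀]
    [AddCommMonoid M'] (f : N₀ →+ M') (mk : M' → Q) (s : Q → M') (n : M' → N₀)
    (F1 : ∀ m, f (n m) + s (mk m) = m) (F2 : ∀ n₀ q, mk (f n₀ + s q) = q)
    (F3 : ∀ n₀ q, n (f n₀ + s q) = n₀) :
    SchFpqcCovH7.IsCov (Magnet.AMonS.map S f).left := by
  have hff := AttrFix.ff (ULift.{u} ℤ) f mk s n F1 F2 F3
  have e : (MonoidAlgebra.mapDomainBialgHom (ULift.{u} ℤ)
        (AddMonoidHom.toMultiplicative f)).toAlgHom.toRingHom =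
      MonoidAlgebra.mapDomainRingHom (ULift.{u} ℤ) (AddMonoidHom.toMultiplicative f) :=
    RingHom.ext fun x => rfl
  have hc0 : SchFpqcCovH7.IsCov (Magnet.AMon.map (ULift.{u} ℤ) f).left := by
    rw [Magnet.AMon.map_left]
    apply AttrFix.isCov_specMap
    rw [CommRingCat.hom_ofHom, e]
    exact hff
  exact SchFpqcCovH7.IsCov.of_isPullback
    (AMonDense.isPullback_pullback_map (Limits.IsTerminal.from specULiftZIsTerminal S)
      (Magnet.AMon.map (ULift.{u} ℤ) f)) hc0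

section Delta

variable {M Z : Type} [AddCommGroup M] [AddCommGroup Z]

/-- the map `N = f⁻¹Y → Y` induced by `f` -/
abbrev kap (f : M →+ Z) (Y : AddSubmonoid Z) : ↥(Y.comap f) →+ ↥Y :=
  (f.comp (Y.comap f).subtype).codRestrict Y (fun x => x.2)

theorem kap_surjective (f : M →+ Z) (Y : AddSubmonoid Z) (hY : Y ≤ AddMonoidHom.mrange f) :
    Function.Surjective (kap f Y) := by
  intro y
  obtain ⟨x, hx⟩ := AddMonoidHom.mem_mrange.mp (hY y.2)
  exact ⟨⟨x, by show f x ∈ Y; rw [hx]; exact y.2⟩, Subtype.ext hx⟩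

theorem isCov_delta (S : Scheme.{u}) (f : M →+ Z) (Y : AddSubmonoid Z)
    (hY : Y ≤ AddMonoidHom.mrange f) :
    SchFpqcCovH7.IsCov (Magnet.AMonS.map S
      (AddMonoidHom.prod (Y.comap f).subtype (kap f Y))).left := by
  choose sec hsec using fun y : ↥Y => AddMonoidHom.mem_mrange.mp (hY y.2)
  have hout : ∀ u : M, f (u - Quotient.out (QuotientAddGroup.mk u : M ⧸ f.ker)) = 0 := by
    intro u
    have h1 : -(Quotient.out (QuotientAddGroup.mk u : M ⧸ f.ker)) + u ∈ f.ker := by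
      rw [← QuotientAddGroup.eq]
      exact QuotientAddGroup.out_eq' _
    rw [sub_eq_neg_add, add_comm]
    rw [add_comm] at h1
    rw [← sub_eq_add_neg] at h1 ⊢
    exact (AddMonoidHom.mem_ker).mp h1
  have hmemN : ∀ w : M × ↥Y, sec w.2 + ((w.1 - sec w.2) -
      Quotient.out (QuotientAddGroup.mk (w.1 - sec w.2) : M ⧸ f.ker)) ∈ Y.comap f := by
    intro w
    show f _ ∈ Y
    rw [map_add, hout, add_zero, hsec]
    exact w.2.2
  refine isCov_of_transversal S (AddMonoidHom.prod (Y.comap f).subtype (kap f Y))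
    (fun w => (QuotientAddGroup.mk (w.1 - sec w.2) : M ⧸ f.ker))
    (fun q => (Quotient.out q, 0))
    (fun w => ⟨_, hmemN w⟩) ?_ ?_ ?_
  · intro w
    refine Prod.ext ?_ ?_
    · show sec w.2 + ((w.1 - sec w.2) -
        Quotient.out (QuotientAddGroup.mk (w.1 - sec w.2) : M ⧸ f.ker)) +
        Quotient.out (QuotientAddGroup.mk (w.1 - sec w.2) : M ⧸ f.ker) = w.1
      abel
    · apply Subtype.ext
      show f (sec w.2 + ((w.1 - sec w.2) -
        Quotient.out (QuotientAddGroup.mk (w.1 - sec w.2) : M ⧸ f.ker))) + 0 = w.2.1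
      rw [map_add, hout, add_zero, add_zero, hsec]
  · intro n₀ q
    show (QuotientAddGroup.mk ((n₀.1 + Quotient.out q) - sec (kap f Y n₀ + 0)) : M ⧸ f.ker) = q
    rw [add_zero]
    conv_rhs => rw [← QuotientAddGroup.out_eq' q]
    rw [QuotientAddGroup.eq, AddMonoidHom.mem_ker, map_add, map_neg, map_sub, map_add, hsec]
    show -(f n₀.1 + f (Quotient.out q) - f n₀.1) + f (Quotient.out q) = 0
    abel
  · intro n₀ q
    apply Subtype.ext
    have hq : (QuotientAddGroup.mk ((n₀.1 + Quotient.out q) - sec (kap f Y n₀ + 0)) : M ⧸ f.ker)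
        = q := by
      rw [add_zero]
      conv_rhs => rw [← QuotientAddGroup.out_eq' q]
      rw [QuotientAddGroup.eq, AddMonoidHom.mem_ker, map_add, map_neg, map_sub, map_add, hsec]
      show -(f n₀.1 + f (Quotient.out q) - f n₀.1) + f (Quotient.out q) = 0
      abel
    show sec (kap f Y n₀ + 0) + (((n₀.1 + Quotient.out q) - sec (kap f Y n₀ + 0)) -
      Quotient.out (QuotientAddGroup.mk ((n₀.1 + Quotient.out q) - sec (kap f Y n₀ + 0)) :
        M ⧸ f.ker)) = n₀.1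
    rw [hq]
    abel

theorem isCov_m (S : Scheme.{u}) (f : M →+ Z) (Y : AddSubmonoid Z)
    (hY : Y ≤ AddMonoidHom.mrange f) :
    SchFpqcCovH7.IsCov ((Magnet.AMonS.map S (Y.comap f).subtype ⊗ₘ
      Magnet.AMonS.map S (kap f Y)) ≫ μ[Magnet.AMonS S ↥(Y.comap f)]).left := by
  have hq := isCov_delta S f Y hY
  have hfac : lift (Magnet.AMonS.map S (AddMonoidHom.inl M ↥Y))
        (Magnet.AMonS.map S (AddMonoidHom.inr M ↥Y)) ≫
      ((Magnet.AMonS.map S (Y.comap f).subtype ⊗ₘ Magnet.AMonS.map S (kap f Y)) ≫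
        μ[Magnet.AMonS S ↥(Y.comap f)]) =
      Magnet.AMonS.map S (AddMonoidHom.prod (Y.comap f).subtype (kap f Y)) := by
    rw [← Category.assoc, lift_map, ← Hom.mul_def, ← Magnet.AMonS.map_comp,
      ← Magnet.AMonS.map_comp]
    apply chrM_injective
    intro n
    rw [chrM_mul, chrM_map_id, chrM_map_id, chrM_map_id, ← chrM_add]
    congr 1
    exact Prod.ext (by simp) (by simp)
  exact SchFpqcCovH7.IsCov.of_factor _ _ _ (congrArg (fun k => k.left) hfac) hq

end Delta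

/-! ### The abstract comparison -/

section Gen

set_option backward.isDefEq.respectTransparency false
set_option backward.isDefEq.respectTransparency.types false

variable {S : Scheme.{u}} {GM GZ AN AY X : Over S} [GrpObj GM] [MonObj GZ] [MonObj AN] [MonObj AY]
  (π : GZ ⟶ GM) [IsMonHom π] (iN : GM ⟶ AN) [IsMonHom iN] (iY : GZ ⟶ AY) [IsMonHom iY]
  (c : AY ⟶ AN) [IsMonHom c] (a : Magnet.MonAct GM X)

omit [IsMonHom iN] [IsMonHom c] in
theorem m_pt {T' : Over S} (g : T' ⟶ GM) (y : T' ⟶ AY) :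
    lift g y ≫ (iN ⊗ₘ c) ≫ μ[AN] = (g ≫ iN) * (y ≫ c) := by
  rw [← Category.assoc, lift_map, ← Hom.mul_def]

theorem gen_inj (hm : SchFpqcCovH7.IsCov ((iN ⊗ₘ c) ≫ μ[AN]).left) (T : Over S)
    (φ₁ φ₂ : AN ⊗ T ⟶ X)
    (h₁ : Magnet.MonAct.IsEquivariant
      (((Magnet.MonAct.regular AN).restrict iN).prod (Magnet.MonAct.trivial GM T)) a φ₁)
    (h₂ : Magnet.MonAct.IsEquivariant
      (((Magnet.MonAct.regular AN).restrict iN).prod (Magnet.MonAct.trivial GM T)) a φ₂)
    (h : (c ▷ T) ≫ φ₁ = (c ▷ T) ≫ φ₂) : φ₁ = φ₂ := by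
  haveI : Epi (((iN ⊗ₘ c) ≫ μ[AN]) ▷ T) := SchFpqcCovH7.epi_of_isCov _
    (SchFpqcCovH7.isCov_whiskerRight _ T hm)
  rw [← cancel_epi (((iN ⊗ₘ c) ≫ μ[AN]) ▷ T)]
  apply Magnet.hom_ext_lift₂
  intro T' w t
  obtain ⟨g, y, rfl⟩ : ∃ g y, w = lift g y :=
    ⟨w ≫ fst _ _, w ≫ snd _ _, (lift_comp_fst_snd w).symm⟩
  have key : ∀ φ : AN ⊗ T ⟶ X, Magnet.MonAct.IsEquivariant
      (((Magnet.MonAct.regular AN).restrict iN).prod (Magnet.MonAct.trivial GM T)) a φ →
      lift (lift g y) t ≫ (((iN ⊗ₘ c) ≫ μ[AN]) ▷ T) ≫ φ =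
        lift g (lift y t ≫ (c ▷ T) ≫ φ) ≫ a.act := by
    intro φ hφ
    have hφ' := (Magnet.MonAct.mem_eqvHom_iff φ).mp hφ T' g (y ≫ c) t
    rw [Magnet.MonAct.lift_restrict_act, Magnet.MonAct.lift_regular_act] at hφ'
    rw [lift_whiskerRight_assoc, m_pt, hφ', lift_whiskerRight_assoc]
  rw [key φ₁ h₁, key φ₂ h₂, h]

theorem gen_surj (hsq : π ≫ iN = iY ≫ c) [Mono c]
    (hm : SchFpqcCovH7.IsCov ((iN ⊗ₘ c) ≫ μ[AN]).left)
    (hKP : ∀ (T' : Over S) (h : T' ⟶ GM) (y₁ y₂ : T' ⟶ AY), y₁ ≫ c = (h ≫ iN) * (y₂ ≫ c) →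
      ∃ (T'' : Over S) (e : T'' ⟶ T') (z : T'' ⟶ GZ),
        SchFpqcCovH7.IsCov e.left ∧ e ≫ h = z ≫ π)
    (T : Over S) (φ' : AY ⊗ T ⟶ X)
    (hφ' : Magnet.MonAct.IsEquivariant
      (((Magnet.MonAct.regular AY).restrict iY).prod (Magnet.MonAct.trivial GZ T))
      (a.restrict π) φ') :
    ∃ φ : AN ⊗ T ⟶ X, Magnet.MonAct.IsEquivariant
      (((Magnet.MonAct.regular AN).restrict iN).prod (Magnet.MonAct.trivial GM T)) a φ ∧
      (c ▷ T) ≫ φ = φ' := by
  have hcovT := SchFpqcCovH7.isCov_whiskerRight ((iN ⊗ₘ c) ≫ μ[AN]) T hm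
  have hE := (Magnet.MonAct.mem_eqvHom_iff φ').mp hφ'
  obtain ⟨φ, hφ⟩ := SchFpqcCovH7.desc_of_isCov (((iN ⊗ₘ c) ≫ μ[AN]) ▷ T) hcovT
    ((α_ GM AY T).hom ≫ (GM ◁ φ') ≫ a.act) (by
      intro T' a₁ a₂ h12
      obtain ⟨w₁, t₁, rfl⟩ : ∃ w t, a₁ = lift w t :=
        ⟨a₁ ≫ fst _ _, a₁ ≫ snd _ _, (lift_comp_fst_snd a₁).symm⟩
      obtain ⟨w₂, t₂, rfl⟩ : ∃ w t, a₂ = lift w t :=
        ⟨a₂ ≫ fst _ _, a₂ ≫ snd _ _, (lift_comp_fst_snd a₂).symm⟩
      obtain ⟨g₁, y₁, rfl⟩ : ∃ g y, w₁ = lift g y :=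
        ⟨w₁ ≫ fst _ _, w₁ ≫ snd _ _, (lift_comp_fst_snd w₁).symm⟩
      obtain ⟨g₂, y₂, rfl⟩ : ∃ g y, w₂ = lift g y :=
        ⟨w₂ ≫ fst _ _, w₂ ≫ snd _ _, (lift_comp_fst_snd w₂).symm⟩
      rw [lift_whiskerRight, lift_whiskerRight, m_pt, m_pt] at h12
      have hmm : (g₁ ≫ iN) * (y₁ ≫ c) = (g₂ ≫ iN) * (y₂ ≫ c) := by
        have := congrArg (fun m => m ≫ fst _ _) h12
        simpa using this
      have ht : t₁ = t₂ := by
        have := congrArg (fun m => m ≫ snd _ _) h12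
        simpa using this
      subst ht
      have hrel : y₁ ≫ c = ((g₁⁻¹ * g₂) ≫ iN) * (y₂ ≫ c) := by
        have h3 : ((g₁⁻¹ ≫ iN) * (g₁ ≫ iN)) = 1 := by
          rw [← MonObj.mul_comp, inv_mul_cancel, MonObj.one_comp]
        calc y₁ ≫ c = ((g₁⁻¹ ≫ iN) * (g₁ ≫ iN)) * (y₁ ≫ c) := by rw [h3, _root_.one_mul]
          _ = (g₁⁻¹ ≫ iN) * ((g₂ ≫ iN) * (y₂ ≫ c)) := by rw [_root_.mul_assoc, hmm]
          _ = _ := by rw [← _root_.mul_assoc, ← MonObj.mul_comp]
      obtain ⟨T'', e, z, he, hez⟩ := hKP T' (g₁⁻¹ * g₂) y₁ y₂ hrel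
      haveI : Epi e := SchFpqcCovH7.epi_of_isCov e he
      rw [← cancel_epi e]
      have hy : e ≫ y₁ = (z ≫ iY) * (e ≫ y₂) := by
        rw [← cancel_mono c, Category.assoc, hrel, MonObj.comp_mul, ← Category.assoc e, hez,
          Category.assoc z, hsq, MonObj.mul_comp, Category.assoc, Category.assoc]
      have hpt : ∀ (g : T' ⟶ GM) (y : T' ⟶ AY),
          e ≫ lift (lift g y) t₁ ≫ (α_ GM AY T).hom ≫ (GM ◁ φ') ≫ a.act =
            lift (e ≫ g) (lift (e ≫ y) (e ≫ t₁) ≫ φ') ≫ a.act := by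
        intro g y
        rw [← Category.assoc e, comp_lift, comp_lift, lift_lift_associator_hom_assoc,
          lift_whiskerLeft_assoc]
      have hg2 : e ≫ g₂ = (e ≫ g₁) * (z ≫ π) := by
        rw [← hez, MonObj.comp_mul, GrpObj.comp_inv, mul_inv_cancel_left]
      have hE' := hE T'' z (e ≫ y₂) (e ≫ t₁)
      rw [Magnet.MonAct.lift_restrict_act, Magnet.MonAct.lift_regular_act,
        Magnet.MonAct.lift_restrict_act] at hE'
      rw [hpt, hpt, hg2, Magnet.MonAct.lift_mul_act, hy, hE'])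
  have hH : ∀ (T' : Over S) (g : T' ⟶ GM) (y : T' ⟶ AY) (t : T' ⟶ T),
      lift ((g ≫ iN) * (y ≫ c)) t ≫ φ = lift g (lift y t ≫ φ') ≫ a.act := by
    intro T' g y t
    have h0 : lift (lift g y) t ≫ (((iN ⊗ₘ c) ≫ μ[AN]) ▷ T) ≫ φ =
        lift (lift g y) t ≫ (α_ GM AY T).hom ≫ (GM ◁ φ') ≫ a.act := by rw [hφ]
    rw [lift_whiskerRight_assoc, m_pt, lift_lift_associator_hom_assoc,
      lift_whiskerLeft_assoc] at h0
    exact h0
  have hEq : Magnet.MonAct.IsEquivariant
      (((Magnet.MonAct.regular AN).restrict iN).prod (Magnet.MonAct.trivial GM T)) a φ := by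
    haveI : Epi (GM ◁ (((iN ⊗ₘ c) ≫ μ[AN]) ▷ T)) := SchFpqcCovH7.epi_of_isCov _
      (SchFpqcCovH7.isCov_whiskerLeft GM (((iN ⊗ₘ c) ≫ μ[AN]) ▷ T) hcovT)
    unfold Magnet.MonAct.IsEquivariant
    rw [← cancel_epi (GM ◁ (((iN ⊗ₘ c) ≫ μ[AN]) ▷ T))]
    apply Magnet.hom_ext_lift₂
    intro T' g' w
    obtain ⟨w', t, rfl⟩ : ∃ w' t, w = lift w' t :=
      ⟨w ≫ fst _ _, w ≫ snd _ _, (lift_comp_fst_snd w).symm⟩
    obtain ⟨g, y, rfl⟩ : ∃ g y, w' = lift g y :=
      ⟨w' ≫ fst _ _, w' ≫ snd _ _, (lift_comp_fst_snd w').symm⟩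
    have hL : lift g' (lift (lift g y) t) ≫ (GM ◁ (((iN ⊗ₘ c) ≫ μ[AN]) ▷ T)) ≫
          (((Magnet.MonAct.regular AN).restrict iN).prod (Magnet.MonAct.trivial GM T)).act ≫ φ =
        lift (((g' * g) ≫ iN) * (y ≫ c)) t ≫ φ := by
      rw [lift_whiskerLeft_assoc, lift_whiskerRight, m_pt, Magnet.MonAct.lift_prod_act_assoc,
        Magnet.MonAct.lift_trivial_act, Magnet.MonAct.lift_restrict_act,
        Magnet.MonAct.lift_regular_act, ← _root_.mul_assoc, ← MonObj.mul_comp]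
    have hR : lift g' (lift (lift g y) t) ≫ (GM ◁ (((iN ⊗ₘ c) ≫ μ[AN]) ▷ T)) ≫ (GM ◁ φ) ≫ a.act =
        lift g' (lift ((g ≫ iN) * (y ≫ c)) t ≫ φ) ≫ a.act := by
      rw [lift_whiskerLeft_assoc, lift_whiskerLeft_assoc, lift_whiskerRight, m_pt]
    calc _ = lift (((g' * g) ≫ iN) * (y ≫ c)) t ≫ φ := hL
      _ = lift g' (lift ((g ≫ iN) * (y ≫ c)) t ≫ φ) ≫ a.act := by
        rw [hH T' (g' * g) y t, Magnet.MonAct.lift_mul_act, hH T' g y t]
      _ = _ := hR.symm
  refine ⟨φ, hEq, ?_⟩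
  apply Magnet.hom_ext_lift₂
  intro T' y t
  have h1 := hH T' 1 y t
  rw [MonObj.one_comp, _root_.one_mul, Magnet.MonAct.lift_one_act] at h1
  rw [lift_whiskerRight_assoc, h1]

end Gen

/-! ### Diagonalizable groups -/

theorem exists_lift (S : Scheme.{u}) {M N₀ Q : Type} [AddCommGroup M] [AddCommGroup N₀]
    [AddCommGroup Q] (f : N₀ →+ M) (p : M →+ Q) (hp : Function.Surjective p)
    (hker : ∀ m, p m = 0 ↔ ∃ n, f n = m) {T : Over S} (k : T ⟶ Magnet.AMonS S M)
    (hk : k ≫ Magnet.AMonS.map S f = 1) :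
    ∃ k' : T ⟶ Magnet.AMonS S Q, k' ≫ Magnet.AMonS.map S p = k := by
  rw [AttrFix.map_eq] at hk
  have h1 : ∀ n, DSDict.chr k (f n) = 1 := fun n => by
    rw [← DSDict.chr_DSmap, hk, DSDict.chr_one]
  have wd : ∀ m m', p m = p m' → DSDict.chr k m = DSDict.chr k m' := by
    intro m m' h
    obtain ⟨n, hn⟩ := (hker (m - m')).mp (by rw [map_sub, h, sub_self])
    have h3 : m = m' + f n := by rw [hn]; abel
    rw [h3, DSDict.chr_add, h1, _root_.mul_one]
  choose c hc using hp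
  let ψ : Multiplicative Q →* Γ(T.left, ⊤) :=
    { toFun := fun q => DSDict.chr k (c (Multiplicative.toAdd q))
      map_one' := (wd _ 0 (by rw [hc, map_zero]; rfl)).trans (DSDict.chr_zero k)
      map_mul' := fun q q' => by
        rw [← DSDict.chr_add]
        apply wd
        rw [map_add, hc, hc, hc]
        rfl }
  obtain ⟨k', hk'⟩ := DSDict.exists_chr_eq ψ
  refine ⟨k', ?_⟩
  rw [AttrFix.map_eq]
  apply DSDict.chr_injective
  intro m
  rw [DSDict.chr_DSmap, hk']
  exact wd _ _ (hc (p m))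

section Main

variable {M Z : Type} [AddCommGroup M] [AddCommGroup Z]

theorem hKP_DS (S : Scheme.{u}) (f : M →+ Z) (Y : AddSubmonoid Z)
    (T' : Over S) (h : T' ⟶ Magnet.AMonS S M) (y₁ y₂ : T' ⟶ Magnet.AMonS S ↥Y)
    (hrel : y₁ ≫ Magnet.AMonS.map S (kap f Y) =
      (h ≫ Magnet.AMonS.map S (Y.comap f).subtype) * (y₂ ≫ Magnet.AMonS.map S (kap f Y))) :
    ∃ (T'' : Over S) (e : T'' ⟶ T') (z : T'' ⟶ Magnet.AMonS S Z),
      SchFpqcCovH7.IsCov e.left ∧ e ≫ h = z ≫ Magnet.AMonS.map S f := by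
  have hmemK : ∀ k : ↥f.ker, f.ker.subtype k ∈ Y.comap f := by
    intro k
    show f k.1 ∈ Y
    rw [(AddMonoidHom.mem_ker).mp k.2]
    exact Y.zero_mem
  have hzero : ∀ y : T' ⟶ Magnet.AMonS S ↥Y,
      y ≫ Magnet.AMonS.map S (kap f Y) ≫
        Magnet.AMonS.map S ((f.ker.subtype).codRestrict (Y.comap f) hmemK) = 1 := by
    intro y
    apply DSDict.chr_injective
    intro k
    rw [DSDict.chr_one]
    show chrM (y ≫ Magnet.AMonS.map S (kap f Y) ≫
      Magnet.AMonS.map S ((f.ker.subtype).codRestrict (Y.comap f) hmemK)) k = 1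
    rw [← Category.assoc, chrM_map, chrM_map]
    have h0 : kap f Y (((f.ker.subtype).codRestrict (Y.comap f) hmemK) k) = 0 :=
      Subtype.ext ((AddMonoidHom.mem_ker).mp k.2)
    rw [h0, chrM_zero]
  have ha : h ≫ Magnet.AMonS.map S f.ker.subtype = 1 := by
    have h1 := congrArg
      (fun w => w ≫ Magnet.AMonS.map S ((f.ker.subtype).codRestrict (Y.comap f) hmemK)) hrel
    beta_reduce at h1
    rw [Category.assoc, hzero, MonObj.mul_comp, Category.assoc, Category.assoc, hzero,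
      _root_.mul_one, ← Magnet.AMonS.map_comp] at h1
    exact h1.symm
  obtain ⟨hbar, hhbar⟩ := exists_lift S f.ker.subtype (QuotientAddGroup.mk' f.ker)
    (QuotientAddGroup.mk'_surjective _)
    (fun m => by
      rw [QuotientAddGroup.mk'_apply, QuotientAddGroup.eq_zero_iff]
      exact ⟨fun h => ⟨⟨m, h⟩, rfl⟩, fun ⟨n, hn⟩ => hn ▸ n.2⟩) h ha
  have hcov : SchFpqcCovH7.IsCov (Magnet.AMonS.map S (QuotientAddGroup.kerLift f)).left :=
    AttrFix.isCov_map S _ (QuotientAddGroup.kerLift_injective f) (QuotientAddGroup.kerLift f).range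
      (fun m => AddMonoidHom.mem_range)
  refine ⟨Limits.pullback hbar (Magnet.AMonS.map S (QuotientAddGroup.kerLift f)),
    pullback.fst hbar (Magnet.AMonS.map S (QuotientAddGroup.kerLift f)),
    pullback.snd hbar (Magnet.AMonS.map S (QuotientAddGroup.kerLift f)), ?_, ?_⟩
  · have sq := (IsPullback.of_hasPullback hbar
      (Magnet.AMonS.map S (QuotientAddGroup.kerLift f))).flip.map (Over.forget S)
    exact SchFpqcCovH7.IsCov.of_isPullback sq hcov
  · have hcomp : (QuotientAddGroup.kerLift f).comp (QuotientAddGroup.mk' f.ker) = f :=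
      AddMonoidHom.ext (fun m => QuotientAddGroup.kerLift_mk f m)
    rw [← hhbar, ← Category.assoc, pullback.condition, Category.assoc, ← Magnet.AMonS.map_comp,
      hcomp]

theorem main98 (S : Scheme.{u}) (f : M →+ Z) (Y : AddSubmonoid Z)
    (hY : Y ≤ AddMonoidHom.mrange f) (X : Over S) (a : AlgGrp.Action (Red.DS S M) X) :
    IsIso (Magnet.attrComap (Magnet.MonAct.ofAction a) f Y) := by
  have hsq : Magnet.AMonS.map S f ≫ Magnet.AMonS.map S (Y.comap f).subtype =
      Magnet.AMonS.map S Y.subtype ≫ Magnet.AMonS.map S (kap f Y) := by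
    rw [← Magnet.AMonS.map_comp, ← Magnet.AMonS.map_comp]; rfl
  haveI : Mono (Magnet.AMonS.map S (kap f Y)) :=
    mono_map_of_surjective (S := S) _ (kap_surjective f Y hY)
  have hm := isCov_m S f Y hY
  rw [NatTrans.isIso_iff_isIso_app]
  intro T
  rw [isIso_iff_bijective]
  constructor
  · intro φ₁ φ₂ h
    apply Subtype.ext
    have h' : (Magnet.AMonS.map S (kap f Y) ▷ unop T) ≫ φ₁.1 =
        (Magnet.AMonS.map S (kap f Y) ▷ unop T) ≫ φ₂.1 := congrArg Subtype.val h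
    exact gen_inj (Magnet.AMonS.map S (Y.comap f).subtype) (Magnet.AMonS.map S (kap f Y))
      (Magnet.MonAct.ofAction a) hm (unop T) φ₁.1 φ₂.1 φ₁.2 φ₂.2 h'
  · intro ψ
    obtain ⟨φ, hφ, hres⟩ := gen_surj (Magnet.AMonS.map S f) (Magnet.AMonS.map S (Y.comap f).subtype)
      (Magnet.AMonS.map S Y.subtype) (Magnet.AMonS.map S (kap f Y)) (Magnet.MonAct.ofAction a)
      hsq hm (hKP_DS S f Y) (unop T) ψ.1 ψ.2
    exact ⟨⟨φ, hφ⟩, Subtype.ext hres⟩

end Main

end Groth.Agent.Lib.AttrComap
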