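import Mathlib

set_option autoImplicit false
set_option maxHeartbeats 1000000

/-!
# Graded pieces of the augmentation filtration of a commutative bialgebra (helper1)

Part A: Leibniz rule for convolution powers of an `ε`-derivation.
Part B-D: `dim I^n/I^(n+1) = C(r+n-1,n)` when `n! ≠ 0`.
-/

namespace AugGrH1

open TensorProduct WithConv

universe u v w

section PartA

variable {k : Type u} [CommRing k] {A : Type v} [CommRing A] [Bialgebra k A]
  {R : Type w} [CommRing R] [Algebra k R]

noncomputable def T (f g : WithConv (A →ₗ[k] R)) : WithConv (A ⊗[k] A →ₗ[k] R) :=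
  toConv ((Algebra.TensorProduct.lmul' k (S := R)).toLinearMap ∘ₗ
    TensorProduct.map f.ofConv g.ofConv)

theorem T_apply (f g : WithConv (A →ₗ[k] R)) (a b : A) :
    (T f g).ofConv (a ⊗ₜ[k] b) = f.ofConv a * g.ofConv b := by
  simp [T]

theorem T_mul (f g f' g' : WithConv (A →ₗ[k] R)) : T f g * T f' g' = T (f * f') (g * g') := by
  apply WithConv.ext
  have h1 := LinearMap.algHom_comp_convMul_distrib (Algebra.TensorProduct.lmul' k (S := R))
    (toConv (TensorProduct.map f.ofConv g.ofConv))
    (toConv (TensorProduct.map f'.ofConv g'.ofConv))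
  rw [TensorProduct.map_convMul_map] at h1
  exact h1.symm

noncomputable def M (f : WithConv (A →ₗ[k] R)) : WithConv (A ⊗[k] A →ₗ[k] R) :=
  toConv (f.ofConv.comp (Bialgebra.mulCoalgHom k A).toLinearMap)

theorem M_apply (f : WithConv (A →ₗ[k] R)) (a b : A) :
    (M f).ofConv (a ⊗ₜ[k] b) = f.ofConv (a * b) := by
  simp [M]

theorem M_mul (f g : WithConv (A →ₗ[k] R)) : M (f * g) = M f * M g := by
  apply WithConv.ext
  exact LinearMap.convMul_comp_coalgHom_distrib f g (Bialgebra.mulCoalgHom k A)

theorem M_one : M (1 : WithConv (A →ₗ[k] R)) = 1 := by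
  apply WithConv.ext
  apply TensorProduct.ext'
  intro a b
  rw [M_apply]
  show algebraMap k R (Coalgebra.counit (R := k) (a * b)) =
    algebraMap k R (Coalgebra.counit (R := k) (a ⊗ₜ[k] b))
  rw [Bialgebra.counit_mul, TensorProduct.counit_tmul, smul_eq_mul, mul_comm]

theorem M_pow (f : WithConv (A →ₗ[k] R)) (m : ℕ) : M (f ^ m) = (M f) ^ m := by
  induction m with
  | zero => rw [pow_zero, pow_zero, M_one]
  | succ m ih => rw [pow_succ, pow_succ, M_mul, ih]

theorem T_one : T (1 : WithConv (A →ₗ[k] R)) 1 = 1 := by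
  apply WithConv.ext
  apply TensorProduct.ext'
  intro a b
  rw [T_apply]
  show algebraMap k R (Coalgebra.counit (R := k) a) * algebraMap k R (Coalgebra.counit (R := k) b) =
    algebraMap k R (Coalgebra.counit (R := k) (a ⊗ₜ[k] b))
  rw [TensorProduct.counit_tmul, smul_eq_mul, map_mul, mul_comm]

theorem T_pow_left (f : WithConv (A →ₗ[k] R)) (m : ℕ) : (T f 1) ^ m = T (f ^ m) 1 := by
  induction m with
  | zero => rw [pow_zero, pow_zero, T_one]
  | succ m ih => rw [pow_succ, pow_succ, ih, T_mul, mul_one]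

theorem T_pow_right (f : WithConv (A →ₗ[k] R)) (m : ℕ) : (T 1 f) ^ m = T 1 (f ^ m) := by
  induction m with
  | zero => rw [pow_zero, pow_zero, T_one]
  | succ m ih => rw [pow_succ, pow_succ, ih, T_mul, mul_one]

theorem leibniz (D : WithConv (A →ₗ[k] R))
    (hD : ∀ a b : A, D.ofConv (a * b) =
      Coalgebra.counit (R := k) a • D.ofConv b + Coalgebra.counit (R := k) b • D.ofConv a)
    (m : ℕ) (a b : A) :
    (D ^ m).ofConv (a * b) = ∑ p ∈ Finset.HasAntidiagonal.antidiagonal m,
      (m.choose p.1) • ((D ^ p.1).ofConv a * (D ^ p.2).ofConv b) := by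
  have hM : M D = T D 1 + T 1 D := by
    apply WithConv.ext
    apply TensorProduct.ext'
    intro a b
    rw [M_apply, ofConv_add, LinearMap.add_apply, T_apply, T_apply, hD]
    show _ = D.ofConv a * algebraMap k R (Coalgebra.counit (R := k) b) +
      algebraMap k R (Coalgebra.counit (R := k) a) * D.ofConv b
    rw [Algebra.smul_def, Algebra.smul_def]
    ring
  have hcomm : Commute (T D 1) (T 1 D) := by
    show T D 1 * T 1 D = T 1 D * T D 1
    rw [T_mul, T_mul, mul_one, one_mul]
  have h1 : M (D ^ m) = ∑ p ∈ Finset.HasAntidiagonal.antidiagonal m,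
      (m.choose p.1) • T (D ^ p.1) (D ^ p.2) := by
    rw [M_pow, hM, hcomm.add_pow']
    refine Finset.sum_congr rfl (fun p _ => ?_)
    rw [T_pow_left, T_pow_right, T_mul, mul_one, one_mul]
  have h2 := congrArg (fun F => F.ofConv (a ⊗ₜ[k] b)) h1
  simp only [M_apply, ofConv_sum, LinearMap.sum_apply] at h2
  rw [h2]
  refine Finset.sum_congr rfl (fun p _ => ?_)
  have h3 : ((m.choose p.1) • T (D ^ p.1) (D ^ p.2)).ofConv =
      (m.choose p.1) • (T (D ^ p.1) (D ^ p.2)).ofConv :=
    map_nsmul (WithConv.addEquiv _) _ _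
  rw [h3, LinearMap.smul_apply, T_apply]

end PartA

section PartB

variable {k : Type u} [Field k] {A : Type v} [CommRing A] [Bialgebra k A]

variable (k A) in
/-- augmentation ideal -/
abbrev II : Ideal A := RingHom.ker (Bialgebra.counitAlgHom k A)

theorem mem_II (a : A) : a ∈ II k A ↔ Coalgebra.counit (R := k) a = 0 := by
  rw [RingHom.mem_ker]; rfl

theorem sub_counit_mem (a : A) :
    a - algebraMap k A (Coalgebra.counit (R := k) a) ∈ II k A := by
  rw [mem_II, map_sub, Bialgebra.counit_algebraMap, sub_self]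

/-- class of `a - ε(a)` in the cotangent space -/
noncomputable def cc : A →ₗ[k] (II k A).Cotangent where
  toFun a := (II k A).toCotangent
    ⟨a - algebraMap k A (Coalgebra.counit (R := k) a), sub_counit_mem a⟩
  map_add' a b := by
    rw [← map_add]
    congr 1
    apply Subtype.ext
    show (a + b) - algebraMap k A (Coalgebra.counit (R := k) (a + b)) =
      (a - algebraMap k A (Coalgebra.counit (R := k) a)) +
        (b - algebraMap k A (Coalgebra.counit (R := k) b))
    rw [map_add, map_add]; ring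
  map_smul' c a := by
    rw [RingHom.id_apply, ← LinearMap.map_smul_of_tower]
    congr 1
    apply Subtype.ext
    show c • a - algebraMap k A (Coalgebra.counit (R := k) (c • a)) =
      c • (a - algebraMap k A (Coalgebra.counit (R := k) a))
    rw [map_smul, smul_eq_mul, map_mul, smul_sub, ← Algebra.smul_def]

theorem cc_apply (a : A) : cc (k := k) a = (II k A).toCotangent
    ⟨a - algebraMap k A (Coalgebra.counit (R := k) a), sub_counit_mem a⟩ := rfl

theorem cc_of_mem (y : A) (hy : y ∈ II k A) : cc (k := k) y = (II k A).toCotangent ⟨y, hy⟩ := by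
  rw [cc_apply]
  congr 1
  apply Subtype.ext
  show y - algebraMap k A (Coalgebra.counit (R := k) y) = y
  rw [(mem_II y).mp hy, map_zero, sub_zero]

theorem cc_mul (a b : A) : cc (k := k) (a * b) =
    Coalgebra.counit (R := k) a • cc (k := k) b + Coalgebra.counit (R := k) b • cc (k := k) a := by
  rw [cc_apply, cc_apply, cc_apply]
  rw [← LinearMap.map_smul_of_tower, ← LinearMap.map_smul_of_tower, ← map_add]
  refine (Ideal.toCotangent_eq _).mpr ?_
  have h0 : (a * b - algebraMap k A (Coalgebra.counit (R := k) (a * b))) -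
      (Coalgebra.counit (R := k) a • (b - algebraMap k A (Coalgebra.counit (R := k) b)) +
       Coalgebra.counit (R := k) b • (a - algebraMap k A (Coalgebra.counit (R := k) a))) =
      (a - algebraMap k A (Coalgebra.counit (R := k) a)) *
        (b - algebraMap k A (Coalgebra.counit (R := k) b)) := by
    rw [Bialgebra.counit_mul, map_mul, Algebra.smul_def, Algebra.smul_def]; ring
  show (a * b - algebraMap k A (Coalgebra.counit (R := k) (a * b))) -
      (Coalgebra.counit (R := k) a • (b - algebraMap k A (Coalgebra.counit (R := k) b)) +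
       Coalgebra.counit (R := k) b • (a - algebraMap k A (Coalgebra.counit (R := k) a))) ∈
      II k A ^ 2
  rw [h0, pow_two]
  exact Ideal.mul_mem_mul (sub_counit_mem a) (sub_counit_mem b)

variable {r : ℕ} (b : Module.Basis (Fin r) k (II k A).Cotangent)

noncomputable def LL : (II k A).Cotangent →ₗ[k] MvPolynomial (Fin r) k :=
  b.constr k (fun i => (MvPolynomial.X i : MvPolynomial (Fin r) k))

theorem LL_apply (ξ : (II k A).Cotangent) :
    LL b ξ = ∑ i, b.repr ξ i • (MvPolynomial.X i : MvPolynomial (Fin r) k) := by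
  unfold LL; rw [Module.Basis.constr_apply_fintype]; rfl

theorem LL_injective : Function.Injective (LL b) := by
  classical
  rw [injective_iff_map_eq_zero]
  intro ξ h
  apply b.ext_elem
  intro i
  have h1 := congrArg (MvPolynomial.coeff (Finsupp.single i 1)) h
  rw [LL_apply, MvPolynomial.coeff_sum] at h1
  simp only [MvPolynomial.coeff_smul, MvPolynomial.coeff_X, MvPolynomial.coeff_zero] at h1
  rw [Finset.sum_eq_single i] at h1
  · simpa using h1
  · intro j _ hj
    rw [if_neg, smul_zero]
    intro h'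
    exact hj (Finsupp.single_left_injective one_ne_zero h')
  · intro h'; exact absurd (Finset.mem_univ i) h'

noncomputable def DD : A →ₗ[k] MvPolynomial (Fin r) k := LL b ∘ₗ cc

noncomputable def xs (i : Fin r) : A :=
  ((Classical.choose ((II k A).toCotangent_surjective (b i)) : II k A) : A)

theorem xs_mem (i : Fin r) : xs b i ∈ II k A :=
  (Classical.choose ((II k A).toCotangent_surjective (b i))).2

theorem toCotangent_xs (i : Fin r) : (II k A).toCotangent ⟨xs b i, xs_mem b i⟩ = b i :=
  Classical.choose_spec ((II k A).toCotangent_surjective (b i))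

theorem DD_xs (i : Fin r) : DD b (xs b i) = MvPolynomial.X i := by
  show LL b (cc (xs b i)) = _
  rw [cc_of_mem _ (xs_mem b i), toCotangent_xs]
  unfold LL
  exact b.constr_basis k _ i

theorem DD_mul (a c : A) : DD b (a * c) =
    Coalgebra.counit (R := k) a • DD b c + Coalgebra.counit (R := k) c • DD b a := by
  show LL b (cc (a * c)) = _
  rw [cc_mul, map_add, map_smul, map_smul]; rfl

noncomputable def psi : MvPolynomial (Fin r) k →ₐ[k] A := MvPolynomial.aeval (xs b)

theorem F4 (l : MvPolynomial (Fin r) k)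
    (hl : l ∈ MvPolynomial.homogeneousSubmodule (Fin r) k 1) :
    psi b l ∈ II k A ∧ DD b (psi b l) = l := by
  rw [MvPolynomial.homogeneousSubmodule_one_eq_span_X] at hl
  refine Submodule.span_induction
    (p := fun l _ => psi b l ∈ II k A ∧ DD b (psi b l) = l) ?_ ?_ ?_ ?_ hl
  · rintro _ ⟨i, rfl⟩
    have h0 : psi b (MvPolynomial.X i) = xs b i := MvPolynomial.aeval_X _ i
    rw [h0]; exact ⟨xs_mem b i, DD_xs b i⟩
  · rw [map_zero, map_zero]; exact ⟨zero_mem _, rfl⟩
  · intro x y _ _ hx hy
    rw [map_add, map_add]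
    exact ⟨add_mem hx.1 hy.1, by rw [hx.2, hy.2]⟩
  · intro c x _ hx
    rw [map_smul, map_smul]
    refine ⟨?_, by rw [hx.2]⟩
    rw [Algebra.smul_def]; exact Ideal.mul_mem_left _ _ hx.1

theorem F5 (w : A) (hw : w ∈ II k A) (h : DD b w = 0) : w ∈ II k A ^ 2 := by
  have h1 : LL b (cc w) = 0 := h
  have h2 : cc (k := k) w = 0 := LL_injective b (by rw [h1, map_zero])
  rw [cc_of_mem w hw, Ideal.toCotangent_eq_zero] at h2
  exact h2

theorem DD_mem_H1 (a : A) : DD b a ∈ MvPolynomial.homogeneousSubmodule (Fin r) k 1 := by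
  show LL b (cc a) ∈ _
  rw [LL_apply]
  exact Submodule.sum_mem _ (fun i _ => Submodule.smul_mem _ _ (MvPolynomial.isHomogeneous_X k i))

/-- `DD` as an element of the convolution ring. -/
noncomputable def Dc : WithConv (A →ₗ[k] MvPolynomial (Fin r) k) := toConv (DD b)

theorem hDc (a c : A) : (Dc b).ofConv (a * c) =
    Coalgebra.counit (R := k) a • (Dc b).ofConv c + Coalgebra.counit (R := k) c • (Dc b).ofConv a :=
  DD_mul b a c

theorem pow_zero_apply (v : A) : ((Dc b) ^ 0).ofConv v =
    algebraMap k (MvPolynomial (Fin r) k) (Coalgebra.counit (R := k) v) := by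
  rw [pow_zero]; rfl

theorem vanish (s : ℕ) : ∀ y ∈ II k A ^ s, ∀ m < s, ((Dc b) ^ m).ofConv y = 0 := by
  induction s with
  | zero => intro y _ m hm; exact absurd hm (Nat.not_lt_zero m)
  | succ s ih =>
    intro y hy m hm
    rw [pow_succ] at hy
    refine Submodule.mul_induction_on hy ?_ ?_
    · intro u hu v hv
      rw [leibniz (Dc b) (hDc b) m u v]
      apply Finset.sum_eq_zero
      intro p hp
      rw [Finset.HasAntidiagonal.mem_antidiagonal] at hp
      by_cases h2 : p.2 = 0
      · have h3 : ((Dc b) ^ p.2).ofConv v = 0 := by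
          rw [h2, pow_zero_apply, (mem_II v).mp hv, map_zero]
        rw [h3, mul_zero, smul_zero]
      · have h3 : ((Dc b) ^ p.1).ofConv u = 0 := ih u hu p.1 (by omega)
        rw [h3, zero_mul, smul_zero]
    · intro x y hx hy
      rw [map_add, hx, hy, add_zero]

theorem top_formula (s : ℕ) (u v : A) (hu : u ∈ II k A ^ s) (hv : v ∈ II k A) :
    ((Dc b) ^ (s + 1)).ofConv (u * v) = (s + 1) • (((Dc b) ^ s).ofConv u * DD b v) := by
  rw [leibniz (Dc b) (hDc b) (s + 1) u v]
  rw [Finset.sum_eq_single (s, 1)]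
  · dsimp only
    rw [Nat.choose_succ_self_right, pow_one]; rfl
  · intro p hp hne
    rw [Finset.HasAntidiagonal.mem_antidiagonal] at hp
    by_cases h2 : p.2 = 0
    · have h3 : ((Dc b) ^ p.2).ofConv v = 0 := by
        rw [h2, pow_zero_apply, (mem_II v).mp hv, map_zero]
      rw [h3, mul_zero, smul_zero]
    · have hp2 : 2 ≤ p.2 := by
        by_contra hc
        apply hne
        have h1 : p.2 = 1 := by omega
        have h0 : p.1 = s := by omega
        exact Prod.ext h0 h1
      have h3 : ((Dc b) ^ p.1).ofConv u = 0 := vanish b s u hu p.1 (by omega)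
      rw [h3, zero_mul, smul_zero]
  · intro h
    exact absurd (Finset.HasAntidiagonal.mem_antidiagonal.mpr
      (rfl : (s, 1).1 + (s, 1).2 = s + 1)) h

theorem psi_pow (n : ℕ) : ∀ q ∈ (MvPolynomial.homogeneousSubmodule (Fin r) k 1) ^ n,
    psi b q ∈ II k A ^ n ∧ ((Dc b) ^ n).ofConv (psi b q) = n.factorial • q := by
  induction n with
  | zero =>
    intro q hq
    rw [pow_zero, Submodule.mem_one] at hq
    obtain ⟨c, rfl⟩ := hq
    refine ⟨by rw [pow_zero, Ideal.one_eq_top]; exact Submodule.mem_top, ?_⟩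
    rw [pow_zero_apply, Nat.factorial_zero, one_smul, AlgHom.commutes,
      Bialgebra.counit_algebraMap]
  | succ n ih =>
    intro q hq
    rw [pow_succ] at hq
    refine Submodule.mul_induction_on hq ?_ ?_
    · intro u hu l hl
      obtain ⟨hu1, hu2⟩ := ih u hu
      obtain ⟨hl1, hl2⟩ := F4 b l hl
      rw [map_mul]
      refine ⟨by rw [pow_succ]; exact Ideal.mul_mem_mul hu1 hl1, ?_⟩
      rw [top_formula b n _ _ hu1 hl1, hu2, hl2, smul_mul_assoc, ← mul_smul,
        ← Nat.factorial_succ]
    · intro x y hx hy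
      rw [map_add]
      exact ⟨add_mem hx.1 hy.1, by rw [map_add, hx.2, hy.2, smul_add]⟩

theorem inj_key (n : ℕ) (hn : (n.factorial : k) ≠ 0) (q : MvPolynomial (Fin r) k)
    (hq : q ∈ MvPolynomial.homogeneousSubmodule (Fin r) k n)
    (h : psi b q ∈ II k A ^ (n + 1)) : q = 0 := by
  rw [← MvPolynomial.homogeneousSubmodule_one_pow] at hq
  have h1 := (psi_pow b n q hq).2
  rw [vanish b (n + 1) _ h n (Nat.lt_succ_self n)] at h1
  rw [← Nat.cast_smul_eq_nsmul k] at h1
  exact (smul_eq_zero.mp h1.symm).resolve_left hn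

theorem span_key (n : ℕ) : ∀ y ∈ II k A ^ n,
    ∃ q ∈ (MvPolynomial.homogeneousSubmodule (Fin r) k 1) ^ n,
      y - psi b q ∈ II k A ^ (n + 1) := by
  induction n with
  | zero =>
    intro y _
    refine ⟨algebraMap k _ (Coalgebra.counit (R := k) y), ?_, ?_⟩
    · rw [pow_zero, Submodule.mem_one]; exact ⟨_, rfl⟩
    · rw [zero_add, pow_one, AlgHom.commutes]; exact sub_counit_mem y
  | succ n ih =>
    intro y hy
    rw [pow_succ] at hy
    refine Submodule.mul_induction_on hy ?_ ?_
    · intro u hu v hv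
      obtain ⟨qu, hqu, hu'⟩ := ih u hu
      have hl := DD_mem_H1 b v
      obtain ⟨hl1, hl2⟩ := F4 b _ hl
      have hw : v - psi b (DD b v) ∈ II k A ^ 2 := by
        apply F5 b _ (sub_mem hv hl1)
        rw [map_sub, hl2, sub_self]
      refine ⟨qu * DD b v, ?_, ?_⟩
      · rw [pow_succ]; exact Submodule.mul_mem_mul hqu hl
      · have hqu1 := (psi_pow b n qu hqu).1
        have h0 : u * v - psi b (qu * DD b v) =
            (u - psi b qu) * v + psi b qu * (v - psi b (DD b v)) := by
          rw [map_mul]; ring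
        rw [h0]
        apply add_mem
        · rw [pow_succ]; exact Ideal.mul_mem_mul hu' hv
        · rw [show n + 1 + 1 = n + 2 from rfl, pow_add]; exact Ideal.mul_mem_mul hqu1 hw
    · rintro x y ⟨qx, hqx, hx⟩ ⟨qy, hqy, hy⟩
      refine ⟨qx + qy, add_mem hqx hqy, ?_⟩
      rw [map_add, show x + y - (psi b qx + psi b qy) = (x - psi b qx) + (y - psi b qy) by ring]
      exact add_mem hx hy

/-! ### dimension count -/

variable (k A) in
noncomputable def qq (n : ℕ) : (A ⧸ II k A ^ (n + 1)) →ₗ[k] (A ⧸ II k A ^ n) :=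
  (Ideal.Quotient.factorₐ k (Ideal.pow_le_pow_right (Nat.le_succ n))).toLinearMap

theorem qq_mk (n : ℕ) (y : A) :
    qq k A n (Ideal.Quotient.mk _ y) = Ideal.Quotient.mk _ y := rfl

theorem qq_surjective (n : ℕ) : Function.Surjective (qq k A n) := by
  intro v
  obtain ⟨y, rfl⟩ := Ideal.Quotient.mk_surjective v
  exact ⟨Ideal.Quotient.mk _ y, rfl⟩

noncomputable def theta (n : ℕ) :
    ↥((MvPolynomial.homogeneousSubmodule (Fin r) k 1) ^ n) →ₗ[k] (A ⧸ II k A ^ (n + 1)) :=
  (Ideal.Quotient.mkₐ k (II k A ^ (n + 1))).toLinearMap ∘ₗ (psi b).toLinearMap ∘ₗ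
    ((MvPolynomial.homogeneousSubmodule (Fin r) k 1) ^ n).subtype

theorem theta_apply (n : ℕ) (q : ↥((MvPolynomial.homogeneousSubmodule (Fin r) k 1) ^ n)) :
    theta b n q = Ideal.Quotient.mk _ (psi b q.1) := rfl

theorem ker_eq_range (n : ℕ) : LinearMap.ker (qq k A n) = LinearMap.range (theta b n) := by
  apply le_antisymm
  · intro v hv
    obtain ⟨y, rfl⟩ := Ideal.Quotient.mk_surjective v
    rw [LinearMap.mem_ker, qq_mk, Ideal.Quotient.eq_zero_iff_mem] at hv
    obtain ⟨q, hq, hyq⟩ := span_key b n y hv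
    refine ⟨⟨q, hq⟩, ?_⟩
    rw [theta_apply, eq_comm, Ideal.Quotient.mk_eq_mk_iff_sub_mem]; exact hyq
  · rintro _ ⟨⟨q, hq⟩, rfl⟩
    rw [LinearMap.mem_ker, theta_apply, qq_mk]
    exact Ideal.Quotient.eq_zero_iff_mem.mpr (psi_pow b n q hq).1

theorem theta_injective (n : ℕ) (hn : (n.factorial : k) ≠ 0) : Function.Injective (theta b n) := by
  rw [injective_iff_map_eq_zero]
  rintro ⟨q, hq⟩ h
  rw [theta_apply, Ideal.Quotient.eq_zero_iff_mem] at h
  have hq' : q ∈ MvPolynomial.homogeneousSubmodule (Fin r) k n := by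
    rwa [MvPolynomial.homogeneousSubmodule_one_pow] at hq
  exact Subtype.ext (inj_key b n hn q hq' h)

theorem finrank_H (r n : ℕ) :
    Module.finrank k ↥((MvPolynomial.homogeneousSubmodule (Fin r) k 1) ^ n) =
      Nat.choose (r + n - 1) n := by
  classical
  rw [MvPolynomial.homogeneousSubmodule_one_pow,
    MvPolynomial.homogeneousSubmodule_eq_finsupp_supported]
  have hset : {d : Fin r →₀ ℕ | d.degree = n} =
      ↑((Finset.univ : Finset (Fin r)).finsuppAntidiag n) := by
    ext d
    simp [Finset.mem_finsuppAntidiag, Finsupp.degree_eq_sum]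
  rw [hset]
  rw [LinearEquiv.finrank_eq (AddMonoidAlgebra.supportedEquivFinsupp _)]
  rw [Module.finrank_finsupp_self, Fintype.card_eq_nat_card, Nat.card_coe_set_eq,
    Set.ncard_coe_finset, Finset.card_finsuppAntidiag_nat_eq_choose,
    Finset.card_univ, Fintype.card_fin]

include b in
theorem finite_quot (m : ℕ) : Module.Finite k (A ⧸ II k A ^ m) := by
  induction m with
  | zero =>
    haveI : Subsingleton (A ⧸ II k A ^ 0) := by
      rw [pow_zero, Ideal.one_eq_top]; exact Ideal.Quotient.subsingleton_iff.mpr rfl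
    infer_instance
  | succ n ih =>
    haveI := ih
    haveI : Module.Finite k (LinearMap.ker (qq k A n)) := by
      rw [ker_eq_range b n]
      haveI : Module.Finite k ↥((MvPolynomial.homogeneousSubmodule (Fin r) k 1) ^ n) := by
        rw [MvPolynomial.homogeneousSubmodule_one_pow]
        exact Module.Finite.iff_fg.mpr (MvPolynomial.homogeneousSubmodule_fg (Fin r) k n)
      exact Module.Finite.range (theta b n)
    haveI : Module.Finite k ((A ⧸ II k A ^ (n + 1)) ⧸ LinearMap.ker (qq k A n)) :=
      Module.Finite.equiv (LinearMap.quotKerEquivOfSurjective (qq k A n) (qq_surjective n)).symm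
    exact Module.Finite.of_submodule_quotient (LinearMap.ker (qq k A n))

include b in
theorem finrank_formula (n : ℕ) (hn : (n.factorial : k) ≠ 0) :
    Module.finrank k (A ⧸ II k A ^ (n + 1)) =
      Module.finrank k (A ⧸ II k A ^ n) + Nat.choose (r + n - 1) n := by
  haveI := finite_quot b (n + 1)
  have h1 := Submodule.finrank_quotient_add_finrank (LinearMap.ker (qq k A n))
  have h2 : Module.finrank k ((A ⧸ II k A ^ (n + 1)) ⧸ LinearMap.ker (qq k A n)) =
      Module.finrank k (A ⧸ II k A ^ n) :=
    LinearEquiv.finrank_eq (LinearMap.quotKerEquivOfSurjective (qq k A n) (qq_surjective n))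
  have h3 : Module.finrank k (LinearMap.ker (qq k A n)) = Nat.choose (r + n - 1) n := by
    rw [ker_eq_range b n, LinearMap.finrank_range_of_inj (theta_injective b n hn), finrank_H]
  rw [← h1, h2, h3]

end PartB

section Final

variable {k : Type u} [Field k] {A : Type v} [CommRing A] [Bialgebra k A]

theorem cotangent_finite [Algebra.FiniteType k A] : Module.Finite k (II k A).Cotangent := by
  haveI : IsNoetherianRing A := Algebra.FiniteType.isNoetherianRing k A
  haveI : Module.Finite A (II k A).Cotangent :=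
    Module.Finite.of_surjective (II k A).toCotangent (II k A).toCotangent_surjective
  obtain ⟨S, hS⟩ := (Module.Finite.fg_top : (⊤ : Submodule A (II k A).Cotangent).FG)
  refine ⟨⟨S, ?_⟩⟩
  rw [eq_top_iff]
  intro ξ _
  have hξ : ξ ∈ Submodule.span A (S : Set (II k A).Cotangent) := by rw [hS]; trivial
  refine Submodule.span_induction
    (p := fun ξ _ => ξ ∈ Submodule.span k (S : Set (II k A).Cotangent)) ?_ ?_ ?_ ?_ hξ
  · intro x hx; exact Submodule.subset_span hx
  · exact zero_mem _
  · intro x y _ _ hx hy; exact add_mem hx hy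
  · intro a x _ hx
    have h1 : a • x = (Coalgebra.counit (R := k) a) • x := by
      have h0 := Ideal.Cotangent.smul_eq_zero_of_mem (sub_counit_mem (k := k) a) x
      rw [sub_smul, sub_eq_zero] at h0
      rw [h0, algebraMap_smul]
    rw [h1]; exact Submodule.smul_mem _ _ hx

theorem main [Algebra.FiniteType k A] (n : ℕ) (hn : (n.factorial : k) ≠ 0) :
    Module.finrank k (A ⧸ II k A ^ (n + 1)) =
      Module.finrank k (A ⧸ II k A ^ n) +
        Nat.choose (Module.finrank k (II k A).Cotangent + n - 1) n := by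
  haveI : Module.Finite k (II k A).Cotangent := cotangent_finite
  exact finrank_formula (Module.finBasis k (II k A).Cotangent) n hn

end Final

end AugGrH1
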