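import Mathlib

set_option autoImplicit false
universe u
open KaehlerDifferential TensorProduct

namespace Groth.Agent.Lib.AugSmH8

section Retraction

variable {R A : Type u} [CommRing R] [CommRing A] [Algebra R A] (ε : A →ₐ[R] R) (J : Ideal A)

/-- `J/IJ` where `I = ker ε`. -/
abbrev QJ : Type u := ↥J ⧸ (RingHom.ker ε • ⊤ : Submodule A ↥J)

theorem exists_retraction (hJI : J ≤ RingHom.ker ε)
    (h2 : J ⊓ RingHom.ker ε ^ 2 = RingHom.ker ε * J)
    [Module.Projective R (↥(RingHom.ker ε) ⧸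
      Submodule.comap (RingHom.ker ε).subtype (J ⊔ RingHom.ker ε ^ 2))] :
    ∃ ρ₀ : ↥(RingHom.ker ε) →ₗ[R] QJ ε J,
      (∀ x : ↥(RingHom.ker ε), (x : A) ∈ RingHom.ker ε ^ 2 → ρ₀ x = 0) ∧
      (∀ (j : A) (hj : j ∈ J), ρ₀ ⟨j, hJI hj⟩ = Submodule.Quotient.mk ⟨j, hj⟩) := by
  classical
  set I := RingHom.ker ε with hI
  let N := ↥I ⧸ Submodule.comap I.subtype (J ⊔ I ^ 2)
  let κ : ↥J →ₗ[A] A ⧸ (I ^ 2) := (Submodule.mkQ (I ^ 2)) ∘ₗ J.subtype
  have hκ : (I • ⊤ : Submodule A ↥J) ≤ LinearMap.ker κ := by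
    rw [Submodule.smul_le]
    intro i hi j _
    rw [LinearMap.mem_ker]
    change Submodule.Quotient.mk ((i • j : ↥J) : A) = 0
    rw [Submodule.Quotient.mk_eq_zero]
    change i * (j : A) ∈ I ^ 2
    rw [pow_two]
    exact Ideal.mul_mem_mul hi (hJI j.2)
  let κb : QJ ε J →ₗ[A] A ⧸ (I ^ 2) := Submodule.liftQ _ κ hκ
  have hκb : Function.Injective κb := by
    rw [← LinearMap.ker_eq_bot, Submodule.ker_liftQ_eq_bot']
    refine le_antisymm hκ ?_
    intro j hj
    rw [LinearMap.mem_ker] at hj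
    change Submodule.Quotient.mk (j : A) = 0 at hj
    rw [Submodule.Quotient.mk_eq_zero] at hj
    rw [Submodule.mem_smul_top_iff]
    have : (j : A) ∈ J ⊓ I ^ 2 := ⟨j.2, hj⟩
    rw [h2] at this
    exact this
  let π : ↥I →ₗ[R] N := (Submodule.mkQ _).restrictScalars R
  have hπ : Function.Surjective π := by
    intro y
    obtain ⟨x, hx⟩ := Submodule.Quotient.mk_surjective _ y
    exact ⟨x, hx⟩
  obtain ⟨σ, hσ⟩ := Module.projective_lifting_property π LinearMap.id hπ
  let τ : ↥I →ₗ[R] ↥I := LinearMap.id - σ ∘ₗ π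
  have hτ : ∀ x, ((τ x : ↥I) : A) ∈ J ⊔ I ^ 2 := by
    intro x
    have h0 : π (τ x) = 0 := by
      have := LinearMap.congr_fun hσ (π x)
      simp only [LinearMap.comp_apply, LinearMap.id_apply] at this
      simp only [τ, LinearMap.sub_apply, LinearMap.id_apply, LinearMap.comp_apply, map_sub, this,
        sub_self]
    have h1 : τ x ∈ Submodule.comap I.subtype (J ⊔ I ^ 2) := by
      rw [← Submodule.Quotient.mk_eq_zero]
      exact h0
    exact h1
  have hτ0 : ∀ x : ↥I, (x : A) ∈ J ⊔ I ^ 2 → τ x = x := by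
    intro x hx
    have : π x = 0 := by
      change Submodule.Quotient.mk x = 0
      rw [Submodule.Quotient.mk_eq_zero]
      exact hx
    simp [τ, this]
  let κR : QJ ε J →ₗ[R] A ⧸ (I ^ 2) := κb.restrictScalars R
  have hκR : Function.Injective κR := hκb
  let μ : ↥I →ₗ[R] A ⧸ (I ^ 2) :=
    ((Submodule.mkQ (I ^ 2)).restrictScalars R) ∘ₗ (I.subtype.restrictScalars R) ∘ₗ τ
  have hμ : ∀ x, μ x ∈ LinearMap.range κR := by
    intro x
    obtain ⟨j, hj, z, hz, hjz⟩ := Submodule.mem_sup.mp (hτ x)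
    refine ⟨Submodule.Quotient.mk ⟨j, hj⟩, ?_⟩
    change Submodule.Quotient.mk j = Submodule.Quotient.mk ((τ x : ↥I) : A)
    rw [← hjz, Submodule.Quotient.mk_add, (Submodule.Quotient.mk_eq_zero _).mpr hz, add_zero]
  let ρ₀ : ↥I →ₗ[R] QJ ε J :=
    (LinearEquiv.ofInjective κR hκR).symm.toLinearMap ∘ₗ LinearMap.codRestrict _ μ hμ
  have hρ : ∀ x, κR (ρ₀ x) = μ x := by
    intro x
    have := (LinearEquiv.ofInjective κR hκR).apply_symm_apply (LinearMap.codRestrict _ μ hμ x)
    exact congrArg Subtype.val this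
  refine ⟨ρ₀, ?_, ?_⟩
  · intro x hx
    apply hκR
    rw [hρ, map_zero]
    change Submodule.Quotient.mk ((τ x : ↥I) : A) = 0
    rw [hτ0 x (Ideal.mem_sup_right hx), Submodule.Quotient.mk_eq_zero]
    exact hx
  · intro j hj
    apply hκR
    rw [hρ]
    change Submodule.Quotient.mk ((τ ⟨j, hJI hj⟩ : ↥I) : A) = Submodule.Quotient.mk j
    rw [hτ0 _ (Ideal.mem_sup_left hj)]


theorem exists_kaehler_map (hJI : J ≤ RingHom.ker ε)
    (h2 : J ⊓ RingHom.ker ε ^ 2 = RingHom.ker ε * J)
    [Module.Projective R (↥(RingHom.ker ε) ⧸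
      Submodule.comap (RingHom.ker ε).subtype (J ⊔ RingHom.ker ε ^ 2))] :
    ∃ θ : Ω[A⁄R] →ₗ[A] QJ ε J,
      ∀ (j : A) (hj : j ∈ J), θ (D R A j) = Submodule.Quotient.mk ⟨j, hj⟩ := by
  classical
  obtain ⟨ρ₀, hρ1, hρ2⟩ := exists_retraction ε J hJI h2
  have haug : ∀ a : A, a - algebraMap R A (ε a) ∈ RingHom.ker ε := by
    intro a
    rw [RingHom.mem_ker, map_sub]
    have : ε (algebraMap R A (ε a)) = ε a := by
      rw [AlgHom.commutes]; rfl
    change ε a - ε (algebraMap R A (ε a)) = 0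
    rw [this, sub_self]
  let aug : A → ↥(RingHom.ker ε) := fun a => ⟨a - algebraMap R A (ε a), haug a⟩
  have aug_add : ∀ a b, aug (a + b) = aug a + aug b := by
    intro a b
    apply Subtype.ext
    simp only [aug, map_add, Submodule.coe_add]
    ring
  have aug_smul : ∀ (r : R) (a : A), aug (r • a) = r • aug a := by
    intro r a
    apply Subtype.ext
    have e1 : ε (algebraMap R A r) = r := by rw [AlgHom.commutes]; rfl
    simp only [aug, Submodule.coe_smul_of_tower, map_mul, Algebra.smul_def, e1]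
    ring
  have aug_mul : ∀ a b, aug (a * b) = a • aug b + (ε b) • aug a := by
    intro a b
    apply Subtype.ext
    simp only [aug, map_mul, Submodule.coe_add, Submodule.coe_smul_of_tower, smul_eq_mul,
      Algebra.smul_def, Submodule.coe_smul]
    ring
  have F1 : ∀ (a : A) (x : ↥(RingHom.ker ε)), ρ₀ (a • x) = ε a • ρ₀ x := by
    intro a x
    have hsplit : a • x = (aug a : A) • x + (ε a) • x := by
      apply Subtype.ext
      simp only [aug, Submodule.coe_add, Submodule.coe_smul_of_tower, smul_eq_mul,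
        Algebra.smul_def, Submodule.coe_smul]
      ring
    have h1 : ρ₀ ((aug a : A) • x) = 0 := by
      apply hρ1
      change (aug a : A) * (x : A) ∈ RingHom.ker ε ^ 2
      rw [pow_two]
      exact Ideal.mul_mem_mul (aug a).2 x.2
    rw [hsplit, map_add, h1, zero_add, LinearMap.map_smul]
  have F2 : ∀ (a : A) (z : QJ ε J), a • z = ε a • z := by
    intro a z
    obtain ⟨w, rfl⟩ := Submodule.Quotient.mk_surjective _ z
    rw [← Submodule.Quotient.mk_smul, ← Submodule.Quotient.mk_smul, Submodule.Quotient.eq]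
    have : a • w - ε a • w = (aug a : A) • w := by
      apply Subtype.ext
      simp only [aug, Submodule.coe_sub, Submodule.coe_smul_of_tower, smul_eq_mul,
        Algebra.smul_def, Submodule.coe_smul]
      ring
    rw [this]
    exact Submodule.smul_mem_smul (aug a).2 Submodule.mem_top
  let Dl : A →ₗ[R] QJ ε J :=
    { toFun := fun a => ρ₀ (aug a)
      map_add' := fun a b => by rw [aug_add, map_add]
      map_smul' := fun r a => by rw [aug_smul, map_smul]; rfl }
  let δ : Derivation R A (QJ ε J) := Derivation.mk' Dl (by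
    intro a b
    change ρ₀ (aug (a * b)) = a • ρ₀ (aug b) + b • ρ₀ (aug a)
    rw [aug_mul, map_add, F1, map_smul, F2 a, F2 b])
  refine ⟨δ.liftKaehlerDifferential, fun j hj => ?_⟩
  rw [Derivation.liftKaehlerDifferential_comp_D]
  change ρ₀ (aug j) = _
  have : aug j = ⟨j, hJI hj⟩ := by
    apply Subtype.ext
    have h0 : ε j = 0 := hJI hj
    simp only [aug, h0, map_zero, sub_zero]
  rw [this, hρ2 j hj]

end Retraction

end Groth.Agent.Lib.AugSmH8
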