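import Mathlib
import Groth.Agent.Lib.AugSm1_helper8

set_option autoImplicit false
universe u
open KaehlerDifferential TensorProduct IsLocalRing

namespace Groth.Agent.Lib.AugSmH8

theorem formallySmooth_quotient_atPrime {R A : Type u} [CommRing R] [CommRing A] [Algebra R A]
    [Algebra.Smooth R A] (ε : A →ₐ[R] R) (J : Ideal A) (hJI : J ≤ RingHom.ker ε) (h1 : J.FG)
    (h2 : J ⊓ RingHom.ker ε ^ 2 = RingHom.ker ε * J)
    [Module.Projective R (↥(RingHom.ker ε) ⧸
      Submodule.comap (RingHom.ker ε).subtype (J ⊔ RingHom.ker ε ^ 2))]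
    (q : Ideal A) [q.IsPrime] (hIq : RingHom.ker ε ≤ q) :
    Algebra.FormallySmooth R
      (Localization.AtPrime q ⧸ J.map (algebraMap A (Localization.AtPrime q))) := by
  classical
  obtain ⟨θ, hθ⟩ := exists_kaehler_map ε J hJI h2
  let Aq := Localization.AtPrime q
  let Jq : Ideal Aq := J.map (algebraMap A Aq)
  let S := Aq ⧸ Jq
  have hJq : Jq ≤ maximalIdeal Aq := by
    rw [Ideal.map_le_iff_le_comap]
    have := IsLocalization.AtPrime.under_maximalIdeal Aq q
    rw [Ideal.under_def] at this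
    rw [this]
    exact hJI.trans hIq
  haveI : Nontrivial S := Ideal.Quotient.nontrivial_iff.mpr
    (fun h => (maximalIdeal.isMaximal Aq).ne_top (top_le_iff.mp (h ▸ hJq)))
  haveI : IsLocalRing S := IsLocalRing.of_surjective' (Ideal.Quotient.mk Jq)
    Ideal.Quotient.mk_surjective
  let K := ResidueField S
  haveI : Algebra.EssFiniteType A Aq := .of_isLocalization _ q.primeCompl
  haveI : Algebra.EssFiniteType R Aq := .comp _ A _
  haveI : Algebra.FormallySmooth A Aq := Algebra.FormallySmooth.of_isLocalization q.primeCompl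
  haveI : Algebra.FormallySmooth R Aq := Algebra.FormallySmooth.comp R A Aq
  haveI : Module.Finite Aq Ω[Aq⁄R] := inferInstance
  haveI : Module.Projective Aq Ω[Aq⁄R] := inferInstance
  haveI : Module.Free Aq Ω[Aq⁄R] := Module.free_of_flat_of_isLocalRing
  have hs1 : Function.Surjective (algebraMap Aq S) := Ideal.Quotient.mk_surjective
  have hker : RingHom.ker (algebraMap Aq S) = Jq := Ideal.mk_ker
  have hs2 : (RingHom.ker (algebraMap Aq S)).FG := by
    rw [hker]
    exact h1.map _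
  rw [Algebra.FormallySmooth.iff_injective_cotangentComplexBaseChange_residueField (R := R)
    (S := S) Aq hs1 hs2]
  have hsK : Function.Surjective (algebraMap Aq K) := by
    rw [IsScalarTower.algebraMap_eq Aq S K]
    exact (IsLocalRing.residue_surjective).comp hs1
  have hkerK : RingHom.ker (algebraMap Aq K) = maximalIdeal Aq :=
    IsLocalRing.eq_maximalIdeal (RingHom.ker_isMaximal_of_surjective _ hsK)
  have hK0 : ∀ a : Aq, a ∈ maximalIdeal Aq → algebraMap Aq K a = 0 := by
    intro a ha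
    rw [← hkerK] at ha
    exact ha
  have hK1 : ∀ s : A, s ∉ q → algebraMap Aq K (algebraMap A Aq s) ≠ 0 := by
    intro s hs h0
    have : algebraMap A Aq s ∈ maximalIdeal Aq := by
      rw [← hkerK]; exact h0
    exact (mem_nonunits_iff.mp ((mem_maximalIdeal _).mp this))
      (IsLocalization.map_units Aq (⟨s, hs⟩ : q.primeCompl))
  haveI : Algebra.FormallyEtale A Aq := Algebra.FormallyEtale.of_isLocalization q.primeCompl
  let W := K ⊗[A] QJ ε J
  let θ' : Ω[A⁄R] →ₗ[A] W := (TensorProduct.mk A K (QJ ε J) 1) ∘ₗ θ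
  have hbc : IsBaseChange Aq (KaehlerDifferential.map R R A Aq) :=
    KaehlerDifferential.isBaseChange_of_formallyEtale R A Aq
  let Φ₀ : Ω[Aq⁄R] →ₗ[Aq] W := hbc.lift θ'
  have hΦ₀ : ∀ a : A, Φ₀ (D R Aq (algebraMap A Aq a)) = (1 : K) ⊗ₜ[A] θ (D R A a) := by
    intro a
    have := hbc.lift_eq θ' (D R A a)
    rw [KaehlerDifferential.map_D] at this
    exact this
  let Φ : K ⊗[Aq] Ω[Aq⁄R] →ₗ[K] W := LinearMap.liftBaseChange K Φ₀
  let ker := RingHom.ker (algebraMap Aq S)
  have hmemker : ∀ j : ↥J, algebraMap A Aq j ∈ ker := fun j => by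
    change _ ∈ RingHom.ker (algebraMap Aq S)
    rw [hker]; exact Ideal.mem_map_of_mem _ j.2
  let ψ₀ : ↥J →ₗ[A] K ⊗[Aq] ↥ker :=
    { toFun := fun j => (1 : K) ⊗ₜ[Aq] (⟨algebraMap A Aq j, hmemker j⟩ : ↥ker)
      map_add' := fun j j' => by
        rw [← TensorProduct.tmul_add]
        congr 1
        apply Subtype.ext
        simp
      map_smul' := fun a j => by
        have e : (⟨algebraMap A Aq ((a • j : ↥J) : A), hmemker (a • j)⟩ : ↥ker) =
            (algebraMap A Aq a) • (⟨algebraMap A Aq j, hmemker j⟩ : ↥ker) := by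
          apply Subtype.ext
          simp [Algebra.smul_def]
        rw [e, TensorProduct.tmul_smul, algebraMap_smul]
        rfl }
  have hψ₀ : (RingHom.ker ε • ⊤ : Submodule A ↥J) ≤ LinearMap.ker ψ₀ := by
    rw [Submodule.smul_le]
    intro i hi j _
    rw [LinearMap.mem_ker, map_smul]
    change i • ((1 : K) ⊗ₜ[Aq] (⟨algebraMap A Aq j, hmemker j⟩ : ↥ker)) = 0
    have hiK : algebraMap A K i = 0 := by
      rw [IsScalarTower.algebraMap_apply A Aq K]
      apply hK0
      rw [IsLocalization.AtPrime.to_map_mem_maximal_iff Aq q]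
      exact hIq hi
    rw [TensorProduct.smul_tmul', Algebra.smul_def, mul_one, hiK, TensorProduct.zero_tmul]
  let ψ₁ : QJ ε J →ₗ[A] K ⊗[Aq] ↥ker := Submodule.liftQ _ ψ₀ hψ₀
  let Ψ : W →ₗ[K] K ⊗[Aq] ↥ker := LinearMap.liftBaseChange K ψ₁
  rw [injective_iff_map_eq_zero]
  intro x hx
  obtain ⟨g, rfl⟩ := TensorProduct.mk_surjective Aq ↥ker K hsK x
  rw [TensorProduct.mk_apply] at hx ⊢
  rw [cotangentComplexBaseChange_tmul, one_smul, kerToTensor_apply] at hx
  have hgJ : (g : Aq) ∈ Jq := by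
    have := g.2
    change (g : Aq) ∈ RingHom.ker (algebraMap Aq S) at this
    rw [hker] at this
    exact this
  obtain ⟨⟨⟨j, hj⟩, ⟨s, hs⟩⟩, hjs⟩ :=
    (IsLocalization.mem_map_algebraMap_iff q.primeCompl Aq).mp hgJ
  have hgK : algebraMap Aq K g = 0 := hK0 g (hJq hgJ)
  change (g : Aq) * algebraMap A Aq s = algebraMap A Aq j at hjs
  have hDj : (1 : K) ⊗ₜ[Aq] D R Aq (algebraMap A Aq j) = 0 := by
    rw [← hjs, Derivation.leibniz, TensorProduct.tmul_add, TensorProduct.tmul_smul,
      TensorProduct.tmul_smul, hx, smul_zero, add_zero]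
    rw [← algebraMap_smul K (g : Aq), hgK, zero_smul]
  have hW : (1 : K) ⊗ₜ[A] (Submodule.Quotient.mk ⟨j, hj⟩ : QJ ε J) = 0 := by
    have := congrArg Φ hDj
    rw [map_zero, LinearMap.liftBaseChange_tmul, one_smul, hΦ₀, hθ j hj] at this
    exact this
  have hker0 : (1 : K) ⊗ₜ[Aq] (⟨algebraMap A Aq j, hmemker ⟨j, hj⟩⟩ : ↥ker) = 0 := by
    have := congrArg Ψ hW
    rw [map_zero, LinearMap.liftBaseChange_tmul, one_smul] at this
    exact this
  have e : (⟨algebraMap A Aq j, hmemker ⟨j, hj⟩⟩ : ↥ker) = (algebraMap A Aq s) • g := by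
    apply Subtype.ext
    change algebraMap A Aq j = algebraMap A Aq s * (g : Aq)
    rw [← hjs, mul_comm]
  rw [e, TensorProduct.tmul_smul, ← algebraMap_smul K (algebraMap A Aq s)] at hker0
  exact (smul_eq_zero.mp hker0).resolve_left (hK1 s hs)


theorem main19149 (R A : Type u) [CommRing R] [CommRing A] [Algebra R A]
    [Algebra.Smooth R A] (ε : A →ₐ[R] R) (J : Ideal A) (hJI : J ≤ RingHom.ker ε)
    (h1 : J.FG)
    (h2 : J ⊓ RingHom.ker ε ^ 2 = RingHom.ker ε * J)
    (h3 : Module.Finite R (↥(RingHom.ker ε) ⧸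
        Submodule.comap (RingHom.ker ε).subtype (J ⊔ RingHom.ker ε ^ 2)) ∧
      Module.Projective R (↥(RingHom.ker ε) ⧸
        Submodule.comap (RingHom.ker ε).subtype (J ⊔ RingHom.ker ε ^ 2)))
    (P : Ideal (A ⧸ J)) [P.IsPrime] (hP : (RingHom.ker ε).map (Ideal.Quotient.mk J) ≤ P) :
    Algebra.IsSmoothAt R P := by
  haveI := h3.2
  let q := P.comap (Ideal.Quotient.mk J)
  haveI : q.IsPrime := Ideal.comap_isPrime _ _
  have hIq : RingHom.ker ε ≤ q := Ideal.map_le_iff_le_comap.mp hP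
  haveI key := formallySmooth_quotient_atPrime ε J hJI h1 h2 q hIq
  let Pq := Localization.AtPrime q
  have hM : Algebra.algebraMapSubmonoid (A ⧸ J) q.primeCompl = P.primeCompl := by
    ext x
    constructor
    · rintro ⟨b, hb, rfl⟩
      intro hx
      exact hb hx
    · intro hx
      obtain ⟨b, rfl⟩ := Ideal.Quotient.mk_surjective x
      exact ⟨b, fun hb => hx hb, rfl⟩
  haveI h1' : IsLocalization (Algebra.algebraMapSubmonoid (A ⧸ J) q.primeCompl)
      (Pq ⧸ J.map (algebraMap A Pq)) := inferInstance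
  rw [hM] at h1'
  haveI : IsLocalization.AtPrime (Pq ⧸ J.map (algebraMap A Pq)) P := h1'
  let e : Localization.AtPrime P ≃ₐ[A ⧸ J] (Pq ⧸ J.map (algebraMap A Pq)) :=
    IsLocalization.algEquiv P.primeCompl _ _
  haveI : IsScalarTower R (A ⧸ J) (Pq ⧸ J.map (algebraMap A Pq)) := by
    refine IsScalarTower.of_algebraMap_eq (fun a => ?_)
    rfl
  exact Algebra.FormallySmooth.of_equiv (e.symm.restrictScalars R)

end Groth.Agent.Lib.AugSmH8
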