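import Groth.Agent.Lib.AusPur9_helper5

/-!
# Auslander's theorem, part 10: ranks
-/

set_option autoImplicit false
set_option linter.style.haveILetI false
set_option maxHeartbeats 400000
universe u
open IsLocalRing nonZeroDivisors

namespace Groth.Agent.Lib.AusPur

section rank

variable (R : Type u) [CommRing R] [IsDomain R] [IsNoetherianRing R]
  (N : Type u) [AddCommGroup N] [Module R N] [Module.Finite R N]

theorem finrank_end : Module.finrank R (N →ₗ[R] N) = Module.finrank R N * Module.finrank R N := by
  let K := FractionRing R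
  let NK := LocalizedModule R⁰ N
  let f : N →ₗ[R] NK := LocalizedModule.mkLinearMap R⁰ N
  haveI : Module.FinitePresentation R N := Module.finitePresentation_of_finite R N
  let L1 : (N →ₗ[R] N) →ₗ[R] (NK →ₗ[K] NK) := IsLocalizedModule.mapExtendScalars R⁰ f f K
  haveI : IsLocalizedModule R⁰ L1 := inferInstance
  have h1 : Module.finrank R (NK →ₗ[K] NK) = Module.finrank R (N →ₗ[R] N) :=
    IsLocalizedModule.finrank_eq R⁰ L1 le_rfl
  have h2 : Module.finrank K (NK →ₗ[K] NK) = Module.finrank R (NK →ₗ[K] NK) :=
    IsLocalization.finrank_eq K R⁰ le_rfl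
  have h3 : Module.finrank R NK = Module.finrank R N := IsLocalizedModule.finrank_eq R⁰ f le_rfl
  have h4 : Module.finrank K NK = Module.finrank R NK := IsLocalization.finrank_eq K R⁰ le_rfl
  rw [← h1, ← h2, Module.finrank_linearMap, h4, h3]

theorem finrank_pi (g : ℕ) : Module.finrank R (Fin g → N) = g * Module.finrank R N := by
  let K := FractionRing R
  let NK := LocalizedModule R⁰ N
  let f : N →ₗ[R] NK := LocalizedModule.mkLinearMap R⁰ N
  let L2 : (Fin g → N) →ₗ[R] (Fin g → NK) := LinearMap.pi fun i => f ∘ₗ LinearMap.proj i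
  haveI : IsLocalizedModule R⁰ L2 := IsLocalizedModule.pi R⁰ (fun _ : Fin g => f)
  have h1 : Module.finrank R (Fin g → NK) = Module.finrank R (Fin g → N) :=
    IsLocalizedModule.finrank_eq R⁰ L2 le_rfl
  have h2 : Module.finrank K (Fin g → NK) = Module.finrank R (Fin g → NK) :=
    IsLocalization.finrank_eq K R⁰ le_rfl
  have h3 : Module.finrank R NK = Module.finrank R N := IsLocalizedModule.finrank_eq R⁰ f le_rfl
  have h4 : Module.finrank K NK = Module.finrank R NK := IsLocalization.finrank_eq K R⁰ le_rfl
  rw [← h1, ← h2, Module.finrank_pi_fintype, h4, h3]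
  simp

theorem eq_finrank_of_equiv [Module.IsTorsionFree R N] [Nontrivial N] (g : ℕ)
    (e : (N →ₗ[R] N) ≃ₗ[R] (Fin g → N)) : g = Module.finrank R N := by
  have h1 := e.finrank_eq
  rw [finrank_end, finrank_pi] at h1
  have hpos : 0 < Module.finrank R N := Module.finrank_pos
  exact (Nat.eq_of_mul_eq_mul_right hpos h1).symm

theorem finrank_presentation {b0 b1 : ℕ} (π : (Fin b0 → R) →ₗ[R] N) (hπ : Function.Surjective π)
    (κ : (Fin b1 → R) ≃ₗ[R] LinearMap.ker π) : b0 = b1 + Module.finrank R N := by
  have h1 := (LinearMap.ker π).finrank_quotient_add_finrank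
  rw [(π.quotKerEquivOfSurjective hπ).finrank_eq, ← κ.finrank_eq, Module.finrank_fin_fun,
    Module.finrank_fin_fun] at h1
  omega

end rank

end Groth.Agent.Lib.AusPur
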