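import Groth.Agent.Lib.AusPur10_helper5
import Groth.Agent.Lib.ReflFree_helper5

/-!
# Auslander's theorem: a reflexive module `N` over a regular local ring with `End(N) ≅ N^g` is free
-/

set_option autoImplicit false
set_option linter.style.haveILetI false
set_option maxHeartbeats 400000
universe u
open CategoryTheory CategoryTheory.Limits Abelian IsLocalRing

namespace Groth.Agent.Lib.AusPur

section D3

variable (R : Type u) [CommRing R] [IsRegularLocalRing R]

theorem finite_ext_one (N : Type u) [AddCommGroup N] [Module R N] [Module.Finite R N] :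
    Module.Finite R (Ext (ModuleCat.of R N) (ModuleCat.of R R) 1) := by
  haveI : IsNoetherianRing R := inferInstance
  obtain ⟨b0, π, hπ⟩ := Module.Finite.exists_fin' R N
  haveI : Module.Finite R (LinearMap.ker π) := Module.IsNoetherian.finite R _
  have hex0 : Function.Exact (LinearMap.ker π).subtype π := LinearMap.exact_subtype_ker_map π
  have hS := ModuleCat.shortComplex_shortExact
    (ShortComplex.moduleCatMk (LinearMap.ker π).subtype π hex0.linearMap_comp_eq_zero) hex0
    Subtype.val_injective hπ
  haveI : Projective (ModuleCat.of R (Fin b0 → R)) :=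
    (IsProjective.iff_projective (R := R) (P := Fin b0 → R)).mp inferInstance
  have hsub : Subsingleton (Ext (ModuleCat.of R (Fin b0 → R)) (ModuleCat.of R R) (0 + 1)) :=
    subsingleton_ext_of_projective (ModuleCat.of R (Fin b0 → R)) _ 1 le_rfl
  haveI : Module.Finite R (LinearMap.ker π →ₗ[R] R) := Groth.Agent.DepthLib.finite_hom _ _
  have hfin : Module.Finite R (Ext (ModuleCat.of R (LinearMap.ker π)) (ModuleCat.of R R) 0) :=
    Module.Finite.equiv (homEquivExtZero (LinearMap.ker π) R)
  exact @Module.Finite.of_surjective R _ _ _ _ _ _ _ _ _ _ hfin (connecting hS (ModuleCat.of R R) 0)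
    (connecting_surjective hS (ModuleCat.of R R) 0 hsub)

theorem d3 (hd : ringKrullDim R = ((3 : ℕ) : WithBot ℕ∞))
    (N : Type u) [AddCommGroup N] [Module R N] [Module.Finite R N] [Module.IsReflexive R N]
    (hPF : PF R N) (g : ℕ) (e : (N →ₗ[R] N) ≃ₗ[R] (Fin g → N)) : Module.Free R N := by
  by_contra hfree
  haveI := Groth.Agent.RegularLib.isDomain R
  haveI : IsNoetherianRing R := inferInstance
  haveI : Nontrivial N := by
    by_contra h
    rw [not_nontrivial_iff_subsingleton] at h
    exact hfree (Module.Free.of_subsingleton R N)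
  haveI : Module.IsTorsionFree R N :=
    ⟨fun r hr => isSMulRegular_of_isReflexive N r hr.ne_zero⟩
  have hN2 := two_le_depth_of_isReflexive R hd N
  obtain ⟨b0, π, hπ⟩ := Module.Finite.exists_fin' R N
  haveI := free_ker R hd N hN2 π hπ
  haveI : Module.Finite R (LinearMap.ker π) := Module.IsNoetherian.finite R _
  let κ : (Fin (Module.finrank R (LinearMap.ker π)) → R) ≃ₗ[R] LinearMap.ker π :=
    (Module.finBasis R (LinearMap.ker π)).equivFun.symm
  have hnp : ¬ Module.Projective R N := fun h => hfree Module.free_of_flat_of_isLocalRing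
  have hlow := lower_bound R N π hπ κ hnp
  have hup := upper_bound R hd N hN2 hPF π hπ g e
  have hg := eq_finrank_of_equiv R N g e
  have hb := finrank_presentation R N π hπ κ
  haveI := finite_ext_one R N
  have hfl : IsFiniteLength R (Ext (ModuleCat.of R N) (ModuleCat.of R R) 1) :=
    (hPF.pfAnn (fun s hT x => hT.smul_ext (ModuleCat.of R R) 1 le_rfl x)).isFiniteLength
  have ht : Module.length R (Ext (ModuleCat.of R N) (ModuleCat.of R R) 1) ≠ ⊤ :=
    Module.length_ne_top_iff.mpr hfl
  obtain ⟨n, hn⟩ := ENat.ne_top_iff_exists.mp ht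
  rw [← hn] at hlow hup
  have h1 : (b0 : ℕ∞) * n + 1 ≤ (Module.finrank R (LinearMap.ker π) : ℕ∞) * n + g * n :=
    hlow.trans (by gcongr)
  have h2 : b0 * n + 1 ≤ Module.finrank R (LinearMap.ker π) * n + g * n := by exact_mod_cast h1
  have h3 : b0 * n = Module.finrank R (LinearMap.ker π) * n + g * n := by
    rw [← Nat.add_mul, hg, ← hb]
  omega

end D3

section main

/-- **Auslander's theorem**: a finite reflexive module `N` over a regular local ring with
`End(N) ≅ N^g` is free. -/
theorem auslander_aux : ∀ (d : ℕ) (R : Type u) [CommRing R] [IsRegularLocalRing R],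
    ringKrullDim R = (d : WithBot ℕ∞) →
    ∀ (N : Type u) [AddCommGroup N] [Module R N] [Module.Finite R N] [Module.IsReflexive R N]
      (g : ℕ), ((N →ₗ[R] N) ≃ₗ[R] (Fin g → N)) → Module.Free R N := by
  intro d
  induction d using Nat.strong_induction_on with
  | _ d IH =>
    intro R _ _ hd N _ _ _ _ g e
    by_cases h2 : d ≤ 2
    · apply Groth.Agent.ReflFree.free_of_reflexive R (hdim := ?_) N
      rw [hd]
      exact_mod_cast h2
    · have hPF : PF R N :=
        pf_of_IH R d hd (fun S _ _ k hk hkS P _ _ _ _ g' e' => IH k hk S hkS P g' e') N g e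
      by_cases h3 : d = 3
      · subst h3
        exact d3 R hd N hPF g e
      · exact d4 R d hd (by omega)
          (fun S _ _ hS P _ _ _ _ g' e' => IH (d - 1) (by omega) S hS P g' e') N hPF g e

theorem auslander (R : Type u) [CommRing R] [IsRegularLocalRing R]
    (N : Type u) [AddCommGroup N] [Module R N] [Module.Finite R N] [Module.IsReflexive R N]
    (g : ℕ) (e : (N →ₗ[R] N) ≃ₗ[R] (Fin g → N)) : Module.Free R N := by
  obtain ⟨d, hd⟩ := Groth.Agent.GlDim.exists_dim R
  exact auslander_aux d R hd N g e

end main

end Groth.Agent.Lib.AusPur
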