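import Mathlib
import Groth.Agent.Lib.DimTheory_helper5

/-!
# Auslander's theorem, part 1: modules free on the punctured spectrum (helper5)

`TrFactor N s`: `s • id_N` factors through a finite free module, in "dual basis" form.
`PF N`: for every non-maximal prime `p` there is `s ∉ p` with `TrFactor N s`.
-/

set_option autoImplicit false
set_option linter.style.haveILetI false
universe u
open IsLocalRing

namespace Groth.Agent.Lib.AusPur

variable {R : Type u} [CommRing R]

/-- `s • id_N` factors through a finite free module (dual-basis form). -/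
def TrFactor (N : Type u) [AddCommGroup N] [Module R N] (s : R) : Prop :=
  ∃ (r : ℕ) (α : Fin r → Module.Dual R N) (ν : Fin r → N), ∀ n : N, ∑ i, α i n • ν i = s • n

/-- "free on the punctured spectrum", in the form of `TrFactor` elements. -/
def PF (R : Type u) [CommRing R] [IsLocalRing R] (N : Type u) [AddCommGroup N] [Module R N] :
    Prop :=
  ∀ p : Ideal R, p.IsPrime → p ≠ maximalIdeal R → ∃ s : R, s ∉ p ∧ TrFactor N s

section loc

variable (N : Type u) [AddCommGroup N] [Module R N] [Module.FinitePresentation R N]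

theorem trFactor_of_free_localization (p : Ideal R) [p.IsPrime]
    [Module.Free (Localization.AtPrime p) (LocalizedModule p.primeCompl N)] :
    ∃ s : R, s ∉ p ∧ TrFactor N s := by
  classical
  let S := p.primeCompl
  let Rp := Localization.AtPrime p
  let Np := LocalizedModule S N
  let f : N →ₗ[R] Np := LocalizedModule.mkLinearMap S N
  haveI : Module.Finite Rp Np := inferInstance
  let r := Module.finrank Rp Np
  let β : Module.Basis (Fin r) Rp Np := Module.finBasis Rp Np
  -- the localization map on `Fin r → R`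
  let fpi : (Fin r → R) →ₗ[R] (Fin r → Rp) :=
    LinearMap.pi fun i => (Algebra.linearMap R Rp) ∘ₗ LinearMap.proj i
  haveI : IsLocalizedModule S fpi := IsLocalizedModule.pi S (fun _ : Fin r => Algebra.linearMap R Rp)
  -- coordinates
  let g : N →ₗ[R] (Fin r → Rp) :=
    (β.equivFun.toLinearMap.restrictScalars R) ∘ₗ f
  obtain ⟨h, s1, hs1⟩ := Module.FinitePresentation.exists_lift_of_isLocalizedModule S fpi g
  -- the basis vectors
  let g' : (Fin r → R) →ₗ[R] Np := Fintype.linearCombination R (fun i => β i)
  obtain ⟨b, s2, hs2⟩ := Module.FinitePresentation.exists_lift_of_isLocalizedModule S f g'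
  -- the composite
  let c : N →ₗ[R] N := b ∘ₗ h
  have hc : f ∘ₗ c = f ∘ₗ ((s2 * s1 : S) • (LinearMap.id : N →ₗ[R] N)) := by
    ext n
    have h1 : f (b (h n)) = (s2 : R) • g' (h n) := by
      have := LinearMap.congr_fun hs2 (h n)
      simpa [Submonoid.smul_def] using this
    have h2 : ∀ i, algebraMap R Rp (h n i) = (s1 : R) • β.repr (f n) i := by
      intro i
      have := congrFun (LinearMap.congr_fun hs1 n) i
      simpa [fpi, g, Submonoid.smul_def] using this
    have h3 : g' (h n) = (s1 : R) • f n := by
      change Fintype.linearCombination R (fun i => β i) (h n) = _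
      rw [Fintype.linearCombination_apply]
      conv_rhs => rw [← β.sum_repr (f n), Finset.smul_sum]
      apply Finset.sum_congr rfl
      intro i _
      rw [← algebraMap_smul Rp (h n i), h2, smul_assoc]
    simp only [LinearMap.comp_apply, c, LinearMap.smul_apply, LinearMap.id_apply]
    rw [h1, h3, Submonoid.smul_def, Submonoid.coe_mul, mul_smul, map_smul, map_smul]
  obtain ⟨s3, hs3⟩ := Module.Finite.exists_smul_of_comp_eq_of_isLocalizedModule S f _ _ hc
  refine ⟨(s3 : R) * ((s2 : R) * (s1 : R)), ?_, r,
    fun i => (s3 : R) • ((LinearMap.proj i : (Fin r → R) →ₗ[R] R) ∘ₗ h),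
    fun i => b (Pi.single i 1), fun n => ?_⟩
  · exact (S.mul_mem s3.2 (S.mul_mem s2.2 s1.2))
  · have h4 := LinearMap.congr_fun hs3 n
    simp only [LinearMap.smul_apply, LinearMap.id_apply, Submonoid.smul_def, Submonoid.coe_mul,
      c, LinearMap.comp_apply] at h4
    have h5 : b (h n) = ∑ i, h n i • b (Pi.single i 1) := by
      conv_lhs => rw [← Finset.univ_sum_single (h n)]
      rw [map_sum]
      apply Finset.sum_congr rfl
      intro i _
      rw [← map_smul]
      congr 1
      ext j
      simp [Pi.single_apply]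
    simp only [LinearMap.smul_apply, LinearMap.comp_apply, LinearMap.proj_apply, smul_eq_mul,
      mul_smul]
    rw [← Finset.smul_sum, ← h5, h4, mul_smul]

end loc

section basic

variable (N : Type u) [AddCommGroup N] [Module R N]

/-- `TrFactor` passes to the dual. -/
theorem TrFactor.dual {s : R} (h : TrFactor N s) : TrFactor (Module.Dual R N) s := by
  obtain ⟨r, α, ν, hs⟩ := h
  refine ⟨r, fun i => Module.Dual.eval R N (ν i), α, fun φ => ?_⟩
  ext n
  simp only [LinearMap.sum_apply, LinearMap.smul_apply, Module.Dual.eval_apply, smul_eq_mul]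
  have := congrArg φ (hs n)
  rw [map_sum, map_smul] at this
  simp only [map_smul, smul_eq_mul] at this
  rw [← this]
  apply Finset.sum_congr rfl
  intro i _
  ring

theorem PF.dual [IsLocalRing R] (h : PF R N) : PF R (Module.Dual R N) := by
  intro p hp hpm
  obtain ⟨s, hs, hT⟩ := h p hp hpm
  exact ⟨s, hs, hT.dual N⟩

/-- `TrFactor` transports along linear equivalences. -/
theorem TrFactor.of_equiv {N' : Type u} [AddCommGroup N'] [Module R N'] (e : N ≃ₗ[R] N') {s : R}
    (h : TrFactor N s) : TrFactor N' s := by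
  obtain ⟨r, α, ν, hs⟩ := h
  refine ⟨r, fun i => α i ∘ₗ e.symm.toLinearMap, fun i => e (ν i), fun n => ?_⟩
  have := congrArg e (hs (e.symm n))
  rw [map_sum, map_smul, e.apply_symm_apply] at this
  rw [← this]
  apply Finset.sum_congr rfl
  intro i _
  rw [map_smul]
  rfl

/-- the factorisation through a free module. -/
theorem TrFactor.exists_comp {s : R} (h : TrFactor N s) :
    ∃ (r : ℕ) (a : N →ₗ[R] (Fin r → R)) (b : (Fin r → R) →ₗ[R] N),
      b ∘ₗ a = s • LinearMap.id := by
  obtain ⟨r, α, ν, hs⟩ := h
  refine ⟨r, LinearMap.pi α, Fintype.linearCombination R ν, ?_⟩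
  ext n
  simp only [LinearMap.comp_apply, LinearMap.smul_apply, LinearMap.id_apply,
    Fintype.linearCombination_apply, LinearMap.pi_apply]
  exact hs n

end basic

section ann

variable [IsLocalRing R]

/-- a module killed, near every non-maximal prime, by an element outside the prime. -/
def PFAnn (R : Type u) [CommRing R] [IsLocalRing R] (T : Type*) [AddCommGroup T] [Module R T] :
    Prop :=
  ∀ p : Ideal R, p.IsPrime → p ≠ maximalIdeal R → ∃ s : R, s ∉ p ∧ ∀ t : T, s • t = 0

theorem PF.pfAnn {N : Type u} [AddCommGroup N] [Module R N] (h : PF R N)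
    {T : Type*} [AddCommGroup T] [Module R T]
    (hT : ∀ s : R, TrFactor N s → ∀ t : T, s • t = 0) : PFAnn R T := by
  intro p hp hpm
  obtain ⟨s, hs, hT'⟩ := h p hp hpm
  exact ⟨s, hs, hT s hT'⟩

theorem PFAnn.isFiniteLength [IsNoetherianRing R] {T : Type*} [AddCommGroup T] [Module R T]
    [Module.Finite R T] (h : PFAnn R T) : IsFiniteLength R T := by
  apply Groth.Agent.DimLib.isFiniteLength_of_support_isMaximal
  intro p hp
  by_contra hmax
  have hpm : p.asIdeal ≠ maximalIdeal R := by
    intro h1
    exact hmax (h1 ▸ maximalIdeal.isMaximal R)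
  obtain ⟨s, hs, hT⟩ := h p.asIdeal p.isPrime hpm
  rw [Module.mem_support_iff_of_finite] at hp
  exact hs (hp (Module.mem_annihilator.mpr hT))

theorem PFAnn.exists_pow {T : Type*} [AddCommGroup T] [Module R T] (h : PFAnn R T) (x : R)
    (hx : x ∈ maximalIdeal R) : ∃ k : ℕ, ∀ t : T, x ^ k • t = 0 := by
  have hrad : x ∈ (Module.annihilator R T).radical := by
    rw [Ideal.radical_eq_sInf, Ideal.mem_sInf]
    rintro J ⟨hJ, hJp⟩
    by_cases hJm : J = maximalIdeal R
    · rw [hJm]; exact hx
    · obtain ⟨s, hs, hT⟩ := h J hJp hJm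
      exact absurd (hJ (Module.mem_annihilator.mpr hT)) hs
  obtain ⟨k, hk⟩ := hrad
  exact ⟨k, Module.mem_annihilator.mp hk⟩

theorem PFAnn.of_surjective {T T' : Type*} [AddCommGroup T] [Module R T] [AddCommGroup T']
    [Module R T'] (f : T →ₗ[R] T') (hf : Function.Surjective f) (h : PFAnn R T) : PFAnn R T' := by
  intro p hp hpm
  obtain ⟨s, hs, hT⟩ := h p hp hpm
  refine ⟨s, hs, fun t' => ?_⟩
  obtain ⟨t, rfl⟩ := hf t'
  rw [← map_smul, hT, map_zero]

theorem PFAnn.of_injective {T T' : Type*} [AddCommGroup T] [Module R T] [AddCommGroup T']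
    [Module R T'] (f : T' →ₗ[R] T) (hf : Function.Injective f) (h : PFAnn R T) : PFAnn R T' := by
  intro p hp hpm
  obtain ⟨s, hs, hT⟩ := h p hp hpm
  refine ⟨s, hs, fun t' => ?_⟩
  apply hf
  rw [map_smul, hT, map_zero]

end ann

end Groth.Agent.Lib.AusPur
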