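import Mathlib

/-!
# `Ext^p(A/J, M) ≅ M/JM` for `J` generated by a regular sequence of length `p` (helper5)
-/

universe u

namespace Groth.Agent.ExtKoszul

open CategoryTheory Abelian RingTheory.Sequence
open scoped Pointwise

variable {A : Type u} [CommRing A]

/-- transport of `Ext` along an isomorphism in the first variable -/
noncomputable def extCongrLeft {X X' : ModuleCat.{u} A} (e : X ≅ X') (Y : ModuleCat.{u} A) (n : ℕ) :
    Ext X Y n ≃ₗ[A] Ext X' Y n :=
  LinearEquiv.ofLinearMap (Ext.precompOfLinear (Ext.mk₀ e.inv) A Y (zero_add n))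
    (Ext.precompOfLinear (Ext.mk₀ e.hom) A Y (zero_add n))
    (by
      ext α
      show (Ext.mk₀ e.inv).comp ((Ext.mk₀ e.hom).comp α (zero_add n)) (zero_add n) = α
      rw [Ext.mk₀_comp_mk₀_assoc, e.inv_hom_id, Ext.mk₀_id_comp])
    (by
      ext α
      show (Ext.mk₀ e.hom).comp ((Ext.mk₀ e.inv).comp α (zero_add n)) (zero_add n) = α
      rw [Ext.mk₀_comp_mk₀_assoc, e.hom_inv_id, Ext.mk₀_id_comp])

theorem step (N : ModuleCat.{u} A) (x : A) (reg : IsSMulRegular N x) (M : ModuleCat.{u} A) (p : ℕ)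
    (hvan : Subsingleton (Ext N M (p + 1))) :
    Nonempty (Ext (ModuleCat.of A (QuotSMulTop x N)) M (p + 1) ≃ₗ[A] QuotSMulTop x (Ext N M p)) := by
  have hS := reg.smulShortComplex_shortExact
  let δ : Ext N M p →ₗ[A] Ext (ModuleCat.of A (QuotSMulTop x N)) M (p + 1) :=
    Ext.precompOfLinear hS.extClass A M (add_comm 1 p)
  have hδ : ∀ α, δ α = hS.extClass.comp α (add_comm 1 p) := fun α => rfl
  have hsurj : Function.Surjective δ := by
    intro β
    obtain ⟨α, hα⟩ := Ext.contravariant_sequence_exact₃ hS M β (@Subsingleton.elim _ hvan _ _)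
      (add_comm 1 p)
    exact ⟨α, hα⟩
  have hker : LinearMap.ker δ = x • (⊤ : Submodule A (Ext N M p)) := by
    ext α
    rw [LinearMap.mem_ker, hδ]
    constructor
    · intro h
      obtain ⟨α', hα'⟩ := Ext.contravariant_sequence_exact₁ hS M α (add_comm 1 p) h
      have h2 : (Ext.mk₀ (x • 𝟙 N)).comp α' (zero_add p) = α := hα'
      rw [Ext.mk₀_smul, Ext.smul_comp, Ext.mk₀_id_comp] at h2
      rw [← h2]
      exact Submodule.smul_mem_pointwise_smul _ _ _ Submodule.mem_top
    · intro h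
      obtain ⟨α', -, rfl⟩ := (Submodule.mem_smul_pointwise_iff_exists _ _ _).mp h
      have h2 : x • α' = (Ext.mk₀ (x • 𝟙 N)).comp α' (zero_add p) := by
        rw [Ext.mk₀_smul, Ext.smul_comp, Ext.mk₀_id_comp]
      rw [h2]
      exact hS.extClass_comp_assoc α'
  exact ⟨((Submodule.quotEquivOfEq _ _ hker).symm.trans
    (LinearMap.quotKerEquivOfSurjective δ hsurj)).symm⟩

theorem step_vanish (N : ModuleCat.{u} A) (x : A) (reg : IsSMulRegular N x) (M : ModuleCat.{u} A)
    (i : ℕ) (h1 : Subsingleton (Ext N M i)) (h2 : Subsingleton (Ext N M (i + 1))) :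
    Subsingleton (Ext (ModuleCat.of A (QuotSMulTop x N)) M (i + 1)) := by
  have hS := reg.smulShortComplex_shortExact
  refine ⟨fun a b => ?_⟩
  have key : ∀ β : Ext (ModuleCat.of A (QuotSMulTop x N)) M (i + 1), β = 0 := fun β => by
    obtain ⟨α, hα⟩ := Ext.contravariant_sequence_exact₃ hS M β (@Subsingleton.elim _ h2 _ _)
      (add_comm 1 i)
    have hα0 : α = (0 : Ext (N.smulShortComplex x).X₁ M i) := @Subsingleton.elim _ h1 α 0
    rw [← hα, hα0, Ext.comp_zero]
    rfl
  rw [key a, key b]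

variable (M : Type u) [AddCommGroup M] [Module A M]

theorem main (rs : List A) : IsWeaklyRegular A rs →
    ∀ (N : Type u) [AddCommGroup N] [Module A N],
      (N ≃ₗ[A] (A ⧸ (Ideal.ofList rs • ⊤ : Submodule A A))) →
      (∀ i, rs.length < i → Subsingleton (Ext (ModuleCat.of A N) (ModuleCat.of A M) i)) ∧
      Nonempty (Ext (ModuleCat.of A N) (ModuleCat.of A M) rs.length ≃ₗ[A]
        M ⧸ (Ideal.ofList rs • ⊤ : Submodule A M)) := by
  induction rs using List.reverseRecOn with
  | nil =>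
    intro _ N _ _ eN
    have hbot : (Ideal.ofList ([] : List A) • ⊤ : Submodule A A) = ⊥ := by
      rw [Ideal.ofList_nil, Submodule.bot_smul]
    have hbotM : (Ideal.ofList ([] : List A) • ⊤ : Submodule A M) = ⊥ := by
      rw [Ideal.ofList_nil, Submodule.bot_smul]
    let eA : N ≃ₗ[A] A := eN.trans (Submodule.quotEquivOfEqBot _ hbot)
    haveI : Module.Projective A N := Module.Projective.of_equiv eA.symm
    constructor
    · intro i hi
      obtain ⟨j, rfl⟩ : ∃ j, i = j + 1 := ⟨i - 1, by simp at hi; omega⟩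
      exact ⟨fun a b => by rw [Ext.eq_zero_of_projective a, Ext.eq_zero_of_projective b]⟩
    · exact ⟨(Ext.linearEquiv₀ (R := A)).trans ((ModuleCat.homLinearEquiv (S := A)).trans
        ((LinearEquiv.congrLeft M A eA).trans ((LinearMap.ringLmapEquivSelf A A M).trans
          (Submodule.quotEquivOfEqBot _ hbotM).symm)))⟩
  | append_singleton rs x ih =>
    intro hreg N _ _ eN
    obtain ⟨h1, h2⟩ := (isWeaklyRegular_append_iff A rs [x]).mp hreg
    have reg : IsSMulRegular (A ⧸ (Ideal.ofList rs • ⊤ : Submodule A A)) x :=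
      (isWeaklyRegular_singleton_iff _ x).mp h2
    obtain ⟨hv, ⟨e⟩⟩ := ih h1 (A ⧸ (Ideal.ofList rs • ⊤ : Submodule A A)) (LinearEquiv.refl _ _)
    have hideal : Ideal.ofList (rs ++ [x]) = Ideal.ofList (x :: rs) := by
      rw [Ideal.ofList_append, Ideal.ofList_singleton, Ideal.ofList_cons, sup_comm]
    let iso0 : N ≃ₗ[A] QuotSMulTop x (A ⧸ (Ideal.ofList rs • ⊤ : Submodule A A)) :=
      eN.trans ((Submodule.quotEquivOfEq _ _ (by rw [hideal])).trans
        (Submodule.quotOfListConsSMulTopEquivQuotSMulTopOuter A x rs))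
    let isoCat : ModuleCat.of A N ≅
        ModuleCat.of A (QuotSMulTop x (A ⧸ (Ideal.ofList rs • ⊤ : Submodule A A))) :=
      iso0.toModuleIso
    have hlen : (rs ++ [x]).length = rs.length + 1 := by simp
    rw [hlen]
    constructor
    · intro i hi
      obtain ⟨j, rfl⟩ : ∃ j, i = j + 1 := ⟨i - 1, by omega⟩
      have := step_vanish (ModuleCat.of A (A ⧸ (Ideal.ofList rs • ⊤ : Submodule A A))) x reg
        (ModuleCat.of A M) j (hv j (by omega)) (hv (j + 1) (by omega))
      exact (extCongrLeft isoCat (ModuleCat.of A M) (j + 1)).toEquiv.subsingleton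
    · obtain ⟨e1⟩ := step (ModuleCat.of A (A ⧸ (Ideal.ofList rs • ⊤ : Submodule A A))) x reg
        (ModuleCat.of A M) rs.length (hv _ (Nat.lt_succ_self _))
      exact ⟨(extCongrLeft isoCat (ModuleCat.of A M) (rs.length + 1)).trans
        (e1.trans ((QuotSMulTop.congr x e).trans
          ((Submodule.quotOfListConsSMulTopEquivQuotSMulTopOuter M x rs).symm.trans
            (Submodule.quotEquivOfEq _ _ (by rw [hideal])))))⟩

/-- S5665 -/
theorem ext_quot_regular (xs : List A) (hreg : IsWeaklyRegular A xs) :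
    Nonempty (Ext (ModuleCat.of A (A ⧸ Ideal.ofList xs)) (ModuleCat.of A M) xs.length ≃ₗ[A]
      (M ⧸ (Ideal.ofList xs • (⊤ : Submodule A M)))) :=
  (main M xs hreg (A ⧸ Ideal.ofList xs)
    (Submodule.quotEquivOfEq _ _ (by rw [smul_eq_mul, Ideal.mul_top]))).2

end Groth.Agent.ExtKoszul
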