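import Groth.Agent.Lib.ExtBridge_helper5
import Groth.Agent.Lib.ExtTop_helper5
import Groth.Agent.Lib.ExtKoszul_helper5
import Groth.Agent.Lib.FiniteFree_helper5
import Groth.Agent.Lib.DimTheory_helper5

/-!
# `Ext^i(M, A)` for `M` of finite length over a regular local ring `A` (helper5)
-/

set_option autoImplicit false
set_option maxHeartbeats 400000
universe u
open CategoryTheory CategoryTheory.Limits Abelian IsLocalRing RingTheory.Sequence
open Pointwise

namespace Groth.Agent.ExtDual

open Groth.Agent.TorLES Groth.Agent.GlDim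

variable (A : Type u) [CommRing A] [IsRegularLocalRing A] (n : ℕ) (hn : ringKrullDim A = n)

lemma finite_of_isFiniteLength (M : Type u) [AddCommGroup M] [Module A M]
    (hM : IsFiniteLength A M) : Module.Finite A M := by
  haveI := (isFiniteLength_iff_isNoetherian_isArtinian.mp hM).1
  infer_instance

lemma supportDim_le_zero (M : Type u) [AddCommGroup M] [Module A M]
    (hM : IsFiniteLength A M) : Module.supportDim A M ≤ 0 := by
  haveI := finite_of_isFiniteLength A M hM
  haveI := (isFiniteLength_iff_isNoetherian_isArtinian.mp hM).1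
  haveI := (isFiniteLength_iff_isNoetherian_isArtinian.mp hM).2
  have h := Groth.Agent.DimLib.supportDim_le_of_isFiniteLength_quotient (A := A) (M := M)
    (n := 0) (fun i => Fin.elim0 i) (fun i => Fin.elim0 i)
    (isFiniteLength_iff_isNoetherian_isArtinian.mpr ⟨inferInstance, inferInstance⟩)
  exact_mod_cast h

include hn in
theorem vanish (M : Type u) [AddCommGroup M] [Module A M] (hM : IsFiniteLength A M) (i : ℕ)
    (hi : i ≠ n) : Subsingleton (Ext (ModuleCat.of A M) (ModuleCat.of A A) i) := by
  haveI := finite_of_isFiniteLength A M hM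
  rcases lt_or_gt_of_ne hi with h | h
  · apply Groth.Agent.ExtTop.ext_vanish_of_supportDim A M n ?_ i h
    rw [hn]
    calc Module.supportDim A M + (n : WithBot ℕ∞) ≤ 0 + (n : WithBot ℕ∞) :=
          add_le_add_left (supportDim_le_zero A M hM) _
      _ = n := zero_add _
  · haveI := hasProjectiveDimensionLT_of_regular A n hn M
    exact HasProjectiveDimensionLT.subsingleton (ModuleCat.of A M) (n + 1) i (by omega) _

include hn in
/-- `Ext^n(Q, A)` has length one for a simple module `Q`. -/
theorem length_simple (Q : Type u) [AddCommGroup Q] [Module A Q] [IsSimpleModule A Q] :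
    Module.length A (Ext (ModuleCat.of A Q) (ModuleCat.of A A) n) = 1 := by
  obtain ⟨l, hreg, hspan, hlen⟩ := Groth.Agent.FiniteFree.exists_regular_sop A
  have hln : l.length = n := by
    have h1 : ((maximalIdeal A).spanFinrank : WithBot ℕ∞) = ringKrullDim A :=
      IsRegularLocalRing.spanFinrank_maximalIdeal
    rw [hn, ← hlen] at h1
    exact_mod_cast h1
  obtain ⟨I, hI, ⟨e⟩⟩ := isSimpleModule_iff_quot_maximal.mp (inferInstance : IsSimpleModule A Q)
  have hIm : I = maximalIdeal A := IsLocalRing.eq_maximalIdeal hI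
  have hI2 : I = (Ideal.ofList l • ⊤ : Submodule A A) := by
    rw [hIm, ← hspan, smul_eq_mul, Ideal.mul_top]
  obtain ⟨-, ⟨e2⟩⟩ := Groth.Agent.ExtKoszul.main (ModuleCat.of A A) l hreg.toIsWeaklyRegular Q
    (e.trans (Submodule.quotEquivOfEq _ _ hI2))
  rw [hln] at e2
  rw [e2.length_eq, ← (e.trans (Submodule.quotEquivOfEq _ _ hI2)).length_eq]
  exact Module.length_eq_one_iff.mpr inferInstance

include hn in
theorem length_eq (M : Type u) [AddCommGroup M] [Module A M] (hM : IsFiniteLength A M) :
    Module.length A (Ext (ModuleCat.of A M) (ModuleCat.of A A) n) = Module.length A M := by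
  induction hM with
  | @of_subsingleton M _ _ _ =>
    haveI : Subsingleton (Ext (ModuleCat.of A M) (ModuleCat.of A A) n) :=
      Groth.Agent.ExtDev.subsingleton_of_isZero_left _ (ModuleCat.isZero_of_subsingleton _) n
    rw [Module.length_eq_zero, Module.length_eq_zero]
  | @of_simple_quotient M _ _ N _ hN ih =>
    have hMfl : IsFiniteLength A M := IsFiniteLength.of_simple_quotient hN
    haveI := finite_of_isFiniteLength A M hMfl
    have hex : Function.Exact N.subtype N.mkQ := LinearMap.exact_subtype_mkQ N
    have hS := mk_shortExact N.subtype N.mkQ Subtype.val_injective hex N.mkQ_surjective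
    set S := ShortComplex.moduleCatMk N.subtype N.mkQ hex.linearMap_comp_eq_zero with hSdef
    let Y := ModuleCat.of A A
    let fs : Ext S.X₂ Y n →ₗ[A] Ext S.X₁ Y n := Ext.precompOfLinear (Ext.mk₀ S.f) A Y (zero_add n)
    let gs : Ext S.X₃ Y n →ₗ[A] Ext S.X₂ Y n := Ext.precompOfLinear (Ext.mk₀ S.g) A Y (zero_add n)
    have hfs : ∀ x, fs x = (Ext.mk₀ S.f).comp x (zero_add n) := fun x => rfl
    have hgs : ∀ x, gs x = (Ext.mk₀ S.g).comp x (zero_add n) := fun x => rfl
    -- injectivity of gs
    have hinj : Function.Injective gs := by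
      rw [injective_iff_map_eq_zero]
      intro x hx
      rw [hgs] at hx
      rcases Nat.eq_zero_or_pos n with h0 | hpos
      · subst h0
        obtain ⟨φ, rfl⟩ := (Ext.mk₀_bijective S.X₃ Y).2 x
        rw [Ext.mk₀_comp_mk₀] at hx
        have h1 : S.g ≫ φ = 0 := (Ext.mk₀_bijective S.X₂ Y).1 (by rw [hx, Ext.mk₀_zero])
        haveI := hS.epi_g
        have h2 : φ = 0 := by rw [← cancel_epi S.g, h1, comp_zero]
        rw [h2, Ext.mk₀_zero]
      · obtain ⟨m, rfl⟩ : ∃ m, n = m + 1 := ⟨n - 1, by omega⟩
        obtain ⟨α, hα⟩ := Ext.contravariant_sequence_exact₃ hS Y x hx (add_comm 1 m)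
        haveI : Subsingleton (Ext S.X₁ Y m) := vanish A (m + 1) hn N hN m (by omega)
        rw [← hα, Subsingleton.elim α 0, Ext.comp_zero]
    have hsurj : Function.Surjective fs := by
      intro x
      haveI : Subsingleton (Ext S.X₃ Y (n + 1)) := by
        haveI := hasProjectiveDimensionLT_of_regular A n hn (M ⧸ N)
        exact HasProjectiveDimensionLT.subsingleton (ModuleCat.of A (M ⧸ N)) (n + 1) (n + 1)
          le_rfl _
      obtain ⟨y, hy⟩ := Ext.contravariant_sequence_exact₁ hS Y x (add_comm 1 n)
        (Subsingleton.elim _ _)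
      exact ⟨y, hy⟩
    have hexact : Function.Exact gs fs := by
      intro x
      constructor
      · intro hx
        obtain ⟨y, hy⟩ := Ext.contravariant_sequence_exact₂ hS Y x hx
        exact ⟨y, hy⟩
      · rintro ⟨y, rfl⟩
        rw [hfs, hgs, Ext.mk₀_comp_mk₀_assoc, S.zero, Ext.mk₀_zero, Ext.zero_comp]
    have h1 := Module.length_eq_add_of_exact gs fs hinj hsurj hexact
    have h2 := Module.length_eq_add_of_exact N.subtype N.mkQ Subtype.val_injective
      N.mkQ_surjective hex
    have h3 : Module.length A (Ext S.X₃ Y n) = 1 := length_simple A n hn (M ⧸ N)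
    have h4 : Module.length A (M ⧸ N) = 1 := Module.length_eq_one_iff.mpr inferInstance
    have h5 : Module.length A (Ext S.X₁ Y n) = Module.length A N := ih
    change Module.length A (Ext S.X₂ Y n) = Module.length A M
    rw [h1, h2, h3, h4, h5, add_comm]

end Groth.Agent.ExtDual
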