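import Groth.Agent.Lib.AusPur1_helper5
import Groth.Agent.Lib.ExtDual_helper5
import Groth.Agent.Lib.DepthHom_helper5

/-!
# Auslander's theorem, part 2: dualizing maps that are isomorphisms on the punctured spectrum
-/

set_option autoImplicit false
set_option linter.style.haveILetI false
set_option maxHeartbeats 400000
universe u
open CategoryTheory CategoryTheory.Limits Abelian IsLocalRing TensorProduct

namespace Groth.Agent.Lib.AusPur

section ext

variable {R : Type u} [CommRing R]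

/-- `TrFactor` elements kill the higher `Ext` groups. -/
theorem TrFactor.smul_ext {N : Type u} [AddCommGroup N] [Module R N] {s : R} (h : TrFactor N s)
    (Y : ModuleCat.{u} R) (j : ℕ) (hj : 1 ≤ j) (e : Ext (ModuleCat.of R N) Y j) : s • e = 0 := by
  obtain ⟨r, a, b, hab⟩ := h.exists_comp
  haveI : Projective (ModuleCat.of R (Fin r → R)) :=
    (IsProjective.iff_projective (R := R) (P := Fin r → R)).mp inferInstance
  have h1 : s • e = (Ext.mk₀ (s • 𝟙 (ModuleCat.of R N))).comp e (zero_add j) := by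
    rw [Ext.mk₀_smul, Ext.smul_comp, Ext.mk₀_id_comp]
  have h2 : s • 𝟙 (ModuleCat.of R N) = ModuleCat.ofHom a ≫ ModuleCat.ofHom b := by
    rw [← ModuleCat.ofHom_comp, hab]
    rfl
  obtain ⟨k, rfl⟩ : ∃ k, j = k + 1 := ⟨j - 1, by omega⟩
  rw [h1, h2, ← Ext.mk₀_comp_mk₀, Ext.comp_assoc_of_second_deg_zero,
    Ext.eq_zero_of_projective ((Ext.mk₀ (ModuleCat.ofHom b)).comp e _), Ext.comp_zero]

/-- if `Ext^n(X₂,Y)` and `Ext^{n+1}(X₃,Y)` vanish then so does `Ext^n(X₁,Y)`. -/
theorem subsingleton_ext_left {C : Type*} [Category C] [Abelian C] [HasExt C]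
    {S : ShortComplex C} (hS : S.ShortExact) (Y : C) (n : ℕ)
    (h2 : Subsingleton (Ext S.X₂ Y n)) (h3 : Subsingleton (Ext S.X₃ Y (n + 1))) :
    Subsingleton (Ext S.X₁ Y n) := by
  refine ⟨fun a b => ?_⟩
  have key : ∀ e : Ext S.X₁ Y n, e = 0 := by
    intro e
    obtain ⟨y, rfl⟩ := Ext.contravariant_sequence_exact₁ hS Y e (add_comm 1 n)
      (Subsingleton.elim _ _)
    rw [Subsingleton.elim y 0, Ext.comp_zero]
  rw [key a, key b]

end ext

section H

variable (S : Type u) [CommRing S] [IsRegularLocalRing S]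

theorem bot_ne_maximalIdeal (n : ℕ) (hn : ringKrullDim S = n) (h1 : 1 ≤ n) :
    (⊥ : Ideal S) ≠ maximalIdeal S := by
  haveI := Groth.Agent.RegularLib.isDomain S
  intro h
  have h2 : ((maximalIdeal S).height : WithBot ℕ∞) = ringKrullDim S :=
    IsLocalRing.maximalIdeal_height_eq_ringKrullDim
  rw [← h, Ideal.height_bot, hn] at h2
  have : (0 : ℕ) = n := by exact_mod_cast h2
  omega

/-- Dualizing a map with torsion kernel and cokernel supported at the closed point is bijective
(depth `≥ 2`). -/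
theorem lemmaH (n : ℕ) (hn : ringKrullDim S = n) (h2 : 2 ≤ n)
    {M1 M2 : Type u} [AddCommGroup M1] [Module S M1] [AddCommGroup M2] [Module S M2]
    [Module.Finite S M2] (φ : M1 →ₗ[S] M2)
    (hker : ∃ s : S, s ≠ 0 ∧ ∀ z ∈ LinearMap.ker φ, s • z = 0)
    (hcok : PFAnn S (M2 ⧸ LinearMap.range φ)) :
    Function.Bijective φ.dualMap := by
  haveI := Groth.Agent.RegularLib.isDomain S
  have hbot := bot_ne_maximalIdeal S n hn (by omega)
  constructor
  · rw [injective_iff_map_eq_zero]
    intro ψ hψ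
    obtain ⟨s, hs, hsQ⟩ := hcok ⊥ Ideal.isPrime_bot hbot
    have hs0 : s ≠ 0 := fun h => hs (h ▸ Ideal.zero_mem _)
    ext y
    have h1 : s • y ∈ LinearMap.range φ := by
      have := hsQ (Submodule.Quotient.mk y)
      rwa [← Submodule.Quotient.mk_smul, Submodule.Quotient.mk_eq_zero] at this
    obtain ⟨z, hz⟩ := h1
    have h3 : ψ (s • y) = 0 := by
      rw [← hz]
      exact LinearMap.congr_fun hψ z
    rw [map_smul, smul_eq_mul] at h3
    rcases mul_eq_zero.mp h3 with h | h
    · exact absurd h hs0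
    · simpa using h
  · intro χ
    obtain ⟨s, hs0, hsk⟩ := hker
    have hle : LinearMap.ker φ ≤ LinearMap.ker χ := by
      intro z hz
      have h1 : χ (s • z) = 0 := by rw [hsk z hz, map_zero]
      rw [map_smul, smul_eq_mul] at h1
      rcases mul_eq_zero.mp h1 with h | h
      · exact absurd h hs0
      · exact h
    let I := LinearMap.range φ
    let χ' : I →ₗ[S] S := ((LinearMap.ker φ).liftQ χ hle) ∘ₗ φ.quotKerEquivRange.symm.toLinearMap
    have hχ' : ∀ m : M1, χ' ⟨φ m, LinearMap.mem_range_self φ m⟩ = χ m := by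
      intro m
      have h1 : φ.quotKerEquivRange.symm ⟨φ m, LinearMap.mem_range_self φ m⟩ =
          Submodule.Quotient.mk m := by
        rw [LinearEquiv.symm_apply_eq]
        rfl
      change ((LinearMap.ker φ).liftQ χ hle) (φ.quotKerEquivRange.symm _) = _
      rw [h1]
      rfl
    have hfl : IsFiniteLength S (M2 ⧸ I) := hcok.isFiniteLength
    have hsub : Subsingleton (Ext (ModuleCat.of S (M2 ⧸ I)) (ModuleCat.of S S) 1) :=
      Groth.Agent.ExtDual.vanish S n hn (M2 ⧸ I) hfl 1 (by omega)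
    have hex : Function.Exact I.subtype I.mkQ := LinearMap.exact_subtype_mkQ I
    have hS := ModuleCat.shortComplex_shortExact
      (ShortComplex.moduleCatMk I.subtype I.mkQ hex.linearMap_comp_eq_zero) hex
      Subtype.val_injective I.mkQ_surjective
    obtain ⟨y, hy⟩ := Ext.contravariant_sequence_exact₁ hS (ModuleCat.of S S)
      (Ext.mk₀ (ModuleCat.ofHom χ')) (add_comm 1 0) (@Subsingleton.elim _ hsub _ _)
    obtain ⟨ψ', rfl⟩ := (Ext.mk₀_bijective _ _).2 y
    rw [Ext.mk₀_comp_mk₀] at hy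
    have hy' := (Ext.mk₀_bijective _ _).1 hy
    refine ⟨ψ'.hom, ?_⟩
    ext m
    have h5 := congrArg (fun f => f.hom (⟨φ m, LinearMap.mem_range_self φ m⟩ : I)) hy'
    simp only [ModuleCat.hom_comp, LinearMap.comp_apply] at h5
    rw [LinearMap.dualMap_apply]
    exact h5.trans (hχ' m)

end H

section beta

variable {S : Type u} [CommRing S] (Nb : Type u) [AddCommGroup Nb] [Module S Nb]

/-- an `s`-inverse of `dualTensorHom`. -/
theorem dualTensorHom_sinv {s : S} (h : TrFactor Nb s) :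
    ∃ Θ : (Nb →ₗ[S] Nb) →ₗ[S] (Module.Dual S Nb ⊗[S] Nb),
      (∀ f, dualTensorHom S Nb Nb (Θ f) = s • f) ∧
      (∀ t, Θ (dualTensorHom S Nb Nb t) = s • t) := by
  obtain ⟨r, α, ν, hs⟩ := h
  let Θ : (Nb →ₗ[S] Nb) →ₗ[S] (Module.Dual S Nb ⊗[S] Nb) :=
    { toFun := fun f => ∑ i, (α i ∘ₗ f) ⊗ₜ[S] ν i
      map_add' := fun f f' => by
        rw [← Finset.sum_add_distrib]
        apply Finset.sum_congr rfl
        intro i _
        rw [LinearMap.comp_add, TensorProduct.add_tmul]
      map_smul' := fun c f => by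
        rw [Finset.smul_sum]
        apply Finset.sum_congr rfl
        intro i _
        rw [LinearMap.comp_smul, RingHom.id_apply, TensorProduct.smul_tmul'] }
  have hΘ : ∀ f, Θ f = ∑ i, (α i ∘ₗ f) ⊗ₜ[S] ν i := fun f => rfl
  refine ⟨Θ, fun f => ?_, fun t => ?_⟩
  · ext n
    rw [hΘ, map_sum, LinearMap.sum_apply]
    simp only [dualTensorHom_apply, LinearMap.comp_apply, LinearMap.smul_apply]
    exact hs (f n)
  · induction t using TensorProduct.induction_on with
    | zero => simp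
    | tmul φ n =>
      rw [hΘ]
      have h1 : ∀ i, α i ∘ₗ dualTensorHom S Nb Nb (φ ⊗ₜ[S] n) = α i n • φ := by
        intro i
        ext m
        simp only [LinearMap.comp_apply, dualTensorHom_apply, map_smul, smul_eq_mul,
          LinearMap.smul_apply]
        ring
      simp only [h1]
      have h2 : ∀ i, (α i n • φ) ⊗ₜ[S] ν i = φ ⊗ₜ[S] (α i n • ν i) := fun i => by
        rw [TensorProduct.smul_tmul]
      simp only [h2]
      rw [← TensorProduct.tmul_sum, hs n, TensorProduct.tmul_smul]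
    | add x y hx hy => rw [map_add, map_add, hx, hy, smul_add]

end beta

section D4A

variable (S : Type u) [CommRing S] [IsRegularLocalRing S]

/-- Goal A of the inductive step: the dual `P` of `N̄` has `End(P) ≅ P^g`. -/
theorem d4A (n : ℕ) (hn : ringKrullDim S = n) (h2 : 2 ≤ n)
    (Nb : Type u) [AddCommGroup Nb] [Module S Nb] [Module.Finite S Nb] (hPF : PF S Nb) (g : ℕ)
    (w : (Fin g → Nb) →ₗ[S] (Nb →ₗ[S] Nb)) (hw : Function.Injective w)
    (hwc : PFAnn S ((Nb →ₗ[S] Nb) ⧸ LinearMap.range w)) :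
    Nonempty ((Module.Dual S Nb →ₗ[S] Module.Dual S Nb) ≃ₗ[S] (Fin g → Module.Dual S Nb)) := by
  haveI := Groth.Agent.RegularLib.isDomain S
  haveI : IsNoetherianRing S := inferInstance
  haveI : Module.Finite S (Nb →ₗ[S] Nb) := Groth.Agent.DepthLib.finite_hom Nb Nb
  have hbot := bot_ne_maximalIdeal S n hn (by omega)
  let P := Module.Dual S Nb
  let β := dualTensorHom S Nb Nb
  -- Lemma H for β
  have hβ : Function.Bijective β.dualMap := by
    apply lemmaH S n hn h2 (M1 := P ⊗[S] Nb) (M2 := Nb →ₗ[S] Nb) β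
    · obtain ⟨s, hs, hT⟩ := hPF ⊥ Ideal.isPrime_bot hbot
      obtain ⟨Θ, -, hΘ⟩ := dualTensorHom_sinv Nb hT
      refine ⟨s, fun h => hs (h ▸ Ideal.zero_mem _), fun z hz => ?_⟩
      rw [← hΘ z, LinearMap.mem_ker.mp hz, map_zero]
    · apply hPF.pfAnn
      intro s hT t
      obtain ⟨Θ, hΘ, -⟩ := dualTensorHom_sinv Nb hT
      induction t using Submodule.Quotient.induction_on with
      | _ f =>
        rw [← Submodule.Quotient.mk_smul, Submodule.Quotient.mk_eq_zero, ← hΘ f]
        exact LinearMap.mem_range_self _ _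
  have hw' : Function.Bijective w.dualMap := by
    apply lemmaH S n hn h2 (M1 := Fin g → Nb) (M2 := Nb →ₗ[S] Nb) w
    · refine ⟨1, one_ne_zero, fun z hz => ?_⟩
      rw [one_smul]
      exact hw (by rw [LinearMap.mem_ker.mp hz, map_zero])
    · exact hwc
  let e1 : (P →ₗ[S] P) ≃ₗ[S] Module.Dual S (P ⊗[S] Nb) := TensorProduct.lift.equiv (RingHom.id S) P Nb S
  let e2 : Module.Dual S (Nb →ₗ[S] Nb) ≃ₗ[S] Module.Dual S (P ⊗[S] Nb) :=
    LinearEquiv.ofBijective β.dualMap hβ
  let e3 : Module.Dual S (Nb →ₗ[S] Nb) ≃ₗ[S] Module.Dual S (Fin g → Nb) :=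
    LinearEquiv.ofBijective w.dualMap hw'
  let e4 : (Fin g → Module.Dual S Nb) ≃ₗ[S] Module.Dual S (Fin g → Nb) :=
    LinearMap.lsum S (fun _ : Fin g => Nb) S
  exact ⟨e1 ≪≫ₗ e2.symm ≪≫ₗ e3 ≪≫ₗ e4.symm⟩

end D4A

end Groth.Agent.Lib.AusPur
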