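import Groth.Agent.Lib.AusPur2_helper5

/-!
# Auslander's theorem, part 3: reduction modulo a regular element
-/

set_option autoImplicit false
set_option linter.style.haveILetI false
set_option maxHeartbeats 400000
universe u
open IsLocalRing Pointwise

namespace Groth.Agent.Lib.AusPur

section desc

variable {R : Type u} [CommRing R] (x : R) {N : Type u} [AddCommGroup N] [Module R N]
  {Y : Type u} [AddCommGroup Y] [Module R Y] [Module (R ⧸ Ideal.span {x}) Y]
  [IsScalarTower R (R ⧸ Ideal.span {x}) Y]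

theorem smul_eq_zero_of_quot (y : Y) : x • y = 0 := by
  rw [← algebraMap_smul (R ⧸ Ideal.span {x}) x y]
  have : algebraMap R (R ⧸ Ideal.span {x}) x = 0 :=
    Ideal.Quotient.eq_zero_iff_mem.mpr (Ideal.mem_span_singleton_self x)
  rw [this, zero_smul]

/-- the class of `n` in `N/xN`. -/
def mkb : N →ₗ[R] QuotSMulTop x N := Submodule.mkQ _

theorem mkb_surjective : Function.Surjective (mkb x (N := N)) := Submodule.Quotient.mk_surjective _

theorem mkb_eq_zero_iff (n : N) : mkb x n = 0 ↔ ∃ n', n = x • n' := by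
  unfold mkb
  rw [Submodule.mkQ_apply, Submodule.Quotient.mk_eq_zero, Submodule.mem_smul_pointwise_iff_exists]
  constructor
  · rintro ⟨n', -, h⟩
    exact ⟨n', h.symm⟩
  · rintro ⟨n', h⟩
    exact ⟨n', Submodule.mem_top, h.symm⟩

theorem mk_smul_mkb (a : R) (n : N) :
    (Ideal.Quotient.mk (Ideal.span {x}) a) • mkb x n = mkb x (a • n) := by
  rw [map_smul, ← algebraMap_smul (R ⧸ Ideal.span {x}) a (mkb x n)]
  rfl

theorem mk_smul (a : R) (y : Y) : (Ideal.Quotient.mk (Ideal.span {x}) a) • y = a • y := by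
  rw [← algebraMap_smul (R ⧸ Ideal.span {x}) a y]
  rfl

/-- descending a linear map to the quotient (a single map). -/
noncomputable def descFun (f : N →ₗ[R] Y) : QuotSMulTop x N →ₗ[R ⧸ Ideal.span {x}] Y :=
  LinearMap.extendScalarsOfSurjective Ideal.Quotient.mk_surjective
    (Submodule.liftQ (x • (⊤ : Submodule R N)) f (by
      intro n hn
      rw [Submodule.mem_smul_pointwise_iff_exists] at hn
      obtain ⟨n', -, rfl⟩ := hn
      rw [LinearMap.mem_ker, map_smul]
      exact smul_eq_zero_of_quot x _))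

theorem descFun_mkb (f : N →ₗ[R] Y) (n : N) : descFun x f (mkb x n) = f n := rfl

/-- descending a linear map to the quotient. -/
noncomputable def desc : (N →ₗ[R] Y) →ₗ[R] (QuotSMulTop x N →ₗ[R ⧸ Ideal.span {x}] Y) where
  toFun f := descFun x f
  map_add' f f' := by
    apply LinearMap.ext
    intro n
    obtain ⟨n, rfl⟩ := mkb_surjective x n
    rw [LinearMap.add_apply, descFun_mkb, descFun_mkb, descFun_mkb, LinearMap.add_apply]
  map_smul' a f := by
    apply LinearMap.ext
    intro n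
    obtain ⟨n, rfl⟩ := mkb_surjective x n
    rw [RingHom.id_apply, LinearMap.smul_apply, descFun_mkb, descFun_mkb, LinearMap.smul_apply]

@[simp] theorem desc_mkb (f : N →ₗ[R] Y) (n : N) : desc x f (mkb x n) = f n := rfl

end desc

section descent

variable {R : Type u} [CommRing R] (x : R) (N : Type u) [AddCommGroup N] [Module R N]

/-- the reduction of a functional. -/
noncomputable def dualb :
    Module.Dual R N →ₗ[R] Module.Dual (R ⧸ Ideal.span {x}) (QuotSMulTop x N) :=
  (desc x) ∘ₗ (LinearMap.llcomp R N R (R ⧸ Ideal.span {x}) (Algebra.linearMap R _))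

theorem dualb_mkb (φ : Module.Dual R N) (n : N) :
    dualb x N φ (mkb x n) = Ideal.Quotient.mk (Ideal.span {x}) (φ n) := rfl

theorem TrFactor.quot {s : R} (h : TrFactor N s) :
    TrFactor (R := R ⧸ Ideal.span {x}) (QuotSMulTop x N)
      (Ideal.Quotient.mk (Ideal.span {x}) s) := by
  obtain ⟨r, α, ν, hs⟩ := h
  refine ⟨r, fun i => dualb x N (α i), fun i => mkb x (ν i), fun nb => ?_⟩
  obtain ⟨n, rfl⟩ := mkb_surjective x nb
  simp only [dualb_mkb, mk_smul_mkb]
  rw [← map_sum, hs n]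

theorem PF.exists_of_prime_quot [IsLocalRing R] [IsLocalRing (R ⧸ Ideal.span {x})] (h : PF R N)
    (q : Ideal (R ⧸ Ideal.span {x})) (hq : q.IsPrime)
    (hqm : q ≠ maximalIdeal (R ⧸ Ideal.span {x})) :
    ∃ s : R, Ideal.Quotient.mk (Ideal.span {x}) s ∉ q ∧ TrFactor N s := by
  haveI := hq
  have hle : q ≤ maximalIdeal (R ⧸ Ideal.span {x}) := IsLocalRing.le_maximalIdeal hq.ne_top
  have hlt : q < maximalIdeal (R ⧸ Ideal.span {x}) := lt_of_le_of_ne hle hqm
  obtain ⟨yb, hyb, hybq⟩ := SetLike.exists_of_lt hlt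
  obtain ⟨y, rfl⟩ := Ideal.Quotient.mk_surjective yb
  have hy : y ∈ maximalIdeal R := by
    rw [mem_maximalIdeal, mem_nonunits_iff]
    intro hu
    exact (mem_maximalIdeal _).mp hyb (hu.map _)
  have hpm : q.comap (Ideal.Quotient.mk (Ideal.span {x})) ≠ maximalIdeal R := by
    intro h1
    apply hybq
    have : y ∈ q.comap (Ideal.Quotient.mk (Ideal.span {x})) := h1 ▸ hy
    exact this
  obtain ⟨s, hs, hT⟩ := h _ (Ideal.IsPrime.comap _) hpm
  exact ⟨s, hs, hT⟩

theorem PF.quot [IsLocalRing R] [IsLocalRing (R ⧸ Ideal.span {x})] (h : PF R N) :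
    PF (R ⧸ Ideal.span {x}) (QuotSMulTop x N) := by
  intro q hq hqm
  obtain ⟨s, hs, hT⟩ := h.exists_of_prime_quot x N q hq hqm
  exact ⟨_, hs, hT.quot x N⟩

theorem PF.pfAnn_quot [IsLocalRing R] [IsLocalRing (R ⧸ Ideal.span {x})] (h : PF R N)
    {T : Type*} [AddCommGroup T] [Module (R ⧸ Ideal.span {x}) T]
    (hT : ∀ s : R, TrFactor N s → ∀ t : T, Ideal.Quotient.mk (Ideal.span {x}) s • t = 0) :
    PFAnn (R ⧸ Ideal.span {x}) T := by
  intro q hq hqm
  obtain ⟨s, hs, hT'⟩ := h.exists_of_prime_quot x N q hq hqm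
  exact ⟨_, hs, hT s hT'⟩

end descent

section wbar

variable {R : Type u} [CommRing R] (x : R) (N : Type u) [AddCommGroup N] [Module R N]

/-- reduction of endomorphisms. -/
noncomputable def endb : (N →ₗ[R] N) →ₗ[R]
    (QuotSMulTop x N →ₗ[R ⧸ Ideal.span {x}] QuotSMulTop x N) :=
  (desc x) ∘ₗ (LinearMap.llcomp R N N (QuotSMulTop x N) (mkb x))

theorem endb_mkb (f : N →ₗ[R] N) (n : N) : endb x N f (mkb x n) = mkb x (f n) := rfl

theorem exists_eq_smul_of_forall (hx : IsSMulRegular N x) {M : Type*} [AddCommGroup M] [Module R M]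
    (f : M →ₗ[R] N) (h : ∀ m, ∃ n', f m = x • n') : ∃ f' : M →ₗ[R] N, f = x • f' := by
  let L : N →ₗ[R] N := LinearMap.lsmul R N x
  have hL : Function.Injective L := hx
  let eL := LinearEquiv.ofInjective L hL
  have hmem : ∀ m, f m ∈ LinearMap.range L := fun m => by
    obtain ⟨n', hn'⟩ := h m
    exact ⟨n', hn'.symm⟩
  refine ⟨eL.symm.toLinearMap ∘ₗ f.codRestrict (LinearMap.range L) hmem, ?_⟩
  ext m
  have h1 : L (eL.symm ⟨f m, hmem m⟩) = f m := by
    have := congrArg Subtype.val (eL.apply_symm_apply ⟨f m, hmem m⟩)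
    exact this
  exact h1.symm

theorem endb_eq_zero (hx : IsSMulRegular N x) (f : N →ₗ[R] N) (h : endb x N f = 0) :
    ∃ f' : N →ₗ[R] N, f = x • f' := by
  apply exists_eq_smul_of_forall x N hx
  intro n
  have h1 : mkb x (f n) = 0 := by
    rw [← endb_mkb, h]
    rfl
  exact (mkb_eq_zero_iff x _).mp h1

theorem exists_endb_eq_smul {s : R} (hT : TrFactor N s)
    (h : QuotSMulTop x N →ₗ[R ⧸ Ideal.span {x}] QuotSMulTop x N) :
    ∃ f' : N →ₗ[R] N, endb x N f' = (Ideal.Quotient.mk (Ideal.span {x}) s) • h := by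
  obtain ⟨r, α, ν, hs⟩ := hT
  choose w hw using fun i => mkb_surjective x (h (mkb x (ν i)))
  refine ⟨∑ i, (α i).smulRight (w i), ?_⟩
  apply LinearMap.ext
  intro nb
  obtain ⟨n, rfl⟩ := mkb_surjective x nb
  rw [endb_mkb, LinearMap.smul_apply, ← map_smul, mk_smul_mkb, ← hs n, LinearMap.sum_apply,
    map_sum, map_sum, map_sum]
  apply Finset.sum_congr rfl
  intro i _
  rw [LinearMap.smulRight_apply, map_smul, hw, ← mk_smul_mkb, map_smul, mk_smul]

variable {g : ℕ} (e : (N →ₗ[R] N) ≃ₗ[R] (Fin g → N))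

/-- the map `N̄^g → End(N̄)` induced by `End(N) ≅ N^g`. -/
noncomputable def wbar : (Fin g → QuotSMulTop x N) →ₗ[R ⧸ Ideal.span {x}]
    (QuotSMulTop x N →ₗ[R ⧸ Ideal.span {x}] QuotSMulTop x N) :=
  LinearMap.lsum (R ⧸ Ideal.span {x}) (fun _ : Fin g => QuotSMulTop x N) (R ⧸ Ideal.span {x})
    (fun i => desc x ((endb x N) ∘ₗ e.symm.toLinearMap ∘ₗ LinearMap.single R (fun _ => N) i))

theorem wbar_mkb (c : Fin g → N) :
    wbar x N e (fun i => mkb x (c i)) = endb x N (e.symm c) := by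
  classical
  unfold wbar
  rw [LinearMap.lsum_apply, LinearMap.sum_apply]
  simp only [LinearMap.comp_apply, LinearMap.proj_apply, desc_mkb, LinearEquiv.coe_coe]
  rw [← map_sum, ← map_sum]
  congr 2
  exact Finset.univ_sum_single c

theorem wbar_injective (hx : IsSMulRegular N x) : Function.Injective (wbar x N e) := by
  rw [injective_iff_map_eq_zero]
  intro cb hcb
  choose c hc using fun i => mkb_surjective x (cb i)
  have h1 : cb = fun i => mkb x (c i) := funext fun i => (hc i).symm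
  rw [h1, wbar_mkb] at hcb
  obtain ⟨f', hf'⟩ := endb_eq_zero x N hx _ hcb
  have h2 : c = x • e f' := by
    rw [← map_smul, ← hf', e.apply_symm_apply]
  rw [h1]
  funext i
  rw [h2]
  exact (mkb_eq_zero_iff x _).mpr ⟨e f' i, rfl⟩

theorem wbar_coker [IsLocalRing R] [IsLocalRing (R ⧸ Ideal.span {x})] (hPF : PF R N) :
    PFAnn (R ⧸ Ideal.span {x})
      ((QuotSMulTop x N →ₗ[R ⧸ Ideal.span {x}] QuotSMulTop x N) ⧸
        LinearMap.range (wbar x N e)) := by
  apply hPF.pfAnn_quot x N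
  intro s hT t
  induction t using Submodule.Quotient.induction_on with
  | _ h =>
    rw [← Submodule.Quotient.mk_smul, Submodule.Quotient.mk_eq_zero]
    obtain ⟨f', hf'⟩ := exists_endb_eq_smul x N hT h
    refine ⟨fun i => mkb x (e f' i), ?_⟩
    rw [wbar_mkb, e.symm_apply_apply, hf']

end wbar

section rhob

variable {R : Type u} [CommRing R] (x : R) (N : Type u) [AddCommGroup N] [Module R N]

/-- the map `N^*/x N^* → (N/xN)^*`. -/
noncomputable def rhob : QuotSMulTop x (Module.Dual R N) →ₗ[R ⧸ Ideal.span {x}]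
    Module.Dual (R ⧸ Ideal.span {x}) (QuotSMulTop x N) :=
  desc x (dualb x N)

theorem rhob_mkb (φ : Module.Dual R N) : rhob x N (mkb x φ) = dualb x N φ := rfl

theorem rhob_injective (hx : IsSMulRegular R x) : Function.Injective (rhob x N) := by
  rw [injective_iff_map_eq_zero]
  intro φb hφb
  obtain ⟨φ, rfl⟩ := mkb_surjective x φb
  rw [rhob_mkb] at hφb
  have h1 : ∀ n, ∃ r : R, φ n = x • r := by
    intro n
    have h2 : Ideal.Quotient.mk (Ideal.span {x}) (φ n) = 0 := by
      rw [← dualb_mkb, hφb]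
      rfl
    rw [Ideal.Quotient.eq_zero_iff_mem, Ideal.mem_span_singleton'] at h2
    obtain ⟨r, hr⟩ := h2
    exact ⟨r, by rw [smul_eq_mul, mul_comm, hr]⟩
  obtain ⟨φ', hφ'⟩ := exists_eq_smul_of_forall x R hx φ h1
  exact (mkb_eq_zero_iff x _).mpr ⟨φ', hφ'⟩

theorem exists_dualb_eq_smul {s : R} (hT : TrFactor N s)
    (ψ : Module.Dual (R ⧸ Ideal.span {x}) (QuotSMulTop x N)) :
    ∃ φ' : Module.Dual R N, dualb x N φ' = (Ideal.Quotient.mk (Ideal.span {x}) s) • ψ := by
  obtain ⟨r, α, ν, hs⟩ := hT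
  choose c hc using fun i => Ideal.Quotient.mk_surjective (ψ (mkb x (ν i)))
  refine ⟨∑ i, c i • α i, ?_⟩
  apply LinearMap.ext
  intro nb
  obtain ⟨n, rfl⟩ := mkb_surjective x nb
  rw [dualb_mkb, LinearMap.smul_apply, ← map_smul, mk_smul_mkb, ← hs n, LinearMap.sum_apply,
    map_sum, map_sum, map_sum]
  apply Finset.sum_congr rfl
  intro i _
  rw [LinearMap.smul_apply, smul_eq_mul, map_mul, hc, ← mk_smul_mkb, map_smul, smul_eq_mul,
    mul_comm]

theorem rhob_coker [IsLocalRing R] [IsLocalRing (R ⧸ Ideal.span {x})] (hPF : PF R N) :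
    PFAnn (R ⧸ Ideal.span {x})
      (Module.Dual (R ⧸ Ideal.span {x}) (QuotSMulTop x N) ⧸ LinearMap.range (rhob x N)) := by
  apply hPF.pfAnn_quot x N
  intro s hT t
  induction t using Submodule.Quotient.induction_on with
  | _ ψ =>
    rw [← Submodule.Quotient.mk_smul, Submodule.Quotient.mk_eq_zero]
    obtain ⟨φ', hφ'⟩ := exists_dualb_eq_smul x N hT ψ
    exact ⟨mkb x φ', by rw [rhob_mkb, hφ']⟩

end rhob

end Groth.Agent.Lib.AusPur
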