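import Mathlib

/-!
# `Ext(K, -)` along a regular sequence killing `K` (helper5)

If `xs` is a weakly `M`-regular sequence all of whose terms kill `K`, then `Ext^i(K, M) = 0` for
`i < xs.length` and `Hom(K, M/(xs)M) ≃+ Ext^{xs.length}(K, M)`.
-/

set_option autoImplicit false
universe u
open CategoryTheory CategoryTheory.Limits Abelian RingTheory.Sequence

namespace Groth.Agent.ExtReg

variable {A : Type u} [CommRing A] (K : ModuleCat.{u} A)

lemma smul_ext_eq_zero {x : A} (hx : x ∈ Module.annihilator A K) {M : ModuleCat.{u} A} {n : ℕ}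
    (e : Ext K M n) : x • e = 0 := by
  have h0 : x • 𝟙 K = 0 := by
    ext a
    exact Module.mem_annihilator.mp hx a
  rw [← Ext.mk₀_id_comp e, ← Ext.smul_comp, ← Ext.mk₀_smul, h0, Ext.mk₀_zero, Ext.zero_comp]

lemma comp_smul_id {M : ModuleCat.{u} A} (x : A) {n : ℕ} (e : Ext K M n) :
    e.comp (Ext.mk₀ (x • 𝟙 M)) (add_zero n) = x • e := by
  rw [Ext.mk₀_smul, Ext.comp_smul, Ext.comp_mk₀_id]

section step

variable {K} {x : A} (hx : x ∈ Module.annihilator A K) (M : Type u) [AddCommGroup M] [Module A M]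
  (reg : IsSMulRegular M x)

include hx reg

lemma subsingleton_zero : Subsingleton (Ext K (ModuleCat.of A M) 0) := by
  refine Ext.addEquiv₀.subsingleton_congr.mpr ⟨fun f g => ?_⟩
  ext a
  apply reg
  change x • f.hom a = x • g.hom a
  rw [← map_smul, ← map_smul, Module.mem_annihilator.mp hx a, map_zero, map_zero]

lemma exists_of_succ (j : ℕ) (e : Ext K (ModuleCat.of A M) (j + 1)) :
    ∃ e' : Ext K (ModuleCat.of A (QuotSMulTop x M)) j,
      e'.comp (reg.smulShortComplex_shortExact (M := ModuleCat.of A M)).extClass rfl = e := by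
  have hS := reg.smulShortComplex_shortExact (M := ModuleCat.of A M)
  refine Ext.covariant_sequence_exact₁ K hS e ?_ rfl
  change e.comp (Ext.mk₀ (x • 𝟙 (ModuleCat.of A M))) _ = 0
  rw [comp_smul_id, smul_ext_eq_zero K hx]

lemma subsingleton_succ (j : ℕ)
    (h : Subsingleton (Ext K (ModuleCat.of A (QuotSMulTop x M)) j)) :
    Subsingleton (Ext K (ModuleCat.of A M) (j + 1)) := by
  refine ⟨fun a b => ?_⟩
  have key : ∀ e : Ext K (ModuleCat.of A M) (j + 1), e = 0 := by
    intro e
    obtain ⟨e', rfl⟩ := exists_of_succ hx M reg j e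
    rw [Subsingleton.elim e' 0, Ext.zero_comp]
    rfl
  rw [key a, key b]

/-- the connecting isomorphism `Ext^j(K, M/xM) ≃ Ext^{j+1}(K, M)` when `Ext^j(K, M) = 0`. -/
lemma nonempty_addEquiv (j : ℕ) (h : Subsingleton (Ext K (ModuleCat.of A M) j)) :
    Nonempty (Ext K (ModuleCat.of A (QuotSMulTop x M)) j ≃+ Ext K (ModuleCat.of A M) (j + 1)) := by
  have hS := reg.smulShortComplex_shortExact (M := ModuleCat.of A M)
  refine ⟨AddEquiv.ofBijective (hS.extClass.postcomp K rfl) ⟨?_, ?_⟩⟩
  · rw [injective_iff_map_eq_zero]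
    intro e he
    obtain ⟨e'', rfl⟩ := Ext.covariant_sequence_exact₃ K hS e rfl he
    have : e'' = 0 := @Subsingleton.elim _ h _ _
    rw [this, Ext.zero_comp]
    rfl
  · intro e
    obtain ⟨e', he'⟩ := exists_of_succ hx M reg j e
    exact ⟨e', he'⟩

end step

/-- the main statement. -/
theorem main (xs : List A) (hxs : ∀ x ∈ xs, x ∈ Module.annihilator A K) :
    ∀ (M : Type u) [AddCommGroup M] [Module A M], IsWeaklyRegular M xs →
      (∀ i < xs.length, Subsingleton (Ext K (ModuleCat.of A M) i)) ∧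
      Nonempty ((K →ₗ[A] (M ⧸ (Ideal.ofList xs • (⊤ : Submodule A M)))) ≃+
        Ext K (ModuleCat.of A M) xs.length) := by
  induction xs with
  | nil =>
    intro M _ _ _
    refine ⟨fun i hi => absurd hi (Nat.not_lt_zero i), ?_⟩
    have hbot : (Ideal.ofList ([] : List A) • (⊤ : Submodule A M)) = ⊥ := by
      rw [Ideal.ofList_nil, Submodule.bot_smul]
    let e1 : (M ⧸ (Ideal.ofList ([] : List A) • (⊤ : Submodule A M))) ≃ₗ[A] M :=
      Submodule.quotEquivOfEqBot _ hbot
    let e2 : (K →ₗ[A] (M ⧸ (Ideal.ofList ([] : List A) • (⊤ : Submodule A M)))) ≃+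
        (K →ₗ[A] M) := (LinearEquiv.arrowCongr (LinearEquiv.refl A K) e1).toAddEquiv
    exact ⟨e2.trans ((ModuleCat.homAddEquiv (M := K) (N := ModuleCat.of A M)).symm.trans
      Ext.addEquiv₀.symm)⟩
  | cons x xs ih =>
    intro M _ _ hreg
    rw [isWeaklyRegular_cons_iff] at hreg
    obtain ⟨hx, hrest⟩ := hreg
    have hxK := hxs x List.mem_cons_self
    obtain ⟨ih1, ⟨ih2⟩⟩ := ih (fun y hy => hxs y (List.mem_cons_of_mem _ hy)) (QuotSMulTop x M) hrest
    have hvan : ∀ i < (x :: xs).length, Subsingleton (Ext K (ModuleCat.of A M) i) := by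
      intro i hi
      cases i with
      | zero => exact subsingleton_zero hxK M hx
      | succ j =>
        exact subsingleton_succ hxK M hx j (ih1 j (by simpa using hi))
    refine ⟨hvan, ?_⟩
    obtain ⟨e3⟩ := nonempty_addEquiv hxK M hx xs.length (hvan xs.length (by simp))
    let e1 := Submodule.quotOfListConsSMulTopEquivQuotSMulTopInner M x xs
    let e2 : (K →ₗ[A] (M ⧸ (Ideal.ofList (x :: xs) • (⊤ : Submodule A M)))) ≃+
        (K →ₗ[A] (QuotSMulTop x M ⧸
          (Ideal.ofList xs • (⊤ : Submodule A (QuotSMulTop x M))))) :=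
      (LinearEquiv.arrowCongr (LinearEquiv.refl A K) e1).toAddEquiv
    exact ⟨e2.trans (ih2.trans e3)⟩

end Groth.Agent.ExtReg
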