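import Groth.Agent.Lib.InjDimLocal_helper5
import Groth.Agent.Lib.ExtReg_helper5

/-!
# Rees' change of rings for `Ext` (helper5)

`x` regular on `A` and on `M`, `B = A/(x)`, `N` a `B`-module:
`Ext^n_B(N, M/xM) ≃ Ext^{n+1}_A(N, M)`.

The comparison map is `e ↦ (restriction of scalars of e) ∘ δ` where `δ ∈ Ext¹_A(M/xM, M)` is the
class of `0 → M → M → M/xM → 0`.  Bijectivity by induction on `n` with the five lemma (free
presentations over `B`, which have projective dimension `≤ 1` over `A`).
-/

set_option autoImplicit false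
set_option maxHeartbeats 400000
universe u
open CategoryTheory CategoryTheory.Limits Abelian
open Pointwise

namespace Groth.Agent.ExtRees

variable {A : Type u} [CommRing A]

section general

variable (I : Ideal A)

/-- restriction of scalars along `A → A/I`. -/
noncomputable abbrev F : ModuleCat.{u} (A ⧸ I) ⥤ ModuleCat.{u} A :=
  ModuleCat.restrictScalars.{u} (Ideal.Quotient.mk I)

/-- restriction of scalars along a surjection is full. -/
lemma exists_map_eq {N N' : ModuleCat.{u} (A ⧸ I)} (g : (F I).obj N ⟶ (F I).obj N') :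
    ∃ f : N ⟶ N', (F I).map f = g := by
  refine ⟨ModuleCat.ofHom
    { toFun := fun n => g.hom n
      map_add' := fun a b => map_add g.hom a b
      map_smul' := ?_ }, ?_⟩
  · intro b n
    obtain ⟨a, rfl⟩ := Ideal.Quotient.mk_surjective b
    exact map_smul g.hom a (show ↑((F I).obj N) from n)
  · ext n
    rfl

variable {I} {M : ModuleCat.{u} A} {Mbar : ModuleCat.{u} (A ⧸ I)}
  (δ : Ext ((F I).obj Mbar) M 1)

/-- the comparison map. -/
noncomputable def Φ (N : ModuleCat.{u} (A ⧸ I)) (n : ℕ) :
    Ext N Mbar n →+ Ext ((F I).obj N) M (n + 1) :=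
  (δ.postcomp ((F I).obj N) rfl).comp ((F I).mapExtAddHom N Mbar n)

lemma Φ_apply (N : ModuleCat.{u} (A ⧸ I)) (n : ℕ) (e : Ext N Mbar n) :
    Φ δ N n e = (e.mapExactFunctor (F I)).comp δ rfl := rfl

variable (I) in
/-- the free module on the underlying set. -/
noncomputable abbrev free (N : ModuleCat.{u} (A ⧸ I)) : ModuleCat.{u} (A ⧸ I) :=
  ModuleCat.of (A ⧸ I) (N →₀ (A ⧸ I))

/-- the canonical surjection. -/
noncomputable abbrev π (N : ModuleCat.{u} (A ⧸ I)) : free I N ⟶ N :=
  ModuleCat.ofHom (Finsupp.linearCombination (A ⧸ I) (id : N → N))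

instance (N : ModuleCat.{u} (A ⧸ I)) : Epi (π N) :=
  (ModuleCat.epi_iff_surjective _).mpr (Finsupp.linearCombination_id_surjective (A ⧸ I) N)

instance (N : ModuleCat.{u} (A ⧸ I)) : Projective (free I N) :=
  (IsProjective.iff_projective (R := A ⧸ I) (P := N →₀ (A ⧸ I))).mp inferInstance

theorem Φ_bijective (h0 : ∀ N : ModuleCat.{u} (A ⧸ I), Function.Bijective (Φ δ N 0))
    (hpd : ∀ N : ModuleCat.{u} (A ⧸ I), HasProjectiveDimensionLT ((F I).obj (free I N)) 2) :
    ∀ (n : ℕ) (N : ModuleCat.{u} (A ⧸ I)), Function.Bijective (Φ δ N n) := by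
  intro n
  induction n with
  | zero => exact h0
  | succ n ih =>
    intro N
    let S : ShortComplex (ModuleCat.{u} (A ⧸ I)) :=
      ShortComplex.mk _ _ (kernel.condition (π N))
    have hS : S.ShortExact := { exact := ShortComplex.exact_kernel (π N) }
    have hS' : (S.map (F I)).ShortExact := hS.map_of_exact (F I)
    haveI : Projective S.X₂ := inferInstanceAs (Projective (free I N))
    haveI : HasProjectiveDimensionLT (S.map (F I)).X₂ 2 := hpd N
    refine AddMonoidHom.bijective_of_surjective_of_bijective_of_right_exact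
      ((Ext.mk₀ S.f).precomp Mbar (zero_add n)) (hS.extClass.precomp Mbar (add_comm 1 n))
      ((Ext.mk₀ (S.map (F I)).f).precomp M (zero_add (n + 1)))
      (hS'.extClass.precomp M (add_comm 1 (n + 1)))
      (Φ δ S.X₂ n) (Φ δ S.X₁ n) (Φ δ S.X₃ (n + 1)) ?_ ?_ ?_ ?_ (ih _).surjective (ih _) ?_ ?_
    · refine AddMonoidHom.ext fun e => ?_
      change (Ext.mk₀ ((F I).map S.f)).comp ((e.mapExactFunctor (F I)).comp δ rfl)
          (zero_add (n + 1)) =
        (((Ext.mk₀ S.f).comp e (zero_add n)).mapExactFunctor (F I)).comp δ rfl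
      rw [Ext.mapExactFunctor_comp, Ext.mapExactFunctor_mk₀]
      exact (Ext.comp_assoc _ _ _ _ _ (by omega)).symm
    · refine AddMonoidHom.ext fun e => ?_
      change hS'.extClass.comp ((e.mapExactFunctor (F I)).comp δ rfl) (add_comm 1 (n + 1)) =
        ((hS.extClass.comp e (add_comm 1 n)).mapExactFunctor (F I)).comp δ rfl
      rw [Ext.mapExactFunctor_comp, Ext.mapExactFunctor_extClass]
      exact (Ext.comp_assoc _ _ _ _ _ (by omega)).symm
    · exact (ShortComplex.ab_exact_iff_function_exact _).1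
        (Ext.contravariant_sequence_exact₁' hS Mbar n (n + 1) (add_comm 1 n))
    · exact (ShortComplex.ab_exact_iff_function_exact _).1
        (Ext.contravariant_sequence_exact₁' hS' M (n + 1) (n + 1 + 1) (add_comm 1 (n + 1)))
    · intro x₃
      exact Ext.contravariant_sequence_exact₃ hS _ x₃
        (Ext.eq_zero_of_projective _) (add_comm 1 n)
    · intro y₃
      exact Ext.contravariant_sequence_exact₃ hS' _ y₃
        (Ext.eq_zero_of_hasProjectiveDimensionLT _ 2 (by omega)) (add_comm 1 (n + 1))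

end general

section pd

variable (x : A)

/-- the reduction map `(N →₀ A) → (N →₀ A/x)`. -/
noncomputable def redMap (N : Type u) :
    ModuleCat.of A (N →₀ A) ⟶ (F (Ideal.span {x})).obj
      (ModuleCat.of (A ⧸ Ideal.span {x}) (N →₀ (A ⧸ Ideal.span {x}))) :=
  ModuleCat.ofHom
    { toFun := fun f => Finsupp.mapRange (Ideal.Quotient.mk (Ideal.span {x})) (map_zero _) f
      map_add' := fun f g => by
        refine Finsupp.ext fun n => ?_
        change Ideal.Quotient.mk (Ideal.span {x}) ((f + g) n) =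
          Ideal.Quotient.mk (Ideal.span {x}) (f n) + Ideal.Quotient.mk (Ideal.span {x}) (g n)
        rw [Finsupp.add_apply, map_add]
      map_smul' := fun a f => by
        refine Finsupp.ext fun n => ?_
        change Ideal.Quotient.mk (Ideal.span {x}) ((a • f) n) =
          Ideal.Quotient.mk (Ideal.span {x}) a * Ideal.Quotient.mk (Ideal.span {x}) (f n)
        rw [Finsupp.smul_apply, smul_eq_mul, map_mul] }

lemma redMap_surjective (N : Type u) : Function.Surjective (redMap x N) := by
  intro g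
  obtain ⟨f, hf⟩ := Finsupp.mapRange_surjective (Ideal.Quotient.mk (Ideal.span {x})) (map_zero _)
    Ideal.Quotient.mk_surjective g
  exact ⟨f, hf⟩

lemma redMap_exact (hx : IsSMulRegular A x) (N : Type u) :
    Function.Exact (ModuleCat.ofHom (LinearMap.lsmul A (N →₀ A) x)) (redMap x N) := by
  classical
  intro f
  constructor
  · intro hf
    have hmem : ∀ n, ∃ b, x * b = f n := by
      intro n
      have h1 : Ideal.Quotient.mk (Ideal.span {x}) (f n) = 0 := by
        have h2 : (show N →₀ (A ⧸ Ideal.span {x}) from (redMap x N).hom f) = 0 := hf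
        have h3 := DFunLike.congr_fun h2 n
        exact h3
      rw [Ideal.Quotient.eq_zero_iff_mem, Ideal.mem_span_singleton'] at h1
      obtain ⟨b, hb⟩ := h1
      exact ⟨b, by rw [mul_comm]; exact hb⟩
    let φ : A → A := fun a => if h : ∃ b, x * b = a then h.choose else 0
    have hφ : ∀ a, (∃ b, x * b = a) → x * φ a = a := by
      intro a h
      simp only [φ, dif_pos h]
      exact h.choose_spec
    have hφ0 : φ 0 = 0 := by
      have h1 := hφ 0 ⟨0, mul_zero x⟩
      apply hx
      change x • φ 0 = x • (0 : A)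
      rw [smul_zero, smul_eq_mul]
      exact h1
    refine ⟨Finsupp.mapRange φ hφ0 f, ?_⟩
    refine Finsupp.ext fun n => ?_
    change x • (Finsupp.mapRange φ hφ0 f) n = f n
    rw [Finsupp.mapRange_apply, smul_eq_mul]
    exact hφ _ (hmem n)
  · rintro ⟨g, rfl⟩
    refine Finsupp.ext fun n => ?_
    change Ideal.Quotient.mk (Ideal.span {x}) (x • g n) = 0
    rw [Ideal.Quotient.eq_zero_iff_mem, smul_eq_mul]
    exact Ideal.mul_mem_right _ _ (Ideal.mem_span_singleton_self x)

lemma hasPD_free (hx : IsSMulRegular A x) (N : ModuleCat.{u} (A ⧸ Ideal.span {x})) :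
    HasProjectiveDimensionLT ((F (Ideal.span {x})).obj (free (Ideal.span {x}) N)) 2 := by
  let S : ShortComplex (ModuleCat.{u} A) :=
    ShortComplex.mk (ModuleCat.ofHom (LinearMap.lsmul A (N →₀ A) x)) (redMap x N)
      (ModuleCat.hom_ext (LinearMap.ext fun f =>
        (redMap_exact x hx N).apply_apply_eq_zero f))
  have hinj : Function.Injective S.f := by
    intro f g h
    refine Finsupp.ext fun n => hx ?_
    have h1 := DFunLike.congr_fun h n
    change x • f n = x • g n at h1
    exact h1
  have hS : S.ShortExact :=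
    ModuleCat.shortComplex_shortExact S (redMap_exact x hx N) hinj (redMap_surjective x N)
  haveI : Projective (ModuleCat.of A (N →₀ A)) :=
    (IsProjective.iff_projective (R := A) (P := N →₀ A)).mp inferInstance
  have h1 : HasProjectiveDimensionLT S.X₁ 1 :=
    inferInstanceAs (HasProjectiveDimensionLT (ModuleCat.of A (N →₀ A)) 1)
  have h2 : HasProjectiveDimensionLT S.X₂ (1 + 1) :=
    inferInstanceAs (HasProjectiveDimensionLT (ModuleCat.of A (N →₀ A)) (1 + 1))
  exact hS.hasProjectiveDimensionLT_X₃ 1 h1 h2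

end pd

section base

variable (x : A) (M : Type u) [AddCommGroup M] [Module A M] (hxM : IsSMulRegular M x)
  {Mbar : ModuleCat.{u} (A ⧸ Ideal.span {x})}
  (θ : (F (Ideal.span {x})).obj Mbar ≅ ModuleCat.of A (QuotSMulTop x M))

/-- the class `δ ∈ Ext¹_A(M̄, M)`. -/
noncomputable def δ : Ext ((F (Ideal.span {x})).obj Mbar) (ModuleCat.of A M) 1 :=
  (Ext.mk₀ θ.hom).comp (hxM.smulShortComplex_shortExact (M := ModuleCat.of A M)).extClass
    (zero_add 1)

lemma mem_annihilator (N : ModuleCat.{u} (A ⧸ Ideal.span {x})) :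
    x ∈ Module.annihilator A ((F (Ideal.span {x})).obj N) := by
  rw [Module.mem_annihilator]
  intro n
  change (Ideal.Quotient.mk (Ideal.span {x}) x) • (show N from n) = 0
  rw [Ideal.Quotient.eq_zero_iff_mem.mpr (Ideal.mem_span_singleton_self x), zero_smul]

lemma Φ_zero_bijective (N : ModuleCat.{u} (A ⧸ Ideal.span {x})) :
    Function.Bijective (Φ (δ x M hxM θ) N 0) := by
  have hS := hxM.smulShortComplex_shortExact (M := ModuleCat.of A M)
  have hann := mem_annihilator x N
  have h1 : Function.Bijective ((F (Ideal.span {x})).mapExtAddHom N Mbar 0) := by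
    rw [Functor.mapExtAddHom_coe, Ext.mapExactFunctor₀]
    exact Ext.homEquiv₀.symm.bijective.comp (Function.Bijective.comp
      ⟨(F (Ideal.span {x})).map_injective, fun g => exists_map_eq _ g⟩ Ext.homEquiv₀.bijective)
  have h2 : Function.Bijective
      ((Ext.mk₀ θ.hom).postcomp ((F (Ideal.span {x})).obj N) (add_zero 0)) := by
    refine Function.bijective_iff_has_inverse.mpr
      ⟨(Ext.mk₀ θ.inv).postcomp _ (add_zero 0), ?_, ?_⟩
    · intro e
      change (e.comp (Ext.mk₀ θ.hom) (add_zero 0)).comp (Ext.mk₀ θ.inv) (add_zero 0) = e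
      rw [Ext.comp_assoc_of_third_deg_zero, Ext.mk₀_comp_mk₀, Iso.hom_inv_id, Ext.comp_mk₀_id]
    · intro e
      change (e.comp (Ext.mk₀ θ.inv) (add_zero 0)).comp (Ext.mk₀ θ.hom) (add_zero 0) = e
      rw [Ext.comp_assoc_of_third_deg_zero, Ext.mk₀_comp_mk₀, Iso.inv_hom_id, Ext.comp_mk₀_id]
  have h3 : Function.Bijective
      (hS.extClass.postcomp ((F (Ideal.span {x})).obj N) (rfl : 0 + 1 = 1)) := by
    have hsub := Groth.Agent.ExtReg.subsingleton_zero hann M hxM
    constructor
    · rw [injective_iff_map_eq_zero]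
      intro e he
      obtain ⟨e'', rfl⟩ := Ext.covariant_sequence_exact₃ _ hS e rfl he
      have h0 : e'' = 0 := @Subsingleton.elim _ hsub _ _
      rw [h0, Ext.zero_comp]
    · intro e
      obtain ⟨e', he'⟩ := Groth.Agent.ExtReg.exists_of_succ hann M hxM 0 e
      exact ⟨e', he'⟩
  have hcomp : ⇑(Φ (δ x M hxM θ) N 0) =
      (hS.extClass.postcomp _ (rfl : 0 + 1 = 1)) ∘
        ((Ext.mk₀ θ.hom).postcomp _ (add_zero 0)) ∘
          ((F (Ideal.span {x})).mapExtAddHom N Mbar 0) := by
    funext e
    change ((e.mapExactFunctor (F (Ideal.span {x}))).comp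
        ((Ext.mk₀ θ.hom).comp hS.extClass (zero_add 1)) rfl) =
      ((e.mapExactFunctor (F (Ideal.span {x}))).comp (Ext.mk₀ θ.hom) (add_zero 0)).comp
        hS.extClass rfl
    exact (Ext.comp_assoc _ _ _ _ _ (by omega)).symm
  rw [hcomp]
  exact h3.comp (h2.comp h1)

/-- **Rees' change of rings**: the comparison map is bijective. -/
theorem rees_bijective (hxA : IsSMulRegular A x) (n : ℕ)
    (N : ModuleCat.{u} (A ⧸ Ideal.span {x})) :
    Function.Bijective (Φ (δ x M hxM θ) N n) :=
  Φ_bijective _ (Φ_zero_bijective x M hxM θ) (hasPD_free x hxA) n N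

include hxM θ in
theorem nonempty_addEquiv (hxA : IsSMulRegular A x) (n : ℕ)
    (N : ModuleCat.{u} (A ⧸ Ideal.span {x})) :
    Nonempty (Ext N Mbar n ≃+ Ext ((F (Ideal.span {x})).obj N) (ModuleCat.of A M) (n + 1)) :=
  ⟨AddEquiv.ofBijective _ (rees_bijective x M hxM θ hxA n N)⟩

include hxM θ in
theorem subsingleton_iff (hxA : IsSMulRegular A x) (n : ℕ)
    (N : ModuleCat.{u} (A ⧸ Ideal.span {x})) :
    Subsingleton (Ext N Mbar n) ↔
      Subsingleton (Ext ((F (Ideal.span {x})).obj N) (ModuleCat.of A M) (n + 1)) :=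
  (nonempty_addEquiv x M hxM θ hxA n N).some.toEquiv.subsingleton_congr

end base

section self

variable (x : A)

/-- `A/(x)` restricted to `A` is `A/xA` (linear equivalence). -/
noncomputable def θequiv :
    ↑((F (Ideal.span {x})).obj (ModuleCat.of (A ⧸ Ideal.span {x}) (A ⧸ Ideal.span {x}))) ≃ₗ[A]
      QuotSMulTop x A :=
  let e₀ : (A ⧸ Ideal.span {x}) ≃ₗ[A] (A ⧸ (x • (⊤ : Submodule A A))) :=
    Submodule.quotEquivOfEq (Ideal.span {x}) (x • (⊤ : Submodule A A))
      (by simp [← Submodule.ideal_span_singleton_smul])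
  { toFun := fun b => e₀ b
    invFun := fun c => e₀.symm c
    map_add' := fun a b => map_add e₀ a b
    map_smul' := fun a b => by
      change e₀ (Ideal.Quotient.mk (Ideal.span {x}) a * (show A ⧸ Ideal.span {x} from b)) =
        a • e₀ b
      rw [← map_smul]
      congr 1
    left_inv := fun b => e₀.symm_apply_apply b
    right_inv := fun c => e₀.apply_symm_apply c }

/-- `A/(x)` restricted to `A` is `A/xA`. -/
noncomputable def θself :
    (F (Ideal.span {x})).obj (ModuleCat.of (A ⧸ Ideal.span {x}) (A ⧸ Ideal.span {x})) ≅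
      ModuleCat.of A (QuotSMulTop x A) :=
  (θequiv x).toModuleIso

/-- `Ext^n_{A/x}(N, A/x) = 0 ↔ Ext^{n+1}_A(N, A) = 0`. -/
theorem subsingleton_iff_self (hxA : IsSMulRegular A x) (n : ℕ)
    (N : ModuleCat.{u} (A ⧸ Ideal.span {x})) :
    Subsingleton (Ext N (ModuleCat.of (A ⧸ Ideal.span {x}) (A ⧸ Ideal.span {x})) n) ↔
      Subsingleton (Ext ((F (Ideal.span {x})).obj N) (ModuleCat.of A A) (n + 1)) :=
  subsingleton_iff x A hxA (θself x) hxA n N

end self

end Groth.Agent.ExtRees
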