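import Groth.Agent.Lib.AusPur3_helper5
import Groth.Agent.Lib.ExtRees_helper5
import Groth.Agent.Lib.ExtDev_helper5

/-!
# Auslander's theorem, part 4: lifting freeness from a hyperplane section (dimension `≥ 4`)
-/

set_option autoImplicit false
set_option linter.style.haveILetI false
set_option maxHeartbeats 400000
universe u
open CategoryTheory CategoryTheory.Limits Abelian IsLocalRing Pointwise

namespace Groth.Agent.Lib.AusPur

section nil

variable {R : Type u} [CommRing R] {T : Type*} [AddCommGroup T] [Module R T]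

theorem subsingleton_of_surj_of_pow (x : R) (k : ℕ) (hk : ∀ t : T, x ^ k • t = 0)
    (hs : ∀ t : T, ∃ t', x • t' = t) : Subsingleton T := by
  have key : ∀ j : ℕ, ∀ t : T, ∃ t', x ^ j • t' = t := by
    intro j
    induction j with
    | zero => intro t; exact ⟨t, by simp⟩
    | succ j ih =>
      intro t
      obtain ⟨t1, h1⟩ := ih t
      obtain ⟨t2, h2⟩ := hs t1
      exact ⟨t2, by rw [pow_succ, mul_smul, h2, h1]⟩
  refine ⟨fun a b => ?_⟩
  obtain ⟨a', ha⟩ := key k a
  obtain ⟨b', hb⟩ := key k b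
  rw [← ha, ← hb, hk, hk]

theorem subsingleton_of_inj_of_pow (x : R) (k : ℕ) (hk : ∀ t : T, x ^ k • t = 0)
    (hi : ∀ t : T, x • t = 0 → t = 0) : Subsingleton T := by
  have key : ∀ j : ℕ, ∀ t : T, x ^ j • t = 0 → t = 0 := by
    intro j
    induction j with
    | zero => intro t h; simpa using h
    | succ j ih =>
      intro t h
      rw [pow_succ, mul_smul] at h
      exact hi t (ih _ h)
  refine ⟨fun a b => ?_⟩
  rw [key k a (hk a), key k b (hk b)]

end nil

section D4B

variable (R : Type u) [CommRing R] [IsRegularLocalRing R] (x : R)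

/-- the restriction of scalars of `M/xM` is `M/xM`. -/
noncomputable def θM (M : Type u) [AddCommGroup M] [Module R M] :
    (Groth.Agent.ExtRees.F (Ideal.span {x})).obj
      (ModuleCat.of (R ⧸ Ideal.span {x}) (QuotSMulTop x M)) ≅
    ModuleCat.of R (QuotSMulTop x M) :=
  LinearEquiv.toModuleIso
    { toFun := fun y => y
      invFun := fun y => y
      map_add' := fun _ _ => rfl
      map_smul' := fun a y => mk_smul x a (show QuotSMulTop x M from y)
      left_inv := fun _ => rfl
      right_inv := fun _ => rfl }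

theorem subsingleton_ext_of_projective {C : Type*} [Category C] [Abelian C] [HasExt C]
    (X Y : C) [Projective X] (i : ℕ) (hi : 1 ≤ i) : Subsingleton (Ext X Y i) := by
  obtain ⟨k, rfl⟩ : ∃ k, i = k + 1 := ⟨i - 1, by omega⟩
  exact ⟨fun a b => by rw [Ext.eq_zero_of_projective a, Ext.eq_zero_of_projective b]⟩

theorem d4B (d : ℕ) (hd : ringKrullDim R = d) (h4 : 4 ≤ d)
    [IsRegularLocalRing (R ⧸ Ideal.span {x})] (hxm : x ∈ maximalIdeal R)
    (hdS : ringKrullDim (R ⧸ Ideal.span {x}) = ((d - 1 : ℕ) : WithBot ℕ∞))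
    (M : Type u) [AddCommGroup M] [Module R M] [Module.Finite R M]
    (hxM : IsSMulRegular M x) (hxR : IsSMulRegular R x) (hPF : PF R M)
    (P : Type u) [AddCommGroup P] [Module (R ⧸ Ideal.span {x}) P]
    [Module.Free (R ⧸ Ideal.span {x}) P] [Module.Finite (R ⧸ Ideal.span {x}) P]
    (ρ : QuotSMulTop x M →ₗ[R ⧸ Ideal.span {x}] P) (hρ : Function.Injective ρ)
    (hcok : PFAnn (R ⧸ Ideal.span {x}) (P ⧸ LinearMap.range ρ)) :
    Module.Free R M := by
  let Sq := R ⧸ Ideal.span {x}
  let Y := ModuleCat.of R R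
  let Yb := ModuleCat.of Sq Sq
  let Mb := ModuleCat.of Sq (QuotSMulTop x M)
  -- the short exact sequence over `S`
  have hex : Function.Exact ρ (LinearMap.range ρ).mkQ := LinearMap.exact_map_mkQ_range ρ
  have hSb := ModuleCat.shortComplex_shortExact
    (ShortComplex.moduleCatMk ρ (LinearMap.range ρ).mkQ hex.linearMap_comp_eq_zero) hex
    hρ (LinearMap.range ρ).mkQ_surjective
  have hfl : IsFiniteLength Sq (P ⧸ LinearMap.range ρ) := hcok.isFiniteLength
  haveI : Projective (ModuleCat.of Sq P) :=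
    (IsProjective.iff_projective (R := Sq) (P := P)).mp inferInstance
  -- Ext over `S`
  have hExtS : ∀ i : ℕ, 1 ≤ i → i ≠ d - 2 → Subsingleton (Ext Mb Yb i) := by
    intro i hi1 hi2
    refine subsingleton_ext_left hSb Yb i ?_ ?_
    · exact subsingleton_ext_of_projective (ModuleCat.of Sq P) Yb i hi1
    · exact Groth.Agent.ExtDual.vanish Sq (d - 1) hdS (P ⧸ LinearMap.range ρ) hfl (i + 1)
        (by omega)
  -- the short exact sequence over `R`
  have hS := hxM.smulShortComplex_shortExact (M := ModuleCat.of R M)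
  have hExtR : ∀ i : ℕ, 1 ≤ i → i ≠ d - 2 →
      Subsingleton (Ext (ModuleCat.smulShortComplex (ModuleCat.of R M) x).X₃ Y (i + 1)) := by
    intro i hi1 hi2
    have h1 := (Groth.Agent.ExtRees.subsingleton_iff_self x hxR i Mb).mp (hExtS i hi1 hi2)
    exact Groth.Agent.ExtDev.subsingleton_of_iso_left Y (θM R x M) (i + 1) h1
  have hfx : ∀ (j : ℕ) (y : Ext (ModuleCat.of R M) Y j),
      (Ext.mk₀ (ModuleCat.smulShortComplex (ModuleCat.of R M) x).f).comp y (zero_add j) =
        x • y := by
    intro j y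
    change (Ext.mk₀ (x • 𝟙 (ModuleCat.of R M))).comp y (zero_add j) = x • y
    rw [Ext.mk₀_smul, Ext.smul_comp, Ext.mk₀_id_comp]
  apply Groth.Agent.ExtTop.free_of_ext R M d hd
  intro j hj1 hjd
  have hann : PFAnn R (Ext (ModuleCat.of R M) Y j) :=
    hPF.pfAnn (fun s hT e => hT.smul_ext Y j hj1 e)
  obtain ⟨k, hk⟩ := hann.exists_pow x hxm
  by_cases hj : j = d - 2
  · -- `x` is injective on `Ext^j`
    apply subsingleton_of_inj_of_pow x k hk
    intro y hy
    have hsub : Subsingleton (Ext (ModuleCat.smulShortComplex (ModuleCat.of R M) x).X₃ Y j) := by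
      obtain ⟨i, rfl⟩ : ∃ i, j = i + 1 := ⟨j - 1, by omega⟩
      exact hExtR i (by omega) (by omega)
    obtain ⟨z, hz⟩ := Ext.contravariant_sequence_exact₂ hS Y y (by rw [hfx]; exact hy)
    rw [← hz, @Subsingleton.elim _ hsub z 0, Ext.comp_zero]
    rfl
  · -- `x` is surjective on `Ext^j`
    apply subsingleton_of_surj_of_pow x k hk
    intro y
    have hsub := hExtR j hj1 hj
    obtain ⟨y', hy'⟩ := Ext.contravariant_sequence_exact₁ hS Y y (add_comm 1 j)
      (@Subsingleton.elim _ hsub _ _)
    exact ⟨y', by rw [← hfx]; exact hy'⟩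

end D4B

end Groth.Agent.Lib.AusPur
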