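import Groth.Agent.Lib.AusPur4_helper5
import Groth.Agent.Lib.ReflHom1_helper8

/-!
# Auslander's theorem, part 5: the inductive step in dimension `≥ 4`
-/

set_option autoImplicit false
set_option linter.style.haveILetI false
set_option maxHeartbeats 400000
universe u
open IsLocalRing Pointwise

namespace Groth.Agent.Lib.AusPur

section torsionfree

variable {R : Type u} [CommRing R] [IsDomain R]

theorem isSMulRegular_dual (N : Type u) [AddCommGroup N] [Module R N] (x : R) (hx : x ≠ 0) :
    IsSMulRegular (Module.Dual R N) x := by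
  intro φ ψ h
  ext n
  have h1 := LinearMap.congr_fun h n
  simp only [LinearMap.smul_apply, smul_eq_mul] at h1
  exact mul_left_cancel₀ hx h1

theorem isSMulRegular_of_isReflexive (N : Type u) [AddCommGroup N] [Module R N]
    [Module.IsReflexive R N] (x : R) (hx : x ≠ 0) : IsSMulRegular N x := by
  intro n n' h
  apply (Module.evalEquiv R N).injective
  apply isSMulRegular_dual (Module.Dual R N) x hx
  change x • _ = x • _
  rw [← map_smul, ← map_smul]
  exact congrArg _ h

end torsionfree

section D4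

variable (R : Type u) [CommRing R] [IsRegularLocalRing R]

theorem exists_mem_not_mem_sq (d : ℕ) (hd : ringKrullDim R = d) (h1 : 1 ≤ d) :
    ∃ x ∈ maximalIdeal R, x ∉ maximalIdeal R ^ 2 := by
  have hbot := bot_ne_maximalIdeal R d hd h1
  by_contra hcon
  push Not at hcon
  exact hbot (Groth.Agent.Serre.maximalIdeal_eq_bot_of_le_sq R (fun x hx => hcon x hx)).symm

theorem d4 (d : ℕ) (hd : ringKrullDim R = d) (h4 : 4 ≤ d)
    (IH : ∀ (S : Type u) [CommRing S] [IsRegularLocalRing S],
      ringKrullDim S = ((d - 1 : ℕ) : WithBot ℕ∞) →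
      ∀ (P : Type u) [AddCommGroup P] [Module S P] [Module.Finite S P] [Module.IsReflexive S P]
        (g : ℕ), ((P →ₗ[S] P) ≃ₗ[S] (Fin g → P)) → Module.Free S P)
    (N : Type u) [AddCommGroup N] [Module R N] [Module.Finite R N] [Module.IsReflexive R N]
    (hPF : PF R N) (g : ℕ) (e : (N →ₗ[R] N) ≃ₗ[R] (Fin g → N)) : Module.Free R N := by
  haveI := Groth.Agent.RegularLib.isDomain R
  obtain ⟨x, hxm, hx2⟩ := exists_mem_not_mem_sq R d hd (by omega)
  have hx0 : x ≠ 0 := fun h => hx2 (h ▸ Ideal.zero_mem _)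
  obtain ⟨hreg, hfr⟩ := Groth.Agent.RegularLib.quotient_of_not_mem_sq R x hxm hx2
  haveI := hreg
  have hdS : ringKrullDim (R ⧸ Ideal.span {x}) = ((d - 1 : ℕ) : WithBot ℕ∞) := by
    rw [← Groth.Agent.RegularLib.spanFinrank_eq_dim]
    have h1 : ((maximalIdeal R).spanFinrank : WithBot ℕ∞) = d := by
      rw [Groth.Agent.RegularLib.spanFinrank_eq_dim, hd]
    have h2 : (maximalIdeal R).spanFinrank = d := by exact_mod_cast h1
    have h3 : (maximalIdeal (R ⧸ Ideal.span {x})).spanFinrank = d - 1 := by omega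
    rw [h3]
  have hxR : IsSMulRegular R x := fun a b h => mul_left_cancel₀ hx0 h
  have hxN : IsSMulRegular N x := isSMulRegular_of_isReflexive N x hx0
  -- the module `N̄` and its dual
  haveI : Module.Finite (R ⧸ Ideal.span {x}) (QuotSMulTop x N) :=
    Module.Finite.of_restrictScalars_finite R (R ⧸ Ideal.span {x}) (QuotSMulTop x N)
  haveI := Groth.Agent.RegularLib.isDomain (R ⧸ Ideal.span {x})
  haveI : Module.Finite (R ⧸ Ideal.span {x})
      (Module.Dual (R ⧸ Ideal.span {x}) (QuotSMulTop x N)) :=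
    Groth.Agent.DepthLib.finite_hom (QuotSMulTop x N) (R ⧸ Ideal.span {x})
  haveI : Module.IsReflexive (R ⧸ Ideal.span {x})
      (Module.Dual (R ⧸ Ideal.span {x}) (QuotSMulTop x N)) :=
    ReflHomH8.isReflexive_dual (R ⧸ Ideal.span {x}) (QuotSMulTop x N)
  obtain ⟨eP⟩ := d4A (R ⧸ Ideal.span {x}) (d - 1) hdS (by omega) (QuotSMulTop x N)
    (hPF.quot x N) g (wbar x N e) (wbar_injective x N e hxN) (wbar_coker x N e hPF)
  haveI : Module.Free (R ⧸ Ideal.span {x}) (Module.Dual (R ⧸ Ideal.span {x}) (QuotSMulTop x N)) :=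
    IH (R ⧸ Ideal.span {x}) hdS _ g eP
  haveI : Module.Finite R (Module.Dual R N) := Groth.Agent.DepthLib.finite_hom N R
  haveI : Module.Free R (Module.Dual R N) :=
    d4B R x d hd h4 hxm hdS (Module.Dual R N) (isSMulRegular_dual N x hx0) hxR (hPF.dual N)
      (Module.Dual (R ⧸ Ideal.span {x}) (QuotSMulTop x N)) (rhob x N) (rhob_injective x N hxR)
      (rhob_coker x N hPF)
  exact Module.Free.of_equiv (Module.evalEquiv R N).symm

end D4

end Groth.Agent.Lib.AusPur
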