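import Groth.Agent.Lib.AusPur5_helper5
import Groth.Agent.Lib.DepthRefl_helper5

/-!
# Auslander's theorem, part 6: localization (induction hypothesis gives punctured freeness)
-/

set_option autoImplicit false
set_option linter.style.haveILetI false
set_option maxHeartbeats 400000
universe u
open IsLocalRing Pointwise

namespace Groth.Agent.Lib.AusPur

section loc

variable (R : Type u) [CommRing R] [IsNoetherianRing R] (p : Ideal R) [p.IsPrime]
  (N : Type u) [AddCommGroup N] [Module R N] [Module.Finite R N]

theorem exists_equiv_localization (g : ℕ) (e : (N →ₗ[R] N) ≃ₗ[R] (Fin g → N)) :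
    Nonempty ((LocalizedModule p.primeCompl N →ₗ[Localization.AtPrime p]
        LocalizedModule p.primeCompl N) ≃ₗ[Localization.AtPrime p]
      (Fin g → LocalizedModule p.primeCompl N)) := by
  let S := p.primeCompl
  let Rp := Localization.AtPrime p
  let Np := LocalizedModule S N
  let f : N →ₗ[R] Np := LocalizedModule.mkLinearMap S N
  haveI : Module.FinitePresentation R N := Module.finitePresentation_of_finite R N
  let L1 : (N →ₗ[R] N) →ₗ[R] (Np →ₗ[Rp] Np) := IsLocalizedModule.mapExtendScalars S f f Rp
  haveI : IsLocalizedModule S L1 := inferInstance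
  let L2 : (Fin g → N) →ₗ[R] (Fin g → Np) := LinearMap.pi fun i => f ∘ₗ LinearMap.proj i
  haveI : IsLocalizedModule S L2 := IsLocalizedModule.pi S (fun _ : Fin g => f)
  let L2' : (N →ₗ[R] N) →ₗ[R] (Fin g → Np) := L2 ∘ₗ e.toLinearMap
  haveI : IsLocalizedModule S L2' := IsLocalizedModule.of_linearEquiv_right S L2 e
  let E0 : (Np →ₗ[Rp] Np) ≃ₗ[R] (Fin g → Np) := IsLocalizedModule.linearEquiv S L1 L2'
  exact ⟨LinearEquiv.extendScalarsOfIsLocalization S Rp E0⟩

end loc

section PFIH

variable (R : Type u) [CommRing R] [IsRegularLocalRing R]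

theorem pf_of_IH (d : ℕ) (hd : ringKrullDim R = d)
    (IH : ∀ (S : Type u) [CommRing S] [IsRegularLocalRing S] (k : ℕ), k < d →
      ringKrullDim S = (k : WithBot ℕ∞) →
      ∀ (P : Type u) [AddCommGroup P] [Module S P] [Module.Finite S P] [Module.IsReflexive S P]
        (g : ℕ), ((P →ₗ[S] P) ≃ₗ[S] (Fin g → P)) → Module.Free S P)
    (N : Type u) [AddCommGroup N] [Module R N] [Module.Finite R N] [Module.IsReflexive R N]
    (g : ℕ) (e : (N →ₗ[R] N) ≃ₗ[R] (Fin g → N)) : PF R N := by
  intro p hp hpm
  haveI := hp
  haveI : IsNoetherianRing R := inferInstance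
  haveI := Groth.Agent.Serre.localization_regular R p
  obtain ⟨k, hk⟩ := Groth.Agent.GlDim.exists_dim (Localization.AtPrime p)
  have hht : ringKrullDim (Localization.AtPrime p) = p.height :=
    IsLocalization.AtPrime.ringKrullDim_eq_height p (Localization.AtPrime p)
  have hlt : p < maximalIdeal R := lt_of_le_of_ne (IsLocalRing.le_maximalIdeal hp.ne_top) hpm
  have h1 : p.height < (maximalIdeal R).height :=
    Ideal.height_strict_mono_of_isPrime_of_isPrime hlt
  have h2 : ((maximalIdeal R).height : WithBot ℕ∞) = ringKrullDim R :=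
    IsLocalRing.maximalIdeal_height_eq_ringKrullDim
  have hkd : k < d := by
    have h3 : (p.height : WithBot ℕ∞) = k := by rw [← hht, hk]
    have h4 : ((maximalIdeal R).height : WithBot ℕ∞) = d := by rw [h2, hd]
    have h5 : p.height = k := by exact_mod_cast h3
    have h6 : (maximalIdeal R).height = d := by exact_mod_cast h4
    rw [h5, h6] at h1
    exact_mod_cast h1
  haveI : Module.IsReflexive (Localization.AtPrime p) (LocalizedModule p.primeCompl N) :=
    Groth.Agent.DepthLib.isReflexive_localizedModule N p
  obtain ⟨eP⟩ := exists_equiv_localization R p N g e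
  haveI : Module.Free (Localization.AtPrime p) (LocalizedModule p.primeCompl N) :=
    IH (Localization.AtPrime p) k hkd hk (LocalizedModule p.primeCompl N) g eP
  haveI : Module.FinitePresentation R N := Module.finitePresentation_of_finite R N
  exact trFactor_of_free_localization N p

end PFIH

end Groth.Agent.Lib.AusPur
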