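import Groth.Agent.Lib.AusPur6_helper5

/-!
# Auslander's theorem, part 7: lengths of `Ext` modules (tools for the dimension 3 case)
-/

set_option autoImplicit false
set_option linter.style.haveILetI false
set_option maxHeartbeats 400000
universe u
open CategoryTheory CategoryTheory.Limits Abelian IsLocalRing

namespace Groth.Agent.Lib.AusPur

section lengths

variable {R : Type u} [CommRing R]

/-- the connecting map is surjective when the middle term vanishes. -/
theorem length_le_connecting {S : ShortComplex (ModuleCat.{u} R)} (hS : S.ShortExact)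
    (Y : ModuleCat.{u} R) (n : ℕ) (h2 : Subsingleton (Ext S.X₂ Y (n + 1))) :
    Module.length R (Ext S.X₃ Y (n + 1)) ≤ Module.length R (Ext S.X₁ Y n) := by
  let δ : Ext S.X₁ Y n →ₗ[R] Ext S.X₃ Y (n + 1) :=
    Ext.precompOfLinear hS.extClass R Y (add_comm 1 n)
  apply Module.length_le_of_surjective δ
  intro y
  obtain ⟨z, hz⟩ := Ext.contravariant_sequence_exact₃ hS Y y (Subsingleton.elim _ _)
    (add_comm 1 n)
  exact ⟨z, hz⟩

/-- the connecting map as a linear map. -/
noncomputable def connecting {S : ShortComplex (ModuleCat.{u} R)} (hS : S.ShortExact)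
    (Y : ModuleCat.{u} R) (n : ℕ) : Ext S.X₁ Y n →ₗ[R] Ext S.X₃ Y (n + 1) :=
  Ext.precompOfLinear hS.extClass R Y (add_comm 1 n)

theorem connecting_apply {S : ShortComplex (ModuleCat.{u} R)} (hS : S.ShortExact)
    (Y : ModuleCat.{u} R) (n : ℕ) (z : Ext S.X₁ Y n) :
    connecting hS Y n z = hS.extClass.comp z (add_comm 1 n) := rfl

theorem connecting_surjective {S : ShortComplex (ModuleCat.{u} R)} (hS : S.ShortExact)
    (Y : ModuleCat.{u} R) (n : ℕ) (h2 : Subsingleton (Ext S.X₂ Y (n + 1))) :
    Function.Surjective (connecting hS Y n) := by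
  intro y
  obtain ⟨z, hz⟩ := Ext.contravariant_sequence_exact₃ hS Y y (Subsingleton.elim _ _)
    (add_comm 1 n)
  exact ⟨z, hz⟩

/-- `Hom(M, N) ≃ Ext⁰(M, N)`. -/
noncomputable def homEquivExtZero (M N : Type u) [AddCommGroup M] [Module R M] [AddCommGroup N]
    [Module R N] : (M →ₗ[R] N) ≃ₗ[R] Ext (ModuleCat.of R M) (ModuleCat.of R N) 0 :=
  (ModuleCat.homLinearEquiv (S := R) (M := ModuleCat.of R M) (N := ModuleCat.of R N)).symm ≪≫ₗ
    (Ext.linearEquiv₀ (R := R)).symm

theorem homEquivExtZero_apply (M N : Type u) [AddCommGroup M] [Module R M] [AddCommGroup N]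
    [Module R N] (f : M →ₗ[R] N) : homEquivExtZero M N f = Ext.mk₀ (ModuleCat.ofHom f) := rfl

/-- the bicone on `N^g`. -/
noncomputable abbrev piBicone (N : Type u) [AddCommGroup N] [Module R N] (g : ℕ) :
    Bicone (fun _ : Fin g => ModuleCat.of R N) where
  pt := ModuleCat.of R (Fin g → N)
  π j := ModuleCat.ofHom (LinearMap.proj j)
  ι j := ModuleCat.ofHom (LinearMap.single R (fun _ => N) j)
  ι_π j j' := by
    ext n
    by_cases h : j = j'
    · subst h
      simp
    · simp [h]

noncomputable def piBicone_isBilimit (N : Type u) [AddCommGroup N] [Module R N] (g : ℕ) :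
    (piBicone (R := R) N g).IsBilimit := by
  classical
  refine isBilimitOfTotal _ ?_
  apply ModuleCat.hom_ext
  rw [ModuleCat.hom_sum]
  apply LinearMap.ext
  intro c
  rw [LinearMap.sum_apply]
  exact Finset.univ_sum_single c

theorem length_ext_pi_left (N : Type u) [AddCommGroup N] [Module R N] (g : ℕ)
    (Y : ModuleCat.{u} R) (n : ℕ) :
    Module.length R (Ext (ModuleCat.of R (Fin g → N)) Y n) =
      g * Module.length R (Ext (ModuleCat.of R N) Y n) := by
  let e0 := Ext.biproductAddEquiv (piBicone_isBilimit (R := R) N g) Y n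
  let e : Ext (ModuleCat.of R (Fin g → N)) Y n ≃ₗ[R] (Fin g → Ext (ModuleCat.of R N) Y n) :=
    { e0 with
      map_smul' := fun r x => by
        funext i
        exact Ext.comp_smul (Ext.mk₀ ((piBicone (R := R) N g).ι i)) x (zero_add n) r }
  rw [e.length_eq, Module.length_pi]
  simp

theorem length_ext_pi_right (X : ModuleCat.{u} R) (M : Type u) [AddCommGroup M] [Module R M]
    (b : ℕ) (n : ℕ) :
    Module.length R (Ext X (ModuleCat.of R (Fin b → M)) n) =
      b * Module.length R (Ext X (ModuleCat.of R M) n) := by
  let e0 := Ext.addEquivBiproduct X (piBicone_isBilimit (R := R) M b) n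
  let e : Ext X (ModuleCat.of R (Fin b → M)) n ≃ₗ[R] (Fin b → Ext X (ModuleCat.of R M) n) :=
    { e0 with
      map_smul' := fun r x => by
        funext i
        exact Ext.smul_comp x (Ext.mk₀ ((piBicone (R := R) M b).π i)) (add_zero n) r }
  rw [e.length_eq, Module.length_pi]
  simp

/-- `Ext` in the second variable along an isomorphism. -/
theorem length_ext_congr_right (X : ModuleCat.{u} R) {Y Y' : ModuleCat.{u} R} (i : Y ≅ Y')
    (n : ℕ) : Module.length R (Ext X Y n) = Module.length R (Ext X Y' n) := by
  let f : Ext X Y n →ₗ[R] Ext X Y' n := Ext.postcompOfLinear (Ext.mk₀ i.hom) R X (add_zero n)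
  let f' : Ext X Y' n →ₗ[R] Ext X Y n := Ext.postcompOfLinear (Ext.mk₀ i.inv) R X (add_zero n)
  let e : Ext X Y n ≃ₗ[R] Ext X Y' n :=
    { f with
      invFun := f'
      left_inv := fun x => by
        change (x.comp (Ext.mk₀ i.hom) (add_zero n)).comp (Ext.mk₀ i.inv) (add_zero n) = x
        rw [Ext.comp_assoc_of_third_deg_zero, Ext.mk₀_comp_mk₀, i.hom_inv_id, Ext.comp_mk₀_id]
      right_inv := fun x => by
        change (x.comp (Ext.mk₀ i.inv) (add_zero n)).comp (Ext.mk₀ i.hom) (add_zero n) = x
        rw [Ext.comp_assoc_of_third_deg_zero, Ext.mk₀_comp_mk₀, i.inv_hom_id, Ext.comp_mk₀_id] }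
  exact e.length_eq

/-- `Ext` in the first variable along an isomorphism. -/
theorem length_ext_congr_left {X X' : ModuleCat.{u} R} (i : X ≅ X') (Y : ModuleCat.{u} R)
    (n : ℕ) : Module.length R (Ext X Y n) = Module.length R (Ext X' Y n) := by
  let f : Ext X Y n →ₗ[R] Ext X' Y n := Ext.precompOfLinear (Ext.mk₀ i.inv) R Y (zero_add n)
  let f' : Ext X' Y n →ₗ[R] Ext X Y n := Ext.precompOfLinear (Ext.mk₀ i.hom) R Y (zero_add n)
  let e : Ext X Y n ≃ₗ[R] Ext X' Y n :=
    { f with
      invFun := f'
      left_inv := fun x => by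
        change (Ext.mk₀ i.hom).comp ((Ext.mk₀ i.inv).comp x (zero_add n)) (zero_add n) = x
        rw [Ext.mk₀_comp_mk₀_assoc, i.hom_inv_id, Ext.mk₀_id_comp]
      right_inv := fun x => by
        change (Ext.mk₀ i.inv).comp ((Ext.mk₀ i.hom).comp x (zero_add n)) (zero_add n) = x
        rw [Ext.mk₀_comp_mk₀_assoc, i.inv_hom_id, Ext.mk₀_id_comp] }
  exact e.length_eq

/-- exactness in the middle with a nonzero element in the first kernel. -/
theorem length_add_one_le {A B C : Type*} [AddCommGroup A] [Module R A] [AddCommGroup B]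
    [Module R B] [AddCommGroup C] [Module R C] (u : A →ₗ[R] B) (v : B →ₗ[R] C)
    (hex : Function.Exact u v) (a : A) (ha : a ≠ 0) (hua : u a = 0) :
    Module.length R B + 1 ≤ Module.length R A + Module.length R C := by
  have h1 := Module.length_eq_add_of_exact (LinearMap.ker u).subtype u.rangeRestrict
    Subtype.val_injective u.surjective_rangeRestrict (by
      intro x
      constructor
      · intro hx
        exact ⟨⟨x, by
          rw [LinearMap.mem_ker]
          have := congrArg Subtype.val hx
          exact this⟩, rfl⟩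
      · rintro ⟨y, rfl⟩
        apply Subtype.ext
        exact y.2)
  have h2 := Module.length_eq_add_of_exact (LinearMap.ker v).subtype v.rangeRestrict
    Subtype.val_injective v.surjective_rangeRestrict (by
      intro x
      constructor
      · intro hx
        exact ⟨⟨x, by
          rw [LinearMap.mem_ker]
          have := congrArg Subtype.val hx
          exact this⟩, rfl⟩
      · rintro ⟨y, rfl⟩
        apply Subtype.ext
        exact y.2)
  have h3 : LinearMap.ker v = LinearMap.range u := (LinearMap.exact_iff.mp hex)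
  have h4 : Module.length R (LinearMap.range v) ≤ Module.length R C :=
    Module.length_le_of_injective (LinearMap.range v).subtype Subtype.val_injective
  have h5 : 1 ≤ Module.length R (LinearMap.ker u) := by
    rw [Order.one_le_iff_ne_zero, Ne, Module.length_eq_zero_iff]
    intro hsub
    apply ha
    have := @Subsingleton.elim _ hsub (⟨a, hua⟩ : LinearMap.ker u) 0
    exact congrArg Subtype.val this
  rw [h2, h1, h3]
  calc Module.length R (LinearMap.range u) + Module.length R (LinearMap.range v) + 1
      = 1 + Module.length R (LinearMap.range u) + Module.length R (LinearMap.range v) := by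
        rw [add_comm _ (1 : ℕ∞), add_assoc]
    _ ≤ Module.length R (LinearMap.ker u) + Module.length R (LinearMap.range u) +
          Module.length R C := by gcongr

end lengths

end Groth.Agent.Lib.AusPur
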