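import Groth.Agent.Lib.AusPur7_helper5

/-!
# Auslander's theorem, part 8: the dimension 3 case, preparation
-/

set_option autoImplicit false
set_option linter.style.haveILetI false
set_option maxHeartbeats 400000
universe u
open CategoryTheory CategoryTheory.Limits Abelian IsLocalRing

namespace Groth.Agent.Lib.AusPur

section D3prep

variable (R : Type u) [CommRing R] [IsRegularLocalRing R]
  (hd : ringKrullDim R = ((3 : ℕ) : WithBot ℕ∞))

include hd in
theorem ext_vanish_of_depth_two (M : Type u) [AddCommGroup M] [Module R M] [Module.Finite R M]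
    (hM : 2 ≤ LocCoh.idealDepth (maximalIdeal R) M) (q : ℕ) (hq : 2 ≤ q) :
    Subsingleton (Ext (ModuleCat.of R M) (ModuleCat.of R R) q) := by
  have h := (Groth.Agent.ExtTop.serre_Skc R M 3 hd 2 0).mp (by
    have : ((min 2 (3 - 0) : ℕ) : ℕ∞) = 2 := by norm_num
    rw [this]
    exact hM)
  by_contra hcon
  rw [not_subsingleton_iff_nontrivial] at hcon
  have := h q (by omega) hcon
  omega

include hd in
theorem two_le_depth_of_isReflexive (N : Type u) [AddCommGroup N] [Module R N] [Module.Finite R N]
    [Module.IsReflexive R N] : 2 ≤ LocCoh.idealDepth (maximalIdeal R) N := by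
  have h1 := Groth.Agent.DepthLib.reflexive_min_depth (maximalIdeal R) N
  have h2 : LocCoh.idealDepth (maximalIdeal R) R = ((3 : ℕ) : ℕ∞) :=
    Groth.Agent.ExtTop.regular_depth R 3 hd
  rw [h2] at h1
  have h3 : min (2 : ℕ∞) ((3 : ℕ) : ℕ∞) = 2 := by
    apply min_eq_left
    norm_num
  rwa [h3] at h1

include hd in
/-- the kernel of a free cover of a depth two module is free. -/
theorem free_ker (N : Type u) [AddCommGroup N] [Module R N] [Module.Finite R N]
    (hN : 2 ≤ LocCoh.idealDepth (maximalIdeal R) N) {b0 : ℕ} (π : (Fin b0 → R) →ₗ[R] N)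
    (hπ : Function.Surjective π) : Module.Free R (LinearMap.ker π) := by
  haveI : IsNoetherianRing R := inferInstance
  haveI : Module.Finite R (LinearMap.ker π) := Module.IsNoetherian.finite R _
  have hex : Function.Exact (LinearMap.ker π).subtype π := LinearMap.exact_subtype_ker_map π
  have hS := ModuleCat.shortComplex_shortExact
    (ShortComplex.moduleCatMk (LinearMap.ker π).subtype π hex.linearMap_comp_eq_zero) hex
    Subtype.val_injective hπ
  haveI : Projective (ModuleCat.of R (Fin b0 → R)) :=
    (IsProjective.iff_projective (R := R) (P := Fin b0 → R)).mp inferInstance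
  apply Groth.Agent.ExtTop.free_of_ext R (LinearMap.ker π) 3 hd
  intro j hj1 _
  exact subsingleton_ext_left hS (ModuleCat.of R R) j
    (subsingleton_ext_of_projective (ModuleCat.of R (Fin b0 → R)) _ j hj1)
    (ext_vanish_of_depth_two R hd N hN (j + 1) (by omega))

end D3prep

section homseq

variable {R : Type u} [CommRing R] {N : Type u} [AddCommGroup N] [Module R N]
  {F : Type u} [AddCommGroup F] [Module R F] (π : F →ₗ[R] N)

/-- restriction to the kernel. -/
noncomputable def ιs : (F →ₗ[R] N) →ₗ[R] (LinearMap.ker π →ₗ[R] N) :=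
  LinearMap.lcomp R N (LinearMap.ker π).subtype

/-- composition with `π`. -/
noncomputable def πs : (N →ₗ[R] N) →ₗ[R] (F →ₗ[R] N) := LinearMap.lcomp R N π

theorem ιs_apply (f : F →ₗ[R] N) (k : LinearMap.ker π) : ιs π f k = f k := rfl

theorem πs_apply (f : N →ₗ[R] N) (y : F) : πs π f y = f (π y) := rfl

variable {π}

theorem πs_injective (hπ : Function.Surjective π) : Function.Injective (πs π) := by
  intro f f' h
  apply LinearMap.ext
  intro n
  obtain ⟨y, rfl⟩ := hπ n
  exact LinearMap.congr_fun h y

theorem exact_πs_ιs (hπ : Function.Surjective π) : Function.Exact (πs π) (ιs π) := by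
  intro f
  constructor
  · intro hf
    have hle : LinearMap.ker π ≤ LinearMap.ker f := by
      intro k hk
      exact LinearMap.congr_fun hf ⟨k, hk⟩
    refine ⟨((LinearMap.ker π).liftQ f hle) ∘ₗ (π.quotKerEquivOfSurjective hπ).symm.toLinearMap, ?_⟩
    apply LinearMap.ext
    intro y
    rw [πs_apply, LinearMap.comp_apply]
    have h1 : (π.quotKerEquivOfSurjective hπ).symm (π y) = Submodule.Quotient.mk y := by
      rw [LinearEquiv.symm_apply_eq]
      rfl
    rw [LinearEquiv.coe_coe, h1]
    rfl
  · rintro ⟨f', rfl⟩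
    apply LinearMap.ext
    intro k
    rw [ιs_apply, πs_apply, LinearMap.mem_ker.mp k.2, map_zero]
    rfl

/-- a `TrFactor` element times the identity of the kernel extends to the free cover. -/
theorem exists_retract_smul (hπ : Function.Surjective π) {s : R} (hT : TrFactor N s) :
    ∃ lam : F →ₗ[R] LinearMap.ker π, ∀ k : LinearMap.ker π, lam k = s • k := by
  obtain ⟨r, α, ν, hs⟩ := hT
  choose νt hνt using fun i => hπ (ν i)
  let c : F →ₗ[R] F := ∑ i, ((α i) ∘ₗ π).smulRight (νt i)
  have hc : ∀ y, π (c y) = s • π y := by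
    intro y
    simp only [c, LinearMap.sum_apply, LinearMap.smulRight_apply, LinearMap.comp_apply, map_sum,
      map_smul, hνt]
    exact hs (π y)
  let lam' : F →ₗ[R] F := s • LinearMap.id - c
  have hmem : ∀ y, lam' y ∈ LinearMap.ker π := by
    intro y
    rw [LinearMap.mem_ker]
    simp only [lam', LinearMap.sub_apply, LinearMap.smul_apply, LinearMap.id_apply, map_sub,
      map_smul, hc, sub_self]
  refine ⟨lam'.codRestrict _ hmem, fun k => ?_⟩
  apply Subtype.ext
  rw [LinearMap.codRestrict_apply]
  simp only [lam', LinearMap.sub_apply, LinearMap.smul_apply, LinearMap.id_apply, c,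
    LinearMap.sum_apply, LinearMap.smulRight_apply, LinearMap.comp_apply]
  rw [LinearMap.mem_ker.mp k.2]
  simp

theorem pfAnn_coker_ιs [IsLocalRing R] (hπ : Function.Surjective π) (hPF : PF R N) :
    PFAnn R ((LinearMap.ker π →ₗ[R] N) ⧸ LinearMap.range (ιs π)) := by
  apply hPF.pfAnn
  intro s hT t
  induction t using Submodule.Quotient.induction_on with
  | _ h =>
    rw [← Submodule.Quotient.mk_smul, Submodule.Quotient.mk_eq_zero]
    obtain ⟨lam, hlam⟩ := exists_retract_smul hπ hT
    refine ⟨h ∘ₗ lam, ?_⟩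
    apply LinearMap.ext
    intro k
    rw [ιs_apply, LinearMap.comp_apply, hlam, map_smul, LinearMap.smul_apply]

end homseq

section upper

variable (R : Type u) [CommRing R] [IsRegularLocalRing R]
  (hd : ringKrullDim R = ((3 : ℕ) : WithBot ℕ∞))
  (N : Type u) [AddCommGroup N] [Module R N] [Module.Finite R N]

include hd in
theorem upper_bound (hN2 : 2 ≤ LocCoh.idealDepth (maximalIdeal R) N) (hPF : PF R N)
    {b0 : ℕ} (π : (Fin b0 → R) →ₗ[R] N) (hπ : Function.Surjective π)
    (g : ℕ) (e : (N →ₗ[R] N) ≃ₗ[R] (Fin g → N)) :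
    Module.length R ((LinearMap.ker π →ₗ[R] N) ⧸ LinearMap.range (ιs π)) ≤
      g * Module.length R (Ext (ModuleCat.of R N) (ModuleCat.of R R) 1) := by
  haveI : IsNoetherianRing R := inferInstance
  haveI : Module.Finite R (LinearMap.ker π) := Module.IsNoetherian.finite R _
  haveI : Module.Finite R ((Fin b0 → R) →ₗ[R] N) := Groth.Agent.DepthLib.finite_hom _ _
  haveI : Module.Finite R (LinearMap.ker π →ₗ[R] N) := Groth.Agent.DepthLib.finite_hom _ _
  let I := LinearMap.range (ιs π)
  let Y := ModuleCat.of R R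
  have hfl : IsFiniteLength R ((LinearMap.ker π →ₗ[R] N) ⧸ I) :=
    (pfAnn_coker_ιs hπ hPF).isFiniteLength
  rw [← Groth.Agent.ExtDual.length_eq R 3 hd ((LinearMap.ker π →ₗ[R] N) ⧸ I) hfl]
  -- the first short exact sequence
  have hexa : Function.Exact I.subtype I.mkQ := LinearMap.exact_subtype_mkQ I
  have hSa := ModuleCat.shortComplex_shortExact
    (ShortComplex.moduleCatMk I.subtype I.mkQ hexa.linearMap_comp_eq_zero) hexa
    Subtype.val_injective I.mkQ_surjective
  have hdK : 2 ≤ LocCoh.idealDepth (maximalIdeal R) (LinearMap.ker π →ₗ[R] N) :=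
    (Groth.Agent.DepthLib.idealDepth_hom (maximalIdeal R) (LinearMap.ker π) N).2 hN2
  have h3 := length_le_connecting hSa Y 2
    (ext_vanish_of_depth_two R hd (LinearMap.ker π →ₗ[R] N) hdK 3 (by omega))
  -- the second short exact sequence
  let a : (Fin g → N) →ₗ[R] ((Fin b0 → R) →ₗ[R] N) := (πs π) ∘ₗ e.symm.toLinearMap
  have ha_inj : Function.Injective a := (πs_injective hπ).comp e.symm.injective
  have hexb : Function.Exact a (ιs π).rangeRestrict := by
    intro f
    constructor
    · intro hf
      have hf' : ιs π f = 0 := congrArg Subtype.val hf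
      obtain ⟨f', hf''⟩ := (exact_πs_ιs hπ f).mp hf'
      exact ⟨e f', by
        change πs π (e.symm (e f')) = f
        rw [e.symm_apply_apply, hf'']⟩
    · rintro ⟨c, rfl⟩
      apply Subtype.ext
      exact (exact_πs_ιs hπ _).mpr ⟨e.symm c, rfl⟩
  have hSb := ModuleCat.shortComplex_shortExact
    (ShortComplex.moduleCatMk a (ιs π).rangeRestrict hexb.linearMap_comp_eq_zero) hexb
    ha_inj (ιs π).surjective_rangeRestrict
  have hdF : 2 ≤ LocCoh.idealDepth (maximalIdeal R) ((Fin b0 → R) →ₗ[R] N) :=
    (Groth.Agent.DepthLib.idealDepth_hom (maximalIdeal R) (Fin b0 → R) N).2 hN2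
  have h4 := length_le_connecting hSb Y 1
    (ext_vanish_of_depth_two R hd ((Fin b0 → R) →ₗ[R] N) hdF 2 le_rfl)
  rw [← length_ext_pi_left N g Y 1]
  exact h3.trans h4

end upper

end Groth.Agent.Lib.AusPur
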