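import Groth.Agent.Lib.AusPur8_helper5

/-!
# Auslander's theorem, part 9: the dimension 3 case, lower bound
-/

set_option autoImplicit false
set_option linter.style.haveILetI false
set_option maxHeartbeats 400000
universe u
open CategoryTheory CategoryTheory.Limits Abelian IsLocalRing

namespace Groth.Agent.Lib.AusPur

section lower

variable (R : Type u) [CommRing R] (N : Type u) [AddCommGroup N] [Module R N]

theorem lower_bound {b0 b1 : ℕ} (π : (Fin b0 → R) →ₗ[R] N) (hπ : Function.Surjective π)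
    (κ : (Fin b1 → R) ≃ₗ[R] LinearMap.ker π) (hnp : ¬ Module.Projective R N) :
    b0 * Module.length R (Ext (ModuleCat.of R N) (ModuleCat.of R R) 1) + 1 ≤
      b1 * Module.length R (Ext (ModuleCat.of R N) (ModuleCat.of R R) 1) +
        Module.length R ((LinearMap.ker π →ₗ[R] N) ⧸ LinearMap.range (ιs π)) := by
  let K := LinearMap.ker π
  let X := ModuleCat.of R N
  have hex0 : Function.Exact K.subtype π := LinearMap.exact_subtype_ker_map π
  have hS := ModuleCat.shortComplex_shortExact
    (ShortComplex.moduleCatMk K.subtype π hex0.linearMap_comp_eq_zero) hex0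
    Subtype.val_injective hπ
  set S := ShortComplex.moduleCatMk K.subtype π hex0.linearMap_comp_eq_zero with hSdef
  let u : Ext X S.X₁ 1 →ₗ[R] Ext X S.X₂ 1 := Ext.postcompOfLinear (Ext.mk₀ S.f) R X (add_zero 1)
  let v : Ext X S.X₂ 1 →ₗ[R] Ext X S.X₃ 1 := Ext.postcompOfLinear (Ext.mk₀ S.g) R X (add_zero 1)
  have hu : ∀ x, u x = x.comp (Ext.mk₀ S.f) (add_zero 1) := fun x => rfl
  have hv : ∀ x, v x = x.comp (Ext.mk₀ S.g) (add_zero 1) := fun x => rfl
  have hex : Function.Exact u v := by
    intro y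
    constructor
    · intro hy
      obtain ⟨x, hx⟩ := Ext.covariant_sequence_exact₂ X hS y hy
      exact ⟨x, hx⟩
    · rintro ⟨x, rfl⟩
      rw [hu, hv, Ext.comp_assoc_of_third_deg_zero, Ext.mk₀_comp_mk₀, S.zero, Ext.mk₀_zero,
        Ext.comp_zero]
  have ha : hS.extClass ≠ 0 := by
    intro h0
    apply hnp
    obtain ⟨x₂, hx₂⟩ := Ext.covariant_sequence_exact₃ X hS (Ext.mk₀ (𝟙 X)) (add_zero 1)
      (by rw [h0, Ext.comp_zero])
    obtain ⟨σ, rfl⟩ := (Ext.mk₀_bijective _ _).2 x₂
    rw [Ext.mk₀_comp_mk₀] at hx₂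
    have h1 : σ ≫ S.g = 𝟙 X := (Ext.mk₀_bijective _ _).1 hx₂
    let σ' : N →ₗ[R] (Fin b0 → R) := σ.hom
    have h2 : π ∘ₗ σ' = LinearMap.id := by
      have := congrArg ModuleCat.Hom.hom h1
      exact this
    exact Module.Projective.of_split σ' π h2
  have hua : u hS.extClass = 0 := hS.extClass_comp
  have key := length_add_one_le u v hex hS.extClass ha hua
  -- the three lengths
  have hl2 : Module.length R (Ext X S.X₂ 1) =
      b0 * Module.length R (Ext X (ModuleCat.of R R) 1) := length_ext_pi_right X R b0 1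
  have hl1 : Module.length R (Ext X S.X₁ 1) =
      b1 * Module.length R (Ext X (ModuleCat.of R R) 1) := by
    rw [← length_ext_pi_right X R b1 1]
    exact (length_ext_congr_right X κ.toModuleIso 1).symm
  -- the comparison with the cokernel
  haveI : Projective (ModuleCat.of R (Fin b0 → R)) :=
    (IsProjective.iff_projective (R := R) (P := Fin b0 → R)).mp inferInstance
  have hsub : Subsingleton (Ext S.X₂ X (0 + 1)) :=
    subsingleton_ext_of_projective (ModuleCat.of R (Fin b0 → R)) X 1 le_rfl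
  let φ : (K →ₗ[R] N) →ₗ[R] Ext S.X₃ X (0 + 1) :=
    (connecting hS X 0) ∘ₗ (homEquivExtZero K N).toLinearMap
  have hφs : Function.Surjective φ :=
    (connecting_surjective hS X 0 hsub).comp (homEquivExtZero K N).surjective
  have hle : LinearMap.range (ιs π) ≤ LinearMap.ker φ := by
    rintro _ ⟨f, rfl⟩
    rw [LinearMap.mem_ker]
    change hS.extClass.comp (Ext.mk₀ (ModuleCat.ofHom (ιs π f))) (add_comm 1 0) = 0
    have h1 : ModuleCat.ofHom (ιs π f) = S.f ≫ ModuleCat.ofHom f := rfl
    rw [h1, ← Ext.mk₀_comp_mk₀]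
    exact hS.extClass_comp_assoc _
  have hl3 : Module.length R (Ext X S.X₃ 1) ≤
      Module.length R ((K →ₗ[R] N) ⧸ LinearMap.range (ιs π)) := by
    apply Module.length_le_of_surjective ((LinearMap.range (ιs π)).liftQ φ hle)
    intro y
    obtain ⟨h, rfl⟩ := hφs y
    exact ⟨Submodule.Quotient.mk h, rfl⟩
  rw [hl2, hl1] at key
  exact key.trans (by gcongr)

end lower

end Groth.Agent.Lib.AusPur
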