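import Mathlib

/-!
# Counting automorphisms of direct sums over a hom-orthogonal family (helper9)

Pure category theory:
* `endRingEquivOfFullyFaithful`, `endRingEquivOfIso`: ring isomorphisms of endomorphism rings;
* `endDecomp`: for a hom-orthogonal family `s`, `End (⨁ s ∘ f) ≃+* Π i, Matrix _ _ (End (s i))`;
* `card_aut`: if all `End (s i)` are isomorphic to a finite field with `q` elements, the number of
  automorphisms of `⨁ s ∘ f` is `∏ i, |GL_{n i}(𝔽_q)|`;
* `isoBiproductThree`: `A₀ ⊞ (A₁ ⊞ A₂) ≅ ⨁ g` for `g : Fin 3 → C`.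
APPEND-ONLY once landed.
-/

set_option autoImplicit false

universe v u

namespace AutCount

open CategoryTheory CategoryTheory.Limits

section Equiv

variable {C : Type u} [Category.{v} C] [Preadditive C] {D : Type*} [Category D] [Preadditive D]

/-- a fully faithful additive functor induces ring isomorphisms on endomorphism rings -/
noncomputable def endRingEquivOfFullyFaithful (F : C ⥤ D) [F.Additive] [F.Full] [F.Faithful]
    (A : C) : End A ≃+* End (F.obj A) where
  toFun f := F.map f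
  invFun g := F.preimage g
  left_inv f := F.preimage_map f
  right_inv g := F.map_preimage g
  map_mul' f g := by
    show F.map (g ≫ f) = F.map g ≫ F.map f
    exact F.map_comp g f
  map_add' f g := F.map_add

/-- conjugation by an isomorphism, as a ring isomorphism of endomorphism rings -/
def endRingEquivOfIso {A B : C} (e : A ≅ B) : End A ≃+* End B where
  toFun f := e.inv ≫ f ≫ e.hom
  invFun g := e.hom ≫ g ≫ e.inv
  left_inv f := by simp
  right_inv g := by simp
  map_mul' f g := by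
    show e.inv ≫ (g ≫ f) ≫ e.hom = (e.inv ≫ g ≫ e.hom) ≫ (e.inv ≫ f ≫ e.hom)
    rw [Category.assoc, Category.assoc, Category.assoc, Iso.hom_inv_id_assoc]
  map_add' f g := by
    show e.inv ≫ (f + g) ≫ e.hom = e.inv ≫ f ≫ e.hom + e.inv ≫ g ≫ e.hom
    rw [Preadditive.add_comp, Preadditive.comp_add]

end Equiv

section Decomp

variable {C : Type u} [Category.{v} C] [Preadditive C] [HasFiniteBiproducts C]
  {ι : Type*} {s : ι → C}

open scoped Classical in
/-- the endomorphism ring of a direct sum over a hom-orthogonal family is a product of matrix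
rings -/
noncomputable def endDecomp (o : HomOrthogonal s) {α : Type} [Fintype α] (f : α → ι) :
    End (⨁ fun a => s (f a)) ≃+* (∀ i : ι, Matrix (f ⁻¹' {i}) (f ⁻¹' {i}) (End (s i))) :=
  { o.matrixDecompositionAddEquiv (f := f) (g := f) with
    map_mul' := fun z w => by
      funext i
      show o.matrixDecomposition (w ≫ z) i = _
      rw [o.matrixDecomposition_comp]
      rfl }

end Decomp

section Card

variable {C : Type u} [Category.{v} C] [Preadditive C] [HasFiniteBiproducts C]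
  {ι : Type*} {s : ι → C}

/-- the number of invertible matrices over a ring isomorphic to a finite field -/
theorem card_units_matrix {R : Type*} [Ring R] {𝔽 : Type*} [Field 𝔽] [Fintype 𝔽] (e : R ≃+* 𝔽)
    {m : Type*} [Fintype m] [DecidableEq m] (n : ℕ) (hn : Nat.card m = n) :
    Nat.card (Matrix m m R)ˣ = ∏ j : Fin n, (Fintype.card 𝔽 ^ n - Fintype.card 𝔽 ^ (j : ℕ)) := by
  subst hn
  have em : m ≃ Fin (Nat.card m) := Finite.equivFin m
  let E : Matrix m m R ≃+* Matrix (Fin (Nat.card m)) (Fin (Nat.card m)) 𝔽 :=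
    (RingEquiv.mapMatrix e).trans (Matrix.reindexAlgEquiv 𝔽 𝔽 em).toRingEquiv
  rw [Nat.card_congr (Units.mapEquiv E.toMulEquiv).toEquiv]
  exact Matrix.card_GL_field (Nat.card m)

open scoped Classical in
/-- the number of automorphisms of a direct sum over a hom-orthogonal family all of whose
endomorphism rings are isomorphic to a finite field with `q` elements -/
theorem card_aut (o : HomOrthogonal s) [Fintype ι] {α : Type} [Fintype α] (f : α → ι)
    {𝔽 : Type*} [Field 𝔽] [Fintype 𝔽] (e : ∀ i, End (s i) ≃+* 𝔽)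
    (n : ι → ℕ) (hn : ∀ i, Nat.card (f ⁻¹' {i}) = n i) :
    Nat.card (Aut (⨁ fun a => s (f a))) =
      ∏ i : ι, ∏ j : Fin (n i), (Fintype.card 𝔽 ^ (n i) - Fintype.card 𝔽 ^ (j : ℕ)) := by
  rw [← Nat.card_congr (Aut.unitsEndEquivAut (⨁ fun a => s (f a))).toEquiv,
    Nat.card_congr (Units.mapEquiv (endDecomp o f).toMulEquiv).toEquiv,
    Nat.card_congr (MulEquiv.piUnits).toEquiv, Nat.card_pi]
  apply Finset.prod_congr rfl
  intro i _
  exact card_units_matrix (e i) (n i) (hn i)

end Card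

section Three

variable {C : Type u} [Category.{v} C] [Preadditive C] [HasBinaryBiproducts C]

variable {A₀ A₁ A₂ : C} (g : Fin 3 → C) (e₀ : A₀ ≅ g 0) (e₁ : A₁ ≅ g 1) (e₂ : A₂ ≅ g 2)

/-- the projections of `A₀ ⊞ (A₁ ⊞ A₂)` to the `g j` -/
noncomputable def proj3 : ∀ j : Fin 3, (A₀ ⊞ (A₁ ⊞ A₂)) ⟶ g j
  | 0 => biprod.fst ≫ e₀.hom
  | 1 => biprod.snd ≫ biprod.fst ≫ e₁.hom
  | 2 => biprod.snd ≫ biprod.snd ≫ e₂.hom

/-- the inclusions of the `g j` into `A₀ ⊞ (A₁ ⊞ A₂)` -/
noncomputable def incl3 : ∀ j : Fin 3, g j ⟶ (A₀ ⊞ (A₁ ⊞ A₂))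
  | 0 => e₀.inv ≫ biprod.inl
  | 1 => e₁.inv ≫ biprod.inl ≫ biprod.inr
  | 2 => e₂.inv ≫ biprod.inr ≫ biprod.inr

theorem incl3_proj3 (j j' : Fin 3) :
    incl3 g e₀ e₁ e₂ j ≫ proj3 g e₀ e₁ e₂ j' =
      if h : j = j' then eqToHom (by rw [h]) else 0 := by
  fin_cases j <;> fin_cases j' <;> simp [incl3, proj3]

variable [HasFiniteBiproducts C]

/-- `A₀ ⊞ (A₁ ⊞ A₂)` is the direct sum of three objects isomorphic to the summands -/
noncomputable def isoBiproductThree : (A₀ ⊞ (A₁ ⊞ A₂)) ≅ ⨁ g where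
  hom := biproduct.lift (proj3 g e₀ e₁ e₂)
  inv := biproduct.desc (incl3 g e₀ e₁ e₂)
  hom_inv_id := by
    rw [biproduct.lift_desc, Fin.sum_univ_three]
    simp only [proj3, incl3, Category.assoc, Iso.hom_inv_id_assoc]
    have h := biprod.total (X := A₁) (Y := A₂)
    have h2 : (biprod.fst : A₁ ⊞ A₂ ⟶ A₁) ≫ biprod.inl ≫
          (biprod.inr : A₁ ⊞ A₂ ⟶ A₀ ⊞ (A₁ ⊞ A₂)) +
        (biprod.snd : A₁ ⊞ A₂ ⟶ A₂) ≫ biprod.inr ≫
          (biprod.inr : A₁ ⊞ A₂ ⟶ A₀ ⊞ (A₁ ⊞ A₂)) = biprod.inr := by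
      calc _ = (biprod.fst ≫ biprod.inl + biprod.snd ≫ biprod.inr) ≫
            (biprod.inr : A₁ ⊞ A₂ ⟶ A₀ ⊞ (A₁ ⊞ A₂)) := by
            rw [Preadditive.add_comp, Category.assoc, Category.assoc]
        _ = biprod.inr := by rw [h, Category.id_comp]
    rw [add_assoc, ← Preadditive.comp_add, h2]
    exact biprod.total
  inv_hom_id := by
    apply biproduct.hom_ext
    intro j'
    apply biproduct.hom_ext'
    intro j
    rw [Category.assoc, biproduct.lift_π, biproduct.ι_desc_assoc, Category.id_comp,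
      incl3_proj3, biproduct.ι_π]

end Three

end AutCount
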