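import Mathlib
import Groth.Prelude
import Groth.Agent.Lib.RatPts_helper4

/-!
# Base change of a scheme over a field to an algebraic extension: dimension (helper9)
APPEND-ONLY once landed.
-/

set_option autoImplicit false
universe u
open CategoryTheory CategoryTheory.Limits AlgebraicGeometry Opposite TopologicalSpace

namespace GZ9

open Order

/-! Topological dimension lemmas (copied from helper7's `DecentDim_helper7`, which has a heavy
import chain). -/

section Top

variable {Y Z : Type*} [TopologicalSpace Y] [TopologicalSpace Z]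

/-- The irreducible closed set `closure {y}`. -/
def clIrr (y : Y) : IrreducibleCloseds Y :=
  ⟨closure {y}, isIrreducible_singleton.closure, isClosed_closure⟩

@[simp] theorem coe_clIrr (y : Y) : (clIrr y : Set Y) = closure {y} := rfl

theorem map_clIrr (p : Y → Z) (hpc : Continuous p) (y : Y) (T : IrreducibleCloseds Z)
    (hgen : IsGenericPoint (p y) (T : Set Z)) : IrreducibleCloseds.map p hpc (clIrr y) = T := by
  apply IrreducibleCloseds.ext
  rw [IrreducibleCloseds.coe_map, coe_clIrr]
  exact ((isGenericPoint_closure (x := y)).image hpc).def.symm.trans hgen.def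

/-- L1: for a continuous map out of a quasi-sober space into a T0 space whose fibres have no
nontrivial specializations, the induced map on irreducible closed sets is strictly monotone. -/
theorem strictMono_map [QuasiSober Y] [T0Space Z] (p : Y → Z) (hpc : Continuous p)
    (hfd : ∀ y y' : Y, p y = p y' → y' ⤳ y → y = y') :
    StrictMono (IrreducibleCloseds.map p hpc) := by
  intro A B hAB
  refine lt_of_le_of_ne (IrreducibleCloseds.map_mono hpc hAB.le) fun heq => hAB.ne ?_
  obtain ⟨z₁, hz₁⟩ := QuasiSober.sober A.isIrreducible A.isClosed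
  obtain ⟨z₂, hz₂⟩ := QuasiSober.sober B.isIrreducible B.isClosed
  have h1 : closure {p z₁} = closure {p z₂} := by
    rw [(hz₁.image hpc).def, (hz₂.image hpc).def]
    exact congrArg (fun C : IrreducibleCloseds Z => (C : Set Z)) heq
  have h2 : p z₁ = p z₂ := (inseparable_iff_closure_eq.2 h1).eq
  have h3 : z₂ ⤳ z₁ := by
    rw [specializes_iff_mem_closure, hz₂.def]
    exact hAB.le hz₁.mem
  have h4 : z₁ = z₂ := hfd z₁ z₂ h2 h3
  apply IrreducibleCloseds.ext
  rw [← hz₁.def, ← hz₂.def, h4]

theorem topologicalKrullDim_le_of_fd [QuasiSober Y] [T0Space Z] (p : Y → Z) (hpc : Continuous p)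
    (hfd : ∀ y y' : Y, p y = p y' → y' ⤳ y → y = y') :
    topologicalKrullDim Y ≤ topologicalKrullDim Z :=
  Order.krullDim_le_of_strictMono _ (strictMono_map p hpc hfd)

theorem exists_lift_gt [QuasiSober Z] (p : Y → Z) (hpc : Continuous p)
    (hlift : ∀ (y : Y) (x' : Z), x' ⤳ p y → ∃ y', y' ⤳ y ∧ p y' = x')
    (T T' : IrreducibleCloseds Z) (y : Y) (hgen : IsGenericPoint (p y) (T : Set Z))
    (hTT' : T < T') :
    ∃ y' : Y, IsGenericPoint (p y') (T' : Set Z) ∧ clIrr y < clIrr y' := by
  obtain ⟨ξ', hξ'⟩ := QuasiSober.sober T'.isIrreducible T'.isClosed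
  have h1 : ξ' ⤳ p y := by
    rw [specializes_iff_mem_closure, hξ'.def]
    exact hTT'.le hgen.mem
  obtain ⟨y', hy'y, hy'⟩ := hlift y ξ' h1
  refine ⟨y', by rw [hy']; exact hξ', lt_of_le_of_ne ?_ ?_⟩
  · exact specializes_iff_closure_subset.1 hy'y
  · intro heq
    have h2 : closure {y'} ⊆ closure {y} :=
      (congrArg (fun C : IrreducibleCloseds Y => (C : Set Y)) heq).ge
    have h3 : y ⤳ y' := specializes_iff_closure_subset.2 h2
    have h4 : p y ⤳ p y' := h3.map hpc
    have h5 : (T' : Set Z) ⊆ T := by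
      rw [← hξ'.def, ← hgen.def, ← hy']
      exact specializes_iff_closure_subset.1 h4
    exact absurd hTT' (not_lt_of_ge (show T' ≤ T from h5))

/-- L2: if generizations lift along `p`, codimensions can only drop under `p`. -/
theorem coheight_le_of_lift [QuasiSober Z] (p : Y → Z) (hpc : Continuous p)
    (hlift : ∀ (y : Y) (x' : Z), x' ⤳ p y → ∃ y', y' ⤳ y ∧ p y' = x') (n : ℕ) :
    ∀ (T : IrreducibleCloseds Z) (y : Y), IsGenericPoint (p y) (T : Set Z) →
      Order.coheight (clIrr y) ≤ (n : ℕ∞) → Order.coheight T ≤ (n : ℕ∞) := by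
  induction n with
  | zero =>
    intro T y hgen hle
    rw [Order.coheight_le_coe_iff] at hle ⊢
    intro T' hT'
    obtain ⟨y', hy', hlt⟩ := exists_lift_gt p hpc hlift T T' y hgen hT'
    exact absurd (hle _ hlt) (by simp)
  | succ n ih =>
    intro T y hgen hle
    rw [Order.coheight_le_coe_iff] at hle ⊢
    intro T' hT'
    obtain ⟨y', hy', hlt⟩ := exists_lift_gt p hpc hlift T T' y hgen hT'
    have h1 := hle _ hlt
    have h2 : Order.coheight (clIrr y') ≤ (n : ℕ∞) := by
      rw [Nat.cast_succ] at h1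
      exact ENat.lt_natCast_add_one_iff.1 h1
    exact lt_of_le_of_lt (ih T' y' hy' h2) (by exact_mod_cast Nat.lt_succ_self n)

theorem coheight_le_coheight_of_lift [QuasiSober Z] (p : Y → Z) (hpc : Continuous p)
    (hlift : ∀ (y : Y) (x' : Z), x' ⤳ p y → ∃ y', y' ⤳ y ∧ p y' = x')
    (T : IrreducibleCloseds Z) (y : Y) (hgen : IsGenericPoint (p y) (T : Set Z)) :
    Order.coheight T ≤ Order.coheight (clIrr y) := by
  by_cases h : Order.coheight (clIrr y) = ⊤
  · rw [h]; exact le_top
  · obtain ⟨n, hn⟩ := ENat.ne_top_iff_exists.1 h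
    rw [← hn]
    exact coheight_le_of_lift p hpc hlift n T y hgen hn.ge

theorem topologicalKrullDim_le_of_lift [QuasiSober Z] (p : Y → Z) (hpc : Continuous p)
    (hlift : ∀ (y : Y) (x' : Z), x' ⤳ p y → ∃ y', y' ⤳ y ∧ p y' = x')
    (hsurj : Function.Surjective p) :
    topologicalKrullDim Z ≤ topologicalKrullDim Y := by
  unfold topologicalKrullDim
  rw [Order.krullDim_eq_iSup_coheight]
  refine iSup_le fun T => ?_
  obtain ⟨ξ, hξ⟩ := QuasiSober.sober T.isIrreducible T.isClosed
  obtain ⟨y, rfl⟩ := hsurj ξ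
  calc ((Order.coheight T : ℕ∞) : WithBot ℕ∞) ≤ ((Order.coheight (clIrr y) : ℕ∞) : WithBot ℕ∞) := by
        exact_mod_cast coheight_le_coheight_of_lift p hpc hlift T y hξ
    _ ≤ Order.krullDim (IrreducibleCloseds Y) := Order.coheight_le_krullDim _

end Top

/-- incomparability for integral morphisms -/
theorem eq_of_specializes_of_map_eq {N U : Scheme.{u}} (g : N ⟶ U) [IsIntegralHom g]
    ⦃n n' : ↥N⦄ (h : n ⤳ n') (hg : g n = g n') : n = n' := by
  obtain ⟨W, hW, hnW, -⟩ := exists_isAffineOpen_mem_and_subset (x := g n)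
    (U := (⊤ : U.Opens)) trivial
  obtain ⟨V, hVdef⟩ : ∃ V : N.Opens, V = g ⁻¹ᵁ W := ⟨_, rfl⟩
  have hV : IsAffineOpen V := by rw [hVdef]; exact hW.preimage g
  have hVle : V ≤ g ⁻¹ᵁ W := hVdef.le
  have hn : n ∈ V := by rw [hVdef]; exact hnW
  have hn' : n' ∈ V := by
    rw [hVdef]
    change g n' ∈ W
    rw [← hg]
    exact hnW
  obtain ⟨q, hq⟩ : ∃ q, q = hV.primeIdealOf ⟨n, hn⟩ := ⟨_, rfl⟩
  obtain ⟨q', hq'⟩ : ∃ q', q' = hV.primeIdealOf ⟨n', hn'⟩ := ⟨_, rfl⟩
  have hqq' : q ⤳ q' := by
    have h1 : (⟨n, hn⟩ : V) ⤳ ⟨n', hn'⟩ := (subtype_specializes_iff _ _).2 h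
    rw [hq, hq']
    exact h1.map hV.isoSpec.hom.continuous
  have hle : q.asIdeal ≤ q'.asIdeal := (PrimeSpectrum.le_iff_specializes q q').2 hqq'
  obtain ⟨φ, hφ⟩ : ∃ φ, φ = (g.appLE W V hVle).hom := ⟨_, rfl⟩
  have hint : φ.IsIntegral := by
    have h1 := IsIntegralHom.isIntegral_app g W hW
    have h2 : g.appLE W V hVle = g.app W ≫ N.presheaf.map (homOfLE hVle).op := rfl
    rw [hφ, h2]
    subst hVdef
    simpa using h1
  have hc : q.asIdeal.comap φ = q'.asIdeal.comap φ := by
    have e1 := IsAffineOpen.comap_primeIdealOf_appLE (f := g) (x := n) W hW V hV hVle hn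
    have e2 := IsAffineOpen.comap_primeIdealOf_appLE (f := g) (x := n') W hW V hV hVle hn'
    have e3 : hW.primeIdealOf ⟨g n, hVle hn⟩ = hW.primeIdealOf ⟨g n', hVle hn'⟩ := by
      congr 1
      exact Subtype.ext hg
    have e4 := congrArg PrimeSpectrum.asIdeal (e1.trans (e3.trans e2.symm))
    rw [hq, hq', hφ]
    exact e4
  have hqeq : q = q' := by
    by_contra hne
    have hne' : q.asIdeal ≠ q'.asIdeal := fun h => hne (PrimeSpectrum.ext h)
    have hlt : q.asIdeal < q'.asIdeal := lt_of_le_of_ne hle hne'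
    letI := φ.toAlgebra
    haveI : Algebra.IsIntegral Γ(U, W) Γ(N, V) := ⟨hint⟩
    have := Ideal.IsIntegral.comap_lt_comap (R := Γ(U, W)) hlt
    exact this.ne hc
  calc n = hV.fromSpec q := by rw [hq]; exact (hV.fromSpec_primeIdealOf ⟨n, hn⟩).symm
    _ = hV.fromSpec q' := by rw [hqeq]
    _ = n' := by rw [hq']; exact hV.fromSpec_primeIdealOf ⟨n', hn'⟩

section BC

variable (k : Type u) [Field k] (X : Scheme.{u}) [X.Over (Spec (CommRingCat.of k))]
  (K : Type u) [Field K] [Algebra k K]

instance flat_specMap : Flat (Spec.map (CommRingCat.ofHom (algebraMap k K))) := by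
  rw [Flat.SpecMap_iff]
  exact RingHom.flat_algebraMap_iff.mpr inferInstance

instance surjective_specMap : Surjective (Spec.map (CommRingCat.ofHom (algebraMap k K))) :=
  Groth.Agent.Lib.RatPtsH4.surjective_specMap k K

instance isIntegralHom_specMap [Algebra.IsAlgebraic k K] :
    IsIntegralHom (Spec.map (CommRingCat.ofHom (algebraMap k K))) := by
  rw [IsIntegralHom.SpecMap_iff]
  exact algebraMap_isIntegral_iff.mpr (Algebra.IsAlgebraic.isIntegral)

/-- the dimension does not change under an algebraic extension of the base field -/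
theorem dim_bc [Algebra.IsAlgebraic k K] :
    topologicalKrullDim (Curv2.bc k X K) = topologicalKrullDim X := by
  apply le_antisymm
  · refine topologicalKrullDim_le_of_fd (Curv2.bcFst k X K)
      (Curv2.bcFst k X K).continuous (fun y y' h hs => ?_)
    exact (eq_of_specializes_of_map_eq (Curv2.bcFst k X K) hs h.symm).symm
  · exact topologicalKrullDim_le_of_lift (Curv2.bcFst k X K)
      (Curv2.bcFst k X K).continuous (Flat.generalizingMap (Curv2.bcFst k X K))
      (Curv2.bcFst k X K).surjective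

end BC

end GZ9
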