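import Mathlib
import Groth.Prelude.Def_Found
import Groth.Agent.Lib.PolyN2_helper3
import Groth.Agent.Lib.N2QuasiFinite_helper3
import Groth.Agent.Lib.Japanese5_helper9

/-!
# Fields are universally Japanese; finite type algebras over a field are Nagata (helper3)
APPEND-ONLY once landed.
-/

set_option autoImplicit false
universe u

namespace Groth.Agent.Lib.FieldNagataH3

open Groth.Agent.Lib

/-- N-2 passes to polynomial rings in finitely many variables. -/
theorem isN2_mvPolynomial (R : Type u) [CommRing R] [IsDomain R] [IsNoetherianRing R]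
    (hN2 : CAlg.IsN2 R) (n : ℕ) : CAlg.IsN2 (MvPolynomial (Fin n) R) := by
  induction n with
  | zero =>
    exact N2QuasiFiniteH3.isN2_of_ringEquiv
      (MvPolynomial.isEmptyAlgEquiv R (Fin 0)).symm.toRingEquiv hN2
  | succ n ih =>
    have := PolyN2H3.isN2_poly (MvPolynomial (Fin n) R) ih
    exact N2QuasiFiniteH3.isN2_of_ringEquiv (MvPolynomial.finSuccEquiv R n).symm.toRingEquiv this

/-- A domain of finite type over a field is N-2 (Japanese). -/
theorem isN2_of_finiteType_field (k : Type u) [Field k] (A : Type u) [CommRing A] [IsDomain A]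
    [Algebra k A] [Algebra.FiniteType k A] : CAlg.IsN2 A := by
  obtain ⟨s, g, hinj, hfin⟩ := exists_finite_inj_algHom_of_fg k A
  letI : Algebra (MvPolynomial (Fin s) k) A := g.toRingHom.toAlgebra
  haveI : Module.Finite (MvPolynomial (Fin s) k) A := hfin
  exact N2QuasiFiniteH3.isN2_of_finite_injective (MvPolynomial (Fin s) k) A hinj
    (isN2_mvPolynomial k (Japanese.isN2_of_isField k (Field.toIsField k)) s)

/-- A field is universally Japanese. -/
theorem isUniversallyJapanese_field (k : Type u) [Field k] : CAlg.IsUniversallyJapanese k := by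
  intro S _ _ _ hft
  haveI := hft
  exact isN2_of_finiteType_field k S

/-- A finite type algebra over a field is a Nagata ring. -/
theorem isNagata_of_finiteType_field (k : Type u) [Field k] (A : Type u) [CommRing A]
    [Algebra k A] [Algebra.FiniteType k A] : CAlg.IsNagata A := by
  refine ⟨Algebra.FiniteType.isNoetherianRing k A, fun p _ => ?_⟩
  haveI : Algebra.FiniteType k (A ⧸ p) :=
    .of_surjective (Ideal.Quotient.mkₐ k p) (Ideal.Quotient.mkₐ_surjective k p)
  exact isN2_of_finiteType_field k (A ⧸ p)

/-- Ring-hom version. -/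
theorem isNagata_of_ringHom_finiteType (k : Type u) [Field k] (A : Type u) [CommRing A]
    (φ : k →+* A) (hφ : φ.FiniteType) : CAlg.IsNagata A := by
  letI : Algebra k A := φ.toAlgebra
  haveI : Algebra.FiniteType k A := hφ
  exact isNagata_of_finiteType_field k A

end Groth.Agent.Lib.FieldNagataH3
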