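import Mathlib
import Groth.Prelude.Def_Found
import Groth.Agent.Lib.AlgClosureFG_helper1

/-!
# Integral closure of a Nagata ring in a reduced finite type algebra is finite (helper3)
APPEND-ONLY once landed.
-/

set_option autoImplicit false
set_option maxSynthPendingDepth 3
universe u

namespace Groth.Agent.Lib.NagataICH3

section Domain

variable (R₀ D : Type u) [CommRing R₀] [IsDomain R₀] [IsNoetherianRing R₀] [CommRing D]
  [IsDomain D] [Algebra R₀ D] [Algebra.FiniteType R₀ D]

/-- `R₀ ⊆ D` finite type extension of domains with `R₀` Noetherian N-2: the integral closure of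
`R₀` in `D` is finite. -/
theorem finite_integralClosure_of_injective (hinj : Function.Injective (algebraMap R₀ D))
    (hN2 : CAlg.IsN2 R₀) : Module.Finite R₀ (integralClosure R₀ D) := by
  have hinjDF : Function.Injective (algebraMap D (FractionRing D)) :=
    IsFractionRing.injective D (FractionRing D)
  have hinjF : Function.Injective (algebraMap R₀ (FractionRing D)) := by
    rw [IsScalarTower.algebraMap_eq R₀ D (FractionRing D)]
    exact hinjDF.comp hinj
  haveI : FaithfulSMul R₀ (FractionRing D) :=
    (faithfulSMul_iff_algebraMap_injective R₀ (FractionRing D)).mpr hinjF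
  letI : Algebra (FractionRing R₀) (FractionRing D) := FractionRing.liftAlgebra R₀ (FractionRing D)
  haveI : IsScalarTower R₀ (FractionRing R₀) (FractionRing D) :=
    FractionRing.isScalarTower_liftAlgebra R₀ (FractionRing D)
  haveI : Algebra.EssFiniteType D (FractionRing D) :=
    Algebra.EssFiniteType.of_isLocalization (FractionRing D) (nonZeroDivisors D)
  haveI : Algebra.EssFiniteType R₀ (FractionRing D) := Algebra.EssFiniteType.comp R₀ D _
  haveI : Algebra.EssFiniteType (FractionRing R₀) (FractionRing D) :=
    Algebra.EssFiniteType.of_comp R₀ _ _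
  have hfg : (⊤ : IntermediateField (FractionRing R₀) (FractionRing D)).FG :=
    IntermediateField.fg_top_iff.mpr inferInstance
  haveI hfin : FiniteDimensional (FractionRing R₀)
      (algebraicClosure (FractionRing R₀) (FractionRing D)) :=
    Groth.Agent.Lib.AlgClosureFGH1.algClosure_finite hfg
  have h1 : Module.Finite R₀
      (integralClosure R₀ (algebraicClosure (FractionRing R₀) (FractionRing D))) :=
    hN2 (algebraicClosure (FractionRing R₀) (FractionRing D)) hfin
  haveI := h1
  haveI : IsNoetherian R₀
      (integralClosure R₀ (algebraicClosure (FractionRing R₀) (FractionRing D))) :=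
    isNoetherian_of_isNoetherianRing_of_finite R₀ _
  have hmem : ∀ x : integralClosure R₀ D, algebraMap D (FractionRing D) x.1 ∈
      algebraicClosure (FractionRing R₀) (FractionRing D) := by
    intro x
    have hx : IsIntegral R₀ (algebraMap D (FractionRing D) x.1) :=
      (x.2 : IsIntegral R₀ x.1).map (IsScalarTower.toAlgHom R₀ D (FractionRing D))
    have hx' : IsIntegral (FractionRing R₀) (algebraMap D (FractionRing D) x.1) := hx.tower_top
    exact (mem_algebraicClosure_iff').mpr hx'
  have hint : ∀ x : integralClosure R₀ D, IsIntegral R₀
      (⟨algebraMap D (FractionRing D) x.1, hmem x⟩ :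
        algebraicClosure (FractionRing R₀) (FractionRing D)) := by
    intro x
    have hx : IsIntegral R₀ (algebraMap D (FractionRing D) x.1) :=
      (x.2 : IsIntegral R₀ x.1).map (IsScalarTower.toAlgHom R₀ D (FractionRing D))
    exact (isIntegral_algHom_iff
      ((algebraicClosure (FractionRing R₀) (FractionRing D)).val.restrictScalars R₀)
      Subtype.val_injective).mp hx
  let φ : integralClosure R₀ D →ₗ[R₀]
      integralClosure R₀ (algebraicClosure (FractionRing R₀) (FractionRing D)) :=
    { toFun := fun x => ⟨⟨algebraMap D (FractionRing D) x.1, hmem x⟩, hint x⟩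
      map_add' := fun x y => by
        apply Subtype.ext
        apply Subtype.ext
        simp
      map_smul' := fun r x => by
        apply Subtype.ext
        apply Subtype.ext
        show algebraMap D (FractionRing D) (r • x.1) = r • algebraMap D (FractionRing D) x.1
        rw [Algebra.smul_def, map_mul, ← IsScalarTower.algebraMap_apply, Algebra.smul_def] }
  have hφ : Function.Injective φ := by
    intro x y hxy
    apply Subtype.ext
    apply hinjDF
    have := congrArg (fun z => (z.1 : FractionRing D)) hxy
    exact this
  exact Module.Finite.of_injective φ hφ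

end Domain

section General

variable (R : Type u) [CommRing R] (hR : CAlg.IsNagata R)

include hR

/-- the integral closure of a Nagata ring in a finite type algebra which is a domain is finite. -/
theorem finite_integralClosure_of_isDomain (D : Type u) [CommRing D] [IsDomain D] [Algebra R D]
    [Algebra.FiniteType R D] : Module.Finite R (integralClosure R D) := by
  haveI : IsNoetherianRing R := hR.1
  let p : Ideal R := RingHom.ker (algebraMap R D)
  haveI : p.IsPrime := RingHom.ker_isPrime _
  letI : Algebra (R ⧸ p) D := (RingHom.kerLift (algebraMap R D)).toAlgebra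
  haveI : IsScalarTower R (R ⧸ p) D := IsScalarTower.of_algebraMap_eq (fun r => rfl)
  have hinj : Function.Injective (algebraMap (R ⧸ p) D) := RingHom.kerLift_injective _
  haveI : Algebra.FiniteType (R ⧸ p) D :=
    Algebra.FiniteType.of_restrictScalars_finiteType R (R ⧸ p) D
  have h1 : Module.Finite (R ⧸ p) (integralClosure (R ⧸ p) D) :=
    finite_integralClosure_of_injective (R ⧸ p) D hinj (hR.2 p)
  obtain ⟨T, hT⟩ := (Module.Finite.iff_fg (N := (integralClosure (R ⧸ p) D).toSubmodule)).mp h1
  refine (Module.Finite.iff_fg (N := (integralClosure R D).toSubmodule)).mpr ⟨T, ?_⟩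
  haveI : Algebra.IsIntegral R (R ⧸ p) :=
    Algebra.isIntegral_of_surjective Ideal.Quotient.mk_surjective
  apply le_antisymm
  · rw [Submodule.span_le]
    intro x hx
    have hx1 : x ∈ (integralClosure (R ⧸ p) D).toSubmodule := hT ▸ Submodule.subset_span hx
    have hx2 : IsIntegral (R ⧸ p) x := hx1
    exact isIntegral_trans (A := R ⧸ p) x hx2
  · intro x hx
    have hx1 : IsIntegral R x := hx
    have hx2 : IsIntegral (R ⧸ p) x := hx1.tower_top
    have hx3 : x ∈ Submodule.span (R ⧸ p) (T : Set D) := by
      rw [hT]
      exact hx2
    clear hx hx1 hx2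
    induction hx3 using Submodule.span_induction with
    | mem y hy => exact Submodule.subset_span hy
    | zero => exact Submodule.zero_mem _
    | add y z _ _ hy hz => exact Submodule.add_mem _ hy hz
    | smul c y _ hy =>
      obtain ⟨r, rfl⟩ := Ideal.Quotient.mk_surjective c
      have : (Ideal.Quotient.mk p r) • y = r • y := algebraMap_smul (R ⧸ p) r y
      rw [this]
      exact Submodule.smul_mem _ _ hy

/-- **Stacks 03GH (finite type case)**: if `R` is Nagata and `S` a reduced `R`-algebra of finite
type, then the integral closure of `R` in `S` is a finite `R`-module. -/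
theorem finite_integralClosure (S : Type u) [CommRing S] [IsReduced S] [Algebra R S]
    [Algebra.FiniteType R S] : Module.Finite R (integralClosure R S) := by
  haveI : IsNoetherianRing R := hR.1
  haveI : IsNoetherianRing S := Algebra.FiniteType.isNoetherianRing R S
  haveI hfin : Finite (minimalPrimes S) := (minimalPrimes.finite_of_isNoetherianRing S).to_subtype
  haveI hprime : ∀ q : minimalPrimes S, (q.1).IsPrime := fun q => q.2.1.1
  haveI : ∀ q : minimalPrimes S, Algebra.FiniteType R (S ⧸ q.1) := fun q =>
    Algebra.FiniteType.of_surjective (Ideal.Quotient.mkₐ R q.1) (Ideal.Quotient.mkₐ_surjective R q.1)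
  haveI : ∀ q : minimalPrimes S, Module.Finite R (integralClosure R (S ⧸ q.1)) := fun q =>
    finite_integralClosure_of_isDomain R hR (S ⧸ q.1)
  let ψ : integralClosure R S →ₗ[R] (∀ q : minimalPrimes S, integralClosure R (S ⧸ q.1)) :=
    { toFun := fun x q => ⟨Ideal.Quotient.mk q.1 x.1,
        (x.2 : IsIntegral R x.1).map (Ideal.Quotient.mkₐ R q.1)⟩
      map_add' := fun x y => by
        funext q
        apply Subtype.ext
        simp
      map_smul' := fun r x => by
        funext q
        apply Subtype.ext
        show Ideal.Quotient.mk q.1 (r • x.1) = r • Ideal.Quotient.mk q.1 x.1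
        rw [Algebra.smul_def, map_mul, Algebra.smul_def]
        rfl }
  have hψ : Function.Injective ψ := by
    intro x y hxy
    apply Subtype.ext
    rw [← sub_eq_zero]
    have hmem : x.1 - y.1 ∈ sInf (minimalPrimes S) := by
      rw [Ideal.mem_sInf]
      intro q hq
      have h1 := congrFun hxy ⟨q, hq⟩
      have h2 : Ideal.Quotient.mk q x.1 = Ideal.Quotient.mk q y.1 := congrArg Subtype.val h1
      exact Ideal.Quotient.eq.mp h2
    have hbot : sInf (minimalPrimes S) = ⊥ := by
      show sInf (⊥ : Ideal S).minimalPrimes = ⊥
      rw [Ideal.sInf_minimalPrimes]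
      exact nilradical_eq_zero S
    rw [hbot] at hmem
    exact hmem
  haveI : IsNoetherian R (∀ q : minimalPrimes S, integralClosure R (S ⧸ q.1)) :=
    isNoetherian_of_isNoetherianRing_of_finite R _
  exact Module.Finite.of_injective ψ hψ

end General

end Groth.Agent.Lib.NagataICH3
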