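import Mathlib
import Groth.Prelude.Def_Found
import Groth.Agent.Lib.NagataIC_helper3

/-!
# Finiteness of the relative normalization over Nagata bases (helper3)
APPEND-ONLY once landed.
-/

set_option autoImplicit false
universe u

open AlgebraicGeometry CategoryTheory TopologicalSpace Opposite

namespace Groth.Agent.Lib.NormFiniteH3

section Scheme

variable {X Y : Scheme.{u}} (f : X ⟶ Y) [QuasiCompact f] [QuasiSeparated f]

set_option backward.isDefEq.respectTransparency false in
/-- The relative normalization is finite as soon as the integral closures over the affine opens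
are finite modules. -/
theorem isFinite_fromNormalization_of_forall
    (H : ∀ U : Y.affineOpens, letI := (f.app U.1).hom.toAlgebra
      Module.Finite Γ(Y, U.1) (integralClosure Γ(Y, U.1) Γ(X, f ⁻¹ᵁ U.1))) :
    IsFinite f.fromNormalization := by
  rw [IsZariskiLocalAtTarget.iff_of_iSup_eq_top (P := @IsFinite) _
    (iSup_affineOpens_eq_top _)]
  intro U
  let e := IsOpenImmersion.isoOfRangeEq (f.fromNormalization ⁻¹ᵁ U).ι (f.normalizationOpenCover.f U)
      (by simpa using congr($(f.fromNormalization_preimage U).1))
  rw [← MorphismProperty.cancel_left_of_respectsIso @IsFinite e.inv,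
    ← MorphismProperty.cancel_right_of_respectsIso @IsFinite _ U.2.isoSpec.hom]
  have : (f.normalizationDiagramMap.app (.op U)).hom.Finite := by
    let := (f.app U).hom.toAlgebra
    change (algebraMap Γ(Y, U) (integralClosure Γ(Y, U) Γ(X, f ⁻¹ᵁ U))).Finite
    exact RingHom.finite_algebraMap.mpr (H U)
  convert! (IsFinite.SpecMap_iff _).mpr this
  rw [← cancel_mono U.2.fromSpec]
  simp [IsAffineOpen.isoSpec_hom, e, Scheme.Hom.ι_fromNormalization]

end Scheme

/-- Ring-level statement: `A` Nagata, `B` an `A`-algebra mapping jointly injectively to finitely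
many reduced rings `C i` of finite type over `A`; then the integral closure of `A` in `B` is a
finite `A`-module. -/
theorem finite_integralClosure_of_ringHoms {A B : Type u} [CommRing A] [CommRing B] [Algebra A B]
    (hA : CAlg.IsNagata A) {ι : Type*} [Finite ι] (C : ι → Type u) [∀ i, CommRing (C i)]
    [∀ i, _root_.IsReduced (C i)] (φ : ∀ i, B →+* C i)
    (hft : ∀ i, ((φ i).comp (algebraMap A B)).FiniteType)
    (hφ : ∀ b : B, (∀ i, φ i b = 0) → b = 0) :
    Module.Finite A (integralClosure A B) := by
  haveI : IsNoetherianRing A := hA.1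
  letI : ∀ i, Algebra A (C i) := fun i => ((φ i).comp (algebraMap A B)).toAlgebra
  haveI : ∀ i, Algebra.FiniteType A (C i) := fun i => hft i
  let φa : ∀ i, B →ₐ[A] C i := fun i => { φ i with commutes' := fun r => rfl }
  haveI : ∀ i, Module.Finite A (integralClosure A (C i)) := fun i =>
    Groth.Agent.Lib.NagataICH3.finite_integralClosure A hA (C i)
  let ψ : integralClosure A B →ₗ[A] (∀ i, integralClosure A (C i)) :=
    { toFun := fun x i => ⟨φa i x.1, (x.2 : IsIntegral A x.1).map (φa i)⟩
      map_add' := fun x y => by
        funext i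
        apply Subtype.ext
        simp
      map_smul' := fun r x => by
        funext i
        apply Subtype.ext
        show φa i (r • x.1) = r • φa i x.1
        rw [map_smul] }
  have hψ : Function.Injective ψ := by
    intro x y hxy
    apply Subtype.ext
    rw [← sub_eq_zero]
    apply hφ
    intro i
    have h1 := congrFun hxy i
    have h2 : φa i x.1 = φa i y.1 := congrArg Subtype.val h1
    have h3 : φ i x.1 = φ i y.1 := h2
    rw [map_sub, h3, sub_self]
  haveI : Finite ι := inferInstance
  cases nonempty_fintype ι
  haveI : IsNoetherian A (∀ i, integralClosure A (C i)) :=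
    isNoetherian_of_isNoetherianRing_of_finite A _
  exact Module.Finite.of_injective ψ hψ

section Main

variable {X S : Scheme.{u}} (f : X ⟶ S) [LocallyOfFiniteType f] [QuasiCompact f]
  [QuasiSeparated f] [AlgebraicGeometry.IsReduced X]

/-- Finiteness of the integral closure of `Γ(S, U)` in `Γ(X, f⁻¹U)`. -/
theorem finite_integralClosure_app (U : S.affineOpens) (hU : CAlg.IsNagata Γ(S, U.1)) :
    letI := (f.app U.1).hom.toAlgebra
    Module.Finite Γ(S, U.1) (integralClosure Γ(S, U.1) Γ(X, f ⁻¹ᵁ U.1)) := by
  letI := (f.app U.1).hom.toAlgebra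
  have hc : IsCompact ((f ⁻¹ᵁ U.1 : X.Opens) : Set X) :=
    QuasiCompact.isCompact_preimage (f := f) _ U.1.isOpen U.2.isCompact
  obtain ⟨s, hs, hsU⟩ := isCompact_iff_finite_and_eq_biUnion_affineOpens.mp hc
  haveI : Finite s := hs
  have hle : ∀ i : s, (i.1.1 : X.Opens) ≤ f ⁻¹ᵁ U.1 := by
    intro i
    rw [hsU]
    exact le_iSup₂ (f := fun (j : X.affineOpens) (_ : j ∈ s) => (j : X.Opens)) i.1 i.2
  refine finite_integralClosure_of_ringHoms hU (fun i : s => Γ(X, i.1.1))
    (fun i => (X.presheaf.map (homOfLE (hle i)).op).hom) ?_ ?_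
  · intro i
    exact HasRingHomProperty.appLE (P := @LocallyOfFiniteType) f inferInstance U i.1 (hle i)
  · intro b hb
    refine X.sheaf.eq_of_locally_eq' (fun i : s => (i.1.1 : X.Opens)) (f ⁻¹ᵁ U.1)
      (fun i => homOfLE (hle i)) ?_ b 0 ?_
    · rw [hsU]
      refine iSup₂_le fun j hj => ?_
      exact le_iSup (fun i : s => (i.1.1 : X.Opens)) ⟨j, hj⟩
    · intro i
      rw [map_zero]
      exact hb i

/-- **S9675**: a reduced scheme of finite type over a Nagata scheme has finite relative
normalization. -/
theorem isFinite_fromNormalization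
    (hS : ∀ U : S.affineOpens, CAlg.IsNagata Γ(S, U)) : IsFinite f.fromNormalization :=
  isFinite_fromNormalization_of_forall f fun U => finite_integralClosure_app f U (hS U)

end Main

end Groth.Agent.Lib.NormFiniteH3
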