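import Mathlib
import Groth.Prelude
import Groth.Agent.Lib.NormFinite_helper3

/-!
# The normalization of an integral Japanese scheme is finite (S9688) — helper4
-/

set_option autoImplicit false
universe u
open CategoryTheory CategoryTheory.Limits AlgebraicGeometry TopologicalSpace Opposite

namespace Groth.Agent.Lib.NormJapaneseH4

theorem res_bijective_of_eq (X : Scheme.{u}) {U U' : X.Opens} (h : U ≤ U') (h' : U' ≤ U) :
    Function.Bijective (X.presheaf.map (homOfLE h).op).hom := by
  have hid1 : X.presheaf.map (homOfLE h).op ≫ X.presheaf.map (homOfLE h').op = 𝟙 _ := by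
    rw [← Functor.map_comp]
    exact (congrArg (fun m => X.presheaf.map m) (Subsingleton.elim _ (𝟙 _))).trans
      (X.presheaf.map_id _)
  have hid2 : X.presheaf.map (homOfLE h').op ≫ X.presheaf.map (homOfLE h).op = 𝟙 _ := by
    rw [← Functor.map_comp]
    exact (congrArg (fun m => X.presheaf.map m) (Subsingleton.elim _ (𝟙 _))).trans
      (X.presheaf.map_id _)
  refine ⟨fun a b hab => ?_, fun c => ⟨(X.presheaf.map (homOfLE h').op).hom c, ?_⟩⟩
  · have ha := congrArg (fun m => m.hom a) hid1
    have hb := congrArg (fun m => m.hom b) hid1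
    exact ha.symm.trans ((congrArg (fun z => (X.presheaf.map (homOfLE h').op).hom z) hab).trans hb)
  · exact congrArg (fun m => m.hom c) hid2

theorem main9688 (X : Scheme.{u}) [IsIntegral X]
    [QuasiCompact (X.fromSpecStalk (genericPoint ↥X))]
    [QuasiSeparated (X.fromSpecStalk (genericPoint ↥X))]
    (hJ : ∀ (U : X.Opens), IsAffineOpen U → ∀ (hne : Nonempty ↥U),
      @CAlg.IsN2 ↑Γ(X, U) _ (@IsIntegral.component_integral X _ U hne)) :
    IsFinite (Curv2.normalizationι X) := by
  show IsFinite (X.fromSpecStalk (genericPoint X)).fromNormalization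
  refine Groth.Agent.Lib.NormFiniteH3.isFinite_fromNormalization_of_forall _ (fun U => ?_)
  letI alg : Algebra Γ(X, U.1) Γ(Spec (X.presheaf.stalk (genericPoint X)),
      (X.fromSpecStalk (genericPoint X)) ⁻¹ᵁ U.1) :=
    ((X.fromSpecStalk (genericPoint X)).app U.1).hom.toAlgebra
  by_cases hne : Nonempty ((U.1 : X.Opens) : Scheme.{u})
  · haveI hne' : Nonempty ((U.1 : X.Opens) : Scheme.{u}) := hne
    have hη : genericPoint X ∈ U.1 :=
      (genericPoint_specializes hne.some.1).mem_open U.1.2 hne.some.2
    -- the preimage is everything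
    have htop : (⊤ : (Spec (X.presheaf.stalk (genericPoint X))).Opens) ≤
        (X.fromSpecStalk (genericPoint X)) ⁻¹ᵁ U.1 := by
      intro x _
      have hx : (X.fromSpecStalk (genericPoint X)) x ⤳ genericPoint X := by
        have h0 : (X.fromSpecStalk (genericPoint X)) x ∈
            Set.range (X.fromSpecStalk (genericPoint X)) := ⟨x, rfl⟩
        rw [Scheme.range_fromSpecStalk] at h0
        exact h0
      exact hx.mem_open U.1.2 hη
    have hbij1 := res_bijective_of_eq (Spec (X.presheaf.stalk (genericPoint X)))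
      (le_top : (X.fromSpecStalk (genericPoint X)) ⁻¹ᵁ U.1 ≤ ⊤) htop
    have hbij2 : Function.Bijective (Scheme.ΓSpecIso (X.presheaf.stalk (genericPoint X))).inv.hom :=
      ConcreteCategory.bijective_of_isIso (Scheme.ΓSpecIso (X.presheaf.stalk (genericPoint X))).inv
    have happ := Scheme.fromSpecStalk_app (X := X) (x := genericPoint X) hη
    haveI hfr : IsFractionRing Γ(X, U.1) X.functionField :=
      functionField_isFractionRing_of_isAffineOpen X U.1 U.2
    -- the algebra isomorphism `K ≃ₐ Γ(Spec K, f⁻¹U)`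
    let r : X.functionField →+* Γ(Spec (X.presheaf.stalk (genericPoint X)),
        (X.fromSpecStalk (genericPoint X)) ⁻¹ᵁ U.1) :=
      ((Spec (X.presheaf.stalk (genericPoint X))).presheaf.map (homOfLE le_top).op).hom.comp
        (Scheme.ΓSpecIso (X.presheaf.stalk (genericPoint X))).inv.hom
    have hr : Function.Bijective r := hbij1.comp hbij2
    have hcomm : ∀ a : Γ(X, U.1), r (algebraMap Γ(X, U.1) X.functionField a) =
        algebraMap Γ(X, U.1) Γ(Spec (X.presheaf.stalk (genericPoint X)),
          (X.fromSpecStalk (genericPoint X)) ⁻¹ᵁ U.1) a := by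
      intro a
      exact (congrArg (fun m => m.hom a) happ).symm
    let ρ : X.functionField ≃ₐ[Γ(X, U.1)] Γ(Spec (X.presheaf.stalk (genericPoint X)),
        (X.fromSpecStalk (genericPoint X)) ⁻¹ᵁ U.1) :=
      AlgEquiv.ofBijective { r with commutes' := hcomm } hr
    let e : FractionRing Γ(X, U.1) ≃ₐ[Γ(X, U.1)] Γ(Spec (X.presheaf.stalk (genericPoint X)),
        (X.fromSpecStalk (genericPoint X)) ⁻¹ᵁ U.1) :=
      (FractionRing.algEquiv Γ(X, U.1) X.functionField).trans ρ
    have hfin : Module.Finite Γ(X, U.1) (integralClosure Γ(X, U.1) (FractionRing Γ(X, U.1))) :=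
      hJ U.1 U.2 hne (FractionRing Γ(X, U.1)) inferInstance
    exact Module.Finite.equiv e.mapIntegralClosure.toLinearEquiv
  · have hU : U.1 = ⊥ := by
      by_contra hUne
      obtain ⟨u, hu⟩ := (Opens.ne_bot_iff_nonempty U.1).mp hUne
      exact hne ⟨⟨u, hu⟩⟩
    have hpre : (X.fromSpecStalk (genericPoint X)) ⁻¹ᵁ U.1 = ⊥ := by rw [hU]; rfl
    haveI : Subsingleton Γ(Spec (X.presheaf.stalk (genericPoint X)),
        (X.fromSpecStalk (genericPoint X)) ⁻¹ᵁ U.1) := by
      rw [hpre]; infer_instance
    haveI : Subsingleton (integralClosure Γ(X, U.1) Γ(Spec (X.presheaf.stalk (genericPoint X)),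
        (X.fromSpecStalk (genericPoint X)) ⁻¹ᵁ U.1)) :=
      ⟨fun a b => Subtype.ext (Subsingleton.elim _ _)⟩
    exact Module.Finite.of_finite

end Groth.Agent.Lib.NormJapaneseH4
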