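import Mathlib

set_option autoImplicit false
universe u
open CategoryTheory CategoryTheory.Limits AlgebraicGeometry TopologicalSpace

namespace Groth.Agent.Lib.CurveTopH7

/-- On a quasi-compact irreducible scheme whose closed points have one-dimensional local rings,
every non-generic point is closed. -/
theorem isClosed_of_ne_genericPoint {X : Scheme.{u}} [IrreducibleSpace X] [CompactSpace X]
    (hX : ∀ x : X, IsClosed ({x} : Set X) → ringKrullDim (X.presheaf.stalk x) = 1)
    (x : X) (hxξ : x ≠ genericPoint X) : IsClosed ({x} : Set X) := by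
  by_contra hncl
  obtain ⟨z, hz1, hz2⟩ := (isClosed_closure (s := ({x} : Set X))).exists_closed_singleton
    ⟨x, subset_closure rfl⟩
  have hxz : x ⤳ z := specializes_iff_mem_closure.mpr hz1
  have hne : z ≠ x := by rintro rfl; exact hncl hz2
  have hdimz := hX z hz2
  rw [ringKrullDim_stalk_eq_coheight] at hdimz
  have hz_lt_x : z < x :=
    lt_of_le_not_ge hxz (fun hzx : z ⤳ x => hne ((hxz.antisymm hzx).eq).symm)
  have hx_lt_ξ : x < genericPoint X :=
    lt_of_le_not_ge (genericPoint_specializes x)
      (fun h : x ⤳ genericPoint X => hxξ ((h.antisymm (genericPoint_specializes x)).eq))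
  have h1 : Order.coheight z ≤ ((1 : ℕ) : ℕ∞) := by exact_mod_cast hdimz.le
  have h2 := (Order.coheight_le_coe_iff (n := 1)).mp h1 x hz_lt_x
  have h3 : Order.coheight x = 0 := by
    have : Order.coheight x < 1 := by exact_mod_cast h2
    exact ENat.lt_one_iff_eq_zero.mp this
  have h4 : IsMax x := Order.coheight_eq_zero.mp h3
  exact hx_lt_ξ.not_ge (h4 hx_lt_ξ.le)

/-- The generic point of an irreducible "curve" is not closed. -/
theorem not_isClosed_genericPoint {X : Scheme.{u}} [IrreducibleSpace X]
    (hX : ∀ x : X, IsClosed ({x} : Set X) → ringKrullDim (X.presheaf.stalk x) = 1) :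
    ¬ IsClosed ({genericPoint X} : Set X) := by
  intro h
  have h1 := hX _ h
  rw [ringKrullDim_stalk_eq_coheight] at h1
  have h2 : IsMax (genericPoint X) := fun b _ => genericPoint_specializes b
  rw [Order.coheight_eq_zero.mpr h2] at h1
  simp at h1

/-- In a Noetherian quasi-sober space, a closed set all of whose points are closed is finite. -/
theorem finite_of_isClosed_of_forall_isClosed {α : Type*} [TopologicalSpace α] [NoetherianSpace α]
    [QuasiSober α] (Z : Set α) (hZ : IsClosed Z) (hpt : ∀ z ∈ Z, IsClosed ({z} : Set α)) :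
    Z.Finite := by
  obtain ⟨S, hSfin, hScl, hSirr, hS⟩ := NoetherianSpace.exists_finite_set_isClosed_irreducible hZ
  rw [hS, Set.sUnion_eq_biUnion]
  refine hSfin.biUnion ?_
  intro t ht
  obtain ⟨z, hz⟩ := QuasiSober.sober (hSirr t ht) (hScl t ht)
  have hzt : z ∈ t := hz.mem
  have hzZ : z ∈ Z := by rw [hS]; exact ⟨t, ht, hzt⟩
  have : t = {z} := by
    rw [← hz.def, (hpt z hzZ).closure_eq]
  rw [this]
  exact Set.finite_singleton z

/-- A dominant morphism of irreducible schemes maps the generic point to the generic point. -/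
theorem map_genericPoint_of_isDominant {X Y : Scheme.{u}} [IrreducibleSpace X] [IrreducibleSpace Y]
    (f : X ⟶ Y) [IsDominant f] : f (genericPoint X) = genericPoint Y := by
  have h1 : IsGenericPoint (f (genericPoint X)) (closure (f '' Set.univ)) :=
    (genericPoint_spec X).image f.continuous
  rw [Set.image_univ, f.denseRange.closure_range] at h1
  exact h1.eq (genericPoint_spec Y)

end Groth.Agent.Lib.CurveTopH7
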