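import Mathlib
import Groth.Prelude.Def_Pi1

set_option autoImplicit false
universe u
open CategoryTheory CategoryTheory.Limits AlgebraicGeometry

namespace Groth.Agent.Lib.NormalizationNormalH7

/-- The integral closure of a ring in an integrally closed domain is integrally closed. -/
theorem isIntegrallyClosed_integralClosure (A M : Type*) [CommRing A] [CommRing M] [Algebra A M]
    [IsDomain M] [IsIntegrallyClosed M] : IsIntegrallyClosed (integralClosure A M) :=
  IsIntegrallyClosed.of_isIntegrallyClosed_of_isIntegrallyClosedIn (integralClosure A M) M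

/-- The relative normalization of `X` in `T` is normal as soon as the nonzero rings of sections
of `T` are integrally closed domains. -/
theorem isNormalScheme_normalization {T X : Scheme.{u}} (g : T ⟶ X) [QuasiCompact g]
    [QuasiSeparated g]
    (hT : ∀ W : T.Opens, Nontrivial Γ(T, W) → IsDomain Γ(T, W) ∧ IsIntegrallyClosed Γ(T, W)) :
    Pi1.IsNormalScheme g.normalization := by
  intro x'
  obtain ⟨_, ⟨(U : X.Opens), hU, rfl⟩, hyU, -⟩ :=
    X.isBasis_affineOpens.exists_subset_of_mem_open
      (Set.mem_univ (g.fromNormalization x')) isOpen_univ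
  have hV : IsAffineOpen (g.fromNormalization ⁻¹ᵁ U) := hU.preimage g.fromNormalization
  have hx'V : x' ∈ g.fromNormalization ⁻¹ᵁ U := hyU
  letI := (g.app U).hom.toAlgebra
  let e := (g.normalizationObjIso hU).commRingCatIsoToRingEquiv
  haveI : Nontrivial Γ(g.normalization, g.fromNormalization ⁻¹ᵁ U) :=
    (g.normalization.presheaf.germ _ x' hx'V).hom.domain_nontrivial
  haveI : Nontrivial (integralClosure Γ(X, U) Γ(T, g ⁻¹ᵁ U)) := e.injective.nontrivial
  haveI : Nontrivial Γ(T, g ⁻¹ᵁ U) :=
    (Subtype.val_injective (p := fun a => a ∈ integralClosure Γ(X, U) Γ(T, g ⁻¹ᵁ U))).nontrivial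
  obtain ⟨hdom, hic⟩ := hT _ ‹Nontrivial Γ(T, g ⁻¹ᵁ U)›
  haveI := hdom
  haveI := hic
  haveI : IsIntegrallyClosed (integralClosure Γ(X, U) Γ(T, g ⁻¹ᵁ U)) :=
    isIntegrallyClosed_integralClosure _ _
  haveI : IsDomain Γ(g.normalization, g.fromNormalization ⁻¹ᵁ U) := e.toMulEquiv.isDomain _
  haveI : IsIntegrallyClosed Γ(g.normalization, g.fromNormalization ⁻¹ᵁ U) :=
    IsIntegrallyClosed.of_equiv e.symm
  letI : Algebra Γ(g.normalization, g.fromNormalization ⁻¹ᵁ U)
      (g.normalization.presheaf.stalk x') :=
    TopCat.Presheaf.algebra_section_stalk g.normalization.presheaf ⟨x', hx'V⟩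
  haveI : IsLocalization.AtPrime (g.normalization.presheaf.stalk x')
      (hV.primeIdealOf ⟨x', hx'V⟩).asIdeal := hV.isLocalization_stalk ⟨x', hx'V⟩
  have hle : (hV.primeIdealOf ⟨x', hx'V⟩).asIdeal.primeCompl ≤
      nonZeroDivisors Γ(g.normalization, g.fromNormalization ⁻¹ᵁ U) :=
    Ideal.primeCompl_le_nonZeroDivisors _
  haveI : IsDomain (g.normalization.presheaf.stalk x') :=
    IsLocalization.isDomain_of_le_nonZeroDivisors _ hle
  exact ⟨inferInstance, isIntegrallyClosed_of_isLocalization _ _ hle⟩

/-- The nonzero rings of sections of the spectrum of a field are integrally closed domains. -/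
theorem sections_Spec_of_isField (L : CommRingCat.{u}) (hL : IsField L) (W : (Spec L).Opens)
    (hW : Nontrivial Γ(Spec L, W)) : IsDomain Γ(Spec L, W) ∧ IsIntegrallyClosed Γ(Spec L, W) := by
  have hbotI : ∀ p : PrimeSpectrum L, p.asIdeal = ⊥ := fun p => by
    rw [eq_bot_iff]
    intro a ha
    by_contra h0
    obtain ⟨b, hb⟩ := hL.mul_inv_cancel (show a ≠ 0 from h0)
    exact p.isPrime.ne_top ((Ideal.eq_top_iff_one _).mpr (hb ▸ p.asIdeal.mul_mem_right b ha))
  have hsub : ∀ p q : Spec L, p = q := fun p q =>
    PrimeSpectrum.ext ((hbotI p).trans (hbotI q).symm)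
  have hWtop : W = ⊤ := by
    by_contra hne
    have hbot : W = ⊥ := by
      ext p
      constructor
      · intro hp
        exfalso
        apply hne
        ext q
        constructor
        · intro _; trivial
        · intro _; rw [hsub q p]; exact hp
      · intro hp; exact absurd hp (by simp)
    subst hbot
    exact not_subsingleton _ (inferInstance : Subsingleton Γ(Spec L, ⊥))
  subst hWtop
  let e : Γ(Spec L, ⊤) ≃+* L := (Scheme.ΓSpecIso L).commRingCatIsoToRingEquiv
  letI := hL.toField
  haveI : IsDomain L := hL.isDomain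
  haveI : IsIntegrallyClosed L := inferInstance
  exact ⟨e.toMulEquiv.isDomain _, IsIntegrallyClosed.of_equiv e.symm⟩

/-- The relative normalization of a scheme in the spectrum of a field is normal. -/
theorem isNormalScheme_normalization_of_isField {X : Scheme.{u}} (L : CommRingCat.{u})
    (hL : IsField L) (g : Spec L ⟶ X) [QuasiCompact g] [QuasiSeparated g] :
    Pi1.IsNormalScheme g.normalization :=
  isNormalScheme_normalization g (sections_Spec_of_isField L hL)

/-- The spectrum of a field has at most one point. -/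
theorem eq_of_isField_Spec (L : CommRingCat.{u}) (hL : IsField L) (p q : Spec L) : p = q := by
  have hbotI : ∀ p : PrimeSpectrum L, p.asIdeal = ⊥ := fun p => by
    rw [eq_bot_iff]
    intro a ha
    by_contra h0
    obtain ⟨b, hb⟩ := hL.mul_inv_cancel (show a ≠ 0 from h0)
    exact p.isPrime.ne_top ((Ideal.eq_top_iff_one _).mpr (hb ▸ p.asIdeal.mul_mem_right b ha))
  exact PrimeSpectrum.ext ((hbotI p).trans (hbotI q).symm)

/-- If a composite of ring maps between fields is bijective, so is the first map. -/
theorem bijective_of_comp_bijective {A B C : Type*} [Field A] [Field B] [Field C]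
    (a : A →+* B) (b : B →+* C) (h : Function.Bijective (b.comp a)) : Function.Bijective a := by
  refine ⟨a.injective, fun y => ?_⟩
  obtain ⟨x, hx⟩ := h.2 (b y)
  exact ⟨x, b.injective hx⟩

end Groth.Agent.Lib.NormalizationNormalH7
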