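import Mathlib
import Groth.Prelude.Def_CurvBase

set_option autoImplicit false
universe u
open CategoryTheory CategoryTheory.Limits AlgebraicGeometry

namespace Groth.Agent.Lib.OverFieldH7

/-- The composite `Spec O_{X,x} ⟶ X ⟶ Spec R` as `Spec` of a ring map. -/
theorem fromSpecStalk_comp {R : CommRingCat.{u}} {X : Scheme.{u}} (p : X ⟶ Spec R) (x : X) :
    X.fromSpecStalk x ≫ p =
      Spec.map ((Scheme.ΓSpecIso R).inv ≫ p.appTop ≫ X.presheaf.germ ⊤ x trivial) := by
  have h1 : p = X.toSpecΓ ≫ Spec.map p.appTop ≫ Spec.map (Scheme.ΓSpecIso R).inv := by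
    rw [← Scheme.toSpecΓ_naturality_assoc, toSpecΓ_SpecMap_ΓSpecIso_inv, Category.comp_id]
  conv_lhs => rw [h1]
  rw [Scheme.fromSpecStalk_toSpecΓ_assoc, ← Spec.map_comp, ← Spec.map_comp, Category.assoc]

/-- For a `k`-scheme, `Spec O_{X,x} ⟶ X ⟶ Spec k` is `Spec` of `Curv2.stalkMap`. -/
theorem fromSpecStalk_over (k : Type u) [Field k] (X : Scheme.{u})
    [X.Over (Spec (CommRingCat.of k))] (x : X) :
    X.fromSpecStalk x ≫ (X ↘ Spec (CommRingCat.of k)) =
      Spec.map (CommRingCat.ofHom (Curv2.stalkMap k X x)) := by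
  rw [fromSpecStalk_comp]
  rfl

/-- The generic point inclusion `Spec K(X) ⟶ X` is dominant. -/
theorem isDominant_fromSpecStalk_genericPoint (X : Scheme.{u}) [IrreducibleSpace X] :
    IsDominant (X.fromSpecStalk (genericPoint X)) := by
  constructor
  change Dense (Set.range (X.fromSpecStalk (genericPoint X)))
  rw [Scheme.range_fromSpecStalk]
  have h : Dense ({genericPoint X} : Set X) := by
    rw [dense_iff_closure_eq]
    exact (genericPoint_spec X)
  refine h.mono ?_
  intro y hy
  rw [Set.mem_singleton_iff] at hy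
  subst hy
  exact specializes_rfl

/-- A point that is a generization of the generic point is the generic point. -/
theorem eq_genericPoint_of_mem_range (Y : Scheme.{u}) [IrreducibleSpace Y] (y : Y)
    (hy : y ∈ Set.range (Y.fromSpecStalk (genericPoint Y))) : y = genericPoint Y := by
  rw [Scheme.range_fromSpecStalk] at hy
  exact ((show y ⤳ genericPoint Y from hy).antisymm (genericPoint_specializes _)).eq

/-- Characterisation of "maps generic point to generic point and induces `φ` on function
fields" by a commutative square of schemes. -/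
theorem generic_stalk_iff {X Y : Scheme.{u}} [IrreducibleSpace X] [IrreducibleSpace Y]
    (u : X ⟶ Y) (φ : Y.presheaf.stalk (genericPoint Y) ⟶ X.presheaf.stalk (genericPoint X)) :
    (∃ hu : u.base (genericPoint X) = genericPoint Y,
        Y.presheaf.stalkSpecializes (specializes_of_eq hu) ≫ u.stalkMap (genericPoint X) = φ) ↔
      X.fromSpecStalk (genericPoint X) ≫ u = Spec.map φ ≫ Y.fromSpecStalk (genericPoint Y) := by
  constructor
  · rintro ⟨hu, hst⟩
    rw [← hst, Spec.map_comp, Category.assoc, Scheme.SpecMap_stalkSpecializes_fromSpecStalk,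
      Scheme.SpecMap_stalkMap_fromSpecStalk]
  · intro hkey
    have hu : u.base (genericPoint X) = genericPoint Y := by
      apply eq_genericPoint_of_mem_range
      have h1 : u.base (genericPoint X) =
          (X.fromSpecStalk (genericPoint X) ≫ u) (IsLocalRing.closedPoint _) := by
        rw [Scheme.Hom.comp_apply, Scheme.fromSpecStalk_closedPoint]
      rw [h1, hkey, Scheme.Hom.comp_apply]
      exact ⟨_, rfl⟩
    refine ⟨hu, ?_⟩
    have h2 : Spec.map (Y.presheaf.stalkSpecializes (specializes_of_eq hu) ≫
        u.stalkMap (genericPoint X)) ≫ Y.fromSpecStalk (genericPoint Y) =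
        Spec.map φ ≫ Y.fromSpecStalk (genericPoint Y) := by
      rw [Spec.map_comp, Category.assoc, Scheme.SpecMap_stalkSpecializes_fromSpecStalk,
        Scheme.SpecMap_stalkMap_fromSpecStalk, hkey]
    exact Spec.map_injective ((cancel_mono _).mp h2)

end Groth.Agent.Lib.OverFieldH7
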