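import Mathlib
import Groth.Agent.Lib.NormalizationNormal_helper7
import Groth.Agent.Lib.OverField_helper7
import Groth.Agent.Lib.CurveTop_helper7
import Groth.Agent.Lib.MonoVal_helper7

set_option autoImplicit false
universe u
open CategoryTheory CategoryTheory.Limits AlgebraicGeometry

namespace Groth.Agent.Lib.NormalizationBiratH7

/-- The normalization of an integral scheme `X` in the spectrum of a field mapping
monomorphically and dominantly to `X` (e.g. the generic point). -/
theorem normalization_of_field_mono {X : Scheme.{u}} [IsIntegral X] (L : CommRingCat.{u})
    [IsLocalRing L] (hL : IsField L) (h : Spec L ⟶ X) [QuasiCompact h] [QuasiSeparated h] [IsDominant h] [Mono h] :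
    haveI : IsDomain L := hL.isDomain
    ∃ (_ : IsIntegral h.normalization),
      Pi1.IsNormalScheme h.normalization ∧
      Surjective h.fromNormalization ∧
      h.toNormalization (IsLocalRing.closedPoint L) = genericPoint h.normalization ∧
      ∃ hgen : h.fromNormalization.base (genericPoint h.normalization) = genericPoint X,
        Function.Bijective (h.fromNormalization.residueFieldMap
          (genericPoint h.normalization)).hom := by
  haveI : IsDomain L := hL.isDomain
  haveI hInt : IsIntegral h.normalization := inferInstance
  haveI : IsDominant (h.toNormalization ≫ h.fromNormalization) := by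
    rw [Scheme.Hom.toNormalization_fromNormalization]; infer_instance
  haveI : IsDominant h.fromNormalization :=
    IsDominant.of_comp h.toNormalization h.fromNormalization
  have hτ : h.toNormalization (IsLocalRing.closedPoint L) = genericPoint h.normalization := by
    rw [← Groth.Agent.Lib.CurveTopH7.map_genericPoint_of_isDominant h.toNormalization]
    congr 1
    exact Groth.Agent.Lib.NormalizationNormalH7.eq_of_isField_Spec _ hL _ _
  refine ⟨hInt, ?_, ?_, hτ, ?_⟩
  · exact Groth.Agent.Lib.NormalizationNormalH7.isNormalScheme_normalization_of_isField _ hL h
  · constructor
    rw [← Set.range_eq_univ, ← h.fromNormalization.isClosedMap.isClosed_range.closure_eq]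
    exact h.fromNormalization.denseRange.closure_range
  · refine ⟨Groth.Agent.Lib.CurveTopH7.map_genericPoint_of_isDominant h.fromNormalization, ?_⟩
    haveI : Mono (h.toNormalization ≫ h.fromNormalization) := by
      rw [Scheme.Hom.toNormalization_fromNormalization]; infer_instance
    have hbij := Groth.Agent.Lib.MonoValH7.residueFieldMap_bijective_of_mono
      (h.toNormalization ≫ h.fromNormalization) (IsLocalRing.closedPoint L)
    rw [Scheme.residueFieldMap_comp] at hbij
    have key : ∀ z : h.normalization,
        z = h.toNormalization (IsLocalRing.closedPoint L) →
        Function.Bijective (h.fromNormalization.residueFieldMap z).hom := by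
      rintro z rfl
      exact Groth.Agent.Lib.NormalizationNormalH7.bijective_of_comp_bijective _
        (h.toNormalization.residueFieldMap _).hom hbij
    exact key _ hτ.symm

end Groth.Agent.Lib.NormalizationBiratH7
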