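import Mathlib
import Groth.Agent.Lib.NormalizationBirat_helper7
import Groth.Agent.Lib.NormalBirat_helper7

set_option autoImplicit false
universe u
open CategoryTheory CategoryTheory.Limits AlgebraicGeometry

namespace Groth.Agent.Lib.NormalizationBirat2H7

/-- At a point whose local ring is a field the residue map is bijective. -/
theorem residue_bijective_of_isField {X : Scheme.{u}} (x : X)
    (h : IsField (X.presheaf.stalk x)) : Function.Bijective (X.residue x).hom := by
  refine ⟨?_, X.residue_surjective x⟩
  letI := h.toField
  exact RingHom.injective (X.residue x).hom

/-- At points whose local rings are fields, the stalk map is an isomorphism as soon as the residue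
field map is bijective. -/
theorem isIso_stalkMap_of_residueFieldMap_bijective {X' X : Scheme.{u}} (f : X' ⟶ X) (x' : X')
    (h1 : IsField (X'.presheaf.stalk x')) (h2 : IsField (X.presheaf.stalk (f x')))
    (hb : Function.Bijective (f.residueFieldMap x').hom) : IsIso (f.stalkMap x') := by
  rw [ConcreteCategory.isIso_iff_bijective]
  have hr' := residue_bijective_of_isField x' h1
  have hr := residue_bijective_of_isField (f x') h2
  have hcomm : (X'.residue x').hom ∘ (f.stalkMap x').hom =
      (f.residueFieldMap x').hom ∘ (X.residue (f x')).hom := by
    have := Scheme.residue_residueFieldMap f x'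
    ext a
    exact (congrArg (fun m => m.hom a) this).symm
  have h3 : Function.Bijective ((X'.residue x').hom ∘ (f.stalkMap x').hom) := by
    rw [hcomm]; exact hb.comp hr
  exact (Function.Bijective.of_comp_iff' hr' _).mp h3

/-- Birationality of the normalization of an integral scheme: the stalk map at the generic
point is an isomorphism and the generic point is the only point above the generic point. -/
theorem normalization_birational {X : Scheme.{u}} [IsIntegral X] (L : CommRingCat.{u})
    [IsLocalRing L] (hL : IsField L) (h : Spec L ⟶ X) [QuasiCompact h] [QuasiSeparated h]
    [IsDominant h] [Mono h] :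
    haveI : IsDomain L := hL.isDomain
    ∃ (_ : IsIntegral h.normalization),
      Pi1.IsNormalScheme h.normalization ∧
      h.fromNormalization (genericPoint h.normalization) = genericPoint X ∧
      IsIso (h.fromNormalization.stalkMap (genericPoint h.normalization)) ∧
      h.fromNormalization.base ⁻¹' {genericPoint X} = {genericPoint h.normalization} := by
  haveI : IsDomain L := hL.isDomain
  obtain ⟨hInt, hnorm, -, -, hgen, hres⟩ :=
    Groth.Agent.Lib.NormalizationBiratH7.normalization_of_field_mono L hL h
  have hF : ∀ z : X, z = genericPoint X → IsField (X.presheaf.stalk z) := by
    rintro z rfl; exact Field.toIsField X.functionField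
  have hiso : IsIso (h.fromNormalization.stalkMap (genericPoint h.normalization)) :=
    isIso_stalkMap_of_residueFieldMap_bijective h.fromNormalization _
      (Field.toIsField h.normalization.functionField) (hF _ hgen) hres
  refine ⟨hInt, hnorm, hgen, hiso, ?_⟩
  ext x'
  constructor
  · intro hx'
    have hx'' : h.fromNormalization x' = genericPoint X := hx'
    have hic : IsIntegrallyClosed
        (X.presheaf.stalk (h.fromNormalization (genericPoint h.normalization))) := by
      haveI := (hF _ hgen).isDomain
      letI := (hF _ hgen).toField
      infer_instance
    have := Groth.Agent.Lib.NormalBiratH7.eq_of_isIntegrallyClosed h.fromNormalization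
      (genericPoint h.normalization) rfl hgen hiso (genericPoint h.normalization) x' hic
      (hgen.trans hx''.symm)
    exact this.symm
  · intro hx'
    rw [Set.mem_singleton_iff] at hx'
    rw [hx']
    exact hgen

end Groth.Agent.Lib.NormalizationBirat2H7
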