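import Mathlib
import Groth.Agent.Lib.BiratMor2_helper7

/-!
# Birational morphisms are isomorphisms over a dense open of the target (helper7)
-/

set_option autoImplicit false
universe u
open AlgebraicGeometry CategoryTheory

namespace Groth.Agent.Lib.BiratMor3H7

open Groth.Agent.Lib.SchIrredComp2H7 in
/-- For a quasi-compact morphism, a maximal point in the closure of the image of a closed set
lies in the image. -/
theorem exists_mem_of_mem_closure_image {X Y : Scheme.{u}} (f : X ⟶ Y) [QuasiCompact f]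
    (Z : Set X) (hZ : IsClosed Z) (y : Y) (hy : closure {y} ∈ irreducibleComponents ↥Y)
    (hyZ : y ∈ closure (f '' Z)) : ∃ z ∈ Z, f z = y := by
  obtain ⟨_, ⟨W, hW, rfl⟩, hyW, -⟩ :=
    Y.isBasis_affineOpens.exists_subset_of_mem_open (Set.mem_univ y) isOpen_univ
  have hc : IsCompact ((f ⁻¹ᵁ W : X.Opens) : Set X) :=
    QuasiCompact.isCompact_preimage (f := f) _ W.2 hW.isCompact
  obtain ⟨R, g, hg⟩ := isCompact_iff_exists.mp hc
  have hgW : ∀ r, f (g r) ∈ W := fun r => by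
    have : g r ∈ ((f ⁻¹ᵁ W : X.Opens) : Set X) := hg ▸ ⟨r, rfl⟩
    exact this
  have hr : Set.range (g ≫ f) ⊆ Set.range hW.fromSpec := by
    rw [hW.range_fromSpec]; rintro _ ⟨r, rfl⟩; exact hgW r
  obtain ⟨h', hh'⟩ : ∃ h' : Spec R ⟶ Spec Γ(Y, W), h' ≫ hW.fromSpec = g ≫ f :=
    ⟨IsOpenImmersion.lift _ _ hr, IsOpenImmersion.lift_fac _ _ _⟩
  obtain ⟨ψ, hψ⟩ : ∃ ψ : Γ(Y, W) ⟶ R, Spec.map ψ = h' :=
    ⟨Spec.preimage h', Spec.map_preimage h'⟩
  subst hψ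
  obtain ⟨Z', hZ'mem, hZ'⟩ : ∃ Z' : Set (PrimeSpectrum R),
      (∀ r : PrimeSpectrum R, r ∈ Z' ↔ g r ∈ Z) ∧ IsClosed Z' :=
    ⟨g ⁻¹' Z, fun _ => Iff.rfl, hZ.preimage g.continuous⟩
  obtain ⟨I, hIdef⟩ : ∃ I : Ideal R, I = PrimeSpectrum.vanishingIdeal Z' := ⟨_, rfl⟩
  have hI : PrimeSpectrum.zeroLocus (I : Set R) = Z' := by
    rw [hIdef, PrimeSpectrum.zeroLocus_vanishingIdeal_eq_closure, hZ'.closure_eq]
  obtain ⟨p, hpdef⟩ : ∃ p, p = hW.primeIdealOf ⟨y, hyW⟩ := ⟨_, rfl⟩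
  have hp : hW.fromSpec p = y := by rw [hpdef]; exact hW.fromSpec_primeIdealOf ⟨y, hyW⟩
  have hind := hW.fromSpec.isOpenEmbedding.isInducing
  have hpcl : p ∈ closure (PrimeSpectrum.comap ψ.hom '' PrimeSpectrum.zeroLocus (I : Set R)) := by
    rw [hI]
    have key := hind.closure_eq_preimage_closure_image (PrimeSpectrum.comap ψ.hom '' Z')
    refine (Set.ext_iff.mp key p).mpr ?_
    show hW.fromSpec p ∈ closure (hW.fromSpec '' (PrimeSpectrum.comap ψ.hom '' Z'))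
    rw [hp]
    have h1 : y ∈ closure (f '' Z ∩ W) := W.2.closure_inter ⟨hyZ, hyW⟩
    refine closure_mono ?_ h1
    rintro _ ⟨⟨z, hz, rfl⟩, hzW⟩
    obtain ⟨r, rfl⟩ : z ∈ Set.range g := by rw [hg]; exact hzW
    refine ⟨Spec.map ψ r, ⟨r, (hZ'mem r).mpr hz, rfl⟩, ?_⟩
    rw [← Scheme.Hom.comp_apply, hh', Scheme.Hom.comp_apply]
  rw [PrimeSpectrum.closure_image_comap_zeroLocus] at hpcl
  have hmin : p.asIdeal ∈ (I.comap ψ.hom).minimalPrimes := by
    refine ⟨⟨p.isPrime, hpcl⟩, ?_⟩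
    rintro q ⟨hqprime, hqI⟩ hqp
    have hs : (⟨q, hqprime⟩ : PrimeSpectrum _) ⤳ p :=
      (PrimeSpectrum.le_iff_specializes _ _).mp hqp
    have hs' := hs.map hW.fromSpec.continuous
    rw [hp] at hs'
    have := (closure_singleton_mem_irreducibleComponents_iff y).mp hy _ hs'
    rw [← hp, hind.specializes_iff] at this
    exact (PrimeSpectrum.le_iff_specializes _ _).mpr this
  obtain ⟨p', hp'prime, hIp', hp'⟩ :=
    Ideal.exists_comap_eq_of_mem_minimalPrimes ψ.hom p.asIdeal hmin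
  have hmem : (⟨p', hp'prime⟩ : PrimeSpectrum R) ∈ Z' := by rw [← hI]; exact hIp'
  refine ⟨g ⟨p', hp'prime⟩, (hZ'mem _).mp hmem, ?_⟩
  rw [← Scheme.Hom.comp_apply, ← hh', Scheme.Hom.comp_apply]
  have : Spec.map ψ ⟨p', hp'prime⟩ = p := PrimeSpectrum.ext hp'
  rw [this, hp]

theorem isIso_morphismRestrict_of_le {X Y : Scheme.{u}} (f : X ⟶ Y) (U : X.Opens)
    [IsOpenImmersion (U.ι ≫ f)] (V' : Y.Opens) (h1 : f ⁻¹ᵁ V' ≤ U)
    (h2 : V' ≤ (U.ι ≫ f).opensRange) : IsIso (f ∣_ V') := by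
  have e : (f ∣_ V') ≫ V'.ι = X.homOfLE h1 ≫ (U.ι ≫ f) := by
    rw [morphismRestrict_ι, ← Category.assoc, Scheme.homOfLE_ι]
  haveI : IsOpenImmersion ((f ∣_ V') ≫ V'.ι) := by rw [e]; infer_instance
  haveI : IsOpenImmersion (f ∣_ V') := IsOpenImmersion.of_comp _ V'.ι
  have hsurj : Function.Surjective (f ∣_ V') := by
    intro v
    obtain ⟨u, hu⟩ := h2 v.2
    have hu' : f u.1 = v.1 := hu
    refine ⟨⟨u.1, show f u.1 ∈ V' from hu' ▸ v.2⟩, ?_⟩
    apply Subtype.ext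
    rw [morphismRestrict_base_coe]
    exact hu'
  haveI : Epi (f ∣_ V').base := (TopCat.epi_iff_surjective _).mpr hsurj
  exact (isIso_iff_isOpenImmersion_and_epi_base _).mpr ⟨inferInstance, inferInstance⟩

theorem preimage_opensRange_le_of_isSeparated {X Y : Scheme.{u}} (f : X ⟶ Y) [IsSeparated f]
    (U : X.Opens) [IsOpenImmersion (U.ι ≫ f)]
    (hU : ∀ x : X, closure {x} ∈ irreducibleComponents ↥X → x ∈ U) :
    f ⁻¹ᵁ (U.ι ≫ f).opensRange ≤ U := by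
  obtain ⟨s, hsdef⟩ : ∃ s : (U.ι ≫ f).opensRange.toScheme ⟶ X,
      s = (U.ι ≫ f).isoOpensRange.inv ≫ U.ι := ⟨_, rfl⟩
  have hs : s ≫ f = (U.ι ≫ f).opensRange.ι := by
    rw [hsdef, Category.assoc]; exact (U.ι ≫ f).isoOpensRange_inv_comp
  have hsU : ∀ v, s v ∈ U := by
    intro v
    rw [hsdef, Scheme.Hom.comp_apply]
    exact ((U.ι ≫ f).isoOpensRange.inv v).2
  have hsr : Set.range s ⊆ Set.range (f ⁻¹ᵁ (U.ι ≫ f).opensRange).ι := by
    rw [Scheme.Opens.range_ι]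
    rintro _ ⟨v, rfl⟩
    show f (s v) ∈ (U.ι ≫ f).opensRange
    rw [← Scheme.Hom.comp_apply, hs]
    exact v.2
  obtain ⟨s', hs'⟩ : ∃ s' : (U.ι ≫ f).opensRange.toScheme ⟶
      (f ⁻¹ᵁ (U.ι ≫ f).opensRange).toScheme, s' ≫ (f ⁻¹ᵁ (U.ι ≫ f).opensRange).ι = s :=
    ⟨IsOpenImmersion.lift _ s hsr, IsOpenImmersion.lift_fac _ _ _⟩
  have hsec : s' ≫ (f ∣_ (U.ι ≫ f).opensRange) = 𝟙 _ := by
    rw [← cancel_mono (U.ι ≫ f).opensRange.ι, Category.assoc, morphismRestrict_ι,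
      ← Category.assoc, hs', hs, Category.id_comp]
  haveI : IsClosedImmersion (s' ≫ (f ∣_ (U.ι ≫ f).opensRange)) := by rw [hsec]; infer_instance
  haveI : IsClosedImmersion s' := IsClosedImmersion.of_comp s' (f ∣_ (U.ι ≫ f).opensRange)
  have hcl : IsClosed (Set.range s') := s'.isClosedEmbedding.isClosed_range
  have hUr : ∀ (u : X) (hu : u ∈ U), ∃ v, s v = u := by
    intro u hu
    refine ⟨(U.ι ≫ f).isoOpensRange.hom ⟨u, hu⟩, ?_⟩
    rw [hsdef]
    show ((U.ι ≫ f).isoOpensRange.hom ≫ (U.ι ≫ f).isoOpensRange.inv ≫ U.ι) ⟨u, hu⟩ = u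
    rw [Iso.hom_inv_id_assoc]; rfl
  intro z hz
  by_contra hzU
  have hw : (⟨z, hz⟩ : (f ⁻¹ᵁ (U.ι ≫ f).opensRange).toScheme) ∉ Set.range s' := by
    rintro ⟨v, hv⟩
    apply hzU
    have : s v = z := by rw [← hs', Scheme.Hom.comp_apply, hv]; rfl
    rw [← this]
    exact hsU v
  obtain ⟨x'', hx''gen⟩ := QuasiSober.sober
    (irreducibleComponent_mem_irreducibleComponents z).1
    (isClosed_of_mem_irreducibleComponents _ (irreducibleComponent_mem_irreducibleComponents z))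
  have hx''max : closure {x''} ∈ irreducibleComponents ↥X := by
    rw [hx''gen.def]; exact irreducibleComponent_mem_irreducibleComponents z
  have hx''z : x'' ⤳ z := by
    rw [specializes_iff_mem_closure, hx''gen.def]; exact mem_irreducibleComponent
  have hO : IsOpen ((f ⁻¹ᵁ (U.ι ≫ f).opensRange).ι '' (Set.range s')ᶜ) :=
    (f ⁻¹ᵁ (U.ι ≫ f).opensRange).ι.isOpenEmbedding.isOpenMap _ hcl.isOpen_compl
  have hzO : z ∈ (f ⁻¹ᵁ (U.ι ≫ f).opensRange).ι '' (Set.range s')ᶜ := ⟨⟨z, hz⟩, hw, rfl⟩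
  obtain ⟨w'', hw'', hw''x⟩ := hx''z.mem_open hO hzO
  apply hw''
  obtain ⟨v, hv⟩ := hUr x'' (hU x'' hx''max)
  refine ⟨v, ?_⟩
  apply (f ⁻¹ᵁ (U.ι ≫ f).opensRange).ι.isOpenEmbedding.injective
  rw [← Scheme.Hom.comp_apply, hs', hv, hw''x]

/-- Main theorem (S9679-type). -/
theorem exists_dense_isIso_restrict {X Y : Scheme.{u}} (f : X ⟶ Y)
    (hYfin : (irreducibleComponents ↥Y).Finite)
    (hbij : Set.BijOn (fun x : X => f x) {x : X | closure {x} ∈ irreducibleComponents ↥X}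
      {y : Y | closure {y} ∈ irreducibleComponents ↥Y})
    (hiso : ∀ x : X, closure {x} ∈ irreducibleComponents ↥X → IsIso (f.stalkMap x))
    (hf₁ : QuasiCompact f ∨ IsSeparated f)
    (hf₂ : (LocallyOfFiniteType f ∧ IsReduced Y) ∨ LocallyOfFinitePresentation f) :
    ∃ V : Y.Opens, Dense (V : Set ↥Y) ∧ IsIso (f ∣_ V) := by
  obtain ⟨U, hUmax, hUimm⟩ :=
    Groth.Agent.Lib.BiratMor2H7.exists_dense_open_iso f hYfin hbij hiso hf₂
  haveI := hUimm
  have hV₀ : ∀ y : Y, closure {y} ∈ irreducibleComponents ↥Y → y ∈ (U.ι ≫ f).opensRange := by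
    intro y hy
    obtain ⟨x, hx, rfl⟩ := hbij.surjOn hy
    exact ⟨⟨x, hUmax x hx⟩, rfl⟩
  rcases hf₁ with hqc | hsep
  · haveI := hqc
    refine ⟨(U.ι ≫ f).opensRange ⊓
      ⟨(closure (f '' (U : Set X)ᶜ))ᶜ, isClosed_closure.isOpen_compl⟩,
      Groth.Agent.Lib.BiratMor2H7.dense_of_forall_maximal_mem _ ?_,
      isIso_morphismRestrict_of_le f U _ ?_ inf_le_left⟩
    · intro y hy
      refine ⟨hV₀ y hy, ?_⟩
      intro hyC
      obtain ⟨z, hz, hzy⟩ := exists_mem_of_mem_closure_image f _ U.2.isClosed_compl y hy hyC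
      obtain ⟨x, hx, rfl⟩ := hbij.surjOn hy
      haveI := hiso x hx
      have hzx : z = x :=
        Groth.Agent.Lib.BiratMorH7.eq_of_specializes_of_isIso_stalkMap f hbij.injOn
          (fun x hx => hbij.mapsTo hx) x hx z (hzy ▸ specializes_rfl)
      exact hz (hzx ▸ hUmax x hx)
    · intro z hz
      by_contra hzU
      exact hz.2 (subset_closure ⟨z, hzU, rfl⟩)
  · haveI := hsep
    exact ⟨_, Groth.Agent.Lib.BiratMor2H7.dense_of_forall_maximal_mem _ hV₀,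
      isIso_morphismRestrict_of_le f U _ (preimage_opensRange_le_of_isSeparated f U hUmax) le_rfl⟩

end Groth.Agent.Lib.BiratMor3H7
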