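import Mathlib
import Groth.Agent.Lib.SchIrredComp2_helper7

/-!
# Separated local isomorphisms injective on maximal points are open immersions (helper7)
-/

set_option autoImplicit false
universe u
open AlgebraicGeometry CategoryTheory

namespace Groth.Agent.Lib.LocOpenImmH7

theorem isIso_stalkMap_of_isOpenImmersion_ι_comp {X Y : Scheme.{u}} (f : X ⟶ Y) (U : X.Opens)
    [IsOpenImmersion (U.ι ≫ f)] (x : X) (hxU : x ∈ U) : IsIso (f.stalkMap x) := by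
  obtain ⟨u, hu⟩ : ∃ u : U.toScheme, u = ⟨x, hxU⟩ := ⟨_, rfl⟩
  have hu1 : U.ι u = x := by rw [hu]; rfl
  have e2 := Scheme.Hom.stalkMap_comp U.ι f u
  have h3' : IsIso (f.stalkMap (U.ι u)) := by
    have : IsIso (f.stalkMap (U.ι u) ≫ U.ι.stalkMap u) := by
      have h4 : IsIso ((U.ι ≫ f).stalkMap u) := inferInstance
      rw [e2] at h4
      exact h4
    exact IsIso.of_isIso_comp_right _ (U.ι.stalkMap u)
  rw [← hu1]; exact h3'

theorem isOpenImmersion_of_locally {X Y : Scheme.{u}} (f : X ⟶ Y)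
    (hloc : ∀ x : X, ∃ U : X.Opens, x ∈ U ∧ IsOpenImmersion (U.ι ≫ f))
    (hinj : Function.Injective f) : IsOpenImmersion f := by
  have hstalk : ∀ x : X, IsIso (f.stalkMap x) := by
    intro x
    obtain ⟨U, hxU, hU⟩ := hloc x
    exact isIso_stalkMap_of_isOpenImmersion_ι_comp f U x hxU
  have hopen : IsOpenMap f := by
    intro O hO
    rw [isOpen_iff_forall_mem_open]
    rintro _ ⟨x, hxO, rfl⟩
    obtain ⟨U, hxU, hU⟩ := hloc x
    refine ⟨(U.ι ≫ f) '' (U.ι ⁻¹' O), ?_, ?_, ?_⟩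
    · rintro _ ⟨u, hu, rfl⟩
      exact ⟨U.ι u, hu, rfl⟩
    · exact (U.ι ≫ f).isOpenEmbedding.isOpenMap _ (hO.preimage U.ι.continuous)
    · exact ⟨⟨x, hxU⟩, hxO, rfl⟩
  exact IsOpenImmersion.of_isIso_stalkMap f
    (Topology.IsOpenEmbedding.of_continuous_injective_isOpenMap f.continuous hinj hopen)

/-- Two sections of a separated morphism agreeing on an open set agree at every specialization
of a point of that open set. -/
theorem apply_eq_of_specializes {X Y V : Scheme.{u}} (f : X ⟶ Y) [IsSeparated f]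
    (s₁ s₂ : V ⟶ X) (h : s₁ ≫ f = s₂ ≫ f) (N : V.Opens) (hN : N.ι ≫ s₁ = N.ι ≫ s₂)
    (ζ v : V) (hζN : ζ ∈ N) (hζv : ζ ⤳ v) : s₁ v = s₂ v := by
  have hcl : IsClosed (Set.range (Limits.pullback.diagonal f)) :=
    (Limits.pullback.diagonal f).isClosedEmbedding.isClosed_range
  have hd : N.ι ≫ Limits.pullback.lift s₁ s₂ h = (N.ι ≫ s₁) ≫ Limits.pullback.diagonal f := by
    apply Limits.pullback.hom_ext
    · rw [Category.assoc, Limits.pullback.lift_fst, Category.assoc, Limits.pullback.diagonal_fst,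
        Category.comp_id]
    · rw [Category.assoc, Limits.pullback.lift_snd, Category.assoc, Limits.pullback.diagonal_snd,
        Category.comp_id, hN]
  have hζ : Limits.pullback.lift s₁ s₂ h ζ ∈ Set.range (Limits.pullback.diagonal f) := by
    have := congr($hd ⟨ζ, hζN⟩)
    simp only [Scheme.Hom.comp_apply] at this
    exact ⟨_, this.symm⟩
  have hv : Limits.pullback.lift s₁ s₂ h v ∈ Set.range (Limits.pullback.diagonal f) :=
    (hζv.map (Limits.pullback.lift s₁ s₂ h).continuous).mem_closed hcl hζ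
  obtain ⟨z, hz⟩ := hv
  have h1 : z = s₁ v := by
    have := congrArg (Limits.pullback.fst f f) hz
    rw [← Scheme.Hom.comp_apply, ← Scheme.Hom.comp_apply, Limits.pullback.diagonal_fst,
      Limits.pullback.lift_fst] at this
    exact this
  have h2 : z = s₂ v := by
    have := congrArg (Limits.pullback.snd f f) hz
    rw [← Scheme.Hom.comp_apply, ← Scheme.Hom.comp_apply, Limits.pullback.diagonal_snd,
      Limits.pullback.lift_snd] at this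
    exact this
  rw [← h1, ← h2]

open Groth.Agent.Lib.SchIrredComp2H7 in
theorem injective_of_locally {X Y : Scheme.{u}} (f : X ⟶ Y) [IsSeparated f]
    (hloc : ∀ x : X, ∃ U : X.Opens, x ∈ U ∧ IsOpenImmersion (U.ι ≫ f))
    (hinj : ∀ ξ ξ' : X, closure ({ξ} : Set X) ∈ irreducibleComponents ↥X →
      closure ({ξ'} : Set X) ∈ irreducibleComponents ↥X → f ξ = f ξ' → ξ = ξ') :
    Function.Injective f := by
  -- a local section through a given point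
  have hsec : ∀ a : X, ∃ (V : Y.Opens) (s : V.toScheme ⟶ X) (U : X.Opens)
      (_ : IsOpenImmersion (U.ι ≫ f)) (hyV : f a ∈ V), s ≫ f = V.ι ∧ s ⟨f a, hyV⟩ = a ∧
        (∀ v, s v ∈ U) ∧ V = (U.ι ≫ f).opensRange := by
    intro a
    obtain ⟨U, haU, hU⟩ := hloc a
    refine ⟨(U.ι ≫ f).opensRange, (U.ι ≫ f).isoOpensRange.inv ≫ U.ι, U, hU, ⟨⟨a, haU⟩, rfl⟩,
      ?_, ?_, ?_, rfl⟩
    · rw [Category.assoc]; exact (U.ι ≫ f).isoOpensRange_inv_comp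
    · have h1 : (U.ι ≫ f).isoOpensRange.hom ⟨a, haU⟩ = ⟨f a, ⟨⟨a, haU⟩, rfl⟩⟩ := by
        apply Subtype.ext
        have := congr($((U.ι ≫ f).isoOpensRange_hom_ι) ⟨a, haU⟩)
        rw [Scheme.Hom.comp_apply] at this
        exact this
      rw [← h1]
      show ((U.ι ≫ f).isoOpensRange.hom ≫ (U.ι ≫ f).isoOpensRange.inv ≫ U.ι) ⟨a, haU⟩ = a
      rw [Iso.hom_inv_id_assoc]; rfl
    · intro v
      rw [Scheme.Hom.comp_apply]
      exact ((U.ι ≫ f).isoOpensRange.inv v).2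
  intro a b hab
  obtain ⟨Va, sa, Ua, hUa, hyVa, hsaf, hsaa, hsaU, hVa⟩ := hsec a
  obtain ⟨Vb, sb, Ub, hUb, hyVb, hsbf, hsbb, hsbU, hVb⟩ := hsec b
  -- restrict to the intersection
  obtain ⟨s₁, hs₁⟩ : ∃ s₁ : (Va ⊓ Vb).toScheme ⟶ X, s₁ = Y.homOfLE inf_le_left ≫ sa := ⟨_, rfl⟩
  obtain ⟨s₂, hs₂⟩ : ∃ s₂ : (Va ⊓ Vb).toScheme ⟶ X, s₂ = Y.homOfLE inf_le_right ≫ sb := ⟨_, rfl⟩
  have hs₁f : s₁ ≫ f = (Va ⊓ Vb).ι := by rw [hs₁, Category.assoc, hsaf, Scheme.homOfLE_ι]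
  have hs₂f : s₂ ≫ f = (Va ⊓ Vb).ι := by rw [hs₂, Category.assoc, hsbf, Scheme.homOfLE_ι]
  have hyV : f a ∈ Va ⊓ Vb := ⟨hyVa, hab ▸ hyVb⟩
  have hs₁a : s₁ ⟨f a, hyV⟩ = a := by
    rw [hs₁, Scheme.Hom.comp_apply, Scheme.homOfLE_apply']; exact hsaa
  have hs₂b : s₂ ⟨f a, hyV⟩ = b := by
    rw [hs₂, Scheme.Hom.comp_apply, Scheme.homOfLE_apply']
    have : (⟨f a, hab ▸ hyVb⟩ : Vb.toScheme) = ⟨f b, hyVb⟩ := Subtype.ext hab
    rw [this]; exact hsbb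
  have hs₁U : ∀ v, s₁ v ∈ Ua := fun v => by rw [hs₁, Scheme.Hom.comp_apply]; exact hsaU _
  have hs₂U : ∀ v, s₂ v ∈ Ub := fun v => by rw [hs₂, Scheme.Hom.comp_apply]; exact hsbU _
  -- a maximal point of `Va ⊓ Vb` above `f a`
  obtain ⟨y', hy'⟩ : ∃ y' : (Va ⊓ Vb).toScheme, y' = ⟨f a, hyV⟩ := ⟨_, rfl⟩
  obtain ⟨ζ, hζgen⟩ := QuasiSober.sober
    (irreducibleComponent_mem_irreducibleComponents y').1
    (isClosed_of_mem_irreducibleComponents _ (irreducibleComponent_mem_irreducibleComponents y'))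
  have hζmax : closure {ζ} ∈ irreducibleComponents ↥(Va ⊓ Vb).toScheme := by
    rw [hζgen.def]; exact irreducibleComponent_mem_irreducibleComponents y'
  have hζy : ζ ⤳ y' := by
    rw [specializes_iff_mem_closure, hζgen.def]; exact mem_irreducibleComponent
  -- images of `ζ` under sections are maximal points
  have hmax : ∀ (s : (Va ⊓ Vb).toScheme ⟶ X) (U : X.Opens) (_ : IsOpenImmersion (U.ι ≫ f)),
      s ≫ f = (Va ⊓ Vb).ι → (∀ v, s v ∈ U) → closure {s ζ} ∈ irreducibleComponents ↥X := by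
    intro s U hU hsf hsU
    rw [closure_singleton_mem_irreducibleComponents_iff]
    intro z' hz'
    have hz'U : z' ∈ U := hz'.mem_open U.2 (hsU ζ)
    have hfs : f (s ζ) = (Va ⊓ Vb).ι ζ := by rw [← Scheme.Hom.comp_apply, hsf]
    have h1 : f z' ⤳ (Va ⊓ Vb).ι ζ := hfs ▸ hz'.map f.continuous
    have h2 : f z' ∈ Va ⊓ Vb := h1.mem_open (Va ⊓ Vb).2 ζ.2
    obtain ⟨w, hw⟩ : ∃ w : (Va ⊓ Vb).toScheme, w = ⟨f z', h2⟩ := ⟨_, rfl⟩
    have hw1 : (Va ⊓ Vb).ι w = f z' := by rw [hw]; rfl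
    have h3 : w ⤳ ζ := by
      rw [← (Va ⊓ Vb).ι.isOpenEmbedding.isInducing.specializes_iff, hw1]; exact h1
    have h4 : ζ ⤳ w := (closure_singleton_mem_irreducibleComponents_iff ζ).mp hζmax w h3
    have h5 : f (s ζ) ⤳ f z' := by
      rw [hfs, ← hw1]; exact h4.map (Va ⊓ Vb).ι.continuous
    -- transfer along the open embedding `U.ι ≫ f`
    obtain ⟨u₁, hu₁⟩ : ∃ u₁ : U.toScheme, u₁ = ⟨s ζ, hsU ζ⟩ := ⟨_, rfl⟩
    obtain ⟨u₂, hu₂⟩ : ∃ u₂ : U.toScheme, u₂ = ⟨z', hz'U⟩ := ⟨_, rfl⟩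
    have h6 : (U.ι ≫ f) u₁ ⤳ (U.ι ≫ f) u₂ := by
      rw [hu₁, hu₂]; exact h5
    have h7 : u₁ ⤳ u₂ := (U.ι ≫ f).isOpenEmbedding.isInducing.specializes_iff.mp h6
    have h8 := h7.map U.ι.continuous
    rw [hu₁, hu₂] at h8
    exact h8
  have hz : s₁ ζ = s₂ ζ := by
    apply hinj _ _ (hmax s₁ Ua hUa hs₁f hs₁U) (hmax s₂ Ub hUb hs₂f hs₂U)
    rw [← Scheme.Hom.comp_apply, ← Scheme.Hom.comp_apply, hs₁f, hs₂f]
  -- an open neighbourhood of `ζ` on which the sections agree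
  obtain ⟨Uz, hzUz, hUz⟩ := hloc (s₁ ζ)
  have hN : (s₁ ⁻¹ᵁ Uz ⊓ s₂ ⁻¹ᵁ Uz).ι ≫ s₁ = (s₁ ⁻¹ᵁ Uz ⊓ s₂ ⁻¹ᵁ Uz).ι ≫ s₂ := by
    have hr₁ : Set.range ((s₁ ⁻¹ᵁ Uz ⊓ s₂ ⁻¹ᵁ Uz).ι ≫ s₁) ⊆ Set.range Uz.ι := by
      rw [Scheme.Opens.range_ι]; rintro _ ⟨n, rfl⟩; exact n.2.1
    have hr₂ : Set.range ((s₁ ⁻¹ᵁ Uz ⊓ s₂ ⁻¹ᵁ Uz).ι ≫ s₂) ⊆ Set.range Uz.ι := by
      rw [Scheme.Opens.range_ι]; rintro _ ⟨n, rfl⟩; exact n.2.2
    have e₁ := IsOpenImmersion.lift_fac Uz.ι _ hr₁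
    have e₂ := IsOpenImmersion.lift_fac Uz.ι _ hr₂
    have : IsOpenImmersion.lift Uz.ι _ hr₁ = IsOpenImmersion.lift Uz.ι _ hr₂ := by
      rw [← cancel_mono (Uz.ι ≫ f), ← Category.assoc, ← Category.assoc, e₁, e₂, Category.assoc,
        Category.assoc, hs₁f, hs₂f]
    rw [← e₁, ← e₂, this]
  have := apply_eq_of_specializes f s₁ s₂ (hs₁f.trans hs₂f.symm) _ hN ζ y'
    ⟨hzUz, (hz ▸ hzUz : s₂ ζ ∈ Uz)⟩ hζy
  rw [hy', hs₁a, hs₂b] at this
  exact this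

theorem isOpenImmersion_of_separated_locally {X Y : Scheme.{u}} (f : X ⟶ Y) [IsSeparated f]
    (hloc : ∀ x : X, ∃ U : X.Opens, x ∈ U ∧ IsOpenImmersion (U.ι ≫ f))
    (hinj : ∀ ξ ξ' : X, closure ({ξ} : Set X) ∈ irreducibleComponents ↥X →
      closure ({ξ'} : Set X) ∈ irreducibleComponents ↥X → f ξ = f ξ' → ξ = ξ') :
    IsOpenImmersion f :=
  isOpenImmersion_of_locally f hloc (injective_of_locally f hloc hinj)

end Groth.Agent.Lib.LocOpenImmH7
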