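import Mathlib
import Groth.Agent.Lib.NormalBirat_helper7
import Groth.Agent.Lib.LocOpenImm_helper7
import Groth.Agent.Lib.BiratMor3_helper7

set_option autoImplicit false
universe u
open CategoryTheory CategoryTheory.Limits AlgebraicGeometry TopologicalSpace

namespace Groth.Agent.Lib.ProperBiratH7

open Groth.Agent.Lib.NormalBiratH7 Groth.Agent.Lib

/-- A proper birational morphism of integral schemes which is quasi-finite at a point `y` lying
over a normal point restricts to an isomorphism over an open neighbourhood of `f y`. -/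
theorem exists_isIso_morphismRestrict {X Y : Scheme.{u}} [IsIntegral X] [IsIntegral Y]
    (f : Y ⟶ X) [IsProper f] (W : X.Opens) (hW : (W : Set X).Nonempty) (hfW : IsIso (f ∣_ W))
    (y : Y) (hx : IsIntegrallyClosed (X.presheaf.stalk (f y))) (hq : f.QuasiFiniteAt y) :
    ∃ V : X.Opens, f y ∈ V ∧ IsIso (f ∣_ V) := by
  obtain ⟨τ, hτ⟩ : ∃ τ : Y ⟶ f.normalization, τ = f.toNormalization := ⟨_, rfl⟩
  obtain ⟨ν, hν⟩ : ∃ ν : f.normalization ⟶ X, ν = f.fromNormalization := ⟨_, rfl⟩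
  have hτν : τ ≫ ν = f := by rw [hτ, hν]; exact f.toNormalization_fromNormalization
  haveI : IsIntegralHom ν := by rw [hν]; infer_instance
  haveI : IsDominant τ := by rw [hτ]; infer_instance
  haveI : IsIntegral f.normalization := inferInstance
  obtain ⟨U₀, hU₀, e⟩ := f.exists_isIso_morphismRestrict_toNormalization
  rw [← hτ] at hU₀ e
  have hyU₀ : y ∈ τ ⁻¹ᵁ U₀ := by
    have : y ∈ (τ ⁻¹ᵁ U₀).carrier := by
      rw [e]; exact hq
    exact this
  haveI : IsOpenImmersion ((τ ⁻¹ᵁ U₀).ι ≫ τ) := by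
    rw [← morphismRestrict_ι]; infer_instance
  have hξU₀ : genericPoint Y ∈ τ ⁻¹ᵁ U₀ :=
    (genericPoint_specializes y).mem_open (τ ⁻¹ᵁ U₀).2 hyU₀
  have hτstalk : ∀ y' ∈ τ ⁻¹ᵁ U₀, IsIso (τ.stalkMap y') := fun y' hy' =>
    LocOpenImmH7.isIso_stalkMap_of_isOpenImmersion_ι_comp τ (τ ⁻¹ᵁ U₀) y' hy'
  obtain ⟨w, hw⟩ := hW
  have hηW : genericPoint X ∈ W := (genericPoint_specializes w).mem_open W.2 hw
  haveI : IsOpenImmersion ((f ⁻¹ᵁ W).ι ≫ f) := by
    rw [← morphismRestrict_ι]; infer_instance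
  have hfgen : f (genericPoint Y) = genericPoint X := by
    obtain ⟨y', hy'⟩ := (f ∣_ W).surjective ⟨genericPoint X, hηW⟩
    have h1 : f y'.1 = genericPoint X := by
      have := congrArg Subtype.val hy'
      rwa [morphismRestrict_base_coe] at this
    have h2 : f (genericPoint Y) ⤳ f y'.1 := (genericPoint_specializes y'.1).map f.continuous
    rw [h1] at h2
    exact (h2.antisymm (genericPoint_specializes _)).eq
  have hξW : genericPoint Y ∈ f ⁻¹ᵁ W := by
    change f (genericPoint Y) ∈ W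
    rw [hfgen]; exact hηW
  have hfstalk : IsIso (f.stalkMap (genericPoint Y)) :=
    LocOpenImmH7.isIso_stalkMap_of_isOpenImmersion_ι_comp f (f ⁻¹ᵁ W) _ hξW
  have hτgen : τ (genericPoint Y) = genericPoint f.normalization := by
    have h1 : IsGenericPoint (τ (genericPoint Y)) (closure (τ '' Set.univ)) :=
      (genericPoint_spec Y).image τ.continuous
    rw [Set.image_univ, τ.denseRange.closure_range] at h1
    exact h1.eq (genericPoint_spec _)
  have key : ∀ (m : Y ⟶ X) (_ : m = τ ≫ ν) (y' : Y), IsIso (τ.stalkMap y') →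
      (IsIso (m.stalkMap y') ↔ IsIso (ν.stalkMap (τ y'))) := by
    rintro _ rfl y' h1
    rw [Scheme.Hom.stalkMap_comp]
    constructor
    · intro hm
      exact @IsIso.of_isIso_comp_right _ _ _ _ _ (ν.stalkMap (τ y')) (τ.stalkMap y') h1 hm
    · intro hm
      exact @IsIso.comp_isIso _ _ _ _ _ _ _ hm h1
  have hνstalk : IsIso (ν.stalkMap (τ (genericPoint Y))) :=
    (key f hτν.symm _ (hτstalk _ hξU₀)).mp hfstalk
  have hνgen : ν (τ (genericPoint Y)) = genericPoint X := by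
    rw [← Scheme.Hom.comp_apply, hτν]; exact hfgen
  have hνy : ν (τ y) = f y := by rw [← Scheme.Hom.comp_apply, hτν]
  have hx' : IsIntegrallyClosed (X.presheaf.stalk (ν (τ y))) := by rw [hνy]; exact hx
  have hνstalk_y : IsIso (ν.stalkMap (τ y)) :=
    isIso_stalkMap_of_isIntegrallyClosed ν _ hτgen hνgen hνstalk (τ y) hx'
  haveI hfstalk_y : IsIso (f.stalkMap y) := (key f hτν.symm y (hτstalk y hyU₀)).mpr hνstalk_y
  have hfib : ∀ y' : Y, f y' = f y → y' = y := by
    intro y' hy'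
    have h1 : τ y = τ y' := by
      apply eq_of_isIntegrallyClosed ν _ hτgen hνgen hνstalk (τ y) (τ y') hx'
      rw [← Scheme.Hom.comp_apply, ← Scheme.Hom.comp_apply, hτν, hy']
    have hy'U₀ : y' ∈ τ ⁻¹ᵁ U₀ := by
      change τ y' ∈ U₀
      rw [← h1]; exact hyU₀
    have h2 : (⟨y', hy'U₀⟩ : (τ ⁻¹ᵁ U₀).toScheme) = ⟨y, hyU₀⟩ := by
      apply ((τ ⁻¹ᵁ U₀).ι ≫ τ).injective
      rw [Scheme.Hom.comp_apply, Scheme.Hom.comp_apply]
      exact h1.symm
    exact congrArg Subtype.val h2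
  haveI : LocallyOfFiniteType f := inferInstance
  obtain ⟨U, hyU, hU⟩ := BiratMor2H7.exists_local_iso f y
    (BiratMor2H7.hasLocalSection_of_germInj f y)
  haveI := hU
  have hcl : IsClosed (f '' ((U : Set Y)ᶜ)) := f.isClosedMap _ U.2.isClosed_compl
  obtain ⟨C, hC⟩ : ∃ C : X.Opens, (C : Set X) = (f '' ((U : Set Y)ᶜ))ᶜ :=
    ⟨⟨(f '' ((U : Set Y)ᶜ))ᶜ, hcl.isOpen_compl⟩, rfl⟩
  refine ⟨C ⊓ (U.ι ≫ f).opensRange, ⟨?_, ?_⟩, ?_⟩
  · change f y ∈ (C : Set X)
    rw [hC]
    rintro ⟨y', hy'U, hy'⟩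
    exact hy'U (by rw [hfib y' hy']; exact hyU)
  · exact ⟨⟨y, hyU⟩, rfl⟩
  · apply BiratMor3H7.isIso_morphismRestrict_of_le f U
    · intro y' hy'
      by_contra hcon
      have h1 : f y' ∈ (C : Set X) := hy'.1
      rw [hC] at h1
      exact h1 ⟨y', hcon, rfl⟩
    · exact inf_le_right

end Groth.Agent.Lib.ProperBiratH7
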