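import Mathlib
import Groth.Agent.Lib.SpreadIso_helper7

/-!
# Spreading out isomorphisms of local rings of integral schemes (helper7)
-/

set_option autoImplicit false
universe u
open AlgebraicGeometry CategoryTheory

namespace Groth.Agent.Lib.SpreadIsoIntH7

/-- Integral analogue of `S10854`. -/
theorem iso_spread_of_isIntegral {X Y S : Scheme.{u}} (sX : X ⟶ S) (sY : Y ⟶ S)
    [IsIntegral X] [IsIntegral Y] [LocallyOfFiniteType sX] [LocallyOfFiniteType sY]
    {x : X} {y : Y} (e : sX x = sY y)
    (φ : Y.presheaf.stalk y ⟶ X.presheaf.stalk x) [IsIso φ]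
    (h : sY.stalkMap y ≫ φ =
      S.presheaf.stalkSpecializes (Inseparable.of_eq e).specializes ≫ sX.stalkMap x) :
    ∃ (U : X.Opens) (hxU : x ∈ U) (V : Y.Opens) (_ : y ∈ V) (f : U.toScheme ⟶ V.toScheme),
      IsIso f ∧ Spec.map φ ≫ Y.fromSpecStalk y = U.fromSpecStalkOfMem x hxU ≫ f ≫ V.ι ∧
        f ≫ V.ι ≫ sY = U.ι ≫ sX := by
  obtain ⟨U, hxU, f, hf, hfS⟩ := spread_out_of_isGermInjective sX sY e φ h
  have h' : sX.stalkMap x ≫ inv φ =
      S.presheaf.stalkSpecializes (Inseparable.of_eq e.symm).specializes ≫ sY.stalkMap y := by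
    rw [IsIso.comp_inv_eq, Category.assoc, h, ← Category.assoc,
      TopCat.Presheaf.stalkSpecializes_comp, TopCat.Presheaf.stalkSpecializes_refl,
      Category.id_comp]
  obtain ⟨V, hyV, g, hg, hgS⟩ := spread_out_of_isGermInjective sY sX e.symm (inv φ) h'
  exact Groth.Agent.Lib.SpreadIsoH7.iso_of_spread sX sY φ U hxU f hf hfS V hyV g hg hgS
      (Groth.Agent.Lib.SpreadIsoH7.uniqueAt_of_isIntegral sX x)
      (Groth.Agent.Lib.SpreadIsoH7.uniqueAt_of_isIntegral sY y)

theorem isIso_residue_genericPoint (X : Scheme.{u}) [IsIntegral X] :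
    IsIso (X.residue (genericPoint X)) := by
  rw [ConcreteCategory.isIso_iff_bijective]
  refine ⟨?_, X.residue_surjective _⟩
  letI : Field (X.presheaf.stalk (genericPoint X)) := inferInstanceAs (Field X.functionField)
  exact RingHom.injective (X.residue (genericPoint X)).hom

theorem residue_eqToHom {S : Scheme.{u}} {a b : S} (h : a = b) :
    S.residue a ≫ eqToHom (congrArg S.residueField h) =
      eqToHom (congrArg S.presheaf.stalk h) ≫ S.residue b := by
  subst h; simp

end Groth.Agent.Lib.SpreadIsoIntH7
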