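import Mathlib
import Groth.Agent.Lib.NormalBirat_helper7
import Groth.Agent.Lib.BiratStalk_helper7
import Groth.Agent.Lib.SpreadIsoInt_helper7

set_option autoImplicit false
universe u
open CategoryTheory CategoryTheory.Limits AlgebraicGeometry TopologicalSpace

namespace Groth.Agent.Lib.UCRadBiratH7

open Groth.Agent.Lib.NormalBiratH7

/-- The range of an injective ring hom from a ring integrally closed in its fraction field `K` is
integrally closed in `K`. -/
theorem isIntegrallyClosedIn_range {A K : Type*} [CommRing A] [IsDomain A] [Field K] [Algebra A K]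
    [IsFractionRing A K] [IsIntegrallyClosed A] :
    IsIntegrallyClosedIn (algebraMap A K).range K := by
  rw [Subring.isIntegrallyClosedIn_iff]
  intro x hx
  obtain ⟨p, hp, hpx⟩ := hx
  have hlifts : p ∈ Polynomial.lifts (algebraMap A K).rangeRestrict := by
    rw [Polynomial.lifts_iff_coeff_lifts]
    intro n
    obtain ⟨a, ha⟩ := (p.coeff n).2
    exact ⟨a, Subtype.ext ha⟩
  obtain ⟨q, hq, -, hqm⟩ := Polynomial.lifts_and_degree_eq_and_monic hlifts hp
  have hint : IsIntegral A x := by
    refine ⟨q, hqm, ?_⟩
    have h1 : algebraMap A K = ((algebraMap A K).range.subtype).comp (algebraMap A K).rangeRestrict :=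
      rfl
    rw [h1, ← Polynomial.eval₂_map, hq]
    exact hpx
  obtain ⟨a, ha⟩ := (IsIntegrallyClosed.isIntegral_iff (R := A) (K := K)).mp hint
  exact ⟨a, ha⟩

/-- Core valuative argument: for a morphism of integral schemes satisfying the existence part of
the valuative criterion and injective on points, elements of the local ring upstairs come from
the (integrally closed) local ring downstairs, inside the function field. -/
theorem exists_stalkSpecializes_eq {U V : Scheme.{u}} [IsIntegral U] [IsIntegral V]
    (h : U ⟶ V) (hex : ValuativeCriterion.Existence h) (hinj : Function.Injective h)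
    (ξ : U) (v₀ : V) (hv₀ : v₀ = genericPoint V)
    (σ : V.presheaf.stalk v₀ ⟶ U.presheaf.stalk ξ) [IsIso σ]
    (hσ : Spec.map σ ≫ V.fromSpecStalk v₀ = U.fromSpecStalk ξ ≫ h)
    (u : U) (hN : IsIntegrallyClosed (V.presheaf.stalk (h u)))
    (spU : ξ ⤳ u) (spV : v₀ ⤳ h u) (w : U.presheaf.stalk u) :
    ∃ a : V.presheaf.stalk (h u), (V.presheaf.stalkSpecializes spV).hom a =
      (inv σ).hom ((U.presheaf.stalkSpecializes spU).hom w) := by
  subst hv₀
  by_contra hcon
  obtain ⟨k, hk⟩ : ∃ k : V.functionField,
      k = (inv σ).hom ((U.presheaf.stalkSpecializes spU).hom w) := ⟨_, rfl⟩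
  rw [← hk] at hcon
  have halg : ∀ a, algebraMap (V.presheaf.stalk (h u)) V.functionField a =
      (V.presheaf.stalkSpecializes spV).hom a := fun a => rfl
  have hkR : k ∉ (LocalSubring.range
      (algebraMap (V.presheaf.stalk (h u)) V.functionField)).toSubring := by
    rw [LocalSubring.range_toSubring]
    rintro ⟨a, ha⟩
    exact hcon ⟨a, ha⟩
  haveI : IsIntegrallyClosedIn (LocalSubring.range
      (algebraMap (V.presheaf.stalk (h u)) V.functionField)).toSubring V.functionField := by
    rw [LocalSubring.range_toSubring]
    exact isIntegrallyClosedIn_range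
  obtain ⟨O, hRO, hkO⟩ := LocalSubring.exists_le_valuationSubring_of_isIntegrallyClosedIn hkR
  obtain ⟨hle0, hloc⟩ := hRO
  have hmem : ∀ a : V.presheaf.stalk (h u),
      algebraMap (V.presheaf.stalk (h u)) V.functionField a ∈ O := fun a =>
    hle0 (by rw [LocalSubring.range_toSubring]; exact ⟨a, rfl⟩)
  obtain ⟨ρ, hρ⟩ : ∃ ρ : V.presheaf.stalk (h u) →+* O,
      ρ = (algebraMap (V.presheaf.stalk (h u)) V.functionField).codRestrict O hmem := ⟨_, rfl⟩
  have hρval : ∀ a, ((ρ a : O) : V.functionField) =
      (V.presheaf.stalkSpecializes spV).hom a := fun a => by rw [hρ]; rfl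
  haveI hρloc : IsLocalHom ρ := by
    constructor
    intro a ha
    have hx : algebraMap (V.presheaf.stalk (h u)) V.functionField a ∈ (LocalSubring.range
        (algebraMap (V.presheaf.stalk (h u)) V.functionField)).toSubring := by
      rw [LocalSubring.range_toSubring]; exact ⟨a, rfl⟩
    have hu1 : IsUnit (Subring.inclusion hle0 ⟨_, hx⟩) := by
      rw [hρ] at ha
      exact ha
    have hu2 := hloc.map_nonunit _ hu1
    obtain ⟨y, hy⟩ := isUnit_iff_exists_inv.mp hu2
    have hsub : (LocalSubring.range
        (algebraMap (V.presheaf.stalk (h u)) V.functionField)).toSubring ≤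
        (algebraMap (V.presheaf.stalk (h u)) V.functionField).range :=
      le_of_eq (LocalSubring.range_toSubring _)
    obtain ⟨b, hb⟩ := hsub y.2
    have h1 : algebraMap (V.presheaf.stalk (h u)) V.functionField (a * b) = 1 := by
      rw [map_mul, hb]
      exact congrArg Subtype.val hy
    have h2 : a * b = 1 :=
      IsFractionRing.injective (V.presheaf.stalk (h u)) V.functionField (by rw [h1, map_one])
    exact IsUnit.of_mul_eq_one _ h2
  -- the valuative square
  have hsq : (Spec.map (inv σ) ≫ U.fromSpecStalk ξ) ≫ h =
      Spec.map (CommRingCat.ofHom (algebraMap O V.functionField)) ≫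
        (Spec.map (CommRingCat.ofHom ρ) ≫ V.fromSpecStalk (h u)) := by
    have e1 : CommRingCat.ofHom ρ ≫ CommRingCat.ofHom (algebraMap O V.functionField) =
        V.presheaf.stalkSpecializes spV := by
      ext a
      exact hρval a
    rw [Category.assoc, ← hσ, ← Category.assoc, ← Spec.map_comp, IsIso.hom_inv_id, Spec.map_id,
      Category.id_comp, ← Category.assoc, ← Spec.map_comp, e1,
      Scheme.SpecMap_stalkSpecializes_fromSpecStalk]
  let S : ValuativeCommSq h :=
    { R := O
      K := V.functionField
      i₁ := Spec.map (inv σ) ≫ U.fromSpecStalk ξ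
      i₂ := Spec.map (CommRingCat.ofHom ρ) ≫ V.fromSpecStalk (h u)
      commSq := ⟨hsq⟩ }
  obtain ⟨⟨ℓ, hℓ₁, hℓ₂⟩⟩ := (hex S).exists_lift
  change Spec.map (CommRingCat.ofHom (algebraMap O V.functionField)) ≫ ℓ =
    Spec.map (inv σ) ≫ U.fromSpecStalk ξ at hℓ₁
  change ℓ ≫ h = Spec.map (CommRingCat.ofHom ρ) ≫ V.fromSpecStalk (h u) at hℓ₂
  have hcp : ℓ (IsLocalRing.closedPoint O) = u := by
    apply hinj
    rw [← Scheme.Hom.comp_apply, hℓ₂, Scheme.Hom.comp_apply]
    have : Spec.map (CommRingCat.ofHom ρ) (IsLocalRing.closedPoint O) =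
        IsLocalRing.closedPoint (V.presheaf.stalk (h u)) := IsLocalRing.comap_closedPoint ρ
    rw [this, Scheme.fromSpecStalk_closedPoint]
  obtain ⟨θ, hθ⟩ := Groth.Agent.Lib.BiratStalkH7.exists_stalkHom (R := .of O) ℓ u hcp
  have e2 : θ ≫ CommRingCat.ofHom (algebraMap O V.functionField) =
      U.presheaf.stalkSpecializes spU ≫ inv σ := by
    apply Spec.map_injective
    rw [← cancel_mono (U.fromSpecStalk u), Spec.map_comp, Category.assoc, hθ, hℓ₁, Spec.map_comp,
      Category.assoc, Scheme.SpecMap_stalkSpecializes_fromSpecStalk]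
  have e3 : ((θ.hom w : O) : V.functionField) = k := by
    rw [hk]
    exact congrArg (fun m => m.hom w) e2
  exact hkO (e3 ▸ (θ.hom w).2)

/-- A homeomorphism of schemes inducing isomorphisms on all stalks is an isomorphism. -/
theorem isIso_of_isHomeomorph_of_isIso_stalkMap {X Y : Scheme.{u}} (f : X ⟶ Y)
    (hf : IsHomeomorph f) (hstalk : ∀ x : X, IsIso (f.stalkMap x)) : IsIso f := by
  haveI : IsOpenImmersion f := IsOpenImmersion.of_isIso_stalkMap f hf.isOpenEmbedding
  haveI : Surjective f := ⟨hf.surjective⟩
  exact (isIso_iff_isOpenImmersion_and_surjective f).mpr ⟨inferInstance, inferInstance⟩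

/-- A universally closed, universally injective, birational morphism of integral schemes onto a
normal scheme is an isomorphism. -/
theorem isIso_of_universallyClosed_radicial_birational {U V : Scheme.{u}} [IsIntegral U]
    [IsIntegral V] (hN : ∀ v : V, IsIntegrallyClosed (V.presheaf.stalk v)) (h : U ⟶ V)
    [UniversallyClosed h] [UniversallyInjective h] (hgen : h (genericPoint U) = genericPoint V)
    (hbir : Function.Bijective (h.residueFieldMap (genericPoint U)).hom) : IsIso h := by
  have hex : ValuativeCriterion.Existence h := by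
    have h1 : (ValuativeCriterion.Existence ⊓ @QuasiCompact) h :=
      UniversallyClosed.eq_valuativeCriterion ▸ (inferInstance : UniversallyClosed h)
    exact h1.1
  have hinj : Function.Injective h := h.injective
  haveI hσ : IsIso (h.stalkMap (genericPoint U)) := by
    haveI : IsIso (h.residueFieldMap (genericPoint U)) :=
      (ConcreteCategory.isIso_iff_bijective _).mpr hbir
    haveI : IsIso (U.residue (genericPoint U)) :=
      Groth.Agent.Lib.SpreadIsoIntH7.isIso_residue_genericPoint U
    haveI : IsIso (V.residue (h (genericPoint U))) := by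
      have : ∀ v (_ : v = genericPoint V), IsIso (V.residue v) := by
        rintro _ rfl; exact Groth.Agent.Lib.SpreadIsoIntH7.isIso_residue_genericPoint V
      exact this _ hgen
    haveI : IsIso (h.stalkMap (genericPoint U) ≫ U.residue (genericPoint U)) := by
      rw [← Scheme.residue_residueFieldMap]; infer_instance
    exact IsIso.of_isIso_comp_right (h.stalkMap (genericPoint U)) (U.residue (genericPoint U))
  have hstalk : ∀ u : U, IsIso (h.stalkMap u) := by
    intro u
    have spU : genericPoint U ⤳ u := genericPoint_specializes u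
    have spV : h (genericPoint U) ⤳ h u := spU.map h.continuous
    have hσbij : Function.Bijective (h.stalkMap (genericPoint U)).hom :=
      ConcreteCategory.bijective_of_isIso _
    rw [ConcreteCategory.isIso_iff_bijective]
    constructor
    · intro a a' haa'
      apply stalkSpecializes_injective (h (genericPoint U)) (h u) hgen spV
      apply hσbij.1
      have h2 := Scheme.Hom.stalkSpecializes_stalkMap_apply h (genericPoint U) u spU a
      have h2' := Scheme.Hom.stalkSpecializes_stalkMap_apply h (genericPoint U) u spU a'
      exact h2.trans ((congrArg _ haa').trans h2'.symm)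
    · intro w
      obtain ⟨a, ha⟩ := exists_stalkSpecializes_eq h hex hinj (genericPoint U)
        (h (genericPoint U)) hgen (h.stalkMap (genericPoint U))
        (Scheme.SpecMap_stalkMap_fromSpecStalk h) u (hN _) spU spV w
      refine ⟨a, ?_⟩
      apply stalkSpecializes_injective (genericPoint U) u rfl spU
      have h2 := Scheme.Hom.stalkSpecializes_stalkMap_apply h (genericPoint U) u spU a
      refine h2.symm.trans ?_
      have h3 : (h.stalkMap (genericPoint U)).hom
          ((V.presheaf.stalkSpecializes spV).hom a) =
          (U.presheaf.stalkSpecializes spU).hom w := by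
        rw [ha, ← CommRingCat.comp_apply, IsIso.inv_hom_id]; rfl
      exact h3
  have hclosed : IsClosedMap h := h.isClosedMap
  have hsurj : Function.Surjective h := by
    have hr : IsClosed (Set.range h) := hclosed.isClosed_range
    have hmem : genericPoint V ∈ Set.range h := ⟨_, hgen⟩
    intro y
    exact (genericPoint_specializes y).mem_closed hr hmem
  exact isIso_of_isHomeomorph_of_isIso_stalkMap h
    (isHomeomorph_iff_continuous_isClosedMap_bijective.mpr ⟨h.continuous, hclosed, hinj, hsurj⟩)
    hstalk

end Groth.Agent.Lib.UCRadBiratH7
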