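import Mathlib
import Groth.Agent.Lib.ProperBirat_helper7
import Groth.Agent.Lib.UCRadBirat_helper7

/-!
# Proper birational morphisms onto normal schemes II (helper7)

* a proper birational morphism is an isomorphism over a neighbourhood of any point whose
  local ring is a valuation ring (e.g. a normal point of codimension one);
* the union of opens over which `f` is an isomorphism.
-/

set_option autoImplicit false
universe u
open CategoryTheory CategoryTheory.Limits AlgebraicGeometry TopologicalSpace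

namespace Groth.Agent.Lib.ProperBirat2H7

open Groth.Agent.Lib.NormalBiratH7 Groth.Agent.Lib

/-- If `f` restricts to an isomorphism over each `V i`, it does so over their union. -/
theorem isIso_morphismRestrict_iSup {X Y : Scheme.{u}} (f : X ⟶ Y) {ι : Type u}
    (V : ι → Y.Opens) (hV : ∀ i, IsIso (f ∣_ V i)) : IsIso (f ∣_ ⨆ i, V i) := by
  let 𝒰 := Scheme.Opens.iSupOpenCover V
  refine (IsZariskiLocalAtTarget.iff_of_openCover (P := .isomorphisms _) 𝒰).mpr fun x ↦ ?_
  refine (MorphismProperty.arrow_mk_iso_iff (.isomorphisms _)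
    ((morphismRestrictRestrict ..).symm ≪≫ morphismRestrictOpensRange ..)).mp ?_
  have : Scheme.Opens.ι _ ''ᵁ (𝒰.f x).opensRange = V x := by
    simp only [Scheme.Opens.iSupOpenCover, 𝒰, ← Scheme.Hom.opensRange_comp, Scheme.homOfLE_ι,
      Scheme.Opens.opensRange_ι]
  convert! hV x

/-- A Noetherian local normal domain of dimension at most one is a valuation ring. -/
theorem valuationRing_of_ringKrullDim_le_one (R : Type*) [CommRing R] [IsNoetherianRing R]
    [IsLocalRing R] [IsDomain R] [IsIntegrallyClosed R] (h : ringKrullDim R ≤ 1) :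
    ValuationRing R := by
  have h31 := (tfae_of_isNoetherianRing_of_isLocalRing_of_isDomain R).out 3 1
  apply h31.mp
  refine ⟨inferInstance, ?_⟩
  intro P hP hP'
  haveI : Ring.KrullDimLE 1 R := Ring.krullDimLE_iff.mpr h
  exact IsLocalRing.eq_maximalIdeal (Ring.krullDimLE_one_iff_of_noZeroDivisors.mp this P hP hP')

/-- A morphism restricting to an isomorphism over a nonempty open of an integral scheme is
birational: it maps generic point to generic point with an isomorphism on stalks. -/
theorem generic_of_isIso_morphismRestrict {X Y : Scheme.{u}} [IsIntegral X] [IsIntegral Y]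
    (f : Y ⟶ X) (W : X.Opens) (hW : (W : Set X).Nonempty) (hfW : IsIso (f ∣_ W)) :
    f (genericPoint Y) = genericPoint X ∧ IsIso (f.stalkMap (genericPoint Y)) := by
  obtain ⟨w, hw⟩ := hW
  have hηW : genericPoint X ∈ W := (genericPoint_specializes w).mem_open W.2 hw
  haveI : IsOpenImmersion ((f ⁻¹ᵁ W).ι ≫ f) := by
    rw [← morphismRestrict_ι]; infer_instance
  have hfgen : f (genericPoint Y) = genericPoint X := by
    obtain ⟨y', hy'⟩ := (f ∣_ W).surjective ⟨genericPoint X, hηW⟩
    have h1 : f y'.1 = genericPoint X := by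
      have := congrArg Subtype.val hy'
      rwa [morphismRestrict_base_coe] at this
    have h2 : f (genericPoint Y) ⤳ f y'.1 := (genericPoint_specializes y'.1).map f.continuous
    rw [h1] at h2
    exact (h2.antisymm (genericPoint_specializes _)).eq
  have hξW : genericPoint Y ∈ f ⁻¹ᵁ W := by
    change f (genericPoint Y) ∈ W
    rw [hfgen]; exact hηW
  exact ⟨hfgen, LocOpenImmH7.isIso_stalkMap_of_isOpenImmersion_ι_comp f (f ⁻¹ᵁ W) _ hξW⟩

/-- A proper birational morphism of integral schemes which is quasi-finite at a point `y` lying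
over a normal point restricts to an isomorphism over an open neighbourhood of `f y`. -/
theorem exists_isIso_morphismRestrict_of_stalk {X Y : Scheme.{u}} [IsIntegral X] [IsIntegral Y]
    (f : Y ⟶ X) [IsProper f] (hfgen : f (genericPoint Y) = genericPoint X)
    (hfstalk : IsIso (f.stalkMap (genericPoint Y)))
    (y : Y) (hx : IsIntegrallyClosed (X.presheaf.stalk (f y))) (hq : f.QuasiFiniteAt y) :
    ∃ V : X.Opens, f y ∈ V ∧ IsIso (f ∣_ V) := by
  obtain ⟨τ, hτ⟩ : ∃ τ : Y ⟶ f.normalization, τ = f.toNormalization := ⟨_, rfl⟩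
  obtain ⟨ν, hν⟩ : ∃ ν : f.normalization ⟶ X, ν = f.fromNormalization := ⟨_, rfl⟩
  have hτν : τ ≫ ν = f := by rw [hτ, hν]; exact f.toNormalization_fromNormalization
  haveI : IsIntegralHom ν := by rw [hν]; infer_instance
  haveI : IsDominant τ := by rw [hτ]; infer_instance
  haveI : IsIntegral f.normalization := inferInstance
  obtain ⟨U₀, hU₀, e⟩ := f.exists_isIso_morphismRestrict_toNormalization
  rw [← hτ] at hU₀ e
  have hyU₀ : y ∈ τ ⁻¹ᵁ U₀ := by
    have : y ∈ (τ ⁻¹ᵁ U₀).carrier := by
      rw [e]; exact hq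
    exact this
  haveI : IsOpenImmersion ((τ ⁻¹ᵁ U₀).ι ≫ τ) := by
    rw [← morphismRestrict_ι]; infer_instance
  have hξU₀ : genericPoint Y ∈ τ ⁻¹ᵁ U₀ :=
    (genericPoint_specializes y).mem_open (τ ⁻¹ᵁ U₀).2 hyU₀
  have hτstalk : ∀ y' ∈ τ ⁻¹ᵁ U₀, IsIso (τ.stalkMap y') := fun y' hy' =>
    LocOpenImmH7.isIso_stalkMap_of_isOpenImmersion_ι_comp τ (τ ⁻¹ᵁ U₀) y' hy'
  have hτgen : τ (genericPoint Y) = genericPoint f.normalization := by
    have h1 : IsGenericPoint (τ (genericPoint Y)) (closure (τ '' Set.univ)) :=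
      (genericPoint_spec Y).image τ.continuous
    rw [Set.image_univ, τ.denseRange.closure_range] at h1
    exact h1.eq (genericPoint_spec _)
  have key : ∀ (m : Y ⟶ X) (_ : m = τ ≫ ν) (y' : Y), IsIso (τ.stalkMap y') →
      (IsIso (m.stalkMap y') ↔ IsIso (ν.stalkMap (τ y'))) := by
    rintro _ rfl y' h1
    rw [Scheme.Hom.stalkMap_comp]
    constructor
    · intro hm
      exact @IsIso.of_isIso_comp_right _ _ _ _ _ (ν.stalkMap (τ y')) (τ.stalkMap y') h1 hm
    · intro hm
      exact @IsIso.comp_isIso _ _ _ _ _ _ _ hm h1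
  have hνstalk : IsIso (ν.stalkMap (τ (genericPoint Y))) :=
    (key f hτν.symm _ (hτstalk _ hξU₀)).mp hfstalk
  have hνgen : ν (τ (genericPoint Y)) = genericPoint X := by
    rw [← Scheme.Hom.comp_apply, hτν]; exact hfgen
  have hνy : ν (τ y) = f y := by rw [← Scheme.Hom.comp_apply, hτν]
  have hx' : IsIntegrallyClosed (X.presheaf.stalk (ν (τ y))) := by rw [hνy]; exact hx
  have hνstalk_y : IsIso (ν.stalkMap (τ y)) :=
    isIso_stalkMap_of_isIntegrallyClosed ν _ hτgen hνgen hνstalk (τ y) hx'
  haveI hfstalk_y : IsIso (f.stalkMap y) := (key f hτν.symm y (hτstalk y hyU₀)).mpr hνstalk_y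
  have hfib : ∀ y' : Y, f y' = f y → y' = y := by
    intro y' hy'
    have h1 : τ y = τ y' := by
      apply eq_of_isIntegrallyClosed ν _ hτgen hνgen hνstalk (τ y) (τ y') hx'
      rw [← Scheme.Hom.comp_apply, ← Scheme.Hom.comp_apply, hτν, hy']
    have hy'U₀ : y' ∈ τ ⁻¹ᵁ U₀ := by
      change τ y' ∈ U₀
      rw [← h1]; exact hyU₀
    have h2 : (⟨y', hy'U₀⟩ : (τ ⁻¹ᵁ U₀).toScheme) = ⟨y, hyU₀⟩ := by
      apply ((τ ⁻¹ᵁ U₀).ι ≫ τ).injective
      rw [Scheme.Hom.comp_apply, Scheme.Hom.comp_apply]
      exact h1.symm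
    exact congrArg Subtype.val h2
  haveI : LocallyOfFiniteType f := inferInstance
  obtain ⟨U, hyU, hU⟩ := BiratMor2H7.exists_local_iso f y
    (BiratMor2H7.hasLocalSection_of_germInj f y)
  haveI := hU
  have hcl : IsClosed (f '' ((U : Set Y)ᶜ)) := f.isClosedMap _ U.2.isClosed_compl
  obtain ⟨C, hC⟩ : ∃ C : X.Opens, (C : Set X) = (f '' ((U : Set Y)ᶜ))ᶜ :=
    ⟨⟨(f '' ((U : Set Y)ᶜ))ᶜ, hcl.isOpen_compl⟩, rfl⟩
  refine ⟨C ⊓ (U.ι ≫ f).opensRange, ⟨?_, ?_⟩, ?_⟩
  · change f y ∈ (C : Set X)
    rw [hC]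
    rintro ⟨y', hy'U, hy'⟩
    exact hy'U (by rw [hfib y' hy']; exact hyU)
  · exact ⟨⟨y, hyU⟩, rfl⟩
  · apply BiratMor3H7.isIso_morphismRestrict_of_le f U
    · intro y' hy'
      by_contra hcon
      have h1 : f y' ∈ (C : Set X) := hy'.1
      rw [hC] at h1
      exact h1 ⟨y', hcon, rfl⟩
    · exact inf_le_right

/-- Valuative argument: for a birational morphism of integral schemes satisfying the existence part
of the valuative criterion, over a point `v` whose local ring is a valuation ring there is a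
point `u` with `h u = v` at which the stalk map is an isomorphism. -/
theorem exists_isIso_stalkMap_of_valuationRing {U V : Scheme.{u}} [IsIntegral U] [IsIntegral V]
    (h : U ⟶ V) (hex : ValuativeCriterion.Existence h)
    (ξ : U) (hξ : ξ = genericPoint U) (v₀ : V) (hv₀ : v₀ = genericPoint V)
    (σ : V.presheaf.stalk v₀ ⟶ U.presheaf.stalk ξ) [IsIso σ]
    (hσ : Spec.map σ ≫ V.fromSpecStalk v₀ = U.fromSpecStalk ξ ≫ h)
    (v : V) [ValuationRing (V.presheaf.stalk v)] :
    ∃ u : U, h u = v ∧ IsIso (h.stalkMap u) := by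
  subst hv₀
  have key : ∃ ℓ : Spec (V.presheaf.stalk v) ⟶ U,
      Spec.map (V.presheaf.stalkSpecializes (genericPoint_specializes v)) ≫ ℓ =
        Spec.map (inv σ) ≫ U.fromSpecStalk ξ ∧ ℓ ≫ h = V.fromSpecStalk v := by
    have hsq : (Spec.map (inv σ) ≫ U.fromSpecStalk ξ) ≫ h =
        Spec.map (CommRingCat.ofHom (algebraMap (V.presheaf.stalk v) V.functionField)) ≫
          V.fromSpecStalk v := by
      have e1 : CommRingCat.ofHom (algebraMap (V.presheaf.stalk v) V.functionField) =
          V.presheaf.stalkSpecializes (genericPoint_specializes v) := rfl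
      rw [Category.assoc, ← hσ, ← Category.assoc, ← Spec.map_comp, IsIso.hom_inv_id, Spec.map_id,
        Category.id_comp, e1, Scheme.SpecMap_stalkSpecializes_fromSpecStalk]
    haveI : IsDomain (V.presheaf.stalk v) := inferInstance
    obtain ⟨⟨ℓ, hℓ₁, hℓ₂⟩⟩ := (hex (ValuativeCommSq.mk (R := V.presheaf.stalk v)
      (commRing := (V.presheaf.stalk v).commRing)
      (K := V.functionField) (Spec.map (inv σ) ≫ U.fromSpecStalk ξ) (V.fromSpecStalk v)
      ⟨hsq⟩)).exists_lift
    exact ⟨ℓ, hℓ₁, hℓ₂⟩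
  obtain ⟨ℓ, hℓ₁, hℓ₂⟩ := key
  obtain ⟨u, hu⟩ : ∃ u : U, ℓ (IsLocalRing.closedPoint (V.presheaf.stalk v)) = u := ⟨_, rfl⟩
  have hv : h u = v := by
    rw [← hu, ← Scheme.Hom.comp_apply, hℓ₂, Scheme.fromSpecStalk_closedPoint]
  subst hv
  obtain ⟨θ, hθ⟩ := BiratStalkH7.exists_stalkHom ℓ u hu
  have spU : ξ ⤳ u := hξ ▸ genericPoint_specializes u
  have e1 : h.stalkMap u ≫ θ = 𝟙 _ := by
    apply Spec.map_injective
    rw [← cancel_mono (V.fromSpecStalk (h u)), Spec.map_comp, Category.assoc,
      Scheme.SpecMap_stalkMap_fromSpecStalk, ← Category.assoc, hθ, hℓ₂, Spec.map_id,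
      Category.id_comp]
  have e2 : θ ≫ V.presheaf.stalkSpecializes (genericPoint_specializes (h u)) =
      U.presheaf.stalkSpecializes spU ≫ inv σ := by
    apply Spec.map_injective
    rw [← cancel_mono (U.fromSpecStalk u), Spec.map_comp, Category.assoc, hθ, hℓ₁, Spec.map_comp,
      Category.assoc, Scheme.SpecMap_stalkSpecializes_fromSpecStalk]
  have e3 : V.presheaf.stalkSpecializes (genericPoint_specializes (h u)) ≫ σ =
      h.stalkMap u ≫ U.presheaf.stalkSpecializes spU := by
    apply Spec.map_injective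
    rw [← cancel_mono (V.fromSpecStalk (h u)), Spec.map_comp, Category.assoc,
      Scheme.SpecMap_stalkSpecializes_fromSpecStalk, hσ, Spec.map_comp, Category.assoc,
      Scheme.SpecMap_stalkMap_fromSpecStalk, ← Category.assoc,
      Scheme.SpecMap_stalkSpecializes_fromSpecStalk]
  have e4 : θ ≫ h.stalkMap u = 𝟙 _ := by
    have hmono : Function.Injective (U.presheaf.stalkSpecializes spU).hom :=
      stalkSpecializes_injective ξ u hξ spU
    have e5 : (θ ≫ h.stalkMap u) ≫ U.presheaf.stalkSpecializes spU =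
        𝟙 _ ≫ U.presheaf.stalkSpecializes spU := by
      rw [Category.assoc, ← e3, ← Category.assoc, e2, Category.assoc, IsIso.inv_hom_id,
        Category.comp_id, Category.id_comp]
    ext w
    exact hmono (congrArg (fun m => m.hom w) e5)
  exact ⟨u, rfl, ⟨θ, e1, e4⟩⟩

/-- A proper birational morphism of integral schemes restricts to an isomorphism over a
neighbourhood of every point whose local ring is a valuation ring. -/
theorem exists_isIso_morphismRestrict_of_valuationRing {X Y : Scheme.{u}} [IsIntegral X]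
    [IsIntegral Y] (f : Y ⟶ X) [IsProper f] (hfgen : f (genericPoint Y) = genericPoint X)
    (hfstalk : IsIso (f.stalkMap (genericPoint Y)))
    (x : X) [ValuationRing (X.presheaf.stalk x)] :
    ∃ V : X.Opens, x ∈ V ∧ IsIso (f ∣_ V) := by
  have hex : ValuativeCriterion.Existence f := by
    have h1 : (ValuativeCriterion.Existence ⊓ @QuasiCompact) f :=
      UniversallyClosed.eq_valuativeCriterion ▸ (inferInstance : UniversallyClosed f)
    exact h1.1
  obtain ⟨y, hy, hiso⟩ := exists_isIso_stalkMap_of_valuationRing f hex (genericPoint Y) rfl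
    (f (genericPoint Y)) hfgen (f.stalkMap (genericPoint Y))
    (Scheme.SpecMap_stalkMap_fromSpecStalk f) x
  subst hy
  have hq : f.QuasiFiniteAt y :=
    RingHom.QuasiFinite.of_finite (RingHom.Finite.of_surjective _
      (ConcreteCategory.bijective_of_isIso (f.stalkMap y)).2)
  exact exists_isIso_morphismRestrict_of_stalk f hfgen hfstalk y inferInstance hq

end Groth.Agent.Lib.ProperBirat2H7
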