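import Mathlib
import Groth.Agent.Lib.NormalBirat_helper7
import Groth.Agent.Lib.ProperBirat2_helper7

set_option autoImplicit false
universe u
open CategoryTheory CategoryTheory.Limits AlgebraicGeometry

namespace Groth.Agent.Lib.NormalizationChar2H7

/-- An integral birational morphism of integral schemes restricts to an isomorphism over any
nonempty open of the target all of whose local rings are integrally closed. -/
theorem isIso_morphismRestrict_of_normal {X Y : Scheme.{u}} [IsIntegral X] [IsIntegral Y]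
    (f : Y ⟶ X) [IsIntegralHom f] (hgen : f (genericPoint Y) = genericPoint X)
    (hiso : IsIso (f.stalkMap (genericPoint Y))) (V : X.Opens) (hVne : (V : Set X).Nonempty)
    (hV : ∀ x ∈ V, IsIntegrallyClosed (X.presheaf.stalk x)) : IsIso (f ∣_ V) := by
  obtain ⟨v, hv⟩ := hVne
  have hξV : genericPoint X ∈ V := (genericPoint_specializes v).mem_open V.2 hv
  have hηV : genericPoint Y ∈ f ⁻¹ᵁ V := by
    show f (genericPoint Y) ∈ V
    rw [hgen]; exact hξV
  haveI : Nonempty V := ⟨⟨_, hξV⟩⟩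
  haveI : Nonempty (f ⁻¹ᵁ V) := ⟨⟨_, hηV⟩⟩
  haveI : Nonempty V.toScheme := ⟨⟨_, hξV⟩⟩
  haveI : Nonempty (f ⁻¹ᵁ V).toScheme := ⟨⟨_, hηV⟩⟩
  haveI : IsIntegral V.toScheme := inferInstance
  haveI : IsIntegral (f ⁻¹ᵁ V).toScheme := inferInstance
  haveI : IsIntegralHom (f ∣_ V) := IsZariskiLocalAtTarget.restrict ‹IsIntegralHom f› V
  have hN : ∀ w : V.toScheme, IsIntegrallyClosed (V.toScheme.presheaf.stalk w) := fun w => by
    haveI := hV (V.ι w) w.2
    exact IsIntegrallyClosed.of_equiv (asIso (V.ι.stalkMap w)).commRingCatIsoToRingEquiv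
  have hz₀ : (genericPoint (f ⁻¹ᵁ V).toScheme).1 = genericPoint Y :=
    genericPoint_eq_of_isOpenImmersion (f ⁻¹ᵁ V).ι
  have hw₀ : (genericPoint V.toScheme).1 = genericPoint X :=
    genericPoint_eq_of_isOpenImmersion V.ι
  have hgen' : (f ∣_ V) (genericPoint (f ⁻¹ᵁ V).toScheme) = genericPoint V.toScheme := by
    apply Subtype.ext
    rw [morphismRestrict_base_coe, hz₀, hgen, hw₀]
  have hbir : IsIso ((f ∣_ V).stalkMap (genericPoint (f ⁻¹ᵁ V).toScheme)) := by
    have key : ∀ y : Y, y = genericPoint Y → IsIso (f.stalkMap y) := by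
      rintro y rfl; exact hiso
    have h1 : IsIso (f.stalkMap (genericPoint (f ⁻¹ᵁ V).toScheme).1) := key _ hz₀
    exact ((MorphismProperty.isomorphisms CommRingCat).arrow_mk_iso_iff
      (morphismRestrictStalkMap f V (genericPoint (f ⁻¹ᵁ V).toScheme))).mpr h1
  exact Groth.Agent.Lib.NormalBiratH7.isIso_of_isIntegralHom_of_birational hN (f ∣_ V)
    (genericPoint (f ⁻¹ᵁ V).toScheme) rfl hgen' hbir

/-- If `f` restricts to an isomorphism over an open `U` of an integral scheme whose preimage is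
dense, then the source is irreducible. -/
theorem irreducibleSpace_of_isIso_morphismRestrict {X Y : Scheme.{u}} [IsIntegral X] (f : Y ⟶ X)
    (U : X.Opens) (hUne : (U : Set X).Nonempty) (hd : Dense ((f ⁻¹ᵁ U : Y.Opens) : Set Y))
    (hfU : IsIso (f ∣_ U)) : IrreducibleSpace Y := by
  obtain ⟨u, hu⟩ := hUne
  haveI : Nonempty U := ⟨⟨u, hu⟩⟩
  haveI : Nonempty U.toScheme := ⟨⟨u, hu⟩⟩
  haveI : IsIntegral U.toScheme := inferInstance
  obtain ⟨y, hy⟩ := (f ∣_ U).surjective ⟨u, hu⟩
  haveI : Nonempty (f ⁻¹ᵁ U).toScheme := ⟨y⟩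
  haveI : IsIntegral (f ⁻¹ᵁ U).toScheme := isIntegral_of_isOpenImmersion (f ∣_ U)
  have h1 : IsIrreducible ((f ⁻¹ᵁ U : Y.Opens) : Set Y) := by
    have := (IrreducibleSpace.isIrreducible_univ (f ⁻¹ᵁ U).toScheme).image (f ⁻¹ᵁ U).ι
      (f ⁻¹ᵁ U).ι.continuous.continuousOn
    rwa [Set.image_univ, Scheme.Opens.range_ι] at this
  have h2 := h1.closure
  rw [hd.closure_eq] at h2
  exact (irreducibleSpace_def Y).mpr h2

end Groth.Agent.Lib.NormalizationChar2H7
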