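import Mathlib
import Groth.Prelude
import Groth.Agent.Lib.NormJapanese_helper4
import Groth.Agent.Lib.FieldNagata_helper3
import Groth.Agent.Lib.SchFT_helper8
import Groth.Agent.Lib.NormalizationBirat_helper7
import Groth.Agent.Lib.NormalizationBirat2_helper7
import Groth.Agent.Lib.NormalizationChar2_helper7
import Groth.Agent.Lib.OverField_helper7

/-!
# Normalization of an integral scheme locally of finite type over a field (S1585, S4455) — helper4
-/

set_option autoImplicit false
universe u
open CategoryTheory CategoryTheory.Limits AlgebraicGeometry TopologicalSpace Opposite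

namespace Groth.Agent.Lib.NormFieldFTH4

/-- A common denominator for the (finite) integral closure. -/
theorem exists_denominator {A K : Type u} [CommRing A] [IsDomain A] [Field K] [Algebra A K]
    [IsFractionRing A K] (hfin : Module.Finite A (integralClosure A K)) :
    ∃ s : A, s ≠ 0 ∧ ∀ y : K, IsIntegral A y → ∃ a : A, algebraMap A K a = s • y := by
  classical
  obtain ⟨T, hT⟩ := hfin.fg_top
  obtain ⟨b, hb⟩ := IsLocalization.exist_integer_multiples_of_finset (nonZeroDivisors A)
    (T.image (fun t : integralClosure A K => (t : K)))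
  refine ⟨(b : A), nonZeroDivisors.ne_zero b.2, fun y hy => ?_⟩
  have hmem : (⟨y, hy⟩ : integralClosure A K) ∈
      Submodule.span A (T : Set (integralClosure A K)) := by
    rw [hT]; exact Submodule.mem_top
  have key : ∀ z : integralClosure A K, z ∈ Submodule.span A (T : Set (integralClosure A K)) →
      ∃ a : A, algebraMap A K a = (b : A) • (z : K) := by
    intro z hz
    refine Submodule.span_induction
      (p := fun (z : integralClosure A K)
        (_ : z ∈ Submodule.span A (T : Set (integralClosure A K))) =>
          ∃ a : A, algebraMap A K a = (b : A) • (z : K))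
      (fun x hx => ?_) ?_ (fun x y _ _ hx hy => ?_) (fun c x _ hx => ?_) hz
    · exact RingHom.mem_rangeS.mp (hb (x : K) (Finset.mem_image_of_mem _ hx))
    · refine ⟨0, ?_⟩
      show algebraMap A K 0 = (b : A) • (0 : K)
      rw [map_zero, smul_zero]
    · obtain ⟨a, ha⟩ := hx
      obtain ⟨a', ha'⟩ := hy
      refine ⟨a + a', ?_⟩
      show algebraMap A K (a + a') = (b : A) • ((x : K) + (y : K))
      rw [map_add, ha, ha', smul_add]
    · obtain ⟨a, ha⟩ := hx
      refine ⟨c * a, ?_⟩
      show algebraMap A K (c * a) = (b : A) • (c • (x : K))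
      rw [map_mul, ha]
      simp only [Algebra.smul_def]
      ring
  exact key ⟨y, hy⟩ hmem

/-- Localizations away from the common denominator are integrally closed. -/
theorem isIntegrallyClosed_of_denominator {A K : Type u} [CommRing A] [IsDomain A] [Field K]
    [Algebra A K] [IsFractionRing A K] (s : A)
    (hs : ∀ y : K, IsIntegral A y → ∃ a : A, algebraMap A K a = s • y)
    (p : Ideal A) [p.IsPrime] (hsp : s ∉ p)
    (R : Type u) [CommRing R] [Algebra A R] [Algebra R K] [IsScalarTower A R K]
    [IsLocalization.AtPrime R p] [IsFractionRing R K] : IsIntegrallyClosed R := by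
  refine (isIntegrallyClosed_iff K).mpr (fun {t} ht => ?_)
  obtain ⟨m, hm⟩ := IsIntegral.exists_multiple_integral_of_isLocalization p.primeCompl t ht
  obtain ⟨a, ha⟩ := hs ((m : A) • t) hm
  have hsm : s * (m : A) ∈ p.primeCompl := p.primeCompl.mul_mem hsp m.2
  have hunit : IsUnit (algebraMap A R (s * (m : A))) :=
    IsLocalization.map_units R (⟨s * (m : A), hsm⟩ : p.primeCompl)
  have hc : IsUnit (algebraMap R K (algebraMap A R (s * (m : A)))) := hunit.map (algebraMap R K)
  obtain ⟨u, hu⟩ := hunit
  refine ⟨↑u⁻¹ * algebraMap A R a, ?_⟩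
  refine hc.mul_left_cancel ?_
  have h1 : algebraMap A R (s * (m : A)) * (↑u⁻¹ * algebraMap A R a) = algebraMap A R a := by
    rw [← hu]; exact Units.mul_inv_cancel_left u _
  have h2 : algebraMap R K (algebraMap A R a) =
      algebraMap R K (algebraMap A R (s * (m : A))) * t := by
    rw [← IsScalarTower.algebraMap_apply A R K, ← IsScalarTower.algebraMap_apply A R K, ha, map_mul,
      Algebra.smul_def, Algebra.smul_def, mul_assoc]
  calc algebraMap R K (algebraMap A R (s * (m : A))) * algebraMap R K (↑u⁻¹ * algebraMap A R a)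
      = algebraMap R K (algebraMap A R (s * (m : A)) * (↑u⁻¹ * algebraMap A R a)) :=
        (map_mul _ _ _).symm
    _ = algebraMap R K (algebraMap A R a) := by rw [h1]
    _ = _ := h2

/-- On an integral scheme with a Japanese affine open, there is a nonempty open where all stalks
are integrally closed. -/
theorem exists_open_normal (X : Scheme.{u}) [IsIntegral X] (U : X.Opens) (hU : IsAffineOpen U)
    (hne : Nonempty ((U : X.Opens) : Scheme.{u}))
    (hN2 : @CAlg.IsN2 Γ(X, U) _ (@IsIntegral.component_integral X _ U hne)) :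
    ∃ V : X.Opens, (V : Set X).Nonempty ∧ ∀ x ∈ V, IsIntegrallyClosed (X.presheaf.stalk x) := by
  haveI hne' : Nonempty ((U : X.Opens) : Scheme.{u}) := hne
  letI : IsDomain Γ(X, U) := @IsIntegral.component_integral X _ U hne
  haveI hfr : IsFractionRing Γ(X, U) X.functionField :=
    functionField_isFractionRing_of_isAffineOpen X U hU
  haveI hfin0 : Module.Finite Γ(X, U) (integralClosure Γ(X, U) (FractionRing Γ(X, U))) :=
    hN2 (FractionRing Γ(X, U)) inferInstance
  have hfin : Module.Finite Γ(X, U) (integralClosure Γ(X, U) X.functionField) :=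
    Module.Finite.equiv
      (FractionRing.algEquiv Γ(X, U) X.functionField).mapIntegralClosure.toLinearEquiv
  obtain ⟨s, hs0, hs⟩ := exists_denominator (A := Γ(X, U)) (K := X.functionField) hfin
  have hηU : genericPoint X ∈ U :=
    (genericPoint_specializes hne.some.1).mem_open U.2 hne.some.2
  refine ⟨X.basicOpen s, ⟨genericPoint X, ?_⟩, fun x hx => ?_⟩
  · show genericPoint X ∈ X.basicOpen s
    rw [X.mem_basicOpen s (genericPoint X) hηU]
    have hinj := germ_injective_of_isIntegral X (genericPoint X) hηU
    have hne0 : X.presheaf.germ U (genericPoint X) hηU s ≠ 0 :=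
      fun h0 => hs0 (hinj (h0.trans (map_zero _).symm))
    exact (isUnit_iff_ne_zero (G₀ := X.functionField)).mpr hne0
  · have hxU : x ∈ U := X.basicOpen_le s hx
    letI algS : Algebra Γ(X, U) (X.presheaf.stalk x) :=
      TopCat.Presheaf.algebra_section_stalk X.presheaf ⟨x, hxU⟩
    haveI hloc : IsLocalization.AtPrime (X.presheaf.stalk x)
        (hU.primeIdealOf ⟨x, hxU⟩).asIdeal := hU.isLocalization_stalk ⟨x, hxU⟩
    haveI hst : IsScalarTower Γ(X, U) (X.presheaf.stalk x) X.functionField :=
      functionField_isScalarTower X U ⟨x, hxU⟩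
    have hsp : s ∉ (hU.primeIdealOf ⟨x, hxU⟩).asIdeal := by
      have hu : IsUnit (X.presheaf.germ U x hxU s) := (X.mem_basicOpen s x hxU).mp hx
      exact (IsLocalization.AtPrime.isUnit_to_map_iff (X.presheaf.stalk x)
        (hU.primeIdealOf ⟨x, hxU⟩).asIdeal s).mp hu
    exact isIntegrallyClosed_of_denominator s hs (hU.primeIdealOf ⟨x, hxU⟩).asIdeal hsp
      (X.presheaf.stalk x)

section field

theorem isN2_sections (k : Type u) [Field k] (X : Scheme.{u}) [X.Over (Spec (CommRingCat.of k))]
    [IsIntegral X] [LocallyOfFiniteType (X ↘ (Spec (CommRingCat.of k)))] (U : X.Opens) (hU : IsAffineOpen U)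
    (hne : Nonempty ((U : X.Opens) : Scheme.{u})) :
    @CAlg.IsN2 Γ(X, U) _ (@IsIntegral.component_integral X _ U hne) := by
  letI : IsDomain Γ(X, U) := @IsIntegral.component_integral X _ U hne
  letI : Algebra k Γ(X, U) := Groth.Agent.SchFTH8.secAlgebra k X U
  haveI : Algebra.FiniteType k Γ(X, U) := Groth.Agent.SchFTH8.finiteType_sec k X U hU
  exact Groth.Agent.Lib.FieldNagataH3.isN2_of_finiteType_field k Γ(X, U)

theorem isFinite_normalizationι (k : Type u) [Field k] (X : Scheme.{u})
    [X.Over (Spec (CommRingCat.of k))]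
    [IsIntegral X] [LocallyOfFiniteType (X ↘ (Spec (CommRingCat.of k)))]
    [QuasiCompact (X.fromSpecStalk (genericPoint X))]
    [QuasiSeparated (X.fromSpecStalk (genericPoint X))] : IsFinite (Curv2.normalizationι X) :=
  Groth.Agent.Lib.NormJapaneseH4.main9688 X (fun U hU hne => isN2_sections k X U hU hne)

theorem main1585 (k : Type u) [Field k] (X : Scheme.{u})
    [X.Over (Spec (CommRingCat.of k))]
    [IsIntegral X] [LocallyOfFiniteType (X ↘ (Spec (CommRingCat.of k)))]
    [QuasiCompact (X.fromSpecStalk (genericPoint X))]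
    [QuasiSeparated (X.fromSpecStalk (genericPoint X))] :
    IsFinite (Curv2.normalizationι X) ∧ IsDominant (Curv2.normalizationι X) ∧
      (∃ V : X.Opens, (V : Set X).Nonempty ∧ IsIso (Curv2.normalizationι X ∣_ V)) ∧
      IsIntegral (Curv2.normalization X) ∧ Pi1.IsNormalScheme (Curv2.normalization X) := by
  haveI : IsDominant (X.fromSpecStalk (genericPoint X)) :=
    Groth.Agent.Lib.OverFieldH7.isDominant_fromSpecStalk_genericPoint X
  have hL : IsField (X.presheaf.stalk (genericPoint X)) := Field.toIsField X.functionField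
  obtain ⟨hInt, hnorm, hgen, hiso, -⟩ :=
    Groth.Agent.Lib.NormalizationBirat2H7.normalization_birational
      (X.presheaf.stalk (genericPoint X)) hL (X.fromSpecStalk (genericPoint X))
  obtain ⟨-, -, hsurj, -⟩ := Groth.Agent.Lib.NormalizationBiratH7.normalization_of_field_mono
    (X.presheaf.stalk (genericPoint X)) hL (X.fromSpecStalk (genericPoint X))
  haveI := hInt
  haveI := hsurj
  have hfin : IsFinite (X.fromSpecStalk (genericPoint X)).fromNormalization :=
    isFinite_normalizationι k X
  haveI := hfin
  have hdom : IsDominant (X.fromSpecStalk (genericPoint X)).fromNormalization := inferInstance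
  obtain ⟨U, hU, hηU, -⟩ :=
    exists_isAffineOpen_mem_and_subset (X := X) (x := genericPoint X) (U := ⊤) trivial
  have hne : Nonempty ((U : X.Opens) : Scheme.{u}) := ⟨⟨genericPoint X, hηU⟩⟩
  obtain ⟨V, hVne, hV⟩ := exists_open_normal X U hU hne (isN2_sections k X U hU hne)
  have hVI : IsIso ((X.fromSpecStalk (genericPoint X)).fromNormalization ∣_ V) :=
    Groth.Agent.Lib.NormalizationChar2H7.isIso_morphismRestrict_of_normal
      (X.fromSpecStalk (genericPoint X)).fromNormalization hgen hiso V hVne hV
  exact ⟨hfin, hdom, ⟨V, hVne, hVI⟩, hInt, hnorm⟩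

theorem main4455 (k : Type u) [Field k] (X : Scheme.{u})
    [X.Over (Spec (CommRingCat.of k))]
    [IsIntegral X] [LocallyOfFiniteType (X ↘ (Spec (CommRingCat.of k)))]
    [QuasiCompact (X.fromSpecStalk (genericPoint X))]
    [QuasiSeparated (X.fromSpecStalk (genericPoint X))]
    [QuasiCompact (X ↘ (Spec (CommRingCat.of k)))]
    [IsSeparated (X ↘ (Spec (CommRingCat.of k)))] :
    IsProper (X ↘ (Spec (CommRingCat.of k))) ↔
      IsProper (Curv2.normalizationι X ≫ (X ↘ (Spec (CommRingCat.of k)))) := by
  haveI : IsDominant (X.fromSpecStalk (genericPoint X)) :=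
    Groth.Agent.Lib.OverFieldH7.isDominant_fromSpecStalk_genericPoint X
  have hL : IsField (X.presheaf.stalk (genericPoint X)) := Field.toIsField X.functionField
  obtain ⟨-, -, hsurj, -⟩ := Groth.Agent.Lib.NormalizationBiratH7.normalization_of_field_mono
    (X.presheaf.stalk (genericPoint X)) hL (X.fromSpecStalk (genericPoint X))
  haveI hfin : IsFinite (Curv2.normalizationι X) := isFinite_normalizationι k X
  haveI hsurj' : Surjective (Curv2.normalizationι X) := hsurj
  constructor
  · intro h
    haveI := h
    infer_instance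
  · intro h
    haveI := h
    haveI : UniversallyClosed (X ↘ (Spec (CommRingCat.of k))) :=
      UniversallyClosed.of_comp_surjective (Curv2.normalizationι X)
        (X ↘ (Spec (CommRingCat.of k)))
    exact (isProper_iff _).mpr ⟨inferInstance, inferInstance, inferInstance⟩

end field

end Groth.Agent.Lib.NormFieldFTH4
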