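import Mathlib

/-!
# `dim_k A/𝔪ⁿ = n` at a rational point whose local ring is a discrete valuation ring (helper9)

APPEND-ONLY once landed.
-/

set_option autoImplicit false
universe u

namespace QuotSec

open IsLocalRing

section Alg

/-- the dimension of a vector space is the natural number underlying its length -/
theorem finrank_eq_toNat_length (k M : Type u) [Field k] [AddCommGroup M] [Module k M] :
    Module.finrank k M = (Module.length k M).toNat := by
  rw [Module.length_eq_rank, Module.finrank, Cardinal.toNat_toENat]

variable {k R : Type u} [Field k] [CommRing R] [IsDomain R] [IsDiscreteValuationRing R]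
  [Algebra k R]

instance isLocalHom_algebraMap_field : IsLocalHom (algebraMap k R) := by
  refine ⟨fun c hc => ?_⟩
  have hc0 : c ≠ 0 := by
    rintro rfl
    rw [map_zero] at hc
    exact not_isUnit_zero hc
  exact IsUnit.mk0 c hc0

/-- for a discrete valuation ring `R` over `k` with residue field `k`: `dim_k R/mⁿ = n` -/
theorem finrank_quot_pow_maximalIdeal
    (hk : Function.Surjective ((residue R).comp (algebraMap k R))) (n : ℕ) :
    Module.finrank k (R ⧸ maximalIdeal R ^ n) = n := by
  rw [finrank_eq_toNat_length]
  have h1 := IsLocalRing.length_restrictScalars k R (R ⧸ maximalIdeal R ^ n)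
  rw [IsDiscreteValuationRing.length_quotient_pow_maximalIdeal] at h1
  have h2 : Module.length (ResidueField k) (ResidueField R) = 1 := by
    apply le_antisymm
    · have hs : Function.Surjective (Algebra.linearMap (ResidueField k) (ResidueField R)) := by
        intro y
        obtain ⟨r, rfl⟩ := residue_surjective y
        obtain ⟨c, hc⟩ := hk (residue R r)
        refine ⟨residue k c, ?_⟩
        rw [← hc]
        rfl
      have h3 := Module.length_le_of_surjective _ hs
      have h4 : Module.length (ResidueField k) (ResidueField k) = 1 := by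
        rw [Module.length_eq_finrank, Module.finrank_self]
        rfl
      rwa [h4] at h3
    · have : 0 < Module.length (ResidueField k) (ResidueField R) := Module.length_pos
      exact Order.one_le_iff_pos.mpr this
  rw [h1, h2, mul_one]
  rfl

end Alg

section Loc

/-- `dim_k A/𝔪ⁿ = n` when `A_𝔪` is a discrete valuation ring and `A/𝔪 = k` -/
theorem finrank_quot_pow {k A : Type u} (R : Type u) [Field k] [CommRing A] [Algebra k A]
    (𝔪 : Ideal A) [𝔪.IsMaximal]
    [CommRing R] [IsDomain R] [IsDiscreteValuationRing R] [Algebra A R]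
    [IsLocalization.AtPrime R 𝔪]
    (hk : Function.Surjective (algebraMap k (A ⧸ 𝔪))) (n : ℕ) :
    Module.finrank k (A ⧸ 𝔪 ^ n) = n := by
  letI : Algebra k R := ((algebraMap A R).comp (algebraMap k A)).toAlgebra
  haveI : IsScalarTower k A R := IsScalarTower.of_algebraMap_eq (fun _ => rfl)
  let e := IsLocalization.AtPrime.equivQuotMaximalIdealPow 𝔪 R n
  let e' : (A ⧸ 𝔪 ^ n) ≃ₗ[k] (R ⧸ maximalIdeal R ^ n) := e.toLinearEquiv.restrictScalars k
  rw [e'.finrank_eq]
  apply finrank_quot_pow_maximalIdeal
  intro y
  obtain ⟨c, hc⟩ := hk ((IsLocalization.AtPrime.equivQuotMaximalIdeal 𝔪 R).symm y)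
  refine ⟨c, ?_⟩
  have h1 := congrArg (IsLocalization.AtPrime.equivQuotMaximalIdeal 𝔪 R) hc
  rw [RingEquiv.apply_symm_apply] at h1
  rw [← h1]
  rfl

end Loc

end QuotSec
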