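import Mathlib
import Groth.Prelude
import Groth.Agent.Lib.QuotSec1_helper9
import Groth.Agent.Lib.QuotSec2_helper9
import Groth.Agent.Lib.CurvePtInv1_helper9

/-!
# `dim_k H⁰(O_X / I_pⁿ) = n` at a rational regular point of an integral curve (helper9)

APPEND-ONLY once landed.
-/

set_option autoImplicit false
universe u
open CategoryTheory CategoryTheory.Limits AlgebraicGeometry Opposite TopologicalSpace

namespace QuotSec

open QcqsLoc QCohExtn FLFH8

section DVR

/-- a regular local domain of dimension one is a discrete valuation ring -/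
theorem isDiscreteValuationRing_of_regular (R : Type u) [CommRing R] [IsDomain R]
    [IsRegularLocalRing R] (hd : ringKrullDim R = 1) : IsDiscreteValuationRing R := by
  have h1 := (IsRegularLocalRing.iff_finrank_cotangentSpace R).mp inferInstance
  rw [hd] at h1
  have h2 : Module.finrank (IsLocalRing.ResidueField R) (IsLocalRing.CotangentSpace R) ≤ 1 := by
    have h3 : ((Module.finrank (IsLocalRing.ResidueField R) (IsLocalRing.CotangentSpace R) : ℕ) :
        WithBot ℕ∞) ≤ ((1 : ℕ) : WithBot ℕ∞) := by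
      rw [h1]
      rfl
    exact_mod_cast h3
  haveI : IsPrincipalIdealRing R :=
    ((tfae_of_isNoetherianRing_of_isLocalRing_of_isDomain R).out 0 5).mpr h2
  refine { not_a_field' := ?_ }
  intro hbot
  have hf : IsField R := IsLocalRing.isField_iff_maximalIdeal_eq.mpr hbot
  have h0 := ringKrullDim_eq_zero_of_isField hf
  rw [hd] at h0
  exact absurd h0 (by decide)

end DVR

section Main

variable (k : Type u) [Field k] {X : Scheme.{u}} [X.Over (Spec (CommRingCat.of k))]
  [IsIntegral X] [IsLocallyNoetherian X]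

/-- the ideal of a closed point in an affine open neighbourhood -/
theorem vanishingIdeal_point_ideal {p : X} (hp : IsClosed ({p} : Set X)) (U : X.affineOpens)
    (hpU : p ∈ U.1) :
    (Scheme.IdealSheafData.vanishingIdeal ⟨{p}, hp⟩).ideal U =
      (U.2.primeIdealOf ⟨p, hpU⟩).asIdeal := by
  rw [Scheme.IdealSheafData.vanishingIdeal_ideal]
  refine Eq.trans (congrArg PrimeSpectrum.vanishingIdeal ?_)
    (PrimeSpectrum.vanishingIdeal_singleton _)
  ext y
  constructor
  · intro hy
    have hy' : U.2.fromSpec y = p := hy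
    apply U.2.fromSpec.isOpenEmbedding.injective
    rw [hy', U.2.fromSpec_primeIdealOf ⟨p, hpU⟩]
  · intro hy
    have hy' : y = U.2.primeIdealOf ⟨p, hpU⟩ := hy
    rw [hy']
    exact U.2.fromSpec_primeIdealOf ⟨p, hpU⟩

theorem finrank_HH0_quotMod_pow (hdim : topologicalKrullDim X = 1) {p : X}
    (hp : IsClosed ({p} : Set X)) (hreg : IsRegularLocalRing (X.presheaf.stalk p))
    (hrat : Function.Surjective (Curv2.resMap k X p)) (n : ℕ) :
    Module.finrank k (Coh.HH X
      (ClSub.quotMod ((Scheme.IdealSheafData.vanishingIdeal ⟨{p}, hp⟩) ^ n)) 0) = n := by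
  obtain ⟨_, ⟨U₀, hU₀, rfl⟩, hpU, -⟩ :=
    X.isBasis_affineOpens.exists_subset_of_mem_open (Set.mem_univ p) isOpen_univ
  let U : X.affineOpens := ⟨U₀, hU₀⟩
  set 𝓘 := Scheme.IdealSheafData.vanishingIdeal ⟨{p}, hp⟩ with h𝓘
  set 𝔪 := (U.2.primeIdealOf ⟨p, hpU⟩).asIdeal with h𝔪
  haveI hmax : 𝔪.IsMaximal := U.2.primeIdealOf_isMaximal_of_isClosed ⟨p, hpU⟩ hp
  have hideal : (𝓘 ^ n).ideal U = 𝔪 ^ n := by
    show (𝓘.ideal U) ^ n = 𝔪 ^ n
    rw [h𝓘, vanishingIdeal_point_ideal hp U hpU]
  have hsupp : ((𝓘 ^ n).support : Set X) ⊆ (U : Set X) := by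
    cases n with
    | zero =>
      intro x hx
      have h1 : (𝓘 ^ 0).support = ⊥ := by
        rw [pow_zero, Scheme.IdealSheafData.one_eq_top, Scheme.IdealSheafData.support_top]
      rw [h1] at hx
      exact absurd hx (Set.notMem_empty x)
    | succ m =>
      rw [Scheme.IdealSheafData.support_pow_succ, h𝓘,
        Scheme.IdealSheafData.coe_support_vanishingIdeal]
      intro x hx
      have : x = p := hx
      rw [this]
      exact hpU
  have hQ := finrank_HH0_quotMod k (𝓘 ^ n) U hsupp (𝔪 ^ n) hideal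
  rw [hQ]
  letI := algU k U
  letI : Algebra Γ(X, U₀) (X.presheaf.stalk p) :=
    TopCat.Presheaf.algebra_section_stalk X.presheaf ⟨p, hpU⟩
  haveI : IsLocalization.AtPrime (X.presheaf.stalk p) 𝔪 := U.2.isLocalization_stalk ⟨p, hpU⟩
  haveI := hreg
  haveI : IsDiscreteValuationRing (X.presheaf.stalk p) :=
    isDiscreteValuationRing_of_regular _ (CurvePtInv.ringKrullDim_stalk_of_closed hdim hp)
  refine finrank_quot_pow (X.presheaf.stalk p) 𝔪 ?_ n
  -- the residue field at `p` is `k`
  intro y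
  obtain ⟨a, rfl⟩ := Ideal.Quotient.mk_surjective y
  obtain ⟨c, hc⟩ := hrat ((X.residue p).hom ((X.presheaf.germ U₀ p hpU).hom a))
  refine ⟨c, ?_⟩
  show Ideal.Quotient.mk 𝔪 (strU k X U₀ c) = Ideal.Quotient.mk 𝔪 a
  rw [Ideal.Quotient.eq]
  have hm : 𝔪 = (IsLocalRing.maximalIdeal (X.presheaf.stalk p)).comap
      (X.presheaf.germ U₀ p hpU).hom := by
    rw [h𝔪, U.2.primeIdealOf_eq_map_closedPoint ⟨p, hpU⟩]
    rfl
  rw [hm, Ideal.mem_comap, map_sub, ← IsLocalRing.residue_eq_zero_iff, map_sub, sub_eq_zero]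
  refine Eq.trans ?_ hc
  -- both sides are the image of `c` in the residue field
  show (X.residue p).hom ((X.presheaf.germ U₀ p hpU).hom (strU k X U₀ c)) = Curv2.resMap k X p c
  have hg : (X.presheaf.germ U₀ p hpU).hom (strU k X U₀ c) =
      (X.presheaf.germ ⊤ p trivial).hom (strTop k X c) := by
    show (X.presheaf.germ U₀ p hpU).hom ((X.presheaf.map (homOfLE le_top).op).hom (strTop k X c)) = _
    exact TopCat.Presheaf.germ_res_apply X.presheaf (homOfLE le_top) p hpU (strTop k X c)
  rw [hg]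
  rfl

end Main

end QuotSec
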