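import Mathlib
import Groth.Prelude
import Groth.Agent.Lib.QuotSec3_helper9
import Groth.Agent.Lib.CurveIdeal2_helper9
import Groth.Agent.Lib.CurveSpec1_helper9
import Groth.Agent.Lib.ProperFin9_helper9

/-!
# The degree of a closed point on an integral proper curve (helper9)

`deg I_q = -dim_k H⁰(O/I_q)`, the latter is positive, and equals one only for rational points.
APPEND-ONLY once landed.
-/

set_option autoImplicit false
universe u
open CategoryTheory CategoryTheory.Limits AlgebraicGeometry Opposite TopologicalSpace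

namespace EllPic

open QcqsLoc QCohExtn FLFH8 QuotSec

section Point

variable (k : Type u) [Field k] (X : Scheme.{u}) [X.Over (Spec (CommRingCat.of k))]
  [IsIntegral X] [IsProper (X ↘ Spec (CommRingCat.of k))]

/-- the degree of a closed point -/
noncomputable def ptDeg (q : X) (hq : IsClosed ({q} : Set X)) : ℕ :=
  Module.finrank k (Coh.HH X (ClSub.quotMod (Scheme.IdealSheafData.vanishingIdeal ⟨{q}, hq⟩)) 0)

theorem support_point_subset {q : X} (hq : IsClosed ({q} : Set X)) (U : X.affineOpens)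
    (hqU : q ∈ U.1) :
    ((Scheme.IdealSheafData.vanishingIdeal ⟨{q}, hq⟩).support : Set X) ⊆ (U : Set X) := by
  rw [Scheme.IdealSheafData.coe_support_vanishingIdeal]
  intro x hx
  have : x = q := hx
  rw [this]
  exact hqU

theorem one_le_ptDeg (q : X) (hq : IsClosed ({q} : Set X)) : 1 ≤ ptDeg k X q hq := by
  haveI : IsLocallyNoetherian X :=
    LocallyOfFiniteType.isLocallyNoetherian (X ↘ Spec (CommRingCat.of k))
  obtain ⟨_, ⟨U₀, hU₀, rfl⟩, hqU, -⟩ :=
    X.isBasis_affineOpens.exists_subset_of_mem_open (Set.mem_univ q) isOpen_univ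
  let U : X.affineOpens := ⟨U₀, hU₀⟩
  set 𝔪 := (U.2.primeIdealOf ⟨q, hqU⟩).asIdeal with h𝔪
  haveI hmax : 𝔪.IsMaximal := U.2.primeIdealOf_isMaximal_of_isClosed ⟨q, hqU⟩ hq
  letI := algU k U
  obtain ⟨e⟩ := nonempty_linearEquiv k _ U (support_point_subset X hq U hqU) 𝔪
    (vanishingIdeal_point_ideal hq U hqU)
  haveI : Nontrivial (Γ(X, U₀) ⧸ 𝔪) := Ideal.Quotient.nontrivial_iff.mpr hmax.ne_top
  haveI : Nontrivial (Coh.HH X
      (ClSub.quotMod (Scheme.IdealSheafData.vanishingIdeal ⟨{q}, hq⟩)) 0) :=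
    e.toEquiv.nontrivial
  haveI := ProperFinH9.finite_HH_of_proper k X _
    (CurveIdeal.isCoh_quotMod (Scheme.IdealSheafData.vanishingIdeal ⟨{q}, hq⟩)) 0
  exact Module.finrank_pos

theorem resMap_bijective_of_ptDeg_eq_one (q : X) (hq : IsClosed ({q} : Set X))
    (h : ptDeg k X q hq = 1) : Function.Bijective (Curv2.resMap k X q) := by
  haveI : IsLocallyNoetherian X :=
    LocallyOfFiniteType.isLocallyNoetherian (X ↘ Spec (CommRingCat.of k))
  refine ⟨RingHom.injective _, ?_⟩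
  obtain ⟨_, ⟨U₀, hU₀, rfl⟩, hqU, -⟩ :=
    X.isBasis_affineOpens.exists_subset_of_mem_open (Set.mem_univ q) isOpen_univ
  let U : X.affineOpens := ⟨U₀, hU₀⟩
  set 𝔪 := (U.2.primeIdealOf ⟨q, hqU⟩).asIdeal with h𝔪
  haveI hmax : 𝔪.IsMaximal := U.2.primeIdealOf_isMaximal_of_isClosed ⟨q, hqU⟩ hq
  letI := algU k U
  have h1 : Module.finrank k (Γ(X, U₀) ⧸ 𝔪) = 1 := by
    rw [← finrank_HH0_quotMod k _ U (support_point_subset X hq U hqU) 𝔪
      (vanishingIdeal_point_ideal hq U hqU)]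
    exact h
  haveI : Nontrivial (Γ(X, U₀) ⧸ 𝔪) := Ideal.Quotient.nontrivial_iff.mpr hmax.ne_top
  have hsurj : ∀ z : Γ(X, U₀) ⧸ 𝔪, ∃ c : k, Ideal.Quotient.mk 𝔪 (strU k X U₀ c) = z := by
    intro z
    obtain ⟨c, hc⟩ := (finrank_eq_one_iff_of_nonzero' (1 : Γ(X, U₀) ⧸ 𝔪) one_ne_zero).mp h1 z
    refine ⟨c, ?_⟩
    rw [← hc, Algebra.smul_def, mul_one]
    rfl
  letI : Algebra Γ(X, U₀) (X.presheaf.stalk q) :=
    TopCat.Presheaf.algebra_section_stalk X.presheaf ⟨q, hqU⟩
  haveI : IsLocalization.AtPrime (X.presheaf.stalk q) 𝔪 := U.2.isLocalization_stalk ⟨q, hqU⟩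
  intro y
  obtain ⟨r, rfl⟩ := IsLocalRing.residue_surjective (R := X.presheaf.stalk q) y
  obtain ⟨c, hc⟩ := hsurj ((IsLocalization.AtPrime.equivQuotMaximalIdeal 𝔪
    (X.presheaf.stalk q)).symm (Ideal.Quotient.mk _ r))
  refine ⟨c, ?_⟩
  have h2 := congrArg (IsLocalization.AtPrime.equivQuotMaximalIdeal 𝔪 (X.presheaf.stalk q)) hc
  rw [RingEquiv.apply_symm_apply, IsLocalization.AtPrime.equivQuotMaximalIdeal_apply_mk,
    Ideal.Quotient.eq, ← IsLocalRing.residue_eq_zero_iff, map_sub, sub_eq_zero] at h2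
  refine Eq.trans ?_ h2
  show Curv2.resMap k X q c = (X.residue q).hom ((X.presheaf.germ U₀ q hqU).hom (strU k X U₀ c))
  have hg : (X.presheaf.germ U₀ q hqU).hom (strU k X U₀ c) =
      (X.presheaf.germ ⊤ q trivial).hom (strTop k X c) := by
    show (X.presheaf.germ U₀ q hqU).hom ((X.presheaf.map (homOfLE le_top).op).hom (strTop k X c)) = _
    exact TopCat.Presheaf.germ_res_apply X.presheaf (homOfLE le_top) q hqU (strTop k X c)
  rw [hg]
  rfl

/-- the ideal sheaf of a closed point has degree minus the degree of the point -/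
theorem deg_idealMod_point (q : X) (hq : IsClosed ({q} : Set X)) :
    Curv2.deg k X (ClSub.idealMod (Scheme.IdealSheafData.vanishingIdeal ⟨{q}, hq⟩)) 1 =
      -(ptDeg k X q hq : ℤ) := by
  haveI : IsLocallyNoetherian X :=
    LocallyOfFiniteType.isLocallyNoetherian (X ↘ Spec (CommRingCat.of k))
  have hZ : topologicalKrullDim
      ((Scheme.IdealSheafData.vanishingIdeal ⟨{q}, hq⟩).support : Set X) ≤ 0 := by
    have h2 : ((Scheme.IdealSheafData.vanishingIdeal ⟨{q}, hq⟩).support : Set X) = {q} :=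
      Scheme.IdealSheafData.coe_support_vanishingIdeal _
    rw [h2]
    exact CurveSpec.dim_le_zero_of_closed_points {q} hq
      (fun y hy => by rw [Set.mem_singleton_iff.mp hy]; exact hq)
  have e := CurveIdeal.euler_structureModule_eq k X _ hZ
  unfold ptDeg
  unfold Curv2.deg
  push_cast at e ⊢
  linarith

end Point

end EllPic
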