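import Mathlib
import Groth.Prelude
import Groth.Agent.Lib.QuotSec3_helper9
import Groth.Agent.Lib.CurveAmple5_helper9
import Groth.Agent.Lib.CurveGG3_helper9
import Groth.Agent.Lib.H0Const_helper4
import Groth.Agent.Lib.ProjSpaceProper_helper4
import Groth.Agent.Lib.InvTens2_helper8
import Groth.Agent.Lib.CurveIdeal2_helper9
import Groth.Agent.Lib.CurveTens4_helper9

/-!
# The multiples of a rational regular point on an integral projective curve of arithmetic genus
one (helper9)

Statement of S7933.
APPEND-ONLY once landed.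
-/

set_option autoImplicit false
universe u
open CategoryTheory CategoryTheory.Limits AlgebraicGeometry Opposite TopologicalSpace

namespace EllPt

section Main

variable (k : Type u) [Field k] (C : Scheme.{u}) [C.Over (Spec (CommRingCat.of k))]
  [IsIntegral C] [IsProper (C ↘ Spec (CommRingCat.of k))]

/-- on an integral proper scheme with a rational point, the global functions are `k` -/
theorem toGlobal_bijective (p : C) (hrat : Function.Surjective (Curv2.resMap k C p)) :
    Function.Bijective (Coh.toGlobal (C ↘ Spec (CommRingCat.of k))) := by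
  have hfield : IsField Γ(C, ⊤) := isField_of_universallyClosed k (C ↘ Spec (CommRingCat.of k))
  haveI : Nontrivial Γ(C, ⊤) := hfield.nontrivial
  constructor
  · exact RingHom.injective (R := k) (S := Γ(C, ⊤)) (Coh.toGlobal (C ↘ Spec (CommRingCat.of k)))
  · intro w
    let ev : Γ(C, ⊤) →+* C.residueField p :=
      (C.residue p).hom.comp (C.presheaf.germ ⊤ p trivial).hom
    have hev : Function.Injective ev := by
      letI := hfield.toField
      exact RingHom.injective ev
    obtain ⟨c, hc⟩ := hrat (ev w)
    refine ⟨c, hev ?_⟩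
    exact hc

variable (hdim : topologicalKrullDim C = 1)
  (hpa : Curv2.euler k C (Coh.structureModule C) = 0)
  (p : C) (hp : IsClosed ({p} : Set C)) (hrat : Function.Surjective (Curv2.resMap k C p))
  (hreg : IsRegularLocalRing (C.presheaf.stalk p))

include hrat in
theorem finrank_HH0_structureModule :
    Module.finrank k (Coh.HH C (Coh.structureModule C) 0) = 1 :=
  Groth.Agent.Lib.H0ConstH4.finrank_HH_zero_eq_one k C (toGlobal_bijective k C p hrat)

include hdim hpa hrat in
theorem genus_eq_one : Curv2.genus k C = 1 := by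
  haveI : IsLocallyNoetherian C :=
    LocallyOfFiniteType.isLocallyNoetherian (C ↘ Spec (CommRingCat.of k))
  haveI := (CohDevH8.isCoh_structureModule C).1
  have h1 := CurveRR.euler_eq_sub k C hdim.le (Coh.structureModule C)
  rw [hpa, finrank_HH0_structureModule k C p hrat] at h1
  have hg : Curv2.genus k C = Module.finrank k (Coh.HH C (Coh.structureModule C) 1) := rfl
  rw [hg]
  have : (Module.finrank k (Coh.HH C (Coh.structureModule C) 1) : ℤ) = 1 := by
    push_cast at h1
    linarith
  exact_mod_cast this

include k hdim hreg in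
theorem isInvertible_idealMod_pow (n : ℕ) :
    PicF.IsInvertible (ClSub.idealMod ((Scheme.IdealSheafData.vanishingIdeal ⟨{p}, hp⟩) ^ n)) := by
  haveI : IsLocallyNoetherian C :=
    LocallyOfFiniteType.isLocallyNoetherian (C ↘ Spec (CommRingCat.of k))
  apply CurvePtInv.isInvertible_idealMod_of_support hdim
  intro x hx
  cases n with
  | zero =>
    exfalso
    have h1 : ((Scheme.IdealSheafData.vanishingIdeal ⟨{p}, hp⟩) ^ 0).support = ⊥ := by
      rw [pow_zero, Scheme.IdealSheafData.one_eq_top, Scheme.IdealSheafData.support_top]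
    rw [h1] at hx
    exact hx
  | succ m =>
    rw [Scheme.IdealSheafData.support_pow_succ] at hx
    have h2 : ((Scheme.IdealSheafData.vanishingIdeal ⟨{p}, hp⟩).support : Set C) = {p} :=
      Scheme.IdealSheafData.coe_support_vanishingIdeal _
    have hx' : x ∈ ((Scheme.IdealSheafData.vanishingIdeal ⟨{p}, hp⟩).support : Set C) := hx
    rw [h2, Set.mem_singleton_iff] at hx'
    subst hx'
    exact ⟨hp, hreg⟩

include hdim hreg hrat in
theorem deg_idealMod_pow (n : ℕ) :
    Curv2.deg k C (ClSub.idealMod ((Scheme.IdealSheafData.vanishingIdeal ⟨{p}, hp⟩) ^ n)) 1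
      = -(n : ℤ) := by
  haveI : IsLocallyNoetherian C :=
    LocallyOfFiniteType.isLocallyNoetherian (C ↘ Spec (CommRingCat.of k))
  set Z := (Scheme.IdealSheafData.vanishingIdeal ⟨{p}, hp⟩) ^ n with hZ
  have hsub : (Z.support : Set C) ⊆ {p} := by
    cases n with
    | zero =>
      intro x hx
      have h1 : Z.support = ⊥ := by
        rw [hZ, pow_zero, Scheme.IdealSheafData.one_eq_top, Scheme.IdealSheafData.support_top]
      rw [h1] at hx
      exact absurd hx (Set.notMem_empty x)
    | succ m =>
      rw [hZ, Scheme.IdealSheafData.support_pow_succ,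
        Scheme.IdealSheafData.coe_support_vanishingIdeal]
      exact subset_rfl
  have hZd : topologicalKrullDim (Z.support : Set C) ≤ 0 :=
    CurveSpec.dim_le_zero_of_closed_points _ Z.support.isClosed
      (fun y hy => by rw [Set.mem_singleton_iff.mp (hsub hy)]; exact hp)
  have e := CurveIdeal.euler_structureModule_eq k C Z hZd
  rw [QuotSec.finrank_HH0_quotMod_pow k hdim hp hreg hrat n] at e
  unfold Curv2.deg
  push_cast
  linarith

include hdim hpa hrat hreg in
/-- **S7933** -/
theorem main (n : ℕ) (L : C.Modules)
    (hL : ClSub.IsInverseOf L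
      (ClSub.idealMod ((Scheme.IdealSheafData.vanishingIdeal ⟨{p}, hp⟩) ^ n))) :
    Module.finrank k (Coh.HH C (Coh.structureModule C) 0) = 1 ∧
      Module.finrank k (Coh.HH C (Coh.structureModule C) 1) = 1 ∧
      (n = 1 → Module.finrank k (Coh.HH C L 0) = 1) ∧
      (2 ≤ n → Module.finrank k (Coh.HH C L 0) = n) ∧
      (1 ≤ n → Subsingleton (Coh.HH C L 1)) ∧
      (2 ≤ n → Curv2.IsGloballyGenerated L) := by
  haveI : IsLocallyNoetherian C :=
    LocallyOfFiniteType.isLocallyNoetherian (C ↘ Spec (CommRingCat.of k))
  obtain ⟨e⟩ := hL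
  have hLinv : PicF.IsInvertible L := InvTensH8.isInvertible_of_tensor_iso e
  have hIinv := isInvertible_idealMod_pow k C hdim p hp hreg n
  have hg := genus_eq_one k C hdim hpa p hrat
  have h0 := finrank_HH0_structureModule k C p hrat
  -- the degree of `L`
  have hdegL : Curv2.deg k C L 1 = n := by
    have h1 := CurveTens.deg_tensorMod k C hdim.le hLinv hIinv
    rw [CurveTens.deg_of_iso k C e 1, CurveDeg.deg_structureModule,
      deg_idealMod_pow k C hdim p hp hrat hreg n] at h1
    linarith
  have hLc := ProperFinH9.isCoh_of_isInvertible hLinv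
  haveI := hLc.1
  have hH1 : 1 ≤ n → Subsingleton (Coh.HH C L 1) := by
    intro hn
    apply CurveAmple.HH1_subsingleton_of_deg_ge k C hdim.le hLinv
    rw [hg, hdegL]
    have : (1 : ℤ) ≤ (n : ℤ) := by exact_mod_cast hn
    push_cast
    linarith
  have hH0 : 1 ≤ n → Module.finrank k (Coh.HH C L 0) = n := by
    intro hn
    haveI := hH1 hn
    have h1 := CurveRR.euler_eq_sub k C hdim.le L
    have h2 : Module.finrank k (Coh.HH C L 1) = 0 := Module.finrank_zero_of_subsingleton
    rw [h2] at h1
    unfold Curv2.deg at hdegL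
    rw [hpa] at hdegL
    have : (Module.finrank k (Coh.HH C L 0) : ℤ) = n := by
      push_cast at h1 hdegL
      linarith
    exact_mod_cast this
  refine ⟨h0, hg, ?_, ?_, hH1, ?_⟩
  · intro hn
    rw [hH0 (by omega), hn]
  · intro hn
    exact hH0 (by omega)
  · intro hn
    apply CurveGG.isGloballyGenerated_of_deg_ge k C hdim.le hLinv
    rw [hg, hdegL]
    have : (2 : ℤ) ≤ (n : ℤ) := by exact_mod_cast hn
    push_cast
    linarith

end Main

end EllPt
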