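import Mathlib
import Groth.Prelude
import Groth.Agent.Lib.AmpleComp3_helper9
import Groth.Agent.Lib.CurveDeg1_helper9
import Groth.Agent.Lib.GenLoc2_helper8
import Groth.Agent.Lib.Tens15_helper8
import Groth.Agent.Lib.FinCov1_helper8
import Groth.Agent.Lib.PB9_helper8

/-!
# Invertible modules of non-positive degree on all components of a reduced connected curve
(helper9)

Statement of S7641: such a module has no sections or is trivial.
APPEND-ONLY once landed.
-/

set_option autoImplicit false
universe u
open CategoryTheory CategoryTheory.Limits AlgebraicGeometry Opposite TopologicalSpace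

namespace NefTriv

open QcqsLoc QCohExtn GenLocH8 TensH8 FLFH8 CohB1

section Gen

variable {X : Scheme.{u}}

/-- a section generating everywhere is an isomorphism -/
theorem isIso_of_genLocus_eq_top {L : X.Modules} (s : Coh.structureModule X ⟶ L)
    (h : CohB1.genLocus L s = ⊤) : IsIso s := by
  refine SubExt.isIso_of_bijective _ (fun W => ?_)
  exact bijective_ap_of_le_genLocus s (O := W) (by rw [h]; exact le_top)

/-- an isomorphism generates everywhere -/
theorem genLocus_eq_top_of_isIso {L : X.Modules} (s : Coh.structureModule X ⟶ L) [IsIso s] :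
    CohB1.genLocus L s = ⊤ := by
  ext y
  simp only [Opens.coe_top, Set.mem_univ, iff_true]
  show y ∈ CohB1.genLocus L s
  rw [mem_genLocus_iff]
  refine ⟨⊤, trivial, fun W _ => ?_⟩
  exact (ConcreteCategory.isIso_iff_bijective (s.app W)).mp inferInstance

/-- the zero section generates nowhere -/
theorem genLocus_zero (L : X.Modules) :
    CohB1.genLocus L (0 : Coh.structureModule X ⟶ L) = ⊥ := by
  ext y
  simp only [Opens.coe_bot, Set.mem_empty_iff_false, iff_false]
  intro hy
  have hy' : y ∈ CohB1.genLocus L (0 : Coh.structureModule X ⟶ L) := hy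
  rw [mem_genLocus_iff] at hy'
  obtain ⟨V, hyV, hV⟩ := hy'
  have hb := hV V le_rfl
  haveI : Nonempty V := ⟨⟨_, hyV⟩⟩
  haveI : Nontrivial Γ(X, V) := inferInstance
  have h1 : (toM (1 : Γ(X, V)) : Γ(Coh.structureModule X, V)) = toM (0 : Γ(X, V)) := by
    apply hb.1
    show ap (0 : Coh.structureModule X ⟶ L) V _ = ap (0 : Coh.structureModule X ⟶ L) V _
    rfl
  exact one_ne_zero (α := Γ(X, V)) h1

/-- on a reduced scheme, a section of an invertible module generating nowhere is zero -/
theorem eq_zero_of_genLocus_eq_bot [IsReduced X] {L : X.Modules} (hL : PicF.IsInvertible L)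
    (s : Coh.structureModule X ⟶ L) (h : CohB1.genLocus L s = ⊥) : s = 0 := by
  apply unit_hom_ext_cover
  intro x
  obtain ⟨W, -, hxW, e₀, he⟩ := exists_isGen hL x
  refine ⟨W, hxW, ?_⟩
  obtain ⟨c, hc⟩ := (he W le_rfl).1 (ap s W (toM 1))
  have hself : rF L (le_refl W) e₀ = e₀ := SubExt.rF_self L _ e₀
  rw [hself] at hc
  have hb := genLocus_inf_eq_basicOpen s e₀ he c hc
  rw [h, bot_inf_eq] at hb
  have hc0 : c = 0 := (basicOpen_eq_bot_iff c).mp hb.symm
  rw [hc, hc0, zero_smul]
  rfl

end Gen

section Comp

variable (k : Type u) [Field k] (X : Scheme.{u}) [X.Over (Spec (CommRingCat.of k))]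
  [IsProper (X ↘ Spec (CommRingCat.of k))]

/-- on a one-dimensional irreducible closed subset on which `L` has non-positive degree, a
section generates everywhere or nowhere -/
theorem subset_or_disjoint_genLocus {L : X.Modules}
    (hL : PicF.IsInvertible L) (s : Coh.structureModule X ⟶ L) (Z : Closeds X)
    (J : X.IdealSheafData) (hJ : J = Scheme.IdealSheafData.vanishingIdeal Z)
    (hirr : IsIrreducible (Z : Set X)) (hd : topologicalKrullDim (Z : Set X) = 1)
    (hdeg : @Curv2.deg k _ J.subscheme ⟨J.subschemeι ≫ (X ↘ Spec (CommRingCat.of k))⟩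
      ((Scheme.Modules.pullback J.subschemeι).obj L) 1 ≤ 0) :
    (Z : Set X) ⊆ (CohB1.genLocus L s : Set X) ∨
      Disjoint (Z : Set X) (CohB1.genLocus L s : Set X) := by
  subst hJ
  obtain ⟨Z, hZ⟩ := Z
  have hy : closure ({hirr.genericPoint} : Set X) = Z := hirr.closure_genericPoint hZ
  obtain ⟨hint, -⟩ := CohDevH8.exists_isIntegral_subscheme Z hZ _ hy
  haveI := hint
  set T := (Scheme.IdealSheafData.vanishingIdeal ⟨Z, hZ⟩).subscheme with hT
  set i := (Scheme.IdealSheafData.vanishingIdeal ⟨Z, hZ⟩).subschemeι with hi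
  letI : T.Over (Spec (CommRingCat.of k)) := ⟨i ≫ (X ↘ Spec (CommRingCat.of k))⟩
  haveI : IsProper (T ↘ Spec (CommRingCat.of k)) :=
    inferInstanceAs (IsProper (i ≫ (X ↘ Spec (CommRingCat.of k))))
  have hrange : Set.range i = Z := by
    rw [hi, Scheme.IdealSheafData.range_subschemeι,
      Scheme.IdealSheafData.coe_support_vanishingIdeal]
    rfl
  have hd' : topologicalKrullDim (Set.range i) = 1 := by
    rw [hrange]
    exact hd
  have hdimT : topologicalKrullDim T = 1 := by
    rw [← hd']
    exact IsHomeomorph.topologicalKrullDim_eq _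
      i.isClosedEmbedding.isEmbedding.toHomeomorph.isHomeomorph
  have hLT := TensH8.isInvertible_pullback i hL
  let e : Coh.structureModule T ≅ (Scheme.Modules.pullback i).obj (Coh.structureModule X) :=
    (PBH8.pullbackUnitIso i).symm
  have hgen := genLocus_pullback i L hL s e
  by_cases ht : e.hom ≫ (Scheme.Modules.pullback i).map s = 0
  · right
    rw [ht, genLocus_zero] at hgen
    rw [Set.disjoint_left]
    intro z hzZ hzU
    have hzZ' : z ∈ Set.range i := by rw [hrange]; exact hzZ
    obtain ⟨t, rfl⟩ := hzZ'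
    have : t ∈ i ⁻¹ᵁ CohB1.genLocus L s := hzU
    rw [← hgen] at this
    exact this
  · left
    haveI := CurveDeg.isIso_of_deg_nonpos k T hdimT hLT _ ht hdeg
    rw [genLocus_eq_top_of_isIso] at hgen
    intro z hzZ
    have hzZ' : z ∈ Set.range i := by rw [hrange]; exact hzZ
    obtain ⟨t, rfl⟩ := hzZ'
    have : t ∈ i ⁻¹ᵁ CohB1.genLocus L s := by
      rw [← hgen]
      trivial
    exact this

variable [IsNoetherian X]

/-- **S7641** -/
theorem main [IsReduced X] [ConnectedSpace X]
    (hdim : ∀ (C : Set X), C ∈ irreducibleComponents (X : Type u) → topologicalKrullDim C = 1)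
    (L : X.Modules) (hL : PicF.IsInvertible L)
    (hdeg : ∀ (C : Set X) (hC : C ∈ irreducibleComponents (X : Type u)),
      @Curv2.deg k _ (X.irreducibleComponentIdeal C hC).radical.subscheme
        ⟨(X.irreducibleComponentIdeal C hC).radical.subschemeι ≫ (X ↘ (Spec (CommRingCat.of k)))⟩
        ((Scheme.Modules.pullback (X.irreducibleComponentIdeal C hC).radical.subschemeι).obj L) 1
          ≤ 0) :
    Subsingleton (Coh.HH X L 0) ∨ Nonempty (L ≅ Coh.structureModule X) := by
  by_cases hsub : Subsingleton (Coh.HH X L 0)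
  · exact Or.inl hsub
  right
  rw [not_subsingleton_iff_nontrivial] at hsub
  haveI := hsub
  -- a nonzero section
  obtain ⟨s, hs⟩ : ∃ s : Coh.structureModule X ⟶ L, s ≠ 0 := by
    obtain ⟨v, hv⟩ := exists_ne (0 : Coh.HH X L 0)
    let e := Sheaf.H.equiv₀ (Coh.toAb L) isTerminalTop
    have ht : e v ≠ 0 := fun h0 => hv (e.injective (h0.trans (map_zero e).symm))
    refine ⟨SDivGenH8.unitHom L (e v), fun h0 => ht ?_⟩
    have h1 := SDivGenH8.unitHom_app_one L (e v) ⊤
    rw [h0] at h1
    have h2 : L.val.map (homOfLE (le_top : (⊤ : X.Opens) ≤ ⊤)).op (e v) = e v :=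
      SubExt.rF_self L le_top (e v)
    rw [h2] at h1
    exact h1.symm
  set U := CohB1.genLocus L s with hU
  -- each component is inside or outside `U`
  have hcomp : ∀ C ∈ irreducibleComponents (X : Type u),
      C ⊆ (U : Set X) ∨ Disjoint C (U : Set X) := by
    intro C hC
    have hcl : IsClosed C := isClosed_of_mem_irreducibleComponents C hC
    refine subset_or_disjoint_genLocus k X hL s ⟨C, hcl⟩ _ ?_ hC.1 (hdim C hC) (hdeg C hC)
    rw [← Scheme.IdealSheafData.vanishingIdeal_support]
    congr 1
  have hfin : (irreducibleComponents (X : Type u)).Finite :=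
    TopologicalSpace.NoetherianSpace.finite_irreducibleComponents
  -- `U` is closed
  have hUeq : (U : Set X) = ⋃ C ∈ {C | C ∈ irreducibleComponents (X : Type u) ∧ C ⊆ (U : Set X)},
      C := by
    apply Set.Subset.antisymm
    · intro x hx
      have hC := irreducibleComponent_mem_irreducibleComponents x
      have hxC : x ∈ irreducibleComponent x := mem_irreducibleComponent
      rcases hcomp _ hC with h | h
      · exact Set.mem_biUnion ⟨hC, h⟩ hxC
      · exact absurd hx (Set.disjoint_left.mp h hxC)
    · intro x hx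
      obtain ⟨C, ⟨-, hCU⟩, hxC⟩ := Set.mem_iUnion₂.mp hx
      exact hCU hxC
  have hclosed : IsClosed (U : Set X) := by
    rw [hUeq]
    refine Set.Finite.isClosed_biUnion (hfin.subset (fun C hC => hC.1)) (fun C hC => ?_)
    exact isClosed_of_mem_irreducibleComponents C hC.1
  have hclopen : IsClopen (U : Set X) := ⟨hclosed, U.2⟩
  rcases isClopen_iff.mp hclopen with h | h
  · exfalso
    apply hs
    apply eq_zero_of_genLocus_eq_bot hL s
    ext x
    rw [← hU, h]
    simp
  · have htop : CohB1.genLocus L s = ⊤ := by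
      ext x
      rw [← hU, h]
      simp
    haveI := isIso_of_genLocus_eq_top s htop
    exact ⟨(asIso s).symm⟩

end Comp

end NefTriv
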