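import Mathlib
import Groth.Prelude
import Groth.Agent.Lib.EllPic1_helper9
import Groth.Agent.Lib.EllPt_helper9
import Groth.Agent.Lib.NefTriv_helper9
import Groth.Agent.Lib.CurvePt1_helper9
import Groth.Agent.Lib.CurveDeg1_helper9
import Groth.Agent.Lib.CurvePtInv1_helper9
import Groth.Agent.Lib.InvTensP2_helper5
import Groth.Agent.Lib.TensInv2_helper9
import Groth.Agent.Lib.CMMul1_helper9
import Groth.Agent.Lib.Tens5_helper8

/-!
# Degree-zero invertible modules on a genus-one curve: existence of the point (helper9)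

On an integral proper regular curve of genus one with a rational point `O`, every invertible
module `L` of degree zero is of the form `O(P - O)` for a rational point `P`.
APPEND-ONLY once landed.
-/

set_option autoImplicit false
universe u
open CategoryTheory CategoryTheory.Limits AlgebraicGeometry Opposite TopologicalSpace

namespace EllPic

open QcqsLoc QCohExtn FLFH8 QuotSec

section Exist

variable (k : Type u) [Field k] (X : Scheme.{u}) [X.Over (Spec (CommRingCat.of k))]
  [IsIntegral X] [IsProper (X ↘ Spec (CommRingCat.of k))]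

/-- a rational regular point has degree one -/
theorem ptDeg_eq_one_of_rational (hdim : topologicalKrullDim X = 1) {p : X}
    (hp : IsClosed ({p} : Set X)) (hreg : IsRegularLocalRing (X.presheaf.stalk p))
    (hrat : Function.Surjective (Curv2.resMap k X p)) : ptDeg k X p hp = 1 := by
  haveI : IsLocallyNoetherian X :=
    LocallyOfFiniteType.isLocallyNoetherian (X ↘ Spec (CommRingCat.of k))
  have h := QuotSec.finrank_HH0_quotMod_pow k hdim hp hreg hrat 1
  rw [pow_one] at h
  exact h

/-- existence: `L ⊗ I_q ≅ I_O` for a rational point `q` -/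
theorem exists_point (hdim : topologicalKrullDim X = 1) (hg : Curv2.genus k X = 1)
    (hreg : ∀ x : X, IsClosed ({x} : Set X) → IsRegularLocalRing (X.presheaf.stalk x))
    (O : X) (hOc : IsClosed ({O} : Set X)) (hO : Function.Surjective (Curv2.resMap k X O))
    (L : X.Modules) (hL : PicF.IsInvertible L) (hdeg : Curv2.deg k X L 1 = 0) :
    ∃ (q : X) (hq : IsClosed ({q} : Set X)), Function.Bijective (Curv2.resMap k X q) ∧
      Nonempty (CohB1.tensorMod L (ClSub.idealMod (Scheme.IdealSheafData.vanishingIdeal ⟨{q}, hq⟩))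
        ≅ ClSub.idealMod (Scheme.IdealSheafData.vanishingIdeal ⟨{O}, hOc⟩)) := by
  haveI : IsLocallyNoetherian X :=
    LocallyOfFiniteType.isLocallyNoetherian (X ↘ Spec (CommRingCat.of k))
  haveI : CompactSpace X :=
    QuasiCompact.compactSpace_of_compactSpace (X ↘ Spec (CommRingCat.of k))
  set IO := ClSub.idealMod (Scheme.IdealSheafData.vanishingIdeal ⟨{O}, hOc⟩) with hIO
  have hIOinv : PicF.IsInvertible IO :=
    CurvePtInv.isInvertible_idealMod_point hdim hOc (hreg O hOc)
  have hdegIO : Curv2.deg k X IO 1 = -1 := by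
    rw [hIO, deg_idealMod_point, ptDeg_eq_one_of_rational k X hdim hOc (hreg O hOc) hO]
    rfl
  obtain ⟨N, hN, ⟨eN⟩⟩ := Groth.Agent.InvTensP.exists_inverse IO hIOinv
  have hdegN : Curv2.deg k X N 1 = 1 := by
    have h1 := CurveTens.deg_tensorMod k X hdim.le hIOinv hN
    rw [CurveTens.deg_of_iso k X eN 1, CurveDeg.deg_structureModule, hdegIO] at h1
    linarith
  set M := CohB1.tensorMod L N with hM
  have hMinv : PicF.IsInvertible M := TensH8.isInvertible_tensorMod hL hN
  have hdegM : Curv2.deg k X M 1 = 1 := by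
    rw [hM, CurveTens.deg_tensorMod k X hdim.le hL hN, hdeg, hdegN]
    rfl
  have hMc := ProperFinH9.isCoh_of_isInvertible hMinv
  haveI := hMc.1
  haveI hH1 : Subsingleton (Coh.HH X M 1) := by
    apply CurveAmple.HH1_subsingleton_of_deg_ge k X hdim.le hMinv
    rw [hg, hdegM]
    norm_num
  have h0 := EllPt.finrank_HH0_structureModule k X O hO
  haveI := (CohDevH8.isCoh_structureModule X).1
  have hpa : Curv2.euler k X (Coh.structureModule X) = 0 := by
    rw [CurveRR.euler_eq_sub k X hdim.le (Coh.structureModule X), h0]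
    have : Module.finrank k (Coh.HH X (Coh.structureModule X) 1) = 1 := hg
    rw [this]
    norm_num
  have hH0 : Module.finrank k (Coh.HH X M 0) = 1 := by
    have h1 := CurveRR.euler_eq_sub k X hdim.le M
    have h2 : Module.finrank k (Coh.HH X M 1) = 0 := Module.finrank_zero_of_subsingleton
    rw [h2] at h1
    unfold Curv2.deg at hdegM
    rw [hpa] at hdegM
    have : (Module.finrank k (Coh.HH X M 0) : ℤ) = 1 := by
      push_cast at h1 hdegM
      linarith
    exact_mod_cast this
  obtain ⟨σ, hσ⟩ := CurveRR.exists_section_of_finrank_pos k X M (by rw [hH0]; norm_num)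
  -- a closed point where `σ` does not generate
  have hne : ((CohB1.genLocus M σ : Set X)ᶜ).Nonempty := by
    by_contra hemp
    rw [Set.not_nonempty_iff_eq_empty, Set.compl_empty_iff] at hemp
    have htop : CohB1.genLocus M σ = ⊤ := by
      ext y
      simp [hemp]
    haveI := NefTriv.isIso_of_genLocus_eq_top σ htop
    have := CurveTens.deg_of_iso k X (asIso σ) 1
    rw [CurveDeg.deg_structureModule, hdegM] at this
    exact absurd this (by norm_num)
  obtain ⟨q, hqmem, hq⟩ :=
    IsClosed.exists_closed_singleton (CohB1.genLocus M σ).isOpen.isClosed_compl hne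
  have hqgen : ¬ CurveLin.GenAt M σ q := by
    rw [CurvePt.genAt_iff_mem_genLocus]
    exact hqmem
  set Iq := ClSub.idealMod (Scheme.IdealSheafData.vanishingIdeal ⟨{q}, hq⟩) with hIq
  obtain ⟨s', hs'⟩ := CurveGG.exists_lift_of_not_genAt hq hMinv σ hqgen
  have hs'ne : s' ≠ 0 := by
    intro h
    rw [h, zero_comp] at hs'
    exact hσ hs'.symm
  have hIqinv : PicF.IsInvertible Iq :=
    CurvePtInv.isInvertible_idealMod_point hdim hq (hreg q hq)
  have hTinv : PicF.IsInvertible (CohB1.tensorMod Iq M) :=
    TensH8.isInvertible_tensorMod hIqinv hMinv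
  have hdegT : Curv2.deg k X (CohB1.tensorMod Iq M) 1 = -(ptDeg k X q hq : ℤ) + 1 := by
    rw [CurveTens.deg_tensorMod k X hdim.le hIqinv hMinv, hdegM, hIq, deg_idealMod_point]
  have hnn := CurveDeg.deg_nonneg_of_section k X hdim hTinv s' hs'ne
  have hpt1 := one_le_ptDeg k X q hq
  have hpt : ptDeg k X q hq = 1 := by
    rw [hdegT] at hnn
    have : (ptDeg k X q hq : ℤ) ≤ 1 := by linarith
    have : ptDeg k X q hq ≤ 1 := by exact_mod_cast this
    omega
  haveI : IsIso s' := by
    apply CurveDeg.isIso_of_deg_nonpos k X hdim hTinv s' hs'ne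
    rw [hdegT, hpt]
    norm_num
  refine ⟨q, hq, resMap_bijective_of_ptDeg_eq_one k X q hq hpt, ⟨?_⟩⟩
  have e1 : CohB1.tensorMod Iq M ≅ Coh.structureModule X := (asIso s').symm
  have eN' : CohB1.tensorMod N IO ≅ Coh.structureModule X :=
    (Groth.Agent.TensInv.swap ⟨eN⟩).some
  exact Groth.Agent.TensInv.comm L Iq ≪≫
    (Groth.Agent.TensInv.rightUnit (CohB1.tensorMod Iq L)).symm ≪≫
    Groth.Agent.TensInv.mapL (CohB1.tensorMod Iq L) eN'.symm ≪≫
    (Groth.Agent.TensInv.assoc (CohB1.tensorMod Iq L) N IO).symm ≪≫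
    Groth.Agent.TensInv.mapR (Groth.Agent.TensInv.assoc Iq L N) IO ≪≫
    Groth.Agent.TensInv.mapR e1 IO ≪≫
    Groth.Agent.CMMul.unitorL IO

end Exist

end EllPic
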