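import Mathlib
import Groth.Prelude
import Groth.Agent.Lib.EllPic2_helper9
import Groth.Agent.Lib.CurveDegAdd1_helper9

/-!
# Degree-zero invertible modules on a genus-one curve: uniqueness of the point (helper9)

If `I_P ≅ I_{P'}` for closed points `P`, `P'` of an integral proper regular curve of genus one
with `H⁰(O) = k`, and `P` has degree one, then `P = P'`.
APPEND-ONLY once landed.
-/

set_option autoImplicit false
universe u
open CategoryTheory CategoryTheory.Limits AlgebraicGeometry Opposite TopologicalSpace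

namespace EllPic

open QcqsLoc QCohExtn FLFH8 QuotSec

section Abstract

variable {k : Type*} [Field k] {C : Type*} [Category C] [Preadditive C] [Linear k C]

/-- if `T` is fully faithful, `T I ≅ O`, `T O ≅ N` and `Hom(O, N)` is one-dimensional, then any
two nonzero maps `I ⟶ O` differ by an automorphism of `I` -/
theorem exists_auto_of_finrank_one (T : C ⥤ C) [T.Full] [T.Faithful] [T.PreservesZeroMorphisms]
    {I O N : C} (e : T.obj I ≅ O) (u : T.obj O ≅ N)
    (h1 : Module.finrank k (O ⟶ N) = 1) (ι f : I ⟶ O) (hι : ι ≠ 0) (hf : f ≠ 0) :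
    ∃ θ : I ⟶ I, IsIso θ ∧ f = θ ≫ ι := by
  let Ψ : (I ⟶ O) → (O ⟶ N) := fun g => e.inv ≫ T.map g ≫ u.hom
  have hΨinj : Function.Injective Ψ := by
    intro g g' h
    apply T.map_injective
    have h' : e.inv ≫ T.map g ≫ u.hom = e.inv ≫ T.map g' ≫ u.hom := h
    rw [cancel_epi, cancel_mono] at h'
    exact h'
  have hΨ0 : Ψ 0 = 0 := by
    show e.inv ≫ T.map 0 ≫ u.hom = 0
    rw [T.map_zero, zero_comp, comp_zero]
  have hΨι : Ψ ι ≠ 0 := fun h => hι (hΨinj (h.trans hΨ0.symm))
  have hΨf : Ψ f ≠ 0 := fun h => hf (hΨinj (h.trans hΨ0.symm))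
  obtain ⟨c, hc⟩ := (finrank_eq_one_iff_of_nonzero' _ hΨι).mp h1 (Ψ f)
  have hc0 : c ≠ 0 := by
    rintro rfl
    rw [zero_smul] at hc
    exact hΨf hc.symm
  let θ : I ⟶ I := T.preimage (e.hom ≫ (c • 𝟙 O) ≫ e.inv)
  have hθ : T.map θ = e.hom ≫ (c • 𝟙 O) ≫ e.inv := T.map_preimage _
  refine ⟨θ, ?_, ?_⟩
  · haveI : IsIso (c • 𝟙 O) := by
      refine ⟨⟨c⁻¹ • 𝟙 O, ?_, ?_⟩⟩
      · rw [Linear.smul_comp, Linear.comp_smul, Category.comp_id, smul_smul,
          mul_inv_cancel₀ hc0, one_smul]
      · rw [Linear.smul_comp, Linear.comp_smul, Category.comp_id, smul_smul,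
          inv_mul_cancel₀ hc0, one_smul]
    haveI : IsIso (T.map θ) := by rw [hθ]; infer_instance
    exact isIso_of_fully_faithful T θ
  · apply hΨinj
    show e.inv ≫ T.map f ≫ u.hom = e.inv ≫ T.map (θ ≫ ι) ≫ u.hom
    have hc' : c • (e.inv ≫ T.map ι ≫ u.hom) = e.inv ≫ T.map f ≫ u.hom := hc
    rw [← hc', T.map_comp, hθ]
    simp only [Category.assoc, Iso.inv_hom_id_assoc, Linear.smul_comp, Category.id_comp]

end Abstract

section Uniq

variable (k : Type u) [Field k] (X : Scheme.{u}) [X.Over (Spec (CommRingCat.of k))]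
  [IsIntegral X] [IsProper (X ↘ Spec (CommRingCat.of k))]

/-- on a genus one curve with `H⁰(O) = k`, an invertible module of degree one has exactly one
section up to scalars -/
theorem finrank_HH0_of_deg_one (hdim : topologicalKrullDim X = 1) (hg : Curv2.genus k X = 1)
    (h0 : Module.finrank k (Coh.HH X (Coh.structureModule X) 0) = 1)
    {M : X.Modules} (hMinv : PicF.IsInvertible M) (hdegM : Curv2.deg k X M 1 = 1) :
    Module.finrank k (Coh.HH X M 0) = 1 := by
  haveI : IsLocallyNoetherian X :=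
    LocallyOfFiniteType.isLocallyNoetherian (X ↘ Spec (CommRingCat.of k))
  have hMc := ProperFinH9.isCoh_of_isInvertible hMinv
  haveI := hMc.1
  haveI hH1 : Subsingleton (Coh.HH X M 1) := by
    apply CurveAmple.HH1_subsingleton_of_deg_ge k X hdim.le hMinv
    rw [hg, hdegM]
    norm_num
  haveI := (CohDevH8.isCoh_structureModule X).1
  have hpa : Curv2.euler k X (Coh.structureModule X) = 0 := by
    rw [CurveRR.euler_eq_sub k X hdim.le (Coh.structureModule X), h0]
    have : Module.finrank k (Coh.HH X (Coh.structureModule X) 1) = 1 := hg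
    rw [this]
    norm_num
  have h1 := CurveRR.euler_eq_sub k X hdim.le M
  have h2 : Module.finrank k (Coh.HH X M 1) = 0 := Module.finrank_zero_of_subsingleton
  rw [h2] at h1
  unfold Curv2.deg at hdegM
  rw [hpa] at hdegM
  have : (Module.finrank k (Coh.HH X M 0) : ℤ) = 1 := by
    push_cast at h1 hdegM
    linarith
  exact_mod_cast this

/-- the inclusion of the ideal of a closed point is nonzero -/
theorem idealModι_point_ne_zero (hpa : Curv2.euler k X (Coh.structureModule X) = 0)
    (q : X) (hq : IsClosed ({q} : Set X)) :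
    ClSub.idealModι (Scheme.IdealSheafData.vanishingIdeal ⟨{q}, hq⟩) ≠ 0 := by
  haveI : IsLocallyNoetherian X :=
    LocallyOfFiniteType.isLocallyNoetherian (X ↘ Spec (CommRingCat.of k))
  intro h
  set Z := Scheme.IdealSheafData.vanishingIdeal ⟨{q}, hq⟩ with hZ
  have hz : IsZero (ClSub.idealMod Z) := by
    rw [IsZero.iff_id_eq_zero, ← cancel_mono (ClSub.idealModι Z), h, comp_zero, zero_comp]
  have he : Curv2.euler k X (ClSub.idealMod Z) = 0 := by
    unfold Curv2.euler
    have h' : ∀ i : ℕ, Module.finrank k (Coh.HH X (ClSub.idealMod Z) i) = 0 := fun i => by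
      haveI := CurveDegAdd.HH_subsingleton_of_isZero X hz i
      exact Module.finrank_zero_of_subsingleton
    simp [h']
  have hZd : topologicalKrullDim (Z.support : Set X) ≤ 0 := by
    have h2 : (Z.support : Set X) = {q} :=
      Scheme.IdealSheafData.coe_support_vanishingIdeal _
    rw [h2]
    exact CurveSpec.dim_le_zero_of_closed_points {q} hq
      (fun y hy => by rw [Set.mem_singleton_iff.mp hy]; exact hq)
  have e := CurveIdeal.euler_structureModule_eq k X Z hZd
  have h1 := one_le_ptDeg k X q hq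
  unfold ptDeg at h1
  rw [he, hpa] at e
  have : (1 : ℤ) ≤ (Module.finrank k (Coh.HH X (ClSub.quotMod Z) 0) : ℤ) := by exact_mod_cast h1
  linarith

/-- a module with empty support has no sections -/
theorem finrank_HH0_eq_zero_of_support_empty (F : X.Modules) (h : CohB1.support F = ∅) :
    Module.finrank k (Coh.HH X F 0) = 0 := by
  have hz : IsZero F := by
    rw [IsZero.iff_id_eq_zero]
    apply Scheme.Modules.hom_ext
    intro O
    ext σ
    show σ = 0
    exact CycLenH8.eq_zero_of_disjoint_support F (fun y _ => by rw [h]; exact Set.notMem_empty y) σ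
  haveI := CurveDegAdd.HH_subsingleton_of_isZero X hz 0
  exact Module.finrank_zero_of_subsingleton

/-- **uniqueness**: isomorphic point ideals have the same point -/
theorem point_eq_of_iso (hdim : topologicalKrullDim X = 1) (hg : Curv2.genus k X = 1)
    (h0 : Module.finrank k (Coh.HH X (Coh.structureModule X) 0) = 1)
    (hreg : ∀ x : X, IsClosed ({x} : Set X) → IsRegularLocalRing (X.presheaf.stalk x))
    {P P' : X} (hP : IsClosed ({P} : Set X)) (hP' : IsClosed ({P'} : Set X))
    (hP1 : ptDeg k X P hP = 1)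
    (φ : ClSub.idealMod (Scheme.IdealSheafData.vanishingIdeal ⟨{P}, hP⟩) ≅
      ClSub.idealMod (Scheme.IdealSheafData.vanishingIdeal ⟨{P'}, hP'⟩)) : P = P' := by
  haveI : IsLocallyNoetherian X :=
    LocallyOfFiniteType.isLocallyNoetherian (X ↘ Spec (CommRingCat.of k))
  set ZP := Scheme.IdealSheafData.vanishingIdeal ⟨{P}, hP⟩ with hZP
  set ZP' := Scheme.IdealSheafData.vanishingIdeal ⟨{P'}, hP'⟩ with hZP'
  have hIinv : PicF.IsInvertible (ClSub.idealMod ZP) :=
    CurvePtInv.isInvertible_idealMod_point hdim hP (hreg P hP)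
  have hdegI : Curv2.deg k X (ClSub.idealMod ZP) 1 = -1 := by
    rw [hZP, deg_idealMod_point, hP1]
    rfl
  obtain ⟨N, hN, ⟨eN⟩⟩ := Groth.Agent.InvTensP.exists_inverse _ hIinv
  have hdegN : Curv2.deg k X N 1 = 1 := by
    have h1 := CurveTens.deg_tensorMod k X hdim.le hIinv hN
    rw [CurveTens.deg_of_iso k X eN 1, CurveDeg.deg_structureModule, hdegI] at h1
    linarith
  have hN0 := finrank_HH0_of_deg_one k X hdim hg h0 hN hdegN
  have hHom : Module.finrank k (Coh.structureModule X ⟶ N) = 1 := by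
    rw [(CurveIdeal.thetaEquiv k N).finrank_eq, hN0]
  haveI := (CohDevH8.isCoh_structureModule X).1
  have hpa : Curv2.euler k X (Coh.structureModule X) = 0 := by
    rw [CurveRR.euler_eq_sub k X hdim.le (Coh.structureModule X), h0]
    have : Module.finrank k (Coh.HH X (Coh.structureModule X) 1) = 1 := hg
    rw [this]
    norm_num
  haveI : (Groth.Agent.TensInv.tR N).IsEquivalence :=
    Groth.Agent.TensInv.isEquivalence_tR (Groth.Agent.TensInv.swap ⟨eN⟩)
  have hι := idealModι_point_ne_zero k X hpa P hP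
  have hι' := idealModι_point_ne_zero k X hpa P' hP'
  have hf : φ.hom ≫ ClSub.idealModι ZP' ≠ 0 := by
    intro h
    apply hι'
    rw [← cancel_epi φ.hom, h, comp_zero]
  obtain ⟨θ, hθ, hfac⟩ := exists_auto_of_finrank_one (k := k) (Groth.Agent.TensInv.tR N)
    (I := ClSub.idealMod ZP) (O := Coh.structureModule X) (N := N) eN
    (Groth.Agent.CMMul.unitorL N) hHom (ClSub.idealModι ZP) (φ.hom ≫ ClSub.idealModι ZP') hι hf
  -- the cokernels agree
  have hfac' : ClSub.idealModι ZP' = (φ.inv ≫ θ) ≫ ClSub.idealModι ZP := by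
    rw [Category.assoc, ← hfac, Iso.inv_hom_id_assoc]
  have eQ : ClSub.quotMod ZP' ≅ ClSub.quotMod ZP :=
    (CurveIdeal.cokernelIso ZP').symm ≪≫ cokernelIsoOfEq hfac' ≪≫
      cokernelEpiComp (φ.inv ≫ θ) (ClSub.idealModι ZP) ≪≫ CurveIdeal.cokernelIso ZP
  have hs1 : CohB1.support (ClSub.quotMod ZP') ⊆ {P} := by
    have := CurveIdeal.support_quotMod_subset ZP eQ.symm
    rwa [hZP, Scheme.IdealSheafData.coe_support_vanishingIdeal] at this
  have hs2 : CohB1.support (ClSub.quotMod ZP') ⊆ {P'} := by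
    have := CurveIdeal.support_quotMod_subset ZP' (Iso.refl _)
    rwa [hZP', Scheme.IdealSheafData.coe_support_vanishingIdeal] at this
  by_contra hne
  have hemp : CohB1.support (ClSub.quotMod ZP') = ∅ := by
    rw [Set.eq_empty_iff_forall_notMem]
    intro y hy
    have e1 : y = P := hs1 hy
    have e2 : y = P' := hs2 hy
    exact hne (e1.symm.trans e2)
  have h1 := one_le_ptDeg k X P' hP'
  unfold ptDeg at h1
  rw [finrank_HH0_eq_zero_of_support_empty k X _ hemp] at h1
  exact absurd h1 (by norm_num)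

end Uniq

end EllPic
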