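import Mathlib
import Groth.Prelude
import Groth.Agent.Lib.SteinFin_helper3
import Groth.Agent.Lib.ConnRedField_helper4

/-!
# The degree of the field of global functions divides all degrees (helper9)

For `X` proper, reduced and connected over a field `k`, `κ = Γ(X, O_X)` is a finite field extension
of `k` and `[κ : k]` divides the `k`-dimension of every cohomology group and of every residue field
(S7639).
APPEND-ONLY once landed.
-/

set_option autoImplicit false
universe u
open CategoryTheory CategoryTheory.Limits AlgebraicGeometry Opposite TopologicalSpace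

namespace GammaDvd

/-- over an `IsField` ring every module is free -/
theorem free_of_isField {Γ V : Type u} [CommRing Γ] (hΓ : IsField Γ) [AddCommGroup V]
    [inst : Module Γ V] : Module.Free Γ V := by
  letI := hΓ.toField
  exact @Module.Free.of_divisionRing Γ V _ _ inst

theorem finrank_dvd {k Γ V : Type u} [Field k] [CommRing Γ] [Algebra k Γ] (hΓ : IsField Γ)
    [AddCommGroup V] [Module Γ V] [Module k V] [IsScalarTower k Γ V] :
    Module.finrank k Γ ∣ Module.finrank k V := by
  haveI := free_of_isField (V := V) hΓ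
  haveI : Nontrivial Γ := hΓ.nontrivial
  exact ⟨_, (Module.finrank_mul_finrank k Γ V).symm⟩

theorem dvd_finsum {w : ℤ} (f : ℕ → ℤ) (h : ∀ i, w ∣ f i) : w ∣ ∑ᶠ i, f i := by
  by_cases hfin : (Function.support f).Finite
  · rw [finsum_eq_sum_of_support_subset f (s := hfin.toFinset) (by simp)]
    exact Finset.dvd_sum (fun i _ => h i)
  · rw [finsum_of_infinite_support hfin]
    exact dvd_zero _

section Main

variable (k : Type u) [Field k] (X : Scheme.{u}) [X.Over (Spec (CommRingCat.of k))]

/-- the algebra structure of the statement -/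
noncomputable abbrev algΓ : Algebra k Γ(X, ⊤) :=
  ((X ↘ (Spec (CommRingCat.of k))).appTop.hom.comp
      (Scheme.ΓSpecIso (CommRingCat.of k)).inv.hom).toAlgebra

attribute [local instance] algΓ

theorem finrank_dvd_HH (hΓ : IsField Γ(X, ⊤)) (M : X.Modules) (n : ℕ) :
    Module.finrank k Γ(X, ⊤) ∣ Module.finrank k (Coh.HH X M n) := by
  letI : Module Γ(X, ⊤) (Coh.HH X M n) := Coh.moduleΓtop M n
  haveI : IsScalarTower k Γ(X, ⊤) (Coh.HH X M n) :=
    ⟨fun c g v => by
      have key : ∀ a : Γ(X, ⊤), (a * g) • v = a • (g • v) := fun a => mul_smul _ _ _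
      exact key (Coh.toGlobal (X ↘ Spec (CommRingCat.of k)) c)⟩
  exact finrank_dvd (k := k) (Γ := Γ(X, ⊤)) (V := Coh.HH X M n) hΓ

theorem dvd_euler (hΓ : IsField Γ(X, ⊤)) (M : X.Modules) :
    (Module.finrank k Γ(X, ⊤) : ℤ) ∣ Curv2.euler k X M := by
  unfold Curv2.euler
  refine dvd_finsum _ (fun i => Dvd.dvd.mul_left ?_ _)
  exact Int.natCast_dvd_natCast.mpr (finrank_dvd_HH k X hΓ M i)

theorem dvd_deg (hΓ : IsField Γ(X, ⊤)) (M : X.Modules) (n : ℕ) :
    (Module.finrank k Γ(X, ⊤) : ℤ) ∣ Curv2.deg k X M n := by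
  unfold Curv2.deg
  exact dvd_sub (dvd_euler k X hΓ M) (Dvd.dvd.mul_left (dvd_euler k X hΓ _) _)

attribute [local instance] Curv2.resAlgebra

theorem dvd_finrank_residueField (hΓ : IsField Γ(X, ⊤)) (x : X) :
    Module.finrank k Γ(X, ⊤) ∣ Module.finrank k (X.residueField x) := by
  letI : Algebra Γ(X, ⊤) (X.residueField x) :=
    ((X.residue x).hom.comp (X.presheaf.germ ⊤ x trivial).hom).toAlgebra
  haveI : IsScalarTower k Γ(X, ⊤) (X.residueField x) :=
    IsScalarTower.of_algebraMap_eq (fun c => rfl)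
  exact finrank_dvd (k := k) (Γ := Γ(X, ⊤)) (V := X.residueField x) hΓ

variable [IsProper (X ↘ (Spec (CommRingCat.of k)))]

theorem finite_Γ : Module.Finite k Γ(X, ⊤) :=
  SteinFinH3.finite_comp_of_isProper k (X ↘ (Spec (CommRingCat.of k)))

include k in
theorem isField_Γ [IsReduced X] [ConnectedSpace X] : IsField Γ(X, ⊤) := by
  have h := Groth.Agent.Lib.ConnRedFieldH4.main7618 k X
  haveI := finite_Γ k X
  haveI : Algebra.IsIntegral k Γ(X, ⊤) := Algebra.IsIntegral.of_finite k _
  have htop : integralClosure k Γ(X, ⊤) = ⊤ := integralClosure_eq_top_iff.mpr inferInstance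
  rw [htop] at h
  exact (Subalgebra.topEquiv (R := k) (A := Γ(X, ⊤))).symm.toMulEquiv.isField h

end Main

end GammaDvd
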