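import Mathlib
import Groth.Prelude
import Groth.Agent.Lib.BirCurve1_helper9
import Groth.Agent.Lib.TensBasis6_helper9
import Groth.Agent.Lib.CurveVan1_helper9

/-!
# Non-constant morphisms of proper curves are finite; the generic rank of `f_* O_X` (helper9)
APPEND-ONLY once landed.
-/

set_option autoImplicit false
universe u
open CategoryTheory CategoryTheory.Limits AlgebraicGeometry Opposite TopologicalSpace

namespace DegPull

section Points

variable {X : Scheme.{u}} [IsIntegral X]

/-- on an integral scheme of dimension at most one every point other than the generic point is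
closed -/
theorem isClosed_singleton_of_ne_generic (hdim : topologicalKrullDim X ≤ 1) (x : X)
    (hx : x ≠ genericPoint X) : IsClosed ({x} : Set X) := by
  have hne : closure ({x} : Set X) ≠ Set.univ := fun h =>
    hx ((genericPoint_spec X).eq (show IsGenericPoint x Set.univ from h)).symm
  let U : X.Opens := ⟨(closure ({x} : Set X))ᶜ, isClosed_closure.isOpen_compl⟩
  have hU : (U : Set X).Nonempty := by
    rw [Set.nonempty_iff_ne_empty]
    intro h
    apply hne
    have h1 : (closure ({x} : Set X))ᶜ = ∅ := h
    rw [Set.compl_empty_iff] at h1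
    exact h1
  exact CurveVan.isClosed_singleton_of_notMem_open hdim U hU x
    (fun h => h (subset_closure (Set.mem_singleton x)))

/-- the generic point of an integral scheme of dimension one is not closed -/
theorem not_isClosed_generic (hdim : topologicalKrullDim X = 1) :
    ¬ IsClosed ({genericPoint X} : Set X) := by
  intro h
  have h1 : ({genericPoint X} : Set X) = Set.univ := by
    rw [← h.closure_eq]
    exact genericPoint_spec X
  haveI : Subsingleton X := by
    refine ⟨fun a b => ?_⟩
    have ha : a ∈ ({genericPoint X} : Set X) := by rw [h1]; trivial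
    have hb : b ∈ ({genericPoint X} : Set X) := by rw [h1]; trivial
    rw [Set.mem_singleton_iff] at ha hb
    rw [ha, hb]
  have h2 : topologicalKrullDim X ≤ 0 := by
    unfold topologicalKrullDim
    haveI : Subsingleton (IrreducibleCloseds X) := by
      refine ⟨fun a b => ?_⟩
      apply IrreducibleCloseds.ext
      obtain ⟨xa, hxa⟩ := a.isIrreducible'.nonempty
      obtain ⟨xb, hxb⟩ := b.isIrreducible'.nonempty
      ext z
      constructor
      · intro _
        rw [Subsingleton.elim z xb]
        exact hxb
      · intro _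
        rw [Subsingleton.elim z xa]
        exact hxa
    exact Order.krullDim_nonpos_of_subsingleton
  rw [hdim] at h2
  exact absurd h2 (by decide)

end Points

section Finite

variable (k : Type u) [Field k] {X Y : Scheme.{u}}
  [X.Over (Spec (CommRingCat.of k))] [Y.Over (Spec (CommRingCat.of k))] [IsIntegral X] [IsIntegral Y]
  [IsProper (X ↘ Spec (CommRingCat.of k))] [IsProper (Y ↘ Spec (CommRingCat.of k))]

/-- a non-constant morphism of proper integral curves is finite -/
theorem isFinite_of_dominant (hX : topologicalKrullDim X = 1) (hY : topologicalKrullDim Y = 1)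
    (f : X ⟶ Y) (hf : f ≫ (Y ↘ Spec (CommRingCat.of k)) = X ↘ Spec (CommRingCat.of k))
    (hξ : f (genericPoint X) = genericPoint Y) : IsFinite f := by
  haveI : IsLocallyNoetherian X :=
    LocallyOfFiniteType.isLocallyNoetherian (X ↘ Spec (CommRingCat.of k))
  haveI : CompactSpace X :=
    QuasiCompact.compactSpace_of_compactSpace (X ↘ Spec (CommRingCat.of k))
  haveI : IsProper (f ≫ (Y ↘ Spec (CommRingCat.of k))) := by rw [hf]; infer_instance
  haveI : IsProper f := IsProper.of_comp f (Y ↘ Spec (CommRingCat.of k))
  have hfib : ∀ y : Y, (f ⁻¹' {y}).Finite := by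
    intro y
    by_cases hy : y = genericPoint Y
    · -- the fibre over the generic point is the generic point
      refine Set.Finite.subset (Set.finite_singleton (genericPoint X)) ?_
      intro x hx
      rw [Set.mem_singleton_iff]
      by_contra hne
      have hcl := isClosed_singleton_of_ne_generic hX.le x hne
      have hcl' : IsClosed (f '' ({x} : Set X)) := f.isClosedMap _ hcl
      rw [Set.image_singleton] at hcl'
      have hx' : f x = y := hx
      rw [hx', hy] at hcl'
      exact not_isClosed_generic hY hcl'
    · have hcl : IsClosed ({y} : Set Y) := isClosed_singleton_of_ne_generic hY.le y hy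
      have hcl' : IsClosed (f ⁻¹' {y}) := hcl.preimage f.continuous
      refine TensBasis.finite_of_closed_points _ hcl' (fun x hx => ?_)
      refine isClosed_singleton_of_ne_generic hX.le x (fun hxg => ?_)
      apply hy
      have hx' : f x = y := hx
      rw [← hx', hxg, hξ]
  haveI : LocallyQuasiFinite f := LocallyQuasiFinite.of_finite_preimage_singleton f hfib
  exact IsFinite.of_isProper_of_locallyQuasiFinite f

end Finite

section Frac

variable {X : Scheme.{u}} [IsIntegral X]

/-- the residue field at the generic point is the fraction field of the sections over any affine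
open -/
theorem isFractionRing_residueField (U : X.Opens) (hU : IsAffineOpen U) (x : X)
    (hx : x = genericPoint X) (hxU : x ∈ U) :
    letI := (X.evaluation U x hxU).hom.toAlgebra
    IsFractionRing Γ(X, U) (X.residueField x) := by
  subst hx
  haveI : Nonempty U := ⟨⟨_, hxU⟩⟩
  haveI := functionField_isFractionRing_of_isAffineOpen X U hU
  letI := (X.evaluation U (genericPoint X) hxU).hom.toAlgebra
  let res : X.functionField →+* X.residueField (genericPoint X) := (X.residue (genericPoint X)).hom
  have hinj : Function.Injective res := RingHom.injective res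
  have hsurj : Function.Surjective res := IsLocalRing.residue_surjective
  let resA : X.functionField →ₐ[Γ(X, U)] X.residueField (genericPoint X) :=
    { res with commutes' := fun r => rfl }
  exact IsLocalization.isLocalization_of_algEquiv _
    (AlgEquiv.ofBijective resA ⟨hinj, hsurj⟩)

end Frac

section Rank

variable {X Y : Scheme.{u}} [IsIntegral X] [IsIntegral Y]

/-- if `O_X(f⁻¹ W)` is free of rank `d` over `O_Y(W)` for a nonempty affine open `W` with affine
preimage, then the degree of the function field extension is `d` -/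
theorem residueDegree_eq (f : X ⟶ Y) (hξ : f (genericPoint X) = genericPoint Y)
    (W : Y.Opens) (hW : IsAffineOpen W) (hW' : IsAffineOpen (f ⁻¹ᵁ W)) (hne : genericPoint Y ∈ W)
    (d : ℕ) (g : Fin d → Γ(X, f ⁻¹ᵁ W))
    (hg : letI := (f.app W).hom.toAlgebra
      Submodule.span Γ(Y, W) (Set.range g) = ⊤)
    (hli : letI := (f.app W).hom.toAlgebra
      LinearIndependent Γ(Y, W) g) :
    f.residueDegree (genericPoint X) = d := by
  have hξW : f (genericPoint X) ∈ W := hξ ▸ hne
  have hξW' : genericPoint X ∈ f ⁻¹ᵁ W := hξW
  letI aBC : Algebra Γ(Y, W) Γ(X, f ⁻¹ᵁ W) := (f.app W).hom.toAlgebra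
  letI aBK : Algebra Γ(Y, W) (Y.residueField (f (genericPoint X))) :=
    (Y.evaluation W (f (genericPoint X)) hξW).hom.toAlgebra
  letI aCL : Algebra Γ(X, f ⁻¹ᵁ W) (X.residueField (genericPoint X)) :=
    (X.evaluation (f ⁻¹ᵁ W) (genericPoint X) hξW').hom.toAlgebra
  letI aKL : Algebra (Y.residueField (f (genericPoint X))) (X.residueField (genericPoint X)) :=
    (f.residueFieldMap (genericPoint X)).hom.toAlgebra
  letI aBL : Algebra Γ(Y, W) (X.residueField (genericPoint X)) :=
    (f.app W ≫ X.evaluation (f ⁻¹ᵁ W) (genericPoint X) hξW').hom.toAlgebra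
  haveI t1 : IsScalarTower Γ(Y, W) Γ(X, f ⁻¹ᵁ W) (X.residueField (genericPoint X)) :=
    IsScalarTower.of_algebraMap_eq' rfl
  haveI t2 : IsScalarTower Γ(Y, W) (Y.residueField (f (genericPoint X)))
      (X.residueField (genericPoint X)) := by
    apply IsScalarTower.of_algebraMap_eq'
    have h := Scheme.evaluation_naturality f (genericPoint X) hξW
    exact (congrArg CommRingCat.Hom.hom h).symm
  haveI fB : IsFractionRing Γ(Y, W) (Y.residueField (f (genericPoint X))) :=
    isFractionRing_residueField W hW (f (genericPoint X)) hξ hξW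
  haveI fC : IsFractionRing Γ(X, f ⁻¹ᵁ W) (X.residueField (genericPoint X)) :=
    isFractionRing_residueField (f ⁻¹ᵁ W) hW' (genericPoint X) rfl hξW'
  haveI : Nonempty W := ⟨⟨_, hne⟩⟩
  haveI : Nonempty (f ⁻¹ᵁ W) := ⟨⟨_, hξW'⟩⟩
  haveI : IsDomain Γ(Y, W) := inferInstance
  haveI : IsDomain Γ(X, f ⁻¹ᵁ W) := inferInstance
  let b : Module.Basis (Fin d) Γ(Y, W) Γ(X, f ⁻¹ᵁ W) := Module.Basis.mk hli hg.ge
  haveI : Module.Free Γ(Y, W) Γ(X, f ⁻¹ᵁ W) := Module.Free.of_basis b
  haveI : Module.Finite Γ(Y, W) Γ(X, f ⁻¹ᵁ W) := Module.Finite.of_basis b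
  haveI : Algebra.IsIntegral Γ(Y, W) Γ(X, f ⁻¹ᵁ W) := Algebra.IsIntegral.of_finite _ _
  haveI : Algebra.IsAlgebraic Γ(Y, W) Γ(X, f ⁻¹ᵁ W) := inferInstance
  have hinj : Function.Injective (algebraMap Γ(Y, W) Γ(X, f ⁻¹ᵁ W)) := by
    intro a a' haa
    apply IsFractionRing.injective Γ(Y, W) (Y.residueField (f (genericPoint X)))
    apply RingHom.injective (algebraMap (Y.residueField (f (genericPoint X)))
      (X.residueField (genericPoint X)))
    rw [← IsScalarTower.algebraMap_apply, ← IsScalarTower.algebraMap_apply,
      IsScalarTower.algebraMap_apply Γ(Y, W) Γ(X, f ⁻¹ᵁ W) (X.residueField (genericPoint X)),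
      IsScalarTower.algebraMap_apply Γ(Y, W) Γ(X, f ⁻¹ᵁ W) (X.residueField (genericPoint X)),
      haa]
  haveI : FaithfulSMul Γ(Y, W) Γ(X, f ⁻¹ᵁ W) :=
    (faithfulSMul_iff_algebraMap_injective _ _).mpr hinj
  have hbc := Algebra.IsAlgebraic.isBaseChange_of_isFractionRing Γ(Y, W) Γ(X, f ⁻¹ᵁ W)
    (Y.residueField (f (genericPoint X))) (X.residueField (genericPoint X))
  have h1 := hbc.finrank_eq
  have h2 : Module.finrank Γ(Y, W) Γ(X, f ⁻¹ᵁ W) = d := by
    rw [Module.finrank_eq_card_basis b, Fintype.card_fin]
  unfold Scheme.Hom.residueDegree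
  exact h1.trans h2

end Rank

end DegPull
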