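import Mathlib
import Groth.Prelude
import Groth.Agent.Lib.DegPull1_helper9
import Groth.Agent.Lib.DegPull2_helper9
import Groth.Agent.Lib.FLF1_helper8

/-!
# The degree of a pullback along a non-constant morphism of proper curves (helper9)

`deg (f^* E) = [K(X) : K(Y)] · deg E` (statement of S7640).
APPEND-ONLY once landed.
-/

set_option autoImplicit false
universe u
open CategoryTheory CategoryTheory.Limits AlgebraicGeometry Opposite TopologicalSpace

namespace DegPull

open QcqsLoc QCohExtn SerreCrit Groth.Agent.TensInv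

section Main

variable (k : Type u) [Field k] {X Y : Scheme.{u}}
  [X.Over (Spec (CommRingCat.of k))] [Y.Over (Spec (CommRingCat.of k))] [IsIntegral X] [IsIntegral Y]
  [IsProper (X ↘ Spec (CommRingCat.of k))] [IsProper (Y ↘ Spec (CommRingCat.of k))]

/-- **statement of S7640** -/
theorem deg_pullback (hX : topologicalKrullDim X = 1) (hY : topologicalKrullDim Y = 1)
    (f : X ⟶ Y) (hf : f ≫ (Y ↘ Spec (CommRingCat.of k)) = X ↘ Spec (CommRingCat.of k))
    (hξ : f (genericPoint X) = genericPoint Y)
    (n : ℕ) (E : Y.Modules) (hE : FlatMod.IsFinLocFreeOfRank n E) :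
    Curv2.deg k X ((Scheme.Modules.pullback f).obj E) n =
      (f.residueDegree (genericPoint X) : ℤ) * Curv2.deg k Y E n := by
  haveI : IsLocallyNoetherian Y :=
    LocallyOfFiniteType.isLocallyNoetherian (Y ↘ Spec (CommRingCat.of k))
  haveI : IsFinite f := isFinite_of_dominant k hX hY f hf hξ
  have hE' := TensBasis.isFinLocFree_of_rank hE
  have hAc := BirCurve.isCoh_push_OO f
  haveI := hAc.1
  haveI : SheafOfModules.IsFiniteType (R := Y.ringCatSheaf)
    ((Scheme.Modules.pushforward f).obj (OO X)) := hAc.2
  -- an affine neighbourhood of the generic point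
  obtain ⟨_, ⟨U₀, hU₀ : IsAffineOpen U₀, rfl⟩, hηU₀, -⟩ :=
    (Y.isBasis_affineOpens).exists_subset_of_mem_open (Set.mem_univ (genericPoint Y)) isOpen_univ
  have hηU₀' : genericPoint Y ∈ U₀ := hηU₀
  haveI : IsNoetherianRing Γ(Y, U₀) := IsLocallyNoetherian.component_noetherian ⟨U₀, hU₀⟩
  haveI : Module.Finite Γ(Y, U₀) Γ((Scheme.Modules.pushforward f).obj (OO X), U₀) :=
    QCohFT.finite_of_isFiniteType _ hU₀
  haveI : Module.FinitePresentation Γ(Y, U₀) Γ((Scheme.Modules.pushforward f).obj (OO X), U₀) :=
    Module.finitePresentation_of_finite _ _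
  letI : Field (Y.presheaf.stalk (genericPoint Y)) := inferInstanceAs (Field Y.functionField)
  have hfree : Module.Free (Y.presheaf.stalk (genericPoint Y))
      (((Scheme.Modules.pushforward f).obj (OO X)).presheaf.stalk (genericPoint Y)) :=
    Module.Free.of_divisionRing _ _
  obtain ⟨r, hηr, d, g, hg, hli⟩ := FLFH8.exists_basis_basicOpen
    ((Scheme.Modules.pushforward f).obj (OO X)) hU₀ hηU₀' hfree
  have hW : IsAffineOpen (Y.basicOpen r) := hU₀.basicOpen r
  have hWd : Dense ((Y.basicOpen r : Y.Opens) : Set Y) :=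
    (Y.basicOpen r).isOpen.dense ⟨_, hηr⟩
  have hW' : IsAffineOpen (f ⁻¹ᵁ (Y.basicOpen r)) := hW.preimage f
  have key := phi_eq_mul_deg k Y hY.le hE hAc hW hWd g hg hli
  -- the rank
  have hd : f.residueDegree (genericPoint X) = d := by
    letI := (f.app (Y.basicOpen r)).hom.toAlgebra
    let e := BirCurve.pushSecEquiv f (Y.basicOpen r)
    refine residueDegree_eq f hξ (Y.basicOpen r) hW hW' hηr d (fun i => e.symm (g i)) ?_ ?_
    · have h1 : Set.range (fun i => e.symm (g i)) = e.symm '' Set.range g := by
        rw [← Set.range_comp]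
        rfl
      change Submodule.span Γ(Y, Y.basicOpen r) (Set.range (fun i => e.symm (g i))) = ⊤
      have h2 := Submodule.map_span e.symm.toLinearMap (Set.range g)
      rw [hg, Submodule.map_top, LinearMap.range_eq_top.mpr e.symm.surjective] at h2
      rw [h1]
      exact h2.symm
    · exact hli.map' e.symm.toLinearMap (LinearEquiv.ker e.symm)
  -- transfer of Euler characteristics
  have hpE := PBH8.isFinLocFree_pullback f hE'
  haveI : ((Scheme.Modules.pullback f).obj E).IsQuasicoherent :=
    (KerFreeH8.isCoh_of_finLocFree hpE).1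
  haveI : (OO X).IsQuasicoherent := SerreCrit.isQuasicoherent_OO
  have h6 : Curv2.euler k X ((Scheme.Modules.pullback f).obj E) =
      Curv2.euler k Y (CohB1.tensorMod ((Scheme.Modules.pushforward f).obj (OO X)) E) := by
    rw [← BirCurve.euler_push k f hf ((Scheme.Modules.pullback f).obj E)]
    refine CurveTens.euler_of_iso k Y ?_
    refine (Scheme.Modules.pushforward f).mapIso (rightUnit ((Scheme.Modules.pullback f).obj E)).symm
      ≪≫ ?_
    refine ((PFormH9.projIso f E hE').app (OO X)).symm ≪≫ ?_
    exact comm E ((Scheme.Modules.pushforward f).obj (OO X))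
  have h7 : Curv2.euler k X (OO X) =
      Curv2.euler k Y ((Scheme.Modules.pushforward f).obj (OO X)) :=
    (BirCurve.euler_push k f hf (OO X)).symm
  unfold phi at key
  unfold Curv2.deg
  rw [h6, h7, hd]
  exact key

end Main

end DegPull
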