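import Mathlib
import Groth.Prelude
import Groth.Agent.Lib.DegPull2_helper9

/-!
# A finite morphism of degree one onto a normal integral scheme is an isomorphism (helper9)
APPEND-ONLY once landed.
-/

set_option autoImplicit false
universe u
open CategoryTheory CategoryTheory.Limits AlgebraicGeometry Opposite TopologicalSpace

namespace P1Iso

section Alg

/-- `B → A` integral with `B` integrally closed and `Frac B → Frac A` surjective is surjective -/
theorem surjective_of_integral_of_frac_surjective {B A KB KA : Type*} [CommRing B] [CommRing A]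
    [Field KB] [Field KA] [Algebra B A] [Algebra B KB] [Algebra A KA] [Algebra KB KA] [Algebra B KA]
    [IsScalarTower B A KA] [IsScalarTower B KB KA] [IsDomain B] [IsFractionRing B KB]
    [IsIntegrallyClosed B]
    (hA : Function.Injective (algebraMap A KA)) (hint : Algebra.IsIntegral B A)
    (hsurj : Function.Surjective (algebraMap KB KA)) : Function.Surjective (algebraMap B A) := by
  intro a
  obtain ⟨q, hq⟩ := hsurj (algebraMap A KA a)
  have h1 : IsIntegral B (algebraMap A KA a) :=
    (hint.isIntegral a).map (IsScalarTower.toAlgHom B A KA)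
  rw [← hq] at h1
  have h2 : IsIntegral B q :=
    (isIntegral_algebraMap_iff (algebraMap KB KA).injective).mp h1
  obtain ⟨b, hb⟩ := (IsIntegrallyClosed.isIntegral_iff (R := B) (K := KB)).mp h2
  refine ⟨b, hA ?_⟩
  rw [← IsScalarTower.algebraMap_apply B A KA, IsScalarTower.algebraMap_apply B KB KA, hb, hq]

end Alg

section Normal

variable {Y : Scheme.{u}} [IsIntegral Y]

/-- sections over a nonempty affine open of an integral scheme with integrally closed stalks are
integrally closed -/
theorem isIntegrallyClosed_of_stalks (hn : ∀ y : Y, IsIntegrallyClosed (Y.presheaf.stalk y))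
    (V : Y.Opens) (hV : IsAffineOpen V) [Nonempty V] : IsIntegrallyClosed Γ(Y, V) := by
  apply IsIntegrallyClosed.of_localization_maximal
  intro P _ hP
  letI : Algebra Γ(Y, V) (Y.presheaf.stalk (hV.fromSpec ⟨P, hP.isPrime⟩)) :=
    TopCat.Presheaf.algebra_section_stalk Y.presheaf ⟨hV.fromSpec ⟨P, hP.isPrime⟩,
      (hV.isoSpec.inv _).2⟩
  haveI : IsLocalization.AtPrime (Y.presheaf.stalk (hV.fromSpec ⟨P, hP.isPrime⟩)) P :=
    hV.isLocalization_stalk' ⟨P, hP.isPrime⟩ (hV.isoSpec.inv _).2
  haveI := hn (hV.fromSpec ⟨P, hP.isPrime⟩)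
  exact IsIntegrallyClosed.of_equiv
    (IsLocalization.algEquiv P.primeCompl (Y.presheaf.stalk (hV.fromSpec ⟨P, hP.isPrime⟩))
      (Localization.AtPrime P)).toRingEquiv

end Normal

section Iso

variable {X Y : Scheme.{u}} [IsIntegral X] [IsIntegral Y]

/-- the key bijectivity on affine opens -/
theorem bijective_app_of_degree_one (f : X ⟶ Y) [IsFinite f]
    (hξ : f (genericPoint X) = genericPoint Y)
    (hdeg : Function.Surjective (f.residueFieldMap (genericPoint X)).hom)
    (hn : ∀ y : Y, IsIntegrallyClosed (Y.presheaf.stalk y))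
    (W : Y.Opens) (hW : IsAffineOpen W) : Function.Bijective (f.app W).hom := by
  by_cases hne : (W : Set Y).Nonempty
  swap
  · -- both rings are trivial
    rw [Set.not_nonempty_iff_eq_empty] at hne
    have hW0 : W = ⊥ := by
      ext y
      simp [hne]
    subst hW0
    haveI : Subsingleton Γ(X, f ⁻¹ᵁ ⊥) := by
      have : f ⁻¹ᵁ (⊥ : Y.Opens) = ⊥ := rfl
      rw [this]
      infer_instance
    exact ⟨fun a b _ => Subsingleton.elim _ _, fun b => ⟨0, Subsingleton.elim _ _⟩⟩
  have hne' : genericPoint Y ∈ W :=
    ((genericPoint_spec Y).mem_open_set_iff W.isOpen).mpr (by simpa using hne)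
  have hξW : f (genericPoint X) ∈ W := hξ ▸ hne'
  have hξW' : genericPoint X ∈ f ⁻¹ᵁ W := hξW
  have hW' : IsAffineOpen (f ⁻¹ᵁ W) := hW.preimage f
  haveI : Nonempty W := ⟨⟨_, hne'⟩⟩
  haveI : Nonempty (f ⁻¹ᵁ W : X.Opens) := ⟨⟨_, hξW'⟩⟩
  letI aBC : Algebra Γ(Y, W) Γ(X, f ⁻¹ᵁ W) := (f.app W).hom.toAlgebra
  letI aBK : Algebra Γ(Y, W) (Y.residueField (f (genericPoint X))) :=
    (Y.evaluation W (f (genericPoint X)) hξW).hom.toAlgebra
  letI aCL : Algebra Γ(X, f ⁻¹ᵁ W) (X.residueField (genericPoint X)) :=
    (X.evaluation (f ⁻¹ᵁ W) (genericPoint X) hξW').hom.toAlgebra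
  letI aKL : Algebra (Y.residueField (f (genericPoint X))) (X.residueField (genericPoint X)) :=
    (f.residueFieldMap (genericPoint X)).hom.toAlgebra
  letI aBL : Algebra Γ(Y, W) (X.residueField (genericPoint X)) :=
    (f.app W ≫ X.evaluation (f ⁻¹ᵁ W) (genericPoint X) hξW').hom.toAlgebra
  haveI t1 : IsScalarTower Γ(Y, W) Γ(X, f ⁻¹ᵁ W) (X.residueField (genericPoint X)) :=
    IsScalarTower.of_algebraMap_eq' rfl
  haveI t2 : IsScalarTower Γ(Y, W) (Y.residueField (f (genericPoint X)))
      (X.residueField (genericPoint X)) := by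
    apply IsScalarTower.of_algebraMap_eq'
    have h := Scheme.evaluation_naturality f (genericPoint X) hξW
    exact (congrArg CommRingCat.Hom.hom h).symm
  haveI fB : IsFractionRing Γ(Y, W) (Y.residueField (f (genericPoint X))) :=
    DegPull.isFractionRing_residueField W hW (f (genericPoint X)) hξ hξW
  haveI fC : IsFractionRing Γ(X, f ⁻¹ᵁ W) (X.residueField (genericPoint X)) :=
    DegPull.isFractionRing_residueField (f ⁻¹ᵁ W) hW' (genericPoint X) rfl hξW'
  haveI : IsIntegrallyClosed Γ(Y, W) := isIntegrallyClosed_of_stalks hn W hW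
  have hint : Algebra.IsIntegral Γ(Y, W) Γ(X, f ⁻¹ᵁ W) := by
    rw [← algebraMap_isIntegral_iff]
    exact (IsFinite.finite_app f W hW).to_isIntegral
  have hA : Function.Injective (algebraMap Γ(X, f ⁻¹ᵁ W) (X.residueField (genericPoint X))) :=
    IsFractionRing.injective _ _
  have hB : Function.Injective (algebraMap Γ(Y, W) (Y.residueField (f (genericPoint X)))) :=
    IsFractionRing.injective _ _
  constructor
  · -- injectivity
    intro b b' hbb
    apply hB
    apply (algebraMap (Y.residueField (f (genericPoint X)))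
      (X.residueField (genericPoint X))).injective
    rw [← IsScalarTower.algebraMap_apply, ← IsScalarTower.algebraMap_apply,
      IsScalarTower.algebraMap_apply Γ(Y, W) Γ(X, f ⁻¹ᵁ W) (X.residueField (genericPoint X)) b,
      IsScalarTower.algebraMap_apply Γ(Y, W) Γ(X, f ⁻¹ᵁ W) (X.residueField (genericPoint X)) b']
    exact congrArg _ hbb
  · exact surjective_of_integral_of_frac_surjective
      (KB := Y.residueField (f (genericPoint X))) (KA := X.residueField (genericPoint X))
      hA hint hdeg

/-- **a finite morphism of degree one onto a normal integral scheme is an isomorphism** -/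
theorem isIso_of_degree_one (f : X ⟶ Y) [IsFinite f]
    (hξ : f (genericPoint X) = genericPoint Y)
    (hdeg : Function.Surjective (f.residueFieldMap (genericPoint X)).hom)
    (hn : ∀ y : Y, IsIntegrallyClosed (Y.presheaf.stalk y)) : IsIso f := by
  show (MorphismProperty.isomorphisms Scheme) f
  refine HasAffineProperty.of_iSup_eq_top (P := MorphismProperty.isomorphisms Scheme)
    (fun V : Y.affineOpens => V) (iSup_affineOpens_eq_top Y) (fun V => ?_)
  beta_reduce
  refine ⟨(V.2.preimage f), ?_⟩
  have hW : IsAffineOpen (V.1.ι ''ᵁ ⊤) := by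
    rw [Scheme.Opens.ι_image_top]
    exact V.2
  haveI : IsIso (f.app (V.1.ι ''ᵁ ⊤)) := by
    rw [ConcreteCategory.isIso_iff_bijective]
    exact bijective_app_of_degree_one f hξ hdeg hn _ hW
  have h2 : IsIso (X.presheaf.map (eqToHom (image_morphismRestrict_preimage f V.1 ⊤)).op) :=
    inferInstance
  rw [morphismRestrict_appTop]
  exact IsIso.comp_isIso' this h2

end Iso

end P1Iso
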