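import Mathlib
import Groth.Prelude
import Groth.Agent.Lib.P1Iso1_helper9
import Groth.Agent.Lib.Horrocks6_helper9
import Groth.Agent.Lib.ProjDim_helper4
import Groth.Agent.Lib.ProjSmooth_helper4
import Groth.Agent.Lib.ProjSpaceProper_helper4
import Groth.Agent.Lib.ProjEuler_helper9
import Groth.Agent.Lib.VBCurve3_helper9
import Groth.Agent.Lib.QuotSec3_helper9
import Groth.Agent.Lib.CurveRR1_helper9
import Groth.Agent.Lib.CurveTens4_helper9
import Groth.Agent.Lib.FinCov3_helper8

/-!
# The projective line over a field as a normal proper curve; `deg O(1) = 1` (helper9)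
APPEND-ONLY once landed.
-/

set_option autoImplicit false
universe u
open CategoryTheory CategoryTheory.Limits AlgebraicGeometry Opposite TopologicalSpace

namespace P1Iso

section P1

variable (k : Type u) [Field k]

/-- `P¹_k` as a `k`-scheme -/
noncomputable abbrev overP1 : (CohB1.ProjSpace 1 k).Over (Spec (CommRingCat.of k)) :=
  ⟨CohB1.ProjSpace.toSpec 1 k⟩

theorem isIntegral_P1 : IsIntegral (CohB1.ProjSpace 1 k) :=
  Groth.Agent.Horrocks.isIntegral_projSpace 1 k

theorem isProper_P1 : IsProper (CohB1.ProjSpace.toSpec 1 k) :=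
  Groth.Agent.Lib.ProjSpaceProperH4.isProper_toSpec 1 k

theorem dim_P1 : topologicalKrullDim (CohB1.ProjSpace 1 k) = 1 := by
  rw [Groth.Agent.Lib.ProjDimH4.main k 1]
  rfl

/-- the local rings of `P¹_k` are integrally closed -/
theorem isIntegrallyClosed_stalk_P1 (y : CohB1.ProjSpace 1 k) :
    IsIntegrallyClosed ((CohB1.ProjSpace 1 k).presheaf.stalk y) := by
  letI := overP1 k
  haveI := isIntegral_P1 k
  haveI : IsProper ((CohB1.ProjSpace 1 k) ↘ Spec (CommRingCat.of k)) := isProper_P1 k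
  haveI : Smooth ((CohB1.ProjSpace 1 k) ↘ Spec (CommRingCat.of k)) :=
    Groth.Agent.Lib.ProjSmoothH4.smooth_toSpec 1 k
  by_cases hy : y = genericPoint (CohB1.ProjSpace 1 k)
  · subst hy
    show IsIntegrallyClosed (CohB1.ProjSpace 1 k).functionField
    infer_instance
  · have hcl := DegPull.isClosed_singleton_of_ne_generic (dim_P1 k).le y hy
    haveI hreg := VBCurve.hreg_of_smooth k (CohB1.ProjSpace 1 k) y
    haveI : IsDiscreteValuationRing ((CohB1.ProjSpace 1 k).presheaf.stalk y) :=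
      QuotSec.isDiscreteValuationRing_of_regular _
        (CurvePtInv.ringKrullDim_stalk_of_closed (dim_P1 k) hcl)
    infer_instance

/-- `deg O(1) = 1` on `P¹_k` -/
theorem deg_O1 :
    letI := overP1 k
    Curv2.deg k (CohB1.ProjSpace 1 k) (Twist.twistProjSpace 1 k 1) 1 = 1 := by
  letI := overP1 k
  haveI := isIntegral_P1 k
  haveI : IsProper ((CohB1.ProjSpace 1 k) ↘ Spec (CommRingCat.of k)) := isProper_P1 k
  haveI : IsLocallyNoetherian (CohB1.ProjSpace 1 k) :=
    LocallyOfFiniteType.isLocallyNoetherian ((CohB1.ProjSpace 1 k) ↘ Spec (CommRingCat.of k))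
  have hdim := dim_P1 k
  have hinv1 := Groth.Agent.Horrocks.isInvertible_OO 1 k 1
  haveI := (ProperFinH9.isCoh_of_isInvertible hinv1).1
  haveI := (CohDevH8.isCoh_structureModule (CohB1.ProjSpace 1 k)).1
  obtain ⟨e0⟩ := Groth.Agent.ProjTens.twist_zero 1 k
  have hinv0 := Groth.Agent.Horrocks.isInvertible_OO 1 k 0
  haveI := (ProperFinH9.isCoh_of_isInvertible hinv0).1
  unfold Curv2.deg
  rw [← CurveTens.euler_of_iso k _ e0,
    CurveRR.euler_eq_sub k (CohB1.ProjSpace 1 k) hdim.le (Twist.twistProjSpace 1 k 1),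
    CurveRR.euler_eq_sub k (CohB1.ProjSpace 1 k) hdim.le (Twist.twistProjSpace 1 k 0)]
  have a1 : Module.finrank k (Coh.HH (CohB1.ProjSpace 1 k) (Twist.twistProjSpace 1 k 1) 0) = 2 :=
    Groth.Agent.ProjEuler.finrank_HH_zero k 1 1
  have a0 : Module.finrank k (Coh.HH (CohB1.ProjSpace 1 k) (Twist.twistProjSpace 1 k 0) 0) = 1 :=
    Groth.Agent.ProjEuler.finrank_HH_zero k 1 0
  have b1 := Groth.Agent.ProjEuler.finrank_HH_eq_zero k 1 1 1 (by omega) (by omega)
  have b0 := Groth.Agent.ProjEuler.finrank_HH_eq_zero k 1 0 1 (by omega) (by omega)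
  rw [a1, a0, b1, b0]
  norm_num

end P1

end P1Iso
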