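import Mathlib
import Groth.Prelude
import Groth.Agent.Lib.P1Iso2_helper9
import Groth.Agent.Lib.DegPull3_helper9
import Groth.Agent.Lib.Tens17_helper8
import Groth.Agent.Lib.Tens14_helper8
import Groth.Agent.Lib.ProjDual2_helper9
import Groth.Agent.Lib.CurveDeg1_helper9
import Groth.Agent.S3572

/-!
# An integral proper curve with a base point free pencil of degree one is the projective line
(helper9).  APPEND-ONLY once landed.
-/

set_option autoImplicit false
universe u
open CategoryTheory CategoryTheory.Limits AlgebraicGeometry Opposite TopologicalSpace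

namespace P1Iso

open QcqsLoc QCohExtn GenLocH8 TensH8 PBH8

instance instIsIntegralP1 (k : Type u) [Field k] : IsIntegral (CohB1.ProjSpace 1 k) :=
  isIntegral_P1 k

section Main

variable (k : Type u) [Field k] (X : Scheme.{u}) [X.Over (Spec (CommRingCat.of k))]
  [IsIntegral X] [IsProper (X ↘ Spec (CommRingCat.of k))]

/-- a morphism to `P¹` pulling `O(1)` back to a module of nonzero degree is not constant -/
theorem generic_of_deg_ne_zero (hdim : topologicalKrullDim X = 1)
    (r : X ⟶ CohB1.ProjSpace 1 k) (L : X.Modules)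
    (τ : (Scheme.Modules.pullback r).obj (Twist.twistProjSpace 1 k 1) ≅ L)
    (hdeg : Curv2.deg k X L 1 ≠ 0) :
    r (genericPoint X) = genericPoint (CohB1.ProjSpace 1 k) := by
  haveI := isIntegral_P1 k
  by_contra hne
  have hcl := DegPull.isClosed_singleton_of_ne_generic (dim_P1 k).le _ hne
  set y := r (genericPoint X) with hy
  have hall : ∀ x : X, r x = y := by
    intro x
    have h1 : genericPoint X ⤳ x := (genericPoint_spec X).specializes (Set.mem_univ x)
    have h2 : r (genericPoint X) ⤳ r x := h1.map r.continuous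
    have h3 : r x ∈ ({y} : Set (CohB1.ProjSpace 1 k)) := h2.mem_closed hcl rfl
    exact h3
  have hinv1 := Groth.Agent.Horrocks.isInvertible_OO 1 k 1
  obtain ⟨W, hW, hyW, e₀, he₀⟩ := exists_isGen hinv1 y
  have htop : r ⁻¹ᵁ W = ⊤ := by
    ext x
    simp only [Opens.coe_top, Set.mem_univ, iff_true]
    show r x ∈ W
    rw [hall x]
    exact hyW
  have hG := isGen_of_iso τ (isGen_cUV r hinv1 hW he₀)
  obtain ⟨m, hm⟩ : ∃ m : Γ(L, ⊤), IsGen L ⊤ m := by
    rw [← htop]
    exact ⟨_, hG⟩
  haveI := Groth.Agent.ProjDual.isIso_unitHom_of_isGen hm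
  apply hdeg
  rw [← CurveTens.deg_of_iso k X (asIso (SDivGenH8.unitHom L m)) 1]
  exact CurveDeg.deg_structureModule k X

/-- **an integral proper curve carrying an invertible module of degree one generated by two
global sections is the projective line** -/
theorem exists_iso_P1 (hdim : topologicalKrullDim X = 1)
    (L : X.Modules) (hL : PicF.IsInvertible L) (hdeg : Curv2.deg k X L 1 = 1)
    (s : Fin 2 → ProjUP.Γm L) (hs : ProjUP.GeneratedBy L s) :
    ∃ e : X ≅ CohB1.ProjSpace 1 k,
      e.hom ≫ CohB1.ProjSpace.toSpec 1 k = X ↘ Spec (CommRingCat.of k) := by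
  obtain ⟨r, hr, τ, -⟩ := Groth.Agent.S3572.result 1 (X ↘ Spec (CommRingCat.of k)) L hL s hs
  letI := overP1 k
  haveI := isIntegral_P1 k
  haveI : IsProper ((CohB1.ProjSpace 1 k) ↘ Spec (CommRingCat.of k)) := isProper_P1 k
  have hr' : r ≫ ((CohB1.ProjSpace 1 k) ↘ Spec (CommRingCat.of k)) =
      X ↘ Spec (CommRingCat.of k) := hr
  have hξ := generic_of_deg_ne_zero k X hdim r L τ (by rw [hdeg]; exact one_ne_zero)
  have hfl : FlatMod.IsFinLocFreeOfRank 1 (Twist.twistProjSpace 1 k 1) :=
    FLFH8.finLocFreeOfRank_one_of_isInvertible (Groth.Agent.Horrocks.isInvertible_OO 1 k 1)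
  have hd := DegPull.deg_pullback k hdim (dim_P1 k) r hr' hξ 1 _ hfl
  rw [CurveTens.deg_of_iso k X τ 1, hdeg, deg_O1 k, mul_one] at hd
  have hd1 : r.residueDegree (genericPoint X) = 1 := by exact_mod_cast hd.symm
  haveI : IsFinite r := DegPull.isFinite_of_dominant k hdim (dim_P1 k) r hr' hξ
  have hsurj : Function.Surjective (r.residueFieldMap (genericPoint X)).hom := by
    letI := (r.residueFieldMap (genericPoint X)).hom.toAlgebra
    have h1 : Module.finrank ((CohB1.ProjSpace 1 k).residueField (r (genericPoint X)))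
        (X.residueField (genericPoint X)) = 1 := hd1
    intro z
    obtain ⟨c, hc⟩ := (finrank_eq_one_iff_of_nonzero'
      (1 : X.residueField (genericPoint X)) one_ne_zero).mp h1 z
    refine ⟨c, ?_⟩
    rw [← hc, Algebra.smul_def, mul_one]
    rfl
  haveI : IsIso r := isIso_of_degree_one r hξ hsurj (isIntegrallyClosed_stalk_P1 k)
  exact ⟨asIso r, hr⟩

end Main

end P1Iso
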