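import Mathlib
import Groth.Prelude
import Groth.Agent.Lib.P1Iso3_helper9
import Groth.Agent.Lib.GammaDvd_helper9
import Groth.Agent.Lib.CurveGG3_helper9
import Groth.Agent.Lib.CurveIdeal1_helper9
import Groth.Agent.Lib.H0Const_helper4
import Groth.Agent.Lib.SecOrd1_helper8
import Groth.Agent.Lib.Tens32_helper8

/-!
# Curves of genus zero with an invertible module of degree one are projective lines (helper9)
APPEND-ONLY once landed.
-/

set_option autoImplicit false
universe u
open CategoryTheory CategoryTheory.Limits AlgebraicGeometry Opposite TopologicalSpace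

namespace P1Iso

open QcqsLoc QCohExtn GenLocH8 TensH8 PBH8 FLFH8 CurveAmple Groth.Agent.HHVan

section Gen

variable (k : Type u) [Field k] {X : Scheme.{u}} [X.Over (Spec (CommRingCat.of k))]

/-- the global section attached to a morphism `O ⟶ L` -/
noncomputable def secOf {L : X.Modules} (σ : Coh.structureModule X ⟶ L) : ProjUP.Γm L :=
  ap σ ⊤ (toM (1 : Γ(X, ⊤)))

/-- a family of morphisms `O ⟶ L` spanning `Hom(O, L)` over `k` generates `L` as soon as every
point has a generating section -/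
theorem generatedBy_of_span {L : X.Modules} {ι : Type*} [Fintype ι]
    (b : ι → (Coh.structureModule X ⟶ L))
    (hspan : ∀ σ : Coh.structureModule X ⟶ L, ∃ c : ι → k, σ = ∑ i, c i • b i)
    (hgg : ∀ x : X, ∃ σ : Coh.structureModule X ⟶ L, CurveLin.GenAt L σ x) :
    ProjUP.GeneratedBy L (fun i => secOf (b i)) := by
  intro x
  obtain ⟨σ, V, hxV, he⟩ := hgg x
  obtain ⟨h1, -⟩ := SecOrdH8.stalk_gen he hxV
  rw [eq_top_iff]
  intro z _
  obtain ⟨a, rfl⟩ := h1 z
  apply Submodule.smul_mem
  -- the germ of `σ(1)`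
  have h2 : L.presheaf.germ V x hxV (ap σ V (toM (1 : Γ(X, V)))) =
      L.presheaf.germ ⊤ x trivial (ap σ ⊤ (toM (1 : Γ(X, ⊤)))) := by
    rw [← CurveLin.ap_one_res σ (le_top : V ≤ ⊤), SecOrdH8.germ_rF]
  rw [h2]
  obtain ⟨c, hc⟩ := hspan σ
  rw [hc, ap_sum_hom, map_sum]
  refine Submodule.sum_mem _ (fun i _ => ?_)
  have h3 : ap (c i • b i) ⊤ (toM (1 : Γ(X, ⊤))) =
      X.presheaf.map (homOfLE (le_top : (⊤ : X.Opens) ≤ ⊤)).op
        (Coh.toGlobal (X ↘ Spec (CommRingCat.of k)) (c i)) • ap (b i) ⊤ (toM (1 : Γ(X, ⊤))) :=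
    KLin.smul_app_apply (c i) (b i) ⊤ (toM (1 : Γ(X, ⊤)))
  rw [h3, Groth.Agent.Lib.QCohLoc_helper4.germ_smul]
  apply Submodule.smul_mem
  apply Submodule.subset_span
  exact ⟨i, rfl⟩

end Gen

section Genus0

variable (k : Type u) [Field k] (X : Scheme.{u}) [X.Over (Spec (CommRingCat.of k))]
  [IsIntegral X] [IsProper (X ↘ Spec (CommRingCat.of k))]

attribute [local instance] GammaDvd.algΓ

/-- an invertible module of degree one forces `H⁰(O) = k` -/
theorem finrank_HH0_structureModule_of_deg_one (L : X.Modules)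
    (hdeg : Curv2.deg k X L 1 = 1) :
    Module.finrank k (Coh.HH X (Coh.structureModule X) 0) = 1 := by
  have hΓ : IsField Γ(X, ⊤) := GammaDvd.isField_Γ k X
  have h1 := GammaDvd.dvd_deg k X hΓ L 1
  rw [hdeg] at h1
  have h2 : Module.finrank k Γ(X, ⊤) = 1 := by
    have : Module.finrank k Γ(X, ⊤) ∣ 1 := by exact_mod_cast h1
    exact Nat.dvd_one.mp this
  apply Groth.Agent.Lib.H0ConstH4.finrank_HH_zero_eq_one k X
  haveI : Nontrivial Γ(X, ⊤) := hΓ.nontrivial
  constructor
  · exact RingHom.injective (R := k) (S := Γ(X, ⊤)) (Coh.toGlobal (X ↘ Spec (CommRingCat.of k)))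
  · intro w
    obtain ⟨c, hc⟩ := (finrank_eq_one_iff_of_nonzero' (1 : Γ(X, ⊤)) one_ne_zero).mp h2 w
    refine ⟨c, ?_⟩
    rw [← hc, Algebra.smul_def, mul_one]
    rfl

/-- **statement of S6541** -/
theorem iso_P1_of_genus_zero (hdim : topologicalKrullDim X = 1)
    (h1 : Subsingleton (Coh.HH X (Coh.structureModule X) 1))
    (L : X.Modules) (hL : PicF.IsInvertible L) (hdeg : Curv2.deg k X L 1 = 1) :
    ∃ e : X ≅ CohB1.ProjSpace 1 k,
      e.hom ≫ CohB1.ProjSpace.toSpec 1 k = X ↘ Spec (CommRingCat.of k) := by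
  haveI : IsLocallyNoetherian X :=
    LocallyOfFiniteType.isLocallyNoetherian (X ↘ Spec (CommRingCat.of k))
  have h0 := finrank_HH0_structureModule_of_deg_one k X L hdeg
  have hg : Curv2.genus k X = 0 := by
    show Module.finrank k (Coh.HH X (Coh.structureModule X) 1) = 0
    exact Module.finrank_zero_of_subsingleton
  have hLc := ProperFinH9.isCoh_of_isInvertible hL
  haveI := hLc.1
  haveI := (CohDevH8.isCoh_structureModule X).1
  haveI hH1 : Subsingleton (Coh.HH X L 1) := by
    apply CurveAmple.HH1_subsingleton_of_deg_ge k X hdim.le hL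
    rw [hg, hdeg]
    norm_num
  have hO := CurveRR.euler_eq_sub k X hdim.le (Coh.structureModule X)
  have hg' : Module.finrank k (Coh.HH X (Coh.structureModule X) 1) = 0 := hg
  rw [h0, hg'] at hO
  have hLe := CurveRR.euler_eq_sub k X hdim.le L
  have h2 : Module.finrank k (Coh.HH X L 1) = 0 := Module.finrank_zero_of_subsingleton
  rw [h2] at hLe
  have hH0 : Module.finrank k (Coh.HH X L 0) = 2 := by
    unfold Curv2.deg at hdeg
    rw [hO] at hdeg
    have : (Module.finrank k (Coh.HH X L 0) : ℤ) = 2 := by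
      push_cast at hLe hdeg
      linarith
    exact_mod_cast this
  have hHom : Module.finrank k (Coh.structureModule X ⟶ L) = 2 := by
    rw [(CurveIdeal.thetaEquiv k L).finrank_eq, hH0]
  haveI := ProperFinH9.finite_HH_of_proper k X L hLc 0
  haveI : Module.Finite k (Coh.structureModule X ⟶ L) :=
    Module.Finite.equiv (CurveIdeal.thetaEquiv k L).symm
  let B := Module.finBasisOfFinrankEq k (Coh.structureModule X ⟶ L) hHom
  have hspan : ∀ σ : Coh.structureModule X ⟶ L, ∃ c : Fin 2 → k, σ = ∑ i, c i • B i :=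
    fun σ => ⟨fun i => B.repr σ i, (B.sum_repr σ).symm⟩
  have hgg : ∀ x : X, ∃ σ : Coh.structureModule X ⟶ L, CurveLin.GenAt L σ x :=
    fun x => CurveGG.exists_section_genAt k X hdim.le hL (by rw [hg, hdeg]; norm_num) x
  exact exists_iso_P1 k X hdim L hL hdeg _ (generatedBy_of_span k (fun i => B i) hspan hgg)

end Genus0

end P1Iso
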