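import Mathlib
import Groth.Prelude
import Groth.Agent.Lib.P1Iso4_helper9
import Groth.Agent.Lib.EllPic1_helper9
import Groth.Agent.Lib.CurvePtInv1_helper9
import Groth.Agent.Lib.InvTensP2_helper5
import Groth.Agent.Lib.Tens5_helper8

/-!
# The degree of a closed point is the degree of its residue field; curves of genus zero with
normal points of coprime degrees (helper9).  APPEND-ONLY once landed.
-/

set_option autoImplicit false
universe u
open CategoryTheory CategoryTheory.Limits AlgebraicGeometry Opposite TopologicalSpace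

namespace P1Iso

open QcqsLoc QCohExtn QuotSec EllPic

section PtDeg

variable (k : Type u) [Field k] (X : Scheme.{u}) [X.Over (Spec (CommRingCat.of k))]
  [IsIntegral X] [IsProper (X ↘ Spec (CommRingCat.of k))]

attribute [local instance] Curv2.resAlgebra

/-- the degree of a closed point is the degree of its residue field over `k` -/
theorem ptDeg_eq_finrank_residueField (q : X) (hq : IsClosed ({q} : Set X)) :
    ptDeg k X q hq = Module.finrank k (X.residueField q) := by
  haveI : IsLocallyNoetherian X :=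
    LocallyOfFiniteType.isLocallyNoetherian (X ↘ Spec (CommRingCat.of k))
  obtain ⟨_, ⟨U₀, hU₀, rfl⟩, hqU, -⟩ :=
    X.isBasis_affineOpens.exists_subset_of_mem_open (Set.mem_univ q) isOpen_univ
  let U : X.affineOpens := ⟨U₀, hU₀⟩
  set 𝔪 := (U.2.primeIdealOf ⟨q, hqU⟩).asIdeal with h𝔪
  haveI hmax : 𝔪.IsMaximal := U.2.primeIdealOf_isMaximal_of_isClosed ⟨q, hqU⟩ hq
  letI := algU k U
  have h1 : ptDeg k X q hq = Module.finrank k (Γ(X, U₀) ⧸ 𝔪) :=
    finrank_HH0_quotMod k _ U (support_point_subset X hq U hqU) 𝔪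
      (vanishingIdeal_point_ideal hq U hqU)
  rw [h1]
  letI : Algebra Γ(X, U₀) (X.presheaf.stalk q) :=
    TopCat.Presheaf.algebra_section_stalk X.presheaf ⟨q, hqU⟩
  haveI : IsLocalization.AtPrime (X.presheaf.stalk q) 𝔪 := U.2.isLocalization_stalk ⟨q, hqU⟩
  let e : (Γ(X, U₀) ⧸ 𝔪) ≃+* (X.residueField q) :=
    IsLocalization.AtPrime.equivQuotMaximalIdeal 𝔪 (X.presheaf.stalk q)
  have he : ∀ a : Γ(X, U₀), e (Ideal.Quotient.mk 𝔪 a) =
      (X.residue q).hom ((X.presheaf.germ U₀ q hqU).hom a) := fun a => rfl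
  have hc : ∀ c : k, e (Ideal.Quotient.mk 𝔪 (strU k X U₀ c)) = Curv2.resMap k X q c := by
    intro c
    rw [he]
    have hg : (X.presheaf.germ U₀ q hqU).hom (strU k X U₀ c) =
        (X.presheaf.germ ⊤ q trivial).hom (strTop k X c) := by
      show (X.presheaf.germ U₀ q hqU).hom
        ((X.presheaf.map (homOfLE le_top).op).hom (strTop k X c)) = _
      exact TopCat.Presheaf.germ_res_apply X.presheaf (homOfLE le_top) q hqU (strTop k X c)
    rw [hg]
    rfl
  let f : (Γ(X, U₀) ⧸ 𝔪) ≃ₗ[k] (X.residueField q) :=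
    { e.toAddEquiv with
      map_smul' := by
        intro c z
        show e (c • z) = c • e z
        rw [Algebra.smul_def, Algebra.smul_def, map_mul]
        congr 1
        exact hc c }
  exact f.finrank_eq

end PtDeg

end P1Iso

namespace P1Iso

open QcqsLoc QCohExtn QuotSec EllPic

section Degrees

variable (k : Type u) [Field k] (X : Scheme.{u}) [X.Over (Spec (CommRingCat.of k))]
  [IsIntegral X] [IsProper (X ↘ Spec (CommRingCat.of k))]

/-- the degrees of invertible modules on an integral proper curve form a subgroup of `ℤ` -/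
def degSubgroup (hdim : topologicalKrullDim X = 1) : AddSubgroup ℤ where
  carrier := {n | ∃ L : X.Modules, PicF.IsInvertible L ∧ Curv2.deg k X L 1 = n}
  zero_mem' := ⟨Coh.structureModule X, TensH8.isInvertible_structureModule,
    CurveDeg.deg_structureModule k X⟩
  add_mem' := by
    rintro a b ⟨L, hL, rfl⟩ ⟨M, hM, rfl⟩
    exact ⟨CohB1.tensorMod L M, TensH8.isInvertible_tensorMod hL hM,
      CurveTens.deg_tensorMod k X hdim.le hL hM⟩
  neg_mem' := by
    rintro a ⟨L, hL, rfl⟩
    obtain ⟨L', hL', ⟨e⟩⟩ := Groth.Agent.InvTensP.exists_inverse L hL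
    refine ⟨L', hL', ?_⟩
    have h1 := CurveTens.deg_tensorMod k X hdim.le hL hL'
    rw [CurveTens.deg_of_iso k X e 1, CurveDeg.deg_structureModule] at h1
    linarith

theorem mem_degSubgroup_iff (hdim : topologicalKrullDim X = 1) (n : ℤ) :
    n ∈ degSubgroup k X hdim ↔
      ∃ L : X.Modules, PicF.IsInvertible L ∧ Curv2.deg k X L 1 = n := Iff.rfl

attribute [local instance] Curv2.resAlgebra

/-- a Noetherian local domain of dimension one which is integrally closed is regular -/
theorem isRegularLocalRing_of_isIntegrallyClosed (R : Type u) [CommRing R] [IsDomain R]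
    [IsLocalRing R] [IsNoetherianRing R] [IsIntegrallyClosed R] (hdim : ringKrullDim R = 1) :
    IsRegularLocalRing R := by
  haveI : Ring.KrullDimLE 1 R := Ring.krullDimLE_iff.mpr hdim.le
  haveI : Ring.DimensionLEOne R :=
    ⟨fun {p} hp hpr => Ideal.IsPrime.isMaximal_of_ne_bot hpr hp⟩
  have hded : IsDedekindDomain R := {}
  have hnf : ¬ IsField R := by
    intro hf
    have h0 : ringKrullDim R = 0 := by
      letI := hf.toField
      exact ringKrullDim_eq_zero_of_field R
    rw [h0] at hdim
    exact absurd hdim (by norm_num)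
  haveI : IsDiscreteValuationRing R :=
    ((IsDiscreteValuationRing.TFAE R hnf).out 0 2).mpr hded
  infer_instance

/-- the degree of a normal closed point is the degree of an invertible module -/
theorem finrank_residueField_mem_degSubgroup (hdim : topologicalKrullDim X = 1) (x : X)
    (hx : IsClosed ({x} : Set X)) (hn : IsIntegrallyClosed (X.presheaf.stalk x)) :
    ((Module.finrank k (X.residueField x) : ℕ) : ℤ) ∈ degSubgroup k X hdim := by
  haveI : IsLocallyNoetherian X :=
    LocallyOfFiniteType.isLocallyNoetherian (X ↘ Spec (CommRingCat.of k))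
  haveI := hn
  have hreg : IsRegularLocalRing (X.presheaf.stalk x) :=
    isRegularLocalRing_of_isIntegrallyClosed _ (CurvePtInv.ringKrullDim_stalk_of_closed hdim hx)
  have hinv := CurvePtInv.isInvertible_idealMod_point hdim hx hreg
  have hdeg := deg_idealMod_point k X x hx
  rw [ptDeg_eq_finrank_residueField k X x hx] at hdeg
  have h1 : -((Module.finrank k (X.residueField x) : ℕ) : ℤ) ∈ degSubgroup k X hdim :=
    ⟨_, hinv, hdeg⟩
  have h2 := (degSubgroup k X hdim).neg_mem h1
  rwa [neg_neg] at h2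

/-- Bezout for a subgroup of `ℤ` -/
theorem gcd_mem_of_forall_mem (D : AddSubgroup ℤ) {ι : Type*} [DecidableEq ι] (s : Finset ι)
    (d : ι → ℕ) (h : ∀ i ∈ s, (d i : ℤ) ∈ D) : ((s.gcd d : ℕ) : ℤ) ∈ D := by
  induction s using Finset.induction_on with
  | empty =>
    rw [Finset.gcd_empty]
    exact D.zero_mem
  | insert a s ha ih =>
    rw [Finset.gcd_insert]
    have h1 : (d a : ℤ) ∈ D := h a (Finset.mem_insert_self a s)
    have h2 : ((s.gcd d : ℕ) : ℤ) ∈ D := ih (fun i hi => h i (Finset.mem_insert_of_mem hi))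
    have h3 : ((GCDMonoid.gcd (d a) (s.gcd d) : ℕ) : ℤ) =
        (d a : ℤ) * Nat.gcdA (d a) (s.gcd d) + ((s.gcd d : ℕ) : ℤ) * Nat.gcdB (d a) (s.gcd d) :=
      Nat.gcd_eq_gcd_ab (d a) (s.gcd d)
    rw [h3]
    refine D.add_mem ?_ ?_
    · rw [mul_comm]
      exact D.zsmul_mem h1 _
    · rw [mul_comm]
      exact D.zsmul_mem h2 _

/-- **statement of S6542** -/
theorem iso_P1_of_gcd_one (hdim : topologicalKrullDim X = 1)
    (h1 : Subsingleton (Coh.HH X (Coh.structureModule X) 1))
    (s : Finset X) (hcl : ∀ x ∈ s, IsClosed ({x} : Set X))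
    (hn : ∀ x ∈ s, IsIntegrallyClosed (X.presheaf.stalk x))
    (hgcd : s.gcd (fun x => Module.finrank k (X.residueField x)) = 1) :
    ∃ e : X ≅ CohB1.ProjSpace 1 k,
      e.hom ≫ CohB1.ProjSpace.toSpec 1 k = X ↘ Spec (CommRingCat.of k) := by
  classical
  have h := gcd_mem_of_forall_mem (degSubgroup k X hdim) s
    (fun x => Module.finrank k (X.residueField x))
    (fun x hx => finrank_residueField_mem_degSubgroup k X hdim x (hcl x hx) (hn x hx))
  rw [hgcd] at h
  obtain ⟨L, hL, hdeg⟩ := h
  exact iso_P1_of_genus_zero k X hdim h1 L hL (by rw [hdeg]; rfl)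

end Degrees

end P1Iso
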