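import Mathlib
import Groth.Prelude
import Groth.Agent.Lib.P1Iso5_helper9
import Groth.Agent.Lib.EllPic3_helper9
import Groth.Agent.Lib.CurvePtInv3_helper9
import Groth.Agent.Lib.VBCurve5_helper9
import Groth.Agent.Lib.CurvePtInv6_helper9
import Groth.Agent.Lib.Tens45_helper8

/-!
# Two independent sections of a degree one invertible module give the projective line (helper9)
APPEND-ONLY once landed.
-/

set_option autoImplicit false
universe u
open CategoryTheory CategoryTheory.Limits AlgebraicGeometry Opposite TopologicalSpace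

namespace P1Iso

open QcqsLoc QCohExtn GenLocH8 TensH8 PBH8 FLFH8 CurveAmple Groth.Agent.HHVan EllPic

section Gen

variable {X : Scheme.{u}}

/-- a family of morphisms `O ⟶ L` one of which generates `L` at each point generates `L` -/
theorem generatedBy_of_genAt {L : X.Modules} {ι : Type*}
    (b : ι → (Coh.structureModule X ⟶ L))
    (hgg : ∀ x : X, ∃ i, CurveLin.GenAt L (b i) x) :
    ProjUP.GeneratedBy L (fun i => secOf (b i)) := by
  intro x
  obtain ⟨i, V, hxV, he⟩ := hgg x
  obtain ⟨h1, -⟩ := SecOrdH8.stalk_gen he hxV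
  rw [eq_top_iff]
  intro z _
  obtain ⟨a, rfl⟩ := h1 z
  apply Submodule.smul_mem
  have h2 : L.presheaf.germ V x hxV (ap (b i) V (toM (1 : Γ(X, V)))) =
      L.presheaf.germ ⊤ x trivial (ap (b i) ⊤ (toM (1 : Γ(X, ⊤)))) := by
    rw [← CurveLin.ap_one_res (b i) (le_top : V ≤ ⊤), SecOrdH8.germ_rF]
  rw [h2]
  apply Submodule.subset_span
  exact ⟨i, rfl⟩

end Gen

section TwoSec

variable (k : Type u) [Field k] (X : Scheme.{u}) [X.Over (Spec (CommRingCat.of k))]
  [IsIntegral X] [IsProper (X ↘ Spec (CommRingCat.of k))]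

/-- at every closed regular point one of two independent sections of a degree one invertible
module generates -/
theorem genAt_of_independent_closed (hdim : topologicalKrullDim X = 1)
    (L : X.Modules) (hL : PicF.IsInvertible L) (hdeg : Curv2.deg k X L 1 = 1)
    (σ₀ σ₁ : Coh.structureModule X ⟶ L)
    (hli : ∀ a b : k, a • σ₀ + b • σ₁ = 0 → a = 0 ∧ b = 0)
    (y : X) (hy : IsClosed ({y} : Set X)) (hreg : IsRegularLocalRing (X.presheaf.stalk y)) :
    CurveLin.GenAt L σ₀ y ∨ CurveLin.GenAt L σ₁ y := by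
  haveI : IsLocallyNoetherian X :=
    LocallyOfFiniteType.isLocallyNoetherian (X ↘ Spec (CommRingCat.of k))
  by_contra hno
  push_neg at hno
  obtain ⟨hn0, hn1⟩ := hno
  set Z := Scheme.IdealSheafData.vanishingIdeal ⟨{y}, hy⟩ with hZ
  have hIinv : PicF.IsInvertible (ClSub.idealMod Z) :=
    CurvePtInv.isInvertible_idealMod_point hdim hy hreg
  have hF : PicF.IsInvertible (CohB1.tensorMod (ClSub.idealMod Z) L) :=
    isInvertible_tensorMod hIinv hL
  have hdegF : Curv2.deg k X (CohB1.tensorMod (ClSub.idealMod Z) L) 1 ≤ 0 := by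
    rw [CurveTens.deg_tensorMod k X hdim.le hIinv hL, hdeg, hZ, deg_idealMod_point]
    have := one_le_ptDeg k X y hy
    omega
  obtain ⟨τ₀, hτ₀⟩ := CurveGG.exists_lift_of_not_genAt hy hL σ₀ hn0
  obtain ⟨τ₁, hτ₁⟩ := CurveGG.exists_lift_of_not_genAt hy hL σ₁ hn1
  have hσ₀ : σ₀ ≠ 0 := by
    intro h
    have := (hli 1 0 (by rw [h, smul_zero, zero_smul, add_zero])).1
    exact one_ne_zero this
  have hτ₀0 : τ₀ ≠ 0 := by
    intro h
    apply hσ₀
    rw [← hτ₀, h, zero_comp]
  haveI := CurveDeg.isIso_of_deg_nonpos k X hdim hF τ₀ hτ₀0 hdegF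
  have h0 := finrank_HH0_structureModule_of_deg_one k X L hdeg
  have hEnd : Module.finrank k (Coh.structureModule X ⟶ Coh.structureModule X) = 1 := by
    rw [(CurveIdeal.thetaEquiv k (Coh.structureModule X)).finrank_eq, h0]
  have hid : (𝟙 (Coh.structureModule X)) ≠ 0 := by
    intro h
    have hsub : Subsingleton (Coh.structureModule X ⟶ Coh.structureModule X) :=
      ⟨fun f g => by rw [← Category.id_comp f, ← Category.id_comp g, h, zero_comp, zero_comp]⟩
    rw [Module.finrank_zero_of_subsingleton] at hEnd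
    exact absurd hEnd (by norm_num)
  obtain ⟨c, hc⟩ := (finrank_eq_one_iff_of_nonzero' _ hid).mp hEnd (τ₁ ≫ inv τ₀)
  have hτ : τ₁ = c • τ₀ := by
    have : τ₁ = (τ₁ ≫ inv τ₀) ≫ τ₀ := by rw [Category.assoc, IsIso.inv_hom_id, Category.comp_id]
    rw [this, ← hc, Linear.smul_comp, Category.id_comp]
  have hσ : σ₁ = c • σ₀ := by
    rw [← hτ₁, ← hτ₀, hτ, Linear.smul_comp]
  have := (hli (-c) 1 (by rw [hσ, one_smul, neg_smul, neg_add_cancel])).2
  exact one_ne_zero this

/-- **an integral proper curve, regular at its closed points, carrying an invertible module of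
degree one with two independent sections is the projective line** -/
theorem iso_P1_of_two_sections (hdim : topologicalKrullDim X = 1)
    (hreg : ∀ x : X, IsClosed ({x} : Set X) → IsRegularLocalRing (X.presheaf.stalk x))
    (L : X.Modules) (hL : PicF.IsInvertible L) (hdeg : Curv2.deg k X L 1 = 1)
    (σ₀ σ₁ : Coh.structureModule X ⟶ L)
    (hli : ∀ a b : k, a • σ₀ + b • σ₁ = 0 → a = 0 ∧ b = 0) :
    ∃ e : X ≅ CohB1.ProjSpace 1 k,
      e.hom ≫ CohB1.ProjSpace.toSpec 1 k = X ↘ Spec (CommRingCat.of k) := by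
  haveI : CompactSpace X :=
    QuasiCompact.compactSpace_of_compactSpace (X ↘ Spec (CommRingCat.of k))
  let b : Fin 2 → (Coh.structureModule X ⟶ L) := ![σ₀, σ₁]
  have hgg : ∀ x : X, ∃ i, CurveLin.GenAt L (b i) x := by
    intro x
    obtain ⟨y, hy, hycl⟩ := IsClosed.exists_closed_singleton
      (isClosed_closure (s := ({x} : Set X))) ⟨x, subset_closure rfl⟩
    have key : ∀ σ : Coh.structureModule X ⟶ L, CurveLin.GenAt L σ y → CurveLin.GenAt L σ x := by
      rintro σ ⟨V, hyV, hV⟩
      refine ⟨V, ?_, hV⟩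
      obtain ⟨z, hzV, hz⟩ := mem_closure_iff.mp hy V V.isOpen hyV
      rw [Set.mem_singleton_iff.mp hz] at hzV
      exact hzV
    rcases genAt_of_independent_closed k X hdim L hL hdeg σ₀ σ₁ hli y hycl (hreg y hycl) with h | h
    · exact ⟨0, key _ h⟩
    · exact ⟨1, key _ h⟩
  exact exists_iso_P1 k X hdim L hL hdeg _ (generatedBy_of_genAt b hgg)

end TwoSec

section Abstract

variable {k : Type*} [Field k] {C : Type*} [Category C] [Preadditive C] [Linear k C]

/-- if `T` is fully faithful, `T I ≅ O`, `T O ≅ N`, and the images of `ι, f : I ⟶ O` in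
`Hom(O, N)` differ by a nonzero scalar, then `f` and `ι` differ by an automorphism of `I` -/
theorem exists_auto_of_smul (T : C ⥤ C) [T.Full] [T.Faithful]
    {I O N : C} (e : T.obj I ≅ O) (u : T.obj O ≅ N) (ι f : I ⟶ O) (c : k) (hc0 : c ≠ 0)
    (hc : c • (e.inv ≫ T.map ι ≫ u.hom) = e.inv ≫ T.map f ≫ u.hom) :
    ∃ θ : I ⟶ I, IsIso θ ∧ f = θ ≫ ι := by
  let θ : I ⟶ I := T.preimage (e.hom ≫ (c • 𝟙 O) ≫ e.inv)
  have hθ : T.map θ = e.hom ≫ (c • 𝟙 O) ≫ e.inv := T.map_preimage _
  refine ⟨θ, ?_, ?_⟩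
  · haveI : IsIso (c • 𝟙 O) := by
      refine ⟨⟨c⁻¹ • 𝟙 O, ?_, ?_⟩⟩
      · rw [Linear.smul_comp, Linear.comp_smul, Category.comp_id, smul_smul,
          mul_inv_cancel₀ hc0, one_smul]
      · rw [Linear.smul_comp, Linear.comp_smul, Category.comp_id, smul_smul,
          inv_mul_cancel₀ hc0, one_smul]
    haveI : IsIso (T.map θ) := by rw [hθ]; infer_instance
    exact isIso_of_fully_faithful T θ
  · apply T.map_injective
    have h' : e.inv ≫ T.map f ≫ u.hom = e.inv ≫ T.map (θ ≫ ι) ≫ u.hom := by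
      rw [← hc, T.map_comp, hθ]
      simp only [Category.assoc, Iso.inv_hom_id_assoc, Linear.smul_comp, Category.id_comp]
    rw [cancel_epi, cancel_mono] at h'
    exact h'

/-- if `ι, f : I ⟶ O` are nonzero and do not differ by an automorphism of `I`, their images in
`Hom(O, N)` are linearly independent -/
theorem independent_of_no_auto (T : C ⥤ C) [T.Full] [T.Faithful] [T.PreservesZeroMorphisms]
    {I O N : C} (e : T.obj I ≅ O) (u : T.obj O ≅ N) (ι f : I ⟶ O) (hι : ι ≠ 0) (hf : f ≠ 0)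
    (hno : ¬ ∃ θ : I ⟶ I, IsIso θ ∧ f = θ ≫ ι) (a b : k)
    (hab : a • (e.inv ≫ T.map ι ≫ u.hom) + b • (e.inv ≫ T.map f ≫ u.hom) = 0) :
    a = 0 ∧ b = 0 := by
  let Ψ : (I ⟶ O) → (O ⟶ N) := fun g => e.inv ≫ T.map g ≫ u.hom
  have hΨinj : Function.Injective Ψ := by
    intro g g' h
    apply T.map_injective
    have h' : e.inv ≫ T.map g ≫ u.hom = e.inv ≫ T.map g' ≫ u.hom := h
    rw [cancel_epi, cancel_mono] at h'
    exact h'
  have hΨ0 : Ψ 0 = 0 := by
    show e.inv ≫ T.map 0 ≫ u.hom = 0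
    rw [T.map_zero, zero_comp, comp_zero]
  have hΨι : Ψ ι ≠ 0 := fun h => hι (hΨinj (h.trans hΨ0.symm))
  have hΨf : Ψ f ≠ 0 := fun h => hf (hΨinj (h.trans hΨ0.symm))
  have hab' : a • Ψ ι + b • Ψ f = 0 := hab
  by_cases hb : b = 0
  · refine ⟨?_, hb⟩
    rw [hb, zero_smul, add_zero] at hab'
    by_contra ha
    exact hΨι ((smul_eq_zero.mp hab').resolve_left ha)
  · exfalso
    have hc : (-(a / b)) • Ψ ι = Ψ f := by
      have h1 : b • Ψ f = -(a • Ψ ι) := eq_neg_of_add_eq_zero_right hab'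
      have h2 : Ψ f = b⁻¹ • (b • Ψ f) := by
        rw [smul_smul, inv_mul_cancel₀ hb, one_smul]
      rw [h2, h1, smul_neg, smul_smul, neg_smul, div_eq_inv_mul]
    have hc0 : -(a / b) ≠ 0 := by
      intro h0
      rw [h0, zero_smul] at hc
      exact hΨf hc.symm
    exact hno (exists_auto_of_smul (k := k) T e u ι f _ hc0 hc)

end Abstract

section RatPts

variable (k : Type u) [Field k] (X : Scheme.{u}) [X.Over (Spec (CommRingCat.of k))]
  [IsIntegral X] [IsProper (X ↘ Spec (CommRingCat.of k))]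

open CurvePtInv

/-- the support of the ideal of a section is the image point, which is closed -/
theorem support_ker_section (O : Spec (CommRingCat.of k) ⟶ X)
    (hO : O ≫ (X ↘ Spec (CommRingCat.of k)) = 𝟙 _) (pt : ↥(Spec (CommRingCat.of k))) :
    (O.ker.support : Set X) = {O pt} ∧ IsClosed ({O pt} : Set X) := by
  haveI : Subsingleton ↥(Spec (CommRingCat.of k)) :=
    inferInstanceAs (Subsingleton (PrimeSpectrum k))
  haveI := isClosedImmersion_section k O hO
  have h1 : ({O pt} : Set X) = Set.range O := by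
    ext w
    constructor
    · rintro rfl
      exact ⟨pt, rfl⟩
    · rintro ⟨z', rfl⟩
      rw [Subsingleton.elim z' pt]
      rfl
  constructor
  · rw [Scheme.Hom.support_ker, h1]
    exact O.isClosedEmbedding.isClosed_range.closure_eq
  · rw [h1]
    exact O.isClosedEmbedding.isClosed_range

/-- two sections through the same point are equal -/
theorem section_eq_of_apply_eq (x y : Spec (CommRingCat.of k) ⟶ X)
    (hx : x ≫ (X ↘ Spec (CommRingCat.of k)) = 𝟙 _)
    (hy : y ≫ (X ↘ Spec (CommRingCat.of k)) = 𝟙 _) (pt : ↥(Spec (CommRingCat.of k)))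
    (h : x pt = y pt) : x = y := by
  haveI : Subsingleton ↥(Spec (CommRingCat.of k)) :=
    inferInstanceAs (Subsingleton (PrimeSpectrum k))
  haveI := isClosedImmersion_section k y hy
  haveI : IsReduced (Spec (CommRingCat.of k)) := inferInstance
  have hr : ∀ z : Spec (CommRingCat.of k) ⟶ X, Set.range z = {z pt} := by
    intro z
    ext w
    constructor
    · rintro ⟨z', rfl⟩
      rw [Subsingleton.elim z' pt]
      rfl
    · rintro rfl
      exact ⟨pt, rfl⟩
  have hcx := (support_ker_section k X x hx pt).2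
  have hcy := (support_ker_section k X y hy pt).2
  have hkx := ker_eq_vanishingIdeal_of_range x hcx (hr x)
  have hky := ker_eq_vanishingIdeal_of_range y hcy (hr y)
  have hk : y.ker ≤ x.ker := by
    rw [hkx, hky]
    apply le_of_eq
    congr 1
    apply TopologicalSpace.Closeds.ext
    show ({y pt} : Set X) = {x pt}
    rw [h]
  have hl := IsClosedImmersion.lift_fac y x hk
  have h1 : IsClosedImmersion.lift y x hk = 𝟙 _ := by
    have : IsClosedImmersion.lift y x hk ≫ y ≫ (X ↘ Spec (CommRingCat.of k)) = 𝟙 _ := by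
      rw [← Category.assoc, hl, hx]
    rw [hy, Category.comp_id] at this
    exact this
  rw [h1, Category.id_comp] at hl
  exact hl.symm

/-- **statement of S7820**, in `Over` form -/
theorem iso_P1_of_linearly_equivalent_points (hdim : topologicalKrullDim X = 1)
    (hreg : ∀ x : X, IsClosed ({x} : Set X) → IsRegularLocalRing (X.presheaf.stalk x))
    (x y : Spec (CommRingCat.of k) ⟶ X)
    (hx : x ≫ (X ↘ Spec (CommRingCat.of k)) = 𝟙 _)
    (hy : y ≫ (X ↘ Spec (CommRingCat.of k)) = 𝟙 _) (hxy : x ≠ y)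
    (φ : ClSub.idealMod x.ker ≅ ClSub.idealMod y.ker) :
    ∃ e : X ≅ CohB1.ProjSpace 1 k,
      e.hom ≫ CohB1.ProjSpace.toSpec 1 k = X ↘ Spec (CommRingCat.of k) := by
  haveI : IsLocallyNoetherian X :=
    LocallyOfFiniteType.isLocallyNoetherian (X ↘ Spec (CommRingCat.of k))
  haveI : Nonempty ↥(Spec (CommRingCat.of k)) := inferInstanceAs (Nonempty (PrimeSpectrum k))
  obtain ⟨pt⟩ : Nonempty ↥(Spec (CommRingCat.of k)) := inferInstance
  obtain ⟨hsx, hcx⟩ := support_ker_section k X x hx pt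
  obtain ⟨hsy, hcy⟩ := support_ker_section k X y hy pt
  have hptx : ∀ z ∈ x.ker.support, IsClosed ({z} : Set X) := by
    intro z hz
    have hz' : z ∈ (x.ker.support : Set X) := hz
    rw [hsx] at hz'
    rw [Set.mem_singleton_iff.mp hz']
    exact hcx
  have hIinv := isInvertible_idealMod_of_support hdim x.ker
    (fun z hz => ⟨hptx z hz, hreg z (hptx z hz)⟩)
  have hZx : topologicalKrullDim (x.ker.support : Set X) ≤ 0 :=
    CurveSpec.dim_le_zero_of_closed_points _ x.ker.support.isClosed hptx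
  have hdx := finrank_HH0_quotMod_ker k x hx
  have hdy := finrank_HH0_quotMod_ker k y hy
  have hdegI : Curv2.deg k X (ClSub.idealMod x.ker) 1 = -1 := by
    have e := CurveIdeal.euler_structureModule_eq k X x.ker hZx
    rw [hdx] at e
    unfold Curv2.deg
    push_cast at e ⊢
    linarith
  obtain ⟨N, hN, ⟨eN⟩⟩ := Groth.Agent.InvTensP.exists_inverse _ hIinv
  have hdegN : Curv2.deg k X N 1 = 1 := by
    have h1 := CurveTens.deg_tensorMod k X hdim.le hIinv hN
    rw [CurveTens.deg_of_iso k X eN 1, CurveDeg.deg_structureModule, hdegI] at h1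
    linarith
  haveI : (Groth.Agent.TensInv.tR N).IsEquivalence :=
    Groth.Agent.TensInv.isEquivalence_tR (Groth.Agent.TensInv.swap ⟨eN⟩)
  haveI : Nonempty X := ⟨x pt⟩
  have hιx : ClSub.idealModι x.ker ≠ 0 := fun h =>
    VBCurve.not_isZero_of_isInvertible hIinv (VBCurve.isZero_of_mono_eq_zero _ h)
  have hJinv : PicF.IsInvertible (ClSub.idealMod y.ker) :=
    TensH8.isInvertible_of_iso' φ hIinv
  have hιy : ClSub.idealModι y.ker ≠ 0 := fun h =>
    VBCurve.not_isZero_of_isInvertible hJinv (VBCurve.isZero_of_mono_eq_zero _ h)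
  have hf : φ.hom ≫ ClSub.idealModι y.ker ≠ 0 := by
    intro h
    apply hιy
    rw [← cancel_epi φ.hom, h, comp_zero]
  apply iso_P1_of_two_sections k X hdim hreg N hN hdegN
    (eN.inv ≫ (Groth.Agent.TensInv.tR N).map (ClSub.idealModι x.ker) ≫
      (Groth.Agent.CMMul.unitorL N).hom)
    (eN.inv ≫ (Groth.Agent.TensInv.tR N).map (φ.hom ≫ ClSub.idealModι y.ker) ≫
      (Groth.Agent.CMMul.unitorL N).hom)
  apply independent_of_no_auto (k := k) (Groth.Agent.TensInv.tR N)
    (I := ClSub.idealMod x.ker) (O := Coh.structureModule X) (N := N) eN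
    (Groth.Agent.CMMul.unitorL N) (ClSub.idealModι x.ker) (φ.hom ≫ ClSub.idealModι y.ker) hιx hf
  rintro ⟨θ, hθ, hfac⟩
  have hfac' : ClSub.idealModι y.ker = (φ.inv ≫ θ) ≫ ClSub.idealModι x.ker := by
    rw [Category.assoc, ← hfac, Iso.inv_hom_id_assoc]
  have eQ : ClSub.quotMod y.ker ≅ ClSub.quotMod x.ker :=
    (CurveIdeal.cokernelIso y.ker).symm ≪≫ cokernelIsoOfEq hfac' ≪≫
      cokernelEpiComp (φ.inv ≫ θ) (ClSub.idealModι x.ker) ≪≫ CurveIdeal.cokernelIso x.ker
  have hs1 : CohB1.support (ClSub.quotMod y.ker) ⊆ {x pt} := by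
    have := CurveIdeal.support_quotMod_subset x.ker eQ.symm
    rwa [hsx] at this
  have hs2 : CohB1.support (ClSub.quotMod y.ker) ⊆ {y pt} := by
    have := CurveIdeal.support_quotMod_subset y.ker (Iso.refl _)
    rwa [hsy] at this
  have hne : x pt ≠ y pt := fun h => hxy (section_eq_of_apply_eq k X x y hx hy pt h)
  have hemp : CohB1.support (ClSub.quotMod y.ker) = ∅ := by
    rw [Set.eq_empty_iff_forall_notMem]
    intro z hz
    have e1 : z = x pt := hs1 hz
    have e2 : z = y pt := hs2 hz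
    exact hne (e1.symm.trans e2)
  rw [finrank_HH0_eq_zero_of_support_empty k X _ hemp] at hdy
  exact absurd hdy (by norm_num)

end RatPts

end P1Iso
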