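import Mathlib
import Groth.Prelude
import Groth.Agent.Lib.P1Iso6_helper9
import Groth.Agent.Lib.BirCurve1_helper9
import Groth.Agent.Lib.Tens18_helper8
import Groth.Agent.Lib.CurveAmple5_helper9

/-!
# Characterisation of the projective line among normal projective curves (helper9)
APPEND-ONLY once landed.
-/

set_option autoImplicit false
universe u
open CategoryTheory CategoryTheory.Limits AlgebraicGeometry Opposite TopologicalSpace

namespace P1Iso

open QcqsLoc QCohExtn GenLocH8 TensH8 PBH8 FLFH8 CurveAmple Groth.Agent.HHVan EllPic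

section Char

variable (k : Type u) [Field k] (X : Scheme.{u}) [X.Over (Spec (CommRingCat.of k))]
  [IsIntegral X] [IsProper (X ↘ Spec (CommRingCat.of k))]

/-- the residue degree of an isomorphism is one -/
theorem residueDegree_of_isIso {X Y : Scheme.{u}} (f : X ⟶ Y) [IsIso f] (x : X) :
    f.residueDegree x = 1 := by
  letI := (f.residueFieldMap x).hom.toAlgebra
  show Module.finrank (Y.residueField (f x)) (X.residueField x) = 1
  have hb : Function.Bijective (f.residueFieldMap x).hom :=
    ConcreteCategory.bijective_of_isIso (f.residueFieldMap x)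
  rw [finrank_eq_one_iff_of_nonzero' (1 : X.residueField x) one_ne_zero]
  intro z
  obtain ⟨c, hc⟩ := hb.2 z
  refine ⟨c, ?_⟩
  rw [← hc, Algebra.smul_def, mul_one]
  rfl

/-- `P¹_k` has genus zero -/
theorem genus_P1 :
    letI := overP1 k
    Curv2.genus k (CohB1.ProjSpace 1 k) = 0 := by
  letI := overP1 k
  obtain ⟨e0⟩ := Groth.Agent.ProjTens.twist_zero 1 k
  show Module.finrank k (Coh.HH (CohB1.ProjSpace 1 k)
    (Coh.structureModule (CohB1.ProjSpace 1 k)) 1) = 0
  rw [← (Groth.Agent.HypConn.hhEquivOfIso (A := k) e0 1).finrank_eq]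
  exact Groth.Agent.ProjEuler.finrank_HH_eq_zero k 1 0 1 (by omega) (by omega)

/-- a curve isomorphic to `P¹` carries a degree one invertible module with two sections -/
theorem exists_module_of_iso_P1 (hdim : topologicalKrullDim X = 1)
    (e : X ≅ CohB1.ProjSpace 1 k)
    (he : e.hom ≫ CohB1.ProjSpace.toSpec 1 k = X ↘ Spec (CommRingCat.of k)) :
    ∃ L : X.Modules, PicF.IsInvertible L ∧ Curv2.deg k X L 1 = 1 ∧
      2 ≤ Module.finrank k (Coh.HH X L 0) := by
  haveI : IsLocallyNoetherian X :=
    LocallyOfFiniteType.isLocallyNoetherian (X ↘ Spec (CommRingCat.of k))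
  letI := overP1 k
  haveI := isIntegral_P1 k
  haveI : IsProper ((CohB1.ProjSpace 1 k) ↘ Spec (CommRingCat.of k)) := isProper_P1 k
  have he' : e.hom ≫ ((CohB1.ProjSpace 1 k) ↘ Spec (CommRingCat.of k)) =
      X ↘ Spec (CommRingCat.of k) := he
  have hinv1 := Groth.Agent.Horrocks.isInvertible_OO 1 k 1
  have hL : PicF.IsInvertible ((Scheme.Modules.pullback e.hom).obj (Twist.twistProjSpace 1 k 1)) :=
    isInvertible_pullback e.hom hinv1
  have hξ : e.hom (genericPoint X) = genericPoint (CohB1.ProjSpace 1 k) := by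
    symm
    apply (genericPoint_spec (CohB1.ProjSpace 1 k)).eq
    have h1 := (genericPoint_spec X).image e.hom.continuous
    have h2 : closure (Set.range e.hom) = Set.univ :=
      (e.hom.homeomorph.surjective.denseRange).closure_range
    rw [Set.image_univ, h2] at h1
    exact h1
  have hfl : FlatMod.IsFinLocFreeOfRank 1 (Twist.twistProjSpace 1 k 1) :=
    FLFH8.finLocFreeOfRank_one_of_isInvertible hinv1
  have hd := DegPull.deg_pullback k hdim (dim_P1 k) e.hom he' hξ 1 _ hfl
  rw [residueDegree_of_isIso, deg_O1 k] at hd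
  have hdeg : Curv2.deg k X ((Scheme.Modules.pullback e.hom).obj
      (Twist.twistProjSpace 1 k 1)) 1 = 1 := by
    rw [hd]
    norm_num
  refine ⟨_, hL, hdeg, ?_⟩
  -- genus zero
  have hg : Curv2.genus k X = 0 := by
    have h1 := BirCurve.genus_le k (X := CohB1.ProjSpace 1 k) (X' := X) (dim_P1 k).le e.hom he'
      ⊤ (by simp) (by simp) inferInstance
    rw [genus_P1 k] at h1
    omega
  have hLc := ProperFinH9.isCoh_of_isInvertible hL
  haveI := hLc.1
  haveI := (CohDevH8.isCoh_structureModule X).1
  have hO := CurveRR.euler_eq_sub k X hdim.le (Coh.structureModule X)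
  have hg' : Module.finrank k (Coh.HH X (Coh.structureModule X) 1) = 0 := hg
  have h0 := one_le_finrank_HH0_structureModule k X
  have hLe := CurveRR.euler_eq_sub k X hdim.le
    ((Scheme.Modules.pullback e.hom).obj (Twist.twistProjSpace 1 k 1))
  unfold Curv2.deg at hdeg
  rw [hg'] at hO
  push_cast at hO hLe hdeg
  omega

/-- **an integral proper curve, regular at its closed points, carrying an invertible module of
degree one with a two-dimensional space of sections is the projective line** -/
theorem iso_P1_of_two_le (hdim : topologicalKrullDim X = 1)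
    (hreg : ∀ x : X, IsClosed ({x} : Set X) → IsRegularLocalRing (X.presheaf.stalk x))
    (L : X.Modules) (hL : PicF.IsInvertible L) (hdeg : Curv2.deg k X L 1 = 1)
    (h2 : 2 ≤ Module.finrank k (Coh.HH X L 0)) :
    ∃ e : X ≅ CohB1.ProjSpace 1 k,
      e.hom ≫ CohB1.ProjSpace.toSpec 1 k = X ↘ Spec (CommRingCat.of k) := by
  haveI : IsLocallyNoetherian X :=
    LocallyOfFiniteType.isLocallyNoetherian (X ↘ Spec (CommRingCat.of k))
  have hHom : 2 ≤ Module.finrank k (Coh.structureModule X ⟶ L) := by
    rw [(CurveIdeal.thetaEquiv k L).finrank_eq]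
    exact h2
  have hLc := ProperFinH9.isCoh_of_isInvertible hL
  haveI := ProperFinH9.finite_HH_of_proper k X L hLc 0
  haveI : Module.Finite k (Coh.structureModule X ⟶ L) :=
    Module.Finite.equiv (CurveIdeal.thetaEquiv k L).symm
  obtain ⟨σ₀, hσ₀⟩ := Module.finrank_pos_iff_exists_ne_zero.mp (by omega :
    0 < Module.finrank k (Coh.structureModule X ⟶ L))
  obtain ⟨σ₁, hli⟩ := exists_linearIndependent_pair_of_one_lt_finrank (by omega :
    1 < Module.finrank k (Coh.structureModule X ⟶ L)) hσ₀
  exact iso_P1_of_two_sections k X hdim hreg L hL hdeg σ₀ σ₁ (LinearIndependent.pair_iff.mp hli)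

end Char

end P1Iso
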