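import Mathlib
import Groth.Prelude
import Groth.Agent.Lib.P1Iso7_helper9
import Groth.Agent.Lib.NormFieldFT_helper4
import Groth.Agent.Lib.CurvePtInv6_helper9

/-!
# Integral proper curves of genus zero over an algebraically closed field (helper9)
APPEND-ONLY once landed.
-/

set_option autoImplicit false
universe u
open CategoryTheory CategoryTheory.Limits AlgebraicGeometry Opposite TopologicalSpace

namespace P1Iso

open QcqsLoc QCohExtn EllPic

section AlgClosed

variable (k : Type u) [Field k] (X : Scheme.{u}) [X.Over (Spec (CommRingCat.of k))]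
  [IsIntegral X] [IsProper (X ↘ Spec (CommRingCat.of k))]

attribute [local instance] Curv2.resAlgebra

include k in
/-- an integral scheme locally of finite type over a field has a closed point whose local ring is
integrally closed -/
theorem exists_closed_normal_point :
    ∃ x : X, IsClosed ({x} : Set X) ∧ IsIntegrallyClosed (X.presheaf.stalk x) := by
  haveI : JacobsonSpace ↥(Spec (CommRingCat.of k)) :=
    inferInstanceAs (JacobsonSpace (PrimeSpectrum k))
  haveI : JacobsonSpace X := LocallyOfFiniteType.jacobsonSpace (X ↘ Spec (CommRingCat.of k))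
  obtain ⟨_, ⟨U, hU : IsAffineOpen U, rfl⟩, hξU, -⟩ :=
    (X.isBasis_affineOpens).exists_subset_of_mem_open (Set.mem_univ (genericPoint X)) isOpen_univ
  have hne : Nonempty ((U : X.Opens) : Scheme.{u}) := ⟨⟨genericPoint X, hξU⟩⟩
  obtain ⟨V, hVne, hV⟩ := Groth.Agent.Lib.NormFieldFTH4.exists_open_normal X U hU hne
    (Groth.Agent.Lib.NormFieldFTH4.isN2_sections k X U hU hne)
  obtain ⟨q, hqV, hq⟩ := nonempty_inter_closedPoints hVne V.isOpen.isLocallyClosed
  exact ⟨q, hq, hV q hqV⟩

/-- **an integral proper curve with `H¹(O) = 0` over an algebraically closed field is the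
projective line** -/
theorem iso_P1_of_algClosed [IsAlgClosed k] (hdim : topologicalKrullDim X = 1)
    (hg : Curv2.genus k X = 0) :
    ∃ e : X ≅ CohB1.ProjSpace 1 k,
      e.hom ≫ CohB1.ProjSpace.toSpec 1 k = X ↘ Spec (CommRingCat.of k) := by
  classical
  haveI : IsLocallyNoetherian X :=
    LocallyOfFiniteType.isLocallyNoetherian (X ↘ Spec (CommRingCat.of k))
  obtain ⟨x, hx, hn⟩ := exists_closed_normal_point k X
  haveI := ProperFinH9.finite_HH_of_proper k X _ (CohDevH8.isCoh_structureModule X) 1
  have h1 : Subsingleton (Coh.HH X (Coh.structureModule X) 1) := by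
    have hg' : Module.finrank k (Coh.HH X (Coh.structureModule X) 1) = 0 := hg
    exact Module.finrank_zero_iff.mp hg'
  have hd : Module.finrank k (X.residueField x) = 1 := by
    rw [← ptDeg_eq_finrank_residueField k X x hx]
    exact CurvePtInv.finrank_HH0_quotMod_point k X x hx
  apply iso_P1_of_gcd_one k X hdim h1 {x}
  · intro y hy
    rw [Finset.mem_singleton.mp hy]
    exact hx
  · intro y hy
    rw [Finset.mem_singleton.mp hy]
    exact hn
  · rw [Finset.gcd_singleton, hd]
    rfl

/-- **statement of S14512** -/
theorem smooth_of_algClosed [IsAlgClosed k] (hdim : topologicalKrullDim X = 1)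
    (hg : Curv2.genus k X = 0) : Smooth (X ↘ Spec (CommRingCat.of k)) := by
  obtain ⟨e, he⟩ := iso_P1_of_algClosed k X hdim hg
  haveI : Smooth (CohB1.ProjSpace.toSpec 1 k) := Groth.Agent.Lib.ProjSmoothH4.smooth_toSpec 1 k
  rw [← he]
  infer_instance

end AlgClosed

end P1Iso
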