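import Mathlib
import Groth.Prelude
import Groth.Agent.Lib.GenusZero1_helper9
import Groth.Agent.Lib.P1Iso8_helper9
import Groth.Agent.Lib.EulerBC_helper9
import Groth.Agent.Lib.ProjConn_helper9
import Groth.Agent.Lib.CurveRR1_helper9

/-!
# Geometrically integral curves of genus zero: smoothness by descent from the algebraic closure
(helper9). APPEND-ONLY once landed.
-/

set_option autoImplicit false
universe u
open CategoryTheory CategoryTheory.Limits AlgebraicGeometry Opposite TopologicalSpace

namespace GZ9

section BC2

variable (k : Type u) [Field k] (X : Scheme.{u}) [X.Over (Spec (CommRingCat.of k))]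

/-- base changes of a geometrically integral scheme are integral -/
theorem isIntegral_bc [GeometricallyIntegral (X ↘ Spec (CommRingCat.of k))]
    (K : Type u) [Field K] [Algebra k K] : IsIntegral (Curv2.bc k X K) :=
  GeometricallyIntegral.geometrically_isIntegral (f := X ↘ Spec (CommRingCat.of k))
    (Spec.map (CommRingCat.ofHom (algebraMap k K))) _ _ (IsPullback.of_hasPullback _ _)

/-- smoothness descends along an extension of the base field -/
theorem smooth_of_smooth_bc (K : Type u) [Field K] [Algebra k K]
    (h : Smooth (Curv2.bcSnd k X K)) : Smooth (X ↘ Spec (CommRingCat.of k)) :=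
  MorphismProperty.of_pullback_snd_of_descendsAlong (P := @Smooth)
    (Q := (@Surjective ⊓ @Flat ⊓ @QuasiCompact : MorphismProperty Scheme.{u}))
    (f := X ↘ Spec (CommRingCat.of k)) (g := Spec.map (CommRingCat.ofHom (algebraMap k K)))
    ⟨⟨inferInstance, inferInstance⟩, inferInstance⟩ h

variable [IsProper (X ↘ Spec (CommRingCat.of k))]

/-- the cohomology of the structure sheaf under extension of the base field -/
theorem finrank_HH_structure_bc (K : Type u) [Field K] [Algebra k K] (i : ℕ) :
    letI : (Curv2.bc k X K).Over (Spec (CommRingCat.of K)) := ⟨Curv2.bcSnd k X K⟩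
    Module.finrank K (Coh.HH (Curv2.bc k X K) (Coh.structureModule (Curv2.bc k X K)) i) =
      Module.finrank k (Coh.HH X (Coh.structureModule X) i) := by
  letI : (Curv2.bc k X K).Over (Spec (CommRingCat.of K)) := ⟨Curv2.bcSnd k X K⟩
  haveI : CompactSpace X :=
    QuasiCompact.compactSpace_of_compactSpace (X ↘ Spec (CommRingCat.of k))
  haveI : QuasiSeparatedSpace X :=
    quasiSeparatedSpace_of_quasiSeparated (X ↘ Spec (CommRingCat.of k))
  haveI : Coh.IsQCoh (Coh.structureModule X) := (CohDevH8.isCoh_structureModule X).1
  have h1 := EulerBC.finrank_HH_bc k X K (Coh.structureModule X) i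
  rw [← h1]
  exact ((Groth.Agent.HypConn.hhEquivOfIso (A := K)
    (PBH8.pullbackUnitIso (Curv2.bcFst k X K)) i).finrank_eq).symm

variable [GeometricallyIntegral (X ↘ Spec (CommRingCat.of k))]

/-- a geometrically integral proper curve with `H¹(O) = 0` is smooth -/
theorem smooth_of_genus_zero (hdim : topologicalKrullDim X = 1) (hg : Curv2.genus k X = 0) :
    Smooth (X ↘ Spec (CommRingCat.of k)) := by
  obtain ⟨K, hK⟩ : ∃ K : Type u, K = AlgebraicClosure k := ⟨_, rfl⟩
  subst hK
  letI : (Curv2.bc k X (AlgebraicClosure k)).Over (Spec (CommRingCat.of (AlgebraicClosure k))) :=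
    ⟨Curv2.bcSnd k X (AlgebraicClosure k)⟩
  haveI : IsIntegral (Curv2.bc k X (AlgebraicClosure k)) := isIntegral_bc k X _
  haveI : IsProper (Curv2.bc k X (AlgebraicClosure k) ↘
      Spec (CommRingCat.of (AlgebraicClosure k))) :=
    inferInstanceAs (IsProper (pullback.snd (X ↘ Spec (CommRingCat.of k))
      (Spec.map (CommRingCat.ofHom (algebraMap k (AlgebraicClosure k))))))
  have hdim' : topologicalKrullDim (Curv2.bc k X (AlgebraicClosure k)) = 1 := by
    rw [dim_bc k X (AlgebraicClosure k), hdim]
  have hg' : Curv2.genus (AlgebraicClosure k) (Curv2.bc k X (AlgebraicClosure k)) = 0 := by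
    unfold Curv2.genus
    rw [finrank_HH_structure_bc k X (AlgebraicClosure k) 1]
    exact hg
  have hsm := P1Iso.smooth_of_algClosed (AlgebraicClosure k) (Curv2.bc k X (AlgebraicClosure k))
    hdim' hg'
  exact smooth_of_smooth_bc k X (AlgebraicClosure k) hsm

end BC2

end GZ9
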