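import Groth.Agent.Lib.GenFlatHom_lead
import Groth.Agent.S0114

/-! # Groups with open unit section are unramified; quotients by open subgroups are étale (lead) -/

set_option backward.isDefEq.respectTransparency false
set_option backward.isDefEq.respectTransparency.types false
set_option linter.unusedSimpArgs false
set_option linter.unusedVariables false
set_option linter.unusedSectionVars false
set_option linter.style.longLine false
set_option linter.style.haveILetI false
set_option maxHeartbeats 800000

universe u

open CategoryTheory CategoryTheory.Limits MonoidalCategory CartesianMonoidalCategory MonObj GrpObj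
  AlgebraicGeometry Opposite Topology

namespace Groth.Agent.Lib.EtaleQuotOpen

open Groth.Agent.Lib.AssocBundle

variable {S : Scheme.{u}}

/-- the diagonal of a group object is the base change of the unit section along `(a, b) ↦ a⁻¹ b` -/
theorem diag_sq (Q : Over S) [GrpObj Q] :
    IsPullback (lift (𝟙 Q) (𝟙 Q)) (toUnit Q) ((fst Q Q)⁻¹ * (snd Q Q)) η[Q] := by
  apply isPullback_of_exists_unique
  · rw [MonObj.comp_mul, GrpObj.comp_inv, lift_fst, lift_snd, _root_.inv_mul_cancel, Hom.one_def]
  · intro T a b hab
    have h1 : (a ≫ fst Q Q)⁻¹ * (a ≫ snd Q Q) = 1 := by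
      rw [← GrpObj.comp_inv, ← MonObj.comp_mul, hab, Hom.one_def,
        toUnit_unique b (toUnit T)]
    have h2 : a ≫ fst Q Q = a ≫ snd Q Q := by
      have := inv_mul_eq_one.mp h1
      exact this
    refine ⟨a ≫ fst Q Q, ?_, toUnit_unique _ _⟩
    apply CartesianMonoidalCategory.hom_ext
    · rw [Category.assoc, lift_fst, Category.comp_id]
    · rw [Category.assoc, lift_snd, Category.comp_id, h2]
  · intro T l l' h1 _
    have := congrArg (· ≫ fst Q Q) h1
    simpa using this

theorem diag_left (Q : Over S) : (lift (𝟙 Q) (𝟙 Q)).left = pullback.diagonal Q.hom := by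
  apply pullback.hom_ext
  · have h : (lift (𝟙 Q) (𝟙 Q)).left ≫ (fst Q Q).left = 𝟙 _ := by
      rw [← Over.comp_left, lift_fst]; rfl
    rw [pullback.diagonal_fst]; exact h
  · have h : (lift (𝟙 Q) (𝟙 Q)).left ≫ (snd Q Q).left = 𝟙 _ := by
      rw [← Over.comp_left, lift_snd]; rfl
    rw [pullback.diagonal_snd]; exact h

/-- a group scheme whose unit section is an open immersion is formally unramified -/
theorem unramified_of_unit_open (Q : Over S) [GrpObj Q] [IsOpenImmersion (η[Q]).left] :
    FormallyUnramified Q.hom := by
  have sq : IsPullback (toUnit Q).left (lift (𝟙 Q) (𝟙 Q)).left (η[Q]).left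
      ((fst Q Q)⁻¹ * (snd Q Q)).left := ((diag_sq Q).map (Over.forget S)).flip
  have h : IsOpenImmersion (lift (𝟙 Q) (𝟙 Q)).left :=
    MorphismProperty.of_isPullback (P := @IsOpenImmersion) sq inferInstance
  rw [diag_left] at h
  haveI := h
  infer_instance

/-- the quotient of a flat, locally finitely presented group by an open subgroup is étale -/
theorem etale_quot_open {G G0 Q : Over S} [GrpObj G] [GrpObj Q] (i : G0 ⟶ G)
    [IsOpenImmersion i.left] (p : G ⟶ Q) [Flat p.left] [Surjective p.left]
    [LocallyOfFinitePresentation p.left] [Flat G.hom] [LocallyOfFinitePresentation G.hom]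
    (hK : AlgGrp.IsKernel i p) : Etale Q.hom := by
  have sq : IsPullback i.left (toUnit G0).left p.left (η[Q]).left :=
    (show IsPullback i (toUnit G0) p η[Q] from hK).map (Over.forget _)
  haveI : IsOpenImmersion (η[Q]).left :=
    MorphismProperty.of_isPullback_of_descendsAlong (P := @IsOpenImmersion)
      (Q := @Surjective ⊓ @Flat ⊓ @LocallyOfFinitePresentation) sq
      ⟨⟨inferInstance, inferInstance⟩, inferInstance⟩ inferInstance
  haveI : FormallyUnramified Q.hom := unramified_of_unit_open Q
  haveI : Flat (p.left ≫ Q.hom) := by rw [Over.w p]; infer_instance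
  haveI : Flat Q.hom := Groth.Agent.S1128.result p.left Q.hom
  haveI : LocallyOfFinitePresentation (p.left ≫ Q.hom) := by rw [Over.w p]; infer_instance
  haveI : LocallyOfFinitePresentation Q.hom := Groth.Agent.S0114.result p.left Q.hom
  exact Etale.of_formallyUnramified_of_flat Q.hom

end Groth.Agent.Lib.EtaleQuotOpen
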