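import Groth.Statements.S8000
import Groth.Statements.S8001
import Groth.Statements.S8017
import Groth.Agent.Lib.SepPts_helper6
import Groth.Agent.Lib.RatPts_helper4
import Groth.Agent.Lib.GrpSepDisc_helper4
import Groth.Agent.Lib.GenFlatHom_lead
import Groth.Agent.Lib.EtaleQuotOpen_lead

/-! # Points with values in a separably closed field are schematically dense in a smooth scheme
(lead) -/

set_option backward.isDefEq.respectTransparency false
set_option backward.isDefEq.respectTransparency.types false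
set_option linter.unusedSimpArgs false
set_option linter.unusedVariables false
set_option linter.unusedSectionVars false
set_option linter.style.longLine false
set_option linter.style.haveILetI false
set_option maxHeartbeats 800000

universe u

open CategoryTheory CategoryTheory.Limits MonoidalCategory CartesianMonoidalCategory MonObj GrpObj
  AlgebraicGeometry Opposite Topology

namespace Groth.Agent.Lib.SepClosedPts

open Groth.Agent.Lib.AssocBundle Groth.Agent.Lib.EtaleQuotOpen

attribute [local instance] Curv2.resAlgebra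

variable (k K : Type u) [Field k] [Field K] [Algebra k K] [IsSepClosed K]

/-- a closed subscheme of a smooth `k`-scheme through which all `K`-points factor is everything -/
theorem isIso_of_Kpts (X : Over (Spec (CommRingCat.of k))) [Smooth X.hom] {E : Scheme.{u}}
    (j : E ⟶ X.left) [IsClosedImmersion j]
    (h : ∀ x : Over.mk (Spec.map (CommRingCat.ofHom (algebraMap k K))) ⟶ X,
      ∃ e : Spec (CommRingCat.of K) ⟶ E, e ≫ j = x.left) : IsIso j := by
  letI : X.left.Over (Spec (CommRingCat.of k)) := ⟨X.hom⟩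
  haveI : Smooth (X.left ↘ Spec (CommRingCat.of k)) := ‹Smooth X.hom›
  haveI : IsReduced X.left := Groth.Agent.Lib.GenFlatHom.isReduced_of_smooth X
  have hD := Groth.Agent.Lib.SepPts_helper6.dense_sepPts k X.left
  have hsub : {x : X.left | IsClosed ({x} : Set X.left) ∧
      FiniteDimensional k (X.left.residueField x) ∧
      Algebra.IsSeparable k (X.left.residueField x)} ⊆ Set.range j := by
    rintro x ⟨-, -, hsep⟩
    haveI := hsep
    let φ : X.left.residueField x →ₐ[k] K := IsSepClosed.lift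
    have hφ : Spec.map (CommRingCat.ofHom φ.toRingHom) ≫ X.left.fromSpecResidueField x ≫ X.hom =
        Spec.map (CommRingCat.ofHom (algebraMap k K)) := by
      have h1 := RatPtsH4.fromSpecResidueField_comp k X.left x
      have h2 : X.left.fromSpecResidueField x ≫ X.hom =
          Spec.map (CommRingCat.ofHom (Curv2.resMap k X.left x)) := h1
      rw [h2, ← Spec.map_comp]
      congr 1
      ext a
      exact φ.commutes a
    let pt : Over.mk (Spec.map (CommRingCat.ofHom (algebraMap k K))) ⟶ X :=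
      Over.homMk (Spec.map (CommRingCat.ofHom φ.toRingHom) ≫ X.left.fromSpecResidueField x)
        (by rw [Category.assoc]; exact hφ)
    obtain ⟨e, he⟩ := h pt
    obtain ⟨z⟩ : Nonempty (Spec (CommRingCat.of K)) :=
      inferInstanceAs (Nonempty (PrimeSpectrum K))
    refine ⟨e z, ?_⟩
    have h3 : (e ≫ j) z = pt.left z :=
      congrArg (fun t : Spec (CommRingCat.of K) ⟶ X.left => t z) he
    rw [Scheme.Hom.comp_apply] at h3
    rw [h3]
    show (Spec.map (CommRingCat.ofHom φ.toRingHom) ≫ X.left.fromSpecResidueField x) z = x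
    rw [Scheme.Hom.comp_apply]
    exact Scheme.fromSpecResidueField_apply x _
  have hcl : IsClosed (Set.range j) := j.isClosedEmbedding.isClosed_range
  have hrange : Set.range j = Set.univ :=
    hcl.closure_eq.symm.trans (hD.mono hsub).closure_eq
  haveI : Surjective j := ⟨Set.range_eq_univ.1 hrange⟩
  exact isIso_of_isClosedImmersion_of_surjective j

/-- two morphisms from a smooth `k`-scheme to a separated one agreeing on `K`-points are equal -/
theorem eq_of_Kpts (X Y : Over (Spec (CommRingCat.of k))) [Smooth X.hom] [IsSeparated Y.hom]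
    (f₁ f₂ : X ⟶ Y)
    (h : ∀ x : Over.mk (Spec.map (CommRingCat.ofHom (algebraMap k K))) ⟶ X, x ≫ f₁ = x ≫ f₂) :
    f₁ = f₂ := by
  have hΔ : IsClosedImmersion (lift (𝟙 Y) (𝟙 Y)).left := by
    rw [diag_left]; exact IsSeparated.isClosedImmersion_diagonal
  let j := pullback.fst (lift f₁ f₂).left (lift (𝟙 Y) (𝟙 Y)).left
  have c : j ≫ (lift f₁ f₂).left =
      pullback.snd (lift f₁ f₂).left (lift (𝟙 Y) (𝟙 Y)).left ≫ (lift (𝟙 Y) (𝟙 Y)).left :=
    pullback.condition
  haveI : IsClosedImmersion j := MorphismProperty.pullback_fst (P := @IsClosedImmersion) _ _ hΔ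
  have hpts : ∀ x : Over.mk (Spec.map (CommRingCat.ofHom (algebraMap k K))) ⟶ X,
      ∃ e : Spec (CommRingCat.of K) ⟶ pullback (lift f₁ f₂).left (lift (𝟙 Y) (𝟙 Y)).left,
        e ≫ j = x.left := by
    intro x
    refine ⟨pullback.lift x.left (x ≫ f₁).left ?_, pullback.lift_fst _ _ _⟩
    rw [← Over.comp_left, ← Over.comp_left, comp_lift, comp_lift, Category.comp_id, h x]
  haveI : IsIso j := isIso_of_Kpts k K X j hpts
  have a1 : (lift f₁ f₂).left ≫ (fst Y Y).left = f₁.left := by rw [← Over.comp_left, lift_fst]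
  have a2 : (lift f₁ f₂).left ≫ (snd Y Y).left = f₂.left := by rw [← Over.comp_left, lift_snd]
  have b1 : (lift (𝟙 Y) (𝟙 Y)).left ≫ (fst Y Y).left = 𝟙 _ := by
    rw [← Over.comp_left, lift_fst]; rfl
  have b2 : (lift (𝟙 Y) (𝟙 Y)).left ≫ (snd Y Y).left = 𝟙 _ := by
    rw [← Over.comp_left, lift_snd]; rfl
  have e1 : j ≫ f₁.left = pullback.snd (lift f₁ f₂).left (lift (𝟙 Y) (𝟙 Y)).left := by
    rw [← a1, ← Category.assoc, c, Category.assoc, b1, Category.comp_id]
  have e2 : j ≫ f₂.left = pullback.snd (lift f₁ f₂).left (lift (𝟙 Y) (𝟙 Y)).left := by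
    rw [← a2, ← Category.assoc, c, Category.assoc, b2, Category.comp_id]
  apply Over.OverMorphism.ext
  rw [← cancel_epi j, e1, e2]

variable {k K}

theorem smooth_tensor (G H : Over (Spec (CommRingCat.of k))) [Smooth G.hom] [Smooth H.hom] :
    Smooth (G ⊗ H).hom := by
  rw [Over.tensorObj_hom]; infer_instance

theorem main8001 (G H : Over (Spec (CommRingCat.of k))) [GrpObj G] [GrpObj H]
    [Smooth G.hom] [Smooth H.hom] (i : H ⟶ G)
    (hK : ∀ g : Over.mk (Spec.map (CommRingCat.ofHom (algebraMap k K))) ⟶ G,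
      ∀ h : Over.mk (Spec.map (CommRingCat.ofHom (algebraMap k K))) ⟶ H, g * (h ≫ i) = (h ≫ i) * g)
    (T : Over (Spec (CommRingCat.of k))) (g : T ⟶ G) (h : T ⟶ H) : g * (h ≫ i) = (h ≫ i) * g := by
  haveI : IsSeparated G.hom := GrpSepDiscH4.main5331 _ G
  haveI : Smooth (G ⊗ H).hom := smooth_tensor G H
  have key : (fst G H) * (snd G H ≫ i) = (snd G H ≫ i) * (fst G H) := by
    apply eq_of_Kpts k K (G ⊗ H) G
    intro x
    rw [MonObj.comp_mul, MonObj.comp_mul, ← Category.assoc]
    exact hK _ _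
  have e := congrArg (fun t => lift g h ≫ t) key
  simp only [MonObj.comp_mul, lift_fst, lift_snd_assoc] at e
  exact e

theorem main8000 (G H : Over (Spec (CommRingCat.of k))) [GrpObj G] [GrpObj H]
    [Smooth G.hom] [Smooth H.hom] (i : H ⟶ G) [IsClosedImmersion i.left]
    (hK : ∀ g : Over.mk (Spec.map (CommRingCat.ofHom (algebraMap k K))) ⟶ G,
      ∀ h : Over.mk (Spec.map (CommRingCat.ofHom (algebraMap k K))) ⟶ H,
      ∃ h' : Over.mk (Spec.map (CommRingCat.ofHom (algebraMap k K))) ⟶ H,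
        g * (h ≫ i) * g⁻¹ = h' ≫ i) :
    AlgGrp.IsNormalHom i := by
  let c : G ⊗ H ⟶ G := fst G H * (snd G H ≫ i) * (fst G H)⁻¹
  have hc : ∀ {T : Over (Spec (CommRingCat.of k))} (g : T ⟶ G) (n : T ⟶ H),
      lift g n ≫ c = g * (n ≫ i) * g⁻¹ := by
    intro T g n
    show lift g n ≫ (fst G H * (snd G H ≫ i) * (fst G H)⁻¹) = _
    rw [MonObj.comp_mul, MonObj.comp_mul, GrpObj.comp_inv, lift_fst, lift_snd_assoc]
  haveI : Smooth (G ⊗ H).hom := smooth_tensor G H
  let j := pullback.fst c.left i.left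
  have cond : j ≫ c.left = pullback.snd c.left i.left ≫ i.left := pullback.condition
  haveI : IsClosedImmersion j :=
    MorphismProperty.pullback_fst (P := @IsClosedImmersion) _ _ ‹IsClosedImmersion i.left›
  have hpts : ∀ x : Over.mk (Spec.map (CommRingCat.ofHom (algebraMap k K))) ⟶ G ⊗ H,
      ∃ e : Spec (CommRingCat.of K) ⟶ pullback c.left i.left, e ≫ j = x.left := by
    intro x
    obtain ⟨h', hh'⟩ := hK (x ≫ fst G H) (x ≫ snd G H)
    have hx : x ≫ c = h' ≫ i := by
      calc x ≫ c = lift (x ≫ fst G H) (x ≫ snd G H) ≫ c := by rw [← lift_eta x]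
        _ = h' ≫ i := by rw [hc]; exact hh'
    refine ⟨pullback.lift x.left h'.left ?_, pullback.lift_fst _ _ _⟩
    rw [← Over.comp_left, ← Over.comp_left, hx]
  haveI : IsIso j := isIso_of_Kpts k K (G ⊗ H) j hpts
  let c' : (G ⊗ H).left ⟶ H.left := inv j ≫ pullback.snd c.left i.left
  have hc' : c' ≫ i.left = c.left := by
    show (inv j ≫ pullback.snd c.left i.left) ≫ i.left = c.left
    rw [Category.assoc, ← cond, IsIso.inv_hom_id_assoc]
  let c'' : G ⊗ H ⟶ H := Over.homMk c' (by
    rw [← Over.w i, ← Category.assoc, hc', Over.w c])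
  have hc'' : c'' ≫ i = c := by
    apply Over.OverMorphism.ext
    exact hc'
  intro T g n
  exact ⟨lift g n ≫ c'', by rw [Category.assoc, hc'', hc]⟩

theorem main8017 (G H₁ H₂ : Over (Spec (CommRingCat.of k))) [Smooth H₁.hom] [Smooth H₂.hom]
    (i₁ : H₁ ⟶ G) [IsClosedImmersion i₁.left] (i₂ : H₂ ⟶ G) [IsClosedImmersion i₂.left]
    (h : ∀ g : Over.mk (Spec.map (CommRingCat.ofHom (algebraMap k K))) ⟶ G,
      (∃ x : Over.mk (Spec.map (CommRingCat.ofHom (algebraMap k K))) ⟶ H₁, x ≫ i₁ = g) ↔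
      (∃ y : Over.mk (Spec.map (CommRingCat.ofHom (algebraMap k K))) ⟶ H₂, y ≫ i₂ = g)) :
    ∃ e : H₁ ≅ H₂, e.hom ≫ i₂ = i₁ := by
  let j₁ := pullback.fst i₁.left i₂.left
  let j₂ := pullback.snd i₁.left i₂.left
  have c : j₁ ≫ i₁.left = j₂ ≫ i₂.left := pullback.condition
  haveI : IsClosedImmersion j₁ :=
    MorphismProperty.pullback_fst (P := @IsClosedImmersion) _ _ ‹IsClosedImmersion i₂.left›
  haveI : IsClosedImmersion j₂ :=
    MorphismProperty.pullback_snd (P := @IsClosedImmersion) _ _ ‹IsClosedImmersion i₁.left›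
  haveI : IsIso j₁ := isIso_of_Kpts k K H₁ j₁ (fun x => by
    obtain ⟨y, hy⟩ := (h (x ≫ i₁)).1 ⟨x, rfl⟩
    refine ⟨pullback.lift x.left y.left ?_, pullback.lift_fst _ _ _⟩
    rw [← Over.comp_left, ← Over.comp_left, hy])
  haveI : IsIso j₂ := isIso_of_Kpts k K H₂ j₂ (fun y => by
    obtain ⟨x, hx⟩ := (h (y ≫ i₂)).2 ⟨y, rfl⟩
    refine ⟨pullback.lift x.left y.left ?_, pullback.lift_snd _ _ _⟩
    rw [← Over.comp_left, ← Over.comp_left, hx])
  have w : (inv j₁ ≫ j₂) ≫ H₂.hom = H₁.hom := by
    rw [← Over.w i₂, ← Over.w i₁, Category.assoc, ← Category.assoc j₂, ← c, Category.assoc,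
      IsIso.inv_hom_id_assoc]
  refine ⟨Over.isoMk ((asIso j₁).symm ≪≫ asIso j₂) (by simpa using w), ?_⟩
  apply Over.OverMorphism.ext
  simp only [Over.comp_left, Over.isoMk_hom_left, Iso.trans_hom, Iso.symm_hom, asIso_inv,
    asIso_hom, Category.assoc]
  rw [← c, IsIso.inv_hom_id_assoc]

end Groth.Agent.Lib.SepClosedPts
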