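import Groth.Statements.S16064
import Groth.Agent.Lib.SepClosedPts_lead

/-! # A torsor under a smooth group over a field is smooth and has a point in the separable closure
(lead) -/

set_option backward.isDefEq.respectTransparency false
set_option backward.isDefEq.respectTransparency.types false
set_option linter.unusedSimpArgs false
set_option linter.unusedVariables false
set_option linter.unusedSectionVars false
set_option linter.style.longLine false
set_option linter.style.haveILetI false
set_option maxHeartbeats 800000

universe u

open CategoryTheory CategoryTheory.Limits MonoidalCategory CartesianMonoidalCategory MonObj GrpObj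
  AlgebraicGeometry Opposite Topology

namespace Groth.Agent.Lib.TorsorSepPt

attribute [local instance] Curv2.resAlgebra

variable (k : Type u) [Field k]

/-- a (nonempty, quasi-compact) torsor under a smooth group over a field is smooth -/
theorem smooth_of_torsor (G X : Over (Spec (CommRingCat.of k))) [GrpObj G] [Smooth G.hom]
    [QuasiCompact X.hom] [Nonempty X.left]
    (a : AlgGrp.Action G X) (hX : IsIso (lift a.act (snd G X))) : Smooth X.hom := by
  haveI : Subsingleton (Spec (CommRingCat.of k)) :=
    inferInstanceAs (Subsingleton (PrimeSpectrum k))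
  haveI : Flat X.hom := inferInstance
  haveI : Surjective X.hom := ⟨fun y => by
    obtain ⟨x0⟩ := ‹Nonempty X.left›
    exact ⟨x0, Subsingleton.elim _ _⟩⟩
  have hsq : IsPullback (snd X X).left (fst X X).left X.hom X.hom :=
    (IsPullback.of_hasPullback X.hom X.hom).flip
  have h1 : Smooth (snd G X).left := by
    show Smooth (pullback.snd G.hom X.hom)
    infer_instance
  have h2 : (snd X X).left = (inv (lift a.act (snd G X))).left ≫ (snd G X).left := by
    rw [← Over.comp_left]
    congr 1
    rw [IsIso.eq_inv_comp, lift_snd]
  have h3 : Smooth (snd X X).left := by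
    rw [h2]
    haveI : IsIso (inv (lift a.act (snd G X))).left := (Over.forget _).map_isIso _
    infer_instance
  exact MorphismProperty.DescendsAlong.of_isPullback (P := @Smooth)
    (Q := @Surjective ⊓ @Flat ⊓ @QuasiCompact) hsq ⟨⟨inferInstance, inferInstance⟩, inferInstance⟩ h3

theorem main16064 (ks : Type u) [Field ks] [Algebra k ks] [IsSepClosure k ks]
    (G X : Over (Spec (CommRingCat.of k))) [GrpObj G] [Smooth G.hom]
    [LocallyOfFiniteType X.hom] [QuasiCompact X.hom] [Nonempty X.left]
    (a : AlgGrp.Action G X) (hX : IsIso (lift a.act (snd G X))) :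
    Nonempty (SGA7.Pts ks X) := by
  haveI : Smooth X.hom := smooth_of_torsor k G X a hX
  haveI : IsSepClosed ks := IsSepClosure.sep_closed k
  letI : X.left.Over (Spec (CommRingCat.of k)) := ⟨X.hom⟩
  haveI : Smooth (X.left ↘ Spec (CommRingCat.of k)) := ‹Smooth X.hom›
  have hD := Groth.Agent.Lib.SepPts_helper6.dense_sepPts k X.left
  obtain ⟨x, -, -, hsep⟩ := hD.nonempty
  haveI := hsep
  let φ : X.left.residueField x →ₐ[k] ks := IsSepClosed.lift
  have hφ : Spec.map (CommRingCat.ofHom φ.toRingHom) ≫ X.left.fromSpecResidueField x ≫ X.hom =
      Spec.map (CommRingCat.ofHom (algebraMap k ks)) := by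
    have h1 := RatPtsH4.fromSpecResidueField_comp k X.left x
    have h2 : X.left.fromSpecResidueField x ≫ X.hom =
        Spec.map (CommRingCat.ofHom (Curv2.resMap k X.left x)) := h1
    rw [h2, ← Spec.map_comp]
    congr 1
    ext a
    exact φ.commutes a
  exact ⟨Over.homMk (Spec.map (CommRingCat.ofHom φ.toRingHom) ≫ X.left.fromSpecResidueField x)
      (by rw [Category.assoc]; exact hφ)⟩

end Groth.Agent.Lib.TorsorSepPt
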