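import Groth.Statements.S16063
import Groth.Agent.Lib.TorsorSepPt_lead
import Groth.Agent.Lib.ExtProps_lead

/-! # Surjectivity on separable points of a quotient map with smooth kernel (lead) -/

set_option backward.isDefEq.respectTransparency false
set_option backward.isDefEq.respectTransparency.types false
set_option linter.unusedSimpArgs false
set_option linter.unusedVariables false
set_option linter.unusedSectionVars false
set_option linter.style.longLine false
set_option linter.style.haveILetI false
set_option maxHeartbeats 800000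

universe u

open CategoryTheory CategoryTheory.Limits MonoidalCategory CartesianMonoidalCategory MonObj GrpObj
  AlgebraicGeometry Opposite Topology

namespace Groth.Agent.Lib.TorsorSepPt

attribute [local instance] Curv2.resAlgebra

/-- a nonempty smooth scheme over `k` has a point with values in any separably closed extension -/
theorem exists_sepPt (k ks : Type u) [Field k] [Field ks] [Algebra k ks] [IsSepClosed ks]
    (X : Over (Spec (CommRingCat.of k))) [Smooth X.hom] [Nonempty X.left] :
    Nonempty (SGA7.Pts ks X) := by
  letI : X.left.Over (Spec (CommRingCat.of k)) := ⟨X.hom⟩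
  haveI : Smooth (X.left ↘ Spec (CommRingCat.of k)) := ‹Smooth X.hom›
  have hD := Groth.Agent.Lib.SepPts_helper6.dense_sepPts k X.left
  obtain ⟨x, -, -, hsep⟩ := hD.nonempty
  haveI := hsep
  let φ : X.left.residueField x →ₐ[k] ks := IsSepClosed.lift
  have hφ : Spec.map (CommRingCat.ofHom φ.toRingHom) ≫ X.left.fromSpecResidueField x ≫ X.hom =
      Spec.map (CommRingCat.ofHom (algebraMap k ks)) := by
    have h1 := RatPtsH4.fromSpecResidueField_comp k X.left x
    have h2 : X.left.fromSpecResidueField x ≫ X.hom =
        Spec.map (CommRingCat.ofHom (Curv2.resMap k X.left x)) := h1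
    rw [h2, ← Spec.map_comp]
    congr 1
    ext a
    exact φ.commutes a
  exact ⟨Over.homMk (Spec.map (CommRingCat.ofHom φ.toRingHom) ≫ X.left.fromSpecResidueField x)
      (by rw [Category.assoc]; exact hφ)⟩

/-- a nonempty smooth scheme over a separably closed field has a rational point -/
theorem exists_section (K : Type u) [Field K] [IsSepClosed K] (X : Over (Spec (CommRingCat.of K)))
    [Smooth X.hom] [Nonempty X.left] :
    ∃ s : Spec (CommRingCat.of K) ⟶ X.left, s ≫ X.hom = 𝟙 _ := by
  obtain ⟨p⟩ := exists_sepPt K K X
  refine ⟨p.left, ?_⟩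
  have h := Over.w p
  have e : (SGA7.pt (K := K) K).hom = 𝟙 _ := by
    show Spec.map (CommRingCat.ofHom (RingHom.id K)) = 𝟙 _
    rw [CommRingCat.ofHom_id]
    exact Spec.map_id _
  exact h.trans e

theorem main16063 (k ks : Type u) [Field k] [Field ks] [Algebra k ks] [IsSepClosure k ks]
    (N G Q : Over (Spec (CommRingCat.of k))) [GrpObj N] [GrpObj G] [GrpObj Q]
    [QuasiCompact G.hom] [LocallyOfFiniteType Q.hom]
    (i : N ⟶ G) (q : G ⟶ Q) [IsMonHom q] [Flat q.left] [Surjective q.left]
    (hNG : AlgGrp.IsKernel i q) [Smooth N.hom] :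
    ∀ x : SGA7.Pts ks Q, ∃ g : SGA7.Pts ks G, g ≫ q = x := by
  intro x
  haveI : IsSepClosed ks := IsSepClosure.sep_closed k
  haveI : QuasiCompact q.left := Groth.Agent.Lib.ExtProps.qc_q i q hNG
  haveI : Smooth q.left :=
    Groth.Agent.Lib.IsogKernel.prop_of_kernel i q hNG @Smooth ‹Smooth N.hom›
  let FO : Over (Spec (CommRingCat.of ks)) :=
    Over.mk (show pullback q.left x.left ⟶ Spec (CommRingCat.of ks) from pullback.snd q.left x.left)
  haveI : Smooth FO.hom := by
    show Smooth (pullback.snd q.left x.left)
    infer_instance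
  haveI : Nonempty FO.left := by
    haveI : Surjective (pullback.snd q.left x.left) := inferInstance
    obtain ⟨z⟩ : Nonempty (Spec (CommRingCat.of ks)) :=
      inferInstanceAs (Nonempty (PrimeSpectrum ks))
    obtain ⟨w, _⟩ := (pullback.snd q.left x.left).surjective z
    exact ⟨w⟩
  obtain ⟨s, hs⟩ := exists_section ks FO
  have hs' : s ≫ pullback.snd q.left x.left = 𝟙 _ := hs
  have h1 : (s ≫ pullback.fst q.left x.left) ≫ q.left = x.left := by
    rw [Category.assoc, pullback.condition, ← Category.assoc, hs', Category.id_comp]
  have h2 : (s ≫ pullback.fst q.left x.left) ≫ G.hom = (SGA7.pt (K := k) ks).hom := by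
    rw [← Over.w q, ← Category.assoc, h1]
    exact Over.w x
  refine ⟨Over.homMk (s ≫ pullback.fst q.left x.left) h2, ?_⟩
  ext
  exact h1

end Groth.Agent.Lib.TorsorSepPt
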