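import Mathlib
import Groth.Prelude
import Groth.Agent.Lib.GenusZero2_helper9
import Groth.Agent.S1535
import Groth.Agent.Lib.TorsorSepPt2_lead
import Groth.Agent.Lib.ProjSpace_helper3
import Groth.Agent.Lib.ProjSpaceProper_helper4

/-!
# Geometrically integral curves of genus zero with a rational point are projective lines
(helper9). APPEND-ONLY once landed.
-/

set_option autoImplicit false
universe u
open CategoryTheory CategoryTheory.Limits AlgebraicGeometry Opposite TopologicalSpace

namespace GZ9

open CurvePtInv P1Iso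

section RP

variable (k : Type u) [Field k] (X : Scheme.{u}) [X.Over (Spec (CommRingCat.of k))]
  [IsIntegral X] [IsProper (X ↘ Spec (CommRingCat.of k))]

/-- an integral proper curve with `H¹(O) = 0`, regular closed points and a rational point is the
projective line -/
theorem iso_P1_of_section (hdim : topologicalKrullDim X = 1)
    (h1 : Subsingleton (Coh.HH X (Coh.structureModule X) 1))
    (hreg : ∀ x : X, IsClosed ({x} : Set X) → IsRegularLocalRing (X.presheaf.stalk x))
    (x : Spec (CommRingCat.of k) ⟶ X)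
    (hx : x ≫ (X ↘ Spec (CommRingCat.of k)) = 𝟙 _) :
    ∃ e : X ≅ CohB1.ProjSpace 1 k,
      e.hom ≫ CohB1.ProjSpace.toSpec 1 k = X ↘ Spec (CommRingCat.of k) := by
  haveI : IsLocallyNoetherian X :=
    LocallyOfFiniteType.isLocallyNoetherian (X ↘ Spec (CommRingCat.of k))
  haveI : Nonempty ↥(Spec (CommRingCat.of k)) := inferInstanceAs (Nonempty (PrimeSpectrum k))
  obtain ⟨pt⟩ : Nonempty ↥(Spec (CommRingCat.of k)) := inferInstance
  obtain ⟨hsx, hcx⟩ := support_ker_section k X x hx pt
  have hptx : ∀ z ∈ x.ker.support, IsClosed ({z} : Set X) := by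
    intro z hz
    have hz' : z ∈ (x.ker.support : Set X) := hz
    rw [hsx] at hz'
    rw [Set.mem_singleton_iff.mp hz']
    exact hcx
  have hIinv := isInvertible_idealMod_of_support hdim x.ker
    (fun z hz => ⟨hptx z hz, hreg z (hptx z hz)⟩)
  have hZx : topologicalKrullDim (x.ker.support : Set X) ≤ 0 :=
    CurveSpec.dim_le_zero_of_closed_points _ x.ker.support.isClosed hptx
  have hdx := finrank_HH0_quotMod_ker k x hx
  have hdegI : Curv2.deg k X (ClSub.idealMod x.ker) 1 = -1 := by
    have e := CurveIdeal.euler_structureModule_eq k X x.ker hZx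
    rw [hdx] at e
    unfold Curv2.deg
    push_cast at e ⊢
    linarith
  obtain ⟨N, hN, ⟨eN⟩⟩ := Groth.Agent.InvTensP.exists_inverse _ hIinv
  have hdegN : Curv2.deg k X N 1 = 1 := by
    have h1 := CurveTens.deg_tensorMod k X hdim.le hIinv hN
    rw [CurveTens.deg_of_iso k X eN 1, CurveDeg.deg_structureModule, hdegI] at h1
    linarith
  exact iso_P1_of_genus_zero k X hdim h1 N hN hdegN

end RP

section Main

variable (k : Type u) [Field k] (X : Scheme.{u}) [X.Over (Spec (CommRingCat.of k))]
  [IsProper (X ↘ Spec (CommRingCat.of k))] [GeometricallyIntegral (X ↘ Spec (CommRingCat.of k))]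

include k in
theorem isIntegral_of_geometricallyIntegral : IsIntegral X := by
  haveI : Subsingleton ↥(Spec (CommRingCat.of k)) :=
    inferInstanceAs (Subsingleton (PrimeSpectrum k))
  exact GeometricallyIntegral.isIntegral_of_subsingleton (X ↘ Spec (CommRingCat.of k))

/-- a geometrically integral proper curve of genus zero with a rational point is the projective
line -/
theorem iso_P1_of_genus_zero_of_section (hdim : topologicalKrullDim X = 1)
    (hg : Curv2.genus k X = 0) (x : Spec (CommRingCat.of k) ⟶ X)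
    (hx : x ≫ (X ↘ Spec (CommRingCat.of k)) = 𝟙 _) :
    ∃ e : X ≅ CohB1.ProjSpace 1 k,
      e.hom ≫ CohB1.ProjSpace.toSpec 1 k = X ↘ Spec (CommRingCat.of k) := by
  haveI := isIntegral_of_geometricallyIntegral k X
  haveI := smooth_of_genus_zero k X hdim hg
  haveI : IsLocallyNoetherian X :=
    LocallyOfFiniteType.isLocallyNoetherian (X ↘ Spec (CommRingCat.of k))
  haveI := ProperFinH9.finite_HH_of_proper k X _ (CohDevH8.isCoh_structureModule X) 1
  have h1 : Subsingleton (Coh.HH X (Coh.structureModule X) 1) := by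
    have hg' : Module.finrank k (Coh.HH X (Coh.structureModule X) 1) = 0 := hg
    exact Module.finrank_zero_iff.mp hg'
  exact iso_P1_of_section k X hdim h1 (fun y _ => Groth.Agent.S1535.result k X y) x hx

/-- **S7834** -/
theorem main7834 [IsSepClosed k] (hdim : topologicalKrullDim X = 1) (hg : Curv2.genus k X = 0) :
    ∃ e : X ≅ CohB1.ProjSpace 1 k,
      e.hom ≫ CohB1.ProjSpace.toSpec 1 k = X ↘ (Spec (CommRingCat.of k)) := by
  haveI := isIntegral_of_geometricallyIntegral k X
  haveI := smooth_of_genus_zero k X hdim hg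
  haveI : Smooth (Over.mk (X ↘ Spec (CommRingCat.of k))).hom :=
    ‹Smooth (X ↘ Spec (CommRingCat.of k))›
  haveI : Nonempty (Over.mk (X ↘ Spec (CommRingCat.of k))).left :=
    inferInstanceAs (Nonempty X)
  obtain ⟨s, hs⟩ := Groth.Agent.Lib.TorsorSepPt.exists_section k
    (Over.mk (X ↘ Spec (CommRingCat.of k)))
  exact iso_P1_of_genus_zero_of_section k X hdim hg s hs

end Main

section Main2

/-- **S11575** -/
theorem main11575 (k : Type u) [Field k] (X : Scheme.{u}) [X.Over (Spec (CommRingCat.of k))]
    (hprojX : ∃ (N : ℕ) (i : X ⟶ CohB1.ProjSpace N k), IsClosedImmersion i ∧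
      i ≫ CohB1.ProjSpace.toSpec N k = X ↘ (Spec (CommRingCat.of k)))
    [GeometricallyIntegral (X ↘ (Spec (CommRingCat.of k)))] (hdim : topologicalKrullDim X = 1)
    (hpa : 1 - Curv2.euler k X (Coh.structureModule X) ≤ 0) :
    Smooth (X ↘ (Spec (CommRingCat.of k))) ∧
      ((∃ e : X ≅ CohB1.ProjSpace 1 k,
          e.hom ≫ CohB1.ProjSpace.toSpec 1 k = X ↘ (Spec (CommRingCat.of k))) ↔
        ∃ s : Spec (CommRingCat.of k) ⟶ X, s ≫ (X ↘ (Spec (CommRingCat.of k))) = 𝟙 _) := by
  obtain ⟨N, i, hi, hcomp⟩ := hprojX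
  haveI := hi
  haveI : IsProper (CohB1.ProjSpace.toSpec N k) :=
    Groth.Agent.Lib.ProjSpaceProperH4.isProper_toSpec N k
  haveI : IsProper (X ↘ Spec (CommRingCat.of k)) := by rw [← hcomp]; infer_instance
  haveI := isIntegral_of_geometricallyIntegral k X
  haveI : IsLocallyNoetherian X :=
    LocallyOfFiniteType.isLocallyNoetherian (X ↘ Spec (CommRingCat.of k))
  haveI := (CohDevH8.isCoh_structureModule X).1
  -- `h⁰(O_X) = 1` by base change to the algebraic closure
  have h0 : Module.finrank k (Coh.HH X (Coh.structureModule X) 0) = 1 := by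
    letI : (Curv2.bc k X (AlgebraicClosure k)).Over
        (Spec (CommRingCat.of (AlgebraicClosure k))) :=
      ⟨Curv2.bcSnd k X (AlgebraicClosure k)⟩
    haveI : IsIntegral (Curv2.bc k X (AlgebraicClosure k)) := isIntegral_bc k X _
    haveI : IsProper (Curv2.bc k X (AlgebraicClosure k) ↘
        Spec (CommRingCat.of (AlgebraicClosure k))) :=
      inferInstanceAs (IsProper (pullback.snd (X ↘ Spec (CommRingCat.of k))
        (Spec.map (CommRingCat.ofHom (algebraMap k (AlgebraicClosure k))))))
    haveI : IsLocallyNoetherian (Curv2.bc k X (AlgebraicClosure k)) :=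
      LocallyOfFiniteType.isLocallyNoetherian (Curv2.bc k X (AlgebraicClosure k) ↘
        Spec (CommRingCat.of (AlgebraicClosure k)))
    haveI := ProperFinH9.finite_HH_of_proper (AlgebraicClosure k)
      (Curv2.bc k X (AlgebraicClosure k)) _
      (CohDevH8.isCoh_structureModule (Curv2.bc k X (AlgebraicClosure k))) 0
    rw [← finrank_HH_structure_bc k X (AlgebraicClosure k) 0]
    exact Groth.Agent.ProjConn.finrank_h0_of_isIntegral (AlgebraicClosure k)
  have hg : Curv2.genus k X = 0 := by
    have e := CurveRR.euler_eq_sub k X hdim.le (Coh.structureModule X)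
    rw [h0] at e
    have : (Module.finrank k (Coh.HH X (Coh.structureModule X) 1) : ℤ) ≤ 0 := by
      push_cast at e
      linarith
    unfold Curv2.genus
    omega
  refine ⟨smooth_of_genus_zero k X hdim hg, ?_, ?_⟩
  · rintro ⟨e, he⟩
    refine ⟨Groth.Agent.Lib.ProjSpace_helper3.sectionPt 1 k ≫ e.inv, ?_⟩
    rw [Category.assoc, ← he, Iso.inv_hom_id_assoc]
    exact Groth.Agent.Lib.ProjSpace_helper3.sectionPt_toSpec 1 k
  · rintro ⟨s, hs⟩
    exact iso_P1_of_genus_zero_of_section k X hdim hg s hs

end Main2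

end GZ9
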