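import Mathlib
import Groth.Prelude
import Groth.Agent.Lib.AutCount1_helper9
import Groth.Agent.Lib.GenusZero3_helper9
import Groth.Agent.Lib.VBCurve5_helper9
import Groth.Agent.Lib.TensInv2_helper9
import Groth.Agent.Lib.InvTensP2_helper5
import Groth.Agent.Lib.CurveIdeal1_helper9

/-!
# Automorphisms of sums of invertible modules of degree zero on a curve over a finite field
(helper9)

* `finrank_HH0_of_geomIntegral`: `h⁰(O_X) = 1` for a geometrically integral proper scheme;
* `nonempty_endStructure`, `nonempty_endInvertible`: `End(L) ≃+* k` for invertible `L`;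
* `homOrthogonal`: pairwise non-isomorphic invertible modules of the same degree on an integral
  proper curve are hom-orthogonal;
* `main18787`.
APPEND-ONLY once landed.
-/

set_option autoImplicit false
universe u
open CategoryTheory CategoryTheory.Limits AlgebraicGeometry Opposite TopologicalSpace

namespace AutCount

open Groth.Agent.TensInv

section H0

variable (k : Type u) [Field k] (X : Scheme.{u}) [X.Over (Spec (CommRingCat.of k))]
  [IsProper (X ↘ Spec (CommRingCat.of k))] [GeometricallyIntegral (X ↘ Spec (CommRingCat.of k))]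

/-- `h⁰(O_X) = 1` for a geometrically integral proper scheme, by base change to the algebraic
closure -/
theorem finrank_HH0_of_geomIntegral :
    Module.finrank k (Coh.HH X (Coh.structureModule X) 0) = 1 := by
  haveI := GZ9.isIntegral_of_geometricallyIntegral k X
  haveI : IsLocallyNoetherian X :=
    LocallyOfFiniteType.isLocallyNoetherian (X ↘ Spec (CommRingCat.of k))
  haveI := (CohDevH8.isCoh_structureModule X).1
  letI : (Curv2.bc k X (AlgebraicClosure k)).Over
      (Spec (CommRingCat.of (AlgebraicClosure k))) :=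
    ⟨Curv2.bcSnd k X (AlgebraicClosure k)⟩
  haveI : IsIntegral (Curv2.bc k X (AlgebraicClosure k)) := GZ9.isIntegral_bc k X _
  haveI : IsProper (Curv2.bc k X (AlgebraicClosure k) ↘
      Spec (CommRingCat.of (AlgebraicClosure k))) :=
    inferInstanceAs (IsProper (pullback.snd (X ↘ Spec (CommRingCat.of k))
      (Spec.map (CommRingCat.ofHom (algebraMap k (AlgebraicClosure k))))))
  haveI : IsLocallyNoetherian (Curv2.bc k X (AlgebraicClosure k)) :=
    LocallyOfFiniteType.isLocallyNoetherian (Curv2.bc k X (AlgebraicClosure k) ↘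
      Spec (CommRingCat.of (AlgebraicClosure k)))
  haveI := ProperFinH9.finite_HH_of_proper (AlgebraicClosure k)
    (Curv2.bc k X (AlgebraicClosure k)) _
    (CohDevH8.isCoh_structureModule (Curv2.bc k X (AlgebraicClosure k))) 0
  rw [← GZ9.finrank_HH_structure_bc k X (AlgebraicClosure k) 0]
  exact Groth.Agent.ProjConn.finrank_h0_of_isIntegral (AlgebraicClosure k)

end H0

section EndRing

variable (k : Type u) [Field k] (X : Scheme.{u}) [X.Over (Spec (CommRingCat.of k))]

/-- if `h⁰(O_X) = 1` then `End(O_X) ≃+* k` -/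
theorem nonempty_endStructure [Nonempty X]
    (h0 : Module.finrank k (Coh.HH X (Coh.structureModule X) 0) = 1) :
    Nonempty (End (Coh.structureModule X) ≃+* k) := by
  have hne : (𝟙 (Coh.structureModule X) : End (Coh.structureModule X)) ≠ 0 := by
    intro h
    exact VBCurve.not_isZero_of_isInvertible (TensH8.isInvertible_structureModule (X := X))
      ((IsZero.iff_id_eq_zero _).mpr h)
  haveI : Nontrivial (End (Coh.structureModule X)) := ⟨⟨_, _, hne⟩⟩
  have h1 : Module.finrank k (End (Coh.structureModule X)) = 1 := by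
    show Module.finrank k (Coh.structureModule X ⟶ Coh.structureModule X) = 1
    rw [(CurveIdeal.thetaEquiv k (Coh.structureModule X)).finrank_eq, h0]
  have hsurj : Function.Surjective (algebraMap k (End (Coh.structureModule X))) := by
    intro w
    obtain ⟨c, hc⟩ := (finrank_eq_one_iff_of_nonzero' _ hne).mp h1 w
    refine ⟨c, ?_⟩
    rw [Algebra.algebraMap_eq_smul_one]
    exact hc
  exact ⟨(RingEquiv.ofBijective (algebraMap k (End (Coh.structureModule X)))
    ⟨(algebraMap k (End (Coh.structureModule X))).injective, hsurj⟩).symm⟩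

/-- the endomorphism ring of an invertible module is that of the structure sheaf -/
theorem nonempty_endInvertible {L : X.Modules} (hL : PicF.IsInvertible L) :
    Nonempty (End L ≃+* End (Coh.structureModule X)) := by
  obtain ⟨L', -, ⟨e⟩⟩ := Groth.Agent.InvTensP.exists_inverse L hL
  haveI : (tR L').IsEquivalence := isEquivalence_tR (swap ⟨e⟩)
  let E1 : End L ≃+* End ((tR L').obj L) := endRingEquivOfFullyFaithful (tR L') L
  let E2 : End (CohB1.tensorMod L L') ≃+* End (Coh.structureModule X) := endRingEquivOfIso e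
  exact ⟨E1.trans E2⟩

end EndRing

section Orth

variable (k : Type u) [Field k] (X : Scheme.{u}) [X.Over (Spec (CommRingCat.of k))]
  [IsIntegral X] [IsProper (X ↘ Spec (CommRingCat.of k))]

/-- pairwise non-isomorphic invertible modules of the same degree are hom-orthogonal -/
theorem homOrthogonal (hdim : topologicalKrullDim X = 1) {ι : Type*} (s : ι → X.Modules)
    (hs : ∀ i, PicF.IsInvertible (s i))
    (hd : ∀ i j, Curv2.deg k X (s i) 1 = Curv2.deg k X (s j) 1)
    (hni : ∀ i j, i ≠ j → ¬ Nonempty (s i ≅ s j)) : HomOrthogonal s := by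
  intro i j hij
  have hz : ∀ c : s i ⟶ s j, c = 0 := by
    intro c
    rcases VBCurve.line_hom_cases k X hdim (hs i) (hs j) c with h | ⟨-, -, h⟩
    · exact h
    · haveI := h (hd i j)
      exact absurd ⟨asIso c⟩ (hni i j hij)
  exact ⟨fun a b => by rw [hz a, hz b]⟩

end Orth

section Main18787

theorem card_preimage {α ι : Type*} [Fintype α] [DecidableEq ι] (f : α → ι) (i : ι) :
    Nat.card (f ⁻¹' {i}) = (Finset.univ.filter (fun a => f a = i)).card := by
  classical
  rw [Nat.card_eq_fintype_card, ← Set.toFinset_card]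
  congr 1
  ext a
  simp

variable (k : Type u) [Field k] [Finite k] (X : Scheme.{u}) [X.Over (Spec (CommRingCat.of k))]
  [IsProper (X ↘ Spec (CommRingCat.of k))] [GeometricallyIntegral (X ↘ Spec (CommRingCat.of k))]

/-- the number of automorphisms of a sum of three invertible modules of the same degree -/
theorem card_aut_three (hdim : topologicalKrullDim X = 1) {ι : Type} [Fintype ι] [DecidableEq ι]
    (s : ι → X.Modules) (hs : ∀ i, PicF.IsInvertible (s i))
    (hd : ∀ i j, Curv2.deg k X (s i) 1 = Curv2.deg k X (s j) 1)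
    (hni : ∀ i j, i ≠ j → ¬ Nonempty (s i ≅ s j))
    (f : Fin 3 → ι) {A₀ A₁ A₂ : X.Modules} (e₀ : A₀ ≅ s (f 0)) (e₁ : A₁ ≅ s (f 1))
    (e₂ : A₂ ≅ s (f 2)) (n : ι → ℕ)
    (hn : ∀ i, (Finset.univ.filter (fun a => f a = i)).card = n i) :
    Nat.card (Aut (A₀ ⊞ (A₁ ⊞ A₂))) =
      ∏ i : ι, ∏ j : Fin (n i), (Nat.card k ^ (n i) - Nat.card k ^ (j : ℕ)) := by
  haveI := GZ9.isIntegral_of_geometricallyIntegral k X
  haveI : Nonempty X := inferInstance
  letI : Fintype k := Fintype.ofFinite k
  have h0 := finrank_HH0_of_geomIntegral k X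
  obtain ⟨eO⟩ := nonempty_endStructure k X h0
  have e : ∀ i, End (s i) ≃+* k := fun i => ((nonempty_endInvertible X (hs i)).some).trans eO
  have o := homOrthogonal k X hdim s hs hd hni
  rw [Nat.card_congr (Iso.conjAut (isoBiproductThree (fun a => s (f a)) e₀ e₁ e₂)).toEquiv,
    card_aut o f e n (fun i => (card_preimage f i).trans (hn i)), Nat.card_eq_fintype_card]

/-- **S18787** -/
theorem main18787 (hdim : topologicalKrullDim X = 1)
    (L₁ L₂ : X.Modules) (hL₁ : PicF.IsInvertible L₁) (hL₂ : PicF.IsInvertible L₂)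
    (hd₁ : Curv2.deg k X L₁ 1 = 0) (hd₂ : Curv2.deg k X L₂ 1 = 0) :
    (Nonempty (L₁ ≅ Coh.structureModule X) → Nonempty (L₂ ≅ Coh.structureModule X) →
      Nat.card (Aut (Coh.structureModule X ⊞ L₁ ⊞ L₂)) =
        (Nat.card k ^ 3 - 1) * (Nat.card k ^ 3 - Nat.card k) *
          (Nat.card k ^ 3 - Nat.card k ^ 2)) ∧
    (Nonempty (L₁ ≅ L₂) → ¬ Nonempty (L₁ ≅ Coh.structureModule X) →
      Nat.card (Aut (Coh.structureModule X ⊞ L₁ ⊞ L₂)) =
        (Nat.card k - 1) ^ 3 * (Nat.card k + 1) * Nat.card k) ∧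
    (¬ Nonempty (L₁ ≅ L₂) → Nonempty (L₂ ≅ Coh.structureModule X) →
      Nat.card (Aut (Coh.structureModule X ⊞ L₁ ⊞ L₂)) =
        (Nat.card k - 1) ^ 3 * (Nat.card k + 1) * Nat.card k) ∧
    (¬ Nonempty (L₁ ≅ Coh.structureModule X) → ¬ Nonempty (L₂ ≅ Coh.structureModule X) →
      ¬ Nonempty (L₁ ≅ L₂) →
      Nat.card (Aut (Coh.structureModule X ⊞ L₁ ⊞ L₂)) = (Nat.card k - 1) ^ 3) := by
  haveI := GZ9.isIntegral_of_geometricallyIntegral k X
  have hO : PicF.IsInvertible (Coh.structureModule X) := TensH8.isInvertible_structureModule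
  have hdO : Curv2.deg k X (Coh.structureModule X) 1 = 0 := CurveDeg.deg_structureModule k X
  obtain ⟨m, hm⟩ : ∃ m, Nat.card k = m + 1 := ⟨Nat.card k - 1, by have := Nat.card_pos (α := k); omega⟩
  have h1 : (m + 1) ^ 2 - 1 = m * (m + 2) := by
    have : (m + 1) ^ 2 = m * (m + 2) + 1 := by ring
    omega
  have h2 : (m + 1) ^ 2 - (m + 1) = m * (m + 1) := by
    have : (m + 1) ^ 2 = m * (m + 1) + (m + 1) := by ring
    omega
  refine ⟨?_, ?_, ?_, ?_⟩
  · rintro ⟨e₁⟩ ⟨e₂⟩
    rw [card_aut_three k X hdim (fun _ : Fin 1 => Coh.structureModule X) (fun _ => hO)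
      (fun _ _ => rfl) (fun i j hij => absurd (Subsingleton.elim i j) hij) (fun _ => 0)
      (Iso.refl _) e₁ e₂ (fun _ => 3) (by decide)]
    rw [Fin.prod_univ_one, Fin.prod_univ_three]
    simp
  · rintro ⟨e⟩ hn1
    have hs : ∀ i : Fin 2, PicF.IsInvertible (![Coh.structureModule X, L₁] i) := by
      intro i; fin_cases i
      · exact hO
      · exact hL₁
    have hdeg : ∀ i : Fin 2, Curv2.deg k X (![Coh.structureModule X, L₁] i) 1 = 0 := by
      intro i; fin_cases i
      · exact hdO
      · exact hd₁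
    have hni : ∀ i j : Fin 2, i ≠ j →
        ¬ Nonempty (![Coh.structureModule X, L₁] i ≅ ![Coh.structureModule X, L₁] j) := by
      intro i j hij
      fin_cases i <;> fin_cases j
      · exact absurd rfl hij
      · rintro ⟨t⟩; exact hn1 ⟨t.symm⟩
      · exact hn1
      · exact absurd rfl hij
    rw [card_aut_three k X hdim ![Coh.structureModule X, L₁] hs
      (fun i j => by rw [hdeg i, hdeg j]) hni ![0, 1, 1]
      (A₀ := Coh.structureModule X) (A₁ := L₁) (A₂ := L₂)
      (Iso.refl (Coh.structureModule X)) (Iso.refl L₁) e.symm ![1, 2] (by decide)]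
    rw [Fin.prod_univ_two]
    show (∏ j : Fin 1, (Nat.card k ^ 1 - Nat.card k ^ (j : ℕ))) *
      (∏ j : Fin 2, (Nat.card k ^ 2 - Nat.card k ^ (j : ℕ))) = _
    rw [Fin.prod_univ_one, Fin.prod_univ_two, hm]
    simp only [Fin.val_zero, Fin.val_one, pow_zero, pow_one, Nat.add_sub_cancel]
    rw [h1, h2]
    ring
  · intro hne ⟨e₂⟩
    have hn1 : ¬ Nonempty (L₁ ≅ Coh.structureModule X) := by
      rintro ⟨t⟩
      exact hne ⟨t.trans e₂.symm⟩
    have hs : ∀ i : Fin 2, PicF.IsInvertible (![Coh.structureModule X, L₁] i) := by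
      intro i; fin_cases i
      · exact hO
      · exact hL₁
    have hdeg : ∀ i : Fin 2, Curv2.deg k X (![Coh.structureModule X, L₁] i) 1 = 0 := by
      intro i; fin_cases i
      · exact hdO
      · exact hd₁
    have hni : ∀ i j : Fin 2, i ≠ j →
        ¬ Nonempty (![Coh.structureModule X, L₁] i ≅ ![Coh.structureModule X, L₁] j) := by
      intro i j hij
      fin_cases i <;> fin_cases j
      · exact absurd rfl hij
      · rintro ⟨t⟩; exact hn1 ⟨t.symm⟩
      · exact hn1
      · exact absurd rfl hij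
    rw [card_aut_three k X hdim ![Coh.structureModule X, L₁] hs
      (fun i j => by rw [hdeg i, hdeg j]) hni ![0, 1, 0]
      (A₀ := Coh.structureModule X) (A₁ := L₁) (A₂ := L₂)
      (Iso.refl (Coh.structureModule X)) (Iso.refl L₁) e₂ ![2, 1] (by decide)]
    rw [Fin.prod_univ_two]
    show (∏ j : Fin 2, (Nat.card k ^ 2 - Nat.card k ^ (j : ℕ))) *
      (∏ j : Fin 1, (Nat.card k ^ 1 - Nat.card k ^ (j : ℕ))) = _
    rw [Fin.prod_univ_one, Fin.prod_univ_two, hm]
    simp only [Fin.val_zero, Fin.val_one, pow_zero, pow_one, Nat.add_sub_cancel]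
    rw [h1, h2]
    ring
  · intro hn1 hn2 hn12
    have hs : ∀ i : Fin 3, PicF.IsInvertible (![Coh.structureModule X, L₁, L₂] i) := by
      intro i; fin_cases i
      · exact hO
      · exact hL₁
      · exact hL₂
    have hdeg : ∀ i : Fin 3, Curv2.deg k X (![Coh.structureModule X, L₁, L₂] i) 1 = 0 := by
      intro i; fin_cases i
      · exact hdO
      · exact hd₁
      · exact hd₂
    have hni : ∀ i j : Fin 3, i ≠ j →
        ¬ Nonempty (![Coh.structureModule X, L₁, L₂] i ≅ ![Coh.structureModule X, L₁, L₂] j) := by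
      intro i j hij
      fin_cases i <;> fin_cases j
      · exact absurd rfl hij
      · rintro ⟨t⟩; exact hn1 ⟨t.symm⟩
      · rintro ⟨t⟩; exact hn2 ⟨t.symm⟩
      · exact hn1
      · exact absurd rfl hij
      · exact hn12
      · exact hn2
      · rintro ⟨t⟩; exact hn12 ⟨t.symm⟩
      · exact absurd rfl hij
    rw [card_aut_three k X hdim ![Coh.structureModule X, L₁, L₂] hs
      (fun i j => by rw [hdeg i, hdeg j]) hni id
      (A₀ := Coh.structureModule X) (A₁ := L₁) (A₂ := L₂)
      (Iso.refl (Coh.structureModule X)) (Iso.refl L₁) (Iso.refl L₂) (fun _ => 1) (by decide)]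
    rw [Fin.prod_univ_three]
    simp only [Fin.prod_univ_one, Fin.val_zero, pow_zero, pow_one]
    ring

end Main18787

end AutCount
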