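import Mathlib

/-!
# Automorphisms of `O ⊞ F` for a non-split self-extension `F` of `O` (helper9)

Pure category theory in a `k`-linear abelian category:
* `endRingEquivProd`: `End (A ⊞ B) ≃+* End A × End B` when there are no nonzero maps between `A`
  and `B`; `card_aut_biprod`;
* `NSExt`: a non-split short exact sequence `0 → O → F → O → 0` with `End O = k`; then
  `Hom(O,F) = k i`, `Hom(F,O) = k p`, `End F = k ⊕ k ε`; `card_aut_F`, `card_aut_O_F`.
APPEND-ONLY once landed.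
-/

set_option autoImplicit false

universe v u

namespace AutCount

open CategoryTheory CategoryTheory.Limits

section Orth

variable {C : Type u} [Category.{v} C] [Preadditive C] [HasBinaryBiproducts C] {A B : C}

/-- `End (A ⊞ B) ≃+* End A × End B` when there are no nonzero maps between `A` and `B` -/
noncomputable def endRingEquivProd (hAB : ∀ f : A ⟶ B, f = 0) (hBA : ∀ f : B ⟶ A, f = 0) :
    End (A ⊞ B) ≃+* End A × End B where
  toFun M := (biprod.inl ≫ M ≫ biprod.fst, biprod.inr ≫ M ≫ biprod.snd)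
  invFun P := biprod.map P.1 P.2
  left_inv M := by
    show biprod.map (biprod.inl ≫ M ≫ biprod.fst) (biprod.inr ≫ M ≫ biprod.snd) = M
    apply biprod.hom_ext' <;> apply biprod.hom_ext
    · simp
    · rw [Category.assoc, biprod.map_snd, biprod.inl_snd_assoc, zero_comp,
        hAB ((biprod.inl ≫ M) ≫ biprod.snd)]
    · rw [Category.assoc, biprod.map_fst, biprod.inr_fst_assoc, zero_comp,
        hBA ((biprod.inr ≫ M) ≫ biprod.fst)]
    · simp
  right_inv P := by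
    apply Prod.ext
    · show biprod.inl ≫ biprod.map P.1 P.2 ≫ biprod.fst = P.1
      simp
    · show biprod.inr ≫ biprod.map P.1 P.2 ≫ biprod.snd = P.2
      simp
  map_mul' M N := by
    apply Prod.ext
    · show biprod.inl ≫ (N ≫ M) ≫ biprod.fst =
        (biprod.inl ≫ N ≫ biprod.fst) ≫ (biprod.inl ≫ M ≫ biprod.fst)
      have h : biprod.inl ≫ N = (biprod.inl ≫ N ≫ biprod.fst) ≫ biprod.inl := by
        apply biprod.hom_ext
        · simp
        · rw [Category.assoc, Category.assoc, Category.assoc, biprod.inl_snd, comp_zero, comp_zero,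
            hAB (biprod.inl ≫ N ≫ biprod.snd)]
      rw [Category.assoc, ← Category.assoc biprod.inl N, h]
      simp only [Category.assoc]
    · show biprod.inr ≫ (N ≫ M) ≫ biprod.snd =
        (biprod.inr ≫ N ≫ biprod.snd) ≫ (biprod.inr ≫ M ≫ biprod.snd)
      have h : biprod.inr ≫ N = (biprod.inr ≫ N ≫ biprod.snd) ≫ biprod.inr := by
        apply biprod.hom_ext
        · rw [Category.assoc, Category.assoc, Category.assoc, biprod.inr_fst, comp_zero, comp_zero,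
            hBA (biprod.inr ≫ N ≫ biprod.fst)]
        · simp
      rw [Category.assoc, ← Category.assoc biprod.inr N, h]
      simp only [Category.assoc]
  map_add' M N := by
    apply Prod.ext
    · show biprod.inl ≫ (M + N) ≫ biprod.fst =
        biprod.inl ≫ M ≫ biprod.fst + biprod.inl ≫ N ≫ biprod.fst
      rw [Preadditive.add_comp, Preadditive.comp_add]
    · show biprod.inr ≫ (M + N) ≫ biprod.snd =
        biprod.inr ≫ M ≫ biprod.snd + biprod.inr ≫ N ≫ biprod.snd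
      rw [Preadditive.add_comp, Preadditive.comp_add]

theorem card_aut_biprod (hAB : ∀ f : A ⟶ B, f = 0) (hBA : ∀ f : B ⟶ A, f = 0) :
    Nat.card (Aut (A ⊞ B)) = Nat.card (Aut A) * Nat.card (Aut B) := by
  rw [← Nat.card_congr (Aut.unitsEndEquivAut (A ⊞ B)).toEquiv,
    Nat.card_congr (Units.mapEquiv (endRingEquivProd hAB hBA).toMulEquiv).toEquiv,
    Nat.card_congr (MulEquiv.prodUnits).toEquiv, Nat.card_prod,
    Nat.card_congr (Aut.unitsEndEquivAut A).toEquiv,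
    Nat.card_congr (Aut.unitsEndEquivAut B).toEquiv]

end Orth

section Param

/-- units of a monoid parametrised by a type with an explicit multiplication -/
theorem card_units_of_param {M P : Type*} [Monoid M] (Φ : P → M) (hΦ : Function.Bijective Φ)
    (mul : P → P → P) (one : P) (hmul : ∀ x y, Φ x * Φ y = Φ (mul x y)) (hone : Φ one = 1)
    (U : P → Prop) (hU : ∀ x, U x ↔ ∃ y, mul x y = one ∧ mul y x = one) :
    Nat.card Mˣ = Nat.card {x : P // U x} := by
  classical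
  symm
  have hinv : ∀ x : {x : P // U x}, ∃ y, mul x.1 y = one ∧ mul y x.1 = one := fun x =>
    (hU x.1).mp x.2
  choose inv hinv1 hinv2 using hinv
  let g : {x : P // U x} → Mˣ := fun x =>
    ⟨Φ x.1, Φ (inv x), by rw [hmul, hinv1, hone], by rw [hmul, hinv2, hone]⟩
  have hg : Function.Bijective g := by
    constructor
    · intro x y hxy
      apply Subtype.ext
      apply hΦ.1
      exact congrArg Units.val hxy
    · intro m
      obtain ⟨x, hx⟩ := hΦ.2 m.val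
      obtain ⟨y, hy⟩ := hΦ.2 m.inv
      have hx' : U x := by
        rw [hU]
        refine ⟨y, ?_, ?_⟩
        · apply hΦ.1
          rw [← hmul, hx, hy, hone]
          exact m.val_inv
        · apply hΦ.1
          rw [← hmul, hx, hy, hone]
          exact m.inv_val
      exact ⟨⟨x, hx'⟩, Units.ext hx⟩
  exact Nat.card_congr (Equiv.ofBijective g hg)

theorem smul_inj {k M : Type*} [Field k] [AddCommGroup M] [Module k M] {v : M} (hv : v ≠ 0)
    {a b : k} (h : a • v = b • v) : a = b := by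
  by_contra hne
  have h1 : (a - b) • v = 0 := by rw [sub_smul, h, sub_self]
  have hab : a - b ≠ 0 := sub_ne_zero.mpr hne
  apply hv
  rw [← one_smul k v, ← inv_mul_cancel₀ hab, mul_smul, h1, smul_zero]

end Param

section Ext

/-- a non-split short exact sequence `0 → O → F → O → 0` where `O` has only scalar
endomorphisms -/
structure NSExt (k : Type*) [Field k] {C : Type u} [Category.{v} C] [Abelian C] [Linear k C]
    {O F : C} (i : O ⟶ F) (p : F ⟶ O) : Prop where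
  scal : ∀ u : O ⟶ O, ∃ c : k, u = c • 𝟙 O
  ne : 𝟙 O ≠ 0
  zero : i ≫ p = 0
  mono : Mono i
  epi : Epi p
  exact : (ShortComplex.mk i p zero).Exact
  nosec : ∀ s : O ⟶ F, s ≫ p ≠ 𝟙 O
  noret : ∀ r : F ⟶ O, i ≫ r ≠ 𝟙 O

variable {k : Type*} [Field k] {C : Type u} [Category.{v} C] [Abelian C] [Linear k C]
  {O F : C} {i : O ⟶ F} {p : F ⟶ O} (h : NSExt k i p)

namespace NSExt

include h

theorem i_ne : i ≠ 0 := by
  intro h0
  haveI := h.mono
  apply h.ne
  rw [← cancel_mono i, h0, comp_zero, comp_zero]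

theorem p_ne : p ≠ 0 := by
  intro h0
  haveI := h.epi
  apply h.ne
  rw [← cancel_epi p, h0, zero_comp, zero_comp]

theorem eps_ne : p ≫ i ≠ 0 := by
  intro h0
  haveI := h.epi
  apply h.i_ne
  rw [← cancel_epi p, h0, comp_zero]

theorem i_eps : i ≫ p ≫ i = 0 := by rw [← Category.assoc, h.zero, zero_comp]

theorem eps_p : (p ≫ i) ≫ p = 0 := by rw [Category.assoc, h.zero, comp_zero]

theorem eps_eps : (p ≫ i) ≫ (p ≫ i) = 0 := by
  rw [Category.assoc, h.i_eps, comp_zero]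

theorem hom_O_F (u : O ⟶ F) : ∃ c : k, u = c • i := by
  haveI := h.mono
  obtain ⟨c, hc⟩ := h.scal (u ≫ p)
  by_cases hc0 : c = 0
  · have h1 : u ≫ p = 0 := by rw [hc, hc0, zero_smul]
    have h2 := h.exact.lift_f u h1
    obtain ⟨c', hc'⟩ := h.scal (h.exact.lift u h1)
    refine ⟨c', ?_⟩
    rw [← h2, hc', Linear.smul_comp, Category.id_comp]
  · exfalso
    apply h.nosec (c⁻¹ • u)
    rw [Linear.smul_comp, hc, smul_smul, inv_mul_cancel₀ hc0, one_smul]

theorem hom_F_O (ψ : F ⟶ O) : ∃ c : k, ψ = c • p := by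
  haveI := h.epi
  obtain ⟨c, hc⟩ := h.scal (i ≫ ψ)
  by_cases hc0 : c = 0
  · have h1 : i ≫ ψ = 0 := by rw [hc, hc0, zero_smul]
    have h2 := h.exact.g_desc ψ h1
    obtain ⟨c', hc'⟩ := h.scal (h.exact.desc ψ h1)
    refine ⟨c', ?_⟩
    rw [← h2, hc', Linear.comp_smul, Category.comp_id]
  · exfalso
    apply h.noret (c⁻¹ • ψ)
    rw [Linear.comp_smul, hc, smul_smul, inv_mul_cancel₀ hc0, one_smul]

theorem end_F (φ : F ⟶ F) : ∃ a b : k, φ = a • 𝟙 F + b • (p ≫ i) := by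
  haveI := h.mono
  obtain ⟨a, ha⟩ := h.hom_F_O (φ ≫ p)
  have h1 : (φ - a • 𝟙 F) ≫ p = 0 := by
    rw [Preadditive.sub_comp, ha, Linear.smul_comp, Category.id_comp, sub_self]
  have h2 := h.exact.lift_f (φ - a • 𝟙 F) h1
  obtain ⟨b, hb⟩ := h.hom_F_O (h.exact.lift (φ - a • 𝟙 F) h1)
  refine ⟨a, b, ?_⟩
  have h3 : φ - a • 𝟙 F = b • (p ≫ i) := by
    rw [← h2, hb, Linear.smul_comp]
  rw [← h3]
  abel

theorem end_F_unique {a b a' b' : k}
    (heq : a • 𝟙 F + b • (p ≫ i) = a' • 𝟙 F + b' • (p ≫ i)) : a = a' ∧ b = b' := by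
  have h1 : a • p = a' • p := by
    have := congrArg (fun φ => φ ≫ p) heq
    simpa [Preadditive.add_comp, Linear.smul_comp, h.eps_p] using this
  have ha : a = a' := smul_inj h.p_ne h1
  subst ha
  exact ⟨rfl, smul_inj h.eps_ne (add_left_cancel heq)⟩

end NSExt

end Ext

section CountF

variable {k : Type*} [Field k] {C : Type u} [Category.{v} C] [Abelian C] [Linear k C]
  {O F : C} {i : O ⟶ F} {p : F ⟶ O} (h : NSExt k i p)

/-- the parametrisation of `End F` by pairs -/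
noncomputable def Φ2 (i : O ⟶ F) (p : F ⟶ O) (x : k × k) : End F := x.1 • 𝟙 F + x.2 • (p ≫ i)

include h in
theorem Φ2_bijective : Function.Bijective (Φ2 (k := k) i p) := by
  constructor
  · intro x y hxy
    obtain ⟨h1, h2⟩ := h.end_F_unique hxy
    exact Prod.ext h1 h2
  · intro φ
    obtain ⟨a, b, hab⟩ := h.end_F φ
    exact ⟨(a, b), hab.symm⟩

include h in
theorem Φ2_mul (x y : k × k) :
    Φ2 i p x * Φ2 i p y = Φ2 i p (x.1 * y.1, x.1 * y.2 + x.2 * y.1) := by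
  show (y.1 • 𝟙 F + y.2 • (p ≫ i)) ≫ (x.1 • 𝟙 F + x.2 • (p ≫ i)) =
    (x.1 * y.1) • 𝟙 F + (x.1 * y.2 + x.2 * y.1) • (p ≫ i)
  simp only [Preadditive.add_comp, Preadditive.comp_add, Linear.smul_comp, Linear.comp_smul,
    Category.id_comp, Category.comp_id, h.eps_eps, smul_zero, add_zero]
  module

include h in
theorem card_aut_F [Finite k] : Nat.card (Aut F) = (Nat.card k - 1) * Nat.card k := by
  rw [← Nat.card_congr (Aut.unitsEndEquivAut F).toEquiv,
    card_units_of_param (Φ2 i p) (Φ2_bijective h)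
      (fun x y => (x.1 * y.1, x.1 * y.2 + x.2 * y.1)) (1, 0) (Φ2_mul h)
      (by show (1 : k) • 𝟙 F + (0 : k) • (p ≫ i) = 𝟙 F; rw [one_smul, zero_smul, add_zero])
      (fun x => x.1 ≠ 0) ?_]
  · let e : {x : k × k // x.1 ≠ 0} ≃ kˣ × k :=
      { toFun := fun x => (Units.mk0 x.1.1 x.2, x.1.2)
        invFun := fun y => ⟨(y.1.val, y.2), y.1.ne_zero⟩
        left_inv := fun x => by apply Subtype.ext; rfl
        right_inv := fun y => by apply Prod.ext; · exact Units.ext rfl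
                                 · rfl }
    rw [Nat.card_congr e, Nat.card_prod, Nat.card_units]
  · intro x
    constructor
    · intro hx
      refine ⟨(x.1⁻¹, -(x.1⁻¹ * x.2 * x.1⁻¹)), ?_, ?_⟩
      · apply Prod.ext
        · show x.1 * x.1⁻¹ = 1
          exact mul_inv_cancel₀ hx
        · show x.1 * -(x.1⁻¹ * x.2 * x.1⁻¹) + x.2 * x.1⁻¹ = 0
          field_simp
          ring
      · apply Prod.ext
        · show x.1⁻¹ * x.1 = 1
          exact inv_mul_cancel₀ hx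
        · show x.1⁻¹ * x.2 + -(x.1⁻¹ * x.2 * x.1⁻¹) * x.1 = 0
          field_simp
          ring
    · rintro ⟨y, hy, -⟩ hx
      have h1 : x.1 * y.1 = 1 := congrArg Prod.fst hy
      rw [hx, zero_mul] at h1
      exact zero_ne_one h1

end CountF

section CountOF

/-- five parameters -/
@[ext]
structure P5 (k : Type*) where
  a : k
  a' : k
  b₁ : k
  b₂ : k
  b₃ : k

variable {k : Type*} [Field k] {C : Type u} [Category.{v} C] [Abelian C] [Linear k C]
  {O F : C} {i : O ⟶ F} {p : F ⟶ O} (h : NSExt k i p)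

/-- the parametrisation of `End (O ⊞ F)` -/
noncomputable def Φ5 (i : O ⟶ F) (p : F ⟶ O) (x : P5 k) : End (O ⊞ F) :=
  biprod.desc (biprod.lift (x.a • 𝟙 O) (x.b₂ • i))
    (biprod.lift (x.b₁ • p) (x.a' • 𝟙 F + x.b₃ • (p ≫ i)))

/-- composition in the parameters -/
def comp5 (x y : P5 k) : P5 k :=
  ⟨x.a * y.a, x.a' * y.a', x.b₁ * y.a + x.a' * y.b₁, x.a * y.b₂ + x.b₂ * y.a',
    x.b₁ * y.b₂ + x.a' * y.b₃ + x.b₃ * y.a'⟩

theorem Φ5_inl_fst (x : P5 k) : biprod.inl ≫ (Φ5 i p x : O ⊞ F ⟶ O ⊞ F) ≫ biprod.fst = x.a • 𝟙 O := by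
  unfold Φ5
  rw [biprod.inl_desc_assoc, biprod.lift_fst]

theorem Φ5_inl_snd (x : P5 k) : biprod.inl ≫ (Φ5 i p x : O ⊞ F ⟶ O ⊞ F) ≫ biprod.snd = x.b₂ • i := by
  unfold Φ5
  rw [biprod.inl_desc_assoc, biprod.lift_snd]

theorem Φ5_inr_fst (x : P5 k) : biprod.inr ≫ (Φ5 i p x : O ⊞ F ⟶ O ⊞ F) ≫ biprod.fst = x.b₁ • p := by
  unfold Φ5
  rw [biprod.inr_desc_assoc, biprod.lift_fst]

theorem Φ5_inr_snd (x : P5 k) : biprod.inr ≫ (Φ5 i p x : O ⊞ F ⟶ O ⊞ F) ≫ biprod.snd =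
    x.a' • 𝟙 F + x.b₃ • (p ≫ i) := by
  unfold Φ5
  rw [biprod.inr_desc_assoc, biprod.lift_snd]

include h in
theorem Φ5_bijective : Function.Bijective (Φ5 (k := k) i p) := by
  constructor
  · intro x y hxy
    have h1 : x.a • 𝟙 O = y.a • 𝟙 O := by rw [← Φ5_inl_fst (i := i) (p := p), hxy, Φ5_inl_fst]
    have h2 : x.b₂ • i = y.b₂ • i := by rw [← Φ5_inl_snd (i := i) (p := p) x, hxy, Φ5_inl_snd]
    have h3 : x.b₁ • p = y.b₁ • p := by rw [← Φ5_inr_fst (i := i) (p := p) x, hxy, Φ5_inr_fst]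
    have h4 : x.a' • 𝟙 F + x.b₃ • (p ≫ i) = y.a' • 𝟙 F + y.b₃ • (p ≫ i) := by
      rw [← Φ5_inr_snd (i := i) (p := p) x, hxy, Φ5_inr_snd]
    obtain ⟨h5, h6⟩ := h.end_F_unique h4
    exact P5.ext (smul_inj h.ne h1) h5 (smul_inj h.p_ne h3) (smul_inj h.i_ne h2) h6
  · intro M
    obtain ⟨a, ha⟩ := h.scal (biprod.inl ≫ M ≫ biprod.fst)
    obtain ⟨b₂, hb₂⟩ := h.hom_O_F (biprod.inl ≫ M ≫ biprod.snd)
    obtain ⟨b₁, hb₁⟩ := h.hom_F_O (biprod.inr ≫ M ≫ biprod.fst)
    obtain ⟨a', b₃, hb₃⟩ := h.end_F (biprod.inr ≫ M ≫ biprod.snd)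
    refine ⟨⟨a, a', b₁, b₂, b₃⟩, ?_⟩
    apply biprod.hom_ext' <;> apply biprod.hom_ext
    · rw [Category.assoc, Φ5_inl_fst, Category.assoc, ha]
    · rw [Category.assoc, Φ5_inl_snd, Category.assoc, hb₂]
    · rw [Category.assoc, Φ5_inr_fst, Category.assoc, hb₁]
    · rw [Category.assoc, Φ5_inr_snd, Category.assoc, hb₃]

omit [Linear k C] in
theorem comp_components {A B X Y : C} (j : X ⟶ A ⊞ B) (q : A ⊞ B ⟶ Y) (M N : A ⊞ B ⟶ A ⊞ B) :
    j ≫ (M ≫ N) ≫ q =
      (j ≫ M ≫ biprod.fst) ≫ (biprod.inl ≫ N ≫ q) + (j ≫ M ≫ biprod.snd) ≫ (biprod.inr ≫ N ≫ q) := by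
  have ht : M ≫ N = M ≫ (biprod.fst ≫ biprod.inl + biprod.snd ≫ biprod.inr) ≫ N := by
    rw [biprod.total, Category.id_comp]
  rw [ht]
  simp only [Preadditive.add_comp, Preadditive.comp_add, Category.assoc]

include h in
theorem Φ5_comp (x y : P5 k) :
    (Φ5 i p x : O ⊞ F ⟶ O ⊞ F) ≫ (Φ5 i p y : O ⊞ F ⟶ O ⊞ F) = Φ5 i p (comp5 x y) := by
  have hz := h.zero
  have h1 := h.i_eps
  have h2 := h.eps_p
  have h3 := h.eps_eps
  apply biprod.hom_ext' <;> apply biprod.hom_ext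
  · simp only [Category.assoc]
    rw [← Category.assoc (Φ5 i p x : O ⊞ F ⟶ O ⊞ F) (Φ5 i p y : O ⊞ F ⟶ O ⊞ F), Φ5_inl_fst, comp_components, Φ5_inl_fst, Φ5_inl_fst,
      Φ5_inl_snd, Φ5_inr_fst]
    simp only [comp5, Linear.smul_comp, Linear.comp_smul, Category.id_comp, hz, smul_zero,
      add_zero, smul_smul]
    rw [mul_comm]
  · simp only [Category.assoc]
    rw [← Category.assoc (Φ5 i p x : O ⊞ F ⟶ O ⊞ F) (Φ5 i p y : O ⊞ F ⟶ O ⊞ F), Φ5_inl_snd, comp_components, Φ5_inl_fst, Φ5_inl_snd,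
      Φ5_inl_snd, Φ5_inr_snd]
    simp only [comp5, Linear.smul_comp, Linear.comp_smul, Category.id_comp, Category.comp_id,
      Preadditive.comp_add, h1, smul_zero, add_zero]
    module
  · simp only [Category.assoc]
    rw [← Category.assoc (Φ5 i p x : O ⊞ F ⟶ O ⊞ F) (Φ5 i p y : O ⊞ F ⟶ O ⊞ F), Φ5_inr_fst, comp_components, Φ5_inr_fst, Φ5_inl_fst,
      Φ5_inr_snd, Φ5_inr_fst]
    simp only [comp5, Linear.smul_comp, Linear.comp_smul, Category.id_comp, Category.comp_id,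
      Preadditive.add_comp, h2, smul_zero, add_zero]
    module
  · simp only [Category.assoc]
    rw [← Category.assoc (Φ5 i p x : O ⊞ F ⟶ O ⊞ F) (Φ5 i p y : O ⊞ F ⟶ O ⊞ F), Φ5_inr_snd, comp_components, Φ5_inr_fst, Φ5_inl_snd,
      Φ5_inr_snd, Φ5_inr_snd]
    simp only [comp5, Linear.smul_comp, Linear.comp_smul, Category.id_comp, Category.comp_id,
      Preadditive.add_comp, Preadditive.comp_add, h3, smul_zero, add_zero]
    module

theorem Φ5_one : (Φ5 i p (⟨1, 1, 0, 0, 0⟩ : P5 k) : End (O ⊞ F)) = 1 := by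
  show (Φ5 i p (⟨1, 1, 0, 0, 0⟩ : P5 k) : O ⊞ F ⟶ O ⊞ F) = 𝟙 (O ⊞ F)
  apply biprod.hom_ext' <;> apply biprod.hom_ext
  · rw [Category.assoc, Φ5_inl_fst]; simp
  · rw [Category.assoc, Φ5_inl_snd]; simp
  · rw [Category.assoc, Φ5_inr_fst]; simp
  · rw [Category.assoc, Φ5_inr_snd]; simp

include h in
theorem card_aut_O_F [Finite k] :
    Nat.card (Aut (O ⊞ F)) = (Nat.card k - 1) ^ 2 * Nat.card k ^ 3 := by
  rw [← Nat.card_congr (Aut.unitsEndEquivAut (O ⊞ F)).toEquiv,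
    card_units_of_param (Φ5 i p) (Φ5_bijective h) (fun x y => comp5 y x) ⟨1, 1, 0, 0, 0⟩
      (fun x y => Φ5_comp h y x) Φ5_one (fun x => x.a ≠ 0 ∧ x.a' ≠ 0) ?_]
  · let e : {x : P5 k // x.a ≠ 0 ∧ x.a' ≠ 0} ≃ kˣ × kˣ × k × k × k :=
      { toFun := fun x => (Units.mk0 x.1.a x.2.1, Units.mk0 x.1.a' x.2.2, x.1.b₁, x.1.b₂, x.1.b₃)
        invFun := fun y => ⟨⟨y.1.val, y.2.1.val, y.2.2.1, y.2.2.2.1, y.2.2.2.2⟩,
          y.1.ne_zero, y.2.1.ne_zero⟩
        left_inv := fun x => by apply Subtype.ext; rfl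
        right_inv := fun y => by
          refine Prod.ext (Units.ext rfl) (Prod.ext (Units.ext rfl) rfl) }
    rw [Nat.card_congr e, Nat.card_prod, Nat.card_prod, Nat.card_prod, Nat.card_prod,
      Nat.card_units]
    ring
  · intro x
    constructor
    · rintro ⟨ha, ha'⟩
      refine ⟨⟨x.a⁻¹, x.a'⁻¹, -(x.b₁ * x.a⁻¹ * x.a'⁻¹), -(x.b₂ * x.a⁻¹ * x.a'⁻¹),
        (x.b₁ * x.b₂ * x.a⁻¹ * x.a'⁻¹ - x.b₃ * x.a'⁻¹) * x.a'⁻¹⟩, ?_, ?_⟩
      · apply P5.ext
        · show x.a⁻¹ * x.a = 1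
          exact inv_mul_cancel₀ ha
        · show x.a'⁻¹ * x.a' = 1
          exact inv_mul_cancel₀ ha'
        · show -(x.b₁ * x.a⁻¹ * x.a'⁻¹) * x.a + x.a'⁻¹ * x.b₁ = 0
          field_simp
          ring
        · show x.a⁻¹ * x.b₂ + -(x.b₂ * x.a⁻¹ * x.a'⁻¹) * x.a' = 0
          field_simp
          ring
        · show -(x.b₁ * x.a⁻¹ * x.a'⁻¹) * x.b₂ + x.a'⁻¹ * x.b₃ +
            (x.b₁ * x.b₂ * x.a⁻¹ * x.a'⁻¹ - x.b₃ * x.a'⁻¹) * x.a'⁻¹ * x.a' = 0
          field_simp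
          ring
      · apply P5.ext
        · show x.a * x.a⁻¹ = 1
          exact mul_inv_cancel₀ ha
        · show x.a' * x.a'⁻¹ = 1
          exact mul_inv_cancel₀ ha'
        · show x.b₁ * x.a⁻¹ + x.a' * -(x.b₁ * x.a⁻¹ * x.a'⁻¹) = 0
          field_simp
          ring
        · show x.a * -(x.b₂ * x.a⁻¹ * x.a'⁻¹) + x.b₂ * x.a'⁻¹ = 0
          field_simp
          ring
        · show x.b₁ * -(x.b₂ * x.a⁻¹ * x.a'⁻¹) +
            x.a' * ((x.b₁ * x.b₂ * x.a⁻¹ * x.a'⁻¹ - x.b₃ * x.a'⁻¹) * x.a'⁻¹) + x.b₃ * x.a'⁻¹ = 0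
          field_simp
          ring
    · rintro ⟨y, hy, -⟩
      have h1 : y.a * x.a = 1 := congrArg P5.a hy
      have h2 : y.a' * x.a' = 1 := congrArg P5.a' hy
      constructor
      · intro hx
        rw [hx, mul_zero] at h1
        exact zero_ne_one h1
      · intro hx
        rw [hx, mul_zero] at h2
        exact zero_ne_one h2

end CountOF

end AutCount
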