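import Mathlib
import Groth.Prelude
import Groth.Agent.Lib.AutCount2_helper9
import Groth.Agent.Lib.AutCount3_helper9
import Groth.Agent.Lib.VBCurve9_helper9

/-!
# Automorphisms of `O ⊞ F` and `O ⊞ (L ⊗ F)` for a non-split self-extension `F` of `O` on a curve
over a finite field (helper9): `main18788`.
APPEND-ONLY once landed.
-/

set_option autoImplicit false
universe u
open CategoryTheory CategoryTheory.Limits AlgebraicGeometry Opposite TopologicalSpace

namespace AutCount

open Groth.Agent.TensInv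

section Abstract

variable {C : Type*} [Category C] [Abelian C]

theorem hom_eq_zero_of_ses_right (S : ShortComplex C) (hS : S.ShortExact) {A : C}
    (h1 : ∀ c : A ⟶ S.X₁, c = 0) (h3 : ∀ c : A ⟶ S.X₃, c = 0) (u : A ⟶ S.X₂) : u = 0 := by
  haveI := hS.mono_f
  have := hS.exact.lift_f u (h3 _)
  rw [← this, h1 (hS.exact.lift u (h3 _)), zero_comp]

theorem hom_eq_zero_of_ses_left (S : ShortComplex C) (hS : S.ShortExact) {A : C}
    (h1 : ∀ c : S.X₁ ⟶ A, c = 0) (h3 : ∀ c : S.X₃ ⟶ A, c = 0) (u : S.X₂ ⟶ A) : u = 0 := by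
  haveI := hS.epi_g
  have := hS.exact.g_desc u (h1 _)
  rw [← this, h3 (hS.exact.desc u (h1 _)), comp_zero]

theorem hom_eq_zero_of_iso_right {A B B' : C} (e : B ≅ B') (h : ∀ c : A ⟶ B', c = 0)
    (c : A ⟶ B) : c = 0 := by
  have h1 : c = (c ≫ e.hom) ≫ e.inv := by rw [Category.assoc, e.hom_inv_id, Category.comp_id]
  rw [h1, h (c ≫ e.hom), zero_comp]

theorem hom_eq_zero_of_iso_left {A B B' : C} (e : B ≅ B') (h : ∀ c : B' ⟶ A, c = 0)
    (c : B ⟶ A) : c = 0 := by
  have h1 : c = e.hom ≫ (e.inv ≫ c) := by rw [← Category.assoc, e.hom_inv_id, Category.id_comp]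
  rw [h1, h (e.inv ≫ c), comp_zero]

/-- the non-split extension data attached to a non-split short exact sequence with ends
isomorphic to `O` -/
theorem nsExt_of_shortExact {k : Type*} [Field k] [Linear k C] {O : C}
    (hscal : ∀ u : O ⟶ O, ∃ c : k, u = c • 𝟙 O) (hne : 𝟙 O ≠ 0)
    (T : ShortComplex C) (hT : T.ShortExact) (e₁ : T.X₁ ≅ O) (e₃ : T.X₃ ≅ O)
    (hns : ¬ IsSplitEpi T.g) : NSExt k (e₁.inv ≫ T.f) (T.g ≫ e₃.hom) := by
  haveI := hT.mono_f
  haveI := hT.epi_g
  have hz : (e₁.inv ≫ T.f) ≫ (T.g ≫ e₃.hom) = 0 := by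
    rw [Category.assoc, ← Category.assoc T.f, T.zero, zero_comp, comp_zero]
  refine ⟨hscal, hne, hz, inferInstance, inferInstance, ?_, ?_, ?_⟩
  · let φ : ShortComplex.mk (e₁.inv ≫ T.f) (T.g ≫ e₃.hom) hz ≅ T :=
      ShortComplex.isoMk e₁.symm (Iso.refl _) e₃.symm
        (by simp) (by simp)
    exact ShortComplex.exact_of_iso φ.symm hT.exact
  · intro s hs
    apply hns
    refine ⟨⟨e₃.hom ≫ s, ?_⟩⟩
    have h1 : s ≫ T.g = e₃.inv := by
      have := congrArg (fun ψ => ψ ≫ e₃.inv) hs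
      simpa using this
    rw [Category.assoc, h1, e₃.hom_inv_id]
  · intro r hr
    apply hns
    apply VBCurve.isSplitEpi_of_retraction T hT (r ≫ e₁.inv)
    have h1 : T.f ≫ r = e₁.hom := by
      have := congrArg (fun ψ => e₁.hom ≫ ψ) hr
      simpa using this
    rw [← Category.assoc, h1, e₁.hom_inv_id]

end Abstract

section Geo

variable (k : Type u) [Field k] (X : Scheme.{u}) [X.Over (Spec (CommRingCat.of k))]

theorem id_structure_ne_zero [Nonempty X] : 𝟙 (Coh.structureModule X) ≠ 0 := by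
  intro h
  exact VBCurve.not_isZero_of_isInvertible (TensH8.isInvertible_structureModule (X := X))
    ((IsZero.iff_id_eq_zero _).mpr h)

/-- if `h⁰(O_X) = 1` then the endomorphisms of `O_X` are scalars -/
theorem endo_structure_eq_smul [Nonempty X]
    (h0 : Module.finrank k (Coh.HH X (Coh.structureModule X) 0) = 1)
    (u : Coh.structureModule X ⟶ Coh.structureModule X) :
    ∃ c : k, u = c • 𝟙 (Coh.structureModule X) := by
  have h1 : Module.finrank k (Coh.structureModule X ⟶ Coh.structureModule X) = 1 := by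
    rw [(CurveIdeal.thetaEquiv k (Coh.structureModule X)).finrank_eq, h0]
  obtain ⟨c, hc⟩ := (finrank_eq_one_iff_of_nonzero' _ (id_structure_ne_zero X)).mp h1 u
  exact ⟨c, hc.symm⟩

end Geo

section Main18788

variable (k : Type u) [Field k] [Finite k] (X : Scheme.{u}) [X.Over (Spec (CommRingCat.of k))]
  [IsProper (X ↘ Spec (CommRingCat.of k))] [GeometricallyIntegral (X ↘ Spec (CommRingCat.of k))]

/-- **S18788** -/
theorem main18788 (hdim : topologicalKrullDim X = 1)
    (T : ShortComplex X.Modules) (hT : T.ShortExact)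
    (e₁ : T.X₁ ≅ Coh.structureModule X) (e₃ : T.X₃ ≅ Coh.structureModule X)
    (hns : ¬ IsSplitEpi T.g)
    (L : X.Modules) (hL : PicF.IsInvertible L) (hdeg : Curv2.deg k X L 1 = 0) :
    Nat.card (Aut (Coh.structureModule X ⊞ T.X₂)) = (Nat.card k - 1) ^ 2 * Nat.card k ^ 3 ∧
    (¬ Nonempty (L ≅ Coh.structureModule X) →
      Nat.card (Aut (Coh.structureModule X ⊞ CohB1.tensorMod L T.X₂)) =
        (Nat.card k - 1) ^ 2 * Nat.card k) := by
  haveI := GZ9.isIntegral_of_geometricallyIntegral k X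
  haveI : Nonempty X := inferInstance
  have h0 := finrank_HH0_of_geomIntegral k X
  have hN : NSExt k (e₁.inv ≫ T.f) (T.g ≫ e₃.hom) :=
    nsExt_of_shortExact (endo_structure_eq_smul k X h0) (id_structure_ne_zero X) T hT e₁ e₃ hns
  refine ⟨card_aut_O_F hN, ?_⟩
  intro hLO
  have hO : PicF.IsInvertible (Coh.structureModule X) := TensH8.isInvertible_structureModule
  have hdO := CurveDeg.deg_structureModule k X
  have hOL : ∀ c : Coh.structureModule X ⟶ L, c = 0 := by
    intro c
    rcases VBCurve.line_hom_cases k X hdim hO hL c with h | ⟨-, -, h⟩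
    · exact h
    · haveI := h (by rw [hdO, hdeg])
      exact absurd ⟨(asIso c).symm⟩ hLO
  have hLO' : ∀ c : L ⟶ Coh.structureModule X, c = 0 := by
    intro c
    rcases VBCurve.line_hom_cases k X hdim hL hO c with h | ⟨-, -, h⟩
    · exact h
    · haveI := h (by rw [hdO, hdeg])
      exact absurd ⟨asIso c⟩ hLO
  obtain ⟨L', -, ⟨e⟩⟩ := Groth.Agent.InvTensP.exists_inverse L hL
  haveI : (tL L).IsEquivalence := isEquivalence_tL ⟨e⟩
  have hS' := shortExact_map_of_isEquivalence (tL L) T hT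
  let a₁ : (T.map (tL L)).X₁ ≅ L := (tL L).mapIso e₁ ≪≫ rightUnit L
  let a₃ : (T.map (tL L)).X₃ ≅ L := (tL L).mapIso e₃ ≪≫ rightUnit L
  have hOG : ∀ u : Coh.structureModule X ⟶ CohB1.tensorMod L T.X₂, u = 0 := fun u =>
    hom_eq_zero_of_ses_right (T.map (tL L)) hS' (hom_eq_zero_of_iso_right a₁ hOL)
      (hom_eq_zero_of_iso_right a₃ hOL) u
  have hGO : ∀ u : CohB1.tensorMod L T.X₂ ⟶ Coh.structureModule X, u = 0 := fun u =>
    hom_eq_zero_of_ses_left (T.map (tL L)) hS' (hom_eq_zero_of_iso_left a₁ hLO')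
      (hom_eq_zero_of_iso_left a₃ hLO') u
  rw [card_aut_biprod hOG hGO]
  obtain ⟨eO⟩ := nonempty_endStructure k X h0
  have hAO : Nat.card (Aut (Coh.structureModule X)) = Nat.card k - 1 := by
    rw [← Nat.card_congr (Aut.unitsEndEquivAut _).toEquiv,
      Nat.card_congr (Units.mapEquiv eO.toMulEquiv).toEquiv, Nat.card_units]
  let EG : End T.X₂ ≃+* End (CohB1.tensorMod L T.X₂) :=
    endRingEquivOfFullyFaithful (tL L) T.X₂
  have hAG : Nat.card (Aut (CohB1.tensorMod L T.X₂)) = (Nat.card k - 1) * Nat.card k := by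
    rw [← Nat.card_congr (Aut.unitsEndEquivAut _).toEquiv,
      ← Nat.card_congr (Units.mapEquiv EG.toMulEquiv).toEquiv,
      Nat.card_congr (Aut.unitsEndEquivAut _).toEquiv]
    exact card_aut_F hN
  rw [hAO, hAG]
  ring

end Main18788

end AutCount
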