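import Mathlib

set_option maxHeartbeats 400000
set_option autoImplicit false

namespace Groth.Agent.Lib.AwayGen

universe u v

section
variable {R : Type u} {A : Type v} [CommRing R] [CommRing A] [Algebra R A]
  (𝒜 : ℕ → Submodule R A) [GradedAlgebra 𝒜] (τ : A) (s : ℕ)
  (B : Subalgebra (𝒜 0) (HomogeneousLocalization.Away 𝒜 τ))

def T (m : ℕ) (g : A) : Prop :=
  g ∈ 𝒜 (m • s) ∧ ∃ z ∈ B, z.val = Localization.mk g (⟨τ ^ m, m, rfl⟩ : Submonoid.powers τ)

variable {𝒜 τ s B}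

theorem T_congr {m m' : ℕ} (h : m = m') {g : A} (hT : T 𝒜 τ s B m g) : T 𝒜 τ s B m' g := by
  subst h; exact hT

theorem val_algebraMap (x : A) (r : 𝒜 0) :
    (algebraMap (𝒜 0) (HomogeneousLocalization.Away 𝒜 x) r).val = Localization.mk r.1 1 := rfl

theorem T_zero {a : A} (ha : a ∈ 𝒜 0) : T 𝒜 τ s B 0 a := by
  refine ⟨by rwa [zero_smul], algebraMap (𝒜 0) _ ⟨a, ha⟩, Subalgebra.algebraMap_mem B _, ?_⟩
  rw [val_algebraMap]
  exact congrArg (Localization.mk a) (Subtype.ext (pow_zero τ).symm)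

theorem T_add {m : ℕ} {g g' : A} (h : T 𝒜 τ s B m g) (h' : T 𝒜 τ s B m g') :
    T 𝒜 τ s B m (g + g') := by
  obtain ⟨hg, z, hz, hv⟩ := h
  obtain ⟨hg', z', hz', hv'⟩ := h'
  exact ⟨add_mem hg hg', z + z', add_mem hz hz', by
    rw [HomogeneousLocalization.val_add, hv, hv', Localization.add_mk_self]⟩

theorem T_mul {m m' : ℕ} {g g' : A} (h : T 𝒜 τ s B m g) (h' : T 𝒜 τ s B m' g') :
    T 𝒜 τ s B (m + m') (g * g') := by
  obtain ⟨hg, z, hz, hv⟩ := h
  obtain ⟨hg', z', hz', hv'⟩ := h'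
  refine ⟨by rw [add_smul]; exact SetLike.mul_mem_graded hg hg', z * z', mul_mem hz hz', ?_⟩
  rw [HomogeneousLocalization.val_mul, hv, hv', Localization.mk_mul]
  exact congrArg (Localization.mk _) (Subtype.ext (pow_add τ m m').symm)

theorem T_pow {x : A} (h : T 𝒜 τ s B 1 x) (j : ℕ) : T 𝒜 τ s B j (x ^ j) := by
  induction j with
  | zero => rw [pow_zero]; exact T_zero (SetLike.one_mem_graded 𝒜)
  | succ j ih => rw [pow_succ]; exact T_mul ih h

theorem T_prod {ι : Type*} (F : Finset ι) (m : ι → ℕ) (g : ι → A)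
    (h : ∀ i ∈ F, T 𝒜 τ s B (m i) (g i)) : T 𝒜 τ s B (∑ i ∈ F, m i) (∏ i ∈ F, g i) := by
  classical
  induction F using Finset.induction_on with
  | empty =>
    simp only [Finset.sum_empty, Finset.prod_empty]
    exact T_zero (SetLike.one_mem_graded 𝒜)
  | insert a F ha ih =>
    rw [Finset.sum_insert ha, Finset.prod_insert ha]
    exact T_mul (h a (Finset.mem_insert_self a F))
      (ih fun i hi => h i (Finset.mem_insert_of_mem hi))

theorem T_cancel {m N : ℕ} {g : A} (hg : g ∈ 𝒜 (m • s))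
    (h : T 𝒜 τ s B (m + N) (τ ^ N * g)) : T 𝒜 τ s B m g := by
  obtain ⟨-, z, hz, hv⟩ := h
  refine ⟨hg, z, hz, ?_⟩
  rw [hv, Localization.mk_eq_mk_iff, Localization.r_iff_exists]
  refine ⟨1, ?_⟩
  show (1 : A) * (τ ^ m * (τ ^ N * g)) = (1 : A) * (τ ^ (m + N) * g)
  rw [pow_add]; ring

theorem T_gen
    (hB : ∀ z : HomogeneousLocalization.Away 𝒜 τ,
      (∃ f ∈ 𝒜 s, z.val = Localization.mk f ⟨τ, Submonoid.mem_powers _⟩) → z ∈ B)
    (hτ : τ ∈ 𝒜 s) {f : A} (hf : f ∈ 𝒜 s) : T 𝒜 τ s B 1 f := by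
  have hf1 : f ∈ 𝒜 (1 • s) := by rwa [one_smul]
  refine ⟨hf1, HomogeneousLocalization.Away.mk 𝒜 hτ 1 f hf1, hB _ ⟨f, hf, ?_⟩, rfl⟩
  rw [HomogeneousLocalization.Away.val_mk]
  exact congrArg (Localization.mk f) (Subtype.ext (pow_one τ))

end

theorem core {R : Type u} {A : Type v} [CommRing R] [CommRing A] [Algebra R A]
    (𝒜 : ℕ → Submodule R A) [GradedAlgebra 𝒜]
    {n : ℕ} (σ : Fin n → A) (hσ : ∀ i, σ i ∈ 𝒜 1) {s : ℕ} (hs : 0 < s)
    (hgen : ∀ i, Algebra.adjoin (𝒜 0)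
      {z : HomogeneousLocalization.Away 𝒜 (σ i) |
        ∃ f ∈ 𝒜 s, z.val = Localization.mk f ⟨σ i ^ s, Submonoid.pow_mem _ (Submonoid.mem_powers (σ i)) s⟩} = ⊤)
    (K : Fin n → ℕ) (hK : ∑ i, K i = s) (τ : A) (hτeq : τ = ∏ i, σ i ^ K i) :
    Algebra.adjoin (𝒜 0)
      {z : HomogeneousLocalization.Away 𝒜 τ |
        ∃ f ∈ 𝒜 s, z.val = Localization.mk f ⟨τ, Submonoid.mem_powers _⟩} = ⊤ := by
  classical
  have hτ : τ ∈ 𝒜 s := by
    rw [hτeq]
    have := SetLike.prod_pow_mem_graded 𝒜 (fun _ : Fin n => 1) σ K (F := Finset.univ)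
      (fun i _ => hσ i)
    simpa [hK] using this
  set B := Algebra.adjoin (𝒜 0)
      {z : HomogeneousLocalization.Away 𝒜 τ |
        ∃ f ∈ 𝒜 s, z.val = Localization.mk f ⟨τ, Submonoid.mem_powers _⟩} with hBdef
  have hB : ∀ z : HomogeneousLocalization.Away 𝒜 τ,
      (∃ f ∈ 𝒜 s, z.val = Localization.mk f ⟨τ, Submonoid.mem_powers _⟩) → z ∈ B :=
    fun z hz => Algebra.subset_adjoin hz
  rw [eq_top_iff]
  rintro z -
  obtain ⟨L, g, hg, rfl⟩ := HomogeneousLocalization.Away.mk_surjective 𝒜 hτ z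
  suffices h : T 𝒜 τ s B L g by
    obtain ⟨-, z', hz'B, hz'⟩ := h
    have hzz : z' = HomogeneousLocalization.Away.mk 𝒜 hτ L g hg :=
      (HomogeneousLocalization.ext_iff_val _ _).mpr (by rw [hz']; rfl)
    rwa [← hzz]
  obtain ⟨i0, -, hi0⟩ : ∃ i ∈ Finset.univ, K i ≠ 0 :=
    Finset.exists_ne_zero_of_sum_ne_zero (by rw [hK]; omega)
  have hT1 : ∀ i, T 𝒜 τ s B 1 (σ i ^ s) := fun i => T_gen hB hτ (by
    have := SetLike.pow_mem_graded s (hσ i); rwa [smul_eq_mul, mul_one] at this)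
  have hTς : ∀ i m, T 𝒜 τ s B m (σ i ^ (s * m)) := fun i m => by
    rw [pow_mul]; exact T_pow (hT1 i) m
  -- Step 1
  have hP : ∀ z0 : HomogeneousLocalization.Away 𝒜 (σ i0), ∃ m h, T 𝒜 τ s B m h ∧
      z0.val = Localization.mk h (⟨σ i0 ^ (s * m), s * m, rfl⟩ : Submonoid.powers (σ i0)) := by
    intro z0
    have hz0 : z0 ∈ Algebra.adjoin (𝒜 0) _ := (hgen i0).ge Algebra.mem_top
    induction hz0 using Algebra.adjoin_induction with
    | mem x hx =>
      obtain ⟨f, hf, hxf⟩ := hx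
      refine ⟨1, f, T_gen hB hτ hf, ?_⟩
      rw [hxf]
      exact congrArg (Localization.mk f) (Subtype.ext (by simp))
    | algebraMap r =>
      refine ⟨0, r.1, T_zero r.2, ?_⟩
      rw [val_algebraMap]
      exact congrArg (Localization.mk r.1) (Subtype.ext (by simp))
    | add x y _ _ hx hy =>
      obtain ⟨m, h, hT, hv⟩ := hx
      obtain ⟨m', h', hT', hv'⟩ := hy
      refine ⟨m + m', σ i0 ^ (s * m) * h' + σ i0 ^ (s * m') * h,
        T_add (T_mul (hTς i0 m) hT') (T_congr (add_comm m' m) (T_mul (hTς i0 m') hT)), ?_⟩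
      rw [HomogeneousLocalization.val_add, hv, hv', Localization.add_mk]
      exact congrArg (Localization.mk _) (Subtype.ext (by
        show σ i0 ^ (s * m) * σ i0 ^ (s * m') = σ i0 ^ (s * (m + m'))
        rw [mul_add, pow_add]))
    | mul x y _ _ hx hy =>
      obtain ⟨m, h, hT, hv⟩ := hx
      obtain ⟨m', h', hT', hv'⟩ := hy
      refine ⟨m + m', h * h', T_mul hT hT', ?_⟩
      rw [HomogeneousLocalization.val_mul, hv, hv', Localization.mk_mul]
      exact congrArg (Localization.mk _) (Subtype.ext (by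
        show σ i0 ^ (s * m) * σ i0 ^ (s * m') = σ i0 ^ (s * (m + m'))
        rw [mul_add, pow_add]))
  have hgdeg : g ∈ 𝒜 ((s * L) • 1) := by
    rw [smul_eq_mul, mul_one, mul_comm]; rwa [smul_eq_mul] at hg
  obtain ⟨m, h, hTh, hv⟩ := hP (HomogeneousLocalization.Away.mk 𝒜 (hσ i0) (s * L) g hgdeg)
  rw [HomogeneousLocalization.Away.val_mk, Localization.mk_eq_mk_iff,
    Localization.r_iff_exists] at hv
  obtain ⟨⟨_, e, rfl⟩, hc⟩ := hv
  have hc' : σ i0 ^ e * (σ i0 ^ (s * m) * g) = σ i0 ^ e * (σ i0 ^ (s * L) * h) := hc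
  obtain ⟨t, ht⟩ : ∃ t, s = t + 1 := ⟨s - 1, by omega⟩
  have hpow : ∀ j, (σ i0 ^ e) ^ (j + 1) * (σ i0 ^ (s * m) * g) =
      (σ i0 ^ e) ^ (j + 1) * (σ i0 ^ (s * L) * h) := fun j => by
    rw [pow_succ, mul_assoc, mul_assoc, hc']
  have hpow' := hpow t
  rw [← ht] at hpow'
  have h1 : σ i0 ^ (s * (e + m)) * g = σ i0 ^ (s * (e + L)) * h := by
    calc σ i0 ^ (s * (e + m)) * g = (σ i0 ^ e) ^ s * (σ i0 ^ (s * m) * g) := by ring
      _ = (σ i0 ^ e) ^ s * (σ i0 ^ (s * L) * h) := hpow'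
      _ = σ i0 ^ (s * (e + L)) * h := by ring
  have hT2 : T 𝒜 τ s B (e + L + m) (σ i0 ^ (s * (e + m)) * g) := by
    rw [h1]; exact T_mul (hTς i0 (e + L)) hTh
  -- Step 2
  obtain ⟨c, hKc⟩ : ∃ c : Fin n → ℕ, ∀ i, K i = c i + (if i = i0 then 1 else 0) :=
    ⟨fun i => K i - (if i = i0 then 1 else 0), fun i => by
      by_cases hii : i = i0
      · subst hii; simp; omega
      · simp [hii]⟩
  have hcsum : s = ∑ i, c i + 1 := by
    have h2 : ∑ i, K i = ∑ i, c i + ∑ i : Fin n, (if i = i0 then 1 else 0) := by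
      rw [← Finset.sum_add_distrib]; exact Finset.sum_congr rfl (fun i _ => hKc i)
    have hδ : ∑ i : Fin n, (if i = i0 then 1 else 0) = 1 := by simp
    omega
  have hΘ : T 𝒜 τ s B (∑ i, c i * (e + m)) (∏ i, (σ i ^ s) ^ (c i * (e + m))) :=
    T_prod Finset.univ _ _ (fun i _ => T_pow (hT1 i) _)
  have hτpow : τ ^ (s * (e + m)) =
      σ i0 ^ (s * (e + m)) * ∏ i, (σ i ^ s) ^ (c i * (e + m)) := by
    rw [hτeq, ← Finset.prod_pow]
    have hfac : ∀ i, (σ i ^ K i) ^ (s * (e + m)) =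
        σ i ^ ((if i = i0 then 1 else 0) * (s * (e + m))) * (σ i ^ s) ^ (c i * (e + m)) := by
      intro i; rw [hKc i]; ring
    rw [Finset.prod_congr rfl (fun i _ => hfac i), Finset.prod_mul_distrib]
    congr 1
    rw [Finset.prod_eq_single i0]
    · simp
    · intro j _ hj; simp [hj]
    · intro hni; exact absurd (Finset.mem_univ _) hni
  have hfin : T 𝒜 τ s B (L + s * (e + m)) (τ ^ (s * (e + m)) * g) := by
    have h3 : τ ^ (s * (e + m)) * g =
        (σ i0 ^ (s * (e + m)) * g) * ∏ i, (σ i ^ s) ^ (c i * (e + m)) := by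
      rw [hτpow]; ring
    rw [h3]
    refine T_congr ?_ (T_mul hT2 hΘ)
    rw [← Finset.sum_mul]
    conv_rhs => rw [hcsum]
    ring
  exact T_cancel hg hfin

end Groth.Agent.Lib.AwayGen
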