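import Mathlib

/-!
# Ax theorem, part 1: digit shifts, Legendre for multinomials, the combinatorial core (helper2)
APPEND-ONLY once landed.
-/

set_option autoImplicit false

namespace Groth.Agent.Lib.AxH2

open Finset

/-! ### digit shifts -/

/-- `shL p f ν L = Σ_k L[k] * p^((ν+k) % f)` -/
def shL (p f : ℕ) : ℕ → List ℕ → ℕ
  | _, [] => 0
  | ν, a :: L => a * p ^ (ν % f) + shL p f (ν + 1) L

/-- The digit shift of `m`: digit `k` of `m` is moved to position `(k + ν) % f`. -/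
def sh (p f ν m : ℕ) : ℕ := shL p f ν (Nat.digits p m)

theorem pow_mod_modEq (p f ν : ℕ) (hp : 0 < p) : p ^ (ν % f) ≡ p ^ ν [MOD p ^ f - 1] := by
  have h0 : 1 ≤ p ^ f := Nat.one_le_pow _ _ hp
  have h1 : p ^ f ≡ 1 [MOD p ^ f - 1] :=
    ((Nat.modEq_iff_dvd' h0).mpr (dvd_refl _)).symm
  have h3 : p ^ ν = (p ^ f) ^ (ν / f) * p ^ (ν % f) := by
    rw [← pow_mul, ← pow_add, Nat.div_add_mod]
  have h4 : (p ^ f) ^ (ν / f) * p ^ (ν % f) ≡ 1 ^ (ν / f) * p ^ (ν % f) [MOD p ^ f - 1] :=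
    (h1.pow _).mul_right _
  rw [one_pow, one_mul] at h4
  rw [h3]
  exact h4.symm

theorem shL_modEq (p f : ℕ) (hp : 0 < p) (L : List ℕ) :
    ∀ ν, shL p f ν L ≡ p ^ ν * Nat.ofDigits p L [MOD p ^ f - 1] := by
  induction L with
  | nil =>
    intro ν
    simp [shL, Nat.ofDigits]
    exact Nat.ModEq.refl _
  | cons a L ih =>
    intro ν
    have h1 : shL p f ν (a :: L) = a * p ^ (ν % f) + shL p f (ν + 1) L := rfl
    have h2 : p ^ ν * Nat.ofDigits p (a :: L) = a * p ^ ν + p ^ (ν + 1) * Nat.ofDigits p L := by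
      rw [Nat.ofDigits_cons]
      ring
    rw [h1, h2]
    exact ((pow_mod_modEq p f ν hp).mul_left a).add (ih (ν + 1))

theorem shL_pos (p f : ℕ) (hp : 0 < p) (L : List ℕ) :
    ∀ ν, 0 < Nat.ofDigits p L → 0 < shL p f ν L := by
  induction L with
  | nil =>
    intro ν h
    simp [Nat.ofDigits] at h
  | cons a L ih =>
    intro ν h
    have h1 : shL p f ν (a :: L) = a * p ^ (ν % f) + shL p f (ν + 1) L := rfl
    rw [Nat.ofDigits_cons] at h
    rw [h1]
    rcases Nat.eq_zero_or_pos a with ha | ha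
    · subst ha
      rw [zero_add] at h
      have h2 : 0 < Nat.ofDigits p L := Nat.pos_of_mul_pos_left h
      exact Nat.add_pos_right _ (ih (ν + 1) h2)
    · exact Nat.add_pos_left (Nat.mul_pos ha (Nat.pow_pos hp)) _

theorem sum_range_rot (g : ℕ → ℕ) (f : ℕ) (_hf : 0 < f) (c : ℕ) :
    ∑ ν ∈ range f, g ((ν + c) % f) = ∑ ν ∈ range f, g ν := by
  induction c with
  | zero =>
    refine Finset.sum_congr rfl fun ν hν => ?_
    rw [add_zero, Nat.mod_eq_of_lt (Finset.mem_range.mp hν)]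
  | succ c ih =>
    rw [← ih]
    have h1 := Finset.sum_range_succ' (fun ν => g ((ν + c) % f)) f
    have h2 := Finset.sum_range_succ (fun ν => g ((ν + c) % f)) f
    have h3 : g ((f + c) % f) = g ((0 + c) % f) := by
      rw [zero_add, Nat.add_mod_left]
    rw [h2, h3] at h1
    have h4 : ∑ ν ∈ range f, g ((ν + 1 + c) % f) = ∑ ν ∈ range f, g ((ν + c) % f) :=
      (Nat.add_right_cancel h1).symm
    rw [← h4]
    refine Finset.sum_congr rfl fun ν _ => ?_
    rw [add_assoc, add_comm c 1]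

theorem sum_shL (p f : ℕ) (hf : 0 < f) (L : List ℕ) :
    ∀ c, ∑ ν ∈ range f, shL p f (ν + c) L = L.sum * ∑ ν ∈ range f, p ^ ν := by
  induction L with
  | nil =>
    intro c
    simp [shL]
  | cons a L ih =>
    intro c
    have h1 : ∀ ν, shL p f (ν + c) (a :: L) =
        a * p ^ ((ν + c) % f) + shL p f (ν + (c + 1)) L := fun ν => rfl
    simp only [h1]
    rw [Finset.sum_add_distrib, ← Finset.mul_sum, sum_range_rot (fun x => p ^ x) f hf c, ih (c + 1),
      List.sum_cons, add_mul]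

theorem sh_modEq (p f ν m : ℕ) (hp : 0 < p) : sh p f ν m ≡ p ^ ν * m [MOD p ^ f - 1] := by
  have h := shL_modEq p f hp (Nat.digits p m) ν
  rwa [Nat.ofDigits_digits] at h

theorem sh_pos (p f ν m : ℕ) (hp : 0 < p) (hm : 0 < m) : 0 < sh p f ν m := by
  apply shL_pos p f hp
  rw [Nat.ofDigits_digits]
  exact hm

theorem sum_sh (p f m : ℕ) (hf : 0 < f) :
    ∑ ν ∈ range f, sh p f ν m = (Nat.digits p m).sum * ∑ ν ∈ range f, p ^ ν := by
  have h := sum_shL p f hf (Nat.digits p m) 0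
  simpa [sh] using h

theorem geom_nat (p f : ℕ) (hp : 1 ≤ p) : (p - 1) * ∑ ν ∈ range f, p ^ ν = p ^ f - 1 := by
  have h1 : 1 ≤ p ^ f := Nat.one_le_pow _ _ hp
  zify [hp, h1]
  rw [mul_comm]
  exact geom_sum_mul (p : ℤ) f

/-! ### digit sums -/

theorem digits_sum_pow_sub_one (p f : ℕ) (hp : 1 < p) :
    (Nat.digits p (p ^ f - 1)).sum = f * (p - 1) := by
  induction f with
  | zero => simp
  | succ f ih =>
    have h1 : 1 ≤ p ^ f := Nat.one_le_pow _ _ (by omega)
    have h2 : p ^ (f + 1) - 1 = (p - 1) + p * (p ^ f - 1) := by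
      have h3 : p ^ (f + 1) = p * p ^ f := by ring
      have h4 : p * (p ^ f - 1) = p * p ^ f - p := by
        rw [Nat.mul_sub, mul_one]
      have h5 : p ≤ p * p ^ f := Nat.le_mul_of_pos_right _ (by omega)
      omega
    rw [h2, Nat.digits_add p hp (p - 1) (p ^ f - 1) (by omega) (Or.inl (by omega)), List.sum_cons, ih]
    ring

theorem digits_sum_mul_pow (p n M : ℕ) (hp : 1 < p) :
    (Nat.digits p (n * p ^ M)).sum = (Nat.digits p n).sum := by
  rcases Nat.eq_zero_or_pos n with hn | hn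
  · subst hn
    simp
  · rw [mul_comm, Nat.digits_base_pow_mul hp hn, List.sum_append, List.sum_replicate, smul_zero,
      zero_add]

/-! ### Legendre's formula for multinomial coefficients -/

theorem padicValNat_prod_factorial (p : ℕ) [Fact p.Prime] {ι : Type*} (s : Finset ι) (m : ι → ℕ) :
    padicValNat p (∏ i ∈ s, (m i).factorial) = ∑ i ∈ s, padicValNat p ((m i).factorial) := by
  classical
  induction s using Finset.induction_on with
  | empty => simp
  | insert a s ha ih =>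
    rw [Finset.prod_insert ha, Finset.sum_insert ha, padicValNat.mul (Nat.factorial_ne_zero _)
      (Finset.prod_ne_zero_iff.mpr fun i _ => Nat.factorial_ne_zero _), ih]

theorem legendre_multinomial (p : ℕ) [Fact p.Prime] {ι : Type*} (s : Finset ι) (m : ι → ℕ) :
    (p - 1) * padicValNat p (Nat.multinomial s m) + (Nat.digits p (∑ i ∈ s, m i)).sum =
      ∑ i ∈ s, (Nat.digits p (m i)).sum := by
  have hspec := Nat.multinomial_spec s m
  have hpos : Nat.multinomial s m ≠ 0 := (Nat.multinomial_pos s m).ne'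
  have hprod : (∏ i ∈ s, (m i).factorial) ≠ 0 :=
    Finset.prod_ne_zero_iff.mpr fun i _ => Nat.factorial_ne_zero _
  have h1 : padicValNat p ((∑ i ∈ s, m i).factorial) =
      ∑ i ∈ s, padicValNat p ((m i).factorial) + padicValNat p (Nat.multinomial s m) := by
    rw [← hspec, padicValNat.mul hprod hpos, padicValNat_prod_factorial]
  have h2 := sub_one_mul_padicValNat_factorial (p := p) (∑ i ∈ s, m i)
  have h3 : ∀ i ∈ s, (p - 1) * padicValNat p ((m i).factorial) = m i - (Nat.digits p (m i)).sum :=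
    fun i _ => sub_one_mul_padicValNat_factorial (p := p) (m i)
  have h4 : (p - 1) * ∑ i ∈ s, padicValNat p ((m i).factorial) =
      ∑ i ∈ s, m i - ∑ i ∈ s, (Nat.digits p (m i)).sum := by
    rw [Finset.mul_sum, Finset.sum_congr rfl h3]
    exact Finset.sum_tsub_distrib s fun i _ => Nat.digit_sum_le p (m i)
  have h5 : ∑ i ∈ s, (Nat.digits p (m i)).sum ≤ ∑ i ∈ s, m i :=
    Finset.sum_le_sum fun i _ => Nat.digit_sum_le p (m i)
  have h6 := Nat.digit_sum_le p (∑ i ∈ s, m i)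
  rw [h1, mul_add, h4] at h2
  omega


/-! ### the combinatorial core -/

theorem modEq_sum {ι : Type*} (s : Finset ι) (a b : ι → ℕ) (n : ℕ)
    (h : ∀ i ∈ s, a i ≡ b i [MOD n]) : ∑ i ∈ s, a i ≡ ∑ i ∈ s, b i [MOD n] := by
  classical
  induction s using Finset.induction_on with
  | empty => exact Nat.ModEq.refl _
  | insert x s hx ih =>
    rw [Finset.sum_insert hx, Finset.sum_insert hx]
    exact (h x (Finset.mem_insert_self _ _)).add (ih fun i hi => h i (Finset.mem_insert_of_mem hi))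

theorem core_aux (p f : ℕ) (hp : 1 < p) (hf : 0 < f) {ι : Type*} (s : Finset ι) (m : ι → ℕ)
    (N d : ℕ) (w : ι → Fin N → ℕ) (hw : ∀ i ∈ s, ∑ l, w i l ≤ d)
    (hE : (p ^ f - 1) ∣ ∑ i ∈ s, m i) (hEpos : 0 < ∑ i ∈ s, m i)
    (he : ∀ l, (p ^ f - 1) ∣ ∑ i ∈ s, m i * w i l) (ν : ℕ) :
    ∃ lam : ℕ, ∑ i ∈ s, sh p f ν (m i) = (p ^ f - 1) * lam ∧ 1 ≤ lam ∧
      (univ.filter fun l : Fin N => ∑ i ∈ s, m i * w i l ≠ 0).card ≤ d * lam := by
  have hp0 : 0 < p := by omega
  have hq : 1 < p ^ f := Nat.one_lt_pow hf.ne' hp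
  have hq1 : 0 < p ^ f - 1 := by omega
  have hA : ∑ i ∈ s, sh p f ν (m i) ≡ p ^ ν * ∑ i ∈ s, m i [MOD p ^ f - 1] := by
    rw [Finset.mul_sum]
    exact modEq_sum s _ _ _ fun i _ => sh_modEq p f ν (m i) hp0
  have hA0 : (p ^ f - 1) ∣ ∑ i ∈ s, sh p f ν (m i) := by
    rw [← Nat.modEq_zero_iff_dvd]
    exact hA.trans (Nat.modEq_zero_iff_dvd.mpr (Dvd.dvd.mul_left hE _))
  obtain ⟨lam, hlam⟩ := hA0
  have hApos : 0 < ∑ i ∈ s, sh p f ν (m i) := by
    obtain ⟨i, hi, hmi⟩ := Finset.exists_ne_zero_of_sum_ne_zero hEpos.ne'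
    have h1 : sh p f ν (m i) ≤ ∑ i ∈ s, sh p f ν (m i) :=
      Finset.single_le_sum (f := fun i => sh p f ν (m i)) (fun _ _ => Nat.zero_le _) hi
    have h2 := sh_pos p f ν (m i) hp0 (Nat.pos_of_ne_zero hmi)
    omega
  refine ⟨lam, hlam, ?_, ?_⟩
  · rcases Nat.eq_zero_or_pos lam with h | h
    · rw [h, mul_zero] at hlam
      omega
    · exact h
  · -- the count
    have hB : ∀ l ∈ univ.filter fun l : Fin N => ∑ i ∈ s, m i * w i l ≠ 0,
        p ^ f - 1 ≤ ∑ i ∈ s, sh p f ν (m i) * w i l := by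
      intro l hl
      rw [Finset.mem_filter] at hl
      have h1 : ∑ i ∈ s, sh p f ν (m i) * w i l ≡ p ^ ν * ∑ i ∈ s, m i * w i l [MOD p ^ f - 1] := by
        rw [Finset.mul_sum]
        refine modEq_sum s _ _ _ fun i _ => ?_
        have h2 := (sh_modEq p f ν (m i) hp0).mul_right (w i l)
        rwa [mul_assoc] at h2
      have h3 : (p ^ f - 1) ∣ ∑ i ∈ s, sh p f ν (m i) * w i l := by
        rw [← Nat.modEq_zero_iff_dvd]
        exact h1.trans (Nat.modEq_zero_iff_dvd.mpr (Dvd.dvd.mul_left (he l) _))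
      apply Nat.le_of_dvd _ h3
      obtain ⟨i, hi, hmi⟩ := Finset.exists_ne_zero_of_sum_ne_zero hl.2
      have h4 : m i ≠ 0 := fun h => hmi (by rw [h, zero_mul])
      have h5 : w i l ≠ 0 := fun h => hmi (by rw [h, mul_zero])
      have h6 : sh p f ν (m i) * w i l ≤ ∑ i ∈ s, sh p f ν (m i) * w i l :=
        Finset.single_le_sum (f := fun i => sh p f ν (m i) * w i l) (fun _ _ => Nat.zero_le _) hi
      have h7 : 0 < sh p f ν (m i) * w i l :=
        Nat.mul_pos (sh_pos p f ν (m i) hp0 (Nat.pos_of_ne_zero h4)) (Nat.pos_of_ne_zero h5)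
      omega
    have h1 : (univ.filter fun l : Fin N => ∑ i ∈ s, m i * w i l ≠ 0).card * (p ^ f - 1) ≤
        ∑ l ∈ univ.filter fun l : Fin N => ∑ i ∈ s, m i * w i l ≠ 0,
          ∑ i ∈ s, sh p f ν (m i) * w i l := by
      rw [← smul_eq_mul, ← Finset.sum_const]
      exact Finset.sum_le_sum hB
    have h2 : (∑ l ∈ univ.filter fun l : Fin N => ∑ i ∈ s, m i * w i l ≠ 0,
          ∑ i ∈ s, sh p f ν (m i) * w i l) ≤
        ∑ l : Fin N, ∑ i ∈ s, sh p f ν (m i) * w i l :=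
      Finset.sum_le_sum_of_subset (Finset.filter_subset _ _)
    have h3 : ∑ l : Fin N, ∑ i ∈ s, sh p f ν (m i) * w i l =
        ∑ i ∈ s, sh p f ν (m i) * ∑ l : Fin N, w i l := by
      rw [Finset.sum_comm]
      refine Finset.sum_congr rfl fun i _ => ?_
      rw [Finset.mul_sum]
    have h4 : ∑ i ∈ s, sh p f ν (m i) * ∑ l : Fin N, w i l ≤ ∑ i ∈ s, sh p f ν (m i) * d :=
      Finset.sum_le_sum fun i hi => Nat.mul_le_mul_left _ (hw i hi)
    have h5 : ∑ i ∈ s, sh p f ν (m i) * d = d * lam * (p ^ f - 1) := by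
      rw [← Finset.sum_mul, hlam]
      ring
    have h6 : (univ.filter fun l : Fin N => ∑ i ∈ s, m i * w i l ≠ 0).card * (p ^ f - 1) ≤
        d * lam * (p ^ f - 1) := by
      rw [← h5]
      exact h1.trans (h2.trans (h3.le.trans h4))
    exact Nat.le_of_mul_le_mul_right h6 hq1

theorem core (p f : ℕ) [hpr : Fact p.Prime] (hf : 0 < f) (M : ℕ) {ι : Type*} (s : Finset ι)
    (m : ι → ℕ) (N d j : ℕ) (hd : 0 < d) (w : ι → Fin N → ℕ) (hw : ∀ i ∈ s, ∑ l, w i l ≤ d)
    (hm : ∑ i ∈ s, m i = (p ^ f - 1) * p ^ M)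
    (he : ∀ l, (p ^ f - 1) ∣ ∑ i ∈ s, m i * w i l) (hj : j * d < N) :
    f * j ≤ padicValNat p (Nat.multinomial s m) +
      f * (univ.filter fun l : Fin N => ∑ i ∈ s, m i * w i l = 0).card := by
  have hp : 1 < p := hpr.out.one_lt
  have hq : 1 < p ^ f := Nat.one_lt_pow hf.ne' hp
  have hq1 : 0 < p ^ f - 1 := by omega
  have hEpos : 0 < ∑ i ∈ s, m i := by
    rw [hm]
    exact Nat.mul_pos hq1 (Nat.pow_pos (by omega))
  have hE : (p ^ f - 1) ∣ ∑ i ∈ s, m i := by
    rw [hm]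
    exact dvd_mul_right _ _
  choose lam hlam1 hlam2 hlam3 using core_aux p f hp hf s m N d w hw hE hEpos he
  have hsz : (univ.filter fun l : Fin N => ∑ i ∈ s, m i * w i l = 0).card +
      (univ.filter fun l : Fin N => ∑ i ∈ s, m i * w i l ≠ 0).card = N := by
    have h := Finset.card_filter_add_card_filter_not (s := (univ : Finset (Fin N)))
      (fun l => ∑ i ∈ s, m i * w i l = 0)
    simpa using h
  generalize (univ.filter fun l : Fin N => ∑ i ∈ s, m i * w i l = 0).card = z at hsz ⊢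
  generalize (univ.filter fun l : Fin N => ∑ i ∈ s, m i * w i l ≠ 0).card = s' at hsz hlam3
  have hper : ∀ ν, j + 1 ≤ lam ν + z := by
    intro ν
    by_contra hcon
    push Not at hcon
    have h1 : lam ν ≤ j := by omega
    have h2 : s' ≤ d * lam ν := hlam3 ν
    have h4 : (d - 1) * lam ν ≤ (d - 1) * j := Nat.mul_le_mul_left _ h1
    have h5 : d * lam ν = (d - 1) * lam ν + lam ν := by
      have h : d = (d - 1) + 1 := by omega
      conv_lhs => rw [h, add_mul, one_mul]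
    have h6 : d * j = (d - 1) * j + j := by
      have h : d = (d - 1) + 1 := by omega
      conv_lhs => rw [h, add_mul, one_mul]
    have h7 : j * d = d * j := mul_comm _ _
    omega
  have hsum : f * (j + 1) ≤ ∑ ν ∈ range f, lam ν + f * z := by
    have h1 : ∑ ν ∈ range f, (j + 1) ≤ ∑ ν ∈ range f, (lam ν + z) :=
      Finset.sum_le_sum fun ν _ => hper ν
    rw [Finset.sum_const, Finset.card_range, smul_eq_mul, Finset.sum_add_distrib, Finset.sum_const,
      Finset.card_range, smul_eq_mul] at h1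
    exact h1
  have hleg := legendre_multinomial p s m
  have hσE : (Nat.digits p (∑ i ∈ s, m i)).sum = f * (p - 1) := by
    rw [hm, digits_sum_mul_pow p _ M hp, digits_sum_pow_sub_one p f hp]
  have e1 : (p ^ f - 1) * ∑ ν ∈ range f, lam ν =
      (∑ ν ∈ range f, p ^ ν) * ∑ i ∈ s, (Nat.digits p (m i)).sum := by
    rw [Finset.mul_sum, Finset.mul_sum]
    have h1 : ∑ ν ∈ range f, (p ^ f - 1) * lam ν = ∑ ν ∈ range f, ∑ i ∈ s, sh p f ν (m i) :=
      Finset.sum_congr rfl fun ν _ => (hlam1 ν).symm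
    rw [h1, Finset.sum_comm]
    refine Finset.sum_congr rfl fun i _ => ?_
    rw [sum_sh p f (m i) hf, mul_comm]
  have e2 : (p - 1) * ∑ ν ∈ range f, p ^ ν = p ^ f - 1 := geom_nat p f (by omega)
  have e3 : (p ^ f - 1) * ((p - 1) * ∑ ν ∈ range f, lam ν) =
      (p ^ f - 1) * ∑ i ∈ s, (Nat.digits p (m i)).sum := by
    calc (p ^ f - 1) * ((p - 1) * ∑ ν ∈ range f, lam ν)
        = (p - 1) * ((p ^ f - 1) * ∑ ν ∈ range f, lam ν) := by ring
      _ = (p - 1) * ((∑ ν ∈ range f, p ^ ν) * ∑ i ∈ s, (Nat.digits p (m i)).sum) := by rw [e1]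
      _ = ((p - 1) * ∑ ν ∈ range f, p ^ ν) * ∑ i ∈ s, (Nat.digits p (m i)).sum := by ring
      _ = (p ^ f - 1) * ∑ i ∈ s, (Nat.digits p (m i)).sum := by rw [e2]
  have e4 : (p - 1) * ∑ ν ∈ range f, lam ν = ∑ i ∈ s, (Nat.digits p (m i)).sum :=
    Nat.eq_of_mul_eq_mul_left hq1 e3
  have e5 : (p - 1) * (padicValNat p (Nat.multinomial s m) + f) =
      (p - 1) * ∑ ν ∈ range f, lam ν := by
    rw [e4, ← hleg, hσE]
    ring
  have e6 : padicValNat p (Nat.multinomial s m) + f = ∑ ν ∈ range f, lam ν :=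
    Nat.eq_of_mul_eq_mul_left (by omega) e5
  have e7 : f * (j + 1) = f * j + f := by ring
  omega

end Groth.Agent.Lib.AxH2
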