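import Mathlib
import Groth.Agent.Lib.AxKatz1_helper2

/-!
# Ax theorem, part 2: Teichmüller sums in Witt vectors and the theorem (helper2)
APPEND-ONLY once landed.
-/

set_option autoImplicit false

namespace Groth.Agent.Lib.AxH2

open Finset WittVector

theorem term_eq_gen {k R : Type*} [CommMonoid k] [CommMonoid R] (τ : k →* R) {N : ℕ}
    (supp : Finset (Fin N →₀ ℕ)) (c : (Fin N →₀ ℕ) → k)
    (m : (Fin N →₀ ℕ) → ℕ) (x : Fin N → k) :
    ∏ w ∈ supp, (τ (c w * ∏ l, x l ^ w l)) ^ m w =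
      τ (∏ w ∈ supp, c w ^ m w) * ∏ l, (τ (x l)) ^ (∑ w ∈ supp, m w * w l) := by
  have h1 : ∀ w, (τ (c w * ∏ l, x l ^ w l)) ^ m w =
      τ (c w ^ m w) * ∏ l, (τ (x l)) ^ (m w * w l) := by
    intro w
    rw [map_mul, mul_pow, map_pow, map_prod, ← Finset.prod_pow]
    congr 1
    refine Finset.prod_congr rfl fun l _ => ?_
    rw [map_pow, ← pow_mul, mul_comm]
  simp only [h1]
  rw [Finset.prod_mul_distrib, map_prod, Finset.prod_comm]
  congr 1
  refine Finset.prod_congr rfl fun l _ => ?_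
  rw [Finset.prod_pow_eq_pow_sum]


theorem sum_prod_gen {k R : Type*} [Fintype k] [CommSemiring R] (τ : k → R) (N : ℕ) (e : Fin N → ℕ) :
    ∑ x : Fin N → k, ∏ l, (τ (x l)) ^ e l = ∏ l, ∑ a : k, (τ a) ^ e l :=
  (Fintype.prod_sum (fun l a => (τ a) ^ e l)).symm

/-- The key divisibility: the sum over all points of the `E`-th power of the Teichmüller lift of
`F` is divisible by `p^(f j)`. -/
theorem sum_S_pow_dvd {k R : Type*} [Field k] [Fintype k] [CommRing R] (τ : k →* R) (p f : ℕ)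
    [Fact p.Prime] (hf : 0 < f) (hq : Fintype.card k = p ^ f)
    (hsum0 : ∀ e, ¬ (Fintype.card k - 1) ∣ e → ∑ a : k, τ a ^ e = 0)
    (N d j : ℕ) (hd : 0 < d) (F : MvPolynomial (Fin N) k) (hF : F.IsHomogeneous d)
    (hj : j * d < N) (M : ℕ) :
    (p : R) ^ (f * j) ∣ ∑ x : Fin N → k,
      (∑ w ∈ F.support, τ (F.coeff w * ∏ l, x l ^ w l)) ^ ((p ^ f - 1) * p ^ M) := by
  classical
  have hexp : ∀ x : Fin N → k,
      (∑ w ∈ F.support, τ (F.coeff w * ∏ l, x l ^ w l)) ^ ((p ^ f - 1) * p ^ M) =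
      ∑ m ∈ Finset.piAntidiag F.support ((p ^ f - 1) * p ^ M),
        (Nat.multinomial F.support m : R) * (τ (∏ w ∈ F.support, F.coeff w ^ m w) *
          ∏ l, τ (x l) ^ (∑ w ∈ F.support, m w * w l)) := by
    intro x
    rw [Finset.sum_pow_eq_sum_piAntidiag]
    refine Finset.sum_congr rfl fun m _ => ?_
    rw [term_eq_gen τ F.support (fun w => F.coeff w) m x]
  rw [Finset.sum_congr rfl fun x _ => hexp x, Finset.sum_comm]
  refine Finset.dvd_sum fun m hm => ?_
  rw [← Finset.mul_sum, ← Finset.mul_sum, sum_prod_gen]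
  rw [Finset.mem_piAntidiag] at hm
  by_cases hall : ∀ l : Fin N, (Fintype.card k - 1) ∣ ∑ w ∈ F.support, m w * w l
  · have hw : ∀ w ∈ F.support, ∑ l : Fin N, (fun (w : Fin N →₀ ℕ) (l : Fin N) => w l) w l ≤ d := by
      intro w hw
      have h1 := hF.degree_eq_sum_deg_support hw
      have h2 : ∑ l : Fin N, w l = ∑ l ∈ w.support, w l :=
        (Finsupp.degree_eq_sum w).symm.trans (Finsupp.degree_apply w)
      show ∑ l : Fin N, w l ≤ d
      rw [h2, ← h1]
    have hcore := core p f hf M F.support m N d j hd (fun w l => w l) hw hm.1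
      (fun l => by rw [← hq]; exact hall l) hj
    have hz : (Fintype.card k : R) ^
        (univ.filter fun l : Fin N => ∑ w ∈ F.support, m w * w l = 0).card ∣
        ∏ l : Fin N, ∑ a : k, τ a ^ (∑ w ∈ F.support, m w * w l) := by
      rw [← Finset.prod_filter_mul_prod_filter_not univ
        (fun l : Fin N => ∑ w ∈ F.support, m w * w l = 0)]
      have h1 : ∏ l ∈ univ.filter (fun l : Fin N => ∑ w ∈ F.support, m w * w l = 0),
          ∑ a : k, τ a ^ (∑ w ∈ F.support, m w * w l) =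
          (Fintype.card k : R) ^
            (univ.filter fun l : Fin N => ∑ w ∈ F.support, m w * w l = 0).card := by
        rw [Finset.prod_congr rfl (g := fun _ => (Fintype.card k : R)), Finset.prod_const]
        intro l hl
        rw [(Finset.mem_filter.mp hl).2]
        simp
      rw [h1]
      exact dvd_mul_right _ _
    have hv : (p : R) ^ padicValNat p (Nat.multinomial F.support m) ∣
        (Nat.multinomial F.support m : R) := by
      have h1 : p ^ padicValNat p (Nat.multinomial F.support m) ∣ Nat.multinomial F.support m :=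
        pow_padicValNat_dvd
      have h2 := Nat.cast_dvd_cast (α := R) h1
      rwa [Nat.cast_pow] at h2
    have hqR : (Fintype.card k : R) = (p : R) ^ f := by
      rw [hq, Nat.cast_pow]
    rw [hqR, ← pow_mul] at hz
    refine (pow_dvd_pow (p : R) hcore).trans ?_
    rw [pow_add]
    exact mul_dvd_mul hv (Dvd.dvd.mul_left hz _)
  · push Not at hall
    obtain ⟨l, hl⟩ := hall
    have h0 : ∏ l : Fin N, ∑ a : k, τ a ^ (∑ w ∈ F.support, m w * w l) = 0 :=
      Finset.prod_eq_zero (Finset.mem_univ l) (hsum0 _ hl)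
    rw [h0, mul_zero, mul_zero]
    exact dvd_zero _

/-- The generic form of Ax's theorem, given a "Teichmüller system". -/
theorem ax_generic {k R : Type*} [Field k] [Fintype k] [CommRing R] (τ : k →* R) (p f : ℕ)
    [Fact p.Prime] (hf : 0 < f) (hq : Fintype.card k = p ^ f)
    (hsum0 : ∀ e, ¬ (Fintype.card k - 1) ∣ e → ∑ a : k, τ a ^ e = 0)
    (ρ : R →+* k) (hρ : ∀ a, ρ (τ a) = a)
    (hzero : ∀ (u : R) (M E : ℕ), ρ u = 0 → M + 1 ≤ E → (p : R) ^ (M + 1) ∣ u ^ E)
    (hunit : ∀ (u : R) (M : ℕ), ρ u ≠ 0 → (p : R) ^ (M + 1) ∣ u ^ ((p ^ f - 1) * p ^ M) - 1)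
    (hdesc : ∀ a n : ℕ, (p : R) ^ a ∣ (n : R) → p ^ a ∣ n)
    (N d j : ℕ) (hd : 0 < d) (F : MvPolynomial (Fin N) k) (hF : F.IsHomogeneous d)
    (hj : j * d < N) [Fintype {x : Fin N → k // MvPolynomial.eval x F = 0}] :
    Fintype.card k ^ j ∣ Fintype.card {x : Fin N → k // MvPolynomial.eval x F = 0} := by
  classical
  rcases Nat.eq_zero_or_pos j with hj0 | hj0
  · subst hj0
    simp
  have hp1 : 1 < p := (Fact.out : p.Prime).one_lt
  obtain ⟨M, hM⟩ : ∃ M, f * j = M + 1 := ⟨f * j - 1, by have := Nat.mul_pos hf hj0; omega⟩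
  have hcard : Fintype.card {x : Fin N → k // MvPolynomial.eval x F = 0} =
      (univ.filter fun x : Fin N → k => MvPolynomial.eval x F = 0).card :=
    Fintype.card_of_subtype _ fun x => by simp
  rw [hcard, hq, ← pow_mul]
  apply hdesc
  -- the lifted sum
  have hS : ∀ x : Fin N → k, ρ (∑ w ∈ F.support, τ (F.coeff w * ∏ l, x l ^ w l)) =
      MvPolynomial.eval x F := by
    intro x
    rw [map_sum, MvPolynomial.eval_eq']
    exact Finset.sum_congr rfl fun w _ => hρ _
  have hE : M + 1 ≤ (p ^ f - 1) * p ^ M := by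
    have h1 : 1 ≤ p ^ f - 1 := by
      have : 1 < p ^ f := Nat.one_lt_pow hf.ne' hp1
      omega
    have h2 : M + 1 ≤ p ^ M := by
      have := Nat.lt_pow_self (n := M) hp1
      omega
    calc M + 1 ≤ p ^ M := h2
      _ = 1 * p ^ M := (one_mul _).symm
      _ ≤ (p ^ f - 1) * p ^ M := Nat.mul_le_mul_right _ h1
  have hpt : ∀ x : Fin N → k, (p : R) ^ (M + 1) ∣
      (if MvPolynomial.eval x F = 0 then (1 : R) else 0) -
        (1 - (∑ w ∈ F.support, τ (F.coeff w * ∏ l, x l ^ w l)) ^ ((p ^ f - 1) * p ^ M)) := by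
    intro x
    by_cases hx : MvPolynomial.eval x F = 0
    · rw [if_pos hx, sub_sub_cancel]
      exact hzero _ M _ ((hS x).trans hx) hE
    · rw [if_neg hx, zero_sub, neg_sub]
      exact hunit _ M (by rw [hS x]; exact hx)
  have hsum := Finset.dvd_sum (s := (univ : Finset (Fin N → k))) fun x _ => hpt x
  rw [Finset.sum_sub_distrib, Finset.sum_sub_distrib, Finset.sum_boole, Finset.sum_const,
    Finset.card_univ, nsmul_one] at hsum
  have h1 := sum_S_pow_dvd τ p f hf hq hsum0 N d j hd F hF hj M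
  rw [hM] at h1 ⊢
  have h2 : (p : R) ^ (M + 1) ∣ ((Fintype.card (Fin N → k) : ℕ) : R) := by
    rw [Fintype.card_fun, Fintype.card_fin, hq, ← pow_mul, Nat.cast_pow]
    apply pow_dvd_pow
    rw [← hM]
    have h3 : j ≤ j * d := Nat.le_mul_of_pos_right _ hd
    exact Nat.mul_le_mul_left f (by omega)
  have h3 := dvd_add hsum (dvd_sub h2 h1)
  rwa [sub_add_cancel] at h3

section Witt

variable {k : Type*} [Field k] [Fintype k] (p : ℕ) [hp : Fact p.Prime] [CharP k p]

local notation "𝕎" => WittVector p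

theorem dvd_of_coeff_zero (u : 𝕎 k) (h : u.coeff 0 = 0) : (p : 𝕎 k) ∣ u := by
  haveI : ExpChar k p := ExpChar.prime hp.out
  by_cases hu : u = 0
  · rw [hu]
    exact dvd_zero _
  obtain ⟨m, b, hb, rfl⟩ := WittVector.exists_eq_pow_p_mul u hu
  rcases Nat.eq_zero_or_pos m with hm | hm
  · subst hm
    rw [pow_zero, one_mul] at h
    exact absurd h hb
  · exact Dvd.dvd.mul_right (dvd_pow_self _ hm.ne') _

theorem pow_sub_one_dvd (u : 𝕎 k) (h : u.coeff 0 ≠ 0) (M : ℕ) :
    (p : 𝕎 k) ^ (M + 1) ∣ u ^ ((Fintype.card k - 1) * p ^ M) - 1 := by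
  have h1 : (u ^ (Fintype.card k - 1) - 1).coeff 0 = 0 := by
    have h2 : (u ^ (Fintype.card k - 1) - 1).coeff 0 =
        WittVector.constantCoeff (u ^ (Fintype.card k - 1) - 1) := rfl
    rw [h2, map_sub, map_pow, map_one]
    show (u.coeff 0) ^ _ - 1 = 0
    rw [FiniteField.pow_card_sub_one_eq_one _ h, sub_self]
  have h3 := dvd_of_coeff_zero p _ h1
  have h4 := dvd_sub_pow_of_dvd_sub h3 M
  rwa [one_pow, ← pow_mul] at h4

theorem pow_dvd_pow_of_coeff_zero (u : 𝕎 k) (h : u.coeff 0 = 0) (M E : ℕ) (hME : M + 1 ≤ E) :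
    (p : 𝕎 k) ^ (M + 1) ∣ u ^ E :=
  (pow_dvd_pow _ hME).trans (pow_dvd_pow_of_dvd (dvd_of_coeff_zero p u h) E)

theorem natCast_dvd_of_dvd (a : ℕ) : ∀ n : ℕ, (p : 𝕎 k) ^ a ∣ (n : 𝕎 k) → p ^ a ∣ n := by
  induction a with
  | zero =>
    intro n _
    simp
  | succ a ih =>
    intro n h
    have h1 : (p : 𝕎 k) ∣ (n : 𝕎 k) := Dvd.dvd.trans (dvd_pow_self _ (Nat.succ_ne_zero a)) h
    have h2 : (n : k) = 0 := by
      obtain ⟨y, hy⟩ := h1
      have h3 := congrArg WittVector.constantCoeff hy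
      rw [map_natCast, map_mul, map_natCast, CharP.cast_eq_zero k p, zero_mul] at h3
      exact h3
    obtain ⟨n', rfl⟩ := (CharP.cast_eq_zero_iff k p n).mp h2
    rw [pow_succ', Nat.cast_mul] at h
    have h4 : (p : 𝕎 k) ^ a ∣ (n' : 𝕎 k) :=
      (mul_dvd_mul_iff_left (WittVector.p_nonzero p k)).mp h
    rw [pow_succ']
    exact Nat.mul_dvd_mul_left p (ih n' h4)

theorem teich_injective : Function.Injective (WittVector.teichmuller p : k → 𝕎 k) := by
  intro a b h
  have h1 := congrArg (fun u : 𝕎 k => u.coeff 0) h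
  simpa using h1

theorem sum_teich_pow_zero :
    ∑ a : k, (WittVector.teichmuller p a : 𝕎 k) ^ 0 = (Fintype.card k : 𝕎 k) := by
  simp

theorem sum_teich_pow_eq_zero (e : ℕ) (he : ¬ (Fintype.card k - 1) ∣ e) :
    ∑ a : k, (WittVector.teichmuller p a : 𝕎 k) ^ e = 0 := by
  classical
  obtain ⟨g, hg⟩ := IsCyclic.exists_generator (α := kˣ)
  have hord : orderOf g = Fintype.card k - 1 := by
    rw [orderOf_eq_card_of_forall_mem_zpowers hg, Nat.card_eq_fintype_card, Fintype.card_units]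
  have hge : g ^ e ≠ 1 := fun h => he (hord ▸ orderOf_dvd_of_pow_eq_one h)
  have hge' : ((g : k)) ^ e ≠ 1 := by
    intro h
    apply hge
    ext
    rw [Units.val_pow_eq_pow_val, h, Units.val_one]
  have hc : (WittVector.teichmuller p (g : k) : 𝕎 k) ^ e ≠ 1 := by
    rw [← map_pow, ← map_one (WittVector.teichmuller p)]
    exact fun h => hge' (teich_injective p h)
  have hS : (WittVector.teichmuller p (g : k) : 𝕎 k) ^ e *
      ∑ a : k, (WittVector.teichmuller p a : 𝕎 k) ^ e =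
      ∑ a : k, (WittVector.teichmuller p a : 𝕎 k) ^ e := by
    rw [Finset.mul_sum]
    refine Fintype.sum_equiv (Equiv.mulLeft₀ (g : k) g.ne_zero) _ _ fun a => ?_
    rw [Equiv.mulLeft₀_apply, map_mul, mul_pow]
  have h0 : ((WittVector.teichmuller p (g : k) : 𝕎 k) ^ e - 1) *
      ∑ a : k, (WittVector.teichmuller p a : 𝕎 k) ^ e = 0 := by
    rw [sub_mul, one_mul, hS, sub_self]
  exact (mul_eq_zero.mp h0).resolve_left (sub_ne_zero.mpr hc)

theorem sum_prod_teich (N : ℕ) (e : Fin N → ℕ) :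
    ∑ x : Fin N → k, ∏ l, (WittVector.teichmuller p (x l) : 𝕎 k) ^ e l =
      ∏ l, ∑ a : k, (WittVector.teichmuller p a : 𝕎 k) ^ e l :=
  (Fintype.prod_sum (fun l a => (WittVector.teichmuller p a : 𝕎 k) ^ e l)).symm

end Witt


/-- **Ax's theorem** for a homogeneous form over a finite field: `q^j` divides the number of zeros
in `k^N` when `j d < N`. -/
theorem ax_main (k : Type*) [Field k] [Fintype k] (N d j : ℕ) (hd : 0 < d)
    (F : MvPolynomial (Fin N) k) (hF : F.IsHomogeneous d) (hj : j * d < N)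
    [Fintype {x : Fin N → k // MvPolynomial.eval x F = 0}] :
    Fintype.card k ^ j ∣ Fintype.card {x : Fin N → k // MvPolynomial.eval x F = 0} := by
  obtain ⟨p, hchar, n, hpr, hq⟩ := FiniteField.card' k
  haveI := hchar
  haveI : Fact p.Prime := ⟨hpr⟩
  exact ax_generic (R := WittVector p k) (WittVector.teichmuller p) p n n.pos hq
    (fun e he => sum_teich_pow_eq_zero p e he)
    WittVector.constantCoeff (fun a => WittVector.teichmuller_coeff_zero p a)
    (fun u M E hu hME => pow_dvd_pow_of_coeff_zero p u hu M E hME)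
    (fun u M hu => by
      have h := pow_sub_one_dvd p u hu M
      rwa [hq] at h)
    (fun a n h => natCast_dvd_of_dvd p a n h)
    N d j hd F hF hj

end Groth.Agent.Lib.AxH2
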