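import Mathlib

/-!
# `End_R(P)` is Azumaya for `P` faithful finite projective (helper6)
-/

namespace Groth.Agent.Lib.AzumayaEnd

open scoped TensorProduct
open MulOpposite

/-- a retract of a bijective map is bijective. -/
theorem bijective_of_retract {X Y X' Y' : Type*} (μ : X → Y) (μ' : X' → Y')
    (α : X → X') (β : X' → X) (γ : Y → Y') (δ : Y' → Y)
    (hβα : ∀ x, β (α x) = x) (hδγ : ∀ y, δ (γ y) = y)
    (h1 : ∀ x, μ' (α x) = γ (μ x)) (h2 : ∀ x', μ (β x') = δ (μ' x'))
    (hμ' : Function.Bijective μ') : Function.Bijective μ := by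
  constructor
  · intro x y hxy
    have h3 : α x = α y := hμ'.1 (by rw [h1, h1, hxy])
    rw [← hβα x, ← hβα y, h3]
  · intro y
    obtain ⟨x', hx'⟩ := hμ'.2 (γ y)
    exact ⟨β x', by rw [h2, hx', hδγ]⟩

section

variable {R : Type*} [CommRing R]
variable {P : Type*} [AddCommGroup P] [Module R P]
variable {F : Type*} [AddCommGroup F] [Module R F]
variable (i : P →ₗ[R] F) (π : F →ₗ[R] P)

/-- `φ ↦ i ∘ φ ∘ π` -/
def up : Module.End R P →ₗ[R] Module.End R F where
  toFun φ := i ∘ₗ φ ∘ₗ π
  map_add' φ ψ := by ext x; simp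
  map_smul' r φ := by ext x; simp

/-- `ψ ↦ π ∘ ψ ∘ i` -/
def down : Module.End R F →ₗ[R] Module.End R P where
  toFun ψ := π ∘ₗ ψ ∘ₗ i
  map_add' φ ψ := by ext x; simp
  map_smul' r φ := by ext x; simp

theorem up_apply (φ : Module.End R P) (x : F) : up i π φ x = i (φ (π x)) := rfl

theorem down_apply (ψ : Module.End R F) (x : P) : down i π ψ x = π (ψ (i x)) := rfl

variable {i π}

theorem down_up (h : π ∘ₗ i = LinearMap.id) (φ : Module.End R P) : down i π (up i π φ) = φ := by
  ext x
  have h1 : ∀ y, π (i y) = y := fun y => congrArg (fun f => f y) h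
  rw [down_apply, up_apply, h1, h1]

variable (i π)

/-- the opposite version of a linear map between endomorphism rings. -/
def opMap {A B : Type*} [AddCommGroup A] [Module R A] [AddCommGroup B] [Module R B]
    (f : A →ₗ[R] B) : Aᵐᵒᵖ →ₗ[R] Bᵐᵒᵖ :=
  (opLinearEquiv R).toLinearMap ∘ₗ f ∘ₗ (opLinearEquiv R).symm.toLinearMap

theorem opMap_apply {A B : Type*} [AddCommGroup A] [Module R A] [AddCommGroup B] [Module R B]
    (f : A →ₗ[R] B) (a : Aᵐᵒᵖ) : opMap (R := R) f a = op (f a.unop) := rfl

end

section split

variable {R : Type*} [CommRing R]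
variable {P : Type*} [AddCommGroup P] [Module R P]
variable {F : Type*} [AddCommGroup F] [Module R F]

theorem bijective_of_split (i : P →ₗ[R] F) (π : F →ₗ[R] P) (hπi : π ∘ₗ i = LinearMap.id)
    (hbij : Function.Bijective (AlgHom.mulLeftRight R (Module.End R F))) :
    Function.Bijective (AlgHom.mulLeftRight R (Module.End R P)) := by
  refine bijective_of_retract (AlgHom.mulLeftRight R (Module.End R P))
    (AlgHom.mulLeftRight R (Module.End R F))
    (TensorProduct.map (up i π) (opMap (up i π)))
    (TensorProduct.map (down i π) (opMap (down i π)))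
    (fun Φ => up i π ∘ₗ Φ ∘ₗ down i π)
    (fun Ψ => down i π ∘ₗ Ψ ∘ₗ up i π) ?_ ?_ ?_ ?_ hbij
  · intro x
    induction x using TensorProduct.induction_on with
    | zero => simp
    | tmul a b =>
      rw [TensorProduct.map_tmul, TensorProduct.map_tmul, opMap_apply, opMap_apply, unop_op,
        down_up hπi, down_up hπi, op_unop]
    | add x y hx hy => rw [map_add, map_add, hx, hy]
  · intro Φ
    refine LinearMap.ext fun φ => ?_
    simp only [LinearMap.comp_apply, down_up hπi]
  · intro x
    induction x using TensorProduct.induction_on with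
    | zero =>
      refine LinearMap.ext fun ψ => ?_
      simp
    | tmul a b =>
      refine LinearMap.ext fun ψ => LinearMap.ext fun x => ?_
      rw [TensorProduct.map_tmul, AlgHom.mulLeftRight_apply, opMap_apply, unop_op]
      simp only [LinearMap.comp_apply, AlgHom.mulLeftRight_apply, Module.End.mul_apply, up_apply,
        down_apply]
    | add x y hx hy =>
      rw [map_add, map_add, hx, map_add]
      refine LinearMap.ext fun ψ => ?_
      simp only [LinearMap.comp_apply, LinearMap.add_apply, map_add, hy]
  · intro x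
    induction x using TensorProduct.induction_on with
    | zero =>
      refine LinearMap.ext fun ψ => ?_
      simp
    | tmul a b =>
      refine LinearMap.ext fun ψ => LinearMap.ext fun x => ?_
      rw [TensorProduct.map_tmul, AlgHom.mulLeftRight_apply, opMap_apply, unop_op]
      simp only [LinearMap.comp_apply, AlgHom.mulLeftRight_apply, Module.End.mul_apply, up_apply,
        down_apply]
    | add x y hx hy =>
      rw [map_add, map_add, hx, map_add]
      refine LinearMap.ext fun ψ => ?_
      simp only [LinearMap.comp_apply, LinearMap.add_apply, map_add, hy]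

end split

section main

variable (R : Type*) [CommRing R]
variable (P : Type*) [AddCommGroup P] [Module R P] [Module.Finite R P] [Module.Projective R P]

theorem mulLeftRight_end_bijective :
    Function.Bijective (AlgHom.mulLeftRight R (Module.End R P)) := by
  classical
  obtain ⟨n, f, g, -, -, hfg⟩ := Module.Finite.exists_comp_eq_id_of_projective R P
  -- enlarge the free module so that its rank is positive
  obtain ⟨π, hπ⟩ : ∃ π : ((Fin n → R) × R) →ₗ[R] P, π = f ∘ₗ LinearMap.fst R _ _ := ⟨_, rfl⟩
  obtain ⟨i, hi⟩ : ∃ i : P →ₗ[R] ((Fin n → R) × R), i = LinearMap.inl R _ _ ∘ₗ g := ⟨_, rfl⟩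
  have hπi : π ∘ₗ i = LinearMap.id := by
    rw [hπ, hi]
    refine LinearMap.ext fun x => ?_
    have := congrArg (fun h => h x) hfg
    simpa using this
  -- End F is Azumaya
  obtain ⟨b, -⟩ : ∃ b : Module.Basis (Fin n ⊕ Unit) R ((Fin n → R) × R), True :=
    ⟨(Pi.basisFun R (Fin n)).prod (Module.Basis.singleton Unit R), trivial⟩
  haveI : IsAzumaya R (Matrix (Fin n ⊕ Unit) (Fin n ⊕ Unit) R) := IsAzumaya.matrix R _
  haveI hAz : IsAzumaya R (Module.End R ((Fin n → R) × R)) :=
    IsAzumaya.of_AlgEquiv R _ _ (LinearMap.toMatrixAlgEquiv b).symm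
  exact bijective_of_split i π hπi hAz.bij

/-- `End_R(P)` is a retract of `End_R(F)` for `F` finite free. -/
theorem exists_retract :
    ∃ (n : ℕ) (u : Module.End R P →ₗ[R] Module.End R (Fin n → R))
      (d : Module.End R (Fin n → R) →ₗ[R] Module.End R P), d ∘ₗ u = LinearMap.id := by
  obtain ⟨n, f, g, -, -, hfg⟩ := Module.Finite.exists_comp_eq_id_of_projective R P
  exact ⟨n, up g f, down g f, LinearMap.ext fun φ => down_up hfg φ⟩

theorem isAzumaya_end [FaithfulSMul R P] : IsAzumaya R (Module.End R P) := by
  obtain ⟨n, u, d, hdu⟩ := exists_retract R P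
  have hsurj : Function.Surjective d := fun φ => ⟨u φ, congrArg (fun h => h φ) hdu⟩
  haveI : Module.Finite R (Module.End R P) := Module.Finite.of_surjective d hsurj
  haveI : Module.Projective R (Module.End R P) := Module.Projective.of_split u d hdu
  haveI : FaithfulSMul R (Module.End R P) := by
    refine ⟨fun {r s} h => ?_⟩
    apply FaithfulSMul.eq_of_smul_eq_smul (α := P)
    intro p
    have := congrArg (fun φ : Module.End R P => φ p) (h 1)
    simpa using this
  exact { bij := mulLeftRight_end_bijective R P }

end main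

end Groth.Agent.Lib.AzumayaEnd
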