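import Mathlib
import Groth.Agent.Lib.AzumayaEnd_helper6

/-!
# Base change of Azumaya algebras (helper6)

* `trace_ideal_eq_top`: a faithful finite projective module is a generator.
* `faithful_baseChange`: `S ⊗ A` is faithful over `S` for `A` faithful finite projective algebra.
* `homBaseChange_bijective`: `S ⊗ Hom_R(M, N) → Hom_S(S ⊗ M, S ⊗ N)` is bijective for `M` finite
  projective.
* `isAzumaya_baseChange`.
-/

namespace Groth.Agent.Lib.AzumayaBaseChange

open scoped TensorProduct
open MulOpposite
open Groth.Agent.Lib.AzumayaEnd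

universe u v w

section trace

variable (R : Type*) [CommRing R]
variable (M : Type*) [AddCommGroup M] [Module R M] [Module.Finite R M] [Module.Projective R M]
  [FaithfulSMul R M]

theorem trace_ideal_eq_top (I : Ideal R) (hI : ∀ (f : Module.Dual R M) (m : M), f m ∈ I) :
    I = ⊤ := by
  obtain ⟨n, f, g, -, -, hfg⟩ := Module.Finite.exists_comp_eq_id_of_projective R M
  have hle : (⊤ : Submodule R M) ≤ I • (⊤ : Submodule R M) := by
    intro m _
    have h1 : m = f (g m) := (congrArg (fun h => h m) hfg).symm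
    have h2 : g m = ∑ j, (g m j) • (Pi.single j (1 : R) : Fin n → R) := by
      funext l
      simp [Finset.sum_apply, Pi.single_apply]
    rw [h1, h2, map_sum]
    refine Submodule.sum_mem _ fun j _ => ?_
    rw [map_smul]
    refine Submodule.smul_mem_smul ?_ Submodule.mem_top
    exact hI ((LinearMap.proj j) ∘ₗ g) m
  obtain ⟨r, hr1, hr2⟩ := Submodule.exists_sub_one_mem_and_smul_eq_zero_of_fg_of_le_smul I
    (⊤ : Submodule R M) Module.Finite.fg_top hle
  have hr0 : r = 0 := by
    apply FaithfulSMul.eq_of_smul_eq_smul (α := M)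
    intro m
    rw [hr2 m Submodule.mem_top, zero_smul]
  rw [hr0, zero_sub] at hr1
  rw [Ideal.eq_top_iff_one]
  have := I.neg_mem hr1
  simpa using this

end trace

section faithful

variable (R : Type*) [CommRing R] (S : Type*) [CommRing S] [Algebra R S]
variable (A : Type*) [Ring A] [Algebra R A] [Module.Finite R A] [Module.Projective R A]
  [FaithfulSMul R A]

theorem faithful_baseChange : FaithfulSMul S (S ⊗[R] A) := by
  rw [faithfulSMul_iff_algebraMap_injective]
  rw [injective_iff_map_eq_zero]
  intro c hc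
  rw [Algebra.TensorProduct.algebraMap_apply] at hc
  have hc' : c ⊗ₜ[R] (1 : A) = 0 := by simpa using hc
  obtain ⟨I, hI⟩ : ∃ I : Ideal R, ∀ x, x ∈ I ↔ x • c = 0 :=
    ⟨LinearMap.ker (LinearMap.toSpanSingleton R S c), fun x => by
      rw [LinearMap.mem_ker, LinearMap.toSpanSingleton_apply]⟩
  have htop : I = ⊤ := by
    apply trace_ideal_eq_top R A I
    intro f a
    rw [hI]
    have h1 : c ⊗ₜ[R] a = (0 : S ⊗[R] A) := by
      have : c ⊗ₜ[R] a = (c ⊗ₜ[R] (1 : A)) * ((1 : S) ⊗ₜ[R] a) := by
        rw [Algebra.TensorProduct.tmul_mul_tmul, mul_one, one_mul]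
      rw [this, hc', zero_mul]
    have h2 := congrArg (fun t => TensorProduct.rid R S (LinearMap.lTensor S f t)) h1
    simpa using h2
  have h1 : (1 : R) ∈ I := by rw [htop]; exact Submodule.mem_top
  rw [hI, one_smul] at h1
  exact h1

end faithful

section hom

variable (R : Type*) [CommRing R] (S : Type*) [CommRing S] [Algebra R S]
variable (M : Type*) [AddCommGroup M] [Module R M]
variable (N : Type*) [AddCommGroup N] [Module R N]

/-- the canonical map `S ⊗ Hom_R(M, N) → Hom_S(S ⊗ M, S ⊗ N)`. -/
noncomputable def homBC : S ⊗[R] (M →ₗ[R] N) →ₗ[S] (S ⊗[R] M →ₗ[S] S ⊗[R] N) :=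
  LinearMap.liftBaseChange S (LinearMap.baseChangeHom R S M N)

theorem homBC_tmul (s : S) (φ : M →ₗ[R] N) : homBC R S M N (s ⊗ₜ[R] φ) = s • φ.baseChange S := by
  simp [homBC]

theorem homBC_bijective_free (n : ℕ) : Function.Bijective (homBC R S (Fin n → R) N) := by
  have h := Module.isBaseChange_map_of_finite_free (R := R) N S (Fin n)
  have h2 : ⇑(homBC R S (Fin n → R) N) = ⇑h.equiv := by
    funext t
    induction t using TensorProduct.induction_on with
    | zero => simp
    | tmul s φ => rw [homBC_tmul, IsBaseChange.equiv_tmul]; rfl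
    | add x y hx hy => rw [map_add, map_add, hx, hy]
  rw [h2]
  exact h.equiv.bijective

variable [Module.Finite R M] [Module.Projective R M]

theorem homBC_bijective : Function.Bijective (homBC R S M N) := by
  obtain ⟨n, f, g, -, -, hfg⟩ := Module.Finite.exists_comp_eq_id_of_projective R M
  have hfg' : ∀ m, f (g m) = m := fun m => congrArg (fun h => h m) hfg
  refine bijective_of_retract (homBC R S M N) (homBC R S (Fin n → R) N)
    (LinearMap.lTensor S (LinearMap.lcomp R N f))
    (LinearMap.lTensor S (LinearMap.lcomp R N g))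
    (fun Φ => Φ ∘ₗ f.baseChange S) (fun Ψ => Ψ ∘ₗ g.baseChange S) ?_ ?_ ?_ ?_
    (homBC_bijective_free R S N n)
  · intro x
    induction x using TensorProduct.induction_on with
    | zero => simp
    | tmul s φ =>
      rw [LinearMap.lTensor_tmul, LinearMap.lTensor_tmul]
      congr 1
      refine LinearMap.ext fun m => ?_
      simp [hfg']
    | add x y hx hy => rw [map_add, map_add, hx, hy]
  · intro Φ
    refine LinearMap.ext fun t => ?_
    simp only [LinearMap.comp_apply]
    congr 1
    induction t using TensorProduct.induction_on with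
    | zero => simp
    | tmul s m => simp [hfg']
    | add x y hx hy => rw [map_add, map_add, hx, hy]
  · intro x
    induction x using TensorProduct.induction_on with
    | zero => simp
    | tmul s φ =>
      rw [LinearMap.lTensor_tmul, homBC_tmul, homBC_tmul]
      refine LinearMap.ext fun t => ?_
      induction t using TensorProduct.induction_on with
      | zero => simp
      | tmul s' v => simp
      | add x y hx hy => rw [map_add, map_add, hx, hy]
    | add x y hx hy =>
      rw [map_add, map_add, hx, map_add, hy]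
      rfl
  · intro x
    induction x using TensorProduct.induction_on with
    | zero => simp
    | tmul s φ =>
      rw [LinearMap.lTensor_tmul, homBC_tmul, homBC_tmul]
      refine LinearMap.ext fun t => ?_
      induction t using TensorProduct.induction_on with
      | zero => simp
      | tmul s' v => simp
      | add x y hx hy => rw [map_add, map_add, hx, hy]
    | add x y hx hy =>
      rw [map_add, map_add, hx, map_add, hy]
      rfl

end hom

section main

variable (R : Type u) [CommRing R] (S : Type v) [CommRing S] [Algebra R S]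
variable (A : Type w) [Ring A] [Algebra R A]

/-- `S ⊗ Aᵐᵒᵖ ≃ (S ⊗ A)ᵐᵒᵖ` -/
noncomputable def opBC : S ⊗[R] Aᵐᵒᵖ ≃ₗ[S] (S ⊗[R] A)ᵐᵒᵖ :=
  (TensorProduct.AlgebraTensorModule.congr (LinearEquiv.refl S S)
    (opLinearEquiv R : A ≃ₗ[R] Aᵐᵒᵖ).symm).trans (opLinearEquiv S)

theorem opBC_tmul (s : S) (a : Aᵐᵒᵖ) : opBC R S A (s ⊗ₜ[R] a) = op (s ⊗ₜ[R] a.unop) := rfl

/-- `S ⊗ (A ⊗ Aᵐᵒᵖ) ≃ (S ⊗ A) ⊗_S (S ⊗ A)ᵐᵒᵖ` -/
noncomputable def theta : S ⊗[R] (A ⊗[R] Aᵐᵒᵖ) ≃ₗ[S] (S ⊗[R] A) ⊗[S] (S ⊗[R] A)ᵐᵒᵖ :=
  (TensorProduct.AlgebraTensorModule.distribBaseChange R S A Aᵐᵒᵖ).trans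
    (TensorProduct.congr (LinearEquiv.refl S (S ⊗[R] A)) (opBC R S A))

theorem theta_tmul (s : S) (a : A) (a' : Aᵐᵒᵖ) :
    theta R S A (s ⊗ₜ[R] (a ⊗ₜ[R] a')) =
      (s ⊗ₜ[R] a) ⊗ₜ[S] op ((1 : S) ⊗ₜ[R] a'.unop) := rfl

theorem key (t : S ⊗[R] (A ⊗[R] Aᵐᵒᵖ)) :
    AlgHom.mulLeftRight S (S ⊗[R] A) (theta R S A t) =
      homBC R S A A ((AlgHom.mulLeftRight R A).toLinearMap.baseChange S t) := by
  induction t using TensorProduct.induction_on with
  | zero => simp
  | tmul s y =>
    induction y using TensorProduct.induction_on with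
    | zero => simp
    | tmul a a' =>
      rw [theta_tmul, LinearMap.baseChange_tmul, homBC_tmul]
      refine LinearMap.ext fun t' => ?_
      induction t' using TensorProduct.induction_on with
      | zero => simp
      | tmul s' x =>
        rw [AlgHom.mulLeftRight_apply, unop_op, LinearMap.smul_apply, LinearMap.baseChange_tmul,
          AlgHom.toLinearMap_apply, AlgHom.mulLeftRight_apply,
          Algebra.TensorProduct.tmul_mul_tmul, Algebra.TensorProduct.tmul_mul_tmul, mul_one,
          TensorProduct.smul_tmul', smul_eq_mul]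
      | add x y hx hy => rw [map_add, map_add, hx, hy]
    | add x y hx hy =>
      rw [TensorProduct.tmul_add, map_add, map_add, map_add, map_add, hx, hy]
  | add x y hx hy => rw [map_add, map_add, map_add, map_add, hx, hy]

variable [IsAzumaya R A]

theorem mulLeftRight_bijective :
    Function.Bijective (AlgHom.mulLeftRight S (S ⊗[R] A)) := by
  obtain ⟨eA, heA⟩ : ∃ eA : (A ⊗[R] Aᵐᵒᵖ) ≃ₗ[R] Module.End R A,
      eA.toLinearMap = (AlgHom.mulLeftRight R A).toLinearMap :=
    ⟨LinearEquiv.ofBijective (AlgHom.mulLeftRight R A).toLinearMap IsAzumaya.bij, rfl⟩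
  have hb1 : Function.Bijective ((AlgHom.mulLeftRight R A).toLinearMap.baseChange S) := by
    rw [← heA]
    exact (eA.baseChange R S _ _).bijective
  have hb2 := homBC_bijective R S A A
  have h3 : ⇑(AlgHom.mulLeftRight S (S ⊗[R] A)) =
      (⇑(homBC R S A A) ∘ ⇑((AlgHom.mulLeftRight R A).toLinearMap.baseChange S)) ∘
        ⇑(theta R S A).symm := by
    funext t
    obtain ⟨t', rfl⟩ := (theta R S A).surjective t
    simp only [Function.comp_apply, LinearEquiv.symm_apply_apply]
    exact key R S A t'
  rw [h3]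
  exact (hb2.comp hb1).comp (theta R S A).symm.bijective

theorem isAzumaya_baseChange : IsAzumaya S (S ⊗[R] A) := by
  haveI := faithful_baseChange R S A
  exact { bij := mulLeftRight_bijective R S A }

end main

end Groth.Agent.Lib.AzumayaBaseChange
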