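import Mathlib

/-!
# Descent of triviality and bijectivity along ring maps surjective on spectra (helper6)

* `subsingleton_of_baseChange`: a finite module whose base change along `R → S` (surjective on
  prime spectra) vanishes is zero.
-/

namespace Groth.Agent.Lib.SpecSurjDescent

open scoped TensorProduct

section

variable (R : Type*) [CommRing R] (S : Type*) [CommRing S] [Algebra R S]
variable (hS : Function.Surjective (PrimeSpectrum.comap (algebraMap R S)))
variable (M : Type*) [AddCommGroup M] [Module R M] [Module.Finite R M]

include hS in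
theorem subsingleton_of_baseChange [Subsingleton (S ⊗[R] M)] : Subsingleton M := by
  by_contra hns
  rw [not_subsingleton_iff_nontrivial] at hns
  obtain ⟨p, hp⟩ := Module.nonempty_support_of_nontrivial (R := R) (M := M)
  obtain ⟨q, rfl⟩ := hS p
  rw [Module.mem_support_iff_nontrivial_residueField_tensorProduct] at hp
  -- κ(p) → κ(q)
  obtain ⟨φ, -⟩ : ∃ φ : (PrimeSpectrum.comap (algebraMap R S) q).asIdeal.ResidueField →ₐ[R]
      q.asIdeal.ResidueField, True :=
    ⟨Ideal.ResidueField.mapₐ (PrimeSpectrum.comap (algebraMap R S) q).asIdeal q.asIdeal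
      (Algebra.ofId R S) rfl, trivial⟩
  letI : Algebra (PrimeSpectrum.comap (algebraMap R S) q).asIdeal.ResidueField
      q.asIdeal.ResidueField := φ.toRingHom.toAlgebra
  haveI : IsScalarTower R (PrimeSpectrum.comap (algebraMap R S) q).asIdeal.ResidueField
      q.asIdeal.ResidueField := IsScalarTower.of_algebraMap_eq (fun r => (φ.commutes r).symm)
  have h1 : Nontrivial (q.asIdeal.ResidueField ⊗[(PrimeSpectrum.comap (algebraMap R S)
      q).asIdeal.ResidueField] ((PrimeSpectrum.comap (algebraMap R S) q).asIdeal.ResidueField
        ⊗[R] M)) := by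
    rw [Module.FaithfullyFlat.nontrivial_tensorProduct_iff_right]
    exact hp
  have h2 : Nontrivial (q.asIdeal.ResidueField ⊗[R] M) :=
    (TensorProduct.AlgebraTensorModule.cancelBaseChange R
      (PrimeSpectrum.comap (algebraMap R S) q).asIdeal.ResidueField q.asIdeal.ResidueField
      q.asIdeal.ResidueField M).symm.toEquiv.nontrivial
  have h3 : Nontrivial (q.asIdeal.ResidueField ⊗[S] (S ⊗[R] M)) :=
    (TensorProduct.AlgebraTensorModule.cancelBaseChange R S q.asIdeal.ResidueField
      q.asIdeal.ResidueField M).toEquiv.nontrivial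
  exact not_subsingleton _ (inferInstance : Subsingleton (q.asIdeal.ResidueField ⊗[S] (S ⊗[R] M)))

end

section bij

variable (R : Type*) [CommRing R] (S : Type*) [CommRing S] [Algebra R S]
variable (hS : Function.Surjective (PrimeSpectrum.comap (algebraMap R S)))
variable {P : Type*} [AddCommGroup P] [Module R P] [Module.Finite R P]
variable {Q : Type*} [AddCommGroup Q] [Module R Q] [Module.Finite R Q] [Module.Projective R Q]

include hS in
theorem surjective_of_lTensor (f : P →ₗ[R] Q) (hf : Function.Surjective (f.lTensor S)) :
    Function.Surjective f := by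
  have hex : Function.Exact f (LinearMap.range f).mkQ := LinearMap.exact_map_mkQ_range f
  have hsurj : Function.Surjective (LinearMap.range f).mkQ := Submodule.mkQ_surjective _
  have hex' := lTensor_exact S hex hsurj
  haveI : Subsingleton (S ⊗[R] (Q ⧸ LinearMap.range f)) := by
    refine ⟨fun x y => ?_⟩
    have hz : ∀ z : S ⊗[R] (Q ⧸ LinearMap.range f), z = 0 := by
      intro z
      obtain ⟨w, rfl⟩ := LinearMap.lTensor_surjective S hsurj z
      obtain ⟨v, rfl⟩ := hf w
      exact (hex' _).2 ⟨v, rfl⟩
    rw [hz x, hz y]
  haveI := subsingleton_of_baseChange R S hS (Q ⧸ LinearMap.range f)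
  rw [← LinearMap.range_eq_top, ← Submodule.Quotient.subsingleton_iff]
  infer_instance

include hS in
theorem bijective_of_lTensor (f : P →ₗ[R] Q) (hf : Function.Bijective (f.lTensor S)) :
    Function.Bijective f := by
  have hsurj := surjective_of_lTensor R S hS f hf.2
  refine ⟨?_, hsurj⟩
  obtain ⟨s, hs⟩ := Module.projective_lifting_property f LinearMap.id hsurj
  -- projection onto the kernel
  obtain ⟨e, he⟩ : ∃ e : P →ₗ[R] LinearMap.ker f, ∀ x, (e x : P) = x - s (f x) :=
    ⟨LinearMap.codRestrict (LinearMap.ker f) (LinearMap.id - s ∘ₗ f) (fun x => by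
      rw [LinearMap.mem_ker, LinearMap.sub_apply, map_sub, LinearMap.id_apply, LinearMap.comp_apply]
      have := congrArg (fun h => h (f x)) hs
      simp only [LinearMap.comp_apply, LinearMap.id_apply] at this
      rw [this, sub_self]), fun x => rfl⟩
  have heι : e ∘ₗ (LinearMap.ker f).subtype = LinearMap.id := by
    refine LinearMap.ext fun k => Subtype.ext ?_
    rw [LinearMap.comp_apply, he, Submodule.subtype_apply, LinearMap.id_apply]
    have : f (k : P) = 0 := k.2
    rw [this, map_zero, sub_zero]
  have hesurj : Function.Surjective e := fun k => ⟨k, congrArg (fun h => h k) heι⟩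
  haveI : Module.Finite R (LinearMap.ker f) := Module.Finite.of_surjective e hesurj
  haveI : Subsingleton (S ⊗[R] (LinearMap.ker f)) := by
    have hinj : Function.Injective ((LinearMap.ker f).subtype.lTensor S) := by
      apply Function.LeftInverse.injective (g := e.lTensor S)
      intro x
      rw [← LinearMap.comp_apply, ← LinearMap.lTensor_comp, heι, LinearMap.lTensor_id,
        LinearMap.id_apply]
    have hzero : ∀ x, (LinearMap.ker f).subtype.lTensor S x = 0 := by
      intro x
      apply hf.1
      rw [← LinearMap.comp_apply, ← LinearMap.lTensor_comp, map_zero]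
      have : f ∘ₗ (LinearMap.ker f).subtype = 0 := LinearMap.ext fun k => k.2
      rw [this, LinearMap.lTensor_zero, LinearMap.zero_apply]
    refine ⟨fun x y => hinj ?_⟩
    rw [hzero x, hzero y]
  haveI := subsingleton_of_baseChange R S hS (LinearMap.ker f)
  rw [← LinearMap.ker_eq_bot]
  exact Submodule.eq_bot_of_subsingleton

end bij

end Groth.Agent.Lib.SpecSurjDescent
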