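import Mathlib
import Groth.Agent.Lib.AzumayaBaseChange_helper6
import Groth.Agent.Lib.SpecSurjDescent_helper6

/-!
# Descent of the Azumaya property for finite projective algebras (helper6)
-/

namespace Groth.Agent.Lib.AzumayaDescent

open scoped TensorProduct
open MulOpposite
open Groth.Agent.Lib.AzumayaEnd Groth.Agent.Lib.AzumayaBaseChange Groth.Agent.Lib.SpecSurjDescent

universe u v w

section endo

variable (R : Type*) [CommRing R]
variable (P : Type*) [AddCommGroup P] [Module R P] [Module.Finite R P] [Module.Projective R P]

theorem finite_end : Module.Finite R (Module.End R P) := by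
  obtain ⟨n, u, d, hdu⟩ := exists_retract R P
  exact Module.Finite.of_surjective d (fun φ => ⟨u φ, congrArg (fun h => h φ) hdu⟩)

theorem projective_end : Module.Projective R (Module.End R P) := by
  obtain ⟨n, u, d, hdu⟩ := exists_retract R P
  exact Module.Projective.of_split u d hdu

end endo

section trace

variable (R : Type*) [CommRing R] (S : Type*) [CommRing S] [Algebra R S]
variable (B : Type*) [AddCommGroup B] [Module R B] [Module.Finite R B] [Module.Projective R B]

/-- the trace ideal. -/
def traceIdeal : Ideal R := Ideal.span {x | ∃ (f : Module.Dual R B) (b : B), x = f b}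

theorem mem_traceIdeal (f : Module.Dual R B) (b : B) : f b ∈ traceIdeal R B :=
  Ideal.subset_span ⟨f, b, rfl⟩

/-- functionals on the base change take values in the extended trace ideal. -/
theorem dual_baseChange_mem (F : Module.Dual S (S ⊗[R] B)) (x : S ⊗[R] B) :
    F x ∈ (traceIdeal R B).map (algebraMap R S) := by
  obtain ⟨t, ht⟩ := (homBC_bijective R S B R).2
    ((TensorProduct.AlgebraTensorModule.rid R S S).symm.toLinearMap ∘ₗ F)
  have hF : F x = TensorProduct.AlgebraTensorModule.rid R S S (homBC R S B R t x) := by
    rw [ht, LinearMap.comp_apply, LinearEquiv.coe_toLinearMap, LinearEquiv.apply_symm_apply]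
  rw [hF]
  clear hF ht
  induction t using TensorProduct.induction_on with
  | zero => simp
  | tmul s φ =>
    rw [homBC_tmul]
    induction x using TensorProduct.induction_on with
    | zero => simp
    | tmul s' b =>
      rw [LinearMap.smul_apply, LinearMap.baseChange_tmul, map_smul,
        TensorProduct.AlgebraTensorModule.rid_tmul, smul_eq_mul, Algebra.smul_def]
      refine Ideal.mul_mem_left _ _ (Ideal.mul_mem_right _ _ ?_)
      exact Ideal.mem_map_of_mem _ (mem_traceIdeal R B φ b)
    | add x y hx hy =>
      rw [map_add, map_add]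
      exact Ideal.add_mem _ hx hy
  | add t t' ht ht' =>
    rw [map_add, LinearMap.add_apply, map_add]
    exact Ideal.add_mem _ ht ht'

end trace

section main

variable (R : Type u) [CommRing R] (S : Type v) [CommRing S] [Algebra R S]
variable (hS : Function.Surjective (PrimeSpectrum.comap (algebraMap R S)))
variable (B : Type w) [Ring B] [Algebra R B] [Module.Finite R B] [Module.Projective R B]
  [IsAzumaya S (S ⊗[R] B)]

include hS in
theorem traceIdeal_eq_top : traceIdeal R B = ⊤ := by
  have h1 : (traceIdeal R B).map (algebraMap R S) = ⊤ :=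
    trace_ideal_eq_top S (S ⊗[R] B) _ (dual_baseChange_mem R S B)
  haveI : Subsingleton (S ⊗[R] (R ⧸ traceIdeal R B)) := by
    have hz : ∀ z ∈ (traceIdeal R B).map (algebraMap R S),
        ∀ y : S ⊗[R] (R ⧸ traceIdeal R B), z • y = 0 := by
      intro z hz
      unfold Ideal.map at hz
      induction hz using Submodule.span_induction with
      | mem z hz =>
        obtain ⟨t, ht, rfl⟩ := hz
        intro y
        induction y using TensorProduct.induction_on with
        | zero => simp
        | tmul s m =>
          obtain ⟨r, rfl⟩ := Ideal.Quotient.mk_surjective m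
          have h2 : algebraMap R S t * s = t • s := (Algebra.smul_def t s).symm
          have h3 : t • (Ideal.Quotient.mk (traceIdeal R B) r) = 0 := by
            rw [← Ideal.Quotient.mk_eq_mk, ← Submodule.Quotient.mk_smul, smul_eq_mul,
              Ideal.Quotient.mk_eq_mk]
            exact Ideal.Quotient.eq_zero_iff_mem.2 (Ideal.mul_mem_right _ _ ht)
          rw [TensorProduct.smul_tmul', smul_eq_mul, h2, TensorProduct.smul_tmul, h3,
            TensorProduct.tmul_zero]
        | add x y hx hy => rw [smul_add, hx, hy, add_zero]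
      | zero => intro y; rw [zero_smul]
      | add a b _ _ ha hb => intro y; rw [add_smul, ha, hb, add_zero]
      | smul a b _ hb => intro y; rw [smul_eq_mul, mul_smul, hb, smul_zero]
    refine ⟨fun x y => ?_⟩
    have h1' : (1 : S) ∈ (traceIdeal R B).map (algebraMap R S) := by rw [h1]; exact Submodule.mem_top
    have hx := hz 1 h1' x
    have hy := hz 1 h1' y
    rw [one_smul] at hx hy
    rw [hx, hy]
  haveI := subsingleton_of_baseChange R S hS (R ⧸ traceIdeal R B)
  exact Submodule.Quotient.subsingleton_iff.1 inferInstance

include hS in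
theorem faithful : FaithfulSMul R B := by
  refine ⟨fun {r r'} h => ?_⟩
  obtain ⟨c, hc⟩ : ∃ c, c = r - r' := ⟨_, rfl⟩
  have hcb : ∀ b : B, c • b = 0 := by
    intro b
    rw [hc, sub_smul, h b, sub_self]
  have hle : traceIdeal R B ≤ LinearMap.ker (LinearMap.toSpanSingleton R R c) := by
    unfold traceIdeal
    rw [Ideal.span_le]
    rintro x ⟨f, b, rfl⟩
    show f b ∈ LinearMap.ker (LinearMap.toSpanSingleton R R c)
    rw [LinearMap.mem_ker, LinearMap.toSpanSingleton_apply, smul_eq_mul, mul_comm, ← smul_eq_mul,
      ← map_smul, hcb, map_zero]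
  rw [traceIdeal_eq_top R S hS B] at hle
  have h1 : (1 : R) ∈ LinearMap.ker (LinearMap.toSpanSingleton R R c) := hle Submodule.mem_top
  rw [LinearMap.mem_ker, LinearMap.toSpanSingleton_apply, one_smul] at h1
  rw [h1] at hc
  exact (sub_eq_zero.1 hc.symm)

include hS in
theorem mulLeftRight_bijective : Function.Bijective (AlgHom.mulLeftRight R B) := by
  haveI := finite_end R B
  haveI := projective_end R B
  haveI : Module.Finite R Bᵐᵒᵖ := Module.Finite.equiv (opLinearEquiv R : B ≃ₗ[R] Bᵐᵒᵖ)
  have hbc : Function.Bijective ((AlgHom.mulLeftRight R B).toLinearMap.baseChange S) := by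
    have h1 := IsAzumaya.bij (R := S) (A := S ⊗[R] B)
    have h2 := homBC_bijective R S B B
    obtain ⟨e, he⟩ : ∃ e : S ⊗[R] (B →ₗ[R] B) ≃ₗ[S] (S ⊗[R] B →ₗ[S] S ⊗[R] B),
        ∀ x, e x = homBC R S B B x := ⟨LinearEquiv.ofBijective _ h2, fun x => rfl⟩
    have h3 : ⇑((AlgHom.mulLeftRight R B).toLinearMap.baseChange S) =
        ⇑e.symm ∘ (⇑(AlgHom.mulLeftRight S (S ⊗[R] B)) ∘ ⇑(theta R S B)) := by
      funext t
      simp only [Function.comp_apply]
      rw [key R S B t, ← he, LinearEquiv.symm_apply_apply]
    rw [h3]
    exact e.symm.bijective.comp (h1.comp (theta R S B).bijective)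
  have hlt : Function.Bijective ((AlgHom.mulLeftRight R B).toLinearMap.lTensor S) := by
    rw [← LinearMap.baseChange_eq_ltensor]
    exact hbc
  exact bijective_of_lTensor R S hS (AlgHom.mulLeftRight R B).toLinearMap hlt

include hS in
theorem isAzumaya_of_baseChange : IsAzumaya R B := by
  haveI := faithful R S hS B
  exact { bij := mulLeftRight_bijective R S hS B }

end main

end Groth.Agent.Lib.AzumayaDescent
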