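import Mathlib

/-!
# Tensor products with central simple algebras (helper6)

`V ⊗[k] A` with `A` central simple over the field `k`: sub-bimodules (for the two-sided action of
`A` on the right factor) are generated by their elements of the form `v ⊗ 1`.  Consequences:
`B ⊗ A` is simple for `B` simple.
-/

namespace Groth.Agent.Lib.CSATensor

open TensorProduct
open scoped Classical

section coords

variable {k : Type*} [Field k] (V : Type*) [AddCommGroup V] [Module k V]
  {A : Type*} [Ring A] [Algebra k A]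

/-- left multiplication by `a` on the right tensor factor -/
noncomputable def lm (a : A) : V ⊗[k] A →ₗ[k] V ⊗[k] A :=
  LinearMap.lTensor V (LinearMap.mulLeft k a)

/-- right multiplication by `a` on the right tensor factor -/
noncomputable def rm (a : A) : V ⊗[k] A →ₗ[k] V ⊗[k] A :=
  LinearMap.lTensor V (LinearMap.mulRight k a)

variable {V}

@[simp] theorem lm_tmul (a : A) (v : V) (b : A) : lm V a (v ⊗ₜ[k] b) = v ⊗ₜ[k] (a * b) := by
  simp [lm]

@[simp] theorem rm_tmul (a : A) (v : V) (b : A) : rm V a (v ⊗ₜ[k] b) = v ⊗ₜ[k] (b * a) := by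
  simp [rm]

variable {ι : Type*} (ℬ : Module.Basis ι k V)

/-- coordinates of `V ⊗ A` with respect to a `k`-basis of `V` -/
noncomputable def co : V ⊗[k] A ≃ₗ[k] ι →₀ A := TensorProduct.equivFinsuppOfBasisLeft ℬ

theorem co_tmul (v : V) (a : A) (j : ι) : co ℬ (v ⊗ₜ[k] a) j = ℬ.repr v j • a :=
  TensorProduct.equivFinsuppOfBasisLeft_apply_tmul_apply ℬ v a j

theorem co_lm (a : A) (x : V ⊗[k] A) (j : ι) : co ℬ (lm V a x) j = a * co ℬ x j := by
  induction x using TensorProduct.induction_on with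
  | zero => simp
  | tmul v b => rw [lm_tmul, co_tmul, co_tmul, mul_smul_comm]
  | add x y hx hy => simp only [map_add, Finsupp.add_apply, hx, hy, mul_add]

theorem co_rm (a : A) (x : V ⊗[k] A) (j : ι) : co ℬ (rm V a x) j = co ℬ x j * a := by
  induction x using TensorProduct.induction_on with
  | zero => simp
  | tmul v b => rw [rm_tmul, co_tmul, co_tmul, smul_mul_assoc]
  | add x y hx hy => simp only [map_add, Finsupp.add_apply, hx, hy, add_mul]

theorem eq_sum_co (x : V ⊗[k] A) :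
    x = ∑ j ∈ (co ℬ x).support, ℬ j ⊗ₜ[k] (co ℬ x j) := by
  have h := (co ℬ).symm_apply_apply x
  rw [co, TensorProduct.equivFinsuppOfBasisLeft_symm_apply] at h
  exact h.symm

include ℬ in
/-- an element on which left and right multiplications agree is of the form `v ⊗ 1`. -/
theorem exists_eq_tmul_one [Algebra.IsCentral k A] (x : V ⊗[k] A)
    (h : ∀ a : A, lm V a x = rm V a x) : ∃ v : V, x = v ⊗ₜ[k] (1 : A) := by
  have hc : ∀ j : ι, ∃ c : k, algebraMap k A c = co ℬ x j := by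
    intro j
    have hmem : co ℬ x j ∈ Subalgebra.center k A := by
      rw [Subalgebra.mem_center_iff]
      intro a
      rw [← co_lm, ← co_rm, h a]
    exact Algebra.mem_bot.1 (Algebra.IsCentral.out hmem)
  choose c hc using hc
  refine ⟨∑ j ∈ (co ℬ x).support, c j • ℬ j, ?_⟩
  conv_lhs => rw [eq_sum_co ℬ x]
  rw [TensorProduct.sum_tmul]
  apply Finset.sum_congr rfl
  intro j _
  rw [← hc j, Algebra.algebraMap_eq_smul_one, TensorProduct.tmul_smul, TensorProduct.smul_tmul']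

/-- **Key lemma**: a nonzero sub-bimodule of `V ⊗ A` (`A` central simple) contains a nonzero
element of the form `v ⊗ 1`. -/
theorem exists_tmul_one_mem [Algebra.IsCentral k A] [IsSimpleRing A]
    (N : Submodule k (V ⊗[k] A))
    (hl : ∀ (a : A) (x : V ⊗[k] A), x ∈ N → lm V a x ∈ N)
    (hr : ∀ (a : A) (x : V ⊗[k] A), x ∈ N → rm V a x ∈ N) (hN : N ≠ ⊥) :
    ∃ v : V, v ≠ 0 ∧ v ⊗ₜ[k] (1 : A) ∈ N := by
  obtain ⟨ℬ, -⟩ : ∃ ℬ : Module.Basis (Module.Basis.ofVectorSpaceIndex k V) k V,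
      ℬ = Module.Basis.ofVectorSpace k V := ⟨_, rfl⟩
  have hex : ∃ x ∈ N, x ≠ 0 := by
    by_contra hcon
    apply hN
    rw [eq_bot_iff]
    intro x hx
    rw [Submodule.mem_bot]
    by_contra hx0
    exact hcon ⟨x, hx, hx0⟩
  have hP : ∃ n : ℕ, ∃ x ∈ N, x ≠ 0 ∧ (co ℬ x).support.card = n := by
    obtain ⟨x, hx, hx0⟩ := hex
    exact ⟨_, x, hx, hx0, rfl⟩
  obtain ⟨x, hxI, hx0, hxn⟩ := Nat.find_spec hP
  have hmin : ∀ z ∈ N, (co ℬ z).support.card < Nat.find hP → z = 0 := by
    intro z hz hlt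
    by_contra hz0
    exact Nat.find_min hP hlt ⟨z, hz, hz0, rfl⟩
  have hcox : co ℬ x ≠ 0 := fun h => hx0 ((co ℬ).map_eq_zero_iff.1 h)
  obtain ⟨j0, hj0⟩ := Finsupp.support_nonempty_iff.2 hcox
  let J0 : TwoSidedIdeal A := TwoSidedIdeal.mk'
    {a | ∃ y ∈ N, (co ℬ y).support ⊆ (co ℬ x).support ∧ co ℬ y j0 = a}
    ⟨0, N.zero_mem, by simp, by simp⟩
    (by
      rintro a b ⟨y1, hy1, hs1, rfl⟩ ⟨y2, hy2, hs2, rfl⟩
      refine ⟨y1 + y2, N.add_mem hy1 hy2, ?_, by rw [map_add, Finsupp.add_apply]⟩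
      rw [map_add]
      exact (Finsupp.support_add).trans (Finset.union_subset hs1 hs2))
    (by
      rintro a ⟨y, hy, hs, rfl⟩
      refine ⟨-y, N.neg_mem hy, ?_, by rw [map_neg, Finsupp.neg_apply]⟩
      rw [map_neg, Finsupp.support_neg]
      exact hs)
    (by
      rintro a b ⟨y, hy, hs, rfl⟩
      refine ⟨lm V a y, hl a y hy, ?_, co_lm ℬ a y j0⟩
      intro j hj
      apply hs
      rw [Finsupp.mem_support_iff] at hj ⊢
      intro h0
      apply hj
      rw [co_lm, h0, mul_zero])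
    (by
      rintro a b ⟨y, hy, hs, rfl⟩
      refine ⟨rm V b y, hr b y hy, ?_, co_rm ℬ b y j0⟩
      intro j hj
      apply hs
      rw [Finsupp.mem_support_iff] at hj ⊢
      intro h0
      apply hj
      rw [co_rm, h0, zero_mul])
  have hJ0 : J0 = ⊤ := by
    rcases eq_bot_or_eq_top J0 with h | h
    · exfalso
      have hmem : co ℬ x j0 ∈ J0 := by
        rw [TwoSidedIdeal.mem_mk']
        exact ⟨x, hxI, subset_rfl, rfl⟩
      rw [h, TwoSidedIdeal.mem_bot] at hmem
      exact (Finsupp.mem_support_iff.1 hj0) hmem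
    · exact h
  have h1J0 : (1 : A) ∈ J0 := by rw [hJ0]; exact TwoSidedIdeal.mem_top A
  rw [TwoSidedIdeal.mem_mk'] at h1J0
  obtain ⟨y, hyI, hys, hy1⟩ := h1J0
  have hcomm : ∀ a : A, lm V a y = rm V a y := by
    intro a
    rw [← sub_eq_zero]
    apply hmin _ (N.sub_mem (hl a y hyI) (hr a y hyI))
    rw [← hxn]
    apply Finset.card_lt_card
    rw [Finset.ssubset_iff_of_subset]
    · refine ⟨j0, hj0, ?_⟩
      rw [Finsupp.mem_support_iff, not_not, map_sub, Finsupp.sub_apply, co_lm,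
        co_rm, hy1, mul_one, one_mul, sub_self]
    · intro j hj
      apply hys
      rw [Finsupp.mem_support_iff] at hj ⊢
      intro h0
      apply hj
      rw [map_sub, Finsupp.sub_apply, co_lm, co_rm, h0, mul_zero, zero_mul, sub_self]
  obtain ⟨v, hv⟩ := exists_eq_tmul_one ℬ y hcomm
  refine ⟨v, ?_, hv ▸ hyI⟩
  rintro rfl
  rw [TensorProduct.zero_tmul] at hv
  rw [hv, map_zero, Finsupp.zero_apply] at hy1
  exact one_ne_zero hy1.symm

/-- the subspace of `v` with `v ⊗ 1 ∈ N`. -/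
noncomputable def core (N : Submodule k (V ⊗[k] A)) : Submodule k V :=
  N.comap ((TensorProduct.mk k V A).flip 1)

theorem mem_core (N : Submodule k (V ⊗[k] A)) (v : V) : v ∈ core N ↔ v ⊗ₜ[k] (1 : A) ∈ N := by
  simp [core]

theorem range_core_le (N : Submodule k (V ⊗[k] A))
    (hr : ∀ (a : A) (x : V ⊗[k] A), x ∈ N → rm V a x ∈ N) :
    LinearMap.range (LinearMap.rTensor A (core N).subtype) ≤ N := by
  rintro _ ⟨t, rfl⟩
  induction t using TensorProduct.induction_on with
  | zero => simp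
  | tmul w a =>
    rw [LinearMap.rTensor_tmul, Submodule.subtype_apply]
    have h := hr a _ ((mem_core N w.1).1 w.2)
    rwa [rm_tmul, one_mul] at h
  | add x y hx hy => rw [map_add]; exact N.add_mem hx hy

/-- a sub-bimodule of `V ⊗ A` (`A` central simple) is `W ⊗ A` for `W = {v | v ⊗ 1 ∈ N}`. -/
theorem le_range_core [Algebra.IsCentral k A] [IsSimpleRing A]
    (N : Submodule k (V ⊗[k] A))
    (hl : ∀ (a : A) (x : V ⊗[k] A), x ∈ N → lm V a x ∈ N)
    (hr : ∀ (a : A) (x : V ⊗[k] A), x ∈ N → rm V a x ∈ N) :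
    N ≤ LinearMap.range (LinearMap.rTensor A (core N).subtype) := by
  obtain ⟨Q, hQ⟩ : ∃ Q : V ⊗[k] A →ₗ[k] (V ⧸ core N) ⊗[k] A,
      Q = LinearMap.rTensor A (core N).mkQ := ⟨_, rfl⟩
  have hQt : ∀ (v : V) (a : A), Q (v ⊗ₜ[k] a) = (core N).mkQ v ⊗ₜ[k] a := by
    intro v a; rw [hQ, LinearMap.rTensor_tmul]
  have hQl : ∀ (a : A) (x : V ⊗[k] A), Q (lm V a x) = lm (V ⧸ core N) a (Q x) := by
    intro a x
    induction x using TensorProduct.induction_on with
    | zero => simp
    | tmul v b => rw [lm_tmul, hQt, hQt, lm_tmul]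
    | add x y hx hy => simp only [map_add, hx, hy]
  have hQr : ∀ (a : A) (x : V ⊗[k] A), Q (rm V a x) = rm (V ⧸ core N) a (Q x) := by
    intro a x
    induction x using TensorProduct.induction_on with
    | zero => simp
    | tmul v b => rw [rm_tmul, hQt, hQt, rm_tmul]
    | add x y hx hy => simp only [map_add, hx, hy]
  have hex : Function.Exact (LinearMap.rTensor A (core N).subtype) Q := by
    rw [hQ]
    exact rTensor_exact A (LinearMap.exact_subtype_mkQ (core N)) (Submodule.mkQ_surjective _)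
  have hbot : N.map Q = ⊥ := by
    by_contra hne
    obtain ⟨vb, hvb0, hvb⟩ := exists_tmul_one_mem (N.map Q)
      (by
        rintro a _ ⟨x, hx, rfl⟩
        exact ⟨lm V a x, hl a x hx, hQl a x⟩)
      (by
        rintro a _ ⟨x, hx, rfl⟩
        exact ⟨rm V a x, hr a x hx, hQr a x⟩) hne
    obtain ⟨v, rfl⟩ := Submodule.mkQ_surjective _ vb
    obtain ⟨n, hn, hnv⟩ := hvb
    have h1 : Q (n - v ⊗ₜ[k] (1 : A)) = 0 := by rw [map_sub, hnv, hQt, sub_self]
    obtain ⟨t, ht⟩ := (hex _).1 h1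
    have h2 : n - v ⊗ₜ[k] (1 : A) ∈ N := range_core_le N hr ⟨t, ht⟩
    have h3 : v ⊗ₜ[k] (1 : A) ∈ N := by
      have := N.sub_mem hn h2
      rwa [sub_sub_cancel] at this
    apply hvb0
    rw [Submodule.mkQ_apply, Submodule.Quotient.mk_eq_zero]
    exact (mem_core N v).2 h3
  intro x hx
  have h1 : Q x ∈ N.map Q := ⟨x, hx, rfl⟩
  rw [hbot, Submodule.mem_bot] at h1
  exact (hex x).1 h1

end coords

section algebra

variable {k : Type*} [Field k] {B : Type*} [Ring B] [Algebra k B]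
  {A : Type*} [Ring A] [Algebra k A]

theorem lm_eq_mul (a : A) (x : B ⊗[k] A) : lm B a x = (1 ⊗ₜ[k] a) * x := by
  induction x using TensorProduct.induction_on with
  | zero => simp
  | tmul b c => rw [lm_tmul, Algebra.TensorProduct.tmul_mul_tmul, one_mul]
  | add x y hx hy => rw [map_add, hx, hy, mul_add]

theorem rm_eq_mul (a : A) (x : B ⊗[k] A) : rm B a x = x * (1 ⊗ₜ[k] a) := by
  induction x using TensorProduct.induction_on with
  | zero => simp
  | tmul b c => rw [rm_tmul, Algebra.TensorProduct.tmul_mul_tmul, mul_one]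
  | add x y hx hy => rw [map_add, hx, hy, add_mul]

theorem one_tmul_one_ne_zero [Nontrivial B] [Nontrivial A] : (1 : B ⊗[k] A) ≠ 0 := by
  intro h0
  have h1 : (Module.Basis.ofVectorSpace k B).repr (1 : B) ≠ 0 := by
    intro h
    exact one_ne_zero ((Module.Basis.ofVectorSpace k B).repr.map_eq_zero_iff.1 h)
  obtain ⟨j, hj⟩ := Finsupp.ne_iff.1 h1
  have h2 : co (Module.Basis.ofVectorSpace k B) (1 : B ⊗[k] A) j = 0 := by
    rw [h0, map_zero, Finsupp.zero_apply]
  rw [Algebra.TensorProduct.one_def, co_tmul] at h2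
  rcases smul_eq_zero.1 h2 with h3 | h3
  · exact hj (by simpa using h3)
  · exact one_ne_zero h3

/-- the `k`-submodule underlying a two-sided ideal of `B ⊗ A`. -/
theorem exists_submodule_of_twoSidedIdeal (I : TwoSidedIdeal (B ⊗[k] A)) :
    ∃ N : Submodule k (B ⊗[k] A), (∀ x, x ∈ N ↔ x ∈ I) ∧
      (∀ (a : A) (x : B ⊗[k] A), x ∈ N → lm B a x ∈ N) ∧
      (∀ (a : A) (x : B ⊗[k] A), x ∈ N → rm B a x ∈ N) := by
  refine ⟨{ carrier := {x | x ∈ I}
            add_mem' := fun ha hb => I.add_mem ha hb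
            zero_mem' := I.zero_mem
            smul_mem' := fun c x hx => by
              show c • x ∈ I
              rw [Algebra.smul_def]
              exact I.mul_mem_left _ _ hx }, fun x => Iff.rfl, ?_, ?_⟩
  · intro a x hx
    show lm B a x ∈ I
    rw [lm_eq_mul]
    exact I.mul_mem_left _ _ hx
  · intro a x hx
    show rm B a x ∈ I
    rw [rm_eq_mul]
    exact I.mul_mem_right _ _ hx

/-- a nonzero two-sided ideal of `B ⊗ A` (`A` central simple) contains some `b ⊗ 1`, `b ≠ 0`. -/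
theorem exists_tmul_one_mem_ideal [Algebra.IsCentral k A] [IsSimpleRing A]
    (I : TwoSidedIdeal (B ⊗[k] A)) (hI : I ≠ ⊥) :
    ∃ b : B, b ≠ 0 ∧ b ⊗ₜ[k] (1 : A) ∈ I := by
  obtain ⟨N, hN, hl, hr⟩ := exists_submodule_of_twoSidedIdeal I
  have hNne : N ≠ ⊥ := by
    intro h
    apply hI
    rw [eq_bot_iff]
    intro x hx
    have h1 : x ∈ N := (hN x).2 hx
    rw [h, Submodule.mem_bot] at h1
    rw [TwoSidedIdeal.mem_bot]
    exact h1
  obtain ⟨b, hb0, hb⟩ := exists_tmul_one_mem N hl hr hNne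
  exact ⟨b, hb0, (hN _).1 hb⟩

/-- **simple ⊗ central simple is simple**. -/
theorem isSimpleRing_tensor [IsSimpleRing B] [Algebra.IsCentral k A] [IsSimpleRing A] :
    IsSimpleRing (B ⊗[k] A) := by
  haveI : Nontrivial (B ⊗[k] A) := ⟨⟨1, 0, one_tmul_one_ne_zero⟩⟩
  apply IsSimpleRing.of_eq_bot_or_eq_top
  intro I
  by_cases hI : I = ⊥
  · exact Or.inl hI
  right
  obtain ⟨b, hb0, hb⟩ := exists_tmul_one_mem_ideal I hI
  obtain ⟨J, hJ⟩ : ∃ J : TwoSidedIdeal B, J = TwoSidedIdeal.comap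
      (Algebra.TensorProduct.includeLeft : B →ₐ[k] B ⊗[k] A) I := ⟨_, rfl⟩
  have hmemJ : ∀ c : B, c ∈ J ↔ c ⊗ₜ[k] (1 : A) ∈ I := by
    intro c
    rw [hJ, TwoSidedIdeal.mem_comap]
    rfl
  have hJtop : J = ⊤ := by
    rcases eq_bot_or_eq_top J with h | h
    · exfalso
      have h1 : b ∈ J := (hmemJ b).2 hb
      rw [h, TwoSidedIdeal.mem_bot] at h1
      exact hb0 h1
    · exact h
  rw [← TwoSidedIdeal.one_mem_iff, Algebra.TensorProduct.one_def]
  refine (hmemJ 1).1 ?_
  rw [hJtop]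
  exact TwoSidedIdeal.mem_top B

end algebra

end Groth.Agent.Lib.CSATensor
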