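import Mathlib

/-!
# Modules over finite-dimensional simple algebras (helper6)

* `RepMod ρ`: a `k`-vector space `M` viewed as an `E`-module through `ρ : E →ₐ[k] End_k M`.
* over a finite-dimensional simple `k`-algebra `E`: `End_E M` is simple with
  `dim End_E M * dim E = (dim M)^2`, and two `E`-modules of the same `k`-dimension are isomorphic.
-/

namespace Groth.Agent.Lib.CSAModule

open scoped Classical
open Module

universe u

section rep

variable {k : Type*} [Field k] {E : Type*} [Ring E] [Algebra k E]
  {M : Type*} [AddCommGroup M] [Module k M]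

/-- `M` as an `E`-module through `ρ`. -/
def RepMod (_ρ : E →ₐ[k] Module.End k M) : Type _ := M

namespace RepMod

variable (ρ : E →ₐ[k] Module.End k M)

instance : AddCommGroup (RepMod ρ) := inferInstanceAs (AddCommGroup M)
instance : Module k (RepMod ρ) := inferInstanceAs (Module k M)
instance : Module E (RepMod ρ) := Module.compHom M (ρ : E →+* Module.End k M)

theorem smul_def (e : E) (x : RepMod ρ) : e • x = (show M from (ρ e) (show M from x)) := rfl

instance : IsScalarTower k E (RepMod ρ) := ⟨fun c e x => by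
  show ρ (c • e) (show M from x) = c • ρ e (show M from x)
  rw [map_smul]
  rfl⟩

instance [Module.Finite k M] : Module.Finite k (RepMod ρ) := inferInstanceAs (Module.Finite k M)

instance [Module.Finite k M] : Module.Finite E (RepMod ρ) :=
  Module.Finite.of_restrictScalars_finite k E _

instance [Nontrivial M] : Nontrivial (RepMod ρ) := inferInstanceAs (Nontrivial M)

theorem finrank_eq : Module.finrank k (RepMod ρ) = Module.finrank k M := rfl

end RepMod

end rep

section artinian

variable (E : Type u) [Ring E] [IsSimpleRing E] [IsArtinianRing E]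

theorem isIsotypicOfType (S₀ : Type*) [AddCommGroup S₀] [Module E S₀] [IsSimpleModule E S₀]
    (M : Type*) [AddCommGroup M] [Module E M] : IsIsotypicOfType E M S₀ := by
  intro m _
  obtain ⟨I, ⟨e⟩⟩ := IsSemisimpleRing.exists_linearEquiv_ideal_of_isSimpleModule (R := E) (M := m)
  obtain ⟨I', ⟨e'⟩⟩ :=
    IsSemisimpleRing.exists_linearEquiv_ideal_of_isSimpleModule (R := E) (M := S₀)
  haveI := IsSimpleModule.congr e.symm
  haveI := IsSimpleModule.congr e'.symm
  exact ⟨e.trans (((IsSimpleRing.isIsotypic E E) I' I).some.trans e'.symm)⟩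

theorem exists_linearEquiv_fun (S₀ : Type*) [AddCommGroup S₀] [Module E S₀] [IsSimpleModule E S₀]
    (M : Type*) [AddCommGroup M] [Module E M] [Module.Finite E M] :
    ∃ n : ℕ, Nonempty (M ≃ₗ[E] Fin n → S₀) :=
  (isIsotypicOfType E S₀ M).linearEquiv_fun

end artinian

section finrank

variable {k : Type*} [Field k] {E : Type u} [Ring E] [Algebra k E] [IsSimpleRing E]
  [FiniteDimensional k E]

theorem finrank_fun (S₀ : Type*) [AddCommGroup S₀] [Module k S₀] [Module.Finite k S₀] (n : ℕ) :
    Module.finrank k (Fin n → S₀) = n * Module.finrank k S₀ := by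
  rw [Module.finrank_pi_fintype k, Finset.sum_const, Finset.card_univ, Fintype.card_fin,
    smul_eq_mul]

/-- `End_E M` is simple and `dim End_E M * dim E = (dim M)^2`. -/
theorem end_isSimpleRing_and_finrank (M : Type*) [AddCommGroup M] [Module k M] [Module E M]
    [IsScalarTower k E M] [FiniteDimensional k M] [Nontrivial M] :
    IsSimpleRing (Module.End E M) ∧
      Module.finrank k (Module.End E M) * Module.finrank k E = Module.finrank k M ^ 2 := by
  haveI : IsArtinianRing E := IsArtinianRing.of_finite k E
  haveI : Module.Finite E M := Module.Finite.of_restrictScalars_finite k E M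
  obtain ⟨s, hs, S₀, hS₀, ⟨eE⟩⟩ := (IsSimpleRing.isIsotypic E E).linearEquiv_fun
  haveI := hS₀
  obtain ⟨r, ⟨eM⟩⟩ := exists_linearEquiv_fun E S₀ M
  have hr : r ≠ 0 := by
    rintro rfl
    exact not_subsingleton M (eM.toEquiv.subsingleton)
  have hs0 : s ≠ 0 := hs.out
  haveI : Nonempty (Fin r) := ⟨⟨0, Nat.pos_of_ne_zero hr⟩⟩
  haveI : Module.Finite k S₀ :=
    Module.Finite.of_injective (S₀.subtype.restrictScalars k) Subtype.val_injective
  obtain ⟨δ, hδ⟩ : ∃ δ : ℕ, δ = Module.finrank k (Module.End E S₀) := ⟨_, rfl⟩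
  obtain ⟨σ, hσ⟩ : ∃ σ : ℕ, σ = Module.finrank k S₀ := ⟨_, rfl⟩
  have h1 : Module.finrank k (Module.End E M) = r * r * δ := by
    rw [((eM.conjAlgEquiv k).trans
      (endVecAlgEquivMatrixEnd (Fin r) k E S₀)).toLinearEquiv.finrank_eq, Module.finrank_matrix,
      Fintype.card_fin, hδ]
  have h2 : Module.finrank k M = r * σ := by
    rw [(eM.restrictScalars k).finrank_eq, finrank_fun, hσ]
  have h3 : Module.finrank k E = s * σ := by
    rw [(eE.restrictScalars k).finrank_eq, finrank_fun, hσ]
  have h4 : Module.finrank k E = s * s * δ := by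
    rw [(MulOpposite.opLinearEquiv k : E ≃ₗ[k] Eᵐᵒᵖ).finrank_eq,
      ((AlgEquiv.moduleEndSelf k (A := E)).trans ((eE.conjAlgEquiv k).trans
      (endVecAlgEquivMatrixEnd (Fin s) k E S₀))).toLinearEquiv.finrank_eq, Module.finrank_matrix,
      Fintype.card_fin, hδ]
  have h5 : σ = s * δ := by
    have h6 : s * σ = s * (s * δ) := by rw [← h3, h4, mul_assoc]
    exact Nat.eq_of_mul_eq_mul_left (Nat.pos_of_ne_zero hs0) h6
  refine ⟨?_, ?_⟩
  · exact IsSimpleRing.of_ringEquiv ((eM.conjRingEquiv).trans
      (endVecRingEquivMatrixEnd (Fin r) E S₀)).symm inferInstance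
  · rw [h1, h3, h2, h5]
    ring

/-- two `E`-modules with the same `k`-dimension are isomorphic. -/
theorem nonempty_linearEquiv_of_finrank_eq (M M' : Type*) [AddCommGroup M] [Module k M]
    [Module E M] [IsScalarTower k E M] [FiniteDimensional k M]
    [AddCommGroup M'] [Module k M'] [Module E M'] [IsScalarTower k E M'] [FiniteDimensional k M']
    (h : Module.finrank k M = Module.finrank k M') : Nonempty (M ≃ₗ[E] M') := by
  haveI : IsArtinianRing E := IsArtinianRing.of_finite k E
  haveI : Module.Finite E M := Module.Finite.of_restrictScalars_finite k E M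
  haveI : Module.Finite E M' := Module.Finite.of_restrictScalars_finite k E M'
  obtain ⟨s, hs, S₀, hS₀, ⟨eE⟩⟩ := (IsSimpleRing.isIsotypic E E).linearEquiv_fun
  haveI := hS₀
  obtain ⟨r, ⟨eM⟩⟩ := exists_linearEquiv_fun E S₀ M
  obtain ⟨r', ⟨eM'⟩⟩ := exists_linearEquiv_fun E S₀ M'
  haveI : Module.Finite k S₀ :=
    Module.Finite.of_injective (S₀.subtype.restrictScalars k) Subtype.val_injective
  haveI : Nontrivial S₀ := IsSimpleModule.nontrivial E S₀
  have hpos : 0 < Module.finrank k S₀ := Module.finrank_pos
  have h2 : Module.finrank k M = r * Module.finrank k S₀ := by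
    rw [(eM.restrictScalars k).finrank_eq, finrank_fun]
  have h2' : Module.finrank k M' = r' * Module.finrank k S₀ := by
    rw [(eM'.restrictScalars k).finrank_eq, finrank_fun]
  have hrr : r = r' := by
    rw [h2, h2'] at h
    exact Nat.eq_of_mul_eq_mul_right hpos h
  subst hrr
  exact ⟨eM.trans eM'.symm⟩

end finrank

end Groth.Agent.Lib.CSAModule
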