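import Mathlib
import Groth.Agent.Lib.CSATensor_helper6
import Groth.Agent.Lib.CSAModule_helper6

/-!
# Centralizers in central simple algebras and Skolem–Noether (helper6)
-/

namespace Groth.Agent.Lib.CSACentralizer

open TensorProduct MulOpposite
open scoped Classical
open Groth.Agent.Lib.CSATensor Groth.Agent.Lib.CSAModule

section

variable {k : Type*} [Field k] {A : Type*} [Ring A] [Algebra k A]
  {B : Type*} [Ring B] [Algebra k B]

/-- right multiplication by `f b`, as an algebra map from `Bᵐᵒᵖ` -/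
noncomputable def rmulOp (f : B →ₐ[k] A) : Bᵐᵒᵖ →ₐ[k] Module.End k A where
  toFun b := LinearMap.mulRight k (f b.unop)
  map_one' := by ext x; simp
  map_mul' x y := by ext z; simp [mul_assoc]
  map_zero' := by ext x; simp
  map_add' x y := by ext z; simp [mul_add]
  commutes' c := by
    ext x
    simp only [MulOpposite.algebraMap_apply, unop_op, AlgHom.commutes, LinearMap.mulRight_apply,
      Module.algebraMap_end_apply]
    rw [Algebra.smul_def, Algebra.commutes]

theorem rmulOp_apply (f : B →ₐ[k] A) (b : Bᵐᵒᵖ) (x : A) : rmulOp f b x = x * f b.unop := rfl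

/-- the representation of `Bᵐᵒᵖ ⊗ A` on `A`: `(op b ⊗ a) x = a * x * f b` -/
noncomputable def rho (f : B →ₐ[k] A) : Bᵐᵒᵖ ⊗[k] A →ₐ[k] Module.End k A :=
  Algebra.TensorProduct.lift (rmulOp f) (Algebra.lmul k A) (fun b a => by
    show rmulOp f b * Algebra.lmul k A a = Algebra.lmul k A a * rmulOp f b
    ext x
    simp [rmulOp_apply, mul_assoc])

theorem rho_tmul (f : B →ₐ[k] A) (b : Bᵐᵒᵖ) (a x : A) :
    rho f (b ⊗ₜ[k] a) x = a * x * f b.unop := by
  simp [rho, rmulOp_apply]

theorem smul_eq (f : B →ₐ[k] A) (e : Bᵐᵒᵖ ⊗[k] A) (x : RepMod (rho f)) :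
    e • x = (show A from rho f e (show A from x)) := rfl

theorem end_map (f : B →ₐ[k] A) (φ : Module.End (Bᵐᵒᵖ ⊗[k] A) (RepMod (rho f)))
    (e : Bᵐᵒᵖ ⊗[k] A) (x : A) :
    (show A from φ (show A from rho f e x)) = rho f e (show A from φ x) :=
  φ.map_smul e x

theorem end_apply_eq (f : B →ₐ[k] A) (φ : Module.End (Bᵐᵒᵖ ⊗[k] A) (RepMod (rho f))) (x : A) :
    (show A from φ x) = x * (show A from φ (1 : A)) := by
  have h := end_map f φ (op 1 ⊗ₜ[k] x) 1
  rw [rho_tmul, rho_tmul] at h
  simpa using h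

theorem end_one_comm (f : B →ₐ[k] A) (φ : Module.End (Bᵐᵒᵖ ⊗[k] A) (RepMod (rho f))) (b : B) :
    f b * (show A from φ (1 : A)) = (show A from φ (1 : A)) * f b := by
  have h := end_map f φ (op b ⊗ₜ[k] 1) 1
  rw [rho_tmul, rho_tmul] at h
  rw [← end_apply_eq f φ (f b)]
  simpa using h

/-- right multiplication by an element commuting with the image of `f` is `Bᵐᵒᵖ ⊗ A`-linear. -/
noncomputable def endOfComm (f : B →ₐ[k] A) (c : A) (hc : ∀ b, f b * c = c * f b) :
    Module.End (Bᵐᵒᵖ ⊗[k] A) (RepMod (rho f)) where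
  toFun x := (show A from x) * c
  map_add' x y := add_mul (show A from x) (show A from y) c
  map_smul' e x := by
    show (show A from rho f e (show A from x)) * c = rho f e ((show A from x) * c)
    induction e using TensorProduct.induction_on with
    | zero => simp
    | tmul b a =>
      rw [rho_tmul, rho_tmul, mul_assoc, hc, mul_assoc, mul_assoc, mul_assoc]
    | add e₁ e₂ h₁ h₂ =>
      rw [map_add, LinearMap.add_apply, LinearMap.add_apply, add_mul, h₁, h₂]

theorem endOfComm_apply (f : B →ₐ[k] A) (c : A) (hc : ∀ b, f b * c = c * f b) (x : A) :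
    (show A from endOfComm f c hc x) = x * c := rfl

/-- `C'ᵐᵒᵖ → End_{Bᵐᵒᵖ ⊗ A}(A)` for a subalgebra `C'` commuting with the image of `f`. -/
noncomputable def endHom (f : B →ₐ[k] A) (C' : Subalgebra k A)
    (hC : ∀ c ∈ C', ∀ b, f b * c = c * f b) :
    (↥C')ᵐᵒᵖ →ₐ[k] Module.End (Bᵐᵒᵖ ⊗[k] A) (RepMod (rho f)) where
  toFun c := endOfComm f (c.unop : A) (hC _ c.unop.2)
  map_one' := by
    apply LinearMap.ext
    intro x
    show (show A from x) * ((1 : ↥C') : A) = x
    rw [OneMemClass.coe_one, mul_one]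
  map_mul' c d := by
    apply LinearMap.ext
    intro x
    show (show A from x) * ((d.unop * c.unop : ↥C') : A) =
      ((show A from x) * (d.unop : A)) * (c.unop : A)
    rw [MulMemClass.coe_mul, mul_assoc]
  map_zero' := by
    apply LinearMap.ext
    intro x
    show (show A from x) * ((0 : ↥C') : A) = 0
    rw [ZeroMemClass.coe_zero, mul_zero]
  map_add' c d := by
    apply LinearMap.ext
    intro x
    show (show A from x) * ((c.unop + d.unop : ↥C') : A) =
      (show A from x) * (c.unop : A) + (show A from x) * (d.unop : A)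
    rw [AddMemClass.coe_add, mul_add]
  commutes' r := by
    apply LinearMap.ext
    intro x
    show (show A from x) * ((algebraMap k (↥C') r : ↥C') : A) = r • (show A from x)
    rw [Subalgebra.coe_algebraMap, Algebra.smul_def, Algebra.commutes]

theorem endHom_apply (f : B →ₐ[k] A) (C' : Subalgebra k A)
    (hC : ∀ c ∈ C', ∀ b, f b * c = c * f b) (c : (↥C')ᵐᵒᵖ) (x : A) :
    (show A from endHom f C' hC c x) = x * (c.unop : A) := rfl

theorem endHom_bijective (f : B →ₐ[k] A) (C' : Subalgebra k A)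
    (hC : ∀ c, c ∈ C' ↔ ∀ b, f b * c = c * f b) :
    Function.Bijective (endHom f C' (fun c hc => (hC c).1 hc)) := by
  constructor
  · intro c d hcd
    have h := congrArg (fun φ => (show A from φ (1 : A))) hcd
    simp only [endHom_apply, one_mul] at h
    exact MulOpposite.unop_injective (Subtype.ext h)
  · intro φ
    refine ⟨op ⟨(show A from φ (1 : A)), (hC _).2 (end_one_comm f φ)⟩, ?_⟩
    apply LinearMap.ext
    intro x
    show (show A from x) * (show A from φ (1 : A)) = φ x
    exact (end_apply_eq f φ x).symm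

variable [Algebra.IsCentral k A] [IsSimpleRing A] [FiniteDimensional k A] [IsSimpleRing B]

theorem finiteDimensional_of_algHom (f : B →ₐ[k] A) : FiniteDimensional k B :=
  FiniteDimensional.of_injective f.toLinearMap (RingHom.injective (f : B →+* A))

/-- **Centralizer theorem**: for `B` simple mapping to a central simple algebra `A`, the
commutant `C'` of the image is simple and `dim A = dim B * dim C'`. -/
theorem centralizer_main (f : B →ₐ[k] A) (C' : Subalgebra k A)
    (hC : ∀ c, c ∈ C' ↔ ∀ b, f b * c = c * f b) :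
    IsSimpleRing ↥C' ∧ Module.finrank k A = Module.finrank k B * Module.finrank k ↥C' := by
  haveI : FiniteDimensional k B := finiteDimensional_of_algHom f
  haveI : IsSimpleRing (Bᵐᵒᵖ ⊗[k] A) := isSimpleRing_tensor
  haveI : FiniteDimensional k Bᵐᵒᵖ := Module.Finite.equiv (MulOpposite.opLinearEquiv k)
  obtain ⟨hsimple, hfin⟩ :=
    end_isSimpleRing_and_finrank (k := k) (E := Bᵐᵒᵖ ⊗[k] A) (RepMod (rho f))
  obtain ⟨eΦ, -⟩ : ∃ eΦ : (↥C')ᵐᵒᵖ ≃ₐ[k] Module.End (Bᵐᵒᵖ ⊗[k] A) (RepMod (rho f)), True :=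
    ⟨AlgEquiv.ofBijective _ (endHom_bijective f C' hC), trivial⟩
  constructor
  · haveI : IsSimpleRing (↥C')ᵐᵒᵖ := IsSimpleRing.of_ringEquiv eΦ.symm.toRingEquiv hsimple
    exact IsSimpleRing.of_ringEquiv (RingEquiv.opOp ↥C').symm inferInstance
  · have h1 : Module.finrank k (Module.End (Bᵐᵒᵖ ⊗[k] A) (RepMod (rho f))) =
        Module.finrank k ↥C' := by
      rw [← eΦ.toLinearEquiv.finrank_eq,
        ← (MulOpposite.opLinearEquiv k : ↥C' ≃ₗ[k] (↥C')ᵐᵒᵖ).finrank_eq]
    have h2 : Module.finrank k (Bᵐᵒᵖ ⊗[k] A) = Module.finrank k B * Module.finrank k A := by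
      rw [Module.finrank_tensorProduct,
        ← (MulOpposite.opLinearEquiv k : B ≃ₗ[k] Bᵐᵒᵖ).finrank_eq]
    rw [h1, h2, RepMod.finrank_eq] at hfin
    have hA : 0 < Module.finrank k A := Module.finrank_pos
    have h3 : Module.finrank k A * (Module.finrank k B * Module.finrank k ↥C') =
        Module.finrank k A * Module.finrank k A := by
      rw [← pow_two, ← hfin]
      ring
    exact (Nat.eq_of_mul_eq_mul_left hA h3).symm

/-- **Skolem–Noether**. -/
theorem skolem_noether (f g : B →ₐ[k] A) :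
    ∃ x : Aˣ, ∀ b : B, f b = (x : A) * g b * (x⁻¹ : Aˣ) := by
  haveI : FiniteDimensional k B := finiteDimensional_of_algHom f
  haveI : IsSimpleRing (Bᵐᵒᵖ ⊗[k] A) := isSimpleRing_tensor
  haveI : FiniteDimensional k Bᵐᵒᵖ := Module.Finite.equiv (MulOpposite.opLinearEquiv k)
  have hne := nonempty_linearEquiv_of_finrank_eq (k := k) (E := Bᵐᵒᵖ ⊗[k] A)
    (RepMod (rho f)) (RepMod (rho g)) rfl
  obtain ⟨φ⟩ := hne
  obtain ⟨F, hF⟩ : ∃ F : A → A, ∀ x : A, F x = (show A from φ x) := ⟨fun x => φ x, fun _ => rfl⟩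
  obtain ⟨G, hG⟩ : ∃ G : A → A, ∀ x : A, G x = (show A from φ.symm x) :=
    ⟨fun x => φ.symm x, fun _ => rfl⟩
  have hFG : ∀ x, F (G x) = x := fun x => by
    rw [hF, hG]
    exact φ.apply_symm_apply x
  have hGF : ∀ x, G (F x) = x := fun x => by
    rw [hG, hF]
    exact φ.symm_apply_apply x
  have hFρ : ∀ (e : Bᵐᵒᵖ ⊗[k] A) (x : A), F (rho f e x) = rho g e (F x) := fun e x => by
    rw [hF, hF]
    exact φ.map_smul e x
  have hGρ : ∀ (e : Bᵐᵒᵖ ⊗[k] A) (x : A), G (rho g e x) = rho f e (G x) := fun e x => by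
    rw [hG, hG]
    exact φ.symm.map_smul e x
  clear hF hG
  have h1 : ∀ a : A, F a = a * F 1 := by
    intro a
    have h := hFρ (op 1 ⊗ₜ[k] a) 1
    rw [rho_tmul, rho_tmul] at h
    simpa using h
  have h2 : ∀ b : B, F (f b) = F 1 * g b := by
    intro b
    have h := hFρ (op b ⊗ₜ[k] 1) 1
    rw [rho_tmul, rho_tmul] at h
    simpa using h
  have h1' : ∀ a : A, G a = a * G 1 := by
    intro a
    have h := hGρ (op 1 ⊗ₜ[k] a) 1
    rw [rho_tmul, rho_tmul] at h
    simpa using h
  have huu' : G 1 * F 1 = 1 := by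
    rw [← h1 (G 1)]
    exact hFG 1
  have hu'u : F 1 * G 1 = 1 := by
    rw [← h1' (F 1)]
    exact hGF 1
  refine ⟨⟨F 1, G 1, hu'u, huu'⟩, fun b => ?_⟩
  show f b = F 1 * g b * G 1
  have h3 : f b * F 1 = F 1 * g b := by rw [← h1, h2]
  rw [← h3, mul_assoc, hu'u, mul_one]

end

section subalgebra

variable {k : Type*} [Field k] {A : Type*} [Ring A] [Algebra k A]
  [Algebra.IsCentral k A] [IsSimpleRing A] [FiniteDimensional k A]

/-- centralizer theorem for a simple subalgebra. -/
theorem centralizer_subalgebra (B : Subalgebra k A) [IsSimpleRing ↥B] :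
    IsSimpleRing ↥(Subalgebra.centralizer k (B : Set A)) ∧
      Module.finrank k A =
        Module.finrank k ↥B * Module.finrank k ↥(Subalgebra.centralizer k (B : Set A)) := by
  apply centralizer_main B.val
  intro c
  rw [Subalgebra.mem_centralizer_iff]
  constructor
  · intro h b
    exact h b.1 b.2
  · intro h g hg
    exact h ⟨g, hg⟩

/-- double centralizer theorem. -/
theorem double_centralizer (B : Subalgebra k A) [IsSimpleRing ↥B] :
    Subalgebra.centralizer k (Subalgebra.centralizer k (B : Set A) : Set A) = B := by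
  obtain ⟨hCs, hdim⟩ := centralizer_subalgebra B
  haveI := hCs
  obtain ⟨-, hdim2⟩ := centralizer_subalgebra (Subalgebra.centralizer k (B : Set A))
  have hle : B ≤ Subalgebra.centralizer k (Subalgebra.centralizer k (B : Set A) : Set A) :=
    Subalgebra.le_centralizer_centralizer k
  have hC : 0 < Module.finrank k ↥(Subalgebra.centralizer k (B : Set A)) := Module.finrank_pos
  have hfin : Module.finrank k ↥B = Module.finrank k
      ↥(Subalgebra.centralizer k (Subalgebra.centralizer k (B : Set A) : Set A)) := by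
    have h : Module.finrank k ↥(Subalgebra.centralizer k (B : Set A)) * Module.finrank k ↥B =
        Module.finrank k ↥(Subalgebra.centralizer k (B : Set A)) * Module.finrank k
          ↥(Subalgebra.centralizer k (Subalgebra.centralizer k (B : Set A) : Set A)) := by
      rw [mul_comm, ← hdim, hdim2]
    exact Nat.eq_of_mul_eq_mul_left hC h
  symm
  apply Subalgebra.toSubmodule_injective
  exact Submodule.eq_of_le_of_finrank_eq (fun x hx => hle hx) hfin

end subalgebra

end Groth.Agent.Lib.CSACentralizer
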