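import Mathlib
import Groth.Agent.Lib.CSAModule_helper6

/-!
# Uniqueness of the division algebra in Wedderburn's theorem (helper6)
-/

namespace Groth.Agent.Lib.CSAUnique

open Matrix.Module MulOpposite
open scoped Classical
open Groth.Agent.Lib.CSAModule

section

variable {k : Type*} [Field k] {Δ : Type*} [DivisionRing Δ] [Algebra k Δ] {m : ℕ}

theorem exists_smul_eq (v w : Fin m → Δ) (hv : v ≠ 0) :
    ∃ N : Matrix (Fin m) (Fin m) Δ, N • v = w := by
  obtain ⟨i, hi⟩ := Function.ne_iff.1 hv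
  have hi' : v i ≠ 0 := hi
  refine ⟨∑ j, Matrix.single j i (w j * (v i)⁻¹), ?_⟩
  rw [Finset.sum_smul]
  have h : ∀ j, (w j * (v i)⁻¹) • v i = w j := fun j => by
    rw [smul_eq_mul, mul_assoc, inv_mul_cancel₀ hi', mul_one]
  simp only [single_smul, h]
  exact Finset.univ_sum_single w

variable {E : Type*} [Ring E] [Algebra k E] (ψ : E ≃ₐ[k] Matrix (Fin m) (Fin m) Δ)

/-- `E` acts on `Δ^m` through `ψ`. -/
noncomputable def rhoM : E →ₐ[k] Module.End k (Fin m → Δ) :=
  (Algebra.lsmul k k (Fin m → Δ)).comp ψ.toAlgHom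

theorem rhoM_apply (e : E) (v : Fin m → Δ) : rhoM ψ e v = ψ e • v := rfl

theorem smul_eq (e : E) (v : RepMod (rhoM ψ)) :
    e • v = (show Fin m → Δ from ψ e • (show Fin m → Δ from v)) := rfl

theorem isSimpleModule_repMod (hm : m ≠ 0) : IsSimpleModule E (RepMod (rhoM ψ)) := by
  haveI : Nonempty (Fin m) := ⟨⟨0, Nat.pos_of_ne_zero hm⟩⟩
  haveI : Nontrivial (Fin m → Δ) := inferInstance
  rw [isSimpleModule_iff_toSpanSingleton_surjective]
  refine ⟨inferInstance, fun v hv w => ?_⟩
  obtain ⟨N, hN⟩ := exists_smul_eq (show Fin m → Δ from v) (show Fin m → Δ from w) hv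
  refine ⟨ψ.symm N, ?_⟩
  show (show Fin m → Δ from ψ (ψ.symm N) • (show Fin m → Δ from v)) = w
  rw [ψ.apply_symm_apply]
  exact hN

/-- right multiplication by `d` on `Δ^m`, as an `E`-linear map. -/
noncomputable def rmul (d : Δ) : Module.End E (RepMod (rhoM ψ)) where
  toFun v := fun i => (show Fin m → Δ from v) i * d
  map_add' v w := by
    funext i
    exact add_mul _ _ _
  map_smul' e v := by
    funext i
    show (ψ e • (show Fin m → Δ from v)) i * d =
      (ψ e • (fun i => (show Fin m → Δ from v) i * d : Fin m → Δ)) i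
    simp only [Matrix.Module.smul_apply, Finset.sum_mul, smul_eq_mul, mul_assoc]

theorem rmul_apply (d : Δ) (v : Fin m → Δ) (i : Fin m) :
    (show Fin m → Δ from rmul ψ d v) i = v i * d := rfl

/-- `Δᵐᵒᵖ → End_E(Δ^m)`. -/
noncomputable def rmulHom : Δᵐᵒᵖ →ₐ[k] Module.End E (RepMod (rhoM ψ)) where
  toFun d := rmul ψ d.unop
  map_one' := by
    apply LinearMap.ext
    intro v
    funext i
    show (show Fin m → Δ from v) i * (1 : Δ) = (show Fin m → Δ from v) i
    rw [mul_one]
  map_mul' c d := by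
    apply LinearMap.ext
    intro v
    funext i
    show (show Fin m → Δ from v) i * (d.unop * c.unop) =
      ((show Fin m → Δ from v) i * d.unop) * c.unop
    rw [mul_assoc]
  map_zero' := by
    apply LinearMap.ext
    intro v
    funext i
    show (show Fin m → Δ from v) i * (0 : Δ) = 0
    rw [mul_zero]
  map_add' c d := by
    apply LinearMap.ext
    intro v
    funext i
    show (show Fin m → Δ from v) i * (c.unop + d.unop) =
      (show Fin m → Δ from v) i * c.unop + (show Fin m → Δ from v) i * d.unop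
    rw [mul_add]
  commutes' r := by
    apply LinearMap.ext
    intro v
    funext i
    show (show Fin m → Δ from v) i * (algebraMap k Δ r) = r • (show Fin m → Δ from v) i
    rw [Algebra.smul_def, Algebra.commutes]

variable [IsSimpleRing E] [FiniteDimensional k E] [FiniteDimensional k Δ]

theorem rmulHom_bijective (hm : m ≠ 0) : Function.Bijective (rmulHom ψ) := by
  haveI : Nonempty (Fin m) := ⟨⟨0, Nat.pos_of_ne_zero hm⟩⟩
  haveI : Nontrivial (Fin m → Δ) := inferInstance
  obtain ⟨-, hfin⟩ := end_isSimpleRing_and_finrank (k := k) (E := E) (RepMod (rhoM ψ))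
  have hE : Module.finrank k E = m * m * Module.finrank k Δ := by
    rw [ψ.toLinearEquiv.finrank_eq, Module.finrank_matrix, Fintype.card_fin]
  have hM : Module.finrank k (RepMod (rhoM ψ)) = m * Module.finrank k Δ := by
    rw [RepMod.finrank_eq, finrank_fun]
  have hδ : 0 < Module.finrank k Δ := Module.finrank_pos
  have hm' : 0 < m := Nat.pos_of_ne_zero hm
  have hEnd : Module.finrank k (Module.End E (RepMod (rhoM ψ))) = Module.finrank k Δ := by
    rw [hE, hM] at hfin
    have hpos : 0 < m * m * Module.finrank k Δ := by positivity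
    have h2 : Module.finrank k (Module.End E (RepMod (rhoM ψ))) * (m * m * Module.finrank k Δ) =
        Module.finrank k Δ * (m * m * Module.finrank k Δ) := by
      rw [hfin]
      ring
    exact Nat.eq_of_mul_eq_mul_right hpos h2
  haveI : Module.Finite k (Module.End E (RepMod (rhoM ψ))) :=
    Module.finite_of_finrank_pos (by rw [hEnd]; exact hδ)
  have hinj : Function.Injective (rmulHom ψ) := by
    intro c d hcd
    have h := congrArg (fun φ : Module.End E (RepMod (rhoM ψ)) =>
      (show Fin m → Δ from φ (fun _ => (1 : Δ))) ⟨0, hm'⟩) hcd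
    have h' : (1 : Δ) * c.unop = 1 * d.unop := h
    rw [one_mul, one_mul] at h'
    exact MulOpposite.unop_injective h'
  refine ⟨hinj, ?_⟩
  have hfr : Module.finrank k Δᵐᵒᵖ = Module.finrank k (Module.End E (RepMod (rhoM ψ))) := by
    rw [hEnd, ← (MulOpposite.opLinearEquiv k : Δ ≃ₗ[k] Δᵐᵒᵖ).finrank_eq]
  haveI : FiniteDimensional k Δᵐᵒᵖ := Module.Finite.equiv (MulOpposite.opLinearEquiv k)
  exact (LinearMap.injective_iff_surjective_of_finrank_eq_finrank hfr
    (f := (rmulHom ψ).toLinearMap)).1 hinj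

end

/-- **Uniqueness in Wedderburn's theorem**. -/
theorem nonempty_algEquiv {k : Type*} [Field k]
    {D : Type*} [DivisionRing D] [Algebra k D] [FiniteDimensional k D]
    {D' : Type*} [DivisionRing D'] [Algebra k D'] [FiniteDimensional k D']
    (n m : ℕ) (hn : n ≠ 0) (hm : m ≠ 0)
    (e : Matrix (Fin n) (Fin n) D ≃ₐ[k] Matrix (Fin m) (Fin m) D') :
    Nonempty (D ≃ₐ[k] D') := by
  haveI : Nonempty (Fin n) := ⟨⟨0, Nat.pos_of_ne_zero hn⟩⟩
  haveI : IsArtinianRing (Matrix (Fin n) (Fin n) D) :=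
    IsArtinianRing.of_finite k (Matrix (Fin n) (Fin n) D)
  obtain ⟨e₁, -⟩ : ∃ e₁ : Dᵐᵒᵖ ≃ₐ[k] Module.End (Matrix (Fin n) (Fin n) D)
      (RepMod (rhoM (AlgEquiv.refl : Matrix (Fin n) (Fin n) D ≃ₐ[k] Matrix (Fin n) (Fin n) D))),
      True := ⟨AlgEquiv.ofBijective _ (rmulHom_bijective _ hn), trivial⟩
  obtain ⟨e₂, -⟩ : ∃ e₂ : D'ᵐᵒᵖ ≃ₐ[k] Module.End (Matrix (Fin n) (Fin n) D)
      (RepMod (rhoM e)), True := ⟨AlgEquiv.ofBijective _ (rmulHom_bijective e hm), trivial⟩
  haveI h1 := isSimpleModule_repMod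
    (AlgEquiv.refl : Matrix (Fin n) (Fin n) D ≃ₐ[k] Matrix (Fin n) (Fin n) D) hn
  haveI h2 := isSimpleModule_repMod e hm
  haveI : IsSimpleModule (Matrix (Fin n) (Fin n) D)
      (⊤ : Submodule (Matrix (Fin n) (Fin n) D) (RepMod (rhoM e))) :=
    IsSimpleModule.congr Submodule.topEquiv
  have h3 := isIsotypicOfType (Matrix (Fin n) (Fin n) D)
    (RepMod (rhoM (AlgEquiv.refl : Matrix (Fin n) (Fin n) D ≃ₐ[k] Matrix (Fin n) (Fin n) D)))
    (RepMod (rhoM e)) ⊤
  obtain ⟨ι⟩ := h3
  exact ⟨AlgEquiv.unop ((e₁.trans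
    (((Submodule.topEquiv.symm.trans ι).symm).conjAlgEquiv k)).trans e₂.symm)⟩

end Groth.Agent.Lib.CSAUnique
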