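import Mathlib
import Groth.Agent.S1638
import Groth.Agent.Lib.CSATensor_helper6
import Groth.Agent.Lib.CSAUnique_helper6

/-!
# Tensor powers of central simple algebras (helper6)

* `isCentral_tensor`: tensor product of central algebras over a field is central.
* `Spl k X`: `X` is a full matrix algebra over `k`; stable under tensor, with cancellation.
* `TP k X e = ⨂[k] _ : Fin e, X` with algebra isomorphisms `tpowAdd`, `tpowZero`, `tpowOne`,
  `nonempty_nested`.
* `csa_tpow`: tensor powers of a central simple algebra are central simple.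
* `spl_tpow_iff`: the set of `e` with `TP k A e` split is `pℕ` for the period `p`.
-/

namespace Groth.Agent.Lib.TPow

open scoped TensorProduct
open PiTensorProduct

universe u v w

section central

variable {k : Type*} [Field k] {A A' : Type*} [Ring A] [Ring A'] [Algebra k A] [Algebra k A']

theorem isCentral_tensor [Algebra.IsCentral k A] [Algebra.IsCentral k A'] :
    Algebra.IsCentral k (A ⊗[k] A') := by
  have key : ∀ w : ↥(Subalgebra.centralizer k ((⊤ : Subalgebra k A) : Set A)) ⊗[k]
      ↥(Subalgebra.centralizer k ((⊤ : Subalgebra k A') : Set A')),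
      Algebra.TensorProduct.map (Subalgebra.centralizer k ((⊤ : Subalgebra k A) : Set A)).val
        (Subalgebra.centralizer k ((⊤ : Subalgebra k A') : Set A')).val w ∈
        (⊥ : Subalgebra k (A ⊗[k] A')) := by
    intro w
    induction w using TensorProduct.induction_on with
    | zero => rw [map_zero]; exact Subalgebra.zero_mem _
    | add w₁ w₂ h₁ h₂ => rw [map_add]; exact Subalgebra.add_mem _ h₁ h₂
    | tmul c c' =>
      have hc : (c : A) ∈ Subalgebra.center k A := by
        rw [Subalgebra.mem_center_iff]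
        intro b
        exact (Subalgebra.mem_centralizer_iff k).1 c.2 b (by simp)
      have hc' : (c' : A') ∈ Subalgebra.center k A' := by
        rw [Subalgebra.mem_center_iff]
        intro b
        exact (Subalgebra.mem_centralizer_iff k).1 c'.2 b (by simp)
      obtain ⟨r, hr⟩ := (Algebra.IsCentral.mem_center_iff k).1 hc
      obtain ⟨r', hr'⟩ := (Algebra.IsCentral.mem_center_iff k).1 hc'
      show ((c : A) ⊗ₜ[k] (c' : A')) ∈ (⊥ : Subalgebra k (A ⊗[k] A'))
      rw [hr, hr', Algebra.algebraMap_eq_smul_one, Algebra.algebraMap_eq_smul_one,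
        TensorProduct.smul_tmul_smul]
      exact Subalgebra.smul_mem _ (Subalgebra.one_mem _) _
  constructor
  intro z hz
  have h1 : z ∈ Subalgebra.centralizer k ((Algebra.TensorProduct.map
      (⊤ : Subalgebra k A).val (⊤ : Subalgebra k A').val).range : Set (A ⊗[k] A')) := by
    rw [Subalgebra.mem_centralizer_iff]
    intro g _
    exact Subalgebra.mem_center_iff.1 hz g
  rw [Groth.Agent.S1638.centralizer_tensor] at h1
  obtain ⟨w, rfl⟩ := h1
  exact key w

end central

section spl

variable (k : Type*) [Field k]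

/-- `X` is a full matrix algebra of positive size over `k`. -/
def Spl (X : Type*) [Ring X] [Algebra k X] : Prop :=
  ∃ n : ℕ, n ≠ 0 ∧ Nonempty (X ≃ₐ[k] Matrix (Fin n) (Fin n) k)

variable {k} {X Y : Type*} [Ring X] [Algebra k X] [Ring Y] [Algebra k Y]

theorem Spl.congr (h : Spl k X) (e : X ≃ₐ[k] Y) : Spl k Y := by
  obtain ⟨n, hn, ⟨φ⟩⟩ := h
  exact ⟨n, hn, ⟨e.symm.trans φ⟩⟩

theorem Spl.tensor (hX : Spl k X) (hY : Spl k Y) : Spl k (X ⊗[k] Y) := by
  obtain ⟨a, ha, ⟨e₁⟩⟩ := hX
  obtain ⟨b, hb, ⟨e₂⟩⟩ := hY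
  exact ⟨a * b, Nat.mul_ne_zero ha hb,
    ⟨(Algebra.TensorProduct.congr e₁ e₂).trans ((Matrix.kroneckerAlgEquiv (Fin a) (Fin b) k).trans
      (Matrix.reindexAlgEquiv k k finProdFinEquiv))⟩⟩

theorem Spl.cancel [IsSimpleRing Y] [FiniteDimensional k Y] (hXY : Spl k (X ⊗[k] Y))
    (hX : Spl k X) : Spl k Y := by
  classical
  obtain ⟨a, ha, ⟨e₁⟩⟩ := hX
  obtain ⟨c, hc, ⟨e₃⟩⟩ := hXY
  haveI := IsArtinianRing.of_finite k Y
  obtain ⟨r, hr, D, hD, hAlg, hfin, ⟨e₂⟩⟩ :=
    IsSimpleRing.exists_algEquiv_matrix_divisionRing_finite k Y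
  have hr0 : r ≠ 0 := hr.out
  obtain ⟨E, -⟩ : ∃ E : Matrix (Fin a) (Fin a) Y ≃ₐ[k] X ⊗[k] Y, True :=
    ⟨(matrixEquivTensor (Fin a) k Y).trans
      ((Algebra.TensorProduct.comm k Y (Matrix (Fin a) (Fin a) k)).trans
        (Algebra.TensorProduct.congr e₁.symm AlgEquiv.refl)), trivial⟩
  obtain ⟨E₁, -⟩ : ∃ E₁ : Matrix (Fin a) (Fin a) Y ≃ₐ[k] Matrix (Fin (a * r)) (Fin (a * r)) D,
      True :=
    ⟨(AlgEquiv.mapMatrix e₂).trans ((Matrix.compAlgEquiv (Fin a) (Fin r) D k).trans
      (Matrix.reindexAlgEquiv k D finProdFinEquiv)), trivial⟩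
  obtain ⟨φ⟩ := Groth.Agent.Lib.CSAUnique.nonempty_algEquiv (a * r) c
    (Nat.mul_ne_zero ha hr0) hc (E₁.symm.trans (E.trans e₃))
  exact ⟨r, hr0, ⟨e₂.trans (AlgEquiv.mapMatrix φ)⟩⟩

/-- `K ≃ M₁(K)` -/
noncomputable def oneByOne (K : Type*) [Field K] : K ≃ₐ[K] Matrix (Fin 1) (Fin 1) K :=
  AlgEquiv.ofBijective (Algebra.ofId K _) ⟨(algebraMap K _).injective, by
    intro M
    refine ⟨M 0 0, ?_⟩
    ext i j
    fin_cases i; fin_cases j
    simp [Algebra.ofId_apply, Matrix.algebraMap_matrix_apply]⟩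

theorem Spl.self : Spl k k := ⟨1, one_ne_zero, ⟨oneByOne k⟩⟩

end spl

section tpow

variable (k : Type u) [Field k] (X : Type v) [Ring X] [Algebra k X]

/-- the tensor power -/
abbrev TP (e : ℕ) : Type (max u v) := ⨂[k] _ : Fin e, X

noncomputable def tpowAddLin (e f : ℕ) : TP k X e ⊗[k] TP k X f ≃ₗ[k] TP k X (e + f) :=
  (PiTensorProduct.tmulEquiv k X).trans
    (PiTensorProduct.reindex k (fun _ : Fin e ⊕ Fin f => X) finSumFinEquiv)

theorem tpowAddLin_tprod (e f : ℕ) (a : Fin e → X) (b : Fin f → X) :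
    tpowAddLin k X e f (tprod k a ⊗ₜ[k] tprod k b) =
      tprod k (fun i => Sum.elim a b (finSumFinEquiv.symm i)) := by
  simp [tpowAddLin]

noncomputable def tpowAdd (e f : ℕ) : TP k X e ⊗[k] TP k X f ≃ₐ[k] TP k X (e + f) :=
  AlgEquiv.ofLinearEquiv (tpowAddLin k X e f)
    (by
      show tpowAddLin k X e f ((PiTensorProduct.tprod k 1) ⊗ₜ[k] (PiTensorProduct.tprod k 1)) =
        PiTensorProduct.tprod k 1
      rw [tpowAddLin_tprod]
      congr 1
      funext i
      generalize finSumFinEquiv.symm i = j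
      cases j <;> rfl)
    (by
      refine (LinearMap.map_mul_iff (tpowAddLin k X e f).toLinearMap).2 ?_
      ext a b c d
      simp only [LinearMap.compr₂_apply, LinearMap.compl₂_apply, LinearMap.coe_comp,
        Function.comp_apply, LinearMap.mul_apply', LinearEquiv.coe_coe,
        TensorProduct.AlgebraTensorModule.curry_apply, TensorProduct.curry_apply,
        LinearMap.coe_restrictScalars, LinearMap.compMultilinearMap_apply,
        Algebra.TensorProduct.tmul_mul_tmul, PiTensorProduct.tprod_mul_tprod, tpowAddLin_tprod]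
      congr 1
      funext i
      show Sum.elim (a * c) (b * d) (finSumFinEquiv.symm i) =
        Sum.elim a b (finSumFinEquiv.symm i) * Sum.elim c d (finSumFinEquiv.symm i)
      generalize finSumFinEquiv.symm i = j
      cases j <;> rfl)

theorem nontrivial_tpowZero : Nontrivial (TP k X 0) :=
  (PiTensorProduct.isEmptyEquiv (R := k) (s := fun _ : Fin 0 => X) (Fin 0)).toEquiv.nontrivial

noncomputable def tpowZero : TP k X 0 ≃ₐ[k] k :=
  haveI := nontrivial_tpowZero k X
  AlgEquiv.symm (AlgEquiv.ofBijective (Algebra.ofId k (TP k X 0))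
    ⟨(algebraMap k (TP k X 0)).injective, by
      intro x
      refine ⟨PiTensorProduct.isEmptyEquiv (R := k) (s := fun _ : Fin 0 => X) (Fin 0) x, ?_⟩
      have h1 : (1 : TP k X 0) = tprod k (@isEmptyElim (Fin 0) _ (fun _ => X)) := by
        rw [PiTensorProduct.one_def]
        congr 1
        funext i
        exact i.elim0
      have h2 := (PiTensorProduct.isEmptyEquiv (R := k) (s := fun _ : Fin 0 => X)
        (Fin 0)).symm_apply_apply x
      rw [PiTensorProduct.isEmptyEquiv_symm_apply] at h2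
      rw [Algebra.ofId_apply, Algebra.algebraMap_eq_smul_one, h1]
      exact h2⟩)

noncomputable def tpowOne : X ≃ₐ[k] TP k X 1 :=
  AlgEquiv.ofBijective (PiTensorProduct.singleAlgHom (R := k) (A := fun _ : Fin 1 => X) 0) (by
    have h : ⇑(PiTensorProduct.singleAlgHom (R := k) (A := fun _ : Fin 1 => X) 0) =
        ⇑(PiTensorProduct.subsingletonEquiv (R := k) (s := fun _ : Fin 1 => X) (0 : Fin 1)).symm := by
      funext a
      rw [PiTensorProduct.subsingletonEquiv_symm_apply']
      show PiTensorProduct.tprod k (Pi.mulSingle (0 : Fin 1) a) =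
        PiTensorProduct.tprod k fun _ => a
      congr 1
      funext i
      rw [Fin.fin_one_eq_zero i, Pi.mulSingle_eq_same]
    rw [h]
    exact LinearEquiv.bijective _)

theorem nonempty_nested (r e : ℕ) : Nonempty (TP k (TP k X r) e ≃ₐ[k] TP k X (r * e)) := by
  induction e with
  | zero => exact ⟨(tpowZero k (TP k X r)).trans (tpowZero k X).symm⟩
  | succ e ih =>
    obtain ⟨φ⟩ := ih
    exact ⟨(tpowAdd k (TP k X r) e 1).symm.trans
      ((Algebra.TensorProduct.congr φ (tpowOne k (TP k X r)).symm).trans (tpowAdd k X (r * e) r))⟩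

variable (A : Type v) [Ring A] [Algebra k A] [Algebra.IsCentral k A] [IsSimpleRing A]
  [FiniteDimensional k A]

theorem csa_tpow (e : ℕ) :
    Algebra.IsCentral k (TP k A e) ∧ IsSimpleRing (TP k A e) ∧ FiniteDimensional k (TP k A e) := by
  induction e with
  | zero =>
    have hsurj : ∀ x : TP k A 0, x ∈ (⊥ : Subalgebra k (TP k A 0)) := by
      intro x
      rw [Algebra.mem_bot]
      refine ⟨tpowZero k A x, ?_⟩
      have h := (tpowZero k A).symm.commutes (tpowZero k A x)
      rw [← h]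
      simp
    exact ⟨⟨fun x _ => hsurj x⟩,
      IsSimpleRing.of_ringEquiv (tpowZero k A).symm.toRingEquiv inferInstance,
      Module.Finite.equiv (tpowZero k A).symm.toLinearEquiv⟩
  | succ e ih =>
    obtain ⟨h1, h2, h3⟩ := ih
    haveI := h1; haveI := h2; haveI := h3
    obtain ⟨iso, -⟩ : ∃ iso : (TP k A e ⊗[k] A) ≃ₐ[k] TP k A (e + 1), True :=
      ⟨(Algebra.TensorProduct.congr AlgEquiv.refl (tpowOne k A)).trans (tpowAdd k A e 1), trivial⟩
    haveI : Algebra.IsCentral k (TP k A e ⊗[k] A) := isCentral_tensor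
    haveI : IsSimpleRing (TP k A e ⊗[k] A) := Groth.Agent.Lib.CSATensor.isSimpleRing_tensor
    exact ⟨Algebra.IsCentral.of_algEquiv k _ _ iso,
      IsSimpleRing.of_ringEquiv iso.toRingEquiv inferInstance,
      Module.Finite.equiv iso.toLinearEquiv⟩

theorem spl_tpow_iff (p : ℕ) (hp : 0 < p) (hsp : Spl k (TP k A p))
    (hmin : ∀ e', 0 < e' → e' < p → ¬ Spl k (TP k A e')) (e : ℕ) :
    Spl k (TP k A e) ↔ p ∣ e := by
  have hadd : ∀ a b, Spl k (TP k A a) → Spl k (TP k A b) → Spl k (TP k A (a + b)) :=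
    fun a b ha hb => (ha.tensor hb).congr (tpowAdd k A a b)
  have hcancel : ∀ a b, Spl k (TP k A (a + b)) → Spl k (TP k A a) → Spl k (TP k A b) := by
    intro a b hab ha
    obtain ⟨h1, h2, h3⟩ := csa_tpow k A b
    haveI := h2; haveI := h3
    exact Spl.cancel (hab.congr (tpowAdd k A a b).symm) ha
  have hzero : Spl k (TP k A 0) := Spl.self.congr (tpowZero k A).symm
  have hmul : ∀ q, Spl k (TP k A (p * q)) := by
    intro q
    induction q with
    | zero => exact hzero
    | succ q ih => exact hadd _ _ ih hsp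
  constructor
  · intro he
    have he' : Spl k (TP k A (p * (e / p) + e % p)) := by
      rw [Nat.div_add_mod]; exact he
    have h2 : Spl k (TP k A (e % p)) := hcancel _ _ he' (hmul _)
    by_contra hnd
    have h3 : 0 < e % p := Nat.pos_of_ne_zero (fun h => hnd (Nat.dvd_of_mod_eq_zero h))
    exact hmin _ h3 (Nat.mod_lt _ hp) h2
  · rintro ⟨q, rfl⟩
    exact hmul q

end tpow

end Groth.Agent.Lib.TPow
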