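import Mathlib

/-!
# Base change of a central simple algebra along a field extension is central simple (helper6)
-/

namespace Groth.Agent.Lib.CSABaseChange

open TensorProduct
open scoped Classical

variable {k : Type*} [Field k] {L : Type*} [Field L] [Algebra k L] {A : Type*} [Ring A] [Algebra k A]
variable {ι : Type*} (ℬ : Module.Basis ι k L)

/-- coordinates of `L ⊗ A` with respect to a `k`-basis of `L` -/
noncomputable def co : L ⊗[k] A ≃ₗ[k] ι →₀ A := TensorProduct.equivFinsuppOfBasisLeft ℬ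

theorem co_tmul (l : L) (a : A) (j : ι) : co ℬ (l ⊗ₜ[k] a) j = ℬ.repr l j • a :=
  TensorProduct.equivFinsuppOfBasisLeft_apply_tmul_apply ℬ l a j

theorem co_mul_left (a : A) (x : L ⊗[k] A) (j : ι) :
    co ℬ ((1 ⊗ₜ[k] a) * x) j = a * co ℬ x j := by
  induction x using TensorProduct.induction_on with
  | zero => simp
  | tmul l b =>
    rw [Algebra.TensorProduct.tmul_mul_tmul, one_mul, co_tmul, co_tmul, mul_smul_comm]
  | add x y hx hy =>
    rw [mul_add, map_add, map_add, Finsupp.add_apply, Finsupp.add_apply, hx, hy, mul_add]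

theorem co_mul_right (a : A) (x : L ⊗[k] A) (j : ι) :
    co ℬ (x * (1 ⊗ₜ[k] a)) j = co ℬ x j * a := by
  induction x using TensorProduct.induction_on with
  | zero => simp
  | tmul l b =>
    rw [Algebra.TensorProduct.tmul_mul_tmul, mul_one, co_tmul, co_tmul, smul_mul_assoc]
  | add x y hx hy =>
    rw [add_mul, map_add, map_add, Finsupp.add_apply, Finsupp.add_apply, hx, hy, add_mul]

theorem eq_sum_co (x : L ⊗[k] A) :
    x = ∑ j ∈ (co ℬ x).support, ℬ j ⊗ₜ[k] (co ℬ x j) := by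
  have h := (co ℬ).symm_apply_apply x
  rw [co, TensorProduct.equivFinsuppOfBasisLeft_symm_apply] at h
  exact h.symm

variable [Algebra.IsCentral k A]

/-- an element commuting with `1 ⊗ A` is of the form `l ⊗ 1`. -/
theorem exists_eq_tmul_one {ι : Type*} (ℬ : Module.Basis ι k L) (x : L ⊗[k] A)
    (h : ∀ a : A, (1 ⊗ₜ[k] a) * x = x * (1 ⊗ₜ[k] a)) : ∃ l : L, x = l ⊗ₜ[k] (1 : A) := by
  have hc : ∀ j : ι, ∃ c : k, algebraMap k A c = co ℬ x j := by
    intro j
    have hmem : co ℬ x j ∈ Subalgebra.center k A := by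
      rw [Subalgebra.mem_center_iff]
      intro a
      rw [← co_mul_left, ← co_mul_right, h a]
    exact Algebra.mem_bot.1 (Algebra.IsCentral.out hmem)
  choose c hc using hc
  refine ⟨∑ j ∈ (co ℬ x).support, c j • ℬ j, ?_⟩
  conv_lhs => rw [eq_sum_co ℬ x]
  rw [TensorProduct.sum_tmul]
  apply Finset.sum_congr rfl
  intro j _
  rw [← hc j, Algebra.algebraMap_eq_smul_one, TensorProduct.tmul_smul, TensorProduct.smul_tmul']

theorem isCentral_baseChange : Algebra.IsCentral L (L ⊗[k] A) := by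
  constructor
  intro x hx
  rw [Subalgebra.mem_center_iff] at hx
  obtain ⟨l, hl⟩ := exists_eq_tmul_one (Module.Basis.ofVectorSpace k L) x
    (fun a => hx (1 ⊗ₜ[k] a))
  rw [Algebra.mem_bot]
  exact ⟨l, by rw [hl, Algebra.TensorProduct.algebraMap_apply, Algebra.algebraMap_self_apply]⟩

variable [IsSimpleRing A]

theorem one_tmul_one_ne_zero : (1 : L ⊗[k] A) ≠ 0 := by
  intro h0
  have hb := Module.Basis.ofVectorSpace k L
  have h1 : (Module.Basis.ofVectorSpace k L).repr (1 : L) ≠ 0 := by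
    intro h
    exact one_ne_zero ((Module.Basis.ofVectorSpace k L).repr.map_eq_zero_iff.1 h)
  obtain ⟨j, hj⟩ := Finsupp.ne_iff.1 h1
  have h2 : co (Module.Basis.ofVectorSpace k L) (1 : L ⊗[k] A) j = 0 := by
    rw [h0, map_zero, Finsupp.zero_apply]
  rw [Algebra.TensorProduct.one_def, co_tmul] at h2
  rcases smul_eq_zero.1 h2 with h3 | h3
  · exact hj (by simpa using h3)
  · exact one_ne_zero h3

theorem isSimpleRing_baseChange : IsSimpleRing (L ⊗[k] A) := by
  haveI : Nontrivial (L ⊗[k] A) := ⟨⟨1, 0, one_tmul_one_ne_zero⟩⟩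
  apply IsSimpleRing.of_eq_bot_or_eq_top
  intro I
  by_cases hI : I = ⊥
  · exact Or.inl hI
  right
  set ℬ := Module.Basis.ofVectorSpace k L with hℬ
  -- nonzero element of I
  have hex : ∃ x ∈ I, x ≠ 0 := by
    by_contra hcon
    apply hI
    rw [eq_bot_iff]
    intro x hx
    rw [TwoSidedIdeal.mem_bot]
    by_contra hx0
    exact hcon ⟨x, hx, hx0⟩
  have hP : ∃ n : ℕ, ∃ x ∈ I, x ≠ 0 ∧ (co ℬ x).support.card = n := by
    obtain ⟨x, hx, hx0⟩ := hex
    exact ⟨_, x, hx, hx0, rfl⟩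
  obtain ⟨x, hxI, hx0, hxn⟩ := Nat.find_spec hP
  have hmin : ∀ z ∈ I, (co ℬ z).support.card < Nat.find hP → z = 0 := by
    intro z hz hlt
    by_contra hz0
    exact Nat.find_min hP hlt ⟨z, hz, hz0, rfl⟩
  have hcox : co ℬ x ≠ 0 := fun h => hx0 ((co ℬ).map_eq_zero_iff.1 h)
  obtain ⟨j0, hj0⟩ := Finsupp.support_nonempty_iff.2 hcox
  -- the ideal of j0-coordinates
  let J0 : TwoSidedIdeal A := TwoSidedIdeal.mk'
    {a | ∃ y ∈ I, (co ℬ y).support ⊆ (co ℬ x).support ∧ co ℬ y j0 = a}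
    ⟨0, I.zero_mem, by simp, by simp⟩
    (by
      rintro a b ⟨y1, hy1, hs1, rfl⟩ ⟨y2, hy2, hs2, rfl⟩
      refine ⟨y1 + y2, I.add_mem hy1 hy2, ?_, by rw [map_add, Finsupp.add_apply]⟩
      rw [map_add]
      exact (Finsupp.support_add).trans (Finset.union_subset hs1 hs2))
    (by
      rintro a ⟨y, hy, hs, rfl⟩
      refine ⟨-y, I.neg_mem hy, ?_, by rw [map_neg, Finsupp.neg_apply]⟩
      rw [map_neg, Finsupp.support_neg]
      exact hs)
    (by
      rintro a b ⟨y, hy, hs, rfl⟩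
      refine ⟨(1 ⊗ₜ[k] a) * y, I.mul_mem_left _ _ hy, ?_, co_mul_left ℬ a y j0⟩
      intro j hj
      apply hs
      rw [Finsupp.mem_support_iff] at hj ⊢
      intro h0
      apply hj
      rw [co_mul_left, h0, mul_zero])
    (by
      rintro a b ⟨y, hy, hs, rfl⟩
      refine ⟨y * (1 ⊗ₜ[k] b), I.mul_mem_right _ _ hy, ?_, co_mul_right ℬ b y j0⟩
      intro j hj
      apply hs
      rw [Finsupp.mem_support_iff] at hj ⊢
      intro h0
      apply hj
      rw [co_mul_right, h0, zero_mul])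
  have hJ0 : J0 = ⊤ := by
    rcases eq_bot_or_eq_top J0 with h | h
    · exfalso
      have hmem : co ℬ x j0 ∈ J0 := by
        rw [TwoSidedIdeal.mem_mk']
        exact ⟨x, hxI, subset_rfl, rfl⟩
      rw [h, TwoSidedIdeal.mem_bot] at hmem
      exact (Finsupp.mem_support_iff.1 hj0) hmem
    · exact h
  have h1J0 : (1 : A) ∈ J0 := by rw [hJ0]; exact TwoSidedIdeal.mem_top A
  rw [TwoSidedIdeal.mem_mk'] at h1J0
  obtain ⟨y, hyI, hys, hy1⟩ := h1J0
  have hcomm : ∀ a : A, (1 ⊗ₜ[k] a) * y = y * (1 ⊗ₜ[k] a) := by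
    intro a
    rw [← sub_eq_zero]
    apply hmin _ (I.sub_mem (I.mul_mem_left _ _ hyI) (I.mul_mem_right _ _ hyI))
    rw [← hxn]
    apply Finset.card_lt_card
    rw [Finset.ssubset_iff_of_subset]
    · refine ⟨j0, hj0, ?_⟩
      rw [Finsupp.mem_support_iff, not_not, map_sub, Finsupp.sub_apply, co_mul_left,
        co_mul_right, hy1, mul_one, one_mul, sub_self]
    · intro j hj
      apply hys
      rw [Finsupp.mem_support_iff] at hj ⊢
      intro h0
      apply hj
      rw [map_sub, Finsupp.sub_apply, co_mul_left, co_mul_right, h0, mul_zero, zero_mul, sub_self]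
  obtain ⟨l, hl⟩ := exists_eq_tmul_one ℬ y hcomm
  have hl0 : l ≠ 0 := by
    rintro rfl
    rw [TensorProduct.zero_tmul] at hl
    rw [hl, map_zero, Finsupp.zero_apply] at hy1
    exact one_ne_zero hy1.symm
  rw [← TwoSidedIdeal.one_mem_iff]
  have h2 : (l⁻¹ ⊗ₜ[k] (1 : A)) * y ∈ I := I.mul_mem_left _ _ hyI
  rw [hl, Algebra.TensorProduct.tmul_mul_tmul, inv_mul_cancel₀ hl0, mul_one,
    ← Algebra.TensorProduct.one_def] at h2
  exact h2

end Groth.Agent.Lib.CSABaseChange
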