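import Mathlib
import Groth.Agent.S0195
import Groth.Agent.S0196
import Groth.Agent.S0198
import Groth.Agent.Lib.TPow_helper6
import Groth.Agent.Lib.CSAModule_helper6

/-!
# Splitting fields of central simple algebras (helper6)

`SplitsBy k X K`: `K ⊗[k] X` is a full matrix algebra over `K` (same as the prelude's
`Curves.Splits k X K`).  Stability under isomorphism, tensor products, tensor powers, matrix
algebras and Brauer equivalence; the index divides the degree of a splitting field; a central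
division algebra is split by a maximal subfield.
-/

open Matrix.Module

namespace Groth.Agent.Lib.CSASplit

open scoped TensorProduct
open Groth.Agent.Lib.TPow

universe u v w

section

variable (k : Type*) [Field k]

/-- `K` splits `X`. -/
def SplitsBy (X : Type*) [Ring X] [Algebra k X] (K : Type*) [Field K] [Algebra k K] : Prop :=
  ∃ n : ℕ, n ≠ 0 ∧ Nonempty (K ⊗[k] X ≃ₐ[K] Matrix (Fin n) (Fin n) K)

variable {k} {K : Type*} [Field K] [Algebra k K]
variable {X Y : Type*} [Ring X] [Algebra k X] [Ring Y] [Algebra k Y]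

theorem SplitsBy.congr (h : SplitsBy k X K) (e : X ≃ₐ[k] Y) : SplitsBy k Y K := by
  obtain ⟨n, hn, ⟨φ⟩⟩ := h
  exact ⟨n, hn, ⟨(Algebra.TensorProduct.congr (AlgEquiv.refl : K ≃ₐ[K] K) e.symm).trans φ⟩⟩

theorem SplitsBy.self : SplitsBy k k K :=
  ⟨1, one_ne_zero, ⟨(Algebra.TensorProduct.rid k K K).trans (oneByOne K)⟩⟩

theorem SplitsBy.tensor (hX : SplitsBy k X K) (hY : SplitsBy k Y K) :
    SplitsBy k (X ⊗[k] Y) K := by
  obtain ⟨a, ha, ⟨eX⟩⟩ := hX
  obtain ⟨b, hb, ⟨eY⟩⟩ := hY
  refine ⟨a * b, Nat.mul_ne_zero ha hb, ⟨?_⟩⟩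
  exact (Algebra.TensorProduct.assoc k k K K X Y).symm.trans
    ((Algebra.TensorProduct.congr (Algebra.TensorProduct.rid K K (K ⊗[k] X)).symm
        (AlgEquiv.refl : Y ≃ₐ[k] Y)).trans
      ((Algebra.TensorProduct.assoc k K K (K ⊗[k] X) K Y).trans
        ((Algebra.TensorProduct.congr eX eY).trans
          ((Matrix.kroneckerAlgEquiv (Fin a) (Fin b) K).trans
            (Matrix.reindexAlgEquiv K K finProdFinEquiv)))))

theorem SplitsBy.matrix (hX : SplitsBy k X K) (n : ℕ) (hn : n ≠ 0) :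
    SplitsBy k (Matrix (Fin n) (Fin n) X) K := by
  obtain ⟨a, ha, ⟨eX⟩⟩ := hX
  exact ⟨n * a, Nat.mul_ne_zero hn ha,
    ⟨(Groth.Agent.S0195.baseChangeMatrix k K X n).trans
      ((AlgEquiv.mapMatrix eX).trans ((Matrix.compAlgEquiv (Fin n) (Fin a) K K).trans
        (Matrix.reindexAlgEquiv K K finProdFinEquiv)))⟩⟩

end

section csa

variable {k : Type*} [Field k] {K : Type*} [Field K] [Algebra k K]
variable {Z : Type*} [Ring Z] [Algebra k Z]
variable {Y : Type*} [Ring Y] [Algebra k Y] [Algebra.IsCentral k Y] [IsSimpleRing Y]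
  [FiniteDimensional k Y]

theorem SplitsBy.of_matrix (hZ : SplitsBy k Z K) (m : ℕ) (hm : m ≠ 0)
    (e : Z ≃ₐ[k] Matrix (Fin m) (Fin m) Y) : SplitsBy k Y K := by
  classical
  obtain ⟨c, hc, ⟨eZ⟩⟩ := hZ
  haveI : IsSimpleRing (K ⊗[k] Y) := Groth.Agent.Lib.CSABaseChange.isSimpleRing_baseChange
  haveI := IsArtinianRing.of_finite K (K ⊗[k] Y)
  obtain ⟨r, hr, D', hD', hAlg', hfin', ⟨e₁⟩⟩ :=
    IsSimpleRing.exists_algEquiv_matrix_divisionRing_finite K (K ⊗[k] Y)
  have hr0 : r ≠ 0 := hr.out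
  obtain ⟨E₁, -⟩ : ∃ E₁ : K ⊗[k] Z ≃ₐ[K] Matrix (Fin (m * r)) (Fin (m * r)) D', True :=
    ⟨(Algebra.TensorProduct.congr (AlgEquiv.refl : K ≃ₐ[K] K) e).trans
      ((Groth.Agent.S0195.baseChangeMatrix k K Y m).trans
        ((AlgEquiv.mapMatrix e₁).trans ((Matrix.compAlgEquiv (Fin m) (Fin r) D' K).trans
          (Matrix.reindexAlgEquiv K D' finProdFinEquiv)))), trivial⟩
  obtain ⟨φ⟩ := Groth.Agent.Lib.CSAUnique.nonempty_algEquiv (m * r) c
    (Nat.mul_ne_zero hm hr0) hc (E₁.symm.trans eZ)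
  exact ⟨r, hr0, ⟨e₁.trans (AlgEquiv.mapMatrix φ)⟩⟩

theorem SplitsBy.of_brauer {X : Type*} [Ring X] [Algebra k X] (hX : SplitsBy k X K)
    (n m : ℕ) (hn : n ≠ 0) (hm : m ≠ 0)
    (e : Matrix (Fin n) (Fin n) X ≃ₐ[k] Matrix (Fin m) (Fin m) Y) : SplitsBy k Y K :=
  (hX.matrix n hn).of_matrix m hm e

end csa

section tpow

variable (k : Type u) [Field k] {K : Type*} [Field K] [Algebra k K]
variable (X : Type v) [Ring X] [Algebra k X]

theorem SplitsBy.tpow (hX : SplitsBy k X K) (e : ℕ) : SplitsBy k (TP k X e) K := by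
  induction e with
  | zero => exact SplitsBy.self.congr (tpowZero k X).symm
  | succ e ih =>
    exact (ih.tensor hX).congr
      ((Algebra.TensorProduct.congr AlgEquiv.refl (tpowOne k X)).trans (tpowAdd k X e 1))

end tpow

section index

variable (k : Type*) [Field k]

/-- the degree of a division algebra divides the degree of any finite splitting field. -/
theorem dvd_of_splitsBy (D : Type*) [DivisionRing D] [Algebra k D] [FiniteDimensional k D]
    (d : ℕ) (hd : Module.finrank k D = d ^ 2)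
    (K : Type*) [Field K] [Algebra k K] [FiniteDimensional k K] (hs : SplitsBy k D K) :
    d ∣ Module.finrank k K := by
  classical
  obtain ⟨n, hn, ⟨e⟩⟩ := hs
  have hnd : n = d := by
    have h1 : Module.finrank K (K ⊗[k] D) = n * n := by
      rw [e.toLinearEquiv.finrank_eq, Module.finrank_matrix, Module.finrank_self,
        Fintype.card_fin, mul_one]
    rw [Module.finrank_baseChange, hd, pow_two] at h1
    exact (Nat.mul_self_inj.1 h1).symm
  subst hnd
  obtain ⟨ρ, hρ⟩ : ∃ ρ : D →ₐ[k] Module.End k (Fin n → K),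
      ρ = (Algebra.lsmul k k (Fin n → K)).comp
        (((e.restrictScalars k) : K ⊗[k] D ≃ₐ[k] Matrix (Fin n) (Fin n) K).toAlgHom.comp
          (Algebra.TensorProduct.includeRight : D →ₐ[k] K ⊗[k] D)) := ⟨_, rfl⟩
  have h1 := Module.finrank_mul_finrank k D (Groth.Agent.Lib.CSAModule.RepMod ρ)
  rw [Groth.Agent.Lib.CSAModule.RepMod.finrank_eq, Groth.Agent.Lib.CSAModule.finrank_fun,
    hd, pow_two, mul_assoc] at h1
  have h2 : n * Module.finrank D (Groth.Agent.Lib.CSAModule.RepMod ρ) = Module.finrank k K :=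
    Nat.eq_of_mul_eq_mul_left (Nat.pos_of_ne_zero hn) h1
  exact ⟨_, h2.symm⟩

/-- a central division algebra is split by a maximal subfield, of degree the degree of `D`. -/
theorem exists_maximal_subfield (D : Type v) [DivisionRing D] [Algebra k D]
    [Algebra.IsCentral k D] [FiniteDimensional k D] :
    ∃ (K : Type v) (_ : Field K) (_ : Algebra k K), FiniteDimensional k K ∧
      Module.finrank k D = Module.finrank k K ^ 2 ∧ SplitsBy k D K := by
  classical
  obtain ⟨L, hcomm, hmax, -⟩ := Groth.Agent.S0198.result k D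
  have hdim := Groth.Agent.S0196.result k D L hcomm hmax
  letI instCR : CommRing ↥L :=
    { (inferInstance : Ring ↥L) with
      mul_comm := fun a b => Subtype.ext (hcomm a.1 a.2 b.1 b.2) }
  letI instF : Field ↥L := fieldOfFiniteDimensional k ↥L
  refine ⟨↥L, instF, inferInstance, inferInstance, hdim, ?_⟩
  obtain ⟨e⟩ := Groth.Agent.S0195.splits_of_subfield k D ↥L L.val hdim
  exact ⟨Module.finrank k ↥L, Module.finrank_pos.ne', ⟨e⟩⟩

end index

end Groth.Agent.Lib.CSASplit
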