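import Mathlib
import Groth.Agent.Lib.CSATensor_helper6
import Groth.Agent.Lib.CSACentralizer_helper6
import Groth.Agent.Lib.CSASplit_helper6
import Groth.Agent.Lib.TPow_helper6

/-!
# Brauer equivalence of algebras in arbitrary universes (helper6)
-/

namespace Groth.Agent.Lib.BrEq

open scoped TensorProduct
open MulOpposite Module
open Groth.Agent.Lib.TPow Groth.Agent.Lib.CSASplit Groth.Agent.Lib.CSATensor
  Groth.Agent.Lib.CSACentralizer

section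

variable (k : Type*) [Field k]

/-- Brauer equivalence: matrix algebras of positive sizes are isomorphic. -/
def BrEq (X Y : Type*) [Ring X] [Algebra k X] [Ring Y] [Algebra k Y] : Prop :=
  ∃ n m : ℕ, n ≠ 0 ∧ m ≠ 0 ∧
    Nonempty (Matrix (Fin n) (Fin n) X ≃ₐ[k] Matrix (Fin m) (Fin m) Y)

variable {k} {X Y Z : Type*} [Ring X] [Algebra k X] [Ring Y] [Algebra k Y] [Ring Z] [Algebra k Z]

theorem BrEq.of_algEquiv (e : X ≃ₐ[k] Y) : BrEq k X Y :=
  ⟨1, 1, one_ne_zero, one_ne_zero, ⟨AlgEquiv.mapMatrix e⟩⟩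

theorem BrEq.symm (h : BrEq k X Y) : BrEq k Y X := by
  obtain ⟨n, m, hn, hm, ⟨e⟩⟩ := h
  exact ⟨m, n, hm, hn, ⟨e.symm⟩⟩

open Matrix in
theorem BrEq.trans (hAB : BrEq k X Y) (hBC : BrEq k Y Z) : BrEq k X Z := by
  obtain ⟨n, m, hn, hm, ⟨iso1⟩⟩ := hAB
  obtain ⟨p, q, hp, hq, ⟨iso2⟩⟩ := hBC
  exact ⟨p * n, m * q, Nat.mul_ne_zero hp hn, Nat.mul_ne_zero hm hq,
    ⟨(reindexAlgEquiv k X finProdFinEquiv).symm.trans <|
      (compAlgEquiv (Fin p) (Fin n) X k).symm.trans <|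
      (iso1.mapMatrix (m := Fin p)).trans <|
      (compAlgEquiv (Fin p) (Fin m) Y k).trans <|
      (reindexAlgEquiv k Y (.prodComm (Fin p) (Fin m))).trans <|
      (compAlgEquiv (Fin m) (Fin p) Y k).symm.trans <|
      iso2.mapMatrix.trans <|
      (compAlgEquiv (Fin m) (Fin q) Z k).trans <|
      reindexAlgEquiv k Z finProdFinEquiv⟩⟩

/-- `Mₙ(X ⊗ Z) ≃ Mₙ(X) ⊗ Z`. -/
noncomputable def matTensor (n : ℕ) (X Z : Type*) [Ring X] [Algebra k X] [Ring Z] [Algebra k Z] :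
    Matrix (Fin n) (Fin n) (X ⊗[k] Z) ≃ₐ[k] Matrix (Fin n) (Fin n) X ⊗[k] Z :=
  (matrixEquivTensor (Fin n) k (X ⊗[k] Z)).trans <|
  (Algebra.TensorProduct.assoc k k k X Z (Matrix (Fin n) (Fin n) k)).trans <|
  (Algebra.TensorProduct.congr AlgEquiv.refl
    (Algebra.TensorProduct.comm k Z (Matrix (Fin n) (Fin n) k))).trans <|
  (Algebra.TensorProduct.assoc k k k X (Matrix (Fin n) (Fin n) k) Z).symm.trans <|
  Algebra.TensorProduct.congr (matrixEquivTensor (Fin n) k X).symm AlgEquiv.refl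

theorem BrEq.tensor_right (h : BrEq k X Y) (Z : Type*) [Ring Z] [Algebra k Z] :
    BrEq k (X ⊗[k] Z) (Y ⊗[k] Z) := by
  obtain ⟨n, m, hn, hm, ⟨e⟩⟩ := h
  exact ⟨n, m, hn, hm, ⟨(matTensor n X Z).trans
    ((Algebra.TensorProduct.congr e AlgEquiv.refl).trans (matTensor m Y Z).symm)⟩⟩

theorem spl_iff_splitsBy : Spl k X ↔ SplitsBy k X k := by
  constructor
  · rintro ⟨n, hn, ⟨e⟩⟩
    exact ⟨n, hn, ⟨(Algebra.TensorProduct.lid k X).trans e⟩⟩
  · rintro ⟨n, hn, ⟨e⟩⟩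
    exact ⟨n, hn, ⟨(Algebra.TensorProduct.lid k X).symm.trans e⟩⟩

theorem BrEq.spl [Algebra.IsCentral k Y] [IsSimpleRing Y] [FiniteDimensional k Y]
    (h : BrEq k X Y) (hX : Spl k X) : Spl k Y := by
  obtain ⟨n, m, hn, hm, ⟨e⟩⟩ := h
  exact spl_iff_splitsBy.2 ((spl_iff_splitsBy.1 hX).of_brauer n m hn hm e)

/-- `Sᵐᵒᵖ ⊗ S` is split for `S` central simple. -/
theorem spl_op_tensor_self (S : Type*) [Ring S] [Algebra k S] [Algebra.IsCentral k S]
    [IsSimpleRing S] [FiniteDimensional k S] : Spl k (Sᵐᵒᵖ ⊗[k] S) := by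
  classical
  haveI : IsSimpleRing (Sᵐᵒᵖ ⊗[k] S) := isSimpleRing_tensor
  haveI : FiniteDimensional k Sᵐᵒᵖ := Module.Finite.equiv (MulOpposite.opLinearEquiv k)
  have hinj : Function.Injective (rho (AlgHom.id k S)) :=
    RingHom.injective (rho (AlgHom.id k S) : Sᵐᵒᵖ ⊗[k] S →+* Module.End k S)
  have hfin : finrank k (Sᵐᵒᵖ ⊗[k] S) = finrank k (Module.End k S) := by
    rw [Module.finrank_tensorProduct,
      ← (MulOpposite.opLinearEquiv k : S ≃ₗ[k] Sᵐᵒᵖ).finrank_eq, Module.finrank_linearMap]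
  have hsurj : Function.Surjective (rho (AlgHom.id k S)) :=
    (LinearMap.injective_iff_surjective_of_finrank_eq_finrank
      (f := (rho (AlgHom.id k S)).toLinearMap) hfin).1 hinj
  exact ⟨finrank k S, (finrank_pos).ne',
    ⟨(AlgEquiv.ofBijective _ ⟨hinj, hsurj⟩).trans (algEquivMatrix (Module.finBasis k S))⟩⟩

/-- if `Sᵐᵒᵖ ⊗ X` is split then `X` is Brauer equivalent to `S`. -/
theorem brEq_of_spl_op (X S : Type*) [Ring X] [Algebra k X] [Ring S] [Algebra k S]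
    [Algebra.IsCentral k S] [IsSimpleRing S] [FiniteDimensional k S]
    (h : Spl k (Sᵐᵒᵖ ⊗[k] X)) : BrEq k X S := by
  obtain ⟨N, hN, ⟨E⟩⟩ := h
  obtain ⟨d, hd, ⟨E₀⟩⟩ := spl_op_tensor_self (k := k) S
  refine ⟨d, N, hd, hN, ⟨?_⟩⟩
  exact (matrixEquivTensor (Fin d) k X).trans <|
    (Algebra.TensorProduct.congr AlgEquiv.refl E₀.symm).trans <|
    (Algebra.TensorProduct.assoc k k k X Sᵐᵒᵖ S).symm.trans <|
    (Algebra.TensorProduct.congr (Algebra.TensorProduct.comm k X Sᵐᵒᵖ) AlgEquiv.refl).trans <|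
    (Algebra.TensorProduct.congr E AlgEquiv.refl).trans <|
    (Algebra.TensorProduct.comm k (Matrix (Fin N) (Fin N) k) S).trans <|
    (matrixEquivTensor (Fin N) k S).symm

end

end Groth.Agent.Lib.BrEq
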