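import Mathlib
import Groth.Agent.Lib.CSABaseChange_helper6
import Groth.Agent.S11683

/-!
# Descent of "central simple" along field extensions; splitting by the separable closure (helper6)
-/

namespace Groth.Agent.Lib.CSADescent

open TensorProduct
open scoped Classical
open Groth.Agent.Lib.CSABaseChange

universe u v

section

variable {k : Type*} [Field k] {K : Type*} [Field K] [Algebra k K] {A : Type*} [Ring A]
  [Algebra k A]

theorem exists_repr_one_ne {ι : Type*} (ℬ : Module.Basis ι k K) : ∃ j, ℬ.repr (1 : K) j ≠ 0 := by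
  have h1 : ℬ.repr (1 : K) ≠ 0 := by
    intro h
    exact one_ne_zero (ℬ.repr.map_eq_zero_iff.1 h)
  exact Finsupp.ne_iff.1 h1

theorem eq_zero_of_one_tmul_eq_zero {a : A} (h : (1 : K) ⊗ₜ[k] a = 0) : a = 0 := by
  obtain ⟨j, hj⟩ := exists_repr_one_ne (Module.Basis.ofVectorSpace k K)
  have h2 : co (Module.Basis.ofVectorSpace k K) ((1 : K) ⊗ₜ[k] a) j = 0 := by
    rw [h, map_zero, Finsupp.zero_apply]
  rw [co_tmul] at h2
  exact (smul_eq_zero.1 h2).resolve_left hj

theorem isCentral_of_baseChange [Algebra.IsCentral K (K ⊗[k] A)] : Algebra.IsCentral k A := by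
  constructor
  intro z hz
  rw [Subalgebra.mem_center_iff] at hz
  have hcen : (1 : K) ⊗ₜ[k] z ∈ Subalgebra.center K (K ⊗[k] A) := by
    rw [Subalgebra.mem_center_iff]
    intro y
    induction y using TensorProduct.induction_on with
    | zero => simp
    | tmul l a =>
      rw [Algebra.TensorProduct.tmul_mul_tmul, Algebra.TensorProduct.tmul_mul_tmul, mul_one,
        one_mul, hz a]
    | add x y hx hy => rw [add_mul, mul_add, hx, hy]
  obtain ⟨c, hc⟩ := Algebra.mem_bot.1 (Algebra.IsCentral.out hcen)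
  rw [Algebra.TensorProduct.algebraMap_apply, Algebra.algebraMap_self_apply] at hc
  obtain ⟨j, hj⟩ := exists_repr_one_ne (Module.Basis.ofVectorSpace k K)
  have h2 := congrArg (fun x => co (Module.Basis.ofVectorSpace k K) x j) hc
  simp only [co_tmul] at h2
  rw [Algebra.mem_bot]
  refine ⟨((Module.Basis.ofVectorSpace k K).repr 1 j)⁻¹ *
    (Module.Basis.ofVectorSpace k K).repr c j, ?_⟩
  rw [Algebra.algebraMap_eq_smul_one, mul_smul, h2, smul_smul, inv_mul_cancel₀ hj, one_smul]

theorem isSimpleRing_of_baseChange [IsSimpleRing (K ⊗[k] A)] : IsSimpleRing A := by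
  haveI : Nontrivial A := by
    by_contra h
    rw [not_nontrivial_iff_subsingleton] at h
    haveI := h
    apply one_ne_zero (α := K ⊗[k] A)
    rw [Algebra.TensorProduct.one_def, Subsingleton.elim (1 : A) 0, TensorProduct.tmul_zero]
  apply IsSimpleRing.of_eq_bot_or_eq_top
  intro I
  obtain ⟨ℬ, -⟩ : ∃ ℬ : Module.Basis (Module.Basis.ofVectorSpaceIndex k K) k K,
      ℬ = Module.Basis.ofVectorSpace k K := ⟨_, rfl⟩
  have hsmul : ∀ (c : k) (a : A), a ∈ I → c • a ∈ I := fun c a ha => by
    rw [Algebra.smul_def]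
    exact I.mul_mem_left _ _ ha
  have hsum : ∀ (s : Finset (Module.Basis.ofVectorSpaceIndex k K))
      (g : Module.Basis.ofVectorSpaceIndex k K → A), (∀ i ∈ s, g i ∈ I) → ∑ i ∈ s, g i ∈ I := by
    intro s g
    induction s using Finset.induction_on with
    | empty => intro _; rw [Finset.sum_empty]; exact I.zero_mem
    | insert a s ha ih =>
      intro h
      rw [Finset.sum_insert ha]
      exact I.add_mem (h a (Finset.mem_insert_self a s))
        (ih (fun i hi => h i (Finset.mem_insert_of_mem hi)))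
  have hleft : ∀ (y x : K ⊗[k] A), (∀ j, co ℬ x j ∈ I) → ∀ j, co ℬ (y * x) j ∈ I := by
    intro y x hx
    induction y using TensorProduct.induction_on with
    | zero =>
      intro j
      rw [zero_mul, map_zero, Finsupp.zero_apply]
      exact I.zero_mem
    | tmul l a =>
      intro j
      rw [eq_sum_co ℬ x, Finset.mul_sum, map_sum, Finsupp.finset_sum_apply]
      apply hsum
      intro i _
      rw [Algebra.TensorProduct.tmul_mul_tmul, co_tmul]
      exact hsmul _ _ (I.mul_mem_left _ _ (hx i))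
    | add y₁ y₂ h₁ h₂ =>
      intro j
      rw [add_mul, map_add, Finsupp.add_apply]
      exact I.add_mem (h₁ j) (h₂ j)
  have hright : ∀ (y x : K ⊗[k] A), (∀ j, co ℬ x j ∈ I) → ∀ j, co ℬ (x * y) j ∈ I := by
    intro y x hx
    induction y using TensorProduct.induction_on with
    | zero =>
      intro j
      rw [mul_zero, map_zero, Finsupp.zero_apply]
      exact I.zero_mem
    | tmul l a =>
      intro j
      rw [eq_sum_co ℬ x, Finset.sum_mul, map_sum, Finsupp.finset_sum_apply]
      apply hsum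
      intro i _
      rw [Algebra.TensorProduct.tmul_mul_tmul, co_tmul]
      exact hsmul _ _ (I.mul_mem_right _ _ (hx i))
    | add y₁ y₂ h₁ h₂ =>
      intro j
      rw [mul_add, map_add, Finsupp.add_apply]
      exact I.add_mem (h₁ j) (h₂ j)
  obtain ⟨J, hJ⟩ : ∃ J : TwoSidedIdeal (K ⊗[k] A), ∀ x, x ∈ J ↔ ∀ j, co ℬ x j ∈ I := by
    refine ⟨TwoSidedIdeal.mk' {x | ∀ j, co ℬ x j ∈ I} ?_ ?_ ?_ ?_ ?_, fun x => ?_⟩
    · intro j
      rw [map_zero, Finsupp.zero_apply]
      exact I.zero_mem
    · intro x y hx hy j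
      rw [map_add, Finsupp.add_apply]
      exact I.add_mem (hx j) (hy j)
    · intro x hx j
      rw [map_neg, Finsupp.neg_apply]
      exact I.neg_mem (hx j)
    · intro x y hy
      exact hleft x y hy
    · intro x y hx
      exact hright y x hx
    · rw [TwoSidedIdeal.mem_mk']
      rfl
  obtain ⟨j0, hj0⟩ := exists_repr_one_ne ℬ
  rcases eq_bot_or_eq_top J with h | h
  · left
    rw [eq_bot_iff]
    intro a ha
    rw [TwoSidedIdeal.mem_bot]
    have h1 : (1 : K) ⊗ₜ[k] a ∈ J := by
      rw [hJ]
      intro j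
      rw [co_tmul]
      exact hsmul _ _ ha
    rw [h, TwoSidedIdeal.mem_bot] at h1
    exact eq_zero_of_one_tmul_eq_zero h1
  · right
    rw [← TwoSidedIdeal.one_mem_iff]
    have h1 : (1 : K ⊗[k] A) ∈ J := by rw [h]; exact TwoSidedIdeal.mem_top _
    rw [hJ] at h1
    have h2 := h1 j0
    rw [Algebra.TensorProduct.one_def, co_tmul] at h2
    have h3 := hsmul (ℬ.repr (1 : K) j0)⁻¹ _ h2
    rwa [smul_smul, inv_mul_cancel₀ hj0, one_smul] at h3

theorem finiteDimensional_of_baseChange [FiniteDimensional K (K ⊗[k] A)] :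
    FiniteDimensional k A := by
  haveI : Finite (Module.Basis.ofVectorSpaceIndex k A) :=
    Module.Finite.finite_basis (Algebra.TensorProduct.basis K (Module.Basis.ofVectorSpace k A))
  exact Module.Finite.of_basis (Module.Basis.ofVectorSpace k A)

/-- an algebra split by a field extension is finite central simple. -/
theorem csa_of_split (n : ℕ) (hn : n ≠ 0)
    (e : K ⊗[k] A ≃ₐ[K] Matrix (Fin n) (Fin n) K) :
    Algebra.IsCentral k A ∧ IsSimpleRing A ∧ FiniteDimensional k A := by
  haveI : Nonempty (Fin n) := ⟨⟨0, Nat.pos_of_ne_zero hn⟩⟩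
  haveI : Algebra.IsCentral K (K ⊗[k] A) := by
    constructor
    intro z hz
    rw [Subalgebra.mem_center_iff] at hz
    have h1 : e z ∈ Subalgebra.center K (Matrix (Fin n) (Fin n) K) := by
      rw [Subalgebra.mem_center_iff]
      intro b
      have h2 := hz (e.symm b)
      have h3 := congrArg e h2
      rwa [map_mul, map_mul, e.apply_symm_apply] at h3
    obtain ⟨c, hc⟩ := Algebra.mem_bot.1 (Algebra.IsCentral.out h1)
    rw [Algebra.mem_bot]
    refine ⟨c, ?_⟩
    apply e.injective
    rw [AlgEquiv.commutes, hc]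
  haveI : IsSimpleRing (K ⊗[k] A) := IsSimpleRing.of_ringEquiv e.symm.toRingEquiv inferInstance
  haveI : FiniteDimensional K (K ⊗[k] A) := Module.Finite.equiv e.symm.toLinearEquiv
  exact ⟨isCentral_of_baseChange (k := k) (K := K) (A := A),
    isSimpleRing_of_baseChange (k := k) (K := K) (A := A),
    finiteDimensional_of_baseChange (k := k) (K := K) (A := A)⟩

/-- a finite central simple algebra is split by a separably closed extension. -/
theorem exists_split_of_isSepClosed (K : Type*) [Field K] [Algebra k K] [IsSepClosed K]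
    [Algebra.IsCentral k A] [IsSimpleRing A] [FiniteDimensional k A] :
    ∃ n : ℕ, n ≠ 0 ∧ Nonempty (K ⊗[k] A ≃ₐ[K] Matrix (Fin n) (Fin n) K) := by
  haveI : Algebra.IsCentral K (K ⊗[k] A) := isCentral_baseChange
  haveI : IsSimpleRing (K ⊗[k] A) := isSimpleRing_baseChange
  obtain ⟨n, ⟨e⟩⟩ := Groth.Agent.S11683.result K (K ⊗[k] A)
  refine ⟨n, ?_, ⟨e⟩⟩
  rintro rfl
  exact not_subsingleton (K ⊗[k] A) e.toEquiv.subsingleton

end

end Groth.Agent.Lib.CSADescent
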