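import Mathlib
import Groth.Agent.Lib.CSADescent_helper6

/-!
# Every finite central simple algebra is split by a finite Galois extension (helper6)
-/

namespace Groth.Agent.Lib.CSAGalois

open TensorProduct IntermediateField
open scoped Classical
open Groth.Agent.Lib.CSABaseChange Groth.Agent.Lib.CSADescent

universe u v

theorem exists_galois_split (k : Type u) [Field k] (A : Type v) [Ring A] [Algebra k A]
    [Algebra.IsCentral k A] [IsSimpleRing A] [FiniteDimensional k A] :
    ∃ (F : IntermediateField k (SeparableClosure k)), FiniteDimensional k F ∧ IsGalois k F ∧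
      ∃ n : ℕ, n ≠ 0 ∧ Nonempty (F ⊗[k] A ≃ₐ[F] Matrix (Fin n) (Fin n) F) := by
  obtain ⟨n, hn, ⟨e⟩⟩ := exists_split_of_isSepClosed (k := k) (A := A) (SeparableClosure k)
  haveI : Nonempty (Fin n) := ⟨⟨0, Nat.pos_of_ne_zero hn⟩⟩
  obtain ⟨ρK, -⟩ : ∃ ρK : A →ₐ[k] Matrix (Fin n) (Fin n) (SeparableClosure k), True :=
    ⟨((e.restrictScalars k).toAlgHom.comp
      (Algebra.TensorProduct.includeRight : A →ₐ[k] SeparableClosure k ⊗[k] A)), trivial⟩
  obtain ⟨b, -⟩ : ∃ b : Module.Basis (Fin (Module.finrank k A)) k A, True :=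
    ⟨Module.finBasis k A, trivial⟩
  obtain ⟨S, hS⟩ : ∃ S : Set (SeparableClosure k), S = Set.range
      (fun t : Fin (Module.finrank k A) × Fin n × Fin n => ρK (b t.1) t.2.1 t.2.2) := ⟨_, rfl⟩
  haveI : Finite S := by
    rw [hS]
    exact (Set.finite_range _).to_subtype
  haveI : FiniteDimensional k (adjoin k S) :=
    finiteDimensional_adjoin (fun x _ => Algebra.IsIntegral.isIntegral x)
  obtain ⟨F, hF⟩ : ∃ F : IntermediateField k (SeparableClosure k),
      F = normalClosure k (adjoin k S) (SeparableClosure k) := ⟨_, rfl⟩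
  haveI : FiniteDimensional k F := by
    rw [hF]
    exact normalClosure.is_finiteDimensional k (adjoin k S) (SeparableClosure k)
  haveI : Normal k F := by
    rw [hF]
    exact normalClosure.normal k (adjoin k S) (SeparableClosure k)
  haveI : IsGalois k F := IsGalois.mk
  have hSF : ∀ x ∈ S, x ∈ F := fun x hx => by
    rw [hF]
    exact (le_normalClosure (adjoin k S)) (subset_adjoin k S hx)
  have hent : ∀ (a : A) (p q : Fin n), ρK a p q ∈ F := by
    intro a p q
    rw [← b.sum_repr a, map_sum, Matrix.sum_apply]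
    apply sum_mem
    intro i _
    rw [map_smul, Matrix.smul_apply, Algebra.smul_def]
    refine F.mul_mem (F.algebraMap_mem _) (hSF _ ?_)
    rw [hS]
    exact ⟨(i, p, q), rfl⟩
  obtain ⟨ι, hι⟩ : ∃ ι : Matrix (Fin n) (Fin n) F →ₐ[k] Matrix (Fin n) (Fin n) (SeparableClosure k),
      ι = (F.val).mapMatrix := ⟨_, rfl⟩
  have hιinj : Function.Injective ι := by
    intro M N hMN
    refine Matrix.ext fun p q => Subtype.ext ?_
    have h := congrFun (congrFun hMN p) q
    rw [hι] at h
    simpa [AlgHom.mapMatrix_apply] using h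
  have hrange : ∀ a : A, ρK a ∈ ι.range := by
    intro a
    refine ⟨Matrix.of fun p q => ⟨ρK a p q, hent a p q⟩, ?_⟩
    rw [hι]
    ext p q
    rfl
  obtain ⟨ρ, -⟩ : ∃ ρ : A →ₐ[k] Matrix (Fin n) (Fin n) F, True :=
    ⟨(AlgEquiv.ofInjective ι hιinj).symm.toAlgHom.comp (ρK.codRestrict ι.range hrange), trivial⟩
  obtain ⟨Ψ, -⟩ : ∃ Ψ : F ⊗[k] A →ₐ[F] Matrix (Fin n) (Fin n) F, True :=
    ⟨Algebra.TensorProduct.lift (Algebra.ofId F _) ρ (fun x y => Algebra.commutes x (ρ y)),
      trivial⟩
  haveI : IsSimpleRing (F ⊗[k] A) := isSimpleRing_baseChange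
  have hinj : Function.Injective Ψ :=
    RingHom.injective Ψ.toRingHom
  have hdimA : Module.finrank k A = n * n := by
    rw [← Module.finrank_baseChange (R := SeparableClosure k) (S := k) (M' := A),
      e.toLinearEquiv.finrank_eq, Module.finrank_matrix, Module.finrank_self, Fintype.card_fin,
      mul_one]
  have hfr : Module.finrank F (F ⊗[k] A) = Module.finrank F (Matrix (Fin n) (Fin n) F) := by
    rw [Module.finrank_baseChange, hdimA, Module.finrank_matrix, Module.finrank_self,
      Fintype.card_fin, mul_one]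
  have hsurj : Function.Surjective Ψ :=
    (LinearMap.injective_iff_surjective_of_finrank_eq_finrank hfr (f := Ψ.toLinearMap)).1 hinj
  exact ⟨F, inferInstance, inferInstance, n, hn, ⟨AlgEquiv.ofBijective Ψ ⟨hinj, hsurj⟩⟩⟩

end Groth.Agent.Lib.CSAGalois
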