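import Mathlib
import Groth.Agent.S7723
import Groth.Agent.Lib.CSADescent_helper6

/-!
# Galois data: semilinear projective representations and their fixed algebras (helper6)

For a finite Galois extension `K/k` with group `G`, a *datum* of size `ι` is a family of invertible
matrices `g σ ∈ GL_ι(K)` with `g σ * σ(g τ) = c σ τ • g (σ τ)` for scalars `c σ τ ∈ Kˣ`.
Its fixed algebra `D.alg = {M | g σ * σ(M) = M * g σ}` is a central simple `k`-algebra of degree `|ι|`
split by `K`; every such algebra arises this way.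
-/

namespace Groth.Agent.Lib.GalDatum

open Module

universe u v

variable (k : Type u) [Field k] (K : Type v) [Field K] [Algebra k K]

/-- A Galois datum (semilinear projective representation) of size `ι`. -/
structure Datum (ι : Type) [Fintype ι] [DecidableEq ι] where
  g : (K ≃ₐ[k] K) → Matrix ι ι K
  gi : (K ≃ₐ[k] K) → Matrix ι ι K
  c : (K ≃ₐ[k] K) → (K ≃ₐ[k] K) → K
  g_gi : ∀ σ, g σ * gi σ = 1
  gi_g : ∀ σ, gi σ * g σ = 1
  c_ne : ∀ σ τ, c σ τ ≠ 0
  mul : ∀ σ τ, g σ * (σ.mapMatrix (g τ)) = c σ τ • g (σ * τ)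

variable {k K}
variable {ι : Type} [Fintype ι] [DecidableEq ι]

theorem mapMatrix_mul_apply (σ τ : K ≃ₐ[k] K) (M : Matrix ι ι K) :
    (σ * τ).mapMatrix M = σ.mapMatrix (τ.mapMatrix M) := by
  ext i j
  simp [AlgEquiv.mapMatrix_apply, AlgEquiv.mul_apply]

theorem mapMatrix_one_apply (M : Matrix ι ι K) :
    (1 : K ≃ₐ[k] K).mapMatrix M = M := by
  ext i j
  simp [AlgEquiv.mapMatrix_apply]

theorem mapMatrix_smul (σ : K ≃ₐ[k] K) (x : K) (M : Matrix ι ι K) :
    σ.mapMatrix (x • M) = σ x • σ.mapMatrix M := by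
  ext i j
  simp [AlgEquiv.mapMatrix_apply]

namespace Datum

variable (D : Datum k K ι)

theorem gi_mul (σ τ : K ≃ₐ[k] K) :
    σ.mapMatrix (D.gi τ) * D.gi σ = (D.c σ τ)⁻¹ • D.gi (σ * τ) := by
  have h1 : (D.g σ * σ.mapMatrix (D.g τ)) * (σ.mapMatrix (D.gi τ) * D.gi σ) = 1 := by
    rw [mul_assoc, ← mul_assoc (σ.mapMatrix (D.g τ)), ← map_mul, D.g_gi, map_one, one_mul, D.g_gi]
  rw [D.mul] at h1
  have h2 : ((D.c σ τ)⁻¹ • D.gi (σ * τ)) * (D.c σ τ • D.g (σ * τ)) = 1 := by
    rw [smul_mul_assoc, mul_smul_comm, smul_smul, inv_mul_cancel₀ (D.c_ne σ τ), one_smul, D.gi_g]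
  calc σ.mapMatrix (D.gi τ) * D.gi σ
      = (((D.c σ τ)⁻¹ • D.gi (σ * τ)) * (D.c σ τ • D.g (σ * τ))) *
          (σ.mapMatrix (D.gi τ) * D.gi σ) := by rw [h2, one_mul]
    _ = ((D.c σ τ)⁻¹ • D.gi (σ * τ)) * 1 := by rw [mul_assoc, h1]
    _ = _ := by rw [mul_one]

theorem g_one : D.g 1 = D.c 1 1 • (1 : Matrix ι ι K) := by
  have h := D.mul 1 1
  rw [mapMatrix_one_apply, mul_one] at h
  calc D.g 1 = D.g 1 * D.g 1 * D.gi 1 := by rw [mul_assoc, D.g_gi, mul_one]
    _ = _ := by rw [h, smul_mul_assoc, D.g_gi]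

theorem gi_one : D.gi 1 = (D.c 1 1)⁻¹ • (1 : Matrix ι ι K) := by
  have h := D.gi_g 1
  rw [D.g_one, mul_smul_comm, mul_one] at h
  rw [← h, smul_smul, inv_mul_cancel₀ (D.c_ne 1 1), one_smul]

/-- the fixed algebra of a datum. -/
def alg : Subalgebra k (Matrix ι ι K) where
  carrier := {M | ∀ σ : K ≃ₐ[k] K, D.g σ * σ.mapMatrix M = M * D.g σ}
  mul_mem' := by
    intro M N hM hN σ
    rw [map_mul, ← mul_assoc, hM σ, mul_assoc, hN σ, mul_assoc]
  add_mem' := by
    intro M N hM hN σ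
    rw [map_add, mul_add, hM σ, hN σ, add_mul]
  algebraMap_mem' := by
    intro r σ
    rw [AlgEquiv.commutes]
    exact (Algebra.commutes r (D.g σ)).symm

theorem mem_alg {M : Matrix ι ι K} :
    M ∈ D.alg ↔ ∀ σ : K ≃ₐ[k] K, D.g σ * σ.mapMatrix M = M * D.g σ := Iff.rfl

/-- type synonym carrying the twisted Galois action. -/
def TwMat (_D : Datum k K ι) : Type v := Matrix ι ι K

instance : AddCommGroup (TwMat D) := inferInstanceAs (AddCommGroup (Matrix ι ι K))
instance : Module K (TwMat D) := inferInstanceAs (Module K (Matrix ι ι K))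
instance : Module k (TwMat D) := inferInstanceAs (Module k (Matrix ι ι K))
instance : IsScalarTower k K (TwMat D) := inferInstanceAs (IsScalarTower k K (Matrix ι ι K))

/-- the twisted action `σ • M = g σ * σ(M) * (g σ)⁻¹`. -/
def tw (σ : K ≃ₐ[k] K) (M : Matrix ι ι K) : Matrix ι ι K :=
  D.g σ * σ.mapMatrix M * D.gi σ

theorem tw_one (M : Matrix ι ι K) : D.tw 1 M = M := by
  rw [tw, D.g_one, D.gi_one, mapMatrix_one_apply, smul_mul_assoc, one_mul, mul_smul_comm, mul_one,
    smul_smul, inv_mul_cancel₀ (D.c_ne 1 1), one_smul]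

theorem tw_zero (σ : K ≃ₐ[k] K) : D.tw σ 0 = 0 := by
  rw [tw, map_zero, mul_zero, zero_mul]

theorem tw_add (σ : K ≃ₐ[k] K) (M N : Matrix ι ι K) : D.tw σ (M + N) = D.tw σ M + D.tw σ N := by
  rw [tw, tw, tw, map_add, mul_add, add_mul]

theorem tw_smul (σ : K ≃ₐ[k] K) (x : K) (M : Matrix ι ι K) : D.tw σ (x • M) = σ x • D.tw σ M := by
  rw [tw, tw, mapMatrix_smul, mul_smul_comm, smul_mul_assoc]

theorem tw_eq_iff (σ : K ≃ₐ[k] K) (M : Matrix ι ι K) :
    D.tw σ M = M ↔ D.g σ * σ.mapMatrix M = M * D.g σ := by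
  rw [tw]
  constructor
  · intro h
    calc D.g σ * σ.mapMatrix M = (D.g σ * σ.mapMatrix M * D.gi σ) * D.g σ := by
          rw [mul_assoc, D.gi_g, mul_one]
      _ = _ := by rw [h]
  · intro h
    rw [h, mul_assoc, D.g_gi, mul_one]

theorem tw_mul (σ τ : K ≃ₐ[k] K) (M : Matrix ι ι K) : D.tw (σ * τ) M = D.tw σ (D.tw τ M) := by
  have h1 : D.tw σ (D.tw τ M) =
      (D.g σ * σ.mapMatrix (D.g τ)) * (σ * τ).mapMatrix M * (σ.mapMatrix (D.gi τ) * D.gi σ) := by
    rw [tw, tw, map_mul, map_mul, mapMatrix_mul_apply]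
    simp only [mul_assoc]
  rw [h1, D.mul, D.gi_mul, tw, smul_mul_assoc, smul_mul_assoc, mul_smul_comm, smul_smul,
    mul_inv_cancel₀ (D.c_ne σ τ), one_smul]

instance : DistribMulAction (K ≃ₐ[k] K) (TwMat D) where
  smul σ M := D.tw σ M
  one_smul M := D.tw_one M
  mul_smul σ τ M := D.tw_mul σ τ M
  smul_zero σ := D.tw_zero σ
  smul_add σ M N := D.tw_add σ M N

theorem smul_def (σ : K ≃ₐ[k] K) (M : TwMat D) : σ • M = D.tw σ M := rfl

theorem hsemi (σ : K ≃ₐ[k] K) (x : K) (M : TwMat D) : σ • (x • M) = σ x • σ • M :=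
  D.tw_smul σ x M

theorem mem_fixedPoints_iff (M : TwMat D) :
    M ∈ MulAction.fixedPoints (K ≃ₐ[k] K) (TwMat D) ↔ ∀ σ : K ≃ₐ[k] K, D.tw σ M = M :=
  MulAction.mem_fixedPoints

theorem mem_alg_iff_tw {M : Matrix ι ι K} :
    M ∈ D.alg ↔ ∀ σ : K ≃ₐ[k] K, D.tw σ M = M := by
  rw [mem_alg]
  exact forall_congr' fun σ => (D.tw_eq_iff σ M).symm

section descent

variable [FiniteDimensional k K] [IsGalois k K]

theorem descent :
    Submodule.span K (MulAction.fixedPoints (K ≃ₐ[k] K) (TwMat D)) = ⊤ ∧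
      ∀ (κ : Type v) (v : κ → TwMat D),
        (∀ i, v i ∈ MulAction.fixedPoints (K ≃ₐ[k] K) (TwMat D)) →
        LinearIndependent k v → LinearIndependent K v :=
  Groth.Agent.S7723.result k K (TwMat D) D.hsemi

theorem span_alg : Submodule.span K (D.alg : Set (Matrix ι ι K)) = ⊤ := by
  have h := D.descent.1
  have hset : (MulAction.fixedPoints (K ≃ₐ[k] K) (TwMat D) : Set (Matrix ι ι K)) =
      (D.alg : Set (Matrix ι ι K)) := by
    ext M
    exact (D.mem_fixedPoints_iff M).trans D.mem_alg_iff_tw.symm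
  rw [← hset]
  exact h

theorem linearIndependent_of_alg {κ : Type v} (v : κ → Matrix ι ι K) (hv : ∀ i, v i ∈ D.alg)
    (h : LinearIndependent k v) : LinearIndependent K v :=
  D.descent.2 κ v (fun i => (D.mem_fixedPoints_iff (v i)).2 (D.mem_alg_iff_tw.1 (hv i))) h

/-- a `k`-basis of the fixed algebra is a `K`-basis of the matrix algebra. -/
theorem exists_basis :
    ∃ (κ : Type v) (_ : Fintype κ) (b : Basis κ k D.alg) (B : Basis κ K (Matrix ι ι K)),
      ∀ i, B i = (b i : Matrix ι ι K) := by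
  classical
  obtain ⟨b, -⟩ : ∃ b : Basis (Basis.ofVectorSpaceIndex k D.alg) k D.alg, True :=
    ⟨Basis.ofVectorSpace k D.alg, trivial⟩
  haveI : Fintype (Basis.ofVectorSpaceIndex k D.alg) := FiniteDimensional.fintypeBasisIndex b
  have hli_k : LinearIndependent k (fun i => (b i : Matrix ι ι K)) := by
    have := b.linearIndependent.map' D.alg.val.toLinearMap
      (LinearMap.ker_eq_bot.2 Subtype.val_injective)
    exact this
  have hli : LinearIndependent K (fun i => (b i : Matrix ι ι K)) :=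
    D.linearIndependent_of_alg _ (fun i => (b i).2) hli_k
  have hsp : ⊤ ≤ Submodule.span K (Set.range fun i => (b i : Matrix ι ι K)) := by
    rw [← D.span_alg]
    apply Submodule.span_le.2
    intro M hM
    have h1 : (⟨M, hM⟩ : D.alg) ∈ Submodule.span k (Set.range b) := by
      rw [b.span_eq]; trivial
    have h2 : M ∈ Submodule.span k (Set.range fun i => (b i : Matrix ι ι K)) := by
      have h3 := Submodule.apply_mem_span_image_of_mem_span D.alg.val.toLinearMap h1
      rw [← Set.range_comp] at h3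
      exact h3
    exact Submodule.span_subset_span k K _ h2
  exact ⟨_, inferInstance, b, Basis.mk hli hsp, fun i => Basis.mk_apply hli hsp i⟩

theorem finrank_alg : finrank k D.alg = Fintype.card ι * Fintype.card ι := by
  obtain ⟨κ, _, b, B, -⟩ := D.exists_basis
  rw [finrank_eq_card_basis b, ← finrank_eq_card_basis B, finrank_matrix, finrank_self, mul_one]

/-- the canonical map `K ⊗ D.alg → M_ι(K)`. -/
noncomputable def baseChangeHom : TensorProduct k K D.alg →ₐ[K] Matrix ι ι K :=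
  Algebra.TensorProduct.lift (Algebra.ofId K (Matrix ι ι K)) D.alg.val
    (fun x M => Algebra.commutes x (M : Matrix ι ι K))

theorem baseChangeHom_tmul (x : K) (M : D.alg) :
    D.baseChangeHom (x ⊗ₜ[k] M) = x • (M : Matrix ι ι K) := by
  rw [baseChangeHom, Algebra.TensorProduct.lift_tmul, Algebra.ofId_apply, Algebra.smul_def]
  rfl

theorem baseChangeHom_bijective : Function.Bijective D.baseChangeHom := by
  classical
  obtain ⟨κ, _, b, B, hB⟩ := D.exists_basis
  have h : D.baseChangeHom.toLinearMap =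
      ((Algebra.TensorProduct.basis K b).equiv B (Equiv.refl κ)).toLinearMap := by
    apply (Algebra.TensorProduct.basis K b).ext
    intro i
    rw [AlgHom.toLinearMap_apply, LinearEquiv.coe_coe, Basis.equiv_apply,
      Algebra.TensorProduct.basis_apply, baseChangeHom_tmul, one_smul, Equiv.refl_apply, hB]
  have h2 : (D.baseChangeHom : TensorProduct k K D.alg → Matrix ι ι K) =
      ((Algebra.TensorProduct.basis K b).equiv B (Equiv.refl κ)) := by
    funext x
    exact congrArg (fun f => f x) h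
  rw [h2]
  exact LinearEquiv.bijective _

/-- `K ⊗ D.alg ≅ M_ι(K)`. -/
noncomputable def baseChangeEquiv : TensorProduct k K D.alg ≃ₐ[K] Matrix ι ι K :=
  AlgEquiv.ofBijective D.baseChangeHom D.baseChangeHom_bijective

theorem csa [Nonempty ι] :
    Algebra.IsCentral k D.alg ∧ IsSimpleRing D.alg ∧ FiniteDimensional k D.alg := by
  have hn : Fintype.card ι ≠ 0 := Fintype.card_ne_zero
  exact Groth.Agent.Lib.CSADescent.csa_of_split (k := k) (K := K) (A := D.alg)
    (Fintype.card ι) hn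
    (D.baseChangeEquiv.trans (Matrix.reindexAlgEquiv K K (Fintype.equivFin ι)))

end descent

end Datum

end Groth.Agent.Lib.GalDatum
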