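import Mathlib
import Groth.Agent.Lib.GalDatum_helper6
import Groth.Agent.Lib.CSATensor_helper6

/-!
# Kronecker product of Galois data (helper6)

`(D.kron D').alg ≅ D.alg ⊗ D'.alg`, and the scalar cocycles multiply.
-/

namespace Groth.Agent.Lib.GalDatum

open Module
open scoped Kronecker TensorProduct

universe u v

variable {k : Type u} [Field k] {K : Type v} [Field K] [Algebra k K]
variable {ι ι' : Type} [Fintype ι] [DecidableEq ι] [Fintype ι'] [DecidableEq ι']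

theorem algHom_injective_of_simple {k A B : Type*} [Field k] [Ring A] [Ring B] [Algebra k A]
    [Algebra k B] [IsSimpleRing A] [Nontrivial B] (f : A →ₐ[k] B) : Function.Injective f :=
  RingHom.injective (f : A →+* B)

theorem algHom_bijective_of_simple {k A B : Type*} [Field k] [Ring A] [Ring B] [Algebra k A]
    [Algebra k B] [IsSimpleRing A] [Nontrivial B] [FiniteDimensional k A] [FiniteDimensional k B]
    (f : A →ₐ[k] B) (hdim : finrank k A = finrank k B) : Function.Bijective f := by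
  have hinj : Function.Injective f.toLinearMap := algHom_injective_of_simple f
  exact ⟨hinj, (LinearMap.injective_iff_surjective_of_finrank_eq_finrank hdim).1 hinj⟩

theorem mapMatrix_kronecker (σ : K ≃ₐ[k] K) (M : Matrix ι ι K) (N : Matrix ι' ι' K) :
    σ.mapMatrix (M ⊗ₖ N) = σ.mapMatrix M ⊗ₖ σ.mapMatrix N := by
  ext ⟨i, i'⟩ ⟨j, j'⟩
  simp [AlgEquiv.mapMatrix_apply, Matrix.kroneckerMap_apply]

namespace Datum

/-- Kronecker product of two data. -/
def kron (D : Datum k K ι) (D' : Datum k K ι') : Datum k K (ι × ι') where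
  g σ := D.g σ ⊗ₖ D'.g σ
  gi σ := D.gi σ ⊗ₖ D'.gi σ
  c σ τ := D.c σ τ * D'.c σ τ
  g_gi σ := by rw [← Matrix.mul_kronecker_mul, D.g_gi, D'.g_gi, Matrix.one_kronecker_one]
  gi_g σ := by rw [← Matrix.mul_kronecker_mul, D.gi_g, D'.gi_g, Matrix.one_kronecker_one]
  c_ne σ τ := mul_ne_zero (D.c_ne σ τ) (D'.c_ne σ τ)
  mul σ τ := by
    rw [mapMatrix_kronecker, ← Matrix.mul_kronecker_mul, D.mul, D'.mul, Matrix.smul_kronecker,
      Matrix.kronecker_smul, smul_smul]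

variable (D : Datum k K ι) (D' : Datum k K ι')

theorem kron_c (σ τ : K ≃ₐ[k] K) : (D.kron D').c σ τ = D.c σ τ * D'.c σ τ := rfl

theorem kronecker_mem {M : Matrix ι ι K} {N : Matrix ι' ι' K} (hM : M ∈ D.alg) (hN : N ∈ D'.alg) :
    M ⊗ₖ N ∈ (D.kron D').alg := by
  intro σ
  show (D.g σ ⊗ₖ D'.g σ) * σ.mapMatrix (M ⊗ₖ N) = (M ⊗ₖ N) * (D.g σ ⊗ₖ D'.g σ)
  rw [mapMatrix_kronecker, ← Matrix.mul_kronecker_mul, ← Matrix.mul_kronecker_mul, hM σ, hN σ]

/-- `M ↦ M ⊗ₖ 1`. -/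
noncomputable def kronL : D.alg →ₐ[k] Matrix (ι × ι') (ι × ι') K where
  toFun M := (M : Matrix ι ι K) ⊗ₖ (1 : Matrix ι' ι' K)
  map_one' := by
    show (1 : Matrix ι ι K) ⊗ₖ (1 : Matrix ι' ι' K) = 1
    exact Matrix.one_kronecker_one
  map_mul' M N := by
    show ((M : Matrix ι ι K) * (N : Matrix ι ι K)) ⊗ₖ (1 : Matrix ι' ι' K) = _
    conv_lhs => rw [← one_mul (1 : Matrix ι' ι' K)]
    rw [Matrix.mul_kronecker_mul]
  map_zero' := by
    show (0 : Matrix ι ι K) ⊗ₖ (1 : Matrix ι' ι' K) = 0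
    exact Matrix.zero_kronecker _
  map_add' M N := by
    show ((M : Matrix ι ι K) + (N : Matrix ι ι K)) ⊗ₖ (1 : Matrix ι' ι' K) = _
    exact Matrix.add_kronecker _ _ _
  commutes' r := by
    show (algebraMap k (Matrix ι ι K) r) ⊗ₖ (1 : Matrix ι' ι' K) = _
    rw [Algebra.algebraMap_eq_smul_one, Algebra.algebraMap_eq_smul_one, Matrix.smul_kronecker,
      Matrix.one_kronecker_one]

/-- `N ↦ 1 ⊗ₖ N`. -/
noncomputable def kronR : D'.alg →ₐ[k] Matrix (ι × ι') (ι × ι') K where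
  toFun N := (1 : Matrix ι ι K) ⊗ₖ (N : Matrix ι' ι' K)
  map_one' := by
    show (1 : Matrix ι ι K) ⊗ₖ (1 : Matrix ι' ι' K) = 1
    exact Matrix.one_kronecker_one
  map_mul' M N := by
    show (1 : Matrix ι ι K) ⊗ₖ ((M : Matrix ι' ι' K) * (N : Matrix ι' ι' K)) = _
    conv_lhs => rw [← one_mul (1 : Matrix ι ι K)]
    rw [Matrix.mul_kronecker_mul]
  map_zero' := by
    show (1 : Matrix ι ι K) ⊗ₖ (0 : Matrix ι' ι' K) = 0
    exact Matrix.kronecker_zero _
  map_add' M N := by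
    show (1 : Matrix ι ι K) ⊗ₖ ((M : Matrix ι' ι' K) + (N : Matrix ι' ι' K)) = _
    exact Matrix.kronecker_add _ _ _
  commutes' r := by
    show (1 : Matrix ι ι K) ⊗ₖ (algebraMap k (Matrix ι' ι' K) r) = _
    rw [Algebra.algebraMap_eq_smul_one, Algebra.algebraMap_eq_smul_one, Matrix.kronecker_smul,
      Matrix.one_kronecker_one]

/-- the Kronecker map `D.alg ⊗ D'.alg → M_{ι×ι'}(K)`. -/
noncomputable def kronHom : D.alg ⊗[k] D'.alg →ₐ[k] Matrix (ι × ι') (ι × ι') K :=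
  Algebra.TensorProduct.lift (D.kronL (ι' := ι')) (D'.kronR (ι := ι)) (fun M N => by
    show (M : Matrix ι ι K) ⊗ₖ (1 : Matrix ι' ι' K) * ((1 : Matrix ι ι K) ⊗ₖ (N : Matrix ι' ι' K)) =
      (1 : Matrix ι ι K) ⊗ₖ (N : Matrix ι' ι' K) * ((M : Matrix ι ι K) ⊗ₖ (1 : Matrix ι' ι' K))
    rw [← Matrix.mul_kronecker_mul, ← Matrix.mul_kronecker_mul, mul_one, one_mul, mul_one,
      one_mul])

theorem kronHom_tmul (M : D.alg) (N : D'.alg) :
    D.kronHom D' (M ⊗ₜ[k] N) = (M : Matrix ι ι K) ⊗ₖ (N : Matrix ι' ι' K) := by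
  rw [kronHom, Algebra.TensorProduct.lift_tmul]
  show (M : Matrix ι ι K) ⊗ₖ (1 : Matrix ι' ι' K) * ((1 : Matrix ι ι K) ⊗ₖ (N : Matrix ι' ι' K)) = _
  rw [← Matrix.mul_kronecker_mul, mul_one, one_mul]

theorem kronHom_mem (x : D.alg ⊗[k] D'.alg) : D.kronHom D' x ∈ (D.kron D').alg := by
  induction x using TensorProduct.induction_on with
  | zero => rw [map_zero]; exact Subalgebra.zero_mem _
  | tmul M N => rw [kronHom_tmul]; exact D.kronecker_mem D' M.2 N.2
  | add x y hx hy => rw [map_add]; exact Subalgebra.add_mem _ hx hy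

section descent

variable [FiniteDimensional k K] [IsGalois k K] [Nonempty ι] [Nonempty ι']

/-- `D.alg ⊗ D'.alg ≅ (D.kron D').alg`. -/
theorem nonempty_kronEquiv : Nonempty ((D.alg ⊗[k] D'.alg) ≃ₐ[k] (D.kron D').alg) := by
  obtain ⟨h1, h2, h3⟩ := D.csa
  obtain ⟨h1', h2', h3'⟩ := D'.csa
  haveI := h1; haveI := h2; haveI := h3; haveI := h1'; haveI := h2'; haveI := h3'
  obtain ⟨-, -, h3''⟩ := (D.kron D').csa
  haveI := h3''
  haveI : IsSimpleRing (D.alg ⊗[k] D'.alg) := Groth.Agent.Lib.CSATensor.isSimpleRing_tensor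
  obtain ⟨f, hf⟩ : ∃ f : D.alg ⊗[k] D'.alg →ₐ[k] (D.kron D').alg,
      ∀ x, (f x : Matrix (ι × ι') (ι × ι') K) = D.kronHom D' x :=
    ⟨(D.kronHom D').codRestrict _ (D.kronHom_mem D'), fun x => rfl⟩
  have hdim : finrank k (D.alg ⊗[k] D'.alg) = finrank k (D.kron D').alg := by
    rw [finrank_tensorProduct, D.finrank_alg, D'.finrank_alg, (D.kron D').finrank_alg,
      Fintype.card_prod]
    ring
  have hbij : Function.Bijective f := algHom_bijective_of_simple (k := k) (A := D.alg ⊗[k] D'.alg) (B := (D.kron D').alg) f hdim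
  exact ⟨AlgEquiv.ofBijective f hbij⟩

end descent

end Datum

end Groth.Agent.Lib.GalDatum
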