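import Mathlib
import Groth.Agent.Lib.GalDatumKron_helper6

/-!
# A Galois datum whose scalar cocycle is a coboundary has split fixed algebra (helper6)

Speiser's theorem (Hilbert 90 for `GL`), obtained from semilinear Galois descent.
-/

namespace Groth.Agent.Lib.GalDatum

open Module

universe u v

variable {k : Type u} [Field k] {K : Type v} [Field K] [Algebra k K]
variable {ι : Type} [Fintype ι] [DecidableEq ι]

namespace Datum

/-- a trivialization of the scalar cocycle of a datum. -/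
structure Triv (D : Datum k K ι) where
  d : (K ≃ₐ[k] K) → K
  d_ne : ∀ σ, d σ ≠ 0
  hd : ∀ σ τ, D.c σ τ * d (σ * τ) = d σ * σ (d τ)

variable {D : Datum k K ι} (T : D.Triv)

namespace Triv

theorem d_one : T.d 1 = D.c 1 1 := by
  have h := T.hd 1 1
  rw [mul_one, AlgEquiv.one_apply] at h
  exact (mul_right_cancel₀ (T.d_ne 1) h).symm

/-- type synonym for column vectors with the twisted action. -/
def TwVec (_T : D.Triv) : Type v := ι → K

instance : AddCommGroup (TwVec T) := inferInstanceAs (AddCommGroup (ι → K))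
instance : Module K (TwVec T) := inferInstanceAs (Module K (ι → K))
instance : Module k (TwVec T) := inferInstanceAs (Module k (ι → K))
instance : IsScalarTower k K (TwVec T) := inferInstanceAs (IsScalarTower k K (ι → K))

/-- the twisted action on vectors. -/
def twv (σ : K ≃ₐ[k] K) (w : ι → K) : ι → K :=
  (T.d σ)⁻¹ • (D.g σ).mulVec (fun i => σ (w i))

theorem map_mulVec' (σ : K ≃ₐ[k] K) (M : Matrix ι ι K) (w : ι → K) :
    (fun i => σ ((M.mulVec w) i)) = (σ.mapMatrix M).mulVec (fun i => σ (w i)) := by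
  funext i
  exact RingHom.map_mulVec (σ : K →+* K) M w i

theorem twv_one (w : ι → K) : T.twv 1 w = w := by
  rw [twv, T.d_one, D.g_one]
  funext i
  simp [Matrix.smul_mulVec, D.c_ne 1 1]

theorem twv_mul (σ τ : K ≃ₐ[k] K) (w : ι → K) : T.twv (σ * τ) w = T.twv σ (T.twv τ w) := by
  have h1 : (fun i => σ (T.twv τ w i)) =
      (σ (T.d τ))⁻¹ • (σ.mapMatrix (D.g τ)).mulVec (fun i => (σ * τ) (w i)) := by
    have h0 := map_mulVec' σ (D.g τ) (fun i => τ (w i))
    funext i
    have h0i := congrFun h0 i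
    simp only [twv, Pi.smul_apply, smul_eq_mul, map_mul, map_inv₀]
    rw [h0i]
    rfl
  rw [twv, twv, h1, Matrix.mulVec_smul, Matrix.mulVec_mulVec, D.mul, Matrix.smul_mulVec, smul_smul,
    smul_smul]
  congr 1
  have h2 := T.hd σ τ
  have hσd : σ (T.d τ) ≠ 0 := by
    rw [Ne, map_eq_zero_iff σ σ.injective]
    exact T.d_ne τ
  field_simp [T.d_ne σ, T.d_ne (σ * τ), hσd]
  rw [← h2]; ring

theorem twv_zero (σ : K ≃ₐ[k] K) : T.twv σ 0 = 0 := by
  have : (fun i => σ ((0 : ι → K) i)) = 0 := by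
    funext i; simp
  rw [twv, this, Matrix.mulVec_zero, smul_zero]

theorem twv_add (σ : K ≃ₐ[k] K) (w w' : ι → K) : T.twv σ (w + w') = T.twv σ w + T.twv σ w' := by
  have : (fun i => σ ((w + w') i)) = (fun i => σ (w i)) + (fun i => σ (w' i)) := by
    funext i; simp
  rw [twv, twv, twv, this, Matrix.mulVec_add, smul_add]

theorem twv_smul (σ : K ≃ₐ[k] K) (x : K) (w : ι → K) : T.twv σ (x • w) = σ x • T.twv σ w := by
  have : (fun i => σ ((x • w) i)) = σ x • (fun i => σ (w i)) := by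
    funext i; simp
  rw [twv, twv, this, Matrix.mulVec_smul, smul_comm]

instance : DistribMulAction (K ≃ₐ[k] K) (TwVec T) where
  smul σ w := T.twv σ w
  one_smul w := T.twv_one w
  mul_smul σ τ w := T.twv_mul σ τ w
  smul_zero σ := T.twv_zero σ
  smul_add σ w w' := T.twv_add σ w w'

theorem hsemi (σ : K ≃ₐ[k] K) (x : K) (w : TwVec T) : σ • (x • w) = σ x • σ • w :=
  T.twv_smul σ x w

section descent

variable [FiniteDimensional k K] [IsGalois k K]

theorem span_fixed :
    Submodule.span K {w : ι → K | ∀ σ : K ≃ₐ[k] K, T.twv σ w = w} = ⊤ := by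
  have h := (Groth.Agent.S7723.result k K (TwVec T) T.hsemi).1
  have hset : (MulAction.fixedPoints (K ≃ₐ[k] K) (TwVec T) : Set (ι → K)) =
      {w : ι → K | ∀ σ : K ≃ₐ[k] K, T.twv σ w = w} := by
    ext w
    exact MulAction.mem_fixedPoints
  rw [← hset]
  exact h

/-- Speiser: there is an invertible matrix whose columns are fixed by the twisted action. -/
theorem exists_fixed_matrix :
    ∃ H Hi : Matrix ι ι K, H * Hi = 1 ∧ Hi * H = 1 ∧
      ∀ σ : K ≃ₐ[k] K, (T.d σ)⁻¹ • (D.g σ * σ.mapMatrix H) = H := by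
  classical
  obtain ⟨b, hbS, hbspan, hbli⟩ :=
    exists_linearIndependent K {w : ι → K | ∀ σ : K ≃ₐ[k] K, T.twv σ w = w}
  rw [T.span_fixed] at hbspan
  have hsp : ⊤ ≤ Submodule.span K (Set.range ((↑) : b → ι → K)) := by
    rw [Subtype.range_coe, hbspan]
  obtain ⟨B0, hB0⟩ : ∃ B0 : Basis b K (ι → K), ∀ i, B0 i = (i : ι → K) :=
    ⟨Basis.mk hbli hsp, fun i => Basis.mk_apply hbli hsp i⟩
  haveI : Fintype b := FiniteDimensional.fintypeBasisIndex B0
  have hcard : Fintype.card ι = Fintype.card b := by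
    rw [← finrank_eq_card_basis B0, finrank_pi]
  obtain ⟨e⟩ : Nonempty (ι ≃ b) := ⟨Fintype.equivOfCardEq hcard⟩
  obtain ⟨B, hB⟩ : ∃ B : Basis ι K (ι → K), ∀ j, B j = ((e j : b) : ι → K) :=
    ⟨B0.reindex e.symm, fun j => by rw [Basis.reindex_apply, Equiv.symm_symm, hB0]⟩
  have hBfix : ∀ j (σ : K ≃ₐ[k] K), T.twv σ (B j) = B j := by
    intro j σ
    rw [hB]
    exact hbS (e j).2 σ
  refine ⟨(Pi.basisFun K ι).toMatrix B, B.toMatrix (Pi.basisFun K ι),
    Basis.toMatrix_mul_toMatrix_flip _ _, Basis.toMatrix_mul_toMatrix_flip _ _, fun σ => ?_⟩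
  ext i j
  have h1 := congrFun (hBfix j σ) i
  rw [twv] at h1
  rw [Basis.toMatrix_apply, Pi.basisFun_repr, ← h1]
  simp only [Pi.smul_apply, Matrix.smul_apply, Matrix.mul_apply, Matrix.mulVec, dotProduct,
    AlgEquiv.mapMatrix_apply, Matrix.map_apply, Basis.toMatrix_apply, Pi.basisFun_repr]

include T in
/-- a datum with trivialized cocycle has split fixed algebra. -/
theorem nonempty_algEquiv_matrix [Nonempty ι] : Nonempty (D.alg ≃ₐ[k] Matrix ι ι k) := by
  classical
  obtain ⟨H, Hi, hHHi, hHiH, hfix⟩ := T.exists_fixed_matrix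
  obtain ⟨-, -, hfd⟩ := D.csa
  haveI := hfd
  -- σ(H) and σ(Hi)
  have hσH : ∀ σ : K ≃ₐ[k] K, σ.mapMatrix H = T.d σ • (D.gi σ * H) := by
    intro σ
    have h := hfix σ
    calc σ.mapMatrix H = D.gi σ * (D.g σ * σ.mapMatrix H) := by
          rw [← mul_assoc, D.gi_g, one_mul]
      _ = D.gi σ * (T.d σ • ((T.d σ)⁻¹ • (D.g σ * σ.mapMatrix H))) := by
          rw [smul_smul, mul_inv_cancel₀ (T.d_ne σ), one_smul]
      _ = _ := by rw [h, mul_smul_comm]
  have hσHi : ∀ σ : K ≃ₐ[k] K, σ.mapMatrix Hi = (T.d σ)⁻¹ • (Hi * D.g σ) := by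
    intro σ
    have h1 : σ.mapMatrix H * σ.mapMatrix Hi = 1 := by rw [← map_mul, hHHi, map_one]
    have h2 : ((T.d σ)⁻¹ • (Hi * D.g σ)) * σ.mapMatrix H = 1 := by
      rw [hσH, smul_mul_assoc, mul_smul_comm, smul_smul, inv_mul_cancel₀ (T.d_ne σ), one_smul,
        mul_assoc, ← mul_assoc (D.g σ), D.g_gi, one_mul, hHiH]
    calc σ.mapMatrix Hi = (((T.d σ)⁻¹ • (Hi * D.g σ)) * σ.mapMatrix H) * σ.mapMatrix Hi := by
          rw [h2, one_mul]
      _ = _ := by rw [mul_assoc, h1, mul_one]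
  -- the conjugation map
  let Ψ0 : Matrix ι ι k →ₐ[k] Matrix ι ι K :=
    { toFun := fun N => H * (Algebra.ofId k K).mapMatrix N * Hi
      map_one' := by rw [map_one, mul_one, hHHi]
      map_mul' := fun N N' => by
        rw [map_mul]
        calc H * ((Algebra.ofId k K).mapMatrix N * (Algebra.ofId k K).mapMatrix N') * Hi
            = H * (Algebra.ofId k K).mapMatrix N * (1 : Matrix ι ι K) *
                (Algebra.ofId k K).mapMatrix N' * Hi := by rw [mul_one]; simp only [mul_assoc]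
          _ = _ := by rw [← hHiH]; simp only [mul_assoc]
      map_zero' := by rw [map_zero, mul_zero, zero_mul]
      map_add' := fun N N' => by rw [map_add, mul_add, add_mul]
      commutes' := fun r => by
        rw [AlgHom.commutes, ← Algebra.commutes, mul_assoc, hHHi, mul_one] }
  have hΨ0 : ∀ N, Ψ0 N = H * (Algebra.ofId k K).mapMatrix N * Hi := fun N => rfl
  have hmapfix : ∀ (σ : K ≃ₐ[k] K) (N : Matrix ι ι k),
      σ.mapMatrix ((Algebra.ofId k K).mapMatrix N) = (Algebra.ofId k K).mapMatrix N := by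
    intro σ N
    ext i j
    simp [AlgEquiv.mapMatrix_apply, AlgHom.mapMatrix_apply, Algebra.ofId_apply]
  have hmem : ∀ N, Ψ0 N ∈ D.alg := by
    intro N σ
    rw [hΨ0, map_mul, map_mul, hσH, hσHi, hmapfix]
    simp only [smul_mul_assoc, mul_smul_comm, smul_smul]
    rw [inv_mul_cancel₀ (T.d_ne σ), one_smul]
    simp only [← mul_assoc]
    rw [D.g_gi, one_mul]
  obtain ⟨Ψ, hΨ⟩ : ∃ Ψ : Matrix ι ι k →ₐ[k] D.alg, ∀ N, (Ψ N : Matrix ι ι K) = Ψ0 N :=
    ⟨Ψ0.codRestrict _ hmem, fun N => rfl⟩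
  have hdim : finrank k (Matrix ι ι k) = finrank k D.alg := by
    rw [D.finrank_alg, finrank_matrix, finrank_self, mul_one]
  have hbij : Function.Bijective Ψ :=
    algHom_bijective_of_simple (k := k) (A := Matrix ι ι k) (B := D.alg) Ψ hdim
  exact ⟨(AlgEquiv.ofBijective Ψ hbij).symm⟩

end descent

end Triv

end Datum

end Groth.Agent.Lib.GalDatum
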