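import Mathlib
import Groth.Agent.Lib.GalDatumSplit_helper6
import Groth.Agent.Lib.TPow_helper6

/-!
# Tensor powers of fixed algebras of Galois data; torsion of the Brauer class (helper6)
-/

namespace Groth.Agent.Lib.GalDatum

open Module
open scoped TensorProduct
open Groth.Agent.Lib.TPow

universe u v w

variable {k : Type u} [Field k] {K : Type v} [Field K] [Algebra k K]
variable {ι : Type} [Fintype ι] [DecidableEq ι]

namespace Datum

variable (D : Datum k K ι)

theorem smul_cancel [Nonempty ι] (a b : K) (σ : K ≃ₐ[k] K) (h : a • D.g σ = b • D.g σ) :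
    a = b := by
  have h2 := congrArg (· * D.gi σ) h
  simp only [smul_mul_assoc, D.g_gi] at h2
  obtain ⟨i⟩ := ‹Nonempty ι›
  have := congrFun (congrFun h2 i) i
  simpa using this

/-- the 2-cocycle identity. -/
theorem cocycle [Nonempty ι] (σ τ ρ : K ≃ₐ[k] K) :
    D.c σ τ * D.c (σ * τ) ρ = σ (D.c τ ρ) * D.c σ (τ * ρ) := by
  have h1 : D.g σ * σ.mapMatrix (D.g τ) * (σ * τ).mapMatrix (D.g ρ) =
      (D.c σ τ * D.c (σ * τ) ρ) • D.g (σ * τ * ρ) := by
    rw [D.mul, smul_mul_assoc, D.mul, smul_smul]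
  have h2 : D.g σ * σ.mapMatrix (D.g τ) * (σ * τ).mapMatrix (D.g ρ) =
      (σ (D.c τ ρ) * D.c σ (τ * ρ)) • D.g (σ * τ * ρ) := by
    rw [mul_assoc (D.g σ), mapMatrix_mul_apply, ← map_mul, D.mul, mapMatrix_smul, mul_smul_comm,
      D.mul, smul_smul, ← mul_assoc σ τ ρ]
  exact D.smul_cancel _ _ _ (h1.symm.trans h2)

theorem prod_cocycle [Nonempty ι] [Fintype (K ≃ₐ[k] K)] (σ τ : K ≃ₐ[k] K) :
    D.c σ τ ^ Fintype.card (K ≃ₐ[k] K) * ∏ ρ, D.c (σ * τ) ρ =
      (∏ ρ, D.c σ ρ) * σ (∏ ρ, D.c τ ρ) := by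
  have h1 : ∏ ρ, (D.c σ τ * D.c (σ * τ) ρ) = ∏ ρ, (σ (D.c τ ρ) * D.c σ (τ * ρ)) :=
    Finset.prod_congr rfl fun ρ _ => D.cocycle σ τ ρ
  rw [Finset.prod_mul_distrib, Finset.prod_mul_distrib, Finset.prod_const, Finset.card_univ] at h1
  have h2 : ∏ ρ, D.c σ (τ * ρ) = ∏ ρ, D.c σ ρ :=
    Fintype.prod_equiv (Equiv.mulLeft τ) _ _ (fun ρ => rfl)
  rw [h1, h2, map_prod, mul_comm]

theorem det_ne (σ : K ≃ₐ[k] K) : (D.g σ).det ≠ 0 := by
  have := congrArg Matrix.det (D.g_gi σ)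
  rw [Matrix.det_mul, Matrix.det_one] at this
  exact left_ne_zero_of_mul_eq_one this

theorem det_cocycle (σ τ : K ≃ₐ[k] K) :
    D.c σ τ ^ Fintype.card ι * (D.g (σ * τ)).det = (D.g σ).det * σ ((D.g τ).det) := by
  have h := congrArg Matrix.det (D.mul σ τ)
  rw [Matrix.det_mul, Matrix.det_smul, ← AlgEquiv.map_det] at h
  exact h.symm

/-- the trivial datum of size one. -/
def unit : Datum k K Unit where
  g _ := 1
  gi _ := 1
  c _ _ := 1
  g_gi _ := one_mul 1
  gi_g _ := one_mul 1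
  c_ne _ _ := one_ne_zero
  mul σ τ := by rw [map_one, one_mul, one_smul]

section descent

variable [FiniteDimensional k K] [IsGalois k K]

theorem nonempty_unit : Nonempty (k ≃ₐ[k] (unit : Datum k K Unit).alg) := by
  obtain ⟨h1, h2, h3⟩ := (unit : Datum k K Unit).csa
  haveI := h1; haveI := h2; haveI := h3
  have hdim : finrank k k = finrank k (unit : Datum k K Unit).alg := by
    rw [finrank_alg, finrank_self]
    simp
  exact ⟨AlgEquiv.ofBijective (Algebra.ofId k (unit : Datum k K Unit).alg)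
    (algHom_bijective_of_simple (k := k) (A := k) (B := (unit : Datum k K Unit).alg) _ hdim)⟩

/-- tensor powers of the fixed algebra are fixed algebras of data with the power cocycle. -/
theorem exists_pow [Nonempty ι] {A : Type w} [Ring A] [Algebra k A] (e : A ≃ₐ[k] D.alg) (j : ℕ) :
    ∃ (ι' : Type) (_ : Fintype ι') (_ : DecidableEq ι') (_ : Nonempty ι') (D' : Datum k K ι'),
      (∀ σ τ, D'.c σ τ = D.c σ τ ^ j) ∧ Nonempty (TP k A j ≃ₐ[k] D'.alg) := by
  induction j with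
  | zero =>
    obtain ⟨e0⟩ := nonempty_unit (k := k) (K := K)
    exact ⟨Unit, inferInstance, inferInstance, inferInstance, unit,
      fun σ τ => (pow_zero _).symm, ⟨(tpowZero k A).trans e0⟩⟩
  | succ j ih =>
    obtain ⟨ι', _, _, _, D', hc', ⟨e'⟩⟩ := ih
    obtain ⟨e''⟩ := D'.nonempty_kronEquiv D
    refine ⟨ι' × ι, inferInstance, inferInstance, inferInstance, D'.kron D, fun σ τ => ?_, ?_⟩
    · rw [kron_c, hc', pow_succ]
    · exact ⟨(tpowAdd k A j 1).symm.trans
        ((Algebra.TensorProduct.congr e' ((tpowOne k A).symm.trans e)).trans e'')⟩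

/-- if the `N`-th power of the scalar cocycle is a coboundary, the `N`-th tensor power splits. -/
theorem spl_tpow [Nonempty ι] {A : Type w} [Ring A] [Algebra k A] (e : A ≃ₐ[k] D.alg) (N : ℕ)
    (d : (K ≃ₐ[k] K) → K) (d_ne : ∀ σ, d σ ≠ 0)
    (hd : ∀ σ τ, D.c σ τ ^ N * d (σ * τ) = d σ * σ (d τ)) : Spl k (TP k A N) := by
  classical
  obtain ⟨ι', _, _, _, D', hc', ⟨e'⟩⟩ := D.exists_pow e N
  obtain ⟨T, -⟩ : ∃ T : D'.Triv, True :=
    ⟨⟨d, d_ne, fun σ τ => by rw [hc']; exact hd σ τ⟩, trivial⟩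
  obtain ⟨e''⟩ := T.nonempty_algEquiv_matrix
  exact ⟨Fintype.card ι', Fintype.card_ne_zero,
    ⟨(e'.trans e'').trans (Matrix.reindexAlgEquiv k k (Fintype.equivFin ι'))⟩⟩

/-- the tensor power by the degree of the Galois extension splits. -/
theorem spl_tpow_finrank [Nonempty ι] {A : Type w} [Ring A] [Algebra k A] (e : A ≃ₐ[k] D.alg) :
    Spl k (TP k A (finrank k K)) := by
  classical
  have hN : finrank k K = Fintype.card (K ≃ₐ[k] K) := by
    rw [← IsGalois.card_aut_eq_finrank, Nat.card_eq_fintype_card]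
  rw [hN]
  exact D.spl_tpow e _ (fun σ => ∏ ρ, D.c σ ρ)
    (fun σ => Finset.prod_ne_zero_iff.2 fun ρ _ => D.c_ne σ ρ) (fun σ τ => D.prod_cocycle σ τ)

/-- the tensor power by the size of the datum splits. -/
theorem spl_tpow_card [Nonempty ι] {A : Type w} [Ring A] [Algebra k A] (e : A ≃ₐ[k] D.alg) :
    Spl k (TP k A (Fintype.card ι)) :=
  D.spl_tpow e _ (fun σ => (D.g σ).det) D.det_ne (fun σ τ => D.det_cocycle σ τ)

end descent

end Datum

end Groth.Agent.Lib.GalDatum
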