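import Mathlib
import Groth.Agent.Lib.GalDatumPow_helper6
import Groth.Agent.S15968

/-!
# Every central simple algebra split by a Galois extension is the fixed algebra of a datum (helper6)
-/

namespace Groth.Agent.Lib.GalDatum

open Module
open scoped TensorProduct

universe u v w

variable {k : Type u} [Field k] {K : Type v} [Field K] [Algebra k K]

section real

variable {A : Type w} [Ring A] [Algebra k A]

/-- the Galois action on `K ⊗ A`. -/
noncomputable def sAct (σ : K ≃ₐ[k] K) : K ⊗[k] A ≃ₐ[k] K ⊗[k] A :=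
  Algebra.TensorProduct.congr σ AlgEquiv.refl

theorem sAct_tmul (σ : K ≃ₐ[k] K) (x : K) (a : A) : sAct σ (x ⊗ₜ[k] a) = σ x ⊗ₜ[k] a := by
  simp [sAct]

theorem sAct_mul (σ τ : K ≃ₐ[k] K) (t : K ⊗[k] A) : sAct (σ * τ) t = sAct σ (sAct τ t) := by
  induction t using TensorProduct.induction_on with
  | zero => simp
  | tmul x a => rw [sAct_tmul, sAct_tmul, sAct_tmul, AlgEquiv.mul_apply]
  | add x y hx hy => rw [map_add, map_add, map_add, hx, hy]

variable {n : ℕ} (φ : K ⊗[k] A ≃ₐ[K] Matrix (Fin n) (Fin n) K)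

/-- the transported Galois action on matrices. -/
noncomputable def rhoAct (σ : K ≃ₐ[k] K) :
    Matrix (Fin n) (Fin n) K ≃ₐ[k] Matrix (Fin n) (Fin n) K :=
  ((φ.restrictScalars k).symm.trans (sAct σ)).trans (φ.restrictScalars k)

theorem rhoAct_apply (σ : K ≃ₐ[k] K) (M : Matrix (Fin n) (Fin n) K) :
    rhoAct φ σ M = φ (sAct σ (φ.symm M)) := rfl

theorem rhoAct_mul (σ τ : K ≃ₐ[k] K) (M : Matrix (Fin n) (Fin n) K) :
    rhoAct φ (σ * τ) M = rhoAct φ σ (rhoAct φ τ M) := by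
  rw [rhoAct_apply, rhoAct_apply, rhoAct_apply, sAct_mul, AlgEquiv.symm_apply_apply]

theorem rhoAct_algebraMap (σ : K ≃ₐ[k] K) (x : K) :
    rhoAct φ σ (algebraMap K _ x) = algebraMap K _ (σ x) := by
  rw [rhoAct_apply, AlgEquiv.commutes, Algebra.TensorProduct.algebraMap_apply, sAct_tmul]
  have h : (σ ((algebraMap K K) x)) ⊗ₜ[k] (1 : A) = algebraMap K (K ⊗[k] A) (σ x) := by
    rw [Algebra.TensorProduct.algebraMap_apply]; rfl
  rw [h, AlgEquiv.commutes]

theorem mapMatrix_algebraMap (σ : K ≃ₐ[k] K) (x : K) :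
    σ.mapMatrix (algebraMap K (Matrix (Fin n) (Fin n) K) x) = algebraMap K _ (σ x) := by
  ext i j
  simp [AlgEquiv.mapMatrix_apply, Matrix.algebraMap_matrix_apply]
  split_ifs <;> simp

/-- `θ_σ = ρ_σ ∘ σ⁻¹` is `K`-linear. -/
noncomputable def thetaAct (σ : K ≃ₐ[k] K) :
    Matrix (Fin n) (Fin n) K ≃ₐ[K] Matrix (Fin n) (Fin n) K :=
  AlgEquiv.ofRingEquiv (f := ((σ.symm.mapMatrix (m := Fin n)).trans (rhoAct φ σ)).toRingEquiv)
    (fun x => by
      show rhoAct φ σ (σ.symm.mapMatrix (algebraMap K _ x)) = algebraMap K _ x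
      rw [mapMatrix_algebraMap, rhoAct_algebraMap, AlgEquiv.apply_symm_apply])

theorem thetaAct_apply (σ : K ≃ₐ[k] K) (M : Matrix (Fin n) (Fin n) K) :
    thetaAct φ σ M = rhoAct φ σ (σ.symm.mapMatrix M) := rfl

theorem exists_conj (σ : K ≃ₐ[k] K) :
    ∃ g gi : Matrix (Fin n) (Fin n) K, g * gi = 1 ∧ gi * g = 1 ∧
      ∀ M, rhoAct φ σ M = g * σ.mapMatrix M * gi := by
  obtain ⟨e, he⟩ := Groth.Agent.S15968.result K (Fin n)
  obtain ⟨C, hC⟩ := Matrix.ProjGenLinGroup.mk_surjective (e.symm (thetaAct φ σ))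
  refine ⟨(C : Matrix (Fin n) (Fin n) K), ((C⁻¹ : GL (Fin n) K) : Matrix (Fin n) (Fin n) K),
    by rw [← Units.val_mul, mul_inv_cancel, Units.val_one],
    by rw [← Units.val_mul, inv_mul_cancel, Units.val_one], fun M => ?_⟩
  have h1 := he C (σ.mapMatrix M)
  rw [hC, MulEquiv.apply_symm_apply, thetaAct_apply] at h1
  rw [← h1]
  congr 1
  ext i j
  simp [AlgEquiv.mapMatrix_apply]

end real

section main

variable [FiniteDimensional k K] [IsGalois k K]
variable {A : Type w} [Ring A] [Algebra k A] [Algebra.IsCentral k A] [IsSimpleRing A]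
  [FiniteDimensional k A]

/-- a central simple algebra split by `K` is the fixed algebra of a Galois datum. -/
theorem exists_datum {n : ℕ} (hn : n ≠ 0) (φ : K ⊗[k] A ≃ₐ[K] Matrix (Fin n) (Fin n) K) :
    ∃ D : Datum k K (Fin n), Nonempty (A ≃ₐ[k] D.alg) := by
  classical
  haveI : Nonempty (Fin n) := ⟨⟨0, Nat.pos_of_ne_zero hn⟩⟩
  choose g gi hggi hgig hconj using exists_conj φ
  -- the scalars
  have hc : ∀ σ τ : K ≃ₐ[k] K, ∃ c : K, c ≠ 0 ∧ g σ * σ.mapMatrix (g τ) = c • g (σ * τ) := by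
    intro σ τ
    obtain ⟨X, hX⟩ : ∃ X, X = g σ * σ.mapMatrix (g τ) := ⟨_, rfl⟩
    obtain ⟨Y, hY⟩ : ∃ Y, Y = σ.mapMatrix (gi τ) * gi σ := ⟨_, rfl⟩
    have hXY : X * Y = 1 := by
      rw [hX, hY, mul_assoc, ← mul_assoc (σ.mapMatrix (g τ)), ← map_mul, hggi, map_one, one_mul,
        hggi]
    have hYX : Y * X = 1 := by
      rw [hX, hY, mul_assoc, ← mul_assoc (gi σ), hgig, one_mul, ← map_mul, hgig, map_one]
    have hkey : ∀ M, X * M * Y = g (σ * τ) * M * gi (σ * τ) := by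
      intro M
      obtain ⟨M0, rfl⟩ : ∃ M0, (σ * τ).mapMatrix M0 = M :=
        ⟨(σ * τ).symm.mapMatrix M, by
          ext i j
          simp [AlgEquiv.mapMatrix_apply]⟩
      have h1 := rhoAct_mul φ σ τ M0
      rw [hconj, hconj, hconj, map_mul, map_mul, ← mapMatrix_mul_apply] at h1
      rw [h1, hX, hY]
      simp only [mul_assoc]
    obtain ⟨u, hu⟩ : ∃ u, u = gi (σ * τ) * X := ⟨_, rfl⟩
    have hcomm : ∀ M, Commute M u := by
      intro M
      have h2 := hkey M
      have h3 : u * M = M * u := by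
        calc u * M = gi (σ * τ) * (X * M * Y) * X := by
              rw [hu]
              simp only [mul_assoc]
              rw [hYX, mul_one]
          _ = gi (σ * τ) * (g (σ * τ) * M * gi (σ * τ)) * X := by rw [h2]
          _ = M * u := by
              rw [hu]
              simp only [← mul_assoc]
              rw [hgig, one_mul]
      exact h3.symm
    obtain ⟨c, hcu⟩ := Matrix.mem_range_scalar_of_commute_single (fun i j _ => hcomm _)
    have hXc : X = c • g (σ * τ) := by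
      have : X = g (σ * τ) * u := by
        rw [hu, ← mul_assoc, hggi, one_mul]
      rw [this, ← hcu, Matrix.scalar_apply, ← Matrix.smul_eq_mul_diagonal]
    refine ⟨c, ?_, hX ▸ hXc⟩
    rintro rfl
    rw [zero_smul] at hXc
    rw [hXc, zero_mul] at hXY
    exact zero_ne_one hXY
  choose c hc0 hcmul using hc
  obtain ⟨D, hDg, hDgi⟩ : ∃ D : Datum k K (Fin n), D.g = g ∧ D.gi = gi :=
    ⟨⟨g, gi, c, hggi, hgig, hc0, hcmul⟩, rfl, rfl⟩
  refine ⟨D, ?_⟩
  -- the map A → D.alg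
  obtain ⟨f0, hf0⟩ : ∃ f0 : A →ₐ[k] Matrix (Fin n) (Fin n) K, ∀ a, f0 a = φ (1 ⊗ₜ[k] a) :=
    ⟨((φ.restrictScalars k) : K ⊗[k] A →ₐ[k] Matrix (Fin n) (Fin n) K).comp
      Algebra.TensorProduct.includeRight, fun a => rfl⟩
  have hmem : ∀ a, f0 a ∈ D.alg := by
    intro a σ
    have h1 : rhoAct φ σ (f0 a) = f0 a := by
      rw [rhoAct_apply, hf0, AlgEquiv.symm_apply_apply, sAct_tmul, map_one]
    rw [hconj] at h1
    rw [hDg]
    calc g σ * σ.mapMatrix (f0 a) = (g σ * σ.mapMatrix (f0 a) * gi σ) * g σ := by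
          rw [mul_assoc, hgig, mul_one]
      _ = _ := by rw [h1]
  obtain ⟨f, -⟩ : ∃ f : A →ₐ[k] D.alg, True := ⟨f0.codRestrict _ hmem, trivial⟩
  obtain ⟨-, -, hfd⟩ := D.csa
  haveI := hfd
  have hdimA : finrank k A = n * n := by
    have h1 : finrank K (K ⊗[k] A) = finrank K (Matrix (Fin n) (Fin n) K) :=
      φ.toLinearEquiv.finrank_eq
    rwa [finrank_baseChange, finrank_matrix, Fintype.card_fin, finrank_self, mul_one] at h1
  have hdim : finrank k A = finrank k D.alg := by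
    rw [hdimA, D.finrank_alg, Fintype.card_fin]
  exact ⟨AlgEquiv.ofBijective f
    (algHom_bijective_of_simple (k := k) (A := A) (B := D.alg) f hdim)⟩

end main

end Groth.Agent.Lib.GalDatum
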