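import Mathlib
import Groth.Agent.Lib.GalDatumReal_helper6

/-!
# Matrix algebras over fixed algebras of Galois data (helper6)
-/

namespace Groth.Agent.Lib.GalDatum

open Module
open scoped TensorProduct
open Groth.Agent.Lib.TPow

universe u v w

variable {k : Type u} [Field k] {K : Type v} [Field K] [Algebra k K]
variable {ι : Type} [Fintype ι] [DecidableEq ι]

namespace Datum

/-- the trivial datum of size `ι`. -/
def one (ι : Type) [Fintype ι] [DecidableEq ι] : Datum k K ι where
  g _ := 1
  gi _ := 1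
  c _ _ := 1
  g_gi _ := one_mul 1
  gi_g _ := one_mul 1
  c_ne _ _ := one_ne_zero
  mul σ τ := by rw [map_one, one_mul, one_smul]

/-- the trivialization of the trivial datum. -/
def oneTriv (ι : Type) [Fintype ι] [DecidableEq ι] : (one ι : Datum k K ι).Triv where
  d _ := 1
  d_ne _ := one_ne_zero
  hd σ τ := by
    show (1 : K) * 1 = 1 * σ 1
    rw [map_one]

variable [FiniteDimensional k K] [IsGalois k K]

/-- if `A` is the fixed algebra of a datum of size `ι`, then the `|ι|`-th tensor power of any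
matrix algebra over `A` splits. -/
theorem spl_tpow_matrix (D : Datum k K ι) [Nonempty ι] {A : Type w} [Ring A] [Algebra k A]
    (e : A ≃ₐ[k] D.alg) (m : ℕ) (hm : m ≠ 0) {B : Type w} [Ring B] [Algebra k B]
    (eB : B ≃ₐ[k] Matrix (Fin m) (Fin m) A) : Spl k (TP k B (Fintype.card ι)) := by
  classical
  haveI : Nonempty (Fin m) := ⟨⟨0, Nat.pos_of_ne_zero hm⟩⟩
  obtain ⟨e1⟩ := (oneTriv (k := k) (K := K) (Fin m)).nonempty_algEquiv_matrix
  obtain ⟨e2⟩ := D.nonempty_kronEquiv (one (k := k) (K := K) (Fin m))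
  obtain ⟨eB', -⟩ : ∃ eB' : B ≃ₐ[k] (D.kron (one (k := k) (K := K) (Fin m))).alg, True :=
    ⟨(eB.trans (matrixEquivTensor (Fin m) k A)).trans
      ((Algebra.TensorProduct.congr e e1.symm).trans e2), trivial⟩
  refine (D.kron (one (k := k) (K := K) (Fin m))).spl_tpow eB' (Fintype.card ι)
    (fun σ => (D.g σ).det) D.det_ne (fun σ τ => ?_)
  rw [kron_c]
  show (D.c σ τ * 1) ^ Fintype.card ι * _ = _
  rw [mul_one]
  exact D.det_cocycle σ τ

end Datum

end Groth.Agent.Lib.GalDatum
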