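import Mathlib
import Groth.Agent.Lib.GalDatumMat_helper6
import Groth.Agent.Lib.CSASplit_helper6
import Groth.Agent.Lib.BrEq_helper6

/-!
# Restriction of Galois data to an intermediate field (helper6)
-/

namespace Groth.Agent.Lib.GalDatum

open Module
open scoped TensorProduct
open Groth.Agent.Lib.TPow Groth.Agent.Lib.CSASplit

universe u v w

variable {k : Type u} [Field k] {K : Type v} [Field K] [Algebra k K]
variable {ι : Type} [Fintype ι] [DecidableEq ι]

namespace Datum

variable (D : Datum k K ι) (L : IntermediateField k K)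

/-- restriction of a datum to the Galois group of `K` over an intermediate field. -/
def res : Datum L K ι where
  g τ := D.g (τ.restrictScalars k)
  gi τ := D.gi (τ.restrictScalars k)
  c τ τ' := D.c (τ.restrictScalars k) (τ'.restrictScalars k)
  g_gi τ := D.g_gi _
  gi_g τ := D.gi_g _
  c_ne _ _ := D.c_ne _ _
  mul τ τ' := D.mul (τ.restrictScalars k) (τ'.restrictScalars k)

theorem res_c (τ τ' : K ≃ₐ[L] K) :
    (D.res L).c τ τ' = D.c (τ.restrictScalars k) (τ'.restrictScalars k) := rfl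

theorem res_g (τ : K ≃ₐ[L] K) : (D.res L).g τ = D.g (τ.restrictScalars k) := rfl

/-- the canonical map `L ⊗ D.alg → M_ι(K)`. -/
noncomputable def resHom : L ⊗[k] D.alg →ₐ[L] Matrix ι ι K :=
  Algebra.TensorProduct.lift (Algebra.ofId L (Matrix ι ι K)) D.alg.val
    (fun x M => Algebra.commutes x (M : Matrix ι ι K))

theorem resHom_tmul (x : L) (M : D.alg) :
    D.resHom L (x ⊗ₜ[k] M) = x • (M : Matrix ι ι K) := by
  rw [resHom, Algebra.TensorProduct.lift_tmul, Algebra.ofId_apply, Algebra.smul_def]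
  rfl

theorem resHom_mem (t : L ⊗[k] D.alg) : D.resHom L t ∈ (D.res L).alg := by
  induction t using TensorProduct.induction_on with
  | zero => rw [map_zero]; exact Subalgebra.zero_mem _
  | tmul x M =>
    rw [resHom_tmul]
    intro τ
    have h1 : τ.mapMatrix (x • (M : Matrix ι ι K)) = x • τ.mapMatrix (M : Matrix ι ι K) :=
      map_smul τ.mapMatrix x _
    have h2 : (τ.mapMatrix (M : Matrix ι ι K)) =
        (τ.restrictScalars k).mapMatrix (M : Matrix ι ι K) := rfl
    rw [h1, h2, res_g, mul_smul_comm, M.2 (τ.restrictScalars k), smul_mul_assoc]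
  | add x y hx hy => rw [map_add]; exact Subalgebra.add_mem _ hx hy

section descent

variable [FiniteDimensional k K] [IsGalois k K] [Nonempty ι]

/-- `L ⊗ D.alg ≅ (D.res L).alg`. -/
theorem nonempty_resEquiv : Nonempty (L ⊗[k] D.alg ≃ₐ[L] (D.res L).alg) := by
  obtain ⟨h1, h2, h3⟩ := D.csa
  haveI := h1; haveI := h2; haveI := h3
  obtain ⟨-, -, h3'⟩ := (D.res L).csa
  haveI := h3'
  haveI : IsSimpleRing (L ⊗[k] D.alg) :=
    Groth.Agent.Lib.CSABaseChange.isSimpleRing_baseChange
  obtain ⟨f, -⟩ : ∃ f : L ⊗[k] D.alg →ₐ[L] (D.res L).alg, True :=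
    ⟨(D.resHom L).codRestrict _ (D.resHom_mem L), trivial⟩
  have hdim : finrank L (L ⊗[k] D.alg) = finrank L (D.res L).alg := by
    rw [finrank_baseChange, D.finrank_alg, (D.res L).finrank_alg]
  exact ⟨AlgEquiv.ofBijective f
    (algHom_bijective_of_simple (k := L) (A := L ⊗[k] D.alg) (B := (D.res L).alg) f hdim)⟩

/-- `L` splits the `[K : L]`-th tensor power of the fixed algebra. -/
theorem splitsBy_tpow_finrank {A : Type w} [Ring A] [Algebra k A] (e : A ≃ₐ[k] D.alg) :
    SplitsBy k (TP k A (finrank L K)) L := by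
  classical
  obtain ⟨ι', _, _, _, D', hc', ⟨e'⟩⟩ := D.exists_pow e (finrank L K)
  obtain ⟨e''⟩ := D'.nonempty_resEquiv L
  have hN : finrank L K = Fintype.card (K ≃ₐ[L] K) := by
    rw [← IsGalois.card_aut_eq_finrank, Nat.card_eq_fintype_card]
  obtain ⟨T, -⟩ : ∃ T : (D'.res L).Triv, True :=
    ⟨⟨fun τ => ∏ ρ, (D.res L).c τ ρ,
      fun τ => Finset.prod_ne_zero_iff.2 fun ρ _ => (D.res L).c_ne τ ρ,
      fun τ τ' => by
        rw [res_c, hc', hN]
        exact (D.res L).prod_cocycle τ τ'⟩, trivial⟩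
  obtain ⟨e'''⟩ := T.nonempty_algEquiv_matrix
  exact ⟨Fintype.card ι', Fintype.card_ne_zero,
    ⟨(Algebra.TensorProduct.congr (AlgEquiv.refl : L ≃ₐ[L] L) e').trans
      ((e''.trans e''').trans (Matrix.reindexAlgEquiv L L (Fintype.equivFin ι')))⟩⟩

end descent

end Datum

end Groth.Agent.Lib.GalDatum
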