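import Mathlib
import Groth.Agent.Lib.CSASplit_helper6
import Groth.Agent.Lib.BrEq_helper6

/-!
# Cancellation for "split by `K`" and coprime exponents (helper6)
-/

namespace Groth.Agent.Lib.CSASplit

open Module
open scoped TensorProduct
open Groth.Agent.Lib.TPow

universe u v

section cancel

variable {k : Type*} [Field k] {K : Type*} [Field K] [Algebra k K]
variable {X : Type*} [Ring X] [Algebra k X]
variable {Y : Type*} [Ring Y] [Algebra k Y] [Algebra.IsCentral k Y] [IsSimpleRing Y]
  [FiniteDimensional k Y]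

theorem SplitsBy.cancel (hXY : SplitsBy k (X ⊗[k] Y) K) (hX : SplitsBy k X K) :
    SplitsBy k Y K := by
  obtain ⟨E, -⟩ : ∃ E : K ⊗[k] (X ⊗[k] Y) ≃ₐ[K] (K ⊗[k] X) ⊗[K] (K ⊗[k] Y), True :=
    ⟨(Algebra.TensorProduct.assoc k k K K X Y).symm.trans
      ((Algebra.TensorProduct.congr (Algebra.TensorProduct.rid K K (K ⊗[k] X)).symm
          (AlgEquiv.refl : Y ≃ₐ[k] Y)).trans
        (Algebra.TensorProduct.assoc k K K (K ⊗[k] X) K Y)), trivial⟩
  haveI : IsSimpleRing (K ⊗[k] Y) := Groth.Agent.Lib.CSABaseChange.isSimpleRing_baseChange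
  have h1 : Spl K ((K ⊗[k] X) ⊗[K] (K ⊗[k] Y)) := by
    obtain ⟨n, hn, ⟨φ⟩⟩ := hXY
    exact ⟨n, hn, ⟨E.symm.trans φ⟩⟩
  have h2 : Spl K (K ⊗[k] X) := hX
  exact Spl.cancel h1 h2

end cancel

section coprime

variable (k : Type u) [Field k] {L : Type*} [Field L] [Algebra k L]
variable (A : Type v) [Ring A] [Algebra k A] [Algebra.IsCentral k A] [IsSimpleRing A]
  [FiniteDimensional k A]

theorem splitsBy_of_coprime (e q : ℕ) (he : SplitsBy k (TP k A e) L)
    (hq : SplitsBy k (TP k A q) L) (hcop : Nat.Coprime e q) : SplitsBy k A L := by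
  have hadd : ∀ a b, SplitsBy k (TP k A a) L → SplitsBy k (TP k A b) L →
      SplitsBy k (TP k A (a + b)) L :=
    fun a b ha hb => (ha.tensor hb).congr (tpowAdd k A a b)
  have hcancel : ∀ a b, SplitsBy k (TP k A (a + b)) L → SplitsBy k (TP k A a) L →
      SplitsBy k (TP k A b) L := by
    intro a b hab ha
    obtain ⟨h1, h2, h3⟩ := csa_tpow k A b
    haveI := h1; haveI := h2; haveI := h3
    exact SplitsBy.cancel (hab.congr (tpowAdd k A a b).symm) ha
  have hzero : SplitsBy k (TP k A 0) L := SplitsBy.self.congr (tpowZero k A).symm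
  have hmul : ∀ (c : ℕ), SplitsBy k (TP k A c) L → ∀ u, SplitsBy k (TP k A (c * u)) L := by
    intro c hc u
    induction u with
    | zero => exact hzero
    | succ u ih => exact hadd _ _ ih hc
  have hone : SplitsBy k (TP k A 1) L → SplitsBy k A L := fun h => h.congr (tpowOne k A).symm
  rcases Nat.lt_or_ge 1 q with hq1 | hq1
  · obtain ⟨u, -, hu⟩ := Nat.exists_mul_mod_eq_one_of_coprime hcop hq1
    have h1 : SplitsBy k (TP k A (q * (e * u / q) + 1)) L := by
      have := hmul e he u
      rwa [← Nat.div_add_mod (e * u) q, hu] at this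
    exact hone (hcancel _ _ h1 (hmul q hq _))
  · interval_cases q
    · rw [Nat.coprime_zero_right] at hcop
      subst hcop
      exact hone he
    · exact hone hq

end coprime

end Groth.Agent.Lib.CSASplit
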