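import Mathlib
import Groth.Agent.Lib.GalDatumRes_helper6
import Groth.Agent.Lib.SplitsCancel_helper6
import Groth.Agent.Lib.CSAGalois_helper6
import Groth.Agent.S0195

/-!
# Index and period: `A^{⊗ ind A}` splits; period and index have the same prime factors (helper6)

Versions of S7738 / S7746 without the (unused) hypothesis that the base field is infinite, plus
existence of the index.
-/

namespace Groth.Agent.Lib.IndexPrimes

open scoped TensorProduct

universe u v

theorem spl_tpow_index (k : Type u) [Field k]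
    (A : Type v) [Ring A] [Algebra k A] [Algebra.IsCentral k A] [IsSimpleRing A] [FiniteDimensional k A]
    (D : Type v) [DivisionRing D] [Algebra k D] [Algebra.IsCentral k D] [FiniteDimensional k D]
    (m : ℕ) (e : A ≃ₐ[k] Matrix (Fin m) (Fin m) D) (d : ℕ) (hd : Module.finrank k D = d ^ 2) :
    Groth.Agent.Lib.TPow.Spl k (Groth.Agent.Lib.TPow.TP k A d) := by
  classical
  obtain ⟨F, hFfd, hFgal, n, hn, ⟨φ⟩⟩ := Groth.Agent.Lib.CSAGalois.exists_galois_split k D
  haveI := hFfd
  haveI := hFgal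
  obtain ⟨Dat, ⟨eD⟩⟩ := Groth.Agent.Lib.GalDatum.exists_datum hn φ
  haveI : Nonempty (Fin n) := ⟨⟨0, Nat.pos_of_ne_zero hn⟩⟩
  have hdimD : Module.finrank k D = n * n := by
    have h1 : Module.finrank F (F ⊗[k] D) = Module.finrank F (Matrix (Fin n) (Fin n) F) :=
      φ.toLinearEquiv.finrank_eq
    rwa [Module.finrank_baseChange, Module.finrank_matrix, Fintype.card_fin, Module.finrank_self,
      mul_one] at h1
  have hnd : n = d := by
    have h2 : n * n = d * d := by rw [← hdimD, hd, sq]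
    exact Nat.mul_self_inj.1 h2
  have hm : m ≠ 0 := by
    rintro rfl
    haveI : Subsingleton (Matrix (Fin 0) (Fin 0) D) := inferInstance
    exact not_subsingleton A (e.toEquiv.subsingleton)
  have h := Dat.spl_tpow_matrix eD m hm e
  rw [Fintype.card_fin, hnd] at h
  exact h

theorem prime_dvd_of_dvd_index (k : Type u) [Field k]
    (A : Type v) [Ring A] [Algebra k A] [Algebra.IsCentral k A] [IsSimpleRing A] [FiniteDimensional k A]
    (D : Type v) [DivisionRing D] [Algebra k D] [Algebra.IsCentral k D] [FiniteDimensional k D]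
    (m : ℕ) (iso : A ≃ₐ[k] Matrix (Fin m) (Fin m) D) (d : ℕ) (hd : Module.finrank k D = d ^ 2)
    (e : ℕ) (hsplit : Groth.Agent.Lib.TPow.Spl k (Groth.Agent.Lib.TPow.TP k A e))
    (p : ℕ) (hp : p.Prime) (hpd : p ∣ d) : p ∣ e := by
  classical
  by_contra hpe
  obtain ⟨F, hFfd, hFgal, n, hn, ⟨φ⟩⟩ := Groth.Agent.Lib.CSAGalois.exists_galois_split k D
  haveI := hFfd
  haveI := hFgal
  obtain ⟨Dat, ⟨eD⟩⟩ := Groth.Agent.Lib.GalDatum.exists_datum hn φ
  haveI : Nonempty (Fin n) := ⟨⟨0, Nat.pos_of_ne_zero hn⟩⟩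
  have hm : m ≠ 0 := by
    rintro rfl
    haveI : Subsingleton (Matrix (Fin 0) (Fin 0) D) := inferInstance
    exact not_subsingleton A (iso.toEquiv.subsingleton)
  haveI : Nonempty (Fin m) := ⟨⟨0, Nat.pos_of_ne_zero hm⟩⟩
  obtain ⟨e1⟩ := (Groth.Agent.Lib.GalDatum.Datum.oneTriv (k := k) (K := F)
    (Fin m)).nonempty_algEquiv_matrix
  obtain ⟨e2⟩ := Dat.nonempty_kronEquiv
    (Groth.Agent.Lib.GalDatum.Datum.one (k := k) (K := F) (Fin m))
  obtain ⟨eA, -⟩ : ∃ eA : A ≃ₐ[k]
      (Dat.kron (Groth.Agent.Lib.GalDatum.Datum.one (k := k) (K := F) (Fin m))).alg, True :=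
    ⟨(iso.trans (matrixEquivTensor (Fin m) k D)).trans
      ((Algebra.TensorProduct.congr eD e1.symm).trans e2), trivial⟩
  haveI : Fact p.Prime := ⟨hp⟩
  obtain ⟨P⟩ : Nonempty (Sylow p (F ≃ₐ[k] F)) := inferInstance
  obtain ⟨L, hL⟩ : ∃ L : IntermediateField k F,
      L = IntermediateField.fixedField (P : Subgroup (F ≃ₐ[k] F)) := ⟨_, rfl⟩
  have hLF : Module.finrank L F = Nat.card (P : Subgroup (F ≃ₐ[k] F)) := by
    rw [hL]
    exact IntermediateField.finrank_fixedField_eq_card _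
  have hPcard : Nat.card (P : Subgroup (F ≃ₐ[k] F)) =
      p ^ (Nat.card (F ≃ₐ[k] F)).factorization p := P.card_eq_multiplicity
  have hq : Groth.Agent.Lib.CSASplit.SplitsBy k
      (Groth.Agent.Lib.TPow.TP k A (Module.finrank L F)) L :=
    (Dat.kron (Groth.Agent.Lib.GalDatum.Datum.one (k := k) (K := F)
      (Fin m))).splitsBy_tpow_finrank L eA
  have he' : Groth.Agent.Lib.CSASplit.SplitsBy k (Groth.Agent.Lib.TPow.TP k A e) L := by
    have h0 : Groth.Agent.Lib.TPow.Spl k (Groth.Agent.Lib.TPow.TP k A e) := hsplit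
    obtain ⟨r, hr, ⟨ψ⟩⟩ := h0
    exact ((Groth.Agent.Lib.CSASplit.SplitsBy.self (k := k) (K := L)).matrix r hr).congr ψ.symm
  have hcop : Nat.Coprime e (Module.finrank L F) := by
    rw [hLF, hPcard]
    exact Nat.Coprime.pow_right _ ((Nat.Prime.coprime_iff_not_dvd hp).2 hpe).symm
  have hAL : Groth.Agent.Lib.CSASplit.SplitsBy k A L :=
    Groth.Agent.Lib.CSASplit.splitsBy_of_coprime k A e _ he' hq hcop
  have hDL : Groth.Agent.Lib.CSASplit.SplitsBy k D L := hAL.of_matrix m hm iso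
  have hdvd : d ∣ Module.finrank k L := Groth.Agent.Lib.CSASplit.dvd_of_splitsBy k D d hd L hDL
  have hmul : Module.finrank k L * Module.finrank L F = Module.finrank k F :=
    Module.finrank_mul_finrank k L F
  have hG : Nat.card (F ≃ₐ[k] F) = Module.finrank k F := IsGalois.card_aut_eq_finrank k F
  have hpL : p ∣ Module.finrank k L := dvd_trans hpd hdvd
  have hbad : p ^ ((Nat.card (F ≃ₐ[k] F)).factorization p + 1) ∣ Nat.card (F ≃ₐ[k] F) := by
    have h3 : Nat.card (F ≃ₐ[k] F) =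
        Module.finrank k L * p ^ (Nat.card (F ≃ₐ[k] F)).factorization p := by
      rw [← hPcard, ← hLF, hmul, hG]
    rw [pow_succ']
    conv_rhs => rw [h3]
    exact Nat.mul_dvd_mul hpL (dvd_refl _)
  have hne : Nat.card (F ≃ₐ[k] F) ≠ 0 := by
    rw [hG]; exact Module.finrank_pos.ne'
  exact Nat.pow_succ_factorization_not_dvd hne hp hbad

/-- existence of the index (Wedderburn), with the division algebra central of square dimension. -/
theorem exists_index (k : Type u) [Field k]
    (A : Type v) [Ring A] [Algebra k A] [Algebra.IsCentral k A] [IsSimpleRing A]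
    [FiniteDimensional k A] :
    ∃ (m : ℕ) (D : Type v) (_ : DivisionRing D) (_ : Algebra k D) (_ : Algebra.IsCentral k D)
      (_ : FiniteDimensional k D) (d : ℕ), m ≠ 0 ∧ 0 < d ∧ Module.finrank k D = d ^ 2 ∧
        Nonempty (A ≃ₐ[k] Matrix (Fin m) (Fin m) D) := by
  classical
  haveI := IsArtinianRing.of_finite k A
  obtain ⟨s, hs, D, instD, algD, hfinD, ⟨iso⟩⟩ :=
    IsSimpleRing.exists_algEquiv_matrix_divisionRing_finite k A
  have hs0 : s ≠ 0 := hs.out
  haveI : Algebra.IsCentral k (Matrix (Fin s) (Fin s) D) :=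
    Algebra.IsCentral.of_algEquiv k _ _ iso
  haveI hc : Algebra.IsCentral k D := Groth.Agent.S0195.isCentral_of_matrix k D s hs0
  obtain ⟨K, iF, iA, hfd, hdim, -⟩ := Groth.Agent.Lib.CSASplit.exists_maximal_subfield k D
  exact ⟨s, D, instD, algD, hc, hfinD, Module.finrank k K, hs0, Module.finrank_pos, hdim, ⟨iso⟩⟩

end Groth.Agent.Lib.IndexPrimes
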