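import Mathlib
import Groth.Agent.Lib.IndexPrimes_helper6
import Groth.Agent.Lib.BrEq_helper6

/-!
# Primary decomposition of central division algebras: Brauer-arithmetic part (helper6)

* `oneByOneAlg`: `X ≃ₐ[k] M₁(X)`.
* `spl_tpow_of_dvd`, `spl_tpow_deg`: `A^{⊗ e}` split when `deg A ∣ e`.
* `brEq_tensor_spl`: `X ⊗ Z ~ X` for `Z` split.
* `spl_of_brEq_coprime`: Brauer equivalent CSAs of coprime degrees are split.
* `algEquiv_of_brEq`: Brauer equivalent division algebras are isomorphic.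
-/

namespace Groth.Agent.Lib.PrimaryDecomp

open scoped TensorProduct
open Module
open Groth.Agent.Lib.TPow Groth.Agent.Lib.BrEq Groth.Agent.Lib.CSASplit
  Groth.Agent.Lib.CSATensor Groth.Agent.Lib.IndexPrimes

universe u v w

section basic

variable (k : Type u) [Field k]

/-- `X ≃ M₁(X)` -/
noncomputable def oneByOneAlg (X : Type*) [Ring X] [Algebra k X] :
    X ≃ₐ[k] Matrix (Fin 1) (Fin 1) X where
  toFun x := Matrix.of (fun _ _ => x)
  invFun M := M 0 0
  left_inv x := rfl
  right_inv M := by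
    ext i j
    fin_cases i; fin_cases j
    rfl
  map_mul' x y := by
    ext i j
    simp [Matrix.mul_apply]
  map_add' x y := by
    ext i j
    simp
  commutes' r := by
    ext i j
    fin_cases i; fin_cases j
    simp [Matrix.algebraMap_matrix_apply]

variable {k}

theorem brEq_matrix (X : Type*) [Ring X] [Algebra k X] (n : ℕ) (hn : n ≠ 0) :
    BrEq k X (Matrix (Fin n) (Fin n) X) :=
  ⟨n, 1, hn, one_ne_zero, ⟨oneByOneAlg k (Matrix (Fin n) (Fin n) X)⟩⟩

theorem brEq_of_matrix_iso {X Y : Type*} [Ring X] [Algebra k X] [Ring Y] [Algebra k Y]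
    (n : ℕ) (hn : n ≠ 0) (e : Y ≃ₐ[k] Matrix (Fin n) (Fin n) X) : BrEq k Y X :=
  (BrEq.of_algEquiv e).trans (brEq_matrix X n hn).symm

theorem BrEq.tensor_left {X Y : Type*} [Ring X] [Algebra k X] [Ring Y] [Algebra k Y]
    (h : BrEq k X Y) (Z : Type*) [Ring Z] [Algebra k Z] :
    BrEq k (Z ⊗[k] X) (Z ⊗[k] Y) :=
  (BrEq.of_algEquiv (Algebra.TensorProduct.comm k Z X)).trans
    ((h.tensor_right Z).trans (BrEq.of_algEquiv (Algebra.TensorProduct.comm k Y Z)))

/-- `X ⊗ Z ~ X` for `Z` split. -/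
theorem brEq_tensor_spl (X Z : Type*) [Ring X] [Algebra k X] [Ring Z] [Algebra k Z]
    (hZ : Spl k Z) : BrEq k (X ⊗[k] Z) X := by
  obtain ⟨n, hn, ⟨e⟩⟩ := hZ
  refine brEq_of_matrix_iso n hn ?_
  exact (Algebra.TensorProduct.congr AlgEquiv.refl e).trans (matrixEquivTensor (Fin n) k X).symm

theorem brEq_spl_tensor (X Z : Type*) [Ring X] [Algebra k X] [Ring Z] [Algebra k Z]
    (hZ : Spl k Z) : BrEq k (Z ⊗[k] X) X :=
  (BrEq.of_algEquiv (Algebra.TensorProduct.comm k Z X)).trans (brEq_tensor_spl X Z hZ)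

end basic

section tp

variable (k : Type u) [Field k]
variable (A : Type v) [Ring A] [Algebra k A] [Algebra.IsCentral k A] [IsSimpleRing A]
  [FiniteDimensional k A]

theorem spl_tpow_of_dvd (d e : ℕ) (h : Spl k (TP k A d)) (hde : d ∣ e) : Spl k (TP k A e) := by
  obtain ⟨q, rfl⟩ := hde
  induction q with
  | zero => exact Spl.self.congr (tpowZero k A).symm
  | succ q ih => exact (ih.tensor h).congr (tpowAdd k A (d * q) d)

/-- a central simple algebra of degree `N` has `A^{⊗ N}` split. -/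
theorem spl_tpow_deg (N : ℕ) (hN : finrank k A = N ^ 2) : Spl k (TP k A N) := by
  obtain ⟨m, D, _, _, _, _, d, hm, hd0, hd, ⟨iso⟩⟩ := exists_index k A
  have h1 := spl_tpow_index k A D m iso d hd
  refine spl_tpow_of_dvd k A d N h1 ?_
  have h2 : finrank k A = m * m * finrank k D := by
    rw [iso.toLinearEquiv.finrank_eq, Module.finrank_matrix, Fintype.card_fin]
  rw [hN, hd] at h2
  have h3 : N ^ 2 = (m * d) ^ 2 := by rw [h2]; ring
  have h4 : N = m * d := by
    have := Nat.pow_left_injective (n := 2) (by norm_num) h3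
    exact this
  exact ⟨m, by rw [h4, mul_comm]⟩

/-- tensor powers whose exponents are congruent mod a splitting exponent are Brauer equivalent. -/
theorem brEq_tpow_add (d : ℕ) (h : Spl k (TP k A d)) (e t : ℕ) :
    BrEq k (TP k A (e + d * t)) (TP k A e) :=
  (BrEq.of_algEquiv (tpowAdd k A e (d * t)).symm).trans
    (brEq_tensor_spl _ _ (spl_tpow_of_dvd k A d (d * t) h ⟨t, rfl⟩))

end tp

section coprime

variable (k : Type u) [Field k]

/-- Brauer equivalent division algebras are isomorphic. -/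
theorem algEquiv_of_brEq (D : Type*) [DivisionRing D] [Algebra k D] [FiniteDimensional k D]
    (D' : Type*) [DivisionRing D'] [Algebra k D'] [FiniteDimensional k D']
    (h : BrEq k D D') : Nonempty (D ≃ₐ[k] D') := by
  obtain ⟨n, m, hn, hm, ⟨e⟩⟩ := h
  exact Groth.Agent.Lib.CSAUnique.nonempty_algEquiv n m hn hm e

/-- Brauer equivalent central simple algebras of coprime degrees are split. -/
theorem spl_of_brEq_coprime
    (P : Type v) [Ring P] [Algebra k P] [Algebra.IsCentral k P] [IsSimpleRing P]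
    [FiniteDimensional k P]
    (Q : Type w) [Ring Q] [Algebra k Q] [Algebra.IsCentral k Q] [IsSimpleRing Q]
    [FiniteDimensional k Q]
    (a b : ℕ) (ha : finrank k P = a ^ 2) (hb : finrank k Q = b ^ 2) (hab : Nat.Coprime a b)
    (h : BrEq k P Q) : Spl k P := by
  obtain ⟨r, Δ, _, _, _, _, δ, hr, hδ0, hδ, ⟨iso⟩⟩ := exists_index k P
  obtain ⟨s, Δ', _, _, _, _, δ', hs, hδ0', hδ', ⟨iso'⟩⟩ := exists_index k Q
  have h1 : BrEq k Δ Δ' :=
    ((brEq_of_matrix_iso r hr iso).symm.trans h).trans (brEq_of_matrix_iso s hs iso')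
  obtain ⟨φ⟩ := algEquiv_of_brEq k Δ Δ' h1
  have hδδ : δ = δ' := by
    have h2 : δ ^ 2 = δ' ^ 2 := by rw [← hδ, ← hδ', φ.toLinearEquiv.finrank_eq]
    exact Nat.pow_left_injective (n := 2) (by norm_num) h2
  have hda : δ ∣ a := by
    have h2 : finrank k P = r * r * finrank k Δ := by
      rw [iso.toLinearEquiv.finrank_eq, Module.finrank_matrix, Fintype.card_fin]
    rw [ha, hδ] at h2
    have h3 : a ^ 2 = (r * δ) ^ 2 := by rw [h2]; ring
    have h4 : a = r * δ := Nat.pow_left_injective (n := 2) (by norm_num) h3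
    exact ⟨r, by rw [h4, mul_comm]⟩
  have hdb : δ ∣ b := by
    have h2 : finrank k Q = s * s * finrank k Δ' := by
      rw [iso'.toLinearEquiv.finrank_eq, Module.finrank_matrix, Fintype.card_fin]
    rw [hb, hδ'] at h2
    have h3 : b ^ 2 = (s * δ') ^ 2 := by rw [h2]; ring
    have h4 : b = s * δ' := Nat.pow_left_injective (n := 2) (by norm_num) h3
    exact ⟨s, by rw [h4, hδδ, mul_comm]⟩
  have hδ1 : δ = 1 := Nat.eq_one_of_dvd_coprimes hab hda hdb
  have hfr : finrank k Δ = 1 := by rw [hδ, hδ1]; norm_num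
  -- Δ ≃ k
  have hbij : Function.Bijective (algebraMap k Δ) := by
    refine ⟨(algebraMap k Δ).injective, ?_⟩
    have h2 : finrank k k = finrank k Δ := by rw [hfr, Module.finrank_self]
    exact (LinearMap.injective_iff_surjective_of_finrank_eq_finrank h2
      (f := (Algebra.linearMap k Δ))).1 (algebraMap k Δ).injective
  obtain ⟨ψ, -⟩ : ∃ ψ : k ≃ₐ[k] Δ, True := ⟨AlgEquiv.ofBijective (Algebra.ofId k Δ) hbij, trivial⟩
  exact ⟨r, hr, ⟨iso.trans (AlgEquiv.mapMatrix ψ.symm)⟩⟩

end coprime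

end Groth.Agent.Lib.PrimaryDecomp
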