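import Mathlib
import Groth.Agent.Lib.PrimaryDecomp_helper6

/-!
# Primary decomposition: centralizers and uniqueness of coprime factors (helper6)

* `comm f`: the centralizer of the image of `f : B →ₐ[k] A`.
* `tensorEquiv f : B ⊗ comm f ≃ₐ A` for `B`, `A` central simple.
* `isCentral_comm`, `isSimpleRing_comm`, `finrank_comm`.
* `unique_of_coprime`: central division algebras of degree `m` embedded in a central simple
  algebra of degree `m n`, `m` and `n` coprime, are isomorphic.
-/

namespace Groth.Agent.Lib.PrimaryDecomp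

open scoped TensorProduct
open Module MulOpposite
open Groth.Agent.Lib.TPow Groth.Agent.Lib.BrEq Groth.Agent.Lib.CSASplit
  Groth.Agent.Lib.CSATensor Groth.Agent.Lib.IndexPrimes Groth.Agent.Lib.CSACentralizer

universe u v w

section centralizer

variable {k : Type u} [Field k]
variable {A : Type v} [Ring A] [Algebra k A] [Algebra.IsCentral k A] [IsSimpleRing A]
  [FiniteDimensional k A]
variable {B : Type w} [Ring B] [Algebra k B] [Algebra.IsCentral k B] [IsSimpleRing B]

/-- the centralizer of the image of `f`. -/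
def comm (f : B →ₐ[k] A) : Subalgebra k A := Subalgebra.centralizer k (Set.range f)

theorem mem_comm (f : B →ₐ[k] A) (c : A) : c ∈ comm f ↔ ∀ b, f b * c = c * f b := by
  unfold comm
  rw [Subalgebra.mem_centralizer_iff]
  constructor
  · intro h b
    exact h (f b) ⟨b, rfl⟩
  · rintro h _ ⟨b, rfl⟩
    exact h b

theorem isSimpleRing_comm (f : B →ₐ[k] A) : IsSimpleRing ↥(comm f) :=
  (centralizer_main f (comm f) (mem_comm f)).1

theorem finrank_comm (f : B →ₐ[k] A) :
    finrank k A = finrank k B * finrank k ↥(comm f) :=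
  (centralizer_main f (comm f) (mem_comm f)).2

/-- `B ⊗ C(B) → A`. -/
noncomputable def tensorHom (f : B →ₐ[k] A) : B ⊗[k] ↥(comm f) →ₐ[k] A :=
  Algebra.TensorProduct.lift f (comm f).val (fun b c => (mem_comm f c.1).1 c.2 b)

theorem tensorHom_tmul (f : B →ₐ[k] A) (b : B) (c : ↥(comm f)) :
    tensorHom f (b ⊗ₜ[k] c) = f b * (c : A) := by
  simp [tensorHom]

theorem tensorHom_bijective (f : B →ₐ[k] A) : Function.Bijective (tensorHom f) := by
  haveI := isSimpleRing_comm f
  haveI : FiniteDimensional k B := finiteDimensional_of_algHom f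
  haveI : IsSimpleRing (↥(comm f) ⊗[k] B) := isSimpleRing_tensor
  haveI : IsSimpleRing (B ⊗[k] ↥(comm f)) :=
    IsSimpleRing.of_ringEquiv (Algebra.TensorProduct.comm k ↥(comm f) B).toRingEquiv inferInstance
  have hinj : Function.Injective (tensorHom f) :=
    RingHom.injective (tensorHom f : B ⊗[k] ↥(comm f) →+* A)
  refine ⟨hinj, ?_⟩
  have hfin : finrank k (B ⊗[k] ↥(comm f)) = finrank k A := by
    rw [Module.finrank_tensorProduct, ← finrank_comm f]
  exact (LinearMap.injective_iff_surjective_of_finrank_eq_finrank hfin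
    (f := (tensorHom f).toLinearMap)).1 hinj

noncomputable def tensorEquiv (f : B →ₐ[k] A) : B ⊗[k] ↥(comm f) ≃ₐ[k] A :=
  AlgEquiv.ofBijective (tensorHom f) (tensorHom_bijective f)

theorem isCentral_comm (f : B →ₐ[k] A) : Algebra.IsCentral k ↥(comm f) := by
  constructor
  intro z hz
  rw [Subalgebra.mem_center_iff] at hz
  -- z commutes with everything in A
  have hzA : (z : A) ∈ Subalgebra.center k A := by
    rw [Subalgebra.mem_center_iff]
    intro a
    obtain ⟨t, rfl⟩ := (tensorHom_bijective f).2 a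
    induction t using TensorProduct.induction_on with
    | zero => simp
    | tmul b c =>
      rw [tensorHom_tmul]
      have h1 : f b * (z : A) = (z : A) * f b := (mem_comm f z.1).1 z.2 b
      have h2 : (c : A) * (z : A) = (z : A) * (c : A) := congrArg Subtype.val (hz c)
      rw [mul_assoc, h2, ← mul_assoc, h1, mul_assoc]
    | add x y hx hy => rw [map_add, add_mul, mul_add, hx, hy]
  have hbot := Algebra.IsCentral.out (K := k) (D := A) hzA
  rw [Algebra.mem_bot] at hbot ⊢
  obtain ⟨r, hr⟩ := hbot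
  exact ⟨r, Subtype.ext hr⟩

end centralizer

section unique

variable (k : Type u) [Field k]

theorem isCentral_op (E : Type*) [Ring E] [Algebra k E] [Algebra.IsCentral k E] :
    Algebra.IsCentral k Eᵐᵒᵖ := by
  constructor
  intro z hz
  rw [Subalgebra.mem_center_iff] at hz
  have h1 : z.unop ∈ Subalgebra.center k E := by
    rw [Subalgebra.mem_center_iff]
    intro a
    have := hz (op a)
    have h2 := congrArg unop this
    simp only [unop_mul, unop_op] at h2
    exact h2.symm
  have hbot := Algebra.IsCentral.out (K := k) (D := E) h1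
  rw [Algebra.mem_bot] at hbot ⊢
  obtain ⟨r, hr⟩ := hbot
  refine ⟨r, ?_⟩
  apply unop_injective
  rw [← hr]
  rfl

theorem finiteDimensional_op (E : Type*) [Ring E] [Algebra k E] [FiniteDimensional k E] :
    FiniteDimensional k Eᵐᵒᵖ := Module.Finite.equiv (MulOpposite.opLinearEquiv k)

theorem finrank_op (E : Type*) [Ring E] [Algebra k E] : finrank k Eᵐᵒᵖ = finrank k E :=
  ((MulOpposite.opLinearEquiv k : E ≃ₗ[k] Eᵐᵒᵖ).finrank_eq).symm

/-- if `X ⊗ C ~ Y` with `C` central simple then `X ~ Y ⊗ Cᵐᵒᵖ`. -/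
theorem brEq_cancel_right (X : Type*) [Ring X] [Algebra k X]
    (C : Type*) [Ring C] [Algebra k C] [Algebra.IsCentral k C] [IsSimpleRing C]
    [FiniteDimensional k C] (Y : Type*) [Ring Y] [Algebra k Y]
    (h : BrEq k (X ⊗[k] C) Y) : BrEq k X (Y ⊗[k] Cᵐᵒᵖ) := by
  have hB := h.tensor_right Cᵐᵒᵖ
  have hsplC : Spl k (C ⊗[k] Cᵐᵒᵖ) :=
    (spl_op_tensor_self (k := k) C).congr (Algebra.TensorProduct.comm k _ _)
  have hCC : BrEq k ((X ⊗[k] C) ⊗[k] Cᵐᵒᵖ) X :=
    (BrEq.of_algEquiv (Algebra.TensorProduct.assoc k k k X C Cᵐᵒᵖ)).trans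
      (brEq_tensor_spl _ _ hsplC)
  exact hCC.symm.trans hB

/-- central division algebras of degree `m` inside a central simple algebra of degree `m n`
with `m`, `n` coprime are isomorphic. -/
theorem unique_of_coprime
    (D : Type v) [Ring D] [Algebra k D] [Algebra.IsCentral k D] [IsSimpleRing D]
    [FiniteDimensional k D]
    (E : Type w) [DivisionRing E] [Algebra k E] [Algebra.IsCentral k E]
    (E' : Type w) [DivisionRing E'] [Algebra k E'] [Algebra.IsCentral k E']
    (f : E →ₐ[k] D) (f' : E' →ₐ[k] D) (m n : ℕ) (hcop : Nat.Coprime m n)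
    (hD : finrank k D = (m * n) ^ 2) (hE : finrank k E = m ^ 2) (hE' : finrank k E' = m ^ 2) :
    Nonempty (E ≃ₐ[k] E') := by
  haveI : FiniteDimensional k E := finiteDimensional_of_algHom f
  haveI : FiniteDimensional k E' := finiteDimensional_of_algHom f'
  haveI := isSimpleRing_comm f
  haveI := isSimpleRing_comm f'
  haveI := isCentral_comm f
  haveI := isCentral_comm f'
  haveI := isCentral_op k E
  haveI := finiteDimensional_op k E
  haveI := isCentral_op k ↥(comm f')
  haveI := finiteDimensional_op k ↥(comm f')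
  have hm0 : m ≠ 0 := by
    rintro rfl
    have : 0 < finrank k E := finrank_pos
    rw [hE] at this
    simp at this
  have hC : finrank k ↥(comm f) = n ^ 2 := by
    have h1 := finrank_comm f
    rw [hD, hE, mul_pow] at h1
    exact (Nat.eq_of_mul_eq_mul_left (by positivity) h1).symm
  have hC' : finrank k ↥(comm f') = n ^ 2 := by
    have h1 := finrank_comm f'
    rw [hD, hE', mul_pow] at h1
    exact (Nat.eq_of_mul_eq_mul_left (by positivity) h1).symm
  -- step A
  have hA : BrEq k ((Eᵐᵒᵖ ⊗[k] E') ⊗[k] ↥(comm f')) ↥(comm f) := by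
    refine (BrEq.of_algEquiv ?_).trans
      (brEq_spl_tensor ↥(comm f) (Eᵐᵒᵖ ⊗[k] E) (spl_op_tensor_self (k := k) E))
    exact (Algebra.TensorProduct.assoc k k k Eᵐᵒᵖ E' ↥(comm f')).trans <|
      (Algebra.TensorProduct.congr AlgEquiv.refl
        ((tensorEquiv f').trans (tensorEquiv f).symm)).trans <|
      (Algebra.TensorProduct.assoc k k k Eᵐᵒᵖ E ↥(comm f)).symm
  have hPQ : BrEq k (Eᵐᵒᵖ ⊗[k] E') (↥(comm f) ⊗[k] (↥(comm f'))ᵐᵒᵖ) :=
    brEq_cancel_right k (Eᵐᵒᵖ ⊗[k] E') ↥(comm f') ↥(comm f) hA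
  haveI : Algebra.IsCentral k (Eᵐᵒᵖ ⊗[k] E') := isCentral_tensor
  haveI : IsSimpleRing (Eᵐᵒᵖ ⊗[k] E') := isSimpleRing_tensor
  haveI : Algebra.IsCentral k (↥(comm f) ⊗[k] (↥(comm f'))ᵐᵒᵖ) := isCentral_tensor
  haveI : IsSimpleRing (↥(comm f) ⊗[k] (↥(comm f'))ᵐᵒᵖ) := isSimpleRing_tensor
  have hspl : Spl k (Eᵐᵒᵖ ⊗[k] E') := by
    refine spl_of_brEq_coprime k _ _ (m ^ 2) (n ^ 2) ?_ ?_ (Nat.Coprime.pow 2 2 hcop) hPQ
    · rw [Module.finrank_tensorProduct, finrank_op, hE, hE']; ring
    · rw [Module.finrank_tensorProduct, finrank_op, hC, hC']; ring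
  obtain ⟨φ⟩ := algEquiv_of_brEq k E' E (brEq_of_spl_op E' E hspl)
  exact ⟨φ.symm⟩

end unique

end Groth.Agent.Lib.PrimaryDecomp
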