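import Mathlib
import Groth.Agent.Lib.AzumayaDescent_helper6
import Groth.Agent.Lib.CSATensor_helper6
import Groth.Agent.Lib.PrimaryDecomp2_helper6

/-!
# Azumaya algebras: fibrewise criteria (helper6)

* `Detects R S`: a family `S i` of `R`-algebras detects vanishing of finite `R`-modules.
* `isAzumaya_of_detects`: a finite projective algebra whose base changes along a detecting family
  are Azumaya is Azumaya.
* over a field: Azumaya ↔ central simple of finite dimension.
-/

namespace Groth.Agent.Lib.AzumayaFibre

open scoped TensorProduct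
open MulOpposite
open Groth.Agent.Lib.AzumayaEnd Groth.Agent.Lib.AzumayaBaseChange Groth.Agent.Lib.AzumayaDescent

universe u v

section detects

variable (R : Type u) [CommRing R] {ι : Type*} (S : ι → Type v) [∀ i, CommRing (S i)]
  [∀ i, Algebra R (S i)]

/-- the family `S` detects vanishing of finite `R`-modules (in the universe of `R`). -/
def Detects : Prop :=
  ∀ (M : Type u) [AddCommGroup M] [Module R M] [Module.Finite R M],
    (∀ i, Subsingleton (S i ⊗[R] M)) → Subsingleton M

variable {R S}
variable {P : Type u} [AddCommGroup P] [Module R P] [Module.Finite R P]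
variable {Q : Type u} [AddCommGroup Q] [Module R Q] [Module.Finite R Q] [Module.Projective R Q]

theorem surjective_of (hS : Detects R S) (f : P →ₗ[R] Q)
    (hf : ∀ i, Function.Surjective (f.lTensor (S i))) : Function.Surjective f := by
  have hex : Function.Exact f (LinearMap.range f).mkQ := LinearMap.exact_map_mkQ_range f
  have hsurj : Function.Surjective (LinearMap.range f).mkQ := Submodule.mkQ_surjective _
  haveI : Subsingleton (Q ⧸ LinearMap.range f) := by
    apply hS
    intro i
    have hex' := lTensor_exact (S i) hex hsurj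
    refine ⟨fun x y => ?_⟩
    have hz : ∀ z : S i ⊗[R] (Q ⧸ LinearMap.range f), z = 0 := by
      intro z
      obtain ⟨w, rfl⟩ := LinearMap.lTensor_surjective (S i) hsurj z
      obtain ⟨v, rfl⟩ := hf i w
      exact (hex' _).2 ⟨v, rfl⟩
    rw [hz x, hz y]
  rw [← LinearMap.range_eq_top, ← Submodule.Quotient.subsingleton_iff]
  infer_instance

theorem bijective_of (hS : Detects R S) (f : P →ₗ[R] Q)
    (hf : ∀ i, Function.Bijective (f.lTensor (S i))) : Function.Bijective f := by
  have hsurj := surjective_of hS f (fun i => (hf i).2)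
  refine ⟨?_, hsurj⟩
  obtain ⟨s, hs⟩ := Module.projective_lifting_property f LinearMap.id hsurj
  obtain ⟨e, he⟩ : ∃ e : P →ₗ[R] LinearMap.ker f, ∀ x, (e x : P) = x - s (f x) :=
    ⟨LinearMap.codRestrict (LinearMap.ker f) (LinearMap.id - s ∘ₗ f) (fun x => by
      rw [LinearMap.mem_ker, LinearMap.sub_apply, map_sub, LinearMap.id_apply, LinearMap.comp_apply]
      have := congrArg (fun h => h (f x)) hs
      simp only [LinearMap.comp_apply, LinearMap.id_apply] at this
      rw [this, sub_self]), fun x => rfl⟩
  have heι : e ∘ₗ (LinearMap.ker f).subtype = LinearMap.id := by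
    refine LinearMap.ext fun k => Subtype.ext ?_
    rw [LinearMap.comp_apply, he, Submodule.subtype_apply, LinearMap.id_apply]
    have : f (k : P) = 0 := k.2
    rw [this, map_zero, sub_zero]
  have hesurj : Function.Surjective e := fun k => ⟨k, congrArg (fun h => h k) heι⟩
  haveI : Module.Finite R (LinearMap.ker f) := Module.Finite.of_surjective e hesurj
  haveI : Subsingleton (LinearMap.ker f) := by
    apply hS
    intro i
    have hinj : Function.Injective ((LinearMap.ker f).subtype.lTensor (S i)) := by
      apply Function.LeftInverse.injective (g := e.lTensor (S i))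
      intro x
      rw [← LinearMap.comp_apply, ← LinearMap.lTensor_comp, heι, LinearMap.lTensor_id,
        LinearMap.id_apply]
    have hzero : ∀ x, (LinearMap.ker f).subtype.lTensor (S i) x = 0 := by
      intro x
      apply (hf i).1
      rw [← LinearMap.comp_apply, ← LinearMap.lTensor_comp, map_zero]
      have : f ∘ₗ (LinearMap.ker f).subtype = 0 := LinearMap.ext fun k => k.2
      rw [this, LinearMap.lTensor_zero, LinearMap.zero_apply]
    refine ⟨fun x y => hinj ?_⟩
    rw [hzero x, hzero y]
  rw [← LinearMap.ker_eq_bot]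
  exact Submodule.eq_bot_of_subsingleton

end detects

section azumaya

variable {R : Type u} [CommRing R] {ι : Type*} {S : ι → Type v} [∀ i, CommRing (S i)]
  [∀ i, Algebra R (S i)]
variable (B : Type u) [Ring B] [Algebra R B] [Module.Finite R B] [Module.Projective R B]

theorem traceIdeal_eq_top (hS : Detects R S) (hB : ∀ i, IsAzumaya (S i) (S i ⊗[R] B)) :
    traceIdeal R B = ⊤ := by
  haveI : Subsingleton (R ⧸ traceIdeal R B) := by
    apply hS
    intro i
    haveI := hB i
    have h1 : (traceIdeal R B).map (algebraMap R (S i)) = ⊤ :=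
      trace_ideal_eq_top (S i) (S i ⊗[R] B) _ (dual_baseChange_mem R (S i) B)
    have hz : ∀ z ∈ (traceIdeal R B).map (algebraMap R (S i)),
        ∀ y : S i ⊗[R] (R ⧸ traceIdeal R B), z • y = 0 := by
      intro z hz
      unfold Ideal.map at hz
      induction hz using Submodule.span_induction with
      | mem z hz =>
        obtain ⟨t, ht, rfl⟩ := hz
        intro y
        induction y using TensorProduct.induction_on with
        | zero => simp
        | tmul s m =>
          obtain ⟨r, rfl⟩ := Ideal.Quotient.mk_surjective m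
          have h2 : algebraMap R (S i) t * s = t • s := (Algebra.smul_def t s).symm
          have h3 : t • (Ideal.Quotient.mk (traceIdeal R B) r) = 0 := by
            rw [← Ideal.Quotient.mk_eq_mk, ← Submodule.Quotient.mk_smul, smul_eq_mul,
              Ideal.Quotient.mk_eq_mk]
            exact Ideal.Quotient.eq_zero_iff_mem.2 (Ideal.mul_mem_right _ _ ht)
          rw [TensorProduct.smul_tmul', smul_eq_mul, h2, TensorProduct.smul_tmul, h3,
            TensorProduct.tmul_zero]
        | add x y hx hy => rw [smul_add, hx, hy, add_zero]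
      | zero => intro y; rw [zero_smul]
      | add a b _ _ ha hb => intro y; rw [add_smul, ha, hb, add_zero]
      | smul a b _ hb => intro y; rw [smul_eq_mul, mul_smul, hb, smul_zero]
    refine ⟨fun x y => ?_⟩
    have h1' : (1 : S i) ∈ (traceIdeal R B).map (algebraMap R (S i)) := by
      rw [h1]; exact Submodule.mem_top
    have hx := hz 1 h1' x
    have hy := hz 1 h1' y
    rw [one_smul] at hx hy
    rw [hx, hy]
  exact Submodule.Quotient.subsingleton_iff.1 inferInstance

theorem faithful (hS : Detects R S) (hB : ∀ i, IsAzumaya (S i) (S i ⊗[R] B)) :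
    FaithfulSMul R B := by
  refine ⟨fun {r r'} h => ?_⟩
  obtain ⟨c, hc⟩ : ∃ c, c = r - r' := ⟨_, rfl⟩
  have hcb : ∀ b : B, c • b = 0 := by
    intro b
    rw [hc, sub_smul, h b, sub_self]
  have hle : traceIdeal R B ≤ LinearMap.ker (LinearMap.toSpanSingleton R R c) := by
    unfold traceIdeal
    rw [Ideal.span_le]
    rintro x ⟨f, b, rfl⟩
    show f b ∈ LinearMap.ker (LinearMap.toSpanSingleton R R c)
    rw [LinearMap.mem_ker, LinearMap.toSpanSingleton_apply, smul_eq_mul, mul_comm, ← smul_eq_mul,
      ← map_smul, hcb, map_zero]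
  rw [traceIdeal_eq_top B hS hB] at hle
  have h1 : (1 : R) ∈ LinearMap.ker (LinearMap.toSpanSingleton R R c) := hle Submodule.mem_top
  rw [LinearMap.mem_ker, LinearMap.toSpanSingleton_apply, one_smul] at h1
  rw [h1] at hc
  exact (sub_eq_zero.1 hc.symm)

/-- the base change of `mulLeftRight` is bijective when the base-changed algebra is Azumaya. -/
theorem lTensor_mulLeftRight_bijective (S₀ : Type v) [CommRing S₀] [Algebra R S₀]
    [IsAzumaya S₀ (S₀ ⊗[R] B)] :
    Function.Bijective ((AlgHom.mulLeftRight R B).toLinearMap.lTensor S₀) := by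
  have hbc : Function.Bijective ((AlgHom.mulLeftRight R B).toLinearMap.baseChange S₀) := by
    have h1 := IsAzumaya.bij (R := S₀) (A := S₀ ⊗[R] B)
    have h2 := homBC_bijective R S₀ B B
    obtain ⟨e, he⟩ : ∃ e : S₀ ⊗[R] (B →ₗ[R] B) ≃ₗ[S₀] (S₀ ⊗[R] B →ₗ[S₀] S₀ ⊗[R] B),
        ∀ x, e x = homBC R S₀ B B x := ⟨LinearEquiv.ofBijective _ h2, fun x => rfl⟩
    have h3 : ⇑((AlgHom.mulLeftRight R B).toLinearMap.baseChange S₀) =
        ⇑e.symm ∘ (⇑(AlgHom.mulLeftRight S₀ (S₀ ⊗[R] B)) ∘ ⇑(theta R S₀ B)) := by
      funext t
      simp only [Function.comp_apply]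
      rw [key R S₀ B t, ← he, LinearEquiv.symm_apply_apply]
    rw [h3]
    exact e.symm.bijective.comp (h1.comp (theta R S₀ B).bijective)
  rw [← LinearMap.baseChange_eq_ltensor]
  exact hbc

theorem isAzumaya_of_detects (hS : Detects R S) (hB : ∀ i, IsAzumaya (S i) (S i ⊗[R] B)) :
    IsAzumaya R B := by
  haveI := faithful B hS hB
  haveI := finite_end R B
  haveI := projective_end R B
  haveI : Module.Finite R Bᵐᵒᵖ := Module.Finite.equiv (opLinearEquiv R : B ≃ₗ[R] Bᵐᵒᵖ)
  refine { bij := ?_ }
  exact bijective_of hS (AlgHom.mulLeftRight R B).toLinearMap (fun i => by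
    haveI := hB i
    exact lTensor_mulLeftRight_bijective B (S i))

end azumaya

section instances

/-- the residue fields at all primes detect vanishing. -/
theorem detects_residueFields (R : Type u) [CommRing R] :
    Detects R (fun p : PrimeSpectrum R => p.asIdeal.ResidueField) := by
  intro M _ _ _ h
  by_contra hns
  rw [not_subsingleton_iff_nontrivial] at hns
  obtain ⟨p, hp⟩ := Module.nonempty_support_of_nontrivial (R := R) (M := M)
  rw [Module.mem_support_iff_nontrivial_residueField_tensorProduct] at hp
  haveI := h p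
  exact not_subsingleton _ (inferInstance : Subsingleton (p.asIdeal.ResidueField ⊗[R] M))

/-- over a local ring the residue field detects vanishing. -/
theorem detects_residueField (R : Type u) [CommRing R] [IsLocalRing R] :
    Detects R (fun _ : Unit => IsLocalRing.ResidueField R) := by
  intro M _ _ _ h
  exact IsLocalRing.subsingleton_tensorProduct.1 (h ())

end instances

section field

variable (k : Type u) [Field k] (A : Type v) [Ring A] [Algebra k A]

/-- a finite-dimensional central simple algebra over a field is Azumaya. -/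
theorem isAzumaya_of_csa [Algebra.IsCentral k A] [IsSimpleRing A] [FiniteDimensional k A] :
    IsAzumaya k A := by
  haveI : Algebra.IsCentral k Aᵐᵒᵖ := Groth.Agent.Lib.PrimaryDecomp.isCentral_op k A
  haveI : IsSimpleRing (A ⊗[k] Aᵐᵒᵖ) := Groth.Agent.Lib.CSATensor.isSimpleRing_tensor
  haveI : Nontrivial (Module.End k A) := inferInstance
  have hinj : Function.Injective (AlgHom.mulLeftRight k A) :=
    RingHom.injective ((AlgHom.mulLeftRight k A : A ⊗[k] Aᵐᵒᵖ →ₐ[k] Module.End k A) :
      A ⊗[k] Aᵐᵒᵖ →+* Module.End k A)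
  haveI : FiniteDimensional k Aᵐᵒᵖ := Module.Finite.equiv (opLinearEquiv k : A ≃ₗ[k] Aᵐᵒᵖ)
  have hdim : Module.finrank k (A ⊗[k] Aᵐᵒᵖ) = Module.finrank k (Module.End k A) := by
    rw [Module.finrank_tensorProduct, Module.finrank_linearMap,
      ← (opLinearEquiv k : A ≃ₗ[k] Aᵐᵒᵖ).finrank_eq]
  have hsurj : Function.Surjective (AlgHom.mulLeftRight k A) :=
    (LinearMap.injective_iff_surjective_of_finrank_eq_finrank
      (f := (AlgHom.mulLeftRight k A).toLinearMap) hdim).1 hinj
  exact { bij := ⟨hinj, hsurj⟩ }

/-- an Azumaya algebra over a field is simple. -/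
theorem isSimpleRing_of_isAzumaya [IsAzumaya k A] : IsSimpleRing A := by
  haveI : Nontrivial A := by
    by_contra hnt
    rw [not_nontrivial_iff_subsingleton] at hnt
    have h : (1 : k) = 0 := FaithfulSMul.eq_of_smul_eq_smul (α := A)
      (fun a => Subsingleton.elim _ _)
    exact one_ne_zero h
  apply IsSimpleRing.of_eq_bot_or_eq_top
  intro I
  by_cases hI : I = ⊥
  · exact Or.inl hI
  right
  have hex : ∃ x ∈ I, x ≠ 0 := by
    by_contra hcon
    apply hI
    rw [eq_bot_iff]
    intro x hx
    rw [TwoSidedIdeal.mem_bot]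
    by_contra hx0
    exact hcon ⟨x, hx, hx0⟩
  obtain ⟨x, hxI, hx0⟩ := hex
  have key : ∀ t : A ⊗[k] Aᵐᵒᵖ, AlgHom.mulLeftRight k A t x ∈ I := by
    intro t
    induction t using TensorProduct.induction_on with
    | zero => rw [map_zero, LinearMap.zero_apply]; exact I.zero_mem
    | tmul a b =>
      rw [AlgHom.mulLeftRight_apply]
      exact I.mul_mem_right _ _ (I.mul_mem_left _ _ hxI)
    | add s t hs ht =>
      rw [map_add, LinearMap.add_apply]
      exact I.add_mem hs ht
  rw [eq_top_iff]
  intro y _
  have hker : LinearMap.ker (LinearMap.toSpanSingleton k A x) = ⊥ := by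
    rw [LinearMap.ker_eq_bot']
    intro c hc
    rw [LinearMap.toSpanSingleton_apply] at hc
    exact (smul_eq_zero.1 hc).resolve_right hx0
  obtain ⟨g, hg⟩ := LinearMap.exists_leftInverse_of_injective
    (LinearMap.toSpanSingleton k A x) hker
  obtain ⟨t, ht⟩ := (IsAzumaya.bij (R := k) (A := A)).2 ((LinearMap.toSpanSingleton k A y) ∘ₗ g)
  have h1 := key t
  rw [ht, LinearMap.comp_apply] at h1
  have h2 : g x = 1 := by
    have := congrArg (fun h => h (1 : k)) hg
    simpa [LinearMap.toSpanSingleton_apply] using this
  rw [h2, LinearMap.toSpanSingleton_apply, one_smul] at h1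
  exact h1

end field

end Groth.Agent.Lib.AzumayaFibre
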