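import Mathlib
import Groth.Agent.S5705
import Groth.Agent.Lib.AzumayaFibre_helper6
import Groth.Agent.Lib.CSACentralizer_helper6

/-!
# Reduced characteristic polynomial of Azumaya algebras over local rings (helper6)

* `charpoly_eq`: for an Azumaya algebra `A` over a local ring `R` and two `R`-algebra maps
  `Φ Ψ : A → M_n(S)`, the characteristic polynomials of `Φ a` and `Ψ a` agree.
* `exists_of_tmul_eq`: descent of elements along two faithfully flat algebras.
-/

namespace Groth.Agent.Lib.RedCharpoly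

open TensorProduct MulOpposite

universe u v

section intertwine

variable {S : Type*} [CommRing S] {n : ℕ}

theorem charpoly_sub_mul_det (X Y C : Matrix (Fin n) (Fin n) S) (h : X * C = C * Y) :
    (X.charpoly - Y.charpoly) * Polynomial.C C.det = 0 := by
  have h1 : X.charmatrix * (Polynomial.C : S →+* Polynomial S).mapMatrix C =
      (Polynomial.C : S →+* Polynomial S).mapMatrix C * Y.charmatrix := by
    unfold Matrix.charmatrix
    rw [sub_mul, mul_sub, ← map_mul, ← map_mul, h]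
    congr 1
    exact (Matrix.scalar_commute _ (fun r' => Commute.all _ _) _).eq
  have h2 := congrArg Matrix.det h1
  rw [Matrix.det_mul, Matrix.det_mul] at h2
  have h3 : ((Polynomial.C : S →+* Polynomial S).mapMatrix C).det = Polynomial.C C.det := by
    rw [RingHom.mapMatrix_apply]
    exact (RingHom.map_det _ _).symm
  rw [h3] at h2
  rw [sub_mul, sub_eq_zero]
  show X.charmatrix.det * _ = Y.charmatrix.det * _
  rw [h2, mul_comm]

theorem charpoly_eq_of_dets (X Y : Matrix (Fin n) (Fin n) S) (D : Set S)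
    (hD : ∀ d ∈ D, (X.charpoly - Y.charpoly) * Polynomial.C d = 0)
    (hmax : ∀ q : Ideal S, q.IsMaximal → ∃ d ∈ D, d ∉ q) : X.charpoly = Y.charpoly := by
  have hspan : Ideal.span D = ⊤ := by
    by_contra hne
    obtain ⟨q, hq, hle⟩ := Ideal.exists_le_maximal _ hne
    obtain ⟨d, hd, hdq⟩ := hmax q hq
    exact hdq (hle (Ideal.subset_span hd))
  have h1 : (1 : S) ∈ Ideal.span D := by rw [hspan]; trivial
  have key : ∀ s ∈ Ideal.span D, (X.charpoly - Y.charpoly) * Polynomial.C s = 0 := by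
    intro s hs
    induction hs using Submodule.span_induction with
    | mem d hd => exact hD d hd
    | zero => simp
    | add a b _ _ ha hb => rw [map_add, mul_add, ha, hb, add_zero]
    | smul r a _ ha => rw [smul_eq_mul, map_mul, mul_left_comm, ha, mul_zero]
  have := key 1 h1
  rw [map_one, mul_one, sub_eq_zero] at this
  exact this

end intertwine

section main

variable {R : Type u} [CommRing R] {A : Type v} [Ring A] [Algebra R A]
  {S : Type*} [CommRing S] [Algebra R S] {n : ℕ}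

/-- the map `x ⊗ op y ↦ Φ x * Z * Ψ y` -/
noncomputable def gam (Φ Ψ : A →ₐ[R] Matrix (Fin n) (Fin n) S) (Z : Matrix (Fin n) (Fin n) S) :
    A ⊗[R] Aᵐᵒᵖ →ₗ[R] Matrix (Fin n) (Fin n) S :=
  TensorProduct.lift (LinearMap.mk₂ R (fun x y => Φ x * Z * Ψ y.unop)
    (by intro x x' y; simp [add_mul])
    (by intro c x y; simp)
    (by intro x y y'; simp [mul_add])
    (by intro c x y; simp))

@[simp] theorem gam_tmul (Φ Ψ : A →ₐ[R] Matrix (Fin n) (Fin n) S) (Z : Matrix (Fin n) (Fin n) S)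
    (x : A) (y : Aᵐᵒᵖ) : gam Φ Ψ Z (x ⊗ₜ[R] y) = Φ x * Z * Ψ y.unop := by
  simp [gam]

theorem gam_left (Φ Ψ : A →ₐ[R] Matrix (Fin n) (Fin n) S) (Z : Matrix (Fin n) (Fin n) S)
    (a : A) (w : A ⊗[R] Aᵐᵒᵖ) :
    gam Φ Ψ Z ((a ⊗ₜ[R] (1 : Aᵐᵒᵖ)) * w) = Φ a * gam Φ Ψ Z w := by
  induction w using TensorProduct.induction_on with
  | zero => simp
  | tmul x y =>
    rw [Algebra.TensorProduct.tmul_mul_tmul, gam_tmul, gam_tmul, one_mul, map_mul, mul_assoc,
      mul_assoc, mul_assoc]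
  | add x y hx hy => rw [mul_add, map_add, map_add, hx, hy, mul_add]

theorem gam_right (Φ Ψ : A →ₐ[R] Matrix (Fin n) (Fin n) S) (Z : Matrix (Fin n) (Fin n) S)
    (a : A) (w : A ⊗[R] Aᵐᵒᵖ) :
    gam Φ Ψ Z (((1 : A) ⊗ₜ[R] op a) * w) = gam Φ Ψ Z w * Ψ a := by
  induction w using TensorProduct.induction_on with
  | zero => simp
  | tmul x y =>
    rw [Algebra.TensorProduct.tmul_mul_tmul, gam_tmul, gam_tmul, one_mul, unop_mul, unop_op,
      map_mul, mul_assoc, mul_assoc, mul_assoc]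
  | add x y hx hy => rw [mul_add, map_add, map_add, hx, hy, add_mul]

end main

section local_

variable {R : Type u} [CommRing R] [IsLocalRing R] {A : Type v} [Ring A] [Algebra R A]
  [IsAzumaya R A] {S : Type*} [CommRing S] [Algebra R S] {n : ℕ}

theorem charpoly_eq (hn : 0 < n) (Φ Ψ : A →ₐ[R] Matrix (Fin n) (Fin n) S) (a : A) :
    (Φ a).charpoly = (Ψ a).charpoly := by
  classical
  obtain ⟨t, ht⟩ := Groth.Agent.S5705.exists_retraction R A
  obtain ⟨e, he⟩ := Groth.Agent.S5705.exists_sep t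
  have hcomm := Groth.Agent.S5705.sep_comm t e he
  apply charpoly_eq_of_dets (Φ a) (Ψ a) (Set.range fun Z => (gam Φ Ψ Z e).det)
  · rintro _ ⟨Z, rfl⟩
    apply charpoly_sub_mul_det
    rw [← gam_left, hcomm a, gam_right]
  · intro q hq
    letI : Field (S ⧸ q) := Ideal.Quotient.field q
    haveI : Nonempty (Fin n) := ⟨⟨0, hn⟩⟩
    obtain ⟨π, hπ⟩ : ∃ π : S →ₐ[R] S ⧸ q, ∀ s, π s = Ideal.Quotient.mk q s :=
      ⟨Ideal.Quotient.mkₐ R q, fun _ => rfl⟩
    obtain ⟨Φb, hΦb⟩ : ∃ Φb : A →ₐ[R] Matrix (Fin n) (Fin n) (S ⧸ q),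
        ∀ x, Φb x = π.mapMatrix (Φ x) := ⟨π.mapMatrix.comp Φ, fun _ => rfl⟩
    obtain ⟨Ψb, hΨb⟩ : ∃ Ψb : A →ₐ[R] Matrix (Fin n) (Fin n) (S ⧸ q),
        ∀ x, Ψb x = π.mapMatrix (Ψ x) := ⟨π.mapMatrix.comp Ψ, fun _ => rfl⟩
    obtain ⟨Φk, hΦk⟩ : ∃ Φk : (S ⧸ q) ⊗[R] A →ₐ[S ⧸ q] Matrix (Fin n) (Fin n) (S ⧸ q),
        ∀ x, Φk ((1 : S ⧸ q) ⊗ₜ[R] x) = Φb x := by
      refine ⟨Algebra.TensorProduct.lift (Algebra.ofId (S ⧸ q) _) Φb
        (fun k x => Algebra.commutes k (Φb x)), fun x => ?_⟩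
      rw [Algebra.TensorProduct.lift_tmul, map_one, one_mul]
    obtain ⟨Ψk, hΨk⟩ : ∃ Ψk : (S ⧸ q) ⊗[R] A →ₐ[S ⧸ q] Matrix (Fin n) (Fin n) (S ⧸ q),
        ∀ x, Ψk ((1 : S ⧸ q) ⊗ₜ[R] x) = Ψb x := by
      refine ⟨Algebra.TensorProduct.lift (Algebra.ofId (S ⧸ q) _) Ψb
        (fun k x => Algebra.commutes k (Ψb x)), fun x => ?_⟩
      rw [Algebra.TensorProduct.lift_tmul, map_one, one_mul]
    haveI : IsAzumaya (S ⧸ q) ((S ⧸ q) ⊗[R] A) :=
      Groth.Agent.Lib.AzumayaBaseChange.isAzumaya_baseChange R (S ⧸ q) A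
    haveI : IsSimpleRing ((S ⧸ q) ⊗[R] A) :=
      Groth.Agent.Lib.AzumayaFibre.isSimpleRing_of_isAzumaya (S ⧸ q) _
    obtain ⟨g₀, hg₀⟩ := Groth.Agent.Lib.CSACentralizer.skolem_noether Φk Ψk
    have hconj : ∀ x : A, Φb x = (g₀ : Matrix (Fin n) (Fin n) (S ⧸ q)) * Ψb x *
        (↑g₀⁻¹ : Matrix (Fin n) (Fin n) (S ⧸ q)) := by
      intro x
      rw [← hΦk, ← hΨk]
      exact hg₀ _
    have hsurj : ∀ i j, ∃ s : S, Ideal.Quotient.mk q s =
        (g₀ : Matrix (Fin n) (Fin n) (S ⧸ q)) i j :=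
      fun i j => Ideal.Quotient.mk_surjective _
    choose Z hZ using hsurj
    have hZ' : π.mapMatrix (Matrix.of Z) = (g₀ : Matrix (Fin n) (Fin n) (S ⧸ q)) := by
      ext i j
      rw [AlgHom.mapMatrix_apply, Matrix.map_apply, Matrix.of_apply, hπ, hZ]
    have key : ∀ w : A ⊗[R] Aᵐᵒᵖ, π.mapMatrix (gam Φ Ψ (Matrix.of Z) w) =
        (g₀ : Matrix (Fin n) (Fin n) (S ⧸ q)) * Ψb (AlgHom.mulLeftRight R A w 1) := by
      intro w
      induction w using TensorProduct.induction_on with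
      | zero => simp
      | tmul x y =>
        rw [gam_tmul, map_mul, map_mul, ← hΦb, ← hΨb, hZ', hconj, AlgHom.mulLeftRight_apply, mul_one,
          map_mul, mul_assoc _ (↑g₀⁻¹ : Matrix (Fin n) (Fin n) (S ⧸ q)), Units.inv_mul, mul_one,
          mul_assoc]
      | add x y hx hy =>
        rw [map_add, map_add, hx, hy, map_add, LinearMap.add_apply, map_add, mul_add]
    refine ⟨_, ⟨Matrix.of Z, rfl⟩, fun hmem => ?_⟩
    have h1 : π.mapMatrix (gam Φ Ψ (Matrix.of Z) e) = (g₀ : Matrix (Fin n) (Fin n) (S ⧸ q)) := by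
      rw [key e, he, ht, one_smul, map_one, mul_one]
    have h2 : Ideal.Quotient.mk q (gam Φ Ψ (Matrix.of Z) e).det =
        (g₀ : Matrix (Fin n) (Fin n) (S ⧸ q)).det := by
      rw [← h1, AlgHom.mapMatrix_apply, ← hπ]
      exact RingHom.map_det (π : S →+* S ⧸ q) _
    have h3 : IsUnit (g₀ : Matrix (Fin n) (Fin n) (S ⧸ q)).det :=
      (Matrix.isUnit_iff_isUnit_det _).1 g₀.isUnit
    rw [← h2, (Ideal.Quotient.eq_zero_iff_mem).2 hmem] at h3
    exact not_isUnit_zero h3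

end local_

section descent

variable {R : Type*} [CommRing R] {R' R'' : Type*} [CommRing R'] [CommRing R'']
  [Algebra R R'] [Algebra R R''] [Module.FaithfullyFlat R R'] [Module.FaithfullyFlat R R'']

theorem exists_of_tmul_eq (x' : R') (x'' : R'')
    (h : x' ⊗ₜ[R] (1 : R'') = (1 : R') ⊗ₜ[R] x'') :
    ∃ x : R, algebraMap R R' x = x' ∧ algebraMap R R'' x = x'' := by
  have hex : Function.Exact (Algebra.linearMap R R')
      (LinearMap.range (Algebra.linearMap R R')).mkQ := LinearMap.exact_map_mkQ_range _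
  have hsurj := Submodule.mkQ_surjective (LinearMap.range (Algebra.linearMap R R'))
  have hex' := lTensor_exact R'' hex hsurj
  have h1 : (LinearMap.lTensor R'' (Algebra.linearMap R R')) (x'' ⊗ₜ[R] (1 : R)) =
      (1 : R'') ⊗ₜ[R] x' := by
    rw [LinearMap.lTensor_tmul, Algebra.linearMap_apply, map_one]
    have := congrArg (TensorProduct.comm R R' R'') h
    simpa using this.symm
  have h2 : (LinearMap.lTensor R'' (LinearMap.range (Algebra.linearMap R R')).mkQ)
      ((1 : R'') ⊗ₜ[R] x') = 0 := (hex' _).2 ⟨_, h1⟩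
  rw [LinearMap.lTensor_tmul] at h2
  have h3 : (LinearMap.range (Algebra.linearMap R R')).mkQ x' = 0 :=
    Module.FaithfullyFlat.tensorProduct_mk_injective (A := R) (B := R'') _ (by simpa using h2)
  obtain ⟨x, hx⟩ := (Submodule.Quotient.mk_eq_zero _).1 h3
  rw [Algebra.linearMap_apply] at hx
  refine ⟨x, hx, ?_⟩
  apply Module.FaithfullyFlat.tensorProduct_mk_injective (A := R) (B := R') R''
  show (1 : R') ⊗ₜ[R] (algebraMap R R'' x) = (1 : R') ⊗ₜ[R] x''
  rw [← h, ← hx, Algebra.algebraMap_eq_smul_one, Algebra.algebraMap_eq_smul_one,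
    TensorProduct.smul_tmul]

end descent

end Groth.Agent.Lib.RedCharpoly
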