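import Mathlib

/-!
# Kronecker products of families of matrices and the induced map out of a tensor power (helper6)
-/

set_option autoImplicit false

namespace Groth.Agent.Lib.TPowH6

open PiTensorProduct TensorProduct

universe u v w

section kron

variable {S : Type*} [CommRing S] {m n : ℕ}

/-- the Kronecker product of a family of `m` square matrices of size `n`. -/
def kron (M : Fin m → Matrix (Fin n) (Fin n) S) : Matrix (Fin m → Fin n) (Fin m → Fin n) S :=
  Matrix.of fun f g => ∏ i, M i (f i) (g i)

@[simp] theorem kron_apply (M : Fin m → Matrix (Fin n) (Fin n) S) (f g : Fin m → Fin n) :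
    kron M f g = ∏ i, M i (f i) (g i) := rfl

theorem kron_one : kron (fun _ : Fin m => (1 : Matrix (Fin n) (Fin n) S)) = 1 := by
  ext f g
  rw [kron_apply, Matrix.one_apply]
  simp only [Matrix.one_apply]
  rw [Fintype.prod_boole]
  congr 1
  exact propext funext_iff.symm

theorem kron_mul (M M' : Fin m → Matrix (Fin n) (Fin n) S) :
    kron (fun i => M i * M' i) = kron M * kron M' := by
  ext f g
  rw [kron_apply, Matrix.mul_apply]
  simp only [Matrix.mul_apply, kron_apply]
  rw [Finset.prod_univ_sum]
  simp only [Fintype.piFinset_univ, Finset.prod_mul_distrib]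

theorem kron_map {S' : Type*} [CommRing S'] (j : S →+* S')
    (M : Fin m → Matrix (Fin n) (Fin n) S) :
    kron (fun i => (M i).map j) = (kron M).map j := by
  ext f g
  simp [map_prod]

end kron

section kronML

variable (R : Type*) [CommRing R] (S : Type*) [CommRing S] [Algebra R S] (m n : ℕ)

/-- `kron` as a multilinear map. -/
noncomputable def kronML : MultilinearMap R (fun _ : Fin m => Matrix (Fin n) (Fin n) S)
    (Matrix (Fin m → Fin n) (Fin m → Fin n) S) :=
  MultilinearMap.pi (fun f => MultilinearMap.pi (fun g =>
    (MultilinearMap.mkPiAlgebra R (Fin m) S).compLinearMap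
      (fun i => Matrix.entryLinearMap R S (f i) (g i))))

theorem kronML_apply (M : Fin m → Matrix (Fin n) (Fin n) S) : kronML R S m n M = kron M := by
  ext f g
  rfl

end kronML

section chi

variable {R : Type u} [CommRing R] {A : Type v} [Ring A] [Algebra R A]
  {S : Type w} [CommRing S] [Algebra R S] {m n : ℕ}

/-- the algebra map `⨂_{Fin m} A → M_{n^m}(S)` attached to `Φ : A → M_n(S)`. -/
noncomputable def chi (Φ : A →ₐ[R] Matrix (Fin n) (Fin n) S) :
    (⨂[R] _ : Fin m, A) →ₐ[R] Matrix (Fin m → Fin n) (Fin m → Fin n) S :=
  liftAlgHom ((kronML R S m n).compLinearMap (fun _ => Φ.toLinearMap))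
    (by
      rw [MultilinearMap.compLinearMap_apply, kronML_apply]
      simp only [Pi.one_apply, AlgHom.toLinearMap_apply, map_one]
      exact kron_one)
    (by
      intro x y
      rw [MultilinearMap.compLinearMap_apply, MultilinearMap.compLinearMap_apply,
        MultilinearMap.compLinearMap_apply, kronML_apply, kronML_apply, kronML_apply]
      simp only [Pi.mul_apply, AlgHom.toLinearMap_apply, map_mul]
      exact kron_mul _ _)

@[simp] theorem chi_tprod (Φ : A →ₐ[R] Matrix (Fin n) (Fin n) S) (a : Fin m → A) :
    chi (m := m) Φ (tprod R a) = kron (fun i => Φ (a i)) := by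
  rw [chi, liftAlgHom_apply, lift.tprod, MultilinearMap.compLinearMap_apply, kronML_apply]
  rfl

end chi

end Groth.Agent.Lib.TPowH6
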