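import Mathlib
import Groth.Agent.Lib.TPow3_helper6

/-!
# The antisymmetrizer as a rank one matrix `ω ωᵀ` (helper6)
-/

set_option autoImplicit false

namespace Groth.Agent.Lib.TPowH6

open Matrix Equiv

section omega

variable (S : Type*) [CommRing S] (n : ℕ)

/-- the coordinates of the antisymmetric tensor `∑_σ sign(σ) e_{σ 1} ⊗ ⋯ ⊗ e_{σ n}`. -/
def omega : (Fin n → Fin n) → S := fun f =>
  ∑ σ : Perm (Fin n), if f = ⇑σ then ((Perm.sign σ : ℤ) : S) else 0

theorem omega_perm (τ : Perm (Fin n)) : omega S n ⇑τ = ((Perm.sign τ : ℤ) : S) := by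
  unfold omega
  rw [Finset.sum_eq_single τ]
  · rw [if_pos rfl]
  · intro σ _ hσ
    rw [if_neg]
    intro h
    exact hσ (Equiv.coe_fn_injective h.symm)
  · intro h
    exact absurd (Finset.mem_univ τ) h

theorem omega_id : omega S n id = 1 := by
  have h := omega_perm S n (1 : Perm (Fin n))
  rw [Perm.sign_one] at h
  simpa using h

theorem omega_of_not_injective (f : Fin n → Fin n) (hf : ¬ Function.Injective f) :
    omega S n f = 0 := by
  unfold omega
  apply Finset.sum_eq_zero
  intro σ _
  rw [if_neg]
  intro h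
  exact hf (h ▸ σ.injective)

variable {S n}

theorem det_submatrix_eq (C : Matrix (Fin n) (Fin n) S) (f : Fin n → Fin n) :
    (C.submatrix f id).det = C.det * omega S n f := by
  by_cases hf : Function.Injective f
  · have hb : Function.Bijective f := Finite.injective_iff_bijective.mp hf
    obtain ⟨τ, rfl⟩ : ∃ τ : Perm (Fin n), ⇑τ = f := ⟨Equiv.ofBijective f hb, rfl⟩
    rw [det_permute, omega_perm, mul_comm]
  · rw [omega_of_not_injective S n f hf, mul_zero]
    rw [Function.Injective] at hf
    push_neg at hf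
    obtain ⟨i, j, hij, hne⟩ := hf
    apply det_zero_of_row_eq hne
    funext k
    simp [hij]

theorem sum_sign_prod_eq (C : Matrix (Fin n) (Fin n) S) (f : Fin n → Fin n) :
    ∑ σ : Perm (Fin n), ((Perm.sign σ : ℤ) : S) * ∏ i, C (f i) (σ i) =
      (C.submatrix f id).det := by
  rw [← det_transpose, det_apply']
  rfl

theorem kron_mulVec_omega (C : Matrix (Fin n) (Fin n) S) :
    kron (fun _ : Fin n => C) *ᵥ omega S n = C.det • omega S n := by
  funext f
  rw [Pi.smul_apply, smul_eq_mul, ← det_submatrix_eq, ← sum_sign_prod_eq]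
  simp only [mulVec, dotProduct, kron_apply]
  unfold omega
  simp only [Finset.mul_sum]
  rw [Finset.sum_comm]
  apply Finset.sum_congr rfl
  intro σ _
  rw [Finset.sum_eq_single (⇑σ)]
  · rw [if_pos rfl, mul_comm]
  · intro g _ hg
    rw [if_neg hg, mul_zero]
  · intro h
    exact absurd (Finset.mem_univ _) h

theorem kron_transpose {m : ℕ} (M : Fin m → Matrix (Fin n) (Fin n) S) :
    (kron M)ᵀ = kron (fun i => (M i)ᵀ) := by
  ext f g
  simp

theorem omega_vecMul_kron (C : Matrix (Fin n) (Fin n) S) :
    omega S n ᵥ* kron (fun _ : Fin n => C) = C.det • omega S n := by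
  rw [← mulVec_transpose, kron_transpose, kron_mulVec_omega, det_transpose]

variable (S n)

/-- the antisymmetrizer `∑_σ sign(σ) P_σ` on `(S^n)^{⊗ n}`, which is `ω ωᵀ`. -/
def asym : Matrix (Fin n → Fin n) (Fin n → Fin n) S := vecMulVec (omega S n) (omega S n)

variable {S n}

theorem kron_mul_asym (C : Matrix (Fin n) (Fin n) S) :
    kron (fun _ : Fin n => C) * asym S n = C.det • asym S n := by
  rw [asym, mul_vecMulVec, kron_mulVec_omega]
  ext f g
  simp [vecMulVec_apply, mul_assoc]

theorem asym_mul_kron (C : Matrix (Fin n) (Fin n) S) :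
    asym S n * kron (fun _ : Fin n => C) = C.det • asym S n := by
  rw [asym, vecMulVec_mul, omega_vecMul_kron]
  ext f g
  simp [vecMulVec_apply, mul_left_comm]

theorem omega_map {S' : Type*} [CommRing S'] (j : S →+* S') (f : Fin n → Fin n) :
    j (omega S n f) = omega S' n f := by
  unfold omega
  rw [map_sum]
  apply Finset.sum_congr rfl
  intro σ _
  split_ifs <;> simp

theorem asym_map {S' : Type*} [CommRing S'] (j : S →+* S') :
    (asym S n).map j = asym S' n := by
  ext f g
  simp [asym, vecMulVec_apply, omega_map]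

end omega

end Groth.Agent.Lib.TPowH6
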