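import Mathlib
import Groth.Agent.Lib.TPow3_helper6

/-!
# Naturality and intertwining properties of `chi` (helper6)
-/

set_option autoImplicit false

namespace Groth.Agent.Lib.TPowH6

open PiTensorProduct TensorProduct

universe u v w w'

section

variable {R : Type u} [CommRing R] {A : Type v} [Ring A] [Algebra R A]
  {S : Type w} [CommRing S] [Algebra R S] {m n : ℕ}

theorem chi_map {S' : Type w'} [CommRing S'] [Algebra R S'] (j : S →ₐ[R] S')
    (Φ : A →ₐ[R] Matrix (Fin n) (Fin n) S) (t : ⨂[R] _ : Fin m, A) :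
    chi (m := m) (j.mapMatrix.comp Φ) t = (chi Φ t).map j := by
  induction t using PiTensorProduct.induction_on with
  | smul_tprod r a =>
    rw [map_smul, map_smul, chi_tprod, chi_tprod]
    have h := kron_map (j : S →+* S') (fun i => Φ (a i))
    ext f g
    simp only [Matrix.smul_apply, Matrix.map_apply, kron_apply, AlgHom.comp_apply,
      AlgHom.mapMatrix_apply, map_smul, map_prod]
  | add x y hx hy =>
    rw [map_add, map_add, hx, hy]
    ext f g
    simp

theorem chi_intertwine (Φ Ψ : A →ₐ[R] Matrix (Fin n) (Fin n) S) (C : Matrix (Fin n) (Fin n) S)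
    (hC : ∀ a, Φ a * C = C * Ψ a) (t : ⨂[R] _ : Fin m, A) :
    chi (m := m) Φ t * kron (fun _ : Fin m => C) = kron (fun _ : Fin m => C) * chi Ψ t := by
  induction t using PiTensorProduct.induction_on with
  | smul_tprod r a =>
    rw [map_smul, map_smul, chi_tprod, chi_tprod, smul_mul_assoc, mul_smul_comm, ← kron_mul,
      ← kron_mul]
    simp only [hC]
  | add x y hx hy =>
    rw [map_add, map_add, add_mul, mul_add, hx, hy]

/-- the `S`-linear extension of `chi`. -/
noncomputable def chiS (Φ : A →ₐ[R] Matrix (Fin n) (Fin n) S) :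
    S ⊗[R] (⨂[R] _ : Fin m, A) →ₐ[S] Matrix (Fin m → Fin n) (Fin m → Fin n) S :=
  Algebra.TensorProduct.lift (Algebra.ofId S _) (chi Φ) (fun s t => Algebra.commutes s _)

@[simp] theorem chiS_tmul (Φ : A →ₐ[R] Matrix (Fin n) (Fin n) S) (s : S)
    (t : ⨂[R] _ : Fin m, A) : chiS (m := m) Φ (s ⊗ₜ[R] t) = s • chi Φ t := by
  rw [chiS, Algebra.TensorProduct.lift_tmul, Algebra.ofId_apply, Algebra.algebraMap_eq_smul_one,
    smul_mul_assoc, one_mul]

theorem chiS_intertwine (Φ Ψ : A →ₐ[R] Matrix (Fin n) (Fin n) S)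
    (C : Matrix (Fin n) (Fin n) S) (hC : ∀ a, Φ a * C = C * Ψ a)
    (y : S ⊗[R] (⨂[R] _ : Fin m, A)) :
    chiS (m := m) Φ y * kron (fun _ : Fin m => C) = kron (fun _ : Fin m => C) * chiS Ψ y := by
  induction y using TensorProduct.induction_on with
  | zero => simp
  | tmul s t =>
    rw [chiS_tmul, chiS_tmul, smul_mul_assoc, mul_smul_comm, chi_intertwine Φ Ψ C hC]
  | add x y hx hy => rw [map_add, map_add, add_mul, mul_add, hx, hy]

theorem chiS_map {S' : Type w'} [CommRing S'] [Algebra R S'] (j : S →ₐ[R] S')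
    (Φ : A →ₐ[R] Matrix (Fin n) (Fin n) S) (y : S ⊗[R] (⨂[R] _ : Fin m, A)) :
    chiS (m := m) (j.mapMatrix.comp Φ)
      (Algebra.TensorProduct.map j (AlgHom.id R (⨂[R] _ : Fin m, A)) y) = (chiS Φ y).map j := by
  induction y using TensorProduct.induction_on with
  | zero =>
    rw [map_zero, map_zero, map_zero]
    ext f g
    simp
  | tmul s t =>
    rw [Algebra.TensorProduct.map_tmul, AlgHom.id_apply, chiS_tmul, chiS_tmul, chi_map]
    ext f g
    simp
  | add x y hx hy =>
    rw [map_add, map_add, map_add, hx, hy]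
    ext f g
    simp

end

end Groth.Agent.Lib.TPowH6
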