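import Mathlib
import Groth.Agent.Lib.TPow4_helper6
import Groth.Agent.Lib.TPow5_helper6
import Groth.Agent.Lib.RedCharpoly_helper6

/-!
# Independence of the antisymmetrizer from the splitting (helper6)
-/

set_option autoImplicit false

namespace Groth.Agent.Lib.TPowH6

open PiTensorProduct TensorProduct MulOpposite Matrix
open Groth.Agent.Lib.RedCharpoly

universe u v w

section retraction

variable (R : Type u) [CommRing R] (A : Type v) [Ring A] [Algebra R A]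

theorem exists_retraction [Module.Finite R A] [Module.Projective R A] [FaithfulSMul R A] :
    ∃ t : A →ₗ[R] R, t 1 = 1 := by
  obtain ⟨I, hI⟩ : ∃ I : Ideal R, ∀ r, r ∈ I ↔ ∃ t : A →ₗ[R] R, t 1 = r := by
    refine ⟨LinearMap.range ((LinearMap.applyₗ (1 : A)) : Module.Dual R A →ₗ[R] R), fun r => ?_⟩
    rfl
  have htop : I = ⊤ := Groth.Agent.Lib.AzumayaBaseChange.trace_ideal_eq_top R A I (fun f a =>
    (hI _).mpr ⟨f ∘ₗ LinearMap.mulRight R a, by simp⟩)
  have h1 : (1 : R) ∈ I := htop ▸ Submodule.mem_top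
  exact (hI 1).mp h1

variable {R A}

theorem exists_sep [IsAzumaya R A] (t : A →ₗ[R] R) :
    ∃ e : A ⊗[R] Aᵐᵒᵖ, ∀ x, AlgHom.mulLeftRight R A e x = t x • (1 : A) := by
  obtain ⟨e, he⟩ := (IsAzumaya.bij (R := R) (A := A)).2 ((LinearMap.toSpanSingleton R A 1) ∘ₗ t)
  exact ⟨e, fun x => by rw [he]; simp⟩

theorem sep_comm [IsAzumaya R A] (t : A →ₗ[R] R) (e : A ⊗[R] Aᵐᵒᵖ)
    (he : ∀ x, AlgHom.mulLeftRight R A e x = t x • (1 : A)) (a : A) :
    (a ⊗ₜ[R] (1 : Aᵐᵒᵖ)) * e = ((1 : A) ⊗ₜ[R] op a) * e := by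
  apply (IsAzumaya.bij (R := R) (A := A)).1
  refine LinearMap.ext fun x => ?_
  rw [map_mul, map_mul, Module.End.mul_apply, Module.End.mul_apply, he,
    AlgHom.mulLeftRight_apply, AlgHom.mulLeftRight_apply]
  simp

end retraction

section intertwiner

variable {R : Type u} [CommRing R] {A : Type v} [Ring A] [Algebra R A] [IsAzumaya R A]
  {S : Type w} [CommRing S] [Algebra R S] {n : ℕ}

theorem exists_intertwiner (hn : 0 < n) (Φ Ψ : A →ₐ[R] Matrix (Fin n) (Fin n) S)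
    (q : Ideal S) (hq : q.IsMaximal) :
    ∃ C : Matrix (Fin n) (Fin n) S, (∀ a, Φ a * C = C * Ψ a) ∧ C.det ∉ q := by
  classical
  haveI : Module.Finite R A := IsAzumaya.toFinite
  haveI : Module.Projective R A := IsAzumaya.toProjective
  obtain ⟨t, ht⟩ := exists_retraction R A
  obtain ⟨e, he⟩ := exists_sep t
  have hcomm := sep_comm t e he
  letI : Field (S ⧸ q) := Ideal.Quotient.field q
  haveI : Nonempty (Fin n) := ⟨⟨0, hn⟩⟩
  obtain ⟨π, hπ⟩ : ∃ π : S →ₐ[R] S ⧸ q, ∀ s, π s = Ideal.Quotient.mk q s :=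
    ⟨Ideal.Quotient.mkₐ R q, fun _ => rfl⟩
  obtain ⟨Φb, hΦb⟩ : ∃ Φb : A →ₐ[R] Matrix (Fin n) (Fin n) (S ⧸ q),
      ∀ x, Φb x = π.mapMatrix (Φ x) := ⟨π.mapMatrix.comp Φ, fun _ => rfl⟩
  obtain ⟨Ψb, hΨb⟩ : ∃ Ψb : A →ₐ[R] Matrix (Fin n) (Fin n) (S ⧸ q),
      ∀ x, Ψb x = π.mapMatrix (Ψ x) := ⟨π.mapMatrix.comp Ψ, fun _ => rfl⟩
  obtain ⟨Φk, hΦk⟩ : ∃ Φk : (S ⧸ q) ⊗[R] A →ₐ[S ⧸ q] Matrix (Fin n) (Fin n) (S ⧸ q),
      ∀ x, Φk ((1 : S ⧸ q) ⊗ₜ[R] x) = Φb x := by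
    refine ⟨Algebra.TensorProduct.lift (Algebra.ofId (S ⧸ q) _) Φb
      (fun k x => Algebra.commutes k (Φb x)), fun x => ?_⟩
    rw [Algebra.TensorProduct.lift_tmul, map_one, one_mul]
  obtain ⟨Ψk, hΨk⟩ : ∃ Ψk : (S ⧸ q) ⊗[R] A →ₐ[S ⧸ q] Matrix (Fin n) (Fin n) (S ⧸ q),
      ∀ x, Ψk ((1 : S ⧸ q) ⊗ₜ[R] x) = Ψb x := by
    refine ⟨Algebra.TensorProduct.lift (Algebra.ofId (S ⧸ q) _) Ψb
      (fun k x => Algebra.commutes k (Ψb x)), fun x => ?_⟩
    rw [Algebra.TensorProduct.lift_tmul, map_one, one_mul]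
  haveI : IsAzumaya (S ⧸ q) ((S ⧸ q) ⊗[R] A) :=
    Groth.Agent.Lib.AzumayaBaseChange.isAzumaya_baseChange R (S ⧸ q) A
  haveI : IsSimpleRing ((S ⧸ q) ⊗[R] A) :=
    Groth.Agent.Lib.AzumayaFibre.isSimpleRing_of_isAzumaya (S ⧸ q) _
  obtain ⟨g₀, hg₀⟩ := Groth.Agent.Lib.CSACentralizer.skolem_noether Φk Ψk
  have hconj : ∀ x : A, Φb x = (g₀ : Matrix (Fin n) (Fin n) (S ⧸ q)) * Ψb x *
      (↑g₀⁻¹ : Matrix (Fin n) (Fin n) (S ⧸ q)) := by
    intro x
    rw [← hΦk, ← hΨk]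
    exact hg₀ _
  have hsurj : ∀ i j, ∃ s : S, Ideal.Quotient.mk q s =
      (g₀ : Matrix (Fin n) (Fin n) (S ⧸ q)) i j :=
    fun i j => Ideal.Quotient.mk_surjective _
  choose Z hZ using hsurj
  have hZ' : π.mapMatrix (Matrix.of Z) = (g₀ : Matrix (Fin n) (Fin n) (S ⧸ q)) := by
    ext i j
    rw [AlgHom.mapMatrix_apply, Matrix.map_apply, Matrix.of_apply, hπ, hZ]
  have key : ∀ w : A ⊗[R] Aᵐᵒᵖ, π.mapMatrix (gam Φ Ψ (Matrix.of Z) w) =
      (g₀ : Matrix (Fin n) (Fin n) (S ⧸ q)) * Ψb (AlgHom.mulLeftRight R A w 1) := by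
    intro w
    induction w using TensorProduct.induction_on with
    | zero => simp
    | tmul x y =>
      rw [gam_tmul, map_mul, map_mul, ← hΦb, ← hΨb, hZ', hconj, AlgHom.mulLeftRight_apply, mul_one,
        map_mul, mul_assoc _ (↑g₀⁻¹ : Matrix (Fin n) (Fin n) (S ⧸ q)), Units.inv_mul, mul_one,
        mul_assoc]
    | add x y hx hy =>
      rw [map_add, map_add, hx, hy, map_add, LinearMap.add_apply, map_add, mul_add]
  refine ⟨gam Φ Ψ (Matrix.of Z) e, fun a => ?_, fun hmem => ?_⟩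
  · rw [← gam_left, hcomm a, gam_right]
  · have h1 : π.mapMatrix (gam Φ Ψ (Matrix.of Z) e) = (g₀ : Matrix (Fin n) (Fin n) (S ⧸ q)) := by
      rw [key e, he, ht, one_smul, map_one, mul_one]
    have h2 : Ideal.Quotient.mk q (gam Φ Ψ (Matrix.of Z) e).det =
        (g₀ : Matrix (Fin n) (Fin n) (S ⧸ q)).det := by
      rw [← h1, AlgHom.mapMatrix_apply, ← hπ]
      exact RingHom.map_det (π : S →+* S ⧸ q) _
    have h3 : IsUnit (g₀ : Matrix (Fin n) (Fin n) (S ⧸ q)).det :=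
      (Matrix.isUnit_iff_isUnit_det _).1 g₀.isUnit
    rw [← h2, (Ideal.Quotient.eq_zero_iff_mem).2 hmem] at h3
    exact not_isUnit_zero h3

end intertwiner

section unique

variable {S : Type w} [CommRing S] {m n : ℕ}

theorem isUnit_det_kron (C : Matrix (Fin n) (Fin n) S) (hC : IsUnit C.det) :
    IsUnit (kron (fun _ : Fin m => C)).det := by
  have h1 : C * C⁻¹ = 1 := Matrix.mul_nonsing_inv C hC
  have h2 : kron (fun _ : Fin m => C) * kron (fun _ : Fin m => C⁻¹) = 1 := by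
    rw [← kron_mul]
    simp only [h1]
    exact kron_one
  exact Matrix.isUnit_det_of_right_inverse h2

theorem det_kron_notMem (C : Matrix (Fin n) (Fin n) S) (q : Ideal S) (hq : q.IsMaximal)
    (hC : C.det ∉ q) : (kron (fun _ : Fin m => C)).det ∉ q := by
  letI : Field (S ⧸ q) := Ideal.Quotient.field q
  intro hmem
  have h1 : IsUnit (C.map (Ideal.Quotient.mk q)).det := by
    rw [← RingHom.mapMatrix_apply, ← RingHom.map_det]
    rw [isUnit_iff_ne_zero]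
    intro h0
    exact hC ((Ideal.Quotient.eq_zero_iff_mem).1 h0)
  have h2 := isUnit_det_kron (m := m) _ h1
  rw [kron_map, ← RingHom.mapMatrix_apply, ← RingHom.map_det,
    (Ideal.Quotient.eq_zero_iff_mem).2 hmem] at h2
  exact not_isUnit_zero h2

end unique

section unique2

variable {R : Type u} [CommRing R] {A : Type v} [Ring A] [Algebra R A] [IsAzumaya R A]
  {S : Type w} [CommRing S] [Algebra R S] {n : ℕ}

/-- the preimage of the antisymmetrizer does not depend on the splitting. -/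
theorem chiS_eq_asym_of_chiS_eq_asym (hn : 0 < n) (Φ Ψ : A →ₐ[R] Matrix (Fin n) (Fin n) S)
    (x : S ⊗[R] (⨂[R] _ : Fin n, A)) (hx : chiS Φ x = asym S n) : chiS Ψ x = asym S n := by
  obtain ⟨d, hd⟩ : ∃ d, d = chiS Ψ x - asym S n := ⟨_, rfl⟩
  have key : ∀ q : Ideal S, q.IsMaximal → ∃ r : S, r ∉ q ∧ r • d = 0 := by
    intro q hq
    obtain ⟨C, hC, hdet⟩ := exists_intertwiner hn Φ Ψ q hq
    refine ⟨(kron (fun _ : Fin n => C)).det, det_kron_notMem C q hq hdet, ?_⟩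
    have h1 : kron (fun _ : Fin n => C) * d = 0 := by
      rw [hd, mul_sub, ← chiS_intertwine Φ Ψ C hC, hx, asym_mul_kron, kron_mul_asym, sub_self]
    have h2 := congrArg (fun M => (kron (fun _ : Fin n => C)).adjugate * M) h1
    simp only [mul_zero, ← mul_assoc, Matrix.adjugate_mul] at h2
    rw [Matrix.smul_mul, one_mul] at h2
    exact h2
  have hann : (Ideal.span {r : S | r • d = 0}) = ⊤ := by
    by_contra hne
    obtain ⟨q, hq, hle⟩ := Ideal.exists_le_maximal _ hne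
    obtain ⟨r, hrq, hr⟩ := key q hq
    exact hrq (hle (Ideal.subset_span hr))
  have h1 : (1 : S) ∈ Ideal.span {r : S | r • d = 0} := hann ▸ Submodule.mem_top
  have h2 : ∀ r ∈ Ideal.span {r : S | r • d = 0}, r • d = 0 := by
    intro r hr
    induction hr using Submodule.span_induction with
    | mem r hr => exact hr
    | zero => simp
    | add a b _ _ ha hb => rw [add_smul, ha, hb, add_zero]
    | smul c a _ ha => rw [smul_eq_mul, mul_smul, ha, smul_zero]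
  have h3 := h2 1 h1
  rw [one_smul, hd, sub_eq_zero] at h3
  exact h3

end unique2

end Groth.Agent.Lib.TPowH6
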