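import Mathlib
import Groth.Agent.Lib.MoritaEndPoly_helper6
import Groth.Agent.Lib.TPow6_helper6

/-!
# Automorphisms of an Azumaya algebra over a semilocal ring are inner (helper6)
-/

set_option autoImplicit false

namespace Groth.Agent.Lib.AzInvH6

open TensorProduct MulOpposite

universe u v

/-- an Azumaya algebra is faithfully flat. -/
theorem faithfullyFlat_of_isAzumaya (R : Type u) [CommRing R] (A : Type v) [Ring A] [Algebra R A]
    [IsAzumaya R A] : Module.FaithfullyFlat R A := by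
  haveI : Module.Finite R A := IsAzumaya.toFinite
  haveI : Module.Projective R A := IsAzumaya.toProjective
  haveI : FaithfulSMul R A := IsAzumaya.toFaithfulSMul
  obtain ⟨π, hπ⟩ := Groth.Agent.Lib.TPowH6.exists_retraction R A
  refine ⟨fun {m} hm htop => ?_⟩
  have h1 : (1 : A) ∈ (m • ⊤ : Submodule R A) := by rw [htop]; exact Submodule.mem_top
  have h2 : ∀ x ∈ (m • ⊤ : Submodule R A), π x ∈ m := by
    intro x hx
    refine Submodule.smul_induction_on hx ?_ ?_
    · intro r hr a _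
      rw [map_smul, smul_eq_mul]
      exact Ideal.mul_mem_right _ _ hr
    · intro x y hx hy
      rw [map_add]
      exact Ideal.add_mem _ hx hy
  have h3 := h2 1 h1
  rw [hπ] at h3
  exact hm.ne_top ((Ideal.eq_top_iff_one _).mpr h3)

theorem exists_unit_conj_of_semilocal (R : Type u) [CommRing R] [Finite (MaximalSpectrum R)]
    (A : Type v) [Ring A] [Algebra R A] [IsAzumaya R A] (φ : A ≃ₐ[R] A) :
    ∃ u : Aˣ, ∀ a : A, φ a = u * a * (u⁻¹ : Aˣ) := by
  classical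
  haveI : Module.Finite R A := IsAzumaya.toFinite
  haveI : Module.Projective R A := IsAzumaya.toProjective
  haveI : Module.FaithfullyFlat R A := faithfullyFlat_of_isAzumaya R A
  let Ψ : (A ⊗[R] Aᵐᵒᵖ) ≃ₐ[R] Module.End R A :=
    AlgEquiv.ofBijective (AlgHom.mulLeftRight R A) IsAzumaya.bij
  let τ : (A ⊗[R] Aᵐᵒᵖ) ≃ₐ[R] (A ⊗[R] Aᵐᵒᵖ) := Algebra.TensorProduct.congr φ AlgEquiv.refl
  let θ : Module.End R A ≃ₐ[R] Module.End R A := Ψ.symm.trans (τ.trans Ψ)
  have hΨ : ∀ (a : A) (b : Aᵐᵒᵖ) (x : A), Ψ (a ⊗ₜ[R] b) x = a * x * b.unop :=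
    fun a b x => AlgHom.mulLeftRight_apply R A a b x
  have hθ : ∀ (a : A) (b : Aᵐᵒᵖ), θ (Ψ (a ⊗ₜ[R] b)) = Ψ (φ a ⊗ₜ[R] b) := by
    intro a b
    show Ψ (τ (Ψ.symm (Ψ (a ⊗ₜ[R] b)))) = _
    rw [AlgEquiv.symm_apply_apply]
    rfl
  obtain ⟨L, _, _, hL, ξ, hξ⟩ := Groth.Agent.Lib.MoritaEndH6.main θ
  haveI : Module.Free R L := Module.free_of_flat_of_finrank_eq R L 1
    (fun P => by
      letI : Field (R ⧸ P.1) := Ideal.Quotient.field P.1
      exact Module.Invertible.finrank_eq_one ..)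
  obtain ⟨e⟩ := (Module.Invertible.free_iff_linearEquiv (R := R) (M := L)).mp inferInstance
  let ge : A ≃ₗ[R] A := (TensorProduct.rid R A).symm ≪≫ₗ
    TensorProduct.congr (LinearEquiv.refl R A) e.symm ≪≫ₗ ξ
  have hge : ∀ y : A, ge y = ξ (y ⊗ₜ[R] e.symm 1) := by
    intro y
    simp [ge]
  have hg : ∀ (f : Module.End R A) (y : A), θ f (ge y) = ge (f y) := by
    intro f y
    rw [hξ, LinearEquiv.conj_apply, hge, hge]
    simp
  have h1 : ∀ a y : A, ge (a * y) = φ a * ge y := by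
    intro a y
    have h2 := hg (Ψ (a ⊗ₜ[R] (1 : Aᵐᵒᵖ))) y
    rw [hθ, hΨ, hΨ] at h2
    simpa using h2.symm
  have h2 : ∀ y b : A, ge (y * b) = ge y * b := by
    intro y b
    have h3 := hg (Ψ ((1 : A) ⊗ₜ[R] (op b))) y
    rw [hθ, hΨ, hΨ] at h3
    simpa using h3.symm
  have h3 : ∀ y : A, ge y = ge 1 * y := by
    intro y
    have := h2 1 y
    rwa [one_mul] at this
  obtain ⟨v, hv⟩ := ge.surjective 1
  have huv : ge 1 * v = 1 := by rw [← h3, hv]
  have hvu : v * ge 1 = 1 := by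
    apply ge.injective
    rw [h3 (v * ge 1), ← mul_assoc, huv, one_mul, h3 1, mul_one]
  refine ⟨⟨ge 1, v, huv, hvu⟩, fun a => ?_⟩
  show φ a = ge 1 * a * v
  have h4 : φ a * ge 1 = ge 1 * a := by
    rw [← h1, mul_one, h3 a]
  rw [← h4, mul_assoc, huv, mul_one]

end Groth.Agent.Lib.AzInvH6
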