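import Mathlib

/-!
# Directed approximations of a flat algebra and tensor products (helper6)

`Approx S T` : the `S`-algebra `T` is, elementwise, the directed colimit of `S`-algebras `obj i`.
For flat `T`, elements of `T ⊗[S] M` descend to some `obj i ⊗[S] M`, and elements of
`obj i ⊗[S] M` vanishing in `T ⊗[S] M` vanish in some `obj j ⊗[S] M`.
-/

set_option autoImplicit false
universe u v w w'

open TensorProduct

namespace Groth.Agent.Lib.AzInvH6

/-- elementwise directed colimit presentation of an `S`-algebra `T`. -/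
structure Approx (S : Type u) [CommRing S] (T : Type v) [CommRing T] [Algebra S T] where
  ι : Type w
  pre : Preorder ι
  dir : IsDirected ι (· ≤ ·)
  ne : Nonempty ι
  obj : ι → Type v
  ring : ∀ i, CommRing (obj i)
  alg : ∀ i, Algebra S (obj i)
  tr : ∀ {i j : ι}, i ≤ j → obj i →ₐ[S] obj j
  of : ∀ i, obj i →ₐ[S] T
  of_tr : ∀ {i j : ι} (h : i ≤ j) (x : obj i), of j (tr h x) = of i x
  tr_tr : ∀ {i j k : ι} (hij : i ≤ j) (hjk : j ≤ k) (x : obj i),
    tr hjk (tr hij x) = tr (hij.trans hjk) x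
  exists_of : ∀ t : T, ∃ (i : ι) (x : obj i), of i x = t
  of_eq_zero : ∀ {i : ι} (x : obj i), of i x = 0 → ∃ (j : ι) (h : i ≤ j), tr h x = 0

attribute [instance] Approx.pre Approx.dir Approx.ne Approx.ring Approx.alg

namespace Approx

variable {S : Type u} [CommRing S] {T : Type v} [CommRing T] [Algebra S T] (D : Approx.{u, v, w} S T)

theorem exists_of_fin {l : ℕ} (t : Fin l → T) :
    ∃ (i : D.ι) (x : Fin l → D.obj i), ∀ k, D.of i (x k) = t k := by
  induction l with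
  | zero => exact ⟨Classical.arbitrary _, fun k => k.elim0, fun k => k.elim0⟩
  | succ l ih =>
    obtain ⟨i, x, hx⟩ := ih (fun k => t k.castSucc)
    obtain ⟨i', y, hy⟩ := D.exists_of (t (Fin.last l))
    obtain ⟨j, hij, hi'j⟩ := exists_ge_ge i i'
    refine ⟨j, Fin.lastCases (D.tr hi'j y) (fun k => D.tr hij (x k)), fun k => ?_⟩
    refine Fin.lastCases ?_ (fun k => ?_) k
    · simp only [Fin.lastCases_last]
      rw [D.of_tr, hy]
    · simp only [Fin.lastCases_castSucc]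
      rw [D.of_tr, hx]

theorem exists_tr_eq_zero_fin {i : D.ι} {l : ℕ} (x : Fin l → D.obj i)
    (hx : ∀ k, D.of i (x k) = 0) : ∃ (j : D.ι) (h : i ≤ j), ∀ k, D.tr h (x k) = 0 := by
  induction l with
  | zero => exact ⟨i, le_rfl, fun k => k.elim0⟩
  | succ l ih =>
    obtain ⟨j, hij, hj⟩ := ih (fun k => x k.castSucc) (fun k => hx _)
    obtain ⟨j', hjj', hj'⟩ := D.of_eq_zero (D.tr hij (x (Fin.last l)))
      (by rw [D.of_tr]; exact hx _)
    refine ⟨j', hij.trans hjj', fun k => ?_⟩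
    refine Fin.lastCases ?_ (fun k => ?_) k
    · rw [← D.tr_tr hij hjj', hj']
    · rw [← D.tr_tr hij hjj', hj, map_zero]

section Mod

variable (M : Type w') [AddCommGroup M] [Module S M]

/-- the map `obj i ⊗ M → T ⊗ M` -/
noncomputable def ofM (i : D.ι) : D.obj i ⊗[S] M →ₗ[S] T ⊗[S] M :=
  LinearMap.rTensor M (D.of i).toLinearMap

/-- the map `obj i ⊗ M → obj j ⊗ M` -/
noncomputable def trM {i j : D.ι} (h : i ≤ j) : D.obj i ⊗[S] M →ₗ[S] D.obj j ⊗[S] M :=
  LinearMap.rTensor M (D.tr h).toLinearMap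

@[simp] theorem ofM_tmul (i : D.ι) (x : D.obj i) (m : M) :
    D.ofM M i (x ⊗ₜ[S] m) = D.of i x ⊗ₜ[S] m := rfl

@[simp] theorem trM_tmul {i j : D.ι} (h : i ≤ j) (x : D.obj i) (m : M) :
    D.trM M h (x ⊗ₜ[S] m) = D.tr h x ⊗ₜ[S] m := rfl

theorem ofM_trM {i j : D.ι} (h : i ≤ j) (z : D.obj i ⊗[S] M) :
    D.ofM M j (D.trM M h z) = D.ofM M i z := by
  induction z using TensorProduct.induction_on with
  | zero => simp
  | add z₁ z₂ h₁ h₂ => rw [map_add, map_add, map_add, h₁, h₂]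
  | tmul x m => rw [trM_tmul, ofM_tmul, ofM_tmul, D.of_tr]

theorem trM_trM {i j k : D.ι} (hij : i ≤ j) (hjk : j ≤ k) (z : D.obj i ⊗[S] M) :
    D.trM M hjk (D.trM M hij z) = D.trM M (hij.trans hjk) z := by
  induction z using TensorProduct.induction_on with
  | zero => simp
  | add z₁ z₂ h₁ h₂ => rw [map_add, map_add, map_add, h₁, h₂]
  | tmul x m => rw [trM_tmul, trM_tmul, trM_tmul, D.tr_tr]

theorem exists_ofM (z : T ⊗[S] M) : ∃ (i : D.ι) (w : D.obj i ⊗[S] M), D.ofM M i w = z := by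
  induction z using TensorProduct.induction_on with
  | zero => exact ⟨Classical.arbitrary _, 0, map_zero _⟩
  | tmul t m =>
    obtain ⟨i, x, hx⟩ := D.exists_of t
    exact ⟨i, x ⊗ₜ[S] m, by rw [ofM_tmul, hx]⟩
  | add z₁ z₂ h₁ h₂ =>
    obtain ⟨i₁, w₁, hw₁⟩ := h₁
    obtain ⟨i₂, w₂, hw₂⟩ := h₂
    obtain ⟨j, h1, h2⟩ := exists_ge_ge i₁ i₂
    exact ⟨j, D.trM M h1 w₁ + D.trM M h2 w₂, by rw [map_add, ofM_trM, ofM_trM, hw₁, hw₂]⟩

theorem exists_ofM_fin {l : ℕ} (z : Fin l → T ⊗[S] M) :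
    ∃ (i : D.ι) (w : Fin l → D.obj i ⊗[S] M), ∀ k, D.ofM M i (w k) = z k := by
  induction l with
  | zero => exact ⟨Classical.arbitrary _, fun k => k.elim0, fun k => k.elim0⟩
  | succ l ih =>
    obtain ⟨i, x, hx⟩ := ih (fun k => z k.castSucc)
    obtain ⟨i', y, hy⟩ := D.exists_ofM M (z (Fin.last l))
    obtain ⟨j, hij, hi'j⟩ := exists_ge_ge i i'
    refine ⟨j, Fin.lastCases (D.trM M hi'j y) (fun k => D.trM M hij (x k)), fun k => ?_⟩
    refine Fin.lastCases ?_ (fun k => ?_) k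
    · simp only [Fin.lastCases_last]
      rw [ofM_trM, hy]
    · simp only [Fin.lastCases_castSucc]
      rw [ofM_trM, hx]

theorem ofM_eq_zero [Module.Flat S T] {i : D.ι} (z : D.obj i ⊗[S] M) (hz : D.ofM M i z = 0) :
    ∃ (j : D.ι) (h : i ≤ j), D.trM M h z = 0 := by
  classical
  obtain ⟨F, hF⟩ := TensorProduct.exists_finset z
  -- index by the finset
  have h0 : ∑ k : F, (k.1.2 : M) ⊗ₜ[S] D.of i k.1.1 = (0 : M ⊗[S] T) := by
    have h1 : D.ofM M i z = ∑ k : F, D.of i k.1.1 ⊗ₜ[S] (k.1.2 : M) := by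
      rw [hF, map_sum, ← Finset.sum_coe_sort F]
      rfl
    have h2 := congrArg (TensorProduct.comm S T M) (h1.symm.trans hz)
    rw [map_sum, map_zero] at h2
    simpa using h2
  have hinj : Function.Injective
      (LinearMap.rTensor T (Submodule.span S (Set.range fun k : F => (k.1.2 : M))).subtype) :=
    Module.Flat.rTensor_preserves_injective_linearMap _ (Submodule.injective_subtype _)
  obtain ⟨l, a, y, hy, ha⟩ :=
    TensorProduct.vanishesTrivially_of_sum_tmul_eq_zero_of_rTensor_injective S hinj h0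
  obtain ⟨i', y', hy'⟩ := D.exists_of_fin y
  obtain ⟨j₀, hij₀, hi'j₀⟩ := exists_ge_ge i i'
  -- the equations at stage `j₀`
  let eF := Fintype.equivFin F
  have hz' : ∀ k : Fin (Fintype.card F), D.of j₀ (D.tr hij₀ (eF.symm k).1.1 -
      ∑ j, a (eF.symm k) j • D.tr hi'j₀ (y' j)) = 0 := by
    intro k
    have hyk := hy (eF.symm k)
    beta_reduce at hyk
    rw [map_sub, D.of_tr, map_sum, hyk, sub_eq_zero]
    refine Finset.sum_congr rfl fun j _ => ?_
    rw [map_smul, D.of_tr, hy']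
  obtain ⟨j, hj₀j, hj⟩ := D.exists_tr_eq_zero_fin _ hz'
  refine ⟨j, hij₀.trans hj₀j, ?_⟩
  have hk : ∀ k : F, D.tr (hij₀.trans hj₀j) k.1.1 =
      ∑ j', a k j' • D.tr (hi'j₀.trans hj₀j) (y' j') := by
    intro k
    have := hj (eF k)
    rw [Equiv.symm_apply_apply, map_sub, sub_eq_zero, D.tr_tr, map_sum] at this
    rw [this]
    refine Finset.sum_congr rfl fun j' _ => ?_
    rw [map_smul, D.tr_tr]
  have h3 : D.trM M (hij₀.trans hj₀j) z = ∑ k : F, D.tr (hij₀.trans hj₀j) k.1.1 ⊗ₜ[S] (k.1.2 : M) := by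
    rw [hF, map_sum, ← Finset.sum_coe_sort F]
    rfl
  rw [h3]
  simp_rw [hk, TensorProduct.sum_tmul, TensorProduct.smul_tmul]
  rw [Finset.sum_comm]
  simp_rw [← TensorProduct.tmul_sum, ha, TensorProduct.tmul_zero, Finset.sum_const_zero]

theorem ofM_eq_zero_fin [Module.Flat S T] {i : D.ι} {l : ℕ} (z : Fin l → D.obj i ⊗[S] M)
    (hz : ∀ k, D.ofM M i (z k) = 0) : ∃ (j : D.ι) (h : i ≤ j), ∀ k, D.trM M h (z k) = 0 := by
  induction l with
  | zero => exact ⟨i, le_rfl, fun k => k.elim0⟩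
  | succ l ih =>
    obtain ⟨j, hij, hj⟩ := ih (fun k => z k.castSucc) (fun k => hz _)
    obtain ⟨j', hjj', hj'⟩ := D.ofM_eq_zero M (D.trM M hij (z (Fin.last l)))
      (by rw [ofM_trM]; exact hz _)
    refine ⟨j', hij.trans hjj', fun k => ?_⟩
    refine Fin.lastCases ?_ (fun k => ?_) k
    · rw [← D.trM_trM M hij hjj', hj']
    · rw [← D.trM_trM M hij hjj', hj, map_zero]

end Mod

end Approx

end Groth.Agent.Lib.AzInvH6
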