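import Mathlib
import Groth.Agent.Lib.AzInv4_helper6

/-!
# The Zariski approximation: `E_Q` is the directed colimit of the `E_g`, `g ∉ Q` (helper6)
-/

set_option autoImplicit false
universe u v

open TensorProduct

namespace Groth.Agent.Lib.AzInvH6

section Zar

variable (S : Type u) [CommRing S] (E : Type v) [CommRing E] [Algebra S E] (Q : Ideal E)
  [hQ : Q.IsPrime]

/-- index type: elements outside `Q`, ordered by divisibility -/
structure ZIdx where
  val : E
  prop : val ∉ Q

variable {E Q}

instance : Preorder (ZIdx E Q) where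
  le i j := i.val ∣ j.val
  le_refl i := dvd_refl _
  le_trans i j k := dvd_trans

theorem ZIdx.le_def (i j : ZIdx E Q) : i ≤ j ↔ i.val ∣ j.val := Iff.rfl

/-- product of two indices -/
def ZIdx.mul (i j : ZIdx E Q) : ZIdx E Q := ⟨i.val * j.val, fun h =>
  (hQ.mem_or_mem h).elim i.prop j.prop⟩

theorem ZIdx.le_mul_left (i j : ZIdx E Q) : i ≤ i.mul j := Dvd.intro _ rfl
theorem ZIdx.le_mul_right (i j : ZIdx E Q) : j ≤ i.mul j := Dvd.intro_left _ rfl

instance : IsDirected (ZIdx E Q) (· ≤ ·) :=
  ⟨fun i j => ⟨i.mul j, i.le_mul_left j, i.le_mul_right j⟩⟩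

instance : Nonempty (ZIdx E Q) := ⟨⟨1, fun h => hQ.ne_top ((Ideal.eq_top_iff_one _).mpr h)⟩⟩

theorem isUnit_of_le {i j : ZIdx E Q} (h : i ≤ j) (y : Submonoid.powers i.val) :
    IsUnit ((IsScalarTower.toAlgHom S E (Localization.Away j.val)) y) := by
  obtain ⟨_, n, rfl⟩ := y
  show IsUnit (algebraMap E (Localization.Away j.val) (i.val ^ n))
  rw [map_pow]
  refine IsUnit.pow _ ?_
  exact isUnit_of_dvd_unit (map_dvd _ h) (IsLocalization.Away.algebraMap_isUnit j.val)

theorem isUnit_atPrime (i : ZIdx E Q) (y : Submonoid.powers i.val) :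
    IsUnit ((IsScalarTower.toAlgHom S E (Localization.AtPrime Q)) y) := by
  obtain ⟨_, n, rfl⟩ := y
  show IsUnit (algebraMap E (Localization.AtPrime Q) (i.val ^ n))
  rw [map_pow]
  refine IsUnit.pow _ ?_
  exact IsLocalization.map_units (Localization.AtPrime Q) (⟨i.val, i.prop⟩ : Q.primeCompl)

variable (E Q)

/-- transition maps -/
noncomputable def zarTr {i j : ZIdx E Q} (h : i ≤ j) :
    Localization.Away i.val →ₐ[S] Localization.Away j.val :=
  IsLocalization.liftAlgHom (M := Submonoid.powers i.val) (isUnit_of_le S h)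

/-- maps to the local ring -/
noncomputable def zarOf (i : ZIdx E Q) : Localization.Away i.val →ₐ[S] Localization.AtPrime Q :=
  IsLocalization.liftAlgHom (M := Submonoid.powers i.val) (isUnit_atPrime S i)

theorem zarTr_algebraMap {i j : ZIdx E Q} (h : i ≤ j) (e : E) :
    zarTr S E Q h (algebraMap E _ e) = algebraMap E _ e := by
  simp [zarTr]

theorem zarOf_algebraMap (i : ZIdx E Q) (e : E) :
    zarOf S E Q i (algebraMap E _ e) = algebraMap E _ e := by
  simp [zarOf]

theorem zarOf_tr {i j : ZIdx E Q} (h : i ≤ j) (x : Localization.Away i.val) :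
    zarOf S E Q j (zarTr S E Q h x) = zarOf S E Q i x := by
  have : ((zarOf S E Q j).toRingHom.comp (zarTr S E Q h).toRingHom) = (zarOf S E Q i).toRingHom := by
    apply IsLocalization.ringHom_ext (Submonoid.powers i.val)
    ext e
    simp [zarTr_algebraMap, zarOf_algebraMap]
  exact congrArg (fun f => f x) this

theorem zarTr_tr {i j k : ZIdx E Q} (hij : i ≤ j) (hjk : j ≤ k) (x : Localization.Away i.val) :
    zarTr S E Q hjk (zarTr S E Q hij x) = zarTr S E Q (hij.trans hjk) x := by
  have : ((zarTr S E Q hjk).toRingHom.comp (zarTr S E Q hij).toRingHom) =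
      (zarTr S E Q (hij.trans hjk)).toRingHom := by
    apply IsLocalization.ringHom_ext (Submonoid.powers i.val)
    ext e
    simp [zarTr_algebraMap]
  exact congrArg (fun f => f x) this

/-- the Zariski approximation of `E_Q` -/
noncomputable def zarApprox : Approx.{u, v, v} S (Localization.AtPrime Q) where
  ι := ZIdx E Q
  pre := inferInstance
  dir := inferInstance
  ne := inferInstance
  obj i := Localization.Away i.val
  ring _ := inferInstance
  alg _ := inferInstance
  tr h := zarTr S E Q h
  of i := zarOf S E Q i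
  of_tr h x := zarOf_tr S E Q h x
  tr_tr hij hjk x := zarTr_tr S E Q hij hjk x
  exists_of t := by
    obtain ⟨⟨a, s⟩, hs⟩ := IsLocalization.surj Q.primeCompl t
    refine ⟨⟨s.1, s.2⟩, IsLocalization.mk' _ a (⟨s.1, Submonoid.mem_powers _⟩ :
      Submonoid.powers s.1), ?_⟩
    have hu : IsUnit (algebraMap E (Localization.AtPrime Q) s.1) :=
      IsLocalization.map_units _ s
    apply hu.mul_left_injective
    show zarOf S E Q ⟨s.1, s.2⟩ _ * algebraMap E (Localization.AtPrime Q) s.1 =
      t * algebraMap E (Localization.AtPrime Q) s.1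
    rw [← zarOf_algebraMap S E Q ⟨s.1, s.2⟩ s.1, ← map_mul]
    have := IsLocalization.mk'_spec (Localization.Away s.1) a
      (⟨s.1, Submonoid.mem_powers _⟩ : Submonoid.powers s.1)
    rw [this, zarOf_algebraMap, zarOf_algebraMap]
    exact hs.symm
  of_eq_zero := by
    intro i x hx
    obtain ⟨⟨a, s⟩, hs⟩ := IsLocalization.surj (Submonoid.powers i.val) x
    have h1 : algebraMap E (Localization.AtPrime Q) a = 0 := by
      have := congrArg (zarOf S E Q i) hs
      rw [map_mul, hx, zero_mul, zarOf_algebraMap] at this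
      exact this.symm
    obtain ⟨c, hc⟩ := (IsLocalization.map_eq_zero_iff Q.primeCompl _ _).mp h1
    let j : ZIdx E Q := i.mul ⟨c.1, c.2⟩
    refine ⟨j, i.le_mul_left _, ?_⟩
    have hs' : IsUnit (algebraMap E (Localization.Away j.val) s.1) := by
      obtain ⟨_, n, rfl⟩ := s
      show IsUnit (algebraMap E (Localization.Away j.val) (i.val ^ n))
      rw [map_pow]
      exact IsUnit.pow _ (isUnit_of_dvd_unit (map_dvd _ (Dvd.intro _ rfl))
        (IsLocalization.Away.algebraMap_isUnit j.val))
    have hcu : IsUnit (algebraMap E (Localization.Away j.val) c.1) :=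
      isUnit_of_dvd_unit (map_dvd _ (Dvd.intro_left _ rfl))
        (IsLocalization.Away.algebraMap_isUnit j.val)
    have h2 : algebraMap E (Localization.Away j.val) a = 0 := by
      apply hcu.mul_right_injective
      show algebraMap E (Localization.Away j.val) c.1 * algebraMap E (Localization.Away j.val) a =
        algebraMap E (Localization.Away j.val) c.1 * 0
      rw [← map_mul, hc, map_zero, mul_zero]
    apply hs'.mul_left_injective
    show zarTr S E Q _ x * _ = 0 * _
    rw [zero_mul, ← zarTr_algebraMap S E Q (i.le_mul_left ⟨c.1, c.2⟩) s.1, ← map_mul, hs,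
      zarTr_algebraMap, h2]

end Zar

end Groth.Agent.Lib.AzInvH6
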