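import Mathlib
import Groth.Prelude.Def_AzInv
import Groth.Prelude.Def_W4c2azumayainvolQEt
import Groth.Agent.Lib.AzumayaBaseChange_helper6

/-!
# Azumaya algebras with involution, base change along `S → T` (helper6)

For a commutative `S`-algebra `T`, `T ⊗[S] A` is an algebra over `T ⊗[S] R`, isomorphic to the base
change `(T ⊗[S] R) ⊗[R] A`; so it is Azumaya of the same degree.
-/

set_option autoImplicit false
universe u v w u'

open TensorProduct

namespace Groth.Agent.Lib.AzInvH6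

attribute [local instance] Algebra.TensorProduct.rightAlgebra

section Alg

variable (S : Type u) (R : Type v) [CommRing S] [CommRing R] [Algebra S R]
  (T : Type u') [CommRing T] [Algebra S T]
  (A : Type w) [Ring A] [Algebra S A] [Algebra R A] [IsScalarTower S R A]

/-- the ring hom `T ⊗ R → T ⊗ A` -/
noncomputable def toA : T ⊗[S] R →ₐ[T] T ⊗[S] A :=
  Algebra.TensorProduct.map (AlgHom.id T T) (IsScalarTower.toAlgHom S R A)

theorem toA_tmul (c : T) (r : R) : toA S R T A (c ⊗ₜ[S] r) = c ⊗ₜ[S] algebraMap R A r := by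
  simp [toA]

theorem toA_commutes (x : T ⊗[S] R) (y : T ⊗[S] A) : toA S R T A x * y = y * toA S R T A x := by
  induction x using TensorProduct.induction_on with
  | zero => simp
  | add x₁ x₂ h₁ h₂ => rw [map_add, add_mul, mul_add, h₁, h₂]
  | tmul c r =>
    induction y using TensorProduct.induction_on with
    | zero => simp
    | add y₁ y₂ h₁ h₂ => rw [mul_add, add_mul, h₁, h₂]
    | tmul d a =>
      rw [toA_tmul, Algebra.TensorProduct.tmul_mul_tmul, Algebra.TensorProduct.tmul_mul_tmul,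
        mul_comm c d, Algebra.commutes]

/-- the `T ⊗ R`-algebra structure on `T ⊗ A` -/
noncomputable def algT : Algebra (T ⊗[S] R) (T ⊗[S] A) :=
  (toA S R T A).toRingHom.toAlgebra' (fun x y => toA_commutes S R T A x y)


noncomputable def kappaL : (T ⊗[S] R) ⊗[R] A ≃ₗ[T] T ⊗[S] A :=
  Algebra.IsPushout.cancelBaseChange S T R (T ⊗[S] R) A

theorem kappaL_symm_tmul (c : T) (a : A) :
    (kappaL S R T A).symm (c ⊗ₜ[S] a) = (c ⊗ₜ[S] (1 : R)) ⊗ₜ[R] a := by
  simp [kappaL]

noncomputable def kappa : (T ⊗[S] R) ⊗[R] A ≃ₐ[T] T ⊗[S] A :=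
  AlgEquiv.symm (AlgEquiv.ofLinearEquiv (kappaL S R T A).symm
    (by simp [Algebra.TensorProduct.one_def, kappaL_symm_tmul])
    (by
      apply LinearMap.map_mul_of_map_mul_tmul
      intro a₁ a₂ b₁ b₂
      simp [kappaL_symm_tmul]))

theorem kappa_symm_tmul (c : T) (a : A) :
    (kappa S R T A).symm (c ⊗ₜ[S] a) = (c ⊗ₜ[S] (1 : R)) ⊗ₜ[R] a :=
  kappaL_symm_tmul S R T A c a

theorem kappa_tmul (c : T) (r : R) (a : A) :
    kappa S R T A ((c ⊗ₜ[S] r) ⊗ₜ[R] a) = c ⊗ₜ[S] (r • a) := by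
  apply (kappa S R T A).symm.injective
  rw [AlgEquiv.symm_apply_apply, kappa_symm_tmul]
  have : (c ⊗ₜ[S] r : T ⊗[S] R) = r • (c ⊗ₜ[S] (1 : R)) := by
    rw [Algebra.smul_def, Algebra.TensorProduct.right_algebraMap_apply,
      Algebra.TensorProduct.tmul_mul_tmul, one_mul, mul_one]
  rw [this, TensorProduct.smul_tmul]


attribute [local instance] algT

instance : IsScalarTower T (T ⊗[S] R) (T ⊗[S] A) :=
  IsScalarTower.of_algebraMap_eq (fun c => by
    show (algebraMap T (T ⊗[S] A)) c = toA S R T A (algebraMap T (T ⊗[S] R) c)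
    rw [AlgHom.commutes])

theorem algebraMap_algT (x : T ⊗[S] R) : algebraMap (T ⊗[S] R) (T ⊗[S] A) x = toA S R T A x := rfl

theorem smul_algT (x : T ⊗[S] R) (y : T ⊗[S] A) : x • y = toA S R T A x * y := by
  rw [Algebra.smul_def]; rfl

theorem kappa_algebraMap (x : T ⊗[S] R) :
    kappa S R T A (x ⊗ₜ[R] (1 : A)) = toA S R T A x := by
  induction x using TensorProduct.induction_on with
  | zero => simp
  | add x₁ x₂ h₁ h₂ => rw [TensorProduct.add_tmul, map_add, map_add, h₁, h₂]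
  | tmul c r => rw [kappa_tmul, toA_tmul, Algebra.smul_def, mul_one]

/-- `κ` as a `T ⊗ R`-algebra isomorphism -/
noncomputable def kappaR : (T ⊗[S] R) ⊗[R] A ≃ₐ[T ⊗[S] R] T ⊗[S] A :=
  AlgEquiv.ofRingEquiv (f := (kappa S R T A).toRingEquiv) (fun x => by
    show kappa S R T A (algebraMap (T ⊗[S] R) ((T ⊗[S] R) ⊗[R] A) x) = _
    rw [Algebra.TensorProduct.algebraMap_apply, algebraMap_algT]
    exact kappa_algebraMap S R T A x)

theorem kappaR_apply (x : (T ⊗[S] R) ⊗[R] A) : kappaR S R T A x = kappa S R T A x := rfl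

theorem isAzumaya_bc [IsAzumaya R A] : IsAzumaya (T ⊗[S] R) (T ⊗[S] A) := by
  haveI : IsAzumaya (T ⊗[S] R) ((T ⊗[S] R) ⊗[R] A) :=
    Groth.Agent.Lib.AzumayaBaseChange.isAzumaya_baseChange R (T ⊗[S] R) A
  exact IsAzumaya.of_AlgEquiv (e := kappaR S R T A)

theorem rankAtStalk_bc [Module.Finite R A] [Module.Projective R A]
    (n : ℕ) (h : ∀ p : PrimeSpectrum R, Module.rankAtStalk (R := R) A p = n)
    (p : PrimeSpectrum (T ⊗[S] R)) : Module.rankAtStalk (R := T ⊗[S] R) (T ⊗[S] A) p = n := by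
  rw [← Module.rankAtStalk_eq_of_equiv (kappaR S R T A).toLinearEquiv,
    Module.rankAtStalk_baseChange]
  exact h _

end Alg

end Groth.Agent.Lib.AzInvH6
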