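import Mathlib
import Groth.Agent.Lib.AzInv1_helper6

/-!
# Base change of a `lam`-involution as a `LamInv` over `T ⊗ R` (helper6)
-/

set_option autoImplicit false
universe u v w u'

open TensorProduct

namespace Groth.Agent.Lib.AzInvH6

attribute [local instance] algT

section Inv

variable (S : Type u) {R : Type v} [CommRing S] [CommRing R] [Algebra S R]
  (lam : R ≃ₐ[S] R)
  (T : Type u') [CommRing T] [Algebra S T]
  {A : Type w} [Ring A] [Algebra S A] [Algebra R A] [IsScalarTower S R A]

/-- base change of the involution of `R` -/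
noncomputable def lamT : T ⊗[S] R ≃ₐ[T] T ⊗[S] R :=
  Algebra.TensorProduct.congr AlgEquiv.refl lam

theorem lamT_tmul (c : T) (r : R) : lamT S lam T (c ⊗ₜ[S] r) = c ⊗ₜ[S] lam r := by
  simp [lamT]

theorem lamT_invol (hlam : ∀ r, lam (lam r) = r) (x : T ⊗[S] R) :
    lamT S lam T (lamT S lam T x) = x := by
  induction x using TensorProduct.induction_on with
  | zero => simp
  | add x₁ x₂ h₁ h₂ => rw [map_add, map_add, h₁, h₂]
  | tmul c r => rw [lamT_tmul, lamT_tmul, hlam]

variable (t : AzInv.LamInv R A lam)

theorem bc_mul (x y : T ⊗[S] A) :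
    t.bc S lam T (x * y) = t.bc S lam T y * t.bc S lam T x := by
  induction x using TensorProduct.induction_on with
  | zero => simp
  | add x₁ x₂ h₁ h₂ => rw [add_mul, map_add, map_add, mul_add, h₁, h₂]
  | tmul c a =>
    induction y using TensorProduct.induction_on with
    | zero => simp
    | add y₁ y₂ h₁ h₂ => rw [mul_add, map_add, map_add, add_mul, h₁, h₂]
    | tmul d b =>
      rw [Algebra.TensorProduct.tmul_mul_tmul, AzInv.LamInv.bc_tmul, AzInv.LamInv.bc_tmul,
        AzInv.LamInv.bc_tmul, Algebra.TensorProduct.tmul_mul_tmul, t.map_mul, mul_comm c d]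

theorem bc_toA (x : T ⊗[S] R) :
    t.bc S lam T (toA S R T A x) = toA S R T A (lamT S lam T x) := by
  induction x using TensorProduct.induction_on with
  | zero => simp
  | add x₁ x₂ h₁ h₂ => rw [map_add, map_add, map_add, map_add, h₁, h₂]
  | tmul c r => rw [toA_tmul, AzInv.LamInv.bc_tmul, lamT_tmul, toA_tmul, t.map_algebraMap]

theorem bc_bc (x : T ⊗[S] A) : t.bc S lam T (t.bc S lam T x) = x := by
  induction x using TensorProduct.induction_on with
  | zero => simp
  | add x₁ x₂ h₁ h₂ => rw [map_add, map_add, h₁, h₂]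
  | tmul c a => rw [AzInv.LamInv.bc_tmul, AzInv.LamInv.bc_tmul, t.invol]

/-- the base change of `t` as a `lamT`-involution -/
noncomputable def tT : AzInv.LamInv (T ⊗[S] R) (T ⊗[S] A) (lamT S lam T) where
  toFun := t.bc S lam T
  map_add' := map_add _
  map_mul' := bc_mul S lam T t
  map_smul' x y := by
    rw [smul_algT, smul_algT, bc_mul, bc_toA, toA_commutes]
  invol' := bc_bc S lam T t

theorem tT_apply (x : T ⊗[S] A) : tT S lam T t x = t.bc S lam T x := rfl

end Inv

end Groth.Agent.Lib.AzInvH6
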