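import Mathlib
import Groth.Agent.Lib.AzInv2_helper6
import Groth.Agent.Lib.AzInv4_helper6

/-!
# Functoriality of `T ↦ T ⊗[S] A` in the `S`-algebra `T` (helper6)
-/

set_option autoImplicit false
universe u v w u' u''

open TensorProduct

namespace Groth.Agent.Lib.AzInvH6

section Bc

variable {S : Type u} [CommRing S] {T₁ : Type u'} [CommRing T₁] [Algebra S T₁]
  {T₂ : Type u''} [CommRing T₂] [Algebra S T₂] (g : T₁ →ₐ[S] T₂)
  (A : Type w) [Ring A] [Algebra S A]

/-- base change map `T₁ ⊗ A → T₂ ⊗ A` -/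
noncomputable def bcA : T₁ ⊗[S] A →ₐ[S] T₂ ⊗[S] A :=
  Algebra.TensorProduct.map g (AlgHom.id S A)

@[simp] theorem bcA_tmul (c : T₁) (a : A) : bcA g A (c ⊗ₜ[S] a) = g c ⊗ₜ[S] a := by
  simp [bcA]

theorem bcA_eq_rTensor (z : T₁ ⊗[S] A) : bcA g A z = LinearMap.rTensor A g.toLinearMap z := by
  induction z using TensorProduct.induction_on with
  | zero => simp
  | add z₁ z₂ h₁ h₂ => rw [map_add, map_add, h₁, h₂]
  | tmul c a => rw [bcA_tmul]; rfl

end Bc

section BcInv

variable {S : Type u} {R : Type v} [CommRing S] [CommRing R] [Algebra S R]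
  {T₁ : Type u'} [CommRing T₁] [Algebra S T₁]
  {T₂ : Type u''} [CommRing T₂] [Algebra S T₂] (g : T₁ →ₐ[S] T₂)
  {A : Type w} [Ring A] [Algebra S A] [Algebra R A] [IsScalarTower S R A]

theorem bcA_toA (y : T₁ ⊗[S] R) :
    bcA g A (toA S R T₁ A y) = toA S R T₂ A (bcA g R y) := by
  induction y using TensorProduct.induction_on with
  | zero => simp
  | add y₁ y₂ h₁ h₂ => simp only [map_add, h₁, h₂]
  | tmul c r => rw [toA_tmul, bcA_tmul, bcA_tmul, toA_tmul]

variable (lam : R ≃ₐ[S] R)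

theorem bcA_lamT (y : T₁ ⊗[S] R) :
    bcA g R (lamT S lam T₁ y) = lamT S lam T₂ (bcA g R y) := by
  induction y using TensorProduct.induction_on with
  | zero => simp
  | add y₁ y₂ h₁ h₂ => simp only [map_add, h₁, h₂]
  | tmul c r => rw [lamT_tmul, bcA_tmul, bcA_tmul, lamT_tmul]

theorem bcA_bc (t : AzInv.LamInv R A lam) (z : T₁ ⊗[S] A) :
    bcA g A (t.bc S lam T₁ z) = t.bc S lam T₂ (bcA g A z) := by
  induction z using TensorProduct.induction_on with
  | zero => simp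
  | add z₁ z₂ h₁ h₂ => simp only [map_add, h₁, h₂]
  | tmul c a => rw [AzInv.LamInv.bc_tmul, bcA_tmul, bcA_tmul, AzInv.LamInv.bc_tmul]

theorem bcA_congr (ψ : A ≃ₐ[R] A) (z : T₁ ⊗[S] A) :
    bcA g A (Algebra.TensorProduct.congr (AlgEquiv.refl : T₁ ≃ₐ[T₁] T₁) (ψ.restrictScalars S) z) =
      Algebra.TensorProduct.congr (AlgEquiv.refl : T₂ ≃ₐ[T₂] T₂) (ψ.restrictScalars S)
        (bcA g A z) := by
  induction z using TensorProduct.induction_on with
  | zero => simp
  | add z₁ z₂ h₁ h₂ => simp only [map_add, h₁, h₂]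
  | tmul c a => simp

end BcInv

end Groth.Agent.Lib.AzInvH6
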