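import Mathlib
import Groth.Agent.Lib.AzInv5_helper6

/-!
# Algebra versions of the approximation lemmas; products (helper6)
-/

set_option autoImplicit false
universe u v w w'

open TensorProduct

namespace Groth.Agent.Lib.AzInvH6

namespace Approx

variable {S : Type u} [CommRing S] {T : Type v} [CommRing T] [Algebra S T]
  (D : Approx.{u, v, w} S T) (A : Type w') [Ring A] [Algebra S A]

/-- `obj i ⊗ A → T ⊗ A` as an algebra map -/
noncomputable def ofA (i : D.ι) : D.obj i ⊗[S] A →ₐ[S] T ⊗[S] A := bcA (D.of i) A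

/-- `obj i ⊗ A → obj j ⊗ A` as an algebra map -/
noncomputable def trA {i j : D.ι} (h : i ≤ j) : D.obj i ⊗[S] A →ₐ[S] D.obj j ⊗[S] A :=
  bcA (D.tr h) A

theorem ofA_eq_ofM (i : D.ι) (z : D.obj i ⊗[S] A) : D.ofA A i z = D.ofM A i z :=
  bcA_eq_rTensor _ _ z

theorem trA_eq_trM {i j : D.ι} (h : i ≤ j) (z : D.obj i ⊗[S] A) : D.trA A h z = D.trM A h z :=
  bcA_eq_rTensor _ _ z

@[simp] theorem ofA_tmul (i : D.ι) (x : D.obj i) (a : A) :
    D.ofA A i (x ⊗ₜ[S] a) = D.of i x ⊗ₜ[S] a := bcA_tmul _ _ _ _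

@[simp] theorem trA_tmul {i j : D.ι} (h : i ≤ j) (x : D.obj i) (a : A) :
    D.trA A h (x ⊗ₜ[S] a) = D.tr h x ⊗ₜ[S] a := bcA_tmul _ _ _ _

theorem ofA_trA {i j : D.ι} (h : i ≤ j) (z : D.obj i ⊗[S] A) :
    D.ofA A j (D.trA A h z) = D.ofA A i z := by
  rw [ofA_eq_ofM, trA_eq_trM, ofM_trM, ofA_eq_ofM]

theorem trA_trA {i j k : D.ι} (hij : i ≤ j) (hjk : j ≤ k) (z : D.obj i ⊗[S] A) :
    D.trA A hjk (D.trA A hij z) = D.trA A (hij.trans hjk) z := by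
  rw [trA_eq_trM, trA_eq_trM, trM_trM, trA_eq_trM]

theorem exists_ofA_fin {l : ℕ} (z : Fin l → T ⊗[S] A) :
    ∃ (i : D.ι) (w : Fin l → D.obj i ⊗[S] A), ∀ k, D.ofA A i (w k) = z k := by
  obtain ⟨i, w, hw⟩ := D.exists_ofM_fin A z
  exact ⟨i, w, fun k => by rw [ofA_eq_ofM, hw]⟩

theorem ofA_eq_zero_fin [Module.Flat S T] {i : D.ι} {l : ℕ} (z : Fin l → D.obj i ⊗[S] A)
    (hz : ∀ k, D.ofA A i (z k) = 0) : ∃ (j : D.ι) (h : i ≤ j), ∀ k, D.trA A h (z k) = 0 := by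
  obtain ⟨j, h, hj⟩ := D.ofM_eq_zero_fin A z (fun k => by rw [← ofA_eq_ofM, hz])
  exact ⟨j, h, fun k => by rw [trA_eq_trM, hj]⟩

/-- units descend -/
theorem exists_unit [Module.Flat S T] (u : (T ⊗[S] A)ˣ) :
    ∃ (i : D.ι) (v : (D.obj i ⊗[S] A)ˣ), D.ofA A i (v : D.obj i ⊗[S] A) = u := by
  obtain ⟨i, w, hw⟩ := D.exists_ofA_fin A ![(u : T ⊗[S] A), ((u⁻¹ : (T ⊗[S] A)ˣ) : T ⊗[S] A)]
  have h0 := hw 0
  have h1 := hw 1
  simp only [Matrix.cons_val_zero, Matrix.cons_val_one] at h0 h1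
  obtain ⟨j, hij, hj⟩ := D.ofA_eq_zero_fin A ![w 0 * w 1 - 1, w 1 * w 0 - 1] (by
    refine Fin.forall_fin_two.mpr ⟨?_, ?_⟩
    · show D.ofA A i (w 0 * w 1 - 1) = 0
      rw [map_sub, map_mul, map_one, h0, h1, Units.mul_inv, sub_self]
    · show D.ofA A i (w 1 * w 0 - 1) = 0
      rw [map_sub, map_mul, map_one, h0, h1, Units.inv_mul, sub_self])
  have e0 := hj 0
  have e1 := hj 1
  simp only [Matrix.cons_val_zero, Matrix.cons_val_one] at e0 e1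
  rw [map_sub, map_mul, map_one, sub_eq_zero] at e0 e1
  exact ⟨j, ⟨D.trA A hij (w 0), D.trA A hij (w 1), e0, e1⟩, by
    show D.ofA A j (D.trA A hij (w 0)) = u
    rw [ofA_trA, h0]⟩

end Approx

section Pi

variable {S : Type u} [CommRing S] {ι : Type w} [Fintype ι] [DecidableEq ι] (T : ι → Type v)
  [∀ i, CommRing (T i)] [∀ i, Algebra S (T i)] (A : Type w') [Ring A] [Algebra S A]

/-- the projections `(∏ T i) ⊗ A → T i ⊗ A` -/
noncomputable def piProj (i : ι) : (∀ i, T i) ⊗[S] A →ₐ[S] T i ⊗[S] A :=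
  bcA (Pi.evalAlgHom S T i) A

theorem piProj_tmul (i : ι) (c : ∀ i, T i) (a : A) : piProj T A i (c ⊗ₜ[S] a) = c i ⊗ₜ[S] a := by
  simp [piProj]

theorem piProj_eq_piLeft (x : (∀ i, T i) ⊗[S] A) (i : ι) :
    piProj T A i x = TensorProduct.piLeft S A T x i := by
  induction x using TensorProduct.induction_on with
  | zero => simp
  | add x₁ x₂ h₁ h₂ => rw [map_add, map_add, Pi.add_apply, h₁, h₂]
  | tmul c a => rw [piProj_tmul]; simp

/-- `(∏ T i) ⊗ A ≃ ∏ (T i ⊗ A)` as rings -/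
noncomputable def piEquiv : (∀ i, T i) ⊗[S] A ≃+* ∀ i, T i ⊗[S] A :=
  RingEquiv.ofBijective (RingHom.pi fun i => (piProj T A i).toRingHom) (by
    have : ⇑(RingHom.pi fun i => (piProj T A i).toRingHom) = ⇑(TensorProduct.piLeft S A T) := by
      funext x i
      exact piProj_eq_piLeft T A x i
    rw [this]
    exact (TensorProduct.piLeft S A T).bijective)

theorem piEquiv_apply (x : (∀ i, T i) ⊗[S] A) (i : ι) : piEquiv T A x i = piProj T A i x := rfl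

theorem pi_ext {x y : (∀ i, T i) ⊗[S] A} (h : ∀ i, piProj T A i x = piProj T A i y) : x = y :=
  (piEquiv T A).injective (funext h)

theorem exists_pi (z : ∀ i, T i ⊗[S] A) : ∃ x : (∀ i, T i) ⊗[S] A, ∀ i, piProj T A i x = z i :=
  ⟨(piEquiv T A).symm z, fun i => by rw [← piEquiv_apply, RingEquiv.apply_symm_apply]⟩

/-- units glue -/
theorem exists_pi_unit (z : ∀ i, (T i ⊗[S] A)ˣ) :
    ∃ x : ((∀ i, T i) ⊗[S] A)ˣ, ∀ i, piProj T A i (x : (∀ i, T i) ⊗[S] A) = z i := by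
  obtain ⟨x, hx⟩ := exists_pi T A (fun i => (z i : T i ⊗[S] A))
  obtain ⟨y, hy⟩ := exists_pi T A (fun i => ((z i)⁻¹ : (T i ⊗[S] A)ˣ).1)
  refine ⟨⟨x, y, pi_ext T A fun i => ?_, pi_ext T A fun i => ?_⟩, hx⟩
  · rw [map_mul, hx, hy, map_one]; exact (z i).mul_inv
  · rw [map_mul, hx, hy, map_one]; exact (z i).inv_mul

end Pi

end Groth.Agent.Lib.AzInvH6
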