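import Mathlib

/-!
# From etale-local data on `Spec S` to a single etale faithfully flat cover (helper6)
-/

set_option autoImplicit false
universe u

namespace Groth.Agent.Lib.AzInvH6

theorem exists_cover (S : Type u) [CommRing S]
    (P : ∀ (T : Type u) [CommRing T] [Algebra S T], Prop)
    (hloc : ∀ q : PrimeSpectrum S, ∃ (T : Type u) (_ : CommRing T) (_ : Algebra S T),
      Algebra.Etale S T ∧ P T ∧ ∃ Q : Ideal T, Q.IsPrime ∧ Q.comap (algebraMap S T) = q.asIdeal)
    (hprod : ∀ (ι : Type u) [Fintype ι] [DecidableEq ι] (T : ι → Type u) [∀ i, CommRing (T i)]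
      [∀ i, Algebra S (T i)], (∀ i, Algebra.Etale S (T i)) → (∀ i, P (T i)) → P (∀ i, T i)) :
    ∃ (S' : Type u) (_ : CommRing S') (_ : Algebra S S') (_ : Algebra.Etale S S')
      (_ : Module.FaithfullyFlat S S'), P S' := by
  classical
  choose T hT1 hT2 het hP Q hQ using hloc
  letI inst1 : ∀ p, CommRing (T p) := hT1
  letI inst2 : ∀ p, Algebra S (T p) := hT2
  haveI : ∀ p, Algebra.Etale S (T p) := het
  haveI : ∀ p, Module.Flat S (T p) := fun p => Algebra.Smooth.flat S (T p)
  let U : PrimeSpectrum S → Set (PrimeSpectrum S) := fun p =>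
    Set.range (PrimeSpectrum.comap (algebraMap S (T p)))
  have hUopen : ∀ p, IsOpen (U p) := fun p =>
    (PrimeSpectrum.isOpenMap_comap_of_hasGoingDown_of_finitePresentation
      (R := S) (S := T p)).isOpen_range
  have hpU : ∀ p, p ∈ U p := fun p => ⟨⟨Q p, (hQ p).1⟩, PrimeSpectrum.ext (hQ p).2⟩
  have hcover : (Set.univ : Set (PrimeSpectrum S)) ⊆ ⋃ p, U p := fun p _ =>
    Set.mem_iUnion.mpr ⟨p, hpU p⟩
  obtain ⟨t, ht⟩ := isCompact_univ.elim_finite_subcover U hUopen hcover
  let T' : t → Type u := fun i => T i.1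
  haveI : Module.Flat S (∀ i : t, T' i) :=
    Module.Flat.of_linearEquiv (DFinsupp.linearEquivFunOnFintype (R := S) (M := T')).symm
  refine ⟨∀ i : t, T' i, inferInstance, inferInstance, inferInstance, ?_,
    hprod t T' (fun i => het i.1) (fun i => hP i.1)⟩
  refine Module.FaithfullyFlat.of_comap_surjective fun p => ?_
  have hp := ht (Set.mem_univ p)
  simp only [Set.mem_iUnion] at hp
  obtain ⟨i, hi, Q', hQ'⟩ := hp
  refine ⟨PrimeSpectrum.comap (Pi.evalRingHom T' ⟨i, hi⟩) Q', ?_⟩
  rw [← hQ']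
  rfl

end Groth.Agent.Lib.AzInvH6
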