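import Mathlib

/-!
# Henselian local rings: quotients, and localisations of Henselian valuation rings
-/

namespace Groth.Agent.Lib.HenselValLead

open Polynomial IsLocalRing

theorem isUnit_of_sub_one_mem {R : Type*} [CommRing R] [IsLocalRing R] {x : R}
    (h : x - 1 ∈ maximalIdeal R) : IsUnit x := by
  by_contra hx
  have h1 : x ∈ maximalIdeal R := (mem_maximalIdeal _).2 (mem_nonunits_iff.2 hx)
  have h2 : (1 : R) ∈ maximalIdeal R := by
    have := Ideal.sub_mem _ h1 h
    simpa using this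
  exact (Ideal.ne_top_iff_one _).1 (maximalIdeal.isMaximal R).ne_top h2

/-- A nontrivial quotient of a Henselian local ring is Henselian local. -/
theorem henselian_of_surjective {R S : Type*} [CommRing R] [HenselianLocalRing R] [CommRing S]
    [Nontrivial S] (φ : R →+* S) (hφ : Function.Surjective φ) : HenselianLocalRing S := by
  haveI : IsLocalRing S := IsLocalRing.of_surjective' φ hφ
  have hloc : ∀ x : R, IsUnit (φ x) → IsUnit x := by
    intro x hx
    by_contra hx'
    obtain ⟨y, hy⟩ := hx.exists_right_inv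
    obtain ⟨y', rfl⟩ := hφ y
    have hker : RingHom.ker φ ≤ maximalIdeal R :=
      IsLocalRing.le_maximalIdeal (RingHom.ker_ne_top φ)
    have h1 : x * y' - 1 ∈ maximalIdeal R :=
      hker (by rw [RingHom.mem_ker, map_sub, map_mul, hy, map_one, sub_self])
    have h2 : x * y' ∈ maximalIdeal R :=
      Ideal.mul_mem_right _ _ ((mem_maximalIdeal _).2 (mem_nonunits_iff.2 hx'))
    have h3 : (1 : R) ∈ maximalIdeal R := by
      have := Ideal.sub_mem _ h2 h1
      simpa using this
    exact (Ideal.ne_top_iff_one _).1 (maximalIdeal.isMaximal R).ne_top h3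
  have hmem : ∀ x : R, x ∈ maximalIdeal R → φ x ∈ maximalIdeal S := by
    intro x hx
    rw [mem_maximalIdeal, mem_nonunits_iff] at hx ⊢
    exact fun h => hx (hloc x h)
  have hmem' : ∀ x : R, φ x ∈ maximalIdeal S → x ∈ maximalIdeal R := by
    intro x hx
    rw [mem_maximalIdeal, mem_nonunits_iff] at hx ⊢
    exact fun h => hx (h.map φ)
  refine ⟨?_⟩
  intro f hf a₀ h₁ h₂
  obtain ⟨F, hFmap, -, hFm⟩ := Polynomial.lifts_and_natDegree_eq_and_monic
    (Polynomial.mem_lifts_of_surjective hφ f) hf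
  obtain ⟨A₀, rfl⟩ := hφ a₀
  have e1 : φ (F.eval A₀) = f.eval (φ A₀) := by rw [← hFmap, Polynomial.eval_map_apply]
  have e2 : φ (F.derivative.eval A₀) = f.derivative.eval (φ A₀) := by
    rw [← hFmap, Polynomial.derivative_map, Polynomial.eval_map_apply]
  obtain ⟨A, hA, hAA⟩ := HenselianLocalRing.is_henselian F hFm A₀
    (hmem' _ (by rw [e1]; exact h₁)) (hloc _ (by rw [e2]; exact h₂))
  have hA' : F.eval A = 0 := hA
  refine ⟨φ A, ?_, ?_⟩
  · show f.eval (φ A) = 0
    rw [← hFmap, Polynomial.eval_map_apply, hA', map_zero]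
  · rw [← map_sub]; exact hmem _ hAA

theorem core {V W : Type*} [CommRing V] [HenselianLocalRing V] [CommRing W]
    [IsLocalRing W] (ι : V →+* W) (P : Ideal V) (hP : P ≤ maximalIdeal V)
    (hsurj : ∀ w ∈ maximalIdeal W, ∃ v ∈ P, ι v = w)
    (m : ℕ) (c : ℕ → W) (hc : c (m + 1) = 1) (h0 : c 0 ∈ maximalIdeal W) (h1 : IsUnit (c 1)) :
    ∃ b ∈ maximalIdeal W, ∑ k ∈ Finset.range (m + 2), c k * b ^ k = 0 := by
  obtain ⟨d, hd⟩ := h1.exists_right_inv
  obtain ⟨u, hu⟩ : ∃ u, u = c 0 * d := ⟨_, rfl⟩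
  have hum : u ∈ maximalIdeal W := by rw [hu]; exact Ideal.mul_mem_right _ _ h0
  have hcu : c 1 * u = c 0 := by
    rw [hu]
    calc c 1 * (c 0 * d) = c 0 * (c 1 * d) := by ring
      _ = c 0 := by rw [hd, mul_one]
  let e : ℕ → W := fun j => (-1) ^ j * c (j + 1 + 1) * u ^ (j + 1) * d
  have hem : ∀ j, e j ∈ maximalIdeal W := by
    intro j
    have : e j = u * ((-1) ^ j * c (j + 1 + 1) * u ^ j * d) := by simp only [e]; ring
    rw [this]; exact Ideal.mul_mem_right _ _ hum
  choose β hβP hβ using fun j => hsurj (e j) (hem j)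
  let q : V[X] := -X ^ m + ∑ j ∈ Finset.range m, C (β j) * X ^ (m - 1 - j)
  have hqdeg : q.degree < ((m + 1 : ℕ) : WithBot ℕ) := by
    refine lt_of_le_of_lt (Polynomial.degree_le_of_natDegree_le (n := m) ?_)
      (by exact_mod_cast Nat.lt_succ_self m)
    refine (Polynomial.natDegree_add_le _ _).trans (max_le ?_ ?_)
    · rw [Polynomial.natDegree_neg]; exact Polynomial.natDegree_X_pow_le m
    · refine Polynomial.natDegree_sum_le_of_forall_le _ _ (fun j hj => ?_)
      exact (Polynomial.natDegree_C_mul_X_pow_le _ _).trans (by omega)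
  let h : V[X] := X ^ (m + 1) + q
  have hmonic : h.Monic := Polynomial.monic_X_pow_add hqdeg
  have hev1 : h.eval 1 = ∑ j ∈ Finset.range m, β j := by
    simp only [h, q, eval_add, eval_neg, eval_finset_sum, eval_mul, eval_C, eval_pow, eval_X,
      one_pow, mul_one]
    ring
  have hder : h.derivative.eval 1 = 1 + ∑ j ∈ Finset.range m, β j * ((m - 1 - j : ℕ) : V) := by
    simp only [h, q, derivative_add, derivative_neg, derivative_sum, derivative_C_mul,
      derivative_X_pow, eval_add, eval_neg, eval_finset_sum, eval_mul, eval_C, eval_pow, eval_X,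
      one_pow, mul_one, Nat.cast_add, Nat.cast_one, add_tsub_cancel_right]
    ring
  have hsumP : ∀ (r : ℕ → V), ∑ j ∈ Finset.range m, β j * r j ∈ maximalIdeal V := fun r =>
    hP (Ideal.sum_mem _ fun j _ => Ideal.mul_mem_right _ _ (hβP j))
  obtain ⟨z, hz, hz1⟩ := HenselianLocalRing.is_henselian h hmonic 1
    (by rw [hev1]; simpa using hsumP (fun _ => 1))
    (isUnit_of_sub_one_mem (by rw [hder, add_sub_cancel_left]; exact hsumP _))
  have hz' : h.eval z = 0 := hz
  have hzu : IsUnit z := isUnit_of_sub_one_mem hz1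
  obtain ⟨ζ, hζ⟩ : ∃ ζ, ζ = ι z := ⟨_, rfl⟩
  have hζu : IsUnit ζ := by rw [hζ]; exact hzu.map ι
  obtain ⟨t, ht⟩ := hζu.exists_right_inv
  have hroot : ζ ^ (m + 1) + (-ζ ^ m + ∑ j ∈ Finset.range m, e j * ζ ^ (m - 1 - j)) = 0 := by
    have := congrArg ι hz'
    simp only [h, q, eval_add, eval_neg, eval_finset_sum, eval_mul, eval_C, eval_pow, eval_X,
      map_add, map_neg, map_sum, map_mul, map_pow, map_zero, hβ, ← hζ] at this
    exact this
  have htζ : ∀ n : ℕ, t ^ n * ζ ^ n = 1 := fun n => by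
    rw [← mul_pow, mul_comm, ht, one_pow]
  obtain ⟨b, hb⟩ : ∃ b, b = -(u * t) := ⟨_, rfl⟩
  have hbm : b ∈ maximalIdeal W := by
    rw [hb]; exact Ideal.neg_mem_iff _ |>.2 (Ideal.mul_mem_right _ _ hum)
  have hterm : ∀ j ∈ Finset.range m, c (j + 1 + 1) * b ^ (j + 1 + 1) =
      c 0 * t ^ (m + 1) * (e j * ζ ^ (m - 1 - j)) := by
    intro j hj
    have hjm : j < m := Finset.mem_range.1 hj
    have hpow : t ^ (m + 1) * ζ ^ (m - 1 - j) = t ^ (j + 2) := by
      have h3 : m + 1 = (j + 2) + (m - 1 - j) := by omega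
      rw [h3, pow_add, mul_assoc, htζ, mul_one]
    calc c (j + 1 + 1) * b ^ (j + 1 + 1)
        = c 0 * e j * t ^ (j + 2) := by
          simp only [e, hb, hu]; ring
      _ = c 0 * e j * (t ^ (m + 1) * ζ ^ (m - 1 - j)) := by rw [hpow]
      _ = c 0 * t ^ (m + 1) * (e j * ζ ^ (m - 1 - j)) := by ring
  have h1' : c (0 + 1) * b ^ (0 + 1) = c 0 * t ^ (m + 1) * (-ζ ^ m) := by
    calc c (0 + 1) * b ^ (0 + 1) = -(c 1 * u) * t := by
          simp only [hb, zero_add, pow_one]; ring
      _ = -(c 0) * t * (t ^ m * ζ ^ m) := by rw [hcu, htζ, mul_one]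
      _ = c 0 * t ^ (m + 1) * (-ζ ^ m) := by ring
  have h0' : c 0 * b ^ 0 = c 0 * t ^ (m + 1) * ζ ^ (m + 1) := by
    rw [pow_zero, mul_one, mul_assoc, htζ, mul_one]
  refine ⟨b, hbm, ?_⟩
  rw [Finset.sum_range_succ', Finset.sum_range_succ', Finset.sum_congr rfl hterm,
    ← Finset.mul_sum, h1', h0']
  calc c 0 * t ^ (m + 1) * ∑ j ∈ Finset.range m, e j * ζ ^ (m - 1 - j) +
        c 0 * t ^ (m + 1) * (-ζ ^ m) + c 0 * t ^ (m + 1) * ζ ^ (m + 1)
      = c 0 * t ^ (m + 1) *
          (ζ ^ (m + 1) + (-ζ ^ m + ∑ j ∈ Finset.range m, e j * ζ ^ (m - 1 - j))) := by ring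
    _ = 0 := by rw [hroot, mul_zero]

/-- If `V` is Henselian local, `W` is local and the maximal ideal of `W` is the image of an ideal
of `V` contained in the maximal ideal, then `W` is Henselian. -/
theorem henselian_of_maximalIdeal_lift {V W : Type*} [CommRing V] [HenselianLocalRing V]
    [CommRing W] [IsLocalRing W] (ι : V →+* W) (P : Ideal V) (hP : P ≤ maximalIdeal V)
    (hsurj : ∀ w ∈ maximalIdeal W, ∃ v ∈ P, ι v = w) : HenselianLocalRing W := by
  refine ⟨?_⟩
  intro f hf a₀ h₁ h₂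
  have hdeg : f.natDegree ≠ 0 := by
    intro h0
    have : f = 1 := (Polynomial.Monic.natDegree_eq_zero (p := f) hf).mp h0
    rw [this, eval_one] at h₁
    exact (Ideal.ne_top_iff_one _).1 (maximalIdeal.isMaximal W).ne_top h₁
  obtain ⟨m, hm⟩ := Nat.exists_eq_succ_of_ne_zero hdeg
  have hgdeg : (taylor a₀ f).natDegree = m + 1 := by rw [natDegree_taylor, hm]
  have hgm : (taylor a₀ f).Monic := by rw [Monic, leadingCoeff_taylor]; exact hf
  obtain ⟨b, hb, hsum⟩ := core ι P hP hsurj m (taylor a₀ f).coeff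
    (by rw [← hgdeg]; exact hgm.coeff_natDegree)
    (by rw [taylor_coeff_zero]; exact h₁) (by rw [taylor_coeff_one]; exact h₂)
  refine ⟨b + a₀, ?_, by simpa using hb⟩
  show f.eval (b + a₀) = 0
  rw [← taylor_eval, eval_eq_sum_range, hgdeg]
  exact hsum

end Groth.Agent.Lib.HenselValLead
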