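import Mathlib
import Groth.Prelude.Def_W4c2azumayainvolQEt
import Groth.Agent.Lib.ShTensor_helper3
import Groth.Agent.Lib.HenselFinite_helper3
import Groth.Agent.Lib.HenselVal_lead

/-!
# Rings with involution over a strictly henselian fixed ring (helper3)
-/

set_option autoImplicit false
set_option maxSynthPendingDepth 3
universe u v

namespace Groth.Agent.Lib.RInvHensH3

open IsLocalRing

section Max

variable {S : Type u} {R : Type v} [CommRing S] [CommRing R] [Algebra S R] {lam : R ≃+* R}

/-- trace and norm (as in helper6's RInv7) -/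
theorem exists_trace_norm (hlam : Function.Involutive lam) (hS : RInv.IsFixedRing S R lam)
    (x : R) : ∃ t n : S, algebraMap S R t = x + lam x ∧ algebraMap S R n = x * lam x := by
  have h1 : lam (x + lam x) = x + lam x := by rw [map_add, hlam x, add_comm]
  have h2 : lam (x * lam x) = x * lam x := by rw [map_mul, hlam x, mul_comm]
  obtain ⟨t, ht⟩ := (hS.2 _).mp h1
  obtain ⟨n, hn⟩ := (hS.2 _).mp h2
  exact ⟨t, n, ht, hn⟩

/-- `R` is integral over the fixed ring of an involution (as in helper6's RInv7) -/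
theorem isIntegral (hlam : Function.Involutive lam) (hS : RInv.IsFixedRing S R lam) :
    Algebra.IsIntegral S R := by
  constructor
  intro x
  obtain ⟨t, n, ht, hn⟩ := exists_trace_norm hlam hS x
  refine ⟨Polynomial.X ^ 2 - Polynomial.C t * Polynomial.X + Polynomial.C n, ?_, ?_⟩
  · have : (Polynomial.X ^ 2 - Polynomial.C t * Polynomial.X + Polynomial.C n : Polynomial S) =
        Polynomial.X ^ 2 + (-(Polynomial.C t * Polynomial.X) + Polynomial.C n) := by ring
    rw [this]
    apply Polynomial.monic_X_pow_add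
    refine lt_of_le_of_lt (Polynomial.degree_add_le _ _) ?_
    rw [max_lt_iff]
    constructor
    · rw [Polynomial.degree_neg]
      refine lt_of_le_of_lt (Polynomial.degree_C_mul_X_le t) (by norm_num)
    · exact lt_of_le_of_lt Polynomial.degree_C_le (by norm_num)
  · simp only [Polynomial.eval₂_add, Polynomial.eval₂_sub, Polynomial.eval₂_mul,
      Polynomial.eval₂_pow, Polynomial.eval₂_X, Polynomial.eval₂_C, ht, hn]
    ring

/-- Every maximal ideal of `R` is `M` or its conjugate. -/
theorem maximal_eq_or [IsLocalRing S] (hlam : Function.Involutive lam)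
    (hS : RInv.IsFixedRing S R lam) (M M' : Ideal R) [hM : M.IsMaximal] [hM' : M'.IsMaximal] :
    M' = M ∨ M' = M.comap (lam : R →+* R) := by
  haveI := isIntegral hlam hS
  haveI hN : (M.comap (lam : R →+* R)).IsMaximal :=
    Ideal.comap_isMaximal_of_surjective (lam : R →+* R) lam.surjective
  by_contra hcon
  push_neg at hcon
  have h1 : ¬ M' ≤ M := fun h => hcon.1 (hM'.eq_of_le hM.ne_top h)
  have h2 : ¬ M' ≤ M.comap (lam : R →+* R) := fun h => hcon.2 (hM'.eq_of_le hN.ne_top h)
  have h3 : ¬ ((M' : Set R) ⊆ M ∪ (M.comap (lam : R →+* R) : Ideal R)) := by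
    rw [Ideal.subset_union]
    push_neg
    exact ⟨h1, h2⟩
  rw [Set.not_subset] at h3
  obtain ⟨x, hxM', hx⟩ := h3
  rw [Set.mem_union, not_or] at hx
  obtain ⟨t, n, ht, hn⟩ := exists_trace_norm hlam hS x
  have e1 : M'.comap (algebraMap S R) = maximalIdeal S :=
    IsLocalRing.eq_maximalIdeal (Ideal.isMaximal_comap_of_isIntegral_of_isMaximal M')
  have e2 : M.comap (algebraMap S R) = maximalIdeal S :=
    IsLocalRing.eq_maximalIdeal (Ideal.isMaximal_comap_of_isIntegral_of_isMaximal M)
  have h4 : n ∈ M'.comap (algebraMap S R) := by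
    rw [Ideal.mem_comap, hn]
    exact Ideal.mul_mem_right _ _ hxM'
  rw [e1, ← e2, Ideal.mem_comap, hn] at h4
  rcases hM.isPrime.mem_or_mem h4 with h5 | h5
  · exact hx.1 h5
  · exact hx.2 h5

end Max

section Idem


/-- If `R` is integral over a henselian local ring and has at most two maximal ideals, there is an
idempotent separating them. -/
theorem exists_idem (S' R : Type v) [CommRing S'] [HenselianLocalRing S'] [CommRing R]
    [Algebra S' R] [Algebra.IsIntegral S' R] (M N : Ideal R) [hM : M.IsMaximal] [hN : N.IsMaximal]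
    (h : ∀ M' : Ideal R, M'.IsMaximal → M' = M ∨ M' = N) :
    ∃ e : R, IsIdempotentElem e ∧
      (∀ Q₁ Q₂ : Ideal R, Q₁.IsMaximal → Q₂.IsMaximal → e ∉ Q₁ → e ∉ Q₂ → Q₁ = Q₂) ∧
      (∀ Q₁ Q₂ : Ideal R, Q₁.IsMaximal → Q₂.IsMaximal → 1 - e ∉ Q₁ → 1 - e ∉ Q₂ → Q₁ = Q₂) := by
  by_cases hMN : M = N
  · subst hMN
    refine ⟨0, IsIdempotentElem.zero, fun Q₁ _ _ _ h1 _ => absurd (Ideal.zero_mem _) h1,
      fun Q₁ Q₂ h1 h2 _ _ => ?_⟩
    rcases h Q₁ h1 with rfl | rfl <;> rcases h Q₂ h2 with rfl | rfl <;> rfl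
  · have hnle : ¬ M ≤ N := fun hle => hMN (hM.eq_of_le hN.ne_top hle)
    obtain ⟨x, hxM, hxN⟩ := Set.not_subset.mp hnle
    let R₀ : Subalgebra S' R := Algebra.adjoin S' {x}
    haveI : Module.Finite S' R₀ := Module.Finite.iff_fg.mpr
      (fg_adjoin_of_finite (Set.finite_singleton x) (fun y _ => Algebra.IsIntegral.isIntegral y))
    haveI : Algebra.IsIntegral R₀ R := Algebra.IsIntegral.tower_top (R := S')
    obtain ⟨n, ε, hε, hcorner⟩ := Groth.Agent.Lib.HenselFiniteH3.exists_idempotents S' R₀
    have hM₀ : (M.comap (algebraMap R₀ R)).IsMaximal :=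
      Ideal.isMaximal_comap_of_isIntegral_of_isMaximal M
    have hN₀ : (N.comap (algebraMap R₀ R)).IsMaximal :=
      Ideal.isMaximal_comap_of_isIntegral_of_isMaximal N
    have hne₀ : M.comap (algebraMap R₀ R) ≠ N.comap (algebraMap R₀ R) := by
      intro heq
      have hx₀ : (⟨x, Algebra.subset_adjoin rfl⟩ : R₀) ∈ M.comap (algebraMap R₀ R) := hxM
      rw [heq] at hx₀
      exact hxN hx₀
    obtain ⟨i, hi⟩ : ∃ i, ε i ∉ M.comap (algebraMap R₀ R) := by
      by_contra hall
      push_neg at hall
      have : (1 : R₀) ∈ M.comap (algebraMap R₀ R) := by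
        rw [← hε.complete]
        exact Ideal.sum_mem _ (fun i _ => hall i)
      exact hM₀.ne_top ((Ideal.eq_top_iff_one _).mpr this)
    have hiN : ε i ∈ N.comap (algebraMap R₀ R) := by
      by_contra hcon
      exact hne₀ (hcorner i _ _ hM₀ hN₀ hi hcon)
    have hidem : IsIdempotentElem ((ε i : R₀) : R) := by
      have := (hε.idem i)
      show ((ε i : R₀) : R) * ((ε i : R₀) : R) = ((ε i : R₀) : R)
      rw [← Subalgebra.coe_mul, this.eq]
    have heM : ((ε i : R₀) : R) ∉ M := hi
    have heN : ((ε i : R₀) : R) ∈ N := hiN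
    have h1eM : 1 - ((ε i : R₀) : R) ∈ M := by
      have h0 : ((ε i : R₀) : R) * (1 - ((ε i : R₀) : R)) ∈ M := by
        rw [mul_sub, mul_one, hidem.eq, sub_self]
        exact Ideal.zero_mem _
      exact (hM.isPrime.mem_or_mem h0).resolve_left heM
    refine ⟨((ε i : R₀) : R), hidem, fun Q₁ Q₂ h1 h2 hq1 hq2 => ?_, fun Q₁ Q₂ h1 h2 hq1 hq2 => ?_⟩
    · have e1 : Q₁ = M := (h Q₁ h1).resolve_right (fun he => hq1 (he ▸ heN))
      have e2 : Q₂ = M := (h Q₂ h2).resolve_right (fun he => hq2 (he ▸ heN))
      rw [e1, e2]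
    · have e1 : Q₁ = N := (h Q₁ h1).resolve_left (fun he => hq1 (he ▸ h1eM))
      have e2 : Q₂ = N := (h Q₂ h2).resolve_left (fun he => hq2 (he ▸ h1eM))
      rw [e1, e2]

/-- A ring integral over a strictly henselian local ring with at most two maximal ideals is a
finite product of strictly henselian local rings. -/
theorem exists_pi (S' R : Type v) [CommRing S'] [HenselianLocalRing S'] [CommRing R]
    [Algebra S' R] [Algebra.IsIntegral S' R] [IsSepClosed (ResidueField S')]
    (M N : Ideal R) [hM : M.IsMaximal] [hN : N.IsMaximal]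
    (h : ∀ M' : Ideal R, M'.IsMaximal → M' = M ∨ M' = N) :
    ∃ (ι : Type) (_ : Fintype ι) (T : ι → Type v) (_ : ∀ i, CommRing (T i))
      (_ : ∀ i, HenselianLocalRing (T i)),
      (∀ i, IsSepClosed (IsLocalRing.ResidueField (T i))) ∧ Nonempty (R ≃+* (∀ i, T i)) := by
  obtain ⟨e, he, h1, h2⟩ := exists_idem S' R M N h
  have hε : CompleteOrthogonalIdempotents ![e, 1 - e] :=
    CompleteOrthogonalIdempotents.of_isIdempotentElem he
  obtain ⟨ι, _, A, _, hloc, ⟨Φ⟩⟩ :=
    Groth.Agent.Lib.HenselFiniteH3.pi_local_of_idempotents R ![e, 1 - e] hε (by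
      intro i
      fin_cases i
      · exact h1
      · exact h2)
  have key : ∀ i, HenselianLocalRing (A i) ∧ IsSepClosed (ResidueField (A i)) := by
    intro i
    haveI := hloc i
    let π : R →+* A i := (Pi.evalRingHom A i).comp (Φ : R →+* ∀ i, A i)
    have hπ : Function.Surjective π := by
      intro a
      classical
      obtain ⟨r, hr⟩ := Φ.surjective (Pi.single i a)
      exact ⟨r, by simp [π, hr]⟩
    letI : Algebra S' (A i) := (π.comp (algebraMap S' R)).toAlgebra
    let πa : R →ₐ[S'] A i := ⟨π, fun _ => rfl⟩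
    haveI : Algebra.IsIntegral S' (A i) := ⟨fun a => by
      obtain ⟨r, rfl⟩ := hπ a
      exact (Algebra.IsIntegral.isIntegral (R := S') r).map πa⟩
    exact Groth.Agent.Lib.ShTensorH3.strictlyHenselian_of_isIntegral S' (A i)
  let eq := Fintype.equivFin ι
  refine ⟨Fin (Fintype.card ι), inferInstance, fun k => A (eq.symm k), fun k => inferInstance,
    fun k => (key _).1, fun k => (key _).2, ⟨Φ.trans ?_⟩⟩
  exact (RingEquiv.piCongrLeft A eq.symm).symm

end Idem

section Main

variable {S : Type u} {R : Type v} [CommRing S] [CommRing R] [Algebra S R] {lam : R ≃+* R}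

theorem main (hlam : Function.Involutive lam) (hS : RInv.IsFixedRing S R lam)
    [HenselianLocalRing S] [IsSepClosed (IsLocalRing.ResidueField S)] :
    ∃ (ι : Type) (_ : Fintype ι) (T : ι → Type v) (_ : ∀ i, CommRing (T i))
      (_ : ∀ i, HenselianLocalRing (T i)),
      (∀ i, IsSepClosed (IsLocalRing.ResidueField (T i))) ∧ Nonempty (R ≃+* (∀ i, T i)) := by
  haveI hint : Algebra.IsIntegral S R := isIntegral hlam hS
  haveI : Nontrivial R := hS.1.nontrivial
  let φ : S →+* (algebraMap S R).range := (algebraMap S R).rangeRestrict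
  have hφs : Function.Surjective φ := (algebraMap S R).rangeRestrict_surjective
  have hφi : Function.Injective φ := fun a b hab => hS.1 (congrArg Subtype.val hab)
  haveI : HenselianLocalRing (algebraMap S R).range :=
    Groth.Agent.Lib.HenselValLead.henselian_of_surjective φ hφs
  let e : S ≃+* (algebraMap S R).range := RingEquiv.ofBijective φ ⟨hφi, hφs⟩
  haveI : IsSepClosed (ResidueField (algebraMap S R).range) := by
    let eres := IsLocalRing.ResidueField.mapEquiv e
    letI : Algebra (ResidueField S) (ResidueField (algebraMap S R).range) :=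
      eres.toRingHom.toAlgebra
    haveI : Algebra.IsIntegral (ResidueField S) (ResidueField (algebraMap S R).range) :=
      Algebra.isIntegral_of_surjective eres.surjective
    exact Algebra.IsAlgebraic.isSepClosed (F := ResidueField S)
  letI : Algebra S (algebraMap S R).range := φ.toAlgebra
  haveI : IsScalarTower S (algebraMap S R).range R := .of_algebraMap_eq (fun s => rfl)
  haveI : Algebra.IsIntegral (algebraMap S R).range R := Algebra.IsIntegral.tower_top (R := S)
  obtain ⟨M, hM⟩ := Ideal.exists_maximal R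
  haveI := hM
  haveI : (M.comap (lam : R →+* R)).IsMaximal :=
    Ideal.comap_isMaximal_of_surjective _ lam.surjective
  exact exists_pi (algebraMap S R).range R M (M.comap (lam : R →+* R))
    (fun M' hM' => maximal_eq_or hlam hS M M')

end Main

end Groth.Agent.Lib.RInvHensH3
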