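import Mathlib
import Groth.Agent.Lib.AzInv3_helper6
import Groth.Agent.Lib.AzInv6_helper6
import Groth.Agent.Lib.AzInv7_helper6
import Groth.Agent.Lib.AzInv8_helper6
import Groth.Agent.Lib.RInvHens_helper3
import Groth.Agent.S15586

/-!
# Automorphisms of Azumaya algebras over a ring with involution are inner locally on the
fixed ring (helper6)
-/

set_option autoImplicit false
universe u v w u'

open TensorProduct

namespace Groth.Agent.Lib.AzInvH6

theorem finite_maximalSpectrum {S : Type u} {R : Type v} [CommRing S] [CommRing R] [Algebra S R]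
    {lam : R ≃+* R} [IsLocalRing S] (hlam : Function.Involutive lam)
    (hS : RInv.IsFixedRing S R lam) : Finite (MaximalSpectrum R) := by
  by_cases hne : Nonempty (MaximalSpectrum R)
  · obtain ⟨M⟩ := hne
    have := M.isMaximal
    have hN : (M.asIdeal.comap (lam : R →+* R)).IsMaximal :=
      Ideal.comap_isMaximal_of_surjective (lam : R →+* R) lam.surjective
    have h : (Set.univ : Set (MaximalSpectrum R)) ⊆ {M, ⟨M.asIdeal.comap (lam : R →+* R), hN⟩} := by
      intro M' _
      have := M'.isMaximal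
      rcases Groth.Agent.Lib.RInvHensH3.maximal_eq_or hlam hS M.asIdeal M'.asIdeal with h | h
      · left; exact MaximalSpectrum.ext h
      · right; exact MaximalSpectrum.ext h
    exact Set.finite_univ_iff.mp ((Set.toFinite _).subset h)
  · rw [not_nonempty_iff] at hne
    infer_instance

section

variable (S : Type u) {R : Type v} [CommRing S] [CommRing R] [Algebra S R]
  (T : Type u') [CommRing T] [Algebra S T]
  {A : Type w} [Ring A] [Algebra S A] [Algebra R A] [IsScalarTower S R A]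

/-- the base change of an `R`-algebra automorphism -/
noncomputable def psiT (ψ : A ≃ₐ[R] A) : T ⊗[S] A ≃ₐ[T] T ⊗[S] A :=
  Algebra.TensorProduct.congr (AlgEquiv.refl : T ≃ₐ[T] T) (ψ.restrictScalars S)

theorem psiT_tmul (ψ : A ≃ₐ[R] A) (c : T) (a : A) : psiT S T ψ (c ⊗ₜ[S] a) = c ⊗ₜ[S] ψ a := by
  simp [psiT]

theorem psiT_toA (ψ : A ≃ₐ[R] A) (y : T ⊗[S] R) :
    psiT S T ψ (toA S R T A y) = toA S R T A y := by
  induction y using TensorProduct.induction_on with
  | zero => simp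
  | add y₁ y₂ h₁ h₂ => simp only [map_add, h₁, h₂]
  | tmul c r => rw [toA_tmul, psiT_tmul, AlgEquiv.commutes]

theorem conj_of_gens (ψ : A ≃ₐ[R] A) {m : ℕ} (a : Fin m → A)
    (ha : Submodule.span R (Set.range a) = ⊤) (v : T ⊗[S] A)
    (h : ∀ k, psiT S T ψ ((1 : T) ⊗ₜ[S] a k) * v = v * ((1 : T) ⊗ₜ[S] a k)) :
    ∀ x, psiT S T ψ x * v = v * x := by
  have hmul : ∀ (y : T ⊗[S] R) (x : T ⊗[S] A), psiT S T ψ x * v = v * x →
      psiT S T ψ (toA S R T A y * x) * v = v * (toA S R T A y * x) := by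
    intro y x hx
    rw [map_mul, psiT_toA, mul_assoc, hx, ← mul_assoc, toA_commutes, mul_assoc]
  intro x
  induction x using TensorProduct.induction_on with
  | zero => simp
  | add x₁ x₂ h₁ h₂ => rw [map_add, add_mul, mul_add, h₁, h₂]
  | tmul c b =>
    have hb : b ∈ Submodule.span R (Set.range a) := by rw [ha]; exact Submodule.mem_top
    induction hb using Submodule.span_induction with
    | mem b hb =>
      obtain ⟨k, rfl⟩ := hb
      have := hmul (c ⊗ₜ[S] (1 : R)) _ (h k)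
      rwa [toA_tmul, map_one, Algebra.TensorProduct.tmul_mul_tmul, mul_one, one_mul] at this
    | zero => simp
    | add b₁ b₂ _ _ h₁ h₂ => rw [TensorProduct.tmul_add, map_add, add_mul, mul_add, h₁, h₂]
    | smul r b _ hb =>
      have := hmul ((1 : T) ⊗ₜ[S] r) _ hb
      rwa [toA_tmul, Algebra.TensorProduct.tmul_mul_tmul, one_mul, ← Algebra.smul_def] at this

end

section Descend

variable {S : Type u} {R : Type v} [CommRing S] [CommRing R] [Algebra S R]
  {T : Type u'} [CommRing T] [Algebra S T]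
  {A : Type w} [Ring A] [Algebra S A] [Algebra R A] [IsScalarTower S R A]

theorem ofA_psiT (D : Approx.{u, u', u'} S T) (ψ : A ≃ₐ[R] A) (i : D.ι) (z : D.obj i ⊗[S] A) :
    D.ofA A i (psiT S (D.obj i) ψ z) = psiT S T ψ (D.ofA A i z) :=
  bcA_congr (D.of i) ψ z

theorem trA_psiT (D : Approx.{u, u', u'} S T) (ψ : A ≃ₐ[R] A) {i j : D.ι} (h : i ≤ j)
    (z : D.obj i ⊗[S] A) :
    D.trA A h (psiT S (D.obj i) ψ z) = psiT S (D.obj j) ψ (D.trA A h z) :=
  bcA_congr (D.tr h) ψ z

/-- an inner automorphism over the colimit is inner at a finite stage -/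
theorem inner_descend (D : Approx.{u, u', u'} S T) [Module.Flat S T] [Module.Finite R A]
    (ψ : A ≃ₐ[R] A) (u : (T ⊗[S] A)ˣ)
    (hu : ∀ x, psiT S T ψ x = u * x * (u⁻¹ : (T ⊗[S] A)ˣ)) :
    ∃ (i : D.ι) (v : (D.obj i ⊗[S] A)ˣ),
      ∀ x, psiT S (D.obj i) ψ x = v * x * (v⁻¹ : (D.obj i ⊗[S] A)ˣ) := by
  obtain ⟨i, v, hv⟩ := D.exists_unit A u
  obtain ⟨m, a, ha⟩ := Module.Finite.exists_fin (R := R) (M := A)
  obtain ⟨j, hij, hj⟩ := D.ofA_eq_zero_fin A
    (fun k => psiT S (D.obj i) ψ ((1 : D.obj i) ⊗ₜ[S] a k) * (v : D.obj i ⊗[S] A) -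
      (v : D.obj i ⊗[S] A) * ((1 : D.obj i) ⊗ₜ[S] a k)) (by
      intro k
      rw [map_sub, map_mul, map_mul, ofA_psiT, hv, Approx.ofA_tmul, map_one, hu]
      rw [mul_assoc, Units.inv_mul, mul_one, sub_self])
  let vj : (D.obj j ⊗[S] A)ˣ := Units.map (D.trA A hij).toRingHom.toMonoidHom v
  have hvj : (vj : D.obj j ⊗[S] A) = D.trA A hij v := rfl
  have hgen : ∀ k, psiT S (D.obj j) ψ ((1 : D.obj j) ⊗ₜ[S] a k) * vj =
      vj * ((1 : D.obj j) ⊗ₜ[S] a k) := by
    intro k
    have := hj k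
    rw [map_sub, map_mul, map_mul, trA_psiT, Approx.trA_tmul, map_one, sub_eq_zero] at this
    rw [hvj]; exact this
  have hall := conj_of_gens S (D.obj j) ψ a ha vj hgen
  refine ⟨j, vj, fun x => ?_⟩
  rw [← hall x, mul_assoc, Units.mul_inv, mul_one]

end Descend

end Groth.Agent.Lib.AzInvH6
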