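import Mathlib
import Groth.Agent.Lib.AzInv9_helper6

/-!
# S17357 core: automorphisms become inner on an etale cover of the fixed ring (helper6)
-/

set_option autoImplicit false
universe u v w u'

open TensorProduct

namespace Groth.Agent.Lib.AzInvH6

attribute [local instance] algT

/-- a prime of `E_g` over a prime `Q ∌ g` of `E`, pulled back to `S` -/
theorem exists_prime_away (S : Type u) [CommRing S] (E : Type v) [CommRing E] [Algebra S E]
    (Q : Ideal E) [hQ : Q.IsPrime] (g : E) (hg : g ∉ Q) :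
    ∃ Q' : Ideal (Localization.Away g), Q'.IsPrime ∧
      Q'.comap (algebraMap S (Localization.Away g)) = Q.comap (algebraMap S E) := by
  have hd : Disjoint (Submonoid.powers g : Set E) ↑Q := by
    rw [Set.disjoint_left]
    rintro _ ⟨n, rfl⟩ hn
    exact hg (hQ.mem_of_pow_mem n hn)
  refine ⟨Ideal.map (algebraMap E (Localization.Away g)) Q,
    IsLocalization.isPrime_of_isPrime_disjoint (Submonoid.powers g) _ Q hQ hd, ?_⟩
  have h1 := IsLocalization.under_map_of_isPrime_disjoint (Submonoid.powers g)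
    (Localization.Away g) hQ hd
  rw [IsScalarTower.algebraMap_eq S E (Localization.Away g), ← Ideal.comap_comap]
  exact congrArg (Ideal.comap (algebraMap S E)) h1

theorem involutive_congr {S : Type u} {R : Type v} [CommRing S] [CommRing R] [Algebra S R]
    (lam : R ≃ₐ[S] R) (hlam : ∀ r, lam (lam r) = r) (B : Type u') [CommRing B] [Algebra S B] :
    Function.Involutive
      (Algebra.TensorProduct.congr (AlgEquiv.refl : B ≃ₐ[S] B) lam).toRingEquiv := by
  intro z
  induction z using TensorProduct.induction_on with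
  | zero => simp
  | add z₁ z₂ h₁ h₂ => rw [map_add, map_add, h₁, h₂]
  | tmul c r => simp [hlam]

section

variable (S : Type u) (R : Type v) [CommRing S] [CommRing R] [Algebra S R]
  (lam : R ≃ₐ[S] R) (hlam : ∀ r, lam (lam r) = r) (hfix : RInv.IsFixedRing S R lam.toRingEquiv)
  (A : Type w) [Ring A] [Algebra S A] [Algebra R A] [IsScalarTower S R A]
include hlam hfix

theorem finite_maximalSpectrum_atPrime (q : Ideal S) [q.IsPrime] :
    Finite (MaximalSpectrum (Localization.AtPrime q ⊗[S] R)) :=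
  finite_maximalSpectrum (involutive_congr lam hlam (Localization.AtPrime q))
    (Groth.Agent.S15586.result S R (Localization.AtPrime q) lam hlam hfix (Or.inl inferInstance))

theorem exists_inner_atPrime [IsAzumaya R A] (ψ : A ≃ₐ[R] A) (q : Ideal S) [q.IsPrime] :
    ∃ u : (Localization.AtPrime q ⊗[S] A)ˣ, ∀ x,
      psiT S (Localization.AtPrime q) ψ x = u * x * (u⁻¹ : (Localization.AtPrime q ⊗[S] A)ˣ) := by
  haveI : IsAzumaya (Localization.AtPrime q ⊗[S] R) (Localization.AtPrime q ⊗[S] A) :=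
    isAzumaya_bc S R (Localization.AtPrime q) A
  haveI := finite_maximalSpectrum_atPrime S R lam hlam hfix q
  let ψB : (Localization.AtPrime q ⊗[S] A) ≃ₐ[Localization.AtPrime q ⊗[S] R]
      (Localization.AtPrime q ⊗[S] A) :=
    AlgEquiv.ofRingEquiv (f := (psiT S (Localization.AtPrime q) ψ).toRingEquiv)
      (fun y => psiT_toA S (Localization.AtPrime q) ψ y)
  obtain ⟨u, hu⟩ := exists_unit_conj_of_semilocal (Localization.AtPrime q ⊗[S] R)
    (Localization.AtPrime q ⊗[S] A) ψB
  exact ⟨u, hu⟩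

theorem exists_inner_away [IsAzumaya R A] (ψ : A ≃ₐ[R] A) (q : Ideal S) [q.IsPrime] :
    ∃ (f : S) (_ : f ∉ q) (v : (Localization.Away f ⊗[S] A)ˣ), ∀ x : Localization.Away f ⊗[S] A,
      psiT S (Localization.Away f) ψ x * v = v * x := by
  haveI : Module.Finite R A := IsAzumaya.toFinite
  obtain ⟨u, hu⟩ := exists_inner_atPrime S R lam hlam hfix A ψ q
  obtain ⟨i, v, hv⟩ : ∃ (i : ZIdx S q) (v : (Localization.Away i.val ⊗[S] A)ˣ),
      ∀ x, psiT S (Localization.Away i.val) ψ x =
        v * x * (v⁻¹ : (Localization.Away i.val ⊗[S] A)ˣ) :=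
    inner_descend (zarApprox S S q) ψ u hu
  refine ⟨i.val, i.prop, v, fun x => ?_⟩
  have := hv x
  rw [this, mul_assoc, Units.inv_mul, mul_one]

theorem exists_inner_cover [IsAzumaya R A] (ψ : A ≃ₐ[R] A) :
    ∃ (S' : Type u) (_ : CommRing S') (_ : Algebra S S') (_ : Algebra.Etale S S')
      (_ : Module.FaithfullyFlat S S') (u : (S' ⊗[S] A)ˣ),
      ∀ x : S' ⊗[S] A, psiT S S' ψ x = u * x * (u⁻¹ : (S' ⊗[S] A)ˣ) := by
  haveI : Module.Finite R A := IsAzumaya.toFinite
  have key := exists_cover S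
    (fun T _ _ => ∃ u : (T ⊗[S] A)ˣ, ∀ x : T ⊗[S] A, psiT S T ψ x * u = u * x) ?_ ?_
  · obtain ⟨S', i1, i2, i3, i4, u, hu⟩ := key
    refine ⟨S', i1, i2, i3, i4, u, fun x => ?_⟩
    rw [← hu x, mul_assoc, Units.mul_inv, mul_one]
  · intro q
    haveI := q.isPrime
    obtain ⟨f, hf, v, hv⟩ := exists_inner_away S R lam hlam hfix A ψ q.asIdeal
    haveI : Algebra.Etale S (Localization.Away f) := Algebra.Etale.of_isLocalizationAway f
    obtain ⟨Q', hQ', hQ'c⟩ := exists_prime_away S S q.asIdeal f hf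
    refine ⟨Localization.Away f, inferInstance, inferInstance, inferInstance, ⟨v, hv⟩,
      Q', hQ', ?_⟩
    rw [hQ'c]
    simp
  · intro ι _ _ T _ _ _ hT
    choose u hu using hT
    obtain ⟨U, hU⟩ := exists_pi_unit T A u
    refine ⟨U, fun x => pi_ext T A fun i => ?_⟩
    rw [map_mul, map_mul, hU]
    have h1 : piProj T A i (psiT S (∀ i, T i) ψ x) = psiT S (T i) ψ (piProj T A i x) :=
      bcA_congr (Pi.evalAlgHom S T i) ψ x
    rw [h1, hu]

end

end Groth.Agent.Lib.AzInvH6
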