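import Mathlib
import Groth.Prelude.Def_AzInv
import Groth.Prelude.Def_W4c2azumayainvolQEt
import Groth.Agent.Lib.TPow6_helper6

/-!
# The centre of an Azumaya algebra; the multiplier of an inner automorphism commuting with an
involution (helper6)
-/

set_option autoImplicit false
universe u v w

open TensorProduct MulOpposite

namespace Groth.Agent.Lib.AzInvH6

/-- central elements of an Azumaya algebra come from the base ring -/
theorem exists_algebraMap_eq_of_central (R : Type u) [CommRing R] (A : Type v) [Ring A]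
    [Algebra R A] [IsAzumaya R A] (c : A) (hc : ∀ x, c * x = x * c) :
    ∃ r : R, algebraMap R A r = c := by
  haveI : Module.Finite R A := IsAzumaya.toFinite
  haveI : Module.Projective R A := IsAzumaya.toProjective
  haveI : FaithfulSMul R A := IsAzumaya.toFaithfulSMul
  obtain ⟨π, hπ⟩ := Groth.Agent.Lib.TPowH6.exists_retraction R A
  -- left multiplication by `c` commutes with every endomorphism
  have hcomm : ∀ (f : Module.End R A) (x : A), c * f x = f (c * x) := by
    intro f x
    obtain ⟨s, rfl⟩ := (IsAzumaya.bij (R := R) (A := A)).2 f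
    induction s using TensorProduct.induction_on with
    | zero => simp
    | add s₁ s₂ h₁ h₂ =>
      rw [map_add, LinearMap.add_apply, LinearMap.add_apply, mul_add, h₁, h₂]
    | tmul a b =>
      rw [AlgHom.mulLeftRight_apply, AlgHom.mulLeftRight_apply, ← mul_assoc, ← mul_assoc, hc a,
        mul_assoc a c x]
  let E : Module.End R A := LinearMap.smulRight π (1 : A)
  have hE : ∀ x, E x = π x • (1 : A) := fun x => rfl
  have h1 := hcomm E 1
  rw [hE, hE, hπ, one_smul, mul_one] at h1
  exact ⟨π c, by rw [Algebra.algebraMap_eq_smul_one]; exact h1.symm⟩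

theorem algebraMap_injective_of_isAzumaya (R : Type u) [CommRing R] (A : Type v) [Ring A]
    [Algebra R A] [IsAzumaya R A] : Function.Injective (algebraMap R A) := by
  haveI : FaithfulSMul R A := IsAzumaya.toFaithfulSMul
  exact FaithfulSMul.algebraMap_injective R A

section Mult

variable {S : Type u} {R : Type v} [CommRing S] [CommRing R] [Algebra S R]
  {lam : R ≃+* R} (hlam : Function.Involutive lam) (hS : RInv.IsFixedRing S R lam)
  {A : Type w} [Ring A] [Algebra R A] [IsAzumaya R A]
  (t : AzInv.LamInv R A lam)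
include hlam hS

/-- a central unit fixed by the involution comes from a unit of the fixed ring -/
theorem exists_unit_of_central_fixed (c : Aˣ) (hc : ∀ x, (c : A) * x = x * c)
    (hfix : t (c : A) = c) :
    ∃ s : Sˣ, algebraMap R A (algebraMap S R s) = c := by
  have key : ∀ d : A, (∀ x, d * x = x * d) → t d = d →
      ∃ s : S, algebraMap R A (algebraMap S R s) = d := by
    intro d hd hfd
    obtain ⟨r, hr⟩ := exists_algebraMap_eq_of_central R A d hd
    have h1 : algebraMap R A (lam r) = algebraMap R A r := by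
      rw [← t.map_algebraMap, hr, hfd]
    have h2 : lam r = r := algebraMap_injective_of_isAzumaya R A h1
    obtain ⟨s, hs⟩ := (hS.2 r).mp h2
    exact ⟨s, by rw [hs, hr]⟩
  obtain ⟨s, hs⟩ := key c hc hfix
  have hc' : ∀ x, ((c⁻¹ : Aˣ) : A) * x = x * ((c⁻¹ : Aˣ) : A) := by
    intro x
    have := hc (((c⁻¹ : Aˣ) : A) * x * ((c⁻¹ : Aˣ) : A))
    rw [← mul_assoc, ← mul_assoc, Units.mul_inv, one_mul, mul_assoc, Units.inv_mul, mul_one] at this
    exact this.symm
  have hfix' : t ((c⁻¹ : Aˣ) : A) = ((c⁻¹ : Aˣ) : A) := by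
    have h1 := t.map_units_inv c
    rw [hfix] at h1
    calc t ((c⁻¹ : Aˣ) : A) = t ((c⁻¹ : Aˣ) : A) * (c * ((c⁻¹ : Aˣ) : A)) := by
          rw [Units.mul_inv, mul_one]
      _ = ((c⁻¹ : Aˣ) : A) := by rw [← mul_assoc, h1, one_mul]
  obtain ⟨s', hs'⟩ := key _ hc' hfix'
  have h3 : algebraMap R A (algebraMap S R (s * s')) = algebraMap R A (algebraMap S R 1) := by
    rw [map_mul, map_mul, hs, hs', Units.mul_inv, map_one, map_one]
  have h4 : s * s' = 1 := hS.1 (algebraMap_injective_of_isAzumaya R A h3)
  exact ⟨⟨s, s', h4, by rw [mul_comm]; exact h4⟩, hs⟩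

/-- if `φ` commutes with `t` and `φ x * v = v * x` then `t v * v` is a unit of the fixed ring -/
theorem exists_unit_eq_map_mul (φ : A → A) (hφ : ∀ x, φ (t x) = t (φ x)) (v : Aˣ)
    (hv : ∀ x, φ x * v = v * x) :
    ∃ s : Sˣ, algebraMap R A (algebraMap S R s) = t (v : A) * v := by
  have h1 : ∀ x, t (v : A) * φ x = x * t (v : A) := by
    intro x
    have := congrArg t (hv (t x))
    rw [t.map_mul, t.map_mul, t.invol, hφ, t.invol] at this
    exact this
  let c : Aˣ := ⟨t (v : A) * v, ((v⁻¹ : Aˣ) : A) * t ((v⁻¹ : Aˣ) : A), by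
    rw [mul_assoc, ← mul_assoc (v : A), Units.mul_inv, one_mul, t.map_units_inv' v], by
    rw [mul_assoc, ← mul_assoc (t _), t.map_units_inv v, one_mul, Units.inv_mul]⟩
  have hcv : (c : A) = t (v : A) * v := rfl
  obtain ⟨s, hs⟩ := exists_unit_of_central_fixed hlam hS t c (by
    intro x
    rw [hcv, mul_assoc, ← hv, ← mul_assoc, h1, mul_assoc]) (by
    rw [hcv, t.map_mul, t.invol])
  exact ⟨s, hs⟩

end Mult

end Groth.Agent.Lib.AzInvH6
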