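import Mathlib
import Groth.Agent.Lib.AzInv10_helper6
import Groth.Agent.Lib.AzInv11_helper6

/-!
# S17355 core: automorphisms of `(A, t)` are locally conjugation by a unitary (helper6)
-/

set_option autoImplicit false
universe u v w u'

open TensorProduct

namespace Groth.Agent.Lib.AzInvH6

attribute [local instance] algT

/-- units have square roots locally for the etale topology of `S` -/
def HasSqrt (S : Type u) [CommRing S] : Prop :=
  ∀ (S₁ : Type u) [CommRing S₁] [Algebra S S₁] [Algebra.Etale S S₁] (x : S₁ˣ),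
    ∃ (S₂ : Type u) (_ : CommRing S₂) (_ : Algebra S₁ S₂) (_ : Algebra.Etale S₁ S₂)
      (_ : Module.FaithfullyFlat S₁ S₂) (y : S₂), y * y = algebraMap S₁ S₂ ↑x

theorem exists_sqrt_refine {S : Type u} [CommRing S] (hsq : HasSqrt S) (T₁ : Type u) [CommRing T₁]
    [Algebra S T₁] [Algebra.Etale S T₁] (Q₁ : Ideal T₁) [Q₁.IsPrime] (s : T₁ˣ) :
    ∃ (T₂ : Type u) (_ : CommRing T₂) (_ : Algebra S T₂) (_ : Algebra.Etale S T₂)
      (g : T₁ →ₐ[S] T₂) (Q₂ : Ideal T₂) (_ : Q₂.IsPrime) (y : T₂ˣ),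
      Q₂.comap (algebraMap S T₂) = Q₁.comap (algebraMap S T₁) ∧ (y : T₂) * y = g s := by
  obtain ⟨S₂, _, _, _, _, y, hy⟩ := hsq T₁ s
  letI : Algebra S S₂ := ((algebraMap T₁ S₂).comp (algebraMap S T₁)).toAlgebra
  haveI : IsScalarTower S T₁ S₂ := IsScalarTower.of_algebraMap_eq (fun _ => rfl)
  haveI : Algebra.Etale S S₂ := Algebra.Etale.comp S T₁ S₂
  obtain ⟨Q₂, hQ₂⟩ := PrimeSpectrum.comap_surjective_of_faithfullyFlat (A := T₁) (B := S₂)
    ⟨Q₁, inferInstance⟩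
  have hyu : IsUnit y := by
    have h1 : IsUnit (y * y) := by rw [hy]; exact (s.isUnit.map _)
    exact isUnit_of_mul_isUnit_left h1
  refine ⟨S₂, inferInstance, inferInstance, inferInstance, IsScalarTower.toAlgHom S T₁ S₂,
    Q₂.asIdeal, Q₂.isPrime, hyu.unit, ?_, ?_⟩
  · have h1 : Q₂.asIdeal.comap (algebraMap T₁ S₂) = Q₁ := congrArg PrimeSpectrum.asIdeal hQ₂
    rw [IsScalarTower.algebraMap_eq S T₁ S₂, ← Ideal.comap_comap, h1]
  · rw [IsUnit.unit_spec]; exact hy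

section

variable (S : Type u) (R : Type v) [CommRing S] [CommRing R] [Algebra S R]
  (lam : R ≃ₐ[S] R) (hlam : ∀ r, lam (lam r) = r) (hfix : RInv.IsFixedRing S R lam.toRingEquiv)
  (A : Type w) [Ring A] [Algebra S A] [Algebra R A] [IsScalarTower S R A]

omit hlam hfix in
theorem psiT_bc (T : Type u') [CommRing T] [Algebra S T] (t : AzInv.LamInv R A lam)
    (ψ : A ≃ₐ[R] A) (hψ : AzInv.IsInvHom t t ψ) (x : T ⊗[S] A) :
    psiT S T ψ (t.bc S lam T x) = t.bc S lam T (psiT S T ψ x) := by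
  induction x using TensorProduct.induction_on with
  | zero => simp
  | add x₁ x₂ h₁ h₂ => simp only [map_add, h₁, h₂]
  | tmul c a =>
    rw [AzInv.LamInv.bc_tmul, psiT_tmul, psiT_tmul, AzInv.LamInv.bc_tmul]
    exact congrArg _ (hψ a)

omit hlam hfix in
theorem bcA_psiT {T₁ : Type u'} [CommRing T₁] [Algebra S T₁] {T₂ : Type u} [CommRing T₂]
    [Algebra S T₂] (g : T₁ →ₐ[S] T₂) (ψ : A ≃ₐ[R] A) (z : T₁ ⊗[S] A) :
    bcA g A (psiT S T₁ ψ z) = psiT S T₂ ψ (bcA g A z) := bcA_congr g ψ z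

include hlam hfix

/-- fixed ring of the base change to a flat `S`-algebra, in terms of `lamT` -/
theorem isFixedRing_lamT (T : Type u') [CommRing T] [Algebra S T] [Module.Flat S T] :
    RInv.IsFixedRing T (T ⊗[S] R) (lamT S lam T).toRingEquiv := by
  have h := Groth.Agent.S15586.result S R T lam hlam hfix (Or.inl inferInstance)
  refine ⟨h.1, fun r => ?_⟩
  rw [← h.2 r]
  have : (lamT S lam T).toRingEquiv r =
      (Algebra.TensorProduct.congr (AlgEquiv.refl : T ≃ₐ[S] T) lam).toRingEquiv r := by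
    induction r using TensorProduct.induction_on with
    | zero => simp
    | add r₁ r₂ h₁ h₂ => rw [map_add, map_add, h₁, h₂]
    | tmul c r => simp [lamT]
  rw [this]

theorem exists_unitary_cover (hsq : HasSqrt S) [IsAzumaya R A] (t : AzInv.LamInv R A lam)
    (ψ : A ≃ₐ[R] A) (hψ : AzInv.IsInvHom t t ψ) :
    ∃ (S' : Type u) (_ : CommRing S') (_ : Algebra S S') (_ : Algebra.Etale S S')
      (_ : Module.FaithfullyFlat S S') (u : (S' ⊗[S] A)ˣ),
      t.bc S lam S' (↑u : S' ⊗[S] A) * ↑u = 1 ∧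
      ∀ x : S' ⊗[S] A, psiT S S' ψ x = u * x * (u⁻¹ : (S' ⊗[S] A)ˣ) := by
  haveI : Module.Finite R A := IsAzumaya.toFinite
  have key := exists_cover S
    (fun T _ _ => ∃ u : (T ⊗[S] A)ˣ, t.bc S lam T (↑u : T ⊗[S] A) * ↑u = 1 ∧
      ∀ x : T ⊗[S] A, psiT S T ψ x * u = u * x) ?_ ?_
  · obtain ⟨S', i1, i2, i3, i4, u, hu1, hu⟩ := key
    refine ⟨S', i1, i2, i3, i4, u, hu1, fun x => ?_⟩
    rw [← hu x, mul_assoc, Units.mul_inv, mul_one]
  · intro q
    haveI := q.isPrime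
    obtain ⟨f, hf, v, hv⟩ := exists_inner_away S R lam hlam hfix A ψ q.asIdeal
    haveI : Algebra.Etale S (Localization.Away f) := Algebra.Etale.of_isLocalizationAway f
    obtain ⟨Q₁, hQ₁, hQ₁c⟩ := exists_prime_away S S q.asIdeal f hf
    -- the multiplier
    haveI : IsAzumaya (Localization.Away f ⊗[S] R) (Localization.Away f ⊗[S] A) :=
      isAzumaya_bc S R (Localization.Away f) A
    have hfixT := isFixedRing_lamT S R lam hlam hfix (Localization.Away f)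
    have hinvT : Function.Involutive (lamT S lam (Localization.Away f)).toRingEquiv :=
      fun x => lamT_invol S lam (Localization.Away f) hlam x
    obtain ⟨s, hs⟩ := exists_unit_eq_map_mul hinvT hfixT (tT S lam (Localization.Away f) t)
      (psiT S (Localization.Away f) ψ)
      (fun x => psiT_bc S R lam A (Localization.Away f) t ψ hψ x) v hv
    obtain ⟨T₂, _, _, _, g, Q₂, hQ₂, y, hQ₂c, hy⟩ := exists_sqrt_refine hsq (Localization.Away f) Q₁ s
    -- generators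
    obtain ⟨m, a, ha⟩ := Module.Finite.exists_fin (R := R) (M := A)
    let v₂ : (T₂ ⊗[S] A)ˣ := Units.map (bcA g A).toRingHom.toMonoidHom v
    have hv₂ : (v₂ : T₂ ⊗[S] A) = bcA g A v := rfl
    have hconj₂ : ∀ x, psiT S T₂ ψ x * v₂ = v₂ * x := by
      apply conj_of_gens S T₂ ψ a ha
      intro k
      have := congrArg (bcA g A) (hv ((1 : Localization.Away f) ⊗ₜ[S] a k))
      rw [map_mul, map_mul, bcA_psiT S R A g ψ, bcA_tmul, map_one] at this
      exact this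
    let yA : (T₂ ⊗[S] A)ˣ := Units.map (algebraMap T₂ (T₂ ⊗[S] A)).toMonoidHom y
    have hyA : (yA : T₂ ⊗[S] A) = (y : T₂) ⊗ₜ[S] (1 : A) := rfl
    have hyAi : ((yA⁻¹ : (T₂ ⊗[S] A)ˣ) : T₂ ⊗[S] A) = ((y⁻¹ : T₂ˣ) : T₂) ⊗ₜ[S] (1 : A) := rfl
    have hycomm : ∀ x : T₂ ⊗[S] A, ((yA⁻¹ : (T₂ ⊗[S] A)ˣ) : T₂ ⊗[S] A) * x =
        x * ((yA⁻¹ : (T₂ ⊗[S] A)ˣ) : T₂ ⊗[S] A) := by
      intro x
      rw [hyAi]
      exact (Algebra.commutes ((y⁻¹ : T₂ˣ) : T₂) x)
    have hc₂ : t.bc S lam T₂ (v₂ : T₂ ⊗[S] A) * v₂ = (g s) ⊗ₜ[S] (1 : A) := by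
      rw [hv₂, ← bcA_bc g lam t, ← map_mul]
      have hs' : t.bc S lam (Localization.Away f) (v : Localization.Away f ⊗[S] A) * v =
          ((s : Localization.Away f) ⊗ₜ[S] (1 : A)) := by
        rw [← tT_apply, ← hs]
        show toA S R (Localization.Away f) A (algebraMap _ _ (s : Localization.Away f)) = _
        rw [Algebra.TensorProduct.algebraMap_apply, Algebra.algebraMap_self_apply, toA_tmul, map_one]
      rw [hs', bcA_tmul]
    refine ⟨T₂, inferInstance, inferInstance, inferInstance,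
      ⟨v₂ * yA⁻¹, ?_, fun x => ?_⟩, Q₂, hQ₂, ?_⟩
    · have e1 : t.bc S lam T₂ ((yA⁻¹ : (T₂ ⊗[S] A)ˣ) : T₂ ⊗[S] A) =
          ((yA⁻¹ : (T₂ ⊗[S] A)ˣ) : T₂ ⊗[S] A) := by
        rw [hyAi, AzInv.LamInv.bc_tmul, t.map_one]
      have e2 : ((y⁻¹ : T₂ˣ) : T₂) * g s * ((y⁻¹ : T₂ˣ) : T₂) = 1 := by
        rw [← hy, ← mul_assoc, Units.inv_mul, one_mul, Units.mul_inv]
      calc t.bc S lam T₂ ((v₂ * yA⁻¹ : (T₂ ⊗[S] A)ˣ) : T₂ ⊗[S] A) *
            ((v₂ * yA⁻¹ : (T₂ ⊗[S] A)ˣ) : T₂ ⊗[S] A)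
          = ((yA⁻¹ : (T₂ ⊗[S] A)ˣ) : T₂ ⊗[S] A) *
              (t.bc S lam T₂ (v₂ : T₂ ⊗[S] A) * v₂) *
              ((yA⁻¹ : (T₂ ⊗[S] A)ˣ) : T₂ ⊗[S] A) := by
            rw [Units.val_mul, bc_mul, e1]
            simp only [mul_assoc]
        _ = 1 := by
            rw [hc₂, hyAi, Algebra.TensorProduct.tmul_mul_tmul, Algebra.TensorProduct.tmul_mul_tmul,
              mul_one, mul_one, e2]
            rfl
    · rw [Units.val_mul, ← mul_assoc, hconj₂, mul_assoc, mul_assoc, hycomm]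
    · rw [hQ₂c, hQ₁c]
      simp
  · intro ι _ _ T _ _ _ hT
    choose u hu1 hu using hT
    obtain ⟨U, hU⟩ := exists_pi_unit T A u
    refine ⟨U, pi_ext T A fun i => ?_, fun x => pi_ext T A fun i => ?_⟩
    · rw [map_mul, map_one]
      have h1 : piProj T A i (t.bc S lam (∀ i, T i) (U : (∀ i, T i) ⊗[S] A)) =
          t.bc S lam (T i) (piProj T A i U) := bcA_bc (Pi.evalAlgHom S T i) lam t _
      rw [h1, hU, hu1]
    · rw [map_mul, map_mul, hU]
      have h1 : piProj T A i (psiT S (∀ i, T i) ψ x) = psiT S (T i) ψ (piProj T A i x) :=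
        bcA_congr (Pi.evalAlgHom S T i) ψ x
      rw [h1, hu]

end

end Groth.Agent.Lib.AzInvH6
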