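import Mathlib
import Groth.Agent.Lib.AzInv7_helper6

/-!
# Descent of algebra maps `A → M_n(T ⊗ R)` along a directed approximation of `T` (helper6)
-/

set_option autoImplicit false
universe u v w w' u' u''

open TensorProduct

namespace Groth.Agent.Lib.AzInvH6

attribute [local instance] Algebra.TensorProduct.rightAlgebra

namespace Approx

variable {S : Type u} [CommRing S] {T : Type v} [CommRing T] [Algebra S T]
  (D : Approx.{u, v, w} S T) (M : Type w') [AddCommGroup M] [Module S M]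

theorem exists_ofM_finite {κ : Type*} [Finite κ] (z : κ → T ⊗[S] M) :
    ∃ (i : D.ι) (x : κ → D.obj i ⊗[S] M), ∀ k, D.ofM M i (x k) = z k := by
  obtain ⟨l, ⟨e⟩⟩ := Finite.exists_equiv_fin κ
  obtain ⟨i, x, hx⟩ := D.exists_ofM_fin M (fun k => z (e.symm k))
  exact ⟨i, fun k => x (e k), fun k => by rw [hx, Equiv.symm_apply_apply]⟩

theorem ofM_eq_zero_finite [Module.Flat S T] {κ : Type*} [Finite κ] {i : D.ι}
    (z : κ → D.obj i ⊗[S] M) (hz : ∀ k, D.ofM M i (z k) = 0) :
    ∃ (j : D.ι) (h : i ≤ j), ∀ k, D.trM M h (z k) = 0 := by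
  obtain ⟨l, ⟨e⟩⟩ := Finite.exists_equiv_fin κ
  obtain ⟨j, h, hj⟩ := D.ofM_eq_zero_fin M (fun k => z (e.symm k)) (fun k => hz _)
  exact ⟨j, h, fun k => by have := hj (e k); rwa [Equiv.symm_apply_apply] at this⟩

end Approx

section BcR

variable {S : Type u} [CommRing S] {T₁ : Type u'} [CommRing T₁] [Algebra S T₁]
  {T₂ : Type u''} [CommRing T₂] [Algebra S T₂] (g : T₁ →ₐ[S] T₂)
  (R : Type v) [CommRing R] [Algebra S R]

/-- `T₁ ⊗ R → T₂ ⊗ R` as an `R`-algebra map -/
noncomputable def bcR : T₁ ⊗[S] R →ₐ[R] T₂ ⊗[S] R :=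
  { (bcA g R).toRingHom with
    commutes' := fun r => by
      show bcA g R (algebraMap R (T₁ ⊗[S] R) r) = algebraMap R (T₂ ⊗[S] R) r
      rw [Algebra.TensorProduct.right_algebraMap_apply,
        Algebra.TensorProduct.right_algebraMap_apply, bcA_tmul, map_one] }

theorem bcR_apply (z : T₁ ⊗[S] R) : bcR g R z = bcA g R z := rfl

end BcR

section MatHom

variable {S : Type u} [CommRing S] (R : Type v) [CommRing R] [Algebra S R]
  (A : Type w') [Ring A] [Algebra R A] (n : ℕ)

/-- `A` is split by `T`: there is an `R`-algebra map `A → M_n(T ⊗ R)` -/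
def MatHom (T : Type u') [CommRing T] [Algebra S T] : Prop :=
  Nonempty (A →ₐ[R] Matrix (Fin n) (Fin n) (T ⊗[S] R))

variable {R A n}

theorem MatHom.map {T₁ : Type u'} [CommRing T₁] [Algebra S T₁] {T₂ : Type u''} [CommRing T₂]
    [Algebra S T₂] (g : T₁ →ₐ[S] T₂) (h : MatHom (S := S) R A n T₁) : MatHom (S := S) R A n T₂ := by
  obtain ⟨φ⟩ := h
  exact ⟨(bcR g R).mapMatrix.comp φ⟩

variable {T : Type u'} [CommRing T] [Algebra S T]

theorem MatHom.descend (D : Approx.{u, u', w} S T) [Module.Flat S T] [Module.Finite R A]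
    [Module.Projective R A] (h : MatHom (S := S) R A n T) :
    ∃ i : D.ι, MatHom (S := S) R A n (D.obj i) := by
  classical
  obtain ⟨φ⟩ := h
  obtain ⟨m, f, g, -, -, hfg⟩ := Module.Finite.exists_comp_eq_id_of_projective R A
  let a : Fin m → A := fun k => f (Pi.single k 1)
  have hx : ∀ x : A, x = ∑ k, g x k • a k := by
    intro x
    have h1 : f (g x) = x := by
      have := congrArg (fun F => F x) hfg
      simpa using this
    conv_lhs => rw [← h1]
    rw [LinearMap.pi_apply_eq_sum_univ f (g x)]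
    refine Finset.sum_congr rfl fun k _ => ?_
    congr 2
    funext j
    simp [Pi.single_apply, eq_comm]
  -- lift the matrices
  obtain ⟨i, w, hw⟩ := D.exists_ofM_finite R
    (fun kpq : Fin m × Fin n × Fin n => φ (a kpq.1) kpq.2.1 kpq.2.2)
  let N : Fin m → Matrix (Fin n) (Fin n) (D.obj i ⊗[S] R) := fun k => Matrix.of fun p q => w (k, p, q)
  let ψ : A →ₗ[R] Matrix (Fin n) (Fin n) (D.obj i ⊗[S] R) :=
    ∑ k, ((LinearMap.proj k).comp g).smulRight (N k)
  have hψ : ∀ x, ψ x = ∑ k, g x k • N k := by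
    intro x
    simp [ψ]
  have hofN : ∀ k, (bcR (D.of i) R).mapMatrix (N k) = φ (a k) := by
    intro k
    ext p q
    have := hw (k, p, q)
    rw [← D.ofA_eq_ofM] at this
    exact this
  have hofψ : ∀ x, (bcR (D.of i) R).mapMatrix (ψ x) = φ x := by
    intro x
    rw [hψ, map_sum]
    conv_rhs => rw [hx x, map_sum]
    refine Finset.sum_congr rfl fun k _ => ?_
    rw [map_smul, map_smul, hofN]
  -- the relations
  obtain ⟨j, hij, hj⟩ := D.ofM_eq_zero_finite R (κ := (Fin m × Fin m × Fin n × Fin n) ⊕ (Fin n × Fin n))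
    (fun idx => Sum.elim
      (fun klpq : Fin m × Fin m × Fin n × Fin n =>
        (ψ (a klpq.1 * a klpq.2.1) - ψ (a klpq.1) * ψ (a klpq.2.1)) klpq.2.2.1 klpq.2.2.2)
      (fun pq : Fin n × Fin n => (ψ 1 - 1) pq.1 pq.2) idx) (by
    intro idx
    rcases idx with ⟨k, l, p, q⟩ | ⟨p, q⟩
    · simp only [Sum.elim_inl]
      have h1 : (bcR (D.of i) R).mapMatrix (ψ (a k * a l) - ψ (a k) * ψ (a l)) = 0 := by
        rw [map_sub, map_mul (bcR (D.of i) R).mapMatrix, hofψ, hofψ, hofψ, map_mul φ, sub_self]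
      have h2 := congrFun (congrFun h1 p) q
      rw [← D.ofA_eq_ofM]
      exact h2
    · simp only [Sum.elim_inr]
      have h1 : (bcR (D.of i) R).mapMatrix (ψ 1 - 1) = 0 := by
        rw [map_sub, hofψ, map_one φ, map_one (bcR (D.of i) R).mapMatrix, sub_self]
      have h2 := congrFun (congrFun h1 p) q
      rw [← D.ofA_eq_ofM]
      exact h2)
  let ψj : A →ₗ[R] Matrix (Fin n) (Fin n) (D.obj j ⊗[S] R) :=
    (bcR (D.tr hij) R).mapMatrix.toLinearMap ∘ₗ ψ
  have hψj : ∀ x, ψj x = (bcR (D.tr hij) R).mapMatrix (ψ x) := fun x => rfl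
  have hmulgen : ∀ k l, ψj (a k * a l) = ψj (a k) * ψj (a l) := by
    intro k l
    have h1 : (bcR (D.tr hij) R).mapMatrix (ψ (a k * a l) - ψ (a k) * ψ (a l)) = 0 := by
      ext p q
      have := hj (Sum.inl (k, l, p, q))
      simp only [Sum.elim_inl] at this
      rw [← D.trA_eq_trM] at this
      exact this
    rw [map_sub, map_mul (bcR (D.tr hij) R).mapMatrix, sub_eq_zero] at h1
    rw [hψj, hψj, hψj, h1]
  have hone : ψj 1 = 1 := by
    have h1 : (bcR (D.tr hij) R).mapMatrix (ψ 1 - 1) = 0 := by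
      ext p q
      have := hj (Sum.inr (p, q))
      simp only [Sum.elim_inr] at this
      rw [← D.trA_eq_trM] at this
      exact this
    rw [map_sub, map_one (bcR (D.tr hij) R).mapMatrix, sub_eq_zero] at h1
    rw [hψj, h1]
  have hmul : ∀ x y, ψj (x * y) = ψj x * ψj y := by
    intro x y
    conv_lhs => rw [hx x, hx y, Finset.sum_mul_sum]
    conv_rhs => rw [hx x, hx y, map_sum, map_sum, Finset.sum_mul_sum]
    rw [map_sum]
    refine Finset.sum_congr rfl fun k _ => ?_
    rw [map_sum]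
    refine Finset.sum_congr rfl fun l _ => ?_
    rw [smul_mul_smul_comm, map_smul, hmulgen, map_smul, map_smul, smul_mul_smul_comm]
  exact ⟨j, ⟨AlgHom.ofLinearMap ψj hone hmul⟩⟩

end MatHom

end Groth.Agent.Lib.AzInvH6
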