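import Mathlib

/-!
# Corner algebras `eAe` (helper6)
-/

namespace Groth.Agent.Lib.CornerH6

open Module

universe u v

section faithful

variable (R : Type u) [CommRing R] (M : Type v) [AddCommGroup M] [Module R M]
  [Module.Finite R M] [Module.Projective R M]

theorem faithfulSMul_of_rankAtStalk_pos (h : ∀ p : PrimeSpectrum R, 0 < rankAtStalk M p) :
    FaithfulSMul R M := by
  refine ⟨fun {r₁ r₂} hr => ?_⟩
  rw [← sub_eq_zero]
  apply eq_zero_of_localization
  intro J hJ
  haveI : Module.Free (Localization.AtPrime J) (LocalizedModule J.primeCompl M) :=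
    Module.free_of_flat_of_isLocalRing
  have hpos : 0 < finrank (Localization.AtPrime J) (LocalizedModule J.primeCompl M) :=
    h ⟨J, hJ.isPrime⟩
  haveI : Nontrivial (LocalizedModule J.primeCompl M) := Module.nontrivial_of_finrank_pos hpos
  apply FaithfulSMul.eq_of_smul_eq_smul (α := LocalizedModule J.primeCompl M)
  intro x
  rw [zero_smul, algebraMap_smul]
  induction x using LocalizedModule.induction_on with
  | h m s =>
    rw [LocalizedModule.smul'_mk, sub_smul, hr m, sub_self, LocalizedModule.zero_mk]

theorem rankAtStalk_pos_of_nontrivial [ConnectedSpace (PrimeSpectrum R)] [Nontrivial M]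
    (p : PrimeSpectrum R) : 0 < rankAtStalk M p := by
  haveI : Module.FinitePresentation R M := Module.finitePresentation_of_projective R M
  have hc := Module.isLocallyConstant_rankAtStalk (R := R) (M := M)
  by_contra h0
  have h0' : rankAtStalk M p = 0 := by omega
  have h1 : rankAtStalk (R := R) M = 0 := by
    funext q
    rw [hc.apply_eq_of_preconnectedSpace q p, h0']
    rfl
  have h2 := (Module.rankAtStalk_eq_zero_iff_subsingleton (R := R) (M := M)).mp h1
  exact not_subsingleton M h2

end faithful

section corner

variable {R : Type u} [CommRing R] {A : Type v} [Ring A] [Algebra R A] {e : A}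
  (he : IsIdempotentElem e)

theorem corner_mul_left (x : he.Corner) : e * x.1 = x.1 :=
  ((Subsemigroup.mem_corner_iff he).mp x.2).1

theorem corner_mul_right (x : he.Corner) : x.1 * e = x.1 :=
  ((Subsemigroup.mem_corner_iff he).mp x.2).2

theorem corner_val_mul (x y : he.Corner) : (x * y).1 = x.1 * y.1 := rfl
theorem corner_val_add (x y : he.Corner) : (x + y).1 = x.1 + y.1 := rfl
theorem corner_val_one : (1 : he.Corner).1 = e := rfl
theorem corner_val_zero : (0 : he.Corner).1 = 0 := rfl

theorem corner_ext {x y : he.Corner} (h : x.1 = y.1) : x = y := Subtype.ext h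

/-- the structure map `R → eAe`. -/
def cornerAlgebraMap : R →+* he.Corner where
  toFun r := ⟨r • e, ⟨r • e, by
    show e * (r • e) * e = r • e
    rw [mul_smul_comm, smul_mul_assoc, he.eq, he.eq]⟩⟩
  map_one' := corner_ext he (one_smul R e)
  map_mul' r s := corner_ext he (by
    show (r * s) • e = (r • e) * (s • e)
    rw [smul_mul_smul_comm, he.eq])
  map_zero' := corner_ext he (zero_smul R e)
  map_add' r s := corner_ext he (add_smul r s e)

instance cornerAlgebra : Algebra R he.Corner :=
  (cornerAlgebraMap he).toAlgebra' (fun r x => corner_ext he (by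
    show (r • e) * x.1 = x.1 * (r • e)
    rw [smul_mul_assoc, mul_smul_comm, corner_mul_left, corner_mul_right]))

theorem corner_smul_val (r : R) (x : he.Corner) : (r • x).1 = r • x.1 := by
  show (r • e) * x.1 = r • x.1
  rw [smul_mul_assoc, corner_mul_left]

/-- the inclusion `eAe → A`. -/
def cornerIncl : he.Corner →ₗ[R] A where
  toFun x := x.1
  map_add' _ _ := rfl
  map_smul' r x := corner_smul_val he r x

/-- the projection `A → eAe`. -/
def cornerProj : A →ₗ[R] he.Corner where
  toFun a := ⟨e * a * e, ⟨a, rfl⟩⟩
  map_add' a b := corner_ext he (by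
    show e * (a + b) * e = e * a * e + e * b * e
    rw [mul_add, add_mul])
  map_smul' r a := corner_ext he (by
    rw [RingHom.id_apply, corner_smul_val]
    show e * (r • a) * e = r • (e * a * e)
    rw [mul_smul_comm, smul_mul_assoc])

@[simp] theorem cornerIncl_apply (x : he.Corner) : cornerIncl (R := R) he x = x.1 := rfl
@[simp] theorem cornerProj_val (a : A) : (cornerProj (R := R) he a).1 = e * a * e := rfl

theorem cornerProj_incl (x : he.Corner) :
    cornerProj (R := R) he (cornerIncl (R := R) he x) = x :=
  corner_ext he (by
    rw [cornerProj_val, cornerIncl_apply, corner_mul_left, corner_mul_right])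

theorem cornerProj_comp_incl :
    (cornerProj (R := R) he) ∘ₗ (cornerIncl (R := R) he) = LinearMap.id :=
  LinearMap.ext (cornerProj_incl he)

theorem corner_finite [Module.Finite R A] : Module.Finite R he.Corner :=
  Module.Finite.of_surjective (cornerProj (R := R) he) (fun x => ⟨_, cornerProj_incl he x⟩)

theorem corner_projective [Module.Projective R A] : Module.Projective R he.Corner :=
  Module.Projective.of_split (cornerIncl (R := R) he) (cornerProj (R := R) he)
    (cornerProj_comp_incl he)

end corner

end Groth.Agent.Lib.CornerH6
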