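import Mathlib
import Groth.Agent.Lib.Corner1_helper6
import Groth.Agent.Lib.AzumayaEnd_helper6

/-!
# The corner `eAe` of an Azumaya algebra is Azumaya; `A ⊗ (eAe)ᵐᵒᵖ ≃ End_R(Ae)` (helper6)
-/

namespace Groth.Agent.Lib.CornerH6

open Module TensorProduct MulOpposite
open Groth.Agent.Lib.AzumayaEnd

universe u v

variable {R : Type u} [CommRing R] {A : Type v} [Ring A] [Algebra R A] {e : A}
  (he : IsIdempotentElem e)

theorem corner_mulLeftRight_bijective (hA : Function.Bijective (AlgHom.mulLeftRight R A)) :
    Function.Bijective (AlgHom.mulLeftRight R he.Corner) := by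
  refine bijective_of_retract (AlgHom.mulLeftRight R he.Corner) (AlgHom.mulLeftRight R A)
    (TensorProduct.map (cornerIncl (R := R) he) (opMap (cornerIncl (R := R) he)))
    (TensorProduct.map (cornerProj (R := R) he) (opMap (cornerProj (R := R) he)))
    (up (cornerIncl (R := R) he) (cornerProj (R := R) he))
    (down (cornerIncl (R := R) he) (cornerProj (R := R) he)) ?_ ?_ ?_ ?_ hA
  · intro x
    induction x using TensorProduct.induction_on with
    | zero => simp
    | add x y hx hy => rw [map_add, map_add, hx, hy]
    | tmul b b' =>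
      rw [TensorProduct.map_tmul, TensorProduct.map_tmul, opMap_apply, opMap_apply, unop_op,
        cornerProj_incl, cornerProj_incl, op_unop]
  · intro φ
    exact down_up (cornerProj_comp_incl he) φ
  · intro x
    induction x using TensorProduct.induction_on with
    | zero => simp
    | add x y hx hy => rw [map_add, map_add, map_add, map_add, hx, hy]
    | tmul b b' =>
      apply LinearMap.ext
      intro y
      rw [TensorProduct.map_tmul, AlgHom.mulLeftRight_apply, up_apply,
        AlgHom.mulLeftRight_apply, opMap_apply, unop_op]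
      show b.1 * y * b'.unop.1 = b.1 * (e * y * e) * b'.unop.1
      rw [mul_assoc e, ← mul_assoc b.1, corner_mul_right, mul_assoc, mul_assoc, mul_assoc,
        corner_mul_left]
  · intro x
    induction x using TensorProduct.induction_on with
    | zero => simp
    | add x y hx hy => rw [map_add, map_add, map_add, map_add, hx, hy]
    | tmul a a' =>
      apply LinearMap.ext
      intro y
      apply corner_ext he
      rw [TensorProduct.map_tmul, AlgHom.mulLeftRight_apply, down_apply,
        AlgHom.mulLeftRight_apply, opMap_apply, unop_op]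
      show (e * a * e) * y.1 * (e * a'.unop * e) = e * (a * y.1 * a'.unop) * e
      have h1 := corner_mul_left he y
      have h2 := corner_mul_right he y
      calc (e * a * e) * y.1 * (e * a'.unop * e)
          = e * a * (e * y.1 * e) * a'.unop * e := by simp only [mul_assoc]
        _ = e * (a * y.1 * a'.unop) * e := by rw [h1, h2]; simp only [mul_assoc]

theorem isAzumaya_corner [IsAzumaya R A] (hpos : ∀ p : PrimeSpectrum R, 0 < rankAtStalk he.Corner p) :
    IsAzumaya R he.Corner := by
  haveI : Module.Finite R A := IsAzumaya.toFinite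
  haveI : Module.Projective R A := IsAzumaya.toProjective
  haveI := corner_finite (R := R) he
  haveI := corner_projective (R := R) he
  haveI := faithfulSMul_of_rankAtStalk_pos R he.Corner hpos
  exact { bij := corner_mulLeftRight_bijective he IsAzumaya.bij }

section lid

variable (R e)

/-- the left ideal `Ae` as an `R`-submodule of `A`. -/
def Lid : Submodule R A := LinearMap.range (LinearMap.mulRight R e)

variable {R e}

/-- the projection `A → Ae`. -/
def LidProj : A →ₗ[R] Lid R e :=
  (LinearMap.mulRight R e).codRestrict (Lid R e) (fun x => ⟨x, rfl⟩)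

@[simp] theorem LidProj_val (a : A) : (LidProj (R := R) (e := e) a).1 = a * e := rfl

include he

theorem mem_Lid_iff {y : A} : y ∈ Lid R e ↔ y * e = y := by
  constructor
  · rintro ⟨x, rfl⟩
    rw [LinearMap.mulRight_apply, mul_assoc, he.eq]
  · intro h
    exact ⟨y, by rw [LinearMap.mulRight_apply, h]⟩

theorem Lid_mul_right (y : Lid R e) : y.1 * e = y.1 := (mem_Lid_iff he).mp y.2

theorem LidProj_incl (y : Lid R e) : LidProj (R := R) (e := e) y.1 = y :=
  Subtype.ext (by rw [LidProj_val, Lid_mul_right he])

theorem LidProj_comp_subtype : (LidProj (R := R) (e := e)) ∘ₗ (Lid R e).subtype = LinearMap.id :=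
  LinearMap.ext (LidProj_incl he)

theorem Lid_finite [Module.Finite R A] : Module.Finite R (Lid R e) :=
  Module.Finite.of_surjective (LidProj (R := R) (e := e)) (fun y => ⟨_, LidProj_incl he y⟩)

theorem Lid_projective [Module.Projective R A] : Module.Projective R (Lid R e) :=
  Module.Projective.of_split (Lid R e).subtype (LidProj (R := R) (e := e))
    (LidProj_comp_subtype he)

/-- left multiplication of `A` on `Ae`. -/
def LidLeft : A →ₐ[R] Module.End R (Lid R e) :=
  AlgHom.ofLinearMap
    { toFun := fun a =>
        { toFun := fun y => ⟨a * y.1, (mem_Lid_iff he).mpr (by rw [mul_assoc, Lid_mul_right he])⟩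
          map_add' := fun y z => Subtype.ext (mul_add a y.1 z.1)
          map_smul' := fun r y => Subtype.ext (mul_smul_comm r a y.1) }
      map_add' := fun a b => LinearMap.ext fun y => Subtype.ext (add_mul a b y.1)
      map_smul' := fun r a => LinearMap.ext fun y => Subtype.ext (smul_mul_assoc r a y.1) }
    (LinearMap.ext fun y => Subtype.ext (one_mul y.1))
    (fun a b => LinearMap.ext fun y => Subtype.ext (mul_assoc a b y.1))

theorem LidLeft_val (a : A) (y : Lid R e) : (LidLeft he a y).1 = a * y.1 := rfl

/-- right multiplication of `eAe` on `Ae`. -/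
def LidRight : he.Cornerᵐᵒᵖ →ₐ[R] Module.End R (Lid R e) :=
  AlgHom.ofLinearMap
    { toFun := fun b =>
        { toFun := fun y => ⟨y.1 * b.unop.1, (mem_Lid_iff he).mpr (by
            rw [mul_assoc, corner_mul_right])⟩
          map_add' := fun y z => Subtype.ext (add_mul y.1 z.1 _)
          map_smul' := fun r y => Subtype.ext (smul_mul_assoc r y.1 _) }
      map_add' := fun b b' => LinearMap.ext fun y => Subtype.ext (by
        show y.1 * (b.unop + b'.unop).1 = y.1 * b.unop.1 + y.1 * b'.unop.1
        rw [corner_val_add, mul_add])
      map_smul' := fun r b => LinearMap.ext fun y => Subtype.ext (by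
        show y.1 * (r • b.unop).1 = r • (y.1 * b.unop.1)
        rw [corner_smul_val, mul_smul_comm]) }
    (LinearMap.ext fun y => Subtype.ext (by
      show y.1 * (1 : he.Corner).1 = y.1
      rw [corner_val_one, Lid_mul_right he]))
    (fun b b' => LinearMap.ext fun y => Subtype.ext (by
      show y.1 * (b'.unop * b.unop).1 = y.1 * b'.unop.1 * b.unop.1
      rw [corner_val_mul, mul_assoc]))

theorem LidRight_val (b : he.Cornerᵐᵒᵖ) (y : Lid R e) :
    (LidRight (R := R) he b y).1 = y.1 * b.unop.1 := rfl

/-- `A ⊗ (eAe)ᵐᵒᵖ → End_R(Ae)`. -/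
noncomputable def muL : A ⊗[R] he.Cornerᵐᵒᵖ →ₐ[R] Module.End R (Lid R e) :=
  Algebra.TensorProduct.lift (LidLeft he) (LidRight he) (fun a b => by
    show LidLeft he a * LidRight he b = LidRight he b * LidLeft he a
    apply LinearMap.ext
    intro y
    apply Subtype.ext
    show a * (y.1 * b.unop.1) = a * y.1 * b.unop.1
    rw [mul_assoc])

theorem muL_val (a : A) (b : he.Cornerᵐᵒᵖ) (y : Lid R e) :
    (muL (R := R) he (a ⊗ₜ b) y).1 = a * y.1 * b.unop.1 := by
  unfold muL
  rw [Algebra.TensorProduct.lift_tmul]
  show a * (y.1 * b.unop.1) = _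
  rw [mul_assoc]

theorem muL_bijective (hA : Function.Bijective (AlgHom.mulLeftRight R A)) :
    Function.Bijective (muL (R := R) he) := by
  refine bijective_of_retract (muL (R := R) he) (AlgHom.mulLeftRight R A)
    (TensorProduct.map (LinearMap.id : A →ₗ[R] A) (opMap (cornerIncl (R := R) he)))
    (TensorProduct.map (LinearMap.id : A →ₗ[R] A) (opMap (cornerProj (R := R) he)))
    (up (Lid R e).subtype (LidProj (R := R) (e := e)))
    (down (Lid R e).subtype (LidProj (R := R) (e := e))) ?_ ?_ ?_ ?_ hA
  · intro x
    induction x using TensorProduct.induction_on with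
    | zero => simp
    | add x y hx hy => rw [map_add, map_add, hx, hy]
    | tmul a b' =>
      rw [TensorProduct.map_tmul, TensorProduct.map_tmul, opMap_apply, opMap_apply, unop_op,
        cornerProj_incl, op_unop, LinearMap.id_apply, LinearMap.id_apply]
  · intro φ
    exact down_up (LidProj_comp_subtype he) φ
  · intro x
    induction x using TensorProduct.induction_on with
    | zero => simp
    | add x y hx hy => rw [map_add, map_add, map_add, map_add, hx, hy]
    | tmul a b' =>
      apply LinearMap.ext
      intro y
      rw [TensorProduct.map_tmul, AlgHom.mulLeftRight_apply, up_apply, opMap_apply, unop_op,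
        LinearMap.id_apply, Submodule.subtype_apply, muL_val, LidProj_val]
      show a * y * b'.unop.1 = a * (y * e) * b'.unop.1
      rw [mul_assoc a (y * e), mul_assoc y e, corner_mul_left, mul_assoc]
  · intro x
    induction x using TensorProduct.induction_on with
    | zero => simp
    | add x y hx hy => rw [map_add, map_add, map_add, map_add, hx, hy]
    | tmul a a' =>
      apply LinearMap.ext
      intro y
      apply Subtype.ext
      rw [TensorProduct.map_tmul, muL_val, down_apply, AlgHom.mulLeftRight_apply, opMap_apply,
        unop_op, LinearMap.id_apply, Submodule.subtype_apply, LidProj_val, cornerProj_val]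
      have h2 := Lid_mul_right he y
      calc a * y.1 * (e * a'.unop * e) = a * (y.1 * e) * a'.unop * e := by
            simp only [mul_assoc]
        _ = a * y.1 * a'.unop * e := by rw [h2]

/-- `A ⊗ (eAe)ᵐᵒᵖ ≃ End_R(Ae)`. -/
noncomputable def muLEquiv [IsAzumaya R A] :
    A ⊗[R] he.Cornerᵐᵒᵖ ≃ₐ[R] Module.End R (Lid R e) :=
  AlgEquiv.ofBijective (muL (R := R) he) (muL_bijective he IsAzumaya.bij)

end lid

end Groth.Agent.Lib.CornerH6
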