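import Mathlib
import Groth.Agent.Lib.HenselFinite_helper3

/-!
# Lifting idempotents in finite algebras over henselian local rings (helper6)

`exists_idem`: `R` henselian local, `C` a (possibly noncommutative) `R`-algebra, finite as a module,
`c : C`. Then there is an idempotent `ε` and `t` with `ε - c = (c * c - c) * t`; in particular for
every ring hom `Φ` out of `C` with `Φ c` idempotent we get `Φ ε = Φ c`.
-/

set_option autoImplicit false
universe u

namespace Groth.Agent.Lib.HensAzH6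

open Polynomial

theorem exists_idem_local (A : Type*) [CommRing A] [IsLocalRing A] (c : A) :
    ∃ ε t : A, ε * ε = ε ∧ ε - c = (c * c - c) * t := by
  rcases IsLocalRing.isUnit_or_isUnit_one_sub_self c with h | h
  · obtain ⟨u, rfl⟩ := h
    refine ⟨1, -↑u⁻¹, by simp, ?_⟩
    have h1 : (u : A) * ↑u⁻¹ = 1 := Units.mul_inv u
    linear_combination ((u : A) - 1) * h1
  · obtain ⟨u, hu⟩ := h
    refine ⟨0, ↑u⁻¹, by simp, ?_⟩
    have h1 : (u : A) * ↑u⁻¹ = 1 := Units.mul_inv u
    rw [hu] at h1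
    linear_combination c * h1

theorem exists_idem_pi {ι : Type*} (A : ι → Type*) [∀ i, CommRing (A i)]
    [∀ i, IsLocalRing (A i)] (c : ∀ i, A i) :
    ∃ ε t : ∀ i, A i, ε * ε = ε ∧ ε - c = (c * c - c) * t := by
  choose ε t h1 h2 using fun i => exists_idem_local (A i) (c i)
  exact ⟨ε, t, funext h1, funext h2⟩

theorem exists_idem_of_ringEquiv {S T : Type*} [CommRing S] [CommRing T] (e : S ≃+* T)
    (h : ∀ c : T, ∃ ε t : T, ε * ε = ε ∧ ε - c = (c * c - c) * t) (c : S) :
    ∃ ε t : S, ε * ε = ε ∧ ε - c = (c * c - c) * t := by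
  obtain ⟨ε, t, h1, h2⟩ := h (e c)
  refine ⟨e.symm ε, e.symm t, ?_, ?_⟩
  · rw [← map_mul, h1]
  · apply e.injective
    simp [h2]

theorem exists_idem_comm (R : Type u) [CommRing R] [HenselianLocalRing R] (S : Type u)
    [CommRing S] [Algebra R S] [Module.Finite R S] (c : S) :
    ∃ ε t : S, ε * ε = ε ∧ ε - c = (c * c - c) * t := by
  obtain ⟨ι, _, A, _, hloc, ⟨e⟩⟩ := Groth.Agent.Lib.HenselFiniteH3.exists_pi_local R S
  haveI := hloc
  exact exists_idem_of_ringEquiv e (exists_idem_pi A) c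

theorem exists_idem (R : Type u) [CommRing R] [HenselianLocalRing R] (C : Type u)
    [Ring C] [Algebra R C] [Module.Finite R C] (c : C) :
    ∃ ε t : C, ε * ε = ε ∧ ε - c = (c * c - c) * t := by
  have hc : IsIntegral R c := Algebra.IsIntegral.isIntegral c
  obtain ⟨f, hf, hfc⟩ := hc
  haveI : Module.Finite R (AdjoinRoot f) := hf.finite_adjoinRoot
  have hker : ∀ a : R[X], a ∈ Ideal.span {f} → aeval c a = 0 := by
    intro a ha
    obtain ⟨g, rfl⟩ := Ideal.mem_span_singleton'.mp ha
    rw [map_mul, aeval_def, aeval_def, hfc, mul_zero]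
  let φ : AdjoinRoot f →ₐ[R] C := Ideal.Quotient.liftₐ (Ideal.span {f}) (aeval c) hker
  have hφ : φ (AdjoinRoot.root f) = c := by
    show Ideal.Quotient.liftₐ (Ideal.span {f}) (aeval c) hker (Ideal.Quotient.mk _ X) = c
    rw [Ideal.Quotient.liftₐ_apply, Ideal.Quotient.lift_mk]
    simp
  obtain ⟨ε, t, h1, h2⟩ := exists_idem_comm R (AdjoinRoot f) (AdjoinRoot.root f)
  refine ⟨φ ε, φ t, by rw [← map_mul, h1], ?_⟩
  have := congrArg φ h2
  simpa [hφ] using this

end Groth.Agent.Lib.HensAzH6
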