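import Mathlib
import Groth.Prelude.Def_W4c4lgringredgrpLG

/-!
# LG-rings: a polynomial family of endomorphisms which is the identity modulo every maximal
ideal at some point is bijective at some point (helper6)
-/

namespace Groth.Agent.Lib.LGAzH6

open MvPolynomial

universe u v

/-- the LG property for an arbitrary finite type of variables. -/
theorem exists_isUnit_eval {R : Type u} [CommRing R] (hR : LGRing.IsLGRing R) {σ : Type}
    [Fintype σ] (f : MvPolynomial σ R)
    (h : ∀ (m : Ideal R) [m.IsMaximal], ∃ s : σ → R, eval s f ∉ m) :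
    ∃ s : σ → R, IsUnit (eval s f) := by
  classical
  let e : σ ≃ Fin (Fintype.card σ) := Fintype.equivFin σ
  have key := hR (Fintype.card σ) (rename e f) (by
    intro m hm
    obtain ⟨s, hs⟩ := h m
    refine ⟨fun i => Ideal.Quotient.mk m (s (e.symm i)), ?_⟩
    rw [aeval_rename]
    have h1 : (aeval ((fun i => Ideal.Quotient.mk m (s (e.symm i))) ∘ e)) f =
        Ideal.Quotient.mk m (eval s f) := by
      have h2 : ((fun i => Ideal.Quotient.mk m (s (e.symm i))) ∘ e) =
          fun j => Ideal.Quotient.mk m (s j) := by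
        funext j
        simp
      rw [h2, aeval_def, eval, coe_eval₂Hom, eval₂_comp_left]
      rfl
    rw [h1]
    let _ : Field (R ⧸ m) := Ideal.Quotient.field m
    rw [isUnit_iff_ne_zero]
    intro h0
    exact hs (Ideal.Quotient.eq_zero_iff_mem.mp h0))
  obtain ⟨s', hs'⟩ := key
  refine ⟨s' ∘ e, ?_⟩
  rw [aeval_rename] at hs'
  rwa [MvPolynomial.aeval_eq_eval] at hs'


/-- matrix version: a polynomial matrix which is congruent to the identity at some point modulo
every maximal ideal is invertible at some point. -/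
theorem exists_isUnit_det {R : Type u} [CommRing R] (hR : LGRing.IsLGRing R) {σ : Type}
    [Fintype σ] {K : Type*} [Fintype K] [DecidableEq K] (P : Matrix K K (MvPolynomial σ R))
    (h : ∀ (m : Ideal R) [m.IsMaximal], ∃ s : σ → R, ∀ i j,
      (P.map (eval s)) i j - (1 : Matrix K K R) i j ∈ m) :
    ∃ s : σ → R, IsUnit (P.map (eval s)).det := by
  obtain ⟨s, hs⟩ := exists_isUnit_eval hR P.det (fun m hm => by
    obtain ⟨s, hs⟩ := h m
    refine ⟨s, ?_⟩
    rw [RingHom.map_det]
    intro hmem
    have h1 : Ideal.Quotient.mk m (((eval s).mapMatrix P).det) = 1 := by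
      rw [RingHom.map_det]
      have h2 : (Ideal.Quotient.mk m).mapMatrix ((eval s).mapMatrix P) = 1 := by
        ext i j
        simp only [RingHom.mapMatrix_apply, Matrix.map_apply]
        have h3 := hs i j
        rw [Matrix.map_apply] at h3
        have h4 : Ideal.Quotient.mk m ((eval s) (P i j) - (1 : Matrix K K R) i j) = 0 :=
          Ideal.Quotient.eq_zero_iff_mem.mpr h3
        rw [map_sub, sub_eq_zero] at h4
        rw [h4, Matrix.one_apply, Matrix.one_apply]
        split_ifs <;> simp
      rw [h2, Matrix.det_one]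
    have h0 : Ideal.Quotient.mk m (((eval s).mapMatrix P).det) = 0 :=
      Ideal.Quotient.eq_zero_iff_mem.mpr hmem
    rw [h0] at h1
    haveI : Nontrivial (R ⧸ m) := Ideal.Quotient.nontrivial_iff.mpr hm.ne_top
    exact zero_ne_one h1)
  refine ⟨s, ?_⟩
  rw [RingHom.map_det] at hs
  exact hs

theorem map_mem_smul_top {R : Type u} [CommRing R] {N N' : Type*} [AddCommGroup N] [Module R N]
    [AddCommGroup N'] [Module R N'] (m : Ideal R) (f : N →ₗ[R] N') {y : N}
    (hy : y ∈ (m • ⊤ : Submodule R N)) : f y ∈ (m • ⊤ : Submodule R N') := by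
  refine Submodule.smul_induction_on hy ?_ ?_
  · intro r hr x _
    rw [map_smul]
    exact Submodule.smul_mem_smul hr Submodule.mem_top
  · intro x y hx hy
    rw [map_add]
    exact Submodule.add_mem _ hx hy

theorem apply_mem_of_mem_smul_top {R : Type u} [CommRing R] {K : Type*} (m : Ideal R)
    {y : K → R} (hy : y ∈ (m • ⊤ : Submodule R (K → R))) (k : K) : y k ∈ m := by
  have h1 := map_mem_smul_top m (LinearMap.proj k : (K → R) →ₗ[R] R) hy
  rw [smul_eq_mul, Ideal.mul_top] at h1
  exact h1

/-- the main lemma: a polynomial family of endomorphisms of a finite projective module over an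
LG-ring which is the identity modulo every maximal ideal at some point is bijective at some
point. -/
theorem exists_bijective_of_forall_maximal {R : Type u} [CommRing R] (hR : LGRing.IsLGRing R)
    {N : Type v} [AddCommGroup N] [Module R N] [Module.Finite R N] [Module.Projective R N]
    {σ : Type} [Fintype σ] {ι : Type*} [Fintype ι] (g : ι → MvPolynomial σ R)
    (U : ι → Module.End R N)
    (h : ∀ (m : Ideal R) [m.IsMaximal], ∃ s : σ → R, ∀ n : N,
      (∑ j, eval s (g j) • U j) n - n ∈ (m • ⊤ : Submodule R N)) :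
    ∃ s : σ → R, Function.Bijective (∑ j, eval s (g j) • U j : Module.End R N) := by
  classical
  obtain ⟨K, π, i, -, -, hπi⟩ := Module.Finite.exists_comp_eq_id_of_projective R N
  have hπi' : ∀ n, π (i n) = n := fun n => LinearMap.congr_fun hπi n
  -- the extended endomorphism
  let L : Module.End R N → Module.End R (Fin K → R) := fun θ => 1 - i ∘ₗ π + i ∘ₗ θ ∘ₗ π
  let P : Matrix (Fin K) (Fin K) (MvPolynomial σ R) :=
    (LinearMap.toMatrix' (1 - i ∘ₗ π : Module.End R (Fin K → R))).map C +
      ∑ j, g j • (LinearMap.toMatrix' (i ∘ₗ U j ∘ₗ π)).map C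
  have hP : ∀ s : σ → R, P.map (eval s) = LinearMap.toMatrix' (L (∑ j, eval s (g j) • U j)) := by
    intro s
    have h1 : L (∑ j, eval s (g j) • U j) =
        (1 - i ∘ₗ π) + ∑ j, eval s (g j) • (i ∘ₗ U j ∘ₗ π) := by
      show 1 - i ∘ₗ π + i ∘ₗ (∑ j, eval s (g j) • U j) ∘ₗ π = _
      congr 1
      apply LinearMap.ext
      intro v
      simp only [LinearMap.comp_apply, LinearMap.sum_apply, LinearMap.smul_apply, map_sum,
        map_smul]
    rw [h1, map_add, map_sum]
    ext k l
    simp only [P, Matrix.map_apply, Matrix.add_apply, Matrix.sum_apply, Matrix.smul_apply,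
      map_add, map_sum, smul_eq_mul, map_mul, eval_C, map_smul]
  obtain ⟨s, hs⟩ := exists_isUnit_det hR P (fun m hm => by
    obtain ⟨s, hs⟩ := h m
    refine ⟨s, fun k l => ?_⟩
    rw [hP s, ← Matrix.sub_apply]
    have h2 : LinearMap.toMatrix' (L (∑ j, eval s (g j) • U j)) - 1 =
        LinearMap.toMatrix' (i ∘ₗ ((∑ j, eval s (g j) • U j) - 1) ∘ₗ π) := by
      rw [← LinearMap.toMatrix'_one, ← map_sub]
      congr 1
      show 1 - i ∘ₗ π + i ∘ₗ (∑ j, eval s (g j) • U j) ∘ₗ π - 1 = _
      apply LinearMap.ext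
      intro v
      simp only [LinearMap.add_apply, LinearMap.sub_apply, Module.End.one_apply,
        LinearMap.comp_apply, map_sub]
      abel
    rw [h2, LinearMap.toMatrix'_apply]
    apply apply_mem_of_mem_smul_top m
    rw [LinearMap.comp_apply, LinearMap.comp_apply]
    apply map_mem_smul_top m i
    rw [LinearMap.sub_apply, Module.End.one_apply]
    exact hs _)
  refine ⟨s, ?_⟩
  rw [hP s] at hs
  have hu : IsUnit (L (∑ j, eval s (g j) • U j)) := by
    have h3 := (Matrix.isUnit_iff_isUnit_det _).mpr hs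
    exact (isUnit_map_iff (LinearMap.toMatrixAlgEquiv' (R := R) (n := Fin K)) _).mp h3
  have hbij := (Module.End.isUnit_iff _).mp hu
  set Θ := ∑ j, eval s (g j) • U j with hΘ
  have hLi : ∀ n, L Θ (i n) = i (Θ n) := by
    intro n
    show (1 - i ∘ₗ π + i ∘ₗ Θ ∘ₗ π) (i n) = _
    simp only [LinearMap.add_apply, LinearMap.sub_apply, Module.End.one_apply,
      LinearMap.comp_apply, hπi']
    abel
  have hπL : ∀ v, π (L Θ v) = Θ (π v) := by
    intro v
    show π ((1 - i ∘ₗ π + i ∘ₗ Θ ∘ₗ π) v) = _
    simp only [LinearMap.add_apply, LinearMap.sub_apply, Module.End.one_apply,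
      LinearMap.comp_apply, map_add, map_sub, hπi']
    abel
  have hiinj : Function.Injective i := fun a b hab => by
    rw [← hπi' a, ← hπi' b, hab]
  constructor
  · intro a b hab
    apply hiinj
    apply hbij.1
    rw [hLi, hLi, hab]
  · intro n
    obtain ⟨v, hv⟩ := hbij.2 (i n)
    refine ⟨π v, ?_⟩
    rw [← hπL, hv, hπi']

end Groth.Agent.Lib.LGAzH6
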