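import Mathlib
import Groth.Agent.Lib.LGAz1_helper6

/-!
# LG-rings: surjections and isomorphisms of projective modules over a finite projective algebra
can be found as soon as they exist modulo every maximal ideal (helper6)
-/

namespace Groth.Agent.Lib.LGAzH6

open MvPolynomial

universe u v w w'

/-- bilinear version of the main lemma. -/
theorem exists_bijective_bilin {R : Type u} [CommRing R] (hR : LGRing.IsLGRing R)
    {H H' : Type*} [AddCommGroup H] [Module R H] [Module.Finite R H]
    [AddCommGroup H'] [Module R H'] [Module.Finite R H']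
    {N : Type v} [AddCommGroup N] [Module R N] [Module.Finite R N] [Module.Projective R N]
    (c : H →ₗ[R] H' →ₗ[R] Module.End R N)
    (h : ∀ (m : Ideal R) [m.IsMaximal], ∃ (φ : H) (ψ : H'), ∀ n : N,
      c φ ψ n - n ∈ (m • ⊤ : Submodule R N)) :
    ∃ (φ : H) (ψ : H'), Function.Bijective (c φ ψ) := by
  classical
  obtain ⟨a, Φ, hΦ⟩ := Module.Finite.exists_fin (R := R) (M := H)
  obtain ⟨b, Ψ, hΨ⟩ := Module.Finite.exists_fin (R := R) (M := H')
  let g : Fin a × Fin b → MvPolynomial (Fin a ⊕ Fin b) R :=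
    fun p => X (Sum.inl p.1) * X (Sum.inr p.2)
  let U : Fin a × Fin b → Module.End R N := fun p => c (Φ p.1) (Ψ p.2)
  have key : ∀ s : Fin a ⊕ Fin b → R,
      (∑ p, eval s (g p) • U p : Module.End R N) =
        c (∑ i, s (Sum.inl i) • Φ i) (∑ j, s (Sum.inr j) • Ψ j) := by
    intro s
    rw [Fintype.sum_prod_type]
    simp only [g, U, map_sum, map_smul, LinearMap.sum_apply, LinearMap.smul_apply, map_mul,
      eval_X, Finset.smul_sum, smul_smul]
    rw [Finset.sum_comm]
    refine Finset.sum_congr rfl (fun j _ => Finset.sum_congr rfl (fun i _ => ?_))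
    rw [mul_comm]
  obtain ⟨s, hs⟩ := exists_bijective_of_forall_maximal hR g U (fun m hm => by
    obtain ⟨φ, ψ, hφψ⟩ := h m
    have h1 : φ ∈ Submodule.span R (Set.range Φ) := by rw [hΦ]; trivial
    have h2 : ψ ∈ Submodule.span R (Set.range Ψ) := by rw [hΨ]; trivial
    obtain ⟨x, hx⟩ := (Submodule.mem_span_range_iff_exists_fun R).mp h1
    obtain ⟨y, hy⟩ := (Submodule.mem_span_range_iff_exists_fun R).mp h2
    refine ⟨Sum.elim x y, fun n => ?_⟩
    rw [key]
    simp only [Sum.elim_inl, Sum.elim_inr, hx, hy]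
    exact hφψ n)
  rw [key] at hs
  exact ⟨_, _, hs⟩

section tower

variable {R : Type u} [CommRing R] {A : Type v} [Ring A] [Algebra R A]
  {M : Type w} [AddCommGroup M] [Module R M] [Module A M] [IsScalarTower R A M]
  {N : Type w'} [AddCommGroup N] [Module R N] [Module A N] [IsScalarTower R A N]

variable (R A N) in
theorem projective_of_tower [Module.Projective R A] [Module.Finite A N]
    [Module.Projective A N] : Module.Projective R N := by
  obtain ⟨k, f, g, -, -, hfg⟩ := Module.Finite.exists_comp_eq_id_of_projective A N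
  haveI : Module.Projective R (Fin k → A) :=
    Module.Projective.of_equiv (DFinsupp.linearEquivFunOnFintype (R := R)
      (M := fun _ : Fin k => A))
  refine Module.Projective.of_split (g.restrictScalars R) (f.restrictScalars R) ?_
  apply LinearMap.ext
  intro x
  exact LinearMap.congr_fun hfg x

variable (R A M N) in
theorem finite_hom [Module.Finite R A] [Module.Finite A M] [Module.Projective A M]
    [Module.Finite A N] : Module.Finite R (M →ₗ[A] N) := by
  classical
  obtain ⟨k, f, g, -, -, hfg⟩ := Module.Finite.exists_comp_eq_id_of_projective A M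
  haveI : Module.Finite R N := Module.Finite.trans A N
  -- `Hom_A(A^k, N) ≃ N^k`
  let e : (Fin k → N) ≃ₗ[R] ((Fin k → A) →ₗ[A] N) := (Pi.basisFun A (Fin k)).constr R
  let c : ((Fin k → A) →ₗ[A] N) →ₗ[R] (M →ₗ[A] N) :=
    { toFun := fun h => h ∘ₗ g
      map_add' := fun h h' => LinearMap.add_comp _ _ _
      map_smul' := fun r h => LinearMap.smul_comp _ _ _ }
  have hc : Function.Surjective c := by
    intro h
    refine ⟨h ∘ₗ f, ?_⟩
    show (h ∘ₗ f) ∘ₗ g = h
    rw [LinearMap.comp_assoc, hfg, LinearMap.comp_id]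
  exact Module.Finite.of_surjective (c ∘ₗ e.toLinearMap) (hc.comp e.surjective)

/-- the composition pairing. -/
noncomputable def compPair : (M →ₗ[A] N) →ₗ[R] (N →ₗ[A] M) →ₗ[R] Module.End R N :=
  LinearMap.mk₂ R (fun φ ψ => (φ ∘ₗ ψ).restrictScalars R)
    (fun φ φ' ψ => by apply LinearMap.ext; intro y; rfl)
    (fun r φ ψ => by apply LinearMap.ext; intro y; rfl)
    (fun φ ψ ψ' => by
      apply LinearMap.ext; intro y
      simp)
    (fun r φ ψ => by
      apply LinearMap.ext; intro y
      simp)

@[simp] theorem compPair_apply (φ : M →ₗ[A] N) (ψ : N →ₗ[A] M) (y : N) :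
    compPair (R := R) φ ψ y = φ (ψ y) := rfl

/-- the double composition pairing. -/
noncomputable def compPair2 :
    (M →ₗ[A] N) →ₗ[R] (N →ₗ[A] M) →ₗ[R] Module.End R (N × M) :=
  LinearMap.mk₂ R (fun φ ψ => LinearMap.prodMap ((φ ∘ₗ ψ).restrictScalars R)
      ((ψ ∘ₗ φ).restrictScalars R))
    (fun φ φ' ψ => by apply LinearMap.ext; intro y; simp [Prod.ext_iff])
    (fun r φ ψ => by apply LinearMap.ext; intro y; simp [Prod.ext_iff])
    (fun φ ψ ψ' => by apply LinearMap.ext; intro y; simp [Prod.ext_iff])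
    (fun r φ ψ => by apply LinearMap.ext; intro y; simp [Prod.ext_iff])

@[simp] theorem compPair2_apply (φ : M →ₗ[A] N) (ψ : N →ₗ[A] M) (z : N × M) :
    compPair2 (R := R) φ ψ z = (φ (ψ z.1), ψ (φ z.2)) := rfl

/-- LG-rings: existence of a split surjection. -/
theorem exists_comp_bijective (hR : LGRing.IsLGRing R) [Module.Finite R A]
    [Module.Projective R A] [Module.Finite A M] [Module.Projective A M] [Module.Finite A N]
    [Module.Projective A N]
    (h : ∀ (m : Ideal R) [m.IsMaximal], ∃ (φ : M →ₗ[A] N) (ψ : N →ₗ[A] M), ∀ y : N,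
      φ (ψ y) - y ∈ (m • ⊤ : Submodule R N)) :
    ∃ (φ : M →ₗ[A] N) (ψ : N →ₗ[A] M), Function.Bijective (φ ∘ₗ ψ) := by
  haveI : Module.Finite R N := Module.Finite.trans A N
  haveI : Module.Projective R N := projective_of_tower R A N
  haveI := finite_hom R A M N
  haveI := finite_hom R A N M
  obtain ⟨φ, ψ, hb⟩ := exists_bijective_bilin hR (compPair (R := R) (A := A) (M := M) (N := N))
    (fun m hm => by
      obtain ⟨φ, ψ, hφψ⟩ := h m
      exact ⟨φ, ψ, fun n => hφψ n⟩)
  exact ⟨φ, ψ, hb⟩

/-- LG-rings: existence of an isomorphism. -/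
theorem nonempty_linearEquiv (hR : LGRing.IsLGRing R) [Module.Finite R A]
    [Module.Projective R A] [Module.Finite A M] [Module.Projective A M] [Module.Finite A N]
    [Module.Projective A N]
    (h : ∀ (m : Ideal R) [m.IsMaximal], ∃ (φ : M →ₗ[A] N) (ψ : N →ₗ[A] M),
      (∀ y : N, φ (ψ y) - y ∈ (m • ⊤ : Submodule R N)) ∧
      (∀ x : M, ψ (φ x) - x ∈ (m • ⊤ : Submodule R M))) :
    Nonempty (M ≃ₗ[A] N) := by
  haveI : Module.Finite R N := Module.Finite.trans A N
  haveI : Module.Projective R N := projective_of_tower R A N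
  haveI : Module.Finite R M := Module.Finite.trans A M
  haveI : Module.Projective R M := projective_of_tower R A M
  haveI := finite_hom R A M N
  haveI := finite_hom R A N M
  obtain ⟨φ, ψ, hb⟩ := exists_bijective_bilin hR (compPair2 (R := R) (A := A) (M := M) (N := N))
    (fun m hm => by
      obtain ⟨φ, ψ, h1, h2⟩ := h m
      refine ⟨φ, ψ, fun z => ?_⟩
      have h3 : compPair2 (R := R) φ ψ z - z =
          LinearMap.inl R N M (φ (ψ z.1) - z.1) + LinearMap.inr R N M (ψ (φ z.2) - z.2) := by
        rw [compPair2_apply]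
        ext <;> simp
      rw [h3]
      exact Submodule.add_mem _ (map_mem_smul_top m _ (h1 _)) (map_mem_smul_top m _ (h2 _)))
  have hinj : Function.Injective φ := by
    intro x x' hxx'
    have h4 : compPair2 (R := R) φ ψ (0, x) = compPair2 (R := R) φ ψ (0, x') := by
      rw [compPair2_apply, compPair2_apply]
      simp [hxx']
    have := hb.1 h4
    exact (Prod.ext_iff.mp this).2
  have hsurj : Function.Surjective φ := by
    intro y
    obtain ⟨z, hz⟩ := hb.2 (y, 0)
    rw [compPair2_apply] at hz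
    exact ⟨ψ z.1, (Prod.ext_iff.mp hz).1⟩
  exact ⟨LinearEquiv.ofBijective φ ⟨hinj, hsurj⟩⟩

end tower

end Groth.Agent.Lib.LGAzH6
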