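import Mathlib

/-!
# Modules over a finite-dimensional simple algebra: split surjections by dimension (helper6)
-/

namespace Groth.Agent.Lib.LGAzH6

open Module

universe u v w w'

/-- over a simple Artinian ring all simple modules are isomorphic. -/
theorem nonempty_linearEquiv_of_isSimpleModule {B : Type u} [Ring B] [IsSimpleRing B]
    [IsArtinianRing B] {S : Type v} {S' : Type w} [AddCommGroup S] [Module B S]
    [IsSimpleModule B S] [AddCommGroup S'] [Module B S'] [IsSimpleModule B S'] :
    Nonempty (S ≃ₗ[B] S') := by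
  have hiso : IsIsotypic B (S × S') := IsSimpleRing.isIsotypic B (S × S')
  let e₁ : S ≃ₗ[B] LinearMap.range (LinearMap.inl B S S') :=
    LinearEquiv.ofInjective (LinearMap.inl B S S') LinearMap.inl_injective
  let e₂ : S' ≃ₗ[B] LinearMap.range (LinearMap.inr B S S') :=
    LinearEquiv.ofInjective (LinearMap.inr B S S') LinearMap.inr_injective
  haveI : IsSimpleModule B (LinearMap.range (LinearMap.inl B S S')) := IsSimpleModule.congr e₁.symm
  haveI : IsSimpleModule B (LinearMap.range (LinearMap.inr B S S')) := IsSimpleModule.congr e₂.symm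
  obtain ⟨e⟩ := hiso (LinearMap.range (LinearMap.inl B S S'))
    (LinearMap.range (LinearMap.inr B S S'))
  exact ⟨e₁ ≪≫ₗ e.symm ≪≫ₗ e₂.symm⟩

theorem exists_split_surj (k : Type u) [Field k] (B : Type v) [Ring B] [Algebra k B]
    [IsSimpleRing B] [Module.Finite k B]
    (X : Type w) [AddCommGroup X] [Module k X] [Module B X] [IsScalarTower k B X]
    [Module.Finite k X]
    (Y : Type w') [AddCommGroup Y] [Module k Y] [Module B Y] [IsScalarTower k B Y]
    [Module.Finite k Y] (h : finrank k Y ≤ finrank k X) :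
    ∃ (α : X →ₗ[B] Y) (σ : Y →ₗ[B] X), α ∘ₗ σ = LinearMap.id ∧
      (finrank k Y = finrank k X → σ ∘ₗ α = LinearMap.id) := by
  classical
  haveI : IsArtinianRing B := IsArtinianRing.of_finite k B
  haveI : Module.Finite B X := Module.Finite.of_restrictScalars_finite k B X
  haveI : Module.Finite B Y := Module.Finite.of_restrictScalars_finite k B Y
  obtain ⟨S₀, hS₀⟩ := IsAtomic.exists_atom (Submodule B B)
  haveI : IsSimpleModule B S₀ := isSimpleModule_iff_isAtom.mpr hS₀
  have hX : IsIsotypicOfType B X S₀ := fun m _ => nonempty_linearEquiv_of_isSimpleModule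
  have hY : IsIsotypicOfType B Y S₀ := fun m _ => nonempty_linearEquiv_of_isSimpleModule
  obtain ⟨a, ⟨eX⟩⟩ := hX.linearEquiv_fun
  obtain ⟨b, ⟨eY⟩⟩ := hY.linearEquiv_fun
  haveI : Module.Finite k S₀ := Module.Finite.of_injective (S₀.subtype.restrictScalars k)
    Subtype.val_injective
  haveI : Nontrivial S₀ := IsSimpleModule.nontrivial B S₀
  have hd : 0 < finrank k S₀ := Module.finrank_pos
  have hXd : finrank k X = a * finrank k S₀ := by
    rw [(eX.restrictScalars k).finrank_eq, Module.finrank_pi_fintype]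
    simp
  have hYd : finrank k Y = b * finrank k S₀ := by
    rw [(eY.restrictScalars k).finrank_eq, Module.finrank_pi_fintype]
    simp
  have hba : b ≤ a := by
    rw [hXd, hYd] at h
    exact Nat.le_of_mul_le_mul_right h hd
  let p : (Fin a → S₀) →ₗ[B] (Fin b → S₀) := LinearMap.funLeft B S₀ (Fin.castLE hba)
  let q : (Fin b → S₀) →ₗ[B] (Fin a → S₀) :=
    { toFun := fun f i => if hi : (i : ℕ) < b then f ⟨i, hi⟩ else 0
      map_add' := fun f f' => by
        funext i
        by_cases hi : (i : ℕ) < b <;> simp [hi]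
      map_smul' := fun c f => by
        funext i
        by_cases hi : (i : ℕ) < b <;> simp [hi] }
  have hpq : ∀ f, p (q f) = f := by
    intro f
    funext j
    show (if hi : ((Fin.castLE hba j : Fin a) : ℕ) < b then f ⟨_, hi⟩ else 0) = f j
    rw [dif_pos (by simp)]
    rfl
  let α : X →ₗ[B] Y := eY.symm.toLinearMap ∘ₗ p ∘ₗ eX.toLinearMap
  let σ : Y →ₗ[B] X := eX.symm.toLinearMap ∘ₗ q ∘ₗ eY.toLinearMap
  have hασ : α ∘ₗ σ = LinearMap.id := by
    apply LinearMap.ext
    intro y
    show eY.symm (p (eX (eX.symm (q (eY y))))) = y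
    rw [LinearEquiv.apply_symm_apply, hpq, LinearEquiv.symm_apply_apply]
  refine ⟨α, σ, hασ, fun heq => ?_⟩
  have hsurj : Function.Surjective (α.restrictScalars k) := by
    intro y
    exact ⟨σ y, LinearMap.congr_fun hασ y⟩
  have hinj : Function.Injective (α.restrictScalars k) :=
    (LinearMap.injective_iff_surjective_of_finrank_eq_finrank heq.symm).mpr hsurj
  apply LinearMap.ext
  intro x
  apply hinj
  show α (σ (α x)) = α x
  exact LinearMap.congr_fun hασ (α x)

end Groth.Agent.Lib.LGAzH6
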