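import Mathlib
import Groth.Agent.Lib.LGAz2_helper6
import Groth.Agent.Lib.LGAz3_helper6
import Groth.Agent.Lib.AzumayaBaseChange_helper6
import Groth.Agent.Lib.AzumayaFibre_helper6

/-!
# Fibres of projective modules over an Azumaya algebra at a maximal ideal (helper6)
-/

namespace Groth.Agent.Lib.LGAzH6

open Module TensorProduct

universe u v w w'

section bc

variable (R : Type u) [CommRing R] (S : Type*) [CommRing S] [Algebra R S]
  (A : Type v) [Ring A] [Algebra R A]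
  (M : Type w) [AddCommGroup M] [Module R M] [Module A M] [IsScalarTower R A M]

/-- the action of `S ⊗ A` on `S ⊗ M`. -/
noncomputable def bcAct : S ⊗[R] A →ₐ[S] Module.End S (S ⊗[R] M) :=
  Algebra.TensorProduct.lift (Algebra.ofId S (Module.End S (S ⊗[R] M)))
    ((Module.End.baseChangeHom R S M).comp (Algebra.lsmul R R M))
    (fun s a => Algebra.commutes s _)

theorem bcAct_tmul (s t : S) (a : A) (x : M) :
    bcAct R S A M (s ⊗ₜ a) (t ⊗ₜ x) = (s * t) ⊗ₜ (a • x) := by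
  unfold bcAct
  rw [Algebra.TensorProduct.lift_tmul]
  show s • ((LinearMap.baseChange S (Algebra.lsmul R R M a)) (t ⊗ₜ x)) = _
  rw [LinearMap.baseChange_tmul]
  show s • (t ⊗ₜ[R] (a • x)) = _
  rw [TensorProduct.smul_tmul', smul_eq_mul]

/-- the module structure of `S ⊗ M` over `S ⊗ A`. -/
@[instance_reducible]
noncomputable def bcModule : Module (S ⊗[R] A) (S ⊗[R] M) :=
  Module.compHom _ (bcAct R S A M).toRingHom

end bc

section fibre

open Groth.Agent.Lib.AzumayaBaseChange Groth.Agent.Lib.AzumayaFibre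

variable (R : Type u) [CommRing R]

theorem finrank_quotient_tensor (M : Type w) [AddCommGroup M] [Module R M] [Module.Finite R M]
    [Module.Flat R M] (m : Ideal R) [hm : m.IsMaximal] :
    letI : Field (R ⧸ m) := Ideal.Quotient.field m
    finrank (R ⧸ m) ((R ⧸ m) ⊗[R] M) = rankAtStalk M ⟨m, hm.isPrime⟩ := by
  letI : Field (R ⧸ m) := Ideal.Quotient.field m
  show finrank (R ⧸ m) ((R ⧸ m) ⊗[R] M) = rankAtStalk M ⟨m, hm.isPrime⟩
  rw [Module.rankAtStalk_eq]
  let e : m.ResidueField ⊗[R ⧸ m] ((R ⧸ m) ⊗[R] M) ≃ₗ[m.ResidueField] m.ResidueField ⊗[R] M :=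
    AlgebraTensorModule.cancelBaseChange R (R ⧸ m) m.ResidueField m.ResidueField M
  show _ = finrank m.ResidueField (m.ResidueField ⊗[R] M)
  rw [← e.finrank_eq]
  exact (Module.finrank_baseChange).symm

theorem mem_smul_top_of_one_tmul_eq_zero {N : Type w} [AddCommGroup N] [Module R N]
    (m : Ideal R) (x : N) (hx : (1 : R ⧸ m) ⊗ₜ[R] x = 0) : x ∈ (m • ⊤ : Submodule R N) := by
  have h1 := TensorProduct.quotTensorEquivQuotSMul_mk_one_tmul (M := N) m x
  rw [hx, map_zero] at h1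
  exact (Submodule.Quotient.mk_eq_zero _).mp h1.symm

variable (A : Type v) [Ring A] [Algebra R A]
  (M : Type w) [AddCommGroup M] [Module R M] [Module A M] [IsScalarTower R A M]
  (N : Type w') [AddCommGroup N] [Module R N] [Module A N] [IsScalarTower R A N]

theorem exists_fibre_maps [IsAzumaya R A] [Module.Finite A M] [Module.Projective A M]
    [Module.Finite A N] [Module.Projective A N] (m : Ideal R) [hm : m.IsMaximal]
    (h : rankAtStalk N ⟨m, hm.isPrime⟩ ≤ rankAtStalk M ⟨m, hm.isPrime⟩) :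
    ∃ (φ : M →ₗ[A] N) (ψ : N →ₗ[A] M),
      (∀ y, φ (ψ y) - y ∈ (m • ⊤ : Submodule R N)) ∧
      (rankAtStalk N ⟨m, hm.isPrime⟩ = rankAtStalk M ⟨m, hm.isPrime⟩ →
        ∀ x, ψ (φ x) - x ∈ (m • ⊤ : Submodule R M)) := by
  classical
  letI : Field (R ⧸ m) := Ideal.Quotient.field m
  haveI : Module.Finite R A := IsAzumaya.toFinite
  haveI : Module.Projective R A := IsAzumaya.toProjective
  haveI : Module.Finite R M := Module.Finite.trans A M
  haveI : Module.Finite R N := Module.Finite.trans A N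
  haveI : Module.Projective R M := projective_of_tower R A M
  haveI : Module.Projective R N := projective_of_tower R A N
  haveI : IsAzumaya (R ⧸ m) ((R ⧸ m) ⊗[R] A) := isAzumaya_baseChange R (R ⧸ m) A
  haveI : IsSimpleRing ((R ⧸ m) ⊗[R] A) := isSimpleRing_of_isAzumaya (R ⧸ m) _
  haveI : Module.Finite (R ⧸ m) ((R ⧸ m) ⊗[R] A) := IsAzumaya.toFinite
  letI iM := bcModule R (R ⧸ m) A M
  letI iN := bcModule R (R ⧸ m) A N
  have smulM : ∀ (t : (R ⧸ m) ⊗[R] A) (z : (R ⧸ m) ⊗[R] M),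
      t • z = bcAct R (R ⧸ m) A M t z := fun _ _ => rfl
  have smulN : ∀ (t : (R ⧸ m) ⊗[R] A) (z : (R ⧸ m) ⊗[R] N),
      t • z = bcAct R (R ⧸ m) A N t z := fun _ _ => rfl
  haveI : IsScalarTower (R ⧸ m) ((R ⧸ m) ⊗[R] A) ((R ⧸ m) ⊗[R] M) := ⟨fun c t z => by
    rw [smulM, smulM, map_smul, LinearMap.smul_apply]⟩
  haveI : IsScalarTower (R ⧸ m) ((R ⧸ m) ⊗[R] A) ((R ⧸ m) ⊗[R] N) := ⟨fun c t z => by
    rw [smulN, smulN, map_smul, LinearMap.smul_apply]⟩
  obtain ⟨α, σ, hασ, hσα⟩ := exists_split_surj (R ⧸ m) ((R ⧸ m) ⊗[R] A)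
    ((R ⧸ m) ⊗[R] M) ((R ⧸ m) ⊗[R] N) (by
      rw [finrank_quotient_tensor R M m, finrank_quotient_tensor R N m]
      exact h)
  letI jM : Module A ((R ⧸ m) ⊗[R] M) := Module.compHom _
    (Algebra.TensorProduct.includeRight : A →ₐ[R] (R ⧸ m) ⊗[R] A).toRingHom
  letI jN : Module A ((R ⧸ m) ⊗[R] N) := Module.compHom _
    (Algebra.TensorProduct.includeRight : A →ₐ[R] (R ⧸ m) ⊗[R] A).toRingHom
  have asmulM : ∀ (a : A) (z : (R ⧸ m) ⊗[R] M),
      a • z = ((1 : R ⧸ m) ⊗ₜ[R] a : (R ⧸ m) ⊗[R] A) • z := fun _ _ => rfl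
  have asmulN : ∀ (a : A) (z : (R ⧸ m) ⊗[R] N),
      a • z = ((1 : R ⧸ m) ⊗ₜ[R] a : (R ⧸ m) ⊗[R] A) • z := fun _ _ => rfl
  let qM : M →ₗ[A] (R ⧸ m) ⊗[R] M :=
    { toFun := fun x => (1 : R ⧸ m) ⊗ₜ[R] x
      map_add' := fun x y => TensorProduct.tmul_add _ _ _
      map_smul' := fun a x => by
        rw [RingHom.id_apply, asmulM, smulM, bcAct_tmul, one_mul] }
  let qN : N →ₗ[A] (R ⧸ m) ⊗[R] N :=
    { toFun := fun x => (1 : R ⧸ m) ⊗ₜ[R] x
      map_add' := fun x y => TensorProduct.tmul_add _ _ _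
      map_smul' := fun a x => by
        rw [RingHom.id_apply, asmulN, smulN, bcAct_tmul, one_mul] }
  have hqM : Function.Surjective qM :=
    TensorProduct.mk_surjective R M (R ⧸ m) Ideal.Quotient.mk_surjective
  have hqN : Function.Surjective qN :=
    TensorProduct.mk_surjective R N (R ⧸ m) Ideal.Quotient.mk_surjective
  let gα : M →ₗ[A] (R ⧸ m) ⊗[R] N :=
    { toFun := fun x => α (qM x)
      map_add' := fun x y => by rw [map_add, map_add]
      map_smul' := fun a x => by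
        rw [RingHom.id_apply, map_smul, asmulM, map_smul, ← asmulN] }
  let gσ : N →ₗ[A] (R ⧸ m) ⊗[R] M :=
    { toFun := fun x => σ (qN x)
      map_add' := fun x y => by rw [map_add, map_add]
      map_smul' := fun a x => by
        rw [RingHom.id_apply, map_smul, asmulN, map_smul, ← asmulM] }
  obtain ⟨φ, hφ⟩ := Module.projective_lifting_property qN gα hqN
  obtain ⟨ψ, hψ⟩ := Module.projective_lifting_property qM gσ hqM
  have hφ' : ∀ x, qN (φ x) = α (qM x) := fun x => LinearMap.congr_fun hφ x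
  have hψ' : ∀ y, qM (ψ y) = σ (qN y) := fun y => LinearMap.congr_fun hψ y
  refine ⟨φ, ψ, fun y => ?_, fun heq x => ?_⟩
  · apply mem_smul_top_of_one_tmul_eq_zero R m
    show qN (φ (ψ y) - y) = 0
    rw [map_sub, hφ', hψ', sub_eq_zero]
    exact LinearMap.congr_fun hασ (qN y)
  · apply mem_smul_top_of_one_tmul_eq_zero R m
    show qM (ψ (φ x) - x) = 0
    rw [map_sub, hψ', hφ', sub_eq_zero]
    have h2 := hσα (by
      rw [finrank_quotient_tensor R M m, finrank_quotient_tensor R N m]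
      exact heq)
    exact LinearMap.congr_fun h2 (qM x)

end fibre

end Groth.Agent.Lib.LGAzH6
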