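import Mathlib
import Groth.Agent.Lib.AzumayaFibre_helper6
import Groth.Agent.Lib.LGAz4_helper6

/-!
# Nakayama-type bijectivity criterion "modulo the maximal ideal" (helper6)
-/

set_option autoImplicit false
universe u

namespace Groth.Agent.Lib.HensAzH6

open IsLocalRing TensorProduct

section

variable (R : Type u) [CommRing R] [IsLocalRing R]

theorem algebraMap_residueField_surjective :
    Function.Surjective (algebraMap R (ResidueField R)) := IsLocalRing.residue_surjective

/-- every element of `k ⊗ M` is of the form `1 ⊗ m`. -/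
theorem exists_one_tmul {M : Type*} [AddCommGroup M] [Module R M] (x : ResidueField R ⊗[R] M) :
    ∃ m : M, (1 : ResidueField R) ⊗ₜ[R] m = x :=
  TensorProduct.mk_surjective R M (ResidueField R) (algebraMap_residueField_surjective R) x

/-- an `R`-linear map into a `k`-vector space kills `𝔪 M`. -/
theorem map_eq_zero_of_mem_smul_top {M N : Type*} [AddCommGroup M] [Module R M]
    [AddCommGroup N] [Module R N] [Module (ResidueField R) N] [IsScalarTower R (ResidueField R) N]
    (g : M →ₗ[R] N) {x : M} (hx : x ∈ (maximalIdeal R • ⊤ : Submodule R M)) : g x = 0 := by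
  refine Submodule.smul_induction_on hx ?_ ?_
  · intro r hr y _
    rw [map_smul, ← algebraMap_smul (ResidueField R) r (g y)]
    have : algebraMap R (ResidueField R) r = 0 := by
      rw [IsLocalRing.ResidueField.algebraMap_eq, IsLocalRing.residue_eq_zero_iff]
      exact hr
    rw [this, zero_smul]
  · intro y z hy hz
    rw [map_add, hy, hz, add_zero]

theorem one_tmul_eq_zero_of_mem {M : Type*} [AddCommGroup M] [Module R M] {x : M}
    (hx : x ∈ (maximalIdeal R • ⊤ : Submodule R M)) : (1 : ResidueField R) ⊗ₜ[R] x = 0 :=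
  map_eq_zero_of_mem_smul_top R (TensorProduct.mk R (ResidueField R) M 1) hx

theorem mem_of_one_tmul_eq_zero {M : Type*} [AddCommGroup M] [Module R M] {x : M}
    (hx : (1 : ResidueField R) ⊗ₜ[R] x = 0) : x ∈ (maximalIdeal R • ⊤ : Submodule R M) :=
  Groth.Agent.Lib.LGAzH6.mem_smul_top_of_one_tmul_eq_zero R (maximalIdeal R) x hx

theorem one_tmul_eq_zero_iff {M : Type*} [AddCommGroup M] [Module R M] {x : M} :
    (1 : ResidueField R) ⊗ₜ[R] x = 0 ↔ x ∈ (maximalIdeal R • ⊤ : Submodule R M) :=
  ⟨mem_of_one_tmul_eq_zero R, one_tmul_eq_zero_of_mem R⟩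

variable {R}
variable {P : Type u} [AddCommGroup P] [Module R P] [Module.Finite R P]
variable {Q : Type u} [AddCommGroup Q] [Module R Q] [Module.Finite R Q] [Module.Projective R Q]

/-- a linear map from a finite module to a finite projective module over a local ring which is
bijective modulo the maximal ideal is bijective. -/
theorem bijective_of_mod (f : P →ₗ[R] Q)
    (h1 : ∀ q : Q, ∃ p : P, q - f p ∈ (maximalIdeal R • ⊤ : Submodule R Q))
    (h2 : ∀ p : P, f p ∈ (maximalIdeal R • ⊤ : Submodule R Q) →
      p ∈ (maximalIdeal R • ⊤ : Submodule R P)) : Function.Bijective f := by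
  apply Groth.Agent.Lib.AzumayaFibre.bijective_of
    (Groth.Agent.Lib.AzumayaFibre.detects_residueField R) f
  intro _
  constructor
  · rw [injective_iff_map_eq_zero]
    intro x hx
    obtain ⟨p, rfl⟩ := exists_one_tmul R x
    rw [LinearMap.lTensor_tmul, one_tmul_eq_zero_iff] at hx
    rw [one_tmul_eq_zero_iff]
    exact h2 p hx
  · intro y
    obtain ⟨q, rfl⟩ := exists_one_tmul R y
    obtain ⟨p, hp⟩ := h1 q
    refine ⟨(1 : ResidueField R) ⊗ₜ[R] p, ?_⟩
    rw [LinearMap.lTensor_tmul]
    have := one_tmul_eq_zero_of_mem R hp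
    rw [TensorProduct.tmul_sub, sub_eq_zero] at this
    exact this.symm

end

end Groth.Agent.Lib.HensAzH6
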