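import Mathlib
import Groth.Agent.Lib.HensAz2_helper6
import Groth.Agent.Lib.AzumayaBaseChange_helper6

/-!
# The bimodule map `B ⊗ Aᵐᵒᵖ → End_k (k ⊗ B)` attached to `e₀ : k ⊗ A ≃ k ⊗ B` (helper6)
-/

set_option autoImplicit false
universe u

namespace Groth.Agent.Lib.HensAzH6

open IsLocalRing TensorProduct MulOpposite

section

variable {R : Type u} [CommRing R] [IsLocalRing R] {A : Type u} [Ring A] [Algebra R A]
  {B : Type u} [Ring B] [Algebra R B]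
  (e₀ : (ResidueField R ⊗[R] A) ≃ₐ[ResidueField R] (ResidueField R ⊗[R] B))

/-- `a ↦ e₀ (1 ⊗ a)`. -/
noncomputable def e0Hom : A →ₐ[R] (ResidueField R ⊗[R] B) :=
  (e₀.toAlgHom.restrictScalars R).comp Algebra.TensorProduct.includeRight

theorem e0Hom_apply (a : A) : e0Hom e₀ a = e₀ ((1 : ResidueField R) ⊗ₜ[R] a) := rfl

variable (R B) in
/-- `b ↦ (1 ⊗ b) ⊗ 1`. -/
noncomputable def ThetaL :
    B →ₐ[R] (ResidueField R ⊗[R] B) ⊗[ResidueField R] (ResidueField R ⊗[R] B)ᵐᵒᵖ :=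
  ((Algebra.TensorProduct.includeLeft : (ResidueField R ⊗[R] B) →ₐ[ResidueField R]
      (ResidueField R ⊗[R] B) ⊗[ResidueField R] (ResidueField R ⊗[R] B)ᵐᵒᵖ).restrictScalars R).comp
    Algebra.TensorProduct.includeRight

theorem ThetaL_apply (b : B) :
    ThetaL R B b = ((1 : ResidueField R) ⊗ₜ[R] b) ⊗ₜ[ResidueField R] 1 := rfl

/-- `op a ↦ 1 ⊗ op (e₀ (1 ⊗ a))`. -/
noncomputable def ThetaR :
    Aᵐᵒᵖ →ₐ[R] (ResidueField R ⊗[R] B) ⊗[ResidueField R] (ResidueField R ⊗[R] B)ᵐᵒᵖ :=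
  ((Algebra.TensorProduct.includeRight : (ResidueField R ⊗[R] B)ᵐᵒᵖ →ₐ[ResidueField R]
      (ResidueField R ⊗[R] B) ⊗[ResidueField R] (ResidueField R ⊗[R] B)ᵐᵒᵖ).restrictScalars R).comp
    (AlgHom.op (e0Hom e₀))

theorem ThetaR_apply (a : Aᵐᵒᵖ) :
    ThetaR e₀ a = (1 : ResidueField R ⊗[R] B) ⊗ₜ[ResidueField R]
      op (e₀ ((1 : ResidueField R) ⊗ₜ[R] a.unop)) := rfl

/-- `b ⊗ op a ↦ (1 ⊗ b) ⊗ op (e₀ (1 ⊗ a))`. -/
noncomputable def Theta :
    B ⊗[R] Aᵐᵒᵖ →ₐ[R] (ResidueField R ⊗[R] B) ⊗[ResidueField R] (ResidueField R ⊗[R] B)ᵐᵒᵖ :=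
  Algebra.TensorProduct.lift (ThetaL R B) (ThetaR e₀) (fun b a => by
    show ThetaL R B b * ThetaR e₀ a = ThetaR e₀ a * ThetaL R B b
    rw [ThetaL_apply, ThetaR_apply, Algebra.TensorProduct.tmul_mul_tmul,
      Algebra.TensorProduct.tmul_mul_tmul, mul_one, one_mul, mul_one, one_mul])

theorem Theta_tmul (b : B) (a : Aᵐᵒᵖ) :
    Theta e₀ (b ⊗ₜ[R] a) = ((1 : ResidueField R) ⊗ₜ[R] b) ⊗ₜ[ResidueField R]
      op (e₀ ((1 : ResidueField R) ⊗ₜ[R] a.unop)) := by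
  rw [Theta, Algebra.TensorProduct.lift_tmul, ThetaL_apply, ThetaR_apply,
    Algebra.TensorProduct.tmul_mul_tmul, mul_one, one_mul]

theorem Theta_surjective : Function.Surjective (Theta e₀) := by
  intro w
  induction w using TensorProduct.induction_on with
  | zero => exact ⟨0, map_zero _⟩
  | tmul β γ =>
    obtain ⟨b, rfl⟩ := exists_one_tmul R β
    obtain ⟨α, hα⟩ := e₀.surjective γ.unop
    obtain ⟨a, rfl⟩ := exists_one_tmul R α
    refine ⟨b ⊗ₜ[R] op a, ?_⟩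
    rw [Theta_tmul, unop_op, hα, op_unop]
  | add x y hx hy =>
    obtain ⟨x', rfl⟩ := hx
    obtain ⟨y', rfl⟩ := hy
    exact ⟨x' + y', map_add _ _ _⟩

/-- `b ⊗ op a ↦ (x ↦ (1 ⊗ b) * x * e₀ (1 ⊗ a))`. -/
noncomputable def Phi :
    B ⊗[R] Aᵐᵒᵖ →ₐ[R] Module.End (ResidueField R) (ResidueField R ⊗[R] B) :=
  ((AlgHom.mulLeftRight (ResidueField R) (ResidueField R ⊗[R] B)).restrictScalars R).comp
    (Theta e₀)

theorem Phi_tmul (b : B) (a : Aᵐᵒᵖ) (x : ResidueField R ⊗[R] B) :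
    Phi e₀ (b ⊗ₜ[R] a) x = ((1 : ResidueField R) ⊗ₜ[R] b) * x *
      e₀ ((1 : ResidueField R) ⊗ₜ[R] a.unop) := by
  show AlgHom.mulLeftRight (ResidueField R) (ResidueField R ⊗[R] B) (Theta e₀ (b ⊗ₜ[R] a)) x = _
  rw [Theta_tmul, AlgHom.mulLeftRight_apply, unop_op]

theorem Phi_surjective [IsAzumaya R B] : Function.Surjective (Phi e₀) := by
  haveI : IsAzumaya (ResidueField R) (ResidueField R ⊗[R] B) :=
    Groth.Agent.Lib.AzumayaBaseChange.isAzumaya_baseChange R (ResidueField R) B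
  intro T
  obtain ⟨w, rfl⟩ := (IsAzumaya.bij (R := ResidueField R) (A := ResidueField R ⊗[R] B)).2 T
  obtain ⟨c, rfl⟩ := Theta_surjective e₀ w
  exact ⟨c, rfl⟩

theorem mem_of_Phi_eq_zero [IsAzumaya R A] [IsAzumaya R B] {s : B ⊗[R] Aᵐᵒᵖ}
    (hs : Phi e₀ s = 0) : s ∈ (maximalIdeal R • ⊤ : Submodule R (B ⊗[R] Aᵐᵒᵖ)) := by
  haveI : Module.Finite R A := IsAzumaya.toFinite
  haveI : Module.Projective R A := IsAzumaya.toProjective
  haveI : Module.Finite R B := IsAzumaya.toFinite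
  haveI : Module.Projective R B := IsAzumaya.toProjective
  haveI : Module.Free R A := Module.free_of_flat_of_isLocalRing
  haveI : Module.Free R B := Module.free_of_flat_of_isLocalRing
  haveI : Module.Free R Aᵐᵒᵖ := Module.Free.of_equiv (opLinearEquiv R : A ≃ₗ[R] Aᵐᵒᵖ)
  haveI : Module.Finite R Aᵐᵒᵖ := Module.Finite.equiv (opLinearEquiv R : A ≃ₗ[R] Aᵐᵒᵖ)
  let Φb : ResidueField R ⊗[R] (B ⊗[R] Aᵐᵒᵖ) →ₗ[ResidueField R]
      Module.End (ResidueField R) (ResidueField R ⊗[R] B) :=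
    (Phi e₀).toLinearMap.liftBaseChange (ResidueField R)
  have hsurj : Function.Surjective Φb := by
    intro T
    obtain ⟨c, rfl⟩ := Phi_surjective e₀ T
    refine ⟨(1 : ResidueField R) ⊗ₜ[R] c, ?_⟩
    show (Phi e₀).toLinearMap.liftBaseChange (ResidueField R) ((1 : ResidueField R) ⊗ₜ[R] c) = _
    rw [LinearMap.liftBaseChange_tmul, one_smul]
    rfl
  have hAB : Module.finrank R A = Module.finrank R B := by
    rw [← Module.finrank_baseChange (R := ResidueField R) (S := R) (M' := A),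
      ← Module.finrank_baseChange (R := ResidueField R) (S := R) (M' := B)]
    exact e₀.toLinearEquiv.finrank_eq
  have hdim : Module.finrank (ResidueField R) (ResidueField R ⊗[R] (B ⊗[R] Aᵐᵒᵖ)) =
      Module.finrank (ResidueField R) (Module.End (ResidueField R) (ResidueField R ⊗[R] B)) := by
    rw [Module.finrank_baseChange, Module.finrank_tensorProduct, Module.finrank_linearMap,
      Module.finrank_baseChange, ← (opLinearEquiv R : A ≃ₗ[R] Aᵐᵒᵖ).finrank_eq, hAB]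
  have hinj : Function.Injective Φb :=
    (LinearMap.injective_iff_surjective_of_finrank_eq_finrank hdim).2 hsurj
  apply mem_of_one_tmul_eq_zero R
  apply hinj
  rw [map_zero]
  show (Phi e₀).toLinearMap.liftBaseChange (ResidueField R) ((1 : ResidueField R) ⊗ₜ[R] s) = 0
  rw [LinearMap.liftBaseChange_tmul, one_smul]
  exact hs

end

end Groth.Agent.Lib.HensAzH6
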