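import Mathlib
import Groth.Agent.Lib.HensAz1_helper6
import Groth.Agent.Lib.HensAz3_helper6
import Groth.Agent.Lib.Corner2_helper6
import Groth.Agent.Lib.LGAz1_helper6

/-!
# Lifting isomorphisms of special fibres of Azumaya algebras over a henselian local ring (helper6)
-/

set_option autoImplicit false
universe u

namespace Groth.Agent.Lib.HensAzH6

open IsLocalRing TensorProduct MulOpposite
open Groth.Agent.Lib.CornerH6

section

variable {R : Type u} [CommRing R] [IsLocalRing R] {A : Type u} [Ring A] [Algebra R A]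
  {B : Type u} [Ring B] [Algebra R B]
  (e₀ : (ResidueField R ⊗[R] A) ≃ₐ[ResidueField R] (ResidueField R ⊗[R] B))

/-- `t ↦ Φ(t)(1)`. -/
noncomputable def ev : B ⊗[R] Aᵐᵒᵖ →ₗ[R] (ResidueField R ⊗[R] B) where
  toFun t := Phi e₀ t 1
  map_add' x y := by rw [map_add, LinearMap.add_apply]
  map_smul' r x := by rw [map_smul, LinearMap.smul_apply, RingHom.id_apply]

theorem ev_apply (t : B ⊗[R] Aᵐᵒᵖ) : ev e₀ t = Phi e₀ t 1 := rfl

theorem ev_includeLeft (b : B) :
    ev e₀ (b ⊗ₜ[R] (1 : Aᵐᵒᵖ)) = (1 : ResidueField R) ⊗ₜ[R] b := by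
  rw [ev_apply, Phi_tmul, unop_one, ← Algebra.TensorProduct.one_def, map_one, mul_one, mul_one]

theorem ev_includeRight (a : A) :
    ev e₀ ((1 : B) ⊗ₜ[R] op a) = e₀ ((1 : ResidueField R) ⊗ₜ[R] a) := by
  rw [ev_apply, Phi_tmul, unop_op, ← Algebra.TensorProduct.one_def, one_mul, one_mul]

variable (lam : (ResidueField R ⊗[R] B) →ₗ[ResidueField R] ResidueField R) (hlam : lam 1 = 1)
  {ε : B ⊗[R] Aᵐᵒᵖ} (he : IsIdempotentElem ε)
  (hε : ∀ x, Phi e₀ ε x = lam x • (1 : ResidueField R ⊗[R] B))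

include hlam hε in
theorem ev_mul_eps (t : B ⊗[R] Aᵐᵒᵖ) : ev e₀ (t * ε) = ev e₀ t := by
  rw [ev_apply, ev_apply, map_mul, Module.End.mul_apply, hε, hlam, one_smul]

include hε in
theorem Phi_eq_zero_of_ev {s : B ⊗[R] Aᵐᵒᵖ} (hs : s * ε = s) (h0 : ev e₀ s = 0) :
    Phi e₀ s = 0 := by
  refine LinearMap.ext fun x => ?_
  rw [← hs, map_mul, Module.End.mul_apply, hε, map_smul, ← ev_apply, h0, smul_zero,
    LinearMap.zero_apply]

variable (ε) in
/-- `b ↦ (b ⊗ 1) ε`, as a map `B → Cε`. -/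
noncomputable def psi : B →ₗ[R] Lid R ε :=
  (LidProj (R := R) (e := ε)) ∘ₗ
    (Algebra.TensorProduct.includeLeft : B →ₐ[R] B ⊗[R] Aᵐᵒᵖ).toLinearMap

theorem psi_val (b : B) : (psi ε b).1 = (b ⊗ₜ[R] (1 : Aᵐᵒᵖ)) * ε := rfl

include hlam he hε in
theorem psi_bijective [IsAzumaya R A] [IsAzumaya R B] : Function.Bijective (psi ε) := by
  haveI : Module.Finite R A := IsAzumaya.toFinite
  haveI : Module.Projective R A := IsAzumaya.toProjective
  haveI : Module.Finite R B := IsAzumaya.toFinite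
  haveI : Module.Projective R B := IsAzumaya.toProjective
  haveI : Module.Projective R Aᵐᵒᵖ := Module.Projective.of_equiv (opLinearEquiv R : A ≃ₗ[R] Aᵐᵒᵖ)
  haveI : Module.Finite R Aᵐᵒᵖ := Module.Finite.equiv (opLinearEquiv R : A ≃ₗ[R] Aᵐᵒᵖ)
  haveI := Lid_finite (R := R) he
  haveI := Lid_projective (R := R) he
  refine bijective_of_mod (R := R) (P := B) (Q := Lid R ε) (psi ε) ?_ ?_
  · intro q
    obtain ⟨b, hb⟩ := exists_one_tmul R (ev e₀ q.1)
    refine ⟨b, ?_⟩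
    have hmem : q.1 - (psi ε b).1 ∈ Lid R ε := (Lid R ε).sub_mem q.2 (psi ε b).2
    have hs : (q.1 - (psi ε b).1) * ε = q.1 - (psi ε b).1 := (mem_Lid_iff he).mp hmem
    have h0 : ev e₀ (q.1 - (psi ε b).1) = 0 := by
      rw [map_sub, psi_val, ev_mul_eps e₀ lam hlam hε, ev_includeLeft, hb, sub_self]
    have h1 := mem_of_Phi_eq_zero e₀ (Phi_eq_zero_of_ev e₀ lam hε hs h0)
    have h2 := Groth.Agent.Lib.LGAzH6.map_mem_smul_top (N := B ⊗[R] Aᵐᵒᵖ) (N' := Lid R ε)
      (maximalIdeal R) (LidProj (R := R) (e := ε)) h1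
    have h3 : LidProj (R := R) (e := ε) (q.1 - (psi ε b).1) = q - psi ε b := by
      apply Subtype.ext
      rw [LidProj_val, hs]
      rfl
    rw [h3] at h2
    exact h2
  · intro b hb
    have h1 := Groth.Agent.Lib.LGAzH6.map_mem_smul_top (N := Lid R ε) (N' := B ⊗[R] Aᵐᵒᵖ)
      (maximalIdeal R) (Lid R ε).subtype hb
    have h2 := map_eq_zero_of_mem_smul_top R (ev e₀) h1
    rw [Submodule.subtype_apply, psi_val, ev_mul_eps e₀ lam hlam hε, ev_includeLeft] at h2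
    exact mem_of_one_tmul_eq_zero R h2

include hlam he hε in
theorem exists_lift_of_idem [IsAzumaya R A] [IsAzumaya R B] :
    ∃ e : A ≃ₐ[R] B, ∀ a : A, e₀ ((1 : ResidueField R) ⊗ₜ[R] a) =
      (1 : ResidueField R) ⊗ₜ[R] (e a) := by
  haveI : Module.Finite R A := IsAzumaya.toFinite
  haveI : Module.Projective R A := IsAzumaya.toProjective
  haveI : Module.Finite R B := IsAzumaya.toFinite
  haveI : Module.Projective R B := IsAzumaya.toProjective
  have hbij := psi_bijective e₀ lam hlam he hε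
  let Ψ : B ≃ₗ[R] Lid R ε := LinearEquiv.ofBijective (psi ε) hbij
  let el : A →ₗ[R] B := Ψ.symm.toLinearMap ∘ₗ (LidProj (R := R) (e := ε)) ∘ₗ
    (Algebra.TensorProduct.includeRight : Aᵐᵒᵖ →ₐ[R] B ⊗[R] Aᵐᵒᵖ).toLinearMap ∘ₗ
    (opLinearEquiv R : A ≃ₗ[R] Aᵐᵒᵖ).toLinearMap
  have key : ∀ a : A, (el a ⊗ₜ[R] (1 : Aᵐᵒᵖ)) * ε = ((1 : B) ⊗ₜ[R] op a) * ε := by
    intro a
    have h : psi ε (el a) = LidProj (R := R) (e := ε) ((1 : B) ⊗ₜ[R] op a) :=
      Ψ.apply_symm_apply _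
    exact congrArg Subtype.val h
  have hone : el 1 = 1 := by
    apply hbij.1
    apply Subtype.ext
    rw [psi_val, key, psi_val, op_one]
  have hmul : ∀ a a' : A, el (a * a') = el a * el a' := by
    intro a a'
    apply hbij.1
    apply Subtype.ext
    rw [psi_val, key, psi_val]
    calc ((1 : B) ⊗ₜ[R] op (a * a')) * ε
        = ((1 : B) ⊗ₜ[R] op a') * (((1 : B) ⊗ₜ[R] op a) * ε) := by
          rw [← mul_assoc, Algebra.TensorProduct.tmul_mul_tmul, mul_one, op_mul]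
      _ = ((1 : B) ⊗ₜ[R] op a') * ((el a ⊗ₜ[R] (1 : Aᵐᵒᵖ)) * ε) := by rw [key]
      _ = (el a ⊗ₜ[R] (1 : Aᵐᵒᵖ)) * (((1 : B) ⊗ₜ[R] op a') * ε) := by
          rw [← mul_assoc, ← mul_assoc, Algebra.TensorProduct.tmul_mul_tmul,
            Algebra.TensorProduct.tmul_mul_tmul, one_mul, mul_one, one_mul, mul_one]
      _ = (el a ⊗ₜ[R] (1 : Aᵐᵒᵖ)) * ((el a' ⊗ₜ[R] (1 : Aᵐᵒᵖ)) * ε) := by rw [key]
      _ = ((el a * el a') ⊗ₜ[R] (1 : Aᵐᵒᵖ)) * ε := by
          rw [← mul_assoc, Algebra.TensorProduct.tmul_mul_tmul, mul_one]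
  have hred : ∀ a : A, e₀ ((1 : ResidueField R) ⊗ₜ[R] a) = (1 : ResidueField R) ⊗ₜ[R] (el a) := by
    intro a
    rw [← ev_includeRight, ← ev_mul_eps e₀ lam hlam hε, ← key, ev_mul_eps e₀ lam hlam hε,
      ev_includeLeft]
  have hbij' : Function.Bijective el := by
    refine bijective_of_mod (R := R) (P := A) (Q := B) el ?_ ?_
    · intro b
      obtain ⟨a, ha⟩ := exists_one_tmul R (e₀.symm ((1 : ResidueField R) ⊗ₜ[R] b))
      refine ⟨a, ?_⟩
      apply mem_of_one_tmul_eq_zero R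
      rw [TensorProduct.tmul_sub, ← hred, ha, AlgEquiv.apply_symm_apply, sub_self]
    · intro a ha
      have h1 := one_tmul_eq_zero_of_mem R ha
      rw [← hred] at h1
      apply mem_of_one_tmul_eq_zero R
      exact (map_eq_zero_iff e₀ e₀.injective).mp h1
  let ea : A →ₐ[R] B := AlgHom.ofLinearMap el hone hmul
  exact ⟨AlgEquiv.ofBijective ea hbij', hred⟩

end

section hens

open Groth.Agent.Lib.AzumayaFibre in
theorem exists_lift (R : Type u) [CommRing R] [HenselianLocalRing R] (A : Type u) [Ring A]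
    [Algebra R A] [IsAzumaya R A] (B : Type u) [Ring B] [Algebra R B] [IsAzumaya R B]
    (e₀ : (ResidueField R ⊗[R] A) ≃ₐ[ResidueField R] (ResidueField R ⊗[R] B)) :
    ∃ e : A ≃ₐ[R] B, ∀ a : A, e₀ ((1 : ResidueField R) ⊗ₜ[R] a) =
      (1 : ResidueField R) ⊗ₜ[R] (e a) := by
  haveI : Module.Finite R A := IsAzumaya.toFinite
  haveI : Module.Finite R B := IsAzumaya.toFinite
  haveI : Module.Finite R Aᵐᵒᵖ := Module.Finite.equiv (opLinearEquiv R : A ≃ₗ[R] Aᵐᵒᵖ)
  haveI : IsAzumaya (ResidueField R) (ResidueField R ⊗[R] B) :=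
    Groth.Agent.Lib.AzumayaBaseChange.isAzumaya_baseChange R (ResidueField R) B
  haveI : IsSimpleRing (ResidueField R ⊗[R] B) :=
    isSimpleRing_of_isAzumaya (ResidueField R) (ResidueField R ⊗[R] B)
  have hker : LinearMap.ker
      (LinearMap.toSpanSingleton (ResidueField R) (ResidueField R ⊗[R] B) 1) = ⊥ := by
    rw [LinearMap.ker_eq_bot]
    intro x y hxy
    rw [LinearMap.toSpanSingleton_apply, LinearMap.toSpanSingleton_apply] at hxy
    exact smul_left_injective (ResidueField R) (one_ne_zero (α := ResidueField R ⊗[R] B)) hxy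
  obtain ⟨lam, hl⟩ := LinearMap.exists_leftInverse_of_injective _ hker
  have hlam : lam 1 = 1 := by
    have := congrArg (fun f => f 1) hl
    simpa using this
  let pibar : Module.End (ResidueField R) (ResidueField R ⊗[R] B) :=
    (LinearMap.toSpanSingleton (ResidueField R) (ResidueField R ⊗[R] B) 1) ∘ₗ lam
  have hpiapp : ∀ x, pibar x = lam x • (1 : ResidueField R ⊗[R] B) := fun x => rfl
  have hpi : pibar * pibar = pibar := by
    refine LinearMap.ext fun x => ?_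
    rw [Module.End.mul_apply, hpiapp, hpiapp, map_smul, hlam, smul_eq_mul, mul_one]
  obtain ⟨c, hc⟩ := Phi_surjective e₀ pibar
  obtain ⟨ε, t, h1, h2⟩ := exists_idem R (B ⊗[R] Aᵐᵒᵖ) c
  have hε : Phi e₀ ε = pibar := by
    have := congrArg (Phi e₀) h2
    rw [map_sub, map_mul, map_sub, map_mul, hc, hpi, sub_self, zero_mul, sub_eq_zero] at this
    exact this
  exact exists_lift_of_idem e₀ lam hlam h1 (fun x => by rw [hε, hpiapp])

end hens

end Groth.Agent.Lib.HensAzH6
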