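import Mathlib
import Groth.Agent.Lib.HensAz4_helper6
import Groth.Agent.Lib.AzumayaFibre_helper6
import Groth.Agent.Lib.AzumayaBaseChange_helper6
import Groth.Agent.S11683

/-!
# Azumaya algebras over strictly henselian local rings are matrix algebras (helper6)
-/

set_option autoImplicit false
universe u

open TensorProduct IsLocalRing

namespace Groth.Agent.Lib.AzInvH6

theorem split_of_strictHenselian (T : Type u) [CommRing T] [HenselianLocalRing T]
    [IsSepClosed (ResidueField T)] (B : Type u) [Ring B] [Algebra T B] [IsAzumaya T B] (n : ℕ)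
    (hn : 0 < n) (hrk : ∀ p : PrimeSpectrum T, Module.rankAtStalk (R := T) B p = n ^ 2) :
    Nonempty (B ≃ₐ[T] Matrix (Fin n) (Fin n) T) := by
  classical
  haveI : Module.Finite T B := IsAzumaya.toFinite
  haveI : Module.Projective T B := IsAzumaya.toProjective
  haveI : Module.Free T B := Module.free_of_flat_of_isLocalRing
  haveI : IsAzumaya (ResidueField T) (ResidueField T ⊗[T] B) :=
    Groth.Agent.Lib.AzumayaBaseChange.isAzumaya_baseChange T (ResidueField T) B
  haveI : IsSimpleRing (ResidueField T ⊗[T] B) :=
    Groth.Agent.Lib.AzumayaFibre.isSimpleRing_of_isAzumaya (ResidueField T) _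
  obtain ⟨m, ⟨e₁⟩⟩ := Groth.Agent.S11683.result (ResidueField T) (ResidueField T ⊗[T] B)
  have hfr : Module.finrank T B = n ^ 2 := by
    have := hrk (closedPoint T)
    rw [Module.rankAtStalk_eq_finrank_of_free] at this
    simpa using this
  have hmn : m = n := by
    have h1 : Module.finrank (ResidueField T) (ResidueField T ⊗[T] B) = n ^ 2 := by
      rw [Module.finrank_baseChange, hfr]
    rw [LinearEquiv.finrank_eq e₁.toLinearEquiv, Module.finrank_matrix] at h1
    simp only [Fintype.card_fin, Module.finrank_self, mul_one] at h1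
    have h2 : m ^ 2 = n ^ 2 := by rw [← h1]; ring
    exact Nat.pow_left_injective (by norm_num : 2 ≠ 0) h2
  subst hmn
  haveI : Nonempty (Fin m) := ⟨⟨0, hn⟩⟩
  haveI : IsAzumaya T (Matrix (Fin m) (Fin m) T) := IsAzumaya.matrix T (Fin m)
  let e₂ : Matrix (Fin m) (Fin m) (ResidueField T) ≃ₐ[ResidueField T]
      ResidueField T ⊗[T] Matrix (Fin m) (Fin m) T :=
    AlgEquiv.ofRingEquiv (f := (matrixEquivTensor (Fin m) T (ResidueField T)).toRingEquiv) (by
      intro c
      show matrixEquivTensor (Fin m) T (ResidueField T) (algebraMap _ _ c) = _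
      apply (matrixEquivTensor (Fin m) T (ResidueField T)).symm.injective
      rw [AlgEquiv.symm_apply_apply, Algebra.TensorProduct.algebraMap_apply,
        Algebra.algebraMap_self_apply, matrixEquivTensor_apply_symm]
      ext i j
      simp [Matrix.algebraMap_matrix_apply, Matrix.one_apply])
  obtain ⟨e, -⟩ := Groth.Agent.Lib.HensAzH6.exists_lift T B (Matrix (Fin m) (Fin m) T)
    (e₁.trans e₂)
  exact ⟨e⟩

end Groth.Agent.Lib.AzInvH6
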