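import Mathlib
import Groth.Agent.Lib.AzumayaBaseChange_helper6
import Groth.Agent.Lib.AzumayaFibre_helper6

/-!
# A bimodule over (Azumaya, étale maximal) is free over the étale algebra: field case (helper6)
-/

namespace Groth.Agent.Lib.RegEltH6

open Module TensorProduct

universe u

section ineq

open Groth.Agent.Lib.AzumayaBaseChange Groth.Agent.Lib.AzumayaFibre

variable (k : Type u) [Field k] (Ab : Type u) [Ring Ab] [Algebra k Ab] [IsAzumaya k Ab]
  (Eb : Type u) [CommRing Eb] [Algebra k Eb]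
  (L : Type u) [Field L] [Algebra Eb L] [Algebra k L] [IsScalarTower k Eb L]
  (M : Type u) [AddCommGroup M] [Module k M] [Module Eb M] [IsScalarTower k Eb M] [Module Ab M]
  [IsScalarTower k Ab M] [SMulCommClass Ab Eb M] [Module.Finite Eb M]

/-- the action of `L ⊗ Ab` on `L ⊗_Eb M`. -/
noncomputable def fibreAction : L ⊗[k] Ab →ₐ[L] Module.End L (L ⊗[Eb] M) :=
  Algebra.TensorProduct.lift (Algebra.ofId L (Module.End L (L ⊗[Eb] M)))
    { toRingHom := (Module.End.baseChangeHom Eb L M).toRingHom.comp (Module.toModuleEnd Eb (S := Ab) M)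
      commutes' := fun c => by
        apply LinearMap.ext
        intro t
        induction t using TensorProduct.induction_on with
        | zero => simp
        | tmul l m =>
          simp only [RingHom.toMonoidHom_eq_coe, OneHom.toFun_eq_coe, MonoidHom.toOneHom_coe,
            MonoidHom.coe_coe, RingHom.coe_comp, Function.comp_apply]
          show (LinearMap.baseChange L (Module.toModuleEnd Eb (S := Ab) M (algebraMap k Ab c)))
            (l ⊗ₜ[Eb] m) = _
          rw [LinearMap.baseChange_tmul, Module.algebraMap_end_apply]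
          show l ⊗ₜ[Eb] ((algebraMap k Ab c) • m) = _
          rw [algebraMap_smul, ← algebraMap_smul Eb c m, TensorProduct.tmul_smul,
            TensorProduct.smul_tmul', algebraMap_smul, TensorProduct.smul_tmul']
        | add x y hx hy => simp only [map_add, hx, hy] }
    (fun l a => Algebra.commutes l _)

theorem le_finrank_fibre [Module.Finite k Ab] (r : ℕ) (hA : finrank k Ab = r ^ 2)
    [Nontrivial (L ⊗[Eb] M)] : r ≤ finrank L (L ⊗[Eb] M) := by
  haveI : IsAzumaya L (L ⊗[k] Ab) := isAzumaya_baseChange k L Ab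
  haveI : IsSimpleRing (L ⊗[k] Ab) := isSimpleRing_of_isAzumaya L _
  have hinj : Function.Injective (fibreAction k Ab Eb L M) :=
    fun x y h => RingHom.injective (fibreAction k Ab Eb L M).toRingHom h
  have h1 := LinearMap.finrank_le_finrank_of_injective
    (f := (fibreAction k Ab Eb L M).toLinearMap) hinj
  rw [Module.finrank_baseChange, hA, Module.finrank_linearMap, ← pow_two] at h1
  exact (Nat.pow_le_pow_iff_left (by norm_num)).mp h1

end ineq

section sum

variable (k : Type u) [Field k] (Eb : Type u) [CommRing Eb] [Algebra k Eb] [Module.Finite k Eb]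
  [IsReduced Eb]
  (M : Type u) [AddCommGroup M] [Module k M] [Module Eb M] [IsScalarTower k Eb M]
  [Module.Finite k M]

/-- the CRT decomposition of a module over a reduced Artinian ring. -/
noncomputable def crtEquiv [IsArtinianRing Eb] [Fintype (MaximalSpectrum Eb)]
    [DecidableEq (MaximalSpectrum Eb)] :
    M ≃ₗ[Eb] ∀ P : MaximalSpectrum Eb, (Eb ⧸ P.asIdeal) ⊗[Eb] M :=
  (TensorProduct.lid Eb M).symm ≪≫ₗ
    LinearEquiv.rTensor M (IsArtinianRing.equivPi Eb).toLinearEquiv ≪≫ₗ
    TensorProduct.piLeft Eb M (fun P : MaximalSpectrum Eb => Eb ⧸ P.asIdeal)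

theorem finrank_eq_sum_fibre [IsArtinianRing Eb] [Fintype (MaximalSpectrum Eb)]
    [DecidableEq (MaximalSpectrum Eb)] :
    finrank k M = ∑ P : MaximalSpectrum Eb, finrank k (Eb ⧸ P.asIdeal) *
      finrank (Eb ⧸ P.asIdeal) ((Eb ⧸ P.asIdeal) ⊗[Eb] M) := by
  haveI : Module.Finite Eb M := Module.Finite.of_restrictScalars_finite k Eb M
  haveI : ∀ P : MaximalSpectrum Eb, Module.Finite k ((Eb ⧸ P.asIdeal) ⊗[Eb] M) :=
    fun P => Module.Finite.trans (Eb ⧸ P.asIdeal) _
  have h1 := ((crtEquiv Eb M).restrictScalars k).finrank_eq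
  rw [h1, Module.finrank_pi_fintype]
  refine Finset.sum_congr rfl (fun P _ => ?_)
  letI : Field (Eb ⧸ P.asIdeal) := Ideal.Quotient.field P.asIdeal
  exact (Module.finrank_mul_finrank k (Eb ⧸ P.asIdeal) ((Eb ⧸ P.asIdeal) ⊗[Eb] M)).symm

end sum

section free

open Groth.Agent.Lib.AzumayaBaseChange Groth.Agent.Lib.AzumayaFibre

variable (k : Type u) [Field k] (Ab : Type u) [Ring Ab] [Algebra k Ab] [IsAzumaya k Ab]
  (Eb : Type u) [CommRing Eb] [Algebra k Eb] [Module.Finite k Eb] [IsReduced Eb]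
  (M : Type u) [AddCommGroup M] [Module k M] [Module Eb M] [IsScalarTower k Eb M] [Module Ab M]
  [IsScalarTower k Ab M] [SMulCommClass Ab Eb M] [Module.Finite k M]

theorem bimodule_free (r : ℕ) (hA : finrank k Ab = r ^ 2) (hE : finrank k Eb = r)
    (hM : finrank k M = r ^ 2) (ι : Eb →ₗ[Eb] M) (hι : Function.Injective ι) :
    Nonempty (Basis (Fin r) Eb M) := by
  classical
  haveI : Module.Finite k Ab := IsAzumaya.toFinite
  haveI : IsArtinianRing Eb := IsArtinianRing.of_finite k Eb
  haveI : IsSemisimpleRing Eb := IsArtinianRing.isSemisimpleRing_of_isReduced Eb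
  haveI : Fintype (MaximalSpectrum Eb) := Fintype.ofFinite _
  haveI : Module.Finite Eb M := Module.Finite.of_restrictScalars_finite k Eb M
  haveI : Module.Projective Eb M := Module.projective_of_isSemisimpleRing Eb M
  apply Module.nonempty_basis_of_flat_of_finrank_eq Eb M r
  -- the local ranks
  have hge : ∀ P : MaximalSpectrum Eb,
      r ≤ finrank (Eb ⧸ P.asIdeal) ((Eb ⧸ P.asIdeal) ⊗[Eb] M) := by
    intro P
    letI : Field (Eb ⧸ P.asIdeal) := Ideal.Quotient.field P.asIdeal
    haveI : Module.Projective Eb (Eb ⧸ P.asIdeal) := Module.projective_of_isSemisimpleRing Eb _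
    haveI : Nontrivial ((Eb ⧸ P.asIdeal) ⊗[Eb] M) := by
      have h1 := Module.Flat.lTensor_preserves_injective_linearMap (M := Eb ⧸ P.asIdeal) ι hι
      by_contra hnt
      rw [not_nontrivial_iff_subsingleton] at hnt
      have h2 : Subsingleton ((Eb ⧸ P.asIdeal) ⊗[Eb] Eb) := h1.subsingleton
      have h3 : Subsingleton (Eb ⧸ P.asIdeal) :=
        (TensorProduct.rid Eb (Eb ⧸ P.asIdeal)).symm.injective.subsingleton
      exact not_subsingleton (Eb ⧸ P.asIdeal) h3
    exact le_finrank_fibre k Ab Eb (Eb ⧸ P.asIdeal) M r hA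
  have hsumM := finrank_eq_sum_fibre k Eb M
  have hsumE : finrank k Eb = ∑ P : MaximalSpectrum Eb, finrank k (Eb ⧸ P.asIdeal) := by
    have h1 := ((IsArtinianRing.equivPi Eb).restrictScalars k).toLinearEquiv.finrank_eq
    rw [h1, Module.finrank_pi_fintype]
  have hdpos : ∀ P : MaximalSpectrum Eb, 0 < finrank k (Eb ⧸ P.asIdeal) := by
    intro P
    letI : Field (Eb ⧸ P.asIdeal) := Ideal.Quotient.field P.asIdeal
    exact Module.finrank_pos
  -- arithmetic
  have hzero : ∑ P : MaximalSpectrum Eb, finrank k (Eb ⧸ P.asIdeal) *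
      (finrank (Eb ⧸ P.asIdeal) ((Eb ⧸ P.asIdeal) ⊗[Eb] M) - r) = 0 := by
    have h1 : ∑ P : MaximalSpectrum Eb, finrank k (Eb ⧸ P.asIdeal) *
        finrank (Eb ⧸ P.asIdeal) ((Eb ⧸ P.asIdeal) ⊗[Eb] M) =
        ∑ P : MaximalSpectrum Eb, finrank k (Eb ⧸ P.asIdeal) * r +
        ∑ P : MaximalSpectrum Eb, finrank k (Eb ⧸ P.asIdeal) *
          (finrank (Eb ⧸ P.asIdeal) ((Eb ⧸ P.asIdeal) ⊗[Eb] M) - r) := by
      rw [← Finset.sum_add_distrib]
      refine Finset.sum_congr rfl (fun P _ => ?_)
      rw [← mul_add, Nat.add_sub_cancel' (hge P)]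
    rw [← hsumM, hM, ← Finset.sum_mul, ← hsumE, hE, pow_two] at h1
    omega
  intro P
  have h1 := (Finset.sum_eq_zero_iff.mp hzero) P (Finset.mem_univ P)
  rcases Nat.mul_eq_zero.mp h1 with h | h
  · exact absurd h (hdpos P).ne'
  · have := hge P
    omega

end free

end Groth.Agent.Lib.RegEltH6
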