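import Mathlib
import Groth.Agent.Lib.AzumayaBaseChange_helper6
import Groth.Agent.Lib.AzumayaFibre_helper6

/-!
# A homomorphism from an Azumaya algebra to an algebra of the same rank is bijective (helper6)
-/

namespace Groth.Agent.Lib.RegEltH6

open Module TensorProduct

universe u v w

section nak

variable {S : Type*} [CommRing S] {C : Type*} [AddCommGroup C] [Module S C] [Module.Finite S C]

theorem eq_top_of_forall_isMaximal (N' : Submodule S C)
    (h : ∀ n : Ideal S, n.IsMaximal → N' ⊔ n • (⊤ : Submodule S C) = ⊤) : N' = ⊤ := by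
  by_contra hne
  have hI : N'.colon (⊤ : Submodule S C) ≠ ⊤ := by
    intro hI
    apply hne
    rw [eq_top_iff]
    intro c _
    have h1 : (1 : S) ∈ N'.colon (⊤ : Submodule S C) := hI ▸ Submodule.mem_top
    have h2 := Submodule.mem_colon.mp h1 c Submodule.mem_top
    rwa [one_smul] at h2
  obtain ⟨n, hn, hIn⟩ := Ideal.exists_le_maximal _ hI
  have hQ : (⊤ : Submodule S (C ⧸ N')) ≤ n • (⊤ : Submodule S (C ⧸ N')) := by
    intro q _
    obtain ⟨c, rfl⟩ := N'.mkQ_surjective q
    have hc : c ∈ N' ⊔ n • (⊤ : Submodule S C) := by rw [h n hn]; exact Submodule.mem_top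
    obtain ⟨a, ha, b, hb, rfl⟩ := Submodule.mem_sup.mp hc
    have h1 : N'.mkQ (a + b) = N'.mkQ b := by
      have h0 : N'.mkQ a = 0 := by
        rw [Submodule.mkQ_apply]
        exact (Submodule.Quotient.mk_eq_zero N').mpr ha
      rw [map_add, h0, zero_add]
    rw [h1]
    have h2 : N'.mkQ b ∈ (n • (⊤ : Submodule S C)).map N'.mkQ := Submodule.mem_map_of_mem hb
    rw [Submodule.map_smul''] at h2
    exact Submodule.smul_mono le_rfl le_top h2
  obtain ⟨r, hr1, hr0⟩ := Submodule.exists_sub_one_mem_and_smul_eq_zero_of_fg_of_le_smul n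
    (⊤ : Submodule S (C ⧸ N')) (Module.finite_def.mp inferInstance) hQ
  have hrI : r ∈ N'.colon (⊤ : Submodule S C) := by
    rw [Submodule.mem_colon]
    intro c _
    have h1 := hr0 (N'.mkQ c) Submodule.mem_top
    rwa [← map_smul, Submodule.mkQ_apply, Submodule.Quotient.mk_eq_zero] at h1
  have h1 : (1 : S) ∈ n := by
    have h2 := n.sub_mem (hIn hrI) hr1
    rwa [sub_sub_cancel] at h2
  exact hn.ne_top ((Ideal.eq_top_iff_one _).mpr h1)

end nak

section azhom

open Groth.Agent.Lib.AzumayaBaseChange Groth.Agent.Lib.AzumayaFibre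

variable (S : Type u) [CommRing S] [Nontrivial S] (B : Type v) [Ring B] [Algebra S B] [IsAzumaya S B]
  [Module.Free S B] (C : Type w) [Ring C] [Algebra S C] [Module.Free S C] [Module.Finite S C]

theorem azumaya_hom_surjective (hrank : finrank S B = finrank S C) (hpos : 0 < finrank S C)
    (Φ : B →ₐ[S] C) : Function.Surjective Φ := by
  haveI : Module.Finite S B := IsAzumaya.toFinite
  have htop : LinearMap.range Φ.toLinearMap = ⊤ := by
    apply eq_top_of_forall_isMaximal
    intro n hn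
    letI : Field (S ⧸ n) := Ideal.Quotient.field n
    haveI : IsAzumaya (S ⧸ n) ((S ⧸ n) ⊗[S] B) := isAzumaya_baseChange S (S ⧸ n) B
    haveI : IsSimpleRing ((S ⧸ n) ⊗[S] B) := isSimpleRing_of_isAzumaya (S ⧸ n) _
    obtain ⟨ΦL, hΦL⟩ : ∃ ΦL : (S ⧸ n) ⊗[S] B →ₐ[S ⧸ n] (S ⧸ n) ⊗[S] C,
        ∀ (l : S ⧸ n) (b : B), ΦL (l ⊗ₜ[S] b) = l ⊗ₜ[S] Φ b :=
      ⟨Algebra.TensorProduct.map (AlgHom.id _ _) Φ, fun l b => by simp⟩
    haveI : Nontrivial ((S ⧸ n) ⊗[S] C) := by
      apply Module.nontrivial_of_finrank_pos (R := S ⧸ n)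
      rw [Module.finrank_baseChange]
      exact hpos
    have hinj : Function.Injective ΦL := fun x y h => RingHom.injective ΦL.toRingHom h
    have hsurj : Function.Surjective ΦL := by
      have hfr : finrank (S ⧸ n) ((S ⧸ n) ⊗[S] B) = finrank (S ⧸ n) ((S ⧸ n) ⊗[S] C) := by
        rw [Module.finrank_baseChange, Module.finrank_baseChange, hrank]
      exact (LinearMap.injective_iff_surjective_of_finrank_eq_finrank hfr (f := ΦL.toLinearMap)).mp
        hinj
    rw [eq_top_iff]
    intro c _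
    obtain ⟨t, ht⟩ := hsurj ((1 : S ⧸ n) ⊗ₜ[S] c)
    obtain ⟨b, rfl⟩ := TensorProduct.mk_surjective S B (S ⧸ n) Ideal.Quotient.mk_surjective t
    have h1 : (1 : S ⧸ n) ⊗ₜ[S] (c - Φ b) = 0 := by
      rw [tmul_sub, ← ht]
      show ΦL ((1 : S ⧸ n) ⊗ₜ[S] b) - _ = 0
      rw [hΦL, sub_self]
    have h2 : c - Φ b ∈ n • (⊤ : Submodule S C) := by
      have h3 := congrArg (TensorProduct.quotTensorEquivQuotSMul C n) h1
      rw [map_zero, ← map_one (Ideal.Quotient.mk n), TensorProduct.quotTensorEquivQuotSMul_mk_tmul,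
        one_smul, Submodule.Quotient.mk_eq_zero] at h3
      exact h3
    have h4 : c = Φ b + (c - Φ b) := by abel
    rw [h4]
    exact Submodule.add_mem_sup ⟨b, rfl⟩ h2
  intro c
  have h5 : c ∈ LinearMap.range Φ.toLinearMap := htop ▸ Submodule.mem_top
  exact h5

theorem azumaya_hom_bijective (hrank : finrank S B = finrank S C) (hpos : 0 < finrank S C)
    (Φ : B →ₐ[S] C) : Function.Bijective Φ := by
  haveI : Module.Finite S B := IsAzumaya.toFinite
  have hsurj := azumaya_hom_surjective S B C hrank hpos Φ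
  refine ⟨?_, hsurj⟩
  let e : C ≃ₗ[S] B := LinearEquiv.ofFinrankEq C B hrank.symm
  have h1 : Function.Surjective (Φ.toLinearMap ∘ₗ e.toLinearMap) := hsurj.comp e.surjective
  have h2 := OrzechProperty.injective_of_surjective_endomorphism _ h1
  intro x y hxy
  have h3 : (Φ.toLinearMap ∘ₗ e.toLinearMap) (e.symm x) = (Φ.toLinearMap ∘ₗ e.toLinearMap) (e.symm y) := by
    simp only [LinearMap.comp_apply, LinearEquiv.coe_coe, LinearEquiv.apply_symm_apply]
    exact hxy
  exact e.symm.injective (h2 h3)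

end azhom

end Groth.Agent.Lib.RegEltH6
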