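import Mathlib
import Groth.Agent.Lib.RegElt9_helper6
import Groth.Agent.Lib.RegElt10_helper6

/-!
# An Azumaya algebra over a local ring is free over a maximal étale subalgebra, which splits it
(helper6)
-/

namespace Groth.Agent.Lib.RegEltH6

open Module TensorProduct IsLocalRing

universe u

section rm

variable {k : Type*} [CommRing k] {Ab : Type*} [Ring Ab] [Algebra k Ab] {Eb : Type*} [CommRing Eb]
  [Algebra k Eb]

/-- `Ab` as an `Eb`-module through right multiplication by `ū e`. -/
def RM (_ū : Eb →ₐ[k] Ab) : Type _ := Ab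

namespace RM

variable (ū : Eb →ₐ[k] Ab)

instance : AddCommGroup (RM ū) := inferInstanceAs (AddCommGroup Ab)
instance : Module k (RM ū) := inferInstanceAs (Module k Ab)
instance : Module Ab (RM ū) := inferInstanceAs (Module Ab Ab)
instance : IsScalarTower k Ab (RM ū) := inferInstanceAs (IsScalarTower k Ab Ab)
instance [Module.Finite k Ab] : Module.Finite k (RM ū) := inferInstanceAs (Module.Finite k Ab)

instance : Module Eb (RM ū) where
  smul e y := (show Ab from y) * ū e
  one_smul y := by
    show (show Ab from y) * ū 1 = y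
    rw [map_one, mul_one]
  mul_smul e e' y := by
    show (show Ab from y) * ū (e * e') = ((show Ab from y) * ū e') * ū e
    rw [mul_comm e e', map_mul, mul_assoc]
  smul_zero e := by
    show (0 : Ab) * ū e = 0
    rw [zero_mul]
  smul_add e y z := by
    show ((show Ab from y) + (show Ab from z)) * ū e = _
    rw [add_mul]
    rfl
  add_smul e e' y := by
    show (show Ab from y) * ū (e + e') = _
    rw [map_add, mul_add]
    rfl
  zero_smul y := by
    show (show Ab from y) * ū 0 = 0
    rw [map_zero, mul_zero]

theorem smul_def (e : Eb) (y : RM ū) : e • y = (show Ab from y) * ū e := rfl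

theorem asmul_def (a : Ab) (y : RM ū) : a • y = a * (show Ab from y) := rfl

instance : IsScalarTower k Eb (RM ū) := ⟨fun c e y => by
  show (show Ab from y) * ū (c • e) = c • ((show Ab from y) * ū e)
  rw [map_smul, mul_smul_comm]⟩

instance : SMulCommClass Ab Eb (RM ū) := ⟨fun a e y => by
  show a * ((show Ab from y) * ū e) = (a * (show Ab from y)) * ū e
  rw [mul_assoc]⟩

end RM

end rm

section fibre

theorem rm_basis (k : Type u) [Field k] (Ab : Type u) [Ring Ab] [Algebra k Ab] [IsAzumaya k Ab]
    (Eb : Type u) [CommRing Eb] [Algebra k Eb] [Module.Finite k Eb] [IsReduced Eb] (r : ℕ)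
    (hA : finrank k Ab = r ^ 2) (hE : finrank k Eb = r) (ū : Eb →ₐ[k] Ab)
    (hū : Function.Injective ū) : Nonempty (Basis (Fin r) Eb (RM ū)) := by
  haveI : Module.Finite k Ab := IsAzumaya.toFinite
  have hM : finrank k (RM ū) = r ^ 2 := hA
  refine bimodule_free k Ab Eb (RM ū) r hA hE hM
    (LinearMap.toSpanSingleton Eb (RM ū) (show RM ū from (1 : Ab))) ?_
  have h1 : ∀ e : Eb, LinearMap.toSpanSingleton Eb (RM ū) (show RM ū from (1 : Ab)) e = ū e := by
    intro e
    show (1 : Ab) * ū e = ū e
    rw [one_mul]
  intro e e' h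
  rw [h1, h1] at h
  exact hū h

end fibre

section main

open Groth.Agent.Lib.AzumayaBaseChange Groth.Agent.Lib.AzumayaFibre

variable (R : Type u) [CommRing R] [IsLocalRing R] (A : Type u) [Ring A] [Algebra R A]
  [IsAzumaya R A] (r : ℕ) (hA : Module.finrank R A = r ^ 2)
  (E : Type u) [CommRing E] [Algebra R E] [Algebra.Etale R E] [Module.Finite R E] [Module.Free R E]
  (hE : Module.finrank R E = r) (u : E →ₐ[R] A)
  (hu : Function.Injective (u.toLinearMap.lTensor (ResidueField R)))
  [Module E A] (hmod : ∀ (e : E) (a : A), e • a = a * u e)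

include hA hE hu hmod in
theorem exists_basis_over_etale : Nonempty (Basis (Fin r) E A) := by
  classical
  haveI : Module.Finite R A := IsAzumaya.toFinite
  haveI : Module.Projective R A := IsAzumaya.toProjective
  haveI : Module.Free R A := Module.free_of_flat_of_isLocalRing
  haveI : IsScalarTower R E A := ⟨fun x e a => by
    rw [hmod, hmod, map_smul, mul_smul_comm]⟩
  haveI : IsAzumaya (ResidueField R) (ResidueField R ⊗[R] A) :=
    isAzumaya_baseChange R (ResidueField R) A
  haveI : Module.Finite (ResidueField R) (ResidueField R ⊗[R] E) :=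
    Module.Finite.base_change R (ResidueField R) E
  haveI : IsReduced (ResidueField R ⊗[R] E) :=
    Algebra.FormallyUnramified.isReduced_of_field (ResidueField R) (ResidueField R ⊗[R] E)
  have hAb : finrank (ResidueField R) (ResidueField R ⊗[R] A) = r ^ 2 := by
    rw [Module.finrank_baseChange, hA]
  have hEb : finrank (ResidueField R) (ResidueField R ⊗[R] E) = r := by
    rw [Module.finrank_baseChange, hE]
  obtain ⟨ū, hūt⟩ : ∃ ū : ResidueField R ⊗[R] E →ₐ[ResidueField R] ResidueField R ⊗[R] A,
      ∀ (c : ResidueField R) (e : E), ū (c ⊗ₜ[R] e) = c ⊗ₜ[R] u e :=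
    ⟨Algebra.TensorProduct.map (AlgHom.id _ _) u, fun c e => by simp⟩
  have hū : Function.Injective ū := by
    have h1 : ∀ t, ū t = u.toLinearMap.lTensor (ResidueField R) t := by
      intro t
      induction t using TensorProduct.induction_on with
      | zero => simp
      | tmul c e => rw [hūt, LinearMap.lTensor_tmul]; rfl
      | add x y hx hy => rw [map_add, map_add, hx, hy]
    intro x y hxy
    rw [h1, h1] at hxy
    exact hu hxy
  obtain ⟨wb⟩ := rm_basis (ResidueField R) (ResidueField R ⊗[R] A) (ResidueField R ⊗[R] E) r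
    hAb hEb ū hū
  have hsurjA : Function.Surjective (TensorProduct.mk R (ResidueField R) A 1) :=
    TensorProduct.mk_surjective R A (ResidueField R) residue_surjective
  have hsurjE : Function.Surjective (TensorProduct.mk R (ResidueField R) E 1) :=
    TensorProduct.mk_surjective R E (ResidueField R) residue_surjective
  choose w hw using fun s : Fin r => hsurjA (show ResidueField R ⊗[R] A from wb s)
  obtain ⟨ψ, hψ⟩ : ∃ ψ : (Fin r → E) →ₗ[E] A, ∀ c, ψ c = ∑ s, w s * u (c s) :=
    ⟨Fintype.linearCombination E w, fun c => by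
      rw [Fintype.linearCombination_apply]
      exact Finset.sum_congr rfl (fun s _ => hmod _ _)⟩
  have hsurj : Function.Surjective ψ := by
    have htop : LinearMap.range (ψ.restrictScalars R) = ⊤ := by
      rw [← IsLocalRing.map_tensorProduct_mk_eq_top (M := A), eq_top_iff]
      intro t _
      have h1 : (show RM ū from t) = ∑ s, wb.repr (show RM ū from t) s • wb s :=
        (wb.sum_repr (show RM ū from t)).symm
      choose e he using fun s => hsurjE (wb.repr (show RM ū from t) s)
      refine ⟨ψ e, ⟨e, rfl⟩, ?_⟩
      show (1 : ResidueField R) ⊗ₜ[R] ψ e = t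
      rw [hψ, tmul_sum]
      refine Eq.trans ?_ h1.symm
      refine Finset.sum_congr rfl (fun s _ => ?_)
      rw [RM.smul_def, ← he s]
      show _ = (show ResidueField R ⊗[R] A from wb s) * ū ((1 : ResidueField R) ⊗ₜ[R] e s)
      rw [← hw s, hūt]
      show _ = ((1 : ResidueField R) ⊗ₜ[R] w s) * ((1 : ResidueField R) ⊗ₜ[R] u (e s))
      rw [Algebra.TensorProduct.tmul_mul_tmul, one_mul]
    intro a
    have h2 : a ∈ LinearMap.range (ψ.restrictScalars R) := htop ▸ Submodule.mem_top
    exact h2
  have hrank : finrank R (Fin r → E) = finrank R A := by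
    rw [Module.finrank_pi_fintype, hA]
    simp [hE, pow_two]
  have hinj : Function.Injective ψ := by
    let e₀ : A ≃ₗ[R] (Fin r → E) := LinearEquiv.ofFinrankEq A (Fin r → E) hrank.symm
    have h1 : Function.Surjective ((ψ.restrictScalars R) ∘ₗ e₀.toLinearMap) :=
      hsurj.comp e₀.surjective
    have h2 := OrzechProperty.injective_of_surjective_endomorphism _ h1
    intro x y hxy
    have h3 : ((ψ.restrictScalars R) ∘ₗ e₀.toLinearMap) (e₀.symm x) =
        ((ψ.restrictScalars R) ∘ₗ e₀.toLinearMap) (e₀.symm y) := by
      simp only [LinearMap.comp_apply, LinearEquiv.coe_coe, LinearEquiv.apply_symm_apply]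
      exact hxy
    exact e₀.symm.injective (h2 h3)
  exact ⟨Basis.ofEquivFun (LinearEquiv.ofBijective ψ ⟨hinj, hsurj⟩).symm⟩

include hA hE hu hmod in
theorem split_by_etale : Module.Free E A ∧ Module.finrank E A = r ∧
    Nonempty ((E ⊗[R] A) ≃ₐ[E] Module.End E A) := by
  classical
  obtain ⟨b⟩ := exists_basis_over_etale R A r hA E hE u hu hmod
  haveI : Module.Finite R A := IsAzumaya.toFinite
  haveI : Module.Projective R A := IsAzumaya.toProjective
  haveI : Module.Free R A := Module.free_of_flat_of_isLocalRing
  haveI : Nontrivial A := by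
    by_contra hnt
    rw [not_nontrivial_iff_subsingleton] at hnt
    haveI : FaithfulSMul R A := IsAzumaya.toFaithfulSMul
    have h1 : (0 : R) = 1 := FaithfulSMul.eq_of_smul_eq_smul (α := A) (fun a => Subsingleton.elim _ _)
    exact zero_ne_one h1
  have hr : 0 < r := by
    have h1 : 0 < finrank R A := (Module.finrank_pos_iff_of_free R A).mpr inferInstance
    rw [hA] at h1
    exact Nat.pos_of_ne_zero (fun h => by rw [h] at h1; simp at h1)
  haveI : Nontrivial E := Module.nontrivial_of_finrank_pos (R := R) (by rw [hE]; exact hr)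
  haveI : Module.Free E A := Module.Free.of_basis b
  haveI : Module.Finite E A := Module.Finite.of_basis b
  have hfr : finrank E A = r := by rw [Module.finrank_eq_card_basis b, Fintype.card_fin]
  refine ⟨inferInstance, hfr, ?_⟩
  haveI : IsScalarTower R E A := ⟨fun x e a => by
    rw [hmod, hmod, map_smul, mul_smul_comm]⟩
  haveI : SMulCommClass A E A := ⟨fun a e y => by
    rw [hmod, hmod, smul_eq_mul, smul_eq_mul, mul_assoc]⟩
  haveI : IsAzumaya E (E ⊗[R] A) := isAzumaya_baseChange R E A
  obtain ⟨g, hg⟩ : ∃ g : A →ₐ[R] Module.End E A, ∀ a y, g a y = a * y :=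
    ⟨{ toRingHom := Module.toModuleEnd E (S := A) A
       commutes' := fun x => by
         apply LinearMap.ext
         intro y
         rw [Module.algebraMap_end_apply]
         show (algebraMap R A x) • y = x • y
         rw [algebraMap_smul] }, fun a y => rfl⟩
  obtain ⟨Φ, -⟩ : ∃ Φ : E ⊗[R] A →ₐ[E] Module.End E A, True :=
    ⟨Algebra.TensorProduct.lift (Algebra.ofId E (Module.End E A)) g
      (fun e a => Algebra.commutes e _), trivial⟩
  have hrank : finrank E (E ⊗[R] A) = finrank E (Module.End E A) := by
    rw [Module.finrank_baseChange, hA, Module.finrank_linearMap, hfr, pow_two]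
  have hpos : 0 < finrank E (Module.End E A) := by
    rw [Module.finrank_linearMap, hfr]
    exact Nat.mul_pos hr hr
  exact ⟨AlgEquiv.ofBijective Φ
    (azumaya_hom_bijective E (E ⊗[R] A) (Module.End E A) hrank hpos Φ)⟩

end main

end Groth.Agent.Lib.RegEltH6
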