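import Mathlib
import Groth.Agent.Lib.RegElt9_helper6
import Groth.Agent.Lib.RegElt11_helper6

/-!
# Splitting an Azumaya algebra by `AdjoinRoot P` from a basis of the form `w s * ξ ^ i` (helper6)
-/

namespace Groth.Agent.Lib.RegEltH6

open Polynomial Module TensorProduct

universe u

section split

open Groth.Agent.Lib.AzumayaBaseChange Groth.Agent.Lib.AzumayaFibre

variable (S : Type u) [CommRing S] [Nontrivial S] (B : Type u) [Ring B] [Algebra S B]
  [IsAzumaya S B] (r : ℕ) (hr : 1 ≤ r) (P : S[X]) (hm : P.Monic) (hdeg : P.natDegree = r)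
  (ξ : B) (hξ : aeval ξ P = 0) (w : Fin r → B)
  (b : Basis (Fin r × Fin r) S B) (hb : ∀ si : Fin r × Fin r, b si = w si.1 * ξ ^ (si.2 : ℕ))

include hr hm hdeg hξ hb in
theorem split_of_basis :
    Nonempty ((AdjoinRoot P ⊗[S] B) ≃ₐ[AdjoinRoot P] Matrix (Fin r) (Fin r) (AdjoinRoot P)) := by
  classical
  subst hdeg
  haveI : Module.Finite S B := IsAzumaya.toFinite
  haveI : Module.Free S B := Module.Free.of_basis b
  let u : AdjoinRoot P →ₐ[S] B := Ideal.Quotient.liftₐ (Ideal.span {P}) (aeval ξ) (by
    intro a ha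
    obtain ⟨c, rfl⟩ := Ideal.mem_span_singleton.mp ha
    rw [map_mul, hξ, zero_mul])
  have hu : ∀ g : S[X], u (AdjoinRoot.mk P g) = aeval ξ g := fun g => rfl
  have huroot : ∀ i : ℕ, u (AdjoinRoot.root P ^ i) = ξ ^ i := by
    intro i
    rw [map_pow]
    congr 1
    show u (AdjoinRoot.mk P X) = ξ
    rw [hu, aeval_X]
  let pb := AdjoinRoot.powerBasis' hm
  have hpb : ∀ i : Fin P.natDegree, pb.basis i = AdjoinRoot.root P ^ (i : ℕ) :=
    fun i => pb.basis_eq_pow i
  haveI : Module.Free S (AdjoinRoot P) := Module.Free.of_basis pb.basis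
  haveI : Module.Finite S (AdjoinRoot P) := Module.Finite.of_basis pb.basis
  have hfrE : finrank S (AdjoinRoot P) = P.natDegree := by
    rw [Module.finrank_eq_card_basis pb.basis, Fintype.card_fin]
    rfl
  haveI : Nontrivial (AdjoinRoot P) :=
    Module.nontrivial_of_finrank_pos (R := S) (by rw [hfrE]; exact hr)
  -- the family `w` as elements of `RM u`
  let w' : Fin P.natDegree → RM u := fun s => (show RM u from w s)
  have hsmul : ∀ (s : Fin P.natDegree) (i : Fin P.natDegree),
      (pb.basis i) • w' s = (show RM u from b (s, i)) := by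
    intro s i
    rw [RM.smul_def, hpb, huroot, hb]
  have hli : LinearIndependent (AdjoinRoot P) w' := by
    rw [Fintype.linearIndependent_iff]
    intro e he s
    have h1 : ∀ s, e s = ∑ i, pb.basis.repr (e s) i • pb.basis i := fun s =>
      (pb.basis.sum_repr (e s)).symm
    have h2 : ∑ si : Fin P.natDegree × Fin P.natDegree,
        pb.basis.repr (e si.1) si.2 • b si = 0 := by
      rw [Fintype.sum_prod_type]
      refine Eq.trans ?_ he
      refine Finset.sum_congr rfl (fun s _ => ?_)
      conv_rhs => rw [h1 s, Finset.sum_smul]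
      refine Finset.sum_congr rfl (fun i _ => ?_)
      rw [smul_assoc, hsmul]
      rfl
    have h3 := Fintype.linearIndependent_iff.mp b.linearIndependent
      (fun si => pb.basis.repr (e si.1) si.2) h2
    rw [h1 s]
    exact Finset.sum_eq_zero (fun i _ => by rw [h3 (s, i), zero_smul])
  have hsp : ⊤ ≤ Submodule.span (AdjoinRoot P) (Set.range w') := by
    intro m _
    have h1 : (show B from m) = ∑ si, b.repr (show B from m) si • b si :=
      (b.sum_repr (show B from m)).symm
    have h2 : m = ∑ s, (∑ i, b.repr (show B from m) (s, i) • pb.basis i) • w' s := by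
      refine Eq.trans h1 ?_
      rw [Fintype.sum_prod_type]
      refine Finset.sum_congr rfl (fun s _ => ?_)
      rw [Finset.sum_smul]
      refine Finset.sum_congr rfl (fun i _ => ?_)
      rw [smul_assoc, hsmul]
      rfl
    rw [h2]
    exact Submodule.sum_mem _ (fun s _ => Submodule.smul_mem _ _ (Submodule.subset_span ⟨s, rfl⟩))
  let bE : Basis (Fin P.natDegree) (AdjoinRoot P) (RM u) := Basis.mk hli hsp
  haveI : Module.Free (AdjoinRoot P) (RM u) := Module.Free.of_basis bE
  haveI : Module.Finite (AdjoinRoot P) (RM u) := Module.Finite.of_basis bE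
  have hfr : finrank (AdjoinRoot P) (RM u) = P.natDegree := by
    rw [Module.finrank_eq_card_basis bE, Fintype.card_fin]
  have hB : finrank S B = P.natDegree ^ 2 := by
    rw [Module.finrank_eq_card_basis b, Fintype.card_prod, Fintype.card_fin, pow_two]
  haveI : IsAzumaya (AdjoinRoot P) (AdjoinRoot P ⊗[S] B) := isAzumaya_baseChange S (AdjoinRoot P) B
  obtain ⟨g, hg⟩ : ∃ g : B →ₐ[S] Module.End (AdjoinRoot P) (RM u), ∀ a y, g a y = a • y :=
    ⟨{ toRingHom := Module.toModuleEnd (AdjoinRoot P) (S := B) (RM u)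
       commutes' := fun x => by
         apply LinearMap.ext
         intro y
         rw [Module.algebraMap_end_apply]
         show (algebraMap S B x) • y = x • y
         rw [algebraMap_smul] }, fun a y => rfl⟩
  obtain ⟨Φ, -⟩ : ∃ Φ : AdjoinRoot P ⊗[S] B →ₐ[AdjoinRoot P] Module.End (AdjoinRoot P) (RM u),
      True :=
    ⟨Algebra.TensorProduct.lift (Algebra.ofId (AdjoinRoot P) (Module.End (AdjoinRoot P) (RM u))) g
      (fun e a => Algebra.commutes e _), trivial⟩
  have hrank : finrank (AdjoinRoot P) (AdjoinRoot P ⊗[S] B) =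
      finrank (AdjoinRoot P) (Module.End (AdjoinRoot P) (RM u)) := by
    rw [Module.finrank_baseChange, hB, Module.finrank_linearMap, hfr, pow_two]
  have hpos : 0 < finrank (AdjoinRoot P) (Module.End (AdjoinRoot P) (RM u)) := by
    rw [Module.finrank_linearMap, hfr]
    exact Nat.mul_pos hr hr
  exact ⟨(AlgEquiv.ofBijective Φ
    (azumaya_hom_bijective (AdjoinRoot P) (AdjoinRoot P ⊗[S] B)
      (Module.End (AdjoinRoot P) (RM u)) hrank hpos Φ)).trans (algEquivMatrix bE)⟩

end split

end Groth.Agent.Lib.RegEltH6
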