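import Mathlib

/-!
# Centralizer of a regular semisimple endomorphism (helper6)

`X ∈ End_K V`, `dim V = r`, the powers `1, X, …, X^{r-1}` linearly independent, `p(X) = 0` for a
polynomial `p` of degree `r` with `r` distinct roots in `K`.  Then every `Z` commuting with `X` is a
polynomial of degree `< r` in `X`.
-/

namespace Groth.Agent.Lib.RegEltH6

open Polynomial Module

section poly

variable {K : Type*} [Field K] {S : Type*} [Ring S] [Algebra K S]

theorem aeval_mem_span_pow (x : S) (q : K[X]) (r : ℕ) (hq : q.degree < r) :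
    aeval x q ∈ Submodule.span K (Set.range (fun i : Fin r => x ^ (i : ℕ))) := by
  by_cases hq0 : q = 0
  · rw [hq0, map_zero]
    exact Submodule.zero_mem _
  rw [aeval_eq_sum_range' ((natDegree_lt_iff_degree_lt hq0).mpr hq)]
  exact Submodule.sum_mem _ (fun i hi => Submodule.smul_mem _ _
    (Submodule.subset_span ⟨⟨i, Finset.mem_range.mp hi⟩, rfl⟩))

theorem aeval_ne_zero_of_linearIndependent (x : S) (r : ℕ)
    (hli : LinearIndependent K (fun i : Fin r => x ^ (i : ℕ))) (q : K[X]) (hq0 : q ≠ 0)
    (hq : q.natDegree < r) : aeval x q ≠ 0 := by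
  intro h
  rw [aeval_eq_sum_range' hq, ← Fin.sum_univ_eq_sum_range (fun i => q.coeff i • x ^ i) r] at h
  have h0 := Fintype.linearIndependent_iff.mp hli (fun i => q.coeff i) h
  apply hq0
  ext i
  by_cases hi : i < r
  · simpa using h0 ⟨i, hi⟩
  · rw [coeff_eq_zero_of_natDegree_lt (by omega)]
    simp

end poly

section eigen

variable {K : Type*} [Field K] {V : Type*} [AddCommGroup V] [Module K V]

theorem exists_eigenvector (X : End K V) (r : ℕ)
    (hli : LinearIndependent K (fun i : Fin r => X ^ (i : ℕ)))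
    (p : K[X]) (hp0 : p ≠ 0) (hp : aeval X p = 0) (hpdeg : p.natDegree = r) (μ : K)
    (hμ : p.IsRoot μ) : ∃ v, X.HasEigenvector μ v := by
  obtain ⟨q, hq⟩ := dvd_iff_isRoot.mpr hμ
  have hq0 : q ≠ 0 := by
    rintro rfl
    simp at hq
    exact hp0 hq
  have hqdeg : q.natDegree < r := by
    rw [← hpdeg, hq, natDegree_mul (X_sub_C_ne_zero μ) hq0, natDegree_X_sub_C]
    omega
  have hne := aeval_ne_zero_of_linearIndependent X r hli q hq0 hqdeg
  obtain ⟨w, hw⟩ : ∃ w, aeval X q w ≠ 0 := by
    by_contra! hcon
    exact hne (LinearMap.ext hcon)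
  refine ⟨aeval X q w, ?_, hw⟩
  rw [Module.End.mem_eigenspace_iff]
  have h1 : aeval X p w = 0 := by rw [hp]; rfl
  rw [hq, map_mul] at h1
  simp only [map_sub, aeval_X, aeval_C, Module.End.mul_apply, LinearMap.sub_apply,
    Module.algebraMap_end_apply] at h1
  exact sub_eq_zero.mp h1

theorem centralizer_of_regular [FiniteDimensional K V] (X : End K V) (r : ℕ)
    (hr : finrank K V = r)
    (hli : LinearIndependent K (fun i : Fin r => X ^ (i : ℕ)))
    (p : K[X]) (hp0 : p ≠ 0) (hp : aeval X p = 0) (hpdeg : p.natDegree = r)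
    (hcard : p.roots.card = r) (hnodup : p.roots.Nodup)
    (Z : End K V) (hZ : Z * X = X * Z) : ∃ q : K[X], q.degree < r ∧ Z = aeval X q := by
  classical
  rcases Nat.eq_zero_or_pos r with hr0 | hrpos
  · refine ⟨0, ?_, ?_⟩
    · rw [degree_zero]
      exact WithBot.bot_lt_coe _
    · rw [hr0] at hr
      haveI : Subsingleton V := Module.finrank_zero_iff.mp hr
      apply LinearMap.ext
      intro w
      exact Subsingleton.elim _ _
  set s : Finset K := p.roots.toFinset with hs
  have hscard : s.card = r := by rw [hs, Multiset.toFinset_card_of_nodup hnodup, hcard]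
  haveI : Nonempty s := by
    have h1 : 0 < s.card := by rw [hscard]; exact hrpos
    obtain ⟨μ, hμ⟩ := Finset.card_pos.mp h1
    exact ⟨⟨μ, hμ⟩⟩
  have hroot : ∀ μ : s, p.IsRoot μ := fun μ => (mem_roots hp0).mp (Multiset.mem_toFinset.mp μ.2)
  choose v hv using fun μ : s => exists_eigenvector X r hli p hp0 hp hpdeg μ (hroot μ)
  have hvli : LinearIndependent K v :=
    Module.End.eigenvectors_linearIndependent' X (fun μ : s => (μ : K)) Subtype.val_injective v hv
  have hcard' : Fintype.card s = finrank K V := by rw [Fintype.card_coe, hscard, hr]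
  let b : Basis s K V := basisOfLinearIndependentOfCardEqFinrank hvli hcard'
  have hb : ∀ μ, b μ = v μ := fun μ => by simp [b]
  have hXb : ∀ μ : s, X (b μ) = (μ : K) • b μ := fun μ => by
    rw [hb]
    exact Module.End.mem_eigenspace_iff.mp (hv μ).1
  have hcoord : ∀ (ν : s) (w : V), b.coord ν (X w) = (ν : K) * b.coord ν w := by
    intro ν
    have h1 : (b.coord ν) ∘ₗ X = (ν : K) • b.coord ν := by
      apply b.ext
      intro μ
      simp only [LinearMap.comp_apply, LinearMap.smul_apply, hXb, map_smul, Basis.coord_apply,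
        Basis.repr_self, smul_eq_mul]
      by_cases h : μ = ν
      · rw [h]
      · rw [Finsupp.single_eq_of_ne (Ne.symm h), mul_zero, mul_zero]
    intro w
    exact LinearMap.congr_fun h1 w
  have hone : ∀ (μ : s) (w : V), X w = (μ : K) • w → w = b.coord μ w • b μ := by
    intro μ w hw
    have hz : ∀ ν : s, ν ≠ μ → b.coord ν w = 0 := by
      intro ν hν
      have h1 := hcoord ν w
      rw [hw, map_smul, smul_eq_mul] at h1
      have h2 : ((μ : K) - ν) * b.coord ν w = 0 := by rw [sub_mul, h1, sub_self]
      rcases mul_eq_zero.mp h2 with h | h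
      · exact absurd (Subtype.ext (sub_eq_zero.mp h)).symm hν
      · exact h
    conv_lhs => rw [← b.sum_repr w]
    rw [Finset.sum_eq_single μ]
    · rfl
    · intro ν _ hν
      rw [← Basis.coord_apply, hz ν hν, zero_smul]
    · intro h
      exact absurd (Finset.mem_univ _) h
  have hZb : ∀ μ : s, Z (b μ) = b.coord μ (Z (b μ)) • b μ := by
    intro μ
    apply hone
    have h1 : (Z * X) (b μ) = (X * Z) (b μ) := by rw [hZ]
    simp only [Module.End.mul_apply] at h1
    rw [← h1, hXb, map_smul]
  let d : s → K := fun μ => b.coord μ (Z (b μ))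
  have hinj : Set.InjOn (fun μ : s => (μ : K)) (Finset.univ : Finset s) :=
    fun a _ b _ h => Subtype.ext h
  refine ⟨Lagrange.interpolate Finset.univ (fun μ : s => (μ : K)) d, ?_, ?_⟩
  · have h1 := Lagrange.degree_interpolate_lt d hinj
    rwa [Finset.card_univ, Fintype.card_coe, hscard] at h1
  · apply b.ext
    intro μ
    rw [Module.End.aeval_apply_of_mem_apply_eq_smul (hXb μ),
      Lagrange.eval_interpolate_at_node d hinj (Finset.mem_univ μ)]
    exact hZb μ

end eigen

end Groth.Agent.Lib.RegEltH6
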