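import Mathlib
import Groth.Agent.Lib.RegElt1_helper6
import Groth.Agent.Lib.AzumayaBaseChange_helper6
import Groth.Agent.Lib.AzumayaFibre_helper6

/-!
# Centralizer of a regular separable element of a central simple algebra (helper6)
-/

namespace Groth.Agent.Lib.RegEltH6

open Polynomial Module TensorProduct

universe u

section transport

variable {K : Type*} [Field K] {V : Type*} [AddCommGroup V] [Module K V] [FiniteDimensional K V]

theorem centralizer_of_regular_algEquiv {B : Type*} [Ring B] [Algebra K B]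
    (ψ : B ≃ₐ[K] End K V) (X : B) (r : ℕ) (hr : finrank K V = r)
    (hli : LinearIndependent K (fun i : Fin r => X ^ (i : ℕ)))
    (p : K[X]) (hp0 : p ≠ 0) (hp : aeval X p = 0) (hpdeg : p.natDegree = r)
    (hcard : p.roots.card = r) (hnodup : p.roots.Nodup)
    (Z : B) (hZ : Z * X = X * Z) : ∃ q : K[X], q.degree < r ∧ Z = aeval X q := by
  have hli' : LinearIndependent K (fun i : Fin r => (ψ X) ^ (i : ℕ)) := by
    have h1 := hli.map' ψ.toLinearMap (LinearMap.ker_eq_bot.mpr ψ.injective)
    have h2 : (ψ.toLinearMap ∘ fun i : Fin r => X ^ (i : ℕ)) = fun i : Fin r => (ψ X) ^ (i : ℕ) := by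
      funext i
      simp
    rwa [h2] at h1
  have hp' : aeval (ψ X) p = 0 := by
    have h1 := aeval_algHom_apply (ψ : B →ₐ[K] End K V) X p
    rw [hp, map_zero] at h1
    exact h1
  have hZ' : ψ Z * ψ X = ψ X * ψ Z := by rw [← map_mul, hZ, map_mul]
  obtain ⟨q, hq, hqZ⟩ := centralizer_of_regular (ψ X) r hr hli' p hp0 hp' hpdeg hcard hnodup (ψ Z) hZ'
  refine ⟨q, hq, ψ.injective ?_⟩
  rw [hqZ]
  exact aeval_algHom_apply (ψ : B →ₐ[K] End K V) X q

end transport

section csa

open Groth.Agent.Lib.AzumayaBaseChange Groth.Agent.Lib.AzumayaFibre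

variable (k : Type u) [Field k] (D : Type u) [Ring D] [Algebra k D] [IsAzumaya k D]

theorem one_tmul_pow (K : Type*) [CommRing K] [Algebra k K] (x : D) (i : ℕ) :
    ((1 : K) ⊗ₜ[k] x) ^ i = (1 : K) ⊗ₜ[k] (x ^ i) := by
  rw [Algebra.TensorProduct.tmul_pow, one_pow]

theorem centralizer_csa (r : ℕ) (hD : finrank k D = r ^ 2) (x : D)
    (hsep : (minpoly k x).Separable) (hdeg : (minpoly k x).natDegree = r) (z : D)
    (hz : z * x = x * z) :
    z ∈ Submodule.span k (Set.range (fun i : Fin r => x ^ (i : ℕ))) := by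
  classical
  subst hdeg
  set r := (minpoly k x).natDegree with hrdef
  let K := AlgebraicClosure k
  let B := K ⊗[k] D
  haveI : Module.Finite k D := IsAzumaya.toFinite ..
  haveI : IsAzumaya K B := isAzumaya_baseChange k K D
  haveI : IsSimpleRing B := isSimpleRing_of_isAzumaya K B
  haveI : FiniteDimensional K B := Module.Finite.base_change k K D
  obtain ⟨n, hn, ⟨e⟩⟩ := IsSimpleRing.exists_algEquiv_matrix_of_isAlgClosed K B
  let ψ : B ≃ₐ[K] End K (Fin n → K) := e.trans Matrix.toLinAlgEquiv'
  have hnr : n = r := by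
    have h1 : finrank K B = r ^ 2 := by rw [Module.finrank_baseChange, hD]
    have h2 : finrank K B = n ^ 2 := by
      rw [e.toLinearEquiv.finrank_eq, Module.finrank_matrix]
      simp [pow_two]
    exact Nat.pow_left_injective (n := 2) (by norm_num) (h2.symm.trans h1)
  have hxint : IsIntegral k x := Algebra.IsIntegral.isIntegral x
  set X : B := (1 : K) ⊗ₜ[k] x with hX
  have hli : LinearIndependent K (fun i : Fin r => X ^ (i : ℕ)) := by
    have h1 := Module.Flat.linearIndependent_one_tmul (S := K) (linearIndependent_pow (K := k) x)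
    have h2 : (fun i : Fin r => X ^ (i : ℕ)) = fun i : Fin r => (1 : K) ⊗ₜ[k] (x ^ (i : ℕ)) := by
      funext i
      exact one_tmul_pow k D K x i
    rw [h2]
    exact h1
  set p : K[X] := (minpoly k x).map (algebraMap k K) with hp
  have hpm : p.Monic := (minpoly.monic hxint).map _
  have hp0 : p ≠ 0 := hpm.ne_zero
  have hpX : aeval X p = 0 := by
    rw [hp, aeval_map_algebraMap]
    have h1 := aeval_algHom_apply (Algebra.TensorProduct.includeRight : D →ₐ[k] K ⊗[k] D) x
      (minpoly k x)
    rw [minpoly.aeval, map_zero] at h1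
    exact h1
  have hpdeg : p.natDegree = r := by rw [hp, natDegree_map]
  have hcard : p.roots.card = r := by rw [IsAlgClosed.card_roots_eq_natDegree, hpdeg]
  have hnodup : p.roots.Nodup := nodup_roots hsep.map
  have hZ : ((1 : K) ⊗ₜ[k] z : B) * X = X * ((1 : K) ⊗ₜ[k] z) := by
    rw [hX, Algebra.TensorProduct.tmul_mul_tmul, Algebra.TensorProduct.tmul_mul_tmul, hz]
  have hfr : finrank K (Fin n → K) = r := by rw [Module.finrank_fin_fun, hnr]
  obtain ⟨q, hq, hqZ⟩ := centralizer_of_regular_algEquiv ψ X r hfr hli p hp0 hpX hpdeg hcard hnodup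
    ((1 : K) ⊗ₜ[k] z) hZ
  by_contra hzW
  obtain ⟨φ, hφz, hφW⟩ := Submodule.exists_dual_map_eq_bot_of_notMem hzW inferInstance
  let Φ : B →ₗ[K] K := (TensorProduct.AlgebraTensorModule.rid k K K).toLinearMap ∘ₗ
    (LinearMap.baseChange K φ)
  have hΦ : ∀ (c : K) (d : D), Φ (c ⊗ₜ[k] d) = φ d • c := by
    intro c d
    show (TensorProduct.AlgebraTensorModule.rid k K K) ((LinearMap.baseChange K φ) (c ⊗ₜ[k] d)) = _
    rw [LinearMap.baseChange_tmul, TensorProduct.AlgebraTensorModule.rid_tmul]
  have h1 : Φ ((1 : K) ⊗ₜ[k] z) = 0 := by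
    rw [hqZ]
    have h2 := aeval_mem_span_pow X q r hq
    have h3 : Submodule.span K (Set.range (fun i : Fin r => X ^ (i : ℕ))) ≤ LinearMap.ker Φ := by
      rw [Submodule.span_le]
      rintro _ ⟨i, rfl⟩
      show Φ (X ^ (i : ℕ)) = 0
      rw [hX, one_tmul_pow, hΦ]
      have h4 : φ (x ^ (i : ℕ)) ∈ (Submodule.span k (Set.range (fun i : Fin r => x ^ (i : ℕ)))).map φ :=
        Submodule.mem_map_of_mem (Submodule.subset_span ⟨i, rfl⟩)
      rw [hφW, Submodule.mem_bot] at h4
      rw [h4, zero_smul]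
    exact h3 h2
  rw [hΦ] at h1
  apply hφz
  have h5 : φ z • (1 : K) = algebraMap k K (φ z) := by rw [Algebra.smul_def, mul_one]
  rw [h5] at h1
  exact (map_eq_zero _).mp h1

end csa

section adjoin

variable (k : Type*) [Field k] {S : Type*} [Ring S] [Algebra k S]

theorem adjoin_toSubmodule_eq_span (x : S) (hx : IsIntegral k x) :
    Subalgebra.toSubmodule (Algebra.adjoin k {x}) =
      Submodule.span k (Set.range (fun i : Fin (minpoly k x).natDegree => x ^ (i : ℕ))) := by
  apply le_antisymm
  · intro y hy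
    rw [Subalgebra.mem_toSubmodule, Algebra.adjoin_singleton_eq_range_aeval] at hy
    obtain ⟨f, rfl⟩ := hy
    have hm := minpoly.monic hx
    have h1 : aeval x f = aeval x (f %ₘ minpoly k x) := by
      conv_lhs => rw [← modByMonic_add_div f (minpoly k x)]
      rw [map_add, map_mul, minpoly.aeval, zero_mul, add_zero]
    show (aeval x) f ∈ _
    rw [h1]
    apply aeval_mem_span_pow
    have h2 := degree_modByMonic_lt f hm
    rwa [degree_eq_natDegree hm.ne_zero] at h2
  · rw [Submodule.span_le]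
    rintro _ ⟨i, rfl⟩
    exact Subalgebra.pow_mem _ (Algebra.self_mem_adjoin_singleton k x) i

theorem finrank_adjoin_singleton (x : S) (hx : IsIntegral k x) :
    finrank k ↥(Algebra.adjoin k {x}) = (minpoly k x).natDegree := by
  have h1 : finrank k ↥(Algebra.adjoin k {x}) =
      finrank k ↥(Subalgebra.toSubmodule (Algebra.adjoin k {x})) := rfl
  rw [h1, adjoin_toSubmodule_eq_span k x hx, finrank_span_eq_card (linearIndependent_pow x),
    Fintype.card_fin]

theorem minpoly_separable_of_adjoin (x : S)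
    (hsep : Algebra.IsSeparable k ↥(Algebra.adjoin k {x})) : (minpoly k x).Separable := by
  have h1 : IsSeparable k (⟨x, Algebra.self_mem_adjoin_singleton k x⟩ : ↥(Algebra.adjoin k {x})) :=
    Algebra.IsSeparable.isSeparable k _
  have h2 := minpoly.algHom_eq (Algebra.adjoin k {x}).val Subtype.val_injective
    (⟨x, Algebra.self_mem_adjoin_singleton k x⟩ : ↥(Algebra.adjoin k {x}))
  rw [Subalgebra.val_apply] at h2
  rw [h2]
  exact h1

end adjoin

end Groth.Agent.Lib.RegEltH6
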