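import Mathlib
import Groth.Agent.Lib.RegElt1_helper6
import Groth.Agent.Lib.RegElt2_helper6

/-!
# The subalgebra generated by an element with separable minimal polynomial is separable (helper6)
-/

namespace Groth.Agent.Lib.RegEltH6

open Polynomial Module TensorProduct

section sep

variable (k : Type*) [Field k] {A : Type*} [Ring A] [Nontrivial A] [Algebra k A]
  [FiniteDimensional k A]

theorem separable_aeval (x : A) (hx : (minpoly k x).Separable) (f : k[X]) :
    (minpoly k (aeval x f)).Separable := by
  classical
  let K := AlgebraicClosure k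
  set y : A := aeval x f with hy
  have hxint : IsIntegral k x := Algebra.IsIntegral.isIntegral x
  have hyint : IsIntegral k y := Algebra.IsIntegral.isIntegral y
  set Xe : K ⊗[k] A := (1 : K) ⊗ₜ[k] x with hX
  set Ye : K ⊗[k] A := (1 : K) ⊗ₜ[k] y with hY
  set p : K[X] := (minpoly k x).map (algebraMap k K) with hp
  set fK : K[X] := f.map (algebraMap k K) with hfK
  have hinc : ∀ (a : A) (q : k[X]), aeval ((1 : K) ⊗ₜ[k] a : K ⊗[k] A) (q.map (algebraMap k K)) =
      (1 : K) ⊗ₜ[k] (aeval a q) := by
    intro a q
    rw [aeval_map_algebraMap]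
    exact aeval_algHom_apply (Algebra.TensorProduct.includeRight : A →ₐ[k] K ⊗[k] A) a q
  have hpm : p.Monic := (minpoly.monic hxint).map _
  have hpX : aeval Xe p = 0 := by rw [hp, hX, hinc, minpoly.aeval, tmul_zero]
  have hYX : Ye = aeval Xe fK := by rw [hfK, hX, hinc]
  have hpsep : p.Separable := hx.map
  have hnodup : p.roots.Nodup := nodup_roots hpsep
  have hpsplit : p.Splits := IsAlgClosed.splits p
  -- the squarefree polynomial with roots the values of `f` at roots of `p`
  set S : Finset K := (p.roots.map (fun a => eval a fK)).toFinset with hS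
  set g : K[X] := ∏ μ ∈ S, (X - C μ) with hg
  have hgsep : g.Separable := by
    rw [hg]
    exact separable_prod_X_sub_C_iff'.mpr (fun a _ b _ h => h)
  have hgm : g.Monic := monic_prod_of_monic _ _ (fun μ _ => monic_X_sub_C μ)
  have hdvd : p ∣ g.comp fK := by
    by_cases h0 : g.comp fK = 0
    · rw [h0]
      exact dvd_zero _
    rw [hpsplit.eq_prod_roots_of_monic hpm, Multiset.prod_X_sub_C_dvd_iff_le_roots h0,
      Multiset.le_iff_subset hnodup]
    intro a ha
    rw [mem_roots h0, IsRoot.def, eval_comp, hg, eval_prod]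
    apply Finset.prod_eq_zero (i := eval a fK)
    · rw [hS, Multiset.mem_toFinset]
      exact Multiset.mem_map_of_mem _ ha
    · simp
  have hgY : aeval Ye g = 0 := by
    obtain ⟨q, hq⟩ := hdvd
    have h1 : aeval Xe (g.comp fK) = 0 := by rw [hq, map_mul, hpX, zero_mul]
    rw [aeval_comp] at h1
    rw [hYX]
    exact h1
  -- the minimal polynomial of `y`, base changed
  set mK : K[X] := (minpoly k y).map (algebraMap k K) with hmK
  have hmKm : mK.Monic := (minpoly.monic hyint).map _
  have hmKY : aeval Ye mK = 0 := by rw [hmK, hY, hinc, minpoly.aeval, tmul_zero]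
  have hli : LinearIndependent K (fun i : Fin (minpoly k y).natDegree => Ye ^ (i : ℕ)) := by
    have h1 := Module.Flat.linearIndependent_one_tmul (S := K) (linearIndependent_pow (K := k) y)
    have h2 : (fun i : Fin (minpoly k y).natDegree => Ye ^ (i : ℕ)) =
        fun i : Fin (minpoly k y).natDegree => (1 : K) ⊗ₜ[k] (y ^ (i : ℕ)) := by
      funext i
      rw [hY, Algebra.TensorProduct.tmul_pow, one_pow]
    rw [h2]
    exact h1
  have hmod : g %ₘ mK = 0 := by
    by_contra hne
    have hdeg : (g %ₘ mK).natDegree < (minpoly k y).natDegree := by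
      have h1 := natDegree_modByMonic_lt g hmKm (by
        intro h
        have h2 : mK.natDegree = 0 := by rw [h, natDegree_one]
        rw [hmK, natDegree_map] at h2
        exact (minpoly.natDegree_pos hyint).ne' h2)
      rwa [hmK, natDegree_map] at h1
    apply aeval_ne_zero_of_linearIndependent Ye _ hli (g %ₘ mK) hne hdeg
    have h3 : g %ₘ mK = g - mK * (g /ₘ mK) := modByMonic_eq_sub_mul_div g mK
    rw [h3, map_sub, map_mul, hgY, hmKY, zero_mul, sub_zero]
  have hmdvd : mK ∣ g := (modByMonic_eq_zero_iff_dvd hmKm).mp hmod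
  have hmKsep : mK.Separable := hgsep.of_dvd hmdvd
  exact (separable_map (algebraMap k K)).mp hmKsep

theorem isSeparable_adjoin (x : A) (hx : (minpoly k x).Separable) :
    Algebra.IsSeparable k ↥(Algebra.adjoin k ({x} : Set A)) := by
  refine ⟨fun y => ?_⟩
  have h2 := minpoly.algHom_eq (Algebra.adjoin k {x}).val Subtype.val_injective y
  rw [Subalgebra.val_apply] at h2
  show (minpoly k y).Separable
  rw [← h2]
  obtain ⟨z, hz⟩ := y
  have hz' : z ∈ (aeval (R := k) x).range := by
    rw [← Algebra.adjoin_singleton_eq_range_aeval]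
    exact hz
  obtain ⟨f, hf⟩ := hz'
  show (minpoly k z).Separable
  rw [← hf]
  exact separable_aeval k x hx f

end sep

end Groth.Agent.Lib.RegEltH6
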