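import Mathlib

/-!
# Nakayama lifting of "powers form a basis of the centralizer" (helper6)
-/

namespace Groth.Agent.Lib.RegEltH6

open Module TensorProduct IsLocalRing

section lincomb

variable (R S : Type*) [CommRing R] [CommRing S] [Algebra R S]
  {M : Type*} [AddCommGroup M] [Module R M] {ι : Type*} [Fintype ι] [DecidableEq ι]

theorem lTensor_linearCombination_symm (a : ι → M) (c : ι → S) :
    (Fintype.linearCombination R a).lTensor S ((TensorProduct.piScalarRight R S S ι).symm c) =
      ∑ i, c i • ((1 : S) ⊗ₜ[R] a i) := by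
  conv_lhs => rw [← Finset.univ_sum_single c]
  rw [map_sum, map_sum]
  refine Finset.sum_congr rfl (fun i _ => ?_)
  rw [TensorProduct.piScalarRight_symm_single, LinearMap.lTensor_tmul,
    Fintype.linearCombination_apply_single, one_smul, TensorProduct.smul_tmul', smul_eq_mul, mul_one]

theorem lTensor_linearCombination_injective (a : ι → M)
    (h : LinearIndependent S (fun i => (1 : S) ⊗ₜ[R] a i)) :
    Function.Injective ((Fintype.linearCombination R a).lTensor S) := by
  rw [injective_iff_map_eq_zero]
  intro t ht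
  have h1 : t = (TensorProduct.piScalarRight R S S ι).symm (TensorProduct.piScalarRight R S S ι t) :=
    ((TensorProduct.piScalarRight R S S ι).symm_apply_apply t).symm
  rw [h1, lTensor_linearCombination_symm] at ht
  have h2 := Fintype.linearIndependent_iff.mp h _ ht
  rw [h1]
  have h3 : TensorProduct.piScalarRight R S S ι t = 0 := funext h2
  rw [h3, map_zero]

end lincomb

section ad

variable (R : Type*) [CommRing R] (S : Type*) [CommRing S] [Algebra R S]
  (A : Type*) [Ring A] [Algebra R A]

theorem mulLeft_lTensor (ξ : A) (t : S ⊗[R] A) :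
    (LinearMap.mulLeft R ξ).lTensor S t = ((1 : S) ⊗ₜ[R] ξ) * t := by
  induction t using TensorProduct.induction_on with
  | zero => simp
  | tmul c a =>
    rw [LinearMap.lTensor_tmul, Algebra.TensorProduct.tmul_mul_tmul, one_mul]
    rfl
  | add x y hx hy => rw [map_add, hx, hy, mul_add]

theorem mulRight_lTensor (ξ : A) (t : S ⊗[R] A) :
    (LinearMap.mulRight R ξ).lTensor S t = t * ((1 : S) ⊗ₜ[R] ξ) := by
  induction t using TensorProduct.induction_on with
  | zero => simp
  | tmul c a =>
    rw [LinearMap.lTensor_tmul, Algebra.TensorProduct.tmul_mul_tmul, mul_one]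
    rfl
  | add x y hx hy => rw [map_add, hx, hy, add_mul]

end ad

section nakayama

variable (R : Type*) [CommRing R] [IsLocalRing R] (A : Type*) [Ring A] [Algebra R A]
  [Module.Finite R A] [Module.Free R A]

theorem nakayama_regular (ξ : A) (r : ℕ)
    (hli : LinearIndependent (ResidueField R)
      (fun i : Fin r => ((1 : ResidueField R) ⊗ₜ[R] ξ : ResidueField R ⊗[R] A) ^ (i : ℕ)))
    (hcent : ∀ t : ResidueField R ⊗[R] A,
      t * ((1 : ResidueField R) ⊗ₜ[R] ξ) = ((1 : ResidueField R) ⊗ₜ[R] ξ) * t →
      t ∈ Submodule.span (ResidueField R)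
        (Set.range (fun i : Fin r => ((1 : ResidueField R) ⊗ₜ[R] ξ : ResidueField R ⊗[R] A) ^ (i : ℕ)))) :
    LinearIndependent R (fun i : Fin r => ξ ^ (i : ℕ)) ∧
      ξ ^ r ∈ Submodule.span R (Set.range (fun i : Fin r => ξ ^ (i : ℕ))) := by
  classical
  have hpow : ∀ i : ℕ, ((1 : ResidueField R) ⊗ₜ[R] ξ : ResidueField R ⊗[R] A) ^ i =
      (1 : ResidueField R) ⊗ₜ[R] (ξ ^ i) := by
    intro i
    rw [Algebra.TensorProduct.tmul_pow, one_pow]
  have hli' : LinearIndependent (ResidueField R)
      (fun i : Fin r => (1 : ResidueField R) ⊗ₜ[R] (ξ ^ (i : ℕ))) := by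
    have h2 : (fun i : Fin r => (1 : ResidueField R) ⊗ₜ[R] (ξ ^ (i : ℕ))) =
        fun i : Fin r => ((1 : ResidueField R) ⊗ₜ[R] ξ : ResidueField R ⊗[R] A) ^ (i : ℕ) := by
      funext i
      exact (hpow i).symm
    rw [h2]
    exact hli
  set l₁ : (Fin r → R) →ₗ[R] A := Fintype.linearCombination R (fun i : Fin r => ξ ^ (i : ℕ)) with hl₁
  have hinj1 : Function.Injective (l₁.lTensor (ResidueField R)) :=
    lTensor_linearCombination_injective R (ResidueField R) _ hli'
  obtain ⟨ρ, hρ⟩ := (IsLocalRing.split_injective_iff_lTensor_residueField_injective l₁).mpr hinj1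
  have hρ' : ∀ c, ρ (l₁ c) = c := fun c => LinearMap.congr_fun hρ c
  refine ⟨?_, ?_⟩
  · rw [Fintype.linearIndependent_iff]
    intro g hg i
    have h1 : l₁ g = 0 := hg
    have h2 := hρ' g
    rw [h1, map_zero] at h2
    rw [← h2]
    rfl
  set ad : A →ₗ[R] A := LinearMap.mulLeft R ξ - LinearMap.mulRight R ξ with had
  set l₂ : A →ₗ[R] (Fin r → R) × A := ρ.prod ad with hl₂
  have hinj2 : Function.Injective (l₂.lTensor (ResidueField R)) := by
    rw [injective_iff_map_eq_zero]
    intro t ht
    have ha : ρ.lTensor (ResidueField R) t = 0 := by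
      have h1 : ρ = LinearMap.fst R _ _ ∘ₗ l₂ := by rw [hl₂, LinearMap.fst_prod]
      rw [h1, LinearMap.lTensor_comp, LinearMap.comp_apply, ht, map_zero]
    have hb : ad.lTensor (ResidueField R) t = 0 := by
      have h1 : ad = LinearMap.snd R _ _ ∘ₗ l₂ := by rw [hl₂, LinearMap.snd_prod]
      rw [h1, LinearMap.lTensor_comp, LinearMap.comp_apply, ht, map_zero]
    rw [had, LinearMap.lTensor_sub, LinearMap.sub_apply, mulLeft_lTensor, mulRight_lTensor,
      sub_eq_zero] at hb
    obtain ⟨c, hc⟩ := (Submodule.mem_span_range_iff_exists_fun _).mp (hcent t hb.symm)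
    have h3 : t = l₁.lTensor (ResidueField R)
        ((TensorProduct.piScalarRight R (ResidueField R) (ResidueField R) (Fin r)).symm c) := by
      rw [hl₁, lTensor_linearCombination_symm, ← hc]
      refine Finset.sum_congr rfl (fun i _ => ?_)
      rw [hpow]
    have h4 : ρ.lTensor (ResidueField R) (l₁.lTensor (ResidueField R)
        ((TensorProduct.piScalarRight R (ResidueField R) (ResidueField R) (Fin r)).symm c)) =
        (TensorProduct.piScalarRight R (ResidueField R) (ResidueField R) (Fin r)).symm c := by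
      rw [← LinearMap.comp_apply, ← LinearMap.lTensor_comp, hρ, LinearMap.lTensor_id,
        LinearMap.id_apply]
    rw [← h3, ha] at h4
    rw [h3, ← h4, map_zero]
  obtain ⟨σ, hσ⟩ := (IsLocalRing.split_injective_iff_lTensor_residueField_injective l₂).mpr hinj2
  have hσ' : ∀ c, σ (l₂ c) = c := fun c => LinearMap.congr_fun hσ c
  set y : A := ξ ^ r - l₁ (ρ (ξ ^ r)) with hy
  have hcomm : ∀ c : Fin r → R, Commute ξ (l₁ c) := by
    intro c
    rw [hl₁, Fintype.linearCombination_apply]
    exact Commute.sum_right _ _ _ (fun i _ => ((Commute.refl ξ).pow_right _).smul_right _)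
  have hy2 : l₂ y = 0 := by
    have h0 : l₂ y = (ρ y, ad y) := rfl
    rw [h0, Prod.mk_eq_zero]
    constructor
    · rw [hy, map_sub, hρ', sub_self]
    · rw [had, LinearMap.sub_apply, LinearMap.mulLeft_apply, LinearMap.mulRight_apply, sub_eq_zero]
      have h1 : Commute ξ y := ((Commute.refl ξ).pow_right r).sub_right (hcomm _)
      exact h1.eq
  have hy0 : y = 0 := by
    have h1 := hσ' y
    rw [hy2, map_zero] at h1
    exact h1.symm
  rw [hy, sub_eq_zero] at hy0
  rw [hy0, hl₁, Fintype.linearCombination_apply]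
  exact Submodule.sum_mem _ (fun i _ => Submodule.smul_mem _ _ (Submodule.subset_span ⟨i, rfl⟩))

end nakayama

end Groth.Agent.Lib.RegEltH6
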