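import Mathlib

/-!
# Existence of regular separable elements: building blocks (helper6)
-/

namespace Groth.Agent.Lib.RegEltH6

open Polynomial Module

section diag

variable {k : Type*} [Field k] {D : Type*} [Ring D] [Algebra k D] {n : ℕ}

theorem aeval_diagonal (v : Fin n → D) (q : k[X]) :
    aeval (Matrix.diagonal v) q = Matrix.diagonal (fun j => aeval (v j) q) := by
  have h1 := aeval_algHom_apply (Matrix.diagonalAlgHom k : (Fin n → D) →ₐ[k] Matrix (Fin n) (Fin n) D) v q
  rw [Matrix.diagonalAlgHom_apply] at h1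
  rw [h1, Matrix.diagonalAlgHom_apply]
  congr 1
  funext j
  exact (aeval_algHom_apply (Pi.evalAlgHom k (fun _ : Fin n => D) j) v q).symm

theorem aeval_diagonal_eq_zero_iff (v : Fin n → D) (q : k[X]) :
    aeval (Matrix.diagonal v) q = 0 ↔ ∀ j, aeval (v j) q = 0 := by
  rw [aeval_diagonal, ← Matrix.diagonal_zero, Matrix.diagonal_eq_diagonal_iff]

theorem minpoly_diagonal (v : Fin n → D) (hint : ∀ j, IsIntegral k (v j))
    (hcop : Pairwise (fun i j => IsCoprime (minpoly k (v i)) (minpoly k (v j)))) :
    IsIntegral k (Matrix.diagonal v) ∧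
      minpoly k (Matrix.diagonal v) = ∏ j, minpoly k (v j) := by
  have hPm : (∏ j, minpoly k (v j)).Monic := monic_prod_of_monic _ _ (fun j _ => minpoly.monic (hint j))
  have hP0 : aeval (Matrix.diagonal v) (∏ j, minpoly k (v j)) = 0 := by
    rw [aeval_diagonal_eq_zero_iff]
    intro j
    exact (minpoly.dvd_iff).mp (Finset.dvd_prod_of_mem _ (Finset.mem_univ j))
  have hX : IsIntegral k (Matrix.diagonal v) := ⟨_, hPm, hP0⟩
  refine ⟨hX, ?_⟩
  have h1 : minpoly k (Matrix.diagonal v) ∣ ∏ j, minpoly k (v j) := minpoly.dvd_iff.mpr hP0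
  have h2 : ∏ j, minpoly k (v j) ∣ minpoly k (Matrix.diagonal v) := by
    apply Finset.prod_dvd_of_coprime
    · intro i _ j _ hij
      exact hcop hij
    · intro j _
      rw [minpoly.dvd_iff]
      exact (aeval_diagonal_eq_zero_iff v _).mp (minpoly.aeval k _) j
  exact eq_of_monic_of_associated (minpoly.monic hX) hPm (associated_of_dvd_dvd h1 h2)

end diag

section choose

variable (k : Type*) [Field k] [Infinite k] (L : Type*) [Field L] [Algebra k L]
  [FiniteDimensional k L] [Algebra.IsSeparable k L]

theorem exists_family (n : ℕ) : ∃ w : Fin n → L,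
    (∀ j, (minpoly k (w j)).natDegree = finrank k L) ∧
    Pairwise (fun i j => IsCoprime (minpoly k (w i)) (minpoly k (w j))) := by
  classical
  obtain ⟨a, ha⟩ := Field.exists_primitive_element k L
  have hdeg : (minpoly k a).natDegree = finrank k L := by
    rw [← IntermediateField.adjoin.finrank (Algebra.IsIntegral.isIntegral a), ha,
      IntermediateField.finrank_top']
  let φ : k → k[X] := fun c => minpoly k (a + algebraMap k L c)
  have hφ : ∀ c, φ c = (minpoly k a).comp (X - C c) := fun c => minpoly.add_algebraMap a c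
  have hfib : ∀ m : k[X], (φ ⁻¹' {m}).Finite := by
    intro m
    by_cases hm : m = 0
    · have h0 : φ ⁻¹' {m} = ∅ := by
        ext c
        simp only [Set.mem_preimage, Set.mem_singleton_iff, Set.mem_empty_iff_false, iff_false, hm]
        exact minpoly.ne_zero (Algebra.IsIntegral.isIntegral _)
      rw [h0]
      exact Set.finite_empty
    · have hsub : φ ⁻¹' {m} ⊆ (fun c : k => a + algebraMap k L c) ⁻¹' (m.rootSet L) := by
        intro c hc
        rw [Set.mem_preimage, Set.mem_singleton_iff] at hc
        rw [Set.mem_preimage, mem_rootSet]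
        refine ⟨hm, ?_⟩
        rw [← hc]
        exact minpoly.aeval k _
      refine Set.Finite.subset (Set.Finite.preimage ?_ (m.rootSet_finite L)) hsub
      intro c _ c' _ h
      exact (algebraMap k L).injective (add_left_cancel h)
  have hinf : (Set.range φ).Infinite := by
    intro hfin
    have h1 : (φ ⁻¹' (Set.range φ)).Finite := Set.Finite.preimage' hfin (fun m _ => hfib m)
    rw [Set.preimage_range] at h1
    exact Set.infinite_univ h1
  haveI : Infinite (Set.range φ) := Set.infinite_coe_iff.mpr hinf
  let e : ℕ ↪ Set.range φ := Infinite.natEmbedding _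
  choose c hc using fun j : Fin n => (e j).2
  refine ⟨fun j => a + algebraMap k L (c j), ?_, ?_⟩
  · intro j
    show (φ (c j)).natDegree = _
    rw [hφ, natDegree_comp, natDegree_X_sub_C, mul_one, hdeg]
  · intro i j hij
    show IsCoprime (φ (c i)) (φ (c j))
    have hne : φ (c i) ≠ φ (c j) := by
      rw [hc, hc]
      intro h
      exact hij (Fin.val_injective (e.injective (Subtype.ext h)))
    have hirr_i : Irreducible (φ (c i)) := minpoly.irreducible (Algebra.IsIntegral.isIntegral _)
    have hirr_j : Irreducible (φ (c j)) := minpoly.irreducible (Algebra.IsIntegral.isIntegral _)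
    rcases hirr_i.isCoprime_or_dvd (φ (c j)) with h | h
    · exact h
    · exfalso
      apply hne
      exact eq_of_monic_of_associated (minpoly.monic (Algebra.IsIntegral.isIntegral _))
        (minpoly.monic (Algebra.IsIntegral.isIntegral _)) (hirr_i.associated_of_dvd hirr_j h)

end choose

section split

variable (k : Type*) [Field k]

theorem exists_monic_separable (m : ℕ) (hm : m ≠ 0) :
    ∃ g : k[X], g.Monic ∧ g.Separable ∧ g.natDegree = m := by
  by_cases hmk : (m : k) = 0
  · obtain ⟨p, hp⟩ := CharP.exists k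
    haveI := hp
    have hpm : p ∣ m := (CharP.cast_eq_zero_iff k p m).mp hmk
    have hp2 : 2 ≤ p := by
      rcases CharP.char_is_prime_or_zero k p with h | h
      · exact h.two_le
      · exfalso
        rw [h, zero_dvd_iff] at hpm
        exact hm hpm
    have hm2 : 2 ≤ m := le_trans hp2 (Nat.le_of_dvd (Nat.pos_of_ne_zero hm) hpm)
    have hdeg : (X : k[X]).degree < (m : WithBot ℕ) := by
      rw [degree_X]
      exact_mod_cast hm2
    refine ⟨X ^ m - X, monic_X_pow_sub hdeg, galois_poly_separable p m hpm, ?_⟩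
    rw [natDegree_sub_eq_left_of_natDegree_lt, natDegree_X_pow]
    rw [natDegree_X, natDegree_X_pow]
    omega
  · refine ⟨X ^ m - C 1, monic_X_pow_sub_C 1 hm, separable_X_pow_sub_C 1 hmk one_ne_zero, ?_⟩
    exact natDegree_X_pow_sub_C

theorem exists_matrix_regular (m : ℕ) (hm : m ≠ 0) :
    ∃ x : Matrix (Fin m) (Fin m) k, (minpoly k x).Separable ∧ (minpoly k x).natDegree = m := by
  classical
  obtain ⟨g, hgm, hgs, hgd⟩ := exists_monic_separable k m hm
  have hg0 : g ≠ 0 := hgm.ne_zero
  let pb := AdjoinRoot.powerBasis hg0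
  have hdim : pb.dim = m := by rw [AdjoinRoot.powerBasis_dim, hgd]
  let x₀ : Module.End k (AdjoinRoot g) := Algebra.lmul k (AdjoinRoot g) (AdjoinRoot.root g)
  have h0 : minpoly k x₀ = g := by
    have h1 := minpoly.algHom_eq (Algebra.lmul k (AdjoinRoot g)) Algebra.lmul_injective
      (AdjoinRoot.root g)
    rw [show minpoly k x₀ = _ from h1, AdjoinRoot.minpoly_root hg0, hgm.leadingCoeff, inv_one,
      C.map_one, mul_one]
  let e : Module.End k (AdjoinRoot g) ≃ₐ[k] Matrix (Fin m) (Fin m) k :=
    (algEquivMatrix pb.basis).trans (Matrix.reindexAlgEquiv k k (finCongr hdim))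
  refine ⟨e x₀, ?_, ?_⟩
  · rw [minpoly.algEquiv_eq, h0]
    exact hgs
  · rw [minpoly.algEquiv_eq, h0]
    exact hgd

end split

end Groth.Agent.Lib.RegEltH6
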