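import Mathlib
import Groth.Agent.S0196
import Groth.Agent.S0198
import Groth.Agent.Lib.IndexPrimes_helper6
import Groth.Agent.Lib.RegElt2_helper6
import Groth.Agent.Lib.RegElt4_helper6

/-!
# Existence of a regular separable element in a central simple algebra (helper6)
-/

namespace Groth.Agent.Lib.RegEltH6

open Polynomial Module

universe u v

/-- a maximal separable subfield of a central division algebra, as an abstract field with an
embedding. -/
theorem exists_separable_subfield (k : Type u) [Field k] (D : Type v) [DivisionRing D] [Algebra k D]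
    [Algebra.IsCentral k D] [FiniteDimensional k D] :
    ∃ (K : Type v) (_ : Field K) (_ : Algebra k K) (_ : K →ₐ[k] D), FiniteDimensional k K ∧
      Algebra.IsSeparable k K ∧ Module.finrank k D = Module.finrank k K ^ 2 := by
  classical
  obtain ⟨L, hcomm, hmax, hsep⟩ := Groth.Agent.S0198.result k D
  have hdim := Groth.Agent.S0196.result k D L hcomm hmax
  letI instCR : CommRing ↥L :=
    { (inferInstance : Ring ↥L) with
      mul_comm := fun a b => Subtype.ext (hcomm a.1 a.2 b.1 b.2) }
  letI instF : Field ↥L := fieldOfFiniteDimensional k ↥L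
  exact ⟨↥L, instF, inferInstance, L.val, inferInstance, hsep, hdim⟩

/-- infinite base field: diagonal element in `M_m(D)`. -/
theorem exists_matrix_regular_infinite (k : Type u) [Field k] [Infinite k] (D : Type v)
    [DivisionRing D] [Algebra k D] [Algebra.IsCentral k D] [FiniteDimensional k D]
    (d : ℕ) (hd : Module.finrank k D = d ^ 2) (m : ℕ) :
    ∃ y : Matrix (Fin m) (Fin m) D, (minpoly k y).Separable ∧ (minpoly k y).natDegree = m * d := by
  classical
  obtain ⟨K, instF, instA, ι, hfd, hsep, hdim⟩ := exists_separable_subfield k D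
  have hKd : Module.finrank k K = d := by
    rw [hd] at hdim
    exact (Nat.pow_left_injective (n := 2) (by norm_num) hdim).symm
  obtain ⟨w, hwdeg, hwcop⟩ := exists_family k K m
  have hιinj : Function.Injective ι := ι.toRingHom.injective
  have hmp : ∀ j, minpoly k (ι (w j)) = minpoly k (w j) := fun j => minpoly.algHom_eq ι hιinj (w j)
  have hint : ∀ j, IsIntegral k (ι (w j)) := fun j => Algebra.IsIntegral.isIntegral _
  have hcop : Pairwise (fun i j => IsCoprime (minpoly k (ι (w i))) (minpoly k (ι (w j)))) := by
    intro i j hij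
    show IsCoprime (minpoly k (ι (w i))) (minpoly k (ι (w j)))
    rw [hmp, hmp]
    exact hwcop hij
  obtain ⟨hyint, hy⟩ := minpoly_diagonal (fun j => ι (w j)) hint hcop
  refine ⟨Matrix.diagonal (fun j => ι (w j)), ?_, ?_⟩
  · rw [hy]
    apply separable_prod'
    · intro i _ j _ hij
      exact hcop hij
    · intro j _
      rw [hmp]
      exact Algebra.IsSeparable.isSeparable k (w j)
  · rw [hy, natDegree_prod_of_monic _ _ (fun j _ => minpoly.monic (hint j))]
    simp only [hmp, hwdeg, hKd, Finset.sum_const, Finset.card_univ, Fintype.card_fin, smul_eq_mul]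

/-- finite base field: `D = k` and a regular-representation matrix. -/
theorem exists_matrix_regular_finite (k : Type u) [Field k] [Finite k] (D : Type v)
    [DivisionRing D] [Algebra k D] [Algebra.IsCentral k D] [FiniteDimensional k D]
    (d : ℕ) (hd : Module.finrank k D = d ^ 2) (m : ℕ) (hm : m ≠ 0) :
    ∃ y : Matrix (Fin m) (Fin m) D, (minpoly k y).Separable ∧ (minpoly k y).natDegree = m * d := by
  classical
  haveI : Finite D := Module.finite_of_finite k
  have hcomm : ∀ x y : D, x * y = y * x := by
    letI : Field D := littleWedderburn D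
    intro x y
    exact mul_comm x y
  have hsurj : Function.Surjective (Algebra.ofId k D) := by
    intro x
    have h1 : x ∈ Subalgebra.center k D := by
      rw [Subalgebra.mem_center_iff]
      intro y
      exact hcomm y x
    have h2 := (Algebra.IsCentral.out : Subalgebra.center k D ≤ ⊥) h1
    obtain ⟨c, hc⟩ := Algebra.mem_bot.mp h2
    exact ⟨c, hc⟩
  have hinj : Function.Injective (Algebra.ofId k D) := (Algebra.ofId k D).toRingHom.injective
  let e₀ : k ≃ₐ[k] D := AlgEquiv.ofBijective (Algebra.ofId k D) ⟨hinj, hsurj⟩
  have hd1 : d = 1 := by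
    have h1 : Module.finrank k D = 1 := by
      rw [← e₀.toLinearEquiv.finrank_eq, Module.finrank_self]
    rw [hd] at h1
    exact Nat.pow_left_injective (n := 2) (by norm_num) (h1.trans (one_pow 2).symm)
  obtain ⟨x, hxs, hxd⟩ := exists_matrix_regular k m hm
  refine ⟨e₀.mapMatrix x, ?_, ?_⟩
  · rw [minpoly.algEquiv_eq]
    exact hxs
  · rw [minpoly.algEquiv_eq, hxd, hd1, mul_one]

theorem exists_regular (k : Type u) [Field k] (A : Type v) [Ring A] [Algebra k A]
    [Algebra.IsCentral k A] [IsSimpleRing A] [FiniteDimensional k A] (r : ℕ)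
    (hA : Module.finrank k A = r ^ 2) :
    ∃ x : A, (minpoly k x).Separable ∧ (minpoly k x).natDegree = r := by
  classical
  obtain ⟨m, D, instD, algD, hc, hfinD, d, hm0, hd0, hDd, ⟨iso⟩⟩ :=
    Groth.Agent.Lib.IndexPrimes.exists_index k A
  have hr : r = m * d := by
    have h1 : Module.finrank k A = (m * d) ^ 2 := by
      rw [iso.toLinearEquiv.finrank_eq, Module.finrank_matrix, hDd]
      simp only [Fintype.card_fin]
      ring
    rw [hA] at h1
    exact Nat.pow_left_injective (n := 2) (by norm_num) h1
  obtain ⟨y, hys, hyd⟩ : ∃ y : Matrix (Fin m) (Fin m) D,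
      (minpoly k y).Separable ∧ (minpoly k y).natDegree = m * d := by
    rcases finite_or_infinite k with hfin | hinf
    · exact exists_matrix_regular_finite k D d hDd m hm0
    · exact exists_matrix_regular_infinite k D d hDd m
  refine ⟨iso.symm y, ?_, ?_⟩
  · rw [minpoly.algEquiv_eq]
    exact hys
  · rw [minpoly.algEquiv_eq, hyd, hr]

end Groth.Agent.Lib.RegEltH6
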