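import Mathlib

/-!
# `R[X]/(P)` is étale for `P` monic with separable reduction over a local ring (helper6)
-/

namespace Groth.Agent.Lib.RegEltH6

open Polynomial IsLocalRing

section etale

variable {R : Type*} [CommRing R]

/-- `AdjoinRoot` of a monic separable polynomial is étale. -/
theorem etale_adjoinRoot (P : R[X]) (hm : P.Monic) (hs : P.Separable) :
    Algebra.Etale R (AdjoinRoot P) := by
  obtain ⟨a, b, hab⟩ := hs
  let pair : StandardEtalePair R := ⟨P, hm, 1, ⟨b, a, 0, by rw [pow_zero, ← hab]; ring⟩⟩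
  have hmap : pair.HasMap (AdjoinRoot.root P) := by
    refine ⟨?_, ?_⟩
    · show aeval (AdjoinRoot.root P) P = 0
      rw [AdjoinRoot.aeval_eq, AdjoinRoot.mk_self]
    · show IsUnit (aeval (AdjoinRoot.root P) (1 : R[X]))
      rw [map_one]
      exact isUnit_one
  let f : pair.Ring →ₐ[R] AdjoinRoot P := pair.lift (AdjoinRoot.root P) hmap
  let g : AdjoinRoot P →ₐ[R] pair.Ring := AdjoinRoot.liftAlgHom P _ pair.X pair.hasMap_X.1
  have hfg : f.comp g = AlgHom.id R (AdjoinRoot P) := by
    apply AdjoinRoot.algHom_ext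
    simp [f, g]
  have hgf : g.comp f = AlgHom.id R pair.Ring := by
    apply pair.hom_ext
    simp [f, g]
  exact Algebra.Etale.of_equiv (AlgEquiv.ofAlgHom f g hfg hgf)

end etale

section local_sep

variable {R : Type*} [CommRing R] [IsLocalRing R]

theorem mul_mk_mem_smul_top (P : R[X]) (n : R[X]) (hn : ∀ i, n.coeff i ∈ maximalIdeal R)
    (e : AdjoinRoot P) :
    e * AdjoinRoot.mk P n ∈ maximalIdeal R • (⊤ : Submodule R (AdjoinRoot P)) := by
  rw [n.as_sum_support, map_sum, Finset.mul_sum]
  refine Submodule.sum_mem _ (fun i _ => ?_)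
  have h1 : AdjoinRoot.mk P (monomial i (n.coeff i)) = n.coeff i • AdjoinRoot.mk P (X ^ i) := by
    rw [← smul_X_eq_monomial, AdjoinRoot.smul_mk]
  rw [h1, mul_smul_comm]
  exact Submodule.smul_mem_smul (hn i) Submodule.mem_top

theorem separable_of_map_residue (P : R[X]) (hm : P.Monic)
    (hs : (P.map (algebraMap R (ResidueField R))).Separable) : P.Separable := by
  obtain ⟨a', b', hab⟩ := hs
  have hsurj : Function.Surjective (algebraMap R (ResidueField R)) := residue_surjective
  obtain ⟨a, rfl⟩ := Polynomial.map_surjective _ hsurj a'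
  obtain ⟨b, rfl⟩ := Polynomial.map_surjective _ hsurj b'
  rw [derivative_map, ← Polynomial.map_mul, ← Polynomial.map_mul, ← Polynomial.map_add,
    ← Polynomial.map_one (algebraMap R (ResidueField R))] at hab
  set n : R[X] := a * P + b * derivative P - 1 with hn
  have hn0 : n.map (algebraMap R (ResidueField R)) = 0 := by
    rw [hn, Polynomial.map_sub, hab, sub_self]
  have hncoeff : ∀ i, n.coeff i ∈ maximalIdeal R := by
    intro i
    have h1 : (n.map (algebraMap R (ResidueField R))).coeff i = 0 := by rw [hn0, coeff_zero]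
    rw [coeff_map] at h1
    exact (IsLocalRing.residue_eq_zero_iff _).mp h1
  haveI : Module.Finite R (AdjoinRoot P) := (AdjoinRoot.powerBasis' hm).finite
  -- Nakayama: the ideal generated by `P'` in `AdjoinRoot P` is everything
  set J : Ideal (AdjoinRoot P) := Ideal.span {AdjoinRoot.mk P (derivative P)} with hJ
  have hle : (⊤ : Submodule R (AdjoinRoot P)) ≤ J.restrictScalars R := by
    refine Submodule.le_of_le_smul_of_le_jacobson_bot (Module.finite_def.mp inferInstance)
      (IsLocalRing.maximalIdeal_le_jacobson ⊥) ?_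
    intro e _
    have h1 : AdjoinRoot.mk P n = AdjoinRoot.mk P b * AdjoinRoot.mk P (derivative P) - 1 := by
      rw [hn, map_sub, map_add, map_mul, map_mul, AdjoinRoot.mk_self, mul_zero, zero_add, map_one]
    have h2 : e = (e * AdjoinRoot.mk P b) * AdjoinRoot.mk P (derivative P) -
        e * AdjoinRoot.mk P n := by
      rw [h1]
      ring
    rw [h2]
    refine Submodule.sub_mem _ (Submodule.mem_sup_left ?_) (Submodule.mem_sup_right ?_)
    · rw [Submodule.restrictScalars_mem, hJ]
      exact Ideal.mul_mem_left _ _ (Ideal.subset_span rfl)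
    · exact mul_mk_mem_smul_top P n hncoeff e
  have h1 : (1 : AdjoinRoot P) ∈ J := by
    have := hle (Submodule.mem_top (x := (1 : AdjoinRoot P)))
    rwa [Submodule.restrictScalars_mem] at this
  rw [hJ, Ideal.mem_span_singleton'] at h1
  obtain ⟨c, hc⟩ := h1
  obtain ⟨c', rfl⟩ := AdjoinRoot.mk_surjective c
  rw [← map_mul, ← sub_eq_zero, ← map_one (AdjoinRoot.mk P), ← map_sub, AdjoinRoot.mk_eq_zero] at hc
  obtain ⟨d, hd⟩ := hc
  refine ⟨-d, c', ?_⟩
  have h3 : c' * derivative P = P * d + 1 := by rw [← hd]; ring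
  rw [h3]
  ring

end local_sep

end Groth.Agent.Lib.RegEltH6
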