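import Mathlib
import Groth.Agent.Lib.RegElt2_helper6
import Groth.Agent.Lib.RegElt3_helper6
import Groth.Agent.Lib.RegElt5_helper6
import Groth.Agent.Lib.RegElt7_helper6
import Groth.Agent.Lib.AzumayaBaseChange_helper6
import Groth.Agent.Lib.AzumayaFibre_helper6

/-!
# A maximal étale subalgebra of an Azumaya algebra over a local ring (helper6)
-/

namespace Groth.Agent.Lib.RegEltH6

open Polynomial Module TensorProduct IsLocalRing

universe u

section basis

variable {K : Type*} [Field K] {M N : Type*} [AddCommGroup M] [Module K M] [AddCommGroup N]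
  [Module K N] {ι : Type*} [Fintype ι]

theorem injective_of_basis_linearIndependent (b : Module.Basis ι K M) (φ : M →ₗ[K] N)
    (h : LinearIndependent K (fun i => φ (b i))) : Function.Injective φ := by
  rw [injective_iff_map_eq_zero]
  intro t ht
  rw [← b.sum_repr t, map_sum] at ht
  simp only [map_smul] at ht
  have h0 := Fintype.linearIndependent_iff.mp h (fun i => b.repr t i) ht
  rw [← b.sum_repr t]
  exact Finset.sum_eq_zero (fun i _ => by rw [h0 i, zero_smul])

end basis

section monic

variable {R : Type*} [CommRing R] {A : Type*} [Ring A] [Algebra R A]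

theorem exists_monic_of_pow_mem_span (ξ : A) (r : ℕ)
    (h : ξ ^ r ∈ Submodule.span R (Set.range (fun i : Fin r => ξ ^ (i : ℕ)))) [Nontrivial R] :
    ∃ P : R[X], P.Monic ∧ P.natDegree = r ∧ aeval ξ P = 0 := by
  obtain ⟨c, hc⟩ := (Submodule.mem_span_range_iff_exists_fun R).mp h
  have hdeg := degree_sum_fin_lt c
  refine ⟨X ^ r - ∑ i : Fin r, C (c i) * X ^ (i : ℕ), monic_X_pow_sub hdeg, ?_, ?_⟩
  · apply natDegree_eq_of_degree_eq_some
    rw [degree_sub_eq_left_of_degree_lt, degree_X_pow]
    rw [degree_X_pow]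
    exact hdeg
  · rw [map_sub, map_sum, map_pow, aeval_X, ← hc, sub_eq_zero]
    refine Finset.sum_congr rfl (fun i _ => ?_)
    rw [map_mul, aeval_C, map_pow, aeval_X, Algebra.smul_def]

end monic

section main

open Groth.Agent.Lib.AzumayaBaseChange Groth.Agent.Lib.AzumayaFibre

theorem exists_maximal_etale (R : Type u) [CommRing R] [IsLocalRing R] (A : Type u) [Ring A]
    [Algebra R A] [IsAzumaya R A] (r : ℕ) (hA : Module.finrank R A = r ^ 2) :
    ∃ (P : R[X]) (u : AdjoinRoot P →ₐ[R] A), P.Monic ∧ P.natDegree = r ∧ P.Separable ∧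
      Function.Injective (u.toLinearMap.lTensor (ResidueField R)) := by
  classical
  haveI : Module.Finite R A := IsAzumaya.toFinite
  haveI : Module.Projective R A := IsAzumaya.toProjective
  haveI : Module.Free R A := Module.free_of_flat_of_isLocalRing
  haveI : IsAzumaya (ResidueField R) (ResidueField R ⊗[R] A) :=
    isAzumaya_baseChange R (ResidueField R) A
  haveI : Module.Finite (ResidueField R) (ResidueField R ⊗[R] A) :=
    Module.Finite.base_change R (ResidueField R) A
  haveI : IsSimpleRing (ResidueField R ⊗[R] A) :=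
    isSimpleRing_of_isAzumaya (ResidueField R) (ResidueField R ⊗[R] A)
  haveI : Algebra.IsCentral (ResidueField R) (ResidueField R ⊗[R] A) := inferInstance
  have hD : Module.finrank (ResidueField R) (ResidueField R ⊗[R] A) = r ^ 2 := by
    rw [Module.finrank_baseChange, hA]
  obtain ⟨x, hxs, hxd⟩ := exists_regular (ResidueField R) (ResidueField R ⊗[R] A) r hD
  obtain ⟨ξ, hξ⟩ := TensorProduct.mk_surjective R A (ResidueField R) residue_surjective x
  have hξ' : (1 : ResidueField R) ⊗ₜ[R] ξ = x := hξ
  subst hξ'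
  have hli : LinearIndependent (ResidueField R)
      (fun i : Fin r => ((1 : ResidueField R) ⊗ₜ[R] ξ : ResidueField R ⊗[R] A) ^ (i : ℕ)) := by
    have h1 := linearIndependent_pow (K := ResidueField R)
      ((1 : ResidueField R) ⊗ₜ[R] ξ : ResidueField R ⊗[R] A)
    rw [hxd] at h1
    exact h1
  obtain ⟨-, hspan⟩ := nakayama_regular R A ξ r hli
    (fun t ht => centralizer_csa (ResidueField R) (ResidueField R ⊗[R] A) r hD _ hxs hxd t ht)
  obtain ⟨P, hPm, hPdeg, hPξ⟩ := exists_monic_of_pow_mem_span ξ r hspan
  let u : AdjoinRoot P →ₐ[R] A := Ideal.Quotient.liftₐ (Ideal.span {P}) (aeval ξ) (by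
    intro a ha
    obtain ⟨b, rfl⟩ := Ideal.mem_span_singleton.mp ha
    rw [map_mul, hPξ, zero_mul])
  have hu : ∀ g : R[X], u (AdjoinRoot.mk P g) = aeval ξ g := fun g => rfl
  refine ⟨P, u, hPm, hPdeg, ?_, ?_⟩
  · apply separable_of_map_residue P hPm
    have h1 : aeval ((1 : ResidueField R) ⊗ₜ[R] ξ : ResidueField R ⊗[R] A)
        (P.map (algebraMap R (ResidueField R))) = 0 := by
      rw [aeval_map_algebraMap]
      have h2 := aeval_algHom_apply
        (Algebra.TensorProduct.includeRight : A →ₐ[R] ResidueField R ⊗[R] A) ξ P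
      rw [hPξ, map_zero] at h2
      exact h2
    have h2 : minpoly (ResidueField R)
        ((1 : ResidueField R) ⊗ₜ[R] ξ : ResidueField R ⊗[R] A) ∣
        P.map (algebraMap R (ResidueField R)) := minpoly.dvd _ _ h1
    have h3 : P.map (algebraMap R (ResidueField R)) = minpoly (ResidueField R)
        ((1 : ResidueField R) ⊗ₜ[R] ξ : ResidueField R ⊗[R] A) :=
      eq_of_monic_of_dvd_of_natDegree_le (minpoly.monic (Algebra.IsIntegral.isIntegral _))
        (hPm.map _) h2 (by rw [hPm.natDegree_map, hPdeg, hxd])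
    rw [h3]
    exact hxs
  · subst hPdeg
    show Function.Injective ⇑(u.toLinearMap.baseChange (ResidueField R))
    apply injective_of_basis_linearIndependent
      ((AdjoinRoot.powerBasis' hPm).basis.baseChange (ResidueField R))
    have h1 : (fun i => (u.toLinearMap.baseChange (ResidueField R))
        ((AdjoinRoot.powerBasis' hPm).basis.baseChange (ResidueField R) i)) =
        fun i : Fin P.natDegree =>
          ((1 : ResidueField R) ⊗ₜ[R] ξ : ResidueField R ⊗[R] A) ^ (i : ℕ) := by
      funext i
      rw [Module.Basis.baseChange_apply, LinearMap.baseChange_tmul]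
      have h2 : (AdjoinRoot.powerBasis' hPm).basis i = AdjoinRoot.root P ^ (i : ℕ) :=
        (AdjoinRoot.powerBasis' hPm).basis_eq_pow i
      rw [h2, Algebra.TensorProduct.tmul_pow, one_pow]
      congr 1
      show u (AdjoinRoot.root P ^ (i : ℕ)) = ξ ^ (i : ℕ)
      rw [map_pow]
      congr 1
      show u (AdjoinRoot.mk P X) = ξ
      rw [hu, aeval_X]
    rw [h1]
    exact hli

end main

end Groth.Agent.Lib.RegEltH6
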