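import Mathlib
import Groth.Agent.Lib.RegElt14_helper6
import Groth.Agent.Lib.IndexPrimes_helper6

/-!
# Global data near a prime for splitting an Azumaya algebra (helper6)

For an Azumaya `R`-algebra `A` and a prime `p`, we produce `ξ ∈ A`, `w : Fin r → A` and a monic
`P ∈ R[X]` of degree `r` which over the local ring `R_p` give: `P` separable, `P(ξ) = 0`, and
`w s * ξ ^ i` a basis.
-/

namespace Groth.Agent.Lib.RegEltH6

open Polynomial Module TensorProduct IsLocalRing

universe u

section sq

theorem exists_sq_finrank (k : Type u) [Field k] (A : Type u) [Ring A] [Algebra k A]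
    [Algebra.IsCentral k A] [IsSimpleRing A] [FiniteDimensional k A] :
    ∃ r : ℕ, 1 ≤ r ∧ finrank k A = r ^ 2 := by
  classical
  obtain ⟨m, D, instD, algD, hc, hfinD, d, hm0, hd0, hDd, ⟨iso⟩⟩ :=
    Groth.Agent.Lib.IndexPrimes.exists_index k A
  refine ⟨m * d, Nat.mul_pos (Nat.pos_of_ne_zero hm0) hd0, ?_⟩
  rw [iso.toLinearEquiv.finrank_eq, Module.finrank_matrix, hDd]
  simp only [Fintype.card_fin]
  ring

end sq

section lift

variable (R : Type u) [CommRing R] (A : Type u) [Ring A] [Algebra R A] (p : Ideal R) [p.IsPrime]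

theorem residue_algebraMap_ne_zero (t : R) (ht : t ∉ p) :
    algebraMap (Localization.AtPrime p) (ResidueField (Localization.AtPrime p))
      (algebraMap R (Localization.AtPrime p) t) ≠ 0 := by
  have h1 : IsUnit (algebraMap R (Localization.AtPrime p) t) :=
    IsLocalization.map_units (Localization.AtPrime p) (⟨t, ht⟩ : p.primeCompl)
  exact (h1.map (algebraMap (Localization.AtPrime p) (ResidueField (Localization.AtPrime p)))).ne_zero

theorem one_tmul_one_tmul_smul (t : R) (a : A) :
    ((1 : ResidueField (Localization.AtPrime p)) ⊗ₜ[Localization.AtPrime p]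
      ((1 : Localization.AtPrime p) ⊗ₜ[R] (t • a)) :
      ResidueField (Localization.AtPrime p) ⊗[Localization.AtPrime p]
        (Localization.AtPrime p ⊗[R] A)) =
    (algebraMap (Localization.AtPrime p) (ResidueField (Localization.AtPrime p))
      (algebraMap R (Localization.AtPrime p) t)) •
      ((1 : ResidueField (Localization.AtPrime p)) ⊗ₜ[Localization.AtPrime p]
        ((1 : Localization.AtPrime p) ⊗ₜ[R] a)) := by
  rw [TensorProduct.tmul_smul, ← algebraMap_smul (Localization.AtPrime p) t
    ((1 : Localization.AtPrime p) ⊗ₜ[R] a), TensorProduct.tmul_smul]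
  exact (algebraMap_smul (ResidueField (Localization.AtPrime p))
    (algebraMap R (Localization.AtPrime p) t) _).symm

theorem exists_lift_fibre (d : ResidueField (Localization.AtPrime p) ⊗[Localization.AtPrime p]
    (Localization.AtPrime p ⊗[R] A)) :
    ∃ (a : A) (t : R), t ∉ p ∧
      ((1 : ResidueField (Localization.AtPrime p)) ⊗ₜ[Localization.AtPrime p]
        ((1 : Localization.AtPrime p) ⊗ₜ[R] a)) =
      (algebraMap (Localization.AtPrime p) (ResidueField (Localization.AtPrime p))
        (algebraMap R (Localization.AtPrime p) t)) • d := by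
  obtain ⟨y, hy⟩ := TensorProduct.mk_surjective (Localization.AtPrime p)
    (Localization.AtPrime p ⊗[R] A) (ResidueField (Localization.AtPrime p)) residue_surjective d
  obtain ⟨⟨a, t⟩, hat⟩ := IsLocalizedModule.surj p.primeCompl
    (TensorProduct.mk R (Localization.AtPrime p) A 1) y
  refine ⟨a, t.1, t.2, ?_⟩
  have h1 : (1 : Localization.AtPrime p) ⊗ₜ[R] a = (algebraMap R (Localization.AtPrime p) t.1) • y := by
    rw [algebraMap_smul]
    exact hat.symm
  rw [h1, TensorProduct.tmul_smul, ← hy]
  exact (algebraMap_smul (ResidueField (Localization.AtPrime p))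
    (algebraMap R (Localization.AtPrime p) t.1) _).symm

end lift

section main

open Groth.Agent.Lib.AzumayaBaseChange Groth.Agent.Lib.AzumayaFibre

variable (R : Type u) [CommRing R] (A : Type u) [Ring A] [Algebra R A] [IsAzumaya R A]
  (p : Ideal R) [p.IsPrime]

theorem exists_global_data :
    ∃ (r : ℕ) (_ : 1 ≤ r) (ξ : A) (w : Fin r → A) (P : R[X]), P.Monic ∧ P.natDegree = r ∧
      (P.map (algebraMap R (Localization.AtPrime p))).Separable ∧
      ((1 : Localization.AtPrime p) ⊗ₜ[R] (aeval ξ P) : Localization.AtPrime p ⊗[R] A) = 0 ∧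
      Function.Bijective (Finsupp.linearCombination (Localization.AtPrime p)
        (fun si : Fin r × Fin r =>
          ((1 : Localization.AtPrime p) ⊗ₜ[R] (w si.1 * ξ ^ (si.2 : ℕ)) :
            Localization.AtPrime p ⊗[R] A))) := by
  classical
  haveI : IsAzumaya (Localization.AtPrime p) (Localization.AtPrime p ⊗[R] A) :=
    isAzumaya_baseChange R (Localization.AtPrime p) A
  haveI : Module.Finite (Localization.AtPrime p) (Localization.AtPrime p ⊗[R] A) :=
    IsAzumaya.toFinite
  haveI : Module.Projective (Localization.AtPrime p) (Localization.AtPrime p ⊗[R] A) :=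
    IsAzumaya.toProjective
  haveI : Module.Free (Localization.AtPrime p) (Localization.AtPrime p ⊗[R] A) :=
    Module.free_of_flat_of_isLocalRing
  haveI : IsAzumaya (ResidueField (Localization.AtPrime p))
      (ResidueField (Localization.AtPrime p) ⊗[Localization.AtPrime p]
        (Localization.AtPrime p ⊗[R] A)) :=
    isAzumaya_baseChange (Localization.AtPrime p) (ResidueField (Localization.AtPrime p)) _
  haveI : Module.Finite (ResidueField (Localization.AtPrime p))
      (ResidueField (Localization.AtPrime p) ⊗[Localization.AtPrime p]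
        (Localization.AtPrime p ⊗[R] A)) :=
    Module.Finite.base_change (Localization.AtPrime p) (ResidueField (Localization.AtPrime p)) _
  haveI : IsSimpleRing (ResidueField (Localization.AtPrime p) ⊗[Localization.AtPrime p]
        (Localization.AtPrime p ⊗[R] A)) :=
    isSimpleRing_of_isAzumaya (ResidueField (Localization.AtPrime p))
      (ResidueField (Localization.AtPrime p) ⊗[Localization.AtPrime p]
        (Localization.AtPrime p ⊗[R] A))
  haveI : Algebra.IsCentral (ResidueField (Localization.AtPrime p))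
      (ResidueField (Localization.AtPrime p) ⊗[Localization.AtPrime p]
        (Localization.AtPrime p ⊗[R] A)) := inferInstance
  obtain ⟨r, hr, hD⟩ := exists_sq_finrank (ResidueField (Localization.AtPrime p))
    (ResidueField (Localization.AtPrime p) ⊗[Localization.AtPrime p]
        (Localization.AtPrime p ⊗[R] A))
  have hA : finrank (Localization.AtPrime p) (Localization.AtPrime p ⊗[R] A) = r ^ 2 := by
    have h1 := Module.finrank_baseChange (R := ResidueField (Localization.AtPrime p))
      (S := Localization.AtPrime p) (M' := Localization.AtPrime p ⊗[R] A)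
    rw [← h1]
    exact hD
  -- a regular element of the fibre
  obtain ⟨x, hxs, hxd⟩ := exists_regular (ResidueField (Localization.AtPrime p))
    (ResidueField (Localization.AtPrime p) ⊗[Localization.AtPrime p]
        (Localization.AtPrime p ⊗[R] A)) r hD
  obtain ⟨ξ₁, t₁, ht₁, hξ₁⟩ := exists_lift_fibre R A p x
  obtain ⟨hs₁, hd₁⟩ := regular_smul (ResidueField (Localization.AtPrime p)) x _
    (residue_algebraMap_ne_zero R p t₁ ht₁) r hxs hxd
  rw [← hξ₁] at hs₁ hd₁
  -- the monic polynomial over the local ring
  obtain ⟨P, hPm, hPdeg, hPξ⟩ := exists_monic_of_regular (Localization.AtPrime p)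
    (Localization.AtPrime p ⊗[R] A) r hA ((1 : Localization.AtPrime p) ⊗ₜ[R] ξ₁) hs₁ hd₁
  -- scale the roots to get integral coefficients
  have hlifts := IsLocalization.scaleRoots_commonDenom_mem_lifts p.primeCompl P
    (by rw [hPm.leadingCoeff]; exact one_mem _)
  obtain ⟨P₀, hP₀map, hP₀deg, hP₀m⟩ :=
    lifts_and_natDegree_eq_and_monic hlifts ((monic_scaleRoots_iff _).mpr hPm)
  rw [natDegree_scaleRoots, hPdeg] at hP₀deg
  obtain ⟨t₂, ht₂⟩ : ∃ t₂ : p.primeCompl,
      t₂ = IsLocalization.commonDenom p.primeCompl P.support P.coeff := ⟨_, rfl⟩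
  rw [← ht₂] at hP₀map
  have hξ₂ : ((1 : Localization.AtPrime p) ⊗ₜ[R] ((t₂ : R) • ξ₁) : Localization.AtPrime p ⊗[R] A) =
      algebraMap (Localization.AtPrime p) (Localization.AtPrime p ⊗[R] A)
        (algebraMap R (Localization.AtPrime p) t₂) * ((1 : Localization.AtPrime p) ⊗ₜ[R] ξ₁) := by
    rw [TensorProduct.tmul_smul, ← algebraMap_smul (Localization.AtPrime p)]
    exact Algebra.smul_def (R := Localization.AtPrime p) (A := Localization.AtPrime p ⊗[R] A)
      (algebraMap R (Localization.AtPrime p) t₂) ((1 : Localization.AtPrime p) ⊗ₜ[R] ξ₁)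
  have hroot : aeval ((1 : Localization.AtPrime p) ⊗ₜ[R] ((t₂ : R) • ξ₁) :
      Localization.AtPrime p ⊗[R] A) (P₀.map (algebraMap R (Localization.AtPrime p))) = 0 := by
    rw [hP₀map, hξ₂]
    exact scaleRoots_aeval_eq_zero hPξ
  obtain ⟨hs₂, hd₂⟩ := regular_smul (ResidueField (Localization.AtPrime p))
    ((1 : ResidueField (Localization.AtPrime p)) ⊗ₜ[Localization.AtPrime p]
      ((1 : Localization.AtPrime p) ⊗ₜ[R] ξ₁)) _
    (residue_algebraMap_ne_zero R p t₂ t₂.2) r hs₁ hd₁
  rw [← one_tmul_one_tmul_smul] at hs₂ hd₂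
  have hsep := separable_of_regular (Localization.AtPrime p) (Localization.AtPrime p ⊗[R] A) r
    ((1 : Localization.AtPrime p) ⊗ₜ[R] ((t₂ : R) • ξ₁)) hs₂ hd₂
    (P₀.map (algebraMap R (Localization.AtPrime p))) (hP₀m.map _)
    (by rw [hP₀m.natDegree_map, hP₀deg]) hroot
  -- the fibre basis
  obtain ⟨wbar, b, hb⟩ := exists_fibre_basis (ResidueField (Localization.AtPrime p))
    (ResidueField (Localization.AtPrime p) ⊗[Localization.AtPrime p]
        (Localization.AtPrime p ⊗[R] A)) r hD _ hs₂ hd₂
  choose w t ht hw using fun s => exists_lift_fibre R A p (wbar s)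
  let b' := b.isUnitSMul
    (w := fun si : Fin r × Fin r =>
      algebraMap (Localization.AtPrime p) (ResidueField (Localization.AtPrime p))
        (algebraMap R (Localization.AtPrime p) (t si.1)))
    (fun si => (residue_algebraMap_ne_zero R p _ (ht si.1)).isUnit)
  refine ⟨r, hr, (t₂ : R) • ξ₁, w, P₀, hP₀m, hP₀deg, hsep, ?_, ?_⟩
  · rw [aeval_map_algebraMap] at hroot
    have h2 := aeval_algHom_apply
      (Algebra.TensorProduct.includeRight : A →ₐ[R] Localization.AtPrime p ⊗[R] A)
      ((t₂ : R) • ξ₁) P₀
    rw [Algebra.TensorProduct.includeRight_apply, Algebra.TensorProduct.includeRight_apply,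
      hroot] at h2
    exact h2.symm
  · apply IsLocalRing.linearCombination_bijective_of_flat
    have hfun : (TensorProduct.mk (Localization.AtPrime p) (ResidueField (Localization.AtPrime p))
        (Localization.AtPrime p ⊗[R] A) 1 ∘ fun si : Fin r × Fin r =>
          ((1 : Localization.AtPrime p) ⊗ₜ[R] (w si.1 * ((t₂ : R) • ξ₁) ^ (si.2 : ℕ)) :
            Localization.AtPrime p ⊗[R] A)) = b' := by
      funext si
      rw [Basis.isUnitSMul_apply, hb, ← smul_mul_assoc, ← hw]
      show (1 : ResidueField (Localization.AtPrime p)) ⊗ₜ[Localization.AtPrime p]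
        ((1 : Localization.AtPrime p) ⊗ₜ[R] (w si.1 * ((t₂ : R) • ξ₁) ^ (si.2 : ℕ))) = _
      rw [Algebra.TensorProduct.tmul_pow, one_pow, Algebra.TensorProduct.tmul_pow, one_pow,
        Algebra.TensorProduct.tmul_mul_tmul, one_mul, Algebra.TensorProduct.tmul_mul_tmul, one_mul]
    rw [hfun]
    refine ⟨b'.linearIndependent, ?_⟩
    rw [← LinearMap.range_eq_top, Finsupp.range_linearCombination, b'.span_eq]

end main

end Groth.Agent.Lib.RegEltH6
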