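import Mathlib
import Groth.Agent.Lib.RegElt12_helper6
import Groth.Agent.Lib.RegElt13_helper6
import Groth.Agent.Lib.RegElt15_helper6

/-!
# An Azumaya algebra is split by a finite étale cover of a neighbourhood of any prime (helper6)
-/

namespace Groth.Agent.Lib.RegEltH6

open Polynomial Module TensorProduct IsLocalRing

universe u

/-- `T ⊗[S] (S ⊗[R] B) ≃ₐ[T] T ⊗[R] B` for a possibly noncommutative `B`. -/
noncomputable def cancelBaseChangeAlg (R S T : Type*) [CommRing R] [CommRing S] [CommRing T]
    [Algebra R S] [Algebra R T] [Algebra S T] [IsScalarTower R S T] (B : Type*) [Ring B]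
    [Algebra R B] : T ⊗[S] (S ⊗[R] B) ≃ₐ[T] T ⊗[R] B :=
  AlgEquiv.symm <| AlgEquiv.ofLinearEquiv
    (TensorProduct.AlgebraTensorModule.cancelBaseChange R S T T B).symm
    (by simp [Algebra.TensorProduct.one_def]) <|
      LinearMap.map_mul_of_map_mul_tmul (fun _ _ _ _ ↦ by simp)

section main

open Groth.Agent.Lib.AzumayaBaseChange Groth.Agent.Lib.AzumayaFibre

theorem split_near_prime (R : Type u) [CommRing R] (A : Type u) [Ring A] [Algebra R A]
    [IsAzumaya R A] (p : Ideal R) [p.IsPrime] :
    ∃ f : R, f ∉ p ∧ ∃ (R' : Type u) (_ : CommRing R') (_ : Algebra R R')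
      (_ : Algebra (Localization.Away f) R') (_ : IsScalarTower R (Localization.Away f) R'),
      Module.Finite (Localization.Away f) R' ∧ Algebra.Etale (Localization.Away f) R' ∧
      Module.FaithfullyFlat (Localization.Away f) R' ∧
      ∃ r : ℕ, 1 ≤ r ∧ Nonempty ((R' ⊗[R] A) ≃ₐ[R'] Matrix (Fin r) (Fin r) R') := by
  classical
  obtain ⟨r, hr, ξ, w, P, hPm, hPdeg, hsep, hroot, hbij⟩ := exists_global_data R A p
  haveI : Module.Finite R A := IsAzumaya.toFinite
  haveI : Module.Projective R A := IsAzumaya.toProjective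
  haveI : Module.FinitePresentation R A := Module.finitePresentation_of_projective R A
  -- spreading out
  obtain ⟨⟨t₁, ht₁p⟩, ht₁⟩ := (IsLocalizedModule.eq_zero_iff p.primeCompl
    (TensorProduct.mk R (Localization.AtPrime p) A 1)).mp hroot
  obtain ⟨s, hs, a₀, b₀, hbez⟩ :=
    exists_bezout_of_separable_map p.primeCompl (Localization.AtPrime p) P hsep
  obtain ⟨g, hg, hg'⟩ := exists_bijective_linearCombination_away p
    (fun si : Fin r × Fin r => w si.1 * ξ ^ (si.2 : ℕ)) hbij
  have hf : t₁ * s * g ∉ p := p.primeCompl.mul_mem (p.primeCompl.mul_mem ht₁p hs) hg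
  obtain ⟨f, hfdef⟩ : ∃ f : R, f = t₁ * s * g := ⟨_, rfl⟩
  rw [← hfdef] at hf
  have hfu : IsUnit (algebraMap R (Localization.Away f) f) :=
    IsLocalization.Away.algebraMap_isUnit f
  have hu₁ : IsUnit (algebraMap R (Localization.Away f) t₁) :=
    isUnit_of_dvd_unit (map_dvd _ ⟨s * g, by rw [hfdef]; ring⟩) hfu
  have hu₂ : IsUnit (algebraMap R (Localization.Away f) s) :=
    isUnit_of_dvd_unit (map_dvd _ ⟨t₁ * g, by rw [hfdef]; ring⟩) hfu
  have hgf : g ∣ f := ⟨t₁ * s, by rw [hfdef]; ring⟩
  haveI : Nontrivial (Localization.Away f) := by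
    by_contra hnt
    rw [not_nontrivial_iff_subsingleton] at hnt
    have h0 := (IsLocalization.subsingleton_iff (M := Submonoid.powers f)
      (S := Localization.Away f)).mp hnt
    obtain ⟨n, hn⟩ := h0
    have h1 : f ^ n ∈ p := by
      have h2 : f ^ n = 0 := hn
      rw [h2]
      exact p.zero_mem
    exact hf (Ideal.IsPrime.mem_of_pow_mem inferInstance n h1)
  -- the data over `R_f`
  have hPfm : (P.map (algebraMap R (Localization.Away f))).Monic := hPm.map _
  have hPfdeg : (P.map (algebraMap R (Localization.Away f))).natDegree = r := by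
    rw [hPm.natDegree_map, hPdeg]
  have hPfsep : (P.map (algebraMap R (Localization.Away f))).Separable :=
    separable_map_of_bezout (Localization.Away f) P s hu₂ a₀ b₀ hbez
  have hrootf : aeval ((1 : Localization.Away f) ⊗ₜ[R] ξ : Localization.Away f ⊗[R] A)
      (P.map (algebraMap R (Localization.Away f))) = 0 := by
    rw [aeval_map_algebraMap]
    have h2 := aeval_algHom_apply
      (Algebra.TensorProduct.includeRight : A →ₐ[R] Localization.Away f ⊗[R] A) ξ P
    rw [Algebra.TensorProduct.includeRight_apply, Algebra.TensorProduct.includeRight_apply] at h2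
    rw [h2]
    exact one_tmul_eq_zero_of_isUnit (Localization.Away f) t₁ hu₁ _ ht₁
  have hbijf := hg' f hgf
  have hli : LinearIndependent (Localization.Away f) (fun si : Fin r × Fin r =>
      ((1 : Localization.Away f) ⊗ₜ[R] (w si.1 * ξ ^ (si.2 : ℕ)) :
        Localization.Away f ⊗[R] A)) := hbijf.1
  have hsp : ⊤ ≤ Submodule.span (Localization.Away f) (Set.range (fun si : Fin r × Fin r =>
      ((1 : Localization.Away f) ⊗ₜ[R] (w si.1 * ξ ^ (si.2 : ℕ)) :
        Localization.Away f ⊗[R] A))) := by
    rw [← Finsupp.range_linearCombination, LinearMap.range_eq_top.mpr hbijf.2]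
  have hbf : ∀ si : Fin r × Fin r, (Basis.mk hli hsp) si =
      ((1 : Localization.Away f) ⊗ₜ[R] w si.1 : Localization.Away f ⊗[R] A) *
        ((1 : Localization.Away f) ⊗ₜ[R] ξ) ^ (si.2 : ℕ) := by
    intro si
    rw [Basis.mk_apply, Algebra.TensorProduct.tmul_pow, one_pow,
      Algebra.TensorProduct.tmul_mul_tmul, one_mul]
  haveI : IsAzumaya (Localization.Away f) (Localization.Away f ⊗[R] A) :=
    isAzumaya_baseChange R (Localization.Away f) A
  obtain ⟨e⟩ := split_of_basis (Localization.Away f) (Localization.Away f ⊗[R] A) r hr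
    (P.map (algebraMap R (Localization.Away f))) hPfm hPfdeg _ hrootf
    (fun s => (1 : Localization.Away f) ⊗ₜ[R] w s) (Basis.mk hli hsp) hbf
  -- the cover
  let pb := AdjoinRoot.powerBasis' hPfm
  haveI : Module.Free (Localization.Away f)
      (AdjoinRoot (P.map (algebraMap R (Localization.Away f)))) := Module.Free.of_basis pb.basis
  haveI : Module.Finite (Localization.Away f)
      (AdjoinRoot (P.map (algebraMap R (Localization.Away f)))) := Module.Finite.of_basis pb.basis
  have hfrE : finrank (Localization.Away f)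
      (AdjoinRoot (P.map (algebraMap R (Localization.Away f)))) = r := by
    rw [Module.finrank_eq_card_basis pb.basis, Fintype.card_fin]
    exact hPfdeg
  haveI : Nontrivial (AdjoinRoot (P.map (algebraMap R (Localization.Away f)))) :=
    Module.nontrivial_of_finrank_pos (R := Localization.Away f) (by rw [hfrE]; exact hr)
  refine ⟨f, hf, AdjoinRoot (P.map (algebraMap R (Localization.Away f))), inferInstance,
    inferInstance, inferInstance, inferInstance, inferInstance,
    etale_adjoinRoot _ hPfm hPfsep, inferInstance, r, hr, ?_⟩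
  exact ⟨(cancelBaseChangeAlg R (Localization.Away f)
    (AdjoinRoot (P.map (algebraMap R (Localization.Away f)))) A).symm.trans e⟩

end main

end Groth.Agent.Lib.RegEltH6
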