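import Mathlib
import Groth.Agent.Lib.RegElt16_helper6
import Groth.Agent.Lib.LGAz1_helper6

/-!
# A faithfully flat splitting of an Azumaya algebra of constant rank `n²` (helper6)
-/

set_option autoImplicit false

namespace Groth.Agent.Lib.TPowH6

open TensorProduct Module

universe u

section local_

variable (R : Type u) [CommRing R] (A : Type u) [Ring A] [Algebra R A] [IsAzumaya R A] (n : ℕ)

/-- local splitting data near a prime, as an `R`-algebra. -/
theorem split_near_prime' (hrk : ∀ p : PrimeSpectrum R, rankAtStalk (R := R) A p = n ^ 2)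
    (p : Ideal R) [p.IsPrime] :
    ∃ f : R, f ∉ p ∧ ∃ (R' : Type u) (_ : CommRing R') (_ : Algebra R R'), Module.Flat R R' ∧
      (∀ m : Ideal R, m.IsPrime → f ∉ m → (m • ⊤ : Submodule R R') ≠ ⊤) ∧
      Nonempty (A →ₐ[R] Matrix (Fin n) (Fin n) R') := by
  obtain ⟨f, hf, R', _, _, _, _, hfin, het, hff, r, hr, ⟨e⟩⟩ :=
    Groth.Agent.Lib.RegEltH6.split_near_prime R A p
  haveI : Module.Finite R A := IsAzumaya.toFinite
  haveI : Module.Projective R A := IsAzumaya.toProjective
  have hflat : Module.Flat R R' := Module.Flat.trans R (Localization.Away f) R'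
  have hne : ∀ m : Ideal R, m.IsPrime → f ∉ m → (m • ⊤ : Submodule R R') ≠ ⊤ := by
    intro m hm hfm htop
    have hdisj : Disjoint (Submonoid.powers f : Set R) (m : Set R) := by
      rw [Set.disjoint_left]
      rintro _ ⟨k, rfl⟩ hk
      exact hfm (hm.mem_of_pow_mem k hk)
    have hm' : m.map (algebraMap R (Localization.Away f)) ≠ ⊤ :=
      (IsLocalization.map_algebraMap_ne_top_iff_disjoint (Submonoid.powers f)
        (Localization.Away f) m).mpr hdisj
    have h1 := ((Module.FaithfullyFlat.iff_flat_and_proper_ideal (Localization.Away f) R').mp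
      hff).2 _ hm'
    apply h1
    rw [eq_top_iff]
    intro x _
    have hx : x ∈ (m • ⊤ : Submodule R R') := by rw [htop]; exact Submodule.mem_top
    refine Submodule.smul_induction_on hx ?_ ?_
    · intro a ha y _
      rw [← algebraMap_smul (Localization.Away f) a y]
      exact Submodule.smul_mem_smul (Ideal.mem_map_of_mem _ ha) Submodule.mem_top
    · intro y z hy hz
      exact Submodule.add_mem _ hy hz
  -- `r = n`
  have hR'nt : Nontrivial R' := by
    by_contra hnt
    rw [not_nontrivial_iff_subsingleton] at hnt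
    apply hne p inferInstance hf
    rw [eq_top_iff]
    intro x _
    rw [Subsingleton.elim x 0]
    exact Submodule.zero_mem _
  have hrn : r = n := by
    obtain ⟨q⟩ : Nonempty (PrimeSpectrum R') := inferInstance
    have h1 : rankAtStalk (R' ⊗[R] A) q = n ^ 2 := by
      rw [rankAtStalk_baseChange, hrk]
    have h2 : rankAtStalk (Matrix (Fin r) (Fin r) R') q = r ^ 2 := by
      rw [rankAtStalk_eq_finrank_of_free, Module.finrank_matrix]
      simp [pow_two]
    rw [rankAtStalk_eq_of_equiv e.toLinearEquiv, h2] at h1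
    exact Nat.pow_left_injective (by norm_num : 2 ≠ 0) h1
  subst hrn
  exact ⟨f, hf, R', inferInstance, inferInstance, hflat, hne,
    ⟨(e.toAlgHom.restrictScalars R).comp Algebra.TensorProduct.includeRight⟩⟩

end local_

section pi

variable {R : Type*} [CommRing R] {A : Type*} [Ring A] [Algebra R A] {ι : Type*}
  (R' : ι → Type*) [∀ i, CommRing (R' i)] [∀ i, Algebra R (R' i)] {n : ℕ}

theorem matrix_pi_ext {M N : Matrix (Fin n) (Fin n) (∀ i, R' i)}
    (h : ∀ i, M.map (Pi.evalRingHom R' i) = N.map (Pi.evalRingHom R' i)) : M = N := by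
  ext j k i
  have := congrFun (congrFun (h i) j) k
  simpa using this

/-- a family of algebra maps into matrix algebras gives an algebra map into matrices over the
product. -/
noncomputable def matrixPiHom (Φ : ∀ i, A →ₐ[R] Matrix (Fin n) (Fin n) (R' i)) :
    A →ₐ[R] Matrix (Fin n) (Fin n) (∀ i, R' i) where
  toFun a := Matrix.of fun j k i => Φ i a j k
  map_one' := by
    apply matrix_pi_ext
    intro i
    rw [Matrix.map_one _ (map_zero _) (map_one _)]
    ext j k
    simp
  map_mul' a b := by
    apply matrix_pi_ext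
    intro i
    rw [Matrix.map_mul]
    ext j k
    simp [Matrix.mul_apply]
  map_zero' := by
    ext j k i
    simp
  map_add' a b := by
    ext j k i
    simp
  commutes' r := by
    apply matrix_pi_ext
    intro i
    ext j k
    simp [Matrix.algebraMap_matrix_apply]
    split_ifs <;> simp

end pi

section global

variable (R : Type u) [CommRing R] (A : Type u) [Ring A] [Algebra R A] [IsAzumaya R A] (n : ℕ)

theorem exists_splitting (hrk : ∀ p : PrimeSpectrum R, rankAtStalk (R := R) A p = n ^ 2) :
    ∃ (S : Type u) (_ : CommRing S) (_ : Algebra R S), Module.FaithfullyFlat R S ∧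
      Nonempty (A →ₐ[R] Matrix (Fin n) (Fin n) S) := by
  classical
  choose f hf R' instCR instAlg hflat hne hΦ using
    fun p : PrimeSpectrum R => split_near_prime' R A n hrk p.asIdeal
  have hspan : Ideal.span (Set.range f) = ⊤ := by
    by_contra hne'
    obtain ⟨m, hm, hle⟩ := Ideal.exists_le_maximal _ hne'
    exact hf ⟨m, hm.isPrime⟩ (hle (Ideal.subset_span ⟨⟨m, hm.isPrime⟩, rfl⟩))
  have h1 : (1 : R) ∈ Ideal.span (Set.range f) := hspan ▸ Submodule.mem_top
  obtain ⟨c, hc⟩ := (Finsupp.mem_span_range_iff_exists_finsupp).mp h1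
  have hcover : ∀ m : Ideal R, m.IsMaximal → ∃ p ∈ c.support, f p ∉ m := by
    intro m hm
    by_contra hcon
    push_neg at hcon
    apply hm.ne_top
    rw [Ideal.eq_top_iff_one, ← hc]
    refine Ideal.sum_mem _ fun p hp => ?_
    exact Ideal.mul_mem_left _ _ (hcon p hp)
  letI := instCR
  letI := instAlg
  haveI : ∀ p : c.support, Module.Flat R (R' p.1) := fun p => hflat p.1
  refine ⟨∀ p : c.support, R' p.1, inferInstance, inferInstance, ?_,
    ⟨matrixPiHom (fun p : c.support => R' p.1) (fun p => (hΦ p.1).some)⟩⟩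
  haveI : Module.Flat R (∀ p : c.support, R' p.1) :=
    Module.Flat.of_linearEquiv (DFinsupp.linearEquivFunOnFintype (R := R)
      (M := fun p : c.support => R' p.1)).symm
  refine ⟨fun m hm htop => ?_⟩
  obtain ⟨p₀, hp₀, hfm⟩ := hcover m hm
  apply hne p₀ m hm.isPrime hfm
  rw [eq_top_iff]
  intro y _
  have hy : (Pi.single (⟨p₀, hp₀⟩ : c.support) y : ∀ p : c.support, R' p.1) ∈
      (m • ⊤ : Submodule R (∀ p : c.support, R' p.1)) := by rw [htop]; exact Submodule.mem_top
  have h2 := Groth.Agent.Lib.LGAzH6.map_mem_smul_top m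
    (LinearMap.proj (⟨p₀, hp₀⟩ : c.support) :
      (∀ p : c.support, R' p.1) →ₗ[R] R' (⟨p₀, hp₀⟩ : c.support).1) hy
  simpa using h2

end global

end Groth.Agent.Lib.TPowH6
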