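import Mathlib
import Groth.Agent.Lib.AzInv14_helper6
import Groth.Agent.Lib.RInvHens_helper3
import Groth.Agent.Lib.TPow11_helper6

/-!
# Azumaya algebras over a ring with involution whose fixed ring is strictly henselian split
(helper6)
-/

set_option autoImplicit false
universe u v

open TensorProduct IsLocalRing

namespace Groth.Agent.Lib.AzInvH6

theorem matHom_of_strictHenselian (S₀ : Type u) (R₀ : Type v) [CommRing S₀] [CommRing R₀]
    [Algebra S₀ R₀] (lam : R₀ ≃+* R₀) (hlam : Function.Involutive lam)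
    (hS : RInv.IsFixedRing S₀ R₀ lam) [HenselianLocalRing S₀] [IsSepClosed (ResidueField S₀)]
    (B : Type v) [Ring B] [Algebra R₀ B] [IsAzumaya R₀ B] (n : ℕ) (hn : 0 < n)
    (hrk : ∀ p : PrimeSpectrum R₀, Module.rankAtStalk (R := R₀) B p = n ^ 2) :
    Nonempty (B →ₐ[R₀] Matrix (Fin n) (Fin n) R₀) := by
  classical
  haveI : Module.Finite R₀ B := IsAzumaya.toFinite
  haveI : Module.Projective R₀ B := IsAzumaya.toProjective
  obtain ⟨ι, _, T, _, hT, hsep, ⟨e⟩⟩ := Groth.Agent.Lib.RInvHensH3.main hlam hS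
  letI algT : ∀ i, Algebra R₀ (T i) := fun i =>
    ((Pi.evalRingHom T i).comp (e : R₀ →+* ∀ i, T i)).toAlgebra
  have halg : ∀ (i : ι) (r : R₀), algebraMap R₀ (T i) r = e r i := fun i r => rfl
  have hφ : ∀ i, Nonempty (B →ₐ[R₀] Matrix (Fin n) (Fin n) (T i)) := by
    intro i
    haveI := hT i
    haveI := hsep i
    haveI : IsAzumaya (T i) (T i ⊗[R₀] B) :=
      Groth.Agent.Lib.AzumayaBaseChange.isAzumaya_baseChange R₀ (T i) B
    obtain ⟨ei⟩ := split_of_strictHenselian (T i) (T i ⊗[R₀] B) n hn (fun p => by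
      rw [Module.rankAtStalk_baseChange, hrk])
    exact ⟨(ei.toAlgHom.restrictScalars R₀).comp Algebra.TensorProduct.includeRight⟩
  let Φ := Groth.Agent.Lib.TPowH6.matrixPiHom T (fun i => (hφ i).some)
  let e' : (∀ i, T i) ≃ₐ[R₀] R₀ := AlgEquiv.ofRingEquiv (f := e.symm) (by
    intro r
    show e.symm (algebraMap R₀ (∀ i, T i) r) = r
    have : algebraMap R₀ (∀ i, T i) r = e r := by
      funext i
      rw [Pi.algebraMap_apply, halg]
    rw [this, RingEquiv.symm_apply_apply])
  exact ⟨e'.toAlgHom.mapMatrix.comp Φ⟩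

end Groth.Agent.Lib.AzInvH6
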