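import Mathlib
import Groth.Agent.Lib.AzInv4_helper6
import Groth.Agent.Lib.StrictHens5_helper3

/-!
# The strict henselization as a directed approximation (helper6)
-/

set_option autoImplicit false
set_option maxSynthPendingDepth 3
universe u

open TensorProduct IsLocalRing

namespace Groth.Agent.Lib.AzInvH6

open Groth.Agent.Lib.StrictHensH3

section

variable (S : Type u) [CommRing S] (B : Type u) [CommRing B] [IsLocalRing B] [Algebra S B]
  (Ω : Type u) [Field Ω] [Algebra B Ω] [Algebra (ResidueField B) Ω]
  [IsScalarTower B (ResidueField B) Ω]

/-- the `S`-algebra structure on the strict henselization of the `S`-algebra `B` -/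
@[reducible] noncomputable def algSH : Algebra S (SH B Ω) :=
  ((algebraMap B (SH B Ω)).comp (algebraMap S B)).toAlgebra

attribute [local instance] algSH

instance : IsScalarTower S B (SH B Ω) := IsScalarTower.of_algebraMap_eq (fun _ => rfl)

/-- the strict henselization as a directed approximation -/
noncomputable def shApprox : Approx.{u, u, u} S (SH B Ω) where
  ι := Idx B Ω
  pre := inferInstance
  dir := inferInstance
  ne := inferInstance
  obj i := i.A
  ring _ := inferInstance
  alg _ := inferInstance
  tr h := (tr h).restrictScalars S
  of i := (ofHₐ i).restrictScalars S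
  of_tr h x := ofH_tr h x
  tr_tr {i j k} hij hjk x := by
    show tr hjk (tr hij x) = tr (hij.trans hjk) x
    rw [tr_eq (hij.trans hjk) ((tr hjk).comp (tr hij)) (by
      rw [← AlgHom.comp_assoc, lpt_comp_tr, lpt_comp_tr])]
    rfl
  exists_of := exists_ofH
  of_eq_zero x hx := ofH_eq_zero hx

end

end Groth.Agent.Lib.AzInvH6
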