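import Mathlib
import Groth.Prelude.Def_EssEt

namespace Groth.Agent.Lib.EssEtTransH4

open TensorProduct

universe u

/-- spreading out étaleness at a prime to a principal open -/
theorem exists_etale_away (A C₃ : Type u) [CommRing A] [CommRing C₃] [Algebra A C₃]
    [Algebra.FinitePresentation A C₃] (p : Ideal C₃) [p.IsPrime] [Algebra.IsEtaleAt A p] :
    ∃ (E : Type u) (_ : CommRing E) (_ : Algebra A E) (q : Ideal E) (_ : q.IsPrime),
      Algebra.Etale A E ∧ Nonempty (Localization.AtPrime q ≃ₐ[A] Localization.AtPrime p) := by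
  obtain ⟨h, hh, hEt⟩ := Algebra.exists_etale_of_isEtaleAt (R := A) p
  have hdisj : Disjoint (Submonoid.powers h : Set C₃) (p : Set C₃) :=
    (Ideal.disjoint_powers_iff_notMem_of_isPrime h).mpr hh
  haveI hprime : (p.map (algebraMap C₃ (Localization.Away h))).IsPrime :=
    IsLocalization.isPrime_of_isPrime_disjoint (Submonoid.powers h) _ p inferInstance hdisj
  have hcm : (p.map (algebraMap C₃ (Localization.Away h))).comap
      (algebraMap C₃ (Localization.Away h)) = p :=
    IsLocalization.under_map_of_isPrime_disjoint (Submonoid.powers h) _ inferInstance hdisj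
  refine ⟨Localization.Away h, inferInstance, inferInstance,
    p.map (algebraMap C₃ (Localization.Away h)), hprime, hEt, ?_⟩
  haveI : IsLocalization.AtPrime
      (Localization.AtPrime (p.map (algebraMap C₃ (Localization.Away h))))
      ((p.map (algebraMap C₃ (Localization.Away h))).comap
        (algebraMap C₃ (Localization.Away h))) :=
    IsLocalization.isLocalization_isLocalization_atPrime_isLocalization (Submonoid.powers h) _
      (p.map (algebraMap C₃ (Localization.Away h)))
  let κ₁ : Localization.AtPrime (p.map (algebraMap C₃ (Localization.Away h))) ≃ₐ[A]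
      Localization.AtPrime ((p.map (algebraMap C₃ (Localization.Away h))).comap
        (algebraMap C₃ (Localization.Away h))) :=
    ((IsLocalization.algEquiv ((p.map (algebraMap C₃ (Localization.Away h))).comap
        (algebraMap C₃ (Localization.Away h))).primeCompl
      (Localization.AtPrime ((p.map (algebraMap C₃ (Localization.Away h))).comap
        (algebraMap C₃ (Localization.Away h))))
      (Localization.AtPrime (p.map (algebraMap C₃ (Localization.Away h))))).symm).restrictScalars A
  let κ₂ : Localization.AtPrime ((p.map (algebraMap C₃ (Localization.Away h))).comap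
        (algebraMap C₃ (Localization.Away h))) ≃ₐ[A] Localization.AtPrime p :=
    Localization.localAlgEquiv _ p (AlgEquiv.refl : C₃ ≃ₐ[A] C₃)
      (hcm.trans (by ext x; simp [Ideal.mem_comap]))
  exact ⟨κ₁.trans κ₂⟩

/-- the model of a presentation over a ring of coefficients, and its localisation property -/
theorem model_isLocalizedModule {R₀ B C₂ : Type u} [CommRing R₀] [CommRing B] [CommRing C₂]
    [Algebra R₀ B] [Algebra B C₂] [Algebra R₀ C₂] [IsScalarTower R₀ B C₂]
    (M₀ : Submonoid R₀) [IsLocalization M₀ B]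
    {ι σ : Type} [Finite ι] [Finite σ] (P : Algebra.Presentation B C₂ ι σ) [P.HasCoeffs R₀] :
    ∃ φ : P.ModelOfHasCoeffs R₀ →ₐ[R₀] C₂, IsLocalizedModule M₀ φ.toLinearMap := by
  let ε := P.tensorModelOfHasCoeffsEquiv R₀
  let εl : (B ⊗[R₀] P.ModelOfHasCoeffs R₀) ≃ₗ[R₀] C₂ := (ε.toLinearEquiv).restrictScalars R₀
  let φ : P.ModelOfHasCoeffs R₀ →ₐ[R₀] C₂ :=
    ((ε.restrictScalars R₀).toAlgHom).comp Algebra.TensorProduct.includeRight
  refine ⟨φ, ?_⟩
  have h := IsLocalizedModule.of_linearEquiv M₀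
    (TensorProduct.mk R₀ B (P.ModelOfHasCoeffs R₀) 1) εl
  have hlin : φ.toLinearMap = εl ∘ₗ (TensorProduct.mk R₀ B (P.ModelOfHasCoeffs R₀) 1) :=
    LinearMap.ext (fun _ => rfl)
  rw [hlin]
  exact h

theorem core2 (A R₀ B C₂ : Type u) [CommRing A] [CommRing R₀] [CommRing B] [CommRing C₂]
    [Algebra A R₀] [Algebra A B] [Algebra R₀ B] [IsScalarTower A R₀ B]
    [Algebra B C₂] [Algebra A C₂] [IsScalarTower A B C₂] [Algebra R₀ C₂] [IsScalarTower R₀ B C₂]
    [Algebra.FinitePresentation A R₀] (M₀ : Submonoid R₀) [IsLocalization M₀ B]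
    [Algebra.FormallyEtale A B] [Algebra.Etale B C₂] (q₂ : Ideal C₂) [q₂.IsPrime]
    {ι σ : Type} [Finite ι] [Finite σ] (P : Algebra.Presentation B C₂ ι σ) [P.HasCoeffs R₀] :
    ∃ (E : Type u) (_ : CommRing E) (_ : Algebra A E) (q : Ideal E) (_ : q.IsPrime),
      Algebra.Etale A E ∧ Nonempty (Localization.AtPrime q ≃ₐ[A] Localization.AtPrime q₂) := by
  obtain ⟨φ, hφ⟩ := model_isLocalizedModule M₀ P
  letI algC₃C₂ : Algebra (P.ModelOfHasCoeffs R₀) C₂ := φ.toRingHom.toAlgebra
  haveI tow1 : IsScalarTower R₀ (P.ModelOfHasCoeffs R₀) C₂ :=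
    IsScalarTower.of_algebraMap_eq (R := R₀) (S := P.ModelOfHasCoeffs R₀) (A := C₂)
      (fun r => (φ.commutes r).symm)
  haveI tow0 : IsScalarTower A R₀ C₂ := by
    refine IsScalarTower.of_algebraMap_eq (fun a => ?_)
    rw [IsScalarTower.algebraMap_apply A B C₂, IsScalarTower.algebraMap_apply A R₀ B,
      ← IsScalarTower.algebraMap_apply R₀ B C₂]
  haveI tow2 : IsScalarTower A (P.ModelOfHasCoeffs R₀) C₂ := by
    refine IsScalarTower.of_algebraMap_eq (R := A) (S := P.ModelOfHasCoeffs R₀) (A := C₂)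
      (fun a => ?_)
    rw [IsScalarTower.algebraMap_apply A R₀ C₂,
      IsScalarTower.algebraMap_apply A R₀ (P.ModelOfHasCoeffs R₀),
      ← IsScalarTower.algebraMap_apply R₀ (P.ModelOfHasCoeffs R₀) C₂]
  have hlin : (IsScalarTower.toAlgHom R₀ (P.ModelOfHasCoeffs R₀) C₂).toLinearMap =
      φ.toLinearMap := LinearMap.ext (fun _ => rfl)
  haveI hloc : IsLocalization (Algebra.algebraMapSubmonoid (P.ModelOfHasCoeffs R₀) M₀) C₂ :=
    isLocalizedModule_iff_isLocalization.mp (by rw [hlin]; exact hφ)
  haveI : IsLocalization.AtPrime (Localization.AtPrime q₂)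
      (q₂.comap (algebraMap (P.ModelOfHasCoeffs R₀) C₂)) :=
    IsLocalization.isLocalization_isLocalization_atPrime_isLocalization
      (Algebra.algebraMapSubmonoid (P.ModelOfHasCoeffs R₀) M₀) _ q₂
  let κ : Localization.AtPrime (q₂.comap (algebraMap (P.ModelOfHasCoeffs R₀) C₂)) ≃ₐ[A]
      Localization.AtPrime q₂ :=
    (IsLocalization.algEquiv (q₂.comap (algebraMap (P.ModelOfHasCoeffs R₀) C₂)).primeCompl
      (Localization.AtPrime (q₂.comap (algebraMap (P.ModelOfHasCoeffs R₀) C₂)))
      (Localization.AtPrime q₂)).restrictScalars A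
  haveI : Algebra.FormallyEtale A C₂ := Algebra.FormallyEtale.comp A B C₂
  haveI : Algebra.FormallyEtale C₂ (Localization.AtPrime q₂) :=
    Algebra.FormallyEtale.of_isLocalization q₂.primeCompl
  haveI : Algebra.FormallyEtale A (Localization.AtPrime q₂) :=
    Algebra.FormallyEtale.comp A C₂ _
  haveI : Algebra.IsEtaleAt A (q₂.comap (algebraMap (P.ModelOfHasCoeffs R₀) C₂)) :=
    Algebra.FormallyEtale.of_equiv κ.symm
  haveI : Algebra.FinitePresentation A (P.ModelOfHasCoeffs R₀) :=
    Algebra.FinitePresentation.trans A R₀ _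
  obtain ⟨E, _, _, q, _, hE, ⟨κ'⟩⟩ := exists_etale_away A (P.ModelOfHasCoeffs R₀)
    (q₂.comap (algebraMap (P.ModelOfHasCoeffs R₀) C₂))
  exact ⟨E, inferInstance, inferInstance, q, inferInstance, hE, ⟨κ'.trans κ⟩⟩

theorem core (A C₁ B C₂ : Type u) [CommRing A] [CommRing C₁] [CommRing B] [CommRing C₂]
    [Algebra A C₁] [Algebra A B] [Algebra C₁ B] [IsScalarTower A C₁ B]
    [Algebra B C₂] [Algebra A C₂] [IsScalarTower A B C₂]
    [Algebra.Etale A C₁] (q₁ : Ideal C₁) [q₁.IsPrime] [IsLocalization.AtPrime B q₁]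
    [Algebra.Etale B C₂] (q₂ : Ideal C₂) [q₂.IsPrime] :
    ∃ (E : Type u) (_ : CommRing E) (_ : Algebra A E) (q : Ideal E) (_ : q.IsPrime),
      Algebra.Etale A E ∧ Nonempty (Localization.AtPrime q ≃ₐ[A] Localization.AtPrime q₂) := by
  classical
  obtain ⟨g, hg⟩ := IsLocalization.exist_integer_multiples_of_finset q₁.primeCompl
    (Algebra.Presentation.ofFinitePresentation B C₂).finite_coeffs.toFinset
  have hgunit : IsUnit (algebraMap C₁ B (g : C₁)) := IsLocalization.map_units B g
  letI algR₀B : Algebra (Localization.Away (g : C₁)) B :=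
    (IsLocalization.Away.lift (g : C₁) hgunit).toAlgebra
  haveI tow1 : IsScalarTower C₁ (Localization.Away (g : C₁)) B :=
    IsScalarTower.of_algebraMap_eq
      (fun c => (IsLocalization.Away.lift_eq (g : C₁) hgunit c).symm)
  haveI tow2 : IsScalarTower A (Localization.Away (g : C₁)) B := by
    refine IsScalarTower.of_algebraMap_eq (fun a => ?_)
    rw [IsScalarTower.algebraMap_apply A C₁ B,
      IsScalarTower.algebraMap_apply A C₁ (Localization.Away (g : C₁)),
      ← IsScalarTower.algebraMap_apply C₁ (Localization.Away (g : C₁)) B]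
  letI algR₀C₂ : Algebra (Localization.Away (g : C₁)) C₂ :=
    ((algebraMap B C₂).comp (algebraMap (Localization.Away (g : C₁)) B)).toAlgebra
  haveI tow3 : IsScalarTower (Localization.Away (g : C₁)) B C₂ :=
    IsScalarTower.of_algebraMap_eq (fun _ => rfl)
  haveI : Algebra.FinitePresentation C₁ (Localization.Away (g : C₁)) :=
    IsLocalization.Away.finitePresentation (g : C₁)
  haveI : Algebra.FinitePresentation A C₁ := inferInstance
  haveI : Algebra.FinitePresentation A (Localization.Away (g : C₁)) :=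
    Algebra.FinitePresentation.trans A C₁ _
  haveI : IsLocalization (q₁.primeCompl.map (algebraMap C₁ (Localization.Away (g : C₁)))) B :=
    IsLocalization.isLocalization_of_submonoid_le (Localization.Away (g : C₁)) B
      (Submonoid.powers (g : C₁)) q₁.primeCompl
      (by rw [Submonoid.powers_le]; exact g.2)
  haveI : Algebra.FormallyEtale C₁ B := Algebra.FormallyEtale.of_isLocalization q₁.primeCompl
  haveI : Algebra.FormallyEtale A B := Algebra.FormallyEtale.comp A C₁ B
  haveI : (Algebra.Presentation.ofFinitePresentation B C₂).HasCoeffs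
      (Localization.Away (g : C₁)) := ⟨by
    intro b hb
    obtain ⟨r, hr⟩ := hg b
      ((Algebra.Presentation.ofFinitePresentation B C₂).finite_coeffs.mem_toFinset.mpr hb)
    refine ⟨IsLocalization.mk' _ r ⟨(g : C₁), Submonoid.mem_powers _⟩, ?_⟩
    rw [RingHom.algebraMap_toAlgebra, IsLocalization.Away.lift, IsLocalization.lift_mk'_spec]
    rw [hr, Algebra.smul_def]⟩
  exact core2 A (Localization.Away (g : C₁)) B C₂
    (q₁.primeCompl.map (algebraMap C₁ (Localization.Away (g : C₁)))) q₂
    (Algebra.Presentation.ofFinitePresentation B C₂)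

theorem main (A : Type u) [CommRing A] [IsLocalRing A]
    (B : Type u) [CommRing B] [IsLocalRing B] [Algebra A B]
    (C : Type u) [CommRing C] [Algebra B C] [Algebra A C] [IsScalarTower A B C]
    (hB : EGA4loc.IsEssentiallyEtale A B) (hC : EGA4loc.IsEssentiallyEtale B C) :
    EGA4loc.IsEssentiallyEtale A C := by
  obtain ⟨C₁, _, _, q₁, _, hC₁, hq₁, ⟨e₁⟩⟩ := hB
  obtain ⟨C₂, _, _, q₂, _, hC₂, hq₂, ⟨e₂⟩⟩ := hC
  letI algC₁B : Algebra C₁ B :=
    ((e₁.symm : Localization.AtPrime q₁ →+* B).comp
      (algebraMap C₁ (Localization.AtPrime q₁))).toAlgebra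
  haveI tow1 : IsScalarTower A C₁ B := by
    refine IsScalarTower.of_algebraMap_eq (fun a => ?_)
    show algebraMap A B a =
      e₁.symm (algebraMap C₁ (Localization.AtPrime q₁) (algebraMap A C₁ a))
    rw [← IsScalarTower.algebraMap_apply A C₁ (Localization.AtPrime q₁), e₁.symm.commutes]
  haveI : IsLocalization.AtPrime B q₁ :=
    IsLocalization.isLocalization_of_algEquiv q₁.primeCompl
      (AlgEquiv.ofRingEquiv (f := e₁.symm.toRingEquiv) (fun c => rfl) :
        Localization.AtPrime q₁ ≃ₐ[C₁] B)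
  letI algAC₂ : Algebra A C₂ := ((algebraMap B C₂).comp (algebraMap A B)).toAlgebra
  haveI tow2 : IsScalarTower A B C₂ := IsScalarTower.of_algebraMap_eq (fun _ => rfl)
  obtain ⟨E, _, _, q, _, hE, ⟨κ⟩⟩ := core A C₁ B C₂ q₁ q₂
  refine ⟨E, inferInstance, inferInstance, q, inferInstance, hE, ?_,
    ⟨(e₂.restrictScalars A).trans κ.symm⟩⟩
  ext a
  rw [Ideal.mem_comap]
  have h1 : algebraMap A E a ∈ q ↔ ¬ IsUnit (algebraMap A (Localization.AtPrime q) a) := by
    rw [IsScalarTower.algebraMap_apply A E (Localization.AtPrime q),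
      IsLocalization.AtPrime.isUnit_to_map_iff (Localization.AtPrime q) q,
      Ideal.mem_primeCompl_iff, not_not]
  have h2 : IsUnit (algebraMap A (Localization.AtPrime q) a) ↔
      IsUnit (algebraMap A (Localization.AtPrime q₂) a) := by
    constructor
    · intro h
      have := h.map κ
      rwa [κ.commutes] at this
    · intro h
      have := h.map κ.symm
      rwa [κ.symm.commutes] at this
  have h3 : IsUnit (algebraMap A (Localization.AtPrime q₂) a) ↔ algebraMap A C₂ a ∉ q₂ := by
    rw [IsScalarTower.algebraMap_apply A C₂ (Localization.AtPrime q₂),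
      IsLocalization.AtPrime.isUnit_to_map_iff (Localization.AtPrime q₂) q₂,
      Ideal.mem_primeCompl_iff]
  have h4 : algebraMap A C₂ a ∈ q₂ ↔ ¬ IsUnit (algebraMap A B a) := by
    have : algebraMap A C₂ a ∈ q₂ ↔ algebraMap A B a ∈ q₂.comap (algebraMap B C₂) := Iff.rfl
    rw [this, hq₂, IsLocalRing.mem_maximalIdeal, mem_nonunits_iff]
  have h5 : IsUnit (algebraMap A B a) ↔ algebraMap A C₁ a ∉ q₁ := by
    rw [IsScalarTower.algebraMap_apply A C₁ B,
      IsLocalization.AtPrime.isUnit_to_map_iff B q₁, Ideal.mem_primeCompl_iff]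
  have h6 : algebraMap A C₁ a ∈ q₁ ↔ a ∈ IsLocalRing.maximalIdeal A := by
    rw [← hq₁, Ideal.mem_comap]
  rw [h1, h2, h3, not_not, h4, h5, not_not, h6]

end Groth.Agent.Lib.EssEtTransH4
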