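import Mathlib
import Groth.Agent.Lib.AzInv10_helper6
import Groth.Agent.Lib.AzInv13_helper6
import Groth.Agent.Lib.AzInv15_helper6
import Groth.Agent.Lib.AzInv16_helper6
import Groth.Agent.Lib.AzInv12_helper6
import Groth.Agent.Lib.EssEtTrans_helper4

/-!
# S17356 core: Azumaya algebras over a ring with involution split etale-locally on the fixed ring
(helper6)
-/

set_option autoImplicit false
set_option maxSynthPendingDepth 3
universe u v w

open TensorProduct IsLocalRing

namespace Groth.Agent.Lib.AzInvH6

open Groth.Agent.Lib.StrictHensH3

attribute [local instance] Algebra.TensorProduct.rightAlgebra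

theorem comap_eq_of_algEquiv (S : Type u) [CommRing S] {E : Type u} [CommRing E] [Algebra S E]
    (Q : Ideal E) [Q.IsPrime] {B : Type u} [CommRing B] [IsLocalRing B] [Algebra S B]
    {L : Type u} [CommRing L] [IsLocalRing L] [Algebra S L] [Algebra B L] [IsScalarTower S B L]
    [IsLocalHom (algebraMap B L)] (κ : Localization.AtPrime Q ≃ₐ[S] L) :
    Q.comap (algebraMap S E) = (maximalIdeal B).comap (algebraMap S B) := by
  ext s
  rw [Ideal.mem_comap, Ideal.mem_comap, mem_maximalIdeal, mem_nonunits_iff]
  have h1 : algebraMap S E s ∈ Q ↔ ¬ IsUnit (algebraMap S (Localization.AtPrime Q) s) := by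
    rw [IsScalarTower.algebraMap_apply S E (Localization.AtPrime Q),
      ← IsLocalization.AtPrime.to_map_mem_maximal_iff (Localization.AtPrime Q) Q,
      mem_maximalIdeal, mem_nonunits_iff]
  have h2 : IsUnit (algebraMap S (Localization.AtPrime Q) s) ↔ IsUnit (algebraMap S L s) := by
    constructor
    · intro h
      have := h.map κ
      rwa [AlgEquiv.commutes] at this
    · intro h
      have := h.map κ.symm
      rwa [AlgEquiv.commutes] at this
  have h3 : IsUnit (algebraMap S L s) ↔ IsUnit (algebraMap S B s) := by
    rw [IsScalarTower.algebraMap_apply S B L]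
    exact isUnit_map_iff (algebraMap B L) _
  rw [h1, h2, h3]

section

variable (S : Type u) (R : Type v) [CommRing S] [CommRing R] [Algebra S R]
  (lam : R ≃ₐ[S] R) (hlam : ∀ r, lam (lam r) = r) (hfix : RInv.IsFixedRing S R lam.toRingEquiv)
  (A : Type v) [Ring A] [Algebra R A] [IsAzumaya R A] (n : ℕ) (hn : 0 < n)
  (hrk : ∀ p : PrimeSpectrum R, Module.rankAtStalk (R := R) A p = n ^ 2)
include hlam hfix hn hrk

/-- splitting over the strict henselization of `S_q` -/
theorem matHom_sh (q : Ideal S) [q.IsPrime] :
    letI := algSH S (Localization.AtPrime q)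
      (SeparableClosure (ResidueField (Localization.AtPrime q)))
    MatHom (S := S) R A n (SH (Localization.AtPrime q)
      (SeparableClosure (ResidueField (Localization.AtPrime q)))) := by
  letI := algSH S (Localization.AtPrime q)
    (SeparableClosure (ResidueField (Localization.AtPrime q)))
  haveI : Module.Flat S (SH (Localization.AtPrime q)
      (SeparableClosure (ResidueField (Localization.AtPrime q)))) :=
    Module.Flat.trans S (Localization.AtPrime q) _
  haveI : IsSepClosed (ResidueField (SH (Localization.AtPrime q)
      (SeparableClosure (ResidueField (Localization.AtPrime q))))) :=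
    (isSepClosure_sh (R := Localization.AtPrime q)
      (Ω := SeparableClosure (ResidueField (Localization.AtPrime q)))).sep_closed
  have hfixT := isFixedRing_lamT S R lam hlam hfix (SH (Localization.AtPrime q)
      (SeparableClosure (ResidueField (Localization.AtPrime q))))
  have hinvT : Function.Involutive (lamT S lam (SH (Localization.AtPrime q)
      (SeparableClosure (ResidueField (Localization.AtPrime q))))).toRingEquiv :=
    fun x => lamT_invol S lam _ hlam x
  haveI : IsAzumaya (SH (Localization.AtPrime q)
      (SeparableClosure (ResidueField (Localization.AtPrime q))) ⊗[S] R)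
      ((SH (Localization.AtPrime q)
      (SeparableClosure (ResidueField (Localization.AtPrime q))) ⊗[S] R) ⊗[R] A) :=
    Groth.Agent.Lib.AzumayaBaseChange.isAzumaya_baseChange R _ A
  haveI : Module.Finite R A := IsAzumaya.toFinite
  haveI : Module.Projective R A := IsAzumaya.toProjective
  obtain ⟨Φ⟩ := matHom_of_strictHenselian (SH (Localization.AtPrime q)
      (SeparableClosure (ResidueField (Localization.AtPrime q))))
    (SH (Localization.AtPrime q)
      (SeparableClosure (ResidueField (Localization.AtPrime q))) ⊗[S] R) _ hinvT hfixT
    ((SH (Localization.AtPrime q)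
      (SeparableClosure (ResidueField (Localization.AtPrime q))) ⊗[S] R) ⊗[R] A) n hn
    (fun p => by rw [Module.rankAtStalk_baseChange, hrk])
  exact ⟨(Φ.restrictScalars R).comp Algebra.TensorProduct.includeRight⟩

/-- an etale neighbourhood of `q` splitting `A` -/
theorem matHom_local (q : Ideal S) [q.IsPrime] :
    ∃ (T : Type u) (_ : CommRing T) (_ : Algebra S T), Algebra.Etale S T ∧
      MatHom (S := S) R A n T ∧
      ∃ Q : Ideal T, Q.IsPrime ∧ Q.comap (algebraMap S T) = q := by
  letI := algSH S (Localization.AtPrime q)
    (SeparableClosure (ResidueField (Localization.AtPrime q)))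
  haveI : Module.Flat S (SH (Localization.AtPrime q)
      (SeparableClosure (ResidueField (Localization.AtPrime q)))) :=
    Module.Flat.trans S (Localization.AtPrime q) _
  haveI : Module.Finite R A := IsAzumaya.toFinite
  haveI : Module.Projective R A := IsAzumaya.toProjective
  have h1 := matHom_sh S R lam hlam hfix A n hn hrk q
  obtain ⟨i, hi⟩ : ∃ i : Idx (Localization.AtPrime q)
      (SeparableClosure (ResidueField (Localization.AtPrime q))),
      MatHom (S := S) R A n i.A :=
    MatHom.descend (shApprox S (Localization.AtPrime q)
      (SeparableClosure (ResidueField (Localization.AtPrime q)))) h1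
  obtain ⟨E, _, _, Q, _, hE, ⟨κ⟩⟩ := Groth.Agent.Lib.EssEtTransH4.core S S (Localization.AtPrime q)
    i.C q (RingHom.ker i.pt)
  haveI := hE
  have h2 : MatHom (S := S) R A n (Localization.AtPrime Q) := MatHom.map κ.symm.toAlgHom hi
  haveI : Module.Flat S E := Algebra.Smooth.flat S E
  haveI : Module.Flat S (Localization.AtPrime Q) := Module.Flat.trans S E _
  obtain ⟨g, hg⟩ : ∃ g : ZIdx E Q, MatHom (S := S) R A n (Localization.Away g.val) :=
    MatHom.descend (zarApprox S E Q) h2
  haveI : Algebra.Etale E (Localization.Away g.val) := Algebra.Etale.of_isLocalizationAway g.val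
  haveI : Algebra.Etale S (Localization.Away g.val) := Algebra.Etale.comp S E _
  obtain ⟨Q', hQ', hQ'c⟩ := exists_prime_away S E Q g.val g.prop
  refine ⟨Localization.Away g.val, inferInstance, inferInstance, inferInstance, hg, Q', hQ', ?_⟩
  rw [hQ'c, comap_eq_of_algEquiv S Q (B := Localization.AtPrime q) κ]
  exact IsLocalization.AtPrime.comap_maximalIdeal (Localization.AtPrime q) q

end

end Groth.Agent.Lib.AzInvH6
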