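import Mathlib

/-!
# Tensor products of Azumaya algebras are Azumaya (helper6)
-/

namespace Groth.Agent.Lib.AzumayaTensor

open scoped TensorProduct
open MulOpposite

universe u v w

section

variable (R : Type u) [CommRing R]
variable (A : Type v) [Ring A] [Algebra R A] [IsAzumaya R A]
variable (B : Type w) [Ring B] [Algebra R B] [IsAzumaya R B]

/-- the rearrangement `(A ⊗ Aᵐᵒᵖ) ⊗ (B ⊗ Bᵐᵒᵖ) ≃ (A ⊗ B) ⊗ (A ⊗ B)ᵐᵒᵖ`. -/
noncomputable def theta :
    (A ⊗[R] Aᵐᵒᵖ) ⊗[R] (B ⊗[R] Bᵐᵒᵖ) ≃ₗ[R] (A ⊗[R] B) ⊗[R] (A ⊗[R] B)ᵐᵒᵖ :=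
  (TensorProduct.tensorTensorTensorComm R A Aᵐᵒᵖ B Bᵐᵒᵖ).trans
    (TensorProduct.congr (LinearEquiv.refl R (A ⊗[R] B))
      (Algebra.TensorProduct.opAlgEquiv R R A B).toLinearEquiv)

theorem theta_tmul (a : A) (a' : Aᵐᵒᵖ) (b : B) (b' : Bᵐᵒᵖ) :
    theta R A B ((a ⊗ₜ[R] a') ⊗ₜ[R] (b ⊗ₜ[R] b')) =
      (a ⊗ₜ[R] b) ⊗ₜ[R] op (a'.unop ⊗ₜ[R] b'.unop) := rfl

theorem key :
    (AlgHom.mulLeftRight R (A ⊗[R] B)).toLinearMap ∘ₗ (theta R A B).toLinearMap =
      (TensorProduct.homTensorHomMap (RingHom.id R) A B A B) ∘ₗ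
        TensorProduct.map (AlgHom.mulLeftRight R A).toLinearMap
          (AlgHom.mulLeftRight R B).toLinearMap := by
  apply TensorProduct.ext_fourfold'
  intro a a' b b'
  apply TensorProduct.ext'
  intro x y
  simp only [LinearMap.comp_apply, LinearEquiv.coe_toLinearMap, theta_tmul, AlgHom.toLinearMap_apply,
    AlgHom.mulLeftRight_apply, TensorProduct.map_tmul, TensorProduct.homTensorHomMap_apply,
    unop_op, Algebra.TensorProduct.tmul_mul_tmul]

theorem mulLeftRight_bijective :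
    Function.Bijective (AlgHom.mulLeftRight R (A ⊗[R] B)) := by
  obtain ⟨eA, heA⟩ : ∃ eA : (A ⊗[R] Aᵐᵒᵖ) ≃ₗ[R] Module.End R A,
      ∀ x, eA x = AlgHom.mulLeftRight R A x :=
    ⟨LinearEquiv.ofBijective (AlgHom.mulLeftRight R A).toLinearMap IsAzumaya.bij, fun x => rfl⟩
  obtain ⟨eB, heB⟩ : ∃ eB : (B ⊗[R] Bᵐᵒᵖ) ≃ₗ[R] Module.End R B,
      ∀ x, eB x = AlgHom.mulLeftRight R B x :=
    ⟨LinearEquiv.ofBijective (AlgHom.mulLeftRight R B).toLinearMap IsAzumaya.bij, fun x => rfl⟩
  have hmap : ∀ s, TensorProduct.map (AlgHom.mulLeftRight R A).toLinearMap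
      (AlgHom.mulLeftRight R B).toLinearMap s = TensorProduct.congr eA eB s := by
    intro s
    induction s using TensorProduct.induction_on with
    | zero => simp
    | tmul x y => rw [TensorProduct.map_tmul, TensorProduct.congr_tmul, heA, heB]; rfl
    | add x y hx hy => rw [map_add, map_add, hx, hy]
  have h1 : ∀ t, AlgHom.mulLeftRight R (A ⊗[R] B) t =
      (((theta R A B).symm.trans (TensorProduct.congr eA eB)).trans
        (homTensorHomEquiv R A B A B)) t := by
    intro t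
    obtain ⟨s, rfl⟩ := (theta R A B).surjective t
    have h2 := congrArg (fun f => f s) (key R A B)
    simp only [LinearMap.comp_apply, LinearEquiv.coe_toLinearMap, AlgHom.toLinearMap_apply] at h2
    rw [h2, LinearEquiv.trans_apply, LinearEquiv.trans_apply, LinearEquiv.symm_apply_apply,
      homTensorHomEquiv_apply, hmap]
  have h3 : ⇑(AlgHom.mulLeftRight R (A ⊗[R] B)) =
      ⇑(((theta R A B).symm.trans (TensorProduct.congr eA eB)).trans
        (homTensorHomEquiv R A B A B)) := funext h1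
  rw [h3]
  exact LinearEquiv.bijective _

theorem faithful : FaithfulSMul R (A ⊗[R] B) := by
  rw [faithfulSMul_iff_algebraMap_injective]
  have hA : Function.Injective (algebraMap R A) := FaithfulSMul.algebraMap_injective R A
  have hB : Function.Injective (algebraMap R B) := FaithfulSMul.algebraMap_injective R B
  have h1 : Function.Injective ((Algebra.linearMap R B).lTensor A) :=
    Module.Flat.lTensor_preserves_injective_linearMap _ hB
  intro r s hrs
  apply hA
  have h2 : ∀ r : R, algebraMap R (A ⊗[R] B) r =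
      (Algebra.linearMap R B).lTensor A ((algebraMap R A r) ⊗ₜ[R] (1 : R)) := by
    intro r
    rw [LinearMap.lTensor_tmul, Algebra.linearMap_apply, map_one,
      Algebra.TensorProduct.algebraMap_apply]
  rw [h2, h2] at hrs
  have h3 := h1 hrs
  have h4 := congrArg (TensorProduct.rid R A) h3
  simpa using h4

theorem isAzumaya_tensor : IsAzumaya R (A ⊗[R] B) := by
  haveI := faithful R A B
  exact { bij := mulLeftRight_bijective R A B }

end

end Groth.Agent.Lib.AzumayaTensor
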