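import Mathlib
import Groth.Agent.Lib.LGAz4_helper6

/-!
# Indecomposable projective modules over an Azumaya algebra over a connected LG-ring (helper6)
-/

namespace Groth.Agent.Lib.LGAzH6

open Module

universe u v w w'

theorem bijective_of_comp_bijective_of_indecomposable {A : Type v} [Ring A]
    {P : Type w} [AddCommGroup P] [Module A P] {Q : Type w'} [AddCommGroup Q] [Module A Q]
    [Nontrivial Q] (hP : ∀ e : Module.End A P, IsIdempotentElem e → e = 0 ∨ e = 1)
    (φ : P →ₗ[A] Q) (ψ : Q →ₗ[A] P) (hb : Function.Bijective (φ ∘ₗ ψ)) :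
    Function.Bijective φ := by
  let θ : Q ≃ₗ[A] Q := LinearEquiv.ofBijective (φ ∘ₗ ψ) hb
  have hθ : ∀ y, φ (ψ (θ.symm y)) = y := fun y => θ.apply_symm_apply y
  have hθ' : ∀ y, θ.symm (φ (ψ y)) = y := fun y => θ.symm_apply_apply y
  let e : Module.End A P := ψ ∘ₗ θ.symm.toLinearMap ∘ₗ φ
  have he : IsIdempotentElem e := by
    apply LinearMap.ext
    intro x
    show ψ (θ.symm (φ (ψ (θ.symm (φ x))))) = ψ (θ.symm (φ x))
    rw [hθ]
  rcases hP e he with h0 | h1
  · exfalso
    obtain ⟨y, hy⟩ := exists_ne (0 : Q)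
    apply hy
    have h2 : e (ψ (θ.symm y)) = 0 := by rw [h0]; rfl
    have h3 : φ (e (ψ (θ.symm y))) = y := by
      show φ (ψ (θ.symm (φ (ψ (θ.symm y))))) = y
      rw [hθ, hθ]
    rw [← h3, h2, map_zero]
  · constructor
    · rw [← LinearMap.ker_eq_bot, LinearMap.ker_eq_bot']
      intro x hx
      have h2 : e x = x := by rw [h1]; rfl
      rw [← h2]
      show ψ (θ.symm (φ x)) = 0
      rw [hx, map_zero, map_zero]
    · intro y
      obtain ⟨z, hz⟩ := hb.2 y
      exact ⟨ψ z, hz⟩

variable {R : Type u} [CommRing R] {A : Type v} [Ring A] [Algebra R A]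
  (P : Type w) [AddCommGroup P] [Module R P] [Module A P] [IsScalarTower R A P]
  (Q : Type w') [AddCommGroup Q] [Module R Q] [Module A Q] [IsScalarTower R A Q]

theorem nonempty_linearEquiv_of_indecomposable (hR : LGRing.IsLGRing R)
    [ConnectedSpace (PrimeSpectrum R)] [IsAzumaya R A]
    [Module.Finite A P] [Module.Projective A P] [Nontrivial P]
    [Module.Finite A Q] [Module.Projective A Q] [Nontrivial Q]
    (hP : ∀ e : Module.End A P, IsIdempotentElem e → e = 0 ∨ e = 1)
    (hQ : ∀ e : Module.End A Q, IsIdempotentElem e → e = 0 ∨ e = 1) :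
    Nonempty (P ≃ₗ[A] Q) := by
  haveI : Module.Finite R A := IsAzumaya.toFinite
  haveI : Module.Projective R A := IsAzumaya.toProjective
  haveI : Module.Finite R P := Module.Finite.trans A P
  haveI : Module.Finite R Q := Module.Finite.trans A Q
  haveI : Module.Projective R P := projective_of_tower R A P
  haveI : Module.Projective R Q := projective_of_tower R A Q
  haveI : Module.FinitePresentation R P := Module.finitePresentation_of_projective R P
  haveI : Module.FinitePresentation R Q := Module.finitePresentation_of_projective R Q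
  have hcP := Module.isLocallyConstant_rankAtStalk (R := R) (M := P)
  have hcQ := Module.isLocallyConstant_rankAtStalk (R := R) (M := Q)
  obtain ⟨p₀⟩ := (inferInstance : Nonempty (PrimeSpectrum R))
  have hP' : ∀ p, rankAtStalk P p = rankAtStalk P p₀ :=
    fun p => hcP.apply_eq_of_preconnectedSpace p p₀
  have hQ' : ∀ p, rankAtStalk Q p = rankAtStalk Q p₀ :=
    fun p => hcQ.apply_eq_of_preconnectedSpace p p₀
  rcases le_total (rankAtStalk Q p₀) (rankAtStalk P p₀) with hle | hle
  · obtain ⟨φ, ψ, hb⟩ := exists_comp_bijective (R := R) (A := A) (M := P) (N := Q) hR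
      (fun m hm => by
        obtain ⟨φ, ψ, h1, -⟩ := exists_fibre_maps R A P Q m (by rw [hP', hQ']; exact hle)
        exact ⟨φ, ψ, h1⟩)
    exact ⟨LinearEquiv.ofBijective φ
      (bijective_of_comp_bijective_of_indecomposable hP φ ψ hb)⟩
  · obtain ⟨φ, ψ, hb⟩ := exists_comp_bijective (R := R) (A := A) (M := Q) (N := P) hR
      (fun m hm => by
        obtain ⟨φ, ψ, h1, -⟩ := exists_fibre_maps R A Q P m (by rw [hP', hQ']; exact hle)
        exact ⟨φ, ψ, h1⟩)
    exact ⟨(LinearEquiv.ofBijective φ
      (bijective_of_comp_bijective_of_indecomposable hQ φ ψ hb)).symm⟩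

end Groth.Agent.Lib.LGAzH6
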