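import Mathlib
import Groth.Agent.Lib.LGAz5_helper6
import Groth.Agent.Lib.AzumayaTensor_helper6

/-!
# Column modules over matrix algebras and cancellation of matrix algebras over LG-rings (helper6)
-/

namespace Groth.Agent.Lib.LGAzH6

open Module MulOpposite
open scoped Matrix.Module

universe u v w w'

section col

variable {R : Type u} [CommRing R] {S : Type v} [Ring S] [Algebra R S] {B : Type w} [Ring B]
  [Algebra R B] {n : ℕ}

/-- the column module `Bⁿ` as a module over `S ≃ Mₙ(B)`. -/
@[nolint unusedArguments]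
def Col (_e : S ≃ₐ[R] Matrix (Fin n) (Fin n) B) : Type w := Fin n → B

variable (e : S ≃ₐ[R] Matrix (Fin n) (Fin n) B)

instance : AddCommGroup (Col e) := inferInstanceAs (AddCommGroup (Fin n → B))
instance : Module R (Col e) := inferInstanceAs (Module R (Fin n → B))
instance : Module S (Col e) :=
  Module.compHom (Fin n → B) (e : S →+* Matrix (Fin n) (Fin n) B)

theorem Col.smul_apply (s : S) (v : Col e) (i : Fin n) :
    (s • v) i = ∑ j, e s i j * v j := rfl

theorem Col.rsmul_apply (r : R) (v : Col e) (i : Fin n) :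
    (r • v) i = r • v i := rfl

theorem Col.add_apply (v v' : Col e) (i : Fin n) :
    (v + v') i = v i + v' i := rfl

instance : IsScalarTower R S (Col e) := ⟨fun r s v => by
  funext i
  rw [Col.smul_apply, Col.rsmul_apply, Col.smul_apply, Finset.smul_sum]
  refine Finset.sum_congr rfl (fun j _ => ?_)
  rw [map_smul, Matrix.smul_apply, smul_mul_assoc]⟩

/-- the matrix with a given column at position `k₀`. -/
def colMat (k₀ : Fin n) (v : Fin n → B) : Matrix (Fin n) (Fin n) B :=
  Matrix.of fun i j => if j = k₀ then v i else 0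

theorem colMat_apply (k₀ : Fin n) (v : Fin n → B) (i j : Fin n) :
    colMat k₀ v i j = if j = k₀ then v i else 0 := rfl

theorem mul_colMat (k₀ : Fin n) (X : Matrix (Fin n) (Fin n) B) (v : Fin n → B) :
    X * colMat k₀ v = colMat k₀ (fun i => ∑ j, X i j * v j) := by
  ext i j
  rw [Matrix.mul_apply, colMat_apply]
  by_cases hj : j = k₀
  · simp only [colMat_apply, hj, if_true]
  · simp only [colMat_apply, hj, if_false, mul_zero, Finset.sum_const_zero]

/-- inclusion of the column module into `S`. -/
noncomputable def Col.incl (k₀ : Fin n) : Col e →ₗ[S] S where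
  toFun v := e.symm (colMat k₀ v)
  map_add' v v' := by
    rw [← map_add]
    congr 1
    ext i j
    simp only [colMat_apply, Matrix.add_apply, Col.add_apply]
    split_ifs <;> simp
  map_smul' s v := by
    rw [RingHom.id_apply, smul_eq_mul]
    apply e.injective
    rw [map_mul, AlgEquiv.apply_symm_apply, AlgEquiv.apply_symm_apply, mul_colMat]
    rfl

/-- projection of `S` onto the column module. -/
noncomputable def Col.proj (k₀ : Fin n) : S →ₗ[S] Col e where
  toFun X := fun i => e X i k₀
  map_add' X Y := by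
    funext i
    rw [map_add]
    rfl
  map_smul' s X := by
    funext i
    rw [RingHom.id_apply, smul_eq_mul, map_mul, Matrix.mul_apply, Col.smul_apply]

theorem Col.proj_incl (k₀ : Fin n) (v : Col e) : Col.proj e k₀ (Col.incl e k₀ v) = v := by
  funext i
  show e (e.symm (colMat k₀ v)) i k₀ = v i
  rw [AlgEquiv.apply_symm_apply, colMat_apply, if_pos rfl]

theorem Col.finite (k₀ : Fin n) : Module.Finite S (Col e) :=
  Module.Finite.of_surjective (Col.proj e k₀) (fun v => ⟨_, Col.proj_incl e k₀ v⟩)

theorem Col.projective (k₀ : Fin n) : Module.Projective S (Col e) :=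
  Module.Projective.of_split (Col.incl e k₀) (Col.proj e k₀)
    (LinearMap.ext (Col.proj_incl e k₀))

/-- right multiplication on columns. -/
def Col.rmul (b : B) : Module.End S (Col e) where
  toFun v := fun i => v i * b
  map_add' v v' := by
    funext i
    show (v i + v' i) * b = _
    rw [add_mul]
    rfl
  map_smul' s v := by
    funext i
    show (∑ j, e s i j * v j) * b = ∑ j, e s i j * (v j * b)
    rw [Finset.sum_mul]
    exact Finset.sum_congr rfl (fun j _ => mul_assoc _ _ _)

theorem Col.rmul_apply (b : B) (v : Col e) (i : Fin n) :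
    Col.rmul e b v i = v i * b := rfl

/-- `Bᵐᵒᵖ → End_S(Bⁿ)`. -/
def Col.endHom : Bᵐᵒᵖ →ₐ[R] Module.End S (Col e) where
  toFun b := Col.rmul e b.unop
  map_one' := by
    apply LinearMap.ext; intro v; funext i
    rw [Col.rmul_apply, unop_one, mul_one]; rfl
  map_mul' b b' := by
    apply LinearMap.ext; intro v; funext i
    rw [Module.End.mul_apply, Col.rmul_apply, Col.rmul_apply, Col.rmul_apply, unop_mul,
      mul_assoc]
  map_zero' := by
    apply LinearMap.ext; intro v; funext i
    rw [Col.rmul_apply, unop_zero, mul_zero]; rfl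
  map_add' b b' := by
    apply LinearMap.ext; intro v; funext i
    rw [LinearMap.add_apply, Col.add_apply]
    show v i * (unop (b + b')) = _
    rw [unop_add, mul_add]
    rfl
  commutes' r := by
    apply LinearMap.ext; intro v; funext i
    rw [Module.algebraMap_end_apply, Col.rmul_apply, Col.rsmul_apply]
    show v i * (algebraMap R B r) = _
    rw [← Algebra.commutes, Algebra.smul_def]

theorem Col.endHom_bijective (k₀ : Fin n) : Function.Bijective (Col.endHom e) := by
  classical
  constructor
  · intro b b' hbb'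
    have h1 := congrFun (LinearMap.congr_fun hbb' (Pi.single k₀ 1 : Fin n → B)) k₀
    change (Pi.single k₀ 1 : Fin n → B) k₀ * b.unop = (Pi.single k₀ 1 : Fin n → B) k₀ * b'.unop
      at h1
    rw [Pi.single_eq_same, one_mul, one_mul] at h1
    exact unop_injective h1
  · intro g
    let c : Col e := g (Pi.single k₀ 1 : Fin n → B)
    refine ⟨op (c k₀), ?_⟩
    apply LinearMap.ext
    intro v
    have hv : v = (e.symm (colMat k₀ v) : S) • (show Col e from (Pi.single k₀ 1 : Fin n → B)) := by
      funext i
      rw [Col.smul_apply, AlgEquiv.apply_symm_apply]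
      simp only [colMat_apply]
      rw [Finset.sum_eq_single k₀]
      · rw [if_pos rfl]
        show v i = v i * (Pi.single k₀ 1 : Fin n → B) k₀
        rw [Pi.single_eq_same, mul_one]
      · intro j _ hj
        rw [if_neg hj, zero_mul]
      · intro h
        exact absurd (Finset.mem_univ _) h
    funext i
    show v i * c k₀ = g v i
    conv_rhs => rw [hv, map_smul]
    rw [Col.smul_apply, AlgEquiv.apply_symm_apply]
    simp only [colMat_apply]
    rw [Finset.sum_eq_single k₀]
    · rw [if_pos rfl]
    · intro j _ hj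
      rw [if_neg hj, zero_mul]
    · intro h
      exact absurd (Finset.mem_univ _) h

/-- `Bᵐᵒᵖ ≃ End_S(Bⁿ)`. -/
noncomputable def Col.endEquiv (k₀ : Fin n) : Bᵐᵒᵖ ≃ₐ[R] Module.End S (Col e) :=
  AlgEquiv.ofBijective (Col.endHom e) (Col.endHom_bijective e k₀)

theorem Col.rankAtStalk_eq [Module.Finite R B] [Module.Flat R B] (p : PrimeSpectrum R) :
    rankAtStalk (Col e) p = n * rankAtStalk B p := by
  show rankAtStalk (Fin n → B) p = n * rankAtStalk B p
  rw [Module.rankAtStalk_pi (fun _ : Fin n => B) p, finsum_eq_sum_of_fintype]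
  simp

end col

section cancel

open Groth.Agent.Lib.AzumayaTensor
open scoped TensorProduct

variable {R : Type u} [CommRing R]

theorem flat_pi_fin (A : Type v) [AddCommGroup A] [Module R A] [Module.Flat R A] (n : ℕ) :
    Module.Flat R (Fin n → A) :=
  Module.Flat.of_linearEquiv (DFinsupp.linearEquivFunOnFintype (R := R)
    (M := fun _ : Fin n => A)).symm

theorem isAzumaya_matrix (A : Type v) [Ring A] [Algebra R A] [IsAzumaya R A] (n : ℕ)
    (hn : 0 < n) : IsAzumaya R (Matrix (Fin n) (Fin n) A) := by
  haveI : Nonempty (Fin n) := ⟨⟨0, hn⟩⟩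
  haveI : IsAzumaya R (Matrix (Fin n) (Fin n) R) := IsAzumaya.matrix R (Fin n)
  haveI : IsAzumaya R (A ⊗[R] Matrix (Fin n) (Fin n) R) :=
    isAzumaya_tensor R A (Matrix (Fin n) (Fin n) R)
  exact IsAzumaya.of_AlgEquiv (e := (matrixEquivTensor (Fin n) R A).symm)

theorem rankAtStalk_matrix (A : Type v) [Ring A] [Algebra R A] [Module.Finite R A]
    [Module.Flat R A] (n : ℕ) (p : PrimeSpectrum R) :
    rankAtStalk (Matrix (Fin n) (Fin n) A) p = n * (n * rankAtStalk A p) := by
  show rankAtStalk (Fin n → Fin n → A) p = _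
  haveI := flat_pi_fin (R := R) A n
  rw [Module.rankAtStalk_pi (fun _ : Fin n => Fin n → A) p, finsum_eq_sum_of_fintype]
  simp only [Module.rankAtStalk_pi (fun _ : Fin n => A) p, finsum_eq_sum_of_fintype,
    Finset.sum_const, Finset.card_univ, Fintype.card_fin, smul_eq_mul]

/-- cancellation of matrix algebras over an LG-ring. -/
theorem nonempty_algEquiv_of_matrix (hR : LGRing.IsLGRing R) (A : Type v) [Ring A]
    [Algebra R A] [IsAzumaya R A] (B : Type w) [Ring B] [Algebra R B] [IsAzumaya R B] (n : ℕ)
    (hn : 0 < n) (e : Matrix (Fin n) (Fin n) A ≃ₐ[R] Matrix (Fin n) (Fin n) B) :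
    Nonempty (A ≃ₐ[R] B) := by
  let k₀ : Fin n := ⟨0, hn⟩
  let e₀ : Matrix (Fin n) (Fin n) A ≃ₐ[R] Matrix (Fin n) (Fin n) A := AlgEquiv.refl
  haveI : IsAzumaya R (Matrix (Fin n) (Fin n) A) := isAzumaya_matrix A n hn
  haveI : Module.Finite R A := IsAzumaya.toFinite
  haveI : Module.Projective R A := IsAzumaya.toProjective
  haveI : Module.Finite R B := IsAzumaya.toFinite
  haveI : Module.Projective R B := IsAzumaya.toProjective
  haveI := Col.finite e₀ k₀
  haveI := Col.projective e₀ k₀
  haveI := Col.finite e k₀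
  haveI := Col.projective e k₀
  have hrank : ∀ p : PrimeSpectrum R, rankAtStalk (Col e) p = rankAtStalk (Col e₀) p := by
    intro p
    rw [Col.rankAtStalk_eq, Col.rankAtStalk_eq]
    have h1 := Module.rankAtStalk_eq_of_equiv (R := R) e.toLinearEquiv
    have h2 := congrFun h1 p
    rw [rankAtStalk_matrix, rankAtStalk_matrix] at h2
    have hn' : n ≠ 0 := Nat.pos_iff_ne_zero.mp hn
    have h3 := Nat.eq_of_mul_eq_mul_left hn h2
    exact h3.symm
  obtain ⟨θ⟩ := nonempty_linearEquiv (R := R) (A := Matrix (Fin n) (Fin n) A) (M := Col e₀)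
    (N := Col e) hR (fun m hm => by
      obtain ⟨φ, ψ, h1, h2⟩ := exists_fibre_maps R (Matrix (Fin n) (Fin n) A) (Col e₀) (Col e) m
        (le_of_eq (hrank _))
      exact ⟨φ, ψ, h1, h2 (hrank _)⟩)
  let E : Aᵐᵒᵖ ≃ₐ[R] Bᵐᵒᵖ :=
    (Col.endEquiv e₀ k₀).trans ((θ.conjAlgEquiv R).trans (Col.endEquiv e k₀).symm)
  exact ⟨AlgEquiv.op.symm E⟩

end cancel

end Groth.Agent.Lib.LGAzH6
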