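import Mathlib
import Groth.Agent.Lib.LGAz6_helper6
import Groth.Agent.Lib.AzumayaBaseChange_helper6
import Groth.Agent.Lib.AzumayaDescent_helper6

/-!
# Trace data of faithfully projective modules; rank of the endomorphism algebra (helper6)
-/

namespace Groth.Agent.Lib.LGAzH6

open Module TensorProduct

universe u v w

section trace

variable (R : Type u) [CommRing R] (Q : Type v) [AddCommGroup Q] [Module R Q]

/-- a faithfully projective module has trace data: functionals `f j` and elements `q j` with
`∑ f j (q j) = 1`. -/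
theorem exists_dual_sum_eq_one [Module.Finite R Q] [Module.Projective R Q] [FaithfulSMul R Q] :
    ∃ (ι : Type) (_ : Fintype ι) (f : ι → Module.Dual R Q) (q : ι → Q),
      ∑ j, f j (q j) = 1 := by
  classical
  have htop : Ideal.span {x : R | ∃ (f : Module.Dual R Q) (b : Q), x = f b} = ⊤ :=
    Groth.Agent.Lib.AzumayaBaseChange.trace_ideal_eq_top R Q _
      (fun f m => Ideal.subset_span ⟨f, m, rfl⟩)
  have key : ∀ x ∈ Ideal.span {x : R | ∃ (f : Module.Dual R Q) (b : Q), x = f b},
      ∃ (ι : Type) (_ : Fintype ι) (f : ι → Module.Dual R Q) (q : ι → Q),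
        ∑ j, f j (q j) = x := by
    intro x hx
    induction hx using Submodule.span_induction with
    | mem y hy =>
      obtain ⟨f, b, rfl⟩ := hy
      exact ⟨Unit, inferInstance, fun _ => f, fun _ => b, by simp⟩
    | zero => exact ⟨Empty, inferInstance, fun e => e.elim, fun e => e.elim, by simp⟩
    | add y z _ _ hy hz =>
      obtain ⟨ι, _, f, q, h1⟩ := hy
      obtain ⟨ι', _, f', q', h2⟩ := hz
      refine ⟨ι ⊕ ι', inferInstance, Sum.elim f f', Sum.elim q q', ?_⟩
      rw [Fintype.sum_sum_type]
      simp [h1, h2]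
    | smul r y _ hy =>
      obtain ⟨ι, _, f, q, h1⟩ := hy
      refine ⟨ι, inferInstance, fun j => r • f j, q, ?_⟩
      simp only [LinearMap.smul_apply]
      rw [← Finset.smul_sum, h1]
  exact key 1 (by rw [htop]; trivial)

end trace

section rank

open Groth.Agent.Lib.AzumayaBaseChange

variable (R : Type u) [CommRing R] (Q : Type v) [AddCommGroup Q] [Module R Q]
  [Module.Finite R Q] [Module.Projective R Q]

theorem rankAtStalk_end (p : PrimeSpectrum R) :
    rankAtStalk (Module.End R Q) p = rankAtStalk Q p * rankAtStalk Q p := by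
  haveI : Module.Finite R (Module.End R Q) := Groth.Agent.Lib.AzumayaDescent.finite_end R Q
  haveI : Module.Projective R (Module.End R Q) :=
    Groth.Agent.Lib.AzumayaDescent.projective_end R Q
  rw [Module.rankAtStalk_eq, Module.rankAtStalk_eq]
  let e : p.asIdeal.ResidueField ⊗[R] (Q →ₗ[R] Q) ≃ₗ[p.asIdeal.ResidueField]
      (p.asIdeal.ResidueField ⊗[R] Q →ₗ[p.asIdeal.ResidueField] p.asIdeal.ResidueField ⊗[R] Q) :=
    LinearEquiv.ofBijective (homBC R p.asIdeal.ResidueField Q Q)
      (homBC_bijective R p.asIdeal.ResidueField Q Q)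
  show finrank p.asIdeal.ResidueField (p.asIdeal.ResidueField ⊗[R] (Q →ₗ[R] Q)) = _
  rw [e.finrank_eq, Module.finrank_linearMap]

end rank

end Groth.Agent.Lib.LGAzH6
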