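import Mathlib
import Groth.Agent.Lib.LGAz7_helper6

/-!
# The module `B ⊗ Q` over `S ≃ B ⊗ End Q` (helper6)
-/

namespace Groth.Agent.Lib.LGAzH6

open Module TensorProduct MulOpposite

universe u v w w'

section tm

variable {R : Type u} [CommRing R] {S : Type v} [Ring S] [Algebra R S] {B : Type w} [Ring B]
  [Algebra R B] {Q : Type w'} [AddCommGroup Q] [Module R Q]

variable (R B Q) in
/-- the action of `B ⊗ End Q` on `B ⊗ Q`. -/
noncomputable def tmAct : B ⊗[R] Module.End R Q →ₐ[R] Module.End R (B ⊗[R] Q) :=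
  (Module.endTensorEndAlgHom (R := R) (S := R) (A := R) (M := B) (N := Q)).comp
    (Algebra.TensorProduct.map (Algebra.lmul R B) (AlgHom.id R (Module.End R Q)))

theorem tmAct_tmul (b b' : B) (f : Module.End R Q) (q : Q) :
    tmAct R B Q (b ⊗ₜ f) (b' ⊗ₜ q) = (b * b') ⊗ₜ f q := rfl

/-- the module `B ⊗ Q` over `S ≃ B ⊗ End Q`. -/
@[nolint unusedArguments]
def TM (_e : S ≃ₐ[R] B ⊗[R] Module.End R Q) : Type _ := B ⊗[R] Q

variable (e : S ≃ₐ[R] B ⊗[R] Module.End R Q)

noncomputable instance : AddCommGroup (TM e) := inferInstanceAs (AddCommGroup (B ⊗[R] Q))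
noncomputable instance : Module R (TM e) := inferInstanceAs (Module R (B ⊗[R] Q))
noncomputable instance : Module S (TM e) :=
  Module.compHom (B ⊗[R] Q) ((tmAct R B Q).toRingHom.comp (e : S →+* B ⊗[R] Module.End R Q))

theorem TM.smul_def (s : S) (x : TM e) : s • x = tmAct R B Q (e s) x := rfl

instance : IsScalarTower R S (TM e) := ⟨fun r s x => by
  rw [TM.smul_def, TM.smul_def, map_smul, map_smul, LinearMap.smul_apply]
  rfl⟩

/-- `b ⊗ q ↦ b ⊗ (x ↦ f x • q)`. -/
noncomputable def TM.inclAux (f : Module.Dual R Q) : B ⊗[R] Q →ₗ[R] B ⊗[R] Module.End R Q :=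
  LinearMap.lTensor B (LinearMap.smulRightₗ f)

theorem TM.inclAux_tmul (f : Module.Dual R Q) (b : B) (q : Q) :
    TM.inclAux (B := B) f (b ⊗ₜ q) = b ⊗ₜ (f.smulRight q) := rfl

theorem TM.inclAux_act (f : Module.Dual R Q) (t : B ⊗[R] Module.End R Q) (x : B ⊗[R] Q) :
    TM.inclAux f (tmAct R B Q t x) = t * TM.inclAux f x := by
  induction t using TensorProduct.induction_on with
  | zero => simp
  | add t t' ht ht' => rw [map_add, LinearMap.add_apply, map_add, ht, ht', add_mul]
  | tmul b φ =>
    induction x using TensorProduct.induction_on with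
    | zero => simp
    | add x x' hx hx' => rw [map_add, map_add, hx, hx', map_add, mul_add]
    | tmul b' q =>
      rw [tmAct_tmul, TM.inclAux_tmul, TM.inclAux_tmul, Algebra.TensorProduct.tmul_mul_tmul]
      congr 1
      apply LinearMap.ext
      intro y
      simp

/-- `κ_f (b ⊗ q) = f q • b`. -/
noncomputable def TM.kap (f : Module.Dual R Q) : B ⊗[R] Q →ₗ[R] B :=
  (TensorProduct.rid R B).toLinearMap ∘ₗ LinearMap.lTensor B f

theorem TM.kap_tmul (f : Module.Dual R Q) (b : B) (q : Q) :
    TM.kap (B := B) f (b ⊗ₜ q) = f q • b := by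
  simp [TM.kap]

theorem TM.act_smulRight (f : Module.Dual R Q) (b : B) (q : Q) (y : B ⊗[R] Q) :
    tmAct R B Q (b ⊗ₜ (f.smulRight q)) y = (b * TM.kap f y) ⊗ₜ q := by
  induction y using TensorProduct.induction_on with
  | zero => simp
  | add y y' hy hy' => rw [map_add, hy, hy', map_add, mul_add, TensorProduct.add_tmul]
  | tmul b' q' =>
    rw [tmAct_tmul, TM.kap_tmul, LinearMap.smulRight_apply, TensorProduct.tmul_smul,
      mul_smul_comm, TensorProduct.smul_tmul']

variable {ι : Type} [Fintype ι] (f : ι → Module.Dual R Q) (q : ι → Q)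

/-- the inclusion `B ⊗ Q → S^ι`. -/
noncomputable def TM.incl : TM e →ₗ[S] (ι → S) where
  toFun x := fun j => e.symm (TM.inclAux (f j) x)
  map_add' x y := by
    funext j
    exact (congrArg e.symm (map_add (TM.inclAux (f j)) (x : B ⊗[R] Q) y)).trans
      (map_add e.symm _ _)
  map_smul' s x := by
    funext j
    rw [RingHom.id_apply, Pi.smul_apply, smul_eq_mul]
    apply e.injective
    rw [map_mul, AlgEquiv.apply_symm_apply, AlgEquiv.apply_symm_apply, TM.smul_def]
    exact TM.inclAux_act (f j) (e s) x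

/-- the projection `S^ι → B ⊗ Q`. -/
noncomputable def TM.proj : (ι → S) →ₗ[S] TM e :=
  ∑ j, (LinearMap.toSpanSingleton S (TM e) ((1 : B) ⊗ₜ[R] q j : B ⊗[R] Q)) ∘ₗ LinearMap.proj j

theorem TM.proj_apply (s : ι → S) :
    TM.proj e q s = ∑ j, s j • (show TM e from ((1 : B) ⊗ₜ[R] q j : B ⊗[R] Q)) := by
  simp [TM.proj, LinearMap.sum_apply]

omit [Algebra R S] in
theorem TM.sum_act (h1 : ∑ j, f j (q j) = 1) (x : B ⊗[R] Q) :
    ∑ j, tmAct R B Q (TM.inclAux (f j) x) ((1 : B) ⊗ₜ[R] q j) = x := by
  induction x using TensorProduct.induction_on with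
  | zero => simp
  | add x y hx hy =>
    simp only [map_add, LinearMap.add_apply, Finset.sum_add_distrib]
    rw [hx, hy]
  | tmul b p =>
    simp only [TM.inclAux_tmul, TM.act_smulRight, TM.kap_tmul, mul_smul_comm, mul_one]
    simp only [← TensorProduct.smul_tmul']
    rw [← Finset.sum_smul, h1, one_smul]

theorem TM.proj_incl (h1 : ∑ j, f j (q j) = 1) (x : TM e) :
    TM.proj e q (TM.incl e f x) = x := by
  rw [TM.proj_apply]
  have h2 : ∀ j, (TM.incl e f x j) • (show TM e from ((1 : B) ⊗ₜ[R] q j : B ⊗[R] Q)) =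
      tmAct R B Q (TM.inclAux (f j) x) ((1 : B) ⊗ₜ[R] q j) := by
    intro j
    rw [TM.smul_def]
    show tmAct R B Q (e (e.symm (TM.inclAux (f j) x))) _ = _
    rw [AlgEquiv.apply_symm_apply]
  simp only [h2]
  exact TM.sum_act f q h1 x

theorem TM.finite (h1 : ∑ j, f j (q j) = 1) : Module.Finite S (TM e) :=
  Module.Finite.of_surjective (TM.proj e q) (fun x => ⟨_, TM.proj_incl e f q h1 x⟩)

theorem TM.projective (h1 : ∑ j, f j (q j) = 1) : Module.Projective S (TM e) :=
  Module.Projective.of_split (TM.incl e f) (TM.proj e q)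
    (LinearMap.ext (TM.proj_incl e f q h1))

/-- right multiplication by `b` on `B ⊗ Q`. -/
noncomputable def TM.rmulAux (b : B) : B ⊗[R] Q →ₗ[R] B ⊗[R] Q :=
  LinearMap.rTensor Q (LinearMap.mulRight R b)

omit [Algebra R S] in
theorem TM.rmulAux_tmul (b b' : B) (p : Q) :
    TM.rmulAux (R := R) (Q := Q) b (b' ⊗ₜ p) = (b' * b) ⊗ₜ p := rfl

omit [Algebra R S] in
theorem TM.rmulAux_act (b : B) (t : B ⊗[R] Module.End R Q) (x : B ⊗[R] Q) :
    TM.rmulAux b (tmAct R B Q t x) = tmAct R B Q t (TM.rmulAux b x) := by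
  induction t using TensorProduct.induction_on with
  | zero => simp
  | add t t' ht ht' =>
    rw [map_add, LinearMap.add_apply, map_add, ht, ht', LinearMap.add_apply]
  | tmul b₁ φ =>
    induction x using TensorProduct.induction_on with
    | zero => simp
    | add x x' hx hx' => rw [map_add, map_add, hx, hx', map_add, map_add]
    | tmul b' p =>
      rw [tmAct_tmul, TM.rmulAux_tmul, TM.rmulAux_tmul, tmAct_tmul, mul_assoc]

/-- right multiplication as an `S`-linear endomorphism. -/
noncomputable def TM.rmul (b : B) : Module.End S (TM e) where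
  toFun x := TM.rmulAux b x
  map_add' x y := map_add (TM.rmulAux b) (x : B ⊗[R] Q) y
  map_smul' s x := by
    rw [RingHom.id_apply, TM.smul_def, TM.smul_def]
    exact TM.rmulAux_act b (e s) x

theorem TM.rmul_apply (b : B) (x : TM e) : TM.rmul e b x = TM.rmulAux b x := rfl

/-- `Bᵐᵒᵖ → End_S(B ⊗ Q)`. -/
noncomputable def TM.endHom : Bᵐᵒᵖ →ₐ[R] Module.End S (TM e) where
  toFun b := TM.rmul e b.unop
  map_one' := by
    apply LinearMap.ext; intro x
    rw [TM.rmul_apply, unop_one, Module.End.one_apply]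
    show LinearMap.rTensor Q (LinearMap.mulRight R (1 : B)) x = x
    rw [LinearMap.mulRight_one, LinearMap.rTensor_id, LinearMap.id_apply]
  map_mul' b b' := by
    apply LinearMap.ext; intro x
    rw [Module.End.mul_apply, TM.rmul_apply, TM.rmul_apply, TM.rmul_apply, unop_mul]
    show LinearMap.rTensor Q (LinearMap.mulRight R (b'.unop * b.unop)) x =
      LinearMap.rTensor Q (LinearMap.mulRight R b.unop)
        (LinearMap.rTensor Q (LinearMap.mulRight R b'.unop) x)
    rw [LinearMap.mulRight_mul, LinearMap.rTensor_comp, LinearMap.comp_apply]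
  map_zero' := by
    apply LinearMap.ext; intro x
    rw [TM.rmul_apply, unop_zero]
    show LinearMap.rTensor Q (LinearMap.mulRight R (0 : B)) x = 0
    rw [LinearMap.mulRight_zero_eq_zero, LinearMap.rTensor_zero, LinearMap.zero_apply]
  map_add' b b' := by
    apply LinearMap.ext; intro x
    rw [LinearMap.add_apply, TM.rmul_apply, TM.rmul_apply, TM.rmul_apply, unop_add]
    show LinearMap.rTensor Q (LinearMap.mulRight R (b.unop + b'.unop)) x =
      LinearMap.rTensor Q (LinearMap.mulRight R b.unop) x +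
        LinearMap.rTensor Q (LinearMap.mulRight R b'.unop) x
    rw [← LinearMap.add_apply, ← LinearMap.rTensor_add]
    congr 2
    apply LinearMap.ext; intro y
    simp [mul_add]
  commutes' r := by
    apply LinearMap.ext; intro x
    rw [Module.algebraMap_end_apply, TM.rmul_apply]
    show LinearMap.rTensor Q (LinearMap.mulRight R (algebraMap R B r)) x = r • (x : B ⊗[R] Q)
    have h2 : LinearMap.mulRight R (algebraMap R B r) = r • LinearMap.id := by
      apply LinearMap.ext; intro y
      simp [← Algebra.commutes, Algebra.smul_def]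
    rw [h2, LinearMap.rTensor_smul, LinearMap.rTensor_id, LinearMap.smul_apply,
      LinearMap.id_apply]
    rfl

theorem TM.endHom_apply (b : Bᵐᵒᵖ) (x : TM e) : TM.endHom e b x = TM.rmulAux b.unop x := rfl

theorem TM.endHom_bijective (h1 : ∑ j, f j (q j) = 1) : Function.Bijective (TM.endHom e) := by
  constructor
  · intro b b' hbb'
    have h2 : ∀ β : Bᵐᵒᵖ, ∑ j, TM.kap (f j) (TM.endHom e β
        (show TM e from ((1 : B) ⊗ₜ[R] q j : B ⊗[R] Q))) = β.unop := by
      intro β
      simp only [TM.endHom_apply, TM.rmulAux_tmul, TM.kap_tmul, one_mul]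
      rw [← Finset.sum_smul, h1, one_smul]
    apply unop_injective
    rw [← h2 b, ← h2 b', hbb']
  · intro g
    let y : ι → B ⊗[R] Q := fun j => g (show TM e from ((1 : B) ⊗ₜ[R] q j : B ⊗[R] Q))
    let c : B := ∑ j, TM.kap (f j) (y j)
    refine ⟨op c, ?_⟩
    apply LinearMap.ext
    intro x
    rw [TM.endHom_apply, unop_op]
    have hx : g x = ∑ j, tmAct R B Q (TM.inclAux (f j) x) (y j) := by
      conv_lhs => rw [← TM.proj_incl e f q h1 x, TM.proj_apply, map_sum]
      refine Finset.sum_congr rfl (fun j _ => ?_)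
      rw [map_smul, TM.smul_def]
      show tmAct R B Q (e (e.symm (TM.inclAux (f j) x))) _ = _
      rw [AlgEquiv.apply_symm_apply]
    rw [hx]
    have key : ∀ z : B ⊗[R] Q,
        TM.rmulAux c z = ∑ j, tmAct R B Q (TM.inclAux (f j) z) (y j) := by
      intro z
      induction z using TensorProduct.induction_on with
      | zero => simp
      | add z z' hz hz' =>
        simp only [map_add, LinearMap.add_apply, Finset.sum_add_distrib]
        rw [hz, hz']
      | tmul b p =>
        simp only [TM.inclAux_tmul, TM.act_smulRight, TM.rmulAux_tmul]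
        rw [← TensorProduct.sum_tmul, ← Finset.mul_sum]
    exact key x

/-- `Bᵐᵒᵖ ≃ End_S(B ⊗ Q)`. -/
noncomputable def TM.endEquiv (h1 : ∑ j, f j (q j) = 1) : Bᵐᵒᵖ ≃ₐ[R] Module.End S (TM e) :=
  AlgEquiv.ofBijective (TM.endHom e) (TM.endHom_bijective e f q h1)

end tm

end Groth.Agent.Lib.LGAzH6
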