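import Mathlib
import Groth.Agent.Lib.LGAz8_helper6
import Groth.Agent.Lib.AzumayaEnd_helper6

/-!
# Cancellation of Azumaya algebras over LG-rings: Brauer equivalent + same degree ⇒ isomorphic
(helper6)
-/

namespace Groth.Agent.Lib.LGAzH6

open Module TensorProduct MulOpposite

universe u v w w₁ w₂

section

variable {R : Type u} [CommRing R]

theorem rankAtStalk_pos_of_faithful (M : Type v) [AddCommGroup M] [Module R M]
    [Module.Finite R M] [Module.Projective R M] [FaithfulSMul R M] (p : PrimeSpectrum R) :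
    0 < rankAtStalk M p := by
  rw [Module.rankAtStalk_pos_iff_mem_support, Module.support_eq_zeroLocus,
    Module.annihilator_eq_bot.mpr inferInstance]
  simp

theorem nonempty_algEquiv_of_tensor_end (hR : LGRing.IsLGRing R)
    (A : Type v) [Ring A] [Algebra R A] [IsAzumaya R A]
    (B : Type w) [Ring B] [Algebra R B] [IsAzumaya R B]
    (hdeg : ∀ p : PrimeSpectrum R, rankAtStalk A p = rankAtStalk B p)
    (P : Type w₁) [AddCommGroup P] [Module R P] [Module.Finite R P] [Module.Projective R P]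
    [FaithfulSMul R P]
    (Q : Type w₂) [AddCommGroup Q] [Module R Q] [Module.Finite R Q] [Module.Projective R Q]
    [FaithfulSMul R Q]
    (e : A ⊗[R] Module.End R P ≃ₐ[R] B ⊗[R] Module.End R Q) : Nonempty (A ≃ₐ[R] B) := by
  let e₀ : A ⊗[R] Module.End R P ≃ₐ[R] A ⊗[R] Module.End R P := AlgEquiv.refl
  haveI : Module.Finite R A := IsAzumaya.toFinite
  haveI : Module.Projective R A := IsAzumaya.toProjective
  haveI : Module.Finite R B := IsAzumaya.toFinite
  haveI : Module.Projective R B := IsAzumaya.toProjective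
  haveI : IsAzumaya R (Module.End R P) := Groth.Agent.Lib.AzumayaEnd.isAzumaya_end R P
  haveI : IsAzumaya R (Module.End R Q) := Groth.Agent.Lib.AzumayaEnd.isAzumaya_end R Q
  haveI : IsAzumaya R (A ⊗[R] Module.End R P) :=
    Groth.Agent.Lib.AzumayaTensor.isAzumaya_tensor R A (Module.End R P)
  haveI : Module.Finite R (Module.End R P) := IsAzumaya.toFinite
  haveI : Module.Projective R (Module.End R P) := IsAzumaya.toProjective
  haveI : Module.Finite R (Module.End R Q) := IsAzumaya.toFinite
  haveI : Module.Projective R (Module.End R Q) := IsAzumaya.toProjective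
  obtain ⟨ιP, _, fP, qP, hP⟩ := exists_dual_sum_eq_one R P
  obtain ⟨ιQ, _, fQ, qQ, hQ⟩ := exists_dual_sum_eq_one R Q
  haveI := TM.finite e₀ fP qP hP
  haveI := TM.projective e₀ fP qP hP
  haveI := TM.finite e fQ qQ hQ
  haveI := TM.projective e fQ qQ hQ
  have hrank : ∀ p : PrimeSpectrum R, rankAtStalk (TM e) p = rankAtStalk (TM e₀) p := by
    intro p
    show rankAtStalk (B ⊗[R] Q) p = rankAtStalk (A ⊗[R] P) p
    rw [Module.rankAtStalk_tensorProduct, Module.rankAtStalk_tensorProduct, Pi.mul_apply,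
      Pi.mul_apply]
    have h1 := congrFun (Module.rankAtStalk_eq_of_equiv (R := R) e.toLinearEquiv) p
    rw [Module.rankAtStalk_tensorProduct, Module.rankAtStalk_tensorProduct, Pi.mul_apply,
      Pi.mul_apply, rankAtStalk_end, rankAtStalk_end, hdeg p] at h1
    have hB : 0 < rankAtStalk B p := rankAtStalk_pos_of_faithful B p
    have h2 := Nat.eq_of_mul_eq_mul_left hB h1
    have h3 : rankAtStalk P p = rankAtStalk Q p := by
      have := Nat.mul_self_inj.mp h2
      exact this
    rw [hdeg p, h3]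
  obtain ⟨θ⟩ := nonempty_linearEquiv (R := R) (A := A ⊗[R] Module.End R P) (M := TM e₀)
    (N := TM e) hR (fun m hm => by
      obtain ⟨φ, ψ, h1, h2⟩ := exists_fibre_maps R (A ⊗[R] Module.End R P) (TM e₀) (TM e) m
        (le_of_eq (hrank _))
      exact ⟨φ, ψ, h1, h2 (hrank _)⟩)
  let E : Aᵐᵒᵖ ≃ₐ[R] Bᵐᵒᵖ :=
    (TM.endEquiv e₀ fP qP hP).trans ((θ.conjAlgEquiv R).trans (TM.endEquiv e fQ qQ hQ).symm)
  exact ⟨AlgEquiv.op.symm E⟩

end

end Groth.Agent.Lib.LGAzH6
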