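import Mathlib
import Groth.Agent.Lib.AzumayaFibre_helper6
import Groth.Agent.Lib.AzumayaBaseChange_helper6
import Groth.Agent.Lib.LGAz9_helper6

/-!
# A homomorphism from an Azumaya algebra to a finite projective algebra of the same rank is
bijective (helper6)
-/

set_option autoImplicit false

namespace Groth.Agent.Lib.TPowH6

open Module TensorProduct
open Groth.Agent.Lib.AzumayaBaseChange Groth.Agent.Lib.AzumayaFibre

universe u

theorem azumaya_hom_bijective (R : Type u) [CommRing R] (B : Type u) [Ring B] [Algebra R B]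
    [IsAzumaya R B] (C : Type u) [Ring C] [Algebra R C] [Module.Finite R C]
    [Module.Projective R C]
    (hrank : ∀ p : PrimeSpectrum R, rankAtStalk B p = rankAtStalk C p) (Φ : B →ₐ[R] C) :
    Function.Bijective Φ := by
  haveI : Module.Finite R B := IsAzumaya.toFinite
  haveI : Module.Projective R B := IsAzumaya.toProjective
  refine bijective_of (detects_residueFields R) Φ.toLinearMap ?_
  intro p
  haveI : IsAzumaya p.asIdeal.ResidueField (p.asIdeal.ResidueField ⊗[R] B) :=
    isAzumaya_baseChange R p.asIdeal.ResidueField B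
  haveI : IsSimpleRing (p.asIdeal.ResidueField ⊗[R] B) :=
    isSimpleRing_of_isAzumaya p.asIdeal.ResidueField _
  obtain ⟨ΦK, hΦK⟩ : ∃ ΦK : p.asIdeal.ResidueField ⊗[R] B →ₐ[p.asIdeal.ResidueField]
      p.asIdeal.ResidueField ⊗[R] C, ∀ x, ΦK x = Φ.toLinearMap.lTensor p.asIdeal.ResidueField x := by
    refine ⟨Algebra.TensorProduct.map (AlgHom.id _ _) Φ, fun x => ?_⟩
    induction x using TensorProduct.induction_on with
    | zero => simp
    | tmul l b => simp
    | add x y hx hy => rw [map_add, map_add, hx, hy]
  have hB : finrank p.asIdeal.ResidueField (p.asIdeal.ResidueField ⊗[R] B) = rankAtStalk B p :=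
    (Module.rankAtStalk_eq (M := B) p).symm
  have hC : finrank p.asIdeal.ResidueField (p.asIdeal.ResidueField ⊗[R] C) = rankAtStalk C p :=
    (Module.rankAtStalk_eq (M := C) p).symm
  have hpos : 0 < rankAtStalk B p := Groth.Agent.Lib.LGAzH6.rankAtStalk_pos_of_faithful B p
  haveI : Nontrivial (p.asIdeal.ResidueField ⊗[R] C) := by
    apply Module.nontrivial_of_finrank_pos (R := p.asIdeal.ResidueField)
    rw [hC, ← hrank p]
    exact hpos
  have hinj : Function.Injective ΦK := fun x y h => RingHom.injective ΦK.toRingHom h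
  have hfr : finrank p.asIdeal.ResidueField (p.asIdeal.ResidueField ⊗[R] B) =
      finrank p.asIdeal.ResidueField (p.asIdeal.ResidueField ⊗[R] C) := by
    rw [hB, hC, hrank p]
  have hsurj : Function.Surjective ΦK :=
    (LinearMap.injective_iff_surjective_of_finrank_eq_finrank hfr (f := ΦK.toLinearMap)).mp hinj
  constructor
  · intro x y hxy
    apply hinj
    rw [hΦK, hΦK, hxy]
  · intro y
    obtain ⟨x, hx⟩ := hsurj y
    exact ⟨x, by rw [← hΦK, hx]⟩

end Groth.Agent.Lib.TPowH6
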