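import Mathlib
import Groth.Agent.Lib.AzInv17_helper6
import Groth.Agent.Lib.TPow2_helper6

/-!
# S17356 core, part 2: the etale cover and the isomorphism (helper6)
-/

set_option autoImplicit false
universe u v w

open TensorProduct IsLocalRing

namespace Groth.Agent.Lib.AzInvH6

attribute [local instance] Algebra.TensorProduct.rightAlgebra

section Prod

variable {S : Type u} [CommRing S] {R : Type v} [CommRing R] [Algebra S R]
  {A : Type w} [Ring A] [Algebra R A] {n : ℕ}

theorem MatHom.pi {ι : Type u} [Fintype ι] [DecidableEq ι] (T : ι → Type u)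
    [∀ i, CommRing (T i)] [∀ i, Algebra S (T i)] (h : ∀ i, MatHom (S := S) R A n (T i)) :
    MatHom (S := S) R A n (∀ i, T i) := by
  let Φ := Groth.Agent.Lib.TPowH6.matrixPiHom (fun i => T i ⊗[S] R) (fun i => (h i).some)
  let e : (∀ i, T i ⊗[S] R) ≃ₐ[R] (∀ i, T i) ⊗[S] R :=
    AlgEquiv.symm (AlgEquiv.ofRingEquiv (f := piEquiv T R) (by
      intro r
      funext i
      rw [piEquiv_apply, Algebra.TensorProduct.right_algebraMap_apply, piProj_tmul,
        Pi.algebraMap_apply, Algebra.TensorProduct.right_algebraMap_apply]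
      rfl))
  exact ⟨e.toAlgHom.mapMatrix.comp Φ⟩

end Prod

section

variable (S : Type u) (R : Type v) [CommRing S] [CommRing R] [Algebra S R]
  (lam : R ≃ₐ[S] R) (hlam : ∀ r, lam (lam r) = r) (hfix : RInv.IsFixedRing S R lam.toRingEquiv)
  (n : ℕ) (hn : 0 < n)
include hlam hfix hn

theorem matHom_cover (A : Type v) [Ring A] [Algebra R A] [IsAzumaya R A]
    (hrk : ∀ p : PrimeSpectrum R, Module.rankAtStalk (R := R) A p = n ^ 2) :
    ∃ (S' : Type u) (_ : CommRing S') (_ : Algebra S S') (_ : Algebra.Etale S S')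
      (_ : Module.FaithfullyFlat S S'), MatHom (S := S) R A n S' := by
  refine exists_cover S (fun T _ _ => MatHom (S := S) R A n T) ?_ ?_
  · intro q
    haveI := q.isPrime
    exact matHom_local S R lam hlam hfix A n hn hrk q.asIdeal
  · intro ι _ _ T _ _ _ hT
    exact MatHom.pi T hT

end

end Groth.Agent.Lib.AzInvH6
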