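import Mathlib
import Groth.Agent.Lib.AzInv18_helper6

/-!
# S17356 core, part 3: from a splitting map to the isomorphism; arbitrary universes (helper6)
-/

set_option autoImplicit false
universe u v w

open TensorProduct IsLocalRing

namespace Groth.Agent.Lib.AzInvH6

attribute [local instance] Algebra.TensorProduct.rightAlgebra
attribute [local instance] algT

section Iso

variable (S : Type u) (R : Type v) [CommRing S] [CommRing R] [Algebra S R]
  (T : Type u) [CommRing T] [Algebra S T]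
  (A : Type v) [Ring A] [Algebra S A] [Algebra R A] [IsScalarTower S R A] [IsAzumaya R A]
  (n : ℕ) (hrk : ∀ p : PrimeSpectrum R, Module.rankAtStalk (R := R) A p = n ^ 2)
include hrk

theorem exists_iso_of_matHom (h : MatHom (S := S) R A n T) :
    ∃ f : T ⊗[S] A ≃ₐ[T] Matrix (Fin n) (Fin n) (T ⊗[S] R),
      ∀ (r : R) (x : T ⊗[S] A),
        f (((1 : T) ⊗ₜ[S] algebraMap R A r) * x) =
          Matrix.scalar (Fin n) ((1 : T) ⊗ₜ[S] r) * f x := by
  classical
  haveI : Module.Finite R A := IsAzumaya.toFinite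
  haveI : Module.Projective R A := IsAzumaya.toProjective
  obtain ⟨φ⟩ := h
  let F : T ⊗[S] A →ₐ[T] Matrix (Fin n) (Fin n) (T ⊗[S] R) :=
    Algebra.TensorProduct.lift (Algebra.ofId T _) (φ.restrictScalars S)
      (fun c a => Algebra.commutes c _)
  have hF : ∀ (c : T) (a : A), F (c ⊗ₜ[S] a) =
      algebraMap T (Matrix (Fin n) (Fin n) (T ⊗[S] R)) c * φ a := by
    intro c a
    simp [F, Algebra.ofId_apply]
  have hFr : ∀ r : R, F ((1 : T) ⊗ₜ[S] algebraMap R A r) =
      Matrix.scalar (Fin n) ((1 : T) ⊗ₜ[S] r) := by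
    intro r
    rw [hF, map_one, one_mul, AlgHom.commutes, Matrix.algebraMap_eq_diagonal]
    rfl
  have hFtoA : ∀ y : T ⊗[S] R, F (toA S R T A y) = Matrix.scalar (Fin n) y := by
    intro y
    induction y using TensorProduct.induction_on with
    | zero => simp
    | add y₁ y₂ h₁ h₂ => rw [map_add, map_add, map_add, h₁, h₂]
    | tmul c r =>
      rw [toA_tmul, hF, AlgHom.commutes, Matrix.algebraMap_eq_diagonal,
        Matrix.algebraMap_eq_diagonal]
      ext i j
      simp only [Matrix.mul_apply, Matrix.diagonal_apply, Matrix.scalar_apply, Pi.algebraMap_apply]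
      by_cases hij : i = j
      · subst hij
        simp [Algebra.TensorProduct.algebraMap_apply,
          Algebra.TensorProduct.right_algebraMap_apply]
      · simp [hij]
  let F' : T ⊗[S] A →ₐ[T ⊗[S] R] Matrix (Fin n) (Fin n) (T ⊗[S] R) :=
    { F.toRingHom with
      commutes' := fun y => by
        show F (toA S R T A y) = _
        rw [hFtoA, Matrix.algebraMap_eq_diagonal]
        rfl }
  haveI : IsAzumaya (T ⊗[S] R) (T ⊗[S] A) := isAzumaya_bc S R T A
  have hbij : Function.Bijective F' := by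
    refine Groth.Agent.Lib.TPowH6.azumaya_hom_bijective (T ⊗[S] R) (T ⊗[S] A)
      (Matrix (Fin n) (Fin n) (T ⊗[S] R)) (fun p => ?_) F'
    haveI : Nontrivial (T ⊗[S] R) := PrimeSpectrum.nonempty_iff_nontrivial.mp ⟨p⟩
    rw [rankAtStalk_bc S R T A (n ^ 2) hrk p, Module.rankAtStalk_eq_finrank_of_free,
      Module.finrank_matrix]
    simp [pow_two]
  refine ⟨AlgEquiv.ofBijective F hbij, fun r x => ?_⟩
  show F (_ * x) = _ * F x
  rw [map_mul, hFr]

end Iso

end Groth.Agent.Lib.AzInvH6

namespace Groth.Agent.Lib.AzInvH6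

open TensorProduct

section Final

variable (S : Type u) (R : Type v) [CommRing S] [CommRing R] [Algebra S R]
  (lam : R ≃ₐ[S] R) (hlam : ∀ r, lam (lam r) = r) (hfix : RInv.IsFixedRing S R lam.toRingEquiv)
  (A : Type w) [Ring A] [Algebra S A] [Algebra R A] [IsScalarTower S R A]
  (n : ℕ) (hn : 0 < n)
include hlam hfix hn

theorem exists_split_cover (hA : AzInv.IsAzumayaDeg R A n) :
    ∃ (S' : Type u) (_ : CommRing S') (_ : Algebra S S') (_ : Algebra.Etale S S')
      (_ : Module.FaithfullyFlat S S')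
      (f : S' ⊗[S] A ≃ₐ[S'] Matrix (Fin n) (Fin n) (S' ⊗[S] R)),
      ∀ (r : R) (x : S' ⊗[S] A),
        f (((1 : S') ⊗ₜ[S] algebraMap R A r) * x) =
          Matrix.scalar (Fin n) ((1 : S') ⊗ₜ[S] r) * f x := by
  haveI : IsAzumaya R A := hA.1
  haveI : Module.Finite R A := IsAzumaya.toFinite
  haveI : Small.{v} A := Module.Finite.small R A
  let e : Shrink.{v} A ≃ₐ[R] A := Shrink.algEquiv R A
  let eS : Shrink.{v} A ≃ₐ[S] A := Shrink.algEquiv S A
  have heS : ∀ x, eS x = e x := fun x => rfl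
  haveI : IsScalarTower S R (Shrink.{v} A) := IsScalarTower.of_algebraMap_eq (fun s => by
    apply e.injective
    rw [AlgEquiv.commutes, ← heS, AlgEquiv.commutes, IsScalarTower.algebraMap_apply S R A])
  haveI : IsAzumaya R (Shrink.{v} A) := IsAzumaya.of_AlgEquiv (e := e.symm)
  have hrk : ∀ p : PrimeSpectrum R, Module.rankAtStalk (R := R) (Shrink.{v} A) p = n ^ 2 := by
    intro p
    rw [Module.rankAtStalk_eq_of_equiv e.toLinearEquiv]
    exact hA.2 p
  obtain ⟨S', i1, i2, i3, i4, hM⟩ := matHom_cover S R lam hlam hfix n hn (Shrink.{v} A) hrk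
  obtain ⟨f₀, hf₀⟩ := exists_iso_of_matHom S R S' (Shrink.{v} A) n hrk hM
  let c : S' ⊗[S] A ≃ₐ[S'] S' ⊗[S] Shrink.{v} A :=
    Algebra.TensorProduct.congr AlgEquiv.refl eS.symm
  refine ⟨S', i1, i2, i3, i4, c.trans f₀, fun r x => ?_⟩
  show f₀ (c (_ * x)) = _ * f₀ (c x)
  have h1 : c ((1 : S') ⊗ₜ[S] algebraMap R A r) = (1 : S') ⊗ₜ[S] algebraMap R (Shrink.{v} A) r := by
    have h2 : eS.symm (algebraMap R A r) = algebraMap R (Shrink.{v} A) r := by
      apply eS.injective
      rw [AlgEquiv.apply_symm_apply, heS, AlgEquiv.commutes]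
    simp [c, h2]
  rw [map_mul, h1, hf₀]

end Final

end Groth.Agent.Lib.AzInvH6
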