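import Mathlib
import Groth.Prelude.Def_AzInv

/-!
# AzInv20 (helper6): fibrewise linear independence is open; symmetric/skew decomposition on
ramified fibres. Used for S17362.
-/

set_option autoImplicit false
open scoped TensorProduct

namespace Groth.Agent.Lib.AzInvH6

section OpenIndep

variable {R : Type*} [CommRing R] {M : Type*} [AddCommGroup M] [Module R M]

/-- Evaluate an `R`-linear functional on the fibre `κ(p) ⊗ M`. -/
noncomputable def fibreEval (p : Ideal R) [p.IsPrime] (ψ : M →ₗ[R] R) :
    p.ResidueField ⊗[R] M →ₗ[p.ResidueField] p.ResidueField :=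
  (TensorProduct.AlgebraTensorModule.rid R p.ResidueField p.ResidueField).toLinearMap ∘ₗ
    LinearMap.baseChange p.ResidueField ψ

theorem fibreEval_tmul (p : Ideal R) [p.IsPrime] (ψ : M →ₗ[R] R) (c : p.ResidueField) (m : M) :
    fibreEval p ψ (c ⊗ₜ[R] m) = c * algebraMap R p.ResidueField (ψ m) := by
  simp [fibreEval, Algebra.smul_def, mul_comm]

theorem linearIndependent_fibre_of_det {ι : Type*} [Fintype ι] [DecidableEq ι] (a : ι → M)
    (ψ : ι → M →ₗ[R] R) (p : Ideal R) [p.IsPrime]
    (h : (Matrix.of fun i j => ψ j (a i)).det ∉ p) :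
    LinearIndependent p.ResidueField (fun i => (1 : p.ResidueField) ⊗ₜ[R] a i) := by
  rw [Fintype.linearIndependent_iff]
  intro c hc
  have hN : ((Matrix.of fun i j => ψ j (a i)).map (algebraMap R p.ResidueField)).det ≠ 0 := by
    rw [← RingHom.mapMatrix_apply, ← RingHom.map_det]
    rwa [Ne, Ideal.algebraMap_residueField_eq_zero]
  have hv : Matrix.vecMul c
      ((Matrix.of fun i j => ψ j (a i)).map (algebraMap R p.ResidueField)) = 0 := by
    ext j
    have := congrArg (fibreEval p (ψ j)) hc
    simp only [map_sum, map_smul, fibreEval_tmul, map_zero, one_mul, smul_eq_mul] at this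
    simpa [Matrix.vecMul, dotProduct] using this
  have := Matrix.eq_zero_of_vecMul_eq_zero hN hv
  intro i; exact congrFun this i

theorem exists_functionals_of_linearIndependent [Module.Finite R M] [Module.Projective R M]
    {ι : Type*} [Fintype ι] [DecidableEq ι] (a : ι → M) (p : Ideal R) [p.IsPrime]
    (h : LinearIndependent p.ResidueField (fun i => (1 : p.ResidueField) ⊗ₜ[R] a i)) :
    ∃ ψ : ι → M →ₗ[R] R, (Matrix.of fun i j => ψ j (a i)).det ∉ p := by
  classical
  obtain ⟨m, f, g, -, -, hfg⟩ := Module.Finite.exists_comp_eq_id_of_projective R M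
  have hinj : LinearMap.ker
      (Fintype.linearCombination p.ResidueField (fun i => (1 : p.ResidueField) ⊗ₜ[R] a i)) = ⊥ := by
    rw [LinearMap.ker_eq_bot]
    exact linearIndependent_iff_injective_fintypeLinearCombination.mp h
  obtain ⟨G, hG⟩ := LinearMap.exists_leftInverse_of_injective _ hinj
  -- coefficients
  let c : ι → Fin m → p.ResidueField := fun j l => G (1 ⊗ₜ[R] f (Pi.single l 1)) j
  have hx : ∀ jl : ι × Fin m, ∃ x : Localization.AtPrime p,
      IsLocalRing.residue (Localization.AtPrime p) x = c jl.1 jl.2 :=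
    fun jl => IsLocalRing.residue_surjective _
  choose x hx using hx
  obtain ⟨b, hb⟩ := IsLocalization.exist_integer_multiples_of_finite p.primeCompl x
  choose r hr using hb
  have hrc : ∀ j l, algebraMap R p.ResidueField (r (j, l)) =
      algebraMap R p.ResidueField (b : R) * c j l := by
    intro j l
    have h1 := hr (j, l)
    rw [IsScalarTower.algebraMap_apply R (Localization.AtPrime p) p.ResidueField, h1,
      Algebra.smul_def, map_mul, ← IsScalarTower.algebraMap_apply]
    congr 1
    exact hx (j, l)
  refine ⟨fun j => ∑ l, r (j, l) • (LinearMap.proj l ∘ₗ g), ?_⟩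
  -- the key identity
  have hkey : ∀ i j, ∑ l, algebraMap R p.ResidueField (g (a i) l) * c j l
      = if i = j then 1 else 0 := by
    intro i j
    have h1 : a i = ∑ l, g (a i) l • f (Pi.single l 1) := by
      conv_lhs => rw [show a i = f (g (a i)) from (LinearMap.congr_fun hfg (a i)).symm]
      conv_lhs => rw [show g (a i) = ∑ l, g (a i) l • (Pi.single l (1 : R) : Fin m → R) from by
        ext l'; simp [Finset.sum_apply, Pi.single_apply]]
      rw [map_sum]
      simp only [map_smul]
    have h2 : ((1 : p.ResidueField) ⊗ₜ[R] a i : p.ResidueField ⊗[R] M) =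
        ∑ l, algebraMap R p.ResidueField (g (a i) l) • ((1 : p.ResidueField) ⊗ₜ[R] f (Pi.single l 1)) := by
      conv_lhs => rw [h1]
      rw [TensorProduct.tmul_sum]
      refine Finset.sum_congr rfl fun l _ => ?_
      rw [TensorProduct.tmul_smul, algebraMap_smul]
    have h3 : G ((1 : p.ResidueField) ⊗ₜ[R] a i) = Pi.single i 1 := by
      have := LinearMap.congr_fun hG (Pi.single i 1)
      simpa [Fintype.linearCombination_apply_single] using this
    have h4 := congrFun (congrArg G h2) j
    rw [h3, map_sum] at h4
    simp only [map_smul, Finset.sum_apply, Pi.smul_apply, smul_eq_mul] at h4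
    rw [← h4, Pi.single_apply]
    simp [eq_comm]
  have hmap : (Matrix.of fun i j => (∑ l, r (j, l) • (LinearMap.proj l ∘ₗ g)) (a i)).map
      (algebraMap R p.ResidueField) = algebraMap R p.ResidueField (b : R) • (1 : Matrix ι ι p.ResidueField) := by
    ext i j
    simp only [Matrix.map_apply, Matrix.of_apply, LinearMap.sum_apply, LinearMap.smul_apply,
      LinearMap.comp_apply, LinearMap.proj_apply, smul_eq_mul, map_sum, map_mul, Matrix.smul_apply,
      Matrix.one_apply]
    simp_rw [hrc, mul_assoc, ← Finset.mul_sum]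
    congr 1
    rw [← hkey i j]
    exact Finset.sum_congr rfl fun l _ => mul_comm _ _
  intro hdet
  have h5 : algebraMap R p.ResidueField
      (Matrix.of fun i j => (∑ l, r (j, l) • (LinearMap.proj l ∘ₗ g)) (a i)).det = 0 := by
    rwa [Ideal.algebraMap_residueField_eq_zero]
  rw [RingHom.map_det, RingHom.mapMatrix_apply, hmap, Matrix.det_smul, Matrix.det_one, mul_one] at h5
  have h6 := eq_zero_of_pow_eq_zero h5
  rw [Ideal.algebraMap_residueField_eq_zero] at h6
  exact b.2 h6

theorem exists_nbhd_linearIndependent [Module.Finite R M] [Module.Projective R M]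
    {ι : Type*} [Finite ι] (a : ι → M) (p : Ideal R) [p.IsPrime]
    (h : LinearIndependent p.ResidueField (fun i => (1 : p.ResidueField) ⊗ₜ[R] a i)) :
    ∃ f : R, f ∉ p ∧ ∀ (p' : Ideal R) [p'.IsPrime], f ∉ p' →
      LinearIndependent p'.ResidueField (fun i => (1 : p'.ResidueField) ⊗ₜ[R] a i) := by
  classical
  cases nonempty_fintype ι
  obtain ⟨ψ, hψ⟩ := exists_functionals_of_linearIndependent a p h
  exact ⟨_, hψ, fun p' _ hp' => linearIndependent_fibre_of_det a ψ p' hp'⟩

/-- Lower semicontinuity of the dimension of the span of the images of a fixed set of elements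
in the fibres of a finite projective module. -/
theorem exists_nbhd_le_finrank_span [Module.Finite R M] [Module.Projective R M]
    (P : M → Prop) (p : Ideal R) [p.IsPrime] :
    ∃ f : R, f ∉ p ∧ ∀ (p' : Ideal R) [p'.IsPrime], f ∉ p' →
      Module.finrank p.ResidueField (Submodule.span p.ResidueField
        (Set.range fun a : {a : M // P a} => (1 : p.ResidueField) ⊗ₜ[R] (a : M))) ≤
      Module.finrank p'.ResidueField (Submodule.span p'.ResidueField
        (Set.range fun a : {a : M // P a} => (1 : p'.ResidueField) ⊗ₜ[R] (a : M))) := by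
  classical
  obtain ⟨v, hv, -, hli⟩ := Submodule.exists_fun_fin_finrank_span_eq p.ResidueField
    (Set.range fun a : {a : M // P a} => (1 : p.ResidueField) ⊗ₜ[R] (a : M))
  choose a ha using hv
  have hli' : LinearIndependent p.ResidueField
      (fun i => (1 : p.ResidueField) ⊗ₜ[R] ((a i : {a : M // P a}) : M)) := by
    have hfv : (fun i => (1 : p.ResidueField) ⊗ₜ[R] ((a i : {a : M // P a}) : M)) = v :=
      funext ha
    rw [hfv]
    exact hli
  obtain ⟨f, hf, hf'⟩ := exists_nbhd_linearIndependent (fun i => ((a i : {a : M // P a}) : M)) p hli'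
  refine ⟨f, hf, fun p' _ hp' => ?_⟩
  have h1 := hf' p' hp'
  set W := Submodule.span p'.ResidueField
        (Set.range fun a : {a : M // P a} => (1 : p'.ResidueField) ⊗ₜ[R] (a : M)) with hW
  have hmem : ∀ i, (1 : p'.ResidueField) ⊗ₜ[R] ((a i : {a : M // P a}) : M) ∈ W :=
    fun i => Submodule.subset_span ⟨a i, rfl⟩
  have h2 : LinearIndependent p'.ResidueField
      (fun i => (⟨_, hmem i⟩ : W)) := by
    apply LinearIndependent.of_comp W.subtype
    exact h1
  have h3 := h2.fintype_card_le_finrank
  simpa using h3

end OpenIndep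

section FibreInv

variable {R : Type*} [CommRing R] {A : Type*} [Ring A] [Algebra R A] {lam : R → R}

/-- On a fibre over a prime of the ramification locus, a `lam`-involution induces a
`κ(p)`-linear involution. -/
noncomputable def fibreInv (t : AzInv.LamInv R A lam) (p : Ideal R) [p.IsPrime]
    (hp : ∀ r, lam r - r ∈ p) :
    p.ResidueField ⊗[R] A →ₗ[p.ResidueField] p.ResidueField ⊗[R] A :=
  TensorProduct.AlgebraTensorModule.lift
    { toFun := fun c =>
        { toFun := fun a => c ⊗ₜ[R] t a
          map_add' := fun a b => by rw [t.map_add, TensorProduct.tmul_add]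
          map_smul' := fun r a => by
            have h0 : algebraMap R p.ResidueField (lam r) = algebraMap R p.ResidueField r := by
              have := (Ideal.algebraMap_residueField_eq_zero (I := p)).mpr (hp r)
              rwa [map_sub, sub_eq_zero] at this
            rw [RingHom.id_apply, t.map_smul, TensorProduct.tmul_smul,
              ← algebraMap_smul p.ResidueField (lam r), h0, algebraMap_smul] }
      map_add' := fun c c' => by ext a; simp [TensorProduct.add_tmul]
      map_smul' := fun c c' => by ext a; simp [TensorProduct.smul_tmul'] }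

theorem fibreInv_tmul (t : AzInv.LamInv R A lam) (p : Ideal R) [p.IsPrime]
    (hp : ∀ r, lam r - r ∈ p) (c : p.ResidueField) (a : A) :
    fibreInv t p hp (c ⊗ₜ[R] a) = c ⊗ₜ[R] t a := by
  simp [fibreInv]

theorem sym_sup_skew (t : AzInv.LamInv R A lam) (p : Ideal R) [p.IsPrime]
    (s : R) (hs : 2 * s = 1) (hls : lam s = s) :
    Submodule.span p.ResidueField
        (Set.range fun a : {a : A // t a = a} => (1 : p.ResidueField) ⊗ₜ[R] (a : A)) ⊔
      Submodule.span p.ResidueField
        (Set.range fun a : {a : A // t a = -a} => (1 : p.ResidueField) ⊗ₜ[R] (a : A)) = ⊤ := by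
  rw [eq_top_iff]
  intro x hxtop
  clear hxtop
  induction x using TensorProduct.induction_on with
  | zero => exact zero_mem _
  | add x y hx hy => exact add_mem hx hy
  | tmul c a =>
    have h1 : t (s • (a + t a)) = s • (a + t a) := by
      rw [t.map_smul, hls, t.map_add, t.invol, add_comm]
    have h2 : t (s • (a - t a)) = -(s • (a - t a)) := by
      rw [t.map_smul, hls, t.map_sub, t.invol, ← smul_neg, neg_sub]
    have h3 : a = s • (a + t a) + s • (a - t a) := by
      rw [← smul_add, add_add_sub_cancel, ← two_smul R a, smul_smul, mul_comm, hs, one_smul]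
    have h4 : (c ⊗ₜ[R] a : p.ResidueField ⊗[R] A) =
        c • ((1 : p.ResidueField) ⊗ₜ[R] (s • (a + t a))) +
          c • ((1 : p.ResidueField) ⊗ₜ[R] (s • (a - t a))) := by
      rw [← smul_add, ← TensorProduct.tmul_add, ← h3, TensorProduct.smul_tmul', smul_eq_mul,
        mul_one]
    rw [h4]
    refine Submodule.add_mem_sup ?_ ?_
    · exact Submodule.smul_mem _ _ (Submodule.subset_span ⟨⟨_, h1⟩, rfl⟩)
    · exact Submodule.smul_mem _ _ (Submodule.subset_span ⟨⟨_, h2⟩, rfl⟩)

theorem sym_inf_skew (t : AzInv.LamInv R A lam) (p : Ideal R) [p.IsPrime]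
    (hp : ∀ r, lam r - r ∈ p) (s : R) (hs : 2 * s = 1) :
    Submodule.span p.ResidueField
        (Set.range fun a : {a : A // t a = a} => (1 : p.ResidueField) ⊗ₜ[R] (a : A)) ⊓
      Submodule.span p.ResidueField
        (Set.range fun a : {a : A // t a = -a} => (1 : p.ResidueField) ⊗ₜ[R] (a : A)) = ⊥ := by
  rw [eq_bot_iff]
  rintro x ⟨hx1, hx2⟩
  have h1 : fibreInv t p hp x = x := by
    refine Submodule.span_induction ?_ ?_ ?_ ?_ hx1
    · rintro _ ⟨a, rfl⟩
      simp only [fibreInv_tmul, a.2]
    · simp
    · intro x y _ _ hx hy; rw [map_add, hx, hy]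
    · intro c x _ hx; rw [map_smul, hx]
  have h2 : fibreInv t p hp x = -x := by
    refine Submodule.span_induction ?_ ?_ ?_ ?_ hx2
    · rintro _ ⟨a, rfl⟩
      simp only [fibreInv_tmul, a.2, TensorProduct.tmul_neg]
    · simp
    · intro x y _ _ hx hy; rw [map_add, hx, hy, neg_add]
    · intro c x _ hx; rw [map_smul, hx, smul_neg]
  have h3 : x + x = 0 := by
    nth_rewrite 1 [← h1]
    rw [h2, neg_add_cancel]
  have h4 : x = (s * 2) • x := by rw [mul_comm, hs, one_smul]
  rw [Submodule.mem_bot, h4, mul_smul, two_smul, h3, smul_zero]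

theorem finrank_sym_add_finrank_skew [Module.Finite R A] (t : AzInv.LamInv R A lam) (p : Ideal R)
    [p.IsPrime] (hp : ∀ r, lam r - r ∈ p) (s : R) (hs : 2 * s = 1) (hls : lam s = s) :
    Module.finrank p.ResidueField (Submodule.span p.ResidueField
        (Set.range fun a : {a : A // t a = a} => (1 : p.ResidueField) ⊗ₜ[R] (a : A))) +
      Module.finrank p.ResidueField (Submodule.span p.ResidueField
        (Set.range fun a : {a : A // t a = -a} => (1 : p.ResidueField) ⊗ₜ[R] (a : A))) =
      Module.finrank p.ResidueField (p.ResidueField ⊗[R] A) := by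
  have h := Submodule.finrank_sup_add_finrank_inf_eq
    (Submodule.span p.ResidueField
        (Set.range fun a : {a : A // t a = a} => (1 : p.ResidueField) ⊗ₜ[R] (a : A)))
    (Submodule.span p.ResidueField
        (Set.range fun a : {a : A // t a = -a} => (1 : p.ResidueField) ⊗ₜ[R] (a : A)))
  rw [sym_sup_skew t p s hs hls, sym_inf_skew t p hp s hs, finrank_top, finrank_bot, add_zero] at h
  exact h.symm

end FibreInv

end Groth.Agent.Lib.AzInvH6
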