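import Mathlib
import Groth.Agent.Lib.AzInv17_helper6

/-!
# AzInv21 (helper6): generic "property at the strict henselisation ⇒ etale cover" wrapper
-/

set_option autoImplicit false
set_option maxSynthPendingDepth 3
universe u

open TensorProduct IsLocalRing

namespace Groth.Agent.Lib.AzInvH6

open Groth.Agent.Lib.StrictHensH3

/-- the strict henselisation of `S` at the prime `q` -/
def ShQ (S : Type u) [CommRing S] (q : Ideal S) [q.IsPrime] : Type u :=
  SH (Localization.AtPrime q) (SeparableClosure (ResidueField (Localization.AtPrime q)))

section ShQ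

variable (S : Type u) [CommRing S] (q : Ideal S) [q.IsPrime]

noncomputable instance : CommRing (ShQ S q) :=
  inferInstanceAs (CommRing (SH (Localization.AtPrime q)
    (SeparableClosure (ResidueField (Localization.AtPrime q)))))

instance : IsLocalRing (ShQ S q) :=
  inferInstanceAs (IsLocalRing (SH (Localization.AtPrime q)
    (SeparableClosure (ResidueField (Localization.AtPrime q)))))

noncomputable instance : Algebra S (ShQ S q) :=
  algSH S (Localization.AtPrime q) (SeparableClosure (ResidueField (Localization.AtPrime q)))

noncomputable instance : Algebra (Localization.AtPrime q) (ShQ S q) :=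
  inferInstanceAs (Algebra (Localization.AtPrime q) (SH (Localization.AtPrime q)
    (SeparableClosure (ResidueField (Localization.AtPrime q)))))

instance : IsScalarTower S (Localization.AtPrime q) (ShQ S q) :=
  IsScalarTower.of_algebraMap_eq (fun _ => rfl)

instance : IsLocalHom (algebraMap (Localization.AtPrime q) (ShQ S q)) :=
  inferInstanceAs (IsLocalHom (algebraMap (Localization.AtPrime q) (SH (Localization.AtPrime q)
    (SeparableClosure (ResidueField (Localization.AtPrime q))))))

instance : Module.Flat (Localization.AtPrime q) (ShQ S q) :=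
  inferInstanceAs (Module.Flat (Localization.AtPrime q) (SH (Localization.AtPrime q)
    (SeparableClosure (ResidueField (Localization.AtPrime q)))))

instance : Module.Flat S (ShQ S q) := Module.Flat.trans S (Localization.AtPrime q) _

instance : HenselianLocalRing (ShQ S q) :=
  inferInstanceAs (HenselianLocalRing (SH (Localization.AtPrime q)
    (SeparableClosure (ResidueField (Localization.AtPrime q)))))

instance : IsSepClosed (ResidueField (ShQ S q)) :=
  (isSepClosure_sh (R := Localization.AtPrime q)
    (Ω := SeparableClosure (ResidueField (Localization.AtPrime q)))).sep_closed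

/-- the approximation of `ShQ S q` by local rings of etale algebras -/
noncomputable def shqApprox : Approx.{u, u, u} S (ShQ S q) :=
  shApprox S (Localization.AtPrime q) (SeparableClosure (ResidueField (Localization.AtPrime q)))

/-- the contraction of the maximal ideal of `ShQ S q` is `q` -/
theorem comap_maximalIdeal_shq :
    (maximalIdeal (ShQ S q)).comap (algebraMap S (ShQ S q)) = q := by
  rw [IsScalarTower.algebraMap_eq S (Localization.AtPrime q) (ShQ S q), ← Ideal.comap_comap]
  have h1 : (maximalIdeal (ShQ S q)).comap (algebraMap (Localization.AtPrime q) (ShQ S q)) =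
      maximalIdeal (Localization.AtPrime q) := by
    ext x
    rw [Ideal.mem_comap, mem_maximalIdeal, mem_maximalIdeal, mem_nonunits_iff, mem_nonunits_iff,
      isUnit_map_iff]
  rw [h1]
  exact IsLocalization.AtPrime.comap_maximalIdeal (Localization.AtPrime q) q

end ShQ

/-- A property of `S`-algebras that is functorial and descends along directed approximations of
flat algebras. -/
structure DescProp (S : Type u) [CommRing S] where
  P : ∀ (T : Type u) [CommRing T] [Algebra S T], Prop
  map : ∀ {T₁ T₂ : Type u} [CommRing T₁] [Algebra S T₁] [CommRing T₂] [Algebra S T₂],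
    (T₁ →ₐ[S] T₂) → P T₁ → P T₂
  descend : ∀ {T : Type u} [CommRing T] [Algebra S T] [Module.Flat S T] (D : Approx.{u, u, u} S T),
    P T → ∃ i : D.ι, P (D.obj i)

namespace DescProp

variable {S : Type u} [CommRing S] (PP : DescProp S)

/-- a property holding at the strict henselisation holds on an etale neighbourhood -/
theorem exists_etale_nbhd (q : Ideal S) [q.IsPrime] (h : PP.P (ShQ S q)) :
    ∃ (T : Type u) (_ : CommRing T) (_ : Algebra S T), Algebra.Etale S T ∧ PP.P T ∧
      ∃ Q : Ideal T, Q.IsPrime ∧ Q.comap (algebraMap S T) = q := by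
  obtain ⟨i, hi⟩ : ∃ i : Idx (Localization.AtPrime q)
      (SeparableClosure (ResidueField (Localization.AtPrime q))), PP.P i.A :=
    PP.descend (shqApprox S q) h
  obtain ⟨E, _, _, Q, _, hE, ⟨κ⟩⟩ := Groth.Agent.Lib.EssEtTransH4.core S S (Localization.AtPrime q)
    i.C q (RingHom.ker i.pt)
  haveI := hE
  have h2 : PP.P (Localization.AtPrime Q) := PP.map κ.symm.toAlgHom hi
  haveI : Module.Flat S E := Algebra.Smooth.flat S E
  haveI : Module.Flat S (Localization.AtPrime Q) := Module.Flat.trans S E _
  obtain ⟨g, hg⟩ : ∃ g : ZIdx E Q, PP.P (Localization.Away g.val) :=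
    PP.descend (zarApprox S E Q) h2
  haveI : Algebra.Etale E (Localization.Away g.val) := Algebra.Etale.of_isLocalizationAway g.val
  haveI : Algebra.Etale S (Localization.Away g.val) := Algebra.Etale.comp S E _
  obtain ⟨Q', hQ', hQ'c⟩ := exists_prime_away S E Q g.val g.prop
  refine ⟨Localization.Away g.val, inferInstance, inferInstance, inferInstance, hg, Q', hQ', ?_⟩
  rw [hQ'c, comap_eq_of_algEquiv S Q (B := Localization.AtPrime q) κ]
  exact IsLocalization.AtPrime.comap_maximalIdeal (Localization.AtPrime q) q

/-- from the strict henselisations to a single etale faithfully flat cover -/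
theorem exists_cover_of_shq (h : ∀ (q : Ideal S) [q.IsPrime], PP.P (ShQ S q))
    (hprod : ∀ (ι : Type u) [Fintype ι] [DecidableEq ι] (T : ι → Type u) [∀ i, CommRing (T i)]
      [∀ i, Algebra S (T i)], (∀ i, Algebra.Etale S (T i)) → (∀ i, PP.P (T i)) → PP.P (∀ i, T i)) :
    ∃ (S' : Type u) (_ : CommRing S') (_ : Algebra S S') (_ : Algebra.Etale S S')
      (_ : Module.FaithfullyFlat S S'), PP.P S' :=
  exists_cover S (fun T _ _ => PP.P T)
    (fun q => by
      haveI := q.isPrime
      exact PP.exists_etale_nbhd q.asIdeal (h q.asIdeal)) hprod

end DescProp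

end Groth.Agent.Lib.AzInvH6
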