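import Mathlib
import Groth.Agent.Lib.AzInv21_helper6
import Groth.Agent.Lib.AzInv18_helper6

/-!
# AzInv22 (helper6): algebra maps `A → M_n(T ⊗ R)` compatible with an involution
`X ↦ w * lamTr X * w'`; functoriality, descent along approximations, products.
-/

set_option autoImplicit false
universe u v w w' u' u''

open TensorProduct

namespace Groth.Agent.Lib.AzInvH6

attribute [local instance] Algebra.TensorProduct.rightAlgebra

section Basic

variable {S : Type u} [CommRing S] (R : Type v) [CommRing R] [Algebra S R] (n : ℕ)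

/-- the image of a matrix over `R` in matrices over `T ⊗ R` -/
noncomputable def matT (T : Type u') [CommRing T] [Algebra S T] (w : Matrix (Fin n) (Fin n) R) :
    Matrix (Fin n) (Fin n) (T ⊗[S] R) :=
  (algebraMap R (T ⊗[S] R)).mapMatrix w

theorem matT_apply (T : Type u') [CommRing T] [Algebra S T] (w : Matrix (Fin n) (Fin n) R)
    (i j : Fin n) : matT (S := S) R n T w i j = (1 : T) ⊗ₜ[S] w i j := rfl

theorem matT_mul (T : Type u') [CommRing T] [Algebra S T] (w w' : Matrix (Fin n) (Fin n) R) :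
    matT (S := S) R n T (w * w') = matT R n T w * matT R n T w' :=
  map_mul _ _ _

theorem matT_one (T : Type u') [CommRing T] [Algebra S T] :
    matT (S := S) R n T 1 = 1 :=
  map_one _

variable {T₁ : Type u'} [CommRing T₁] [Algebra S T₁] {T₂ : Type u''} [CommRing T₂] [Algebra S T₂]
  (g : T₁ →ₐ[S] T₂)

theorem mapMatrix_matT (w : Matrix (Fin n) (Fin n) R) :
    (bcR g R).mapMatrix (matT R n T₁ w) = matT R n T₂ w := by
  ext i j
  simp only [AlgHom.mapMatrix_apply, Matrix.map_apply, matT_apply, bcR_apply, bcA_tmul, map_one]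

variable (lam : R ≃ₐ[S] R)

theorem mapMatrix_lamTr (X : Matrix (Fin n) (Fin n) (T₁ ⊗[S] R)) :
    (bcR g R).mapMatrix (AzInv.lamTr (lamT S lam T₁) X) =
      AzInv.lamTr (lamT S lam T₂) ((bcR g R).mapMatrix X) := by
  ext i j
  simp only [AlgHom.mapMatrix_apply, Matrix.map_apply, AzInv.lamTr_apply, bcR_apply]
  exact bcA_lamT g lam (X j i)

end Basic

section Def

variable {S : Type u} [CommRing S] (R : Type v) [CommRing R] [Algebra S R] (lam : R ≃ₐ[S] R)
  (A : Type w') [Ring A] [Algebra R A] (t : AzInv.LamInv R A lam) (n : ℕ)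
  (w w' : Matrix (Fin n) (Fin n) R)

/-- an `R`-algebra map `A → M_n(T ⊗ R)` carrying `t` to `X ↦ w * lamTr X * w'` -/
def MatInvHom (T : Type u') [CommRing T] [Algebra S T] : Prop :=
  ∃ φ : A →ₐ[R] Matrix (Fin n) (Fin n) (T ⊗[S] R),
    ∀ a, φ (t a) = matT R n T w * AzInv.lamTr (lamT S lam T) (φ a) * matT R n T w'

variable {R lam A t n w w'}

theorem MatInvHom.map {T₁ : Type u'} [CommRing T₁] [Algebra S T₁] {T₂ : Type u''} [CommRing T₂]
    [Algebra S T₂] (g : T₁ →ₐ[S] T₂) (h : MatInvHom R lam A t n w w' T₁) :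
    MatInvHom R lam A t n w w' T₂ := by
  obtain ⟨φ, hφ⟩ := h
  refine ⟨(bcR g R).mapMatrix.comp φ, fun a => ?_⟩
  rw [AlgHom.comp_apply, AlgHom.comp_apply, hφ, map_mul, map_mul, mapMatrix_matT, mapMatrix_matT,
    mapMatrix_lamTr]

end Def

section Descend

variable {S : Type u} [CommRing S] {R : Type v} [CommRing R] [Algebra S R]
  {A : Type w'} [Ring A] [Algebra R A] {n : ℕ} {T : Type u'} [CommRing T] [Algebra S T]

/-- descent of an algebra map `A → M_n(T ⊗ R)` to a finite stage, remembering the map -/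
theorem matHom_descend' (D : Approx.{u, u', w} S T) [Module.Flat S T] [Module.Finite R A]
    [Module.Projective R A] (φ : A →ₐ[R] Matrix (Fin n) (Fin n) (T ⊗[S] R)) :
    ∃ (j : D.ι) (ψ : A →ₐ[R] Matrix (Fin n) (Fin n) (D.obj j ⊗[S] R)),
      ∀ x, (bcR (D.of j) R).mapMatrix (ψ x) = φ x := by
  classical
  obtain ⟨m, f, g, -, -, hfg⟩ := Module.Finite.exists_comp_eq_id_of_projective R A
  let a : Fin m → A := fun k => f (Pi.single k 1)
  have hx : ∀ x : A, x = ∑ k, g x k • a k := by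
    intro x
    have h1 : f (g x) = x := by
      have := congrArg (fun F => F x) hfg
      simpa using this
    conv_lhs => rw [← h1]
    rw [LinearMap.pi_apply_eq_sum_univ f (g x)]
    refine Finset.sum_congr rfl fun k _ => ?_
    congr 2
    funext j
    simp [Pi.single_apply, eq_comm]
  -- lift the matrices
  obtain ⟨i, w, hw⟩ := D.exists_ofM_finite R
    (fun kpq : Fin m × Fin n × Fin n => φ (a kpq.1) kpq.2.1 kpq.2.2)
  let N : Fin m → Matrix (Fin n) (Fin n) (D.obj i ⊗[S] R) := fun k => Matrix.of fun p q => w (k, p, q)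
  let ψ : A →ₗ[R] Matrix (Fin n) (Fin n) (D.obj i ⊗[S] R) :=
    ∑ k, ((LinearMap.proj k).comp g).smulRight (N k)
  have hψ : ∀ x, ψ x = ∑ k, g x k • N k := by
    intro x
    simp [ψ]
  have hofN : ∀ k, (bcR (D.of i) R).mapMatrix (N k) = φ (a k) := by
    intro k
    ext p q
    have := hw (k, p, q)
    rw [← D.ofA_eq_ofM] at this
    exact this
  have hofψ : ∀ x, (bcR (D.of i) R).mapMatrix (ψ x) = φ x := by
    intro x
    rw [hψ, map_sum]
    conv_rhs => rw [hx x, map_sum]
    refine Finset.sum_congr rfl fun k _ => ?_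
    rw [map_smul, map_smul, hofN]
  -- the relations
  obtain ⟨j, hij, hj⟩ := D.ofM_eq_zero_finite R (κ := (Fin m × Fin m × Fin n × Fin n) ⊕ (Fin n × Fin n))
    (fun idx => Sum.elim
      (fun klpq : Fin m × Fin m × Fin n × Fin n =>
        (ψ (a klpq.1 * a klpq.2.1) - ψ (a klpq.1) * ψ (a klpq.2.1)) klpq.2.2.1 klpq.2.2.2)
      (fun pq : Fin n × Fin n => (ψ 1 - 1) pq.1 pq.2) idx) (by
    intro idx
    rcases idx with ⟨k, l, p, q⟩ | ⟨p, q⟩
    · simp only [Sum.elim_inl]
      have h1 : (bcR (D.of i) R).mapMatrix (ψ (a k * a l) - ψ (a k) * ψ (a l)) = 0 := by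
        rw [map_sub, map_mul (bcR (D.of i) R).mapMatrix, hofψ, hofψ, hofψ, map_mul φ, sub_self]
      have h2 := congrFun (congrFun h1 p) q
      rw [← D.ofA_eq_ofM]
      exact h2
    · simp only [Sum.elim_inr]
      have h1 : (bcR (D.of i) R).mapMatrix (ψ 1 - 1) = 0 := by
        rw [map_sub, hofψ, map_one φ, map_one (bcR (D.of i) R).mapMatrix, sub_self]
      have h2 := congrFun (congrFun h1 p) q
      rw [← D.ofA_eq_ofM]
      exact h2)
  let ψj : A →ₗ[R] Matrix (Fin n) (Fin n) (D.obj j ⊗[S] R) :=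
    (bcR (D.tr hij) R).mapMatrix.toLinearMap ∘ₗ ψ
  have hψj : ∀ x, ψj x = (bcR (D.tr hij) R).mapMatrix (ψ x) := fun x => rfl
  have hmulgen : ∀ k l, ψj (a k * a l) = ψj (a k) * ψj (a l) := by
    intro k l
    have h1 : (bcR (D.tr hij) R).mapMatrix (ψ (a k * a l) - ψ (a k) * ψ (a l)) = 0 := by
      ext p q
      have := hj (Sum.inl (k, l, p, q))
      simp only [Sum.elim_inl] at this
      rw [← D.trA_eq_trM] at this
      exact this
    rw [map_sub, map_mul (bcR (D.tr hij) R).mapMatrix, sub_eq_zero] at h1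
    rw [hψj, hψj, hψj, h1]
  have hone : ψj 1 = 1 := by
    have h1 : (bcR (D.tr hij) R).mapMatrix (ψ 1 - 1) = 0 := by
      ext p q
      have := hj (Sum.inr (p, q))
      simp only [Sum.elim_inr] at this
      rw [← D.trA_eq_trM] at this
      exact this
    rw [map_sub, map_one (bcR (D.tr hij) R).mapMatrix, sub_eq_zero] at h1
    rw [hψj, h1]
  have hmul : ∀ x y, ψj (x * y) = ψj x * ψj y := by
    intro x y
    conv_lhs => rw [hx x, hx y, Finset.sum_mul_sum]
    conv_rhs => rw [hx x, hx y, map_sum, map_sum, Finset.sum_mul_sum]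
    rw [map_sum]
    refine Finset.sum_congr rfl fun k _ => ?_
    rw [map_sum]
    refine Finset.sum_congr rfl fun l _ => ?_
    rw [smul_mul_smul_comm, map_smul, hmulgen, map_smul, map_smul, smul_mul_smul_comm]
  refine ⟨j, AlgHom.ofLinearMap ψj hone hmul, fun x => ?_⟩
  show (bcR (D.of j) R).mapMatrix (ψj x) = φ x
  rw [hψj, ← hofψ x]
  ext p q
  simp only [AlgHom.mapMatrix_apply, Matrix.map_apply, bcR_apply]
  exact D.ofA_trA R hij _

theorem lamTr_smul (lam : R ≃ₐ[S] R) (r : R) (X : Matrix (Fin n) (Fin n) (T ⊗[S] R)) :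
    AzInv.lamTr (lamT S lam T) (r • X) = lam r • AzInv.lamTr (lamT S lam T) X := by
  ext i j
  rw [AzInv.lamTr_apply, Matrix.smul_apply, Matrix.smul_apply, AzInv.lamTr_apply,
    Algebra.smul_def, Algebra.smul_def, map_mul,
    Algebra.TensorProduct.right_algebraMap_apply, Algebra.TensorProduct.right_algebraMap_apply,
    lamT_tmul]

theorem MatInvHom.descend {lam : R ≃ₐ[S] R} {t : AzInv.LamInv R A lam}
    {w w' : Matrix (Fin n) (Fin n) R} (D : Approx.{u, u', w} S T) [Module.Flat S T]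
    [Module.Finite R A] [Module.Projective R A] (h : MatInvHom R lam A t n w w' T) :
    ∃ i : D.ι, MatInvHom R lam A t n w w' (D.obj i) := by
  classical
  obtain ⟨φ, hφ⟩ := h
  obtain ⟨i, ψ, hψ⟩ := matHom_descend' D φ
  obtain ⟨m, a, ha⟩ := Module.Finite.exists_fin (R := R) (M := A)
  obtain ⟨j, hij, hj⟩ := D.ofM_eq_zero_finite R (κ := Fin m × Fin n × Fin n)
    (fun kpq => ((ψ (t (a kpq.1)) - matT R n (D.obj i) w *
      AzInv.lamTr (lamT S lam (D.obj i)) (ψ (a kpq.1)) * matT R n (D.obj i) w' :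
        Matrix (Fin n) (Fin n) (D.obj i ⊗[S] R))) kpq.2.1 kpq.2.2) (by
    rintro ⟨k, p, q⟩
    have h1 : (bcR (D.of i) R).mapMatrix (ψ (t (a k)) - matT R n (D.obj i) w *
      AzInv.lamTr (lamT S lam (D.obj i)) (ψ (a k)) * matT R n (D.obj i) w') = 0 := by
      rw [map_sub, map_mul, map_mul, mapMatrix_matT, mapMatrix_matT, mapMatrix_lamTr, hψ, hψ, hφ,
        sub_self]
    have h2 := congrFun (congrFun h1 p) q
    rw [← D.ofA_eq_ofM]
    exact h2)
  refine ⟨j, (bcR (D.tr hij) R).mapMatrix.comp ψ, ?_⟩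
  have hgen : ∀ k, (bcR (D.tr hij) R).mapMatrix (ψ (t (a k))) = matT R n (D.obj j) w *
      AzInv.lamTr (lamT S lam (D.obj j)) ((bcR (D.tr hij) R).mapMatrix (ψ (a k))) *
        matT R n (D.obj j) w' := by
    intro k
    have h1 : (bcR (D.tr hij) R).mapMatrix (ψ (t (a k)) - matT R n (D.obj i) w *
      AzInv.lamTr (lamT S lam (D.obj i)) (ψ (a k)) * matT R n (D.obj i) w') = 0 := by
      ext p q
      have := hj (k, p, q)
      rw [← D.trA_eq_trM] at this
      exact this
    rw [map_sub, map_mul, map_mul, mapMatrix_matT, mapMatrix_matT, mapMatrix_lamTr,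
      sub_eq_zero] at h1
    exact h1
  intro x
  have hx : x ∈ Submodule.span R (Set.range a) := by rw [ha]; exact Submodule.mem_top
  simp only [AlgHom.comp_apply]
  refine Submodule.span_induction ?_ ?_ ?_ ?_ hx
  · rintro _ ⟨k, rfl⟩
    exact hgen k
  · simp [AzInv.lamTr]
  · intro x y _ _ hx hy
    have e1 : AzInv.lamTr (lamT S lam (D.obj j)) ((bcR (D.tr hij) R).mapMatrix (ψ x) +
        (bcR (D.tr hij) R).mapMatrix (ψ y)) =
        AzInv.lamTr (lamT S lam (D.obj j)) ((bcR (D.tr hij) R).mapMatrix (ψ x)) +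
          AzInv.lamTr (lamT S lam (D.obj j)) ((bcR (D.tr hij) R).mapMatrix (ψ y)) := by
      ext p q
      simp [AzInv.lamTr_apply]
    rw [t.map_add, map_add, map_add, map_add, map_add, hx, hy, e1, mul_add, add_mul]
  · intro r x _ hx
    rw [t.map_smul, map_smul, map_smul, map_smul, map_smul, hx, lamTr_smul, mul_smul_comm,
      smul_mul_assoc]

end Descend

section Pi

variable {S : Type u} [CommRing S] {R : Type v} [CommRing R] [Algebra S R]
  {A : Type w'} [Ring A] [Algebra R A] {n : ℕ}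

theorem matrix_pi_ext' {ι : Type u} [Fintype ι] [DecidableEq ι] (T : ι → Type u)
    [∀ i, CommRing (T i)] [∀ i, Algebra S (T i)]
    {X Y : Matrix (Fin n) (Fin n) ((∀ i, T i) ⊗[S] R)}
    (h : ∀ i, (bcR (Pi.evalAlgHom S T i) R).mapMatrix X =
      (bcR (Pi.evalAlgHom S T i) R).mapMatrix Y) : X = Y := by
  ext p q
  refine pi_ext T R fun i => ?_
  have := congrFun (congrFun (h i) p) q
  exact this

/-- product of splitting maps, remembering the components -/
theorem matHom_pi' {ι : Type u} [Fintype ι] [DecidableEq ι] (T : ι → Type u)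
    [∀ i, CommRing (T i)] [∀ i, Algebra S (T i)]
    (φ : ∀ i, A →ₐ[R] Matrix (Fin n) (Fin n) (T i ⊗[S] R)) :
    ∃ Φ : A →ₐ[R] Matrix (Fin n) (Fin n) ((∀ i, T i) ⊗[S] R),
      ∀ i x, (bcR (Pi.evalAlgHom S T i) R).mapMatrix (Φ x) = φ i x := by
  let Φ := Groth.Agent.Lib.TPowH6.matrixPiHom (fun i => T i ⊗[S] R) φ
  let e : (∀ i, T i ⊗[S] R) ≃ₐ[R] (∀ i, T i) ⊗[S] R :=
    AlgEquiv.symm (AlgEquiv.ofRingEquiv (f := piEquiv T R) (by
      intro r
      funext i
      rw [piEquiv_apply, Algebra.TensorProduct.right_algebraMap_apply, piProj_tmul,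
        Pi.algebraMap_apply, Algebra.TensorProduct.right_algebraMap_apply]
      rfl))
  refine ⟨e.toAlgHom.mapMatrix.comp Φ, fun i x => ?_⟩
  ext p q
  show piProj T R i ((piEquiv T R).symm (fun i' => φ i' x p q)) = φ i x p q
  rw [← piEquiv_apply, RingEquiv.apply_symm_apply]

theorem MatInvHom.pi {lam : R ≃ₐ[S] R} {t : AzInv.LamInv R A lam}
    {w w' : Matrix (Fin n) (Fin n) R} {ι : Type u} [Fintype ι] [DecidableEq ι] (T : ι → Type u)
    [∀ i, CommRing (T i)] [∀ i, Algebra S (T i)] (h : ∀ i, MatInvHom R lam A t n w w' (T i)) :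
    MatInvHom R lam A t n w w' (∀ i, T i) := by
  choose φ hφ using h
  obtain ⟨Φ, hΦ⟩ := matHom_pi' T φ
  refine ⟨Φ, fun a => ?_⟩
  apply matrix_pi_ext' T
  intro i
  rw [hΦ, map_mul, map_mul, mapMatrix_matT, mapMatrix_matT, mapMatrix_lamTr, hΦ, hφ]

end Pi

end Groth.Agent.Lib.AzInvH6
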