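import Groth.Prelude.Def_W4c2azumayainvolQEt
import Mathlib.RingTheory.LocalRing.MaximalIdeal.Basic
import Mathlib.RingTheory.Jacobson.Radical
import Mathlib.RingTheory.Jacobson.Ideal
import Mathlib.Tactic.LinearCombination
import Mathlib.Tactic.Ring

/-!
# Rings with involution: basic lemmas (helper6)
-/

set_option autoImplicit false
universe u v

namespace Groth.Agent.Lib.RInv_helper6

variable {R : Type v} [CommRing R]

theorem mem_jacobson_iff' {x : R} : x ∈ Ring.jacobson R ↔ ∀ y, IsUnit (x * y + 1) := by
  rw [← Ideal.jacobson_bot]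
  exact Ideal.mem_jacobson_bot

/-- the Jacobson radical is stable under ring automorphisms -/
theorem map_mem_jacobson (lam : R ≃+* R) {x : R} (hx : x ∈ Ring.jacobson R) :
    lam x ∈ Ring.jacobson R := by
  rw [mem_jacobson_iff'] at hx ⊢
  intro y
  have h := (hx (lam.symm y)).map lam
  have e : lam (x * lam.symm y + 1) = lam x * y + 1 := by
    rw [map_add, map_mul, map_one, RingEquiv.apply_symm_apply]
  rwa [e] at h

/-- a unit cannot lie in the Jacobson radical of a nontrivial ring -/
theorem not_isUnit_of_mem_jacobson [Nontrivial R] {x : R} (hx : x ∈ Ring.jacobson R) :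
    ¬ IsUnit x := by
  intro hu
  obtain ⟨u, rfl⟩ := hu
  rw [mem_jacobson_iff'] at hx
  have := hx (-(↑u⁻¹ : R))
  have e : (u : R) * (-(↑u⁻¹ : R)) + 1 = 0 := by
    rw [mul_neg, Units.mul_inv]; ring
  rw [e] at this
  exact not_isUnit_zero this

section Fixed

variable {S : Type u} [CommRing S] [Algebra S R] {lam : R ≃+* R}

/-- an element of the local fixed ring whose image lies in the Jacobson radical is in the maximal
ideal -/
theorem mem_maximalIdeal_of_algebraMap_mem_jacobson [IsLocalRing S]
    (hS : RInv.IsFixedRing S R lam) {b : S} (hb : algebraMap S R b ∈ Ring.jacobson R) :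
    b ∈ IsLocalRing.maximalIdeal S := by
  have : Nontrivial R := hS.1.nontrivial
  rw [IsLocalRing.mem_maximalIdeal]
  intro hu
  exact not_isUnit_of_mem_jacobson hb (hu.map (algebraMap S R))

/-- fixed elements in the Jacobson radical lie in `m_S R` -/
theorem mem_map_maximalIdeal_of_fixed [IsLocalRing S] (hS : RInv.IsFixedRing S R lam) {x : R}
    (hfix : lam x = x) (hx : x ∈ Ring.jacobson R) :
    x ∈ (IsLocalRing.maximalIdeal S).map (algebraMap S R) := by
  obtain ⟨b, rfl⟩ := (hS.2 x).1 hfix
  exact Ideal.mem_map_of_mem _ (mem_maximalIdeal_of_algebraMap_mem_jacobson hS hx)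

/-- S15581 -/
theorem jacobson_sq_le [IsLocalRing S] (hlam : Function.Involutive lam)
    (hS : RInv.IsFixedRing S R lam) (h2 : IsUnit (2 : S)) :
    (Ring.jacobson R) ^ 2 ≤ (IsLocalRing.maximalIdeal S).map (algebraMap S R) := by
  set I := (IsLocalRing.maximalIdeal S).map (algebraMap S R) with hI
  rw [sq, Ideal.mul_le]
  intro a ha a' ha'
  obtain ⟨t, ht⟩ := h2
  let h : R := algebraMap S R (↑t⁻¹ : S)
  have h2h : (2 : R) * h = 1 := by
    have : (2 : S) * (↑t⁻¹ : S) = 1 := by rw [← ht]; exact Units.mul_inv t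
    have := congrArg (algebraMap S R) this
    rwa [map_mul, map_one, map_ofNat] at this
  have hla : lam a ∈ Ring.jacobson R := map_mem_jacobson lam ha
  have hla' : lam a' ∈ Ring.jacobson R := map_mem_jacobson lam ha'
  -- invariant and anti-invariant parts
  have hx : a + lam a ∈ I := mem_map_maximalIdeal_of_fixed hS
    (by rw [map_add, hlam a, add_comm]) (Ideal.add_mem _ ha hla)
  have hx' : a' + lam a' ∈ I := mem_map_maximalIdeal_of_fixed hS
    (by rw [map_add, hlam a', add_comm]) (Ideal.add_mem _ ha' hla')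
  have hyy : (a - lam a) * (a' - lam a') ∈ I := mem_map_maximalIdeal_of_fixed hS
    (by rw [map_mul, map_sub, map_sub, hlam a, hlam a']; ring)
    (Ideal.mul_mem_right _ _ (Ideal.sub_mem _ ha hla))
  have key : a * a' = h * h * ((a + lam a) * (a' + lam a') + (a + lam a) * (a' - lam a')
      + (a - lam a) * (a' + lam a') + (a - lam a) * (a' - lam a')) := by
    have e : ((a + lam a) * (a' + lam a') + (a + lam a) * (a' - lam a')
      + (a - lam a) * (a' + lam a') + (a - lam a) * (a' - lam a')) = 2 * 2 * (a * a') := by ring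
    rw [e]
    linear_combination (-(2 * h * a * a') - a * a') * h2h
  rw [key]
  apply Ideal.mul_mem_left
  refine Ideal.add_mem _ (Ideal.add_mem _ (Ideal.add_mem _ ?_ ?_) ?_) hyy
  · exact Ideal.mul_mem_right _ _ hx
  · exact Ideal.mul_mem_right _ _ hx
  · exact Ideal.mul_mem_left _ _ hx'

end Fixed

end Groth.Agent.Lib.RInv_helper6
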