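import Mathlib
import Groth.Prelude.Def_W4c2azumayainvolQEt
import Groth.Agent.Lib.RInv_helper6

/-!
# Rings with involution: quadratic étale structure from a unit `r - lam r` (helper6)
-/

set_option autoImplicit false
universe u v

namespace Groth.Agent.Lib.RInv2

variable {S : Type u} {R : Type v} [CommRing S] [CommRing R] [Algebra S R] {lam : R ≃+* R}

theorem lam_algebraMap (hS : RInv.IsFixedRing S R lam) (s : S) :
    lam (algebraMap S R s) = algebraMap S R s :=
  (hS.2 _).mpr ⟨s, rfl⟩

/-- decomposition `x = a + b r` -/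
theorem exists_decomp (hlam : Function.Involutive lam) (hS : RInv.IsFixedRing S R lam) {r : R}
    (hu : IsUnit (r - lam r)) (x : R) :
    ∃ a b : S, x = algebraMap S R a + algebraMap S R b * r := by
  obtain ⟨v, hv⟩ := hu.exists_right_inv
  have hlv : lam v = -v := by
    have h1 : lam (r - lam r) * lam v = 1 := by rw [← map_mul, hv, map_one]
    rw [map_sub, hlam r] at h1
    have h2 : (r - lam r) * (-(lam v)) = 1 := by linear_combination h1
    -- inverses are unique
    have h3 : -(lam v) = v := by
      calc -(lam v) = ((r - lam r) * v) * (-(lam v)) := by rw [hv, one_mul]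
        _ = v * ((r - lam r) * (-(lam v))) := by ring
        _ = v := by rw [h2, mul_one]
    linear_combination (-1 : R) * h3
  have hb : lam ((x - lam x) * v) = (x - lam x) * v := by
    rw [map_mul, map_sub, hlam x, hlv]; ring
  obtain ⟨b, hb'⟩ := (hS.2 _).mp hb
  have ha : lam (x - (x - lam x) * v * r) = x - (x - lam x) * v * r := by
    rw [map_sub, map_mul, hb]
    linear_combination (x - lam x) * hv
  obtain ⟨a, ha'⟩ := (hS.2 _).mp ha
  refine ⟨a, b, ?_⟩
  rw [ha', hb']; ring

theorem linearIndependent_one_r (hS : RInv.IsFixedRing S R lam) {r : R}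
    (hu : IsUnit (r - lam r)) : LinearIndependent S ![(1 : R), r] := by
  rw [Fintype.linearIndependent_iff]
  intro g hg
  rw [Fin.sum_univ_two] at hg
  simp only [Matrix.cons_val_zero, Matrix.cons_val_one, Algebra.smul_def, mul_one] at hg
  have hg2 := congrArg lam hg
  rw [map_add, map_mul, lam_algebraMap hS, lam_algebraMap hS, map_zero] at hg2
  have h1 : algebraMap S R (g 1) * (r - lam r) = 0 := by linear_combination hg - hg2
  have h2 : algebraMap S R (g 1) = 0 := (hu.mul_left_eq_zero).mp h1
  have h3 : algebraMap S R (g 0) = 0 := by rw [h2, zero_mul, add_zero] at hg; exact hg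
  intro i
  fin_cases i
  · exact hS.1 (by rw [map_zero]; exact h3)
  · exact hS.1 (by rw [map_zero]; exact h2)

theorem span_one_r (hlam : Function.Involutive lam) (hS : RInv.IsFixedRing S R lam) {r : R}
    (hu : IsUnit (r - lam r)) : ⊤ ≤ Submodule.span S (Set.range ![(1 : R), r]) := by
  intro x _
  obtain ⟨a, b, rfl⟩ := exists_decomp hlam hS hu x
  refine Submodule.add_mem _ ?_ ?_
  · rw [Algebra.algebraMap_eq_smul_one]
    exact Submodule.smul_mem _ _ (Submodule.subset_span ⟨0, rfl⟩)
  · rw [← Algebra.smul_def]
    exact Submodule.smul_mem _ _ (Submodule.subset_span ⟨1, rfl⟩)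

/-- the basis `{1, r}` -/
noncomputable def basisOfUnit (hlam : Function.Involutive lam) (hS : RInv.IsFixedRing S R lam)
    {r : R} (hu : IsUnit (r - lam r)) : Module.Basis (Fin 2) S R :=
  Module.Basis.mk (linearIndependent_one_r hS hu) (span_one_r hlam hS hu)

theorem subsingleton_kaehler (hlam : Function.Involutive lam) (hS : RInv.IsFixedRing S R lam)
    {r : R} (hu : IsUnit (r - lam r)) : Subsingleton (Ω[R⁄S]) := by
  have hDr : KaehlerDifferential.D S R r = 0 := by
    -- r^2 = t r - n
    have ht : lam (r + lam r) = r + lam r := by rw [map_add, hlam r, add_comm]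
    have hn : lam (r * lam r) = r * lam r := by rw [map_mul, hlam r, mul_comm]
    obtain ⟨t, ht'⟩ := (hS.2 _).mp ht
    obtain ⟨n, hn'⟩ := (hS.2 _).mp hn
    have hrel : r * r = algebraMap S R t * r - algebraMap S R n := by
      rw [ht', hn']; ring
    have h1 := congrArg (KaehlerDifferential.D S R) hrel
    rw [Derivation.leibniz, map_sub, Derivation.leibniz, Derivation.map_algebraMap,
      Derivation.map_algebraMap, smul_zero, add_zero, sub_zero] at h1
    have h2 : (r - lam r) • KaehlerDifferential.D S R r = 0 := by
      have e : r - lam r = r + r - algebraMap S R t := by rw [ht']; ring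
      rw [e, sub_smul, add_smul, h1, sub_self]
    obtain ⟨v, hv⟩ := hu.exists_left_inv
    have h3 := congrArg (fun m => v • m) h2
    simp only [smul_smul, hv, one_smul, smul_zero] at h3
    exact h3
  have hD : ∀ x : R, KaehlerDifferential.D S R x = 0 := by
    intro x
    obtain ⟨a, b, rfl⟩ := exists_decomp hlam hS hu x
    rw [map_add, Derivation.map_algebraMap, zero_add, Derivation.leibniz,
      Derivation.map_algebraMap, smul_zero, add_zero, hDr, smul_zero]
  have htop : (⊤ : Submodule R (Ω[R⁄S])) = ⊥ := by
    rw [← KaehlerDifferential.span_range_derivation, Submodule.span_eq_bot]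
    rintro _ ⟨x, rfl⟩
    exact hD x
  exact (Submodule.subsingleton_iff R).mp ⟨fun a b => by
    have : ∀ c : Submodule R (Ω[R⁄S]), c = ⊥ := fun c => le_bot_iff.mp (htop ▸ le_top)
    rw [this a, this b]⟩

theorem isQuadEtale_of_unit (hlam : Function.Involutive lam) (hS : RInv.IsFixedRing S R lam)
    {r : R} (hu : IsUnit (r - lam r)) : RInv.IsQuadEtale S R := by
  have b := basisOfUnit hlam hS hu
  haveI : Module.Finite S R := Module.Finite.of_basis b
  haveI : Module.Free S R := Module.Free.of_basis b
  refine ⟨inferInstance, inferInstance, ⟨subsingleton_kaehler hlam hS hu⟩, fun p => ?_⟩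
  have : Nontrivial S := p.nontrivial
  rw [Module.rankAtStalk_eq_finrank_of_free]
  simp [Module.finrank_eq_card_basis b]

end Groth.Agent.Lib.RInv2
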