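import Mathlib
import Groth.Prelude.Def_W4c2azumayainvolQEt
import Groth.Agent.Lib.RInv_helper6
import Groth.Agent.Lib.RInv2_helper6

/-!
# Rings with involution over a local fixed ring (helper6)
-/

set_option autoImplicit false
universe u v

open TensorProduct

namespace Groth.Agent.Lib.RInv3

open Groth.Agent.Lib.RInv_helper6 Groth.Agent.Lib.RInv2

variable {S : Type u} {R : Type v} [CommRing S] [CommRing R] [Algebra S R] {lam : R ≃+* R}

/-- (A) `m_S R ⊆ Jac(R)` -/
theorem map_maximalIdeal_le_jacobson [IsLocalRing S] (hlam : Function.Involutive lam)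
    (hS : RInv.IsFixedRing S R lam) :
    (IsLocalRing.maximalIdeal S).map (algebraMap S R) ≤ Ring.jacobson R := by
  rw [Ideal.map_le_iff_le_comap]
  intro s hs
  rw [Ideal.mem_comap, mem_jacobson_iff']
  intro y
  -- norm of s y + 1
  have hfix : lam (algebraMap S R s * (y * lam y) + y + lam y) =
      algebraMap S R s * (y * lam y) + y + lam y := by
    rw [map_add, map_add, map_mul, map_mul, lam_algebraMap hS, hlam y]; ring
  obtain ⟨t0, ht0⟩ := (hS.2 _).mp hfix
  have hunit : IsUnit (1 + s * t0) := by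
    have h1 : s * t0 ∈ IsLocalRing.maximalIdeal S := Ideal.mul_mem_right _ _ hs
    by_contra hnu
    have h2 : 1 + s * t0 ∈ IsLocalRing.maximalIdeal S := (IsLocalRing.mem_maximalIdeal _).mpr hnu
    have h3 : (1 : S) ∈ IsLocalRing.maximalIdeal S := by
      have := Ideal.sub_mem _ h2 h1
      rwa [add_sub_cancel_right] at this
    exact (Ideal.ne_top_iff_one _).mp (IsLocalRing.maximalIdeal.isMaximal S).ne_top h3
  have hprod : (algebraMap S R s * y + 1) * (algebraMap S R s * lam y + 1) =
      algebraMap S R (1 + s * t0) := by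
    rw [map_add, map_one, map_mul, ht0]; ring
  have h4 : IsUnit ((algebraMap S R s * y + 1) * (algebraMap S R s * lam y + 1)) := by
    rw [hprod]; exact hunit.map _
  exact isUnit_of_mul_isUnit_left h4

/-- (B) an anti-invariant element outside the Jacobson radical is a unit -/
theorem isUnit_of_notMem_jacobson [IsLocalRing S] (hlam : Function.Involutive lam)
    (hS : RInv.IsFixedRing S R lam) {y : R} (hy : lam y = -y) (hyJ : y ∉ Ring.jacobson R) :
    IsUnit y := by
  rw [Ring.jacobson_eq_sInf_isMaximal, Ideal.mem_sInf] at hyJ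
  push_neg at hyJ
  obtain ⟨n, hn, hyn⟩ := hyJ
  have hnmax : n.IsMaximal := hn
  by_contra hnu
  obtain ⟨n', hn', hyn'⟩ := exists_max_ideal_of_mem_nonunits (mem_nonunits_iff.mpr hnu)
  -- the norm of y
  have hfix : lam (y * lam y) = y * lam y := by rw [map_mul, hlam y, mul_comm]
  obtain ⟨s, hs⟩ := (hS.2 _).mp hfix
  have hsm : s ∈ IsLocalRing.maximalIdeal S := by
    rw [IsLocalRing.mem_maximalIdeal]
    intro hu
    have h1 : IsUnit (y * lam y) := by rw [← hs]; exact hu.map _
    have h2 : y * lam y ∈ n' := Ideal.mul_mem_right _ _ hyn'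
    exact hn'.ne_top (Ideal.eq_top_of_isUnit_mem _ h2 h1)
  have h3 : y * lam y ∈ n := by
    rw [← hs]
    exact Ring.jacobson_le_of_isMaximal n
      (map_maximalIdeal_le_jacobson hlam hS (Ideal.mem_map_of_mem _ hsm))
  rcases hnmax.isPrime.mem_or_mem h3 with h4 | h4
  · exact hyn h4
  · rw [hy] at h4
    exact hyn (by simpa using n.neg_mem h4)

/-- `lam` as an `S`-algebra homomorphism -/
def lamAlg (hS : RInv.IsFixedRing S R lam) : R →ₐ[S] R :=
  { lam.toRingHom with commutes' := lam_algebraMap hS }

@[simp] theorem lamAlg_apply (hS : RInv.IsFixedRing S R lam) (x : R) : lamAlg hS x = lam x := rfl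

/-- (C) an involution of an unramified algebra that is trivial modulo the Jacobson radical
is trivial -/
theorem eq_self_of_sub_mem_jacobson [Algebra.FormallyUnramified S R] [Algebra.EssFiniteType S R]
    (hS : RInv.IsFixedRing S R lam) (h : ∀ r : R, lam r - r ∈ Ring.jacobson R) (x : R) :
    lam x = x := by
  obtain ⟨ψ, hψ⟩ : ∃ ψ : R ⊗[S] R →ₐ[S] R, ψ =
      Algebra.TensorProduct.productMap (lamAlg hS) (AlgHom.id S R) := ⟨_, rfl⟩
  have hψt : ∀ a b : R, ψ (a ⊗ₜ[S] b) = lam a * b := by
    intro a b; rw [hψ]; simp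
  obtain ⟨t, ht⟩ : ∃ t : R ⊗[S] R, t = Algebra.FormallyUnramified.elem S R := ⟨_, rfl⟩
  have h1 : ((1 : R) ⊗ₜ[S] x - x ⊗ₜ[S] (1 : R)) * t = 0 := by
    rw [ht]; exact Algebra.FormallyUnramified.one_tmul_sub_tmul_one_mul_elem (R := S) (S := R) x
  have h2 : Algebra.TensorProduct.lmul' S t = 1 := by
    rw [ht]; exact Algebra.FormallyUnramified.lmul_elem (R := S) (S := R)
  have h3 : (x - lam x) * ψ t = 0 := by
    have := congrArg ψ h1
    rw [map_mul, map_sub, hψt, hψt, map_zero, map_one, one_mul, mul_one] at this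
    exact this
  -- ψ z - μ z ∈ Jac
  have h4 : ∀ z : R ⊗[S] R, ψ z - Algebra.TensorProduct.lmul' S z ∈ Ring.jacobson R := by
    intro z
    induction z using TensorProduct.induction_on with
    | zero => simp
    | tmul a b =>
      rw [hψt, Algebra.TensorProduct.lmul'_apply_tmul, ← sub_mul]
      exact Ideal.mul_mem_right _ _ (h a)
    | add z w hz hw =>
      rw [map_add, map_add, add_sub_add_comm]
      exact Ideal.add_mem _ hz hw
  have h5 : IsUnit (ψ t) := by
    have h6 := h4 t
    rw [h2] at h6
    rw [mem_jacobson_iff'] at h6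
    have := h6 1
    rwa [mul_one, sub_add_cancel] at this
  have h7 : x - lam x = 0 := (h5.mul_left_eq_zero).mp h3
  exact (sub_eq_zero.mp h7).symm

/-- (D) if `lam` is trivial, `R` has rank one at the closed point -/
theorem rankAtStalk_eq_one_of_trivial [IsLocalRing S] (hS : RInv.IsFixedRing S R lam)
    (h : ∀ x : R, lam x = x) :
    Module.rankAtStalk (R := S) R (IsLocalRing.closedPoint S) = 1 := by
  have hbij : Function.Bijective (Algebra.linearMap S R) :=
    ⟨hS.1, fun x => (hS.2 x).mp (h x)⟩
  have e : S ≃ₗ[S] R := LinearEquiv.ofBijective (Algebra.linearMap S R) hbij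
  rw [← Module.rankAtStalk_eq_of_equiv e, Module.rankAtStalk_self]
  rfl

/-- S15574 core -/
theorem exists_sub_isUnit_of_isQuadEtale [IsLocalRing S] (hlam : Function.Involutive lam)
    (hS : RInv.IsFixedRing S R lam) (hq : RInv.IsQuadEtale S R) :
    ∃ r : R, IsUnit (r - lam r) := by
  by_contra hcon
  push_neg at hcon
  obtain ⟨hfin, hproj, hunr, hrank⟩ := hq
  have h : ∀ r : R, lam r - r ∈ Ring.jacobson R := by
    intro r
    by_contra hr
    have hy : lam (lam r - r) = -(lam r - r) := by rw [map_sub, hlam r]; ring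
    have hu := isUnit_of_notMem_jacobson hlam hS hy hr
    apply hcon r
    have : r - lam r = -(lam r - r) := by ring
    rw [this]; exact hu.neg
  have htriv := eq_self_of_sub_mem_jacobson hS h
  have h1 := rankAtStalk_eq_one_of_trivial hS htriv
  rw [hrank] at h1
  exact absurd h1 (by norm_num)

end Groth.Agent.Lib.RInv3
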