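import Mathlib
import Groth.Prelude.Def_QuadGrp

/-!
# The half-discriminant of an odd-rank quadratic form under a change of variables (helper9)
-/

set_option autoImplicit false
universe u v
open MvPolynomial Matrix

namespace QuadDisc9

section Alt

/-- the universal alternating matrix -/
noncomputable def altU (n : ℕ) : Matrix (Fin n) (Fin n) (MvPolynomial (Fin n × Fin n) ℤ) :=
  Matrix.of fun i j => if i < j then X (i, j) else if j < i then - X (j, i) else 0

theorem altU_transpose (n : ℕ) : (altU n)ᵀ = - altU n := by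
  ext i j
  simp only [altU, Matrix.transpose_apply, Matrix.of_apply, Matrix.neg_apply]
  rcases lt_trichotomy i j with h | h | h
  · simp [h, not_lt_of_gt h]
  · subst h; simp
  · simp [h, not_lt_of_gt h]

theorem det_altU (n : ℕ) (hn : Odd n) : (altU n).det = 0 := by
  have h1 : (altU n).det = (altU n)ᵀ.det := (Matrix.det_transpose _).symm
  rw [altU_transpose, Matrix.det_neg, Fintype.card_fin, hn.neg_one_pow, neg_one_mul] at h1
  have h2 : (2 : MvPolynomial (Fin n × Fin n) ℤ) * (altU n).det = 0 := by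
    rw [two_mul]
    nth_rewrite 1 [h1]
    exact neg_add_cancel _
  rcases mul_eq_zero.mp h2 with h | h
  · exact absurd h two_ne_zero
  · exact h

/-- an alternating matrix of odd size over a commutative ring has determinant zero -/
theorem det_eq_zero_of_alternating {R : Type*} [CommRing R] (n : ℕ) (hn : Odd n)
    (M : Matrix (Fin n) (Fin n) R) (hdiag : ∀ i, M i i = 0) (hskew : ∀ i j, M i j = - M j i) :
    M.det = 0 := by
  let φ : MvPolynomial (Fin n × Fin n) ℤ →+* R := eval₂Hom (Int.castRingHom R) (fun p => M p.1 p.2)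
  have hφ : φ.mapMatrix (altU n) = M := by
    ext i j
    simp only [RingHom.mapMatrix_apply, Matrix.map_apply, altU, Matrix.of_apply]
    rcases lt_trichotomy i j with h | h | h
    · simp [h, φ]
    · subst h; simp [hdiag]
    · simp only [not_lt_of_gt h, h, if_false, if_true, map_neg]
      rw [hskew i j]
      simp [φ]
  rw [← hφ, ← RingHom.map_det, det_altU n hn, map_zero]

end Alt

section Half

variable {n : ℕ}

theorem two_eq_zero_mvz2 (σ : Type*) : (2 : MvPolynomial σ (ZMod 2)) = 0 := by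
  have h3 : (2 : ZMod 2) = 0 := rfl
  have h2 : (2 : MvPolynomial σ (ZMod 2)) = C (2 : ZMod 2) := (map_ofNat C 2).symm
  rw [h2, h3, map_zero]

theorem map_univPolarMat_zmod2_det (hn : Odd n) :
    MvPolynomial.map (Int.castRingHom (ZMod 2)) (QuadGrp.discUniv n) = 0 := by
  unfold QuadGrp.discUniv
  rw [RingHom.map_det]
  apply det_eq_zero_of_alternating n hn
  · intro i
    simp only [RingHom.mapMatrix_apply, Matrix.map_apply, QuadGrp.univPolarMat, Matrix.of_apply, if_true,
      map_mul]
    have : (MvPolynomial.map (Int.castRingHom (ZMod 2))) (2 : MvPolynomial (Sym2 (Fin n)) ℤ) = 0 := by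
      rw [map_ofNat]
      exact two_eq_zero_mvz2 _
    rw [this, zero_mul]
  · intro i j
    by_cases h : i = j
    · subst h
      have hchar : ∀ x : MvPolynomial (Sym2 (Fin n)) (ZMod 2), x = -x := by
        intro x
        have : x + x = 0 := by
          rw [← two_mul, two_eq_zero_mvz2, zero_mul]
        exact eq_neg_of_add_eq_zero_left this
      exact hchar _
    · have hchar : ∀ x : MvPolynomial (Sym2 (Fin n)) (ZMod 2), x = -x := by
        intro x
        have : x + x = 0 := by
          rw [← two_mul, two_eq_zero_mvz2, zero_mul]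
        exact eq_neg_of_add_eq_zero_left this
      simp only [RingHom.mapMatrix_apply, Matrix.map_apply, QuadGrp.univPolarMat, Matrix.of_apply, if_neg h,
        if_neg (Ne.symm h)]
      rw [Sym2.eq_swap]
      exact hchar _

theorem two_mul_halfDiscUniv (hn : Odd n) :
    (2 : MvPolynomial (Sym2 (Fin n)) ℤ) * QuadGrp.halfDiscUniv n = QuadGrp.discUniv n := by
  ext s
  have h2 : (2 : MvPolynomial (Sym2 (Fin n)) ℤ) = C (2 : ℤ) := by simp
  rw [h2, MvPolynomial.coeff_C_mul, QuadGrp.coeff_halfDiscUniv]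
  have h0 := congrArg (MvPolynomial.coeff s) (map_univPolarMat_zmod2_det hn)
  rw [MvPolynomial.coeff_map, MvPolynomial.coeff_zero] at h0
  have hdvd : (2 : ℤ) ∣ MvPolynomial.coeff s (QuadGrp.discUniv n) := by
    have := (ZMod.intCast_zmod_eq_zero_iff_dvd (MvPolynomial.coeff s (QuadGrp.discUniv n)) 2).mp h0
    exact_mod_cast this
  exact Int.mul_ediv_cancel' hdvd

end Half

section COf

variable {n : ℕ} {R : Type*} [CommRing R]

/-- the coefficient function of the quadratic form `x ↦ xᵀ T x` -/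
def cOf (T : Matrix (Fin n) (Fin n) R) : Sym2 (Fin n) → R :=
  Sym2.lift ⟨fun i j => if i = j then T i i else T i j + T j i, by
    intro i j
    by_cases h : i = j
    · subst h; rfl
    · simp only [if_neg h, if_neg (Ne.symm h)]
      exact add_comm _ _⟩

theorem cOf_mk (T : Matrix (Fin n) (Fin n) R) (i j : Fin n) :
    cOf T (Sym2.mk i j) = if i = j then T i i else T i j + T j i := rfl

theorem polarMat_cOf (T : Matrix (Fin n) (Fin n) R) :
    (eval₂Hom (Int.castRingHom R) (cOf T)).mapMatrix (QuadGrp.univPolarMat n) = T + Tᵀ := by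
  ext i j
  simp only [RingHom.mapMatrix_apply, Matrix.map_apply, QuadGrp.univPolarMat, Matrix.of_apply,
    Matrix.add_apply, Matrix.transpose_apply]
  by_cases h : i = j
  · subst h
    simp [cOf_mk, two_mul]
  · simp [h, cOf_mk]

theorem disc_cOf (T : Matrix (Fin n) (Fin n) R) :
    eval₂ (Int.castRingHom R) (cOf T) (QuadGrp.discUniv n) = (T + Tᵀ).det := by
  have h := RingHom.map_det (eval₂Hom (Int.castRingHom R) (cOf T)) (QuadGrp.univPolarMat n)
  rw [polarMat_cOf] at h
  exact h

theorem two_mul_hd_cOf (hn : Odd n) (T : Matrix (Fin n) (Fin n) R) :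
    2 * eval₂ (Int.castRingHom R) (cOf T) (QuadGrp.halfDiscUniv n) = (T + Tᵀ).det := by
  rw [← disc_cOf, ← two_mul_halfDiscUniv hn, eval₂_mul]
  congr 1
  have h2 : (2 : MvPolynomial (Sym2 (Fin n)) ℤ) = C (2 : ℤ) := by simp
  rw [h2, eval₂_C]
  simp

theorem cOf_map {S : Type*} [CommRing S] (φ : R →+* S) (T : Matrix (Fin n) (Fin n) R) :
    φ ∘ cOf T = cOf (φ.mapMatrix T) := by
  funext s
  induction s using Sym2.ind with
  | _ i j =>
    simp only [Function.comp_apply, cOf_mk, RingHom.mapMatrix_apply, Matrix.map_apply]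
    split_ifs
    · rfl
    · exact map_add φ _ _

theorem map_hd_cOf {S : Type*} [CommRing S] (φ : R →+* S) (T : Matrix (Fin n) (Fin n) R) :
    φ (eval₂ (Int.castRingHom R) (cOf T) (QuadGrp.halfDiscUniv n)) =
      eval₂ (Int.castRingHom S) (cOf (φ.mapMatrix T)) (QuadGrp.halfDiscUniv n) := by
  rw [MvPolynomial.eval₂_comp_left φ, cOf_map]
  congr 1
  exact RingHom.ext_int _ _

end COf

section Univ

variable (n : ℕ)

/-- universal matrices -/
noncomputable def TU : Matrix (Fin n) (Fin n) (MvPolynomial ((Fin n × Fin n) ⊕ (Fin n × Fin n)) ℤ) :=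
  Matrix.of fun i j => X (Sum.inl (i, j))

noncomputable def GU : Matrix (Fin n) (Fin n) (MvPolynomial ((Fin n × Fin n) ⊕ (Fin n × Fin n)) ℤ) :=
  Matrix.of fun i j => X (Sum.inr (i, j))

theorem univ_identity (hn : Odd n) :
    eval₂ (Int.castRingHom _) (cOf ((GU n)ᵀ * TU n * GU n)) (QuadGrp.halfDiscUniv n) =
      (GU n).det ^ 2 * eval₂ (Int.castRingHom _) (cOf (TU n)) (QuadGrp.halfDiscUniv n) := by
  have h1 := two_mul_hd_cOf hn ((GU n)ᵀ * TU n * GU n)
  have h2 := two_mul_hd_cOf hn (TU n)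
  have e : (GU n)ᵀ * TU n * GU n + ((GU n)ᵀ * TU n * GU n)ᵀ = (GU n)ᵀ * (TU n + (TU n)ᵀ) * GU n := by
    rw [Matrix.transpose_mul, Matrix.transpose_mul, Matrix.transpose_transpose, Matrix.mul_add,
      Matrix.add_mul, Matrix.mul_assoc (GU n)ᵀ (TU n)ᵀ (GU n)]
  rw [e, Matrix.det_mul, Matrix.det_mul, Matrix.det_transpose, ← h2] at h1
  have h3 : (2 : MvPolynomial ((Fin n × Fin n) ⊕ (Fin n × Fin n)) ℤ) *
      eval₂ (Int.castRingHom _) (cOf ((GU n)ᵀ * TU n * GU n)) (QuadGrp.halfDiscUniv n) =
      2 * ((GU n).det ^ 2 * eval₂ (Int.castRingHom _) (cOf (TU n)) (QuadGrp.halfDiscUniv n)) := by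
    rw [h1]; ring
  exact mul_left_cancel₀ two_ne_zero h3

theorem hd_congr {R : Type*} [CommRing R] (hn : Odd n) (T G : Matrix (Fin n) (Fin n) R) :
    eval₂ (Int.castRingHom R) (cOf (Gᵀ * T * G)) (QuadGrp.halfDiscUniv n) =
      G.det ^ 2 * eval₂ (Int.castRingHom R) (cOf T) (QuadGrp.halfDiscUniv n) := by
  let φ : MvPolynomial ((Fin n × Fin n) ⊕ (Fin n × Fin n)) ℤ →+* R :=
    eval₂Hom (Int.castRingHom R) (Sum.elim (fun p => T p.1 p.2) (fun p => G p.1 p.2))
  have hT : φ.mapMatrix (TU n) = T := by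
    ext i j
    simp [TU, φ]
  have hG : φ.mapMatrix (GU n) = G := by
    ext i j
    simp [GU, φ]
  have e : φ.mapMatrix ((GU n)ᵀ * TU n * GU n) = Gᵀ * T * G := by
    rw [map_mul, map_mul, hT, hG]
    congr 2
    rw [← hG]
    ext i j
    simp
  have h := congrArg φ (univ_identity n hn)
  have hL : φ (eval₂ (Int.castRingHom _) (cOf ((GU n)ᵀ * TU n * GU n)) (QuadGrp.halfDiscUniv n)) =
      eval₂ (Int.castRingHom R) (cOf (Gᵀ * T * G)) (QuadGrp.halfDiscUniv n) := by
    rw [map_hd_cOf, e]
  have hR : φ ((GU n).det ^ 2 * eval₂ (Int.castRingHom _) (cOf (TU n)) (QuadGrp.halfDiscUniv n)) =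
      G.det ^ 2 * eval₂ (Int.castRingHom R) (cOf T) (QuadGrp.halfDiscUniv n) := by
    rw [map_mul φ, map_pow, map_hd_cOf, RingHom.map_det, hG, hT]
  rw [hL, hR] at h
  exact h

end Univ

section Main

variable {R : Type u} [CommRing R] {M : Type v} [AddCommGroup M] [Module R M]

theorem coeffs_eq_cOf {n : ℕ} (b : Module.Basis (Fin n) R M) (β : LinearMap.BilinMap R M R) :
    QuadGrp.coeffs b (LinearEquiv.refl R R) β.toQuadraticMap = cOf (LinearMap.toMatrix₂ b b β) := by
  funext s
  induction s using Sym2.ind with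
  | _ i j =>
    rw [QuadGrp.coeffs_mk, cOf_mk]
    by_cases h : i = j
    · subst h
      simp [LinearMap.toMatrix₂_apply]
    · simp only [if_neg h, LinearMap.toMatrix₂_apply, LinearEquiv.refl_apply]
      exact LinearMap.BilinMap.polar_toQuadraticMap _ _

theorem halfDisc_comp (m : ℕ) (b : Module.Basis (Fin (2 * m + 1)) R M) (Q : QuadraticForm R M)
    (g : M →ₗ[R] M) :
    QuadGrp.halfDisc b (LinearEquiv.refl R R) (Q.comp g) =
      LinearMap.det g ^ 2 * QuadGrp.halfDisc b (LinearEquiv.refl R R) Q := by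
  haveI : Module.Free R M := Module.Free.of_basis b
  obtain ⟨β, rfl⟩ := LinearMap.BilinMap.toQuadraticMap_surjective (R := R) (M := M) (N := R) Q
  have hn : Odd (2 * m + 1) := ⟨m, rfl⟩
  unfold QuadGrp.halfDisc
  rw [← LinearMap.BilinMap.toQuadraticMap_comp_same, coeffs_eq_cOf, coeffs_eq_cOf,
    LinearMap.toMatrix₂_compl₁₂ b b, hd_congr _ hn, LinearMap.det_toMatrix]

end Main

end QuadDisc9
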