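import Mathlib
import Groth.Prelude.Def_W4c2azumayainvolQEt
import Groth.Agent.Lib.RInv_helper6
import Groth.Agent.Lib.QuadDisc_helper9

/-!
# Diagonalization of hermitian forms over rings with involution whose fixed ring is local (helper3)
-/

set_option autoImplicit false

namespace Groth.Agent.Lib.HermDiagH3

open Matrix Groth.Agent.Lib.RInv_helper6

universe u v

section form

variable {A : Type v} [CommRing A] (lam : A ≃+* A) {n : ℕ} (h : Matrix (Fin n) (Fin n) A)

/-- the sesquilinear form `(x, y) ↦ (lam x)ᵀ h y` -/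
def ip (x y : Fin n → A) : A := dotProduct (fun i => lam (x i)) (h.mulVec y)

theorem ip_add_left (x x' y : Fin n → A) :
    ip lam h (x + x') y = ip lam h x y + ip lam h x' y := by
  unfold ip
  have : (fun i => lam ((x + x') i)) = (fun i => lam (x i)) + (fun i => lam (x' i)) := by
    funext i
    simp
  rw [this, add_dotProduct]

theorem ip_sub_left (x x' y : Fin n → A) :
    ip lam h (x - x') y = ip lam h x y - ip lam h x' y := by
  unfold ip
  have : (fun i => lam ((x - x') i)) = (fun i => lam (x i)) - (fun i => lam (x' i)) := by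
    funext i
    simp
  rw [this, sub_dotProduct]

theorem ip_smul_left (a : A) (x y : Fin n → A) :
    ip lam h (a • x) y = lam a * ip lam h x y := by
  unfold ip
  have : (fun i => lam ((a • x) i)) = lam a • (fun i => lam (x i)) := by
    funext i
    simp
  rw [this, smul_dotProduct, smul_eq_mul]

theorem ip_add_right (x y y' : Fin n → A) :
    ip lam h x (y + y') = ip lam h x y + ip lam h x y' := by
  unfold ip
  rw [Matrix.mulVec_add, dotProduct_add]

theorem ip_sub_right (x y y' : Fin n → A) :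
    ip lam h x (y - y') = ip lam h x y - ip lam h x y' := by
  unfold ip
  rw [Matrix.mulVec_sub, dotProduct_sub]

theorem ip_smul_right (a : A) (x y : Fin n → A) :
    ip lam h x (a • y) = a * ip lam h x y := by
  unfold ip
  rw [Matrix.mulVec_smul, dotProduct_smul, smul_eq_mul]

theorem ip_zero_right (x : Fin n → A) : ip lam h x 0 = 0 := by
  unfold ip
  rw [Matrix.mulVec_zero, dotProduct_zero]

theorem ip_symm (hlam : Function.Involutive lam) (ε : A)
    (herm : ε • (h.map lam).transpose = h) (x y : Fin n → A) :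
    ip lam h y x = ε * lam (ip lam h x y) := by
  have hent : ∀ i j, ε * lam (h i j) = h j i := by
    intro i j
    have := congrFun (congrFun herm j) i
    simpa [Matrix.smul_apply, Matrix.transpose_apply, Matrix.map_apply] using this
  unfold ip
  simp only [dotProduct, Matrix.mulVec, map_sum, map_mul, Finset.mul_sum, hlam _]
  rw [Finset.sum_comm]
  refine Finset.sum_congr rfl fun i _ => Finset.sum_congr rfl fun j _ => ?_
  rw [← hent i j]
  ring

theorem q_fix (hlam : Function.Involutive lam) (ε : A) (hε : ε = 1 ∨ ε = -1)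
    (herm : ε • (h.map lam).transpose = h) (x : Fin n → A) :
    lam (ip lam h x x) = ε * ip lam h x x := by
  have h1 := ip_symm lam h hlam ε herm x x
  have h2 : ε * ε = 1 := by rcases hε with rfl | rfl <;> ring
  calc lam (ip lam h x x) = (ε * ε) * lam (ip lam h x x) := by rw [h2, one_mul]
    _ = ε * (ε * lam (ip lam h x x)) := by ring
    _ = ε * ip lam h x x := by rw [← h1]

end form

section jac

variable {A : Type v} [CommRing A]

theorem isUnit_add_jac {w j : A} (hw : IsUnit w) (hj : j ∈ Ring.jacobson A) : IsUnit (w + j) := by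
  obtain ⟨w, rfl⟩ := hw
  have h1 := (mem_jacobson_iff'.mp hj) (↑w⁻¹ : A)
  have : (w : A) + j = w * (j * ↑w⁻¹ + 1) := by
    have h2 : (w : A) * ↑w⁻¹ = 1 := Units.mul_inv w
    linear_combination (-j) * h2
  rw [this]
  exact w.isUnit.mul h1

theorem mem_jacobson_of_sq_mem {s : A} (hs : s * s ∈ Ring.jacobson A) : s ∈ Ring.jacobson A := by
  rw [mem_jacobson_iff'] at hs ⊢
  intro y
  have h1 := hs (-(y * y))
  have : (s * y + 1) * (1 - s * y) = s * s * (-(y * y)) + 1 := by ring
  rw [← this] at h1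
  exact isUnit_of_mul_isUnit_left h1

theorem not_mem_jac_of_isUnit [Nontrivial A] {w : A} (hw : IsUnit w) : w ∉ Ring.jacobson A :=
  fun hmem => not_isUnit_of_mem_jacobson hmem hw

end jac

section fixed

variable {B : Type u} {A : Type v} [CommRing B] [CommRing A] [Algebra B A] [IsLocalRing B]
  {lam : A ≃+* A}

theorem algebraMap_mem_jacobson (hlam : Function.Involutive lam) (hB : RInv.IsFixedRing B A lam)
    {b : B} (hb : b ∈ IsLocalRing.maximalIdeal B) : algebraMap B A b ∈ Ring.jacobson A := by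
  rw [mem_jacobson_iff']
  intro y
  obtain ⟨t, ht⟩ := (hB.2 (y + lam y)).mp (by rw [map_add, hlam y, add_comm])
  obtain ⟨s, hs⟩ := (hB.2 (y * lam y)).mp (by rw [map_mul, hlam y, mul_comm])
  have hfix : lam (algebraMap B A b) = algebraMap B A b := (hB.2 _).mpr ⟨b, rfl⟩
  have hmem : b * t + b * b * s ∈ IsLocalRing.maximalIdeal B :=
    Ideal.add_mem _ (Ideal.mul_mem_right _ _ hb)
      (Ideal.mul_mem_right _ _ (Ideal.mul_mem_right _ _ hb))
  have hu : IsUnit (1 + (b * t + b * b * s)) := by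
    by_contra hnu
    have hmem' : 1 + (b * t + b * b * s) ∈ IsLocalRing.maximalIdeal B :=
      (IsLocalRing.mem_maximalIdeal _).mpr hnu
    have h1 : (1 : B) ∈ IsLocalRing.maximalIdeal B := by
      have := Ideal.sub_mem _ hmem' hmem
      simpa using this
    exact (Ideal.ne_top_iff_one _).mp (IsLocalRing.maximalIdeal.isMaximal B).ne_top h1
  have key : (algebraMap B A b * y + 1) * lam (algebraMap B A b * y + 1) =
      algebraMap B A (1 + (b * t + b * b * s)) := by
    rw [map_add lam, map_mul lam, map_one lam, hfix]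
    simp only [map_add, map_mul, map_one]
    rw [ht, hs]
    ring
  exact isUnit_of_mul_isUnit_left (key ▸ hu.map (algebraMap B A))

theorem isUnit_or_norm_mem (hlam : Function.Involutive lam) (hB : RInv.IsFixedRing B A lam)
    (s : A) : IsUnit s ∨ s * lam s ∈ Ring.jacobson A := by
  obtain ⟨b, hb⟩ := (hB.2 (s * lam s)).mp (by rw [map_mul, hlam s, mul_comm])
  by_cases hu : IsUnit b
  · left
    exact isUnit_of_mul_isUnit_left (hb ▸ hu.map (algebraMap B A))
  · right
    rw [← hb]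
    exact algebraMap_mem_jacobson hlam hB ((IsLocalRing.mem_maximalIdeal b).mpr hu)

theorem unit_or_jac (hlam : Function.Involutive lam) (hB : RInv.IsFixedRing B A lam)
    (ε : A) (hε : ε = 1 ∨ ε = -1) (s : A) (hs : lam s = ε * s) :
    IsUnit s ∨ s ∈ Ring.jacobson A := by
  rcases isUnit_or_norm_mem hlam hB s with h | h
  · exact Or.inl h
  · right
    apply mem_jacobson_of_sq_mem
    rw [hs] at h
    have : s * s = ε * (s * (ε * s)) := by rcases hε with rfl | rfl <;> ring
    rw [this]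
    exact Ideal.mul_mem_left _ _ h

end fixed

section pairs

variable {A : Type v} [CommRing A] (lam : A ≃+* A) {n : ℕ} (h : Matrix (Fin n) (Fin n) A)

/-- dual pair of families -/
def IsDual {m : ℕ} (b z : Fin m → (Fin n → A)) : Prop :=
  ∀ i j, ip lam h (b i) (z j) = if i = j then 1 else 0

/-- span of a pair of families -/
def Sp {m : ℕ} (b z : Fin m → (Fin n → A)) : Submodule A (Fin n → A) :=
  Submodule.span A (Set.range b ∪ Set.range z)

theorem mem_Sp_b {m : ℕ} (b z : Fin m → (Fin n → A)) (i : Fin m) : b i ∈ Sp b z :=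
  Submodule.subset_span (Or.inl ⟨i, rfl⟩)

theorem mem_Sp_z {m : ℕ} (b z : Fin m → (Fin n → A)) (i : Fin m) : z i ∈ Sp b z :=
  Submodule.subset_span (Or.inr ⟨i, rfl⟩)

theorem Sp_le {m : ℕ} (b z : Fin m → (Fin n → A)) (T : Submodule A (Fin n → A))
    (hb : ∀ l, b l ∈ T) (hz : ∀ l, z l ∈ T) : Sp b z ≤ T := by
  unfold Sp
  rw [Submodule.span_le]
  rintro _ (⟨l, rfl⟩ | ⟨l, rfl⟩)
  · exact hb l
  · exact hz l

theorem orth_Sp {m : ℕ} (b z : Fin m → (Fin n → A)) (w : Fin n → A)
    (hb : ∀ l, ip lam h w (b l) = 0) (hz : ∀ l, ip lam h w (z l) = 0) :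
    ∀ s ∈ Sp b z, ip lam h w s = 0 := by
  intro s hs
  unfold Sp at hs
  induction hs using Submodule.span_induction with
  | mem x hx =>
    rcases hx with ⟨l, rfl⟩ | ⟨l, rfl⟩
    · exact hb l
    · exact hz l
  | zero => exact ip_zero_right lam h w
  | add x y _ _ hx hy => rw [ip_add_right, hx, hy, add_zero]
  | smul a x _ hx => rw [ip_smul_right, hx, mul_zero]

/-- the new `b` family after splitting off `x₀` -/
def splitB {m : ℕ} (x₀ : Fin n → A) (c' : A) (b : Fin (m + 1) → (Fin n → A)) (i₀ : Fin (m + 1)) :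
    Fin m → (Fin n → A) :=
  fun l => b (i₀.succAbove l) - (c' * ip lam h x₀ (b (i₀.succAbove l))) • x₀

/-- the new `z` family after splitting off `x₀` -/
def splitZ {m : ℕ} (x₀ : Fin n → A) (t' : A) (z : Fin (m + 1) → (Fin n → A)) (i₀ : Fin (m + 1)) :
    Fin m → (Fin n → A) :=
  fun l => z (i₀.succAbove l) - (t' * ip lam h x₀ (z (i₀.succAbove l))) • z i₀

theorem split_orthB {m : ℕ} (x₀ : Fin n → A) (c' : A) (hc : ip lam h x₀ x₀ * c' = 1)
    (b : Fin (m + 1) → (Fin n → A)) (i₀ : Fin (m + 1)) (l : Fin m) :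
    ip lam h x₀ (splitB lam h x₀ c' b i₀ l) = 0 := by
  unfold splitB
  rw [ip_sub_right, ip_smul_right]
  linear_combination (-(ip lam h x₀ (b (i₀.succAbove l)))) * hc

theorem split_orthZ {m : ℕ} (x₀ : Fin n → A) (t' : A) (z : Fin (m + 1) → (Fin n → A))
    (i₀ : Fin (m + 1)) (ht : ip lam h x₀ (z i₀) * t' = 1) (l : Fin m) :
    ip lam h x₀ (splitZ lam h x₀ t' z i₀ l) = 0 := by
  unfold splitZ
  rw [ip_sub_right, ip_smul_right]
  linear_combination (-(ip lam h x₀ (z (i₀.succAbove l)))) * ht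

theorem split_dual {m : ℕ} (x₀ : Fin n → A) (c' t' : A)
    (b z : Fin (m + 1) → (Fin n → A)) (hbz : IsDual lam h b z) (i₀ : Fin (m + 1))
    (ht : ip lam h x₀ (z i₀) * t' = 1) :
    IsDual lam h (splitB lam h x₀ c' b i₀) (splitZ lam h x₀ t' z i₀) := by
  intro l k
  have h1 := split_orthZ lam h x₀ t' z i₀ ht k
  have h2 : ip lam h (b (i₀.succAbove l)) (splitZ lam h x₀ t' z i₀ k) = if l = k then 1 else 0 := by
    unfold splitZ
    rw [ip_sub_right, ip_smul_right, hbz, hbz, if_neg (Fin.succAbove_ne i₀ l), mul_zero, sub_zero]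
    by_cases hlk : l = k
    · rw [if_pos hlk, if_pos (by rw [hlk])]
    · rw [if_neg hlk, if_neg (fun hh => hlk (Fin.succAbove_right_injective hh))]
  show ip lam h (b (i₀.succAbove l) - (c' * ip lam h x₀ (b (i₀.succAbove l))) • x₀)
    (splitZ lam h x₀ t' z i₀ k) = _
  rw [ip_sub_left, ip_smul_left, h1, mul_zero, sub_zero, h2]

theorem split_memB {m : ℕ} (x₀ : Fin n → A) (c' : A) (b z : Fin (m + 1) → (Fin n → A))
    (i₀ : Fin (m + 1)) (hx₀ : x₀ ∈ Sp b z) (l : Fin m) : splitB lam h x₀ c' b i₀ l ∈ Sp b z :=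
  Submodule.sub_mem _ (mem_Sp_b b z _) (Submodule.smul_mem _ _ hx₀)

theorem split_memZ {m : ℕ} (x₀ : Fin n → A) (t' : A) (b z : Fin (m + 1) → (Fin n → A))
    (i₀ : Fin (m + 1)) (l : Fin m) : splitZ lam h x₀ t' z i₀ l ∈ Sp b z :=
  Submodule.sub_mem _ (mem_Sp_z b z _) (Submodule.smul_mem _ _ (mem_Sp_z b z _))

end pairs

section main

variable {B : Type u} {A : Type v} [CommRing B] [CommRing A] [Algebra B A] [IsLocalRing B]
  (lam : A ≃+* A) (hlam : Function.Involutive lam) (hB : RInv.IsFixedRing B A lam)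
  {n : ℕ} (ε : A) (hε : ε = 1 ∨ ε = -1) (h : Matrix (Fin n) (Fin n) A)
  (herm : ε • (h.map lam).transpose = h)

include hlam hB hε herm

theorem norm_unit_or_jac (x : Fin n → A) :
    IsUnit (ip lam h x x) ∨ ip lam h x x ∈ Ring.jacobson A :=
  unit_or_jac hlam hB ε hε _ (q_fix lam h hlam ε hε herm x)

theorem ip_eq_zero_symm (x y : Fin n → A) (hxy : ip lam h x y = 0) : ip lam h y x = 0 := by
  rw [ip_symm lam h hlam ε herm x y, hxy, map_zero, mul_zero]

/-- The main induction: an orthogonal family with unit norms inside the span of a dual pair. -/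
theorem main : ∀ (m : ℕ) (b z : Fin m → (Fin n → A)), IsDual lam h b z →
    ((∃ a : A, a + ε * lam a ∉ Ring.jacobson A) ∨ m = 0 ∨
      ∃ i, IsUnit (ip lam h (b i) (b i)) ∨ IsUnit (ip lam h (z i) (z i))) →
    ∃ x : Fin m → (Fin n → A), (∀ i, x i ∈ Sp b z) ∧ (∀ i, IsUnit (ip lam h (x i) (x i))) ∧
      ∀ i j, i ≠ j → ip lam h (x i) (x j) = 0 := by
  haveI : Nontrivial A := hB.1.nontrivial
  intro m
  induction m using Nat.strong_induction_on with
  | _ m ih =>
  intro b z hbz hyp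
  rcases Nat.eq_zero_or_pos m with hm0 | hmpos
  · subst hm0
    exact ⟨fun i => i.elim0, fun i => i.elim0, fun i => i.elim0, fun i => i.elim0⟩
  obtain ⟨m, rfl⟩ : ∃ m', m = m' + 1 := ⟨m - 1, by omega⟩
  -- Step A: a vector of unit norm pairing to a unit with some `z i₀`
  obtain ⟨x₀, i₀, hx₀S, hx₀u, hx₀t⟩ : ∃ (x₀ : Fin n → A) (i₀ : Fin (m + 1)), x₀ ∈ Sp b z ∧
      IsUnit (ip lam h x₀ x₀) ∧ IsUnit (ip lam h x₀ (z i₀)) := by
    by_cases hmem : ∃ i, IsUnit (ip lam h (b i) (b i)) ∨ IsUnit (ip lam h (z i) (z i))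
    · obtain ⟨i, hi | hi⟩ := hmem
      · refine ⟨b i, i, mem_Sp_b b z i, hi, ?_⟩
        rw [hbz i i, if_pos rfl]
        exact isUnit_one
      · exact ⟨z i, i, mem_Sp_z b z i, hi, hi⟩
    · have hH : ∃ a : A, a + ε * lam a ∉ Ring.jacobson A := by
        rcases hyp with h1 | h1 | h1
        · exact h1
        · omega
        · exact absurd h1 hmem
      obtain ⟨a, ha⟩ := hH
      push Not at hmem
      have hb0 : ip lam h (b 0) (b 0) ∈ Ring.jacobson A :=
        (norm_unit_or_jac lam hlam hB ε hε h herm (b 0)).resolve_left (hmem 0).1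
      have hz0 : ip lam h (z 0) (z 0) ∈ Ring.jacobson A :=
        (norm_unit_or_jac lam hlam hB ε hε h herm (z 0)).resolve_left (hmem 0).2
      have hbz0 : ip lam h (b 0) (z 0) = 1 := by rw [hbz 0 0, if_pos rfl]
      have hzb0 : ip lam h (z 0) (b 0) = ε := by
        rw [ip_symm lam h hlam ε herm (b 0) (z 0), hbz0, map_one, mul_one]
      have hq : ip lam h (b 0 + a • z 0) (b 0 + a • z 0) =
          ip lam h (b 0) (b 0) + (a + ε * lam a) + lam a * a * ip lam h (z 0) (z 0) := by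
        rw [ip_add_left, ip_add_right, ip_add_right, ip_smul_left, ip_smul_left, ip_smul_right,
          ip_smul_right, hbz0, hzb0]
        ring
      refine ⟨b 0 + a • z 0, 0, Submodule.add_mem _ (mem_Sp_b b z 0)
        (Submodule.smul_mem _ _ (mem_Sp_z b z 0)), ?_, ?_⟩
      · refine (norm_unit_or_jac lam hlam hB ε hε h herm _).resolve_right ?_
        intro hmemJ
        rw [hq] at hmemJ
        apply ha
        have h3 : a + ε * lam a = (ip lam h (b 0) (b 0) + (a + ε * lam a) +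
            lam a * a * ip lam h (z 0) (z 0)) - ip lam h (b 0) (b 0) -
            lam a * a * ip lam h (z 0) (z 0) := by ring
        rw [h3]
        exact Ideal.sub_mem _ (Ideal.sub_mem _ hmemJ hb0) (Ideal.mul_mem_left _ _ hz0)
      · rw [ip_add_left, ip_smul_left, hbz0]
        exact isUnit_add_jac isUnit_one (Ideal.mul_mem_left _ _ hz0)
  -- Step B: split
  obtain ⟨c, hc⟩ := hx₀u
  obtain ⟨t, ht⟩ := hx₀t
  have hc' : ip lam h x₀ x₀ * (↑c⁻¹ : A) = 1 := by rw [← hc]; exact Units.mul_inv c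
  have ht' : ip lam h x₀ (z i₀) * (↑t⁻¹ : A) = 1 := by rw [← ht]; exact Units.mul_inv t
  set b' := splitB lam h x₀ (↑c⁻¹ : A) b i₀ with hb'
  set z' := splitZ lam h x₀ (↑t⁻¹ : A) z i₀ with hz'
  have hdual' : IsDual lam h b' z' := split_dual lam h x₀ _ _ b z hbz i₀ ht'
  have horthB : ∀ l, ip lam h x₀ (b' l) = 0 := split_orthB lam h x₀ _ hc' b i₀
  have horthZ : ∀ l, ip lam h x₀ (z' l) = 0 := split_orthZ lam h x₀ _ z i₀ ht'
  have hmemB : ∀ l, b' l ∈ Sp b z := split_memB lam h x₀ _ b z i₀ hx₀S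
  have hmemZ : ∀ l, z' l ∈ Sp b z := split_memZ lam h x₀ _ b z i₀
  -- a general assembling step
  have assemble : ∀ (y₀ : Fin n → A) (x' : Fin m → (Fin n → A)), y₀ ∈ Sp b z →
      IsUnit (ip lam h y₀ y₀) → (∀ l, x' l ∈ Sp b z) → (∀ l, IsUnit (ip lam h (x' l) (x' l))) →
      (∀ l k, l ≠ k → ip lam h (x' l) (x' k) = 0) → (∀ l, ip lam h y₀ (x' l) = 0) →
      ∃ x : Fin (m + 1) → (Fin n → A), (∀ i, x i ∈ Sp b z) ∧
        (∀ i, IsUnit (ip lam h (x i) (x i))) ∧ ∀ i j, i ≠ j → ip lam h (x i) (x j) = 0 := by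
    intro y₀ x' hy₀S hy₀u hx'S hx'u hx'o hy₀o
    refine ⟨Fin.cons y₀ x', ?_, ?_, ?_⟩
    · intro i
      refine Fin.cases ?_ (fun l => ?_) i
      · rw [Fin.cons_zero]; exact hy₀S
      · rw [Fin.cons_succ]; exact hx'S l
    · intro i
      refine Fin.cases ?_ (fun l => ?_) i
      · rw [Fin.cons_zero]; exact hy₀u
      · rw [Fin.cons_succ]; exact hx'u l
    · intro i j
      refine Fin.cases ?_ (fun l => ?_) i <;> refine Fin.cases ?_ (fun k => ?_) j
      · intro hne; exact absurd rfl hne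
      · intro _
        rw [Fin.cons_zero, Fin.cons_succ]
        exact hy₀o k
      · intro _
        rw [Fin.cons_zero, Fin.cons_succ]
        exact ip_eq_zero_symm lam hlam hB ε hε h herm _ _ (hy₀o l)
      · intro hne
        rw [Fin.cons_succ, Fin.cons_succ]
        exact hx'o l k (fun hlk => hne (by rw [hlk]))
  -- Step C
  by_cases hgood : (∃ a : A, a + ε * lam a ∉ Ring.jacobson A) ∨ m = 0 ∨
      ∃ l, IsUnit (ip lam h (b' l) (b' l)) ∨ IsUnit (ip lam h (z' l) (z' l))
  · obtain ⟨x', hx'S, hx'u, hx'o⟩ := ih m (by omega) b' z' hdual' hgood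
    refine assemble x₀ x' hx₀S ⟨c, hc⟩ (fun l => Sp_le b' z' _ hmemB hmemZ (hx'S l)) hx'u hx'o ?_
    intro l
    exact orth_Sp lam h b' z' x₀ horthB horthZ _ (hx'S l)
  · push Not at hgood
    obtain ⟨_, hm0, hbad⟩ := hgood
    obtain ⟨k, rfl⟩ : ∃ k, m = k + 1 := ⟨m - 1, by omega⟩
    have hb'0 : ip lam h (b' 0) (b' 0) ∈ Ring.jacobson A :=
      (norm_unit_or_jac lam hlam hB ε hε h herm (b' 0)).resolve_left (hbad 0).1
    have hz'0 : ip lam h (z' 0) (z' 0) ∈ Ring.jacobson A :=
      (norm_unit_or_jac lam hlam hB ε hε h herm (z' 0)).resolve_left (hbad 0).2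
    -- the modified vector
    set x₁ := x₀ + b' 0 with hx₁
    have hx₁S : x₁ ∈ Sp b z := Submodule.add_mem _ hx₀S (hmemB 0)
    have hb'x₀ : ∀ l, ip lam h (b' l) x₀ = 0 := fun l =>
      ip_eq_zero_symm lam hlam hB ε hε h herm _ _ (horthB l)
    have hz'x₀ : ∀ l, ip lam h (z' l) x₀ = 0 := fun l =>
      ip_eq_zero_symm lam hlam hB ε hε h herm _ _ (horthZ l)
    have hq₁ : ip lam h x₁ x₁ = ip lam h x₀ x₀ + ip lam h (b' 0) (b' 0) := by
      rw [hx₁, ip_add_left, ip_add_right, ip_add_right, horthB 0, hb'x₀ 0]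
      ring
    have hx₁u : IsUnit (ip lam h x₁ x₁) := by
      rw [hq₁]
      exact isUnit_add_jac ⟨c, hc⟩ hb'0
    obtain ⟨c₁, hc₁⟩ := hx₁u
    have hc₁' : ip lam h x₁ x₁ * (↑c₁⁻¹ : A) = 1 := by rw [← hc₁]; exact Units.mul_inv c₁
    -- the enlarged dual pair
    set bt : Fin (k + 1 + 1) → (Fin n → A) := Fin.cons x₀ b' with hbt
    set zt : Fin (k + 1 + 1) → (Fin n → A) := Fin.cons ((↑c⁻¹ : A) • x₀) z' with hzt
    have hdualt : IsDual lam h bt zt := by
      intro i j
      refine Fin.cases ?_ (fun l => ?_) i <;> refine Fin.cases ?_ (fun l' => ?_) j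
      · rw [hbt, hzt, Fin.cons_zero, Fin.cons_zero, ip_smul_right, if_pos rfl]
        linear_combination hc'
      · rw [hbt, hzt, Fin.cons_zero, Fin.cons_succ, horthZ l',
          if_neg (Fin.succ_ne_zero l').symm]
      · rw [hbt, hzt, Fin.cons_succ, Fin.cons_zero, ip_smul_right, hb'x₀ l, mul_zero,
          if_neg (Fin.succ_ne_zero l)]
      · rw [hbt, hzt, Fin.cons_succ, Fin.cons_succ, hdual' l l']
        by_cases hll : l = l'
        · rw [if_pos hll, if_pos (by rw [hll])]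
        · rw [if_neg hll, if_neg (fun hh => hll (Fin.succ_injective _ hh))]
    have hbtS : ∀ i, bt i ∈ Sp b z := by
      intro i
      refine Fin.cases ?_ (fun l => ?_) i
      · rw [hbt, Fin.cons_zero]; exact hx₀S
      · rw [hbt, Fin.cons_succ]; exact hmemB l
    have hztS : ∀ i, zt i ∈ Sp b z := by
      intro i
      refine Fin.cases ?_ (fun l => ?_) i
      · rw [hzt, Fin.cons_zero]; exact Submodule.smul_mem _ _ hx₀S
      · rw [hzt, Fin.cons_succ]; exact hmemZ l
    have hx₁St : x₁ ∈ Sp bt zt := by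
      refine Submodule.add_mem _ ?_ ?_
      · have := mem_Sp_b bt zt 0
        rwa [hbt, Fin.cons_zero] at this
      · have := mem_Sp_b bt zt (Fin.succ 0)
        rwa [hbt, Fin.cons_succ] at this
    have hx₁zt : ip lam h x₁ (zt 0) * 1 = 1 := by
      rw [hzt, Fin.cons_zero, hx₁, ip_smul_right, ip_add_left, hb'x₀ 0]
      linear_combination hc'
    set b'' := splitB lam h x₁ (↑c₁⁻¹ : A) bt 0 with hb''
    set z'' := splitZ lam h x₁ (1 : A) zt 0 with hz''
    have hdual'' : IsDual lam h b'' z'' := split_dual lam h x₁ _ _ bt zt hdualt 0 hx₁zt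
    have horthB'' : ∀ l, ip lam h x₁ (b'' l) = 0 := split_orthB lam h x₁ _ hc₁' bt 0
    have horthZ'' : ∀ l, ip lam h x₁ (z'' l) = 0 := split_orthZ lam h x₁ _ zt 0 hx₁zt
    have hmemB'' : ∀ l, b'' l ∈ Sp b z := fun l =>
      Sp_le bt zt _ hbtS hztS (split_memB lam h x₁ _ bt zt 0 hx₁St l)
    have hmemZ'' : ∀ l, z'' l ∈ Sp b z := fun l =>
      Sp_le bt zt _ hbtS hztS (split_memZ lam h x₁ _ bt zt 0 l)
    -- `z'' 0` has unit norm
    have hz''0 : z'' 0 = z' 0 - (↑c⁻¹ : A) • x₀ := by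
      have h1 : ip lam h x₁ (z' 0) = 1 := by
        rw [hx₁, ip_add_left, horthZ 0, hdual' 0 0, if_pos rfl, zero_add]
      show zt ((0 : Fin (k + 1 + 1)).succAbove 0) -
        ((1 : A) * ip lam h x₁ (zt ((0 : Fin (k + 1 + 1)).succAbove 0))) • zt 0 = _
      rw [Fin.succAbove_zero, hzt, Fin.cons_succ, Fin.cons_zero, h1, one_mul, one_smul]
    have hqz'' : ip lam h (z'' 0) (z'' 0) = ip lam h (z' 0) (z' 0) + lam (↑c⁻¹ : A) := by
      rw [hz''0, ip_sub_left, ip_sub_right, ip_sub_right, ip_smul_left, ip_smul_left,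
        ip_smul_right, ip_smul_right, horthZ 0, hz'x₀ 0]
      linear_combination (lam (↑c⁻¹ : A)) * hc'
    have hz''u : IsUnit (ip lam h (z'' 0) (z'' 0)) := by
      rw [hqz'', add_comm]
      exact isUnit_add_jac ((c⁻¹).isUnit.map lam) hz'0
    obtain ⟨x', hx'S, hx'u, hx'o⟩ := ih (k + 1) (by omega) b'' z'' hdual''
      (Or.inr (Or.inr ⟨0, Or.inr hz''u⟩))
    refine assemble x₁ x' hx₁S ⟨c₁, hc₁⟩ (fun l => Sp_le b'' z'' _ hmemB'' hmemZ'' (hx'S l))
      hx'u hx'o ?_
    intro l
    exact orth_Sp lam h b'' z'' x₁ horthB'' horthZ'' _ (hx'S l)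

end main

end Groth.Agent.Lib.HermDiagH3
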