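import Mathlib
import Groth.Prelude.Def_AzInv
import Groth.Agent.Lib.AzInv9_helper6
import Groth.Agent.Lib.AzInv3_helper6
import Groth.Agent.S15580
import Groth.Agent.S15583

/-!
# AzInv23 (helper6): local normal forms of `lam`-involutions of matrix algebras
-/

set_option autoImplicit false
universe u v

namespace Groth.Agent.Lib.AzInvH6

open AzInv

section LamTr

variable {R : Type v} [CommRing R] {n : ℕ} (lam : R ≃+* R)

theorem lamTr_mul (X Y : Matrix (Fin n) (Fin n) R) :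
    lamTr lam (X * Y) = lamTr lam Y * lamTr lam X := by
  ext i j
  simp only [lamTr_apply, Matrix.mul_apply, map_sum, map_mul]
  exact Finset.sum_congr rfl fun k _ => mul_comm _ _

theorem lamTr_one : lamTr lam (1 : Matrix (Fin n) (Fin n) R) = 1 := by
  ext i j
  simp only [lamTr_apply, Matrix.one_apply]
  by_cases h : i = j
  · subst h; simp
  · rw [if_neg h, if_neg (Ne.symm h), map_zero]

theorem lamTr_smul' (r : R) (X : Matrix (Fin n) (Fin n) R) :
    lamTr lam (r • X) = lam r • lamTr lam X := by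
  ext i j
  simp [lamTr_apply, Matrix.smul_apply]

theorem lamTr_lamTr (hlam : Function.Involutive lam) (X : Matrix (Fin n) (Fin n) R) :
    lamTr lam (lamTr lam X) = X := by
  ext i j
  simp [lamTr_apply, hlam (X i j)]

theorem lamTr_add (X Y : Matrix (Fin n) (Fin n) R) :
    lamTr lam (X + Y) = lamTr lam X + lamTr lam Y := by
  ext i j
  simp [lamTr_apply]

theorem lamTr_units_inv (u : (Matrix (Fin n) (Fin n) R)ˣ) :
    lamTr lam (↑u⁻¹ : Matrix (Fin n) (Fin n) R) * lamTr lam (↑u : Matrix (Fin n) (Fin n) R) = 1 := by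
  rw [← lamTr_mul, Units.mul_inv, lamTr_one]

theorem lamTr_units_inv' (u : (Matrix (Fin n) (Fin n) R)ˣ) :
    lamTr lam (↑u : Matrix (Fin n) (Fin n) R) * lamTr lam (↑u⁻¹ : Matrix (Fin n) (Fin n) R) = 1 := by
  rw [← lamTr_mul, Units.inv_mul, lamTr_one]

theorem lamTr_diagonal (d : Fin n → R) :
    lamTr lam (Matrix.diagonal d) = Matrix.diagonal (fun i => lam (d i)) := by
  ext i j
  simp only [lamTr_apply, Matrix.diagonal_apply]
  by_cases h : i = j
  · subst h; simp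
  · rw [if_neg h, if_neg (Ne.symm h), map_zero]

end LamTr

section InnerForm

variable {B : Type u} {R : Type v} [CommRing B] [CommRing R] [Algebra B R] (lam : R ≃+* R)
  (hlam : Function.Involutive lam) (hB : RInv.IsFixedRing B R lam) [IsLocalRing B] {n : ℕ}
include hlam hB

/-- every `lam`-involution of `M_n(R)` is of the form `X ↦ g * lamTr X * g⁻¹` with
`lamTr g = ε • g`, `lam ε * ε = 1`. -/
theorem exists_inner_form (hn : 0 < n) (τ : LamInv R (Matrix (Fin n) (Fin n) R) lam) :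
    ∃ (g : (Matrix (Fin n) (Fin n) R)ˣ) (ε : R),
      lamTr lam (g : Matrix (Fin n) (Fin n) R) = ε • (g : Matrix (Fin n) (Fin n) R) ∧
      lam ε * ε = 1 ∧
      ∀ X, τ X = g * lamTr lam X * (g⁻¹ : (Matrix (Fin n) (Fin n) R)ˣ) := by
  classical
  haveI : Nonempty (Fin n) := Fin.pos_iff_nonempty.mp hn
  haveI : Finite (MaximalSpectrum R) := finite_maximalSpectrum hlam hB
  haveI : IsAzumaya R (Matrix (Fin n) (Fin n) R) := IsAzumaya.matrix R (Fin n)
  let σ : Matrix (Fin n) (Fin n) R ≃ₐ[R] Matrix (Fin n) (Fin n) R :=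
    { toFun := fun X => τ (lamTr lam X)
      invFun := fun Y => lamTr lam (τ Y)
      left_inv := fun X => by
        show lamTr lam (τ (τ (lamTr lam X))) = X
        rw [τ.invol, lamTr_lamTr lam hlam]
      right_inv := fun Y => by
        show τ (lamTr lam (lamTr lam (τ Y))) = Y
        rw [lamTr_lamTr lam hlam, τ.invol]
      map_mul' := fun X Y => by
        show τ (lamTr lam (X * Y)) = τ (lamTr lam X) * τ (lamTr lam Y)
        rw [lamTr_mul, τ.map_mul]
      map_add' := fun X Y => by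
        show τ (lamTr lam (X + Y)) = τ (lamTr lam X) + τ (lamTr lam Y)
        rw [lamTr_add, τ.map_add]
      commutes' := fun r => by
        show τ (lamTr lam (algebraMap R _ r)) = algebraMap R _ r
        rw [Algebra.algebraMap_eq_smul_one, lamTr_smul', lamTr_one, τ.map_smul, τ.map_one,
          hlam r] }
  have hσ : ∀ X, σ X = τ (lamTr lam X) := fun X => rfl
  obtain ⟨u, hu⟩ := exists_unit_conj_of_semilocal R (Matrix (Fin n) (Fin n) R) σ
  have hτ : ∀ X, τ X = u * lamTr lam X * (u⁻¹ : (Matrix (Fin n) (Fin n) R)ˣ) := by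
    intro X
    rw [← hu, hσ, lamTr_lamTr lam hlam]
  -- z := lamTr u * u⁻¹ is central
  set z : Matrix (Fin n) (Fin n) R := lamTr lam (u : Matrix (Fin n) (Fin n) R) *
    (u⁻¹ : (Matrix (Fin n) (Fin n) R)ˣ) with hz
  have hzinv : (u : Matrix (Fin n) (Fin n) R) *
      lamTr lam ((u⁻¹ : (Matrix (Fin n) (Fin n) R)ˣ) : Matrix (Fin n) (Fin n) R) * z = 1 := by
    rw [hz, mul_assoc, ← mul_assoc (lamTr lam _), lamTr_units_inv, one_mul, Units.mul_inv]
  have hcomm : ∀ X : Matrix (Fin n) (Fin n) R, X * z = z * X := by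
    intro X
    have h1 := τ.invol X
    rw [hτ (τ X), hτ X, lamTr_mul, lamTr_mul, lamTr_lamTr lam hlam] at h1
    -- h1 : u * (lamTr u⁻¹ * (X * lamTr u)) * u⁻¹ = X
    have h2 : (u : Matrix (Fin n) (Fin n) R) *
        lamTr lam ((u⁻¹ : (Matrix (Fin n) (Fin n) R)ˣ) : Matrix (Fin n) (Fin n) R) * (X * z) = X := by
      rw [hz]
      simp only [mul_assoc] at h1 ⊢
      exact h1
    calc X * z = z * ((u : Matrix (Fin n) (Fin n) R) *
        lamTr lam ((u⁻¹ : (Matrix (Fin n) (Fin n) R)ˣ) : Matrix (Fin n) (Fin n) R)) * (X * z) := by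
          have h3 : z * ((u : Matrix (Fin n) (Fin n) R) *
              lamTr lam ((u⁻¹ : (Matrix (Fin n) (Fin n) R)ˣ) : Matrix (Fin n) (Fin n) R)) = 1 := by
            rw [hz, mul_assoc, ← mul_assoc _ (u : Matrix (Fin n) (Fin n) R), Units.inv_mul, one_mul,
              lamTr_units_inv']
          rw [h3, one_mul]
      _ = z * X := by rw [mul_assoc, h2]
  have hcen : z ∈ Set.center (Matrix (Fin n) (Fin n) R) := by
    rw [Semigroup.mem_center_iff]
    intro X
    exact hcomm X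
  rw [Matrix.center_eq_range] at hcen
  obtain ⟨ε, hε⟩ := hcen
  have hgu : lamTr lam (u : Matrix (Fin n) (Fin n) R) = ε • (u : Matrix (Fin n) (Fin n) R) := by
    have h1 : lamTr lam (u : Matrix (Fin n) (Fin n) R) = z * u := by
      rw [hz, mul_assoc, Units.inv_mul, mul_one]
    rw [h1, ← hε]
    ext i j
    simp [Matrix.scalar_apply, Matrix.diagonal_mul, Matrix.smul_apply]
  refine ⟨u, ε, hgu, ?_, hτ⟩
  have h1 : (u : Matrix (Fin n) (Fin n) R) = (lam ε * ε) • (u : Matrix (Fin n) (Fin n) R) := by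
    conv_lhs => rw [← lamTr_lamTr lam hlam (u : Matrix (Fin n) (Fin n) R), hgu, lamTr_smul', hgu,
      smul_smul]
  have h2 : (1 : Matrix (Fin n) (Fin n) R) = (lam ε * ε) • (1 : Matrix (Fin n) (Fin n) R) := by
    have := congrArg (fun M => M * ((u⁻¹ : (Matrix (Fin n) (Fin n) R)ˣ) : Matrix (Fin n) (Fin n) R)) h1
    simp only [smul_mul_assoc, Units.mul_inv] at this
    exact this
  obtain ⟨i⟩ := (inferInstance : Nonempty (Fin n))
  have h3 := congrFun (congrFun h2 i) i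
  simp only [Matrix.one_apply_eq, Matrix.smul_apply, smul_eq_mul, mul_one] at h3
  exact h3.symm

end InnerForm

section Normalize

variable {R : Type v} [CommRing R] (lam : R ≃+* R) {n : ℕ}

/-- rescaling `g` by a central unit -/
theorem rescale (g : (Matrix (Fin n) (Fin n) R)ˣ) (ε ε' : R) (c : Rˣ)
    (hg : lamTr lam (g : Matrix (Fin n) (Fin n) R) = ε • (g : Matrix (Fin n) (Fin n) R))
    (hc : lam c * ε = ε' * c) :
    ∃ g' : (Matrix (Fin n) (Fin n) R)ˣ,
      lamTr lam (g' : Matrix (Fin n) (Fin n) R) = ε' • (g' : Matrix (Fin n) (Fin n) R) ∧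
      ∀ X, (g' : Matrix (Fin n) (Fin n) R) * X * (g'⁻¹ : (Matrix (Fin n) (Fin n) R)ˣ) =
        g * X * (g⁻¹ : (Matrix (Fin n) (Fin n) R)ˣ) := by
  refine ⟨⟨(c : R) • (g : Matrix (Fin n) (Fin n) R),
    ((c⁻¹ : Rˣ) : R) • ((g⁻¹ : (Matrix (Fin n) (Fin n) R)ˣ) : Matrix (Fin n) (Fin n) R), ?_, ?_⟩,
    ?_, ?_⟩
  · rw [smul_mul_smul_comm, Units.mul_inv, Units.mul_inv, one_smul]
  · rw [smul_mul_smul_comm, Units.inv_mul, Units.inv_mul, one_smul]
  · show lamTr lam ((c : R) • (g : Matrix (Fin n) (Fin n) R)) = ε' • ((c : R) • _)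
    rw [lamTr_smul', hg, smul_smul, hc, smul_smul]
  · intro X
    show (c : R) • (g : Matrix (Fin n) (Fin n) R) * X * (((c⁻¹ : Rˣ) : R) • _) = _
    rw [smul_mul_assoc, smul_mul_assoc, mul_smul_comm, smul_smul, Units.mul_inv, one_smul]

theorem lam_det_eq (g : Matrix (Fin n) (Fin n) R) : lam g.det = (lamTr lam g).det := by
  rw [lamTr, Matrix.det_transpose]
  exact RingHom.map_det lam.toRingHom g

/-- odd degree: `ε` can be normalised to `1` -/
theorem exists_rescale_odd (hn : Odd n) (g : (Matrix (Fin n) (Fin n) R)ˣ) (ε : R)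
    (hg : lamTr lam (g : Matrix (Fin n) (Fin n) R) = ε • (g : Matrix (Fin n) (Fin n) R))
    (hε : lam ε * ε = 1) :
    ∃ g' : (Matrix (Fin n) (Fin n) R)ˣ,
      lamTr lam (g' : Matrix (Fin n) (Fin n) R) = (g' : Matrix (Fin n) (Fin n) R) ∧
      ∀ X, (g' : Matrix (Fin n) (Fin n) R) * X * (g'⁻¹ : (Matrix (Fin n) (Fin n) R)ˣ) =
        g * X * (g⁻¹ : (Matrix (Fin n) (Fin n) R)ˣ) := by
  obtain ⟨k, hk⟩ := hn
  have hεu : IsUnit ε := IsUnit.of_mul_eq_one (lam ε) (by rw [mul_comm]; exact hε)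
  have hdu : IsUnit (g : Matrix (Fin n) (Fin n) R).det :=
    (Matrix.isUnit_iff_isUnit_det _).mp g.isUnit
  have hc'u : IsUnit ((g : Matrix (Fin n) (Fin n) R).det * ε ^ k) := hdu.mul (hεu.pow k)
  obtain ⟨c', hc'⟩ := hc'u
  have hlamc' : lam (c' : R) = c' * ε := by
    rw [hc', map_mul, map_pow, lam_det_eq, hg, Matrix.det_smul, Fintype.card_fin,
      congrArg (fun m => ε ^ m) hk]
    have h1 : lam ε ^ k * ε ^ k = 1 := by rw [← mul_pow, hε, one_pow]
    calc ε ^ (2 * k + 1) * (g : Matrix (Fin n) (Fin n) R).det * lam ε ^ k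
        = (g : Matrix (Fin n) (Fin n) R).det * ε ^ k * ε * (lam ε ^ k * ε ^ k) := by ring
      _ = (g : Matrix (Fin n) (Fin n) R).det * ε ^ k * ε := by rw [h1, mul_one]
  have hc : lam ((c'⁻¹ : Rˣ) : R) * ε = 1 * ((c'⁻¹ : Rˣ) : R) := by
    have h2 : lam ((c'⁻¹ : Rˣ) : R) * lam (c' : R) = 1 := by
      rw [← map_mul, Units.inv_mul, map_one]
    rw [one_mul]
    calc lam ((c'⁻¹ : Rˣ) : R) * ε = lam ((c'⁻¹ : Rˣ) : R) * (c' * ε) * ((c'⁻¹ : Rˣ) : R) := by
          rw [mul_assoc, mul_comm (c' : R) ε, mul_assoc ε, Units.mul_inv, mul_one]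
      _ = ((c'⁻¹ : Rˣ) : R) := by rw [← hlamc', h2, one_mul]
  obtain ⟨g', hg', hconj⟩ := rescale lam g ε 1 c'⁻¹ hg hc
  exact ⟨g', by rw [hg', one_smul], hconj⟩

theorem conj_inner (hlam : Function.Involutive lam) (g u : (Matrix (Fin n) (Fin n) R)ˣ)
    (W W' : Matrix (Fin n) (Fin n) R)
    (hW : (u : Matrix (Fin n) (Fin n) R) * (g : Matrix (Fin n) (Fin n) R) *
      lamTr lam (u : Matrix (Fin n) (Fin n) R) = W)
    (hWW' : W * W' = 1) (X : Matrix (Fin n) (Fin n) R) :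
    (u : Matrix (Fin n) (Fin n) R) * ((g : Matrix (Fin n) (Fin n) R) * lamTr lam X *
        ((g⁻¹ : (Matrix (Fin n) (Fin n) R)ˣ) : Matrix (Fin n) (Fin n) R)) * ((u⁻¹ : (Matrix (Fin n) (Fin n) R)ˣ) : Matrix (Fin n) (Fin n) R) =
      W * lamTr lam ((u : Matrix (Fin n) (Fin n) R) * X *
        ((u⁻¹ : (Matrix (Fin n) (Fin n) R)ˣ) : Matrix (Fin n) (Fin n) R)) * W' := by
  have h1 : (u : Matrix (Fin n) (Fin n) R) * (g : Matrix (Fin n) (Fin n) R) =
      W * lamTr lam ((u⁻¹ : (Matrix (Fin n) (Fin n) R)ˣ) : Matrix (Fin n) (Fin n) R) := by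
    rw [← hW, mul_assoc, lamTr_units_inv', mul_one]
  have h2 : ((g⁻¹ : (Matrix (Fin n) (Fin n) R)ˣ) : Matrix (Fin n) (Fin n) R) *
      ((u⁻¹ : (Matrix (Fin n) (Fin n) R)ˣ) : Matrix (Fin n) (Fin n) R) = lamTr lam (u : Matrix (Fin n) (Fin n) R) * W' := by
    have h3 : ((g⁻¹ : (Matrix (Fin n) (Fin n) R)ˣ) : Matrix (Fin n) (Fin n) R) *
        ((u⁻¹ : (Matrix (Fin n) (Fin n) R)ˣ) : Matrix (Fin n) (Fin n) R) * W = lamTr lam (u : Matrix (Fin n) (Fin n) R) := by
      rw [← hW]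
      simp only [mul_assoc, Units.inv_mul_cancel_left]
    calc ((g⁻¹ : (Matrix (Fin n) (Fin n) R)ˣ) : Matrix (Fin n) (Fin n) R) *
        ((u⁻¹ : (Matrix (Fin n) (Fin n) R)ˣ) : Matrix (Fin n) (Fin n) R)
        = ((g⁻¹ : (Matrix (Fin n) (Fin n) R)ˣ) : Matrix (Fin n) (Fin n) R) *
          ((u⁻¹ : (Matrix (Fin n) (Fin n) R)ˣ) : Matrix (Fin n) (Fin n) R) * (W * W') := by rw [hWW', mul_one]
      _ = lamTr lam (u : Matrix (Fin n) (Fin n) R) * W' := by rw [← mul_assoc, h3]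
  rw [lamTr_mul, lamTr_mul]
  calc (u : Matrix (Fin n) (Fin n) R) * ((g : Matrix (Fin n) (Fin n) R) * lamTr lam X *
        ((g⁻¹ : (Matrix (Fin n) (Fin n) R)ˣ) : Matrix (Fin n) (Fin n) R)) * ((u⁻¹ : (Matrix (Fin n) (Fin n) R)ˣ) : Matrix (Fin n) (Fin n) R)
      = ((u : Matrix (Fin n) (Fin n) R) * (g : Matrix (Fin n) (Fin n) R)) * lamTr lam X *
          (((g⁻¹ : (Matrix (Fin n) (Fin n) R)ˣ) : Matrix (Fin n) (Fin n) R) *
            ((u⁻¹ : (Matrix (Fin n) (Fin n) R)ˣ) : Matrix (Fin n) (Fin n) R)) := by simp only [mul_assoc]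
    _ = _ := by rw [h1, h2]; simp only [mul_assoc]

end Normalize

section Diag

variable {B : Type u} {R : Type v} [CommRing B] [CommRing R] [Algebra B R] (lam : R ≃+* R)
  (hlam : Function.Involutive lam) (hB : RInv.IsFixedRing B R lam) [IsLocalRing B] {n : ℕ}
include hlam hB

/-- quadratic etale case: `ε` can be normalised to `1` (Hilbert 90) -/
theorem exists_rescale_quadEtale (hq : RInv.IsQuadEtale B R) (g : (Matrix (Fin n) (Fin n) R)ˣ)
    (ε : R)
    (hg : lamTr lam (g : Matrix (Fin n) (Fin n) R) = ε • (g : Matrix (Fin n) (Fin n) R))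
    (hε : lam ε * ε = 1) :
    ∃ g' : (Matrix (Fin n) (Fin n) R)ˣ,
      lamTr lam (g' : Matrix (Fin n) (Fin n) R) = (g' : Matrix (Fin n) (Fin n) R) ∧
      ∀ X, (g' : Matrix (Fin n) (Fin n) R) * X * (g'⁻¹ : (Matrix (Fin n) (Fin n) R)ˣ) =
        g * X * (g⁻¹ : (Matrix (Fin n) (Fin n) R)ˣ) := by
  have hεu : IsUnit ε := IsUnit.of_mul_eq_one (lam ε) (by rw [mul_comm]; exact hε)
  obtain ⟨εu, rfl⟩ := hεu
  obtain ⟨a, ha⟩ := Groth.Agent.S15580.result B R lam hlam hB hq εu hε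
  have hc : lam ((a⁻¹ : Rˣ) : R) * (εu : R) = 1 * ((a⁻¹ : Rˣ) : R) := by
    have h2 : lam ((a⁻¹ : Rˣ) : R) * lam (a : R) = 1 := by
      rw [← map_mul, Units.inv_mul, map_one]
    rw [one_mul, ha, mul_comm ((a⁻¹ : Rˣ) : R), ← mul_assoc, h2, one_mul]
  obtain ⟨g', hg', hconj⟩ := rescale lam g εu 1 a⁻¹ hg hc
  exact ⟨g', by rw [hg', one_smul], hconj⟩

/-- fixed units of `R` come from units of `B` -/
theorem exists_unit_of_fixed_unit (d : R) (hd : IsUnit d) (hfd : lam d = d) :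
    ∃ b : Bˣ, algebraMap B R b = d := by
  obtain ⟨b, hb⟩ := (hB.2 d).mp hfd
  obtain ⟨du, rfl⟩ := hd
  have h1 : lam ((du⁻¹ : Rˣ) : R) = ((du⁻¹ : Rˣ) : R) := by
    have h2 : lam ((du⁻¹ : Rˣ) : R) * (du : R) = 1 := by
      rw [← hfd, ← map_mul, Units.inv_mul, map_one]
    calc lam ((du⁻¹ : Rˣ) : R) = lam ((du⁻¹ : Rˣ) : R) * (du * ((du⁻¹ : Rˣ) : R)) := by
          rw [Units.mul_inv, mul_one]
      _ = ((du⁻¹ : Rˣ) : R) := by rw [← mul_assoc, h2, one_mul]
  obtain ⟨b', hb'⟩ := (hB.2 _).mp h1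
  have h3 : b * b' = 1 := by
    apply hB.1
    rw [map_mul, hb, hb', Units.mul_inv, map_one]
  exact ⟨⟨b, b', h3, by rw [mul_comm]; exact h3⟩, hb⟩

/-- a hermitian unit `g` which can be diagonalised is congruent to `1` when the units of `B`
have square roots. -/
theorem exists_unit_mul_lamTr_eq_one (hsq : ∀ b : Bˣ, ∃ y : B, y * y = b)
    (g : (Matrix (Fin n) (Fin n) R)ˣ)
    (hg : lamTr lam (g : Matrix (Fin n) (Fin n) R) = (g : Matrix (Fin n) (Fin n) R))
    (hcase : (∃ a : R, lam a - a ∉ Ring.jacobson R) ∨ (1 : R) + 1 ∉ Ring.jacobson R ∨ Odd n) :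
    ∃ u : (Matrix (Fin n) (Fin n) R)ˣ,
      (u : Matrix (Fin n) (Fin n) R) * (g : Matrix (Fin n) (Fin n) R) *
        lamTr lam (u : Matrix (Fin n) (Fin n) R) = 1 := by
  classical
  obtain ⟨v, hv, d, hd⟩ := Groth.Agent.S15583.result B R lam hlam hB n 1 (Or.inl rfl)
    (g : Matrix (Fin n) (Fin n) R) g.isUnit (by rw [one_smul]; exact hg) hcase
  change lamTr lam v * (g : Matrix (Fin n) (Fin n) R) * v = Matrix.diagonal d at hd
  obtain ⟨vu, rfl⟩ := hv
  have hlv : IsUnit (lamTr lam (vu : Matrix (Fin n) (Fin n) R)) :=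
    IsUnit.of_mul_eq_one _ (lamTr_units_inv' lam vu)
  have hDu : IsUnit (Matrix.diagonal d) := by
    rw [← hd]
    exact (hlv.mul g.isUnit).mul vu.isUnit
  have hdu : ∀ i, IsUnit (d i) := by
    intro i
    have h1 : IsUnit (Matrix.diagonal d).det := (Matrix.isUnit_iff_isUnit_det _).mp hDu
    rw [Matrix.det_diagonal] at h1
    exact isUnit_of_dvd_unit (Finset.dvd_prod_of_mem d (Finset.mem_univ i)) h1
  have hdf : ∀ i, lam (d i) = d i := by
    have h1 : lamTr lam (Matrix.diagonal d) = Matrix.diagonal d := by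
      rw [← hd, lamTr_mul, lamTr_mul, lamTr_lamTr lam hlam, hg, mul_assoc]
    rw [lamTr_diagonal] at h1
    intro i
    exact congrFun (Matrix.diagonal_injective h1) i
  choose b hb using fun i => exists_unit_of_fixed_unit lam hlam hB (d i) (hdu i) (hdf i)
  choose y hy using fun i => hsq (b i)
  have hyu : ∀ i, IsUnit (y i) := fun i =>
    IsUnit.of_mul_eq_one (y i * ((b i)⁻¹ : Bˣ)) (by rw [← mul_assoc, hy, Units.mul_inv])
  choose yu hyu' using hyu
  let F : Matrix (Fin n) (Fin n) R := Matrix.diagonal fun i => algebraMap B R ((yu i)⁻¹ : Bˣ)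
  let E : Matrix (Fin n) (Fin n) R := Matrix.diagonal fun i => algebraMap B R (yu i)
  have hFE : F * E = 1 := by
    rw [Matrix.diagonal_mul_diagonal, ← Matrix.diagonal_one]
    congr 1
    funext i
    rw [← map_mul, Units.inv_mul, map_one]
  have hFu : IsUnit F := IsUnit.of_mul_eq_one _ hFE
  have hlF : lamTr lam F = F := by
    rw [lamTr_diagonal]
    congr 1
    funext i
    exact (hB.2 _).mpr ⟨_, rfl⟩
  have hFDF : F * Matrix.diagonal d * F = 1 := by
    rw [Matrix.diagonal_mul_diagonal, Matrix.diagonal_mul_diagonal, ← Matrix.diagonal_one]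
    congr 1
    funext i
    rw [← hb i, ← hy i, ← hyu' i, ← map_mul, ← map_mul, ← map_one (algebraMap B R)]
    congr 1
    rw [← mul_assoc, Units.inv_mul, one_mul, Units.mul_inv]
  obtain ⟨u, hu⟩ := hFu.mul hlv
  refine ⟨u, ?_⟩
  rw [hu, lamTr_mul, lamTr_lamTr lam hlam, hlF]
  calc F * lamTr lam (vu : Matrix (Fin n) (Fin n) R) * (g : Matrix (Fin n) (Fin n) R) *
      ((vu : Matrix (Fin n) (Fin n) R) * F)
      = F * (lamTr lam (vu : Matrix (Fin n) (Fin n) R) * (g : Matrix (Fin n) (Fin n) R) * vu) * F := by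
        simp only [mul_assoc]
    _ = 1 := by rw [hd, hFDF]

end Diag

end Groth.Agent.Lib.AzInvH6
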