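import Mathlib
import Groth.Agent.Lib.EssEt_lead

/-!
# Points of étale algebras over strictly henselian local rings
-/

namespace Groth.Agent.Lib.StrictHensLift

open IsLocalRing TensorProduct

universe u

variable {R S A : Type u} [CommRing R] [CommRing S] [IsLocalRing S] [Algebra R S] [CommRing A]
  [Algebra R A]

/-- rigidity: `R`-points of an unramified algebra are determined by their images in a local
`R`-algebra `S` (local structure map). -/
theorem comp_ofId_injective [IsLocalRing R] [IsLocalHom (algebraMap R S)]
    [Algebra.FormallyUnramified R A] [Algebra.EssFiniteType R A]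
    (f f' : A →ₐ[R] R) (h : (Algebra.ofId R S).comp f = (Algebra.ofId R S).comp f') : f = f' := by
  refine Groth.Agent.Lib.EssEt.algHom_eq_of_residue_eq f f' (fun c => ?_)
  have h1 : algebraMap R S (f c - f' c) = 0 := by
    have := DFunLike.congr_fun h c
    simp only [AlgHom.comp_apply, Algebra.ofId_apply] at this
    rw [map_sub, this, sub_self]
  by_contra hc
  have hu : IsUnit (f c - f' c) := by
    by_contra hnu
    exact hc ((IsLocalRing.mem_maximalIdeal _).mpr hnu)
  have := hu.map (algebraMap R S)
  rw [h1] at this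
  exact not_isUnit_zero this

theorem exists_residue_eq [IsLocalRing R] [IsSepClosed (ResidueField R)]
    [IsLocalHom (algebraMap R S)] [Algebra.Etale R A] (g : A →ₐ[R] S) (c : A) :
    ∃ k : ResidueField R,
      residue S (g c) = algebraMap (ResidueField R) (ResidueField S) k := by
  let g' : A →ₐ[R] ResidueField S := (IsScalarTower.toAlgHom R S (ResidueField S)).comp g
  let G : ResidueField R ⊗[R] A →ₐ[R] ResidueField S :=
    Algebra.TensorProduct.productMap
      (IsScalarTower.toAlgHom R (ResidueField R) (ResidueField S)) g'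
  let P : Ideal (ResidueField R ⊗[R] A) := RingHom.ker G.toRingHom
  haveI : P.IsPrime := RingHom.ker_isPrime G.toRingHom
  have hint : IsIntegral (ResidueField R) (Ideal.Quotient.mk P (1 ⊗ₜ c)) :=
    Algebra.IsSeparable.isIntegral (ResidueField R) _
  have hsep : IsSeparable (ResidueField R) (Ideal.Quotient.mk P (1 ⊗ₜ c)) :=
    Algebra.IsSeparable.isSeparable (ResidueField R) _
  have hdeg := IsSepClosed.degree_eq_one_of_irreducible (ResidueField R)
    (minpoly.irreducible hint) hsep
  obtain ⟨k, hk⟩ := minpoly.mem_range_of_degree_eq_one (ResidueField R) _ hdeg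
  refine ⟨k, ?_⟩
  have h0 : algebraMap (ResidueField R) ((ResidueField R ⊗[R] A) ⧸ P) k =
      Ideal.Quotient.mk P (k ⊗ₜ[R] (1 : A)) := rfl
  have h1 : (k ⊗ₜ[R] (1 : A) - 1 ⊗ₜ c) ∈ P := by
    rw [← Ideal.Quotient.eq, ← h0]
    exact hk
  have h2 : G (k ⊗ₜ[R] (1 : A) - 1 ⊗ₜ c) = 0 := h1
  rw [map_sub, Algebra.TensorProduct.productMap_apply_tmul,
    Algebra.TensorProduct.productMap_apply_tmul, map_one, map_one, mul_one, one_mul,
    sub_eq_zero] at h2
  exact h2.symm

/-- existence: over a strictly henselian local ring, every `S`-point of an étale algebra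
comes from an `R`-point. -/
theorem exists_lift [HenselianLocalRing R] [IsSepClosed (ResidueField R)]
    [IsLocalHom (algebraMap R S)] [Algebra.Etale R A] (g : A →ₐ[R] S) :
    ∃ f : A →ₐ[R] R, (Algebra.ofId R S).comp f = g := by
  have hι : Function.Injective (algebraMap (ResidueField R) (ResidueField S)) :=
    (algebraMap (ResidueField R) (ResidueField S)).injective
  choose ρ₀ hρ₀ using exists_residue_eq (R := R) g
  let ρ : A →ₐ[R] ResidueField R :=
    { toFun := ρ₀
      map_one' := hι (by simp only [← hρ₀, map_one])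
      map_mul' := fun a b => hι (by simp only [map_mul, ← hρ₀])
      map_zero' := hι (by simp only [← hρ₀, map_zero])
      map_add' := fun a b => hι (by simp only [map_add, ← hρ₀])
      commutes' := fun r => hι (by
        show algebraMap (ResidueField R) (ResidueField S) (ρ₀ (algebraMap R A r)) = _
        rw [← hρ₀, AlgHom.commutes]
        rfl) }
  have hρ : ∀ c, ρ c = ρ₀ c := fun c => rfl
  let q : Ideal A := RingHom.ker ρ.toRingHom
  haveI : q.IsPrime := RingHom.ker_isPrime _
  obtain ⟨φ', hφ'⟩ := Groth.Agent.Lib.EssEt.exists_lift_of_henselian (A := R) (C := A) (B := R)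
    q ρ (fun c => (RingHom.mem_ker (f := ρ.toRingHom)).symm)
  let f : A →ₐ[R] R := φ'.comp (IsScalarTower.toAlgHom R A (Localization.AtPrime q))
  have hf : ∀ c, residue R (f c) = ρ₀ c := fun c => hφ' c
  refine ⟨f, ?_⟩
  refine Groth.Agent.Lib.EssEt.algHom_eq_of_residue_eq _ _ (fun c => ?_)
  rw [← residue_eq_zero_iff, map_sub, sub_eq_zero]
  show residue S (algebraMap R S (f c)) = residue S (g c)
  rw [hρ₀ c, ← hf c]
  rfl

end Groth.Agent.Lib.StrictHensLift
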