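import Mathlib
import Groth.Agent.Lib.AzInv21_helper6
import Groth.Agent.Lib.AzInv12_helper6
import Groth.Agent.Lib.StrictHensLift_lead

/-!
# AzInv24 (helper6): sections of etale faithfully flat algebras over strictly henselian local
rings; square roots of units of the strict henselisation from `HasSqrt`.
-/

set_option autoImplicit false
set_option maxSynthPendingDepth 3
universe u

open TensorProduct IsLocalRing

namespace Groth.Agent.Lib.AzInvH6

open Groth.Agent.Lib.StrictHensH3

/-- an etale faithfully flat algebra over a strictly henselian local ring has a section -/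
theorem exists_section_of_etale_faithfullyFlat (R A : Type u) [CommRing R] [HenselianLocalRing R]
    [IsSepClosed (ResidueField R)] [CommRing A] [Algebra R A] [Algebra.Etale R A]
    [Module.FaithfullyFlat R A] : Nonempty (A →ₐ[R] R) := by
  obtain ⟨P, hP⟩ := PrimeSpectrum.comap_surjective_of_faithfullyFlat (A := R) (B := A)
    ⟨maximalIdeal R, inferInstance⟩
  haveI := P.isPrime
  have hP' : P.asIdeal.comap (algebraMap R A) = maximalIdeal R :=
    congrArg PrimeSpectrum.asIdeal hP
  haveI : IsLocalHom (algebraMap R (Localization.AtPrime P.asIdeal)) := by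
    refine ⟨fun x hx => ?_⟩
    by_contra hnu
    have h1 : x ∈ maximalIdeal R := (mem_maximalIdeal x).mpr hnu
    rw [← hP', Ideal.mem_comap] at h1
    have h2 : algebraMap A (Localization.AtPrime P.asIdeal) (algebraMap R A x) ∈
        maximalIdeal (Localization.AtPrime P.asIdeal) :=
      (IsLocalization.AtPrime.to_map_mem_maximal_iff _ P.asIdeal _).mpr h1
    rw [← IsScalarTower.algebraMap_apply] at h2
    exact ((mem_maximalIdeal _).mp h2) hx
  obtain ⟨f, -⟩ := Groth.Agent.Lib.StrictHensLift.exists_lift (R := R)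
    (S := Localization.AtPrime P.asIdeal) (A := A)
    (IsScalarTower.toAlgHom R A (Localization.AtPrime P.asIdeal))
  exact ⟨f⟩

/-- square roots over a strictly henselian local `S`-algebra, from `HasSqrt S` -/
theorem exists_sqrt_of_hasSqrt {S : Type u} [CommRing S] (hsq : HasSqrt S) (T : Type u)
    [CommRing T] [HenselianLocalRing T] [IsSepClosed (ResidueField T)] [Algebra S T]
    (E : Type u) [CommRing E] [Algebra S E] [Algebra.Etale S E] (σ : E →ₐ[S] T) (x : Eˣ) :
    ∃ y : T, y * y = σ x := by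
  obtain ⟨S₂, _, _, _, _, y₂, hy₂⟩ := hsq E x
  letI : Algebra E T := σ.toRingHom.toAlgebra
  obtain ⟨s⟩ := exists_section_of_etale_faithfullyFlat T (T ⊗[E] S₂)
  refine ⟨s ((1 : T) ⊗ₜ[E] y₂), ?_⟩
  rw [← map_mul, Algebra.TensorProduct.tmul_mul_tmul, one_mul, hy₂]
  have h1 : ((1 : T) ⊗ₜ[E] algebraMap E S₂ (x : E) : T ⊗[E] S₂) =
      algebraMap T (T ⊗[E] S₂) (σ x) := by
    rw [Algebra.algebraMap_eq_smul_one, TensorProduct.tmul_smul, TensorProduct.smul_tmul',
      Algebra.TensorProduct.algebraMap_apply, Algebra.smul_def, mul_one]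
    rfl
  rw [h1, AlgHom.commutes]
  rfl

namespace Approx

variable {S : Type u} [CommRing S] {T : Type u} [CommRing T] [Algebra S T]
  (D : Approx.{u, u, u} S T)

/-- units of `T` come from units at a finite stage -/
theorem exists_unit_self (x : Tˣ) : ∃ (i : D.ι) (v : (D.obj i)ˣ), D.of i v = x := by
  obtain ⟨i, w, hw⟩ := D.exists_of_fin (l := 2) ![(x : T), ((x⁻¹ : Tˣ) : T)]
  have h0 : D.of i (w 0) = x := hw 0
  have h1 : D.of i (w 1) = ((x⁻¹ : Tˣ) : T) := hw 1
  obtain ⟨j, hij, hj⟩ := D.of_eq_zero (w 0 * w 1 - 1) (by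
    rw [map_sub, map_mul, h0, h1, map_one, Units.mul_inv, sub_self])
  rw [map_sub, map_mul, map_one, sub_eq_zero] at hj
  refine ⟨j, ⟨D.tr hij (w 0), D.tr hij (w 1), hj, by rw [mul_comm]; exact hj⟩, ?_⟩
  show D.of j (D.tr hij (w 0)) = x
  rw [D.of_tr, h0]

end Approx

/-- under `HasSqrt S`, every unit of the strict henselisation of `S` at a prime is a square -/
theorem exists_sqrt_shq {S : Type u} [CommRing S] (hsq : HasSqrt S) (q : Ideal S) [q.IsPrime]
    (x : (ShQ S q)ˣ) : ∃ y : ShQ S q, y * y = x := by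
  obtain ⟨i, xi, hxi⟩ := (shqApprox S q).exists_unit_self x
  change Idx (Localization.AtPrime q)
      (SeparableClosure (ResidueField (Localization.AtPrime q))) at i
  change (i.A)ˣ at xi
  obtain ⟨E, _, _, Q, _, hE, ⟨κ⟩⟩ := Groth.Agent.Lib.EssEtTransH4.core S S (Localization.AtPrime q)
    i.C q (RingHom.ker i.pt)
  haveI := hE
  let xQ : (Localization.AtPrime Q)ˣ := Units.map κ.symm.toAlgHom.toRingHom.toMonoidHom xi
  obtain ⟨g, xg, hxg⟩ := (zarApprox S E Q).exists_unit_self xQ
  change ZIdx E Q at g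
  change (Localization.Away g.val)ˣ at xg
  haveI : Algebra.Etale E (Localization.Away g.val) := Algebra.Etale.of_isLocalizationAway g.val
  haveI : Algebra.Etale S (Localization.Away g.val) := Algebra.Etale.comp S E _
  let σ : Localization.Away g.val →ₐ[S] ShQ S q :=
    ((shqApprox S q).of i).comp (κ.toAlgHom.comp ((zarApprox S E Q).of g))
  obtain ⟨y, hy⟩ := exists_sqrt_of_hasSqrt hsq (ShQ S q) (Localization.Away g.val) σ xg
  refine ⟨y, ?_⟩
  rw [hy]
  show (shqApprox S q).of i (κ ((zarApprox S E Q).of g (xg : Localization.Away g.val))) = x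
  rw [hxg]
  show (shqApprox S q).of i (κ (κ.symm xi)) = x
  rw [AlgEquiv.apply_symm_apply]
  exact hxi

end Groth.Agent.Lib.AzInvH6
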