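import Mathlib
import Groth.Agent.Lib.AzInv19_helper6
import Groth.Agent.Lib.AzInv22_helper6
import Groth.Agent.Lib.AzInv23_helper6
import Groth.Agent.Lib.AzInv24_helper6
import Groth.Agent.Lib.RInv_helper6
import Groth.Agent.S15573

/-!
# AzInv25 (helper6): the isomorphism attached to a splitting map, and the transported involution
-/

set_option autoImplicit false
universe u v w

open TensorProduct IsLocalRing

namespace Groth.Agent.Lib.AzInvH6

attribute [local instance] Algebra.TensorProduct.rightAlgebra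
attribute [local instance] algT

section Iso

variable (S : Type u) (R : Type v) [CommRing S] [CommRing R] [Algebra S R]
  (T : Type u) [CommRing T] [Algebra S T]
  (A : Type v) [Ring A] [Algebra S A] [Algebra R A] [IsScalarTower S R A] [IsAzumaya R A]
  (n : ℕ) (hrk : ∀ p : PrimeSpectrum R, Module.rankAtStalk (R := R) A p = n ^ 2)
include hrk

/-- the isomorphism `T ⊗ A ≃ M_n(T ⊗ R)` attached to a splitting map -/
theorem exists_iso_of_algHom (φ : A →ₐ[R] Matrix (Fin n) (Fin n) (T ⊗[S] R)) :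
    ∃ F : T ⊗[S] A ≃ₐ[T ⊗[S] R] Matrix (Fin n) (Fin n) (T ⊗[S] R),
      ∀ (c : T) (a : A), F (c ⊗ₜ[S] a) =
        algebraMap T (Matrix (Fin n) (Fin n) (T ⊗[S] R)) c * φ a := by
  classical
  haveI : Module.Finite R A := IsAzumaya.toFinite
  haveI : Module.Projective R A := IsAzumaya.toProjective
  let F : T ⊗[S] A →ₐ[T] Matrix (Fin n) (Fin n) (T ⊗[S] R) :=
    Algebra.TensorProduct.lift (Algebra.ofId T _) (φ.restrictScalars S)
      (fun c a => Algebra.commutes c _)
  have hF : ∀ (c : T) (a : A), F (c ⊗ₜ[S] a) =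
      algebraMap T (Matrix (Fin n) (Fin n) (T ⊗[S] R)) c * φ a := by
    intro c a
    simp [F, Algebra.ofId_apply]
  have hFtoA : ∀ y : T ⊗[S] R, F (toA S R T A y) = Matrix.scalar (Fin n) y := by
    intro y
    induction y using TensorProduct.induction_on with
    | zero => simp
    | add y₁ y₂ h₁ h₂ => rw [map_add, map_add, map_add, h₁, h₂]
    | tmul c r =>
      rw [toA_tmul, hF, AlgHom.commutes, Matrix.algebraMap_eq_diagonal,
        Matrix.algebraMap_eq_diagonal]
      ext i j
      simp only [Matrix.mul_apply, Matrix.diagonal_apply, Matrix.scalar_apply, Pi.algebraMap_apply]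
      by_cases hij : i = j
      · subst hij
        simp [Algebra.TensorProduct.algebraMap_apply,
          Algebra.TensorProduct.right_algebraMap_apply]
      · simp [hij]
  let F' : T ⊗[S] A →ₐ[T ⊗[S] R] Matrix (Fin n) (Fin n) (T ⊗[S] R) :=
    { F.toRingHom with
      commutes' := fun y => by
        show F (toA S R T A y) = _
        rw [hFtoA, Matrix.algebraMap_eq_diagonal]
        rfl }
  haveI : IsAzumaya (T ⊗[S] R) (T ⊗[S] A) := isAzumaya_bc S R T A
  have hbij : Function.Bijective F' := by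
    refine Groth.Agent.Lib.TPowH6.azumaya_hom_bijective (T ⊗[S] R) (T ⊗[S] A)
      (Matrix (Fin n) (Fin n) (T ⊗[S] R)) (fun p => ?_) F'
    haveI : Nontrivial (T ⊗[S] R) := PrimeSpectrum.nonempty_iff_nontrivial.mp ⟨p⟩
    rw [rankAtStalk_bc S R T A (n ^ 2) hrk p, Module.rankAtStalk_eq_finrank_of_free,
      Module.finrank_matrix]
    simp [pow_two]
  exact ⟨AlgEquiv.ofBijective F' hbij, hF⟩

end Iso

section Transport

variable {R : Type*} [CommRing R] {A A' : Type*} [Ring A] [Algebra R A] [Ring A'] [Algebra R A']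
  {lam : R → R}

/-- transport of a `lam`-involution along an algebra isomorphism -/
def LamInv.transport (t : AzInv.LamInv R A lam) (e : A ≃ₐ[R] A') : AzInv.LamInv R A' lam where
  toFun x := e (t (e.symm x))
  map_add' x y := by rw [map_add, t.map_add, map_add]
  map_mul' x y := by rw [map_mul, t.map_mul, map_mul]
  map_smul' r x := by rw [map_smul, t.map_smul, map_smul]
  invol' x := by rw [AlgEquiv.symm_apply_apply, t.invol, AlgEquiv.apply_symm_apply]

theorem LamInv.transport_apply (t : AzInv.LamInv R A lam) (e : A ≃ₐ[R] A') (x : A') :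
    LamInv.transport t e x = e (t (e.symm x)) := rfl

theorem LamInv.transport_map (t : AzInv.LamInv R A lam) (e : A ≃ₐ[R] A') (a : A) :
    LamInv.transport t e (e a) = e (t a) := by
  rw [LamInv.transport_apply, AlgEquiv.symm_apply_apply]

end Transport

section Conj

/-- conjugation by a unit as an algebra map -/
def conjHom {R M : Type*} [CommSemiring R] [Semiring M] [Algebra R M] (u : Mˣ) : M →ₐ[R] M where
  toFun x := u * x * (u⁻¹ : Mˣ)
  map_one' := by simp
  map_mul' x y := by simp [mul_assoc]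
  map_zero' := by simp
  map_add' x y := by simp [mul_add, add_mul]
  commutes' r := by rw [← Algebra.commutes, mul_assoc, Units.mul_inv, mul_one]

theorem conjHom_apply {R M : Type*} [CommSemiring R] [Semiring M] [Algebra R M] (u : Mˣ) (x : M) :
    conjHom (R := R) u x = u * x * (u⁻¹ : Mˣ) := rfl

end Conj

section Master

variable (S : Type u) (R : Type v) [CommRing S] [CommRing R] [Algebra S R]
  (lam : R ≃ₐ[S] R) (hlam : ∀ r, lam (lam r) = r) (hfix : RInv.IsFixedRing S R lam.toRingEquiv)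
  (T : Type u) [CommRing T] [Algebra S T] [Module.Flat S T] [IsLocalRing T]
  (A : Type v) [Ring A] [Algebra S A] [Algebra R A] [IsScalarTower S R A] [IsAzumaya R A]
  (n : ℕ) (hn : 0 < n) (hrk : ∀ p : PrimeSpectrum R, Module.rankAtStalk (R := R) A p = n ^ 2)
  (t : AzInv.LamInv R A lam)
include hlam hfix hn hrk

/-- normal form over a local base with square roots, in the unramified or odd-degree case -/
theorem matInvHom_one_of_local (hsqT : ∀ b : Tˣ, ∃ y : T, y * y = b)
    (hsplit : MatHom (S := S) R A n T)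
    (hcase : (∃ a : T ⊗[S] R, IsUnit (a - lamT S lam T a)) ∨ Odd n) :
    MatInvHom R lam A t n 1 1 T := by
  classical
  obtain ⟨φ⟩ := hsplit
  obtain ⟨F, hF⟩ := exists_iso_of_algHom S R T A n hrk φ
  have hinv : Function.Involutive (lamT S lam T).toRingEquiv := fun x => lamT_invol S lam T hlam x
  have hfixT : RInv.IsFixedRing T (T ⊗[S] R) (lamT S lam T).toRingEquiv :=
    isFixedRing_lamT S R lam hlam hfix T
  haveI : Nontrivial (T ⊗[S] R) := hfixT.1.nontrivial
  let τ : AzInv.LamInv (T ⊗[S] R) (Matrix (Fin n) (Fin n) (T ⊗[S] R)) (lamT S lam T).toRingEquiv :=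
    LamInv.transport (tT S lam T t) F
  obtain ⟨g, ε, hg, hε, hτ⟩ := exists_inner_form (lamT S lam T).toRingEquiv hinv hfixT hn τ
  -- normalise
  obtain ⟨g', hg', hconj, hcase'⟩ : ∃ g' : (Matrix (Fin n) (Fin n) (T ⊗[S] R))ˣ,
      AzInv.lamTr (lamT S lam T).toRingEquiv (g' : Matrix (Fin n) (Fin n) (T ⊗[S] R)) = g' ∧
      (∀ X, (g' : Matrix (Fin n) (Fin n) (T ⊗[S] R)) * X *
        (g'⁻¹ : (Matrix (Fin n) (Fin n) (T ⊗[S] R))ˣ) =
        g * X * (g⁻¹ : (Matrix (Fin n) (Fin n) (T ⊗[S] R))ˣ)) ∧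
      ((∃ a : T ⊗[S] R, (lamT S lam T).toRingEquiv a - a ∉ Ring.jacobson (T ⊗[S] R)) ∨
        (1 : T ⊗[S] R) + 1 ∉ Ring.jacobson (T ⊗[S] R) ∨ Odd n) := by
    rcases hcase with ⟨a, ha⟩ | hodd
    · have hq : RInv.IsQuadEtale T (T ⊗[S] R) :=
        Groth.Agent.S15573.result T (T ⊗[S] R) (lamT S lam T).toRingEquiv hinv hfixT ⟨a, ha⟩
      obtain ⟨g', hg', hconj⟩ := exists_rescale_quadEtale (lamT S lam T).toRingEquiv hinv hfixT hq
        g ε hg hε
      refine ⟨g', hg', hconj, Or.inl ⟨a, fun hmem => ?_⟩⟩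
      have h1 : IsUnit ((lamT S lam T).toRingEquiv a - a) := by
        have : (lamT S lam T).toRingEquiv a - a = -(a - lamT S lam T a) := by
          rw [neg_sub]; rfl
        rw [this]
        exact ha.neg
      exact Groth.Agent.Lib.RInv_helper6.not_isUnit_of_mem_jacobson hmem h1
    · obtain ⟨g', hg', hconj⟩ := exists_rescale_odd (lamT S lam T).toRingEquiv hodd g ε hg hε
      exact ⟨g', hg', hconj, Or.inr (Or.inr hodd)⟩
  obtain ⟨u, hu⟩ := exists_unit_mul_lamTr_eq_one (lamT S lam T).toRingEquiv hinv hfixT hsqT g' hg'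
    hcase'
  refine ⟨(conjHom u).comp φ, fun a => ?_⟩
  rw [matT_one, one_mul, mul_one, AlgHom.comp_apply, AlgHom.comp_apply, conjHom_apply,
    conjHom_apply]
  have h1 : φ (t a) = τ (φ a) := by
    have e1 : F ((1 : T) ⊗ₜ[S] t a) = φ (t a) := by rw [hF, map_one, one_mul]
    have e2 : F ((1 : T) ⊗ₜ[S] a) = φ a := by rw [hF, map_one, one_mul]
    rw [← e1, ← e2]
    show _ = LamInv.transport (tT S lam T t) F (F _)
    rw [LamInv.transport_map, tT_apply, AzInv.LamInv.bc_tmul]
  rw [h1, hτ, ← hconj]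
  have h2 := conj_inner (lamT S lam T).toRingEquiv hinv g' u 1 1 hu (one_mul 1) (φ a)
  rw [one_mul, mul_one] at h2
  exact h2

end Master

end Groth.Agent.Lib.AzInvH6
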