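import Mathlib
import Groth.Agent.Lib.AzInv25_helper6

/-!
# AzInv26 (helper6): from compatible splitting maps to local isomorphisms of algebras with
involution.
-/

set_option autoImplicit false
universe u v w w'

open TensorProduct IsLocalRing

namespace Groth.Agent.Lib.AzInvH6

attribute [local instance] Algebra.TensorProduct.rightAlgebra
attribute [local instance] algT

section Theta

variable {S : Type u} [CommRing S] (R : Type v) [CommRing R] [Algebra S R] (lam : R ≃ₐ[S] R)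
  (n : ℕ) (w w' : Matrix (Fin n) (Fin n) R) (T : Type u) [CommRing T] [Algebra S T]

/-- the model involution `X ↦ w * lamTr X * w'` on `M_n(T ⊗ R)` -/
noncomputable def theta (X : Matrix (Fin n) (Fin n) (T ⊗[S] R)) :
    Matrix (Fin n) (Fin n) (T ⊗[S] R) :=
  matT R n T w * AzInv.lamTr (lamT S lam T) X * matT R n T w'

theorem theta_add (X Y : Matrix (Fin n) (Fin n) (T ⊗[S] R)) :
    theta R lam n w w' T (X + Y) = theta R lam n w w' T X + theta R lam n w w' T Y := by
  have e1 : AzInv.lamTr (lamT S lam T) (X + Y) =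
      AzInv.lamTr (lamT S lam T) X + AzInv.lamTr (lamT S lam T) Y := by
    ext p q
    simp [AzInv.lamTr_apply]
  rw [theta, e1, mul_add, add_mul]
  rfl

theorem theta_zero : theta R lam n w w' T 0 = 0 := by
  have e1 : AzInv.lamTr (lamT S lam T) (0 : Matrix (Fin n) (Fin n) (T ⊗[S] R)) = 0 := by
    ext p q
    simp [AzInv.lamTr_apply]
  rw [theta, e1, mul_zero, zero_mul]

theorem theta_algebraMap_mul (c : T) (X : Matrix (Fin n) (Fin n) (T ⊗[S] R)) :
    theta R lam n w w' T (algebraMap T (Matrix (Fin n) (Fin n) (T ⊗[S] R)) c * X) =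
      algebraMap T (Matrix (Fin n) (Fin n) (T ⊗[S] R)) c * theta R lam n w w' T X := by
  have e1 : AzInv.lamTr (lamT S lam T) (algebraMap T (Matrix (Fin n) (Fin n) (T ⊗[S] R)) c * X) =
      algebraMap T (Matrix (Fin n) (Fin n) (T ⊗[S] R)) c * AzInv.lamTr (lamT S lam T) X := by
    ext p q
    rw [AzInv.lamTr_apply, Matrix.algebraMap_eq_diagonal, Matrix.diagonal_mul,
      Matrix.diagonal_mul, AzInv.lamTr_apply, map_mul]
    congr 1
    simp only [Pi.algebraMap_apply, Algebra.TensorProduct.algebraMap_apply]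
    rw [Algebra.algebraMap_self_apply, lamT_tmul, map_one]
  rw [theta, e1, theta, ← mul_assoc, ← mul_assoc, ← Algebra.commutes c (matT R n T w)]
  simp only [mul_assoc]

end Theta

section IsoAt

variable (S : Type u) (R : Type v) [CommRing S] [CommRing R] [Algebra S R]
  (lam : R ≃ₐ[S] R)
  (T : Type u) [CommRing T] [Algebra S T]
  (A : Type v) [Ring A] [Algebra S A] [Algebra R A] [IsScalarTower S R A] [IsAzumaya R A]
  (A' : Type v) [Ring A'] [Algebra S A'] [Algebra R A'] [IsScalarTower S R A'] [IsAzumaya R A']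
  (n : ℕ) (hrk : ∀ p : PrimeSpectrum R, Module.rankAtStalk (R := R) A p = n ^ 2)
  (hrk' : ∀ p : PrimeSpectrum R, Module.rankAtStalk (R := R) A' p = n ^ 2)
  (t : AzInv.LamInv R A lam) (t' : AzInv.LamInv R A' lam) (w w' : Matrix (Fin n) (Fin n) R)

omit [IsAzumaya R A'] in
include hrk in
theorem iso_intertwines (φ : A →ₐ[R] Matrix (Fin n) (Fin n) (T ⊗[S] R))
    (hφ : ∀ a, φ (t a) = theta R lam n w w' T (φ a))
    (F : T ⊗[S] A ≃ₐ[T ⊗[S] R] Matrix (Fin n) (Fin n) (T ⊗[S] R))
    (hF : ∀ (c : T) (a : A), F (c ⊗ₜ[S] a) =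
        algebraMap T (Matrix (Fin n) (Fin n) (T ⊗[S] R)) c * φ a) (x : T ⊗[S] A) :
    F (t.bc S lam T x) = theta R lam n w w' T (F x) := by
  induction x using TensorProduct.induction_on with
  | zero => rw [map_zero, map_zero, theta_zero]
  | add x y hx hy => rw [map_add, map_add, map_add, hx, hy, theta_add]
  | tmul c a => rw [AzInv.LamInv.bc_tmul, hF, hF, hφ, theta_algebraMap_mul]

include hrk hrk' in
/-- two algebras with involution with the same model become isomorphic -/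
theorem isoAt_of_matInvHom (h : MatInvHom R lam A t n w w' T) (h' : MatInvHom R lam A' t' n w w' T) :
    ∃ f : T ⊗[S] A ≃ₐ[T] T ⊗[S] A',
      (∀ (r : R) (x : T ⊗[S] A),
        f (((1 : T) ⊗ₜ[S] algebraMap R A r) * x) = ((1 : T) ⊗ₜ[S] algebraMap R A' r) * f x) ∧
      ∀ x : T ⊗[S] A, f (t.bc S lam T x) = t'.bc S lam T (f x) := by
  obtain ⟨φ, hφ⟩ := h
  obtain ⟨φ', hφ'⟩ := h'
  obtain ⟨F, hF⟩ := exists_iso_of_algHom S R T A n hrk φ
  obtain ⟨F', hF'⟩ := exists_iso_of_algHom S R T A' n hrk' φ'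
  let f₀ : T ⊗[S] A ≃ₐ[T ⊗[S] R] T ⊗[S] A' := F.trans F'.symm
  have hf₀ : ∀ x, F' (f₀ x) = F x := fun x => by
    show F' (F'.symm (F x)) = F x
    rw [AlgEquiv.apply_symm_apply]
  let f : T ⊗[S] A ≃ₐ[T] T ⊗[S] A' :=
    AlgEquiv.ofRingEquiv (f := f₀.toRingEquiv) (by
      intro c
      show f₀ (algebraMap T (T ⊗[S] A) c) = algebraMap T (T ⊗[S] A') c
      apply F'.injective
      rw [hf₀, Algebra.TensorProduct.algebraMap_apply, Algebra.TensorProduct.algebraMap_apply,
        Algebra.algebraMap_self_apply, hF, hF', map_one, map_one])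
  have hf : ∀ x, f x = f₀ x := fun x => rfl
  refine ⟨f, fun r x => ?_, fun x => ?_⟩
  · rw [hf, hf]
    have e1 : ((1 : T) ⊗ₜ[S] algebraMap R A r : T ⊗[S] A) =
        algebraMap (T ⊗[S] R) (T ⊗[S] A) ((1 : T) ⊗ₜ[S] r) := by
      rw [algebraMap_algT, toA_tmul]
    have e2 : ((1 : T) ⊗ₜ[S] algebraMap R A' r : T ⊗[S] A') =
        algebraMap (T ⊗[S] R) (T ⊗[S] A') ((1 : T) ⊗ₜ[S] r) := by
      rw [algebraMap_algT, toA_tmul]
    rw [e1, e2, map_mul, AlgEquiv.commutes]
  · rw [hf, hf]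
    apply F'.injective
    rw [hf₀, iso_intertwines S R lam T A n hrk t w w' φ hφ F hF,
      iso_intertwines S R lam T A' n hrk' t' w w' φ' hφ' F' hF', hf₀]

end IsoAt

end Groth.Agent.Lib.AzInvH6
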