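import Mathlib
import Groth.Agent.Lib.AzInv26_helper6

/-!
# AzInv27 (helper6): local isomorphism with the `lam`-transpose on matrices
(unramified or odd degree case).
-/

set_option autoImplicit false
set_option maxSynthPendingDepth 3
universe u v w w'

open TensorProduct IsLocalRing

namespace Groth.Agent.Lib.AzInvH6

attribute [local instance] Algebra.TensorProduct.rightAlgebra

section Canonical

variable {S : Type u} [CommRing S] (R : Type v) [CommRing R] [Algebra S R] (lam : R ≃ₐ[S] R)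
  (hlam : ∀ r, lam (lam r) = r) (n : ℕ) (T : Type u) [CommRing T] [Algebra S T]

theorem matT_lamTr (X : Matrix (Fin n) (Fin n) R) :
    matT (S := S) R n T (AzInv.lamTr lam X) = AzInv.lamTr (lamT S lam T) (matT R n T X) := by
  ext i j
  rw [matT_apply, AzInv.lamTr_apply, AzInv.lamTr_apply, matT_apply, lamT_tmul]

/-- the canonical splitting map of `M_n(R)` -/
noncomputable def canHom : Matrix (Fin n) (Fin n) R →ₐ[R] Matrix (Fin n) (Fin n) (T ⊗[S] R) :=
  (Algebra.ofId R (T ⊗[S] R)).mapMatrix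

theorem canHom_apply (X : Matrix (Fin n) (Fin n) R) : canHom (S := S) R n T X = matT R n T X := rfl

theorem matInvHom_conj (w : (Matrix (Fin n) (Fin n) R)ˣ) (e : R)
    (hw : AzInv.LamInv.transpose lam (Fin n) hlam (↑w : Matrix (Fin n) (Fin n) R) =
      e • (↑w : Matrix (Fin n) (Fin n) R)) (he : lam e * e = 1) :
    MatInvHom R lam (Matrix (Fin n) (Fin n) R)
      ((AzInv.LamInv.transpose lam (Fin n) hlam).conj w e hw he) n
      (w : Matrix (Fin n) (Fin n) R) ((w⁻¹ : (Matrix (Fin n) (Fin n) R)ˣ) : Matrix (Fin n) (Fin n) R)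
      T := by
  refine ⟨canHom R n T, fun X => ?_⟩
  rw [AzInv.LamInv.conj_apply, canHom_apply, canHom_apply, matT_mul, matT_mul,
    ← matT_lamTr R lam n T X]
  rfl

theorem matInvHom_self :
    MatInvHom R lam (Matrix (Fin n) (Fin n) R)
      ((AzInv.LamInv.self lam hlam).matrix (Fin n)) n 1 1 T := by
  refine ⟨canHom R n T, fun X => ?_⟩
  rw [matT_one, one_mul, mul_one, canHom_apply, canHom_apply]
  exact matT_lamTr R lam n T X

end Canonical

section Congr

variable (S : Type u) {R : Type v} [CommRing S] [CommRing R] [Algebra S R] (lam : R ≃ₐ[S] R)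
  {A₁ : Type w} [Ring A₁] [Algebra S A₁] [Algebra R A₁] [IsScalarTower S R A₁]
  {A : Type w'} [Ring A] [Algebra S A] [Algebra R A] [IsScalarTower S R A]
  {A' : Type*} [Ring A'] [Algebra S A'] [Algebra R A'] [IsScalarTower S R A']

theorem locIsoEt_congr_left (e : A₁ ≃ₐ[R] A) (t₁ : AzInv.LamInv R A₁ lam)
    (t : AzInv.LamInv R A lam) (he : AzInv.IsInvHom t₁ t e) (t' : AzInv.LamInv R A' lam)
    (h : AzInv.LocIsoEt S lam t t') : AzInv.LocIsoEt S lam t₁ t' := by
  obtain ⟨S', i1, i2, i3, i4, f, hf1, hf2⟩ := h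
  let c : S' ⊗[S] A₁ ≃ₐ[S'] S' ⊗[S] A :=
    Algebra.TensorProduct.congr AlgEquiv.refl (e.restrictScalars S)
  have hc : ∀ (s : S') (a : A₁), c (s ⊗ₜ[S] a) = s ⊗ₜ[S] e a := fun s a => by simp [c]
  refine ⟨S', i1, i2, i3, i4, c.trans f, fun r x => ?_, fun x => ?_⟩
  · show f (c (_ * x)) = _ * f (c x)
    rw [map_mul, hc, AlgEquiv.commutes, hf1]
  · show f (c (t₁.bc S lam S' x)) = t'.bc S lam S' (f (c x))
    rw [← hf2]
    congr 1
    induction x using TensorProduct.induction_on with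
    | zero => simp
    | add x y hx hy => rw [map_add, map_add, hx, hy, map_add, map_add]
    | tmul s a => rw [AzInv.LamInv.bc_tmul, hc, hc, AzInv.LamInv.bc_tmul, he a]

theorem locIsoEt_congr_right (e : A₁ ≃ₐ[R] A) (t₁ : AzInv.LamInv R A₁ lam)
    (t : AzInv.LamInv R A lam) (he : AzInv.IsInvHom t₁ t e) (t' : AzInv.LamInv R A' lam)
    (h : AzInv.LocIsoEt S lam t' t) : AzInv.LocIsoEt S lam t' t₁ := by
  obtain ⟨S', i1, i2, i3, i4, f, hf1, hf2⟩ := h
  let c : S' ⊗[S] A₁ ≃ₐ[S'] S' ⊗[S] A :=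
    Algebra.TensorProduct.congr AlgEquiv.refl (e.restrictScalars S)
  have hc : ∀ (s : S') (a : A₁), c (s ⊗ₜ[S] a) = s ⊗ₜ[S] e a := fun s a => by simp [c]
  have hcr : ∀ (r : R) (y : S' ⊗[S] A₁), c (((1 : S') ⊗ₜ[S] algebraMap R A₁ r) * y) =
      ((1 : S') ⊗ₜ[S] algebraMap R A r) * c y := fun r y => by
    rw [map_mul, hc, AlgEquiv.commutes]
  have hct : ∀ y : S' ⊗[S] A₁, c (t₁.bc S lam S' y) = t.bc S lam S' (c y) := by
    intro y
    induction y using TensorProduct.induction_on with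
    | zero => simp
    | add x y hx hy => rw [map_add, map_add, hx, hy, map_add, map_add]
    | tmul s a => rw [AzInv.LamInv.bc_tmul, hc, hc, AzInv.LamInv.bc_tmul, he a]
  refine ⟨S', i1, i2, i3, i4, f.trans c.symm, fun r x => ?_, fun x => ?_⟩
  · show c.symm (f (_ * x)) = _ * c.symm (f x)
    apply c.injective
    rw [AlgEquiv.apply_symm_apply, hcr, AlgEquiv.apply_symm_apply, hf1]
  · show c.symm (f (t'.bc S lam S' x)) = t₁.bc S lam S' (c.symm (f x))
    apply c.injective
    rw [AlgEquiv.apply_symm_apply, hct, AlgEquiv.apply_symm_apply, hf2]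

end Congr

end Groth.Agent.Lib.AzInvH6
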