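import Mathlib
import Groth.Prelude.Def_W4c2azumayainvolQEt
import Groth.Agent.Lib.RInv_helper6
import Groth.Agent.Lib.RInv2_helper6
import Groth.Agent.Lib.RInv3_helper6
import Groth.Agent.S15586

/-!
# Base change of rings with involution; the quadratic etale locus (helper6)
-/

set_option autoImplicit false
universe u v w

open TensorProduct

namespace Groth.Agent.Lib.RInv6

open Groth.Agent.Lib.RInv_helper6 Groth.Agent.Lib.RInv2 Groth.Agent.Lib.RInv3

variable {S : Type u} {R : Type v} [CommRing S] [CommRing R] [Algebra S R] {lam : R ≃+* R}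

/-- `lam` as an `S`-algebra equivalence -/
def lamE (hS : RInv.IsFixedRing S R lam) : R ≃ₐ[S] R :=
  AlgEquiv.ofRingEquiv (f := lam) (lam_algebraMap hS)

@[simp] theorem lamE_apply (hS : RInv.IsFixedRing S R lam) (x : R) : lamE hS x = lam x := rfl

variable (S' : Type w) [CommRing S'] [Algebra S S']

/-- the base-changed involution -/
def baseLam (hS : RInv.IsFixedRing S R lam) : S' ⊗[S] R ≃+* S' ⊗[S] R :=
  (Algebra.TensorProduct.congr (AlgEquiv.refl : S' ≃ₐ[S] S') (lamE hS)).toRingEquiv

theorem baseLam_tmul (hS : RInv.IsFixedRing S R lam) (a : S') (r : R) :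
    baseLam S' hS (a ⊗ₜ[S] r) = a ⊗ₜ[S] lam r := by
  simp [baseLam]

theorem baseLam_involutive (hlam : Function.Involutive lam) (hS : RInv.IsFixedRing S R lam) :
    Function.Involutive (baseLam S' hS) := by
  intro z
  induction z using TensorProduct.induction_on with
  | zero => simp
  | tmul a r => rw [baseLam_tmul, baseLam_tmul, hlam r]
  | add z w hz hw => rw [map_add, map_add, hz, hw]

theorem isFixedRing_baseLam [Module.Flat S S'] (hlam : Function.Involutive lam)
    (hS : RInv.IsFixedRing S R lam) :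
    RInv.IsFixedRing S' (S' ⊗[S] R) (baseLam S' hS) :=
  Groth.Agent.S15586.result S R S' (lamE hS) hlam hS (Or.inl inferInstance)

theorem algebraMap_baseChange (s : S) :
    algebraMap S' (S' ⊗[S] R) (algebraMap S S' s) = (1 : S') ⊗ₜ[S] algebraMap S R s := by
  rw [Algebra.TensorProduct.algebraMap_apply, Algebra.algebraMap_self_apply,
    Algebra.algebraMap_eq_smul_one, TensorProduct.smul_tmul, ← Algebra.algebraMap_eq_smul_one]

variable {S'}

/-- an element of the fixed ring that becomes a unit is a unit -/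
theorem isUnit_of_isUnit_algebraMap (hS : RInv.IsFixedRing S R lam) {a : S}
    (h : IsUnit (algebraMap S R a)) : IsUnit a := by
  obtain ⟨u, hu⟩ := h
  have h1 : algebraMap S R a * (↑u⁻¹ : R) = 1 := by rw [← hu]; exact Units.mul_inv u
  have h2 : algebraMap S R a * lam (↑u⁻¹ : R) = 1 := by
    have := congrArg lam h1
    rwa [map_mul, lam_algebraMap hS, map_one] at this
  have h3 : lam (↑u⁻¹ : R) = (↑u⁻¹ : R) := by
    calc lam (↑u⁻¹ : R) = ((↑u⁻¹ : R) * algebraMap S R a) * lam (↑u⁻¹ : R) := by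
            rw [mul_comm (↑u⁻¹ : R), h1, one_mul]
      _ = (↑u⁻¹ : R) * (algebraMap S R a * lam (↑u⁻¹ : R)) := by ring
      _ = (↑u⁻¹ : R) := by rw [h2, mul_one]
  obtain ⟨b, hb⟩ := (hS.2 _).mp h3
  have h4 : algebraMap S R (a * b) = algebraMap S R 1 := by
    rw [map_mul, hb, h1, map_one]
  exact IsUnit.of_mul_eq_one b (hS.1 h4)

/-- Q1: if the norm of `r - lam r` becomes a unit in the flat `S`-algebra `S'`, then the base
change is quadratic etale -/
theorem isQuadEtale_baseChange_of_isUnit_norm [Module.Flat S S'] (hlam : Function.Involutive lam)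
    (hS : RInv.IsFixedRing S R lam) (r : R) (s0 : S)
    (h : algebraMap S R s0 = (r - lam r) * lam (r - lam r))
    (hu : IsUnit (algebraMap S S' s0)) : RInv.IsQuadEtale S' (S' ⊗[S] R) := by
  have hfix := isFixedRing_baseLam S' hlam hS
  have hinv := baseLam_involutive S' hlam hS
  refine isQuadEtale_of_unit (r := (1 : S') ⊗ₜ[S] r) hinv hfix ?_
  have e : (1 : S') ⊗ₜ[S] r - baseLam S' hS ((1 : S') ⊗ₜ[S] r) = (1 : S') ⊗ₜ[S] (r - lam r) := by
    rw [baseLam_tmul, TensorProduct.tmul_sub]
  rw [e]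
  have h1 : ((1 : S') ⊗ₜ[S] (r - lam r)) * ((1 : S') ⊗ₜ[S] lam (r - lam r)) =
      algebraMap S' (S' ⊗[S] R) (algebraMap S S' s0) := by
    rw [Algebra.TensorProduct.tmul_mul_tmul, one_mul, ← h, algebraMap_baseChange]
  have h2 : IsUnit (((1 : S') ⊗ₜ[S] (r - lam r)) * ((1 : S') ⊗ₜ[S] lam (r - lam r))) := by
    rw [h1]; exact hu.map _
  exact isUnit_of_mul_isUnit_left h2

/-- Q2: if the localisation at `p` is quadratic etale, some norm of `r - lam r` lies outside `p` -/
theorem exists_norm_notMem_of_isQuadEtale (hlam : Function.Involutive lam)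
    (hS : RInv.IsFixedRing S R lam) (p : PrimeSpectrum S)
    (hp : RInv.IsQuadEtale (Localization.AtPrime p.asIdeal)
      (Localization.AtPrime p.asIdeal ⊗[S] R)) :
    ∃ (r : R) (s0 : S), algebraMap S R s0 = (r - lam r) * lam (r - lam r) ∧ s0 ∉ p.asIdeal := by
  obtain ⟨Sp, hSp⟩ : ∃ Sp : Type u, Sp = Localization.AtPrime p.asIdeal := ⟨_, rfl⟩
  have hfix := isFixedRing_baseLam (Localization.AtPrime p.asIdeal) hlam hS
  have hinv := baseLam_involutive (Localization.AtPrime p.asIdeal) hlam hS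
  obtain ⟨z, hz⟩ := exists_sub_isUnit_of_isQuadEtale hinv hfix hp
  obtain ⟨⟨r, s⟩, hrs⟩ := IsLocalizedModule.surj p.asIdeal.primeCompl
    (TensorProduct.mk S (Localization.AtPrime p.asIdeal) R 1) z
  simp only [TensorProduct.mk_apply] at hrs
  -- the element 1 ⊗ (r - lam r) is a unit
  have hsu : IsUnit (algebraMap S (Localization.AtPrime p.asIdeal) (s : S)) :=
    IsLocalization.map_units _ s
  obtain ⟨c, hc⟩ : ∃ c : Localization.AtPrime p.asIdeal ⊗[S] R, c =
      algebraMap (Localization.AtPrime p.asIdeal) (Localization.AtPrime p.asIdeal ⊗[S] R)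
        (algebraMap S (Localization.AtPrime p.asIdeal) (s : S)) := ⟨_, rfl⟩
  have hrs' : c * z = (1 : Localization.AtPrime p.asIdeal) ⊗ₜ[S] r := by
    rw [← hrs, Submonoid.smul_def, hc, ← Algebra.smul_def, algebraMap_smul]
  have hcfix : baseLam (Localization.AtPrime p.asIdeal) hS c = c := by
    rw [hc]; exact lam_algebraMap hfix _
  have h1 : (1 : Localization.AtPrime p.asIdeal) ⊗ₜ[S] (r - lam r) =
      c * (z - baseLam (Localization.AtPrime p.asIdeal) hS z) := by
    rw [TensorProduct.tmul_sub, ← baseLam_tmul, ← hrs', map_mul, hcfix, mul_sub]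
  have hcu : IsUnit c := by rw [hc]; exact hsu.map _
  have h2 : IsUnit ((1 : Localization.AtPrime p.asIdeal) ⊗ₜ[S] (r - lam r)) := by
    rw [h1]; exact hcu.mul hz
  have hfixN : lam ((r - lam r) * lam (r - lam r)) = (r - lam r) * lam (r - lam r) := by
    rw [map_mul, hlam (r - lam r), mul_comm]
  obtain ⟨s0, hs0⟩ := (hS.2 _).mp hfixN
  refine ⟨r, s0, hs0, ?_⟩
  have h3 : IsUnit ((1 : Localization.AtPrime p.asIdeal) ⊗ₜ[S] lam (r - lam r)) := by
    rw [← baseLam_tmul]
    exact h2.map (baseLam (Localization.AtPrime p.asIdeal) hS)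
  have h4 : algebraMap (Localization.AtPrime p.asIdeal) (Localization.AtPrime p.asIdeal ⊗[S] R)
      (algebraMap S (Localization.AtPrime p.asIdeal) s0) =
      ((1 : Localization.AtPrime p.asIdeal) ⊗ₜ[S] (r - lam r)) *
        ((1 : Localization.AtPrime p.asIdeal) ⊗ₜ[S] lam (r - lam r)) := by
    rw [Algebra.TensorProduct.tmul_mul_tmul, one_mul, ← hs0, algebraMap_baseChange]
  have h5 : IsUnit (algebraMap S (Localization.AtPrime p.asIdeal) s0) := by
    apply isUnit_of_isUnit_algebraMap hfix
    rw [h4]; exact h2.mul h3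
  exact (IsLocalization.AtPrime.isUnit_to_map_iff (Localization.AtPrime p.asIdeal) p.asIdeal
    s0).mp h5

/-- Q: characterisation of the quadratic etale locus -/
theorem isQuadEtale_atPrime_iff (hlam : Function.Involutive lam)
    (hS : RInv.IsFixedRing S R lam) (p : PrimeSpectrum S) :
    RInv.IsQuadEtale (Localization.AtPrime p.asIdeal) (Localization.AtPrime p.asIdeal ⊗[S] R) ↔
    ∃ (r : R) (s0 : S), algebraMap S R s0 = (r - lam r) * lam (r - lam r) ∧ s0 ∉ p.asIdeal := by
  constructor
  · exact exists_norm_notMem_of_isQuadEtale hlam hS p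
  · rintro ⟨r, s0, h, hs0⟩
    exact isQuadEtale_baseChange_of_isUnit_norm hlam hS r s0 h
      ((IsLocalization.AtPrime.isUnit_to_map_iff (Localization.AtPrime p.asIdeal) p.asIdeal
        s0).mpr hs0)

end Groth.Agent.Lib.RInv6
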