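import Mathlib
import Groth.Agent.Lib.AzInv27_helper6
import Groth.Agent.Lib.RInv6_helper6

/-!
# AzInv28 (helper6): `(A, t)` is locally isomorphic to `(M_n(R), lam-transpose)` in the unramified
case and in odd degree.
-/

set_option autoImplicit false
set_option maxSynthPendingDepth 3
universe u v w w'

open TensorProduct IsLocalRing

namespace Groth.Agent.Lib.AzInvH6

attribute [local instance] Algebra.TensorProduct.rightAlgebra

section Unram

variable (S : Type u) (R : Type v) [CommRing S] [CommRing R] [Algebra S R] (lam : R ≃ₐ[S] R)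

/-- `R` is unramified over `S` at the prime `q` (norm form) -/
def UnramAt (q : Ideal S) : Prop :=
  ∃ (r : R) (s0 : S), algebraMap S R s0 = (r - lam r) * lam (r - lam r) ∧ s0 ∉ q

theorem exists_isUnit_sub_lamT (q : Ideal S) (T : Type u) [CommRing T] [Algebra S T]
    [IsLocalRing T] (hT : (maximalIdeal T).comap (algebraMap S T) = q) (h : UnramAt S R lam q) :
    ∃ a : T ⊗[S] R, IsUnit (a - lamT S lam T a) := by
  obtain ⟨r, s0, hs0, hq⟩ := h
  refine ⟨(1 : T) ⊗ₜ[S] r, ?_⟩
  rw [lamT_tmul, ← TensorProduct.tmul_sub]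
  have hu : IsUnit (algebraMap S T s0) := by
    by_contra hnu
    apply hq
    rw [← hT, Ideal.mem_comap]
    exact (mem_maximalIdeal _).mpr hnu
  have h1 : ((1 : T) ⊗ₜ[S] (r - lam r)) * ((1 : T) ⊗ₜ[S] lam (r - lam r)) =
      algebraMap T (T ⊗[S] R) (algebraMap S T s0) := by
    rw [Algebra.TensorProduct.tmul_mul_tmul, one_mul, ← hs0,
      Algebra.TensorProduct.algebraMap_apply, Algebra.algebraMap_self_apply,
      Algebra.algebraMap_eq_smul_one, TensorProduct.tmul_smul, TensorProduct.smul_tmul',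
      Algebra.smul_def, mul_one]
  have h2 : IsUnit (((1 : T) ⊗ₜ[S] (r - lam r)) * ((1 : T) ⊗ₜ[S] lam (r - lam r))) := by
    rw [h1]; exact hu.map _
  exact isUnit_of_mul_isUnit_left h2

theorem isQuadEtale_baseChange (S' : Type*) [CommRing S'] [Algebra S S']
    (h : RInv.IsQuadEtale S R) : RInv.IsQuadEtale S' (S' ⊗[S] R) := by
  obtain ⟨h1, h2, h3, h4⟩ := h
  haveI := h1
  haveI := h2
  haveI := h3
  refine ⟨inferInstance, inferInstance, inferInstance, fun p => ?_⟩
  rw [Module.rankAtStalk_baseChange, h4]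

theorem unramAt_of_isQuadEtale (hlam : ∀ r, lam (lam r) = r)
    (hfix : RInv.IsFixedRing S R lam.toRingEquiv) (h : RInv.IsQuadEtale S R)
    (q : Ideal S) [hq : q.IsPrime] : UnramAt S R lam q := by
  have h1 := isQuadEtale_baseChange S R (Localization.AtPrime q) h
  exact (Groth.Agent.Lib.RInv6.isQuadEtale_atPrime_iff (lam := lam.toRingEquiv)
    (fun r => hlam r) hfix ⟨q, hq⟩).mp h1

end Unram

/-- `M_1(A) ≃ A` -/
def matOneEquiv (R : Type*) (A : Type*) [CommRing R] [Ring A] [Algebra R A] :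
    Matrix (Fin 1) (Fin 1) A ≃ₐ[R] A where
  toFun M := M 0 0
  invFun a := Matrix.of fun _ _ => a
  left_inv M := by
    ext i j
    have hi : i = 0 := Subsingleton.elim _ _
    have hj : j = 0 := Subsingleton.elim _ _
    subst hi; subst hj; rfl
  right_inv a := rfl
  map_mul' M N := by simp [Matrix.mul_apply]
  map_add' M N := rfl
  commutes' r := by simp [Matrix.algebraMap_matrix_apply]

section Top

variable (S : Type u) (R : Type v) [CommRing S] [CommRing R] [Algebra S R]
  (lam : R ≃ₐ[S] R) (hlam : ∀ r, lam (lam r) = r) (hfix : RInv.IsFixedRing S R lam.toRingEquiv)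
include hfix

/-- core, in the universe of `R` -/
theorem locIsoEt_self_matrix_aux (hsq : HasSqrt S)
    (A : Type v) [Ring A] [Algebra S A] [Algebra R A] [IsScalarTower S R A] [IsAzumaya R A]
    (n : ℕ) (hn : 0 < n) (hrk : ∀ p : PrimeSpectrum R, Module.rankAtStalk (R := R) A p = n ^ 2)
    (t : AzInv.LamInv R A lam)
    (hcases : (∀ (q : Ideal S) [q.IsPrime], UnramAt S R lam q) ∨ Odd n) :
    AzInv.LocIsoEt S lam t ((AzInv.LamInv.self lam hlam).matrix (Fin n)) := by
  haveI : Module.Finite R A := IsAzumaya.toFinite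
  haveI : Module.Projective R A := IsAzumaya.toProjective
  let PP : DescProp S :=
    { P := fun T _ _ => MatInvHom R lam A t n 1 1 T
      map := fun g h => h.map g
      descend := fun D h => h.descend D }
  have hloc : ∀ (q : Ideal S) [q.IsPrime], PP.P (ShQ S q) := by
    intro q _
    refine matInvHom_one_of_local S R lam hlam hfix (ShQ S q) A n hn hrk t
      (exists_sqrt_shq hsq q) (matHom_sh S R lam hlam hfix A n hn hrk q) ?_
    rcases hcases with h | h
    · exact Or.inl (exists_isUnit_sub_lamT S R lam q (ShQ S q) (comap_maximalIdeal_shq S q) (h q))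
    · exact Or.inr h
  obtain ⟨S', i1, i2, i3, i4, hS'⟩ := PP.exists_cover_of_shq hloc
    (fun ι _ _ T _ _ _ hT => MatInvHom.pi T hT)
  haveI : Nonempty (Fin n) := Fin.pos_iff_nonempty.mp hn
  haveI : IsAzumaya R (Matrix (Fin n) (Fin n) R) := IsAzumaya.matrix R (Fin n)
  have hrk' : ∀ p : PrimeSpectrum R,
      Module.rankAtStalk (R := R) (Matrix (Fin n) (Fin n) R) p = n ^ 2 := by
    intro p
    haveI : Nontrivial R := PrimeSpectrum.nonempty_iff_nontrivial.mp ⟨p⟩
    rw [Module.rankAtStalk_eq_finrank_of_free, Module.finrank_matrix]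
    simp [pow_two]
  obtain ⟨f, hf1, hf2⟩ := isoAt_of_matInvHom S R lam S' A (Matrix (Fin n) (Fin n) R) n hrk hrk' t
    ((AzInv.LamInv.self lam hlam).matrix (Fin n)) 1 1 hS' (matInvHom_self R lam hlam n S')
  exact ⟨S', i1, i2, i3, i4, f, hf1, hf2⟩

/-- arbitrary universe -/
theorem locIsoEt_self_matrix (hsq : HasSqrt S)
    (A : Type w) [Ring A] [Algebra S A] [Algebra R A] [IsScalarTower S R A]
    (n : ℕ) (hn : 0 < n) (hA : AzInv.IsAzumayaDeg R A n)
    (t : AzInv.LamInv R A lam)
    (hcases : (∀ (q : Ideal S) [q.IsPrime], UnramAt S R lam q) ∨ Odd n) :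
    AzInv.LocIsoEt S lam t ((AzInv.LamInv.self lam hlam).matrix (Fin n)) := by
  haveI : IsAzumaya R A := hA.1
  haveI : Module.Finite R A := IsAzumaya.toFinite
  haveI : Small.{v} A := Module.Finite.small R A
  let e : Shrink.{v} A ≃ₐ[R] A := Shrink.algEquiv R A
  let eS : Shrink.{v} A ≃ₐ[S] A := Shrink.algEquiv S A
  have heS : ∀ x, eS x = e x := fun x => rfl
  haveI : IsScalarTower S R (Shrink.{v} A) := IsScalarTower.of_algebraMap_eq (fun s => by
    apply e.injective
    rw [AlgEquiv.commutes, ← heS, AlgEquiv.commutes, IsScalarTower.algebraMap_apply S R A])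
  haveI : IsAzumaya R (Shrink.{v} A) := IsAzumaya.of_AlgEquiv (e := e.symm)
  have hrk : ∀ p : PrimeSpectrum R, Module.rankAtStalk (R := R) (Shrink.{v} A) p = n ^ 2 := by
    intro p
    rw [Module.rankAtStalk_eq_of_equiv e.toLinearEquiv]
    exact hA.2 p
  have h0 := locIsoEt_self_matrix_aux S R lam hlam hfix hsq (Shrink.{v} A) n hn hrk
    (LamInv.transport t e.symm) hcases
  refine locIsoEt_congr_left S lam e.symm t (LamInv.transport t e.symm) (fun a => ?_) _ h0
  rw [LamInv.transport_apply, AlgEquiv.symm_symm, AlgEquiv.apply_symm_apply]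

theorem sameType_self (hsq : HasSqrt S)
    (A : Type w) [Ring A] [Algebra S A] [Algebra R A] [IsScalarTower S R A]
    (n : ℕ) (hn : 0 < n) (hA : AzInv.IsAzumayaDeg R A n)
    (t : AzInv.LamInv R A lam)
    (hcases : (∀ (q : Ideal S) [q.IsPrime], UnramAt S R lam q) ∨ Odd n) :
    AzInv.SameType S lam t (AzInv.LamInv.self lam hlam) := by
  refine ⟨1, n, one_pos, hn, ?_⟩
  have h0 := locIsoEt_self_matrix S R lam hlam hfix hsq A n hn hA t hcases
  refine locIsoEt_congr_left S lam (matOneEquiv R A)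
    (t.matrix (Fin 1)) t (fun M => ?_) _ h0
  rfl

end Top

end Groth.Agent.Lib.AzInvH6
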