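import Mathlib
import Groth.Agent.Lib.HermDiag_helper3

/-!
# AzInv29 (helper6): a skew-hermitian 2×2 form close to the standard alternating form is
isometric to it (after extracting one square root).
-/

set_option autoImplicit false
universe v

namespace Groth.Agent.Lib.AzInvH6

open Groth.Agent.Lib.HermDiagH3

section TwoByTwo

variable {A : Type v} [CommRing A] (lam : A ≃+* A) (hlam : Function.Involutive lam)
include hlam

theorem ip_single_single {n : ℕ} (h : Matrix (Fin n) (Fin n) A) (i j : Fin n) :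
    ip lam h (Pi.single i 1) (Pi.single j 1) = h i j := by
  classical
  unfold ip
  have : (fun k => lam ((Pi.single i (1 : A) : Fin n → A) k)) = Pi.single i 1 := by
    funext k
    by_cases hk : k = i
    · subst hk; simp
    · simp [hk]
  rw [this, single_dotProduct, one_mul, Matrix.mulVec_single_one]
  rfl

theorem lam_inv_of_fixed {u s : A} (hu : lam u = u) (hs : s * u = 1) : lam s = s := by
  have h1 : lam s * u = 1 := by rw [← hu, ← map_mul, hs, map_one]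
  calc lam s = lam s * (s * u) := by rw [hs, mul_one]
    _ = (lam s * u) * s := by ring
    _ = s := by rw [h1, one_mul]

/-- a hyperbolic pair for a skew-hermitian 2×2 form congruent to the standard one -/
theorem exists_hyperbolic_pair (h2 : IsUnit (2 : A))
    (h : Matrix (Fin 2) (Fin 2) A) (herm : (-1 : A) • (h.map lam).transpose = h)
    (ha : h 0 0 ∈ Ring.jacobson A) (hd : h 1 1 ∈ Ring.jacobson A)
    (hb : h 0 1 - 1 ∈ Ring.jacobson A)
    (hsq : ∀ x : A, lam x = x → x - 1 ∈ Ring.jacobson A →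
      ∃ y, lam y = y ∧ y * y = x ∧ y - 1 ∈ Ring.jacobson A) :
    ∃ x y : Fin 2 → A, ip lam h x x = 0 ∧ ip lam h x y = 1 ∧ ip lam h y y = 0 := by
  classical
  have hsymm := ip_symm lam h hlam (-1) herm
  have hqfix := q_fix lam h hlam (-1) (Or.inr rfl) herm
  obtain ⟨e₁, he₁⟩ : ∃ e₁ : Fin 2 → A, e₁ = Pi.single 0 1 := ⟨_, rfl⟩
  obtain ⟨e₂, he₂⟩ : ∃ e₂ : Fin 2 → A, e₂ = Pi.single 1 1 := ⟨_, rfl⟩
  have h11 : ip lam h e₁ e₁ = h 0 0 := by rw [he₁]; exact ip_single_single lam hlam h 0 0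
  have h12 : ip lam h e₁ e₂ = h 0 1 := by rw [he₁, he₂]; exact ip_single_single lam hlam h 0 1
  have h22 : ip lam h e₂ e₂ = h 1 1 := by rw [he₂]; exact ip_single_single lam hlam h 1 1
  -- b is a unit
  have hbu : IsUnit (h 0 1) := by
    have := isUnit_add_jac (isUnit_one (M := A)) hb
    rwa [add_sub_cancel] at this
  obtain ⟨bu, hbu'⟩ := hbu
  obtain ⟨bi, hbi⟩ : ∃ bi : A, bi = ((bu⁻¹ : Aˣ) : A) := ⟨_, rfl⟩
  have hbib : bi * h 0 1 = 1 := by rw [← hbu', hbi, Units.inv_mul]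
  obtain ⟨f₁, hf₁⟩ : ∃ f₁ : Fin 2 → A, f₁ = bi • e₂ := ⟨_, rfl⟩
  have hB1 : ip lam h e₁ f₁ = 1 := by rw [hf₁, ip_smul_right, h12, hbib]
  obtain ⟨d₁, hd₁⟩ : ∃ d₁ : A, d₁ = ip lam h f₁ f₁ := ⟨_, rfl⟩
  have hd₁J : d₁ ∈ Ring.jacobson A := by
    rw [hd₁, hf₁, ip_smul_left, ip_smul_right, h22]
    exact Ideal.mul_mem_left _ _ (Ideal.mul_mem_left _ _ hd)
  have hd₁lam : lam d₁ = -d₁ := by rw [hd₁, hqfix]; ring
  obtain ⟨a, ha'⟩ : ∃ a : A, a = h 0 0 := ⟨_, rfl⟩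
  have h11' : ip lam h e₁ e₁ = a := by rw [ha']; exact h11
  have halam : lam a = -a := by rw [← h11', hqfix]; ring
  have hB1' : ip lam h f₁ e₁ = -1 := by rw [hsymm e₁ f₁, hB1, map_one]; ring
  -- the square root
  obtain ⟨y₀, hy₀lam, hy₀, hy₀J⟩ := hsq (1 + a * d₁)
    (by rw [map_add, map_one, map_mul, halam, hd₁lam]; ring)
    (by rw [add_sub_cancel_left]; exact Ideal.mul_mem_left _ _ hd₁J)
  have hu : IsUnit (1 + y₀) := by
    have := isUnit_add_jac h2 hy₀J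
    have e : (2 : A) + (y₀ - 1) = 1 + y₀ := by ring
    rwa [e] at this
  obtain ⟨uu, huu⟩ := hu
  obtain ⟨s, hs⟩ : ∃ s : A, s = ((uu⁻¹ : Aˣ) : A) := ⟨_, rfl⟩
  have hsu : s * (1 + y₀) = 1 := by rw [← huu, hs, Units.inv_mul]
  have hslam : lam s = s :=
    lam_inv_of_fixed lam hlam (by rw [map_add, map_one, hy₀lam]) hsu
  obtain ⟨z, hz⟩ : ∃ z : A, z = -a * s := ⟨_, rfl⟩
  have hzlam : lam z = -z := by rw [hz, map_mul, map_neg, halam, hslam]; ring
  obtain ⟨x, hx⟩ : ∃ x : Fin 2 → A, x = e₁ + z • f₁ := ⟨_, rfl⟩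
  have hxx : ip lam h x x = 0 := by
    rw [hx, ip_add_left, ip_add_right, ip_add_right, ip_smul_left, ip_smul_left, ip_smul_right,
      ip_smul_right, h11', hB1, hB1', ← hd₁, hzlam, hz]
    linear_combination (a * s ^ 2) * hy₀ - a * (1 - s + s * y₀) * hsu
  -- p
  have hxf₁ : ip lam h x f₁ = 1 - z * d₁ := by
    rw [hx, ip_add_left, ip_smul_left, hB1, ← hd₁, hzlam]; ring
  have hpu : IsUnit (1 - z * d₁) := by
    have := isUnit_add_jac (isUnit_one (M := A))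
      (Ideal.neg_mem_iff _ |>.mpr (Ideal.mul_mem_left _ z hd₁J))
    rwa [← sub_eq_add_neg] at this
  obtain ⟨pu, hpu'⟩ := hpu
  obtain ⟨pi, hpi⟩ : ∃ pi : A, pi = ((pu⁻¹ : Aˣ) : A) := ⟨_, rfl⟩
  have hpip : pi * (1 - z * d₁) = 1 := by rw [← hpu', hpi, Units.inv_mul]
  obtain ⟨f₂, hf₂⟩ : ∃ f₂ : Fin 2 → A, f₂ = pi • f₁ := ⟨_, rfl⟩
  have hxf₂ : ip lam h x f₂ = 1 := by rw [hf₂, ip_smul_right, hxf₁, hpip]
  have hf₂x : ip lam h f₂ x = -1 := by rw [hsymm x f₂, hxf₂, map_one]; ring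
  obtain ⟨d₃, hd₃⟩ : ∃ d₃ : A, d₃ = ip lam h f₂ f₂ := ⟨_, rfl⟩
  have hd₃lam : lam d₃ = -d₃ := by rw [hd₃, hqfix]; ring
  obtain ⟨t2, ht2⟩ := h2.exists_right_inv
  have ht2lam : lam t2 = t2 := by
    refine lam_inv_of_fixed lam hlam (u := 2) ?_ (by rw [mul_comm]; exact ht2)
    rw [map_ofNat]
  obtain ⟨γ, hγ⟩ : ∃ γ : A, γ = d₃ * t2 := ⟨_, rfl⟩
  have hγlam : lam γ = -γ := by rw [hγ, map_mul, hd₃lam, ht2lam]; ring
  refine ⟨x, f₂ + γ • x, hxx, ?_, ?_⟩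
  · rw [ip_add_right, ip_smul_right, hxx, hxf₂]; ring
  · rw [ip_add_left, ip_add_right, ip_add_right, ip_smul_left, ip_smul_left, ip_smul_right,
      ip_smul_right, hxx, hxf₂, hf₂x, ← hd₃, hγlam, hγ]
    linear_combination (-d₃) * ht2

end TwoByTwo

end Groth.Agent.Lib.AzInvH6
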