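import Mathlib
import Groth.Agent.Lib.HermDiag_helper3

/-!
# Skew-hermitian forms which are alternating modulo the Jacobson radical: symplectic bases (helper3)
-/

set_option autoImplicit false

namespace Groth.Agent.Lib.HermDiag2H3

open Matrix Groth.Agent.Lib.RInv_helper6 Groth.Agent.Lib.HermDiagH3

universe u v

section cond

variable {A : Type v} [CommRing A]

/-- the block conditions on the entry `g` at position `(i, j)` -/
def Cond (i j : ℕ) (g : A) : Prop :=
  (i / 2 ≠ j / 2 → g = 0) ∧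
  (i / 2 = j / 2 → (Even i ↔ Even j) → g ∈ Ring.jacobson A) ∧
  (i / 2 = j / 2 → Even i → ¬ Even j → g - 1 ∈ Ring.jacobson A) ∧
  (i / 2 = j / 2 → ¬ Even i → Even j → g + 1 ∈ Ring.jacobson A)

theorem cond_shift {i j : ℕ} {g : A} (hc : Cond i j g) : Cond (i + 1 + 1) (j + 1 + 1) g := by
  have e1 : (i + 1 + 1) / 2 = i / 2 + 1 := by omega
  have e2 : (j + 1 + 1) / 2 = j / 2 + 1 := by omega
  have e3 : Even (i + 1 + 1) ↔ Even i := by
    rw [Nat.even_iff, Nat.even_iff]; omega
  have e4 : Even (j + 1 + 1) ↔ Even j := by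
    rw [Nat.even_iff, Nat.even_iff]; omega
  unfold Cond
  rw [e1, e2, e3, e4]
  obtain ⟨h1, h2, h3, h4⟩ := hc
  refine ⟨fun hne => h1 (fun h => hne (by rw [h])), fun he => h2 (by omega),
    fun he => h3 (by omega), fun he => h4 (by omega)⟩

theorem cond_zero_of_ne {i j : ℕ} (hne : i / 2 ≠ j / 2) : Cond i j (0 : A) :=
  ⟨fun _ => rfl, fun he => absurd he hne, fun he => absurd he hne, fun he => absurd he hne⟩

theorem cond_00 {g : A} (hg : g ∈ Ring.jacobson A) : Cond 0 0 g :=
  ⟨fun hne => absurd rfl hne, fun _ _ => hg, fun _ h0 h1 => absurd h0 h1,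
    fun _ h0 h1 => absurd h1 h0⟩

theorem cond_11 {g : A} (hg : g ∈ Ring.jacobson A) : Cond 1 1 g :=
  ⟨fun hne => absurd rfl hne, fun _ _ => hg, fun _ h0 h1 => absurd h0 h1,
    fun _ h0 h1 => absurd h1 h0⟩

theorem cond_01 : Cond 0 1 (1 : A) :=
  ⟨fun hne => absurd (by norm_num) hne, fun _ h => absurd (h.mp (by decide)) (by decide),
    fun _ _ _ => by rw [sub_self]; exact Ideal.zero_mem _,
    fun _ h0 _ => absurd (by decide) h0⟩

theorem cond_10 : Cond 1 0 (-1 : A) :=
  ⟨fun hne => absurd (by norm_num) hne, fun _ h => absurd (h.mpr (by decide)) (by decide),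
    fun _ h0 _ => absurd h0 (by decide),
    fun _ _ _ => by rw [neg_add_cancel]; exact Ideal.zero_mem _⟩

end cond

section main

variable {B : Type u} {A : Type v} [CommRing B] [CommRing A] [Algebra B A] [IsLocalRing B]
  (lam : A ≃+* A) (hlam : Function.Involutive lam) (hB : RInv.IsFixedRing B A lam)
  {n : ℕ} (h : Matrix (Fin n) (Fin n) A)
  (herm : (-1 : A) • (h.map lam).transpose = h)
  (hid : ∀ a : A, lam a - a ∈ Ring.jacobson A) (h2 : IsUnit (2 : A))

include hlam hB hid in
theorem unit_or_jac_all (x : A) : IsUnit x ∨ x ∈ Ring.jacobson A := by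
  rcases isUnit_or_norm_mem hlam hB x with hx | hx
  · exact Or.inl hx
  · right
    apply mem_jacobson_of_sq_mem
    have : x * x = x * lam x - x * (lam x - x) := by ring
    rw [this]
    exact Ideal.sub_mem _ hx (Ideal.mul_mem_left _ _ (hid x))

include hlam herm hid h2 in
theorem norm_mem_jac (x : Fin n → A) : ip lam h x x ∈ Ring.jacobson A := by
  have h1 := q_fix lam h hlam (-1) (Or.inr rfl) herm x
  have h3 := hid (ip lam h x x)
  rw [h1] at h3
  obtain ⟨w2, hw2⟩ := h2
  have h4 : ip lam h x x = (-(↑w2⁻¹ : A)) * (-1 * ip lam h x x - ip lam h x x) := by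
    have h5 : (w2 : A) * ↑w2⁻¹ = 1 := Units.mul_inv w2
    rw [hw2] at h5
    linear_combination (-(ip lam h x x)) * h5
  rw [h4]
  exact Ideal.mul_mem_left _ _ h3

include hlam herm in
theorem ip_symm' (x y : Fin n → A) : ip lam h y x = -lam (ip lam h x y) := by
  rw [ip_symm lam h hlam (-1) herm x y, neg_one_mul]

include hlam hB herm hid h2

/-- The main induction for symplectic bases. -/
theorem main2 : ∀ (m : ℕ), Even m → ∀ (b z : Fin m → (Fin n → A)), IsDual lam h b z →
    ∃ x y : Fin m → (Fin n → A), (∀ i, x i ∈ Sp b z) ∧ (∀ i, y i ∈ Sp b z) ∧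
      (∀ i j, ip lam h (x i) (y j) = if i = j then 1 else 0) ∧
      ∀ i j : Fin m, Cond i.val j.val (ip lam h (x i) (x j)) := by
  haveI : Nontrivial A := hB.1.nontrivial
  intro m
  induction m using Nat.strong_induction_on with
  | _ m ih =>
  intro hm b z hbz
  rcases Nat.eq_zero_or_pos m with hm0 | hmpos
  · subst hm0
    exact ⟨fun i => i.elim0, fun i => i.elim0, fun i => i.elim0, fun i => i.elim0,
      fun i => i.elim0, fun i => i.elim0⟩
  obtain ⟨m, rfl⟩ : ∃ m', m = m' + 1 + 1 := by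
    rcases hm with ⟨r, hr⟩
    exact ⟨m - 2, by omega⟩
  have hm' : Even m := by
    rw [Nat.even_iff] at hm ⊢
    omega
  -- notation
  set u := b 0 with hu
  set α := ip lam h (z 0) (z 1) with hα
  set β := ip lam h (b 0) (b 1) with hβ
  have two_unit : IsUnit (2 : A) := h2
  -- choice of `a`
  obtain ⟨a, hafix, ha1, ha2⟩ : ∃ a : A, lam a = a ∧ IsUnit (1 + a * β) ∧ IsUnit (α + a) := by
    rcases unit_or_jac_all lam hlam hB hid α with hαu | hαJ
    · exact ⟨0, map_zero lam, by rw [zero_mul, add_zero]; exact isUnit_one,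
        by rw [add_zero]; exact hαu⟩
    · rcases unit_or_jac_all lam hlam hB hid (1 + β) with h1 | h1
      · refine ⟨1, map_one lam, by rw [one_mul]; exact h1, ?_⟩
        rw [add_comm]
        exact isUnit_add_jac isUnit_one hαJ
      · refine ⟨-1, by rw [map_neg, map_one], ?_, ?_⟩
        · have : 1 + -1 * β = 2 + -(1 + β) := by ring
          rw [this]
          exact isUnit_add_jac two_unit (Ideal.neg_mem_iff _ |>.mpr h1)
        · rw [add_comm]
          exact isUnit_add_jac isUnit_one.neg hαJ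
  have hb00 : ip lam h (b 0) (z 0) = 1 := by rw [hbz 0 0, if_pos rfl]
  have hb01 : ip lam h (b 0) (z 1) = 0 := by
    rw [hbz 0 1, if_neg (by exact Fin.zero_ne_one)]
  have hb11 : ip lam h (b 1) (z 1) = 1 := by rw [hbz 1 1, if_pos rfl]
  set w₀ := z 0 + a • b 1 with hw₀
  have hτ : ip lam h u w₀ = 1 + a * β := by
    rw [hw₀, hu, ip_add_right, ip_smul_right, hb00]
  obtain ⟨τ, hτu⟩ := ha1
  have hτ' : (1 + a * β) * (↑τ⁻¹ : A) = 1 := by rw [← hτu]; exact Units.mul_inv τ
  set w := (↑τ⁻¹ : A) • w₀ with hw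
  have huw : ip lam h u w = 1 := by
    rw [hw, ip_smul_right, hτ]
    linear_combination hτ'
  have hwu : ip lam h w u = -1 := by
    rw [ip_symm' lam hlam h herm u w, huw, map_one]
  have hκ : ip lam h w (z 1) = lam (↑τ⁻¹ : A) * (α + a) := by
    rw [hw, hw₀, ip_smul_left, ip_add_left, ip_smul_left, hb11, hafix]
    ring
  have hκu : IsUnit (ip lam h w (z 1)) := by
    rw [hκ]
    exact ((τ⁻¹).isUnit.map lam).mul ha2
  obtain ⟨κ, hκκ⟩ := hκu
  have hκ' : ip lam h w (z 1) * (↑κ⁻¹ : A) = 1 := by rw [← hκκ]; exact Units.mul_inv κ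
  have hwS : w ∈ Sp b z :=
    Submodule.smul_mem _ _ (Submodule.add_mem _ (mem_Sp_z b z 0)
      (Submodule.smul_mem _ _ (mem_Sp_b b z 1)))
  clear_value w
  set qu := ip lam h u u with hqu
  set qw := ip lam h w w with hqw
  have hquJ : qu ∈ Ring.jacobson A := norm_mem_jac lam hlam h herm hid h2 u
  have hqwJ : qw ∈ Ring.jacobson A := norm_mem_jac lam hlam h herm hid h2 w
  have hDu : IsUnit (qu * qw + 1) := by
    rw [add_comm]
    exact isUnit_add_jac isUnit_one (Ideal.mul_mem_right _ _ hquJ)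
  obtain ⟨D, hD⟩ := hDu
  have hD' : (qu * qw + 1) * (↑D⁻¹ : A) = 1 := by rw [← hD]; exact Units.mul_inv D
  set D' : A := (↑D⁻¹ : A) with hD'def
  have huS : u ∈ Sp b z := mem_Sp_b b z 0
  -- projection onto the plane
  let P : (Fin n → A) → (Fin n → A) := fun t =>
    (D' * (ip lam h u t * qw - ip lam h w t)) • u + (D' * (ip lam h u t + qu * ip lam h w t)) • w
  have hPu : ∀ t, ip lam h u (P t) = ip lam h u t := by
    intro t
    show ip lam h u ((D' * (ip lam h u t * qw - ip lam h w t)) • u +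
      (D' * (ip lam h u t + qu * ip lam h w t)) • w) = _
    rw [ip_add_right, ip_smul_right, ip_smul_right, huw]
    linear_combination (ip lam h u t) * hD'
  have hPw : ∀ t, ip lam h w (P t) = ip lam h w t := by
    intro t
    show ip lam h w ((D' * (ip lam h u t * qw - ip lam h w t)) • u +
      (D' * (ip lam h u t + qu * ip lam h w t)) • w) = _
    rw [ip_add_right, ip_smul_right, ip_smul_right, hwu]
    linear_combination (ip lam h w t) * hD'
  have hPS : ∀ t, P t ∈ Sp b z := fun t =>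
    Submodule.add_mem _ (Submodule.smul_mem _ _ huS) (Submodule.smul_mem _ _ hwS)
  -- the new dual pair
  let b' : Fin m → (Fin n → A) := fun l => b l.succ.succ - P (b l.succ.succ)
  let z' : Fin m → (Fin n → A) := fun l =>
    z l.succ.succ - ((↑κ⁻¹ : A) * ip lam h w (z l.succ.succ)) • z 1
  have hne0 : ∀ l : Fin m, l.succ.succ ≠ (0 : Fin (m + 1 + 1)) := fun l => Fin.succ_ne_zero _
  have hne1 : ∀ l : Fin m, l.succ.succ ≠ (1 : Fin (m + 1 + 1)) := by
    intro l hl
    have := congrArg Fin.val hl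
    simp at this
  have huz' : ∀ l, ip lam h u (z' l) = 0 := by
    intro l
    show ip lam h (b 0) (z l.succ.succ - ((↑κ⁻¹ : A) * ip lam h w (z l.succ.succ)) • z 1) = 0
    rw [ip_sub_right, ip_smul_right, hb01, mul_zero, sub_zero, hbz 0 l.succ.succ,
      if_neg (hne0 l).symm]
  have hwz' : ∀ l, ip lam h w (z' l) = 0 := by
    intro l
    show ip lam h w (z l.succ.succ - ((↑κ⁻¹ : A) * ip lam h w (z l.succ.succ)) • z 1) = 0
    rw [ip_sub_right, ip_smul_right]
    linear_combination (-(ip lam h w (z l.succ.succ))) * hκ'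
  have hub' : ∀ l, ip lam h u (b' l) = 0 := by
    intro l
    show ip lam h u (b l.succ.succ - P (b l.succ.succ)) = 0
    rw [ip_sub_right, hPu, sub_self]
  have hwb' : ∀ l, ip lam h w (b' l) = 0 := by
    intro l
    show ip lam h w (b l.succ.succ - P (b l.succ.succ)) = 0
    rw [ip_sub_right, hPw, sub_self]
  have hdual' : IsDual lam h b' z' := by
    intro l k
    have h1 : ip lam h (b l.succ.succ) (z' k) = if l = k then 1 else 0 := by
      show ip lam h (b l.succ.succ)
        (z k.succ.succ - ((↑κ⁻¹ : A) * ip lam h w (z k.succ.succ)) • z 1) = _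
      rw [ip_sub_right, ip_smul_right, hbz, hbz, if_neg (hne1 l), mul_zero, sub_zero]
      by_cases hlk : l = k
      · rw [if_pos hlk, if_pos (by rw [hlk])]
      · rw [if_neg hlk, if_neg (fun hh => hlk (Fin.succ_injective _ (Fin.succ_injective _ hh)))]
    show ip lam h (b l.succ.succ - P (b l.succ.succ)) (z' k) = _
    rw [ip_sub_left, h1]
    show _ - ip lam h ((D' * (ip lam h u (b l.succ.succ) * qw - ip lam h w (b l.succ.succ))) • u +
      (D' * (ip lam h u (b l.succ.succ) + qu * ip lam h w (b l.succ.succ))) • w) (z' k) = _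
    rw [ip_add_left, ip_smul_left, ip_smul_left, huz' k, hwz' k, mul_zero, mul_zero, add_zero,
      sub_zero]
  have hb'S : ∀ l, b' l ∈ Sp b z := fun l => Submodule.sub_mem _ (mem_Sp_b b z _) (hPS _)
  have hz'S : ∀ l, z' l ∈ Sp b z := fun l =>
    Submodule.sub_mem _ (mem_Sp_z b z _) (Submodule.smul_mem _ _ (mem_Sp_z b z 1))
  obtain ⟨x', y', hx'S, hy'S, hx'y', hx'c⟩ := ih m (by omega) hm' b' z' hdual'
  have hx'S' : ∀ l, x' l ∈ Sp b z := fun l => Sp_le b' z' _ hb'S hz'S (hx'S l)
  have hy'S' : ∀ l, y' l ∈ Sp b z := fun l => Sp_le b' z' _ hb'S hz'S (hy'S l)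
  have hux' : ∀ l, ip lam h u (x' l) = 0 := fun l => orth_Sp lam h b' z' u hub' huz' _ (hx'S l)
  have hwx' : ∀ l, ip lam h w (x' l) = 0 := fun l => orth_Sp lam h b' z' w hwb' hwz' _ (hx'S l)
  have huy' : ∀ l, ip lam h u (y' l) = 0 := fun l => orth_Sp lam h b' z' u hub' huz' _ (hy'S l)
  have hwy' : ∀ l, ip lam h w (y' l) = 0 := fun l => orth_Sp lam h b' z' w hwb' hwz' _ (hy'S l)
  have hx'u : ∀ l, ip lam h (x' l) u = 0 := fun l => by
    rw [ip_symm' lam hlam h herm u (x' l), hux' l, map_zero, neg_zero]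
  have hx'w : ∀ l, ip lam h (x' l) w = 0 := fun l => by
    rw [ip_symm' lam hlam h herm w (x' l), hwx' l, map_zero, neg_zero]
  -- the dual vectors in the plane
  set yu : Fin n → A := (D' * qw) • u + D' • w with hyu
  set yw : Fin n → A := (-D') • u + (D' * qu) • w with hyw
  have huyu : ip lam h u yu = 1 := by
    rw [hyu, ip_add_right, ip_smul_right, ip_smul_right, huw]
    linear_combination hD'
  have hwyu : ip lam h w yu = 0 := by
    rw [hyu, ip_add_right, ip_smul_right, ip_smul_right, hwu]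
    ring
  have huyw : ip lam h u yw = 0 := by
    rw [hyw, ip_add_right, ip_smul_right, ip_smul_right, huw]
    ring
  have hwyw : ip lam h w yw = 1 := by
    rw [hyw, ip_add_right, ip_smul_right, ip_smul_right, hwu]
    linear_combination hD'
  have hx'yu : ∀ l, ip lam h (x' l) yu = 0 := fun l => by
    rw [hyu, ip_add_right, ip_smul_right, ip_smul_right, hx'u l, hx'w l, mul_zero, mul_zero,
      add_zero]
  have hx'yw : ∀ l, ip lam h (x' l) yw = 0 := fun l => by
    rw [hyw, ip_add_right, ip_smul_right, ip_smul_right, hx'u l, hx'w l, mul_zero, mul_zero,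
      add_zero]
  have hyuS : yu ∈ Sp b z :=
    Submodule.add_mem _ (Submodule.smul_mem _ _ huS) (Submodule.smul_mem _ _ hwS)
  have hywS : yw ∈ Sp b z :=
    Submodule.add_mem _ (Submodule.smul_mem _ _ huS) (Submodule.smul_mem _ _ hwS)
  refine ⟨Fin.cons u (Fin.cons w x'), Fin.cons yu (Fin.cons yw y'), ?_, ?_, ?_, ?_⟩
  · intro i
    refine Fin.cases ?_ (fun i' => Fin.cases ?_ (fun l => ?_) i') i
    · rw [Fin.cons_zero]; exact huS
    · rw [Fin.cons_succ, Fin.cons_zero]; exact hwS
    · rw [Fin.cons_succ, Fin.cons_succ]; exact hx'S' l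
  · intro i
    refine Fin.cases ?_ (fun i' => Fin.cases ?_ (fun l => ?_) i') i
    · rw [Fin.cons_zero]; exact hyuS
    · rw [Fin.cons_succ, Fin.cons_zero]; exact hywS
    · rw [Fin.cons_succ, Fin.cons_succ]; exact hy'S' l
  · intro i j
    refine Fin.cases ?_ (fun i' => Fin.cases ?_ (fun l => ?_) i') i <;>
      refine Fin.cases ?_ (fun j' => Fin.cases ?_ (fun k => ?_) j') j
    · rw [Fin.cons_zero, Fin.cons_zero, if_pos rfl]; exact huyu
    · rw [Fin.cons_zero, Fin.cons_succ, Fin.cons_zero, if_neg (Fin.succ_ne_zero _).symm]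
      exact huyw
    · rw [Fin.cons_zero, Fin.cons_succ, Fin.cons_succ, if_neg (Fin.succ_ne_zero _).symm]
      exact huy' k
    · rw [Fin.cons_succ, Fin.cons_zero, Fin.cons_zero, if_neg (Fin.succ_ne_zero _)]
      exact hwyu
    · rw [Fin.cons_succ, Fin.cons_zero, Fin.cons_succ, Fin.cons_zero, if_pos rfl]
      exact hwyw
    · rw [Fin.cons_succ, Fin.cons_zero, Fin.cons_succ, Fin.cons_succ,
        if_neg (fun hh => (Fin.succ_ne_zero k).symm (Fin.succ_injective _ hh))]
      exact hwy' k
    · rw [Fin.cons_succ, Fin.cons_succ, Fin.cons_zero, if_neg (Fin.succ_ne_zero _)]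
      exact hx'yu l
    · rw [Fin.cons_succ, Fin.cons_succ, Fin.cons_succ, Fin.cons_zero,
        if_neg (fun hh => (Fin.succ_ne_zero l) (Fin.succ_injective _ hh))]
      exact hx'yw l
    · rw [Fin.cons_succ, Fin.cons_succ, Fin.cons_succ, Fin.cons_succ, hx'y' l k]
      by_cases hlk : l = k
      · rw [if_pos hlk, if_pos (by rw [hlk])]
      · rw [if_neg hlk, if_neg (fun hh => hlk (Fin.succ_injective _ (Fin.succ_injective _ hh)))]
  · intro i j
    refine Fin.cases ?_ (fun i' => Fin.cases ?_ (fun l => ?_) i') i <;>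
      refine Fin.cases ?_ (fun j' => Fin.cases ?_ (fun k => ?_) j') j
    · rw [Fin.cons_zero]
      exact cond_00 hquJ
    · rw [Fin.cons_zero, Fin.cons_succ, Fin.cons_zero, huw]
      exact cond_01
    · rw [Fin.cons_zero, Fin.cons_succ, Fin.cons_succ, hux' k]
      refine cond_zero_of_ne ?_
      simp only [Fin.val_zero, Fin.val_succ]
      omega
    · rw [Fin.cons_succ, Fin.cons_zero, Fin.cons_zero, hwu]
      exact cond_10
    · rw [Fin.cons_succ, Fin.cons_zero]
      exact cond_11 hqwJ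
    · rw [Fin.cons_succ, Fin.cons_zero, Fin.cons_succ, Fin.cons_succ, hwx' k]
      refine cond_zero_of_ne ?_
      simp only [Fin.val_zero, Fin.val_succ]
      omega
    · rw [Fin.cons_succ, Fin.cons_succ, Fin.cons_zero, hx'u l]
      refine cond_zero_of_ne ?_
      simp only [Fin.val_zero, Fin.val_succ]
      omega
    · rw [Fin.cons_succ, Fin.cons_succ, Fin.cons_succ, Fin.cons_zero, hx'w l]
      refine cond_zero_of_ne ?_
      simp only [Fin.val_zero, Fin.val_succ]
      omega
    · rw [Fin.cons_succ, Fin.cons_succ, Fin.cons_succ, Fin.cons_succ]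
      simp only [Fin.val_succ]
      exact cond_shift (hx'c l k)

end main

end Groth.Agent.Lib.HermDiag2H3
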