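import Mathlib
import Groth.Agent.Lib.AzInv29_helper6
import Groth.Agent.Lib.AzInv23_helper6
import Groth.Agent.S15584

/-!
# AzInv30 (helper6): symplectic normal form `u * g * lamTr u = J_n` over a ramified local base.
-/

set_option autoImplicit false
universe u v

namespace Groth.Agent.Lib.AzInvH6

open AzInv Groth.Agent.Lib.HermDiagH3

section Jn

/-- the standard alternating 2×2 matrix -/
def J2 (R : Type*) [Ring R] : Matrix (Fin 2) (Fin 2) R := !![0, 1; -1, 0]

/-- the standard alternating matrix: diagonal blocks `J2` -/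
def Jn (R : Type*) [Ring R] (n : ℕ) : Matrix (Fin n) (Fin n) R :=
  Matrix.of fun i j => if i.val / 2 = j.val / 2 then
    J2 R ⟨i.val % 2, Nat.mod_lt _ two_pos⟩ ⟨j.val % 2, Nat.mod_lt _ two_pos⟩ else 0

/-- `Fin 2 × Fin m ≃ Fin (m + m)`, `(b, k) ↦ 2 k + b` -/
def blkEquiv (m : ℕ) : Fin 2 × Fin m ≃ Fin (m + m) where
  toFun p := ⟨2 * p.2.val + p.1.val, by have := p.1.isLt; have := p.2.isLt; omega⟩
  invFun i := (⟨i.val % 2, Nat.mod_lt _ two_pos⟩, ⟨i.val / 2, by have := i.isLt; omega⟩)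
  left_inv p := by
    have := p.1.isLt
    refine Prod.ext (Fin.ext ?_) (Fin.ext ?_)
    · show (2 * p.2.val + p.1.val) % 2 = p.1.val
      omega
    · show (2 * p.2.val + p.1.val) / 2 = p.2.val
      omega
  right_inv i := by
    refine Fin.ext ?_
    show 2 * (i.val / 2) + i.val % 2 = i.val
    omega

theorem blkEquiv_val (m : ℕ) (b : Fin 2) (k : Fin m) :
    (blkEquiv m (b, k)).val = 2 * k.val + b.val := rfl

theorem blkEquiv_symm_fst (m : ℕ) (i : Fin (m + m)) :
    ((blkEquiv m).symm i).1.val = i.val % 2 := rfl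

theorem blkEquiv_symm_snd (m : ℕ) (i : Fin (m + m)) :
    ((blkEquiv m).symm i).2.val = i.val / 2 := rfl

theorem Jn_eq_blockDiagonal (R : Type*) [Ring R] (m : ℕ) :
    Jn R (m + m) = (Matrix.blockDiagonal fun _ : Fin m => J2 R).submatrix
      (blkEquiv m).symm (blkEquiv m).symm := by
  ext i j
  rw [Matrix.submatrix_apply, Matrix.blockDiagonal_apply]
  simp only [Jn, Matrix.of_apply]
  have e : (((blkEquiv m).symm i).2 = ((blkEquiv m).symm j).2) ↔ i.val / 2 = j.val / 2 := by
    rw [Fin.ext_iff, blkEquiv_symm_snd, blkEquiv_symm_snd]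
  by_cases hij : i.val / 2 = j.val / 2
  · rw [if_pos hij, if_pos (e.mpr hij)]
    rfl
  · rw [if_neg hij, if_neg (fun h => hij (e.mp h))]

theorem J2_mul_neg (R : Type*) [Ring R] : J2 R * (-J2 R) = 1 := by
  ext i j
  fin_cases i <;> fin_cases j <;> simp [J2, Matrix.mul_apply, Fin.sum_univ_two]

theorem Jn_mul_neg (R : Type*) [Ring R] (m : ℕ) : Jn R (m + m) * (-Jn R (m + m)) = 1 := by
  rw [Jn_eq_blockDiagonal]
  have h1 : -((Matrix.blockDiagonal fun _ : Fin m => J2 R).submatrix
      (blkEquiv m).symm (blkEquiv m).symm) =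
      (Matrix.blockDiagonal fun _ : Fin m => -J2 R).submatrix
        (blkEquiv m).symm (blkEquiv m).symm := by
    ext i j
    simp only [Matrix.neg_apply, Matrix.submatrix_apply, Matrix.blockDiagonal_apply]
    split_ifs <;> simp
  rw [h1, Matrix.submatrix_mul_equiv, ← Matrix.blockDiagonal_mul]
  have : (fun k : Fin m => J2 R * (-J2 R)) = 1 := by
    funext k
    exact J2_mul_neg R
  rw [this, Matrix.blockDiagonal_one, Matrix.submatrix_one_equiv]

theorem lamTr_submatrix {A : Type*} (lam : A → A) {ι κ : Type*} (M : Matrix ι ι A) (e : κ → ι) :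
    lamTr lam (M.submatrix e e) = (lamTr lam M).submatrix e e := rfl

theorem blkEquiv_div (m : ℕ) (b : Fin 2) (k : Fin m) : (blkEquiv m (b, k)).val / 2 = k.val := by
  rw [blkEquiv_val]
  have := b.isLt
  omega

end Jn

section Symp

variable {B : Type u} {A : Type v} [CommRing B] [CommRing A] [Algebra B A] (lam : A ≃+* A)
  (hlam : Function.Involutive lam) (hB : RInv.IsFixedRing B A lam) [IsLocalRing B]
include hlam hB

theorem exists_unit_mul_lamTr_eq_Jn {n : ℕ} (hid : ∀ a : A, lam a - a ∈ Ring.jacobson A)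
    (h2 : IsUnit (2 : A))
    (hsq : ∀ x : A, lam x = x → x - 1 ∈ Ring.jacobson A →
      ∃ y, lam y = y ∧ y * y = x ∧ y - 1 ∈ Ring.jacobson A)
    (g : (Matrix (Fin n) (Fin n) A)ˣ)
    (hg : lamTr lam (g : Matrix (Fin n) (Fin n) A) = -(g : Matrix (Fin n) (Fin n) A)) :
    Even n ∧ ∃ u : (Matrix (Fin n) (Fin n) A)ˣ,
      (u : Matrix (Fin n) (Fin n) A) * (g : Matrix (Fin n) (Fin n) A) *
        lamTr lam (u : Matrix (Fin n) (Fin n) A) = Jn A n := by
  classical
  obtain ⟨hev, v, hv, hG⟩ := Groth.Agent.S15584.result B A lam hlam hB n hid h2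
    (g : Matrix (Fin n) (Fin n) A) g.isUnit (by
      show -(lamTr lam (g : Matrix (Fin n) (Fin n) A)) = _
      rw [hg, neg_neg])
  refine ⟨hev, ?_⟩
  obtain ⟨m, rfl⟩ := hev
  obtain ⟨G, hGdef⟩ : ∃ G : Matrix (Fin (m + m)) (Fin (m + m)) A,
      G = lamTr lam v * (g : Matrix (Fin (m + m)) (Fin (m + m)) A) * v := ⟨_, rfl⟩
  have hG' : ∀ i j : Fin (m + m),
        (i.val / 2 ≠ j.val / 2 → G i j = 0) ∧
        (i.val / 2 = j.val / 2 → (Even i.val ↔ Even j.val) → G i j ∈ Ring.jacobson A) ∧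
        (i.val / 2 = j.val / 2 → Even i.val → ¬ Even j.val → G i j - 1 ∈ Ring.jacobson A) := by
    intro i j
    rw [hGdef]
    exact ⟨(hG i j).1, (hG i j).2.1, (hG i j).2.2.1⟩
  have hGskew : lamTr lam G = -G := by
    rw [hGdef, lamTr_mul, lamTr_mul, lamTr_lamTr lam hlam, hg]
    simp only [Matrix.mul_neg, Matrix.neg_mul, mul_assoc]
  have hGskew' : ∀ i j, lam (G j i) = -G i j := fun i j => by
    have := congrFun (congrFun hGskew i) j
    simpa [lamTr_apply] using this
  let h : Fin m → Matrix (Fin 2) (Fin 2) A := fun k =>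
    Matrix.of fun b b' => G (blkEquiv m (b, k)) (blkEquiv m (b', k))
  have hGblock : G.submatrix (blkEquiv m) (blkEquiv m) = Matrix.blockDiagonal h := by
    ext ⟨b, k⟩ ⟨b', k'⟩
    rw [Matrix.submatrix_apply, Matrix.blockDiagonal_apply]
    by_cases hk : k = k'
    · subst hk
      rw [if_pos rfl]
      rfl
    · rw [if_neg hk]
      refine (hG' _ _).1 ?_
      rw [blkEquiv_div, blkEquiv_div]
      exact fun h => hk (Fin.ext h)
  have hherm : ∀ k, (-1 : A) • ((h k).map lam).transpose = h k := by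
    intro k
    ext b b'
    simp only [Matrix.smul_apply, Matrix.transpose_apply, Matrix.map_apply, smul_eq_mul, h,
      Matrix.of_apply]
    rw [hGskew']
    ring
  have hpair : ∀ k, ∃ x y : Fin 2 → A, ip lam (h k) x x = 0 ∧ ip lam (h k) x y = 1 ∧
      ip lam (h k) y y = 0 := by
    intro k
    have hev0 : Even (blkEquiv m ((0 : Fin 2), k)).val := by
      rw [blkEquiv_val]; exact ⟨k.val, by simp; ring⟩
    have hodd1 : ¬ Even (blkEquiv m ((1 : Fin 2), k)).val := by
      rw [blkEquiv_val, Nat.not_even_iff_odd]; exact ⟨k.val, by simp⟩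
    refine exists_hyperbolic_pair lam hlam h2 (h k) (hherm k) ?_ ?_ ?_ hsq
    · exact (hG' _ _).2.1 rfl Iff.rfl
    · exact (hG' _ _).2.1 rfl Iff.rfl
    · exact (hG' _ _).2.2 (by rw [blkEquiv_div, blkEquiv_div]) hev0 hodd1
  choose x y hxx hxy hyy using hpair
  let vk : Fin m → Matrix (Fin 2) (Fin 2) A := fun k => Matrix.of fun i j => ![x k, y k] j i
  have hentry : ∀ k i j, (lamTr lam (vk k) * h k * vk k) i j =
      ip lam (h k) (![x k, y k] i) (![x k, y k] j) := by
    intro k i j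
    rw [Matrix.mul_assoc, Matrix.mul_apply]
    unfold ip dotProduct
    refine Finset.sum_congr rfl fun l _ => ?_
    simp [vk, lamTr_apply, Matrix.mul_apply, Matrix.mulVec, dotProduct]
  have hvk : ∀ k, lamTr lam (vk k) * h k * vk k = J2 A := by
    intro k
    have hyx : ip lam (h k) (y k) (x k) = -1 := by
      rw [ip_symm lam (h k) hlam (-1) (hherm k) (x k) (y k), hxy, map_one]; ring
    ext i j
    rw [hentry]
    fin_cases i <;> fin_cases j
    · simpa [J2] using hxx k
    · simpa [J2] using hxy k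
    · simpa [J2] using hyx
    · simpa [J2] using hyy k
  have hlamTrV : lamTr lam (Matrix.blockDiagonal vk) =
      Matrix.blockDiagonal fun k => lamTr lam (vk k) := by
    show ((Matrix.blockDiagonal vk).map lam).transpose = _
    rw [Matrix.blockDiagonal_map _ _ (map_zero lam), Matrix.blockDiagonal_transpose]
    rfl
  have hblock : lamTr lam (Matrix.blockDiagonal vk) * G.submatrix (blkEquiv m) (blkEquiv m) *
      Matrix.blockDiagonal vk = Matrix.blockDiagonal fun _ : Fin m => J2 A := by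
    rw [hlamTrV, hGblock, ← Matrix.blockDiagonal_mul, ← Matrix.blockDiagonal_mul]
    congr 1
    funext k
    exact hvk k
  obtain ⟨V, hVdef⟩ : ∃ V : Matrix (Fin (m + m)) (Fin (m + m)) A,
      V = (Matrix.blockDiagonal vk).submatrix (blkEquiv m).symm (blkEquiv m).symm := ⟨_, rfl⟩
  have hGre : G = (G.submatrix (blkEquiv m) (blkEquiv m)).submatrix
      (blkEquiv m).symm (blkEquiv m).symm := by
    ext i j
    simp
  have hVG : lamTr lam V * G * V = Jn A (m + m) := by
    rw [Jn_eq_blockDiagonal, ← hblock, hVdef, lamTr_submatrix]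
    conv_lhs => rw [hGre]
    rw [Matrix.submatrix_mul_equiv, Matrix.submatrix_mul_equiv]
  have hW : lamTr lam (v * V) * (g : Matrix (Fin (m + m)) (Fin (m + m)) A) * (v * V) =
      Jn A (m + m) := by
    rw [lamTr_mul, ← hVG, hGdef]
    simp only [mul_assoc]
  have hu₀ : lamTr lam (v * V) * (g : Matrix (Fin (m + m)) (Fin (m + m)) A) *
      lamTr lam (lamTr lam (v * V)) = Jn A (m + m) := by
    rw [lamTr_lamTr lam hlam]; exact hW
  have hunit : IsUnit (lamTr lam (v * V)) := by
    rw [Matrix.isUnit_iff_isUnit_det]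
    refine Matrix.isUnit_det_of_right_inverse (B := (g : Matrix (Fin (m + m)) (Fin (m + m)) A) *
      lamTr lam (lamTr lam (v * V)) * (-Jn A (m + m))) ?_
    rw [← mul_assoc, ← mul_assoc, hu₀, Jn_mul_neg]
  obtain ⟨u, hu⟩ := hunit
  exact ⟨u, by rw [hu]; exact hu₀⟩

end Symp

end Groth.Agent.Lib.AzInvH6
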