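import Mathlib
import Groth.Agent.Lib.AzInv28_helper6
import Groth.Agent.Lib.AzInv30_helper6
import Groth.Agent.Lib.RInv3_helper6
import Groth.Agent.S15577

/-!
# AzInv31 (helper6): normal form over a ramified local base with `2` invertible:
orthogonal (`1`) or symplectic (`J_n`).
-/

set_option autoImplicit false
universe u v w

open TensorProduct IsLocalRing

namespace Groth.Agent.Lib.AzInvH6

attribute [local instance] Algebra.TensorProduct.rightAlgebra
attribute [local instance] algT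

section JnMap

theorem J2_map {R R' : Type*} [Ring R] [Ring R'] (f : R →+* R') : (J2 R).map f = J2 R' := by
  ext a b
  fin_cases a <;> fin_cases b <;> simp [J2]

theorem Jn_map {R R' : Type*} [Ring R] [Ring R'] (f : R →+* R') (n : ℕ) :
    (Jn R n).map f = Jn R' n := by
  ext i j
  simp only [Jn, Matrix.map_apply, Matrix.of_apply]
  split_ifs
  · exact congrFun (congrFun (J2_map f) _) _
  · exact map_zero f

theorem Jn_mul_neg' (R : Type*) [Ring R] {n : ℕ} (hn : Even n) : Jn R n * (-Jn R n) = 1 := by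
  obtain ⟨m, rfl⟩ := hn
  exact Jn_mul_neg R m

theorem matT_Jn {S : Type u} [CommRing S] (R : Type v) [CommRing R] [Algebra S R] (n : ℕ)
    (T : Type u) [CommRing T] [Algebra S T] :
    matT (S := S) R n T (Jn R n) = Jn (T ⊗[S] R) n :=
  Jn_map (algebraMap R (T ⊗[S] R)) n

theorem matT_neg_Jn {S : Type u} [CommRing S] (R : Type v) [CommRing R] [Algebra S R] (n : ℕ)
    (T : Type u) [CommRing T] [Algebra S T] :
    matT (S := S) R n T (-Jn R n) = -Jn (T ⊗[S] R) n := by
  unfold matT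
  rw [map_neg]
  exact congrArg _ (matT_Jn R n T)

end JnMap

section Master

variable (S : Type u) (R : Type v) [CommRing S] [CommRing R] [Algebra S R]
  (lam : R ≃ₐ[S] R) (hlam : ∀ r, lam (lam r) = r) (hfix : RInv.IsFixedRing S R lam.toRingEquiv)
  (T : Type u) [CommRing T] [Algebra S T] [Module.Flat S T] [IsLocalRing T]
  (A : Type v) [Ring A] [Algebra S A] [Algebra R A] [IsScalarTower S R A] [IsAzumaya R A]
  (n : ℕ) (hn : 0 < n) (hrk : ∀ p : PrimeSpectrum R, Module.rankAtStalk (R := R) A p = n ^ 2)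
  (t : AzInv.LamInv R A lam)
include hlam hfix hn hrk

/-- normal form over a ramified local base with square roots and `2` invertible -/
theorem matInvHom_of_local_ramified (h2 : IsUnit (2 : T)) (hsqT : ∀ b : Tˣ, ∃ y : T, y * y = b)
    (hsplit : MatHom (S := S) R A n T)
    (hram : ∀ a : T ⊗[S] R, lamT S lam T a - a ∈ Ring.jacobson (T ⊗[S] R)) :
    MatInvHom R lam A t n 1 1 T ∨ (Even n ∧ MatInvHom R lam A t n (Jn R n) (-Jn R n) T) := by
  classical
  obtain ⟨φ⟩ := hsplit
  obtain ⟨F, hF⟩ := exists_iso_of_algHom S R T A n hrk φ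
  have hinv : Function.Involutive (lamT S lam T).toRingEquiv := fun x => lamT_invol S lam T hlam x
  have hfixT : RInv.IsFixedRing T (T ⊗[S] R) (lamT S lam T).toRingEquiv :=
    isFixedRing_lamT S R lam hlam hfix T
  haveI : Nontrivial (T ⊗[S] R) := hfixT.1.nontrivial
  have hram' : ∀ a : T ⊗[S] R, (lamT S lam T).toRingEquiv a - a ∈ Ring.jacobson (T ⊗[S] R) := hram
  obtain ⟨hloc, -⟩ := Groth.Agent.S15577.result T (T ⊗[S] R) (lamT S lam T).toRingEquiv hinv hfixT
    hram'
  haveI := hloc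
  have hjac : Ring.jacobson (T ⊗[S] R) = maximalIdeal (T ⊗[S] R) := by
    rw [← Ideal.jacobson_bot]
    exact IsLocalRing.jacobson_eq_maximalIdeal ⊥ bot_ne_top
  have h2' : IsUnit (2 : T ⊗[S] R) := by
    have := h2.map (algebraMap T (T ⊗[S] R))
    rwa [map_ofNat] at this
  have h2J : (1 : T ⊗[S] R) + 1 ∉ Ring.jacobson (T ⊗[S] R) := by
    rw [one_add_one_eq_two]
    exact Groth.Agent.Lib.HermDiagH3.not_mem_jac_of_isUnit h2'
  let τ : AzInv.LamInv (T ⊗[S] R) (Matrix (Fin n) (Fin n) (T ⊗[S] R)) (lamT S lam T).toRingEquiv :=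
    LamInv.transport (tT S lam T t) F
  obtain ⟨g, ε, hg, hε, hτ⟩ := exists_inner_form (lamT S lam T).toRingEquiv hinv hfixT hn τ
  have h1 : ∀ a, φ (t a) = τ (φ a) := by
    intro a
    have e1 : F ((1 : T) ⊗ₜ[S] t a) = φ (t a) := by rw [hF, map_one, one_mul]
    have e2 : F ((1 : T) ⊗ₜ[S] a) = φ a := by rw [hF, map_one, one_mul]
    rw [← e1, ← e2]
    show _ = LamInv.transport (tT S lam T t) F (F _)
    rw [LamInv.transport_map, tT_apply, AzInv.LamInv.bc_tmul]
  -- ε ≡ ±1
  have hε2 : (ε - 1) * (ε + 1) ∈ Ring.jacobson (T ⊗[S] R) := by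
    have : (ε - 1) * (ε + 1) = -(((lamT S lam T).toRingEquiv ε - ε) * ε) := by
      linear_combination hε
    rw [this]
    exact Ideal.neg_mem_iff _ |>.mpr (Ideal.mul_mem_right _ _ (hram' ε))
  have hcases : ε - 1 ∈ Ring.jacobson (T ⊗[S] R) ∨ ε + 1 ∈ Ring.jacobson (T ⊗[S] R) := by
    rw [hjac] at hε2 ⊢
    exact (IsLocalRing.maximalIdeal.isMaximal (T ⊗[S] R)).isPrime.mem_or_mem hε2
  rcases hcases with hm | hp
  · left
    have hcu : IsUnit (1 + ε) := by
      have := Groth.Agent.Lib.HermDiagH3.isUnit_add_jac h2' hm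
      have e : (2 : T ⊗[S] R) + (ε - 1) = 1 + ε := by ring
      rwa [e] at this
    obtain ⟨c, hc⟩ := hcu
    have hc' : (lamT S lam T).toRingEquiv (c : T ⊗[S] R) * ε = 1 * (c : T ⊗[S] R) := by
      rw [hc, map_add, map_one]
      linear_combination hε
    obtain ⟨g', hg', hconj⟩ := rescale (lamT S lam T).toRingEquiv g ε 1 c hg hc'
    rw [one_smul] at hg'
    obtain ⟨u, hu⟩ := exists_unit_mul_lamTr_eq_one (lamT S lam T).toRingEquiv hinv hfixT hsqT g' hg'
      (Or.inr (Or.inl h2J))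
    refine ⟨(conjHom u).comp φ, fun a => ?_⟩
    rw [matT_one, one_mul, mul_one, AlgHom.comp_apply, AlgHom.comp_apply, conjHom_apply,
      conjHom_apply, h1, hτ, ← hconj]
    have h3 := conj_inner (lamT S lam T).toRingEquiv hinv g' u 1 1 hu (one_mul 1) (φ a)
    rw [one_mul, mul_one] at h3
    exact h3
  · right
    have hcu : IsUnit (1 - ε) := by
      have := Groth.Agent.Lib.HermDiagH3.isUnit_add_jac h2'
        (Ideal.neg_mem_iff _ |>.mpr hp)
      have e : (2 : T ⊗[S] R) + -(ε + 1) = 1 - ε := by ring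
      rwa [e] at this
    obtain ⟨c, hc⟩ := hcu
    have hc' : (lamT S lam T).toRingEquiv (c : T ⊗[S] R) * ε = (-1) * (c : T ⊗[S] R) := by
      rw [hc, map_sub, map_one]
      linear_combination (-1 : T ⊗[S] R) * hε
    obtain ⟨g', hg', hconj⟩ := rescale (lamT S lam T).toRingEquiv g ε (-1) c hg hc'
    rw [neg_one_smul] at hg'
    -- square roots of fixed 1-units
    have hsq' : ∀ x : T ⊗[S] R, (lamT S lam T).toRingEquiv x = x →
        x - 1 ∈ Ring.jacobson (T ⊗[S] R) →
        ∃ y, (lamT S lam T).toRingEquiv y = y ∧ y * y = x ∧ y - 1 ∈ Ring.jacobson (T ⊗[S] R) := by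
      intro x hx hx1
      obtain ⟨b, rfl⟩ := (hfixT.2 x).mp hx
      have hb1 : b - 1 ∈ maximalIdeal T := by
        refine Groth.Agent.Lib.RInv_helper6.mem_maximalIdeal_of_algebraMap_mem_jacobson hfixT ?_
        rw [map_sub, map_one]; exact hx1
      have hbu : IsUnit b := by
        by_contra hnu
        have hbm : b ∈ maximalIdeal T := (mem_maximalIdeal b).mpr hnu
        have : (1 : T) ∈ maximalIdeal T := by
          have := Ideal.sub_mem _ hbm hb1
          rwa [sub_sub_cancel] at this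
        exact (Ideal.ne_top_iff_one _).mp (IsLocalRing.maximalIdeal.isMaximal T).ne_top this
      obtain ⟨bu, rfl⟩ := hbu
      obtain ⟨y₀, hy₀⟩ := hsqT bu
      have hprod : (y₀ - 1) * (y₀ + 1) ∈ maximalIdeal T := by
        have : (y₀ - 1) * (y₀ + 1) = (bu : T) - 1 := by rw [← hy₀]; ring
        rw [this]; exact hb1
      have hmapJ : ∀ c ∈ maximalIdeal T, algebraMap T (T ⊗[S] R) c ∈ Ring.jacobson (T ⊗[S] R) :=
        fun c hc => Groth.Agent.Lib.RInv3.map_maximalIdeal_le_jacobson hinv hfixT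
          (Ideal.mem_map_of_mem _ hc)
      rcases (IsLocalRing.maximalIdeal.isMaximal T).isPrime.mem_or_mem hprod with hy | hy
      · refine ⟨algebraMap T _ y₀, (hfixT.2 _).mpr ⟨_, rfl⟩, by rw [← map_mul, hy₀], ?_⟩
        have := hmapJ _ hy
        rwa [map_sub, map_one] at this
      · refine ⟨algebraMap T _ (-y₀), (hfixT.2 _).mpr ⟨_, rfl⟩, by rw [← map_mul, ← hy₀]; ring_nf, ?_⟩
        have := hmapJ _ (Ideal.neg_mem_iff _ |>.mpr hy)
        have e : -(y₀ + 1) = -y₀ - 1 := by ring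
        rw [e, map_sub, map_one] at this
        exact this
    obtain ⟨hev, u, hu⟩ := exists_unit_mul_lamTr_eq_Jn (lamT S lam T).toRingEquiv hinv hfixT hram' h2'
      hsq' g' hg'
    refine ⟨hev, (conjHom u).comp φ, fun a => ?_⟩
    rw [matT_Jn, matT_neg_Jn, AlgHom.comp_apply, AlgHom.comp_apply, conjHom_apply,
      conjHom_apply, h1, hτ, ← hconj]
    exact conj_inner (lamT S lam T).toRingEquiv hinv g' u (Jn (T ⊗[S] R) n) (-Jn (T ⊗[S] R) n) hu
      (Jn_mul_neg' _ hev) (φ a)

end Master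

end Groth.Agent.Lib.AzInvH6
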