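import Mathlib
import Groth.Prelude.Def_AzInv

set_option autoImplicit false
set_option linter.unusedVariables false
set_option linter.unusedTactic false
set_option linter.unreachableTactic false
set_option linter.unusedSectionVars false
set_option maxHeartbeats 800000

universe u

open TensorProduct

namespace Groth.Agent.Lib.AzInvTypeH4

section Generic

variable {R : Type*} {S' : Type*} [CommRing R] [CommRing S'] [Algebra R S']
variable {V V' : Type*} [AddCommGroup V] [Module R V] [AddCommGroup V'] [Module R V']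

theorem lt_eq (T : V →ₗ[R] V) (x : S' ⊗[R] V) :
    AlgebraTensorModule.lTensor S' S' T x = T.baseChange S' x := rfl

theorem lt_id (x : S' ⊗[R] V) :
    AlgebraTensorModule.lTensor S' S' (LinearMap.id : V →ₗ[R] V) x = x := by
  induction x using TensorProduct.induction_on with
  | zero => exact map_zero _
  | tmul s v => first | rfl | simp
  | add x y hx hy => rw [map_add, hx, hy]

/-- the fixed locus of the base change -/
def bcFix (T : V →ₗ[R] V) : Submodule S' (S' ⊗[R] V) :=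
  LinearMap.eqLocus (AlgebraTensorModule.lTensor S' S' T)
    (AlgebraTensorModule.lTensor S' S' (LinearMap.id : V →ₗ[R] V))

theorem mem_bcFix (T : V →ₗ[R] V) (x : S' ⊗[R] V) :
    x ∈ bcFix (S' := S') T ↔ T.baseChange S' x = x := by
  unfold bcFix
  rw [LinearMap.mem_eqLocus, lt_eq, lt_id]

noncomputable def fixEquiv (T : V →ₗ[R] V) (T' : V' →ₗ[R] V')
    (f : S' ⊗[R] V ≃ₗ[S'] S' ⊗[R] V')
    (hf : ∀ x, f (T.baseChange S' x) = T'.baseChange S' (f x)) :
    ↥(bcFix (S' := S') T) ≃ₗ[S'] ↥(bcFix (S' := S') T') where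
  toFun x := ⟨f x.1, (mem_bcFix T' _).2 (by rw [← hf, (mem_bcFix T x.1).1 x.2])⟩
  map_add' x y := Subtype.ext (map_add f x.1 y.1)
  map_smul' c x := Subtype.ext (map_smul f c x.1)
  invFun y := ⟨f.symm y.1, (mem_bcFix T _).2 (by
    apply f.injective
    rw [hf, f.apply_symm_apply, (mem_bcFix T' y.1).1 y.2])⟩
  left_inv x := Subtype.ext (f.symm_apply_apply x.1)
  right_inv y := Subtype.ext (f.apply_symm_apply y.1)

theorem fix_rank_eq [Module.Flat R S'] [Nontrivial R] [Nontrivial S']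
    (T : V →ₗ[R] V) (T' : V' →ₗ[R] V')
    (f : S' ⊗[R] V ≃ₗ[S'] S' ⊗[R] V')
    (hf : ∀ x, f (T.baseChange S' x) = T'.baseChange S' (f x))
    [Module.Free R ↥(LinearMap.eqLocus T LinearMap.id)]
    [Module.Free R ↥(LinearMap.eqLocus T' LinearMap.id)] :
    Module.finrank R ↥(LinearMap.eqLocus T LinearMap.id)
      = Module.finrank R ↥(LinearMap.eqLocus T' LinearMap.id) := by
  have e1 : S' ⊗[R] ↥(LinearMap.eqLocus T LinearMap.id) ≃ₗ[S'] ↥(bcFix (S' := S') T) :=
    LinearMap.tensorEqLocusEquiv S' S' T (LinearMap.id : V →ₗ[R] V)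
  have e2 : S' ⊗[R] ↥(LinearMap.eqLocus T' LinearMap.id) ≃ₗ[S'] ↥(bcFix (S' := S') T') :=
    LinearMap.tensorEqLocusEquiv S' S' T' (LinearMap.id : V' →ₗ[R] V')
  have e3 := fixEquiv T T' f hf
  have h1 : Module.finrank S' (S' ⊗[R] ↥(LinearMap.eqLocus T LinearMap.id))
      = Module.finrank R ↥(LinearMap.eqLocus T LinearMap.id) := Module.finrank_baseChange
  have h2 : Module.finrank S' (S' ⊗[R] ↥(LinearMap.eqLocus T' LinearMap.id))
      = Module.finrank R ↥(LinearMap.eqLocus T' LinearMap.id) := Module.finrank_baseChange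
  rw [← h1, ← h2]
  exact ((e1.trans e3).trans e2.symm).finrank_eq

end Generic

section Sym

variable (R : Type u) [CommRing R] (n : ℕ)

theorem sym_of_mem (T : Matrix (Fin n) (Fin n) R →ₗ[R] Matrix (Fin n) (Fin n) R)
    (hT : ∀ M i j, T M i j = M j i) (M : Matrix (Fin n) (Fin n) R) (hM : T M = M)
    (i j : Fin n) : M i j = M j i := by
  have h := hT M i j
  rw [hM] at h
  exact h

/-- symmetric matrices are functions on unordered pairs -/
noncomputable def symEquiv (T : Matrix (Fin n) (Fin n) R →ₗ[R] Matrix (Fin n) (Fin n) R)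
    (hT : ∀ M i j, T M i j = M j i) :
    ↥(LinearMap.eqLocus T LinearMap.id) ≃ₗ[R] (Sym2 (Fin n) → R) where
  toFun M := fun s => Sym2.lift ⟨fun i j => M.1 i j,
    fun i j => sym_of_mem R n T hT M.1 (LinearMap.mem_eqLocus.1 M.2) i j⟩ s
  map_add' M N := by
    funext s
    refine Sym2.ind (fun i j => ?_) s
    rfl
  map_smul' r M := by
    funext s
    refine Sym2.ind (fun i j => ?_) s
    rfl
  invFun c := ⟨Matrix.of fun i j => c s(i, j), LinearMap.mem_eqLocus.2 (by
    show T (Matrix.of fun i j => c s(i, j)) = Matrix.of fun i j => c s(i, j)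
    refine Matrix.ext (fun i j => ?_)
    rw [hT]
    exact congrArg c Sym2.eq_swap)⟩
  left_inv M := Subtype.ext (Matrix.ext (fun i j => rfl))
  right_inv c := by
    funext s
    refine Sym2.ind (fun i j => ?_) s
    rfl

end Sym

section Symp

variable (R : Type u) [CommRing R] (n : ℕ)

/-- the adjugate involution on 2×2 matrices -/
def sg (Y : Matrix (Fin 2) (Fin 2) R) : Matrix (Fin 2) (Fin 2) R :=
  !![Y 1 1, -Y 0 1; -Y 1 0, Y 0 0]

theorem sg_sg (Y : Matrix (Fin 2) (Fin 2) R) : sg R (sg R Y) = Y := by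
  ext i j
  fin_cases i <;> fin_cases j <;> simp [sg]

theorem sg_smul_one (c : R) : sg R (c • (1 : Matrix (Fin 2) (Fin 2) R)) = c • 1 := by
  ext i j
  fin_cases i <;> fin_cases j <;> simp [sg]

theorem scalar_of_fix (h2 : IsUnit (2 : R)) (Y : Matrix (Fin 2) (Fin 2) R) (h : sg R Y = Y) :
    (Y 0 0) • (1 : Matrix (Fin 2) (Fin 2) R) = Y := by
  have h01 : Y 0 1 = 0 := by
    have e : (sg R Y) 0 1 = Y 0 1 := by rw [h]
    have e' : -Y 0 1 = Y 0 1 := by simpa [sg] using e
    have e2 : (2 : R) * Y 0 1 = 0 := by linear_combination -e'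
    exact (h2.mul_right_eq_zero).1 e2
  have h10 : Y 1 0 = 0 := by
    have e : (sg R Y) 1 0 = Y 1 0 := by rw [h]
    have e' : -Y 1 0 = Y 1 0 := by simpa [sg] using e
    have e2 : (2 : R) * Y 1 0 = 0 := by linear_combination -e'
    exact (h2.mul_right_eq_zero).1 e2
  have h11 : Y 0 0 = Y 1 1 := by
    have e : (sg R Y) 1 1 = Y 1 1 := by rw [h]
    simpa [sg] using e
  ext i j
  fin_cases i <;> fin_cases j <;> simp [h01, h10, ← h11]

theorem conj_eq_sg
    (hlam : ∀ r : R, (AlgEquiv.refl : R ≃ₐ[R] R) ((AlgEquiv.refl : R ≃ₐ[R] R) r) = r)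
    (J : (Matrix (Fin 2) (Fin 2) R)ˣ)
    (hJ : (↑J : Matrix (Fin 2) (Fin 2) R) = Matrix.of ![![0, -1], ![1, 0]])
    (hJt : AzInv.LamInv.transpose (AlgEquiv.refl : R ≃ₐ[R] R) (Fin 2) hlam
      (↑J : Matrix (Fin 2) (Fin 2) R) = (-1 : R) • (↑J : Matrix (Fin 2) (Fin 2) R))
    (hneg : (AlgEquiv.refl : R ≃ₐ[R] R) (-1) * (-1) = 1) (Y : Matrix (Fin 2) (Fin 2) R) :
    ((AzInv.LamInv.transpose (AlgEquiv.refl : R ≃ₐ[R] R) (Fin 2) hlam).conj J (-1) hJt hneg) Y
      = sg R Y := by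
  have hJi : ((J⁻¹ : (Matrix (Fin 2) (Fin 2) R)ˣ) : Matrix (Fin 2) (Fin 2) R)
      = !![0, 1; -1, 0] := by
    apply Units.inv_eq_of_mul_eq_one_right
    rw [hJ]
    ext i j
    fin_cases i <;> fin_cases j <;> simp [Matrix.mul_apply, Fin.sum_univ_two]
  show (↑J : Matrix (Fin 2) (Fin 2) R) * AzInv.lamTr (⇑(AlgEquiv.refl : R ≃ₐ[R] R)) Y
      * ((J⁻¹ : (Matrix (Fin 2) (Fin 2) R)ˣ) : Matrix (Fin 2) (Fin 2) R) = sg R Y
  have hY : AzInv.lamTr (⇑(AlgEquiv.refl : R ≃ₐ[R] R)) Y = !![Y 0 0, Y 1 0; Y 0 1, Y 1 1] := by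
    ext i j
    fin_cases i <;> fin_cases j <;> rfl
  rw [hJi, hJ, hY, Matrix.mul_fin_two, Matrix.mul_fin_two]
  unfold sg
  ext i j
  fin_cases i <;> fin_cases j <;> simp

/-- index type of pairs `a < b` -/
abbrev Idx (n : ℕ) : Type := Σ b : Fin n, Fin b.val

theorem card_Idx : Fintype.card (Idx n) * 2 = n * (n - 1) := by
  rw [Fintype.card_sigma]
  have h : ∑ b : Fin n, Fintype.card (Fin b.val) = ∑ i ∈ Finset.range n, i := by
    rw [← Fin.sum_univ_eq_sum_range (fun i => i) n]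
    exact Finset.sum_congr rfl (fun b _ => Fintype.card_fin _)
  rw [h]
  exact Finset.sum_range_id_mul_two n

/-- the candidate inverse -/
def PsiS (c : Fin n → R) (d : Idx n → Matrix (Fin 2) (Fin 2) R) :
    Matrix (Fin n) (Fin n) (Matrix (Fin 2) (Fin 2) R) :=
  Matrix.of fun a b =>
    if h : a.val < b.val then d ⟨b, ⟨a.val, h⟩⟩
    else if h' : b.val < a.val then sg R (d ⟨a, ⟨b.val, h'⟩⟩)
    else c a • (1 : Matrix (Fin 2) (Fin 2) R)

theorem PsiS_lt (c : Fin n → R) (d : Idx n → Matrix (Fin 2) (Fin 2) R) (a b : Fin n)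
    (h : a.val < b.val) : PsiS R n c d a b = d ⟨b, ⟨a.val, h⟩⟩ := by
  simp only [PsiS, Matrix.of_apply, dif_pos h]

theorem PsiS_gt (c : Fin n → R) (d : Idx n → Matrix (Fin 2) (Fin 2) R) (a b : Fin n)
    (h : b.val < a.val) : PsiS R n c d a b = sg R (d ⟨a, ⟨b.val, h⟩⟩) := by
  have h0 : ¬ a.val < b.val := by omega
  simp only [PsiS, Matrix.of_apply, dif_neg h0, dif_pos h]

theorem PsiS_diag (c : Fin n → R) (d : Idx n → Matrix (Fin 2) (Fin 2) R) (a : Fin n) :
    PsiS R n c d a a = c a • (1 : Matrix (Fin 2) (Fin 2) R) := by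
  have h0 : ¬ a.val < a.val := by omega
  simp only [PsiS, Matrix.of_apply, dif_neg h0]

theorem PsiS_mem
    (T' : Matrix (Fin n) (Fin n) (Matrix (Fin 2) (Fin 2) R) →ₗ[R]
      Matrix (Fin n) (Fin n) (Matrix (Fin 2) (Fin 2) R))
    (hT' : ∀ X a b, T' X a b = sg R (X b a))
    (c : Fin n → R) (d : Idx n → Matrix (Fin 2) (Fin 2) R) :
    T' (PsiS R n c d) = PsiS R n c d := by
  refine Matrix.ext (fun a b => ?_)
  rw [hT']
  rcases lt_trichotomy a.val b.val with h | h | h
  · rw [PsiS_gt R n c d b a h, PsiS_lt R n c d a b h, sg_sg]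
  · have hab : a = b := Fin.ext h
    subst hab
    rw [PsiS_diag, sg_smul_one]
  · rw [PsiS_lt R n c d b a h, PsiS_gt R n c d a b h]

/-- fixed points of the symplectic-type involution -/
noncomputable def sympEquiv (h2 : IsUnit (2 : R))
    (T' : Matrix (Fin n) (Fin n) (Matrix (Fin 2) (Fin 2) R) →ₗ[R]
      Matrix (Fin n) (Fin n) (Matrix (Fin 2) (Fin 2) R))
    (hT' : ∀ X a b, T' X a b = sg R (X b a)) :
    ↥(LinearMap.eqLocus T' LinearMap.id) ≃ₗ[R]
      ((Fin n → R) × (Idx n → Matrix (Fin 2) (Fin 2) R)) where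
  toFun X := (fun a => X.1 a a 0 0,
    fun p => X.1 ⟨p.2.val, lt_trans p.2.isLt p.1.isLt⟩ p.1)
  map_add' X Y := rfl
  map_smul' r X := rfl
  invFun p := ⟨PsiS R n p.1 p.2, LinearMap.mem_eqLocus.2 (PsiS_mem R n T' hT' p.1 p.2)⟩
  left_inv X := by
    have hX : T' X.1 = X.1 := LinearMap.mem_eqLocus.1 X.2
    have hX' : ∀ a b, sg R (X.1 b a) = X.1 a b := by
      intro a b
      rw [← hT', hX]
    apply Subtype.ext
    refine Matrix.ext (fun a b => ?_)
    show PsiS R n (fun a => X.1 a a 0 0)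
      (fun p => X.1 ⟨p.2.val, lt_trans p.2.isLt p.1.isLt⟩ p.1) a b = X.1 a b
    rcases lt_trichotomy a.val b.val with h | h | h
    · rw [PsiS_lt R n _ _ a b h]
    · have hab : a = b := Fin.ext h
      subst hab
      rw [PsiS_diag]
      exact scalar_of_fix R h2 (X.1 a a) (hX' a a)
    · rw [PsiS_gt R n _ _ a b h]
      exact hX' a b
  right_inv p := by
    refine Prod.ext ?_ ?_
    · funext a
      show (PsiS R n p.1 p.2 a a) 0 0 = p.1 a
      rw [PsiS_diag]
      simp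
    · funext q
      obtain ⟨b, a⟩ := q
      show PsiS R n p.1 p.2 ⟨a.val, lt_trans a.isLt b.isLt⟩ b = p.2 ⟨b, a⟩
      rw [PsiS_lt R n p.1 p.2 ⟨a.val, lt_trans a.isLt b.isLt⟩ b a.isLt]

end Symp

section Main

theorem arith (n n' c : ℕ) (hn' : 0 < n')
    (A : n * n = n' * n' * 4) (B : (n + 1).choose 2 = n' + 4 * c)
    (C : c * 2 = n' * (n' - 1)) : False := by
  have hn : n = 2 * n' := by
    have : n * n = (2 * n') * (2 * n') := by rw [A]; ring
    exact Nat.mul_self_inj.1 this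
  have D : 2 * ((n + 1).choose 2) = (n + 1) * n := by
    rw [Nat.choose_two_right, Nat.add_sub_cancel]
    exact Nat.two_mul_div_two_of_even (by
      have := Nat.even_mul_succ_self n
      rwa [mul_comm] at this)
  obtain ⟨m, rfl⟩ : ∃ m, n' = m + 1 := ⟨n' - 1, by omega⟩
  rw [Nat.add_sub_cancel] at C
  rw [B, hn] at D
  nlinarith [C, D]

theorem main17360 (R : Type u) [CommRing R]
    (hlam : ∀ r : R, (AlgEquiv.refl : R ≃ₐ[R] R) ((AlgEquiv.refl : R ≃ₐ[R] R) r) = r)
    [Nontrivial R] (h2 : IsUnit (2 : R))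
    (J : (Matrix (Fin 2) (Fin 2) R)ˣ)
    (hJ : (↑J : Matrix (Fin 2) (Fin 2) R) = Matrix.of ![![0, -1], ![1, 0]])
    (hJt : AzInv.LamInv.transpose (AlgEquiv.refl : R ≃ₐ[R] R) (Fin 2) hlam
      (↑J : Matrix (Fin 2) (Fin 2) R) = (-1 : R) • (↑J : Matrix (Fin 2) (Fin 2) R))
    (hneg : (AlgEquiv.refl : R ≃ₐ[R] R) (-1) * (-1) = 1) :
    ¬ AzInv.SameType R (AlgEquiv.refl : R ≃ₐ[R] R)
      (AzInv.LamInv.self (AlgEquiv.refl : R ≃ₐ[R] R) hlam)
      ((AzInv.LamInv.transpose (AlgEquiv.refl : R ≃ₐ[R] R) (Fin 2) hlam).conj J (-1) hJt hneg) := by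
  rintro ⟨n, n', hn, hn', S', i1, i2, i3, i4, f, hR, hinv⟩
  haveI : Module.Flat R S' := inferInstance
  haveI : Nontrivial S' := ((TensorProduct.rid R S').symm.toEquiv).nontrivial
  let T := ((AzInv.LamInv.self (AlgEquiv.refl : R ≃ₐ[R] R) hlam).matrix (Fin n)).linS R
    (AlgEquiv.refl : R ≃ₐ[R] R)
  let T' := (((AzInv.LamInv.transpose (AlgEquiv.refl : R ≃ₐ[R] R) (Fin 2) hlam).conj J (-1)
    hJt hneg).matrix (Fin n')).linS R (AlgEquiv.refl : R ≃ₐ[R] R)
  have hT : ∀ M i j, T M i j = M j i := fun M i j => rfl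
  have hT' : ∀ X a b, T' X a b = sg R (X b a) :=
    fun X a b => conj_eq_sg R hlam J hJ hJt hneg (X b a)
  let e1 := symEquiv R n T hT
  let e2 := sympEquiv R n' h2 T' hT'
  haveI : Module.Free R ↥(LinearMap.eqLocus T LinearMap.id) := Module.Free.of_equiv e1.symm
  haveI : Module.Free R ↥(LinearMap.eqLocus T' LinearMap.id) := Module.Free.of_equiv e2.symm
  have key := fix_rank_eq (S' := S') T T' f.toLinearEquiv (fun x => hinv x)
  have k1 : Module.finrank R ↥(LinearMap.eqLocus T LinearMap.id) = (n + 1).choose 2 := by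
    rw [e1.finrank_eq, Module.finrank_pi, Sym2.card, Fintype.card_fin]
  have k2 : Module.finrank R ↥(LinearMap.eqLocus T' LinearMap.id)
      = n' + 4 * Fintype.card (Idx n') := by
    rw [e2.finrank_eq, Module.finrank_prod, Module.finrank_pi, Module.finrank_pi_fintype]
    simp [Module.finrank_matrix]
    ring
  have k3 : n * n = n' * n' * 4 := by
    have h := f.toLinearEquiv.finrank_eq
    rw [Module.finrank_baseChange, Module.finrank_baseChange, Module.finrank_matrix,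
      Module.finrank_matrix, Module.finrank_matrix] at h
    simpa using h
  rw [k1, k2] at key
  exact arith n n' (Fintype.card (Idx n')) hn' k3 key (card_Idx n')

end Main

end Groth.Agent.Lib.AzInvTypeH4
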