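import Mathlib
import Groth.Agent.Lib.AzInvType_helper4

/-!
# AzInv32 (helper6): field-level linear algebra for the orthogonal/symplectic sign:
invariance of span dimensions under field extension, dimensions of symmetric / skew matrices,
fixed spaces of `X ↦ g Xᵀ g⁻¹`.
-/

set_option autoImplicit false

open TensorProduct

namespace Groth.Agent.Lib.AzInvH6

section T1

variable {R : Type*} [CommRing R] (Q : Ideal R) [Q.IsPrime] (L : Type*) [Field L] [Algebra R L]
  [Algebra Q.ResidueField L] [IsScalarTower R Q.ResidueField L]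
  {M : Type*} [AddCommGroup M] [Module R M]

/-- the dimension of the span of the images of a set of elements in a fibre does not change under
extension of the residue field -/
theorem finrank_span_tmul_eq (s : Set M) :
    Module.finrank L (Submodule.span L ((fun a => (1 : L) ⊗ₜ[R] a) '' s)) =
      Module.finrank Q.ResidueField
        (Submodule.span Q.ResidueField ((fun a => (1 : Q.ResidueField) ⊗ₜ[R] a) '' s)) := by
  obtain ⟨W, hW⟩ : ∃ W : Submodule Q.ResidueField (Q.ResidueField ⊗[R] M),
      W = Submodule.span Q.ResidueField ((fun a => (1 : Q.ResidueField) ⊗ₜ[R] a) '' s) := ⟨_, rfl⟩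
  rw [← hW]
  let e : L ⊗[Q.ResidueField] (Q.ResidueField ⊗[R] M) ≃ₗ[L] L ⊗[R] M :=
    AlgebraTensorModule.cancelBaseChange R Q.ResidueField L L M
  have h1 : (W.baseChange L).map e.toLinearMap =
      Submodule.span L ((fun a => (1 : L) ⊗ₜ[R] a) '' s) := by
    rw [hW, Submodule.baseChange_span, Submodule.map_span, ← Set.image_comp, ← Set.image_comp]
    congr 1
    ext x
    simp only [Set.mem_image, Function.comp_apply]
    constructor
    · rintro ⟨a, ha, rfl⟩
      refine ⟨a, ha, ?_⟩
      show (1 : L) ⊗ₜ[R] a = e ((1 : L) ⊗ₜ[Q.ResidueField] ((1 : Q.ResidueField) ⊗ₜ[R] a))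
      rw [AlgebraTensorModule.cancelBaseChange_tmul, one_smul]
    · rintro ⟨a, ha, rfl⟩
      refine ⟨a, ha, ?_⟩
      show e ((1 : L) ⊗ₜ[Q.ResidueField] ((1 : Q.ResidueField) ⊗ₜ[R] a)) = (1 : L) ⊗ₜ[R] a
      rw [AlgebraTensorModule.cancelBaseChange_tmul, one_smul]
  rw [← h1, LinearEquiv.finrank_map_eq]
  have hinj : Function.Injective (W.subtype.baseChange L) :=
    Module.Flat.lTensor_preserves_injective_linearMap (M := L) W.subtype W.injective_subtype
  haveI : Module.Free Q.ResidueField W :=
    Module.Free.of_basis (Module.Basis.ofVectorSpace Q.ResidueField W)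
  unfold Submodule.baseChange
  rw [LinearMap.finrank_range_of_inj hinj, Module.finrank_baseChange]

end T1

section Invol

variable {L : Type*} [Field L] {V : Type*} [AddCommGroup V] [Module L V]

/-- `±1`-eigenspace decomposition of an involution in characteristic `≠ 2` -/
theorem finrank_fix_add_finrank_antifix [FiniteDimensional L V] (h2 : (2 : L) ≠ 0)
    (θ : V →ₗ[L] V) (hθ : ∀ x, θ (θ x) = x) :
    Module.finrank L (LinearMap.eqLocus θ LinearMap.id) +
      Module.finrank L (LinearMap.eqLocus θ (-LinearMap.id)) = Module.finrank L V := by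
  have hsup : LinearMap.eqLocus θ LinearMap.id ⊔ LinearMap.eqLocus θ (-LinearMap.id) = ⊤ := by
    rw [eq_top_iff]
    intro x _
    have hx : x = (2 : L)⁻¹ • (x + θ x) + (2 : L)⁻¹ • (x - θ x) := by
      rw [← smul_add]
      have : x + θ x + (x - θ x) = (2 : L) • x := by rw [two_smul]; abel
      rw [this, smul_smul, inv_mul_cancel₀ h2, one_smul]
    rw [hx]
    refine Submodule.add_mem_sup (Submodule.smul_mem _ _ ?_) (Submodule.smul_mem _ _ ?_)
    · rw [LinearMap.mem_eqLocus, map_add, hθ, LinearMap.id_apply, add_comm]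
    · rw [LinearMap.mem_eqLocus, map_sub, hθ, LinearMap.neg_apply, LinearMap.id_apply, neg_sub]
  have hinf : LinearMap.eqLocus θ LinearMap.id ⊓ LinearMap.eqLocus θ (-LinearMap.id) = ⊥ := by
    rw [eq_bot_iff]
    rintro x ⟨h1, h3⟩
    rw [SetLike.mem_coe, LinearMap.mem_eqLocus, LinearMap.id_apply] at h1
    rw [SetLike.mem_coe, LinearMap.mem_eqLocus, LinearMap.neg_apply, LinearMap.id_apply, h1] at h3
    have h4 : (2 : L) • x = 0 := by
      rw [two_smul]
      nth_rewrite 1 [h3]
      exact neg_add_cancel x
    rcases smul_eq_zero.mp h4 with h | h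
    · exact absurd h h2
    · exact (Submodule.mem_bot L).mpr h
  have := Submodule.finrank_sup_add_finrank_inf_eq (LinearMap.eqLocus θ LinearMap.id)
    (LinearMap.eqLocus θ (-LinearMap.id))
  rw [hsup, hinf, finrank_bot, add_zero, finrank_top] at this
  exact this.symm

end Invol

section Model

variable (L : Type*) [Field L] (n : ℕ)

/-- the transpose as a linear map -/
def trLin : Matrix (Fin n) (Fin n) L →ₗ[L] Matrix (Fin n) (Fin n) L :=
  (Matrix.transposeLinearEquiv (Fin n) (Fin n) L L).toLinearMap

@[simp] theorem trLin_apply (X : Matrix (Fin n) (Fin n) L) : trLin L n X = X.transpose := rfl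

theorem finrank_symMat :
    Module.finrank L (LinearMap.eqLocus (trLin L n) LinearMap.id) = Nat.choose (n + 1) 2 := by
  rw [(Groth.Agent.Lib.AzInvTypeH4.symEquiv L n (trLin L n) (fun M i j => rfl)).finrank_eq,
    Module.finrank_fintype_fun_eq_card, Sym2.card, Fintype.card_fin]

theorem finrank_skewMat (h2 : (2 : L) ≠ 0) :
    Module.finrank L (LinearMap.eqLocus (trLin L n) (-LinearMap.id)) + Nat.choose (n + 1) 2 =
      n ^ 2 := by
  have h := finrank_fix_add_finrank_antifix h2 (trLin L n) (fun X => by simp)
  rw [finrank_symMat, Module.finrank_matrix, Module.finrank_self, Fintype.card_fin, mul_one] at h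
  rw [add_comm, h, pow_two]

variable {L n}

/-- the model involution `X ↦ g Xᵀ g'` as a linear map -/
def thetaLin (g g' : Matrix (Fin n) (Fin n) L) :
    Matrix (Fin n) (Fin n) L →ₗ[L] Matrix (Fin n) (Fin n) L where
  toFun X := g * X.transpose * g'
  map_add' X Y := by rw [Matrix.transpose_add, mul_add, add_mul]
  map_smul' c X := by
    rw [Matrix.transpose_smul, Matrix.mul_smul, Matrix.smul_mul, RingHom.id_apply]

@[simp] theorem thetaLin_apply (g g' X : Matrix (Fin n) (Fin n) L) :
    thetaLin g g' X = g * X.transpose * g' := rfl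

/-- right multiplication by an invertible matrix -/
def mulRightEquiv (g g' : Matrix (Fin n) (Fin n) L) (h : g * g' = 1) :
    Matrix (Fin n) (Fin n) L ≃ₗ[L] Matrix (Fin n) (Fin n) L where
  toFun X := X * g
  map_add' X Y := add_mul X Y g
  map_smul' c X := by rw [Matrix.smul_mul, RingHom.id_apply]
  invFun X := X * g'
  left_inv X := by
    show X * g * g' = X
    rw [mul_assoc, h, mul_one]
  right_inv X := by
    show X * g' * g = X
    rw [mul_assoc, mul_eq_one_comm.mp h, mul_one]

theorem fix_theta_eq_comap (g g' : Matrix (Fin n) (Fin n) L) (h : g * g' = 1) (ε : L)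
    (hε : ε * ε = 1) (hg : g.transpose = ε • g) :
    LinearMap.eqLocus (thetaLin g g') LinearMap.id =
      (LinearMap.eqLocus (trLin L n) (ε • LinearMap.id)).comap
        (mulRightEquiv g g' h).toLinearMap := by
  ext X
  rw [LinearMap.mem_eqLocus, Submodule.mem_comap, LinearMap.mem_eqLocus, thetaLin_apply,
    LinearMap.id_apply, LinearMap.smul_apply, LinearMap.id_apply]
  show _ ↔ (X * g).transpose = ε • (X * g)
  rw [Matrix.transpose_mul, hg, Matrix.smul_mul]
  have h' : g' * g = 1 := mul_eq_one_comm.mp h
  constructor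
  · intro hX
    have : g * X.transpose = X * g := by
      calc g * X.transpose = g * X.transpose * g' * g := by rw [mul_assoc _ g' g, h', mul_one]
        _ = X * g := by rw [hX]
    rw [this]
  · intro hX
    have h3 : g * X.transpose = X * g := by
      have := congrArg (fun Y => ε • Y) hX
      simp only [smul_smul, hε, one_smul] at this
      exact this
    rw [h3, mul_assoc, h, mul_one]

theorem finrank_fix_theta_sym (g g' : Matrix (Fin n) (Fin n) L) (h : g * g' = 1)
    (hg : g.transpose = g) :
    Module.finrank L (LinearMap.eqLocus (thetaLin g g') LinearMap.id) = Nat.choose (n + 1) 2 := by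
  rw [fix_theta_eq_comap g g' h 1 (one_mul 1) (by rw [hg, one_smul]), one_smul,
    Submodule.comap_equiv_eq_map_symm, LinearEquiv.finrank_map_eq, finrank_symMat]

theorem finrank_fix_theta_skew (h2 : (2 : L) ≠ 0) (g g' : Matrix (Fin n) (Fin n) L)
    (h : g * g' = 1) (hg : g.transpose = -g) :
    Module.finrank L (LinearMap.eqLocus (thetaLin g g') LinearMap.id) + Nat.choose (n + 1) 2 =
      n ^ 2 := by
  have e : ((-1 : L) • LinearMap.id : Matrix (Fin n) (Fin n) L →ₗ[L] Matrix (Fin n) (Fin n) L) =
      -LinearMap.id := by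
    ext X : 1
    simp
  rw [fix_theta_eq_comap g g' h (-1) (by ring) (by rw [hg, neg_smul, one_smul]), e,
    Submodule.comap_equiv_eq_map_symm, LinearEquiv.finrank_map_eq, finrank_skewMat L n h2]

end Model

end Groth.Agent.Lib.AzInvH6
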