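import Mathlib
import Groth.Prelude.Def_AzInv
import Groth.Agent.Lib.AzInv32_helper6

/-!
# AzInv33 (helper6): the dimension of the span of symmetric elements in a ramified fibre, computed
from a matrix model over an extension of the residue field.
-/

set_option autoImplicit false

open TensorProduct

namespace Groth.Agent.Lib.AzInvH6

section Core

variable {R : Type*} [CommRing R] {lam : R → R} {A : Type*} [Ring A] [Algebra R A]
  [Module.Finite R A] [Module.Projective R A]
  (t : AzInv.LamInv R A lam) (n : ℕ)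
  (Q : Ideal R) [hQ : Q.IsPrime]
  (L : Type*) [Field L] [Algebra R L] [Algebra Q.ResidueField L] [IsScalarTower R Q.ResidueField L]

theorem finrank_fibre_ext :
    Module.finrank L (L ⊗[R] A) = Module.rankAtStalk (R := R) A ⟨Q, hQ⟩ := by
  let e : L ⊗[Q.ResidueField] (Q.ResidueField ⊗[R] A) ≃ₗ[L] L ⊗[R] A :=
    AlgebraTensorModule.cancelBaseChange R Q.ResidueField L L A
  haveI : Module.Free Q.ResidueField (Q.ResidueField ⊗[R] A) :=
    Module.Free.of_basis (Module.Basis.ofVectorSpace Q.ResidueField (Q.ResidueField ⊗[R] A))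
  rw [← e.finrank_eq, Module.finrank_baseChange, Module.rankAtStalk_eq]

variable {n}

include hQ in
theorem finrank_sym_eq_finrank_fix (hrk : Module.rankAtStalk (R := R) A ⟨Q, hQ⟩ = n ^ 2)
    (h2 : (2 : L) ≠ 0) (φ : A →ₐ[R] Matrix (Fin n) (Fin n) L)
    (hsurj : Submodule.span L (Set.range φ) = ⊤)
    (g g' : Matrix (Fin n) (Fin n) L)
    (hφ : ∀ a, φ (t a) = g * (φ a).transpose * g') :
    Module.finrank Q.ResidueField (Submodule.span Q.ResidueField
      (Set.range fun a : {a : A // t a = a} => (1 : Q.ResidueField) ⊗ₜ[R] (a : A))) =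
    Module.finrank L (LinearMap.eqLocus (thetaLin g g') LinearMap.id) := by
  classical
  have hr1 : (Set.range fun a : {a : A // t a = a} => (1 : Q.ResidueField) ⊗ₜ[R] (a : A)) =
      (fun a => (1 : Q.ResidueField) ⊗ₜ[R] a) '' {a : A | t a = a} := by
    ext x
    simp only [Set.mem_range, Set.mem_image, Set.mem_setOf_eq, Subtype.exists, exists_prop]
  rw [hr1, ← finrank_span_tmul_eq Q L]
  -- the comparison map
  let Ψ : L ⊗[R] A →ₗ[L] Matrix (Fin n) (Fin n) L := LinearMap.liftBaseChange L φ.toLinearMap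
  have hΨ : ∀ a : A, Ψ ((1 : L) ⊗ₜ[R] a) = φ a := by
    intro a
    show LinearMap.liftBaseChange L φ.toLinearMap ((1 : L) ⊗ₜ[R] a) = φ a
    rw [LinearMap.liftBaseChange_tmul, one_smul]
    rfl
  have hΨs : Function.Surjective Ψ := by
    rw [← LinearMap.range_eq_top, eq_top_iff, ← hsurj, Submodule.span_le]
    rintro _ ⟨a, rfl⟩
    exact ⟨(1 : L) ⊗ₜ[R] a, hΨ a⟩
  have hdim : Module.finrank L (L ⊗[R] A) = Module.finrank L (Matrix (Fin n) (Fin n) L) := by
    rw [finrank_fibre_ext Q L, hrk, Module.finrank_matrix, Module.finrank_self, Fintype.card_fin,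
      mul_one, pow_two]
  haveI : Module.Finite L (L ⊗[R] A) := Module.Finite.base_change R L A
  have hΨi : Function.Injective Ψ :=
    (LinearMap.injective_iff_surjective_of_finrank_eq_finrank hdim).mpr hΨs
  let E : L ⊗[R] A ≃ₗ[L] Matrix (Fin n) (Fin n) L := LinearEquiv.ofBijective Ψ ⟨hΨi, hΨs⟩
  have hmap : (Submodule.span L ((fun a => (1 : L) ⊗ₜ[R] a) '' {a : A | t a = a})).map
      E.toLinearMap = Submodule.span L (φ '' {a : A | t a = a}) := by
    rw [Submodule.map_span, ← Set.image_comp]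
    congr 1
    ext x
    simp only [Set.mem_image, Function.comp_apply]
    constructor
    · rintro ⟨a, ha, rfl⟩
      exact ⟨a, ha, (hΨ a).symm⟩
    · rintro ⟨a, ha, rfl⟩
      exact ⟨a, ha, hΨ a⟩
  rw [← LinearEquiv.finrank_map_eq E, hmap]
  -- the span of the images of symmetric elements is the fixed space
  have hθφ : ∀ a, thetaLin g g' (φ a) = φ (t a) := fun a => by rw [thetaLin_apply, hφ]
  suffices hEq : Submodule.span L (φ '' {a : A | t a = a}) =
      LinearMap.eqLocus (thetaLin g g') LinearMap.id by rw [hEq]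
  apply le_antisymm
  · rw [Submodule.span_le]
    rintro _ ⟨a, ha, rfl⟩
    rw [Set.mem_setOf_eq] at ha
    rw [SetLike.mem_coe, LinearMap.mem_eqLocus, LinearMap.id_apply, hθφ, ha]
  · intro X hX
    rw [LinearMap.mem_eqLocus, LinearMap.id_apply] at hX
    have key : ∀ Y ∈ Submodule.span L (Set.range φ),
        Y + thetaLin g g' Y ∈ Submodule.span L (φ '' {a : A | t a = a}) := by
      intro Y hY
      refine Submodule.span_induction ?_ ?_ ?_ ?_ hY
      · rintro _ ⟨a, rfl⟩
        rw [hθφ, ← map_add]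
        refine Submodule.subset_span ⟨a + t a, ?_, rfl⟩
        rw [Set.mem_setOf_eq, t.map_add, t.invol, add_comm]
      · rw [map_zero, add_zero]
        exact Submodule.zero_mem _
      · intro Y Z _ _ hY hZ
        have e : Y + Z + thetaLin g g' (Y + Z) =
            (Y + thetaLin g g' Y) + (Z + thetaLin g g' Z) := by
          rw [map_add]; abel
        rw [e]
        exact Submodule.add_mem _ hY hZ
      · intro c Y _ hY
        have e : c • Y + thetaLin g g' (c • Y) = c • (Y + thetaLin g g' Y) := by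
          rw [map_smul, smul_add]
        rw [e]
        exact Submodule.smul_mem _ _ hY
    have hX2 := key X (by rw [hsurj]; exact Submodule.mem_top)
    rw [hX, ← two_smul L X] at hX2
    have := Submodule.smul_mem _ (2 : L)⁻¹ hX2
    rwa [smul_smul, inv_mul_cancel₀ h2, one_smul] at this

include hQ in
/-- orthogonal model ⇒ `n(n+1)/2` -/
theorem finrank_sym_of_symmetric (hrk : Module.rankAtStalk (R := R) A ⟨Q, hQ⟩ = n ^ 2)
    (h2 : (2 : L) ≠ 0) (φ : A →ₐ[R] Matrix (Fin n) (Fin n) L)
    (hsurj : Submodule.span L (Set.range φ) = ⊤)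
    (g g' : Matrix (Fin n) (Fin n) L) (hgg' : g * g' = 1) (hg : g.transpose = g)
    (hφ : ∀ a, φ (t a) = g * (φ a).transpose * g') :
    Module.finrank Q.ResidueField (Submodule.span Q.ResidueField
      (Set.range fun a : {a : A // t a = a} => (1 : Q.ResidueField) ⊗ₜ[R] (a : A))) =
    Nat.choose (n + 1) 2 := by
  rw [finrank_sym_eq_finrank_fix t Q L hrk h2 φ hsurj g g' hφ, finrank_fix_theta_sym g g' hgg' hg]

include hQ in
/-- symplectic model ⇒ `n(n-1)/2` -/
theorem finrank_sym_of_alternating (hrk : Module.rankAtStalk (R := R) A ⟨Q, hQ⟩ = n ^ 2)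
    (h2 : (2 : L) ≠ 0) (φ : A →ₐ[R] Matrix (Fin n) (Fin n) L)
    (hsurj : Submodule.span L (Set.range φ) = ⊤)
    (g g' : Matrix (Fin n) (Fin n) L) (hgg' : g * g' = 1) (hg : g.transpose = -g)
    (hφ : ∀ a, φ (t a) = g * (φ a).transpose * g') :
    Module.finrank Q.ResidueField (Submodule.span Q.ResidueField
      (Set.range fun a : {a : A // t a = a} => (1 : Q.ResidueField) ⊗ₜ[R] (a : A))) +
    Nat.choose (n + 1) 2 = n ^ 2 := by
  rw [finrank_sym_eq_finrank_fix t Q L hrk h2 φ hsurj g g' hφ,
    finrank_fix_theta_skew h2 g g' hgg' hg]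

end Core

end Groth.Agent.Lib.AzInvH6
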