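import Mathlib
import Groth.Agent.Lib.AzInv33_helper6
import Groth.Agent.Lib.AzInv31_helper6

/-!
# AzInv34 (helper6): from a matrix model of `(A, t)` over `T ⊗ R` and a prime of `T ⊗ R` over a
ramified prime `Q` of `R` to the dimension of the span of symmetric elements in the fibre at `Q`.
-/

set_option autoImplicit false
universe u v

open TensorProduct IsLocalRing

namespace Groth.Agent.Lib.AzInvH6

attribute [local instance] Algebra.TensorProduct.rightAlgebra
attribute [local instance] algT

section Bridge

variable (S : Type u) (R : Type v) [CommRing S] [CommRing R] [Algebra S R]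
  (lam : R ≃ₐ[S] R)
  (T : Type u) [CommRing T] [Algebra S T]
  (A : Type v) [Ring A] [Algebra S A] [Algebra R A] [IsScalarTower S R A] [IsAzumaya R A]
  (n : ℕ) (hrk : ∀ p : PrimeSpectrum R, Module.rankAtStalk (R := R) A p = n ^ 2)
  (t : AzInv.LamInv R A lam)

omit [IsAzumaya R A] in
theorem lamT_sub_mem (P : Ideal (T ⊗[S] R))
    (hP : ∀ r : R, algebraMap R (T ⊗[S] R) (lam r - r) ∈ P) (y : T ⊗[S] R) :
    lamT S lam T y - y ∈ P := by
  induction y using TensorProduct.induction_on with
  | zero => rw [map_zero, sub_zero]; exact P.zero_mem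
  | add x y hx hy =>
    have e : lamT S lam T (x + y) - (x + y) = (lamT S lam T x - x) + (lamT S lam T y - y) := by
      rw [map_add]; abel
    rw [e]
    exact P.add_mem hx hy
  | tmul c r =>
    have e : lamT S lam T (c ⊗ₜ[S] r) - c ⊗ₜ[S] r =
        (c ⊗ₜ[S] (1 : R)) * algebraMap R (T ⊗[S] R) (lam r - r) := by
      rw [lamT_tmul, ← TensorProduct.tmul_sub, Algebra.TensorProduct.right_algebraMap_apply,
        Algebra.TensorProduct.tmul_mul_tmul, mul_one, one_mul]
    rw [e]
    exact P.mul_mem_left _ (hP r)

include hrk in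
theorem finrank_sym_of_matInvHom
    (P : Ideal (T ⊗[S] R)) [P.IsPrime] (Q : Ideal R) [hQ : Q.IsPrime]
    (hPQ : Q = P.comap (algebraMap R (T ⊗[S] R)))
    (hram : ∀ r, lam r - r ∈ Q) (h2 : (2 : R) ∉ Q)
    (w w' : Matrix (Fin n) (Fin n) R) (hww' : w * w' = 1)
    (h : MatInvHom R lam A t n w w' T) :
    (w.transpose = w →
      Module.finrank Q.ResidueField (Submodule.span Q.ResidueField
        (Set.range fun a : {a : A // t a = a} => (1 : Q.ResidueField) ⊗ₜ[R] (a : A))) =
      Nat.choose (n + 1) 2) ∧
    (w.transpose = -w →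
      Module.finrank Q.ResidueField (Submodule.span Q.ResidueField
        (Set.range fun a : {a : A // t a = a} => (1 : Q.ResidueField) ⊗ₜ[R] (a : A))) +
      Nat.choose (n + 1) 2 = n ^ 2) := by
  classical
  haveI : Module.Finite R A := IsAzumaya.toFinite
  haveI : Module.Projective R A := IsAzumaya.toProjective
  obtain ⟨φ, hφ⟩ := h
  obtain ⟨F, hF⟩ := exists_iso_of_algHom S R T A n hrk φ
  let f : R →+* T ⊗[S] R := algebraMap R (T ⊗[S] R)
  let ρ₀ : T ⊗[S] R →+* P.ResidueField := algebraMap (T ⊗[S] R) P.ResidueField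
  letI algRL : Algebra R P.ResidueField := (ρ₀.comp f).toAlgebra
  letI algKL : Algebra Q.ResidueField P.ResidueField :=
    (Ideal.ResidueField.map Q P f hPQ).toAlgebra
  haveI : IsScalarTower R Q.ResidueField P.ResidueField :=
    IsScalarTower.of_algebraMap_eq (fun r => (Ideal.ResidueField.map_algebraMap Q P f hPQ r).symm)
  have hPr : ∀ r : R, algebraMap R (T ⊗[S] R) (lam r - r) ∈ P := by
    intro r
    have := hram r
    rw [hPQ, Ideal.mem_comap] at this
    exact this
  have hρlam : ∀ y : T ⊗[S] R, ρ₀ (lamT S lam T y) = ρ₀ y := by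
    intro y
    have h1 : ρ₀ (lamT S lam T y - y) = 0 :=
      Ideal.algebraMap_residueField_eq_zero.mpr (lamT_sub_mem S R lam T P hPr y)
    rw [map_sub, sub_eq_zero] at h1
    exact h1
  let ρA : T ⊗[S] R →ₐ[R] P.ResidueField := { ρ₀ with commutes' := fun r => rfl }
  have hρA : ∀ y, ρA y = ρ₀ y := fun y => rfl
  let φL : A →ₐ[R] Matrix (Fin n) (Fin n) P.ResidueField := ρA.mapMatrix.comp φ
  have hφL : ∀ a, φL a = (φ a).map ρ₀ := fun a => rfl
  let g : Matrix (Fin n) (Fin n) P.ResidueField := w.map (algebraMap R P.ResidueField)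
  let g' : Matrix (Fin n) (Fin n) P.ResidueField := w'.map (algebraMap R P.ResidueField)
  have hg1 : (matT R n T w).map ρ₀ = g := by
    ext i j
    rfl
  have hg2 : (matT R n T w').map ρ₀ = g' := by
    ext i j
    rfl
  have hform : ∀ a, φL (t a) = g * (φL a).transpose * g' := by
    intro a
    rw [hφL, hφ, Matrix.map_mul, Matrix.map_mul, hg1, hg2, hφL]
    congr 2
    ext i j
    rw [Matrix.map_apply, AzInv.lamTr_apply, Matrix.transpose_apply, Matrix.map_apply]
    exact hρlam _
  have hgg' : g * g' = 1 := by
    show w.map (algebraMap R P.ResidueField) * w'.map (algebraMap R P.ResidueField) = 1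
    rw [← Matrix.map_mul, hww', Matrix.map_one _ (map_zero _) (map_one _)]
  have h2L : (2 : P.ResidueField) ≠ 0 := by
    intro h0
    apply h2
    rw [hPQ, Ideal.mem_comap]
    have : ρ₀ (f 2) = 0 := by
      rw [map_ofNat, map_ofNat]
      exact h0
    exact Ideal.algebraMap_residueField_eq_zero.mp this
  have hsurj : Submodule.span P.ResidueField (Set.range φL) = ⊤ := by
    have key : ∀ x : T ⊗[S] A, (F x).map ρ₀ ∈ Submodule.span P.ResidueField (Set.range φL) := by
      intro x
      induction x using TensorProduct.induction_on with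
      | zero =>
        rw [map_zero, Matrix.map_zero _ (map_zero _)]
        exact Submodule.zero_mem _
      | add x y hx hy =>
        rw [map_add, Matrix.map_add _ (map_add _)]
        exact Submodule.add_mem _ hx hy
      | tmul c a =>
        rw [hF]
        have e : (algebraMap T (Matrix (Fin n) (Fin n) (T ⊗[S] R)) c * φ a).map ρ₀ =
            ρ₀ (c ⊗ₜ[S] (1 : R)) • φL a := by
          ext i j
          rw [Matrix.map_apply, Matrix.algebraMap_eq_diagonal, Matrix.diagonal_mul,
            Matrix.smul_apply, hφL, Matrix.map_apply, map_mul, smul_eq_mul]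
          rfl
        rw [e]
        exact Submodule.smul_mem _ _ (Submodule.subset_span ⟨a, rfl⟩)
    rw [eq_top_iff]
    intro Y _
    rw [Matrix.matrix_eq_sum_single Y]
    refine Submodule.sum_mem _ fun i _ => Submodule.sum_mem _ fun j _ => ?_
    have e : Matrix.single i j (Y i j) =
        Y i j • (F (F.symm (Matrix.single i j (1 : T ⊗[S] R)))).map ρ₀ := by
      rw [AlgEquiv.apply_symm_apply]
      ext p q
      simp [Matrix.single_apply]
    rw [e]
    exact Submodule.smul_mem _ _ (key _)
  constructor
  · intro hw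
    have hg : g.transpose = g := by
      show (w.map (algebraMap R P.ResidueField)).transpose = w.map (algebraMap R P.ResidueField)
      rw [← Matrix.transpose_map, hw]
    exact finrank_sym_of_symmetric t Q P.ResidueField (hrk ⟨Q, hQ⟩) h2L φL hsurj g g' hgg' hg hform
  · intro hw
    have hg : g.transpose = -g := by
      show (w.map (algebraMap R P.ResidueField)).transpose = -w.map (algebraMap R P.ResidueField)
      rw [← Matrix.transpose_map, hw]
      ext i j
      simp
    exact finrank_sym_of_alternating t Q P.ResidueField (hrk ⟨Q, hQ⟩) h2L φL hsurj g g' hgg' hg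
      hform

end Bridge

end Groth.Agent.Lib.AzInvH6
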