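import Mathlib
import Groth.Prelude.Def_W4c2azumayainvolQEt
import Groth.Agent.Lib.RInv_helper6
import Groth.Agent.Lib.RInv2_helper6
import Groth.Agent.Lib.RInv3_helper6
import Groth.Agent.Lib.RInv6_helper6

/-!
# Branch points of a quotient by an involution (helper6)
-/

set_option autoImplicit false
universe u v w

open TensorProduct

namespace Groth.Agent.Lib.RInv7

open Groth.Agent.Lib.RInv_helper6 Groth.Agent.Lib.RInv2 Groth.Agent.Lib.RInv3
  Groth.Agent.Lib.RInv6

variable {S : Type u} {R : Type v} [CommRing S] [CommRing R] [Algebra S R] {lam : R ≃+* R}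

/-- trace and norm -/
theorem exists_trace_norm (hlam : Function.Involutive lam) (hS : RInv.IsFixedRing S R lam)
    (x : R) : ∃ t n : S, algebraMap S R t = x + lam x ∧ algebraMap S R n = x * lam x := by
  have h1 : lam (x + lam x) = x + lam x := by rw [map_add, hlam x, add_comm]
  have h2 : lam (x * lam x) = x * lam x := by rw [map_mul, hlam x, mul_comm]
  obtain ⟨t, ht⟩ := (hS.2 _).mp h1
  obtain ⟨n, hn⟩ := (hS.2 _).mp h2
  exact ⟨t, n, ht, hn⟩

/-- `R` is integral over the fixed ring of an involution -/
theorem isIntegral (hlam : Function.Involutive lam) (hS : RInv.IsFixedRing S R lam) :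
    Algebra.IsIntegral S R := by
  constructor
  intro x
  obtain ⟨t, n, ht, hn⟩ := exists_trace_norm hlam hS x
  refine ⟨Polynomial.X ^ 2 - Polynomial.C t * Polynomial.X + Polynomial.C n, ?_, ?_⟩
  · have : (Polynomial.X ^ 2 - Polynomial.C t * Polynomial.X + Polynomial.C n : Polynomial S) =
        Polynomial.X ^ 2 + (-(Polynomial.C t * Polynomial.X) + Polynomial.C n) := by ring
    rw [this]
    apply Polynomial.monic_X_pow_add
    refine lt_of_le_of_lt (Polynomial.degree_add_le _ _) ?_
    rw [max_lt_iff]
    constructor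
    · rw [Polynomial.degree_neg]
      refine lt_of_le_of_lt (Polynomial.degree_C_mul_X_le t) (by norm_num)
    · exact lt_of_le_of_lt Polynomial.degree_C_le (by norm_num)
  · simp only [Polynomial.eval₂_add, Polynomial.eval₂_sub, Polynomial.eval₂_mul,
      Polynomial.eval₂_pow, Polynomial.eval₂_X, Polynomial.eval₂_C, ht, hn]
    ring

/-- existence of a prime over `p` -/
theorem exists_prime_over (hlam : Function.Involutive lam) (hS : RInv.IsFixedRing S R lam)
    (p : PrimeSpectrum S) :
    ∃ q : PrimeSpectrum R, q.asIdeal.comap (algebraMap S R) = p.asIdeal := by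
  have hint := isIntegral hlam hS
  have hp : p.asIdeal.IsPrime := p.isPrime
  obtain ⟨Q, _, hQ1, hQ2⟩ := Ideal.exists_ideal_over_prime_of_isIntegral p.asIdeal (⊥ : Ideal R)
    (by
      intro x hx
      rw [Ideal.mem_comap, Ideal.mem_bot] at hx
      have : x = 0 := hS.1 (by rw [hx, map_zero])
      rw [this]; exact Ideal.zero_mem _)
  exact ⟨⟨Q, hQ1⟩, hQ2⟩

/-- a prime over `p` on whose residue field `lam` is trivial is the only prime over `p` -/
theorem eq_of_comap_eq (hlam : Function.Involutive lam) (hS : RInv.IsFixedRing S R lam)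
    (p : Ideal S) (q q' : Ideal R) [hq : q.IsPrime] [hq' : q'.IsPrime]
    (hqp : q.comap (algebraMap S R) = p) (hq'p : q'.comap (algebraMap S R) = p)
    (htriv : ∀ r : R, lam r - r ∈ q) : q' = q := by
  have hstab : ∀ x, lam x ∈ q → x ∈ q := by
    intro x hx
    have := Ideal.sub_mem _ hx (htriv x)
    rwa [sub_sub_cancel] at this
  have hstab' : ∀ x, x ∈ q → lam x ∈ q := by
    intro x hx
    have := Ideal.add_mem _ hx (htriv x)
    rwa [add_sub_cancel] at this
  apply le_antisymm
  · intro x hx
    obtain ⟨t, n, ht, hn⟩ := exists_trace_norm hlam hS x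
    have h1 : algebraMap S R n ∈ q' := by rw [hn]; exact Ideal.mul_mem_right _ _ hx
    have h2 : n ∈ p := by rw [← hq'p]; exact h1
    have h3 : x * lam x ∈ q := by rw [← hn]; rw [← hqp] at h2; exact h2
    rcases hq.mem_or_mem h3 with h4 | h4
    · exact h4
    · exact hstab x h4
  · intro x hx
    obtain ⟨t, n, ht, hn⟩ := exists_trace_norm hlam hS x
    have h1 : algebraMap S R n ∈ q := by rw [hn]; exact Ideal.mul_mem_right _ _ hx
    have h2 : algebraMap S R t ∈ q := by rw [ht]; exact Ideal.add_mem _ hx (hstab' x hx)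
    have h3 : algebraMap S R n ∈ q' := by
      have : n ∈ p := by rw [← hqp]; exact h1
      rw [← hq'p] at this; exact this
    have h4 : algebraMap S R t ∈ q' := by
      have : t ∈ p := by rw [← hqp]; exact h2
      rw [← hq'p] at this; exact this
    have h5 : x * x = algebraMap S R t * x - algebraMap S R n := by rw [ht, hn]; ring
    have h6 : x * x ∈ q' := by
      rw [h5]; exact Ideal.sub_mem _ (Ideal.mul_mem_right _ _ h4) h3
    rcases hq'.mem_or_mem h6 with h7 | h7 <;> exact h7

/-- S15587 -/
theorem not_isQuadEtale_iff (hlam : Function.Involutive lam) (hS : RInv.IsFixedRing S R lam)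
    (p : PrimeSpectrum S) :
    ¬ RInv.IsQuadEtale (Localization.AtPrime p.asIdeal) (Localization.AtPrime p.asIdeal ⊗[S] R) ↔
      ∃ q : PrimeSpectrum R, q.asIdeal.comap (algebraMap S R) = p.asIdeal ∧
        (∀ q' : PrimeSpectrum R, q'.asIdeal.comap (algebraMap S R) = p.asIdeal → q' = q) ∧
        ∀ r : R, lam r - r ∈ q.asIdeal := by
  rw [isQuadEtale_atPrime_iff hlam hS p]
  constructor
  · intro h
    push_neg at h
    obtain ⟨q, hq⟩ := exists_prime_over hlam hS p
    have htriv : ∀ r : R, lam r - r ∈ q.asIdeal := by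
      intro r
      have hfixN : lam ((r - lam r) * lam (r - lam r)) = (r - lam r) * lam (r - lam r) := by
        rw [map_mul, hlam (r - lam r), mul_comm]
      obtain ⟨s0, hs0⟩ := (hS.2 _).mp hfixN
      have h1 : s0 ∈ p.asIdeal := h r s0 hs0
      have h2 : algebraMap S R s0 ∈ q.asIdeal := by rw [← hq] at h1; exact h1
      have h3 : (lam r - r) * (lam r - r) = -(algebraMap S R s0) := by
        rw [hs0, map_sub, hlam r]; ring
      have h4 : (lam r - r) * (lam r - r) ∈ q.asIdeal := by
        rw [h3]; exact Ideal.neg_mem_iff _ |>.mpr h2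
      rcases q.isPrime.mem_or_mem h4 with h5 | h5 <;> exact h5
    refine ⟨q, hq, ?_, htriv⟩
    intro q' hq'
    have hqi : q.asIdeal.IsPrime := q.isPrime
    have hq'i : q'.asIdeal.IsPrime := q'.isPrime
    exact PrimeSpectrum.ext (eq_of_comap_eq hlam hS p.asIdeal q.asIdeal q'.asIdeal hq hq' htriv)
  · rintro ⟨q, hq, _, htriv⟩ ⟨r, s0, hs0, hnot⟩
    apply hnot
    rw [← hq, Ideal.mem_comap, hs0]
    apply Ideal.mul_mem_right
    have := htriv r
    have e : r - lam r = -(lam r - r) := by ring
    rw [e]; exact Ideal.neg_mem_iff _ |>.mpr this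

end Groth.Agent.Lib.RInv7
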