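import Mathlib
import Groth.Agent.Lib.AzInv34_helper6
import Groth.Agent.Lib.RInv7_helper6

/-!
# AzInv35 (helper6): local forms of involutions at the strict henselisations when `2` is a unit, and
their relation with the dimension of the span of symmetric elements (the orthogonal / symplectic
sign) at ramified primes.
-/

set_option autoImplicit false
set_option maxSynthPendingDepth 3
universe u v

open TensorProduct IsLocalRing Polynomial

namespace Groth.Agent.Lib.AzInvH6

attribute [local instance] Algebra.TensorProduct.rightAlgebra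
attribute [local instance] algT

section Hensel

/-- units of a strictly henselian local ring with `2` invertible are squares -/
theorem exists_sqrt_of_henselian (T : Type*) [CommRing T] [HenselianLocalRing T]
    [IsSepClosed (ResidueField T)] (h2 : IsUnit (2 : T)) (b : Tˣ) : ∃ y : T, y * y = b := by
  haveI : NeZero (2 : ResidueField T) := ⟨by
    intro h0
    have h1 : residue T 2 = 0 := by rw [map_ofNat]; exact h0
    rw [residue_eq_zero_iff] at h1
    exact (mem_maximalIdeal _).mp h1 h2⟩
  obtain ⟨z, hz⟩ := IsSepClosed.exists_eq_mul_self (residue T (b : T))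
  obtain ⟨a₀, rfl⟩ := residue_surjective z
  have hbu : residue T (b : T) ≠ 0 := by
    intro h0
    rw [residue_eq_zero_iff] at h0
    exact (mem_maximalIdeal _).mp h0 b.isUnit
  have ha₀ : IsUnit a₀ := by
    by_contra hnu
    have : residue T a₀ = 0 := (residue_eq_zero_iff _).mpr ((mem_maximalIdeal _).mpr hnu)
    rw [this, mul_zero] at hz
    exact hbu hz
  let f : T[X] := X ^ 2 - C (b : T)
  have hf : f.Monic := monic_X_pow_sub_C _ (by norm_num)
  have h1 : f.eval a₀ ∈ maximalIdeal T := by
    rw [← residue_eq_zero_iff]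
    simp only [f, eval_sub, eval_pow, eval_X, eval_C, map_sub, map_pow, hz]
    ring
  have h3 : IsUnit (f.derivative.eval a₀) := by
    have : f.derivative.eval a₀ = 2 * a₀ := by
      simp only [f, derivative_sub, derivative_X_pow, derivative_C, sub_zero, eval_mul, eval_C,
        eval_pow, eval_X, Nat.cast_ofNat]
      norm_num
    rw [this]
    exact h2.mul ha₀
  obtain ⟨a, ha, -⟩ := HenselianLocalRing.is_henselian f hf a₀ h1 h3
  refine ⟨a, ?_⟩
  have : a ^ 2 - (b : T) = 0 := by
    simpa only [f, IsRoot.def, eval_sub, eval_pow, eval_X, eval_C] using ha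
  rw [← sq]
  exact sub_eq_zero.mp this

end Hensel

section Ram

variable (S : Type u) (R : Type v) [CommRing S] [CommRing R] [Algebra S R]
  (lam : R ≃ₐ[S] R) (hlam : ∀ r, lam (lam r) = r) (hfix : RInv.IsFixedRing S R lam.toRingEquiv)
  (T : Type u) [CommRing T] [Algebra S T] [Module.Flat S T] [IsLocalRing T]
include hlam hfix

/-- over a local base lying over `q`, every maximal ideal of `T ⊗ R` lies over the ramified
prime `Q` over `q` -/
theorem comap_eq_of_ramified (q : Ideal S) (hT : (maximalIdeal T).comap (algebraMap S T) = q)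
    (Q : Ideal R) [Q.IsPrime] (hQq : Q.comap (algebraMap S R) = q)
    (hram : ∀ r, lam r - r ∈ Q) (P : Ideal (T ⊗[S] R)) [P.IsMaximal] :
    P.comap (algebraMap R (T ⊗[S] R)) = Q := by
  have hinv : Function.Involutive (lamT S lam T).toRingEquiv := fun x => lamT_invol S lam T hlam x
  have hfixT : RInv.IsFixedRing T (T ⊗[S] R) (lamT S lam T).toRingEquiv :=
    isFixedRing_lamT S R lam hlam hfix T
  haveI : Algebra.IsIntegral T (T ⊗[S] R) := Groth.Agent.Lib.RInv7.isIntegral hinv hfixT
  have h1 : P.comap (algebraMap T (T ⊗[S] R)) = maximalIdeal T := by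
    haveI : (P.comap (algebraMap T (T ⊗[S] R))).IsMaximal :=
      Ideal.isMaximal_comap_of_isIntegral_of_isMaximal P
    exact IsLocalRing.eq_maximalIdeal inferInstance
  have h2 : (P.comap (algebraMap R (T ⊗[S] R))).comap (algebraMap S R) = q := by
    rw [← hT, ← h1, Ideal.comap_comap, Ideal.comap_comap]
    congr 1
    ext s
    simp only [RingHom.comp_apply, Algebra.TensorProduct.right_algebraMap_apply,
      Algebra.TensorProduct.algebraMap_apply, Algebra.algebraMap_self_apply]
    rw [Algebra.algebraMap_eq_smul_one, Algebra.algebraMap_eq_smul_one (A := T),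
      TensorProduct.tmul_smul, TensorProduct.smul_tmul']
  have hinv' : Function.Involutive lam.toRingEquiv := fun r => hlam r
  exact Groth.Agent.Lib.RInv7.eq_of_comap_eq hinv' hfix q Q
    (P.comap (algebraMap R (T ⊗[S] R))) hQq h2 hram

theorem lamT_sub_mem_jacobson (q : Ideal S) (hT : (maximalIdeal T).comap (algebraMap S T) = q)
    (Q : Ideal R) [Q.IsPrime] (hQq : Q.comap (algebraMap S R) = q)
    (hram : ∀ r, lam r - r ∈ Q) (a : T ⊗[S] R) :
    lamT S lam T a - a ∈ Ring.jacobson (T ⊗[S] R) := by
  rw [← Ideal.jacobson_bot, Ideal.jacobson, Ideal.mem_sInf]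
  rintro P ⟨-, hP⟩
  haveI := hP
  refine lamT_sub_mem S R lam T P (fun r => ?_) a
  have h := comap_eq_of_ramified S R lam hlam hfix T q hT Q hQq hram P
  have := hram r
  rw [← h, Ideal.mem_comap] at this
  exact this

end Ram

section Forms

variable (S : Type u) (R : Type v) [CommRing S] [CommRing R] [Algebra S R]
  (lam : R ≃ₐ[S] R) (hlam : ∀ r, lam (lam r) = r) (hfix : RInv.IsFixedRing S R lam.toRingEquiv)
  (A : Type v) [Ring A] [Algebra S A] [Algebra R A] [IsScalarTower S R A] [IsAzumaya R A]
  (n : ℕ) (hn : 0 < n) (hrk : ∀ p : PrimeSpectrum R, Module.rankAtStalk (R := R) A p = n ^ 2)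
  (t : AzInv.LamInv R A lam)
include hlam hfix hn hrk

/-- a prime `q` of `S` is either unramified or has a (unique) ramified prime above it -/
theorem unramAt_or_ramified (q : Ideal S) [hq : q.IsPrime] :
    UnramAt S R lam q ∨ ∃ Q : Ideal R, Q.IsPrime ∧ Q.comap (algebraMap S R) = q ∧
      ∀ r, lam r - r ∈ Q := by
  have hinv' : Function.Involutive lam.toRingEquiv := fun r => hlam r
  by_cases h : UnramAt S R lam q
  · exact Or.inl h
  · right
    have h1 : ¬ RInv.IsQuadEtale (Localization.AtPrime q) (Localization.AtPrime q ⊗[S] R) := by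
      intro h2
      exact h ((Groth.Agent.Lib.RInv6.isQuadEtale_atPrime_iff hinv' hfix ⟨q, hq⟩).mp h2)
    obtain ⟨Q, hQ1, -, hQ3⟩ :=
      (Groth.Agent.Lib.RInv7.not_isQuadEtale_iff hinv' hfix ⟨q, hq⟩).mp h1
    exact ⟨Q.asIdeal, Q.isPrime, hQ1, hQ3⟩

/-- local form of an involution at a strict henselisation, `2` invertible -/
theorem local_form (h2 : IsUnit (2 : S)) (q : Ideal S) [hq : q.IsPrime] :
    MatInvHom R lam A t n 1 1 (ShQ S q) ∨
      (Even n ∧ MatInvHom R lam A t n (Jn R n) (-Jn R n) (ShQ S q)) := by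
  have h2T : IsUnit (2 : ShQ S q) := by
    have := h2.map (algebraMap S (ShQ S q))
    rwa [map_ofNat] at this
  have hsqT : ∀ b : (ShQ S q)ˣ, ∃ y : ShQ S q, y * y = b :=
    exists_sqrt_of_henselian (ShQ S q) h2T
  have hsplit := matHom_sh S R lam hlam hfix A n hn hrk q
  rcases unramAt_or_ramified S R lam hlam hfix A n hn hrk q with h | ⟨Q, hQ, hQq, hram⟩
  · left
    exact matInvHom_one_of_local S R lam hlam hfix (ShQ S q) A n hn hrk t hsqT hsplit
      (Or.inl (exists_isUnit_sub_lamT S R lam q (ShQ S q) (comap_maximalIdeal_shq S q) h))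
  · haveI := hQ
    exact matInvHom_of_local_ramified S R lam hlam hfix (ShQ S q) A n hn hrk t h2T hsqT hsplit
      (lamT_sub_mem_jacobson S R lam hlam hfix (ShQ S q) q (comap_maximalIdeal_shq S q) Q hQq hram)

end Forms

end Groth.Agent.Lib.AzInvH6
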