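import Mathlib
import Groth.Agent.Lib.AzInv35_helper6

/-!
# AzInv36 (helper6): the orthogonal / symplectic sign at a ramified prime versus the local form at
the strict henselisation.
-/

set_option autoImplicit false
set_option maxSynthPendingDepth 3
universe u v

open TensorProduct IsLocalRing

namespace Groth.Agent.Lib.AzInvH6

attribute [local instance] Algebra.TensorProduct.rightAlgebra
attribute [local instance] algT

theorem J2_transpose (R : Type*) [Ring R] : (J2 R).transpose = -J2 R := by
  ext a b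
  fin_cases a <;> fin_cases b <;> simp [J2]

theorem Jn_transpose (R : Type*) [Ring R] (n : ℕ) : (Jn R n).transpose = -Jn R n := by
  ext i j
  simp only [Jn, Matrix.transpose_apply, Matrix.of_apply, Matrix.neg_apply]
  by_cases h : i.val / 2 = j.val / 2
  · rw [if_pos h, if_pos h.symm]
    have := congrFun (congrFun (J2_transpose R) ⟨i.val % 2, Nat.mod_lt _ two_pos⟩)
      ⟨j.val % 2, Nat.mod_lt _ two_pos⟩
    rw [Matrix.transpose_apply, Matrix.neg_apply] at this
    exact this
  · rw [if_neg h, if_neg (fun h' => h h'.symm), neg_zero]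

theorem two_mul_choose_succ (n : ℕ) : 2 * Nat.choose (n + 1) 2 = n ^ 2 + n := by
  rw [Nat.choose_two_right, Nat.add_sub_cancel]
  have h : 2 ∣ (n + 1) * n := (Nat.even_mul_pred_self (n + 1)).two_dvd
  rw [Nat.mul_div_cancel' h]
  ring

section Sign

variable (S : Type u) (R : Type v) [CommRing S] [CommRing R] [Algebra S R]
  (lam : R ≃ₐ[S] R) (hlam : ∀ r, lam (lam r) = r) (hfix : RInv.IsFixedRing S R lam.toRingEquiv)
  (A : Type v) [Ring A] [Algebra S A] [Algebra R A] [IsScalarTower S R A] [IsAzumaya R A]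
  (n : ℕ) (hn : 0 < n) (hrk : ∀ p : PrimeSpectrum R, Module.rankAtStalk (R := R) A p = n ^ 2)
  (t : AzInv.LamInv R A lam)
include hlam hfix hrk

theorem sign_of_forms (h2 : IsUnit (2 : S)) (q : Ideal S) [hq : q.IsPrime]
    (Q : Ideal R) [hQ : Q.IsPrime] (hQq : Q.comap (algebraMap S R) = q)
    (hram : ∀ r, lam r - r ∈ Q) :
    (MatInvHom R lam A t n 1 1 (ShQ S q) →
      Module.finrank Q.ResidueField (Submodule.span Q.ResidueField
        (Set.range fun a : {a : A // t a = a} => (1 : Q.ResidueField) ⊗ₜ[R] (a : A))) =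
      Nat.choose (n + 1) 2) ∧
    ((Even n ∧ MatInvHom R lam A t n (Jn R n) (-Jn R n) (ShQ S q)) →
      Module.finrank Q.ResidueField (Submodule.span Q.ResidueField
        (Set.range fun a : {a : A // t a = a} => (1 : Q.ResidueField) ⊗ₜ[R] (a : A))) +
      Nat.choose (n + 1) 2 = n ^ 2) := by
  have hfixT : RInv.IsFixedRing (ShQ S q) (ShQ S q ⊗[S] R) (lamT S lam (ShQ S q)).toRingEquiv :=
    isFixedRing_lamT S R lam hlam hfix (ShQ S q)
  haveI : Nontrivial (ShQ S q ⊗[S] R) := hfixT.1.nontrivial
  obtain ⟨P, hP⟩ := Ideal.exists_maximal (ShQ S q ⊗[S] R)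
  haveI := hP
  have hPQ : Q = P.comap (algebraMap R (ShQ S q ⊗[S] R)) :=
    (comap_eq_of_ramified S R lam hlam hfix (ShQ S q) q (comap_maximalIdeal_shq S q) Q hQq hram
      P).symm
  have h2R : (2 : R) ∉ Q := by
    intro hmem
    have hu : IsUnit (2 : R) := by
      have := h2.map (algebraMap S R)
      rwa [map_ofNat] at this
    exact hQ.ne_top (Ideal.eq_top_of_isUnit_mem _ hmem hu)
  constructor
  · intro h
    exact (finrank_sym_of_matInvHom S R lam (ShQ S q) A n hrk t P Q hPQ hram h2R 1 1 (one_mul 1)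
      h).1 Matrix.transpose_one
  · rintro ⟨he, h⟩
    exact (finrank_sym_of_matInvHom S R lam (ShQ S q) A n hrk t P Q hPQ hram h2R (Jn R n)
      (-Jn R n) (Jn_mul_neg' R he) h).2 (Jn_transpose R n)

include hn in
theorem orth_iff (h2 : IsUnit (2 : S)) (q : Ideal S) [hq : q.IsPrime]
    (Q : Ideal R) [hQ : Q.IsPrime] (hQq : Q.comap (algebraMap S R) = q)
    (hram : ∀ r, lam r - r ∈ Q) :
    Module.finrank Q.ResidueField (Submodule.span Q.ResidueField
        (Set.range fun a : {a : A // t a = a} => (1 : Q.ResidueField) ⊗ₜ[R] (a : A))) =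
      Nat.choose (n + 1) 2 ↔ MatInvHom R lam A t n 1 1 (ShQ S q) := by
  have hs := sign_of_forms S R lam hlam hfix A n hrk t h2 q Q hQq hram
  constructor
  · intro h
    rcases local_form S R lam hlam hfix A n hn hrk t h2 q with h1 | h1
    · exact h1
    · exfalso
      have h3 := hs.2 h1
      rw [h] at h3
      have h4 := two_mul_choose_succ n
      omega
  · exact hs.1

include hn in
theorem symp_iff (h2 : IsUnit (2 : S)) (q : Ideal S) [hq : q.IsPrime]
    (Q : Ideal R) [hQ : Q.IsPrime] (hQq : Q.comap (algebraMap S R) = q)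
    (hram : ∀ r, lam r - r ∈ Q) :
    ¬ Module.finrank Q.ResidueField (Submodule.span Q.ResidueField
        (Set.range fun a : {a : A // t a = a} => (1 : Q.ResidueField) ⊗ₜ[R] (a : A))) =
      Nat.choose (n + 1) 2 ↔ (Even n ∧ MatInvHom R lam A t n (Jn R n) (-Jn R n) (ShQ S q)) := by
  have hs := sign_of_forms S R lam hlam hfix A n hrk t h2 q Q hQq hram
  constructor
  · intro h
    rcases local_form S R lam hlam hfix A n hn hrk t h2 q with h1 | h1
    · exact absurd (hs.1 h1) h
    · exact h1
  · intro h1 h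
    have h3 := hs.2 h1
    rw [h] at h3
    have h4 := two_mul_choose_succ n
    omega

end Sign

end Groth.Agent.Lib.AzInvH6
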