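import Mathlib
import Groth.Agent.Lib.AzInv31_helper6

/-!
# AzInv37 (helper6): amplification: a matrix model of `(A, t)` gives a matrix model of
`(M_m(A), t.matrix)`, with block diagonal form.
-/

set_option autoImplicit false
universe u v w'

open TensorProduct

namespace Groth.Agent.Lib.AzInvH6

attribute [local instance] Algebra.TensorProduct.rightAlgebra

section Amp

variable {B : Type*} {C : Type*}

/-- block diagonal amplification `diag(w, …, w)` indexed by `Fin (m * n)` -/
def amp (m : ℕ) {n : ℕ} [Zero B] (w : Matrix (Fin n) (Fin n) B) :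
    Matrix (Fin (m * n)) (Fin (m * n)) B :=
  Matrix.of fun k l => if (finProdFinEquiv.symm k).1 = (finProdFinEquiv.symm l).1 then
    w (finProdFinEquiv.symm k).2 (finProdFinEquiv.symm l).2 else 0

theorem amp_apply (m : ℕ) {n : ℕ} [Zero B] (w : Matrix (Fin n) (Fin n) B) (k l : Fin (m * n)) :
    amp m w k l = if (finProdFinEquiv.symm k).1 = (finProdFinEquiv.symm l).1 then
      w (finProdFinEquiv.symm k).2 (finProdFinEquiv.symm l).2 else 0 := rfl

theorem amp_one (m n : ℕ) [Zero B] [One B] : amp m (1 : Matrix (Fin n) (Fin n) B) = 1 := by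
  ext k l
  rw [amp_apply]
  by_cases h : k = l
  · subst h
    simp
  · rw [Matrix.one_apply_ne h]
    by_cases h1 : (finProdFinEquiv.symm k).1 = (finProdFinEquiv.symm l).1
    · rw [if_pos h1, Matrix.one_apply_ne]
      intro h2
      exact h (finProdFinEquiv.symm.injective (Prod.ext h1 h2))
    · rw [if_neg h1]

theorem amp_map (m : ℕ) {n : ℕ} [Zero B] [Zero C] (f : B → C) (hf : f 0 = 0)
    (w : Matrix (Fin n) (Fin n) B) : (amp m w).map f = amp m (w.map f) := by
  ext k l
  rw [Matrix.map_apply, amp_apply, amp_apply]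
  split_ifs
  · rfl
  · exact hf

theorem amp_neg (m : ℕ) {n : ℕ} [NegZeroClass B] (w : Matrix (Fin n) (Fin n) B) :
    amp m (-w) = -amp m w := by
  ext k l
  rw [Matrix.neg_apply, amp_apply, amp_apply]
  split_ifs
  · rfl
  · exact neg_zero.symm

theorem amp_Jn (R : Type*) [Ring R] (m : ℕ) {n : ℕ} (hn : Even n) :
    amp m (Jn R n) = Jn R (m * n) := by
  obtain ⟨r, rfl⟩ := hn
  have hr : r + r = 2 * r := by ring
  ext k l
  rw [amp_apply]
  simp only [Jn, Matrix.of_apply, finProdFinEquiv_symm_apply, Fin.coe_modNat]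
  have hk : ∀ x : ℕ, x % (r + r) / 2 = x / 2 % r := by
    intro x
    rw [hr, Nat.mod_mul_right_div_self]
  have hk2 : ∀ x : ℕ, x % (r + r) % 2 = x % 2 := by
    intro x
    rw [hr]
    exact Nat.mod_mod_of_dvd x (Dvd.intro r rfl)
  have hk3 : ∀ x : ℕ, x / (r + r) = x / 2 / r := by
    intro x
    rw [hr, Nat.div_div_eq_div_mul]
  have hiff : ((k.divNat = l.divNat) ∧ (k.val % (r + r) / 2 = l.val % (r + r) / 2)) ↔
      k.val / 2 = l.val / 2 := by
    rw [Fin.ext_iff, Fin.coe_divNat, Fin.coe_divNat, hk, hk, hk3, hk3]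
    constructor
    · rintro ⟨h1, h2⟩
      rw [← Nat.div_add_mod (k.val / 2) r, ← Nat.div_add_mod (l.val / 2) r, h1, h2]
    · intro h
      rw [h]
      exact ⟨rfl, rfl⟩
  by_cases h : k.val / 2 = l.val / 2
  · obtain ⟨h1, h2⟩ := hiff.mpr h
    rw [if_pos h1, if_pos h2, if_pos h]
    congr 1 <;> exact Fin.ext (hk2 _)
  · rw [if_neg h]
    by_cases h1 : k.divNat = l.divNat
    · rw [if_pos h1, if_neg]
      intro h2
      exact h (hiff.mp ⟨h1, h2⟩)
    · rw [if_neg h1]

variable (K : Type*) [CommSemiring K] [Semiring B] [Algebra K B]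

/-- `M_m(M_n(B)) → M_{mn}(B)` -/
def ampHom (m n : ℕ) :
    Matrix (Fin m) (Fin m) (Matrix (Fin n) (Fin n) B) →ₐ[K] Matrix (Fin (m * n)) (Fin (m * n)) B :=
  (Matrix.reindexAlgEquiv K B finProdFinEquiv).toAlgHom.comp
    (Matrix.compAlgEquiv (Fin m) (Fin n) B K).toAlgHom

theorem ampHom_apply (m n : ℕ) (Y : Matrix (Fin m) (Fin m) (Matrix (Fin n) (Fin n) B))
    (k l : Fin (m * n)) :
    ampHom K m n Y k l = Y (finProdFinEquiv.symm k).1 (finProdFinEquiv.symm l).1
      (finProdFinEquiv.symm k).2 (finProdFinEquiv.symm l).2 := rfl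

theorem ampHom_diagonal (m n : ℕ) (W : Matrix (Fin n) (Fin n) B) :
    ampHom K m n (Matrix.diagonal fun _ => W) = amp m W := by
  ext k l
  rw [ampHom_apply, amp_apply, Matrix.diagonal_apply]
  split_ifs
  · rfl
  · rfl

end Amp

section Main

variable {S : Type u} [CommRing S] {R : Type v} [CommRing R] [Algebra S R] {lam : R ≃ₐ[S] R}
  {A : Type w'} [Ring A] [Algebra R A] {t : AzInv.LamInv R A lam} {n : ℕ}
  {w w' : Matrix (Fin n) (Fin n) R} {T : Type u} [CommRing T] [Algebra S T]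

theorem MatInvHom.amp (m : ℕ) (h : MatInvHom R lam A t n w w' T) :
    MatInvHom R lam (Matrix (Fin m) (Fin m) A) (t.matrix (Fin m)) (m * n) (amp m w) (amp m w')
      T := by
  obtain ⟨φ, hφ⟩ := h
  refine ⟨(ampHom R m n).comp φ.mapMatrix, fun X => ?_⟩
  have e1 : ∀ v : Matrix (Fin n) (Fin n) R,
      matT (S := S) R (m * n) T (Groth.Agent.Lib.AzInvH6.amp m v) =
      ampHom R m n (Matrix.diagonal fun _ : Fin m => matT (S := S) R n T v) := by
    intro v
    rw [ampHom_diagonal]
    exact amp_map m _ (map_zero _) v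
  have e3 : AzInv.lamTr (lamT S lam T) (ampHom R m n (φ.mapMatrix X)) =
      ampHom R m n (Matrix.of fun i j => AzInv.lamTr (lamT S lam T) (φ (X j i))) := by
    ext k l
    rfl
  rw [AlgHom.comp_apply, AlgHom.comp_apply, e1, e1, e3, ← map_mul, ← map_mul]
  congr 1
  ext i j : 1
  rw [Matrix.mul_diagonal, Matrix.diagonal_mul]
  exact hφ (X j i)

end Main

end Groth.Agent.Lib.AzInvH6
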