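import Mathlib
import Groth.Agent.Lib.AzInv36_helper6
import Groth.Agent.Lib.AzInv37_helper6

/-!
# AzInv38 (helper6): two algebras with involution having the same matrix model at every strict
henselisation are locally isomorphic for the etale topology.
-/

set_option autoImplicit false
set_option maxSynthPendingDepth 3
universe u v

open TensorProduct IsLocalRing

namespace Groth.Agent.Lib.AzInvH6

attribute [local instance] Algebra.TensorProduct.rightAlgebra
attribute [local instance] algT

section Pair

variable (S : Type u) (R : Type v) [CommRing S] [CommRing R] [Algebra S R]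
  (lam : R ≃ₐ[S] R)
  (A : Type v) [Ring A] [Algebra S A] [Algebra R A] [IsScalarTower S R A] [IsAzumaya R A]
  (A' : Type v) [Ring A'] [Algebra S A'] [Algebra R A'] [IsScalarTower S R A'] [IsAzumaya R A']
  (n : ℕ) (hrk : ∀ p : PrimeSpectrum R, Module.rankAtStalk (R := R) A p = n ^ 2)
  (hrk' : ∀ p : PrimeSpectrum R, Module.rankAtStalk (R := R) A' p = n ^ 2)
  (t : AzInv.LamInv R A lam) (t' : AzInv.LamInv R A' lam) (w w' : Matrix (Fin n) (Fin n) R)

/-- the property "both `(A, t)` and `(A', t')` have the model `(w, w')` over `T`" -/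
noncomputable def pairProp : DescProp S :=
  haveI : Module.Finite R A := IsAzumaya.toFinite
  haveI : Module.Projective R A := IsAzumaya.toProjective
  haveI : Module.Finite R A' := IsAzumaya.toFinite
  haveI : Module.Projective R A' := IsAzumaya.toProjective
  { P := fun T _ _ => MatInvHom R lam A t n w w' T ∧ MatInvHom R lam A' t' n w w' T
    map := fun g h => ⟨h.1.map g, h.2.map g⟩
    descend := fun D h => by
      obtain ⟨i₁, h₁⟩ := h.1.descend D
      obtain ⟨i₂, h₂⟩ := h.2.descend D
      obtain ⟨j, hj₁, hj₂⟩ := exists_ge_ge i₁ i₂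
      exact ⟨j, h₁.map (D.tr hj₁), h₂.map (D.tr hj₂)⟩ }

include hrk hrk' in
theorem locIsoEt_of_forms
    (h : ∀ (q : Ideal S) [q.IsPrime],
      MatInvHom R lam A t n w w' (ShQ S q) ∧ MatInvHom R lam A' t' n w w' (ShQ S q)) :
    AzInv.LocIsoEt S lam t t' := by
  obtain ⟨S', i1, i2, i3, i4, hS'⟩ := (pairProp S R lam A A' n t t' w w').exists_cover_of_shq h
    (fun ι _ _ T _ _ _ hT => ⟨MatInvHom.pi T (fun i => (hT i).1), MatInvHom.pi T (fun i => (hT i).2)⟩)
  obtain ⟨f, hf1, hf2⟩ := isoAt_of_matInvHom S R lam S' A A' n hrk hrk' t t' w w' hS'.1 hS'.2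
  exact ⟨S', i1, i2, i3, i4, f, hf1, hf2⟩

end Pair

end Groth.Agent.Lib.AzInvH6
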