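import Mathlib
import Groth.Agent.Lib.AzInv38_helper6
import Groth.Agent.Lib.LGAz6_helper6
import Groth.Agent.S17362

/-!
# AzInv39 (helper6): everywhere ramified, connected spectrum, `2` invertible: an involution is
locally the transpose (orthogonal) or the standard symplectic involution.
-/

set_option autoImplicit false
set_option maxSynthPendingDepth 3
universe u v w

open TensorProduct IsLocalRing

namespace Groth.Agent.Lib.AzInvH6

attribute [local instance] Algebra.TensorProduct.rightAlgebra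
attribute [local instance] algT

section NegSwap

variable {S : Type u} [CommRing S] {R : Type v} [CommRing R] [Algebra S R] {lam : R ≃ₐ[S] R}
  {A : Type*} [Ring A] [Algebra R A] {t : AzInv.LamInv R A lam} {n : ℕ}
  {T : Type u} [CommRing T] [Algebra S T]

theorem MatInvHom.neg_swap {v v' : Matrix (Fin n) (Fin n) R}
    (h : MatInvHom R lam A t n (-v) v' T) : MatInvHom R lam A t n v (-v') T := by
  obtain ⟨φ, hφ⟩ := h
  refine ⟨φ, fun a => ?_⟩
  rw [hφ a]
  have e1 : matT (S := S) R n T (-v) = -matT R n T v := map_neg _ _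
  have e2 : matT (S := S) R n T (-v') = -matT R n T v' := map_neg _ _
  rw [e1, e2, neg_mul, neg_mul, mul_neg]

end NegSwap

theorem Jn_two (R : Type*) [Ring R] : Jn R 2 = J2 R := by
  ext i j
  fin_cases i <;> fin_cases j <;> simp [Jn, J2]

section Connected

variable (S : Type u) (R : Type v) [CommRing S] [CommRing R] [Algebra S R]
  (lam : R ≃ₐ[S] R) (hlam : ∀ r, lam (lam r) = r) (hfix : RInv.IsFixedRing S R lam.toRingEquiv)
  (A : Type v) [Ring A] [Algebra S A] [Algebra R A] [IsScalarTower S R A] [IsAzumaya R A]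
  (n : ℕ) (hn : 0 < n) (hrk : ∀ p : PrimeSpectrum R, Module.rankAtStalk (R := R) A p = n ^ 2)
  (t : AzInv.LamInv R A lam)
include hlam hfix hn hrk

theorem forms_of_connected (h2 : IsUnit (2 : S)) [ConnectedSpace (PrimeSpectrum R)]
    (hallram : ∀ (Q : PrimeSpectrum R) (r : R), lam r - r ∈ Q.asIdeal) :
    (∀ (q : Ideal S) [q.IsPrime], MatInvHom R lam A t n 1 1 (ShQ S q)) ∨
    (∀ (q : Ideal S) [q.IsPrime],
      Even n ∧ MatInvHom R lam A t n (Jn R n) (-Jn R n) (ShQ S q)) := by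
  have hinv' : Function.Involutive lam.toRingEquiv := fun r => hlam r
  have hA : AzInv.IsAzumayaDeg R A n := ⟨inferInstance, hrk⟩
  let σ : Set (PrimeSpectrum R) := {Q | Module.finrank Q.asIdeal.ResidueField
    (Submodule.span Q.asIdeal.ResidueField
      (Set.range fun a : {a : A // t a = a} => (1 : Q.asIdeal.ResidueField) ⊗ₜ[R] (a : A))) =
    Nat.choose (n + 1) 2}
  have hloc : ∀ Q : PrimeSpectrum R, ∃ f : R, f ∉ Q.asIdeal ∧
      ∀ Q' : PrimeSpectrum R, f ∉ Q'.asIdeal → (Q' ∈ σ ↔ Q ∈ σ) := by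
    intro Q
    obtain ⟨f, hf, hf'⟩ := Groth.Agent.S17362.result S R lam hlam hfix h2 A n hn hA t Q (hallram Q)
    exact ⟨f, hf, fun Q' hQ' => hf' Q' (hallram Q') hQ'⟩
  have hopen : IsOpen σ := by
    rw [isOpen_iff_forall_mem_open]
    intro Q hQ
    obtain ⟨f, hf, hf'⟩ := hloc Q
    exact ⟨PrimeSpectrum.basicOpen f, fun Q' hQ' => (hf' Q' hQ').mpr hQ,
      (PrimeSpectrum.basicOpen f).isOpen, hf⟩
  have hopen' : IsOpen σᶜ := by
    rw [isOpen_iff_forall_mem_open]
    intro Q hQ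
    obtain ⟨f, hf, hf'⟩ := hloc Q
    exact ⟨PrimeSpectrum.basicOpen f, fun Q' hQ' hmem => hQ ((hf' Q' hQ').mp hmem),
      (PrimeSpectrum.basicOpen f).isOpen, hf⟩
  have hclopen : IsClopen σ := ⟨⟨hopen'⟩, hopen⟩
  rcases isClopen_iff.mp hclopen with h | h
  · right
    intro q hq
    obtain ⟨Q, hQ⟩ := Groth.Agent.Lib.RInv7.exists_prime_over hinv' hfix ⟨q, hq⟩
    haveI := Q.isPrime
    refine (symp_iff S R lam hlam hfix A n hn hrk t h2 q Q.asIdeal hQ (hallram Q)).mp ?_
    intro hmem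
    have : Q ∈ σ := hmem
    rw [h] at this
    exact this
  · left
    intro q hq
    obtain ⟨Q, hQ⟩ := Groth.Agent.Lib.RInv7.exists_prime_over hinv' hfix ⟨q, hq⟩
    haveI := Q.isPrime
    refine (orth_iff S R lam hlam hfix A n hn hrk t h2 q Q.asIdeal hQ (hallram Q)).mp ?_
    have : Q ∈ σ := by rw [h]; exact Set.mem_univ _
    exact this

end Connected

section Models

variable (S : Type u) (R : Type v) [CommRing S] [CommRing R] [Algebra S R]
  (lam : R ≃ₐ[S] R) (hlam : ∀ r, lam (lam r) = r)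

/-- the standard symplectic model `M_k(M_2(R))` has the form `(J, -J)` -/
theorem matInvHom_symp (J : (Matrix (Fin 2) (Fin 2) R)ˣ)
    (hJ : (↑J : Matrix (Fin 2) (Fin 2) R) = Matrix.of ![![0, -1], ![1, 0]])
    (hJt : AzInv.LamInv.transpose lam (Fin 2) hlam (↑J : Matrix (Fin 2) (Fin 2) R) =
      (-1 : R) • (↑J : Matrix (Fin 2) (Fin 2) R))
    (hneg : lam (-1) * (-1) = 1) (k : ℕ) (T : Type u) [CommRing T] [Algebra S T] :
    MatInvHom R lam (Matrix (Fin k) (Fin k) (Matrix (Fin 2) (Fin 2) R))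
      (((AzInv.LamInv.transpose lam (Fin 2) hlam).conj J (-1) hJt hneg).matrix (Fin k)) (k * 2)
      (Jn R (k * 2)) (-Jn R (k * 2)) T := by
  have h0 := matInvHom_conj R lam hlam 2 T J (-1) hJt hneg
  have e1 : (↑J : Matrix (Fin 2) (Fin 2) R) = -Jn R 2 := by
    rw [hJ, Jn_two]
    ext i j
    fin_cases i <;> fin_cases j <;> simp [J2]
  have e2 : ((J⁻¹ : (Matrix (Fin 2) (Fin 2) R)ˣ) : Matrix (Fin 2) (Fin 2) R) = Jn R 2 := by
    have h1 : (↑J : Matrix (Fin 2) (Fin 2) R) * Jn R 2 = 1 := by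
      rw [e1, Jn_two, neg_mul, ← mul_neg, J2_mul_neg]
    exact Units.inv_eq_of_mul_eq_one_right h1
  rw [e1, e2] at h0
  have h1 := (h0.neg_swap).amp k
  rw [amp_neg, amp_Jn R k (by decide : Even 2)] at h1
  exact h1

end Models

end Groth.Agent.Lib.AzInvH6
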