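import Mathlib
import Groth.Agent.Lib.AzInv39_helper6

/-!
# AzInv40 (helper6): universe reduction (`Shrink`) for algebras with involution, transfer of the
sign along isomorphisms, and the orthogonal / symplectic alternative over a connected base.
-/

set_option autoImplicit false
set_option maxSynthPendingDepth 3
universe u v w w'

open TensorProduct IsLocalRing

namespace Groth.Agent.Lib.AzInvH6

section Shrink

variable (S : Type u) (R : Type v) [CommRing S] [CommRing R] [Algebra S R] (lam : R ≃ₐ[S] R)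

/-- replace an Azumaya algebra with involution by an isomorphic one in the universe of `R` -/
theorem exists_shrink (A : Type w) [Ring A] [Algebra S A] [Algebra R A] [IsScalarTower S R A]
    (n : ℕ) (hA : AzInv.IsAzumayaDeg R A n) (t : AzInv.LamInv R A lam) :
    ∃ (A₀ : Type v) (_ : Ring A₀) (_ : Algebra S A₀) (_ : Algebra R A₀)
      (_ : IsScalarTower S R A₀) (_ : IsAzumaya R A₀) (e : A₀ ≃ₐ[R] A)
      (t₀ : AzInv.LamInv R A₀ lam),
      (∀ p : PrimeSpectrum R, Module.rankAtStalk (R := R) A₀ p = n ^ 2) ∧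
      (∀ a, e (t₀ a) = t (e a)) ∧ (∀ a, e.symm (t a) = t₀ (e.symm a)) := by
  haveI : IsAzumaya R A := hA.1
  haveI : Module.Finite R A := IsAzumaya.toFinite
  haveI : Small.{v} A := Module.Finite.small R A
  let e : Shrink.{v} A ≃ₐ[R] A := Shrink.algEquiv R A
  let eS : Shrink.{v} A ≃ₐ[S] A := Shrink.algEquiv S A
  have heS : ∀ x, eS x = e x := fun x => rfl
  haveI i4 : IsScalarTower S R (Shrink.{v} A) := IsScalarTower.of_algebraMap_eq (fun s => by
    apply e.injective
    rw [AlgEquiv.commutes, ← heS, AlgEquiv.commutes, IsScalarTower.algebraMap_apply S R A])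
  haveI i5 : IsAzumaya R (Shrink.{v} A) := IsAzumaya.of_AlgEquiv (e := e.symm)
  have hrk : ∀ p : PrimeSpectrum R, Module.rankAtStalk (R := R) (Shrink.{v} A) p = n ^ 2 := by
    intro p
    rw [Module.rankAtStalk_eq_of_equiv e.toLinearEquiv]
    exact hA.2 p
  refine ⟨Shrink.{v} A, inferInstance, inferInstance, inferInstance, i4, i5, e,
    LamInv.transport t e.symm, hrk, fun a => ?_, fun a => ?_⟩
  · rw [LamInv.transport_apply, AlgEquiv.symm_symm, AlgEquiv.apply_symm_apply]
  · rw [LamInv.transport_apply, AlgEquiv.symm_symm, AlgEquiv.apply_symm_apply]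

end Shrink

section Congr

variable {R : Type v} [CommRing R] {lam : R → R}
  {A₁ : Type w} [Ring A₁] [Algebra R A₁] {A : Type w'} [Ring A] [Algebra R A]

/-- the dimension of the span of symmetric elements in a fibre is invariant under isomorphism -/
theorem finrank_sym_congr (e : A₁ ≃ₐ[R] A) (t₁ : AzInv.LamInv R A₁ lam) (t : AzInv.LamInv R A lam)
    (he : ∀ a, e (t₁ a) = t (e a)) (Q : Ideal R) [Q.IsPrime] :
    Module.finrank Q.ResidueField (Submodule.span Q.ResidueField
        (Set.range fun a : {a : A₁ // t₁ a = a} => (1 : Q.ResidueField) ⊗ₜ[R] (a : A₁))) =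
    Module.finrank Q.ResidueField (Submodule.span Q.ResidueField
        (Set.range fun a : {a : A // t a = a} => (1 : Q.ResidueField) ⊗ₜ[R] (a : A))) := by
  let E : Q.ResidueField ⊗[R] A₁ ≃ₗ[Q.ResidueField] Q.ResidueField ⊗[R] A :=
    TensorProduct.AlgebraTensorModule.congr (LinearEquiv.refl Q.ResidueField Q.ResidueField)
      e.toLinearEquiv
  have hE : ∀ a : A₁, E ((1 : Q.ResidueField) ⊗ₜ[R] a) = (1 : Q.ResidueField) ⊗ₜ[R] e a :=
    fun a => rfl
  have hmap : (Submodule.span Q.ResidueField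
      (Set.range fun a : {a : A₁ // t₁ a = a} => (1 : Q.ResidueField) ⊗ₜ[R] (a : A₁))).map
        E.toLinearMap =
      Submodule.span Q.ResidueField
        (Set.range fun a : {a : A // t a = a} => (1 : Q.ResidueField) ⊗ₜ[R] (a : A)) := by
    rw [Submodule.map_span]
    congr 1
    ext x
    simp only [Set.mem_image, Set.mem_range, Subtype.exists, exists_prop]
    constructor
    · rintro ⟨_, ⟨a, ha, rfl⟩, rfl⟩
      refine ⟨e a, ?_, (hE a).symm⟩
      rw [← he, ha]
    · rintro ⟨a, ha, rfl⟩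
      refine ⟨(1 : Q.ResidueField) ⊗ₜ[R] e.symm a, ⟨e.symm a, ?_, rfl⟩, ?_⟩
      · apply e.injective
        rw [he, AlgEquiv.apply_symm_apply, ha]
      · show E _ = _
        rw [hE, AlgEquiv.apply_symm_apply]
  rw [← hmap, LinearEquiv.finrank_map_eq]

end Congr

section SameType

variable (S : Type u) {R : Type v} [CommRing S] [CommRing R] [Algebra S R] (lam : R ≃ₐ[S] R)
  {A : Type w} [Ring A] [Algebra S A] [Algebra R A] [IsScalarTower S R A]
  {A' : Type w'} [Ring A'] [Algebra S A'] [Algebra R A'] [IsScalarTower S R A']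

theorem sameType_of_locIsoEt_matrix (t : AzInv.LamInv R A lam) (t' : AzInv.LamInv R A' lam)
    (k : ℕ) (hk : 0 < k) (h : AzInv.LocIsoEt S lam t (t'.matrix (Fin k))) :
    AzInv.SameType S lam t t' := by
  refine ⟨1, k, one_pos, hk, ?_⟩
  refine locIsoEt_congr_left S lam (matOneEquiv R A) (t.matrix (Fin 1)) t (fun M => ?_) _ h
  rfl

end SameType

section Main

variable (S : Type u) (R : Type v) [CommRing S] [CommRing R] [Algebra S R]
  (lam : R ≃ₐ[S] R) (hlam : ∀ r, lam (lam r) = r) (hfix : RInv.IsFixedRing S R lam.toRingEquiv)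
include hfix

theorem sameType_self_or_symp [Nontrivial S] (h2 : IsUnit (2 : S))
    [ConnectedSpace (PrimeSpectrum R)]
    (hallram : ∀ (Q : PrimeSpectrum R) (r : R), lam r - r ∈ Q.asIdeal)
    (J : (Matrix (Fin 2) (Fin 2) R)ˣ)
    (hJ : (↑J : Matrix (Fin 2) (Fin 2) R) = Matrix.of ![![0, -1], ![1, 0]])
    (hJt : AzInv.LamInv.transpose lam (Fin 2) hlam (↑J : Matrix (Fin 2) (Fin 2) R) =
      (-1 : R) • (↑J : Matrix (Fin 2) (Fin 2) R))
    (hneg : lam (-1) * (-1) = 1)
    (A : Type w) [Ring A] [Algebra S A] [Algebra R A] [IsScalarTower S R A]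
    (n : ℕ) (hn : 0 < n) (hA : AzInv.IsAzumayaDeg R A n) (t : AzInv.LamInv R A lam) :
    AzInv.SameType S lam t (AzInv.LamInv.self lam hlam) ∨
      AzInv.SameType S lam t
        ((AzInv.LamInv.transpose lam (Fin 2) hlam).conj J (-1) hJt hneg) := by
  obtain ⟨A₀, i1, i2, i3, i4, i5, e, t₀, hrk, he, he'⟩ := exists_shrink S R lam A n hA t
  rcases forms_of_connected S R lam hlam hfix A₀ n hn hrk t₀ h2 hallram with h | h
  · left
    haveI : Nonempty (Fin n) := Fin.pos_iff_nonempty.mp hn
    haveI : IsAzumaya R (Matrix (Fin n) (Fin n) R) := IsAzumaya.matrix R (Fin n)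
    have hrk' : ∀ p : PrimeSpectrum R,
        Module.rankAtStalk (R := R) (Matrix (Fin n) (Fin n) R) p = n ^ 2 := by
      intro p
      haveI : Nontrivial R := PrimeSpectrum.nonempty_iff_nontrivial.mp ⟨p⟩
      rw [Module.rankAtStalk_eq_finrank_of_free, Module.finrank_matrix]
      simp [pow_two]
    have h0 : AzInv.LocIsoEt S lam t₀ ((AzInv.LamInv.self lam hlam).matrix (Fin n)) :=
      locIsoEt_of_forms S R lam A₀ (Matrix (Fin n) (Fin n) R) n hrk hrk' t₀ _ 1 1
        (fun q _ => ⟨h q, matInvHom_self R lam hlam n (ShQ S q)⟩)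
    exact sameType_of_locIsoEt_matrix S lam t _ n hn
      (locIsoEt_congr_left S lam e.symm t t₀ he' _ h0)
  · right
    obtain ⟨q, hq⟩ := Ideal.exists_maximal S
    haveI := hq.isPrime
    obtain ⟨k, hk⟩ := (h q).1
    have hk2 : n = k * 2 := by omega
    subst hk2
    have hkpos : 0 < k := by omega
    haveI : IsAzumaya R (Matrix (Fin 2) (Fin 2) R) := IsAzumaya.matrix R (Fin 2)
    haveI : IsAzumaya R (Matrix (Fin k) (Fin k) (Matrix (Fin 2) (Fin 2) R)) :=
      Groth.Agent.Lib.LGAzH6.isAzumaya_matrix _ k hkpos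
    have hrk' : ∀ p : PrimeSpectrum R, Module.rankAtStalk (R := R)
        (Matrix (Fin k) (Fin k) (Matrix (Fin 2) (Fin 2) R)) p = (k * 2) ^ 2 := by
      intro p
      haveI : Nontrivial R := PrimeSpectrum.nonempty_iff_nontrivial.mp ⟨p⟩
      rw [Groth.Agent.Lib.LGAzH6.rankAtStalk_matrix, Module.rankAtStalk_eq_finrank_of_free,
        Module.finrank_matrix]
      simp only [Module.finrank_self, Fintype.card_fin, Pi.natCast_def, Nat.cast_id]
      ring
    have h0 : AzInv.LocIsoEt S lam t₀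
        (((AzInv.LamInv.transpose lam (Fin 2) hlam).conj J (-1) hJt hneg).matrix (Fin k)) :=
      locIsoEt_of_forms S R lam A₀ (Matrix (Fin k) (Fin k) (Matrix (Fin 2) (Fin 2) R)) (k * 2) hrk
        hrk' t₀ _ (Jn R (k * 2)) (-Jn R (k * 2))
        (fun q _ => ⟨(h q).2, matInvHom_symp S R lam hlam J hJ hJt hneg k (ShQ S q)⟩)
    exact sameType_of_locIsoEt_matrix S lam t _ k hkpos
      (locIsoEt_congr_left S lam e.symm t t₀ he' _ h0)

end Main

end Groth.Agent.Lib.AzInvH6
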