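import Mathlib
import Groth.Agent.Lib.AzInv40_helper6

/-!
# AzInv41 (helper6): everywhere ramified, `2` invertible, even degree: a global matrix `w` glued
from the identity on the orthogonal part and `J_n` on the symplectic part, modelling `(A, t)` at
every strict henselisation.
-/

set_option autoImplicit false
set_option maxSynthPendingDepth 3
universe u v w

open TensorProduct IsLocalRing

namespace Groth.Agent.Lib.AzInvH6

attribute [local instance] Algebra.TensorProduct.rightAlgebra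
attribute [local instance] algT

section CongrMatT

variable {S : Type u} [CommRing S] {R : Type v} [CommRing R] [Algebra S R] {lam : R ≃ₐ[S] R}
  {A : Type*} [Ring A] [Algebra R A] {t : AzInv.LamInv R A lam} {n : ℕ}
  {T : Type u} [CommRing T] [Algebra S T]

theorem MatInvHom.congr_matT {v v' w w' : Matrix (Fin n) (Fin n) R}
    (h1 : matT (S := S) R n T w = matT R n T v) (h2 : matT (S := S) R n T w' = matT R n T v')
    (h : MatInvHom R lam A t n v v' T) : MatInvHom R lam A t n w w' T := by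
  obtain ⟨φ, hφ⟩ := h
  exact ⟨φ, fun a => by rw [h1, h2]; exact hφ a⟩

end CongrMatT

section Glue

variable {R : Type*} [CommRing R] {n : ℕ}

theorem glue_mul (a b : R) (hab : a * b = 0) (X X' Y Y' : Matrix (Fin n) (Fin n) R) :
    (a • X + b • Y) * (a • X' + b • Y') = (a * a) • (X * X') + (b * b) • (Y * Y') := by
  have hba : b * a = 0 := by rw [mul_comm, hab]
  rw [add_mul, mul_add, mul_add, smul_mul_smul_comm, smul_mul_smul_comm, smul_mul_smul_comm,
    smul_mul_smul_comm, hab, hba, zero_smul, zero_smul, add_zero, zero_add]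

end Glue

section Ramified

variable (S : Type u) (R : Type v) [CommRing S] [CommRing R] [Algebra S R]
  (lam : R ≃ₐ[S] R) (hlam : ∀ r, lam (lam r) = r) (hfix : RInv.IsFixedRing S R lam.toRingEquiv)
  (A : Type v) [Ring A] [Algebra S A] [Algebra R A] [IsScalarTower S R A] [IsAzumaya R A]
  (n : ℕ) (hn : 0 < n) (hrk : ∀ p : PrimeSpectrum R, Module.rankAtStalk (R := R) A p = n ^ 2)
  (t : AzInv.LamInv R A lam)
include hlam hfix hn hrk

theorem isClopen_sign (h2 : IsUnit (2 : S))
    (hallram : ∀ (Q : PrimeSpectrum R) (r : R), lam r - r ∈ Q.asIdeal) :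
    IsClopen {Q : PrimeSpectrum R | Module.finrank Q.asIdeal.ResidueField
      (Submodule.span Q.asIdeal.ResidueField
        (Set.range fun a : {a : A // t a = a} => (1 : Q.asIdeal.ResidueField) ⊗ₜ[R] (a : A))) =
      Nat.choose (n + 1) 2} := by
  have hA : AzInv.IsAzumayaDeg R A n := ⟨inferInstance, hrk⟩
  obtain ⟨σ, hσ⟩ : ∃ σ : Set (PrimeSpectrum R), σ = {Q : PrimeSpectrum R |
    Module.finrank Q.asIdeal.ResidueField (Submodule.span Q.asIdeal.ResidueField
      (Set.range fun a : {a : A // t a = a} => (1 : Q.asIdeal.ResidueField) ⊗ₜ[R] (a : A))) =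
    Nat.choose (n + 1) 2} := ⟨_, rfl⟩
  rw [← hσ]
  have hloc : ∀ Q : PrimeSpectrum R, ∃ f : R, f ∉ Q.asIdeal ∧
      ∀ Q' : PrimeSpectrum R, f ∉ Q'.asIdeal → (Q' ∈ σ ↔ Q ∈ σ) := by
    intro Q
    obtain ⟨f, hf, hf'⟩ := Groth.Agent.S17362.result S R lam hlam hfix h2 A n hn hA t Q (hallram Q)
    refine ⟨f, hf, fun Q' hQ' => ?_⟩
    rw [hσ]
    exact hf' Q' (hallram Q') hQ'
  have hopen : IsOpen σ := by
    rw [isOpen_iff_forall_mem_open]
    intro Q hQ
    obtain ⟨f, hf, hf'⟩ := hloc Q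
    exact ⟨PrimeSpectrum.basicOpen f, fun Q' hQ' => (hf' Q' hQ').mpr hQ,
      (PrimeSpectrum.basicOpen f).isOpen, hf⟩
  have hopen' : IsOpen σᶜ := by
    rw [isOpen_iff_forall_mem_open]
    intro Q hQ
    obtain ⟨f, hf, hf'⟩ := hloc Q
    exact ⟨PrimeSpectrum.basicOpen f, fun Q' hQ' hmem => hQ ((hf' Q' hQ').mp hmem),
      (PrimeSpectrum.basicOpen f).isOpen, hf⟩
  exact ⟨⟨hopen'⟩, hopen⟩

theorem exists_global_form (h2 : IsUnit (2 : S))
    (hallram : ∀ (Q : PrimeSpectrum R) (r : R), lam r - r ∈ Q.asIdeal) (hpar : Even n) :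
    ∃ (w : (Matrix (Fin n) (Fin n) R)ˣ) (e : R)
      (_ : AzInv.LamInv.transpose lam (Fin n) hlam (↑w : Matrix (Fin n) (Fin n) R) =
        e • (↑w : Matrix (Fin n) (Fin n) R))
      (_ : lam e * e = 1),
      ∀ (q : Ideal S) [q.IsPrime], MatInvHom R lam A t n (↑w : Matrix (Fin n) (Fin n) R)
        ((w⁻¹ : (Matrix (Fin n) (Fin n) R)ˣ) : Matrix (Fin n) (Fin n) R) (ShQ S q) := by
  classical
  have hinv' : Function.Involutive lam.toRingEquiv := fun r => hlam r
  obtain ⟨e₁, he₁, hσ⟩ := PrimeSpectrum.isClopen_iff.mp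
    (isClopen_sign S R lam hlam hfix A n hn hrk t h2 hallram)
  have he₁' : e₁ * e₁ = e₁ := he₁
  -- `e₁` is fixed by `lam`
  have hlame : lam e₁ = e₁ := by
    refine eq_of_isNilpotent_sub_of_isIdempotentElem ?_ he₁ ?_
    · show lam e₁ * lam e₁ = lam e₁
      rw [← map_mul, he₁']
    · rw [nilpotent_iff_mem_prime]
      intro J hJ
      exact hallram ⟨J, hJ⟩ e₁
  obtain ⟨s₁, hs₁⟩ := (hfix.2 e₁).mp hlame
  have hs₁' : s₁ * s₁ = s₁ := by
    apply hfix.1
    rw [map_mul, hs₁, he₁']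
  -- the matrices
  have hJJ : Jn R n * (-Jn R n) = 1 := Jn_mul_neg' R hpar
  have hJJ' : (-Jn R n) * Jn R n = 1 := by rw [neg_mul, ← mul_neg]; exact hJJ
  have hab : e₁ * (1 - e₁) = 0 := by rw [mul_sub, mul_one, he₁', sub_self]
  have hbb : (1 - e₁) * (1 - e₁) = 1 - e₁ := by
    have := he₁.one_sub
    exact this
  let W : Matrix (Fin n) (Fin n) R := e₁ • (1 : Matrix (Fin n) (Fin n) R) + (1 - e₁) • Jn R n
  let W' : Matrix (Fin n) (Fin n) R :=
    e₁ • (1 : Matrix (Fin n) (Fin n) R) + (1 - e₁) • (-Jn R n)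
  have hWW' : W * W' = 1 := by
    show (e₁ • (1 : Matrix (Fin n) (Fin n) R) + (1 - e₁) • Jn R n) *
      (e₁ • (1 : Matrix (Fin n) (Fin n) R) + (1 - e₁) • (-Jn R n)) = 1
    rw [glue_mul e₁ (1 - e₁) hab, one_mul, hJJ, he₁', hbb, ← add_smul, add_sub_cancel, one_smul]
  have hW'W : W' * W = 1 := by
    show (e₁ • (1 : Matrix (Fin n) (Fin n) R) + (1 - e₁) • (-Jn R n)) *
      (e₁ • (1 : Matrix (Fin n) (Fin n) R) + (1 - e₁) • Jn R n) = 1
    rw [glue_mul e₁ (1 - e₁) hab, one_mul, hJJ', he₁', hbb, ← add_smul, add_sub_cancel, one_smul]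
  let w : (Matrix (Fin n) (Fin n) R)ˣ := ⟨W, W', hWW', hW'W⟩
  have hlamJ : ∀ i j, lam (Jn R n i j) = Jn R n i j := by
    intro i j
    have := congrFun (congrFun (Jn_map (lam : R →+* R) n) i) j
    rw [Matrix.map_apply] at this
    exact this
  have hJt : ∀ i j, Jn R n j i = -Jn R n i j := by
    intro i j
    have := congrFun (congrFun (Jn_transpose R n) i) j
    rw [Matrix.transpose_apply, Matrix.neg_apply] at this
    exact this
  have hw : AzInv.LamInv.transpose lam (Fin n) hlam (↑w : Matrix (Fin n) (Fin n) R) =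
      (2 * e₁ - 1) • (↑w : Matrix (Fin n) (Fin n) R) := by
    ext i j
    show lam (W j i) = (2 * e₁ - 1) * W i j
    show lam ((e₁ • (1 : Matrix (Fin n) (Fin n) R) + (1 - e₁) • Jn R n) j i) =
      (2 * e₁ - 1) * (e₁ • (1 : Matrix (Fin n) (Fin n) R) + (1 - e₁) • Jn R n) i j
    simp only [Matrix.add_apply, Matrix.smul_apply, smul_eq_mul, map_add, map_mul, map_sub,
      map_one, map_neg, hlame, hlamJ, hJt i j]
    have h1 : lam ((1 : Matrix (Fin n) (Fin n) R) j i) = (1 : Matrix (Fin n) (Fin n) R) i j := by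
      rw [Matrix.one_apply, Matrix.one_apply]
      by_cases h : i = j
      · rw [if_pos h, if_pos h.symm, map_one]
      · rw [if_neg h, if_neg (Ne.symm h), map_zero]
    rw [h1]
    linear_combination (-(2 : R) * (1 : Matrix (Fin n) (Fin n) R) i j + 2 * Jn R n i j) * he₁'
  have he : lam (2 * e₁ - 1) * (2 * e₁ - 1) = 1 := by
    rw [map_sub, map_mul, map_ofNat, map_one, hlame]
    linear_combination 4 * he₁'
  refine ⟨w, 2 * e₁ - 1, hw, he, fun q hq => ?_⟩
  obtain ⟨Q, hQ⟩ := Groth.Agent.Lib.RInv7.exists_prime_over hinv' hfix ⟨q, hq⟩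
  haveI := Q.isPrime
  -- the image of `s₁` in the local ring is `0` or `1`
  have hz : ∀ z : ShQ S q ⊗[S] R, z = algebraMap R (ShQ S q ⊗[S] R) e₁ →
      matT (S := S) R n (ShQ S q) W = z • (1 : Matrix (Fin n) (Fin n) (ShQ S q ⊗[S] R)) +
        (1 - z) • matT (S := S) R n (ShQ S q) (Jn R n) ∧
      matT (S := S) R n (ShQ S q) W' = z • (1 : Matrix (Fin n) (Fin n) (ShQ S q ⊗[S] R)) +
        (1 - z) • matT (S := S) R n (ShQ S q) (-Jn R n) := by
    intro z hz
    subst hz
    constructor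
    · ext i j
      show algebraMap R (ShQ S q ⊗[S] R)
        ((e₁ • (1 : Matrix (Fin n) (Fin n) R) + (1 - e₁) • Jn R n) i j) = _
      simp only [Matrix.add_apply, Matrix.smul_apply, smul_eq_mul, map_add, map_mul, map_sub,
        map_one, Matrix.one_apply]
      congr 2
      · split_ifs <;> simp
    · ext i j
      show algebraMap R (ShQ S q ⊗[S] R)
        ((e₁ • (1 : Matrix (Fin n) (Fin n) R) + (1 - e₁) • (-Jn R n)) i j) = _
      simp only [Matrix.add_apply, Matrix.smul_apply, smul_eq_mul, map_add, map_mul, map_sub,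
        map_one, Matrix.one_apply]
      congr 2
      · split_ifs <;> simp
  have hzs : algebraMap R (ShQ S q ⊗[S] R) e₁ =
      algebraMap (ShQ S q) (ShQ S q ⊗[S] R) (algebraMap S (ShQ S q) s₁) := by
    rw [← hs₁, Algebra.TensorProduct.right_algebraMap_apply,
      Algebra.TensorProduct.algebraMap_apply, Algebra.algebraMap_self_apply,
      Algebra.algebraMap_eq_smul_one, Algebra.algebraMap_eq_smul_one (A := ShQ S q),
      TensorProduct.tmul_smul, TensorProduct.smul_tmul']
  have hidem : algebraMap S (ShQ S q) s₁ * algebraMap S (ShQ S q) s₁ =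
      algebraMap S (ShQ S q) s₁ := by rw [← map_mul, hs₁']
  have hQ' : Q.asIdeal.comap (algebraMap S R) = q := hQ
  have hmem : e₁ ∈ Q.asIdeal ↔ s₁ ∈ q := by
    have h3 : s₁ ∈ q ↔ s₁ ∈ Q.asIdeal.comap (algebraMap S R) := by rw [hQ']
    rw [h3, Ideal.mem_comap, hs₁]
  have hunit : IsUnit (algebraMap S (ShQ S q) s₁) ↔ s₁ ∉ q := by
    have h3 : s₁ ∈ q ↔ s₁ ∈ (maximalIdeal (ShQ S q)).comap (algebraMap S (ShQ S q)) := by
      rw [comap_maximalIdeal_shq S q]
    rw [h3, Ideal.mem_comap, mem_maximalIdeal, mem_nonunits_iff, not_not]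
  by_cases hQσ : e₁ ∈ Q.asIdeal
  · -- symplectic
    have hs0 : algebraMap S (ShQ S q) s₁ = 0 := by
      have hnu : ¬ IsUnit (algebraMap S (ShQ S q) s₁) := fun hu => hunit.mp hu (hmem.mp hQσ)
      rcases IsLocalRing.isUnit_or_isUnit_one_sub_self (algebraMap S (ShQ S q) s₁) with h | h
      · exact absurd h hnu
      · have : (1 - algebraMap S (ShQ S q) s₁) * algebraMap S (ShQ S q) s₁ = 0 := by
          rw [sub_mul, one_mul, hidem, sub_self]
        exact (h.mul_right_eq_zero).mp this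
    have hz0 : algebraMap R (ShQ S q ⊗[S] R) e₁ = 0 := by rw [hzs, hs0, map_zero]
    obtain ⟨h1, h2'⟩ := hz _ rfl
    rw [hz0, zero_smul, zero_add, sub_zero, one_smul] at h1 h2'
    have hnot : ¬ Module.finrank Q.asIdeal.ResidueField
        (Submodule.span Q.asIdeal.ResidueField (Set.range fun a : {a : A // t a = a} =>
          (1 : Q.asIdeal.ResidueField) ⊗ₜ[R] (a : A))) = Nat.choose (n + 1) 2 := by
      intro hmemσ
      have : Q ∈ (PrimeSpectrum.basicOpen e₁ : Set (PrimeSpectrum R)) := by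
        rw [← hσ]; exact hmemσ
      exact this hQσ
    exact MatInvHom.congr_matT h1 h2'
      ((symp_iff S R lam hlam hfix A n hn hrk t h2 q Q.asIdeal hQ (hallram Q)).mp hnot).2
  · -- orthogonal
    have hs1 : algebraMap S (ShQ S q) s₁ = 1 := by
      have hu : IsUnit (algebraMap S (ShQ S q) s₁) := hunit.mpr (fun h => hQσ (hmem.mpr h))
      have : algebraMap S (ShQ S q) s₁ * (algebraMap S (ShQ S q) s₁ - 1) = 0 := by
        rw [mul_sub, mul_one, hidem, sub_self]
      exact sub_eq_zero.mp ((hu.mul_right_eq_zero).mp this)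
    have hz1 : algebraMap R (ShQ S q ⊗[S] R) e₁ = 1 := by rw [hzs, hs1, map_one]
    obtain ⟨h1, h2'⟩ := hz _ rfl
    rw [hz1, one_smul, sub_self, zero_smul, add_zero, ← matT_one (S := S) R n (ShQ S q)]
      at h1 h2'
    have hmemσ : Module.finrank Q.asIdeal.ResidueField
        (Submodule.span Q.asIdeal.ResidueField (Set.range fun a : {a : A // t a = a} =>
          (1 : Q.asIdeal.ResidueField) ⊗ₜ[R] (a : A))) = Nat.choose (n + 1) 2 := by
      have : Q ∈ (PrimeSpectrum.basicOpen e₁ : Set (PrimeSpectrum R)) := hQσ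
      rw [← hσ] at this
      exact this
    exact MatInvHom.congr_matT h1 h2'
      ((orth_iff S R lam hlam hfix A n hn hrk t h2 q Q.asIdeal hQ (hallram Q)).mp hmemσ)

end Ramified

end Groth.Agent.Lib.AzInvH6
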