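import Mathlib
import Groth.Agent.Lib.AzInv41_helper6

/-!
# AzInv42 (helper6): every involution is ordinary in the everywhere ramified (with `2` invertible)
and in the unramified case.
-/

set_option autoImplicit false
set_option maxSynthPendingDepth 3
universe u v w

open TensorProduct IsLocalRing

namespace Groth.Agent.Lib.AzInvH6

section Main

variable (S : Type u) (R : Type v) [CommRing S] [CommRing R] [Algebra S R]
  (lam : R ≃ₐ[S] R) (hlam : ∀ r, lam (lam r) = r) (hfix : RInv.IsFixedRing S R lam.toRingEquiv)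

theorem locIsoEt_conj_one {A : Type w} [Ring A] [Algebra S A] [Algebra R A] [IsScalarTower S R A]
    (n : ℕ) (t : AzInv.LamInv R A lam)
    (h : AzInv.LocIsoEt S lam t ((AzInv.LamInv.self lam hlam).matrix (Fin n))) :
    ∃ (w : (Matrix (Fin n) (Fin n) R)ˣ) (e : R)
      (hw : AzInv.LamInv.transpose lam (Fin n) hlam (↑w : Matrix (Fin n) (Fin n) R) =
        e • (↑w : Matrix (Fin n) (Fin n) R))
      (he : lam e * e = 1),
      AzInv.LocIsoEt S lam t ((AzInv.LamInv.transpose lam (Fin n) hlam).conj w e hw he) := by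
  have hw : AzInv.LamInv.transpose lam (Fin n) hlam
      (((1 : (Matrix (Fin n) (Fin n) R)ˣ)) : Matrix (Fin n) (Fin n) R) =
      (1 : R) • (((1 : (Matrix (Fin n) (Fin n) R)ˣ)) : Matrix (Fin n) (Fin n) R) := by
    rw [one_smul, Units.val_one]
    ext i j
    show lam ((1 : Matrix (Fin n) (Fin n) R) j i) = (1 : Matrix (Fin n) (Fin n) R) i j
    rw [Matrix.one_apply, Matrix.one_apply]
    by_cases h : i = j
    · rw [if_pos h, if_pos h.symm, map_one]
    · rw [if_neg h, if_neg (Ne.symm h), map_zero]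
  have he : lam 1 * 1 = 1 := by rw [map_one, mul_one]
  refine ⟨1, 1, hw, he, ?_⟩
  refine locIsoEt_congr_right S lam (AlgEquiv.refl : Matrix (Fin n) (Fin n) R ≃ₐ[R] _)
    ((AzInv.LamInv.transpose lam (Fin n) hlam).conj 1 1 hw he)
    ((AzInv.LamInv.self lam hlam).matrix (Fin n)) (fun X => ?_) t h
  show (AzInv.LamInv.transpose lam (Fin n) hlam).conj 1 1 hw he X = _
  rw [AzInv.LamInv.conj_apply, Units.val_one, one_mul, inv_one, Units.val_one, mul_one]
  rfl

include hlam hfix

theorem allRamified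
    (h : ∀ p : PrimeSpectrum S, ¬ RInv.IsQuadEtale (Localization.AtPrime p.asIdeal)
      (Localization.AtPrime p.asIdeal ⊗[S] R)) (Q : PrimeSpectrum R) (r : R) :
    lam r - r ∈ Q.asIdeal := by
  have hinv' : Function.Involutive lam.toRingEquiv := fun r => hlam r
  obtain ⟨Q₀, -, hQ2, hQ3⟩ := (Groth.Agent.Lib.RInv7.not_isQuadEtale_iff hinv' hfix
    ⟨Q.asIdeal.comap (algebraMap S R), inferInstance⟩).mp (h _)
  rw [hQ2 Q rfl]
  exact hQ3 r

theorem exists_locIsoEt_transpose_conj (hsq : HasSqrt S)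
    (hram : (IsUnit (2 : S) ∧ ∀ p : PrimeSpectrum S,
        ¬ RInv.IsQuadEtale (Localization.AtPrime p.asIdeal)
          (Localization.AtPrime p.asIdeal ⊗[S] R)) ∨ RInv.IsQuadEtale S R)
    (A : Type w) [Ring A] [Algebra S A] [Algebra R A] [IsScalarTower S R A]
    (n : ℕ) (hn : 0 < n) (hA : AzInv.IsAzumayaDeg R A n) (t : AzInv.LamInv R A lam) :
    ∃ (w : (Matrix (Fin n) (Fin n) R)ˣ) (e : R)
      (hw : AzInv.LamInv.transpose lam (Fin n) hlam (↑w : Matrix (Fin n) (Fin n) R) =
        e • (↑w : Matrix (Fin n) (Fin n) R))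
      (he : lam e * e = 1),
      AzInv.LocIsoEt S lam t ((AzInv.LamInv.transpose lam (Fin n) hlam).conj w e hw he) := by
  rcases hram with ⟨h2, hnq⟩ | hq
  · by_cases hpar : Even n
    · have hallram := allRamified S R lam hlam hfix hnq
      obtain ⟨A₀, i1, i2, i3, i4, i5, e, t₀, hrk, he, he'⟩ := exists_shrink S R lam A n hA t
      obtain ⟨w, ε, hw, hε, hloc⟩ :=
        exists_global_form S R lam hlam hfix A₀ n hn hrk t₀ h2 hallram hpar
      haveI : Nonempty (Fin n) := Fin.pos_iff_nonempty.mp hn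
      haveI : IsAzumaya R (Matrix (Fin n) (Fin n) R) := IsAzumaya.matrix R (Fin n)
      have hrk' : ∀ p : PrimeSpectrum R,
          Module.rankAtStalk (R := R) (Matrix (Fin n) (Fin n) R) p = n ^ 2 := by
        intro p
        haveI : Nontrivial R := PrimeSpectrum.nonempty_iff_nontrivial.mp ⟨p⟩
        rw [Module.rankAtStalk_eq_finrank_of_free, Module.finrank_matrix]
        simp [pow_two]
      have h0 : AzInv.LocIsoEt S lam t₀
          ((AzInv.LamInv.transpose lam (Fin n) hlam).conj w ε hw hε) :=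
        locIsoEt_of_forms S R lam A₀ (Matrix (Fin n) (Fin n) R) n hrk hrk' t₀ _
          (↑w) ((w⁻¹ : (Matrix (Fin n) (Fin n) R)ˣ) : Matrix (Fin n) (Fin n) R)
          (fun q _ => ⟨hloc q, matInvHom_conj R lam hlam n (ShQ S q) w ε hw hε⟩)
      exact ⟨w, ε, hw, hε, locIsoEt_congr_left S lam e.symm t t₀ he' _ h0⟩
    · exact locIsoEt_conj_one S R lam hlam n t
        (locIsoEt_self_matrix S R lam hlam hfix hsq A n hn hA t
          (Or.inr (Nat.not_even_iff_odd.mp hpar)))
  · exact locIsoEt_conj_one S R lam hlam n t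
      (locIsoEt_self_matrix S R lam hlam hfix hsq A n hn hA t
        (Or.inl fun q _ => unramAt_of_isQuadEtale S R lam hlam hfix hq q))

end Main

end Groth.Agent.Lib.AzInvH6
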