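import Mathlib
import Groth.Agent.Lib.AzInv42_helper6

/-!
# AzInv43 (helper6): two Azumaya algebras with involution of the same degree whose signs agree at
every ramified prime are locally isomorphic (`2` invertible).
-/

set_option autoImplicit false
set_option maxSynthPendingDepth 3
universe u v

open TensorProduct IsLocalRing

namespace Groth.Agent.Lib.AzInvH6

attribute [local instance] Algebra.TensorProduct.rightAlgebra
attribute [local instance] algT

section IsoAt

variable (S : Type u) {R : Type v} [CommRing S] [CommRing R] [Algebra S R]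
  (lam : R ≃ₐ[S] R)
  {A : Type v} [Ring A] [Algebra S A] [Algebra R A] [IsScalarTower S R A]
  {A' : Type v} [Ring A'] [Algebra S A'] [Algebra R A'] [IsScalarTower S R A']
  (t : AzInv.LamInv R A lam) (t' : AzInv.LamInv R A' lam)

/-- `(A, t)` and `(A', t')` become isomorphic over `T` -/
def IsoAt (T : Type u) [CommRing T] [Algebra S T] : Prop :=
  ∃ f : T ⊗[S] A ≃ₐ[T] T ⊗[S] A',
    (∀ (r : R) (x : T ⊗[S] A),
      f (((1 : T) ⊗ₜ[S] algebraMap R A r) * x) = ((1 : T) ⊗ₜ[S] algebraMap R A' r) * f x) ∧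
    ∀ x : T ⊗[S] A, f (t.bc S lam T x) = t'.bc S lam T (f x)

theorem IsoAt.pi {ι : Type u} [Fintype ι] [DecidableEq ι] (T : ι → Type u)
    [∀ i, CommRing (T i)] [∀ i, Algebra S (T i)] (h : ∀ i, IsoAt S lam t t' (T i)) :
    IsoAt S lam t t' (∀ i, T i) := by
  choose f hf1 hf2 using h
  let g : (∀ i, T i) ⊗[S] A ≃+* (∀ i, T i) ⊗[S] A' :=
    (piEquiv T A).trans ((RingEquiv.piCongrRight fun i => (f i).toRingEquiv).trans
      (piEquiv T A').symm)
  have hg : ∀ x i, piProj T A' i (g x) = f i (piProj T A i x) := by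
    intro x i
    show piProj T A' i ((piEquiv T A').symm _) = _
    rw [← piEquiv_apply, RingEquiv.apply_symm_apply]
    rfl
  let G : (∀ i, T i) ⊗[S] A ≃ₐ[∀ i, T i] (∀ i, T i) ⊗[S] A' :=
    AlgEquiv.ofRingEquiv (f := g) (by
      intro c
      apply pi_ext T A'
      intro i
      rw [hg, Algebra.TensorProduct.algebraMap_apply, Algebra.TensorProduct.algebraMap_apply,
        Algebra.algebraMap_self_apply, piProj_tmul, piProj_tmul]
      have := (f i).commutes (c i)
      rw [Algebra.TensorProduct.algebraMap_apply, Algebra.TensorProduct.algebraMap_apply,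
        Algebra.algebraMap_self_apply] at this
      exact this)
  have hG : ∀ x, G x = g x := fun x => rfl
  refine ⟨G, fun r x => ?_, fun x => ?_⟩
  · apply pi_ext T A'
    intro i
    have e1 : piProj T A i (((1 : ∀ i, T i) ⊗ₜ[S] algebraMap R A r) * x) =
        ((1 : T i) ⊗ₜ[S] algebraMap R A r) * piProj T A i x := by
      rw [map_mul, piProj_tmul, Pi.one_apply]
    have e2 : piProj T A' i (((1 : ∀ i, T i) ⊗ₜ[S] algebraMap R A' r) * g x) =
        ((1 : T i) ⊗ₜ[S] algebraMap R A' r) * piProj T A' i (g x) := by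
      rw [map_mul, piProj_tmul, Pi.one_apply]
    rw [hG, hG, hg, e1, e2, hg, hf1]
  · apply pi_ext T A'
    intro i
    rw [hG, hG, hg]
    show f i (bcA (Pi.evalAlgHom S T i) A (t.bc S lam (∀ i, T i) x)) =
      bcA (Pi.evalAlgHom S T i) A' (t'.bc S lam (∀ i, T i) (g x))
    rw [bcA_bc, bcA_bc, hf2]
    congr 1
    exact (hg x i).symm

end IsoAt

section K4

variable (S : Type u) (R : Type v) [CommRing S] [CommRing R] [Algebra S R]
  (lam : R ≃ₐ[S] R) (hlam : ∀ r, lam (lam r) = r) (hfix : RInv.IsFixedRing S R lam.toRingEquiv)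
  (A : Type v) [Ring A] [Algebra S A] [Algebra R A] [IsScalarTower S R A] [IsAzumaya R A]
  (A' : Type v) [Ring A'] [Algebra S A'] [Algebra R A'] [IsScalarTower S R A'] [IsAzumaya R A']
  (n : ℕ) (hn : 0 < n) (hrk : ∀ p : PrimeSpectrum R, Module.rankAtStalk (R := R) A p = n ^ 2)
  (hrk' : ∀ p : PrimeSpectrum R, Module.rankAtStalk (R := R) A' p = n ^ 2)
  (t : AzInv.LamInv R A lam) (t' : AzInv.LamInv R A' lam)

include hrk hrk' in
theorem exists_nbhd_isoAt (w w' : Matrix (Fin n) (Fin n) R) (q : Ideal S) [q.IsPrime]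
    (h : MatInvHom R lam A t n w w' (ShQ S q) ∧ MatInvHom R lam A' t' n w w' (ShQ S q)) :
    ∃ (T : Type u) (_ : CommRing T) (_ : Algebra S T), Algebra.Etale S T ∧ IsoAt S lam t t' T ∧
      ∃ Q : Ideal T, Q.IsPrime ∧ Q.comap (algebraMap S T) = q := by
  obtain ⟨T, i1, i2, hT, hP, hQ⟩ := (pairProp S R lam A A' n t t' w w').exists_etale_nbhd q h
  exact ⟨T, i1, i2, hT, isoAt_of_matInvHom S R lam T A A' n hrk hrk' t t' w w' hP.1 hP.2, hQ⟩

include hlam hfix hn hrk in
/-- at an unramified prime the form is the transpose (`2` invertible) -/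
theorem local_form_unram (h2 : IsUnit (2 : S)) (q : Ideal S) [hq : q.IsPrime]
    (h : UnramAt S R lam q) : MatInvHom R lam A t n 1 1 (ShQ S q) := by
  have h2T : IsUnit (2 : ShQ S q) := by
    have := h2.map (algebraMap S (ShQ S q))
    rwa [map_ofNat] at this
  have hsqT : ∀ b : (ShQ S q)ˣ, ∃ y : ShQ S q, y * y = b :=
    exists_sqrt_of_henselian (ShQ S q) h2T
  have hsplit := matHom_sh S R lam hlam hfix A n hn hrk q
  exact matInvHom_one_of_local S R lam hlam hfix (ShQ S q) A n hn hrk t hsqT hsplit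
    (Or.inl (exists_isUnit_sub_lamT S R lam q (ShQ S q) (comap_maximalIdeal_shq S q) h))

include hlam hfix hn hrk hrk' in
theorem locIsoEt_of_signs (h2 : IsUnit (2 : S))
    (hsign : ∀ (Q : Ideal R) [Q.IsPrime], (∀ r, lam r - r ∈ Q) →
      (Module.finrank Q.ResidueField (Submodule.span Q.ResidueField
        (Set.range fun a : {a : A // t a = a} => (1 : Q.ResidueField) ⊗ₜ[R] (a : A))) =
        Nat.choose (n + 1) 2 ↔
      Module.finrank Q.ResidueField (Submodule.span Q.ResidueField
        (Set.range fun a : {a : A' // t' a = a} => (1 : Q.ResidueField) ⊗ₜ[R] (a : A'))) =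
        Nat.choose (n + 1) 2)) :
    AzInv.LocIsoEt S lam t t' := by
  obtain ⟨S', i1, i2, i3, i4, f, hf1, hf2⟩ :=
    exists_cover S (fun T _ _ => IsoAt S lam t t' T)
      (fun q => by
        haveI := q.isPrime
        rcases unramAt_or_ramified S R lam hlam hfix A n hn hrk q.asIdeal with
          h | ⟨Q, hQ, hQq, hram⟩
        · exact exists_nbhd_isoAt S R lam A A' n hrk hrk' t t' 1 1 q.asIdeal
            ⟨local_form_unram S R lam hlam hfix A n hn hrk t h2 q.asIdeal h,
              local_form_unram S R lam hlam hfix A' n hn hrk' t' h2 q.asIdeal h⟩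
        · haveI := hQ
          by_cases hs : Module.finrank Q.ResidueField (Submodule.span Q.ResidueField
              (Set.range fun a : {a : A // t a = a} => (1 : Q.ResidueField) ⊗ₜ[R] (a : A))) =
              Nat.choose (n + 1) 2
          · exact exists_nbhd_isoAt S R lam A A' n hrk hrk' t t' 1 1 q.asIdeal
              ⟨(orth_iff S R lam hlam hfix A n hn hrk t h2 q.asIdeal Q hQq hram).mp hs,
                (orth_iff S R lam hlam hfix A' n hn hrk' t' h2 q.asIdeal Q hQq hram).mp
                  ((hsign Q hram).mp hs)⟩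
          · exact exists_nbhd_isoAt S R lam A A' n hrk hrk' t t' (Jn R n) (-Jn R n) q.asIdeal
              ⟨((symp_iff S R lam hlam hfix A n hn hrk t h2 q.asIdeal Q hQq hram).mp hs).2,
                ((symp_iff S R lam hlam hfix A' n hn hrk' t' h2 q.asIdeal Q hQq hram).mp
                  (fun h' => hs ((hsign Q hram).mpr h'))).2⟩)
      (fun ι _ _ T _ _ _ hT => IsoAt.pi S lam t t' T hT)
  exact ⟨S', i1, i2, i3, i4, f, hf1, hf2⟩

end K4

end Groth.Agent.Lib.AzInvH6
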