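import Mathlib
import Groth.Prelude.Def_AzInv
import Groth.Agent.Lib.AzInv32_helper6

/-!
# AzInv44 (helper6): a local isomorphism of algebras with involution over a cover `T` induces, at a
field point `T ⊗ R → L`, a linear isomorphism of the fibres `L ⊗_R A₁ ≃ L ⊗_R A₂` carrying the span
of symmetric elements onto the span of symmetric elements.
-/

set_option autoImplicit false
universe u v w w'

open TensorProduct

namespace Groth.Agent.Lib.AzInvH6

section Can

variable {S : Type*} {R : Type*} [CommRing S] [CommRing R] [Algebra S R]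
  {T : Type*} [CommRing T] [Algebra S T]
  {L : Type*} [CommRing L] [Algebra R L] (ρT : T →+* L)
  (hρ : ∀ σ : S, ρT (algebraMap S T σ) = algebraMap R L (algebraMap S R σ))
  (A : Type*) [Ring A] [Algebra S A] [Algebra R A] [IsScalarTower S R A]

/-- the canonical map `T ⊗_S A → L ⊗_R A` -/
noncomputable def canL : T ⊗[S] A →+ L ⊗[R] A :=
  TensorProduct.liftAddHom
    (AddMonoidHom.mk' (fun c : T => AddMonoidHom.mk' (fun a : A => ρT c ⊗ₜ[R] a)
      (fun a b => TensorProduct.tmul_add _ a b))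
      (fun c d => by
        ext a
        show ρT (c + d) ⊗ₜ[R] a = ρT c ⊗ₜ[R] a + ρT d ⊗ₜ[R] a
        rw [map_add, TensorProduct.add_tmul]))
    (fun σ c a => by
      show ρT (σ • c) ⊗ₜ[R] a = ρT c ⊗ₜ[R] (σ • a)
      rw [Algebra.smul_def, map_mul, hρ, ← algebraMap_smul R σ a, TensorProduct.tmul_smul,
        TensorProduct.smul_tmul', Algebra.smul_def])

@[simp] theorem canL_tmul (c : T) (a : A) : canL ρT hρ A (c ⊗ₜ[S] a) = ρT c ⊗ₜ[R] a := rfl

theorem canL_smul (c : T) (z : T ⊗[S] A) : canL ρT hρ A (c • z) = ρT c • canL ρT hρ A z := by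
  induction z using TensorProduct.induction_on with
  | zero => simp
  | add x y hx hy => rw [smul_add, map_add, map_add, hx, hy, smul_add]
  | tmul d a =>
    rw [TensorProduct.smul_tmul', canL_tmul, canL_tmul, smul_eq_mul, map_mul,
      TensorProduct.smul_tmul', smul_eq_mul]

theorem canL_rmul (r : R) (z : T ⊗[S] A) :
    canL ρT hρ A (((1 : T) ⊗ₜ[S] algebraMap R A r) * z) = r • canL ρT hρ A z := by
  induction z using TensorProduct.induction_on with
  | zero => simp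
  | add x y hx hy => rw [mul_add, map_add, map_add, hx, hy, smul_add]
  | tmul d a =>
    rw [Algebra.TensorProduct.tmul_mul_tmul, one_mul, canL_tmul, canL_tmul, ← Algebra.smul_def,
      TensorProduct.tmul_smul]

end Can

section Transfer

variable {S : Type u} {R : Type v} [CommRing S] [CommRing R] [Algebra S R] (lam : R ≃ₐ[S] R)
  {T : Type*} [CommRing T] [Algebra S T]
  {L : Type*} [Field L] [Algebra R L] (ρT : T →+* L)
  (hρ : ∀ σ : S, ρT (algebraMap S T σ) = algebraMap R L (algebraMap S R σ))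
  {A₁ : Type w} [Ring A₁] [Algebra S A₁] [Algebra R A₁] [IsScalarTower S R A₁]
  {A₂ : Type w'} [Ring A₂] [Algebra S A₂] [Algebra R A₂] [IsScalarTower S R A₂]
  (t₁ : AzInv.LamInv R A₁ lam) (t₂ : AzInv.LamInv R A₂ lam)

/-- the span of the symmetric elements in `L ⊗_R A` -/
def symSpan {A : Type*} [Ring A] [Algebra R A] (t : AzInv.LamInv R A lam) :
    Submodule L (L ⊗[R] A) :=
  Submodule.span L (Set.range fun a : {a : A // t a = a} => (1 : L) ⊗ₜ[R] (a : A))

omit [Algebra S A₁] [IsScalarTower S R A₁] in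
theorem canL_symm_mem (h2 : (2 : L) ≠ 0) (y : T ⊗[S] A₂) (hy : t₂.bc S lam T y = y) :
    canL ρT hρ A₂ y ∈ symSpan (L := L) lam t₂ := by
  have key : ∀ z : T ⊗[S] A₂, canL ρT hρ A₂ (z + t₂.bc S lam T z) ∈ symSpan (L := L) lam t₂ := by
    intro z
    induction z using TensorProduct.induction_on with
    | zero => simp
    | add x y hx hy =>
      have e : x + y + t₂.bc S lam T (x + y) = (x + t₂.bc S lam T x) + (y + t₂.bc S lam T y) := by
        rw [map_add]; abel
      rw [e, map_add]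
      exact Submodule.add_mem _ hx hy
    | tmul c a =>
      rw [AzInv.LamInv.bc_tmul, ← TensorProduct.tmul_add, canL_tmul]
      have e : ρT c ⊗ₜ[R] (a + t₂ a) = ρT c • ((1 : L) ⊗ₜ[R] (a + t₂ a)) := by
        rw [TensorProduct.smul_tmul', smul_eq_mul, mul_one]
      rw [e]
      refine Submodule.smul_mem _ _ (Submodule.subset_span ⟨⟨a + t₂ a, ?_⟩, rfl⟩)
      rw [t₂.map_add, t₂.invol, add_comm]
  have h3 := key y
  rw [hy, map_add, ← two_smul L] at h3
  have := Submodule.smul_mem _ (2 : L)⁻¹ h3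
  rwa [smul_smul, inv_mul_cancel₀ h2, one_smul] at this

variable (f : T ⊗[S] A₁ →ₗ[T] T ⊗[S] A₂)
  (hf1 : ∀ (r : R) (x : T ⊗[S] A₁),
    f (((1 : T) ⊗ₜ[S] algebraMap R A₁ r) * x) = ((1 : T) ⊗ₜ[S] algebraMap R A₂ r) * f x)

/-- the induced map on fibres over `L` -/
noncomputable def fibMap : L ⊗[R] A₁ →ₗ[L] L ⊗[R] A₂ :=
  LinearMap.liftBaseChange L
    { toFun := fun a => canL ρT hρ A₂ (f ((1 : T) ⊗ₜ[S] a))
      map_add' := fun a b => by rw [TensorProduct.tmul_add, map_add, map_add]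
      map_smul' := fun r a => by
        have e : (1 : T) ⊗ₜ[S] (r • a) = ((1 : T) ⊗ₜ[S] algebraMap R A₁ r) * ((1 : T) ⊗ₜ[S] a) := by
          rw [Algebra.TensorProduct.tmul_mul_tmul, one_mul, ← Algebra.smul_def]
        rw [e, hf1, canL_rmul, RingHom.id_apply] }

theorem fibMap_tmul (l : L) (a : A₁) :
    fibMap ρT hρ f hf1 (l ⊗ₜ[R] a) = l • canL ρT hρ A₂ (f ((1 : T) ⊗ₜ[S] a)) := by
  rw [fibMap, LinearMap.liftBaseChange_tmul]
  rfl

theorem fibMap_canL (z : T ⊗[S] A₁) :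
    fibMap ρT hρ f hf1 (canL ρT hρ A₁ z) = canL ρT hρ A₂ (f z) := by
  induction z using TensorProduct.induction_on with
  | zero => simp
  | add x y hx hy => rw [map_add, map_add, hx, hy, map_add, map_add]
  | tmul c a =>
    rw [canL_tmul, fibMap_tmul, ← canL_smul, ← map_smul, TensorProduct.smul_tmul', smul_eq_mul,
      mul_one]

theorem fibMap_symSpan_le (h2 : (2 : L) ≠ 0)
    (hf2 : ∀ x : T ⊗[S] A₁, f (t₁.bc S lam T x) = t₂.bc S lam T (f x)) :
    (symSpan (L := L) lam t₁).map (fibMap ρT hρ f hf1) ≤ symSpan (L := L) lam t₂ := by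
  rw [symSpan, Submodule.map_span, Submodule.span_le]
  rintro _ ⟨_, ⟨⟨a, ha⟩, rfl⟩, rfl⟩
  show fibMap ρT hρ f hf1 ((1 : L) ⊗ₜ[R] a) ∈ _
  rw [fibMap_tmul, one_smul]
  apply canL_symm_mem lam ρT hρ t₂ h2
  rw [← hf2, AzInv.LamInv.bc_tmul, ha]

end Transfer

section Equiv

variable {S : Type u} {R : Type v} [CommRing S] [CommRing R] [Algebra S R] (lam : R ≃ₐ[S] R)
  {T : Type*} [CommRing T] [Algebra S T]
  {L : Type*} [Field L] [Algebra R L] (ρT : T →+* L)
  (hρ : ∀ σ : S, ρT (algebraMap S T σ) = algebraMap R L (algebraMap S R σ))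
  {A₁ : Type w} [Ring A₁] [Algebra S A₁] [Algebra R A₁] [IsScalarTower S R A₁]
  {A₂ : Type w'} [Ring A₂] [Algebra S A₂] [Algebra R A₂] [IsScalarTower S R A₂]
  (t₁ : AzInv.LamInv R A₁ lam) (t₂ : AzInv.LamInv R A₂ lam)

include hρ in
/-- a local isomorphism over `T` gives a linear isomorphism of the fibres over `L` respecting the
symmetric spans -/
theorem exists_fibEquiv (h2 : (2 : L) ≠ 0)
    (f : T ⊗[S] A₁ ≃ₐ[T] T ⊗[S] A₂)
    (hf1 : ∀ (r : R) (x : T ⊗[S] A₁),
      f (((1 : T) ⊗ₜ[S] algebraMap R A₁ r) * x) = ((1 : T) ⊗ₜ[S] algebraMap R A₂ r) * f x)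
    (hf2 : ∀ x : T ⊗[S] A₁, f (t₁.bc S lam T x) = t₂.bc S lam T (f x)) :
    ∃ G : L ⊗[R] A₁ ≃ₗ[L] L ⊗[R] A₂,
      (symSpan (L := L) lam t₁).map G.toLinearMap ≤ symSpan (L := L) lam t₂ ∧
      (symSpan (L := L) lam t₂).map G.symm.toLinearMap ≤ symSpan (L := L) lam t₁ := by
  have hg1 : ∀ (r : R) (y : T ⊗[S] A₂),
      f.symm (((1 : T) ⊗ₜ[S] algebraMap R A₂ r) * y) =
        ((1 : T) ⊗ₜ[S] algebraMap R A₁ r) * f.symm y := by
    intro r y
    apply f.injective
    rw [AlgEquiv.apply_symm_apply, hf1, AlgEquiv.apply_symm_apply]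
  have hg2 : ∀ y : T ⊗[S] A₂, f.symm (t₂.bc S lam T y) = t₁.bc S lam T (f.symm y) := by
    intro y
    apply f.injective
    rw [AlgEquiv.apply_symm_apply, hf2, AlgEquiv.apply_symm_apply]
  let F : T ⊗[S] A₁ →ₗ[T] T ⊗[S] A₂ := f.toLinearMap
  let F' : T ⊗[S] A₂ →ₗ[T] T ⊗[S] A₁ := f.symm.toLinearMap
  have hF1 : ∀ (r : R) (x : T ⊗[S] A₁),
      F (((1 : T) ⊗ₜ[S] algebraMap R A₁ r) * x) = ((1 : T) ⊗ₜ[S] algebraMap R A₂ r) * F x := hf1
  have hF'1 : ∀ (r : R) (y : T ⊗[S] A₂),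
      F' (((1 : T) ⊗ₜ[S] algebraMap R A₂ r) * y) = ((1 : T) ⊗ₜ[S] algebraMap R A₁ r) * F' y := hg1
  have hinv : ∀ x : L ⊗[R] A₁, fibMap ρT hρ F' hF'1 (fibMap ρT hρ F hF1 x) = x := by
    intro x
    induction x using TensorProduct.induction_on with
    | zero => simp
    | add x y hx hy => rw [map_add, map_add, hx, hy]
    | tmul l a =>
      rw [fibMap_tmul, map_smul, fibMap_canL]
      show l • canL ρT hρ A₁ (f.symm (f ((1 : T) ⊗ₜ[S] a))) = _
      rw [AlgEquiv.symm_apply_apply, canL_tmul, map_one, TensorProduct.smul_tmul', smul_eq_mul,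
        mul_one]
  have hinv' : ∀ y : L ⊗[R] A₂, fibMap ρT hρ F hF1 (fibMap ρT hρ F' hF'1 y) = y := by
    intro y
    induction y using TensorProduct.induction_on with
    | zero => simp
    | add x y hx hy => rw [map_add, map_add, hx, hy]
    | tmul l a =>
      rw [fibMap_tmul, map_smul, fibMap_canL]
      show l • canL ρT hρ A₂ (f (f.symm ((1 : T) ⊗ₜ[S] a))) = _
      rw [AlgEquiv.apply_symm_apply, canL_tmul, map_one, TensorProduct.smul_tmul', smul_eq_mul,
        mul_one]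
  refine ⟨LinearEquiv.ofLinear (fibMap ρT hρ F hF1) (fibMap ρT hρ F' hF'1)
    (LinearMap.ext hinv') (LinearMap.ext hinv), ?_, ?_⟩
  · exact fibMap_symSpan_le lam ρT hρ t₁ t₂ F hF1 h2 hf2
  · exact fibMap_symSpan_le lam ρT hρ t₂ t₁ F' hF'1 h2 hg2

include hρ in
/-- a local isomorphism over `T` gives equal dimensions of the symmetric spans over `L` -/
theorem finrank_symSpan_eq [Module.Finite R A₁] [Module.Finite R A₂] (h2 : (2 : L) ≠ 0)
    (f : T ⊗[S] A₁ ≃ₐ[T] T ⊗[S] A₂)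
    (hf1 : ∀ (r : R) (x : T ⊗[S] A₁),
      f (((1 : T) ⊗ₜ[S] algebraMap R A₁ r) * x) = ((1 : T) ⊗ₜ[S] algebraMap R A₂ r) * f x)
    (hf2 : ∀ x : T ⊗[S] A₁, f (t₁.bc S lam T x) = t₂.bc S lam T (f x)) :
    Module.finrank L (symSpan (L := L) lam t₁) = Module.finrank L (symSpan (L := L) lam t₂) ∧
    Module.finrank L (L ⊗[R] A₁) = Module.finrank L (L ⊗[R] A₂) := by
  obtain ⟨G, hG1, hG2⟩ := exists_fibEquiv lam ρT hρ t₁ t₂ h2 f hf1 hf2
  haveI : Module.Finite L (L ⊗[R] A₁) := Module.Finite.base_change R L A₁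
  haveI : Module.Finite L (L ⊗[R] A₂) := Module.Finite.base_change R L A₂
  refine ⟨le_antisymm ?_ ?_, G.finrank_eq⟩
  · rw [← LinearEquiv.finrank_map_eq G]
    exact Submodule.finrank_mono hG1
  · rw [← LinearEquiv.finrank_map_eq G.symm]
    exact Submodule.finrank_mono hG2

end Equiv

end Groth.Agent.Lib.AzInvH6
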