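import Mathlib
import Groth.Agent.Lib.AzInv44_helper6
import Groth.Agent.Lib.AzInv43_helper6
import Groth.Agent.Lib.AzInv33_helper6

/-!
# AzInv45 (helper6): locally isomorphic algebras with involution have the same sign at every
ramified prime; the sign of `M_m(A)` is the sign of `A`.
-/

set_option autoImplicit false
set_option maxSynthPendingDepth 3
universe u v w w'

open TensorProduct IsLocalRing

namespace Groth.Agent.Lib.AzInvH6

attribute [local instance] Algebra.TensorProduct.rightAlgebra

section SymSpan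

variable {R : Type v} [CommRing R] {S : Type u} [CommRing S] [Algebra S R] (lam : R ≃ₐ[S] R)
  (Q : Ideal R) [Q.IsPrime] (L : Type*) [Field L] [Algebra R L]
  [Algebra Q.ResidueField L] [IsScalarTower R Q.ResidueField L]
  {A : Type w} [Ring A] [Algebra R A] (t : AzInv.LamInv R A lam)

theorem finrank_symSpan_eq_fibre :
    Module.finrank L (symSpan (L := L) lam t) =
      Module.finrank Q.ResidueField (Submodule.span Q.ResidueField
        (Set.range fun a : {a : A // t a = a} => (1 : Q.ResidueField) ⊗ₜ[R] (a : A))) := by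
  have hr1 : (Set.range fun a : {a : A // t a = a} => (1 : Q.ResidueField) ⊗ₜ[R] (a : A)) =
      (fun a => (1 : Q.ResidueField) ⊗ₜ[R] a) '' {a : A | t a = a} := by
    ext x
    simp only [Set.mem_range, Set.mem_image, Set.mem_setOf_eq, Subtype.exists, exists_prop]
  have hr2 : (Set.range fun a : {a : A // t a = a} => (1 : L) ⊗ₜ[R] (a : A)) =
      (fun a => (1 : L) ⊗ₜ[R] a) '' {a : A | t a = a} := by
    ext x
    simp only [Set.mem_range, Set.mem_image, Set.mem_setOf_eq, Subtype.exists, exists_prop]
  rw [symSpan, hr1, hr2, finrank_span_tmul_eq Q L]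

end SymSpan

section K3

variable (S : Type u) (R : Type v) [CommRing S] [CommRing R] [Algebra S R]
  (lam : R ≃ₐ[S] R) (hlam : ∀ r, lam (lam r) = r) (hfix : RInv.IsFixedRing S R lam.toRingEquiv)
  {A₁ : Type w} [Ring A₁] [Algebra S A₁] [Algebra R A₁] [IsScalarTower S R A₁]
  {A₂ : Type w'} [Ring A₂] [Algebra S A₂] [Algebra R A₂] [IsScalarTower S R A₂]
  (t₁ : AzInv.LamInv R A₁ lam) (t₂ : AzInv.LamInv R A₂ lam)
include hlam hfix

/-- locally isomorphic algebras with involution have the same symmetric dimension at every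
ramified prime -/
theorem finrank_sym_eq_of_locIsoEt [Module.Finite R A₁] [Module.Projective R A₁]
    [Module.Finite R A₂] [Module.Projective R A₂]
    (h2 : IsUnit (2 : S)) (h : AzInv.LocIsoEt S lam t₁ t₂)
    (Q : Ideal R) [hQ : Q.IsPrime] (hram : ∀ r, lam r - r ∈ Q) :
    Module.finrank Q.ResidueField (Submodule.span Q.ResidueField
        (Set.range fun a : {a : A₁ // t₁ a = a} => (1 : Q.ResidueField) ⊗ₜ[R] (a : A₁))) =
    Module.finrank Q.ResidueField (Submodule.span Q.ResidueField
        (Set.range fun a : {a : A₂ // t₂ a = a} => (1 : Q.ResidueField) ⊗ₜ[R] (a : A₂))) ∧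
    Module.rankAtStalk (R := R) A₁ ⟨Q, hQ⟩ = Module.rankAtStalk (R := R) A₂ ⟨Q, hQ⟩ := by
  obtain ⟨S', i1, i2, hE, hFF, f, hf1, hf2⟩ := h
  haveI : Module.Flat S S' := inferInstance
  have hinv' : Function.Involutive lam.toRingEquiv := fun r => hlam r
  have hinvT : Function.Involutive (lamT S lam S').toRingEquiv := fun x => lamT_invol S lam S' hlam x
  have hfixT : RInv.IsFixedRing S' (S' ⊗[S] R) (lamT S lam S').toRingEquiv :=
    isFixedRing_lamT S R lam hlam hfix S'
  -- a prime of `S'` over `q = Q ∩ S`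
  obtain ⟨q', hq'⟩ := PrimeSpectrum.comap_surjective_of_faithfullyFlat (A := S) (B := S')
    ⟨Q.comap (algebraMap S R), inferInstance⟩
  have hq'' : q'.asIdeal.comap (algebraMap S S') = Q.comap (algebraMap S R) :=
    congrArg PrimeSpectrum.asIdeal hq'
  obtain ⟨P, hP⟩ := Groth.Agent.Lib.RInv7.exists_prime_over hinvT hfixT q'
  haveI := P.isPrime
  have hPQ : Q = P.asIdeal.comap (algebraMap R (S' ⊗[S] R)) := by
    have h3 : (P.asIdeal.comap (algebraMap R (S' ⊗[S] R))).comap (algebraMap S R) =
        Q.comap (algebraMap S R) := by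
      rw [← hq'', ← hP, Ideal.comap_comap, Ideal.comap_comap]
      congr 1
      ext s
      simp only [RingHom.comp_apply, Algebra.TensorProduct.right_algebraMap_apply,
        Algebra.TensorProduct.algebraMap_apply, Algebra.algebraMap_self_apply]
      rw [Algebra.algebraMap_eq_smul_one, Algebra.algebraMap_eq_smul_one (A := S'),
        TensorProduct.tmul_smul, TensorProduct.smul_tmul']
    exact (Groth.Agent.Lib.RInv7.eq_of_comap_eq hinv' hfix (Q.comap (algebraMap S R)) Q
      (P.asIdeal.comap (algebraMap R (S' ⊗[S] R))) rfl h3 hram).symm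
  -- the field point
  let fR : R →+* S' ⊗[S] R := algebraMap R (S' ⊗[S] R)
  let ρ₀ : S' ⊗[S] R →+* P.asIdeal.ResidueField := algebraMap (S' ⊗[S] R) P.asIdeal.ResidueField
  letI algRL : Algebra R P.asIdeal.ResidueField := (ρ₀.comp fR).toAlgebra
  letI algKL : Algebra Q.ResidueField P.asIdeal.ResidueField :=
    (Ideal.ResidueField.map Q P.asIdeal fR hPQ).toAlgebra
  haveI : IsScalarTower R Q.ResidueField P.asIdeal.ResidueField :=
    IsScalarTower.of_algebraMap_eq
      (fun r => (Ideal.ResidueField.map_algebraMap Q P.asIdeal fR hPQ r).symm)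
  let ρT : S' →+* P.asIdeal.ResidueField := ρ₀.comp (algebraMap S' (S' ⊗[S] R))
  have hρ : ∀ σ : S, ρT (algebraMap S S' σ) =
      algebraMap R P.asIdeal.ResidueField (algebraMap S R σ) := by
    intro σ
    show ρ₀ (algebraMap S' (S' ⊗[S] R) (algebraMap S S' σ)) = ρ₀ (fR (algebraMap S R σ))
    congr 1
    show algebraMap S' (S' ⊗[S] R) (algebraMap S S' σ) =
      algebraMap R (S' ⊗[S] R) (algebraMap S R σ)
    rw [Algebra.TensorProduct.right_algebraMap_apply, Algebra.TensorProduct.algebraMap_apply,
      Algebra.algebraMap_self_apply, Algebra.algebraMap_eq_smul_one,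
      Algebra.algebraMap_eq_smul_one (A := R), TensorProduct.tmul_smul, TensorProduct.smul_tmul']
  have h2L : (2 : P.asIdeal.ResidueField) ≠ 0 := by
    intro h0
    have hu : IsUnit (2 : R) := by
      have := h2.map (algebraMap S R)
      rwa [map_ofNat] at this
    have hmem : (2 : R) ∈ Q := by
      rw [hPQ, Ideal.mem_comap]
      have : ρ₀ (fR 2) = 0 := by
        rw [map_ofNat, map_ofNat]
        exact h0
      exact Ideal.algebraMap_residueField_eq_zero.mp this
    exact hQ.ne_top (Ideal.eq_top_of_isUnit_mem _ hmem hu)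
  obtain ⟨key, key2⟩ := finrank_symSpan_eq lam ρT hρ t₁ t₂ h2L f hf1 hf2
  rw [finrank_symSpan_eq_fibre lam Q P.asIdeal.ResidueField t₁,
    finrank_symSpan_eq_fibre lam Q P.asIdeal.ResidueField t₂] at key
  rw [finrank_fibre_ext Q P.asIdeal.ResidueField, finrank_fibre_ext Q P.asIdeal.ResidueField]
    at key2
  exact ⟨key, key2⟩

end K3

end Groth.Agent.Lib.AzInvH6
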