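import Mathlib
import Groth.Agent.Lib.AzInv45_helper6

/-!
# AzInv46 (helper6): the sign of `(M_m(A), t.matrix)` at a ramified prime equals the sign of
`(A, t)`.
-/

set_option autoImplicit false
set_option maxSynthPendingDepth 3
universe u v w w'

open TensorProduct IsLocalRing

namespace Groth.Agent.Lib.AzInvH6

section SignMatrix

variable (S : Type u) (R : Type v) [CommRing S] [CommRing R] [Algebra S R]
  (lam : R ≃ₐ[S] R) (hlam : ∀ r, lam (lam r) = r) (hfix : RInv.IsFixedRing S R lam.toRingEquiv)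
include hlam hfix

theorem rankAtStalk_matrix_sq (A : Type v) [Ring A] [Algebra R A] [IsAzumaya R A] (n m : ℕ)
    (hrk : ∀ p : PrimeSpectrum R, Module.rankAtStalk (R := R) A p = n ^ 2) (p : PrimeSpectrum R) :
    Module.rankAtStalk (R := R) (Matrix (Fin m) (Fin m) A) p = (m * n) ^ 2 := by
  haveI : Module.Finite R A := IsAzumaya.toFinite
  haveI : Module.Projective R A := IsAzumaya.toProjective
  rw [Groth.Agent.Lib.LGAzH6.rankAtStalk_matrix, hrk]
  ring

/-- universe of `R` -/
theorem sign_matrix_aux (h2 : IsUnit (2 : S))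
    (A : Type v) [Ring A] [Algebra S A] [Algebra R A] [IsScalarTower S R A] [IsAzumaya R A]
    (n : ℕ) (hn : 0 < n) (hrk : ∀ p : PrimeSpectrum R, Module.rankAtStalk (R := R) A p = n ^ 2)
    (t : AzInv.LamInv R A lam) (m : ℕ) (hm : 0 < m)
    (Q : Ideal R) [hQ : Q.IsPrime] (hram : ∀ r, lam r - r ∈ Q) :
    Module.finrank Q.ResidueField (Submodule.span Q.ResidueField
        (Set.range fun a : {a : Matrix (Fin m) (Fin m) A // t.matrix (Fin m) a = a} =>
          (1 : Q.ResidueField) ⊗ₜ[R] (a : Matrix (Fin m) (Fin m) A))) =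
      Nat.choose (m * n + 1) 2 ↔
    Module.finrank Q.ResidueField (Submodule.span Q.ResidueField
        (Set.range fun a : {a : A // t a = a} => (1 : Q.ResidueField) ⊗ₜ[R] (a : A))) =
      Nat.choose (n + 1) 2 := by
  haveI : IsAzumaya R (Matrix (Fin m) (Fin m) A) :=
    Groth.Agent.Lib.LGAzH6.isAzumaya_matrix A m hm
  have hrkM := rankAtStalk_matrix_sq S R lam hlam hfix A n m hrk
  have hmn : 0 < m * n := Nat.mul_pos hm hn
  haveI : (Q.comap (algebraMap S R)).IsPrime := inferInstance
  have hoA := orth_iff S R lam hlam hfix A n hn hrk t h2 (Q.comap (algebraMap S R)) Q rfl hram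
  have hsA := symp_iff S R lam hlam hfix A n hn hrk t h2 (Q.comap (algebraMap S R)) Q rfl hram
  have hoM := orth_iff S R lam hlam hfix (Matrix (Fin m) (Fin m) A) (m * n) hmn hrkM
    (t.matrix (Fin m)) h2 (Q.comap (algebraMap S R)) Q rfl hram
  have hsM := symp_iff S R lam hlam hfix (Matrix (Fin m) (Fin m) A) (m * n) hmn hrkM
    (t.matrix (Fin m)) h2 (Q.comap (algebraMap S R)) Q rfl hram
  constructor
  · intro h
    by_contra hne
    obtain ⟨hev, hf⟩ := hsA.mp hne
    have h1 := hf.amp m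
    rw [amp_neg, amp_Jn R m hev] at h1
    exact hsM.mpr ⟨hev.mul_left m, h1⟩ h
  · intro h
    have h1 := (hoA.mp h).amp m
    rw [amp_one] at h1
    exact hoM.mpr h1

/-- arbitrary universe -/
theorem sign_matrix (h2 : IsUnit (2 : S))
    (A : Type w) [Ring A] [Algebra S A] [Algebra R A] [IsScalarTower S R A]
    (n : ℕ) (hn : 0 < n) (hA : AzInv.IsAzumayaDeg R A n)
    (t : AzInv.LamInv R A lam) (m : ℕ) (hm : 0 < m)
    (Q : Ideal R) [hQ : Q.IsPrime] (hram : ∀ r, lam r - r ∈ Q) :
    Module.finrank Q.ResidueField (Submodule.span Q.ResidueField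
        (Set.range fun a : {a : Matrix (Fin m) (Fin m) A // t.matrix (Fin m) a = a} =>
          (1 : Q.ResidueField) ⊗ₜ[R] (a : Matrix (Fin m) (Fin m) A))) =
      Nat.choose (m * n + 1) 2 ↔
    Module.finrank Q.ResidueField (Submodule.span Q.ResidueField
        (Set.range fun a : {a : A // t a = a} => (1 : Q.ResidueField) ⊗ₜ[R] (a : A))) =
      Nat.choose (n + 1) 2 := by
  obtain ⟨A₀, i1, i2, i3, i4, i5, e, t₀, hrk, he, he'⟩ := exists_shrink S R lam A n hA t
  have h0 := sign_matrix_aux S R lam hlam hfix h2 A₀ n hn hrk t₀ m hm Q hram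
  have e1 := finrank_sym_congr e t₀ t he Q
  have e2 := finrank_sym_congr (e.mapMatrix (m := Fin m)) (t₀.matrix (Fin m)) (t.matrix (Fin m))
    (fun X => by
      ext i j
      exact he (X j i)) Q
  rw [e1, e2] at h0
  exact h0

end SignMatrix

end Groth.Agent.Lib.AzInvH6
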