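import Mathlib
import Groth.Agent.Lib.AzInv46_helper6

/-!
# AzInv47 (helper6): same type ⟺ same signs on the ramification locus (`2` invertible), and
same type + same degree ⇒ locally isomorphic.
-/

set_option autoImplicit false
set_option maxSynthPendingDepth 3
universe u v w w'

open TensorProduct IsLocalRing

namespace Groth.Agent.Lib.AzInvH6

section Final

variable (S : Type u) (R : Type v) [CommRing S] [CommRing R] [Algebra S R]
  (lam : R ≃ₐ[S] R) (hlam : ∀ r, lam (lam r) = r) (hfix : RInv.IsFixedRing S R lam.toRingEquiv)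
include hlam hfix

theorem rankAtStalk_matrix_sq' (A : Type w) [Ring A] [Algebra R A] (n m : ℕ)
    (hA : AzInv.IsAzumayaDeg R A n) (p : PrimeSpectrum R) :
    Module.rankAtStalk (R := R) (Matrix (Fin m) (Fin m) A) p = (m * n) ^ 2 := by
  haveI : IsAzumaya R A := hA.1
  haveI : Module.Finite R A := IsAzumaya.toFinite
  haveI : Module.Projective R A := IsAzumaya.toProjective
  rw [Groth.Agent.Lib.LGAzH6.rankAtStalk_matrix, hA.2]
  ring

/-- same type ⇒ same signs -/
theorem signs_of_sameType (h2 : IsUnit (2 : S))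
    (A : Type w) [Ring A] [Algebra S A] [Algebra R A] [IsScalarTower S R A]
    (A' : Type w') [Ring A'] [Algebra S A'] [Algebra R A'] [IsScalarTower S R A']
    (n n' : ℕ) (hn : 0 < n) (hn' : 0 < n') (hA : AzInv.IsAzumayaDeg R A n)
    (hA' : AzInv.IsAzumayaDeg R A' n')
    (t : AzInv.LamInv R A lam) (t' : AzInv.LamInv R A' lam) (h : AzInv.SameType S lam t t')
    (Q : Ideal R) [hQ : Q.IsPrime] (hram : ∀ r, lam r - r ∈ Q) :
    Module.finrank Q.ResidueField (Submodule.span Q.ResidueField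
        (Set.range fun a : {a : A // t a = a} => (1 : Q.ResidueField) ⊗ₜ[R] (a : A))) =
      Nat.choose (n + 1) 2 ↔
    Module.finrank Q.ResidueField (Submodule.span Q.ResidueField
        (Set.range fun a : {a : A' // t' a = a} => (1 : Q.ResidueField) ⊗ₜ[R] (a : A'))) =
      Nat.choose (n' + 1) 2 := by
  obtain ⟨m, m', hm, hm', hloc⟩ := h
  haveI : IsAzumaya R A := hA.1
  haveI : IsAzumaya R A' := hA'.1
  haveI : IsAzumaya R (Matrix (Fin m) (Fin m) A) :=
    Groth.Agent.Lib.LGAzH6.isAzumaya_matrix A m hm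
  haveI : IsAzumaya R (Matrix (Fin m') (Fin m') A') :=
    Groth.Agent.Lib.LGAzH6.isAzumaya_matrix A' m' hm'
  haveI : Module.Finite R (Matrix (Fin m) (Fin m) A) := IsAzumaya.toFinite
  haveI : Module.Projective R (Matrix (Fin m) (Fin m) A) := IsAzumaya.toProjective
  haveI : Module.Finite R (Matrix (Fin m') (Fin m') A') := IsAzumaya.toFinite
  haveI : Module.Projective R (Matrix (Fin m') (Fin m') A') := IsAzumaya.toProjective
  obtain ⟨hd, hr⟩ := finrank_sym_eq_of_locIsoEt S R lam hlam hfix (t.matrix (Fin m))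
    (t'.matrix (Fin m')) h2 hloc Q hram
  rw [rankAtStalk_matrix_sq' S R lam hlam hfix A n m hA,
    rankAtStalk_matrix_sq' S R lam hlam hfix A' n' m' hA'] at hr
  have hmn : m * n = m' * n' := by
    have := Nat.pow_left_injective (n := 2) (by norm_num) hr
    exact this
  have h1 := sign_matrix S R lam hlam hfix h2 A n hn hA t m hm Q hram
  have h1' := sign_matrix S R lam hlam hfix h2 A' n' hn' hA' t' m' hm' Q hram
  rw [← h1, ← h1', hd, hmn]

/-- same signs ⇒ same type -/
theorem sameType_of_signs (h2 : IsUnit (2 : S))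
    (A : Type w) [Ring A] [Algebra S A] [Algebra R A] [IsScalarTower S R A]
    (A' : Type w') [Ring A'] [Algebra S A'] [Algebra R A'] [IsScalarTower S R A']
    (n n' : ℕ) (hn : 0 < n) (hn' : 0 < n') (hA : AzInv.IsAzumayaDeg R A n)
    (hA' : AzInv.IsAzumayaDeg R A' n')
    (t : AzInv.LamInv R A lam) (t' : AzInv.LamInv R A' lam)
    (h : ∀ (Q : Ideal R) [Q.IsPrime], (∀ r, lam r - r ∈ Q) →
      (Module.finrank Q.ResidueField (Submodule.span Q.ResidueField
        (Set.range fun a : {a : A // t a = a} => (1 : Q.ResidueField) ⊗ₜ[R] (a : A))) =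
        Nat.choose (n + 1) 2 ↔
      Module.finrank Q.ResidueField (Submodule.span Q.ResidueField
        (Set.range fun a : {a : A' // t' a = a} => (1 : Q.ResidueField) ⊗ₜ[R] (a : A'))) =
        Nat.choose (n' + 1) 2)) :
    AzInv.SameType S lam t t' := by
  refine ⟨n', n, hn', hn, ?_⟩
  obtain ⟨A₀, i1, i2, i3, i4, i5, e, t₀, hrk, he, he'⟩ := exists_shrink S R lam A n hA t
  obtain ⟨A₀', j1, j2, j3, j4, j5, e', t₀', hrk', hee, hee'⟩ :=
    exists_shrink S R lam A' n' hA' t'
  haveI : IsAzumaya R (Matrix (Fin n') (Fin n') A₀) :=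
    Groth.Agent.Lib.LGAzH6.isAzumaya_matrix A₀ n' hn'
  haveI : IsAzumaya R (Matrix (Fin n) (Fin n) A₀') :=
    Groth.Agent.Lib.LGAzH6.isAzumaya_matrix A₀' n hn
  have hrkM := rankAtStalk_matrix_sq S R lam hlam hfix A₀ n n' hrk
  have hrkM' : ∀ p : PrimeSpectrum R,
      Module.rankAtStalk (R := R) (Matrix (Fin n) (Fin n) A₀') p = (n' * n) ^ 2 := by
    intro p
    rw [rankAtStalk_matrix_sq S R lam hlam hfix A₀' n' n hrk' p, mul_comm]
  have h0 : AzInv.LocIsoEt S lam (t₀.matrix (Fin n')) (t₀'.matrix (Fin n)) := by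
    refine locIsoEt_of_signs S R lam hlam hfix (Matrix (Fin n') (Fin n') A₀)
      (Matrix (Fin n) (Fin n) A₀') (n' * n) (Nat.mul_pos hn' hn) hrkM hrkM' _ _ h2 ?_
    intro Q hQ hram
    have s1 := sign_matrix_aux S R lam hlam hfix h2 A₀ n hn hrk t₀ n' hn' Q hram
    have s2 := sign_matrix_aux S R lam hlam hfix h2 A₀' n' hn' hrk' t₀' n hn Q hram
    rw [mul_comm n n'] at s2
    rw [s1, s2, finrank_sym_congr e t₀ t he Q, finrank_sym_congr e' t₀' t' hee Q]
    exact h Q hram
  have h1 : AzInv.LocIsoEt S lam (t.matrix (Fin n')) (t₀'.matrix (Fin n)) :=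
    locIsoEt_congr_left S lam (e.symm.mapMatrix (m := Fin n')) (t.matrix (Fin n'))
      (t₀.matrix (Fin n')) (fun X => by
        ext i j
        exact he' (X j i)) _ h0
  exact locIsoEt_congr_right S lam (e'.symm.mapMatrix (m := Fin n)) (t'.matrix (Fin n))
    (t₀'.matrix (Fin n)) (fun X => by
      ext i j
      exact hee' (X j i)) _ h1

/-- S17361 -/
theorem sameType_iff_signs (h2 : IsUnit (2 : S))
    (A : Type w) [Ring A] [Algebra S A] [Algebra R A] [IsScalarTower S R A]
    (A' : Type w') [Ring A'] [Algebra S A'] [Algebra R A'] [IsScalarTower S R A']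
    (n n' : ℕ) (hn : 0 < n) (hn' : 0 < n') (hA : AzInv.IsAzumayaDeg R A n)
    (hA' : AzInv.IsAzumayaDeg R A' n')
    (t : AzInv.LamInv R A lam) (t' : AzInv.LamInv R A' lam) :
    AzInv.SameType S lam t t' ↔
      ∀ q : PrimeSpectrum R, (∀ r : R, lam r - r ∈ q.asIdeal) →
        (Module.finrank q.asIdeal.ResidueField
            (Submodule.span q.asIdeal.ResidueField
              (Set.range fun a : {a : A // t a = a} =>
                (1 : q.asIdeal.ResidueField) ⊗ₜ[R] (a : A))) = Nat.choose (n + 1) 2 ↔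
          Module.finrank q.asIdeal.ResidueField
            (Submodule.span q.asIdeal.ResidueField
              (Set.range fun a : {a : A' // t' a = a} =>
                (1 : q.asIdeal.ResidueField) ⊗ₜ[R] (a : A'))) = Nat.choose (n' + 1) 2) := by
  constructor
  · intro h q hram
    haveI := q.isPrime
    exact signs_of_sameType S R lam hlam hfix h2 A A' n n' hn hn' hA hA' t t' h q.asIdeal hram
  · intro h
    exact sameType_of_signs S R lam hlam hfix h2 A A' n n' hn hn' hA hA' t t'
      (fun Q hQ hram => h ⟨Q, hQ⟩ hram)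

/-- S17352 -/
theorem locIsoEt_of_sameType (hsq : HasSqrt S) (n : ℕ) (hn : 0 < n)
    (hcond : IsUnit (2 : S) ∨ RInv.IsQuadEtale S R ∨ Odd n)
    (A : Type w) [Ring A] [Algebra S A] [Algebra R A] [IsScalarTower S R A]
    (A' : Type w') [Ring A'] [Algebra S A'] [Algebra R A'] [IsScalarTower S R A']
    (hA : AzInv.IsAzumayaDeg R A n) (hA' : AzInv.IsAzumayaDeg R A' n)
    (t : AzInv.LamInv R A lam) (t' : AzInv.LamInv R A' lam) (h : AzInv.SameType S lam t t') :
    AzInv.LocIsoEt S lam t t' := by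
  obtain ⟨A₀, i1, i2, i3, i4, i5, e, t₀, hrk, he, he'⟩ := exists_shrink S R lam A n hA t
  obtain ⟨A₀', j1, j2, j3, j4, j5, e', t₀', hrk', hee, hee'⟩ :=
    exists_shrink S R lam A' n hA' t'
  suffices h0 : AzInv.LocIsoEt S lam t₀ t₀' by
    exact locIsoEt_congr_right S lam e'.symm t' t₀' hee' _
      (locIsoEt_congr_left S lam e.symm t t₀ he' _ h0)
  have hone : ((∀ (q : Ideal S) [q.IsPrime], UnramAt S R lam q) ∨ Odd n) →
      AzInv.LocIsoEt S lam t₀ t₀' := by
    intro hcases
    refine locIsoEt_of_forms S R lam A₀ A₀' n hrk hrk' t₀ t₀' 1 1 (fun q _ => ?_)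
    have hc : (∃ a : ShQ S q ⊗[S] R, IsUnit (a - lamT S lam (ShQ S q) a)) ∨ Odd n := by
      rcases hcases with h | h
      · exact Or.inl (exists_isUnit_sub_lamT S R lam q (ShQ S q) (comap_maximalIdeal_shq S q) (h q))
      · exact Or.inr h
    exact ⟨matInvHom_one_of_local S R lam hlam hfix (ShQ S q) A₀ n hn hrk t₀
        (exists_sqrt_shq hsq q) (matHom_sh S R lam hlam hfix A₀ n hn hrk q) hc,
      matInvHom_one_of_local S R lam hlam hfix (ShQ S q) A₀' n hn hrk' t₀'
        (exists_sqrt_shq hsq q) (matHom_sh S R lam hlam hfix A₀' n hn hrk' q) hc⟩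
  rcases hcond with h2 | hq | hodd
  · refine locIsoEt_of_signs S R lam hlam hfix A₀ A₀' n hn hrk hrk' t₀ t₀' h2 ?_
    intro Q hQ hram
    rw [finrank_sym_congr e t₀ t he Q, finrank_sym_congr e' t₀' t' hee Q]
    exact signs_of_sameType S R lam hlam hfix h2 A A' n n hn hn hA hA' t t' h Q hram
  · exact hone (Or.inl fun q _ => unramAt_of_isQuadEtale S R lam hlam hfix hq q)
  · exact hone (Or.inr hodd)

end Final

end Groth.Agent.Lib.AzInvH6
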