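import Mathlib
import Groth.Agent.Lib.AzInv29_helper6

/-!
# AzInv48 (helper6): hyperbolic pair for a skew-hermitian 2×2 form, given one explicit square root
(no Jacobson radical hypotheses).
-/

set_option autoImplicit false
universe v

namespace Groth.Agent.Lib.AzInvH6

open Groth.Agent.Lib.HermDiagH3

section TwoByTwo

variable {A : Type v} [CommRing A] (lam : A ≃+* A) (hlam : Function.Involutive lam)
include hlam

/-- a hyperbolic pair for a skew-hermitian 2×2 form, from a square root `y₀` of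
`1 + h₀₀ * lam(b⁻¹) * b⁻¹ * h₁₁` with `1 + y₀` invertible -/
theorem exists_hyperbolic_pair' (h2 : IsUnit (2 : A))
    (h : Matrix (Fin 2) (Fin 2) A) (herm : (-1 : A) • (h.map lam).transpose = h)
    (bi : A) (hbib : bi * h 0 1 = 1)
    (y₀ : A) (hy₀lam : lam y₀ = y₀)
    (hy₀ : y₀ * y₀ = 1 + h 0 0 * (lam bi * (bi * h 1 1)))
    (hu : IsUnit (1 + y₀)) (hy₀u : IsUnit y₀) :
    ∃ x y : Fin 2 → A, ip lam h x x = 0 ∧ ip lam h x y = 1 ∧ ip lam h y y = 0 := by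
  classical
  have hsymm := ip_symm lam h hlam (-1) herm
  have hqfix := q_fix lam h hlam (-1) (Or.inr rfl) herm
  obtain ⟨e₁, he₁⟩ : ∃ e₁ : Fin 2 → A, e₁ = Pi.single 0 1 := ⟨_, rfl⟩
  obtain ⟨e₂, he₂⟩ : ∃ e₂ : Fin 2 → A, e₂ = Pi.single 1 1 := ⟨_, rfl⟩
  have h11 : ip lam h e₁ e₁ = h 0 0 := by rw [he₁]; exact ip_single_single lam hlam h 0 0
  have h12 : ip lam h e₁ e₂ = h 0 1 := by rw [he₁, he₂]; exact ip_single_single lam hlam h 0 1
  have h22 : ip lam h e₂ e₂ = h 1 1 := by rw [he₂]; exact ip_single_single lam hlam h 1 1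
  obtain ⟨f₁, hf₁⟩ : ∃ f₁ : Fin 2 → A, f₁ = bi • e₂ := ⟨_, rfl⟩
  have hB1 : ip lam h e₁ f₁ = 1 := by rw [hf₁, ip_smul_right, h12, hbib]
  obtain ⟨d₁, hd₁⟩ : ∃ d₁ : A, d₁ = ip lam h f₁ f₁ := ⟨_, rfl⟩
  have hd₁' : d₁ = lam bi * (bi * h 1 1) := by
    rw [hd₁, hf₁, ip_smul_left, ip_smul_right, h22]
  have hd₁lam : lam d₁ = -d₁ := by rw [hd₁, hqfix]; ring
  obtain ⟨a, ha'⟩ : ∃ a : A, a = h 0 0 := ⟨_, rfl⟩
  have h11' : ip lam h e₁ e₁ = a := by rw [ha']; exact h11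
  have halam : lam a = -a := by rw [← h11', hqfix]; ring
  have hB1' : ip lam h f₁ e₁ = -1 := by rw [hsymm e₁ f₁, hB1, map_one]; ring
  have hy₀' : y₀ * y₀ = 1 + a * d₁ := by rw [hy₀, ha', hd₁']
  obtain ⟨uu, huu⟩ := hu
  obtain ⟨s, hs⟩ : ∃ s : A, s = ((uu⁻¹ : Aˣ) : A) := ⟨_, rfl⟩
  have hsu : s * (1 + y₀) = 1 := by rw [← huu, hs, Units.inv_mul]
  have hslam : lam s = s :=
    lam_inv_of_fixed lam hlam (by rw [map_add, map_one, hy₀lam]) hsu
  obtain ⟨z, hz⟩ : ∃ z : A, z = -a * s := ⟨_, rfl⟩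
  have hzlam : lam z = -z := by rw [hz, map_mul, map_neg, halam, hslam]; ring
  obtain ⟨x, hx⟩ : ∃ x : Fin 2 → A, x = e₁ + z • f₁ := ⟨_, rfl⟩
  have hxx : ip lam h x x = 0 := by
    rw [hx, ip_add_left, ip_add_right, ip_add_right, ip_smul_left, ip_smul_left, ip_smul_right,
      ip_smul_right, h11', hB1, hB1', ← hd₁, hzlam, hz]
    linear_combination (a * s ^ 2) * hy₀' - a * (1 - s + s * y₀) * hsu
  -- p
  have hxf₁ : ip lam h x f₁ = 1 - z * d₁ := by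
    rw [hx, ip_add_left, ip_smul_left, hB1, ← hd₁, hzlam]; ring
  have hpy : 1 - z * d₁ = y₀ := by
    rw [hz]
    linear_combination (-s) * hy₀' + (y₀ - 1) * hsu
  obtain ⟨pu, hpu'⟩ := hy₀u
  obtain ⟨pi, hpi⟩ : ∃ pi : A, pi = ((pu⁻¹ : Aˣ) : A) := ⟨_, rfl⟩
  have hpip : pi * (1 - z * d₁) = 1 := by rw [hpy, ← hpu', hpi, Units.inv_mul]
  obtain ⟨f₂, hf₂⟩ : ∃ f₂ : Fin 2 → A, f₂ = pi • f₁ := ⟨_, rfl⟩
  have hxf₂ : ip lam h x f₂ = 1 := by rw [hf₂, ip_smul_right, hxf₁, hpip]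
  have hf₂x : ip lam h f₂ x = -1 := by rw [hsymm x f₂, hxf₂, map_one]; ring
  obtain ⟨d₃, hd₃⟩ : ∃ d₃ : A, d₃ = ip lam h f₂ f₂ := ⟨_, rfl⟩
  have hd₃lam : lam d₃ = -d₃ := by rw [hd₃, hqfix]; ring
  obtain ⟨t2, ht2⟩ := h2.exists_right_inv
  have ht2lam : lam t2 = t2 := by
    refine lam_inv_of_fixed lam hlam (u := 2) ?_ (by rw [mul_comm]; exact ht2)
    rw [map_ofNat]
  obtain ⟨γ, hγ⟩ : ∃ γ : A, γ = d₃ * t2 := ⟨_, rfl⟩
  have hγlam : lam γ = -γ := by rw [hγ, map_mul, hd₃lam, ht2lam]; ring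
  refine ⟨x, f₂ + γ • x, hxx, ?_, ?_⟩
  · rw [ip_add_right, ip_smul_right, hxx, hxf₂]; ring
  · rw [ip_add_left, ip_add_right, ip_add_right, ip_smul_left, ip_smul_left, ip_smul_right,
      ip_smul_right, hxx, hxf₂, hf₂x, ← hd₃, hγlam, hγ]
    linear_combination (-d₃) * ht2

/-- the Gram matrix of a hyperbolic pair -/
theorem gram_of_hyperbolic_pair (h : Matrix (Fin 2) (Fin 2) A)
    (herm : (-1 : A) • (h.map lam).transpose = h) (x y : Fin 2 → A)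
    (hxx : ip lam h x x = 0) (hxy : ip lam h x y = 1) (hyy : ip lam h y y = 0) :
    ((Matrix.of fun i j => ![x, y] j i : Matrix (Fin 2) (Fin 2) A).map lam).transpose * h *
      (Matrix.of fun i j => ![x, y] j i) = Matrix.of ![![(0 : A), 1], ![-1, 0]] := by
  have hsymm := ip_symm lam h hlam (-1) herm
  have hyx : ip lam h y x = -1 := by rw [hsymm x y, hxy, map_one]; ring
  have key : ∀ (i j : Fin 2),
      (((Matrix.of fun i j => ![x, y] j i : Matrix (Fin 2) (Fin 2) A).map lam).transpose * h *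
        (Matrix.of fun i j => ![x, y] j i)) i j = ip lam h (![x, y] i) (![x, y] j) := by
    intro i j
    unfold ip
    simp only [Matrix.mul_apply, dotProduct, Matrix.mulVec, Finset.sum_mul, Finset.mul_sum,
      Matrix.transpose_apply, Matrix.map_apply, Matrix.of_apply]
    rw [Finset.sum_comm]
    refine Finset.sum_congr rfl fun k _ => Finset.sum_congr rfl fun l _ => ?_
    ring
  ext i j
  rw [key i j]
  fin_cases i <;> fin_cases j <;> simp [hxx, hxy, hyx, hyy]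

end TwoByTwo

end Groth.Agent.Lib.AzInvH6
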