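import Mathlib
import Groth.Agent.Lib.AzInv48_helper6

/-!
# AzInv49 (helper6): a skew-hermitian 2×2 form congruent to the standard alternating one becomes
isometric to it on the cover `D(1 + X) ∪ D(1 - X)` of `B[X, Y]/(X² - s, Y² - 1)`.
-/

set_option autoImplicit false
universe u v

open TensorProduct

namespace Groth.Agent.Lib.AzInvH6

open Groth.Agent.Lib.HermDiagH3

section Units

variable {B : Type u} {A : Type v} [CommRing B] [CommRing A] [Algebra B A] (lam : A ≃+* A)
  (hlam : Function.Involutive lam) (hB : RInv.IsFixedRing B A lam)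
include hlam hB

theorem isUnit_of_isUnit_algebraMap (b : B) (hb : IsUnit (algebraMap B A b)) : IsUnit b := by
  obtain ⟨c, hc⟩ := hb.exists_left_inv
  have hfix : lam (algebraMap B A b) = algebraMap B A b := (hB.2 _).mpr ⟨b, rfl⟩
  have hc' : lam c = c := lam_inv_of_fixed lam hlam hfix hc
  obtain ⟨τ, hτ⟩ := (hB.2 c).mp hc'
  refine IsUnit.of_mul_eq_one τ ?_
  apply hB.1
  rw [map_mul, map_one, hτ, mul_comm, hc]

end Units

section Main

variable (B : Type u) (A : Type v) [CommRing B] [CommRing A] [Algebra B A]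
  (lam : A ≃ₐ[B] A) (hlam : ∀ a, lam (lam a) = a) (hB : RInv.IsFixedRing B A lam.toRingEquiv)

/-- the extension of `lam` to `C ⊗ A` -/
noncomputable abbrev lamC (C : Type*) [CommRing C] [Algebra B C] : C ⊗[B] A ≃ₐ[C] C ⊗[B] A :=
  Algebra.TensorProduct.congr (AlgEquiv.refl : C ≃ₐ[C] C) lam

theorem lamC_tmul (C : Type*) [CommRing C] [Algebra B C] (c : C) (a : A) :
    lamC B A lam C (c ⊗ₜ[B] a) = c ⊗ₜ[B] lam a := by
  simp [lamC]

include hlam in
theorem lamC_invol (C : Type*) [CommRing C] [Algebra B C] (x : C ⊗[B] A) :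
    lamC B A lam C (lamC B A lam C x) = x := by
  induction x using TensorProduct.induction_on with
  | zero => simp
  | add x y hx hy => rw [map_add, map_add, hx, hy]
  | tmul c a => rw [lamC_tmul, lamC_tmul, hlam]

include hlam in
/-- the local statement over a `B`-algebra `C` containing a square root `η` of `s` with `1 + η`
invertible -/
theorem exists_isometry_over (h2 : IsUnit (2 : A))
    (h : Matrix (Fin 2) (Fin 2) A) (herm : -(h.map lam).transpose = h)
    (bi : A) (hbib : bi * h 0 1 = 1) (s : B)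
    (hs : algebraMap B A s = 1 + h 0 0 * (lam bi * (bi * h 1 1))) (hsu : IsUnit s)
    (C : Type*) [CommRing C] [Algebra B C] (η : C) (hη : η * η = algebraMap B C s)
    (hηu : IsUnit (1 + η)) :
    ∃ v : Matrix (Fin 2) (Fin 2) (C ⊗[B] A), IsUnit v ∧
      (v.map (Algebra.TensorProduct.congr (AlgEquiv.refl : C ≃ₐ[C] C) lam)).transpose *
        h.map (Algebra.TensorProduct.includeRight : A →ₐ[B] C ⊗[B] A) * v =
      (Matrix.of ![![(0 : A), 1], ![-1, 0]]).map
        (Algebra.TensorProduct.includeRight : A →ₐ[B] C ⊗[B] A) := by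
  classical
  let ι : A →ₐ[B] C ⊗[B] A := Algebra.TensorProduct.includeRight
  have hι : ∀ a, ι a = (1 : C) ⊗ₜ[B] a := fun a => rfl
  let lamT : C ⊗[B] A ≃+* C ⊗[B] A := (lamC B A lam C).toRingEquiv
  have hlamT : ∀ x, lamT x = lamC B A lam C x := fun x => rfl
  have hinv : Function.Involutive lamT := fun x => lamC_invol B A lam hlam C x
  have hlamι : ∀ a, lamT (ι a) = ι (lam a) := fun a => by rw [hlamT, hι, lamC_tmul, hι]
  have h2T : IsUnit (2 : C ⊗[B] A) := by
    have := h2.map ι
    rwa [map_ofNat] at this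
  have hermT : (-1 : C ⊗[B] A) • ((h.map ι).map lamT).transpose = h.map ι := by
    ext i j
    rw [Matrix.smul_apply, Matrix.transpose_apply, Matrix.map_apply, Matrix.map_apply,
      Matrix.map_apply, hlamι, smul_eq_mul, neg_one_mul, ← map_neg]
    congr 1
    have := congrFun (congrFun herm i) j
    rw [Matrix.neg_apply, Matrix.transpose_apply, Matrix.map_apply] at this
    exact this
  have hbibT : ι bi * (h.map ι) 0 1 = 1 := by
    rw [Matrix.map_apply, ← map_mul, hbib, map_one]
  let y₀ : C ⊗[B] A := η ⊗ₜ[B] (1 : A)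
  have hy₀lam : lamT y₀ = y₀ := by rw [hlamT, lamC_tmul, map_one]
  have hy₀ : y₀ * y₀ = 1 + (h.map ι) 0 0 * (lamT (ι bi) * (ι bi * (h.map ι) 1 1)) := by
    rw [Matrix.map_apply, Matrix.map_apply, hlamι, ← map_mul, ← map_mul, ← map_mul, ← map_one ι,
      ← map_add, ← hs]
    show (η ⊗ₜ[B] (1 : A)) * (η ⊗ₜ[B] (1 : A)) = (1 : C) ⊗ₜ[B] algebraMap B A s
    rw [Algebra.TensorProduct.tmul_mul_tmul, mul_one, hη, Algebra.algebraMap_eq_smul_one,
      Algebra.algebraMap_eq_smul_one (A := A), TensorProduct.tmul_smul, TensorProduct.smul_tmul']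
  have hu : IsUnit (1 + y₀) := by
    have h1 : (1 : C ⊗[B] A) + y₀ = (1 + η) ⊗ₜ[B] (1 : A) := by
      rw [TensorProduct.add_tmul]
      rfl
    rw [h1]
    exact hηu.map (Algebra.TensorProduct.includeLeft : C →ₐ[B] C ⊗[B] A)
  have hy₀u : IsUnit y₀ := by
    have hx₀ : IsUnit (y₀ * y₀) := by
      rw [hy₀, Matrix.map_apply, Matrix.map_apply, hlamι, ← map_mul, ← map_mul, ← map_mul,
        ← map_one ι, ← map_add, ← hs]
      exact (hsu.map (algebraMap B A)).map ι
    exact isUnit_of_mul_isUnit_left hx₀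
  obtain ⟨x, y, hxx, hxy, hyy⟩ := exists_hyperbolic_pair' lamT hinv h2T (h.map ι) hermT (ι bi)
    hbibT y₀ hy₀lam hy₀ hu hy₀u
  have hgram := gram_of_hyperbolic_pair lamT hinv (h.map ι) hermT x y hxx hxy hyy
  have hJ : (Matrix.of ![![(0 : A), 1], ![-1, 0]]).map ι =
      Matrix.of ![![(0 : C ⊗[B] A), 1], ![-1, 0]] := by
    ext i j
    fin_cases i <;> fin_cases j <;> simp
  refine ⟨Matrix.of fun i j => ![x, y] j i, ?_, ?_⟩
  · -- invertibility from the Gram identity
    have hJJ : (Matrix.of ![![(0 : C ⊗[B] A), -1], ![1, 0]]) *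
        Matrix.of ![![(0 : C ⊗[B] A), 1], ![-1, 0]] = 1 := by
      ext i j
      fin_cases i <;> fin_cases j <;> simp [Matrix.mul_apply, Fin.sum_univ_two]
    have hleft : ((Matrix.of ![![(0 : C ⊗[B] A), -1], ![1, 0]]) *
        (((Matrix.of fun i j => ![x, y] j i : Matrix (Fin 2) (Fin 2) (C ⊗[B] A)).map
          lamT).transpose * h.map ι)) * (Matrix.of fun i j => ![x, y] j i) = 1 := by
      rw [mul_assoc, hgram, hJJ]
    exact (Matrix.isUnit_iff_isUnit_det _).mpr (Matrix.isUnit_det_of_left_inverse hleft)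
  · rw [hJ]
    exact hgram

end Main

end Groth.Agent.Lib.AzInvH6
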