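import Mathlib
import Groth.Agent.Lib.AzInv49_helper6

/-!
# AzInv50 (helper6): S17363 — normal form of a skew-hermitian 2×2 matrix after adjoining a square
root, on the cover `D(1 + X) ∪ D(1 - X)`.
-/

set_option autoImplicit false
universe u v

open TensorProduct

namespace Groth.Agent.Lib.AzInvH6

open Groth.Agent.Lib.HermDiagH3

theorem exists_sqrt_cover_normal_form (B : Type u) (A : Type v) [CommRing B] [CommRing A]
    [Algebra B A] (lam : A ≃ₐ[B] A) (hlam : ∀ a, lam (lam a) = a)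
    (hB : RInv.IsFixedRing B A lam.toRingEquiv)
    (hid : ∀ a : A, lam a - a ∈ Ring.jacobson A) (h2 : IsUnit (2 : A))
    (h : Matrix (Fin 2) (Fin 2) A) (herm : -(h.map lam).transpose = h)
    (hJ : ∀ i j : Fin 2, h i j - Matrix.of ![![(0 : A), 1], ![-1, 0]] i j ∈ Ring.jacobson A) :
    ∃ (s t : Bˣ) (r : ℕ) (f : Fin r → (MvPolynomial (Fin 2) B ⧸ Ideal.span ({MvPolynomial.X 0 ^ 2 - MvPolynomial.C (s : B), MvPolynomial.X 1 ^ 2 - MvPolynomial.C (t : B)} : Set (MvPolynomial (Fin 2) B)))),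
      Ideal.span (Set.range f) = ⊤ ∧
      ∀ i : Fin r, ∃ v : Matrix (Fin 2) (Fin 2) (Localization.Away (f i) ⊗[B] A), IsUnit v ∧
        (v.map (Algebra.TensorProduct.congr (AlgEquiv.refl : Localization.Away (f i) ≃ₐ[Localization.Away (f i)] Localization.Away (f i)) lam)).transpose * h.map (Algebra.TensorProduct.includeRight : A →ₐ[B] Localization.Away (f i) ⊗[B] A) * v
          = (Matrix.of ![![(0 : A), 1], ![-1, 0]]).map (Algebra.TensorProduct.includeRight : A →ₐ[B] Localization.Away (f i) ⊗[B] A) := by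
  classical
  have hinv' : Function.Involutive lam.toRingEquiv := fun a => hlam a
  have hb1 : h 0 1 - 1 ∈ Ring.jacobson A := by
    have := hJ 0 1
    simpa using this
  have h00 : h 0 0 ∈ Ring.jacobson A := by
    have := hJ 0 0
    simpa using this
  have hbu : IsUnit (h 0 1) := by
    have := isUnit_add_jac (isUnit_one (M := A)) hb1
    rwa [add_sub_cancel] at this
  obtain ⟨bi, hbib⟩ := hbu.exists_left_inv
  have hl00 : lam (h 0 0) = -h 0 0 := by
    have := congrFun (congrFun herm 0) 0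
    rw [Matrix.neg_apply, Matrix.transpose_apply, Matrix.map_apply] at this
    linear_combination (-1 : A) * this
  have hl11 : lam (h 1 1) = -h 1 1 := by
    have := congrFun (congrFun herm 1) 1
    rw [Matrix.neg_apply, Matrix.transpose_apply, Matrix.map_apply] at this
    linear_combination (-1 : A) * this
  have hfix : lam (1 + h 0 0 * (lam bi * (bi * h 1 1))) = 1 + h 0 0 * (lam bi * (bi * h 1 1)) := by
    rw [map_add, map_one, map_mul, map_mul, map_mul, hlam, hl00, hl11]
    ring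
  obtain ⟨s₀, hs₀⟩ := (hB.2 _).mp hfix
  have hx₀u : IsUnit (1 + h 0 0 * (lam bi * (bi * h 1 1))) :=
    isUnit_add_jac (isUnit_one (M := A)) (Ideal.mul_mem_right _ _ h00)
  have hs₀u : IsUnit s₀ :=
    isUnit_of_isUnit_algebraMap lam.toRingEquiv hinv' hB s₀ (by rw [hs₀]; exact hx₀u)
  have h2B : IsUnit (2 : B) :=
    isUnit_of_isUnit_algebraMap lam.toRingEquiv hinv' hB 2 (by rw [map_ofNat]; exact h2)
  refine ⟨hs₀u.unit, 1, 2, ?_⟩
  obtain ⟨I, hI⟩ : ∃ I : Ideal (MvPolynomial (Fin 2) B), I = Ideal.span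
    ({MvPolynomial.X 0 ^ 2 - MvPolynomial.C ((hs₀u.unit : Bˣ) : B),
      MvPolynomial.X 1 ^ 2 - MvPolynomial.C (((1 : Bˣ) : Bˣ) : B)} :
      Set (MvPolynomial (Fin 2) B)) := ⟨_, rfl⟩
  rw [← hI]
  let ξ : MvPolynomial (Fin 2) B ⧸ I := Ideal.Quotient.mk I (MvPolynomial.X 0)
  have hξ : ξ * ξ = algebraMap B (MvPolynomial (Fin 2) B ⧸ I) s₀ := by
    have hmem : (MvPolynomial.X 0 ^ 2 - MvPolynomial.C s₀ : MvPolynomial (Fin 2) B) ∈ I := by
      rw [hI]
      refine Ideal.subset_span (Or.inl ?_)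
      rw [IsUnit.unit_spec]
    have := (Ideal.Quotient.eq_zero_iff_mem).mpr hmem
    rw [map_sub, map_pow, sub_eq_zero] at this
    rw [← sq, this]
    rfl
  refine ⟨![1 + ξ, 1 - ξ], ?_, ?_⟩
  · have hmem : (2 : MvPolynomial (Fin 2) B ⧸ I) ∈ Ideal.span (Set.range ![1 + ξ, 1 - ξ]) := by
      have e : (2 : MvPolynomial (Fin 2) B ⧸ I) = (1 + ξ) + (1 - ξ) := by ring
      rw [e]
      exact Ideal.add_mem _ (Ideal.subset_span ⟨0, rfl⟩) (Ideal.subset_span ⟨1, rfl⟩)
    have hu : IsUnit (2 : MvPolynomial (Fin 2) B ⧸ I) := by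
      have := h2B.map (algebraMap B (MvPolynomial (Fin 2) B ⧸ I))
      rwa [map_ofNat] at this
    exact Ideal.eq_top_of_isUnit_mem _ hmem hu
  · intro i
    have hsB : ((hs₀u.unit : Bˣ) : B) = s₀ := IsUnit.unit_spec hs₀u
    fin_cases i
    · refine exists_isometry_over B A lam hlam h2 h herm bi hbib s₀ hs₀ hs₀u
        (Localization.Away (1 + ξ)) (algebraMap _ _ ξ) ?_ ?_
      · rw [← map_mul, hξ, ← IsScalarTower.algebraMap_apply]
      · have := IsLocalization.Away.algebraMap_isUnit (S := Localization.Away (1 + ξ)) (1 + ξ)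
        rwa [map_add, map_one] at this
    · refine exists_isometry_over B A lam hlam h2 h herm bi hbib s₀ hs₀ hs₀u
        (Localization.Away (1 - ξ)) (-algebraMap _ _ ξ) ?_ ?_
      · rw [neg_mul_neg, ← map_mul, hξ, ← IsScalarTower.algebraMap_apply]
      · have e : (1 : Localization.Away (1 - ξ)) + -algebraMap _ _ ξ =
            algebraMap (MvPolynomial (Fin 2) B ⧸ I) (Localization.Away (1 - ξ)) (1 - ξ) := by
          rw [map_sub, map_one]
          exact (sub_eq_add_neg _ _).symm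
        rw [e]
        exact IsLocalization.Away.algebraMap_isUnit (S := Localization.Away (1 - ξ)) (1 - ξ)

end Groth.Agent.Lib.AzInvH6
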