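import Mathlib
import Groth.Agent.Lib.AzInv49_helper6
import Groth.Agent.Lib.AzInv13_helper6
import Groth.Agent.Lib.AzInv7_helper6

/-!
# AzInv51 (helper6): the congruence predicate `(lam v)ᵀ h v = h'` over `C ⊗ A`; functoriality
in `C` and descent along approximations.
-/

set_option autoImplicit false
universe u v w u' u''

open TensorProduct

namespace Groth.Agent.Lib.AzInvH6

section GoodE

variable {A : Type v} [CommRing A] {n : ℕ} (h h' : Matrix (Fin n) (Fin n) A)

/-- abstract congruence predicate over a ring `E` receiving `A` and carrying an endomorphism -/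
def GoodE (E : Type*) [CommRing E] (ι : A →+* E) (lamE : E →+* E) : Prop :=
  ∃ v w : Matrix (Fin n) (Fin n) E, v * w = 1 ∧ w * v = 1 ∧
    (v.map lamE).transpose * h.map ι * v = h'.map ι

variable {h h'}

theorem GoodE.map {E : Type*} [CommRing E] {E' : Type*} [CommRing E'] (g : E →+* E')
    {ι : A →+* E} {lamE : E →+* E} {ι' : A →+* E'} {lamE' : E' →+* E'}
    (hι : ∀ a, g (ι a) = ι' a) (hl : ∀ x, g (lamE x) = lamE' (g x))
    (H : GoodE h h' E ι lamE) : GoodE h h' E' ι' lamE' := by
  obtain ⟨v, w, h1, h2, h3⟩ := H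
  refine ⟨g.mapMatrix v, g.mapMatrix w, ?_, ?_, ?_⟩
  · rw [← map_mul, h1, map_one]
  · rw [← map_mul, h2, map_one]
  · have e1 : ((g.mapMatrix v).map lamE').transpose = g.mapMatrix (v.map lamE).transpose := by
      ext i j
      simp [hl]
    have e2 : ∀ X : Matrix (Fin n) (Fin n) A, X.map ι' = g.mapMatrix (X.map ι) := by
      intro X
      ext i j
      simp [hι]
    rw [e1, e2, e2, ← map_mul, ← map_mul, h3]

theorem GoodE.map_symm {E : Type*} [CommRing E] {E' : Type*} [CommRing E'] (g : E ≃+* E')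
    {ι : A →+* E} {lamE : E →+* E} {ι' : A →+* E'} {lamE' : E' →+* E'}
    (hι : ∀ a, g (ι a) = ι' a) (hl : ∀ x, g (lamE x) = lamE' (g x))
    (H : GoodE h h' E' ι' lamE') : GoodE h h' E ι lamE := by
  refine GoodE.map g.symm.toRingHom (fun a => ?_) (fun x => ?_) H
  · show g.symm (ι' a) = ι a
    rw [← hι, RingEquiv.symm_apply_apply]
  · show g.symm (lamE' x) = lamE (g.symm x)
    apply g.injective
    rw [RingEquiv.apply_symm_apply, hl, RingEquiv.apply_symm_apply]

end GoodE

section GoodC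

variable (B : Type u) (A : Type v) [CommRing B] [CommRing A] [Algebra B A] (lam : A ≃ₐ[B] A)
  {n : ℕ} (h h' : Matrix (Fin n) (Fin n) A)

/-- the congruence predicate of the statement, over `C ⊗ A` -/
def GoodC (C : Type*) [CommRing C] [Algebra B C] : Prop :=
  ∃ v : Matrix (Fin n) (Fin n) (C ⊗[B] A), IsUnit v ∧
    (v.map (Algebra.TensorProduct.congr (AlgEquiv.refl : C ≃ₐ[C] C) lam)).transpose *
      h.map (Algebra.TensorProduct.includeRight : A →ₐ[B] C ⊗[B] A) * v =
    h'.map (Algebra.TensorProduct.includeRight : A →ₐ[B] C ⊗[B] A)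

variable {B A lam h h'}

theorem goodC_iff (C : Type*) [CommRing C] [Algebra B C] :
    GoodC B A lam h h' C ↔
      GoodE h h' (C ⊗[B] A) (Algebra.TensorProduct.includeRight : A →ₐ[B] C ⊗[B] A).toRingHom
        (lamC B A lam C).toAlgHom.toRingHom := by
  constructor
  · rintro ⟨v, hv, h3⟩
    obtain ⟨w, h1, h2⟩ := isUnit_iff_exists.mp hv
    exact ⟨v, w, h1, h2, h3⟩
  · rintro ⟨v, w, h1, h2, h3⟩
    exact ⟨v, isUnit_iff_exists.mpr ⟨w, h1, h2⟩, h3⟩

theorem GoodC.map {C : Type*} [CommRing C] [Algebra B C] {C' : Type*} [CommRing C'] [Algebra B C']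
    (g : C →ₐ[B] C') (H : GoodC B A lam h h' C) : GoodC B A lam h h' C' := by
  rw [goodC_iff] at H ⊢
  refine GoodE.map (bcA g A).toRingHom (fun a => ?_) (fun x => ?_) H
  · show bcA g A ((1 : C) ⊗ₜ[B] a) = (1 : C') ⊗ₜ[B] a
    rw [bcA_tmul, map_one]
  · show bcA g A (lamC B A lam C x) = lamC B A lam C' (bcA g A x)
    induction x using TensorProduct.induction_on with
    | zero => simp
    | add x y hx hy => rw [map_add, map_add, hx, hy, map_add, map_add]
    | tmul c a => rw [lamC_tmul, bcA_tmul, bcA_tmul, lamC_tmul]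

end GoodC

end Groth.Agent.Lib.AzInvH6
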