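import Mathlib
import Groth.Agent.Lib.AzInv51_helper6

/-!
# AzInv52 (helper6): descent of the congruence predicate along an approximation of a flat
algebra `T`: `GoodC (T ⊗ N) → ∃ j, GoodC (obj j ⊗ N)`.
-/

set_option autoImplicit false
universe u v w u' u''

open TensorProduct

namespace Groth.Agent.Lib.AzInvH6

section Form

variable {A : Type v} [CommRing A] {n : ℕ} (h h' : Matrix (Fin n) (Fin n) A)

theorem mapMatrix_form {E : Type*} [CommRing E] {E' : Type*} [CommRing E'] (g : E →+* E')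
    {ι : A →+* E} {lamE : E →+* E} {ι' : A →+* E'} {lamE' : E' →+* E'}
    (hι : ∀ a, g (ι a) = ι' a) (hl : ∀ x, g (lamE x) = lamE' (g x))
    (v : Matrix (Fin n) (Fin n) E) :
    g.mapMatrix ((v.map lamE).transpose * h.map ι * v - h'.map ι) =
      ((g.mapMatrix v).map lamE').transpose * h.map ι' * g.mapMatrix v - h'.map ι' := by
  have e1 : ((g.mapMatrix v).map lamE').transpose = g.mapMatrix (v.map lamE).transpose := by
    ext i j
    simp [hl]
  have e2 : ∀ X : Matrix (Fin n) (Fin n) A, X.map ι' = g.mapMatrix (X.map ι) := by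
    intro X
    ext i j
    simp [hι]
  rw [e1, e2, e2, map_sub, map_mul, map_mul]

end Form

namespace Approx

variable {S : Type u} [CommRing S] {T : Type u'} [CommRing T] [Algebra S T]
  (D : Approx.{u, u', w} S T) (E : Type u'') [Ring E] [Algebra S E] {n : ℕ}

theorem exists_matrix_finite {κ : Type*} [Finite κ]
    (V : κ → Matrix (Fin n) (Fin n) (T ⊗[S] E)) :
    ∃ (i : D.ι) (W : κ → Matrix (Fin n) (Fin n) (D.obj i ⊗[S] E)),
      ∀ k, (D.ofA E i).mapMatrix (W k) = V k := by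
  obtain ⟨i, x, hx⟩ := D.exists_ofM_finite E
    (fun kpq : κ × Fin n × Fin n => V kpq.1 kpq.2.1 kpq.2.2)
  refine ⟨i, fun k => Matrix.of fun p q => x (k, p, q), fun k => ?_⟩
  ext p q
  have := hx (k, p, q)
  rw [← D.ofA_eq_ofM] at this
  exact this

theorem matrix_eq_zero_finite [Module.Flat S T] {κ : Type*} [Finite κ] {i : D.ι}
    (X : κ → Matrix (Fin n) (Fin n) (D.obj i ⊗[S] E))
    (hX : ∀ k, (D.ofA E i).mapMatrix (X k) = 0) :
    ∃ (j : D.ι) (hij : i ≤ j), ∀ k, (D.trA E hij).mapMatrix (X k) = 0 := by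
  obtain ⟨j, hij, hj⟩ := D.ofM_eq_zero_finite E
    (fun kpq : κ × Fin n × Fin n => X kpq.1 kpq.2.1 kpq.2.2) (by
      rintro ⟨k, p, q⟩
      have := congrFun (congrFun (hX k) p) q
      rw [← D.ofA_eq_ofM]
      exact this)
  refine ⟨j, hij, fun k => ?_⟩
  ext p q
  have := hj (k, p, q)
  rw [← D.trA_eq_trM] at this
  exact this

end Approx

section Descend

variable {B : Type u} {A : Type v} [CommRing B] [CommRing A] [Algebra B A] (lam : A ≃ₐ[B] A)
  (T : Type u') [CommRing T] [Algebra B T] (N : Type u'') [CommRing N] [Algebra B N]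

/-- the endomorphism of `T ⊗ (N ⊗ A)` induced by `lam` -/
noncomputable def lamTN : T ⊗[B] (N ⊗[B] A) →ₐ[B] T ⊗[B] (N ⊗[B] A) :=
  Algebra.TensorProduct.map (AlgHom.id B T)
    (Algebra.TensorProduct.map (AlgHom.id B N) lam.toAlgHom)

theorem lamTN_tmul (t : T) (x : N) (a : A) :
    lamTN lam T N (t ⊗ₜ[B] (x ⊗ₜ[B] a)) = t ⊗ₜ[B] (x ⊗ₜ[B] lam a) := by
  simp [lamTN]

theorem lamTN_tmul' (t : T) (e : N ⊗[B] A) :
    lamTN lam T N (t ⊗ₜ[B] e) =
      t ⊗ₜ[B] (Algebra.TensorProduct.map (AlgHom.id B N) lam.toAlgHom e) := by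
  simp [lamTN]

variable (B A) in
/-- `A → T ⊗ (N ⊗ A)` -/
noncomputable def incTN : A →ₐ[B] T ⊗[B] (N ⊗[B] A) :=
  (Algebra.TensorProduct.includeRight : N ⊗[B] A →ₐ[B] T ⊗[B] (N ⊗[B] A)).comp
    (Algebra.TensorProduct.includeRight : A →ₐ[B] N ⊗[B] A)

theorem incTN_apply (a : A) : incTN B A T N a = (1 : T) ⊗ₜ[B] ((1 : N) ⊗ₜ[B] a) := rfl

variable {T} in
theorem bcA_incTN {T' : Type*} [CommRing T'] [Algebra B T'] (g : T →ₐ[B] T') (a : A) :
    bcA g (N ⊗[B] A) (incTN B A T N a) = incTN B A T' N a := by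
  rw [incTN_apply, bcA_tmul, map_one, incTN_apply]

variable {T} in
theorem bcA_lamTN {T' : Type*} [CommRing T'] [Algebra B T'] (g : T →ₐ[B] T')
    (x : T ⊗[B] (N ⊗[B] A)) :
    bcA g (N ⊗[B] A) (lamTN lam T N x) = lamTN lam T' N (bcA g (N ⊗[B] A) x) := by
  induction x using TensorProduct.induction_on with
  | zero => simp
  | add x y hx hy => rw [map_add, map_add, hx, hy, map_add, map_add]
  | tmul t e => rw [lamTN_tmul', bcA_tmul, bcA_tmul, lamTN_tmul']

variable {n : ℕ} {h h' : Matrix (Fin n) (Fin n) A}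

theorem goodC_tensor_iff :
    GoodC B A lam h h' (T ⊗[B] N) ↔
      GoodE h h' (T ⊗[B] (N ⊗[B] A)) (incTN B A T N).toRingHom (lamTN lam T N).toRingHom := by
  rw [goodC_iff]
  let α : (T ⊗[B] N) ⊗[B] A ≃ₐ[B] T ⊗[B] (N ⊗[B] A) := Algebra.TensorProduct.assoc B B B T N A
  have hι : ∀ a : A, α.toRingEquiv ((Algebra.TensorProduct.includeRight :
      A →ₐ[B] (T ⊗[B] N) ⊗[B] A).toRingHom a) = (incTN B A T N).toRingHom a := by
    intro a
    show α ((1 : T ⊗[B] N) ⊗ₜ[B] a) = incTN B A T N a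
    rw [Algebra.TensorProduct.one_def, incTN_apply]
    rfl
  have hl : ∀ x : (T ⊗[B] N) ⊗[B] A, α.toRingEquiv ((lamC B A lam (T ⊗[B] N)).toAlgHom.toRingHom x) =
      (lamTN lam T N).toRingHom (α.toRingEquiv x) := by
    intro x
    show α (lamC B A lam (T ⊗[B] N) x) = lamTN lam T N (α x)
    induction x using TensorProduct.induction_on with
    | zero => simp
    | add x y hx hy => rw [map_add, map_add, hx, hy, map_add, map_add]
    | tmul y a =>
      rw [lamC_tmul]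
      induction y using TensorProduct.induction_on with
      | zero => simp
      | add y z hy hz => rw [add_tmul, add_tmul, map_add, map_add, hy, hz, map_add]
      | tmul t x =>
        show t ⊗ₜ[B] (x ⊗ₜ[B] lam a) = lamTN lam T N (t ⊗ₜ[B] (x ⊗ₜ[B] a))
        rw [lamTN_tmul]
  constructor
  · exact GoodE.map α.toRingEquiv.toRingHom hι hl
  · exact GoodE.map_symm α.toRingEquiv hι hl

variable {T}

theorem GoodC.descend (D : Approx.{u, u', w} B T) [Module.Flat B T]
    (H : GoodC B A lam h h' (T ⊗[B] N)) : ∃ j : D.ι, GoodC B A lam h h' (D.obj j ⊗[B] N) := by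
  rw [goodC_tensor_iff] at H
  obtain ⟨v, w, h1, h2, h3⟩ := H
  obtain ⟨i, W, hW⟩ := D.exists_matrix_finite (N ⊗[B] A) ![v, w]
  have hv : (D.ofA (N ⊗[B] A) i).mapMatrix (W 0) = v := hW 0
  have hw : (D.ofA (N ⊗[B] A) i).mapMatrix (W 1) = w := hW 1
  have hcompat := mapMatrix_form h h' (D.ofA (N ⊗[B] A) i).toRingHom
    (ι := (incTN B A (D.obj i) N).toRingHom) (lamE := (lamTN lam (D.obj i) N).toRingHom)
    (ι' := (incTN B A T N).toRingHom) (lamE' := (lamTN lam T N).toRingHom)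
    (fun a => bcA_incTN N (D.of i) a) (fun x => bcA_lamTN lam N (D.of i) x) (W 0)
  obtain ⟨j, hij, hj⟩ := D.matrix_eq_zero_finite (N ⊗[B] A)
    ![W 0 * W 1 - 1, W 1 * W 0 - 1,
      ((W 0).map (lamTN lam (D.obj i) N).toRingHom).transpose *
        h.map (incTN B A (D.obj i) N).toRingHom * W 0 - h'.map (incTN B A (D.obj i) N).toRingHom] (by
    intro k
    fin_cases k
    · show (D.ofA (N ⊗[B] A) i).mapMatrix (W 0 * W 1 - 1) = 0
      rw [map_sub, map_mul, map_one, hv, hw, h1, sub_self]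
    · show (D.ofA (N ⊗[B] A) i).mapMatrix (W 1 * W 0 - 1) = 0
      rw [map_sub, map_mul, map_one, hv, hw, h2, sub_self]
    · refine Eq.trans hcompat ?_
      have hv' : (D.ofA (N ⊗[B] A) i).toRingHom.mapMatrix (W 0) = v := hv
      rw [hv', h3, sub_self])
  have e0 : (D.trA (N ⊗[B] A) hij).mapMatrix (W 0 * W 1 - 1) = 0 := hj 0
  have e1 : (D.trA (N ⊗[B] A) hij).mapMatrix (W 1 * W 0 - 1) = 0 := hj 1
  have e2 : (D.trA (N ⊗[B] A) hij).toRingHom.mapMatrix
      (((W 0).map (lamTN lam (D.obj i) N).toRingHom).transpose *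
        h.map (incTN B A (D.obj i) N).toRingHom * W 0 - h'.map (incTN B A (D.obj i) N).toRingHom) = 0 :=
    hj 2
  rw [map_sub, map_mul, map_one, sub_eq_zero] at e0 e1
  rw [mapMatrix_form h h' (D.trA (N ⊗[B] A) hij).toRingHom
    (ι := (incTN B A (D.obj i) N).toRingHom) (lamE := (lamTN lam (D.obj i) N).toRingHom)
    (ι' := (incTN B A (D.obj j) N).toRingHom) (lamE' := (lamTN lam (D.obj j) N).toRingHom)
    (fun a => bcA_incTN N (D.tr hij) a) (fun x => bcA_lamTN lam N (D.tr hij) x) (W 0),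
    sub_eq_zero] at e2
  refine ⟨j, (goodC_tensor_iff lam (D.obj j) N).mpr ⟨_, _, e0, e1, e2⟩⟩

end Descend

end Groth.Agent.Lib.AzInvH6
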