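import Mathlib
import Groth.Agent.Lib.AzInv52_helper6
import Groth.Agent.Lib.AzInv6_helper6

/-!
# AzInv53 (helper6): the rings `R[X_1..X_l]/(X_k² - s_k)`, their functoriality, and the
comparison maps used to spread out congruence data from `B_p` to some `B_b`.
-/

set_option autoImplicit false
universe u v w u' u''

open TensorProduct

namespace Groth.Agent.Lib.AzInvH6

/-- `R[X_1, …, X_l]/(X_k² - s_k)` -/
abbrev QD (R : Type*) [CommRing R] (l : ℕ) (s : Fin l → Rˣ) : Type _ :=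
  MvPolynomial (Fin l) R ⧸ Ideal.span (Set.range fun k : Fin l =>
    (MvPolynomial.X k ^ 2 - MvPolynomial.C (s k : R) : MvPolynomial (Fin l) R))

section QD

variable {B : Type u} [CommRing B] {R : Type u'} [CommRing R] [Algebra B R]
  {R' : Type u''} [CommRing R'] [Algebra B R'] {l : ℕ} {s : Fin l → Rˣ} {s' : Fin l → R'ˣ}

/-- functoriality of `QD` -/
noncomputable def QD.map (φ : R →ₐ[B] R') (hs : ∀ k, φ (s k) = s' k) : QD R l s →ₐ[B] QD R' l s' :=
  Ideal.Quotient.liftₐ _ ((Ideal.Quotient.mkₐ B _).comp (MvPolynomial.mapAlgHom φ)) (by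
    intro a ha
    have hle : Ideal.span (Set.range fun k : Fin l =>
        (MvPolynomial.X k ^ 2 - MvPolynomial.C (s k : R) : MvPolynomial (Fin l) R)) ≤
        RingHom.ker ((Ideal.Quotient.mkₐ B (Ideal.span (Set.range fun k : Fin l =>
          (MvPolynomial.X k ^ 2 - MvPolynomial.C (s' k : R') : MvPolynomial (Fin l) R')))).comp
            (MvPolynomial.mapAlgHom φ)) := by
      rw [Ideal.span_le]
      rintro _ ⟨k, rfl⟩
      rw [SetLike.mem_coe, RingHom.mem_ker, AlgHom.comp_apply, Ideal.Quotient.mkₐ_eq_mk,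
        Ideal.Quotient.eq_zero_iff_mem]
      refine Ideal.subset_span ⟨k, ?_⟩
      simp [hs]
    exact hle ha)

end QD

section PsiD

variable {B : Type u} [CommRing B] (M : Submonoid B) {T : Type u'} [CommRing T] [Algebra B T]
  {R₀ : Type u''} [CommRing R₀] [Algebra B R₀] [IsLocalization M R₀] (ρ : R₀ →ₐ[B] T)
  {l : ℕ} (s : Fin l → Tˣ) (s₀ : Fin l → R₀ˣ) (hs : ∀ k, ρ (s₀ k) = s k)

include M hs in
/-- a comparison map `T[√s] → T ⊗ R₀[√s₀]` -/
theorem exists_psiD : Nonempty (QD T l s →ₐ[B] T ⊗[B] QD R₀ l s₀) := by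
  let F : MvPolynomial (Fin l) T →ₐ[B] T ⊗[B] QD R₀ l s₀ :=
    (MvPolynomial.aeval (R := T) (fun k : Fin l =>
      (1 : T) ⊗ₜ[B] (Ideal.Quotient.mk _ (MvPolynomial.X k) : QD R₀ l s₀))).restrictScalars B
  have hF : ∀ P, F P = MvPolynomial.aeval (R := T) (fun k : Fin l =>
      (1 : T) ⊗ₜ[B] (Ideal.Quotient.mk _ (MvPolynomial.X k) : QD R₀ l s₀)) P := fun P => rfl
  have hepi : ∀ x : R₀, (ρ x ⊗ₜ[B] (1 : QD R₀ l s₀) : T ⊗[B] QD R₀ l s₀) =
      (1 : T) ⊗ₜ[B] algebraMap R₀ (QD R₀ l s₀) x := by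
    have := IsLocalization.ringHom_ext M (S := R₀)
      (j := ((Algebra.TensorProduct.includeLeft : T →ₐ[B] T ⊗[B] QD R₀ l s₀).comp ρ).toRingHom)
      (k := ((Algebra.TensorProduct.includeRight : QD R₀ l s₀ →ₐ[B] T ⊗[B] QD R₀ l s₀).comp
        (IsScalarTower.toAlgHom B R₀ (QD R₀ l s₀))).toRingHom) (by
      ext b
      show ((Algebra.TensorProduct.includeLeft : T →ₐ[B] T ⊗[B] QD R₀ l s₀).comp ρ)
        (algebraMap B R₀ b) =
        ((Algebra.TensorProduct.includeRight : QD R₀ l s₀ →ₐ[B] T ⊗[B] QD R₀ l s₀).comp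
          (IsScalarTower.toAlgHom B R₀ (QD R₀ l s₀))) (algebraMap B R₀ b)
      rw [AlgHom.commutes, AlgHom.commutes])
    intro x
    exact RingHom.congr_fun this x
  have hgen : ∀ k : Fin l, F (MvPolynomial.X k ^ 2 - MvPolynomial.C (s k : T)) = 0 := by
    intro k
    have e1 : F (MvPolynomial.X k ^ 2 - MvPolynomial.C (s k : T)) =
        ((1 : T) ⊗ₜ[B] (Ideal.Quotient.mk _ (MvPolynomial.X k) : QD R₀ l s₀)) ^ 2 -
          (s k : T) ⊗ₜ[B] (1 : QD R₀ l s₀) := by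
      rw [hF, map_sub (MvPolynomial.aeval (R := T) (fun k : Fin l =>
        (1 : T) ⊗ₜ[B] (Ideal.Quotient.mk _ (MvPolynomial.X k) : QD R₀ l s₀)))]
      congr 1
      · rw [sq, sq, map_mul (MvPolynomial.aeval (R := T) (fun k : Fin l =>
          (1 : T) ⊗ₜ[B] (Ideal.Quotient.mk _ (MvPolynomial.X k) : QD R₀ l s₀))),
          MvPolynomial.aeval_X]
      · rw [MvPolynomial.aeval_C]
        rfl
    rw [e1, ← hs, hepi, sq, Algebra.TensorProduct.tmul_mul_tmul, mul_one, sub_eq_zero]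
    congr 1
    have h2 : (MvPolynomial.X k ^ 2 - MvPolynomial.C (s₀ k : R₀) :
        MvPolynomial (Fin l) R₀) ∈ Ideal.span (Set.range fun k : Fin l =>
        (MvPolynomial.X k ^ 2 - MvPolynomial.C (s₀ k : R₀) : MvPolynomial (Fin l) R₀)) :=
      Ideal.subset_span ⟨k, rfl⟩
    have h3 := (Ideal.Quotient.eq_zero_iff_mem).mpr h2
    rw [map_sub, sub_eq_zero, sq, map_mul] at h3
    rw [h3]
    rfl
  refine ⟨Ideal.Quotient.liftₐ _ F ?_⟩
  intro a ha
  have hle : Ideal.span (Set.range fun k : Fin l =>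
      (MvPolynomial.X k ^ 2 - MvPolynomial.C (s k : T) : MvPolynomial (Fin l) T)) ≤
      RingHom.ker F := by
    rw [Ideal.span_le]
    rintro _ ⟨k, rfl⟩
    rw [SetLike.mem_coe, RingHom.mem_ker]
    exact hgen k
  exact hle ha

end PsiD

section Frac

variable {B : Type u} [CommRing B] (M : Submonoid B) (T : Type u') [CommRing T] [Algebra B T]
  [IsLocalization M T] (N : Type u'') [CommRing N] [Algebra B N]

include M in
theorem exists_smul_eq_one_tmul (z : T ⊗[B] N) :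
    ∃ (m : M) (d : N), (m : B) • z = (1 : T) ⊗ₜ[B] d := by
  induction z using TensorProduct.induction_on with
  | zero => exact ⟨1, 0, by simp⟩
  | tmul t d =>
    obtain ⟨⟨a, m⟩, ha⟩ := IsLocalization.surj M t
    refine ⟨m, a • d, ?_⟩
    rw [TensorProduct.smul_tmul', Algebra.smul_def, mul_comm, ha, TensorProduct.tmul_smul,
      TensorProduct.smul_tmul', Algebra.smul_def a (1 : T), mul_one]
  | add z₁ z₂ h₁ h₂ =>
    obtain ⟨m₁, d₁, e₁⟩ := h₁
    obtain ⟨m₂, d₂, e₂⟩ := h₂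
    refine ⟨m₁ * m₂, (m₂ : B) • d₁ + (m₁ : B) • d₂, ?_⟩
    rw [TensorProduct.tmul_add, TensorProduct.tmul_smul, TensorProduct.tmul_smul,
      ← e₁, ← e₂, smul_smul, smul_smul, Submonoid.coe_mul, smul_add, mul_comm (m₂ : B) (m₁ : B)]

include M in
theorem exists_unit_mul_one_tmul (z : T ⊗[B] N) :
    ∃ (u : T ⊗[B] N) (d : N), IsUnit u ∧ z = u * ((1 : T) ⊗ₜ[B] d) := by
  obtain ⟨m, d, hmd⟩ := exists_smul_eq_one_tmul M T N z
  obtain ⟨t, ht⟩ := (IsLocalization.map_units T m).exists_right_inv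
  have hu : IsUnit (t ⊗ₜ[B] (1 : N) : T ⊗[B] N) := by
    refine IsUnit.of_mul_eq_one (algebraMap B T m ⊗ₜ[B] (1 : N)) ?_
    rw [Algebra.TensorProduct.tmul_mul_tmul, mul_comm, ht, mul_one]
    rfl
  refine ⟨t ⊗ₜ[B] (1 : N), d, hu, ?_⟩
  rw [← hmd, mul_smul_comm, ← smul_mul_assoc, TensorProduct.smul_tmul', Algebra.smul_def, ht]
  exact (one_mul z).symm

end Frac

section PsiC

variable {B : Type u} [CommRing B] {P : Type u'} [CommRing P] [Algebra B P]
  {Q : Type u''} [CommRing Q] [Algebra B Q]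

/-- a map out of a localization -/
theorem exists_psiC (ψ : P →ₐ[B] Q) (f : P) (hf : IsUnit (ψ f)) :
    Nonempty (Localization.Away f →ₐ[B] Q) := by
  refine ⟨IsLocalization.liftAlgHom (M := Submonoid.powers f) (f := ψ) ?_⟩
  rintro ⟨_, k, rfl⟩
  show IsUnit (ψ (f ^ k))
  rw [map_pow]
  exact hf.pow k

end PsiC

namespace Approx

variable {S : Type u} [CommRing S] {T : Type v} [CommRing T] [Algebra S T]
  (D : Approx.{u, v, w} S T)

theorem exists_units_fin {l : ℕ} (s : Fin l → Tˣ) :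
    ∃ (i : D.ι) (s' : Fin l → (D.obj i)ˣ), ∀ k, D.of i (s' k : D.obj i) = s k := by
  obtain ⟨i₁, x, hx⟩ := D.exists_of_fin (fun k => (s k : T))
  obtain ⟨i₂, y, hy⟩ := D.exists_of_fin (fun k => ((s k)⁻¹ : Tˣ).1)
  obtain ⟨i, h1, h2⟩ := exists_ge_ge i₁ i₂
  obtain ⟨j, hij, hj⟩ := D.exists_tr_eq_zero_fin (fun k => D.tr h1 (x k) * D.tr h2 (y k) - 1) (by
    intro k
    rw [map_sub, map_mul, map_one, D.of_tr, D.of_tr, hx, hy, Units.mul_inv, sub_self])
  refine ⟨j, fun k => Units.mkOfMulEqOne (D.tr hij (D.tr h1 (x k))) (D.tr hij (D.tr h2 (y k))) ?_,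
    fun k => ?_⟩
  · have := hj k
    rw [map_sub, map_mul, map_one, sub_eq_zero] at this
    exact this
  · show D.of j (D.tr hij (D.tr h1 (x k))) = s k
    rw [D.of_tr, D.of_tr, hx]

end Approx

end Groth.Agent.Lib.AzInvH6
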