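import Mathlib
import Groth.Agent.Lib.AzInv53_helper6

/-!
# AzInv54 (helper6): spreading out hermitian congruence data from `B_p` to some `B_b`.
-/

set_option autoImplicit false
universe u v

open TensorProduct

namespace Groth.Agent.Lib.AzInvH6

section Generic

variable (B : Type u) {A : Type v} [CommRing B] [CommRing A] [Algebra B A] (lam : A ≃ₐ[B] A)
  {n : ℕ} (h h' : Matrix (Fin n) (Fin n) A) (p : Ideal B) [p.IsPrime]

/-- generic descent: data over an algebra `P` mapping to `B_p ⊗ D₀` descends to some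
`B_j ⊗ D₀`. -/
theorem spread_generic {P : Type u} [CommRing P] [Algebra B P] {D₀ : Type u} [CommRing D₀]
    [Algebra B D₀] (ψD : P →ₐ[B] Localization.AtPrime p ⊗[B] D₀) {r : ℕ} (f : Fin r → P)
    (hspan : Ideal.span (Set.range f) = ⊤)
    (hgood : ∀ i, GoodC B A lam h h' (Localization.Away (f i))) (j₀ : ZIdx B p) :
    ∃ (φ : Fin r → D₀) (j : ZIdx B p), j₀ ≤ j ∧
      (∀ i, GoodC B A lam h h' (Localization.Away j.val ⊗[B] Localization.Away (φ i))) ∧
      ∃ γ : Fin r → Localization.Away j.val ⊗[B] D₀,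
        ∑ i, γ i * ((1 : Localization.Away j.val) ⊗ₜ[B] φ i) = 1 := by
  classical
  -- the elements `φ i`
  choose u φ hu hφ using fun i => exists_unit_mul_one_tmul p.primeCompl (Localization.AtPrime p)
    D₀ (ψD (f i))
  -- `GoodC` over `B_p ⊗ D₀[1/φ i]`
  have hgoodp : ∀ i, GoodC B A lam h h' (Localization.AtPrime p ⊗[B] Localization.Away (φ i)) := by
    intro i
    let bc : Localization.AtPrime p ⊗[B] D₀ →ₐ[B]
        Localization.AtPrime p ⊗[B] Localization.Away (φ i) :=
      Algebra.TensorProduct.map (AlgHom.id B (Localization.AtPrime p))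
        (IsScalarTower.toAlgHom B D₀ (Localization.Away (φ i)))
    have hunit : IsUnit ((bc.comp ψD) (f i)) := by
      rw [AlgHom.comp_apply, hφ, map_mul]
      refine ((hu i).map bc).mul ?_
      have : bc ((1 : Localization.AtPrime p) ⊗ₜ[B] φ i) =
          (Algebra.TensorProduct.includeRight : Localization.Away (φ i) →ₐ[B]
            Localization.AtPrime p ⊗[B] Localization.Away (φ i))
            (algebraMap _ (Localization.Away (φ i)) (φ i)) := by
        simp [bc]
      rw [this]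
      exact (IsLocalization.Away.algebraMap_isUnit (φ i)).map _
    obtain ⟨ψC⟩ := exists_psiC (bc.comp ψD) (f i) hunit
    exact (hgood i).map ψC
  -- descend
  have hdesc : ∀ i, ∃ j : ZIdx B p,
      GoodC B A lam h h' (Localization.Away j.val ⊗[B] Localization.Away (φ i)) := fun i =>
    GoodC.descend lam (Localization.Away (φ i)) (zarApprox B B p) (hgoodp i)
  choose jj hjj using hdesc
  -- the span condition
  obtain ⟨g, hg⟩ := Ideal.mem_span_range_iff_exists_fun.mp ((Ideal.eq_top_iff_one _).mp hspan)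
  have hsum : ∑ i, (ψD (g i) * u i) * ((1 : Localization.AtPrime p) ⊗ₜ[B] φ i) = 1 := by
    have := congrArg ψD hg
    rw [map_sum, map_one] at this
    rw [← this]
    refine Finset.sum_congr rfl fun i _ => ?_
    rw [map_mul, hφ, mul_assoc]
  obtain ⟨i₁, γ, hγ⟩ : ∃ (i₁ : ZIdx B p) (γ : Fin r → Localization.Away i₁.val ⊗[B] D₀),
      ∀ k, bcA (zarOf B B p i₁) _ (γ k) = ψD (g k) * u k :=
    (zarApprox B B p).exists_ofA_fin D₀ (fun k => ψD (g k) * u k)
  have he : bcA (zarOf B B p i₁) D₀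
      (∑ i, γ i * ((1 : Localization.Away i₁.val) ⊗ₜ[B] φ i) - 1) = 0 := by
    rw [map_sub, map_sum, map_one, sub_eq_zero, ← hsum]
    refine Finset.sum_congr rfl fun i _ => ?_
    rw [map_mul, hγ, bcA_tmul, map_one]
  obtain ⟨j₁, hij₁, hj₁⟩ : ∃ (j₁ : ZIdx B p) (hij₁ : i₁ ≤ j₁), ∀ _ : Fin 1,
      bcA (zarTr B B p hij₁) D₀
        (∑ i, γ i * ((1 : Localization.Away i₁.val) ⊗ₜ[B] φ i) - 1) = 0 :=
    (zarApprox B B p).ofA_eq_zero_fin D₀
      (fun _ : Fin 1 => ∑ i, γ i * ((1 : Localization.Away i₁.val) ⊗ₜ[B] φ i) - 1)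
      (fun _ => he)
  -- the common index
  obtain ⟨j₂, hj₂⟩ := Finite.exists_le jj
  obtain ⟨j₃, h03, h13⟩ := exists_ge_ge j₀ j₁
  obtain ⟨j, h3j, h2j⟩ := exists_ge_ge j₃ j₂
  have h1j : j₁ ≤ j := h13.trans h3j
  refine ⟨φ, j, h03.trans h3j, fun i => ?_, ?_⟩
  · exact (hjj i).map (bcA (zarTr B B p ((hj₂ i).trans h2j)) (Localization.Away (φ i)))
  · refine ⟨fun i => bcA (zarTr B B p h1j) D₀ (bcA (zarTr B B p hij₁) D₀ (γ i)), ?_⟩
    have e1 := hj₁ 0
    rw [map_sub, map_sum, map_one, sub_eq_zero] at e1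
    have e2 := congrArg (bcA (zarTr B B p h1j) D₀) e1
    rw [map_sum, map_one] at e2
    rw [← e2]
    refine Finset.sum_congr rfl fun i _ => ?_
    rw [map_mul, map_mul, bcA_tmul, bcA_tmul, map_one, map_one]

/-- generic final step: push the descended data into a `B_j`-algebra `Dj` receiving `D₀`. -/
theorem spread_final {j : ZIdx B p} {D₀ : Type u} [CommRing D₀] [Algebra B D₀]
    {Dj : Type u} [CommRing Dj] [Algebra B Dj] [Algebra (Localization.Away j.val) Dj]
    [IsScalarTower B (Localization.Away j.val) Dj] (Q : D₀ →ₐ[B] Dj) {r : ℕ} (φ : Fin r → D₀)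
    (hgood : ∀ i, GoodC B A lam h h' (Localization.Away j.val ⊗[B] Localization.Away (φ i)))
    (γ : Fin r → Localization.Away j.val ⊗[B] D₀)
    (hγ : ∑ i, γ i * ((1 : Localization.Away j.val) ⊗ₜ[B] φ i) = 1) :
    Ideal.span (Set.range fun i => Q (φ i)) = ⊤ ∧
      ∀ (i : Fin r) (C : Type u) [CommRing C] [Algebra B C] [Algebra Dj C] [IsScalarTower B Dj C]
        [IsLocalization.Away (Q (φ i)) C], GoodC B A lam h h' C := by
  constructor
  · let π : Localization.Away j.val ⊗[B] D₀ →ₐ[B] Dj :=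
      Algebra.TensorProduct.productMap (IsScalarTower.toAlgHom B (Localization.Away j.val) Dj) Q
    have hπ : ∀ d, π ((1 : Localization.Away j.val) ⊗ₜ[B] d) = Q d := by
      intro d
      simp [π]
    have e2 := congrArg π hγ
    rw [map_sum, map_one] at e2
    rw [Ideal.eq_top_iff_one]
    refine Ideal.mem_span_range_iff_exists_fun.mpr ⟨fun i => π (γ i), ?_⟩
    rw [← e2]
    refine Finset.sum_congr rfl fun i _ => ?_
    rw [map_mul, hπ]
  · intro i C _ _ _ _ _
    let toC : Dj →ₐ[B] C := IsScalarTower.toAlgHom B Dj C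
    have hunit : IsUnit ((toC.comp Q) (φ i)) :=
      IsLocalization.Away.algebraMap_isUnit (S := C) (Q (φ i))
    obtain ⟨χ₂⟩ := exists_psiC (toC.comp Q) (φ i) hunit
    let χ₁ : Localization.Away j.val →ₐ[B] C :=
      toC.comp (IsScalarTower.toAlgHom B (Localization.Away j.val) Dj)
    exact (hgood i).map (Algebra.TensorProduct.productMap χ₁ χ₂)

end Generic

section Main

variable (B : Type u) (A : Type v) [CommRing B] [CommRing A] [Algebra B A] (lam : A ≃ₐ[B] A)
  (n : ℕ) (h h' : Matrix (Fin n) (Fin n) A) (p : Ideal B) [p.IsPrime]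

theorem spread_main (l : ℕ) (s : Fin l → (Localization.AtPrime p)ˣ) (r : ℕ)
    (f : Fin r → QD (Localization.AtPrime p) l s) (hspan : Ideal.span (Set.range f) = ⊤)
    (hgood : ∀ i, GoodC B A lam h h' (Localization.Away (f i))) :
    ∃ b : B, b ∉ p ∧ ∃ (s' : Fin l → (Localization.Away b)ˣ)
      (f' : Fin r → QD (Localization.Away b) l s'), Ideal.span (Set.range f') = ⊤ ∧
      ∀ (i : Fin r) (C : Type u) [CommRing C] [Algebra B C]
        [Algebra (QD (Localization.Away b) l s') C]
        [IsScalarTower B (QD (Localization.Away b) l s') C] [IsLocalization.Away (f' i) C],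
        GoodC B A lam h h' C := by
  classical
  -- Step 1: descend the units
  obtain ⟨j₀, s₀, hs₀⟩ : ∃ (j₀ : ZIdx B p) (s₀ : Fin l → (Localization.Away j₀.val)ˣ),
      ∀ k, zarOf B B p j₀ (s₀ k : Localization.Away j₀.val) = s k :=
    (zarApprox B B p).exists_units_fin s
  -- Step 2: the comparison map
  obtain ⟨ψD⟩ := exists_psiD (B := B) (Submonoid.powers j₀.val) (zarOf B B p j₀) s s₀ hs₀
  obtain ⟨φ, j, h0j, hgj, γ, hγ⟩ := spread_generic B lam h h' p ψD f hspan hgood j₀
  let s' : Fin l → (Localization.Away j.val)ˣ := fun k =>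
    Units.map (zarTr B B p h0j).toRingHom.toMonoidHom (s₀ k)
  let QDmap : QD (Localization.Away j₀.val) l s₀ →ₐ[B] QD (Localization.Away j.val) l s' :=
    QD.map (zarTr B B p h0j) (fun k => rfl)
  obtain ⟨h1, h2⟩ := spread_final B lam h h' p QDmap φ hgj γ hγ
  exact ⟨j.val, j.prop, s', fun i => QDmap (φ i), h1, h2⟩

end Main

end Groth.Agent.Lib.AzInvH6
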