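import Mathlib
import Groth.Prelude.Def_AlgSpDec
import Groth.Agent.Lib.BCChart_helper8

/-! Chart diagrams of a base change, second version: the chart of the new base is given. -/

universe u
open AlgebraicGeometry CategoryTheory CategoryTheory.Limits
open AlgSp
open Groth.Agent.Lib.AlgSpReduced_helper7 Groth.Agent.Lib.AlgSpPoints_helper7
  Groth.Agent.Lib.AlgSpPullback_helper7 Groth.Agent.Lib.AlgSpQC_helper7

namespace BCChartH8

variable {S : Scheme.{u}}

theorem exists_bc_chart₂ {X Y Y' X' : AlgSp.Space S} (f : X ⟶ Y) (g : Y' ⟶ Y) (g' : X' ⟶ X)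
    (f' : X' ⟶ Y') (sq : IsPullback g'.hom f'.hom f.hom g.hom)
    {U V : Over S} (a : (yon S).obj U ⟶ X.obj) (b : (yon S).obj V ⟶ Y.obj) (h : U ⟶ V)
    (hae : RepWith @Etale a) (hbe : RepWith @Etale b)
    (comm : a ≫ f.hom = (yon S).map h ≫ b)
    {V0 : Over S} (b0 : (yon S).obj V0 ⟶ Y'.obj) (hb0e : RepWith @Etale b0) :
    ∃ (W V'' : Over S) (r : (yon S).obj W ⟶ X'.obj) (b'' : (yon S).obj V'' ⟶ Y'.obj)
      (κ : W ⟶ V'') (aW : W ⟶ U) (φ : V'' ⟶ V) (ψ : V'' ⟶ V0),
      RepWith @Etale r ∧ RepWith @Etale b'' ∧ r ≫ f'.hom = (yon S).map κ ≫ b'' ∧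
      IsPullback aW.left κ.left h.left φ.left ∧
      r ≫ g'.hom = (yon S).map aW ≫ a ∧ b'' = (yon S).map ψ ≫ b0 ∧
      IsPullback ((yon S).map φ) ((yon S).map ψ) b (b0 ≫ g.hom) ∧
      ∀ (x' : Points X'.obj) (u : ↥U.left) (v0 : ↥V0.left),
        Points.ofPt a u = Points.map g'.hom x' → Points.ofPt b0 v0 = Points.map f'.hom x' →
        ∃ w : ↥W.left, Points.ofPt r w = x' ∧ aW.left w = u ∧ ψ.left (κ.left w) = v0 := by
  obtain ⟨W, aW, bW, r, hr1, hr2, sqW, hr⟩ :=
    exists_chart_of_isPullback Y.property.diag sq a b0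
  have hre : RepWith @Etale r := hr @Etale hae hb0e
  have sqV := hbe.rep.isPullback' (b0 ≫ g.hom)
  have hψe : RepWith @Etale ((yon S).map (hbe.rep.snd (b0 ≫ g.hom))) :=
    repWith_snd_of_isPullback _ sqV hbe
  have hkc : ((yon S).map aW ≫ (yon S).map h) ≫ b = (yon S).map bW ≫ b0 ≫ g.hom := by
    rw [Category.assoc, ← comm, sqW.w]
  obtain ⟨κ, hκ⟩ := (yon S).map_surjective
    (sqV.lift ((yon S).map aW ≫ (yon S).map h) ((yon S).map bW) hkc)
  have hk1 : (yon S).map κ ≫ (yon S).map (hbe.rep.fst' (b0 ≫ g.hom)) =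
      (yon S).map aW ≫ (yon S).map h := by rw [hκ]; exact sqV.lift_fst _ _ _
  have hk2 : (yon S).map κ ≫ (yon S).map (hbe.rep.snd (b0 ≫ g.hom)) = (yon S).map bW := by
    rw [hκ]; exact sqV.lift_snd _ _ _
  have hk2' : κ ≫ hbe.rep.snd (b0 ≫ g.hom) = bW :=
    (yon S).map_injective (by rw [Functor.map_comp, hk2])
  have sqK : IsPullback ((yon S).map κ) ((yon S).map aW)
      ((yon S).map (hbe.rep.fst' (b0 ≫ g.hom))) ((yon S).map h) := by
    refine IsPullback.of_right ?_ hk1 sqV.flip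
    rw [hk2, ← comm]
    exact sqW.flip
  have sqL := isPullback_left_of_isPullback_yon sqK
  have sqM := IsPullback.of_hasPullback f'.hom b0
  let n : (yon S).obj W ⟶ pullback f'.hom b0 := pullback.lift r ((yon S).map bW) hr2
  have hn1 : n ≫ pullback.fst f'.hom b0 = r := pullback.lift_fst _ _ _
  have hn2 : n ≫ pullback.snd f'.hom b0 = (yon S).map bW := pullback.lift_snd _ _ _
  have sqR : IsPullback (pullback.fst f'.hom b0 ≫ g'.hom) (pullback.snd f'.hom b0) f.hom
      (b0 ≫ g.hom) := sqM.paste_horiz sq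
  have sqN : IsPullback n ((yon S).map aW) (pullback.fst f'.hom b0 ≫ g'.hom) a := by
    refine IsPullback.of_right (h₁₂ := pullback.snd f'.hom b0) (h₂₂ := f.hom) ?_ ?_ sqR.flip
    · rw [hn2]; exact sqW.flip
    · rw [← Category.assoc, hn1, hr1]
  refine ⟨W, hbe.rep.pullback (b0 ≫ g.hom), r, (yon S).map (hbe.rep.snd (b0 ≫ g.hom)) ≫ b0,
    κ, aW, hbe.rep.fst' (b0 ≫ g.hom), hbe.rep.snd (b0 ≫ g.hom), hre, repWith_comp _ hψe hb0e, ?_,
    sqL.flip, hr1, rfl, sqV, ?_⟩
  · rw [hr2, ← Category.assoc, hk2]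
  · intro x' u v0 hu hv0
    obtain ⟨z1, hz1a, hz1b⟩ := exists_of_isPullback sqM x' (Points.ofScheme V0 v0) (by
      rw [← Points.ofPt_eq_map_ofScheme, hv0])
    obtain ⟨z2, hz2a, hz2b⟩ := exists_of_isPullback sqN z1 (Points.ofScheme U u) (by
      rw [← Points.ofPt_eq_map_ofScheme, hu, Points.map_comp, hz1a])
    obtain ⟨w, rfl⟩ := (Points.schemeEquiv W).surjective z2
    refine ⟨w, ?_, ?_, ?_⟩
    · have : Points.ofPt r w = Points.map r (Points.ofScheme W w) :=
        Points.ofPt_eq_map_ofScheme r w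
      rw [this, ← hn1, Points.map_comp]
      change Points.map (pullback.fst f'.hom b0) (Points.map n ((Points.schemeEquiv W) w)) = x'
      rw [hz2a, hz1a]
    · apply ofScheme_injective U
      rw [← hz2b]
      change _ = Points.map _ (Points.ofScheme W w)
      rw [← Points.ofPt_eq_map_ofScheme, ofPt_yon_map]
    · have h3 : (hbe.rep.snd (b0 ≫ g.hom)).left (κ.left w) = bW.left w := by
        rw [← hk2']; rfl
      rw [h3]
      apply ofScheme_injective V0
      rw [← hz1b, ← hz2a]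
      change _ = Points.map _ (Points.map n (Points.ofScheme W w))
      rw [← Points.map_comp, hn2, ← Points.ofPt_eq_map_ofScheme, ofPt_yon_map]
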