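import Mathlib

set_option autoImplicit false
universe u

open TensorProduct

namespace Groth.Agent.Lib.BCEtH5

section
variable {R : Type*} [CommRing R] (A : Type*) {B D : Type*} [CommRing A] [Algebra R A]
  [CommRing B] [Algebra R B] [CommRing D] [Algebra R D]

attribute [local instance] Algebra.TensorProduct.rightAlgebra in
/-- base change of an étale algebra map is étale (`lTensor` form). -/
theorem etale_lTensor {f : B →ₐ[R] D} (hf : f.toRingHom.Etale) :
    (Algebra.TensorProduct.lTensor (S := A) A f).toRingHom.Etale := by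
  algebraize [f.toRingHom, (Algebra.TensorProduct.lTensor (S := A) A f).toRingHom]
  let e : A ⊗[R] D ≃ₐ[A ⊗[R] B] (A ⊗[R] B) ⊗[B] D :=
    { __ := (Algebra.IsPushout.cancelBaseChangeAlg _ _ _ _ _).symm,
      commutes' x := congr($(Algebra.IsPushout.cancelBaseChange_symm_comp_lTensor R B D A) x) }
  haveI : Algebra.Etale B D := RingHom.etale_algebraMap.mp hf
  haveI : Algebra.Etale (A ⊗[R] B) ((A ⊗[R] B) ⊗[B] D) := inferInstance
  haveI : Algebra.Etale (A ⊗[R] B) (A ⊗[R] D) := Algebra.Etale.of_equiv e.symm
  exact RingHom.etale_algebraMap.mpr inferInstance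

end

end Groth.Agent.Lib.BCEtH5
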