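import Mathlib
import Groth.Prelude
import Groth.Agent.Lib.BCFib1_helper2
import Groth.Agent.Lib.TFunRank_helper5
import Groth.Agent.Lib.TFunLES_helper7

/-!
# Consequences of the fibre-rank dictionary over an affine base (helper2)
APPEND-ONLY once landed.
-/

set_option autoImplicit false
universe u
open CategoryTheory Limits AlgebraicGeometry TopologicalSpace Opposite TensorProduct

namespace Groth.Agent.Lib.BCFibH2

open Groth.Agent.Lib.BCMainH2

/-- **S15522** -/
theorem main15522 (A : Type u) [CommRing A]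
    [IsNoetherianRing A] [IsReduced A] (X : Scheme.{u}) [X.Over (Spec (CommRingCat.of A))]
    [IsProper (X ↘ Spec (CommRingCat.of A))] (F : X.Modules) (hF : Coh.IsCoh F)
    (hfl : FlatMod.IsFlatOver (X ↘ Spec (CommRingCat.of A)) F) (p : ℕ)
    (hconst : IsLocallyConstant (CohIII.fiberRank (X ↘ Spec (CommRingCat.of A)) F p)) :
    (CohIII.tensorAFunctor A F ⋙ CohIII.HAb X p).PreservesEpimorphisms ∧
      ∀ q : ℕ, q + 1 = p →
        (CohIII.tensorAFunctor A F ⋙ CohIII.HAb X q).PreservesEpimorphisms := by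
  obtain ⟨P, hP, -, -, hiso, hrk⟩ := mainFibChain A X F hF hfl
  have hP' : ∀ i, Module.Finite A (P.X i) ∧ Module.Flat A (P.X i) := fun i =>
    ⟨(hP i).1, haveI := (hP i).2; inferInstance⟩
  have hlc : IsLocallyConstant (CohIII.dRank P (-(p : ℤ))) := by
    have h : CohIII.fiberRank (X ↘ Spec (CommRingCat.of A)) F p = CohIII.dRank P (-(p : ℤ)) :=
      funext (hrk p)
    rw [← h]
    exact hconst
  have h := Groth.Agent.TFunRank5.s2381_2 P hP' (-(p : ℤ)) hlc
  obtain ⟨e⟩ := hiso p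
  refine ⟨(presEpi_iff e).2 h.2, fun q hq => ?_⟩
  obtain ⟨e'⟩ := hiso q
  refine (presEpi_iff e').2 ?_
  have hq' : (q : ℤ) + 1 = (p : ℤ) := by exact_mod_cast hq
  exact (Groth.Agent.Lib.TFunLESH7.main P (fun i => (hP' i).2) (-(q : ℤ)) (-(p : ℤ))
    (by show -(p : ℤ) + 1 = -(q : ℤ); omega)).2 h.1

end Groth.Agent.Lib.BCFibH2
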