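import Groth.Agent.Lib.TrigFlag_helper9

/-!
# Base change of flags of subcomodules of the regular comodule (helper9)
-/

set_option autoImplicit false
universe u v w w'
open TensorProduct

namespace BCFlag9

open Groth.Agent.Lib.Comod_helper9 Groth.Agent.Lib.ComodFlag_helper9 Groth.Agent.Lib.CoeffSpace_helper9
  Groth.Agent.Lib.CoeffIso_helper9 TrigFlag9

variable (k : Type u) [Field k] (K : Type u) [Field K] [Algebra k K]
variable (A : Type u) [AddCommGroup A] [Module k A] [Coalgebra k A]

theorem comul_one_tmul (a : A) :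
    CoalgebraStruct.comul (R := K) (A := K ⊗[k] A) ((1 : K) ⊗ₜ[k] a) =
      TensorProduct.AlgebraTensorModule.tensorTensorTensorComm k K k K K K A A
        (((1 : K) ⊗ₜ[K] (1 : K)) ⊗ₜ[k] CoalgebraStruct.comul (R := k) a) := rfl

variable {k A}

theorem baseChange_sup_span (P : Submodule k A) (q : A) :
    (P ⊔ Submodule.span k {q}).baseChange K =
      P.baseChange K ⊔ Submodule.span K {(1 : K) ⊗ₜ[k] q} := by
  apply le_antisymm
  · rw [Submodule.baseChange_eq_span, Submodule.span_le]
    rintro _ ⟨m, hm, rfl⟩
    obtain ⟨p, hp, z, hz, rfl⟩ := Submodule.mem_sup.mp hm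
    obtain ⟨a, rfl⟩ := Submodule.mem_span_singleton.mp hz
    show (1 : K) ⊗ₜ[k] (p + a • q) ∈ _
    rw [TensorProduct.tmul_add]
    apply Submodule.add_mem
    · exact Submodule.mem_sup_left (Submodule.tmul_mem_baseChange_of_mem 1 hp)
    · apply Submodule.mem_sup_right
      rw [TensorProduct.tmul_smul, ← algebraMap_smul K a ((1 : K) ⊗ₜ[k] q)]
      exact Submodule.smul_mem _ _ (Submodule.mem_span_singleton_self _)
  · apply sup_le (Submodule.baseChange_mono K le_sup_left)
    rw [Submodule.span_le, Set.singleton_subset_iff]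
    exact Submodule.tmul_mem_baseChange_of_mem 1
      (Submodule.mem_sup_right (Submodule.mem_span_singleton_self q))

/-- base change of a subcomodule of the regular comodule -/
theorem isSubcomod_baseChange (P : Submodule k A) (hP : HopfRep.IsSubcomod (k := k) (A := A) P) :
    HopfRep.IsSubcomod (k := K) (A := K ⊗[k] A) (P.baseChange K) := by
  set R : Submodule K ((K ⊗[k] A) ⊗[K] (K ⊗[k] A)) :=
    LinearMap.range ((P.baseChange K).subtype.rTensor (K ⊗[k] A)) with hR
  have key : ∀ y : P ⊗[k] A,
      TensorProduct.AlgebraTensorModule.tensorTensorTensorComm k K k K K K A A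
        (((1 : K) ⊗ₜ[K] (1 : K)) ⊗ₜ[k] (P.subtype.rTensor A y)) ∈ R := by
    intro y
    induction y using TensorProduct.induction_on with
    | zero => simp
    | add x y hx hy =>
      rw [map_add, TensorProduct.tmul_add, map_add]
      exact R.add_mem hx hy
    | tmul p a =>
      rw [LinearMap.rTensor_tmul, TensorProduct.AlgebraTensorModule.tensorTensorTensorComm_tmul]
      refine ⟨(⟨(1 : K) ⊗ₜ[k] (p : A), Submodule.tmul_mem_baseChange_of_mem 1 p.2⟩ : P.baseChange K)
        ⊗ₜ[K] ((1 : K) ⊗ₜ[k] a), ?_⟩
      rw [LinearMap.rTensor_tmul]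
      rfl
  have hle : P.baseChange K ≤ R.comap (CoalgebraStruct.comul (R := K) (A := K ⊗[k] A)) := by
    rw [Submodule.baseChange_eq_span, Submodule.span_le]
    rintro _ ⟨p, hp, rfl⟩
    obtain ⟨y, hy⟩ := hP p hp
    show CoalgebraStruct.comul (R := K) (A := K ⊗[k] A) ((1 : K) ⊗ₜ[k] p) ∈ R
    rw [comul_one_tmul]
    have hy' : CoalgebraStruct.comul (R := k) p = P.subtype.rTensor A y := hy.symm
    rw [hy']
    exact key y
  intro x hx
  exact hle hx

theorem Flag.baseChange {Q : Submodule k A} (h : Flag (HopfRep.Comod.regular k A) Q) :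
    Flag (HopfRep.Comod.regular K (K ⊗[k] A)) (Q.baseChange K) := by
  induction h with
  | bot => rw [Submodule.baseChange_bot]; exact Flag.bot
  | step P q hP hs ih =>
    rw [baseChange_sup_span]
    refine Flag.step _ _ ih ?_
    rw [← baseChange_sup_span]
    exact isSubcomod_baseChange K _ hs

/-- every finite-dimensional subspace of `K ⊗ A` lies in the base change of a finitely generated
subspace of `A`. -/
theorem exists_fg_le_baseChange (s : Finset (K ⊗[k] A)) :
    ∃ M : Submodule k A, M.FG ∧ Submodule.span K (s : Set (K ⊗[k] A)) ≤ M.baseChange K := by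
  classical
  choose S hS using fun x : K ⊗[k] A => TensorProduct.exists_finset x
  let T : Finset A := s.biUnion fun x => (S x).image Prod.snd
  refine ⟨Submodule.span k (T : Set A), ⟨T, rfl⟩, ?_⟩
  rw [Submodule.span_le]
  intro x hx
  rw [SetLike.mem_coe, hS x]
  apply Submodule.sum_mem
  intro i hi
  apply Submodule.tmul_mem_baseChange_of_mem
  apply Submodule.subset_span
  rw [Finset.mem_coe, Finset.mem_biUnion]
  exact ⟨x, hx, Finset.mem_image_of_mem _ hi⟩

/-- trigonalizability is preserved by extension of the base field -/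
theorem trig_baseChange (hT : Trig k A) : Trig K (K ⊗[k] A) := by
  classical
  intro V _ _ cV hfin hsimple
  haveI := hsimple.1
  obtain ⟨ψ, hinj⟩ := exists_injective_coeffMap (k := K) (C := K ⊗[k] A) hsimple
  set j : V →ₗ[K] K ⊗[k] A := coeffMap (C := K ⊗[k] A) ψ with hj
  have hjhom : Hoch.IsComodHom (K ⊗[k] A) j := isComodHom_coeffMap ψ
  obtain ⟨s, hs⟩ := (Module.finite_def.mp hfin)
  obtain ⟨M, hMfg, hM⟩ := exists_fg_le_baseChange (k := k) K (A := A) (s.image j)
  obtain ⟨W, hW, hMW, hWfg⟩ := Groth.Agent.Lib.IndHom_helper9.exists_fg_subcomod (k := k) (C := A) A M hMfg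
  haveI : Module.Finite k W := Module.Finite.iff_fg.mpr hWfg
  let cW : HopfRep.Comod k A W := ComodSub.Comod.restr (HopfRep.Comod.regular k A) W hW
  have hflagW : Flag cW ⊤ := flag_top hT _ W cW inferInstance rfl
  have hflagA := hflagW.map W.subtype (ComodSub.isComodHom_subtype (HopfRep.Comod.regular k A) W hW)
  rw [Submodule.map_top, Submodule.range_subtype] at hflagA
  have hflagB := Flag.baseChange K hflagA
  have hle : LinearMap.range j ≤ W.baseChange K := by
    rw [LinearMap.range_eq_map, ← hs, Submodule.map_span]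
    refine le_trans ?_ (le_trans hM (Submodule.baseChange_mono K hMW))
    rw [Finset.coe_image]
  have hone := hflagB.finrank_simple (LinearMap.range j) hle (isSubcomod_range j hjhom)
    (by
      rw [Ne, LinearMap.range_eq_bot]
      intro h0
      obtain ⟨x, y, hxy⟩ := ‹Nontrivial V›
      apply hxy
      apply hinj
      rw [h0]; rfl)
    (by
      intro U hU hUle
      rcases hsimple.2 (U.comap j) (isSubcomod_comap j hjhom U hU) with h | h
      · left
        rw [← Submodule.map_comap_eq_of_le hUle, h, Submodule.map_bot]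
      · right
        rw [← Submodule.map_comap_eq_of_le hUle, h, Submodule.map_top])
  rw [← hone]
  exact (LinearEquiv.ofInjective j hinj).finrank_eq

end BCFlag9
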