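import Mathlib
import Groth.Prelude
import Groth.Agent.Lib.BCH0_helper2

/-!
# Cohomology and base change: kernels of natural transformations between global section functors
-/

set_option autoImplicit false
universe u
open CategoryTheory Limits AlgebraicGeometry TopologicalSpace Opposite TensorProduct

namespace Groth.Agent.Lib.BCMainH2

section Alg

variable {A : Type u} [CommRing A]

/-- kernels of natural transformations between corepresentable functors are corepresentable -/
theorem coyoneda_kernel {T T' : ModuleCat.{u} A ⥤ ModuleCat.{u} A} {Q Q' : ModuleCat.{u} A}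
    [Module.Finite A Q]
    (α : T ≅ (linearCoyoneda A (ModuleCat.{u} A)).obj (op Q))
    (α' : T' ≅ (linearCoyoneda A (ModuleCat.{u} A)).obj (op Q')) (η : T ⟶ T') :
    ∃ (R : ModuleCat.{u} A) (ι : (linearCoyoneda A (ModuleCat.{u} A)).obj (op R) ⟶ T),
      Module.Finite A R ∧ (∀ M : ModuleCat.{u} A, Function.Injective (ι.app M).hom) ∧
        ∀ (M : ModuleCat.{u} A) (x : T.obj M),
          (η.app M).hom x = 0 ↔ ∃ y, (ι.app M).hom y = x := by
  let η' : (linearCoyoneda A (ModuleCat.{u} A)).obj (op Q) ⟶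
      (linearCoyoneda A (ModuleCat.{u} A)).obj (op Q') := α.inv ≫ η ≫ α'.hom
  let u : Q' ⟶ Q := ((linearCoyoneda A (ModuleCat.{u} A)).preimage η').unop
  have hu : (linearCoyoneda A (ModuleCat.{u} A)).map u.op = η' :=
    Functor.map_preimage _ _
  have hu' : ∀ (M : ModuleCat.{u} A) (g : Q ⟶ M), (η'.app M).hom g = u ≫ g := by
    intro M g
    rw [← hu]
    rfl
  let π : Q ⟶ cokernel u := cokernel.π u
  have hπs : Function.Surjective π.hom := (ModuleCat.epi_iff_surjective π).1 inferInstance
  have hαb : ∀ M : ModuleCat.{u} A, Function.Bijective (α.hom.app M).hom := fun M =>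
    ConcreteCategory.bijective_of_isIso (α.hom.app M)
  have hαib : ∀ M : ModuleCat.{u} A, Function.Bijective (α.inv.app M).hom := fun M =>
    ConcreteCategory.bijective_of_isIso (α.inv.app M)
  have hα'ib : ∀ M : ModuleCat.{u} A, Function.Bijective (α'.inv.app M).hom := fun M =>
    ConcreteCategory.bijective_of_isIso (α'.inv.app M)
  have hαα : ∀ (M : ModuleCat.{u} A) (x : T.obj M),
      (α.inv.app M).hom ((α.hom.app M).hom x) = x := fun M x =>
    congrArg (fun φ => φ.hom x) (α.hom_inv_id_app M)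
  have hηη : ∀ (M : ModuleCat.{u} A) (x : T.obj M),
      (η.app M).hom x = (α'.inv.app M).hom ((η'.app M).hom ((α.hom.app M).hom x)) := by
    intro M x
    have h1 : η = α.hom ≫ η' ≫ α'.inv := by
      simp only [η', Category.assoc, Iso.hom_inv_id, Category.comp_id, Iso.hom_inv_id_assoc]
    rw [h1]
    rfl
  refine ⟨cokernel u, (linearCoyoneda A (ModuleCat.{u} A)).map π.op ≫ α.inv,
    Module.Finite.of_surjective π.hom hπs, fun M h h' hh => ?_, fun M x => ?_⟩
  · have h2 : π ≫ h = π ≫ h' := (hαib M).1 hh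
    exact (cancel_epi π).1 h2
  · rw [hηη]
    constructor
    · intro h0
      have h1 : (η'.app M).hom ((α.hom.app M).hom x) = 0 := by
        apply (hα'ib M).1
        rw [h0, map_zero]
      rw [hu'] at h1
      refine ⟨cokernel.desc u ((α.hom.app M).hom x) h1, ?_⟩
      show (α.inv.app M).hom (π ≫ cokernel.desc u ((α.hom.app M).hom x) h1) = x
      rw [cokernel.π_desc, hαα]
    · rintro ⟨y, rfl⟩
      have h2 : (α.hom.app M).hom ((((linearCoyoneda A (ModuleCat.{u} A)).map π.op ≫
          α.inv).app M).hom y) = π ≫ y :=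
        congrArg (fun φ => φ.hom (π ≫ y)) (α.inv_hom_id_app M)
      rw [h2, hu', ← Category.assoc, cokernel.condition, zero_comp]
      exact map_zero (α'.inv.app M).hom

end Alg

section Main

variable (A : Type u) [CommRing A] [IsNoetherianRing A] (X : Scheme.{u})
  [X.Over (Spec (CommRingCat.of A))] [IsProper (X ↘ Spec (CommRingCat.of A))]

theorem main4498 (F F' : X.Modules) (hF : Coh.IsCoh F) (hF' : Coh.IsCoh F')
    (hfl : FlatMod.IsFlatOver (X ↘ Spec (CommRingCat.of A)) F)
    (hfl' : FlatMod.IsFlatOver (X ↘ Spec (CommRingCat.of A)) F')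
    (η : CohIII.tensorAFunctor A F ⋙ CohIII.globalSectionsA A ⟶
      CohIII.tensorAFunctor A F' ⋙ CohIII.globalSectionsA A) :
    ∃ (R : ModuleCat.{u} A) (ι : (linearCoyoneda A (ModuleCat.{u} A)).obj (op R) ⟶
        CohIII.tensorAFunctor A F ⋙ CohIII.globalSectionsA A),
      Module.Finite A R ∧ (∀ M : ModuleCat.{u} A, Function.Injective (ι.app M).hom) ∧
        ∀ (M : ModuleCat.{u} A) (x : (CohIII.tensorAFunctor A F ⋙ CohIII.globalSectionsA A).obj M),
          (η.app M).hom x = 0 ↔ ∃ y, (ι.app M).hom y = x := by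
  obtain ⟨Q, hQ, ⟨α⟩⟩ := main2436 A X F hF hfl
  obtain ⟨Q', -, ⟨α'⟩⟩ := main2436 A X F' hF' hfl'
  haveI := hQ
  exact coyoneda_kernel α α' η

end Main

end Groth.Agent.Lib.BCMainH2
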