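import Mathlib
import Groth.Prelude
import Groth.Agent.Lib.TFunLocal_helper5
import Groth.Agent.Lib.TFunLES_helper7
import Groth.Agent.Lib.TFunEW_helper7
import Groth.Agent.Lib.Matlis3_helper5
import Groth.Agent.Lib.BCAlg2_helper2

/-!
# The length criterion for exactness of `T_q` over a noetherian local ring (helper2)
APPEND-ONLY once landed.
-/

set_option autoImplicit false
universe u
open CategoryTheory Limits TensorProduct MonoidalCategory

namespace Groth.Agent.Lib.BCLenH2

section Len

variable {A : Type u} [CommRing A]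
  {M₁ M₂ M₃ M₄ M₅ : Type u} [AddCommGroup M₁] [Module A M₁] [AddCommGroup M₂] [Module A M₂]
  [AddCommGroup M₃] [Module A M₃] [AddCommGroup M₄] [Module A M₄] [AddCommGroup M₅] [Module A M₅]

lemma exact_ker_rangeRestrict (g : M₁ →ₗ[A] M₂) :
    Function.Exact (LinearMap.ker g).subtype g.rangeRestrict := by
  intro x
  constructor
  · intro h
    exact ⟨⟨x, LinearMap.mem_ker.mpr (by simpa using congrArg Subtype.val h)⟩, rfl⟩
  · rintro ⟨y, rfl⟩
    exact Subtype.ext (LinearMap.mem_ker.mp y.2)

lemma length_eq_ker_add_range (g : M₁ →ₗ[A] M₂) :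
    Module.length A M₁ =
      Module.length A (LinearMap.ker g) + Module.length A (LinearMap.range g) :=
  Module.length_eq_add_of_exact (LinearMap.ker g).subtype g.rangeRestrict
    (Submodule.subtype_injective _) (LinearMap.surjective_rangeRestrict g)
    (exact_ker_rangeRestrict g)

lemma length_ker_le_of_exact (f : M₁ →ₗ[A] M₂) (g : M₂ →ₗ[A] M₃) (H : Function.Exact f g) :
    Module.length A (LinearMap.ker g) ≤ Module.length A M₁ := by
  have hk : ∀ x, f x ∈ LinearMap.ker g := fun x =>
    LinearMap.mem_ker.mpr ((H (f x)).mpr ⟨x, rfl⟩)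
  let f' : M₁ →ₗ[A] LinearMap.ker g := f.codRestrict _ hk
  have hf' : Function.Surjective f' := by
    rintro ⟨y, hy⟩
    obtain ⟨x, rfl⟩ := (H y).mp (LinearMap.mem_ker.mp hy)
    exact ⟨x, rfl⟩
  exact Module.length_le_of_surjective f' hf'

/-- half exactness and lengths -/
lemma length_le_of_exact (f : M₁ →ₗ[A] M₂) (g : M₂ →ₗ[A] M₃) (H : Function.Exact f g) :
    Module.length A M₂ ≤ Module.length A M₁ + Module.length A M₃ := by
  rw [length_eq_ker_add_range g]
  exact add_le_add (length_ker_le_of_exact f g H)
    (Module.length_le_of_injective (LinearMap.range g).subtype (Submodule.subtype_injective _))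

/-- the numerical criterion in a five term exact sequence -/
theorem surj_of_length (a : M₁ →ₗ[A] M₂) (δ : M₂ →ₗ[A] M₃) (i : M₃ →ₗ[A] M₄)
    (π : M₄ →ₗ[A] M₅) (h2 : Function.Exact a δ) (h3 : Function.Exact δ i)
    (h4 : Function.Exact i π) (x t : ℕ) (hM3 : Module.length A M₃ ≤ x)
    (hM5 : Module.length A M₅ = t) (hM4 : Module.length A M₄ = x + t) :
    Function.Surjective π ∧ Function.Surjective a := by
  have hker : Module.length A (LinearMap.ker π) ≤ x :=
    (length_ker_le_of_exact i π h4).trans hM3
  have hr : Module.length A (LinearMap.range π) ≤ t := by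
    rw [← hM5]
    exact Module.length_le_of_injective (LinearMap.range π).subtype
      (Submodule.subtype_injective _)
  have hsplit := length_eq_ker_add_range π
  rw [hM4] at hsplit
  obtain ⟨ka, hka⟩ := ENat.ne_top_iff_exists.mp (ne_top_of_le_ne_top (ENat.coe_ne_top x) hker)
  obtain ⟨kb, hkb⟩ := ENat.ne_top_iff_exists.mp (ne_top_of_le_ne_top (ENat.coe_ne_top t) hr)
  rw [← hka] at hker hsplit
  rw [← hkb] at hr hsplit
  have hker' : ka ≤ x := by exact_mod_cast hker
  have hr' : kb ≤ t := by exact_mod_cast hr
  have hsplit' : x + t = ka + kb := by exact_mod_cast hsplit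
  have hkax : ka = x := by omega
  have hkbt : kb = t := by omega
  -- surjectivity of `π`
  have hfl5 : IsFiniteLength A M₅ :=
    Module.length_ne_top_iff.mp (by rw [hM5]; exact ENat.coe_ne_top t)
  obtain ⟨hn5, ha5⟩ := isFiniteLength_iff_isNoetherian_isArtinian.mp hfl5
  have hπ : LinearMap.range π = ⊤ := by
    by_contra hne
    have hlt := Submodule.length_lt hne
    rw [← hkb, hM5] at hlt
    have : kb < t := by exact_mod_cast hlt
    omega
  -- injectivity of `i`
  have hri : Module.length A (LinearMap.range i) = x := by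
    rw [← (LinearEquiv.ofEq _ _ (LinearMap.exact_iff.mp h4)).length_eq, ← hka, hkax]
  have hsplit3 := length_eq_ker_add_range i
  rw [hri] at hsplit3
  have hki_le : Module.length A (LinearMap.ker i) ≤ x :=
    (Module.length_le_of_injective (LinearMap.ker i).subtype
      (Submodule.subtype_injective _)).trans hM3
  obtain ⟨kc, hkc⟩ := ENat.ne_top_iff_exists.mp
    (ne_top_of_le_ne_top (ENat.coe_ne_top x) hki_le)
  rw [← hkc] at hsplit3
  rw [hsplit3] at hM3
  have hM3' : kc + x ≤ x := by exact_mod_cast hM3
  have hkc0 : kc = 0 := by omega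
  have hki : Module.length A (LinearMap.ker i) = 0 := by rw [← hkc, hkc0]; rfl
  haveI : Subsingleton (LinearMap.ker i) := Module.length_eq_zero_iff.mp hki
  refine ⟨LinearMap.range_eq_top.mp hπ, fun y => ?_⟩
  have hmem : δ y ∈ LinearMap.ker i := LinearMap.mem_ker.mpr ((h3 (δ y)).mpr ⟨y, rfl⟩)
  have h0 : δ y = 0 :=
    congrArg Subtype.val (Subsingleton.elim (⟨δ y, hmem⟩ : LinearMap.ker i) 0)
  exact (h2 y).mp h0

/-- the length of the tensor product with a finite free module -/
lemma length_tensor_free {N M : Type u} [AddCommGroup N] [Module A N] [AddCommGroup M]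
    [Module A M] {r : ℕ} (b : Module.Basis (Fin r) A N) :
    Module.length A (N ⊗[A] M) = r * Module.length A M := by
  let e : N ⊗[A] M ≃ₗ[A] (Fin r → M) :=
    (LinearEquiv.rTensor M b.equivFun).trans
      ((TensorProduct.comm A (Fin r → A) M).trans (TensorProduct.piScalarRight A A M (Fin r)))
  rw [e.length_eq, Module.length_pi]
  simp

lemma length_residue [IsLocalRing A] :
    Module.length A (A ⧸ IsLocalRing.maximalIdeal A) = 1 := by
  haveI : IsSimpleModule A (A ⧸ IsLocalRing.maximalIdeal A) :=
    isSimpleModule_iff_isCoatom.mpr (Ideal.isMaximal_def.mp inferInstance)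
  exact Module.length_eq_one A _

end Len

section TLen

variable {A : Type u} [CommRing A] [IsLocalRing A] (P : ChainComplex (ModuleCat.{u} A) ℤ)
  (hP : ∀ i, Module.Flat A (P.X i)) (q : ℤ)

lemma subsingleton_T_of_subsingleton (M : ModuleCat.{u} A) [Subsingleton M] :
    Subsingleton (CohIII.T P q M) := by
  haveI : Subsingleton (P.X q ⊗[A] M) := by
    refine ⟨fun a b => ?_⟩
    have h : ∀ z : P.X q ⊗[A] M, z = 0 := fun z => by
      induction z using TensorProduct.induction_on with
      | zero => rfl
      | tmul x n => rw [Subsingleton.elim n 0, TensorProduct.tmul_zero]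
      | add x y hx hy => rw [hx, hy, add_zero]
    rw [h a, h b]
  have hz : IsZero ((CohIII.tensorObj P M).X q) := by
    haveI : Subsingleton ((CohIII.tensorObj P M).X q) :=
      (inferInstance : Subsingleton (P.X q ⊗[A] M))
    exact ModuleCat.isZero_of_subsingleton _
  exact ModuleCat.subsingleton_of_isZero
    (Groth.Agent.Lib.BCAlgH2.isZero_homology_of_isZero_X _ q hz)

include hP in
/-- `length T(M) ≤ length T(k) · length M` for modules of finite length -/
theorem length_T_le (n : ℕ) : ∀ M : ModuleCat.{u} A, Module.length A M = n →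
    Module.length A (CohIII.T P q M) ≤
      Module.length A (CohIII.T P q (ModuleCat.of A (A ⧸ IsLocalRing.maximalIdeal A))) * n := by
  induction n with
  | zero =>
    intro M hM
    haveI : Subsingleton M := Module.length_eq_zero_iff.mp (by simpa using hM)
    haveI := subsingleton_T_of_subsingleton P q M
    rw [Module.length_eq_zero]
    exact bot_le
  | succ n ih =>
    intro M hM
    have hfl : IsFiniteLength A M :=
      Module.length_ne_top_iff.mp (by rw [hM]; exact ENat.coe_ne_top _)
    obtain ⟨hnoeth, -⟩ := isFiniteLength_iff_isNoetherian_isArtinian.mp hfl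
    haveI := hnoeth
    haveI hnt : Nontrivial M := Module.length_pos_iff.mp (by
      rw [hM]
      exact_mod_cast Nat.succ_pos n)
    obtain ⟨N, hN⟩ : ∃ N : Submodule A M, IsCoatom N := by
      rcases eq_top_or_exists_le_coatom (⊥ : Submodule A M) with h | ⟨N, hN, -⟩
      · exact absurd h bot_ne_top
      · exact ⟨N, hN⟩
    haveI hsimple : IsSimpleModule A (M ⧸ N) := isSimpleModule_iff_isCoatom.mpr hN
    obtain ⟨I, hI, ⟨e⟩⟩ := isSimpleModule_iff_quot_maximal.mp hsimple
    obtain rfl : I = IsLocalRing.maximalIdeal A := IsLocalRing.eq_maximalIdeal hI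
    -- the short exact sequence `0 → N → M → k → 0`
    let g : M →ₗ[A] (A ⧸ IsLocalRing.maximalIdeal A) := e.toLinearMap ∘ₗ N.mkQ
    have hgsurj : Function.Surjective g := e.surjective.comp (Submodule.mkQ_surjective N)
    have hex : Function.Exact N.subtype g := by
      intro x
      constructor
      · intro h
        have h' : N.mkQ x = 0 := e.injective (by rw [map_zero]; exact h)
        exact ⟨⟨x, (Submodule.Quotient.mk_eq_zero N).mp h'⟩, rfl⟩
      · rintro ⟨y, rfl⟩
        show e (N.mkQ y.1) = 0
        rw [show N.mkQ y.1 = 0 from (Submodule.Quotient.mk_eq_zero N).mpr y.2, map_zero]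
    have hlen := Module.length_eq_add_of_exact N.subtype g (Submodule.subtype_injective _)
      hgsurj hex
    rw [hM, length_residue] at hlen
    have hNlen : Module.length A N = n := by
      have h1 : Module.length A N ≠ ⊤ := by
        intro h
        rw [h] at hlen
        exact ENat.coe_ne_top _ (hlen.trans (top_add _))
      obtain ⟨k, hk⟩ := ENat.ne_top_iff_exists.mp h1
      rw [← hk] at hlen ⊢
      have : n + 1 = k + 1 := by exact_mod_cast hlen
      have : k = n := by omega
      rw [this]
    let S : ShortComplex (ModuleCat.{u} A) :=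
      ShortComplex.mk (ModuleCat.ofHom N.subtype) (ModuleCat.ofHom g) (by
        apply ModuleCat.hom_ext
        apply LinearMap.ext
        intro y
        exact (hex _).mpr ⟨y, rfl⟩)
    have hS : S.ShortExact := by
      refine ShortComplex.ShortExact.mk' ?_ ?_ ?_
      · rw [ShortComplex.ShortExact.moduleCat_exact_iff_function_exact]
        exact hex
      · rw [ModuleCat.mono_iff_injective]
        exact Submodule.subtype_injective _
      · rw [ModuleCat.epi_iff_surjective]
        exact hgsurj
    have hhalf := Groth.Agent.Lib.TFunEWH7.halfExact P hP q S hS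
    have hhalf' : Function.Exact ((CohIII.TFun P q).map S.f).hom ((CohIII.TFun P q).map S.g).hom :=
      (ShortComplex.ShortExact.moduleCat_exact_iff_function_exact _).mp hhalf
    have h1 := length_le_of_exact _ _ hhalf'
    have h2 := ih (ModuleCat.of A N) hNlen
    calc Module.length A (CohIII.T P q M)
        ≤ Module.length A (CohIII.T P q (ModuleCat.of A N)) +
          Module.length A (CohIII.T P q (ModuleCat.of A (A ⧸ IsLocalRing.maximalIdeal A))) := h1
      _ ≤ Module.length A (CohIII.T P q (ModuleCat.of A (A ⧸ IsLocalRing.maximalIdeal A))) * n +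
          Module.length A (CohIII.T P q (ModuleCat.of A (A ⧸ IsLocalRing.maximalIdeal A))) :=
        add_le_add h2 le_rfl
      _ = Module.length A (CohIII.T P q (ModuleCat.of A (A ⧸ IsLocalRing.maximalIdeal A))) *
          ((n + 1 : ℕ) : ℕ∞) := by
        push_cast
        rw [mul_add, mul_one]

end TLen

end Groth.Agent.Lib.BCLenH2
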