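import Mathlib
import Groth.Prelude
import Groth.Agent.Lib.BCLen1_helper2
import Groth.Agent.Lib.BCLin1_helper2
import Groth.Agent.Lib.BCMain3_helper2

/-!
# The length criterion for cohomological flatness: S4505 (helper2)
APPEND-ONLY once landed.
-/

set_option autoImplicit false
universe u
open CategoryTheory Limits AlgebraicGeometry TensorProduct MonoidalCategory

namespace Groth.Agent.Lib.BCLenH2

section Main

variable {A : Type u} [CommRing A] [IsLocalRing A] [IsNoetherianRing A]
  (P : ChainComplex (ModuleCat.{u} A) ℤ)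
  (hP : ∀ i, Module.Finite A (P.X i) ∧ Module.Flat A (P.X i)) (q : ℤ)

include hP in
lemma length_T_residue_ne_top :
    Module.length A (CohIII.T P q (ModuleCat.of A (A ⧸ IsLocalRing.maximalIdeal A))) ≠ ⊤ := by
  haveI := (hP q).1
  haveI := (hP q).2
  haveI : Module.Free A (P.X q) := Module.free_of_flat_of_isLocalRing
  let b := Module.finBasis A (P.X q)
  have h1 : Module.length A (P.X q ⊗[A] (A ⧸ IsLocalRing.maximalIdeal A)) =
      (Module.finrank A (P.X q) : ℕ∞) * 1 := by
    rw [length_tensor_free b, length_residue]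
  have h2 : Module.length A
      ((CohIII.tensorObj P (ModuleCat.of A (A ⧸ IsLocalRing.maximalIdeal A))).homology q) ≤
      Module.length A
        ((CohIII.tensorObj P (ModuleCat.of A (A ⧸ IsLocalRing.maximalIdeal A))).cycles q) :=
    Module.length_le_of_surjective
      ((CohIII.tensorObj P (ModuleCat.of A (A ⧸ IsLocalRing.maximalIdeal A))).homologyπ q).hom
      ((ModuleCat.epi_iff_surjective _).mp inferInstance)
  have h3 : Module.length A
      ((CohIII.tensorObj P (ModuleCat.of A (A ⧸ IsLocalRing.maximalIdeal A))).cycles q) ≤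
      Module.length A
        ((CohIII.tensorObj P (ModuleCat.of A (A ⧸ IsLocalRing.maximalIdeal A))).X q) :=
    Module.length_le_of_injective
      ((CohIII.tensorObj P (ModuleCat.of A (A ⧸ IsLocalRing.maximalIdeal A))).iCycles q).hom
      ((ModuleCat.mono_iff_injective _).mp inferInstance)
  have h4 : Module.length A
      ((CohIII.tensorObj P (ModuleCat.of A (A ⧸ IsLocalRing.maximalIdeal A))).X q) =
      Module.length A (P.X q ⊗[A] (A ⧸ IsLocalRing.maximalIdeal A)) := rfl
  refine ne_top_of_le_ne_top ?_ (h2.trans (h3.trans (le_of_eq (h4.trans h1))))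
  rw [mul_one]
  exact ENat.coe_ne_top _

include hP in
/-- exactness of `T_q` gives the length formula for every module -/
theorem length_formula_of_exact
    (hex : (CohIII.TFun P q).PreservesMonomorphisms ∧ (CohIII.TFun P q).PreservesEpimorphisms)
    (M : ModuleCat.{u} A) :
    Module.length A (CohIII.T P q M) =
      Module.length A (CohIII.T P q (ModuleCat.of A (A ⧸ IsLocalRing.maximalIdeal A))) *
        Module.length A M := by
  have hPf : ∀ i, Module.Flat A (P.X i) := fun i => (hP i).2
  obtain ⟨e⟩ := Groth.Agent.Lib.TFunEWH7.iso_of_epi P hPf q hex.2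
  haveI hflat : Module.Flat A ((CohIII.TFun P q).obj (ModuleCat.of A A)) :=
    Groth.Agent.Lib.TFunEWH7.flat_TA_of_mono_epi P hPf q hex.1 hex.2
  haveI : Module.Finite A ((CohIII.tensorObj P (ModuleCat.of A A)).X q) := by
    haveI := (hP q).1
    show Module.Finite A (TensorProduct A (P.X q) A)
    infer_instance
  haveI hfin : Module.Finite A ((CohIII.TFun P q).obj (ModuleCat.of A A)) :=
    Groth.Agent.Lib.TFunEWH7.finite_homology _ q
  haveI : Module.Free A ((CohIII.TFun P q).obj (ModuleCat.of A A)) :=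
    Module.free_of_flat_of_isLocalRing
  let b := Module.finBasis A ((CohIII.TFun P q).obj (ModuleCat.of A A))
  have key : ∀ M : ModuleCat.{u} A, Module.length A (CohIII.T P q M) =
      (Module.finrank A ((CohIII.TFun P q).obj (ModuleCat.of A A)) : ℕ∞) *
        Module.length A M := by
    intro M
    have h1 : Module.length A (CohIII.T P q M) =
        Module.length A (((CohIII.TFun P q).obj (ModuleCat.of A A)) ⊗[A] M) :=
      ((e.app M).toLinearEquiv.symm).length_eq
    rw [h1, length_tensor_free b]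
  have hk : Module.length A (ModuleCat.of A (A ⧸ IsLocalRing.maximalIdeal A)) = 1 :=
    length_residue
  rw [key M, key (ModuleCat.of A (A ⧸ IsLocalRing.maximalIdeal A)), hk, mul_one]

include hP in
/-- the length formula at level `n` gives the surjectivity of the two transition maps -/
theorem surj_of_formula (n : ℕ)
    (hlen : Module.length A (CohIII.T P q
        (ModuleCat.of A (A ⧸ IsLocalRing.maximalIdeal A ^ (n + 1)))) =
      Module.length A (CohIII.T P q (ModuleCat.of A (A ⧸ IsLocalRing.maximalIdeal A))) *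
        Module.length A (A ⧸ IsLocalRing.maximalIdeal A ^ (n + 1))) :
    Function.Surjective ((CohIII.TFun P q).map (ModuleCat.ofHom
        (Ideal.Quotient.factorₐ A (Ideal.pow_le_self (I := IsLocalRing.maximalIdeal A)
          (Nat.succ_ne_zero n))).toLinearMap :
        ModuleCat.of A (A ⧸ IsLocalRing.maximalIdeal A ^ (n + 1)) ⟶
          ModuleCat.of A (A ⧸ IsLocalRing.maximalIdeal A))).hom ∧
    Function.Surjective ((CohIII.TFun P (q + 1)).map (ModuleCat.ofHom
        (Ideal.Quotient.factorₐ A (Ideal.pow_le_self (I := IsLocalRing.maximalIdeal A)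
          (Nat.succ_ne_zero n))).toLinearMap :
        ModuleCat.of A (A ⧸ IsLocalRing.maximalIdeal A ^ (n + 1)) ⟶
          ModuleCat.of A (A ⧸ IsLocalRing.maximalIdeal A))).hom := by
  have hPf : ∀ i, Module.Flat A (P.X i) := fun i => (hP i).2
  set ρ : ModuleCat.of A (A ⧸ IsLocalRing.maximalIdeal A ^ (n + 1)) ⟶
      ModuleCat.of A (A ⧸ IsLocalRing.maximalIdeal A) :=
    ModuleCat.ofHom (Ideal.Quotient.factorₐ A
      (Ideal.pow_le_self (I := IsLocalRing.maximalIdeal A) (Nat.succ_ne_zero n))).toLinearMap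
    with hρ
  have hρsurj : Function.Surjective ρ.hom := by
    intro x
    obtain ⟨a, rfl⟩ := Ideal.Quotient.mk_surjective x
    exact ⟨Ideal.Quotient.mk _ a, rfl⟩
  let K : Submodule A (A ⧸ IsLocalRing.maximalIdeal A ^ (n + 1)) := LinearMap.ker ρ.hom
  let S : ShortComplex (ModuleCat.{u} A) :=
    ShortComplex.mk (ModuleCat.ofHom K.subtype) ρ (by
      apply ModuleCat.hom_ext
      apply LinearMap.ext
      intro y
      exact y.2)
  have hS : S.ShortExact := by
    refine ShortComplex.ShortExact.mk' ?_ ?_ ?_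
    · rw [ShortComplex.ShortExact.moduleCat_exact_iff_function_exact]
      exact LinearMap.exact_subtype_ker_map ρ.hom
    · rw [ModuleCat.mono_iff_injective]
      exact Submodule.subtype_injective _
    · rw [ModuleCat.epi_iff_surjective]
      exact hρsurj
  have hS' := Groth.Agent.Lib.TFunLESH7.tensorSC_shortExact P hPf S hS
  have hrel : (ComplexShape.down ℤ).Rel (q + 1) q := rfl
  have e1 := (ShortComplex.ShortExact.moduleCat_exact_iff_function_exact _).mp
    (hS'.homology_exact₁ (q + 1) q hrel)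
  have e2 := (ShortComplex.ShortExact.moduleCat_exact_iff_function_exact _).mp
    (hS'.homology_exact₂ q)
  have e3 := (ShortComplex.ShortExact.moduleCat_exact_iff_function_exact _).mp
    (hS'.homology_exact₃ (q + 1) q hrel)
  -- lengths
  have hflAn : IsFiniteLength A (A ⧸ IsLocalRing.maximalIdeal A ^ (n + 1)) :=
    Groth.Agent.Matlis.isFiniteLength_quotient_of_pow_le _ (n + 1) le_rfl
  have hAn : Module.length A (A ⧸ IsLocalRing.maximalIdeal A ^ (n + 1)) =
      Module.length A K + Module.length A (A ⧸ IsLocalRing.maximalIdeal A) :=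
    Module.length_eq_add_of_exact K.subtype ρ.hom (Submodule.subtype_injective _) hρsurj
      (LinearMap.exact_subtype_ker_map ρ.hom)
  rw [length_residue] at hAn
  have hK_ne : Module.length A K ≠ ⊤ := by
    intro h
    rw [h, top_add] at hAn
    exact (Module.length_ne_top_iff.mpr hflAn) hAn
  obtain ⟨kK, hkK⟩ := ENat.ne_top_iff_exists.mp hK_ne
  obtain ⟨kt, hkt⟩ := ENat.ne_top_iff_exists.mp (length_T_residue_ne_top P hP q)
  have hTK := length_T_le P hPf q kK (ModuleCat.of A K) hkK.symm
  rw [← hkt] at hTK hlen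
  rw [hAn, ← hkK] at hlen
  have hM3 : Module.length A (CohIII.T P q (ModuleCat.of A K)) ≤ ((kt * kK : ℕ) : ℕ∞) := by
    push_cast
    exact hTK
  have hM4 : Module.length A (CohIII.T P q
      (ModuleCat.of A (A ⧸ IsLocalRing.maximalIdeal A ^ (n + 1)))) =
      ((kt * kK : ℕ) : ℕ∞) + (kt : ℕ∞) := by
    rw [hlen]
    push_cast
    ring
  have hres := surj_of_length _ _ _ _ e3 e1 e2 (kt * kK) kt hM3 hkt.symm hM4
  exact ⟨hres.1, hres.2⟩

include hP in
/-- **the algebraic form of S4505** -/
theorem alg4505 :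
    ((CohIII.TFun P q).PreservesMonomorphisms ∧ (CohIII.TFun P q).PreservesEpimorphisms) ↔
      ∃ n₀ : ℕ, ∀ n : ℕ, n₀ ≤ n →
        Module.length A (CohIII.T P q
            (ModuleCat.of A (A ⧸ IsLocalRing.maximalIdeal A ^ (n + 1)))) =
          Module.length A (CohIII.T P q (ModuleCat.of A (A ⧸ IsLocalRing.maximalIdeal A))) *
            Module.length A (A ⧸ IsLocalRing.maximalIdeal A ^ (n + 1)) := by
  have hPf : ∀ i, Module.Flat A (P.X i) := fun i => (hP i).2
  constructor
  · intro hex
    exact ⟨0, fun n _ => length_formula_of_exact P hP q hex _⟩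
  · rintro ⟨n₀, hn₀⟩
    have hrel : (ComplexShape.down ℤ).Rel (q + 1) q := rfl
    refine ⟨?_, ?_⟩
    · rw [← Groth.Agent.Lib.TFunLESH7.main P hPf (q + 1) q hrel]
      exact (Groth.Agent.TFunLocal5.s4490_part2 P hP (q + 1)).mpr
        ⟨n₀, fun n hn => (surj_of_formula P hP q n (hn₀ n hn)).2⟩
    · exact (Groth.Agent.TFunLocal5.s4490_part2 P hP q).mpr
        ⟨n₀, fun n hn => (surj_of_formula P hP q n (hn₀ n hn)).1⟩

end Main

/-- **S4505** -/
theorem main4505 (A : Type u) [CommRing A]
    [IsNoetherianRing A] [IsLocalRing A] (X : Scheme.{u}) [X.Over (Spec (CommRingCat.of A))]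
    [IsProper (X ↘ Spec (CommRingCat.of A))] (F : X.Modules) (hF : Coh.IsCoh F)
    (hfl : FlatMod.IsFlatOver (X ↘ Spec (CommRingCat.of A)) F) (p : ℕ) :
    ((CohIII.tensorAFunctor A F ⋙ CohIII.HAb X p).PreservesMonomorphisms ∧
        (CohIII.tensorAFunctor A F ⋙ CohIII.HAb X p).PreservesEpimorphisms) ↔
      ∃ n₀ : ℕ, ∀ n : ℕ, n₀ ≤ n →
        Module.length A (Coh.HH X ((CohIII.tensorAFunctor A F).obj
            (ModuleCat.of A (A ⧸ IsLocalRing.maximalIdeal A ^ (n + 1)))) p) =
          Module.length A (Coh.HH X ((CohIII.tensorAFunctor A F).obj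
              (ModuleCat.of A (IsLocalRing.ResidueField A))) p) *
            Module.length A (A ⧸ IsLocalRing.maximalIdeal A ^ (n + 1)) := by
  obtain ⟨P, hP, -, hiso⟩ := Groth.Agent.Lib.BCMainH2.mainChain A X F hF hfl
  have hP' : ∀ i, Module.Finite A (P.X i) ∧ Module.Flat A (P.X i) := fun i =>
    ⟨(hP i).1, haveI := (hP i).2; inferInstance⟩
  obtain ⟨e⟩ := hiso p
  haveI : F.IsQuasicoherent := hF.1
  have hl : ∀ M : ModuleCat.{u} A,
      Module.length A (Coh.HH X ((CohIII.tensorAFunctor A F).obj M) p) =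
        Module.length A (CohIII.T P (-(p : ℤ)) M) := fun M =>
    (Groth.Agent.Lib.BCMainH2.linEquivOfIso A F e M).length_eq
  refine (and_congr (Groth.Agent.Lib.BCMainH2.presMono_iff e)
    (Groth.Agent.Lib.BCMainH2.presEpi_iff e)).trans ((alg4505 P hP' (-(p : ℤ))).trans ?_)
  constructor
  · rintro ⟨n₀, h⟩
    refine ⟨n₀, fun n hn => ?_⟩
    rw [hl, hl]
    exact h n hn
  · rintro ⟨n₀, h⟩
    refine ⟨n₀, fun n hn => ?_⟩
    have h' := h n hn
    rw [hl, hl] at h'
    exact h'

end Groth.Agent.Lib.BCLenH2
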