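import Mathlib

set_option autoImplicit false

/-! The two descriptions of the base-change map (adjoint of `η_*(unit)` and adjoint of
`f^*(counit)`) agree. -/

namespace BCMate
open CategoryTheory

section Abstract
variable {AV AU AY AX : Type*} [Category AV] [Category AU] [Category AY] [Category AX]
  {Lφ : AV ⥤ AU} {Rφ : AU ⥤ AV} (aφ : Lφ ⊣ Rφ)
  {Lζ : AU ⥤ AX} {Rζ : AX ⥤ AU} (aζ : Lζ ⊣ Rζ)
  {Lη : AV ⥤ AY} {Rη : AY ⥤ AV} (aη : Lη ⊣ Rη)
  {Lf : AY ⥤ AX} {Rf : AX ⥤ AY} (af : Lf ⊣ Rf)
  (γ : Lφ ⋙ Lζ ⟶ Lη ⋙ Lf)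

theorem mate_eq (M : AY) :
    (aφ.homEquiv _ _).symm (Rη.map (af.unit.app M) ≫
      (conjugateEquiv (aη.comp af) (aφ.comp aζ) γ).app (Lf.obj M)) =
    aζ.homEquiv _ _ (γ.app (Rη.obj M) ≫ Lf.map (aη.counit.app M)) := by
  rw [Equiv.symm_apply_eq]
  have h1 : aφ.homEquiv _ _ (aζ.homEquiv _ _ (γ.app (Rη.obj M) ≫ Lf.map (aη.counit.app M))) =
      (aφ.comp aζ).unit.app (Rη.obj M) ≫
        (Rζ ⋙ Rφ).map (γ.app (Rη.obj M) ≫ Lf.map (aη.counit.app M)) := by
    rw [Adjunction.homEquiv_unit, Adjunction.homEquiv_unit, Adjunction.comp_unit_app]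
    simp
  refine Eq.trans ?_ h1.symm
  have h2 : (aη.comp af).unit.app (Rη.obj M) ≫
      (conjugateEquiv (aη.comp af) (aφ.comp aζ) γ).app (Lf.obj (Lη.obj (Rη.obj M))) =
      (aφ.comp aζ).unit.app (Rη.obj M) ≫ Rφ.map (Rζ.map (γ.app (Rη.obj M))) :=
    unit_conjugateEquiv (aη.comp af) (aφ.comp aζ) γ (Rη.obj M)
  generalize conjugateEquiv (aη.comp af) (aφ.comp aζ) γ = δ at h2 ⊢
  have hn : Rη.map (Rf.map (Lf.map (aη.counit.app M))) ≫ δ.app (Lf.obj M) =
      δ.app (Lf.obj (Lη.obj (Rη.obj M))) ≫ Rφ.map (Rζ.map (Lf.map (aη.counit.app M))) :=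
    δ.naturality (Lf.map (aη.counit.app M))
  have h4 : Rη.map (af.unit.app M) =
      (aη.comp af).unit.app (Rη.obj M) ≫ Rη.map (Rf.map (Lf.map (aη.counit.app M))) := by
    rw [Adjunction.comp_unit_app]
    dsimp only [Functor.comp_obj, Functor.comp_map, Functor.id_obj]
    have hu : af.unit.app (Lη.obj (Rη.obj M)) ≫ Rf.map (Lf.map (aη.counit.app M)) =
        aη.counit.app M ≫ af.unit.app M := (af.unit.naturality (aη.counit.app M)).symm
    rw [Category.assoc, ← Rη.map_comp, hu, Rη.map_comp, ← Category.assoc,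
      aη.right_triangle_components, Category.id_comp]
  show Rη.map (af.unit.app M) ≫ δ.app (Lf.obj M) =
    (aφ.comp aζ).unit.app (Rη.obj M) ≫
      Rφ.map (Rζ.map (γ.app (Rη.obj M) ≫ Lf.map (aη.counit.app M)))
  rw [h4, Category.assoc, hn, reassoc_of% h2, Functor.map_comp, Functor.map_comp]

end Abstract

end BCMate

namespace BCMate
open CategoryTheory AlgebraicGeometry Scheme.Modules

universe u

section Concrete

lemma conj_pullbackCongr {X Y : Scheme.{u}} {a b : X ⟶ Y} (hab : b = a) :
    conjugateEquiv (pullbackPushforwardAdjunction a) (pullbackPushforwardAdjunction b)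
      (pullbackCongr hab).hom = (pushforwardCongr hab.symm).hom := by
  subst hab
  have h1 : (pullbackCongr (rfl : b = b)).hom = 𝟙 (pullback b) := rfl
  rw [h1, conjugateEquiv_id]
  ext M U
  simp

lemma conj_pullbackComp_hom {X Y Z : Scheme.{u}} (f : X ⟶ Y) (g : Y ⟶ Z) :
    conjugateEquiv (pullbackPushforwardAdjunction (f ≫ g))
      ((pullbackPushforwardAdjunction g).comp (pullbackPushforwardAdjunction f))
      (pullbackComp f g).hom = (pushforwardComp f g).inv := by
  have h1 := conjugateEquiv_comp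
    ((pullbackPushforwardAdjunction g).comp (pullbackPushforwardAdjunction f))
    (pullbackPushforwardAdjunction (f ≫ g))
    ((pullbackPushforwardAdjunction g).comp (pullbackPushforwardAdjunction f))
    (pullbackComp f g).inv (pullbackComp f g).hom
  rw [conjugateEquiv_pullbackComp_inv, Iso.hom_inv_id, conjugateEquiv_id] at h1
  rw [← cancel_epi (pushforwardComp f g).hom, h1, Iso.hom_inv_id]

variable {X Y U V : Scheme.{u}} (f : X ⟶ Y) (ζ : X ⟶ U) (η : Y ⟶ V) (φ : U ⟶ V)
  (h : f ≫ η = ζ ≫ φ)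

/-- The comparison of pullbacks around a commutative square. -/
noncomputable def gam : pullback φ ⋙ pullback ζ ⟶ pullback η ⋙ pullback f :=
  (pullbackComp ζ φ).hom ≫ (pullbackCongr h.symm).hom ≫ (pullbackComp f η).inv

lemma conj_gam :
    conjugateEquiv ((pullbackPushforwardAdjunction η).comp (pullbackPushforwardAdjunction f))
      ((pullbackPushforwardAdjunction φ).comp (pullbackPushforwardAdjunction ζ)) (gam f ζ η φ h) =
    (pushforwardComp f η).hom ≫ (pushforwardCongr h).hom ≫ (pushforwardComp ζ φ).inv := by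
  unfold gam
  rw [← Category.assoc, ← conjugateEquiv_comp _ (pullbackPushforwardAdjunction (f ≫ η)) _
      (pullbackComp f η).inv ((pullbackComp ζ φ).hom ≫ (pullbackCongr h.symm).hom),
    ← conjugateEquiv_comp _ (pullbackPushforwardAdjunction (ζ ≫ φ)) _
      (pullbackCongr h.symm).hom (pullbackComp ζ φ).hom,
    conjugateEquiv_pullbackComp_inv, conj_pullbackCongr, conj_pullbackComp_hom]

/-- The unit form of the base-change map equals its counit form. -/
theorem unit_eq_counit (L : Y.Modules) :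
    ((pullbackPushforwardAdjunction φ).homEquiv ((pushforward η).obj L)
          ((pushforward ζ).obj ((pullback f).obj L))).symm
        ((pushforward η).map ((pullbackPushforwardAdjunction f).unit.app L) ≫
          (pushforwardComp f η).hom.app ((pullback f).obj L) ≫
          (pushforwardCongr h).hom.app ((pullback f).obj L) ≫
          (pushforwardComp ζ φ).inv.app ((pullback f).obj L)) =
      ((pullbackPushforwardAdjunction ζ).homEquiv _ _)
        ((pullbackComp ζ φ).hom.app _ ≫ (pullbackCongr h.symm).hom.app _ ≫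
          (pullbackComp f η).inv.app _ ≫
          (pullback f).map ((pullbackPushforwardAdjunction η).counit.app L)) := by
  have h1 := mate_eq (pullbackPushforwardAdjunction φ) (pullbackPushforwardAdjunction ζ)
    (pullbackPushforwardAdjunction η) (pullbackPushforwardAdjunction f) (gam f ζ η φ h) L
  rw [conj_gam] at h1
  simpa [gam] using h1

end Concrete

end BCMate
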