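import Mathlib
import Groth.Prelude

/-!
# `M ↦ H_q(P ⊗ M)` commutes with products for a complex `P` of finite free modules
-/

set_option autoImplicit false
universe u
open CategoryTheory CategoryTheory.Limits TensorProduct

namespace Groth.Agent.Lib.BCProdH2

section Alg

variable {A : Type u} [CommRing A] (N : Type u) [AddCommGroup N] [Module A N]
  [Module.Finite A N] [Module.Free A N]

/-- coordinates of `N ⊗ M` in a basis of `N` -/
noncomputable def EE (M : Type u) [AddCommGroup M] [Module A M] :
    N ⊗[A] M ≃ₗ[A] (Module.Free.ChooseBasisIndex A N →₀ M) :=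
  TensorProduct.equivFinsuppOfBasisLeft (Module.Free.chooseBasis A N)

lemma EE_natural {M M' : Type u} [AddCommGroup M] [Module A M] [AddCommGroup M'] [Module A M']
    (g : M →ₗ[A] M') (t : N ⊗[A] M) (i : Module.Free.ChooseBasisIndex A N) :
    EE N M' (LinearMap.lTensor N g t) i = g (EE N M t i) := by
  induction t using TensorProduct.induction_on with
  | zero => simp
  | tmul n m =>
    rw [LinearMap.lTensor_tmul]
    unfold EE
    rw [TensorProduct.equivFinsuppOfBasisLeft_apply_tmul_apply,
      TensorProduct.equivFinsuppOfBasisLeft_apply_tmul_apply, map_smul]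
  | add x y hx hy =>
    rw [map_add, map_add, Finsupp.add_apply, hx, hy, map_add, Finsupp.add_apply, map_add]

variable {J : Type u} (M : J → Type u) [∀ j, AddCommGroup (M j)] [∀ j, Module A (M j)]

theorem lTensor_proj_jointly_injective (t : N ⊗[A] (∀ j, M j))
    (h : ∀ j, LinearMap.lTensor N (LinearMap.proj (R := A) (φ := M) j) t = 0) : t = 0 := by
  apply (EE N (∀ j, M j)).injective
  rw [map_zero]
  ext i j
  have h1 := EE_natural N (LinearMap.proj (R := A) (φ := M) j) t i
  rw [h j, map_zero] at h1
  exact h1.symm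

theorem lTensor_proj_jointly_surjective (s : ∀ j, N ⊗[A] M j) :
    ∃ t : N ⊗[A] (∀ j, M j),
      ∀ j, LinearMap.lTensor N (LinearMap.proj (R := A) (φ := M) j) t = s j := by
  haveI : Fintype (Module.Free.ChooseBasisIndex A N) := Module.Free.ChooseBasisIndex.fintype A N
  let v : Module.Free.ChooseBasisIndex A N →₀ (∀ j, M j) :=
    Finsupp.equivFunOnFinite.symm (fun i => fun j => EE N (M j) (s j) i)
  refine ⟨(EE N (∀ j, M j)).symm v, fun j => ?_⟩
  apply (EE N (M j)).injective
  ext i
  rw [EE_natural, LinearEquiv.apply_symm_apply]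
  rfl

end Alg

section Homology

variable {A : Type u} [CommRing A] {ι : Type} {c : ComplexShape ι}

variable (K : HomologicalComplex (ModuleCat.{u} A) c) (q : ι)

lemma exists_cycle (x : K.homology q) : ∃ z : K.cycles q, (K.homologyπ q).hom z = x :=
  (ModuleCat.epi_iff_surjective (K.homologyπ q)).1 inferInstance x

lemma homologyπ_eq_zero_iff (z : K.cycles q) :
    (K.homologyπ q).hom z = 0 ↔ ∃ w : K.X (c.prev q), (K.toCycles (c.prev q) q).hom w = z := by
  have hex : (ShortComplex.mk (K.toCycles (c.prev q) q) (K.homologyπ q)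
      (K.toCycles_comp_homologyπ (c.prev q) q)).Exact :=
    ShortComplex.exact_of_g_is_cokernel _ (K.homologyIsCokernel (c.prev q) q rfl)
  constructor
  · intro h
    exact (ShortComplex.moduleCat_exact_iff _).1 hex z h
  · rintro ⟨w, rfl⟩
    exact congrArg (fun φ => φ.hom w) (K.toCycles_comp_homologyπ (c.prev q) q)

lemma iCycles_injective : Function.Injective (K.iCycles q).hom :=
  (ModuleCat.mono_iff_injective (K.iCycles q)).1 inferInstance

lemma exists_cycle_of_d_eq_zero (z : K.X q) (hz : (K.d q (c.next q)).hom z = 0) :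
    ∃ y : K.cycles q, (K.iCycles q).hom y = z := by
  have hex : (ShortComplex.mk (K.iCycles q) (K.d q (c.next q)) (K.iCycles_d q (c.next q))).Exact :=
    ShortComplex.exact_of_f_is_kernel _ (K.cyclesIsKernel q (c.next q) rfl)
  exact (ShortComplex.moduleCat_exact_iff _).1 hex z hz

lemma toCycles_i_apply (w : K.X (c.prev q)) :
    (K.iCycles q).hom ((K.toCycles (c.prev q) q).hom w) = (K.d (c.prev q) q).hom w :=
  congrArg (fun φ => φ.hom w) (K.toCycles_i (c.prev q) q)

variable {K} {K' : HomologicalComplex (ModuleCat.{u} A) c} (φ : K ⟶ K')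

lemma cyclesMap_i_apply (z : K.cycles q) :
    (K'.iCycles q).hom ((HomologicalComplex.cyclesMap φ q).hom z) =
      (φ.f q).hom ((K.iCycles q).hom z) :=
  congrArg (fun ψ => ψ.hom z) (HomologicalComplex.cyclesMap_i φ q)

lemma homologyπ_naturality_apply (z : K.cycles q) :
    (HomologicalComplex.homologyMap φ q).hom ((K.homologyπ q).hom z) =
      (K'.homologyπ q).hom ((HomologicalComplex.cyclesMap φ q).hom z) :=
  congrArg (fun ψ => ψ.hom z) (HomologicalComplex.homologyπ_naturality φ q)

lemma comm_apply (i j : ι) (w : K.X i) :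
    (K'.d i j).hom ((φ.f i).hom w) = (φ.f j).hom ((K.d i j).hom w) :=
  congrArg (fun ψ => ψ.hom w) (φ.comm i j)

end Homology

section Main

variable {A : Type u} [CommRing A] {ι : Type} {c : ComplexShape ι}
  (P : HomologicalComplex (ModuleCat.{u} A) c)
  (hP : ∀ i, Module.Finite A (P.X i) ∧ Module.Free A (P.X i))
  {J : Type u} (f : J → ModuleCat.{u} A)

/-- the product module -/
abbrev Pf : ModuleCat.{u} A := ModuleCat.of A (∀ j, f j)

/-- the projections -/
abbrev πf (j : J) : Pf f ⟶ f j := ModuleCat.ofHom (LinearMap.proj (R := A) (φ := fun j => f j) j)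

lemma tensorMap_f_apply (j : J) (i : ι) (t : (CohIII.tensorObj P (Pf f)).X i) :
    ((CohIII.tensorMap P (πf f j)).f i).hom t =
      LinearMap.lTensor (P.X i) (LinearMap.proj (R := A) (φ := fun j => f j) j) t := rfl

include hP in
lemma X_jointly_injective (i : ι) (t : (CohIII.tensorObj P (Pf f)).X i)
    (h : ∀ j, ((CohIII.tensorMap P (πf f j)).f i).hom t = 0) : t = 0 := by
  haveI := (hP i).1
  haveI := (hP i).2
  exact lTensor_proj_jointly_injective (P.X i) (fun j => f j) t h

include hP in
lemma X_jointly_surjective (i : ι) (s : ∀ j, (CohIII.tensorObj P (f j)).X i) :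
    ∃ t : (CohIII.tensorObj P (Pf f)).X i,
      ∀ j, ((CohIII.tensorMap P (πf f j)).f i).hom t = s j := by
  haveI := (hP i).1
  haveI := (hP i).2
  exact lTensor_proj_jointly_surjective (P.X i) (fun j => f j) s

include hP in
theorem T_jointly_injective (q : ι) (x : CohIII.T P q (Pf f))
    (h : ∀ j, ((CohIII.TFun P q).map (πf f j)).hom x = 0) : x = 0 := by
  obtain ⟨z, rfl⟩ := exists_cycle _ q x
  have h1 : ∀ j, ∃ w : (CohIII.tensorObj P (f j)).X (c.prev q),
      ((CohIII.tensorObj P (f j)).toCycles (c.prev q) q).hom w =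
        (HomologicalComplex.cyclesMap (CohIII.tensorMap P (πf f j)) q).hom z := by
    intro j
    apply (homologyπ_eq_zero_iff _ q _).1
    rw [← homologyπ_naturality_apply]
    exact h j
  choose w hw using h1
  obtain ⟨t, ht⟩ := X_jointly_surjective P hP f (c.prev q) w
  rw [homologyπ_eq_zero_iff]
  refine ⟨t, ?_⟩
  apply iCycles_injective
  rw [toCycles_i_apply]
  rw [← sub_eq_zero]
  apply X_jointly_injective P hP f q
  intro j
  rw [map_sub, sub_eq_zero, ← comm_apply, ht j, ← cyclesMap_i_apply, ← hw j, toCycles_i_apply]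

include hP in
theorem T_jointly_surjective (q : ι) (y : ∀ j, CohIII.T P q (f j)) :
    ∃ x : CohIII.T P q (Pf f), ∀ j, ((CohIII.TFun P q).map (πf f j)).hom x = y j := by
  have h1 : ∀ j, ∃ z : (CohIII.tensorObj P (f j)).cycles q,
      ((CohIII.tensorObj P (f j)).homologyπ q).hom z = y j := fun j => exists_cycle _ q (y j)
  choose z hz using h1
  obtain ⟨t, ht⟩ := X_jointly_surjective P hP f q
    (fun j => ((CohIII.tensorObj P (f j)).iCycles q).hom (z j))
  have hd : ((CohIII.tensorObj P (Pf f)).d q (c.next q)).hom t = 0 := by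
    apply X_jointly_injective P hP f (c.next q)
    intro j
    rw [← comm_apply, ht j]
    exact congrArg (fun ψ => ψ.hom (z j)) ((CohIII.tensorObj P (f j)).iCycles_d q (c.next q))
  obtain ⟨zz, hzz⟩ := exists_cycle_of_d_eq_zero _ q t hd
  refine ⟨((CohIII.tensorObj P (Pf f)).homologyπ q).hom zz, fun j => ?_⟩
  rw [← hz j]
  refine (homologyπ_naturality_apply q (CohIII.tensorMap P (πf f j)) zz).trans ?_
  congr 1
  apply iCycles_injective
  rw [cyclesMap_i_apply, hzz, ht j]

end Main

end Groth.Agent.Lib.BCProdH2
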