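import Mathlib
import Groth.Prelude
import Groth.Agent.Lib.BCProd1_helper2
import Groth.Agent.Lib.BCMain3_helper2

/-!
# `M ↦ H^p(X, f^*(M~) ⊗ F)` commutes with products
-/

set_option autoImplicit false
universe u
open CategoryTheory CategoryTheory.Limits TensorProduct AlgebraicGeometry

namespace Groth.Agent.Lib.BCProdH2

section

variable {A : Type u} [CommRing A] {ι : Type} {c : ComplexShape ι}
  (P : HomologicalComplex (ModuleCat.{u} A) c)
  (hP : ∀ i, Module.Finite A (P.X i) ∧ Module.Free A (P.X i))

/-- the functor in abelian groups -/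
noncomputable abbrev GG (q : ι) : ModuleCat.{u} A ⥤ AddCommGrpCat.{u} :=
  CohIII.TFun P q ⋙ forget₂ (ModuleCat.{u} A) AddCommGrpCat.{u}

include hP in
theorem preservesProduct_GG (q : ι) {J : Type u} (f : J → ModuleCat.{u} A) :
    PreservesLimit (Discrete.functor f) (GG P q) := by
  refine preservesLimit_of_preserves_limit_cone (ModuleCat.productConeIsLimit f) ?_
  refine (isLimitMapConeFanMkEquiv (GG P q) f (fun j => πf f j)).symm ?_
  let L := AddCommGrpCat.HasLimit.productLimitCone (fun j => (GG P q).obj (f j))
  let t : Fan (fun j => (GG P q).obj (f j)) :=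
    Fan.mk ((GG P q).obj (Pf f)) (fun j => (GG P q).map (πf f j))
  have hlift : ∀ (x : (GG P q).obj (Pf f)) (j : J),
      (L.isLimit.lift t).hom x j = ((CohIII.TFun P q).map (πf f j)).hom x := fun x j => rfl
  haveI : IsIso (L.isLimit.lift t) := by
    rw [ConcreteCategory.isIso_iff_bijective]
    constructor
    · intro x x' hxx
      have h0 : x - x' = 0 := by
        apply T_jointly_injective P hP f q
        intro j
        have := congrFun hxx j
        rw [hlift, hlift] at this
        rw [map_sub, this, sub_self]
      exact sub_eq_zero.1 h0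
    · intro y
      obtain ⟨x, hx⟩ := T_jointly_surjective P hP f q (fun j => y j)
      refine ⟨x, ?_⟩
      funext j
      rw [hlift]
      exact hx j
  exact IsLimit.ofPointIso L.isLimit

include hP in
theorem preservesProducts_GG (q : ι) (J : Type u) :
    PreservesLimitsOfShape (Discrete J) (GG P q) := by
  haveI : ∀ f : J → ModuleCat.{u} A, PreservesLimit (Discrete.functor f) (GG P q) :=
    fun f => preservesProduct_GG P hP q f
  exact preservesLimitsOfShape_of_discrete _

end

theorem main16719 (A : Type u) [CommRing A] [IsNoetherianRing A]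
    (X : Scheme.{u}) [X.Over (Spec (CommRingCat.of A))] [IsProper (X ↘ (Spec (CommRingCat.of A)))]
    (F : X.Modules) (hF : Coh.IsCoh F) (hflat : FlatMod.IsFlatOver (X ↘ (Spec (CommRingCat.of A))) F)
    (p : ℕ) (J : Type u) :
    PreservesLimitsOfShape (Discrete J) (CohIII.tensorAFunctor A F ⋙ CohIII.HAb X p) := by
  obtain ⟨P, hP, -, hiso⟩ := Groth.Agent.Lib.BCMainH2.mainChain A X F hF hflat
  obtain ⟨e⟩ := hiso p
  haveI := preservesProducts_GG P hP (-(p : ℤ)) J
  exact preservesLimitsOfShape_of_natIso e.symm

end Groth.Agent.Lib.BCProdH2
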