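import Mathlib

/-!
# Base change for pointwise right Kan extensions (helper7)

A square of functors `L' ⋙ G ⟶ G' ⋙ L`; a natural transformation
`m : G ⋙ ran_L P ⟶ ran_{L'} (G' ⋙ P)` compatible with the counits is invertible at `d'` as soon as
the comparison functor `StructuredArrow d' L' ⥤ StructuredArrow (G d') L` is initial.
APPEND-ONLY once landed.
-/

set_option autoImplicit false
set_option backward.isDefEq.respectTransparency false
set_option backward.isDefEq.respectTransparency.types false
set_option linter.style.haveILetI false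
set_option linter.unusedSectionVars false

universe v₁ v₂ v₃ v₄ v₅ u₁ u₂ u₃ u₄ u₅

open CategoryTheory CategoryTheory.Limits CategoryTheory.Functor

namespace Groth.Agent.Lib.BCRanH7

variable {C₁ : Type u₁} [Category.{v₁} C₁] {C₂ : Type u₂} [Category.{v₂} C₂]
  {C₁' : Type u₃} [Category.{v₃} C₁'] {C₂' : Type u₄} [Category.{v₄} C₂']
  {A : Type u₅} [Category.{v₅} A]
  (L : C₁ ⥤ C₂) (L' : C₁' ⥤ C₂') (G : C₂' ⥤ C₂) (G' : C₁' ⥤ C₁)
  (τ : L' ⋙ G ⟶ G' ⋙ L)

/-- the comparison functor between structured arrow categories -/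
abbrev cmp (d' : C₂') : StructuredArrow d' L' ⥤ StructuredArrow (G.obj d') L :=
  StructuredArrow.map₂ (𝟙 (G.obj d')) τ

theorem cmp_obj_hom (d' : C₂') (j : StructuredArrow d' L') :
    ((cmp L L' G G' τ d').obj j).hom = G.map j.hom ≫ τ.app j.right := by
  simp [cmp]

theorem cmp_obj_right (d' : C₂') (j : StructuredArrow d' L') :
    ((cmp L L' G G' τ d').obj j).right = G'.obj j.right := rfl

variable [∀ F : C₁ ⥤ A, L.HasPointwiseRightKanExtension F]
  [∀ F : C₁' ⥤ A, L'.HasPointwiseRightKanExtension F]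

/-- **base change**: a transformation compatible with the counits is invertible at `d'` when the
comparison functor is initial -/
theorem isIso_app_of_fac (P : C₁ ⥤ A) (m : G ⋙ L.ran.obj P ⟶ L'.ran.obj (G' ⋙ P))
    (hm : ∀ c' : C₁', m.app (L'.obj c') ≫ (L'.ranCounit.app (G' ⋙ P)).app c' =
      (L.ran.obj P).map (τ.app c') ≫ (L.ranCounit.app P).app (G'.obj c'))
    (d' : C₂') [(cmp L L' G G' τ d').Initial] : IsIso (m.app d') := by
  let E₁ : RightExtension L P := RightExtension.mk _ (L.ranCounit.app P)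
  let E₂ : RightExtension L' (G' ⋙ P) := RightExtension.mk _ (L'.ranCounit.app (G' ⋙ P))
  have P₁ : IsLimit (E₁.coneAt (G.obj d')) :=
    L.isPointwiseRightKanExtensionRanCounit P (G.obj d')
  have P₂ : IsLimit (E₂.coneAt d') := L'.isPointwiseRightKanExtensionRanCounit (G' ⋙ P) d'
  have P₁' : IsLimit ((E₁.coneAt (G.obj d')).whisker (cmp L L' G G' τ d')) :=
    (Functor.Initial.isLimitWhiskerEquiv (cmp L L' G G' τ d') _).symm P₁
  let w : cmp L L' G G' τ d' ⋙ StructuredArrow.proj (G.obj d') L ⋙ P ≅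
      StructuredArrow.proj d' L' ⋙ (G' ⋙ P) :=
    NatIso.ofComponents (fun j => Iso.refl _) (fun {j j'} f =>
      (Category.comp_id _).trans (Category.id_comp _).symm)
  have key : m.app d' = (P₁'.conePointsIsoOfNatIso P₂ w).hom := by
    apply P₂.hom_ext
    intro j
    rw [IsLimit.conePointsIsoOfNatIso_hom_comp]
    show m.app d' ≫ ((L'.ran.obj (G' ⋙ P)).map j.hom ≫
        (L'.ranCounit.app (G' ⋙ P)).app j.right) =
      ((L.ran.obj P).map ((cmp L L' G G' τ d').obj j).hom ≫
        (L.ranCounit.app P).app (G'.obj j.right)) ≫ 𝟙 _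
    have n1 : (L.ran.obj P).map (G.map j.hom) ≫ m.app (L'.obj j.right) =
        m.app d' ≫ (L'.ran.obj (G' ⋙ P)).map j.hom := m.naturality j.hom
    rw [Category.comp_id, cmp_obj_hom, CategoryTheory.Functor.map_comp, Category.assoc,
      ← hm j.right, ← Category.assoc, ← Category.assoc, n1]
  rw [key]
  infer_instance

end Groth.Agent.Lib.BCRanH7
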