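import Mathlib

/-!
# Tools for localization of sites (helper7)

* `isIso_ran_map_app`: `ran` of a morphism that is invertible on all objects mapping to `t` is
  invertible at `t`;
* `preservesMonomorphisms_lan`: left Kan extension of abelian presheaves along a fully faithful
  functor whose structured-arrow categories are empty outside the essential image preserves monos;
* `preservesMonomorphisms_sheafPullback`: the same for sheaves;
* adjunction lemmas.
APPEND-ONLY once landed.
-/

set_option autoImplicit false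
set_option backward.isDefEq.respectTransparency false
set_option backward.isDefEq.respectTransparency.types false
set_option linter.style.haveILetI false
set_option linter.unusedSectionVars false

universe v₁ v₂ v₃ u₁ u₂ u₃ u

open CategoryTheory CategoryTheory.Limits CategoryTheory.Functor Opposite

namespace Groth.Agent.Lib.LocToolsH7

section RanIso

variable {C : Type u₁} [Category.{v₁} C] {D : Type u₂} [Category.{v₂} D]
  {H : Type u₃} [Category.{v₃} H] (L : C ⥤ D) [∀ F : C ⥤ H, L.HasPointwiseRightKanExtension F]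

theorem isIso_ran_map_app {G₁ G₂ : C ⥤ H} (φ : G₁ ⟶ G₂) (d : D)
    (h : ∀ (c : C), Nonempty (d ⟶ L.obj c) → IsIso (φ.app c)) :
    IsIso ((L.ran.map φ).app d) := by
  let E₁ : RightExtension L G₁ := RightExtension.mk _ (L.ranCounit.app G₁)
  let E₂ : RightExtension L G₂ := RightExtension.mk _ (L.ranCounit.app G₂)
  have P₁ : IsLimit (E₁.coneAt d) := L.isPointwiseRightKanExtensionRanCounit G₁ d
  have P₂ : IsLimit (E₂.coneAt d) := L.isPointwiseRightKanExtensionRanCounit G₂ d
  haveI : ∀ j : StructuredArrow d L, IsIso (φ.app j.right) := fun j => h j.right ⟨j.hom⟩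
  let w : StructuredArrow.proj d L ⋙ G₁ ≅ StructuredArrow.proj d L ⋙ G₂ :=
    NatIso.ofComponents (fun j => asIso (φ.app j.right)) (fun {j j'} f =>
      φ.naturality f.right)
  have key : (L.ran.map φ).app d = (P₁.conePointsIsoOfNatIso P₂ w).hom := by
    apply P₂.hom_ext
    intro j
    rw [IsLimit.conePointsIsoOfNatIso_hom_comp]
    show (L.ran.map φ).app d ≫ ((L.ran.obj G₂).map j.hom ≫ (L.ranCounit.app G₂).app j.right) =
      ((L.ran.obj G₁).map j.hom ≫ (L.ranCounit.app G₁).app j.right) ≫ φ.app j.right
    have n1 := (L.ran.map φ).naturality j.hom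
    have n2 : (L.ran.map φ).app (L.obj j.right) ≫ (L.ranCounit.app G₂).app j.right =
        (L.ranCounit.app G₁).app j.right ≫ φ.app j.right :=
      congr_app (L.ranCounit.naturality φ) j.right
    rw [← Category.assoc, ← n1, Category.assoc, n2, Category.assoc]
  rw [key]
  infer_instance

end RanIso

section Lan

variable {C' C : Type u} [SmallCategory C'] [SmallCategory C] (ν : C' ⥤ C) [ν.Full] [ν.Faithful]

/-- left Kan extension of abelian presheaves along a "sieve-like" fully faithful functor preserves
monomorphisms -/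
theorem preservesMonomorphisms_lan
    (hν : ∀ c : C, (∃ c' : C', Nonempty (c ≅ ν.obj c')) ∨ IsEmpty (StructuredArrow c ν)) :
    (ν.op.lan : (C'ᵒᵖ ⥤ AddCommGrpCat.{u}) ⥤ (Cᵒᵖ ⥤ AddCommGrpCat.{u})).PreservesMonomorphisms := by
  refine ⟨fun {Q Q'} α hα => ?_⟩
  haveI : ∀ x, Mono (α.app x) := fun x => inferInstance
  haveI : ∀ X : Cᵒᵖ, Mono ((ν.op.lan.map α).app X) := by
    intro X
    induction X using Opposite.rec with | op c => ?_
    rcases hν c with ⟨c', ⟨e⟩⟩ | hempty
    · -- essential image
      have nat := congr_app (ν.op.lanUnit.naturality α) (op c')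
      dsimp at nat
      haveI : IsIso ((ν.op.lanUnit.app Q).app (op c')) := inferInstance
      haveI : IsIso ((ν.op.lanUnit.app Q').app (op c')) := inferInstance
      have hm : Mono ((ν.op.lan.map α).app (op (ν.obj c'))) := by
        have e1 : (ν.op.lan.map α).app (op (ν.obj c')) =
            inv ((ν.op.lanUnit.app Q).app (op c')) ≫ α.app (op c') ≫
              (ν.op.lanUnit.app Q').app (op c') := by
          rw [IsIso.eq_inv_comp]
          exact nat.symm
        rw [e1]
        infer_instance
      have n2 := (ν.op.lan.map α).naturality e.hom.op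
      -- X = op (unop X)
      have hX : (ν.op.lan.map α).app (op c) =
          (ν.op.lan.obj Q).map e.inv.op ≫ (ν.op.lan.map α).app (op (ν.obj c')) ≫
            (ν.op.lan.obj Q').map e.hom.op := by
        rw [← n2, ← Category.assoc, ← CategoryTheory.Functor.map_comp, ← op_comp, e.hom_inv_id,
          op_id, CategoryTheory.Functor.map_id, Category.id_comp]
      rw [hX]
      haveI := hm
      infer_instance
    · -- empty case: the source is a zero object
      have hP := ν.op.isPointwiseLeftKanExtensionLeftKanExtensionUnit Q (op c)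
      haveI : IsEmpty (CostructuredArrow ν.op (op c)) :=
        ⟨fun j => hempty.false (StructuredArrow.mk (Y := j.left.unop) j.hom.unop)⟩
      have hz : IsZero ((ν.op.lan.obj Q).obj (op c)) := by
        have hinit : IsInitial ((ν.op.lan.obj Q).obj (op c)) :=
          IsInitial.ofUniqueHom (fun Z => IsColimit.desc hP ⟨Z, ⟨fun j => isEmptyElim j,
            fun j => isEmptyElim j⟩⟩) (fun Z m => IsColimit.hom_ext hP (fun j => isEmptyElim j))
        exact (isZero_zero _).of_iso (hinit.uniqueUpToIso (HasZeroObject.zeroIsInitial))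
      exact ⟨fun a b _ => hz.eq_of_tgt a b⟩
  exact NatTrans.mono_of_mono_app _

variable (J' : GrothendieckTopology C') (J : GrothendieckTopology C) [ν.IsContinuous J' J]

theorem preservesMonomorphisms_sheafPullback
    (hν : ∀ c : C, (∃ c' : C', Nonempty (c ≅ ν.obj c')) ∨ IsEmpty (StructuredArrow c ν)) :
    (ν.sheafPullback AddCommGrpCat.{u} J' J).PreservesMonomorphisms := by
  haveI := preservesMonomorphisms_lan ν hν
  haveI : (sheafToPresheaf J' AddCommGrpCat.{u}).PreservesMonomorphisms := inferInstance
  haveI : (presheafToSheaf J AddCommGrpCat.{u}).PreservesMonomorphisms := inferInstance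
  haveI : (Functor.sheafPullbackConstruction.sheafPullback ν AddCommGrpCat.{u} J'
      J).PreservesMonomorphisms := by
    unfold Functor.sheafPullbackConstruction.sheafPullback
    infer_instance
  exact Functor.PreservesMonomorphisms.of_iso
    (Functor.sheafPullbackConstruction.sheafPullbackIso ν AddCommGrpCat.{u} J' J).symm

end Lan

section Adj

variable {𝒳 : Type u₁} [Category.{v₁} 𝒳] {𝒴 : Type u₂} [Category.{v₂} 𝒴] {F : 𝒳 ⥤ 𝒴} {G : 𝒴 ⥤ 𝒳}
  (adj : F ⊣ G)

include adj in
/-- `F.map f` is invertible when precomposition with `f` is bijective on maps to all `G Z` -/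
theorem isIso_map_of_bijective_precomp {X₁ X₂ : 𝒳} (f : X₁ ⟶ X₂)
    (h : ∀ Z : 𝒴, Function.Bijective (fun g : X₂ ⟶ G.obj Z => f ≫ g)) : IsIso (F.map f) := by
  rw [isIso_iff_coyoneda_map_bijective]
  intro Z
  have e : (fun x : F.obj X₂ ⟶ Z => F.map f ≫ x) =
      (adj.homEquiv X₁ Z).symm ∘ (fun g : X₂ ⟶ G.obj Z => f ≫ g) ∘ (adj.homEquiv X₂ Z) := by
    funext x
    simp only [Function.comp]
    rw [← adj.homEquiv_naturality_left, Equiv.symm_apply_apply]
  rw [e]
  exact (Equiv.bijective _).comp ((h Z).comp (Equiv.bijective _))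

include adj in
/-- precomposition with `f` on maps to `G Z` is bijective when `F.map f` is invertible -/
theorem bijective_precomp_of_isIso_map {X₁ X₂ : 𝒳} (f : X₁ ⟶ X₂) [IsIso (F.map f)] (Z : 𝒴) :
    Function.Bijective (fun g : X₂ ⟶ G.obj Z => f ≫ g) := by
  have e : (fun g : X₂ ⟶ G.obj Z => f ≫ g) =
      (adj.homEquiv X₁ Z) ∘ (fun x : F.obj X₂ ⟶ Z => F.map f ≫ x) ∘ (adj.homEquiv X₂ Z).symm := by
    funext g
    simp only [Function.comp]
    rw [adj.homEquiv_naturality_left, Equiv.apply_symm_apply]
  rw [e]
  refine (Equiv.bijective _).comp (Function.Bijective.comp ?_ (Equiv.bijective _))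
  exact (isIso_iff_coyoneda_map_bijective (F.map f)).1 inferInstance Z

theorem bijective_precomp_of_iso {X₁ X₂ M M' : 𝒳} (f : X₁ ⟶ X₂) (e : M ≅ M')
    (h : Function.Bijective (fun g : X₂ ⟶ M' => f ≫ g)) :
    Function.Bijective (fun g : X₂ ⟶ M => f ≫ g) := by
  have e1 : (fun g : X₂ ⟶ M => f ≫ g) =
      (fun k : X₁ ⟶ M' => k ≫ e.inv) ∘ (fun g : X₂ ⟶ M' => f ≫ g) ∘
        (fun g : X₂ ⟶ M => g ≫ e.hom) := by
    funext g
    simp
  rw [e1]
  refine Function.Bijective.comp ?_ (Function.Bijective.comp h ?_)
  · exact ⟨fun a b hab => by simpa using congrArg (fun z => z ≫ e.hom) hab,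
      fun k => ⟨k ≫ e.hom, by simp⟩⟩
  · exact ⟨fun a b hab => by simpa using congrArg (fun z => z ≫ e.inv) hab,
      fun k => ⟨k ≫ e.inv, by simp⟩⟩

end Adj

end Groth.Agent.Lib.LocToolsH7
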