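import Mathlib

/-!
# Tools on pointwise right Kan extensions (helper7)

* `isInitialMkId`: relative full faithfulness makes `mk (𝟙 _)` initial in a structured arrow category;
* `isIso_ranCounit_app_of_bijective`: then the counit of `ran` is an isomorphism at that object;
* `isIso_ranAdjunction_unit_app_app`: the unit is an isomorphism at `d` when the identity extension is
  pointwise at `d`;
* `isPointwiseOfContraction`: contraction data give such a pointwise extension.
APPEND-ONLY once landed.
-/

set_option autoImplicit false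
set_option backward.isDefEq.respectTransparency false
set_option backward.isDefEq.respectTransparency.types false
set_option linter.style.haveILetI false
set_option linter.unusedSectionVars false

universe v₁ v₂ v₃ u₁ u₂ u₃

open CategoryTheory CategoryTheory.Limits CategoryTheory.Functor

namespace Groth.Agent.Lib.RanToolsH7

variable {C : Type u₁} [Category.{v₁} C] {D : Type u₂} [Category.{v₂} D]
  {H : Type u₃} [Category.{v₃} H] (L : C ⥤ D)

/-- relative full faithfulness at `c` makes `mk (𝟙 (L c))` initial -/
noncomputable def isInitialMkId (c : C)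
    (h : ∀ s : C, Function.Bijective (fun g : c ⟶ s => L.map g)) :
    IsInitial (StructuredArrow.mk (𝟙 (L.obj c)) : StructuredArrow (L.obj c) L) :=
  IsInitial.ofUniqueHom
    (fun j => StructuredArrow.homMk ((h j.right).2 j.hom).choose (by
      have := ((h j.right).2 j.hom).choose_spec
      simpa using this))
    (fun j m => by
      apply StructuredArrow.ext
      apply (h j.right).1
      have h1 := ((h j.right).2 j.hom).choose_spec
      have h2 := StructuredArrow.w m
      simp only [StructuredArrow.mk_hom_eq_self, Category.id_comp] at h2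
      simp only [StructuredArrow.homMk_right]
      exact h2.trans h1.symm)

theorem isIso_ranCounit_app_of_bijective [∀ F : C ⥤ H, L.HasPointwiseRightKanExtension F]
    (F : C ⥤ H) (c : C)
    (h : ∀ s : C, Function.Bijective (fun g : c ⟶ s => L.map g)) :
    IsIso ((L.ranCounit.app F).app c) := by
  have := (L.isPointwiseRightKanExtensionRanCounit F (L.obj c)).isIso_π_app_of_isInitial _
    (isInitialMkId L c h)
  simpa using this

/-- the unit of the `ran` adjunction at `d` is an isomorphism when the identity extension is pointwise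
at `d` -/
theorem isIso_ranAdjunction_unit_app_app [∀ F : C ⥤ H, L.HasPointwiseRightKanExtension F]
    (G : D ⥤ H) (d : D)
    (h : (RightExtension.mk G (𝟙 (L ⋙ G))).IsPointwiseRightKanExtensionAt d) :
    IsIso (((L.ranAdjunction H).unit.app G).app d) := by
  let E₁ : RightExtension L (L ⋙ G) := RightExtension.mk G (𝟙 (L ⋙ G))
  let E₂ : RightExtension L (L ⋙ G) := RightExtension.mk _ (L.ranCounit.app (L ⋙ G))
  let φ : E₁ ⟶ E₂ := CostructuredArrow.homMk ((L.ranAdjunction H).unit.app G) (by
    simp [E₁, E₂])
  have h₂ : E₂.IsPointwiseRightKanExtensionAt d :=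
    L.isPointwiseRightKanExtensionRanCounit (L ⋙ G) d
  haveI := IsLimit.hom_isIso h h₂ ((RightExtension.coneAtFunctor L (L ⋙ G) d).map φ)
  exact inferInstanceAs (IsIso ((Cone.forget _).map
    ((RightExtension.coneAtFunctor L (L ⋙ G) d).map φ)))

/-- contraction data give a pointwise right Kan extension -/
noncomputable def isPointwiseOfContraction (G : D ⥤ H) (d : D)
    (c₀ : C) (a₀ : d ⟶ L.obj c₀) (σ : G.obj (L.obj c₀) ⟶ G.obj d) (hσ : G.map a₀ ≫ σ = 𝟙 _)
    (hcontr : ∀ (c : C) (a : d ⟶ L.obj c), ∃ (q : C) (dd : c ⟶ q) (e : c₀ ⟶ q)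
      (t : G.obj (L.obj q) ⟶ G.obj (L.obj c)), a₀ ≫ L.map e = a ≫ L.map dd ∧
        G.map (L.map dd) ≫ t = 𝟙 _ ∧ G.map (L.map e) ≫ t = σ ≫ G.map a) :
    (RightExtension.mk G (𝟙 (L ⋙ G))).IsPointwiseRightKanExtensionAt d where
  lift s := s.π.app (StructuredArrow.mk a₀) ≫ σ
  fac s j := by
    obtain ⟨q, dd, e, t, h1, h2, h3⟩ := hcontr j.right j.hom
    have n1 : s.π.app (StructuredArrow.mk a₀) ≫ G.map (L.map e) =
        s.π.app (StructuredArrow.mk (a₀ ≫ L.map e)) :=
      s.w (StructuredArrow.homMk e rfl :
        StructuredArrow.mk a₀ ⟶ StructuredArrow.mk (a₀ ≫ L.map e))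
    have n2 : s.π.app j ≫ G.map (L.map dd) =
        s.π.app (StructuredArrow.mk (j.hom ≫ L.map dd)) :=
      s.w (StructuredArrow.homMk dd rfl : j ⟶ StructuredArrow.mk (j.hom ≫ L.map dd))
    have e4 : s.π.app (StructuredArrow.mk (a₀ ≫ L.map e)) =
        s.π.app (StructuredArrow.mk (j.hom ≫ L.map dd)) := by rw [h1]
    have hleg : ((RightExtension.mk G (𝟙 (L ⋙ G))).coneAt d).π.app j = G.map j.hom :=
      Category.comp_id _
    rw [hleg]
    calc (s.π.app (StructuredArrow.mk a₀) ≫ σ) ≫ G.map j.hom
        = s.π.app (StructuredArrow.mk a₀) ≫ (σ ≫ G.map j.hom) := Category.assoc _ _ _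
      _ = s.π.app (StructuredArrow.mk a₀) ≫ (G.map (L.map e) ≫ t) := by rw [h3]
      _ = (s.π.app (StructuredArrow.mk a₀) ≫ G.map (L.map e)) ≫ t := (Category.assoc _ _ _).symm
      _ = (s.π.app j ≫ G.map (L.map dd)) ≫ t := by rw [n1, e4, ← n2]
      _ = s.π.app j ≫ (G.map (L.map dd) ≫ t) := Category.assoc _ _ _
      _ = s.π.app j := by rw [h2]; exact Category.comp_id _
  uniq s m hm := by
    have h := hm (StructuredArrow.mk a₀)
    have hleg : ((RightExtension.mk G (𝟙 (L ⋙ G))).coneAt d).π.app (StructuredArrow.mk a₀) =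
        G.map a₀ := Category.comp_id _
    rw [hleg] at h
    rw [← h, Category.assoc]
    exact ((congrArg (fun z => m ≫ z) hσ).trans (Category.comp_id m)).symm

end Groth.Agent.Lib.RanToolsH7
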