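import Mathlib
import Groth.Agent.Lib.RanTools_helper7
import Groth.Agent.Lib.AcycComp_helper7
import Groth.Agent.Lib.FAcyc_helper9

/-!
# Cohomological descent for a split augmentation, abstract form (helper7)

Sites `CS` (base), `CP` (part), `CA` (augmented total site), `C2` (split total site) and functors
`ε : CS ⥤ CA`, `ι : CP ⥤ CA`, `κ : CA ⥤ C2`.  Under full faithfulness of `ε ⋙ κ`, flatness of
`ι ⋙ κ`, relative full faithfulness of `κ` at the `ε V` and contraction data, the adjunction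
`ε_! ⋙ res_ι ⊣ ran_ι ⋙ res_ε` has invertible unit and `ε_! ⋙ res_ι` takes values in acyclic objects.
APPEND-ONLY once landed.
-/

set_option autoImplicit false
set_option backward.isDefEq.respectTransparency false
set_option backward.isDefEq.respectTransparency.types false
set_option linter.style.haveILetI false
set_option linter.unusedSectionVars false

universe u

open CategoryTheory CategoryTheory.Limits CategoryTheory.Functor Opposite

namespace Groth.Agent.Lib.SplitAbsH7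

open Groth.Agent.Lib.FAcyc (acyc)
open Groth.Agent.Lib.RanToolsH7

section Gen

variable {A B : Type*} [Category A] [Abelian A] [Category B] [Abelian B]
  [HasInjectiveResolutions A]

/-- the higher right derived functors of an exact functor vanish -/
theorem isZero_rightDerived_of_exact (F : A ⥤ B) [F.Additive] [PreservesFiniteLimits F]
    [PreservesFiniteColimits F] (X : A) (q : ℕ) : IsZero ((F.rightDerived (q + 1)).obj X) := by
  refine IsZero.of_iso ?_ ((injectiveResolution X).isoRightDerivedObj F (q + 1))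
  refine (HomologicalComplex.exactAt_iff_isZero_homology _ _).1 ?_
  have h := (injectiveResolution X).cocomplex_exactAt_succ q
  have h' : ((injectiveResolution X).cocomplex.sc (q + 1)).Exact := h
  exact h'.map F

/-- isomorphic additive functors have isomorphic right derived functors -/
noncomputable def rightDerivedIso {Φ Φ' : A ⥤ B} [Φ.Additive] [Φ'.Additive] (e : Φ ≅ Φ') (n : ℕ) :
    Φ.rightDerived n ≅ Φ'.rightDerived n where
  hom := NatTrans.rightDerived e.hom n
  inv := NatTrans.rightDerived e.inv n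
  hom_inv_id := by rw [← NatTrans.rightDerived_comp, e.hom_inv_id, NatTrans.rightDerived_id]
  inv_hom_id := by rw [← NatTrans.rightDerived_comp, e.inv_hom_id, NatTrans.rightDerived_id]

theorem acyc_of_iso (F : A ⥤ B) [F.Additive] {X Y : A} (e : X ≅ Y) (h : acyc F X) : acyc F Y :=
  fun i hi => (h i hi).of_iso ((F.rightDerived i).mapIso e.symm)

end Gen

section Sheaf

variable {C D : Type u} [SmallCategory C] [SmallCategory D] (G : C ⥤ D)
  (J : GrothendieckTopology C) (K : GrothendieckTopology D)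

theorem isIso_sheaf_hom {X Y : Sheaf J AddCommGrpCat.{u}} (φ : X ⟶ Y)
    (h : ∀ c : C, IsIso (φ.hom.app (op c))) : IsIso φ := by
  haveI : ∀ c : Cᵒᵖ, IsIso (φ.hom.app c) := fun c => h c.unop
  haveI : IsIso φ.hom := NatIso.isIso_of_isIso_app _
  haveI : IsIso ((sheafToPresheaf J AddCommGrpCat.{u}).map φ) := ‹IsIso φ.hom›
  exact isIso_of_reflects_iso φ (sheafToPresheaf J AddCommGrpCat.{u})

end Sheaf

variable {CS CA CP C2 : Type u} [SmallCategory CS] [SmallCategory CA] [SmallCategory CP]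
  [SmallCategory C2]
  (JS : GrothendieckTopology CS) (JA : GrothendieckTopology CA) (JP : GrothendieckTopology CP)
  (J2 : GrothendieckTopology C2)
  (ε : CS ⥤ CA) (ι : CP ⥤ CA) (κ : CA ⥤ C2)
  [ε.IsContinuous JS JA] [ι.IsContinuous JP JA] [ι.IsCocontinuous JP JA]
  [κ.IsContinuous JA J2] [κ.IsCocontinuous JA J2]
  [(ε ⋙ κ).IsContinuous JS J2] [(ι ⋙ κ).IsContinuous JP J2]
  [(ε ⋙ κ).IsCocontinuous JS J2]


/-- restriction along `ε`, etc. -/
noncomputable abbrev resε := ε.sheafPushforwardContinuous AddCommGrpCat.{u} JS JA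
noncomputable abbrev resι := ι.sheafPushforwardContinuous AddCommGrpCat.{u} JP JA
noncomputable abbrev resκ := κ.sheafPushforwardContinuous AddCommGrpCat.{u} JA J2
noncomputable abbrev resE := (ε ⋙ κ).sheafPushforwardContinuous AddCommGrpCat.{u} JS J2
noncomputable abbrev resL := (ι ⋙ κ).sheafPushforwardContinuous AddCommGrpCat.{u} JP J2
noncomputable abbrev ranι := ι.sheafPushforwardCocontinuous AddCommGrpCat.{u} JP JA
noncomputable abbrev ranκ := κ.sheafPushforwardCocontinuous AddCommGrpCat.{u} JA J2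
noncomputable abbrev ranE := (ε ⋙ κ).sheafPushforwardCocontinuous AddCommGrpCat.{u} JS J2
noncomputable abbrev shε := ε.sheafPullback AddCommGrpCat.{u} JS JA
noncomputable abbrev shE := (ε ⋙ κ).sheafPullback AddCommGrpCat.{u} JS J2
noncomputable abbrev shL := (ι ⋙ κ).sheafPullback AddCommGrpCat.{u} JP J2

/-- `θ^*` -/
noncomputable abbrev pull' : Sheaf JS AddCommGrpCat.{u} ⥤ Sheaf JP AddCommGrpCat.{u} := shε JS JA ε ⋙ resι JA JP ι
/-- `θ_*` -/
noncomputable abbrev push' : Sheaf JP AddCommGrpCat.{u} ⥤ Sheaf JS AddCommGrpCat.{u} := ranι JA JP ι ⋙ resε JS JA ε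
/-- the adjunction -/
noncomputable abbrev adj' : pull' JS JA JP ε ι ⊣ push' JS JA JP ε ι :=
  (ε.sheafAdjunctionContinuous AddCommGrpCat.{u} JS JA).comp (ι.sheafAdjunctionCocontinuous AddCommGrpCat.{u} JP JA)

section P1

variable (h3 : ∀ (t : CA) (V : CS), Function.Bijective (fun g : t ⟶ ε.obj V => κ.map g))

include h3 in
theorem isIso_counitκ_app (H : Sheaf JA AddCommGrpCat.{u}) :
    IsIso ((resε JS JA ε).map ((κ.sheafAdjunctionCocontinuous AddCommGrpCat.{u} JA J2).counit.app H)) := by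
  apply isIso_sheaf_hom
  intro V
  show IsIso (((κ.sheafAdjunctionCocontinuous AddCommGrpCat.{u} JA J2).counit.app H).hom.app (op (ε.obj V)))
  rw [Functor.sheafAdjunctionCocontinuous_counit_app_hom, Functor.ranAdjunction_counit]
  apply isIso_ranCounit_app_of_bijective κ.op H.obj (op (ε.obj V))
  intro s
  constructor
  · intro a b hab
    apply Quiver.Hom.unop_inj
    apply (h3 s.unop V).1
    exact congrArg Quiver.Hom.unop hab
  · intro b
    obtain ⟨a, ha⟩ := (h3 s.unop V).2 b.unop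
    exact ⟨a.op, congrArg Quiver.Hom.op ha⟩

/-- `ran_κ ⋙ res_E ≅ res_ε` -/
noncomputable def isoR : ranκ JA J2 κ ⋙ resE JS J2 ε κ ≅ resε JS JA ε :=
  haveI : IsIso (whiskerRight (κ.sheafAdjunctionCocontinuous AddCommGrpCat.{u} JA J2).counit (resε JS JA ε)) := by
    haveI : ∀ H, IsIso ((whiskerRight (κ.sheafAdjunctionCocontinuous AddCommGrpCat.{u} JA J2).counit
        (resε JS JA ε)).app H) := fun H => isIso_counitκ_app JS JA J2 ε κ h3 H
    exact NatIso.isIso_of_isIso_app _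
  isoWhiskerLeft (ranκ JA J2 κ) (Functor.sheafPushforwardContinuousComp ε κ AddCommGrpCat.{u} JS JA J2).symm ≪≫
    (Functor.associator _ _ _).symm ≪≫
    asIso (whiskerRight (κ.sheafAdjunctionCocontinuous AddCommGrpCat.{u} JA J2).counit (resε JS JA ε)) ≪≫
    Functor.leftUnitor _

/-- `ε_! ≅ E_! ⋙ res_κ` -/
noncomputable def isoA : shε JS JA ε ≅ shE JS J2 ε κ ⋙ resκ JA J2 κ :=
  Adjunction.leftAdjointUniq (ε.sheafAdjunctionContinuous AddCommGrpCat.{u} JS JA)
    ((((ε ⋙ κ).sheafAdjunctionContinuous AddCommGrpCat.{u} JS J2).comp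
      (κ.sheafAdjunctionCocontinuous AddCommGrpCat.{u} JA J2)).ofNatIsoRight (isoR JS JA J2 ε κ h3))

/-- `θ^* ≅ E_! ⋙ res_λ` -/
noncomputable def isoPull : pull' JS JA JP ε ι ≅ shE JS J2 ε κ ⋙ resL JP J2 ι κ :=
  isoWhiskerRight (isoA JS JA J2 ε κ h3) (resι JA JP ι) ≪≫ Functor.associator _ _ _ ≪≫
    isoWhiskerLeft (shE JS J2 ε κ) (Functor.sheafPushforwardContinuousComp ι κ AddCommGrpCat.{u} JP JA J2)

end P1

section P4

variable [(ε ⋙ κ).Full] [(ε ⋙ κ).Faithful]

theorem isIso_unitE :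
    IsIso ((ε ⋙ κ).sheafAdjunctionContinuous AddCommGrpCat.{u} JS J2).unit := by
  let t : Adjunction.Triple (shE JS J2 ε κ) (resE JS J2 ε κ) (ranE JS J2 ε κ) :=
    ⟨(ε ⋙ κ).sheafAdjunctionContinuous AddCommGrpCat.{u} JS J2,
      (ε ⋙ κ).sheafAdjunctionCocontinuous AddCommGrpCat.{u} JS J2⟩
  have h : IsIso t.adj₂.counit := by
    haveI : ∀ H, IsIso (t.adj₂.counit.app H) := fun H => by
      apply isIso_sheaf_hom
      intro V
      show IsIso ((((ε ⋙ κ).sheafAdjunctionCocontinuous AddCommGrpCat.{u} JS J2).counit.app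
        H).hom.app (op V))
      rw [Functor.sheafAdjunctionCocontinuous_counit_app_hom]
      infer_instance
    exact NatIso.isIso_of_isIso_app _
  exact t.isIso_unit_iff_isIso_counit.2 h

end P4

section P5

variable (p₀ : CS → CP) (a₀ : ∀ V, ι.obj (p₀ V) ⟶ ε.obj V)
  (σ : ∀ V, κ.obj (ε.obj V) ⟶ κ.obj (ι.obj (p₀ V)))
  (hσ : ∀ V, σ V ≫ κ.map (a₀ V) = 𝟙 _)
  (hcontr : ∀ (V : CS) (p : CP) (a : ι.obj p ⟶ ε.obj V), ∃ (q : CP) (d : q ⟶ p) (e : q ⟶ p₀ V)
    (t : κ.obj (ι.obj p) ⟶ κ.obj (ι.obj q)),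
    ι.map e ≫ a₀ V = ι.map d ≫ a ∧ t ≫ κ.map (ι.map d) = 𝟙 _ ∧
      t ≫ κ.map (ι.map e) = κ.map a ≫ σ V)

include hσ hcontr in
theorem isIso_unitι_app (H2 : Sheaf J2 AddCommGrpCat.{u}) :
    IsIso ((resε JS JA ε).map ((ι.sheafAdjunctionCocontinuous AddCommGrpCat.{u} JP JA).unit.app
      ((resκ JA J2 κ).obj H2))) := by
  apply isIso_sheaf_hom
  intro V
  show IsIso (((ι.sheafAdjunctionCocontinuous AddCommGrpCat.{u} JP JA).unit.app
      ((resκ JA J2 κ).obj H2)).hom.app (op (ε.obj V)))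
  rw [Functor.sheafAdjunctionCocontinuous_unit_app_hom]
  apply isIso_ranAdjunction_unit_app_app ι.op (κ.op ⋙ H2.obj) (op (ε.obj V))
  refine isPointwiseOfContraction ι.op (κ.op ⋙ H2.obj) (op (ε.obj V)) (op (p₀ V)) (a₀ V).op
    (H2.obj.map (σ V).op) ?_ ?_
  · show H2.obj.map (κ.map (a₀ V)).op ≫ H2.obj.map (σ V).op = 𝟙 _
    rw [← CategoryTheory.Functor.map_comp, ← op_comp, hσ V, op_id, CategoryTheory.Functor.map_id]
  · intro c a
    obtain ⟨q, d, e, t, h1, h2, h3⟩ := hcontr V c.unop a.unop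
    refine ⟨op q, d.op, e.op, H2.obj.map t.op, ?_, ?_, ?_⟩
    · apply Quiver.Hom.unop_inj
      exact h1
    · show H2.obj.map (κ.map (ι.map d)).op ≫ H2.obj.map t.op = 𝟙 _
      rw [← CategoryTheory.Functor.map_comp, ← op_comp, h2, op_id, CategoryTheory.Functor.map_id]
    · show H2.obj.map (κ.map (ι.map e)).op ≫ H2.obj.map t.op =
        H2.obj.map (σ V).op ≫ H2.obj.map (κ.map a.unop).op
      rw [← CategoryTheory.Functor.map_comp, ← op_comp, h3, op_comp, CategoryTheory.Functor.map_comp]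

/-- `res_λ ⋙ θ_* ≅ res_E` -/
noncomputable def isoC : resL JP J2 ι κ ⋙ push' JS JA JP ε ι ≅ resE JS J2 ε κ :=
  haveI : IsIso (whiskerLeft (resκ JA J2 κ)
      (whiskerRight (ι.sheafAdjunctionCocontinuous AddCommGrpCat.{u} JP JA).unit
        (resε JS JA ε))) := by
    haveI : ∀ H2, IsIso ((whiskerLeft (resκ JA J2 κ)
        (whiskerRight (ι.sheafAdjunctionCocontinuous AddCommGrpCat.{u} JP JA).unit
          (resε JS JA ε))).app H2) := fun H2 =>
      isIso_unitι_app JS JA JP J2 ε ι κ p₀ a₀ σ hσ hcontr H2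
    exact NatIso.isIso_of_isIso_app _
  isoWhiskerRight (Functor.sheafPushforwardContinuousComp ι κ AddCommGrpCat.{u} JP JA J2).symm
      (push' JS JA JP ε ι) ≪≫
    Functor.associator _ _ _ ≪≫
    isoWhiskerLeft (resκ JA J2 κ) (Functor.associator _ _ _).symm ≪≫
    (asIso (whiskerLeft (resκ JA J2 κ)
      (whiskerRight (ι.sheafAdjunctionCocontinuous AddCommGrpCat.{u} JP JA).unit
        (resε JS JA ε)))).symm ≪≫
    isoWhiskerLeft (resκ JA J2 κ) (Functor.leftUnitor _) ≪≫
    Functor.sheafPushforwardContinuousComp ε κ AddCommGrpCat.{u} JS JA J2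

end P5

section Main

variable [(ε ⋙ κ).Full] [(ε ⋙ κ).Faithful] [RepresentablyFlat (ι ⋙ κ)]
  [(ι ⋙ κ).IsCocontinuous JP J2]
  (h3 : ∀ (t : CA) (V : CS), Function.Bijective (fun g : t ⟶ ε.obj V => κ.map g))
  (p₀ : CS → CP) (a₀ : ∀ V, ι.obj (p₀ V) ⟶ ε.obj V)
  (σ : ∀ V, κ.obj (ε.obj V) ⟶ κ.obj (ι.obj (p₀ V)))
  (hσ : ∀ V, σ V ≫ κ.map (a₀ V) = 𝟙 _)
  (hcontr : ∀ (V : CS) (p : CP) (a : ι.obj p ⟶ ε.obj V), ∃ (q : CP) (d : q ⟶ p) (e : q ⟶ p₀ V)
    (t : κ.obj (ι.obj p) ⟶ κ.obj (ι.obj q)),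
    ι.map e ≫ a₀ V = ι.map d ≫ a ∧ t ≫ κ.map (ι.map d) = 𝟙 _ ∧
      t ≫ κ.map (ι.map e) = κ.map a ≫ σ V)

/-- `θ^* ⋙ θ_* ≅ 𝟭` -/
noncomputable def isoUnit : pull' JS JA JP ε ι ⋙ push' JS JA JP ε ι ≅ 𝟭 _ :=
  haveI := isIso_unitE JS J2 ε κ
  isoWhiskerRight (isoPull JS JA JP J2 ε ι κ h3) (push' JS JA JP ε ι) ≪≫
    Functor.associator _ _ _ ≪≫
    isoWhiskerLeft (shE JS J2 ε κ) (isoC JS JA JP J2 ε ι κ p₀ a₀ σ hσ hcontr) ≪≫
    (asIso ((ε ⋙ κ).sheafAdjunctionContinuous AddCommGrpCat.{u} JS J2).unit).symm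

include h3 hσ hcontr J2 in
theorem isIso_unit_app (F : Sheaf JS AddCommGrpCat.{u}) :
    IsIso ((adj' JS JA JP ε ι).unit.app F) := by
  haveI := (adj' JS JA JP ε ι).isIso_unit_of_iso
    (isoUnit JS JA JP J2 ε ι κ h3 p₀ a₀ σ hσ hcontr)
  infer_instance

instance additive_resL : (resL JP J2 ι κ).Additive where
instance additive_resE : (resE JS J2 ε κ).Additive where
instance additive_resε : (resε JS JA ε).Additive where

theorem preservesFiniteLimits_resL : PreservesFiniteLimits (resL JP J2 ι κ) := by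
  haveI : PreservesLimitsOfSize.{0, 0} (resL JP J2 ι κ) :=
    ((ι ⋙ κ).sheafAdjunctionContinuous AddCommGrpCat.{u} JP J2).rightAdjoint_preservesLimits
  exact PreservesLimitsOfSize.preservesFiniteLimits _

theorem preservesFiniteColimits_resL : PreservesFiniteColimits (resL JP J2 ι κ) := by
  haveI : PreservesColimitsOfSize.{0, 0} (resL JP J2 ι κ) :=
    ((ι ⋙ κ).sheafAdjunctionCocontinuous AddCommGrpCat.{u} JP J2).leftAdjoint_preservesColimits
  exact PreservesColimitsOfSize.preservesFiniteColimits _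

theorem preservesFiniteLimits_resE : PreservesFiniteLimits (resE JS J2 ε κ) := by
  haveI : PreservesLimitsOfSize.{0, 0} (resE JS J2 ε κ) :=
    ((ε ⋙ κ).sheafAdjunctionContinuous AddCommGrpCat.{u} JS J2).rightAdjoint_preservesLimits
  exact PreservesLimitsOfSize.preservesFiniteLimits _

theorem preservesFiniteColimits_resE : PreservesFiniteColimits (resE JS J2 ε κ) := by
  haveI : PreservesColimitsOfSize.{0, 0} (resE JS J2 ε κ) :=
    ((ε ⋙ κ).sheafAdjunctionCocontinuous AddCommGrpCat.{u} JS J2).leftAdjoint_preservesColimits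
  exact PreservesColimitsOfSize.preservesFiniteColimits _

theorem preservesFiniteLimits_push' : PreservesFiniteLimits (push' JS JA JP ε ι) := by
  haveI : PreservesLimitsOfSize.{0, 0} (push' JS JA JP ε ι) :=
    (adj' JS JA JP ε ι).rightAdjoint_preservesLimits
  exact PreservesLimitsOfSize.preservesFiniteLimits _

attribute [local instance] preservesBinaryBiproducts_of_preservesBinaryProducts in
instance additive_push' : (push' JS JA JP ε ι).Additive := by
  haveI := preservesFiniteLimits_push' JS JA JP ε ι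
  exact Functor.additive_of_preservesBinaryBiproducts _

theorem injective_resL (I : Sheaf J2 AddCommGrpCat.{u}) [Injective I] :
    Injective ((resL JP J2 ι κ).obj I) := by
  haveI : PreservesFiniteLimits (shL JP J2 ι κ) :=
    Functor.SmallCategories.instPreservesFiniteLimitsSheafSheafPullbackOfRepresentablyFlat
      (ι ⋙ κ) AddCommGrpCat.{u} JP J2
  haveI : (shL JP J2 ι κ).PreservesMonomorphisms := inferInstance
  exact Injective.injective_of_adjoint
    ((ι ⋙ κ).sheafAdjunctionContinuous AddCommGrpCat.{u} JP J2) I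

include h3 hσ hcontr in
theorem acyc_push'_resL (H2 : Sheaf J2 AddCommGrpCat.{u}) :
    acyc (push' JS JA JP ε ι) ((resL JP J2 ι κ).obj H2) := by
  haveI := preservesFiniteLimits_resL JP J2 ι κ
  haveI := preservesFiniteColimits_resL JP J2 ι κ
  haveI := preservesFiniteLimits_resE JS J2 ε κ
  haveI := preservesFiniteColimits_resE JS J2 ε κ
  haveI := preservesFiniteLimits_push' JS JA JP ε ι
  intro i hi
  obtain ⟨q, rfl⟩ : ∃ q, i = q + 1 := ⟨i - 1, by omega⟩
  have hinj : ∀ I : Sheaf J2 AddCommGrpCat.{u}, Injective I →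
      acyc (push' JS JA JP ε ι) ((resL JP J2 ι κ).obj I) := by
    intro I hI
    haveI := injective_resL JP J2 ι κ I
    exact FAcyc.acyc_of_injective _ _
  have hX : acyc (resL JP J2 ι κ) H2 := by
    intro j hj
    obtain ⟨r, rfl⟩ : ∃ r, j = r + 1 := ⟨j - 1, by omega⟩
    exact isZero_rightDerived_of_exact _ _ _
  obtain ⟨e⟩ := Groth.Agent.Lib.AcycCompH7.nonempty_iso (resL JP J2 ι κ) (push' JS JA JP ε ι)
    hinj (q + 1) H2 hX
  refine IsZero.of_iso ?_ (e ≪≫ (rightDerivedIso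
    (isoC JS JA JP J2 ε ι κ p₀ a₀ σ hσ hcontr) (q + 1)).app H2)
  exact isZero_rightDerived_of_exact _ _ _

include h3 hσ hcontr J2 in
/-- **Main theorem** of the split situation. -/
theorem main (F : Sheaf JS AddCommGrpCat.{u}) :
    IsIso ((adj' JS JA JP ε ι).unit.app F) ∧
      acyc (push' JS JA JP ε ι) ((pull' JS JA JP ε ι).obj F) := by
  refine ⟨isIso_unit_app JS JA JP J2 ε ι κ h3 p₀ a₀ σ hσ hcontr F, ?_⟩
  exact acyc_of_iso _ ((isoPull JS JA JP J2 ε ι κ h3).app F).symm
    (acyc_push'_resL JS JA JP J2 ε ι κ h3 p₀ a₀ σ hσ hcontr _)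

end Main

end Groth.Agent.Lib.SplitAbsH7
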