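import Mathlib
import Groth.Agent.Lib.SplitAbs_helper7
import Groth.Agent.Lib.LocTools_helper7
import Groth.Agent.Lib.DerivedComm_helper8
import Groth.Agent.Lib.FAcyc_helper9

/-!
# Localisation of the adjunction `θ^* ⊣ θ_*` of an augmentation (helper7)

Level 1: pure category theory.  Four adjunctions `L ⊣ R`, `L' ⊣ R'`, `ρS ⊣ σS`, `ρP ⊣ σP` and an
isomorphism `σP ⋙ R ≅ R' ⋙ σS` give, by the calculus of mates, comparison maps
`ρS ⋙ L' ≅ L ⋙ ρP` and `R ⋙ ρS ⟶ ρP ⋙ R'` compatible with units; the second is invertible under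
two pointwise conditions.

Level 2: sites.  The functors are restrictions along functors `ν ⊣ r` of sites.
APPEND-ONLY once landed.
-/

set_option autoImplicit false
set_option backward.isDefEq.respectTransparency false
set_option backward.isDefEq.respectTransparency.types false
set_option linter.style.haveILetI false
set_option linter.unusedSectionVars false

universe v₁ v₂ v₃ v₄ u₁ u₂ u₃ u₄ u

open CategoryTheory CategoryTheory.Limits CategoryTheory.Functor Opposite

namespace Groth.Agent.Lib.LocAbsH7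

section Level1

variable {𝒜S : Type u₁} {𝒜P : Type u₂} {𝒜S' : Type u₃} {𝒜P' : Type u₄}
  [Category.{v₁} 𝒜S] [Category.{v₂} 𝒜P] [Category.{v₃} 𝒜S'] [Category.{v₄} 𝒜P']
  {L : 𝒜S ⥤ 𝒜P} {R : 𝒜P ⥤ 𝒜S} (adj : L ⊣ R)
  {L' : 𝒜S' ⥤ 𝒜P'} {R' : 𝒜P' ⥤ 𝒜S'} (adj' : L' ⊣ R')
  {ρS : 𝒜S ⥤ 𝒜S'} {σS : 𝒜S' ⥤ 𝒜S} (aS : ρS ⊣ σS)
  {ρP : 𝒜P ⥤ 𝒜P'} {σP : 𝒜P' ⥤ 𝒜P} (aP : ρP ⊣ σP)
  (γ₀ : σP ⋙ R ≅ R' ⋙ σS)

/-- the comparison of left adjoints, conjugate to `γ₀` -/
noncomputable def alpha : ρS ⋙ L' ⟶ L ⋙ ρP :=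
  (conjugateEquiv (adj.comp aP) (aS.comp adj')).symm γ₀.hom

instance isIso_alpha : IsIso (alpha adj adj' aS aP γ₀) := by
  unfold alpha
  infer_instance

/-- the comparison of right adjoints, mate of `alpha` -/
noncomputable def beta : R ⋙ ρS ⟶ ρP ⋙ R' :=
  (mateEquiv adj adj' (TwoSquare.mk ρS L L' ρP (alpha adj adj' aS aP γ₀))).natTrans

theorem mate_beta :
    (mateEquiv aP aS (TwoSquare.mk R ρP ρS R' (beta adj adj' aS aP γ₀))).natTrans = γ₀.hom := by
  have h := iterated_mateEquiv_conjugateEquiv adj adj' aS aP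
    (TwoSquare.mk ρS L L' ρP (alpha adj adj' aS aP γ₀))
  refine Eq.trans h ?_
  exact Equiv.apply_symm_apply (conjugateEquiv (adj.comp aP) (aS.comp adj')) γ₀.hom

theorem unit_beta (A : 𝒜S) :
    ρS.map (adj.unit.app A) ≫ (beta adj adj' aS aP γ₀).app (L.obj A) =
      adj'.unit.app (ρS.obj A) ≫ R'.map ((alpha adj adj' aS aP γ₀).app A) :=
  unit_mateEquiv adj adj' (TwoSquare.mk ρS L L' ρP (alpha adj adj' aS aP γ₀)) A

theorem beta_app (G : 𝒜P) :
    (beta adj adj' aS aP γ₀).app G =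
      ρS.map (R.map (aP.unit.app G)) ≫ ρS.map (γ₀.hom.app (ρP.obj G)) ≫
        aS.counit.app (R'.obj (ρP.obj G)) := by
  have h1 := unit_mateEquiv aP aS (TwoSquare.mk R ρP ρS R' (beta adj adj' aS aP γ₀)) G
  have h2 : ((mateEquiv aP aS) (TwoSquare.mk R ρP ρS R' (beta adj adj' aS aP γ₀))).app
      (ρP.obj G) = γ₀.hom.app (ρP.obj G) :=
    congr_app (mate_beta adj adj' aS aP γ₀) (ρP.obj G)
  rw [h2] at h1
  -- h1 : R.map (aP.unit.app G) ≫ γ₀.hom.app _ = aS.unit.app _ ≫ σS.map (β.app G)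
  have h3 : ρS.map (R.map (aP.unit.app G)) ≫ ρS.map (γ₀.hom.app (ρP.obj G)) =
      ρS.map (aS.unit.app (R.obj G)) ≫ ρS.map (σS.map ((beta adj adj' aS aP γ₀).app G)) := by
    rw [← CategoryTheory.Functor.map_comp, ← CategoryTheory.Functor.map_comp]
    exact congrArg ρS.map h1
  have h4 : ρS.map (σS.map ((beta adj adj' aS aP γ₀).app G)) ≫
      aS.counit.app (R'.obj (ρP.obj G)) =
      aS.counit.app (ρS.obj (R.obj G)) ≫ (beta adj adj' aS aP γ₀).app G :=
    aS.counit.naturality ((beta adj adj' aS aP γ₀).app G)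
  have h5 : ρS.map (aS.unit.app (R.obj G)) ≫ aS.counit.app (ρS.obj (R.obj G)) = 𝟙 _ :=
    aS.left_triangle_components (R.obj G)
  calc (beta adj adj' aS aP γ₀).app G
      = (ρS.map (aS.unit.app (R.obj G)) ≫ aS.counit.app (ρS.obj (R.obj G))) ≫
          (beta adj adj' aS aP γ₀).app G := by rw [h5, Category.id_comp]
    _ = ρS.map (aS.unit.app (R.obj G)) ≫ ρS.map (σS.map ((beta adj adj' aS aP γ₀).app G)) ≫
          aS.counit.app (R'.obj (ρP.obj G)) := by rw [Category.assoc, h4]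
    _ = (ρS.map (R.map (aP.unit.app G)) ≫ ρS.map (γ₀.hom.app (ρP.obj G))) ≫
          aS.counit.app (R'.obj (ρP.obj G)) := by rw [h3, Category.assoc]
    _ = _ := Category.assoc _ _ _

include γ₀ in
/-- **Level 1**: the comparison isomorphisms, compatible with units. -/
theorem exists_comparison (hc : ∀ M : 𝒜S', IsIso (aS.counit.app M))
    (hu : ∀ G : 𝒜P, IsIso (ρS.map (R.map (aP.unit.app G)))) :
    ∃ (α : ρS ⋙ L' ≅ L ⋙ ρP) (β : R ⋙ ρS ≅ ρP ⋙ R'), ∀ A : 𝒜S,
      ρS.map (adj.unit.app A) ≫ β.hom.app (L.obj A) =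
        adj'.unit.app (ρS.obj A) ≫ R'.map (α.hom.app A) := by
  haveI : ∀ G : 𝒜P, IsIso ((beta adj adj' aS aP γ₀).app G) := by
    intro G
    rw [beta_app]
    haveI := hc (R'.obj (ρP.obj G))
    haveI := hu G
    infer_instance
  haveI : IsIso (beta adj adj' aS aP γ₀) := NatIso.isIso_of_isIso_app _
  exact ⟨asIso (alpha adj adj' aS aP γ₀), asIso (beta adj adj' aS aP γ₀),
    fun A => unit_beta adj adj' aS aP γ₀ A⟩

end Level1

section Level2

open Groth.Agent.Lib.FAcyc (acyc)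
open Groth.Agent.Lib.SplitAbsH7

/-- restriction of abelian sheaves along a continuous functor -/
noncomputable abbrev rho {C' C : Type u} [SmallCategory C'] [SmallCategory C] (ν : C' ⥤ C)
    (J' : GrothendieckTopology C') (J : GrothendieckTopology C) [ν.IsContinuous J' J] :
    Sheaf J AddCommGrpCat.{u} ⥤ Sheaf J' AddCommGrpCat.{u} :=
  ν.sheafPushforwardContinuous AddCommGrpCat.{u} J' J

/-- the adjunction between restrictions induced by an adjunction of continuous functors -/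
noncomputable abbrev adjRho {C' C : Type u} [SmallCategory C'] [SmallCategory C] {ν : C' ⥤ C}
    {r : C ⥤ C'} (a : ν ⊣ r)
    (J' : GrothendieckTopology C') (J : GrothendieckTopology C) [ν.IsContinuous J' J]
    [r.IsContinuous J J'] : rho ν J' J ⊣ rho r J J' :=
  a.sheafPushforwardContinuous (E := AddCommGrpCat.{u}) J' J

section One

variable {C' C : Type u} [SmallCategory C'] [SmallCategory C] {ν : C' ⥤ C}
    {r : C ⥤ C'} (a : ν ⊣ r)
    (J' : GrothendieckTopology C') (J : GrothendieckTopology C) [ν.IsContinuous J' J]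
    [r.IsContinuous J J']

theorem adjRho_unit_app_hom_app (G : Sheaf J AddCommGrpCat.{u}) (p : C) :
    ((adjRho a J' J).unit.app G).hom.app (op p) = G.obj.map (a.counit.app p).op := by
  simp [adjRho, Adjunction.sheafPushforwardContinuous]

theorem adjRho_counit_app_hom_app (M : Sheaf J' AddCommGrpCat.{u}) (W : C') :
    ((adjRho a J' J).counit.app M).hom.app (op W) = M.obj.map (a.unit.app W).op := by
  simp [adjRho, Adjunction.sheafPushforwardContinuous]

theorem isIso_adjRho_counit_app (h : ∀ W : C', IsIso (a.unit.app W))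
    (M : Sheaf J' AddCommGrpCat.{u}) : IsIso ((adjRho a J' J).counit.app M) := by
  apply isIso_sheaf_hom
  intro W
  rw [adjRho_counit_app_hom_app]
  haveI := h W
  infer_instance

instance additive_rho : (rho ν J' J).Additive where

theorem preservesFiniteLimits_rho : PreservesFiniteLimits (rho ν J' J) := by
  haveI : PreservesLimitsOfSize.{0, 0} (rho ν J' J) :=
    (ν.sheafAdjunctionContinuous AddCommGrpCat.{u} J' J).rightAdjoint_preservesLimits
  exact PreservesLimitsOfSize.preservesFiniteLimits _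

include a in
theorem preservesFiniteColimits_rho : PreservesFiniteColimits (rho ν J' J) := by
  haveI : PreservesColimitsOfSize.{0, 0} (rho ν J' J) :=
    (adjRho a J' J).leftAdjoint_preservesColimits
  exact PreservesColimitsOfSize.preservesFiniteColimits _

end One

variable {CS CA CP CS' CA' CP' : Type u} [SmallCategory CS] [SmallCategory CA] [SmallCategory CP]
  [SmallCategory CS'] [SmallCategory CA'] [SmallCategory CP']
  (JS : GrothendieckTopology CS) (JA : GrothendieckTopology CA) (JP : GrothendieckTopology CP)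
  (JS' : GrothendieckTopology CS') (JA' : GrothendieckTopology CA')
  (JP' : GrothendieckTopology CP')
  (ε : CS ⥤ CA) (ι : CP ⥤ CA) (ε' : CS' ⥤ CA') (ι' : CP' ⥤ CA')
  [ε.IsContinuous JS JA] [ι.IsContinuous JP JA] [ι.IsCocontinuous JP JA]
  [ε'.IsContinuous JS' JA'] [ι'.IsContinuous JP' JA'] [ι'.IsCocontinuous JP' JA']
  {νS : CS' ⥤ CS} {rS : CS ⥤ CS'} (adjS : νS ⊣ rS) [νS.IsContinuous JS' JS]
  [rS.IsContinuous JS JS']
  {νA : CA' ⥤ CA} {rA : CA ⥤ CA'} (adjA : νA ⊣ rA) [νA.IsContinuous JA' JA]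
  [rA.IsContinuous JA JA']
  {νP : CP' ⥤ CP} {rP : CP ⥤ CP'} (adjP : νP ⊣ rP) [νP.IsContinuous JP' JP]
  [rP.IsContinuous JP JP']
  (sqι : ι' ⋙ νA ≅ νP ⋙ ι) (sqr : ε ⋙ rA ≅ rS ⋙ ε')

/-- restriction along `ι` commutes with localisation -/
noncomputable def a2 :
    rho νA JA' JA ⋙ resι JA' JP' ι' ≅ resι JA JP ι ⋙ rho νP JP' JP :=
  haveI : (νP ⋙ ι).IsContinuous JP' JA := Functor.isContinuous_comp νP ι JP' JP JA
  (Functor.sheafPushforwardContinuousComp' sqι AddCommGrpCat.{u} JP' JA' JA) ≪≫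
    (Functor.sheafPushforwardContinuousComp' (Iso.refl (νP ⋙ ι)) AddCommGrpCat.{u} JP' JP JA).symm

/-- restriction along `ε` commutes with the right adjoints of localisation -/
noncomputable def c1 :
    rho rA JA JA' ⋙ resε JS JA ε ≅ resε JS' JA' ε' ⋙ rho rS JS JS' :=
  haveI : (rS ⋙ ε').IsContinuous JS JA' := Functor.isContinuous_comp rS ε' JS JS' JA'
  (Functor.sheafPushforwardContinuousComp' sqr AddCommGrpCat.{u} JS JA JA') ≪≫
    (Functor.sheafPushforwardContinuousComp' (Iso.refl (rS ⋙ ε')) AddCommGrpCat.{u} JS JS' JA').symm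

/-- right Kan extension along `ι` commutes with the right adjoints of localisation -/
noncomputable def gA :
    rho rP JP JP' ⋙ ranι JA JP ι ≅ ranι JA' JP' ι' ⋙ rho rA JA JA' :=
  conjugateIsoEquiv
    ((ι.sheafAdjunctionCocontinuous AddCommGrpCat.{u} JP JA).comp (adjRho adjP JP' JP))
    ((adjRho adjA JA' JA).comp (ι'.sheafAdjunctionCocontinuous AddCommGrpCat.{u} JP' JA'))
    (a2 JA JP JA' JP' ι ι' sqι)

/-- `θ_*` commutes with the right adjoints of localisation -/
noncomputable def gamma0 :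
    rho rP JP JP' ⋙ push' JS JA JP ε ι ≅ push' JS' JA' JP' ε' ι' ⋙ rho rS JS JS' :=
  (Functor.associator _ _ _).symm ≪≫
    isoWhiskerRight (gA JA JP JA' JP' ι ι' adjA adjP sqι) (resε JS JA ε) ≪≫
    Functor.associator _ _ _ ≪≫
    isoWhiskerLeft (ranι JA' JP' ι') (c1 JS JA JS' JA' ε ε' sqr) ≪≫
    (Functor.associator _ _ _).symm

include adjP in
theorem isIso_hu (SP : ∀ (p : CP) (W' : CS'), Nonempty (ι.obj p ⟶ ε.obj (νS.obj W')) →
      IsIso (adjP.counit.app p)) (G : Sheaf JP AddCommGrpCat.{u}) :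
    IsIso ((rho νS JS' JS).map ((push' JS JA JP ε ι).map ((adjRho adjP JP' JP).unit.app G))) := by
  apply isIso_sheaf_hom
  intro W'
  show IsIso ((ι.op.ran.map ((adjRho adjP JP' JP).unit.app G).hom).app (op (ε.obj (νS.obj W'))))
  apply Groth.Agent.Lib.LocToolsH7.isIso_ran_map_app
  intro c hc
  induction c using Opposite.rec with | op p => ?_
  obtain ⟨g⟩ := hc
  haveI : IsIso (adjP.counit.app p) := SP p W' ⟨g.unop⟩
  rw [adjRho_unit_app_hom_app]
  infer_instance

include adjS adjA adjP sqι sqr in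
/-- **Level 2**: localisation of the unit and of the higher direct images. -/
theorem loc_main (hunit : ∀ W' : CS', IsIso (adjS.unit.app W'))
    (SP : ∀ (p : CP) (W' : CS'), Nonempty (ι.obj p ⟶ ε.obj (νS.obj W')) →
      IsIso (adjP.counit.app p))
    (hmono : (νP.sheafPullback AddCommGrpCat.{u} JP' JP).PreservesMonomorphisms)
    (A : Sheaf JS AddCommGrpCat.{u}) :
    (IsIso ((adj' JS' JA' JP' ε' ι').unit.app ((rho νS JS' JS).obj A)) →
      IsIso ((rho νS JS' JS).map ((adj' JS JA JP ε ι).unit.app A))) ∧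
    (acyc (push' JS' JA' JP' ε' ι') ((pull' JS' JA' JP' ε' ι').obj ((rho νS JS' JS).obj A)) →
      ∀ q : ℕ, 0 < q → IsZero ((rho νS JS' JS).obj
        (((push' JS JA JP ε ι).rightDerived q).obj ((pull' JS JA JP ε ι).obj A)))) := by
  obtain ⟨α, β, hαβ⟩ := exists_comparison (adj' JS JA JP ε ι) (adj' JS' JA' JP' ε' ι')
    (adjRho adjS JS' JS) (adjRho adjP JP' JP)
    (gamma0 JS JA JP JS' JA' JP' ε ι ε' ι' adjA adjP sqι sqr)
    (isIso_adjRho_counit_app adjS JS' JS hunit)
    (isIso_hu JS JA JP JS' JP' ε ι adjP SP)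
  refine ⟨fun hiso => ?_, fun hac q hq => ?_⟩
  · have h := hαβ A
    haveI := hiso
    have e : (rho νS JS' JS).map ((adj' JS JA JP ε ι).unit.app A) =
        ((adj' JS' JA' JP' ε' ι').unit.app ((rho νS JS' JS).obj A) ≫
          (push' JS' JA' JP' ε' ι').map (α.hom.app A)) ≫
          β.inv.app ((pull' JS JA JP ε ι).obj A) := by
      rw [← h, Category.assoc, Iso.hom_inv_id_app]
      exact (Category.comp_id _).symm
    rw [e]
    infer_instance
  · haveI := preservesFiniteLimits_rho (ν := νP) JP' JP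
    haveI := preservesFiniteColimits_rho adjP JP' JP
    haveI := preservesFiniteLimits_rho (ν := νS) JS' JS
    haveI := preservesFiniteColimits_rho adjS JS' JS
    haveI := hmono
    haveI : (rho νP JP' JP).PreservesInjectiveObjects :=
      Functor.preservesInjectiveObjects_of_adjunction_of_preservesMonomorphisms
        (νP.sheafAdjunctionContinuous AddCommGrpCat.{u} JP' JP)
    have e1 := (Groth.Agent.Lib.DerivedCommH8.rightDerivedBaseChange (push' JS JA JP ε ι)
      (push' JS' JA' JP' ε' ι') (rho νP JP' JP) (rho νS JS' JS) β q).app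
      ((pull' JS JA JP ε ι).obj A)
    have e2 := ((push' JS' JA' JP' ε' ι').rightDerived q).mapIso (α.app A)
    exact (hac q hq).of_iso (e1 ≪≫ e2.symm)

end Level2

end Groth.Agent.Lib.LocAbsH7
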