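import Mathlib
import Groth.Agent.Lib.BCRan_helper7
import Groth.Agent.Lib.LocAbs_helper7

/-!
# Base change for restriction / right Kan extension of abelian sheaves (helper7)

A square of functors of sites `τ : g' ⋙ f ≅ f' ⋙ g`, with `f`, `f'` continuous and cocontinuous and
`g`, `g'` continuous.  The mate `bc : ran_f ⋙ res_g ⟶ res_{g'} ⋙ ran_{f'}` of the restriction
isomorphism is invertible at `d'` as soon as the comparison of comma categories is initial; a
criterion for the latter in terms of factorisations.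
APPEND-ONLY once landed.
-/

set_option autoImplicit false
set_option backward.isDefEq.respectTransparency false
set_option backward.isDefEq.respectTransparency.types false
set_option linter.style.haveILetI false
set_option linter.unusedSectionVars false

universe u

open CategoryTheory CategoryTheory.Limits CategoryTheory.Functor Opposite

namespace Groth.Agent.Lib.BCSheafH7

open Groth.Agent.Lib.LocAbsH7 Groth.Agent.Lib.BCRanH7

variable {C₁ C₂ C₁' C₂' : Type u} [SmallCategory C₁] [SmallCategory C₂] [SmallCategory C₁']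
  [SmallCategory C₂']
  (f : C₁ ⥤ C₂) (f' : C₁' ⥤ C₂') (g : C₂' ⥤ C₂) (g' : C₁' ⥤ C₁) (τ : g' ⋙ f ≅ f' ⋙ g)

/-- the square on opposite categories -/
def τop : f'.op ⋙ g.op ⟶ g'.op ⋙ f.op where
  app c := (τ.hom.app c.unop).op
  naturality _ _ h := Quiver.Hom.unop_inj (τ.hom.naturality h.unop).symm

theorem τop_app (c : C₁'ᵒᵖ) : (τop f f' g g' τ).app c = (τ.hom.app c.unop).op := rfl

section Fact

variable {f f' g g'}

/-- a factorisation of `u : f c ⟶ g d'` through the square -/
structure Fact (d' : C₂') (c : C₁) (u : f.obj c ⟶ g.obj d') where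
  /-- the object -/
  c' : C₁'
  /-- the map to `d'` -/
  u' : f'.obj c' ⟶ d'
  /-- the map from `c` -/
  w : c ⟶ g'.obj c'
  fac : f.map w ≫ τ.hom.app c' ≫ g.map u' = u

variable {τ}

/-- an elementary step between factorisations -/
def Step {d' : C₂'} {c : C₁} {u : f.obj c ⟶ g.obj d'} (y x : Fact τ d' c u) : Prop :=
  ∃ t : y.c' ⟶ x.c', f'.map t ≫ x.u' = y.u' ∧ y.w ≫ g'.map t = x.w

variable (τ)

/-- the object of the comma category attached to a factorisation -/
def toObj {d' : C₂'} (k : StructuredArrow (op (g.obj d')) f.op)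
    (x : Fact τ d' k.right.unop k.hom.unop) :
    CostructuredArrow (cmp f.op f'.op g.op g'.op (τop f f' g g' τ) (op d')) k :=
  CostructuredArrow.mk (Y := StructuredArrow.mk (Y := op x.c') x.u'.op)
    (StructuredArrow.homMk x.w.op (by
      rw [cmp_obj_hom]
      apply Quiver.Hom.unop_inj
      simp only [τop_app, StructuredArrow.mk_right, StructuredArrow.mk_hom_eq_self, op_obj,
        op_map, unop_comp, Quiver.Hom.unop_op, Category.assoc]
      exact x.fac))

/-- the factorisation attached to an object of the comma category -/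
def ofObj {d' : C₂'} (k : StructuredArrow (op (g.obj d')) f.op)
    (j : CostructuredArrow (cmp f.op f'.op g.op g'.op (τop f f' g g' τ) (op d')) k) :
    Fact τ d' k.right.unop k.hom.unop where
  c' := j.left.right.unop
  u' := j.left.hom.unop
  w := j.hom.right.unop
  fac := by
    have h := StructuredArrow.w j.hom
    rw [cmp_obj_hom] at h
    have h' := congrArg Quiver.Hom.unop h
    simp only [τop_app, op_obj, op_map, unop_comp, Quiver.Hom.unop_op, Category.assoc] at h'
    exact h'

theorem toObj_ofObj {d' : C₂'} (k : StructuredArrow (op (g.obj d')) f.op)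
    (j : CostructuredArrow (cmp f.op f'.op g.op g'.op (τop f f' g g' τ) (op d')) k) :
    toObj τ k (ofObj τ k j) = j := rfl

theorem nonempty_hom_of_step {d' : C₂'} (k : StructuredArrow (op (g.obj d')) f.op)
    {y x : Fact τ d' k.right.unop k.hom.unop} (h : Step y x) :
    Nonempty (toObj τ k x ⟶ toObj τ k y) := by
  obtain ⟨t, h1, h2⟩ := h
  refine ⟨CostructuredArrow.homMk (StructuredArrow.homMk t.op ?_) ?_⟩
  · apply Quiver.Hom.unop_inj
    simp only [toObj, CostructuredArrow.mk_left, StructuredArrow.mk_hom_eq_self, op_map,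
      unop_comp, Quiver.Hom.unop_op, StructuredArrow.mk_right]
    exact h1
  · apply StructuredArrow.ext
    apply Quiver.Hom.unop_inj
    simp only [toObj, CostructuredArrow.mk_left, CostructuredArrow.mk_hom_eq_self,
      StructuredArrow.comp_right, StructuredArrow.homMk_right, StructuredArrow.map₂_map_right,
      unop_comp, Quiver.Hom.unop_op, op_map]
    exact h2

/-- **criterion**: the comparison functor is initial when factorisations are connected through a
base point -/
theorem initial_cmp_op (d' : C₂')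
    (h : ∀ (c : C₁) (u : f.obj c ⟶ g.obj d'), ∃ x₀ : Fact τ d' c u,
      ∀ x : Fact τ d' c u, ∃ y : Fact τ d' c u, Step y x ∧ Step y x₀) :
    (cmp f.op f'.op g.op g'.op (τop f f' g g' τ) (op d')).Initial := by
  refine ⟨fun k => ?_⟩
  obtain ⟨x₀, hx₀⟩ := h k.right.unop k.hom.unop
  haveI : Nonempty (CostructuredArrow (cmp f.op f'.op g.op g'.op (τop f f' g g' τ) (op d')) k) :=
    ⟨toObj τ k x₀⟩
  have hz : ∀ j : CostructuredArrow (cmp f.op f'.op g.op g'.op (τop f f' g g' τ) (op d')) k,
      Zigzag j (toObj τ k x₀) := by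
    intro j
    obtain ⟨y, hy1, hy2⟩ := hx₀ (ofObj τ k j)
    obtain ⟨a⟩ := nonempty_hom_of_step τ k hy1
    obtain ⟨b⟩ := nonempty_hom_of_step τ k hy2
    rw [toObj_ofObj] at a
    exact Zigzag.of_hom_inv a b
  exact zigzag_isConnected (fun j₁ j₂ => (hz j₁).trans (hz j₂).symm)

end Fact

section Sheaf

variable (J₁ : GrothendieckTopology C₁) (J₂ : GrothendieckTopology C₂)
  (J₁' : GrothendieckTopology C₁') (J₂' : GrothendieckTopology C₂')
  [f.IsContinuous J₁ J₂] [f.IsCocontinuous J₁ J₂] [f'.IsContinuous J₁' J₂']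
  [f'.IsCocontinuous J₁' J₂'] [g.IsContinuous J₂' J₂] [g'.IsContinuous J₁' J₁]

/-- right Kan extension of abelian sheaves along a cocontinuous functor -/
noncomputable abbrev ranS {C' C : Type u} [SmallCategory C'] [SmallCategory C] (ν : C' ⥤ C)
    (J' : GrothendieckTopology C') (J : GrothendieckTopology C) [ν.IsCocontinuous J' J] :
    Sheaf J' AddCommGrpCat.{u} ⥤ Sheaf J AddCommGrpCat.{u} :=
  ν.sheafPushforwardCocontinuous AddCommGrpCat.{u} J' J

/-- the adjunction between restriction and right Kan extension -/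
noncomputable abbrev adjS {C' C : Type u} [SmallCategory C'] [SmallCategory C] (ν : C' ⥤ C)
    (J' : GrothendieckTopology C') (J : GrothendieckTopology C) [ν.IsContinuous J' J]
    [ν.IsCocontinuous J' J] : rho ν J' J ⊣ ranS ν J' J :=
  ν.sheafAdjunctionCocontinuous AddCommGrpCat.{u} J' J

/-- the restriction isomorphism of the square -/
noncomputable def resSq : rho g J₂' J₂ ⋙ rho f' J₁' J₂' ≅ rho f J₁ J₂ ⋙ rho g' J₁' J₁ :=
  haveI : (f' ⋙ g).IsContinuous J₁' J₂ := Functor.isContinuous_comp f' g J₁' J₂' J₂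
  haveI : (g' ⋙ f).IsContinuous J₁' J₂ := Functor.isContinuous_comp g' f J₁' J₁ J₂
  Functor.sheafPushforwardContinuousComp f' g AddCommGrpCat.{u} J₁' J₂' J₂ ≪≫
    Functor.sheafPushforwardContinuousIso τ.symm AddCommGrpCat.{u} J₁' J₂ ≪≫
    (Functor.sheafPushforwardContinuousComp g' f AddCommGrpCat.{u} J₁' J₁ J₂).symm

theorem resSq_hom_app_hom_app (H : Sheaf J₂ AddCommGrpCat.{u}) (c' : C₁') :
    ((resSq f f' g g' τ J₁ J₂ J₁' J₂').hom.app H).hom.app (op c') =
      H.obj.map (τ.hom.app c').op := by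
  exact (Category.id_comp _).trans (Category.comp_id _)

/-- the base change morphism, mate of the restriction isomorphism -/
noncomputable def bc : ranS f J₁ J₂ ⋙ rho g J₂' J₂ ⟶ rho g' J₁' J₁ ⋙ ranS f' J₁' J₂' :=
  (mateEquiv (adjS f J₁ J₂) (adjS f' J₁' J₂')
    (TwoSquare.mk (rho g J₂' J₂) (rho f J₁ J₂) (rho f' J₁' J₂') (rho g' J₁' J₁)
      (resSq f f' g g' τ J₁ J₂ J₁' J₂').hom)).natTrans

theorem bc_fac (G₁ : Sheaf J₁ AddCommGrpCat.{u}) :
    (rho f' J₁' J₂').map ((bc f f' g g' τ J₁ J₂ J₁' J₂').app G₁) ≫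
        (adjS f' J₁' J₂').counit.app ((rho g' J₁' J₁).obj G₁) =
      (resSq f f' g g' τ J₁ J₂ J₁' J₂').hom.app ((ranS f J₁ J₂).obj G₁) ≫
        (rho g' J₁' J₁).map ((adjS f J₁ J₂).counit.app G₁) :=
  mateEquiv_counit (adjS f J₁ J₂) (adjS f' J₁' J₂')
    (TwoSquare.mk (rho g J₂' J₂) (rho f J₁ J₂) (rho f' J₁' J₂') (rho g' J₁' J₁)
      (resSq f f' g g' τ J₁ J₂ J₁' J₂').hom) G₁

/-- **base change for sheaves**: the mate is invertible at `d'` when the comparison functor is
initial -/
theorem isIso_bc_app_hom_app (G₁ : Sheaf J₁ AddCommGrpCat.{u}) (d' : C₂')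
    [(cmp f.op f'.op g.op g'.op (τop f f' g g' τ) (op d')).Initial] :
    IsIso (((bc f f' g g' τ J₁ J₂ J₁' J₂').app G₁).hom.app (op d')) := by
  let m : g.op ⋙ f.op.ran.obj G₁.obj ⟶ f'.op.ran.obj (g'.op ⋙ G₁.obj) :=
    ((bc f f' g g' τ J₁ J₂ J₁' J₂').app G₁).hom
  have hm : ∀ c' : C₁'ᵒᵖ, m.app (f'.op.obj c') ≫ (f'.op.ranCounit.app (g'.op ⋙ G₁.obj)).app c' =
      (f.op.ran.obj G₁.obj).map ((τop f f' g g' τ).app c') ≫
        (f.op.ranCounit.app G₁.obj).app (g'.op.obj c') := by
    intro c'
    induction c' using Opposite.rec with | op c' => ?_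
    have h := congrArg (fun φ => φ.hom.app (op c')) (bc_fac f f' g g' τ J₁ J₂ J₁' J₂' G₁)
    have e1 : ((adjS f' J₁' J₂').counit.app ((rho g' J₁' J₁).obj G₁)).hom =
        f'.op.ranCounit.app (g'.op ⋙ G₁.obj) := by
      rw [Functor.sheafAdjunctionCocontinuous_counit_app_hom, Functor.ranAdjunction_counit]
      rfl
    have e2 : ((adjS f J₁ J₂).counit.app G₁).hom = f.op.ranCounit.app G₁.obj := by
      rw [Functor.sheafAdjunctionCocontinuous_counit_app_hom, Functor.ranAdjunction_counit]
    have e3 := resSq_hom_app_hom_app f f' g g' τ J₁ J₂ J₁' J₂' ((ranS f J₁ J₂).obj G₁) c'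
    have h' : m.app (op (f'.obj c')) ≫
        ((adjS f' J₁' J₂').counit.app ((rho g' J₁' J₁).obj G₁)).hom.app (op c') =
        ((resSq f f' g g' τ J₁ J₂ J₁' J₂').hom.app ((ranS f J₁ J₂).obj G₁)).hom.app (op c') ≫
          ((adjS f J₁ J₂).counit.app G₁).hom.app (op (g'.obj c')) := h
    rw [e1, e2, e3] at h'
    exact h'
  exact isIso_app_of_fac f.op f'.op g.op g'.op (τop f f' g g' τ) G₁.obj m hm (op d')

end Sheaf

end Groth.Agent.Lib.BCSheafH7
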