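import Mathlib

/-!
# Three algebraic lemmas on base change (helper2)

* `isBaseChange_of_span` : a map `θ : M → N` over `OB → OA` which is a base change along `R' → R`
  is a base change along `OB → OA`, when `OA` is spanned over `R` by the image of `OB`.
* `isBaseChange_of_directed` : base change passes to directed unions (`M = ⋃ F_k (B_k)`,
  `N = ⋃ G_k (A_k)`, `A_k = R ⊗ B_k`).
* `isBaseChange_of_projection` : a direct summand of a base change cut out by compatible
  projections is a base change.
APPEND-ONLY once landed.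
-/

set_option autoImplicit false
open scoped TensorProduct

namespace Groth.Agent.Lib.BCSpanH2

section Span

variable {R' R OB OA M N : Type*} [CommRing R'] [CommRing R] [CommRing OB] [CommRing OA]
  [Algebra R' R] [Algebra R' OB] [Algebra R' OA] [Algebra R OA] [Algebra OB OA]
  [IsScalarTower R' R OA] [IsScalarTower R' OB OA]
  [AddCommGroup M] [Module R' M] [Module OB M] [IsScalarTower R' OB M]
  [AddCommGroup N] [Module R' N] [Module R N] [Module OB N] [Module OA N]
  [IsScalarTower R' R N] [IsScalarTower R OA N] [IsScalarTower OB OA N] [IsScalarTower R' OB N]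

/-- the canonical map `R ⊗[R'] M → OA ⊗[OB] M` -/
noncomputable def pMap : R ⊗[R'] M →ₗ[R'] OA ⊗[OB] M :=
  TensorProduct.lift
    (LinearMap.mk₂ R' (fun (r : R) (m : M) => (algebraMap R OA r) ⊗ₜ[OB] m)
      (fun r₁ r₂ m => by rw [map_add, TensorProduct.add_tmul])
      (fun c r m => by
        rw [TensorProduct.smul_tmul']
        congr 1
        rw [Algebra.smul_def, map_mul, ← IsScalarTower.algebraMap_apply, Algebra.smul_def])
      (fun r m₁ m₂ => TensorProduct.tmul_add _ _ _)
      (fun c r m => by rw [TensorProduct.tmul_smul]))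

theorem pMap_tmul (r : R) (m : M) :
    pMap (R' := R') (OB := OB) (OA := OA) (r ⊗ₜ[R'] m) = (algebraMap R OA r) ⊗ₜ[OB] m := rfl

theorem pMap_smul (r : R) (z : R ⊗[R'] M) :
    pMap (R' := R') (OB := OB) (OA := OA) (r • z) =
      algebraMap R OA r • pMap (R' := R') (OB := OB) (OA := OA) z := by
  induction z using TensorProduct.induction_on with
  | zero => simp
  | tmul r₁ m =>
    rw [TensorProduct.smul_tmul', smul_eq_mul, pMap_tmul, pMap_tmul, map_mul,
      TensorProduct.smul_tmul', smul_eq_mul]
  | add z₁ z₂ h₁ h₂ => rw [smul_add, map_add, map_add, smul_add, h₁, h₂]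

theorem pMap_surjective (hspan : Submodule.span R (Set.range (algebraMap OB OA)) = ⊤) :
    Function.Surjective (pMap (R' := R') (R := R) (OB := OB) (OA := OA) (M := M)) := by
  have key : ∀ (a : OA) (m : M), ∃ z : R ⊗[R'] M,
      pMap (R' := R') (OB := OB) (OA := OA) z = a ⊗ₜ[OB] m := by
    intro a
    have ha : a ∈ Submodule.span R (Set.range (algebraMap OB OA)) := by rw [hspan]; trivial
    induction ha using Submodule.span_induction with
    | mem a h =>
      obtain ⟨c, rfl⟩ := h
      intro m
      refine ⟨(1 : R) ⊗ₜ[R'] (c • m), ?_⟩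
      rw [pMap_tmul, map_one, TensorProduct.tmul_smul, TensorProduct.smul_tmul',
        Algebra.smul_def, mul_one]
    | zero =>
      intro m
      exact ⟨0, by rw [map_zero, TensorProduct.zero_tmul]⟩
    | add a a' _ _ h h' =>
      intro m
      obtain ⟨z, hz⟩ := h m
      obtain ⟨z', hz'⟩ := h' m
      exact ⟨z + z', by rw [map_add, hz, hz', TensorProduct.add_tmul]⟩
    | smul r a _ h =>
      intro m
      obtain ⟨z, hz⟩ := h m
      refine ⟨r • z, ?_⟩
      rw [pMap_smul, hz, TensorProduct.smul_tmul', smul_eq_mul, Algebra.smul_def]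
  intro x
  induction x using TensorProduct.induction_on with
  | zero => exact ⟨0, map_zero _⟩
  | tmul a m => exact key a m
  | add x y hx hy =>
    obtain ⟨z, hz⟩ := hx
    obtain ⟨z', hz'⟩ := hy
    exact ⟨z + z', by rw [map_add, hz, hz']⟩

/-- a map over `OB → OA` which is a base change along `R' → R` is a base change along `OB → OA`
when `OA` is spanned over `R` by the image of `OB` -/
theorem isBaseChange_of_span (θ : M →ₗ[OB] N)
    (hspan : Submodule.span R (Set.range (algebraMap OB OA)) = ⊤)
    (hbc : IsBaseChange R (θ.restrictScalars R')) : IsBaseChange OA θ := by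
  let q : OA ⊗[OB] M →ₗ[OA] N := θ.liftBaseChange OA
  have hqp : ∀ z : R ⊗[R'] M, q (pMap (R' := R') (OB := OB) (OA := OA) z) = hbc.equiv z := by
    intro z
    induction z using TensorProduct.induction_on with
    | zero => simp
    | tmul r m =>
      rw [pMap_tmul, LinearMap.liftBaseChange_tmul, IsBaseChange.equiv_tmul, algebraMap_smul]
      rfl
    | add z₁ z₂ h₁ h₂ => rw [map_add, map_add, map_add, h₁, h₂]
  have hps := pMap_surjective (R' := R') (R := R) (OB := OB) (OA := OA) (M := M) hspan
  have hq : Function.Bijective q := by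
    constructor
    · rw [injective_iff_map_eq_zero]
      intro x hx
      obtain ⟨z, rfl⟩ := hps x
      rw [hqp] at hx
      have hz : z = 0 := by
        apply hbc.equiv.injective
        rw [hx, map_zero]
      rw [hz, map_zero]
    · intro t
      obtain ⟨z, rfl⟩ := hbc.equiv.surjective t
      exact ⟨pMap (R' := R') (OB := OB) (OA := OA) z, hqp z⟩
  exact IsBaseChange.of_equiv (LinearEquiv.ofBijective q hq)
    (fun m => by
      show q ((1 : OA) ⊗ₜ[OB] m) = θ m
      rw [LinearMap.liftBaseChange_tmul, one_smul])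

end Span

section Directed

variable {R' R : Type*} [CommRing R'] [CommRing R] [Algebra R' R]
  {M N : Type*} [AddCommGroup M] [Module R' M] [AddCommGroup N] [Module R' N] [Module R N]
  [IsScalarTower R' R N] (θ : M →ₗ[R'] N)
  {ι : Type*} [Nonempty ι] (Bk : ι → Type*) (Ak : ι → Type*)
  [∀ k, AddCommGroup (Bk k)] [∀ k, Module R' (Bk k)]
  [∀ k, AddCommGroup (Ak k)] [∀ k, Module R' (Ak k)] [∀ k, Module R (Ak k)]
  [∀ k, IsScalarTower R' R (Ak k)]
  (F : ∀ k, Bk k →ₗ[R'] M) (G : ∀ k, Ak k →ₗ[R] N) (u : ∀ k, Bk k →ₗ[R'] Ak k)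

include F G u in
/-- base change passes to directed unions -/
theorem isBaseChange_of_directed (hu : ∀ k, IsBaseChange R (u k))
    (hcomm : ∀ k b, θ (F k b) = G k (u k b))
    (hU : ∀ m, ∃ k b, F k b = m)
    (hD : ∀ k₁ k₂, ∃ (K : ι) (τ₁ : Bk k₁ →ₗ[R'] Bk K) (τ₂ : Bk k₂ →ₗ[R'] Bk K),
      (∀ b, F K (τ₁ b) = F k₁ b) ∧ (∀ b, F K (τ₂ b) = F k₂ b))
    (hT : ∀ k (a : Ak k), G k a = 0 → ∃ (k' : ι) (τ : Bk k →ₗ[R'] Bk k')
      (σ : Ak k →ₗ[R] Ak k'), (∀ b, F k' (τ b) = F k b) ∧ (∀ b, u k' (τ b) = σ (u k b)) ∧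
        σ a = 0)
    (hS : ∀ t : N, ∃ k a, G k a = t) : IsBaseChange R θ := by
  let lift : R ⊗[R'] M →ₗ[R] N := θ.liftBaseChange R
  have key1 : ∀ k (w : R ⊗[R'] Bk k), lift ((F k).baseChange R w) = G k ((hu k).equiv w) := by
    intro k w
    induction w using TensorProduct.induction_on with
    | zero => simp
    | tmul r b =>
      rw [LinearMap.baseChange_tmul, LinearMap.liftBaseChange_tmul, IsBaseChange.equiv_tmul,
        map_smul, hcomm]
    | add w₁ w₂ h₁ h₂ => simp only [map_add, h₁, h₂]
  have hcompF : ∀ {k K : ι} (τ : Bk k →ₗ[R'] Bk K), (∀ b, F K (τ b) = F k b) →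
      ∀ w : R ⊗[R'] Bk k, (F K).baseChange R (τ.baseChange R w) = (F k).baseChange R w := by
    intro k K τ hτ w
    induction w using TensorProduct.induction_on with
    | zero => simp
    | tmul r b => rw [LinearMap.baseChange_tmul, LinearMap.baseChange_tmul,
        LinearMap.baseChange_tmul, hτ]
    | add w₁ w₂ h₁ h₂ => simp only [map_add, h₁, h₂]
  have key2 : ∀ z : R ⊗[R'] M, ∃ (k : ι) (w : R ⊗[R'] Bk k), (F k).baseChange R w = z := by
    intro z
    induction z using TensorProduct.induction_on with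
    | zero =>
      obtain ⟨k⟩ := ‹Nonempty ι›
      exact ⟨k, 0, map_zero _⟩
    | tmul r m =>
      obtain ⟨k, b, rfl⟩ := hU m
      exact ⟨k, r ⊗ₜ b, LinearMap.baseChange_tmul _ _ _⟩
    | add z₁ z₂ h₁ h₂ =>
      obtain ⟨k₁, w₁, rfl⟩ := h₁
      obtain ⟨k₂, w₂, rfl⟩ := h₂
      obtain ⟨K, τ₁, τ₂, hτ₁, hτ₂⟩ := hD k₁ k₂
      refine ⟨K, τ₁.baseChange R w₁ + τ₂.baseChange R w₂, ?_⟩
      rw [map_add, hcompF τ₁ hτ₁, hcompF τ₂ hτ₂]
  have hlift : Function.Bijective lift := by
    constructor
    · rw [injective_iff_map_eq_zero]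
      intro z hz
      obtain ⟨k, w, rfl⟩ := key2 z
      rw [key1] at hz
      obtain ⟨k', τ, σ, h1, h2, h3⟩ := hT k _ hz
      have h4 : ∀ w : R ⊗[R'] Bk k, (hu k').equiv (τ.baseChange R w) = σ ((hu k).equiv w) := by
        intro w
        induction w using TensorProduct.induction_on with
        | zero => simp
        | tmul r b =>
          rw [LinearMap.baseChange_tmul, IsBaseChange.equiv_tmul, IsBaseChange.equiv_tmul,
            map_smul, h2]
        | add w₁ w₂ h₁ h₂ => simp only [map_add, h₁, h₂]
      have h5 : τ.baseChange R w = 0 := by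
        apply (hu k').equiv.injective
        rw [h4, h3, map_zero]
      rw [← hcompF τ h1, h5, map_zero]
    · intro t
      obtain ⟨k, a, rfl⟩ := hS t
      obtain ⟨w, rfl⟩ := (hu k).equiv.surjective a
      exact ⟨(F k).baseChange R w, key1 k w⟩
  exact IsBaseChange.of_equiv (LinearEquiv.ofBijective lift hlift)
    (fun m => by
      show lift ((1 : R) ⊗ₜ[R'] m) = θ m
      rw [LinearMap.liftBaseChange_tmul, one_smul])

end Directed

section Proj

variable {R' R : Type*} [CommRing R'] [CommRing R] [Algebra R' R]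
  {B A : Type*} [AddCommGroup B] [Module R' B] [AddCommGroup A] [Module R' A] [Module R A]
  [IsScalarTower R' R A]

/-- a direct summand of a base change cut out by compatible projections is a base change -/
theorem isBaseChange_of_projection (j : B →ₗ[R'] A) (hj : IsBaseChange R j)
    (P : B →ₗ[R'] B) (P' : A →ₗ[R] A) (hPP : ∀ b, P (P b) = P b)
    (hjP : ∀ b, j (P b) = P' (j b))
    (Bi : Submodule R' B) (Ai : Submodule R A) (hBi : ∀ b, b ∈ Bi ↔ P b = b)
    (hAi : ∀ a, a ∈ Ai → P' a = a)
    (ui : Bi →ₗ[R'] Ai) (hui : ∀ b, (ui b : A) = j b) : IsBaseChange R ui := by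
  let lift : R ⊗[R'] Bi →ₗ[R] Ai := ui.liftBaseChange R
  let π : B →ₗ[R'] Bi := P.codRestrict Bi (fun b => (hBi _).mpr (hPP b))
  have fact1 : ∀ w : R ⊗[R'] Bi, ((lift w : Ai) : A) = hj.equiv (Bi.subtype.baseChange R w) := by
    intro w
    induction w using TensorProduct.induction_on with
    | zero => simp
    | tmul r b =>
      rw [LinearMap.liftBaseChange_tmul, LinearMap.baseChange_tmul, IsBaseChange.equiv_tmul,
        Submodule.coe_smul, hui]
      rfl
    | add w₁ w₂ h₁ h₂ => simp only [map_add, Submodule.coe_add, h₁, h₂]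
  have fact2 : ∀ w : R ⊗[R'] Bi, π.baseChange R (Bi.subtype.baseChange R w) = w := by
    intro w
    induction w using TensorProduct.induction_on with
    | zero => simp
    | tmul r b =>
      rw [LinearMap.baseChange_tmul, LinearMap.baseChange_tmul]
      congr 1
      apply Subtype.ext
      show P (b : B) = b
      exact (hBi _).mp b.2
    | add w₁ w₂ h₁ h₂ => simp only [map_add, h₁, h₂]
  have fact3 : ∀ z : R ⊗[R'] B, hj.equiv (Bi.subtype.baseChange R (π.baseChange R z)) =
      P' (hj.equiv z) := by
    intro z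
    induction z using TensorProduct.induction_on with
    | zero => simp
    | tmul r b =>
      rw [LinearMap.baseChange_tmul, LinearMap.baseChange_tmul, IsBaseChange.equiv_tmul,
        IsBaseChange.equiv_tmul, map_smul, ← hjP]
      rfl
    | add w₁ w₂ h₁ h₂ => simp only [map_add, h₁, h₂]
  have hlift : Function.Bijective lift := by
    constructor
    · rw [injective_iff_map_eq_zero]
      intro w hw
      have h1 := fact1 w
      rw [hw, Submodule.coe_zero] at h1
      have h2 : Bi.subtype.baseChange R w = 0 := by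
        apply hj.equiv.injective
        rw [← h1, map_zero]
      rw [← fact2 w, h2, map_zero]
    · intro a
      obtain ⟨z, hz⟩ := hj.equiv.surjective (a : A)
      refine ⟨π.baseChange R z, ?_⟩
      apply Subtype.ext
      rw [fact1, fact3, hz]
      exact hAi _ a.2
  exact IsBaseChange.of_equiv (LinearEquiv.ofBijective lift hlift)
    (fun m => by
      show lift ((1 : R) ⊗ₜ[R'] m) = ui m
      rw [LinearMap.liftBaseChange_tmul, one_smul])

end Proj

end Groth.Agent.Lib.BCSpanH2
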