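import Mathlib
import Groth.Prelude
import Groth.Agent.Lib.KRRReg3_helper9
import Groth.Agent.Lib.OpenImmCoh_helper9
import Groth.Agent.Lib.PushEdge2_helper7
import Groth.Agent.Lib.RpushVanish_helper9
import Groth.Agent.Lib.QcqsLoc_helper9
import Groth.Agent.Lib.HHVan_helper9

/-!
# Vanishing of higher direct images in high degrees is stable under base change (helper9)
APPEND-ONLY once landed.
-/

set_option autoImplicit false
universe u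
open CategoryTheory CategoryTheory.Limits AlgebraicGeometry Opposite TopologicalSpace

namespace BCVanish

open RpushVanish (fr)

section Step4

variable {X Y : Scheme.{u}} (f : X ⟶ Y) [QuasiCompact f] [QuasiSeparated f]
  [QuasiSeparatedSpace X]

/-- if `R^i f_*` kills all quasi-coherent modules for `i > d`, then so does `H^i(f⁻¹ V, -)` for
`V` an affine open of the base -/
theorem HH_subsingleton_of_hvan (d : ℕ)
    (hvan : ∀ (M : X.Modules) (i : ℕ), Coh.IsQCoh M → d < i →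
      IsZero ((Coh.RpushAb f i).obj (Coh.toAb M)))
    (V : Y.Opens) (hV : IsAffineOpen V)
    (G : ((f ⁻¹ᵁ V : X.Opens) : Scheme.{u}).Modules) [G.IsQuasicoherent] (i : ℕ) (hi : d < i) :
    Subsingleton (Coh.HH ((f ⁻¹ᵁ V : X.Opens) : Scheme.{u}) G i) := by
  haveI : IsAffine (V : Scheme.{u}) := hV
  haveI : CompactSpace ((f ⁻¹ᵁ V : X.Opens) : Scheme.{u}) :=
    QuasiCompact.compactSpace_of_compactSpace (f ∣_ V)
  haveI : QuasiCompact (f ⁻¹ᵁ V).ι := inferInstance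
  haveI : QuasiSeparated (f ⁻¹ᵁ V).ι := inferInstance
  haveI hq : ((Scheme.Modules.pushforward (f ⁻¹ᵁ V).ι).obj G).IsQuasicoherent :=
    QcqsLoc.isQuasicoherent_pushforward_qcqs (f ⁻¹ᵁ V).ι G
  have h1 := hvan ((Scheme.Modules.pushforward (f ⁻¹ᵁ V).ι).obj G) i hq hi
  have h2 := KRRRegH9.ext_eq_zero_of_isZero_Rpush f
    ((Scheme.Modules.pushforward (f ⁻¹ᵁ V).ι).obj G) i h1 V hV
  have key : ∀ O : X.Opens, (f ⁻¹ᵁ V).ι.opensRange = O →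
      (∀ ξ : Abelian.Ext (fr (Y := X.carrier) O)
        (Coh.toAb ((Scheme.Modules.pushforward (f ⁻¹ᵁ V).ι).obj G)) i, ξ = 0) →
      Subsingleton (Coh.HH ((f ⁻¹ᵁ V : X.Opens) : Scheme.{u})
        (((Scheme.Modules.pushforward (f ⁻¹ᵁ V).ι).obj G).restrict (f ⁻¹ᵁ V).ι) i) := by
    rintro O rfl h
    exact (OpenImmCohH9.ext_vanish_iff_restrict (f ⁻¹ᵁ V).ι _ i).mp h
  have h3 := key _ (Scheme.Opens.opensRange_ι _) h2
  exact Groth.Agent.HHVan.subsingleton_of_iso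
    ((Scheme.Modules.restrictFunctorAdjCounitIso (f ⁻¹ᵁ V).ι).app G) i h3

end Step4

section Main

variable {X Y X' Y' : Scheme.{u}} (f : X ⟶ Y) [QuasiCompact f] [QuasiSeparated f]
  [QuasiSeparatedSpace X]

/-- vanishing of `H^i(f'⁻¹ V', M')` for the base change -/
theorem ext_eq_zero_baseChange (d : ℕ)
    (hvan : ∀ (M : X.Modules) (i : ℕ), Coh.IsQCoh M → d < i →
      IsZero ((Coh.RpushAb f i).obj (Coh.toAb M)))
    (g : Y' ⟶ Y) (f' : X' ⟶ Y') (g' : X' ⟶ X) (sq : IsPullback g' f' f g)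
    (M' : X'.Modules) [M'.IsQuasicoherent] (i : ℕ) (hi : d < i)
    (V : Y.Opens) (hV : IsAffineOpen V) (V' : Y'.Opens) (hV' : IsAffineOpen V')
    (hVV' : V' ≤ g ⁻¹ᵁ V)
    (ξ : Abelian.Ext (fr (Y := X'.carrier) (f' ⁻¹ᵁ V')) (Coh.toAb M') i) : ξ = 0 := by
  haveI : IsAffine (V : Scheme.{u}) := hV
  haveI : IsAffine (V' : Scheme.{u}) := hV'
  -- the restricted square
  have hle : f' ⁻¹ᵁ V' ≤ g' ⁻¹ᵁ (f ⁻¹ᵁ V) := by
    rw [← Scheme.Hom.comp_preimage, sq.w, Scheme.Hom.comp_preimage]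
    exact f'.preimage_mono hVV'
  have hW : f' ⁻¹ᵁ V' = g' ⁻¹ᵁ (f ⁻¹ᵁ V) ⊓ f' ⁻¹ᵁ V' := (inf_eq_right.mpr hle).symm
  have H := Scheme.Hom.isPullback_resLE sq (US := V) (UT := V') (UX := f ⁻¹ᵁ V)
    (UY := f' ⁻¹ᵁ V') hVV' le_rfl hW
  haveI : IsAffineHom (g.resLE V V' hVV') := inferInstance
  haveI hφ : IsAffineHom (g'.resLE (f ⁻¹ᵁ V) (f' ⁻¹ᵁ V') hle) :=
    MorphismProperty.of_isPullback H.flip inferInstance
  -- cohomology over `f'⁻¹ V'`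
  haveI : (M'.restrict (f' ⁻¹ᵁ V').ι).IsQuasicoherent := inferInstance
  have hbij := Groth.Agent.Lib.PushEdge2_helper7.pushEdge_bijective_of_isAffineHom
    (g'.resLE (f ⁻¹ᵁ V) (f' ⁻¹ᵁ V') hle)
    (M'.restrict (f' ⁻¹ᵁ V').ι) i
  haveI hq : ((Scheme.Modules.pushforward
      (g'.resLE (f ⁻¹ᵁ V) (f' ⁻¹ᵁ V') hle)).obj
      (M'.restrict (f' ⁻¹ᵁ V').ι)).IsQuasicoherent :=
    QcqsLoc.isQuasicoherent_pushforward_qcqs _ _
  haveI := HH_subsingleton_of_hvan f d hvan V hV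
    ((Scheme.Modules.pushforward
      (g'.resLE (f ⁻¹ᵁ V) (f' ⁻¹ᵁ V') hle)).obj
      (M'.restrict (f' ⁻¹ᵁ V').ι)) i hi
  have h3 : Subsingleton (Coh.HH ((f' ⁻¹ᵁ V' : X'.Opens) : Scheme.{u})
      (M'.restrict (f' ⁻¹ᵁ V').ι) i) := by
    refine ⟨fun x y => ?_⟩
    obtain ⟨x', rfl⟩ := hbij.2 x
    obtain ⟨y', rfl⟩ := hbij.2 y
    rw [Subsingleton.elim x' y']
  have key : ∀ O : X'.Opens, (f' ⁻¹ᵁ V').ι.opensRange = O →
      ∀ ξ : Abelian.Ext (fr (Y := X'.carrier) O) (Coh.toAb M') i, ξ = 0 := by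
    rintro O rfl
    exact (OpenImmCohH9.ext_vanish_iff_restrict (f' ⁻¹ᵁ V').ι M' i).mpr h3
  exact key _ (Scheme.Opens.opensRange_ι _) ξ

/-- statement of S7448 -/
theorem main (d : ℕ)
    (hvan : ∀ (M : X.Modules) (i : ℕ), Coh.IsQCoh M → d < i →
      IsZero ((Coh.RpushAb f i).obj (Coh.toAb M)))
    (g : Y' ⟶ Y) (f' : X' ⟶ Y') (g' : X' ⟶ X) (sq : IsPullback g' f' f g)
    (M' : X'.Modules) [M'.IsQuasicoherent] (i : ℕ) (hi : d < i) :
    IsZero ((Coh.RpushAb f' i).obj (Coh.toAb M')) := by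
  obtain ⟨q, rfl⟩ : ∃ q, i = q + 1 := ⟨i - 1, by omega⟩
  refine RpushVanish.isZero_Rpush_succ_of_basis f'.base (Coh.toAb M') q
    (fun V' => IsAffineOpen V' ∧ ∃ V : Y.Opens, IsAffineOpen V ∧ V' ≤ g ⁻¹ᵁ V) ?_ ?_
  · intro O y hy
    obtain ⟨V, hV, hyV, -⟩ := Opens.isBasis_iff_nbhd.mp Y.isBasis_affineOpens
      (show g y ∈ (⊤ : Y.Opens) from trivial)
    have hy' : y ∈ O ⊓ g ⁻¹ᵁ V := ⟨hy, hyV⟩
    obtain ⟨V', hV', hyV', hle⟩ := Opens.isBasis_iff_nbhd.mp Y'.isBasis_affineOpens hy'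
    exact ⟨V', ⟨hV', V, hV, hle.trans inf_le_right⟩, hyV', hle.trans inf_le_left⟩
  · rintro V' ⟨hV', V, hV, hVV'⟩ ξ
    exact ext_eq_zero_baseChange f d hvan g f' g' sq M' (q + 1) hi V hV V' hV' hVV' ξ

end Main

end BCVanish
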