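import Mathlib
import Groth.Prelude.Def_W4bk4boschfrg79

/-!
# Base rings of class (N) or (V): elementary facts (helper3)
-/

set_option autoImplicit false
set_option maxSynthPendingDepth 3

namespace Groth.Agent.Lib.BLBaseH3

universe u

open AdicRing

section Val

variable {R : Type u} [CommRing R] [IsDomain R] [PreValuationRing R] [Ring.KrullDimLE 1 R]

/-- in a valuation ring of dimension `≤ 1`, a power of any non-unit is divisible by any nonzero
element -/
theorem exists_pow_eq_mul (t a : R) (ht : ¬ IsUnit t) (ha : a ≠ 0) : ∃ (k : ℕ) (c : R), t ^ k = a * c := by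
  haveI : ValuationRing R := {}
  have h1 : t ∈ (Ideal.span {a}).radical := by
    rw [Ideal.radical_eq_sInf, Ideal.mem_sInf]
    rintro J ⟨haJ, hJ⟩
    have hJ0 : J ≠ ⊥ := by
      intro h
      have : a ∈ J := haJ (Ideal.mem_span_singleton_self a)
      rw [h, Ideal.mem_bot] at this
      exact ha this
    have hJmax : J.IsMaximal := hJ.isMaximal_of_ne_bot hJ0
    rw [IsLocalRing.eq_maximalIdeal hJmax]
    exact (IsLocalRing.mem_maximalIdeal t).2 ht
  obtain ⟨k, hk⟩ := h1
  obtain ⟨c, hc⟩ := Ideal.mem_span_singleton'.1 hk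
  exact ⟨k, c, by rw [← hc, mul_comm]⟩

end Val

section Tors

variable {R : Type u} [CommRing R] [IsDomain R] (t : R) (ht : t ≠ 0) (n : ℕ)

include ht in
/-- `t` is a non-zero-divisor on the `(t)`-adic completion of a polynomial ring over a domain -/
theorem eq_zero_of_smul_eq_zero' (J : Ideal (MvPolynomial (Fin n) R))
    (hJspan : J = Ideal.span {(MvPolynomial.C t : MvPolynomial (Fin n) R)})
    (x : AdicCompletion J (MvPolynomial (Fin n) R)) (hx : t • x = 0) : x = 0 := by
  classical
  have hCt : (MvPolynomial.C t : MvPolynomial (Fin n) R) ≠ 0 := by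
    rw [Ne, MvPolynomial.C_eq_zero]
    exact ht
  obtain ⟨c, rfl⟩ := AdicCompletion.mk_surjective J _ x
  apply AdicCompletion.ext_evalₐ
  intro m
  rw [map_zero, AdicCompletion.evalₐ_mk, Ideal.Quotient.eq_zero_iff_mem]
  have h1 : AdicCompletion.evalₐ J (m + 1) (t • AdicCompletion.mk J _ c) = 0 := by
    rw [hx, map_zero]
  rw [Algebra.smul_def, map_mul, AdicCompletion.evalₐ_mk] at h1
  have h2 : AdicCompletion.evalₐ J (m + 1)
      (algebraMap R (AdicCompletion J (MvPolynomial (Fin n) R)) t) =
      Ideal.Quotient.mk (J ^ (m + 1)) (MvPolynomial.C t) := by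
    rw [AdicCompletion.algebraMap_apply, AdicCompletion.evalₐ_of]
    rfl
  rw [h2, ← map_mul, Ideal.Quotient.eq_zero_iff_mem] at h1
  have hJpow : ∀ k, J ^ k = Ideal.span {(MvPolynomial.C t : MvPolynomial (Fin n) R) ^ k} := by
    intro k
    rw [hJspan, Ideal.span_singleton_pow]
  have h1' : MvPolynomial.C t * c.val (m + 1) ∈
      Ideal.span {(MvPolynomial.C t : MvPolynomial (Fin n) R) ^ (m + 1)} := hJpow (m + 1) ▸ h1
  obtain ⟨d, hd⟩ := Ideal.mem_span_singleton'.1 h1'
  have h3 : c.val (m + 1) = d * MvPolynomial.C t ^ m := by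
    apply mul_left_cancel₀ hCt
    rw [← hd, pow_succ]
    ring
  have h4 : c.val (m + 1) ∈ J ^ m := by
    rw [h3, hJpow m]
    exact Ideal.mul_mem_left _ _ (Ideal.mem_span_singleton_self _)
  have h5 := AdicCompletion.Ideal.mk_eq_mk J (Nat.le_succ m) c
  rw [Ideal.Quotient.eq] at h5
  have h6 : c.val m = c.val (m + 1) - (c.val (m + 1) - c.val m) := by ring
  rw [h6]
  exact Ideal.sub_mem _ h4 h5

include ht in
theorem eq_zero_of_smul_eq_zero
    (x : AdicCompletion ((Ideal.span {t}).map (MvPolynomial.C : R →+* MvPolynomial (Fin n) R))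
      (MvPolynomial (Fin n) R)) (hx : t • x = 0) : x = 0 :=
  eq_zero_of_smul_eq_zero' t ht n _ (by rw [Ideal.map_span, Set.image_singleton]) x hx

end Tors

/-- Restricted power series over a base ring of class (N) or (V) are flat. -/
theorem flat_rpow (R : Type u) [CommRing R] (I : Ideal R) (hR : IsBase R I) (n : ℕ) :
    Module.Flat R (RPow R I n) := by
  obtain ⟨hcompl, hNV⟩ := hR
  rcases hNV with ⟨hnoeth, -⟩ | ⟨hdom, hval, hdim, t, ht0, rfl⟩
  · haveI := hnoeth
    haveI : Module.Flat (MvPolynomial (Fin n) R) (RPow R I n) := inferInstance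
    exact Module.Flat.trans R (MvPolynomial (Fin n) R) (RPow R I n)
  · haveI := hdom
    haveI := hval
    haveI := hdim
    haveI : ValuationRing R := {}
    rw [Module.Flat.flat_iff_torsion_eq_bot_of_isBezout, eq_bot_iff]
    rintro x ⟨⟨a, ha⟩, hax⟩
    have ha0 : a ≠ 0 := nonZeroDivisors.ne_zero ha
    have hax' : a • x = 0 := hax
    have htunit : ¬ IsUnit t := by
      intro hu
      have htop : Ideal.span {t} = ⊤ := Ideal.span_singleton_eq_top.2 hu
      haveI : IsHausdorff (⊤ : Ideal R) R := htop ▸ hcompl.toIsHausdorff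
      haveI := IsHausdorff.subsingleton (inferInstance : IsHausdorff (⊤ : Ideal R) R)
      exact not_subsingleton R inferInstance
    obtain ⟨k, c, hk⟩ := exists_pow_eq_mul t a htunit ha0
    have h1 : t ^ k • x = 0 := by
      rw [hk, mul_comm, mul_smul, hax', smul_zero]
    rw [Submodule.mem_bot]
    clear hk hax hax'
    induction k with
    | zero => simpa using h1
    | succ k ih =>
      apply ih
      apply eq_zero_of_smul_eq_zero t ht0 n
      rw [← mul_smul, ← pow_succ']
      exact h1

end Groth.Agent.Lib.BLBaseH3
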