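import Mathlib
import Groth.Prelude.Def_EtGlue

/-!
# Beauville–Laszlo glueing: basic library (helper4)

`R → R'` with `R/f^n ≅ R'/f^n R'` for all `n > 0` (`EtGlue.QuotPowBijective`).
* `q1`, `q2`: elementary consequences.
* `exists_one_tmul`, `eq_zero_of_one_tmul_eq_zero`: for an `f`-power torsion module `T`, `T → R' ⊗ T`
  is bijective.
* `TB`: torsion bijectivity; `tb_of_glueingPair`, `glueingPair_of_tb`.
* `torsion_lift`: for a glueing pair, `f^n`-torsion of `R' ⊗ N` comes from `f^n`-torsion of `N`.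
* `glueable_iff`, `glueable_iff_of_pair`.
-/

set_option autoImplicit false
set_option linter.unusedSectionVars false

namespace Groth.Agent.Lib.EtGlueH4

open TensorProduct

universe u

section Basic

variable {R R' : Type u} [CommRing R] [CommRing R'] [Algebra R R'] {f : R}

lemma q1 (hq : EtGlue.QuotPowBijective R R' f) (n : ℕ) (x' : R') :
    ∃ (a : R) (s' : R'), x' = algebraMap R R' a + algebraMap R R' (f ^ n) * s' := by
  rcases Nat.eq_zero_or_pos n with rfl | hn
  · exact ⟨0, x', by simp⟩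
  · obtain ⟨y, hy⟩ := (hq n hn).2 (Ideal.Quotient.mk _ x')
    obtain ⟨a, rfl⟩ := Ideal.Quotient.mk_surjective y
    rw [Ideal.quotientMap_mk, Ideal.Quotient.eq, Ideal.map_span, Set.image_singleton,
      Ideal.mem_span_singleton'] at hy
    obtain ⟨s, hs⟩ := hy
    exact ⟨a, -s, by rw [mul_neg, mul_comm, hs]; ring⟩

lemma q2 (hq : EtGlue.QuotPowBijective R R' f) (n : ℕ) (a : R) (s' : R')
    (h : algebraMap R R' a = algebraMap R R' (f ^ n) * s') : ∃ b : R, a = f ^ n * b := by
  rcases Nat.eq_zero_or_pos n with rfl | hn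
  · exact ⟨a, by simp⟩
  · have h0 : Ideal.quotientMap (Ideal.map (algebraMap R R') (Ideal.span {f ^ n}))
        (algebraMap R R') Ideal.le_comap_map (Ideal.Quotient.mk (Ideal.span {f ^ n}) a) = 0 := by
      rw [Ideal.quotientMap_mk, Ideal.Quotient.eq_zero_iff_mem, Ideal.map_span,
        Set.image_singleton, Ideal.mem_span_singleton']
      exact ⟨s', by rw [mul_comm, h]⟩
    have h1 : Ideal.Quotient.mk (Ideal.span {f ^ n}) a = 0 :=
      (hq n hn).1 (by rw [h0, map_zero])
    rw [Ideal.Quotient.eq_zero_iff_mem, Ideal.mem_span_singleton'] at h1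
    obtain ⟨b, hb⟩ := h1
    exact ⟨b, by rw [← hb, mul_comm]⟩

variable (M : Type u) [AddCommGroup M] [Module R M]

lemma tmul_eq_one_tmul (hq : EtGlue.QuotPowBijective R R' f) {n : ℕ} {t : M}
    (ht : f ^ n • t = 0) (x' : R') :
    ∃ a : R, x' ⊗ₜ[R] t = (1 : R') ⊗ₜ[R] (a • t) := by
  obtain ⟨a, s', rfl⟩ := q1 hq n x'
  refine ⟨a, ?_⟩
  rw [add_tmul, Algebra.algebraMap_eq_smul_one a, smul_tmul, ← Algebra.smul_def, smul_tmul, ht,
    tmul_zero, add_zero]

lemma exists_one_tmul (hq : EtGlue.QuotPowBijective R R' f)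
    (htors : ∀ t : M, ∃ n : ℕ, f ^ n • t = 0) (z : R' ⊗[R] M) :
    ∃ t : M, z = (1 : R') ⊗ₜ[R] t := by
  induction z using TensorProduct.induction_on with
  | zero => exact ⟨0, by simp⟩
  | tmul x' t =>
    obtain ⟨n, hn⟩ := htors t
    obtain ⟨a, ha⟩ := tmul_eq_one_tmul M hq hn x'
    exact ⟨a • t, ha⟩
  | add z₁ z₂ h₁ h₂ =>
    obtain ⟨t₁, rfl⟩ := h₁
    obtain ⟨t₂, rfl⟩ := h₂
    exact ⟨t₁ + t₂, by rw [tmul_add]⟩

lemma decomp (hq : EtGlue.QuotPowBijective R R' f) (n : ℕ) (w : R' ⊗[R] M) :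
    ∃ (k : M) (w₂ : R' ⊗[R] M), w = (1 : R') ⊗ₜ[R] k + f ^ n • w₂ := by
  induction w using TensorProduct.induction_on with
  | zero => exact ⟨0, 0, by simp⟩
  | tmul x' t =>
    obtain ⟨a, s', rfl⟩ := q1 hq n x'
    refine ⟨a • t, s' ⊗ₜ[R] t, ?_⟩
    rw [add_tmul, Algebra.algebraMap_eq_smul_one a, smul_tmul, ← Algebra.smul_def, smul_tmul']
  | add z₁ z₂ h₁ h₂ =>
    obtain ⟨k₁, w₁, rfl⟩ := h₁
    obtain ⟨k₂, w₂, rfl⟩ := h₂
    exact ⟨k₁ + k₂, w₁ + w₂, by rw [tmul_add, smul_add]; abel⟩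

/-- the `R`-linear map `R' → R'/f^n R' ≅ R/f^n`. -/
noncomputable def sigma (hq : EtGlue.QuotPowBijective R R' f) (n : ℕ) (hn : 0 < n) :
    R' →ₗ[R] R ⧸ Ideal.span {f ^ n} where
  toFun x' := (RingEquiv.ofBijective _ (hq n hn)).symm (Ideal.Quotient.mk _ x')
  map_add' x y := by simp only [map_add]
  map_smul' r x := by
    simp only [RingHom.id_apply, Algebra.smul_def, map_mul]
    congr 1
    rw [RingEquiv.symm_apply_eq]
    simp

lemma sigma_one (hq : EtGlue.QuotPowBijective R R' f) (n : ℕ) (hn : 0 < n) :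
    sigma hq n hn (1 : R') = 1 := by
  simp [sigma]

lemma eq_zero_of_one_tmul_eq_zero_of_pow (hq : EtGlue.QuotPowBijective R R' f) (n : ℕ)
    (hT : ∀ t : M, f ^ n • t = 0) {t : M} (h : (1 : R') ⊗ₜ[R] t = 0) : t = 0 := by
  have hT' : ∀ t : M, f ^ (n + 1) • t = 0 := fun t => by
    rw [pow_succ, mul_comm, mul_smul, hT, smul_zero]
  have h1 := congrArg (LinearMap.rTensor M (sigma hq (n + 1) n.succ_pos)) h
  rw [LinearMap.rTensor_tmul, map_zero, sigma_one] at h1
  have h2 := congrArg (TensorProduct.quotTensorEquivQuotSMul M (Ideal.span {f ^ (n + 1)})) h1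
  rw [TensorProduct.quotTensorEquivQuotSMul_mk_one_tmul, map_zero,
    Submodule.Quotient.mk_eq_zero] at h2
  have h3 : (Ideal.span {f ^ (n + 1)}) • (⊤ : Submodule R M) ≤ ⊥ := by
    rw [Submodule.smul_le]
    intro r hr m _
    obtain ⟨a, rfl⟩ := Ideal.mem_span_singleton'.mp hr
    rw [Submodule.mem_bot, mul_smul, hT', smul_zero]
  exact (Submodule.mem_bot R).mp (h3 h2)

lemma eq_zero_of_one_tmul_eq_zero (hq : EtGlue.QuotPowBijective R R' f)
    (htors : ∀ t : M, ∃ n : ℕ, f ^ n • t = 0) {t : M} (h : (1 : R') ⊗ₜ[R] t = 0) : t = 0 := by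
  have h' : t ⊗ₜ[R] (1 : R') = 0 := by
    have := congrArg (TensorProduct.comm R R' M) h
    simpa using this
  have hP : (Submodule.span R {t}).FG := Submodule.fg_span_singleton t
  have h0 : LinearMap.rTensor R' (Submodule.span R {t}).subtype
      ((⟨t, Submodule.mem_span_singleton_self t⟩ : Submodule.span R {t}) ⊗ₜ[R] (1 : R')) = 0 := by
    rw [LinearMap.rTensor_tmul]; exact h'
  obtain ⟨Q, hPQ, hQ, hz⟩ := TensorProduct.eq_zero_of_fg_of_subtype_eq_zero hP h0
  rw [LinearMap.rTensor_tmul] at hz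
  obtain ⟨n, hn⟩ : ∃ n : ℕ, ∀ q ∈ Q, f ^ n • q = 0 := by
    obtain ⟨S, hS⟩ := hQ
    choose g hg using htors
    refine ⟨S.sup g, fun q hq => ?_⟩
    rw [← hS] at hq
    induction hq using Submodule.span_induction with
    | mem x hx =>
      have hle : g x ≤ S.sup g := Finset.le_sup (Finset.mem_coe.mp hx)
      rw [← Nat.sub_add_cancel hle, pow_add, mul_smul, hg, smul_zero]
    | zero => exact smul_zero _
    | add x y _ _ hx hy => rw [smul_add, hx, hy, add_zero]
    | smul a x _ hx => rw [smul_comm, hx, smul_zero]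
  have hz' : (1 : R') ⊗ₜ[R]
      (Submodule.inclusion hPQ (⟨t, Submodule.mem_span_singleton_self t⟩ : Submodule.span R {t}))
        = 0 := by
    have := congrArg (TensorProduct.comm R Q R') hz
    simpa using this
  have h4 := eq_zero_of_one_tmul_eq_zero_of_pow (M := Q) hq n
    (fun q => Subtype.ext (by simpa using hn q.1 q.2)) hz'
  have h5 := congrArg Subtype.val h4
  simpa using h5

lemma exists_eq_pow_smul (hq : EtGlue.QuotPowBijective R R' f) (n : ℕ) (m : M)
    (x : R' ⊗[R] M) (h : (1 : R') ⊗ₜ[R] m = f ^ n • x) : ∃ m₁ : M, m = f ^ n • m₁ := by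
  let Nn : Submodule R M := LinearMap.range ((f ^ n) • (LinearMap.id : M →ₗ[R] M))
  have hkill : ∀ t : M ⧸ Nn, f ^ n • t = 0 := by
    intro t
    obtain ⟨m', rfl⟩ := Submodule.Quotient.mk_surjective Nn t
    rw [← Submodule.Quotient.mk_smul, Submodule.Quotient.mk_eq_zero]
    exact ⟨m', by simp⟩
  have hkill' : ∀ z : R' ⊗[R] (M ⧸ Nn), f ^ n • z = 0 := by
    intro z
    induction z using TensorProduct.induction_on with
    | zero => simp
    | tmul x' t => rw [← tmul_smul, hkill, tmul_zero]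
    | add z₁ z₂ h₁ h₂ => rw [smul_add, h₁, h₂, add_zero]
  have h1 := congrArg (LinearMap.lTensor R' Nn.mkQ) h
  rw [LinearMap.lTensor_tmul, map_smul, hkill'] at h1
  have h2 := eq_zero_of_one_tmul_eq_zero_of_pow (M := M ⧸ Nn) hq n hkill h1
  rw [Submodule.mkQ_apply, Submodule.Quotient.mk_eq_zero] at h2
  obtain ⟨m₁, hm₁⟩ := h2
  exact ⟨m₁, by simpa using hm₁.symm⟩

end Basic

section Pair

variable {R R' : Type u} [CommRing R] [CommRing R'] [Algebra R R'] {f : R}

/-- torsion bijectivity. -/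
structure TB (R R' : Type u) [CommRing R] [CommRing R'] [Algebra R R'] (f : R) : Prop where
  inj : ∀ x : R, (∃ n : ℕ, f ^ n * x = 0) → algebraMap R R' x = 0 → x = 0
  surj : ∀ x' : R', (∃ n : ℕ, algebraMap R R' f ^ n * x' = 0) →
    ∃ x : R, (∃ n : ℕ, f ^ n * x = 0) ∧ algebraMap R R' x = x'

lemma TB.surj_pow (h : TB R R' f) (n : ℕ) (x' : R') (hx' : algebraMap R R' f ^ n * x' = 0) :
    ∃ x : R, f ^ n * x = 0 ∧ algebraMap R R' x = x' := by
  obtain ⟨x, ⟨k, hk⟩, hx⟩ := h.surj x' ⟨n, hx'⟩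
  refine ⟨x, h.inj _ ⟨k, ?_⟩ ?_, hx⟩
  · rw [mul_left_comm, hk, mul_zero]
  · rw [map_mul, map_pow, hx, hx']

lemma awayMap_algebraMap (a : R) :
    Localization.awayMap (algebraMap R R') f (algebraMap R (Localization.Away f) a)
      = algebraMap R' (Localization.Away (algebraMap R R' f)) (algebraMap R R' a) := by
  simp [Localization.awayMap, IsLocalization.Away.map]

theorem tb_of_glueingPair (h : EtGlue.IsGlueingPair R R' f) : TB R R' f := by
  obtain ⟨hq, hinj, hmid, hsurj⟩ := h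
  constructor
  · rintro x ⟨n, hn⟩ hx
    have h2 : algebraMap R (Localization.Away f) x = 0 := by
      rw [IsLocalization.map_eq_zero_iff (Submonoid.powers f)]
      exact ⟨⟨f ^ n, n, rfl⟩, hn⟩
    exact hinj (a₁ := x) (a₂ := 0) (by simp only [hx, h2, map_zero])
  · rintro x' ⟨n, hn⟩
    have h2 : algebraMap R' (Localization.Away (algebraMap R R' f)) x' = 0 := by
      rw [IsLocalization.map_eq_zero_iff (Submonoid.powers (algebraMap R R' f))]
      exact ⟨⟨algebraMap R R' f ^ n, n, rfl⟩, hn⟩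
    obtain ⟨r, hr1, hr2⟩ := hmid x' 0 (by rw [h2, map_zero])
    rw [IsLocalization.map_eq_zero_iff (Submonoid.powers f)] at hr2
    obtain ⟨⟨_, k, rfl⟩, hk⟩ := hr2
    exact ⟨r, ⟨k, hk⟩, hr1⟩

theorem glueingPair_of_tb (hq : EtGlue.QuotPowBijective R R' f) (h : TB R R' f) :
    EtGlue.IsGlueingPair R R' f := by
  have torsion_zero : ∀ t : R, (∃ k : ℕ, f ^ k * t = 0) →
      algebraMap R (Localization.Away f) t = 0 := by
    rintro t ⟨k, hk⟩
    rw [IsLocalization.map_eq_zero_iff (Submonoid.powers f)]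
    exact ⟨⟨f ^ k, k, rfl⟩, hk⟩
  refine ⟨hq, ?_, ?_, ?_⟩
  · intro r₁ r₂ h12
    simp only [Prod.mk.injEq] at h12
    obtain ⟨h1, h2⟩ := h12
    have h3 : algebraMap R (Localization.Away f) (r₁ - r₂) = 0 := by rw [map_sub, h2, sub_self]
    rw [IsLocalization.map_eq_zero_iff (Submonoid.powers f)] at h3
    obtain ⟨⟨_, k, rfl⟩, hk⟩ := h3
    have := h.inj (r₁ - r₂) ⟨k, hk⟩ (by rw [map_sub, h1, sub_self])
    exact sub_eq_zero.mp this
  · intro x y hxy
    obtain ⟨n, a, hya⟩ := IsLocalization.Away.surj f y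
    have hψ : Localization.awayMap (algebraMap R R') f y
        * algebraMap R' (Localization.Away (algebraMap R R' f)) (algebraMap R R' f) ^ n
        = algebraMap R' (Localization.Away (algebraMap R R' f)) (algebraMap R R' a) := by
      rw [← awayMap_algebraMap, ← awayMap_algebraMap, ← map_pow, ← map_mul, hya]
    have h0 : algebraMap R' (Localization.Away (algebraMap R R' f))
        (x * algebraMap R R' f ^ n - algebraMap R R' a) = 0 := by
      rw [map_sub, map_mul, map_pow, hxy, hψ, sub_self]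
    rw [IsLocalization.map_eq_zero_iff (Submonoid.powers (algebraMap R R' f))] at h0
    obtain ⟨⟨_, N, rfl⟩, hN⟩ := h0
    obtain ⟨t, ht, hφt⟩ := h.surj _ ⟨N, hN⟩
    obtain ⟨r₀, hr₀⟩ := q2 hq n (a + t) x (by rw [map_add, hφt, map_pow]; ring)
    have h5 : algebraMap R R' f ^ n * (x - algebraMap R R' r₀) = 0 := by
      have : algebraMap R R' (a + t) = algebraMap R R' (f ^ n * r₀) := by rw [hr₀]
      rw [map_add, hφt, map_mul, map_pow] at this
      rw [mul_sub, ← this]; ring
    obtain ⟨t', ht', hφt'⟩ := h.surj _ ⟨n, h5⟩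
    refine ⟨r₀ + t', by rw [map_add, hφt']; ring, ?_⟩
    rw [map_add, torsion_zero t' ht', add_zero]
    have hu : IsUnit (algebraMap R (Localization.Away f) f ^ n) :=
      (IsLocalization.Away.algebraMap_isUnit f).pow n
    apply hu.mul_left_injective
    show algebraMap R (Localization.Away f) r₀ * algebraMap R (Localization.Away f) f ^ n
      = y * algebraMap R (Localization.Away f) f ^ n
    rw [hya, ← map_pow, ← map_mul, mul_comm, ← hr₀, map_add, torsion_zero t ht, add_zero]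
  · intro z
    obtain ⟨n, a', hz⟩ := IsLocalization.Away.surj (algebraMap R R' f) z
    obtain ⟨a, s', rfl⟩ := q1 hq n a'
    refine ⟨s', - IsLocalization.mk' (Localization.Away f) a
      (⟨f ^ n, n, rfl⟩ : Submonoid.powers f), ?_⟩
    have hspec := IsLocalization.mk'_spec (Localization.Away f) a
      (⟨f ^ n, n, rfl⟩ : Submonoid.powers f)
    have hψ := congrArg (Localization.awayMap (algebraMap R R') f) hspec
    rw [map_mul, awayMap_algebraMap, awayMap_algebraMap] at hψ
    dsimp only at hψ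
    have hu : IsUnit (algebraMap R' (Localization.Away (algebraMap R R' f))
        (algebraMap R R' f) ^ n) :=
      (IsLocalization.Away.algebraMap_isUnit (algebraMap R R' f)).pow n
    apply hu.mul_left_injective
    have e : algebraMap R' (Localization.Away (algebraMap R R' f)) (algebraMap R R' f) ^ n
        = algebraMap R' (Localization.Away (algebraMap R R' f)) (algebraMap R R' (f ^ n)) := by
      rw [map_pow, map_pow]
    simp only []
    rw [hz, map_neg, sub_neg_eq_add, add_mul, e, hψ, map_add, map_mul]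
    ring

end Pair

end Groth.Agent.Lib.EtGlueH4
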