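import Mathlib
import Groth.Prelude.Def_EtGlue
import Groth.Agent.Lib.EtGlue_helper4

/-!
# Beauville–Laszlo glueing: finite type detection (helper4)

For `R → R'` with `R/f^n ≅ R'/f^n R'` and an `R`-algebra map `φ : A → B`:
`φ` is of finite type iff `A_f → B_f` and `R' ⊗ A → R' ⊗ B` are.
-/

set_option autoImplicit false
set_option linter.unusedSectionVars false

namespace Groth.Agent.Lib.EtGlueH4

open TensorProduct

universe u

section FTGeneral

lemma finiteType_iff_closure {X Y : Type*} [CommRing X] [CommRing Y] (ψ : X →+* Y) :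
    ψ.FiniteType ↔ ∃ s : Finset Y, Subring.closure (Set.range ψ ∪ (s : Set Y)) = ⊤ := by
  letI := ψ.toAlgebra
  have hψ : algebraMap X Y = ψ := rfl
  constructor
  · rintro ⟨⟨s, hs⟩⟩
    refine ⟨s, ?_⟩
    have := congrArg Subalgebra.toSubring hs
    rwa [Algebra.adjoin_eq_ring_closure, Algebra.top_toSubring, hψ] at this
  · rintro ⟨s, hs⟩
    refine ⟨⟨s, ?_⟩⟩
    apply Subalgebra.toSubring_injective
    rw [Algebra.adjoin_eq_ring_closure, Algebra.top_toSubring, hψ]; exact hs

lemma awayMap_algebraMap' {X Y : Type*} [CommRing X] [CommRing Y] (ψ : X →+* Y) (r : X) (x : X) :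
    Localization.awayMap ψ r (algebraMap X (Localization.Away r) x) =
      algebraMap Y (Localization.Away (ψ r)) (ψ x) :=
  IsLocalization.map_eq _ x

lemma away_eq_mul_pow {X Y : Type*} [CommRing X] [CommRing Y] (ψ : X →+* Y) (r : X)
    (y : Localization.Away (ψ r)) :
    ∃ (n : ℕ) (b : Y), y = algebraMap Y (Localization.Away (ψ r)) b *
      (Localization.awayMap ψ r (IsLocalization.Away.invSelf r)) ^ n := by
  obtain ⟨n, b, hb⟩ := IsLocalization.Away.surj (ψ r) y
  refine ⟨n, b, ?_⟩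
  have h1 : algebraMap Y (Localization.Away (ψ r)) (ψ r) *
      Localization.awayMap ψ r (IsLocalization.Away.invSelf r) = 1 := by
    rw [← awayMap_algebraMap', ← map_mul, IsLocalization.Away.mul_invSelf, map_one]
  rw [← hb, mul_assoc, ← mul_pow, h1, one_pow, mul_one]

lemma exists_mem_closure_singleton {X Y : Type*} [CommRing X] [CommRing Y] (ψ : X →+* Y) (r : X)
    (y : Localization.Away (ψ r)) :
    ∃ b : Y, y ∈ Subring.closure (Set.range (Localization.awayMap ψ r) ∪
        {algebraMap Y (Localization.Away (ψ r)) b}) := by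
  obtain ⟨n, b, rfl⟩ := away_eq_mul_pow ψ r y
  have hv : Localization.awayMap ψ r (IsLocalization.Away.invSelf r) ∈
      Subring.closure (Set.range (Localization.awayMap ψ r) ∪
        {algebraMap Y (Localization.Away (ψ r)) b}) :=
    Subring.subset_closure (Or.inl ⟨_, rfl⟩)
  exact ⟨b, Subring.mul_mem _ (Subring.subset_closure (Or.inr rfl)) (pow_mem hv n)⟩

lemma awayMap_finiteType {X Y : Type*} [CommRing X] [CommRing Y] (ψ : X →+* Y) (r : X)
    (h : ψ.FiniteType) : (Localization.awayMap ψ r).FiniteType := by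
  classical
  rw [finiteType_iff_closure] at h ⊢
  obtain ⟨s, hs⟩ := h
  refine ⟨s.image (algebraMap Y (Localization.Away (ψ r))), ?_⟩
  rw [eq_top_iff]
  have hι : ∀ b : Y, algebraMap Y (Localization.Away (ψ r)) b ∈
      Subring.closure (Set.range (Localization.awayMap ψ r) ∪
        ((s.image (algebraMap Y (Localization.Away (ψ r))) : Finset _) : Set _)) := by
    intro b
    have : (⊤ : Subring Y) ≤ (Subring.closure (Set.range (Localization.awayMap ψ r) ∪
        ((s.image (algebraMap Y (Localization.Away (ψ r))) : Finset _) : Set _))).comap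
          (algebraMap Y (Localization.Away (ψ r))) := by
      rw [← hs, Subring.closure_le]
      rintro _ (⟨x, rfl⟩ | ht)
      · rw [SetLike.mem_coe, Subring.mem_comap, ← awayMap_algebraMap']
        exact Subring.subset_closure (Or.inl ⟨_, rfl⟩)
      · rw [SetLike.mem_coe, Subring.mem_comap]
        exact Subring.subset_closure (Or.inr (Finset.mem_coe.mpr
          (Finset.mem_image_of_mem _ (Finset.mem_coe.mp ht))))
    exact this (Subring.mem_top b)
  intro y _
  obtain ⟨n, b, rfl⟩ := away_eq_mul_pow ψ r y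
  have hv : Localization.awayMap ψ r (IsLocalization.Away.invSelf r) ∈
      Subring.closure (Set.range (Localization.awayMap ψ r) ∪
        ((s.image (algebraMap Y (Localization.Away (ψ r))) : Finset _) : Set _)) :=
    Subring.subset_closure (Or.inl ⟨_, rfl⟩)
  exact Subring.mul_mem _ (hι b) (pow_mem hv n)

lemma exists_pow_mul_mem {X Y : Type*} [CommRing X] [CommRing Y] (ψ : X →+* Y) (r : X)
    (Y₀ : Subring Y) (hψ : ∀ x, ψ x ∈ Y₀) (T : Set Y) (hT : T ⊆ Y₀)
    (h : Subring.closure (Set.range (Localization.awayMap ψ r) ∪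
        (algebraMap Y (Localization.Away (ψ r))) '' T) = ⊤) (b : Y) :
    ∃ k : ℕ, ψ r ^ k * b ∈ Y₀ := by
  let L : Subring (Localization.Away (ψ r)) :=
    { carrier := {y | ∃ k : ℕ, ∃ b₀ ∈ Y₀,
        y * algebraMap Y (Localization.Away (ψ r)) (ψ r) ^ k =
          algebraMap Y (Localization.Away (ψ r)) b₀}
      zero_mem' := ⟨0, 0, Y₀.zero_mem, by simp⟩
      one_mem' := ⟨0, 1, Y₀.one_mem, by simp⟩
      add_mem' := by
        rintro y₁ y₂ ⟨k₁, b₁, hb₁, h₁⟩ ⟨k₂, b₂, hb₂, h₂⟩
        refine ⟨k₁ + k₂, b₁ * ψ r ^ k₂ + b₂ * ψ r ^ k₁,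
          Y₀.add_mem (Y₀.mul_mem hb₁ (Y₀.pow_mem (hψ r) _))
            (Y₀.mul_mem hb₂ (Y₀.pow_mem (hψ r) _)), ?_⟩
        rw [map_add, map_mul, map_mul, map_pow, map_pow, ← h₁, ← h₂, pow_add]; ring
      neg_mem' := by
        rintro y ⟨k, b, hb, h⟩
        exact ⟨k, -b, Y₀.neg_mem hb, by rw [map_neg, ← h, neg_mul]⟩
      mul_mem' := by
        rintro y₁ y₂ ⟨k₁, b₁, hb₁, h₁⟩ ⟨k₂, b₂, hb₂, h₂⟩
        refine ⟨k₁ + k₂, b₁ * b₂, Y₀.mul_mem hb₁ hb₂, ?_⟩
        rw [map_mul, ← h₁, ← h₂, pow_add]; ring }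
  have hL : L = ⊤ := by
    rw [eq_top_iff, ← h, Subring.closure_le]
    rintro _ (⟨x, rfl⟩ | ⟨t, ht, rfl⟩)
    · obtain ⟨n, a, ha⟩ := IsLocalization.Away.surj r x
      refine ⟨n, ψ a, hψ a, ?_⟩
      have := congrArg (Localization.awayMap ψ r) ha
      rw [map_mul, map_pow, awayMap_algebraMap', awayMap_algebraMap'] at this
      exact this
    · exact ⟨0, t, hT ht, by simp⟩
  have hb : algebraMap Y (Localization.Away (ψ r)) b ∈ L := by rw [hL]; trivial
  obtain ⟨k, b₀, hb₀, hk⟩ := hb
  rw [← map_pow, ← map_mul] at hk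
  obtain ⟨⟨_, j, rfl⟩, hj⟩ := (IsLocalization.eq_iff_exists (Submonoid.powers (ψ r)) _).mp hk
  change ψ r ^ j * (b * ψ r ^ k) = ψ r ^ j * b₀ at hj
  refine ⟨j + k, ?_⟩
  have : ψ r ^ (j + k) * b = ψ r ^ j * b₀ := by
    rw [← hj]; ring
  rw [this]
  exact Y₀.mul_mem (Y₀.pow_mem (hψ r) _) hb₀

end FTGeneral

section FTTensor

variable {R R' : Type u} [CommRing R] [CommRing R'] [Algebra R R'] {f : R}
  {A B : Type u} [CommRing A] [Algebra R A] [CommRing B] [Algebra R B] (φ : A →ₐ[R] B)

lemma tmul_eq_map_mul (r : R') (b : B) :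
    r ⊗ₜ[R] b = (Algebra.TensorProduct.map (AlgHom.id R R') φ).toRingHom (r ⊗ₜ[R] (1 : A)) *
      ((1 : R') ⊗ₜ[R] b) := by
  show r ⊗ₜ[R] b = (Algebra.TensorProduct.map (AlgHom.id R R') φ) (r ⊗ₜ[R] (1 : A)) *
      ((1 : R') ⊗ₜ[R] b)
  rw [Algebra.TensorProduct.map_tmul, Algebra.TensorProduct.tmul_mul_tmul, map_one, one_mul,
    AlgHom.id_apply, mul_one]

lemma exists_finset_tmul_closure (w : R' ⊗[R] B) :
    ∃ T : Finset B, w ∈ Subring.closure
      (Set.range (Algebra.TensorProduct.map (AlgHom.id R R') φ).toRingHom ∪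
        (fun b : B => (1 : R') ⊗ₜ[R] b) '' (T : Set B)) := by
  classical
  induction w using TensorProduct.induction_on with
  | zero => exact ⟨∅, Subring.zero_mem _⟩
  | tmul r b =>
    refine ⟨{b}, ?_⟩
    rw [tmul_eq_map_mul φ r b]
    exact Subring.mul_mem _ (Subring.subset_closure (Or.inl ⟨_, rfl⟩))
      (Subring.subset_closure (Or.inr ⟨b, by simp, rfl⟩))
  | add x y hx hy =>
    obtain ⟨T1, h1⟩ := hx
    obtain ⟨T2, h2⟩ := hy
    refine ⟨T1 ∪ T2, Subring.add_mem _ ?_ ?_⟩
    · exact Subring.closure_mono (Set.union_subset_union_right _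
        (Set.image_mono (Finset.coe_subset.mpr Finset.subset_union_left))) h1
    · exact Subring.closure_mono (Set.union_subset_union_right _
        (Set.image_mono (Finset.coe_subset.mpr Finset.subset_union_right))) h2

lemma tensorMap_finiteType (h : φ.toRingHom.FiniteType) :
    (Algebra.TensorProduct.map (AlgHom.id R R') φ).toRingHom.FiniteType := by
  classical
  rw [finiteType_iff_closure] at h ⊢
  obtain ⟨s, hs⟩ := h
  refine ⟨s.image (fun b : B => (1 : R') ⊗ₜ[R] b), ?_⟩
  have hι : ∀ b : B, (1 : R') ⊗ₜ[R] b ∈ Subring.closure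
      (Set.range (Algebra.TensorProduct.map (AlgHom.id R R') φ).toRingHom ∪
        ((s.image (fun b : B => (1 : R') ⊗ₜ[R] b) : Finset _) : Set _)) := by
    intro b
    have : (⊤ : Subring B) ≤ (Subring.closure
      (Set.range (Algebra.TensorProduct.map (AlgHom.id R R') φ).toRingHom ∪
        ((s.image (fun b : B => (1 : R') ⊗ₜ[R] b) : Finset _) : Set _))).comap
        (Algebra.TensorProduct.includeRight : B →ₐ[R] R' ⊗[R] B).toRingHom := by
      rw [← hs, Subring.closure_le]
      rintro _ (⟨x, rfl⟩ | ht)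
      · rw [SetLike.mem_coe, Subring.mem_comap]
        have e : (Algebra.TensorProduct.includeRight : B →ₐ[R] R' ⊗[R] B).toRingHom
            (φ.toRingHom x) =
            (Algebra.TensorProduct.map (AlgHom.id R R') φ).toRingHom ((1 : R') ⊗ₜ[R] x) := by
          show (1 : R') ⊗ₜ[R] (φ x) = (Algebra.TensorProduct.map (AlgHom.id R R') φ) _
          rw [Algebra.TensorProduct.map_tmul, map_one]
        rw [e]
        exact Subring.subset_closure (Or.inl ⟨_, rfl⟩)
      · rw [SetLike.mem_coe, Subring.mem_comap]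
        exact Subring.subset_closure (Or.inr (Finset.mem_coe.mpr
          (Finset.mem_image_of_mem _ (Finset.mem_coe.mp ht))))
    exact this (Subring.mem_top b)
  have key : ∀ w : R' ⊗[R] B, w ∈ Subring.closure
      (Set.range (Algebra.TensorProduct.map (AlgHom.id R R') φ).toRingHom ∪
        ((s.image (fun b : B => (1 : R') ⊗ₜ[R] b) : Finset _) : Set _)) := by
    intro w
    induction w using TensorProduct.induction_on with
    | zero => exact Subring.zero_mem _
    | tmul r b =>
      rw [tmul_eq_map_mul φ r b]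
      exact Subring.mul_mem _ (Subring.subset_closure (Or.inl ⟨_, rfl⟩)) (hι b)
    | add x y hx hy => exact Subring.add_mem _ hx hy
  rw [eq_top_iff]
  exact fun w _ => key w

lemma range_tensor_top (B₀ : Subalgebra R B) (hφ : ∀ a, φ a ∈ B₀) (T : Set B)
    (hT : T ⊆ B₀)
    (h : Subring.closure (Set.range (Algebra.TensorProduct.map (AlgHom.id R R') φ).toRingHom ∪
        (fun b : B => (1 : R') ⊗ₜ[R] b) '' T) = ⊤) (w : R' ⊗[R] B) :
    ∃ z : R' ⊗[R] B₀, Algebra.TensorProduct.map (AlgHom.id R R') B₀.val z = w := by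
  have hle : Subring.closure
      (Set.range (Algebra.TensorProduct.map (AlgHom.id R R') φ).toRingHom ∪
        (fun b : B => (1 : R') ⊗ₜ[R] b) '' T) ≤
      (Algebra.TensorProduct.map (AlgHom.id R R') B₀.val).toRingHom.range := by
    rw [Subring.closure_le]
    rintro _ (⟨x, rfl⟩ | ⟨t, ht, rfl⟩)
    · induction x using TensorProduct.induction_on with
      | zero => rw [map_zero]; exact Subring.zero_mem _
      | tmul r a =>
        refine ⟨r ⊗ₜ[R] (⟨φ a, hφ a⟩ : B₀), ?_⟩
        show (Algebra.TensorProduct.map (AlgHom.id R R') B₀.val) (r ⊗ₜ[R] (⟨φ a, hφ a⟩ : B₀)) =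
          (Algebra.TensorProduct.map (AlgHom.id R R') φ) (r ⊗ₜ[R] a)
        rw [Algebra.TensorProduct.map_tmul, Algebra.TensorProduct.map_tmul]
        rfl
      | add x y hx hy => rw [map_add]; exact Subring.add_mem _ hx hy
    · refine ⟨(1 : R') ⊗ₜ[R] (⟨t, hT ht⟩ : B₀), ?_⟩
      show (Algebra.TensorProduct.map (AlgHom.id R R') B₀.val) ((1 : R') ⊗ₜ[R] (⟨t, hT ht⟩ : B₀)) =
          (1 : R') ⊗ₜ[R] t
      rw [Algebra.TensorProduct.map_tmul, map_one]
      rfl
  rw [h] at hle
  obtain ⟨z, hz⟩ := hle (Subring.mem_top w)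
  exact ⟨z, hz⟩

lemma one_tmul_mk_eq_zero (B₀ : Subalgebra R B) (b : B)
    (hb : ∃ z : R' ⊗[R] B₀,
      Algebra.TensorProduct.map (AlgHom.id R R') B₀.val z = (1 : R') ⊗ₜ[R] b) :
    (1 : R') ⊗ₜ[R] (Submodule.Quotient.mk b : B ⧸ Subalgebra.toSubmodule B₀) = 0 := by
  obtain ⟨z, hz⟩ := hb
  have key : ∀ z : R' ⊗[R] B₀, ((Subalgebra.toSubmodule B₀).mkQ.lTensor R')
      (Algebra.TensorProduct.map (AlgHom.id R R') B₀.val z) = 0 := by
    intro z
    induction z using TensorProduct.induction_on with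
    | zero => rw [map_zero, map_zero]
    | tmul r x =>
      rw [Algebra.TensorProduct.map_tmul, LinearMap.lTensor_tmul]
      have : (Subalgebra.toSubmodule B₀).mkQ (B₀.val x) = 0 := by
        rw [Submodule.mkQ_apply, Submodule.Quotient.mk_eq_zero]; exact x.2
      rw [this, tmul_zero]
    | add x y hx hy => rw [map_add, map_add, hx, hy, add_zero]
  have := key z
  rwa [hz, LinearMap.lTensor_tmul] at this

theorem finiteType_of (hq : EtGlue.QuotPowBijective R R' f)
    (h1 : (Localization.awayMap φ.toRingHom (algebraMap R A f)).FiniteType)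
    (h2 : (Algebra.TensorProduct.map (AlgHom.id R R') φ).toRingHom.FiniteType) :
    φ.toRingHom.FiniteType := by
  classical
  rw [finiteType_iff_closure] at h1 h2 ⊢
  obtain ⟨s1, hs1⟩ := h1
  obtain ⟨s2, hs2⟩ := h2
  choose g hg using exists_mem_closure_singleton φ.toRingHom (algebraMap R A f)
  choose G hG using exists_finset_tmul_closure (R' := R') φ
  let T : Finset B := s1.image g ∪ s2.biUnion G
  let B₀ : Subalgebra R B := Algebra.adjoin R (Set.range φ.toRingHom ∪ (T : Set B))
  have hφ : ∀ a, φ a ∈ B₀ := fun a => Algebra.subset_adjoin (Or.inl ⟨a, rfl⟩)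
  have hT : (T : Set B) ⊆ B₀ := fun t ht => Algebra.subset_adjoin (Or.inr ht)
  have hc1 : Subring.closure
      (Set.range (Localization.awayMap φ.toRingHom (algebraMap R A f)) ∪
      (algebraMap B (Localization.Away (φ.toRingHom (algebraMap R A f)))) '' (T : Set B)) = ⊤ := by
    rw [eq_top_iff, ← hs1, Subring.closure_le]
    rintro y (hy | hy)
    · exact Subring.subset_closure (Or.inl hy)
    · refine Subring.closure_mono ?_ (hg y)
      rintro z (hz | hz)
      · exact Or.inl hz
      · rw [Set.mem_singleton_iff] at hz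
        rw [hz]
        exact Or.inr ⟨g y, Finset.mem_coe.mpr (Finset.mem_union_left _
          (Finset.mem_image_of_mem g (Finset.mem_coe.mp hy))), rfl⟩
  have hc2 : Subring.closure
      (Set.range (Algebra.TensorProduct.map (AlgHom.id R R') φ).toRingHom ∪
        (fun b : B => (1 : R') ⊗ₜ[R] b) '' (T : Set B)) = ⊤ := by
    rw [eq_top_iff, ← hs2, Subring.closure_le]
    rintro w (hw | hw)
    · exact Subring.subset_closure (Or.inl hw)
    · refine Subring.closure_mono ?_ (hG w)
      rintro z (hz | ⟨t, ht, rfl⟩)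
      · exact Or.inl hz
      · exact Or.inr ⟨t, Finset.mem_coe.mpr (Finset.mem_union_right _
          (Finset.mem_biUnion.mpr ⟨w, Finset.mem_coe.mp hw, Finset.mem_coe.mp ht⟩)), rfl⟩
  have htors : ∀ q : B ⧸ Subalgebra.toSubmodule B₀, ∃ n : ℕ, f ^ n • q = 0 := by
    intro q
    obtain ⟨b, rfl⟩ := Submodule.Quotient.mk_surjective _ q
    obtain ⟨k, hk⟩ := exists_pow_mul_mem φ.toRingHom (algebraMap R A f) B₀.toSubring
      (fun a => hφ a) (T : Set B) hT hc1 b
    refine ⟨k, ?_⟩
    rw [← Submodule.Quotient.mk_smul, Submodule.Quotient.mk_eq_zero, Subalgebra.mem_toSubmodule]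
    have : f ^ k • b = φ.toRingHom (algebraMap R A f) ^ k * b := by
      rw [Algebra.smul_def, map_pow]
      congr 2
      exact (φ.commutes f).symm
    rw [this]; exact hk
  have hzero : ∀ q : B ⧸ Subalgebra.toSubmodule B₀, q = 0 := by
    intro q
    apply eq_zero_of_one_tmul_eq_zero (B ⧸ Subalgebra.toSubmodule B₀) hq htors
    obtain ⟨b, rfl⟩ := Submodule.Quotient.mk_surjective _ q
    exact one_tmul_mk_eq_zero B₀ b (range_tensor_top φ B₀ hφ T hT hc2 _)
  have hmem : ∀ b : B, b ∈ B₀ := by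
    intro b
    have := hzero (Submodule.Quotient.mk b)
    rwa [Submodule.Quotient.mk_eq_zero, Subalgebra.mem_toSubmodule] at this
  refine ⟨T, ?_⟩
  rw [eq_top_iff]
  intro b _
  have hle : (Algebra.adjoin R (Set.range φ.toRingHom ∪ (T : Set B))).toSubring ≤
      Subring.closure (Set.range φ.toRingHom ∪ (T : Set B)) := by
    rw [Algebra.adjoin_eq_ring_closure, Subring.closure_le]
    rintro x (⟨r, rfl⟩ | hx)
    · exact Subring.subset_closure (Or.inl ⟨algebraMap R A r, φ.commutes r⟩)
    · exact Subring.subset_closure hx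
  exact hle (hmem b)

theorem finiteType_iff (hq : EtGlue.QuotPowBijective R R' f) :
    φ.toRingHom.FiniteType ↔
      (Localization.awayMap φ.toRingHom (algebraMap R A f)).FiniteType ∧
      (Algebra.TensorProduct.map (AlgHom.id R R') φ).toRingHom.FiniteType :=
  ⟨fun h => ⟨awayMap_finiteType _ _ h, tensorMap_finiteType φ h⟩,
    fun h => finiteType_of φ hq h.1 h.2⟩

end FTTensor

end Groth.Agent.Lib.EtGlueH4
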