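import Mathlib
import Groth.Prelude.Def_EtGlue
import Groth.Agent.Lib.EtGlue4_helper4

/-!
# Beauville–Laszlo glueing detects finite ring maps (helper3)
-/

set_option autoImplicit false

namespace Groth.Agent.Lib.BLFiniteH3

open TensorProduct Groth.Agent.Lib.EtGlueH4

universe u

section Loc

variable {X Y : Type*} [CommRing X] [CommRing Y] (ψ : X →+* Y) (r : X)

/-- If `X_r → Y_{ψ r}` is finite, there is a finite `T ⊆ Y` such that every `X`-submodule `N ⊇ T`
(for the `X`-module structure through `ψ`) contains `ψ r ^ k * b` for every `b` and suitable `k`. -/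
lemma exists_finset_pow_mul_mem (h : (Localization.awayMap ψ r).Finite) :
    ∃ T : Finset Y, ∀ N : AddSubgroup Y, (∀ x, ∀ n ∈ N, ψ x * n ∈ N) → (T : Set Y) ⊆ N →
      ∀ b : Y, ∃ k : ℕ, ψ r ^ k * b ∈ N := by
  classical
  letI alg : Algebra (Localization.Away r) (Localization.Away (ψ r)) :=
    (Localization.awayMap ψ r).toAlgebra
  have hfin : Module.Finite (Localization.Away r) (Localization.Away (ψ r)) := h
  obtain ⟨s, hs⟩ := hfin.fg_top
  choose e g hg using fun y : Localization.Away (ψ r) => IsLocalization.Away.surj (ψ r) y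
  refine ⟨s.image g, fun N hN hT b => ?_⟩
  let ι := algebraMap Y (Localization.Away (ψ r))
  have hψr : ∀ k, ∀ n ∈ N, ψ r ^ k * n ∈ N := by
    intro k n hn
    rw [← map_pow]; exact hN _ n hn
  let L : Submodule (Localization.Away r) (Localization.Away (ψ r)) :=
    { carrier := {y | ∃ k : ℕ, ∃ b₀ ∈ N, y * ι (ψ r) ^ k = ι b₀}
      zero_mem' := ⟨0, 0, N.zero_mem, by simp⟩
      add_mem' := by
        rintro y₁ y₂ ⟨k₁, b₁, hb₁, h₁⟩ ⟨k₂, b₂, hb₂, h₂⟩
        refine ⟨k₁ + k₂, ψ r ^ k₂ * b₁ + ψ r ^ k₁ * b₂,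
          N.add_mem (hψr _ _ hb₁) (hψr _ _ hb₂), ?_⟩
        rw [map_add, map_mul, map_mul, map_pow, map_pow, ← h₁, ← h₂, pow_add]; ring
      smul_mem' := by
        rintro c y ⟨k, b₀, hb₀, hk⟩
        obtain ⟨n, a, ha⟩ := IsLocalization.Away.surj r c
        refine ⟨n + k, ψ a * b₀, hN a b₀ hb₀, ?_⟩
        have h2 := congrArg (Localization.awayMap ψ r) ha
        rw [map_mul, map_pow, awayMap_algebraMap', awayMap_algebraMap'] at h2
        show (Localization.awayMap ψ r c * y) * ι (ψ r) ^ (n + k) = ι (ψ a * b₀)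
        rw [map_mul, ← hk, ← h2, pow_add]; ring }
  have hL : L = ⊤ := by
    rw [eq_top_iff, ← hs, Submodule.span_le]
    intro y hy
    refine ⟨e y, g y, hT (Finset.mem_coe.mpr (Finset.mem_image_of_mem g (Finset.mem_coe.mp hy))),
      ?_⟩
    exact hg y
  have hb : ι b ∈ L := by rw [hL]; trivial
  obtain ⟨k, b₀, hb₀, hk⟩ := hb
  rw [← map_pow, ← map_mul] at hk
  obtain ⟨⟨_, j, rfl⟩, hj⟩ := (IsLocalization.eq_iff_exists (Submonoid.powers (ψ r)) _).mp hk
  change ψ r ^ j * (b * ψ r ^ k) = ψ r ^ j * b₀ at hj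
  refine ⟨j + k, ?_⟩
  have : ψ r ^ (j + k) * b = ψ r ^ j * b₀ := by
    rw [← hj]; ring
  rw [this]
  exact hψr _ _ hb₀

end Loc

section Tensor

variable {R R' : Type u} [CommRing R] [CommRing R'] [Algebra R R'] {f : R}
variable {A B : Type u} [CommRing A] [Algebra R A] [CommRing B] [Algebra R B] (φ : A →ₐ[R] B)

/-- The image of `R' ⊗ N'` in `R' ⊗ B`. -/
def Im (R' : Type u) [CommRing R'] [Algebra R R'] (N' : Submodule R B) :
    Submodule R (R' ⊗[R] B) :=
  LinearMap.range (LinearMap.lTensor R' N'.subtype)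

lemma Im_mono {N₁ N₂ : Submodule R B} (h : N₁ ≤ N₂) : Im R' N₁ ≤ Im R' N₂ := by
  rintro _ ⟨z, rfl⟩
  refine ⟨LinearMap.lTensor R' (Submodule.inclusion h) z, ?_⟩
  rw [← LinearMap.comp_apply, ← LinearMap.lTensor_comp]
  rfl

lemma exists_finset_mem_Im (w : R' ⊗[R] B) :
    ∃ G : Finset B, w ∈ Im R' (Submodule.span R (G : Set B)) := by
  classical
  induction w using TensorProduct.induction_on with
  | zero => exact ⟨∅, Submodule.zero_mem _⟩
  | tmul r' b =>
    refine ⟨{b}, r' ⊗ₜ ⟨b, Submodule.subset_span (by simp)⟩, ?_⟩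
    rw [LinearMap.lTensor_tmul]; rfl
  | add w₁ w₂ h₁ h₂ =>
    obtain ⟨G₁, h₁⟩ := h₁
    obtain ⟨G₂, h₂⟩ := h₂
    refine ⟨G₁ ∪ G₂, Submodule.add_mem _
      (Im_mono (Submodule.span_mono (by simp)) h₁)
      (Im_mono (Submodule.span_mono (by simp)) h₂)⟩

lemma exists_finset_one_tmul_mem
    (h : (Algebra.TensorProduct.map (AlgHom.id R R') φ).toRingHom.Finite) :
    ∃ T : Finset B, ∀ N' : Submodule R B, (∀ a, ∀ n ∈ N', φ a * n ∈ N') → (T : Set B) ⊆ N' →
      ∀ b : B, (1 : R') ⊗ₜ[R] b ∈ Im R' N' := by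
  classical
  letI alg : Algebra (R' ⊗[R] A) (R' ⊗[R] B) :=
    (Algebra.TensorProduct.map (AlgHom.id R R') φ).toRingHom.toAlgebra
  have hfin : Module.Finite (R' ⊗[R] A) (R' ⊗[R] B) := h
  obtain ⟨s, hs⟩ := hfin.fg_top
  choose G hG using exists_finset_mem_Im (R := R) (R' := R') (B := B)
  refine ⟨s.biUnion G, fun N' hN hT b => ?_⟩
  have hmul : ∀ (c : R' ⊗[R] A), ∀ z ∈ Im R' N',
      (Algebra.TensorProduct.map (AlgHom.id R R') φ) c * z ∈ Im R' N' := by
    intro c z hz
    obtain ⟨z', rfl⟩ := hz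
    induction c using TensorProduct.induction_on with
    | zero => rw [map_zero, zero_mul]; exact Submodule.zero_mem _
    | add c₁ c₂ h₁ h₂ => rw [map_add, add_mul]; exact Submodule.add_mem _ h₁ h₂
    | tmul r' a =>
      induction z' using TensorProduct.induction_on with
      | zero => rw [map_zero, mul_zero]; exact Submodule.zero_mem _
      | add z₁ z₂ h₁ h₂ => rw [map_add, mul_add]; exact Submodule.add_mem _ h₁ h₂
      | tmul r'' n =>
        refine ⟨(r' * r'') ⊗ₜ ⟨φ a * n.1, hN a n.1 n.2⟩, ?_⟩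
        rw [LinearMap.lTensor_tmul, LinearMap.lTensor_tmul, Algebra.TensorProduct.map_tmul,
          Algebra.TensorProduct.tmul_mul_tmul]
        rfl
  let L : Submodule (R' ⊗[R] A) (R' ⊗[R] B) :=
    { carrier := Im R' N'
      add_mem' := fun ha hb => Submodule.add_mem _ ha hb
      zero_mem' := Submodule.zero_mem _
      smul_mem' := fun c z hz => hmul c z hz }
  have hL : L = ⊤ := by
    rw [eq_top_iff, ← hs, Submodule.span_le]
    intro w hw
    refine Im_mono (Submodule.span_le.mpr (subset_trans ?_ hT)) (hG w)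
    intro x hx
    exact Finset.mem_coe.mpr (Finset.mem_biUnion.mpr ⟨w, Finset.mem_coe.mp hw, Finset.mem_coe.mp hx⟩)
  have : (1 : R') ⊗ₜ[R] b ∈ L := by rw [hL]; trivial
  exact this

theorem finite_of (hq : EtGlue.QuotPowBijective R R' f)
    (h1 : (Localization.awayMap φ.toRingHom (algebraMap R A f)).Finite)
    (h2 : (Algebra.TensorProduct.map (AlgHom.id R R') φ).toRingHom.Finite) :
    φ.toRingHom.Finite := by
  classical
  obtain ⟨T₁, hT₁⟩ := exists_finset_pow_mul_mem φ.toRingHom (algebraMap R A f) h1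
  obtain ⟨T₂, hT₂⟩ := exists_finset_one_tmul_mem φ h2
  letI alg : Algebra A B := φ.toRingHom.toAlgebra
  haveI : IsScalarTower R A B := IsScalarTower.of_algebraMap_eq fun r => (φ.commutes r).symm
  let N : Submodule A B := Submodule.span A ((T₁ ∪ T₂ : Finset B) : Set B)
  let N' : Submodule R B := N.restrictScalars R
  have hNmul : ∀ a, ∀ n ∈ N', φ a * n ∈ N' := fun a n hn => N.smul_mem a hn
  have hsub1 : (T₁ : Set B) ⊆ N' := fun x hx =>
    Submodule.subset_span (Finset.mem_coe.mpr (Finset.mem_union_left _ (Finset.mem_coe.mp hx)))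
  have hsub2 : (T₂ : Set B) ⊆ N' := fun x hx =>
    Submodule.subset_span (Finset.mem_coe.mpr (Finset.mem_union_right _ (Finset.mem_coe.mp hx)))
  have htors : ∀ q : B ⧸ N', ∃ n : ℕ, f ^ n • q = 0 := by
    intro q
    obtain ⟨b, rfl⟩ := Submodule.Quotient.mk_surjective _ q
    obtain ⟨k, hk⟩ := hT₁ N'.toAddSubgroup (fun x n hn => hNmul x n hn) hsub1 b
    refine ⟨k, ?_⟩
    rw [← Submodule.Quotient.mk_smul, Submodule.Quotient.mk_eq_zero]
    have : f ^ k • b = φ.toRingHom (algebraMap R A f) ^ k * b := by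
      rw [Algebra.smul_def, map_pow]
      congr 2
      exact (φ.commutes f).symm
    rw [this]; exact hk
  have hzero : ∀ q : B ⧸ N', q = 0 := by
    intro q
    apply eq_zero_of_one_tmul_eq_zero (B ⧸ N') hq htors
    obtain ⟨b, rfl⟩ := Submodule.Quotient.mk_surjective _ q
    obtain ⟨z, hz⟩ := hT₂ N' hNmul hsub2 b
    have h0 : LinearMap.lTensor R' N'.mkQ (LinearMap.lTensor R' N'.subtype z) = 0 := by
      rw [← LinearMap.comp_apply, ← LinearMap.lTensor_comp]
      have : N'.mkQ ∘ₗ N'.subtype = 0 := by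
        ext x
        simp
      rw [this, LinearMap.lTensor_zero]; rfl
    rw [hz, LinearMap.lTensor_tmul] at h0
    exact h0
  have hN : N = ⊤ := by
    rw [eq_top_iff]
    intro b _
    have := hzero (Submodule.Quotient.mk b)
    rwa [Submodule.Quotient.mk_eq_zero] at this
  show Module.Finite A B
  exact ⟨⟨T₁ ∪ T₂, hN⟩⟩

lemma tensorMap_finite (h : φ.toRingHom.Finite) :
    (Algebra.TensorProduct.map (AlgHom.id R R') φ).toRingHom.Finite := by
  classical
  letI algAB : Algebra A B := φ.toRingHom.toAlgebra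
  have hfin : Module.Finite A B := h
  obtain ⟨T, hT⟩ := hfin.fg_top
  letI alg : Algebra (R' ⊗[R] A) (R' ⊗[R] B) :=
    (Algebra.TensorProduct.map (AlgHom.id R R') φ).toRingHom.toAlgebra
  show Module.Finite (R' ⊗[R] A) (R' ⊗[R] B)
  refine ⟨⟨T.image (fun t => (1 : R') ⊗ₜ[R] t), ?_⟩⟩
  set W : Submodule (R' ⊗[R] A) (R' ⊗[R] B) :=
    Submodule.span (R' ⊗[R] A) ((T.image (fun t => (1 : R') ⊗ₜ[R] t) : Finset _) : Set _) with hW
  have hsm : ∀ (c : R' ⊗[R] A) (z : R' ⊗[R] B),
      c • z = (Algebra.TensorProduct.map (AlgHom.id R R') φ) c * z := fun c z => rfl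
  let L : Submodule A B :=
    { carrier := {b | ∀ r' : R', r' ⊗ₜ[R] b ∈ W}
      add_mem' := fun {x y} hx hy r' => by
        rw [TensorProduct.tmul_add]; exact W.add_mem (hx r') (hy r')
      zero_mem' := fun r' => by rw [TensorProduct.tmul_zero]; exact W.zero_mem
      smul_mem' := fun a x hx r' => by
        have : r' ⊗ₜ[R] (a • x) = ((1 : R') ⊗ₜ[R] a) • (r' ⊗ₜ[R] x) := by
          rw [hsm, Algebra.TensorProduct.map_tmul, Algebra.TensorProduct.tmul_mul_tmul,
            AlgHom.id_apply, one_mul]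
          rfl
        rw [this]; exact W.smul_mem _ (hx r') }
  have hL : L = ⊤ := by
    rw [eq_top_iff, ← hT, Submodule.span_le]
    intro t ht r'
    have : r' ⊗ₜ[R] t = (r' ⊗ₜ[R] (1 : A)) • ((1 : R') ⊗ₜ[R] t) := by
      rw [hsm, Algebra.TensorProduct.map_tmul, Algebra.TensorProduct.tmul_mul_tmul,
        AlgHom.id_apply, mul_one, map_one, one_mul]
    rw [this]
    exact W.smul_mem _ (Submodule.subset_span (Finset.mem_coe.mpr
      (Finset.mem_image_of_mem _ (Finset.mem_coe.mp ht))))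
  rw [eq_top_iff]
  have hall : ∀ w : R' ⊗[R] B, w ∈ W := by
    intro w
    induction w using TensorProduct.induction_on with
    | zero => exact W.zero_mem
    | tmul r' b =>
      have : b ∈ L := by rw [hL]; trivial
      exact this r'
    | add w₁ w₂ h₁ h₂ => exact W.add_mem h₁ h₂
  intro w _
  exact hall w

theorem finite_iff (hq : EtGlue.QuotPowBijective R R' f) :
    φ.toRingHom.Finite ↔
      (Localization.awayMap φ.toRingHom (algebraMap R A f)).Finite ∧
      (Algebra.TensorProduct.map (AlgHom.id R R') φ).toRingHom.Finite :=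
  ⟨fun h => ⟨RingHom.localization_away_map_finite _ _ _ _ φ.toRingHom (algebraMap R A f) h,
    tensorMap_finite φ h⟩, fun h => finite_of φ hq h.1 h.2⟩

end Tensor

end Groth.Agent.Lib.BLFiniteH3
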