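import Mathlib
import Groth.Prelude.Def_EtGlue
import Groth.Agent.Lib.EtGlue_helper4

/-!
# Beauville–Laszlo glueing, part 2 (helper4): torsion lifting and glueability criterion
-/

set_option autoImplicit false
set_option linter.unusedSectionVars false

namespace Groth.Agent.Lib.EtGlueH4

open TensorProduct

universe u

section Lift

variable {R R' : Type u} [CommRing R] [CommRing R'] [Algebra R R'] {f : R}

/-- elements of `(ker (f^n·) ⊗ F)` map to `1 ⊗ c` with `f^n c = 0`. -/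
lemma range_ker_tensor (h : TB R R' f) (n : ℕ) (F : Type u) [AddCommGroup F] [Module R F]
    (w : (LinearMap.ker ((f ^ n) • (LinearMap.id : R' →ₗ[R] R'))) ⊗[R] F) :
    ∃ c : F, f ^ n • c = 0 ∧
      LinearMap.rTensor F (LinearMap.ker ((f ^ n) • (LinearMap.id : R' →ₗ[R] R'))).subtype w
        = (1 : R') ⊗ₜ[R] c := by
  induction w using TensorProduct.induction_on with
  | zero => exact ⟨0, by simp, by simp⟩
  | tmul x y =>
    have hx : algebraMap R R' f ^ n * (x : R') = 0 := by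
      have := x.2
      rw [LinearMap.mem_ker, LinearMap.smul_apply, LinearMap.id_apply, Algebra.smul_def,
        map_pow] at this
      exact this
    obtain ⟨c₀, hc₀, hφ⟩ := h.surj_pow n _ hx
    refine ⟨c₀ • y, by rw [← mul_smul, hc₀, zero_smul], ?_⟩
    rw [LinearMap.rTensor_tmul, Submodule.subtype_apply, ← hφ,
      Algebra.algebraMap_eq_smul_one c₀, smul_tmul]
  | add w₁ w₂ h₁ h₂ =>
    obtain ⟨c₁, hc₁, e₁⟩ := h₁
    obtain ⟨c₂, hc₂, e₂⟩ := h₂
    exact ⟨c₁ + c₂, by rw [smul_add, hc₁, hc₂, add_zero], by rw [map_add, e₁, e₂, tmul_add]⟩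

/-- `f^n`-torsion of `R' ⊗ N` comes from `f^n`-torsion of `N`. -/
theorem torsion_lift (hq : EtGlue.QuotPowBijective R R' f) (h : TB R R' f)
    (N : Type u) [AddCommGroup N] [Module R N] (n : ℕ) (z : R' ⊗[R] N) (hz : f ^ n • z = 0) :
    ∃ t : N, f ^ n • t = 0 ∧ (1 : R') ⊗ₜ[R] t = z := by
  let p : (N →₀ R) →ₗ[R] N := Finsupp.linearCombination R id
  have hp : Function.Surjective p := Finsupp.linearCombination_id_surjective R N
  have hex : Function.Exact (LinearMap.ker p).subtype p := LinearMap.exact_subtype_ker_map p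
  have hex' := lTensor_exact (M := LinearMap.ker p) (f := (LinearMap.ker p).subtype) (g := p) R' hex hp
  obtain ⟨zt, hzt⟩ := LinearMap.lTensor_surjective R' hp z
  have h1 : LinearMap.lTensor R' p (f ^ n • zt) = 0 := by rw [map_smul, hzt, hz]
  obtain ⟨w, hw⟩ := (hex' _).mp h1
  obtain ⟨k, w₂, rfl⟩ := decomp (LinearMap.ker p) hq n w
  -- zt₁ := zt - lTensor subtype w₂
  have h2 : f ^ n • (zt - LinearMap.lTensor R' (LinearMap.ker p).subtype w₂)
      = (1 : R') ⊗ₜ[R] (k : N →₀ R) := by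
    rw [smul_sub, ← hw, map_add, map_smul, LinearMap.lTensor_tmul, Submodule.subtype_apply]
    abel
  have h3 : LinearMap.lTensor R' p (zt - LinearMap.lTensor R' (LinearMap.ker p).subtype w₂) = z := by
    rw [map_sub, hzt, hex'.apply_apply_eq_zero, sub_zero]
  obtain ⟨b, hb⟩ := exists_eq_pow_smul (N →₀ R) hq n (k : N →₀ R) _ h2.symm
  have h4 : ((f ^ n) • (LinearMap.id : R' →ₗ[R] R')).rTensor (N →₀ R)
      (zt - LinearMap.lTensor R' (LinearMap.ker p).subtype w₂ - (1 : R') ⊗ₜ[R] b) = 0 := by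
    rw [LinearMap.rTensor_smul, LinearMap.rTensor_id, LinearMap.smul_apply, LinearMap.id_apply,
      smul_sub, h2, ← tmul_smul, ← hb, sub_self]
  have hflat := Module.Flat.rTensor_exact (N →₀ R)
    (N := LinearMap.ker ((f ^ n) • (LinearMap.id : R' →ₗ[R] R')))
    (f := (LinearMap.ker ((f ^ n) • (LinearMap.id : R' →ₗ[R] R'))).subtype)
    (g := (f ^ n) • (LinearMap.id : R' →ₗ[R] R'))
    (LinearMap.exact_subtype_ker_map ((f ^ n) • (LinearMap.id : R' →ₗ[R] R')))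
  obtain ⟨w₃, hw₃⟩ := (hflat _).mp h4
  obtain ⟨c, hc, hcw⟩ := range_ker_tensor h n (N →₀ R) w₃
  rw [hw₃] at hcw
  have h5 : zt - LinearMap.lTensor R' (LinearMap.ker p).subtype w₂ = (1 : R') ⊗ₜ[R] (b + c) := by
    rw [tmul_add, ← hcw]; abel
  refine ⟨p (b + c), ?_, ?_⟩
  · rw [← map_smul, smul_add, ← hb, hc, add_zero]
    exact k.2
  · rw [← h3, h5, LinearMap.lTensor_tmul]

end Lift

section Glueable

variable {R R' : Type u} [CommRing R] [CommRing R'] [Algebra R R'] {f : R}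
variable (M : Type u) [AddCommGroup M] [Module R M]

lemma mk_eq_zero_of_torsion {X : Type u} [AddCommGroup X] [Module R X] {x : X} {n : ℕ}
    (h : f ^ n • x = 0) : LocalizedModule.mkLinearMap (Submonoid.powers f) X x = 0 := by
  rw [IsLocalizedModule.eq_zero_iff (Submonoid.powers f)]
  exact ⟨⟨f ^ n, n, rfl⟩, h⟩

lemma torsion_of_mk_eq_zero {X : Type u} [AddCommGroup X] [Module R X] {x : X}
    (h : LocalizedModule.mkLinearMap (Submonoid.powers f) X x = 0) : ∃ n : ℕ, f ^ n • x = 0 := by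
  rw [IsLocalizedModule.eq_zero_iff (Submonoid.powers f)] at h
  obtain ⟨⟨_, k, rfl⟩, hk⟩ := h
  exact ⟨k, hk⟩

theorem glueable_of_torsion (hq : EtGlue.QuotPowBijective R R' f)
    (hinj : ∀ m : M, (∃ n : ℕ, f ^ n • m = 0) → (1 : R') ⊗ₜ[R] m = 0 → m = 0)
    (hsurj : ∀ x : R' ⊗[R] M, (∃ n : ℕ, f ^ n • x = 0) →
      ∃ m : M, (∃ n : ℕ, f ^ n • m = 0) ∧ (1 : R') ⊗ₜ[R] m = x) :
    EtGlue.IsGlueable R R' f M := by
  constructor
  · intro m₁ m₂ h12
    simp only [Prod.mk.injEq] at h12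
    obtain ⟨h1, h2⟩ := h12
    have h3 : LocalizedModule.mkLinearMap (Submonoid.powers f) M (m₁ - m₂) = 0 := by
      rw [map_sub, h2, sub_self]
    have := hinj (m₁ - m₂) (torsion_of_mk_eq_zero h3) (by rw [tmul_sub, h1, sub_self])
    exact sub_eq_zero.mp this
  · intro x y hxy
    obtain ⟨⟨m₀, ⟨_, n, rfl⟩⟩, hy⟩ := IsLocalizedModule.surj (Submonoid.powers f)
      (LocalizedModule.mkLinearMap (Submonoid.powers f) M) y
    replace hy : f ^ n • y = LocalizedModule.mkLinearMap (Submonoid.powers f) M m₀ := hy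
    have h1 : LocalizedModule.mkLinearMap (Submonoid.powers f) (R' ⊗[R] M)
        (f ^ n • x - (1 : R') ⊗ₜ[R] m₀) = 0 := by
      have e1 : EtGlue.tensorOfLoc R R' f M (LocalizedModule.mkLinearMap (Submonoid.powers f) M m₀)
          = LocalizedModule.mkLinearMap (Submonoid.powers f) (R' ⊗[R] M) ((1 : R') ⊗ₜ[R] m₀) := by
        rw [EtGlue.tensorOfLoc, IsLocalizedModule.map_apply]; rfl
      have e2 : LocalizedModule.mkLinearMap (Submonoid.powers f) (R' ⊗[R] M) (f ^ n • x)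
          = f ^ n • EtGlue.tensorOfLoc R R' f M y := by
        rw [map_smul, ← hxy]
      rw [map_sub, e2, ← map_smul, hy, e1, sub_self]
    obtain ⟨t, ht, ht'⟩ := hsurj _ (torsion_of_mk_eq_zero h1)
    have h2 : (1 : R') ⊗ₜ[R] (m₀ + t) = f ^ n • x := by rw [tmul_add, ht']; abel
    obtain ⟨m₁, hm₁⟩ := exists_eq_pow_smul M hq n (m₀ + t) x h2
    have h3 : f ^ n • (x - (1 : R') ⊗ₜ[R] m₁) = 0 := by
      rw [smul_sub, ← tmul_smul, ← hm₁, h2, sub_self]
    obtain ⟨t', ht'', ht'''⟩ := hsurj _ ⟨n, h3⟩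
    refine ⟨m₁ + t', by rw [tmul_add, ht''']; abel, ?_⟩
    obtain ⟨k, hk⟩ := ht
    obtain ⟨k', hk'⟩ := ht''
    apply IsLocalizedModule.smul_injective (LocalizedModule.mkLinearMap (Submonoid.powers f) M)
      (⟨f ^ n, n, rfl⟩ : Submonoid.powers f)
    show f ^ n • LocalizedModule.mkLinearMap (Submonoid.powers f) M (m₁ + t') = f ^ n • y
    rw [hy, ← map_smul, smul_add, ← hm₁, map_add, map_add, mk_eq_zero_of_torsion hk,
      map_smul, mk_eq_zero_of_torsion hk', smul_zero, add_zero, add_zero]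

theorem torsion_of_glueable (hg : EtGlue.IsGlueable R R' f M) :
    (∀ m : M, (∃ n : ℕ, f ^ n • m = 0) → (1 : R') ⊗ₜ[R] m = 0 → m = 0) ∧
    (∀ x : R' ⊗[R] M, (∃ n : ℕ, f ^ n • x = 0) →
      ∃ m : M, (∃ n : ℕ, f ^ n • m = 0) ∧ (1 : R') ⊗ₜ[R] m = x) := by
  obtain ⟨hinj, hmid⟩ := hg
  constructor
  · rintro m ⟨n, hn⟩ hm
    exact hinj (a₁ := m) (a₂ := 0)
      (by simp only [hm, mk_eq_zero_of_torsion hn, tmul_zero, map_zero])
  · rintro x ⟨n, hn⟩
    obtain ⟨m, hm1, hm2⟩ := hmid x 0 (by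
      rw [map_zero]; exact mk_eq_zero_of_torsion hn)
    exact ⟨m, torsion_of_mk_eq_zero hm2, hm1⟩

theorem glueable_iff (hq : EtGlue.QuotPowBijective R R' f) :
    EtGlue.IsGlueable R R' f M ↔
      ((∀ m : M, (∃ n : ℕ, f ^ n • m = 0) → (1 : R') ⊗ₜ[R] m = 0 → m = 0) ∧
       (∀ x : R' ⊗[R] M, (∃ n : ℕ, f ^ n • x = 0) →
          ∃ m : M, (∃ n : ℕ, f ^ n • m = 0) ∧ (1 : R') ⊗ₜ[R] m = x)) :=
  ⟨torsion_of_glueable M, fun h => glueable_of_torsion M hq h.1 h.2⟩

theorem glueable_iff_of_pair (hRR : EtGlue.IsGlueingPair R R' f) :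
    EtGlue.IsGlueable R R' f M ↔
      ∀ m : M, (∃ n : ℕ, f ^ n • m = 0) → (1 : R') ⊗ₜ[R] m = 0 → m = 0 := by
  refine ⟨fun h => (torsion_of_glueable M h).1, fun h => glueable_of_torsion M hRR.1 h ?_⟩
  rintro x ⟨n, hn⟩
  obtain ⟨t, ht, htx⟩ := torsion_lift hRR.1 (tb_of_glueingPair hRR) M n x hn
  exact ⟨t, ⟨n, ht⟩, htx⟩

end Glueable

end Groth.Agent.Lib.EtGlueH4
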