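import Mathlib
import Groth.Prelude.Def_EtGlue
import Groth.Prelude.Def_DRing3
import Groth.Agent.Lib.TorPrimes_helper5

/-!
# `Tor_1` vanishing for glueing pairs (Beauville–Laszlo) (helper5)
-/

set_option autoImplicit false
universe u

open CategoryTheory CategoryTheory.Limits TensorProduct

namespace Groth.Agent.GlueTor

open Groth.Agent.TorLES Groth.Agent.TorPrimes

variable {R R' : Type u} [CommRing R] [CommRing R'] [Algebra R R'] (f : R)

section basic

variable (h : EtGlue.IsGlueingPair R R' f)
include h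

/-- every `r' : R'` is `φ r + φ (f^n) s'`. -/
lemma exists_decomp (n : ℕ) (hn : 0 < n) (r' : R') :
    ∃ (r : R) (s' : R'), r' = algebraMap R R' r + algebraMap R R' (f ^ n) * s' := by
  obtain ⟨y, hy⟩ := (h.1 n hn).2 (Ideal.Quotient.mk _ r')
  obtain ⟨r, rfl⟩ := Ideal.Quotient.mk_surjective y
  rw [Ideal.quotientMap_mk, Ideal.Quotient.eq, Ideal.map_span, Set.image_singleton,
    Ideal.mem_span_singleton'] at hy
  obtain ⟨s', hs'⟩ := hy
  refine ⟨r, -s', ?_⟩
  have : r' = algebraMap R R' r - s' * algebraMap R R' (f ^ n) := by rw [hs']; ring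
  rw [this]; ring

/-- an `f`-power torsion element of `R` which dies in `R'` is zero. -/
lemma eq_zero_of_torsion (t : R) (n : ℕ) (ht : f ^ n * t = 0) (h0 : algebraMap R R' t = 0) :
    t = 0 := by
  apply h.2.1
  have hloc : algebraMap R (Localization.Away f) t = 0 := by
    have hu : IsUnit (algebraMap R (Localization.Away f) (f ^ n)) := by
      rw [map_pow]
      exact (IsLocalization.Away.algebraMap_isUnit f).pow n
    have := congrArg (algebraMap R (Localization.Away f)) ht
    rw [map_mul, map_zero] at this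
    exact (hu.mul_right_eq_zero).mp this
  simp only [h0, hloc, map_zero]

/-- **Key lemma**: for a submodule `T ≤ R` of `f`-power torsion elements, `R' ⊗ T → R' ⊗ R` is
injective. -/
theorem lTensor_subtype_injective (T : Submodule R R)
    (hT : ∀ t ∈ T, ∃ n : ℕ, 0 < n ∧ f ^ n * t = 0) :
    Function.Injective (T.subtype.lTensor R') := by
  have hrep : ∀ z : R' ⊗[R] T, ∃ t : T, z = (1 : R') ⊗ₜ[R] t := by
    intro z
    induction z using TensorProduct.induction_on with
    | zero => exact ⟨0, (TensorProduct.tmul_zero _ _).symm⟩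
    | tmul r' t =>
      obtain ⟨n, hn, htn⟩ := hT t t.2
      obtain ⟨r, s', rfl⟩ := exists_decomp f h n hn r'
      refine ⟨r • t, ?_⟩
      rw [TensorProduct.add_tmul]
      have h1 : (algebraMap R R' r) ⊗ₜ[R] t = (1 : R') ⊗ₜ[R] (r • t) := by
        rw [Algebra.algebraMap_eq_smul_one, TensorProduct.smul_tmul]
      have h2 : (algebraMap R R' (f ^ n) * s') ⊗ₜ[R] t = 0 := by
        rw [← Algebra.smul_def, TensorProduct.smul_tmul]
        have : (f ^ n) • t = 0 := by
          apply Subtype.ext
          rw [Submodule.coe_smul, smul_eq_mul, htn, Submodule.coe_zero]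
        rw [this, TensorProduct.tmul_zero]
      rw [h1, h2, add_zero]
    | add x y hx hy =>
      obtain ⟨t₁, rfl⟩ := hx
      obtain ⟨t₂, rfl⟩ := hy
      exact ⟨t₁ + t₂, (TensorProduct.tmul_add _ _ _).symm⟩
  rw [injective_iff_map_eq_zero]
  intro z hz
  obtain ⟨t, rfl⟩ := hrep z
  rw [LinearMap.lTensor_tmul, Submodule.subtype_apply] at hz
  have h0 : algebraMap R R' (t : R) = 0 := by
    have := congrArg (TensorProduct.rid R R') hz
    rw [TensorProduct.rid_tmul, map_zero, ← Algebra.algebraMap_eq_smul_one] at this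
    exact this
  obtain ⟨n, _, htn⟩ := hT t t.2
  have : (t : R) = 0 := eq_zero_of_torsion f h t n htn h0
  have ht0 : t = 0 := Subtype.ext this
  rw [ht0, TensorProduct.tmul_zero]

/-- S7062 -/
theorem torZero_span_pow (n : ℕ) (hn : 0 < n) :
    TorZero R 1 R' ↥(Ideal.span ({f ^ n} : Set R)) := by
  set Y := ↥(Ideal.span ({f ^ n} : Set R)) with hY
  set g : R →ₗ[R] Y := LinearMap.toSpanSingleton R Y ⟨f ^ n, Ideal.subset_span rfl⟩ with hg
  have hgsurj : Function.Surjective g := by
    rintro ⟨y, hy⟩
    obtain ⟨a, rfl⟩ := Ideal.mem_span_singleton'.mp hy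
    refine ⟨a, ?_⟩
    apply Subtype.ext
    rw [hg, LinearMap.toSpanSingleton_apply, Submodule.coe_smul, smul_eq_mul]
  have hex : Function.Exact (LinearMap.ker g).subtype g := LinearMap.exact_subtype_ker_map g
  have key := @Groth.Agent.Lib.TorBridge.isZero_tor_one_iff R _ R' Y _ _ _ _
    (↥(LinearMap.ker g)) R _ _ _ _ (LinearMap.ker g).subtype g _
  have k2 := key (Submodule.injective_subtype _) hex hgsurj
  refine k2.mpr ?_
  apply lTensor_subtype_injective f h
  intro t ht
  refine ⟨n, hn, ?_⟩
  rw [LinearMap.mem_ker, hg, LinearMap.toSpanSingleton_apply] at ht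
  have := congrArg Subtype.val ht
  rw [Submodule.coe_smul, smul_eq_mul, Submodule.coe_zero] at this
  rw [mul_comm]
  exact this

/-- S7063 -/
theorem torZero_quot_torsionSub :
    TorZero R 1 R' (R ⧸ DRing.torsionSub (Ideal.span ({f} : Set R)) R) := by
  have hex : Function.Exact (DRing.torsionSub (Ideal.span ({f} : Set R)) R).subtype
      (DRing.torsionSub (Ideal.span ({f} : Set R)) R).mkQ := LinearMap.exact_subtype_mkQ _
  have key := @Groth.Agent.Lib.TorBridge.isZero_tor_one_iff R _ R'
    (R ⧸ DRing.torsionSub (Ideal.span ({f} : Set R)) R) _ _ _ _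
    (↥(DRing.torsionSub (Ideal.span ({f} : Set R)) R)) R _ _ _ _
    (DRing.torsionSub (Ideal.span ({f} : Set R)) R).subtype
    (DRing.torsionSub (Ideal.span ({f} : Set R)) R).mkQ _
  have k2 := key (Submodule.injective_subtype _) hex (Submodule.mkQ_surjective _)
  have k3 : Function.Injective
      ((DRing.torsionSub (Ideal.span ({f} : Set R)) R).subtype.lTensor R') := by
    apply lTensor_subtype_injective f h
    intro t ht
    obtain ⟨n, hn⟩ := ht
    refine ⟨n + 1, Nat.succ_pos n, ?_⟩
    have h1 : f ^ n ∈ Ideal.span ({f} : Set R) ^ n :=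
      Ideal.pow_mem_pow (Ideal.subset_span (Set.mem_singleton f)) n
    have h2 := hn _ h1
    rw [smul_eq_mul] at h2
    rw [pow_succ, mul_comm (f ^ n) f, mul_assoc, h2, mul_zero]
  exact k2.mpr k3

end basic

section symm

variable {A : Type u} [CommRing A]

/-- symmetry of `Tor_1` (vanishing). -/
theorem torZero_one_symm (X Y : Type u) [AddCommGroup X] [Module A X] [AddCommGroup Y]
    [Module A Y] (hXY : TorZero A 1 X Y) : TorZero A 1 Y X := by
  have h1 := (torZero_one_iff_std Y X).mp hXY
  refine (torZero_one_iff_std X Y).mpr ?_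
  have hexY : Function.Exact (LinearMap.ker (presG (R := A) Y)).subtype (presG (R := A) Y) :=
    LinearMap.exact_subtype_ker_map _
  have hexX : Function.Exact (LinearMap.ker (presG (R := A) X)).subtype (presG (R := A) X) :=
    LinearMap.exact_subtype_ker_map _
  have key := @Groth.Agent.Lib.TorBridge.lTensor_injective_iff_rTensor_injective A _
    (↥(LinearMap.ker (presG (R := A) Y))) (Y →₀ A) Y (↥(LinearMap.ker (presG (R := A) X)))
    (X →₀ A) X _ _ _ _ _ _ _ _ _ _ _ _
    (LinearMap.ker (presG (R := A) Y)).subtype (presG (R := A) Y) _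
  have k2 := key (Submodule.injective_subtype _) hexY (presG_surjective Y)
    (LinearMap.ker (presG (R := A) X)).subtype (presG (R := A) X)
    (Submodule.injective_subtype _) hexX (presG_surjective X)
  have k3 := k2.mp h1
  have k4 := @Groth.Agent.Lib.TorBridge.rTensor_injective_iff_lTensor_injective A _
    (↥(LinearMap.ker (presG (R := A) X))) (X →₀ A) _ _ _ _
    (LinearMap.ker (presG (R := A) X)).subtype Y _ _
  exact k4.mp k3

end symm

section torsionModules

variable (h : EtGlue.IsGlueingPair R R' f) (n : ℕ) (hn : 0 < n)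

/-- the `R`-linear retraction `R' → R/(f^n)`. -/
noncomputable def rho : R' →ₗ[R] R ⧸ Ideal.span ({f ^ n} : Set R) where
  toFun x := (RingEquiv.ofBijective _ (h.1 n hn)).symm (Ideal.Quotient.mk _ x)
  map_add' x y := by rw [map_add, map_add]
  map_smul' r x := by
    rw [RingHom.id_apply, Algebra.smul_def, map_mul, Algebra.smul_def, Ideal.Quotient.algebraMap_eq]
    have : (Ideal.Quotient.mk (Ideal.map (algebraMap R R') (Ideal.span {f ^ n})))
        (algebraMap R R' r) = (RingEquiv.ofBijective _ (h.1 n hn))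
          (Ideal.Quotient.mk (Ideal.span ({f ^ n} : Set R)) r) := by
      rw [RingEquiv.ofBijective_apply, Ideal.quotientMap_mk]
    rw [this, map_mul, RingEquiv.symm_apply_apply]

lemma rho_one : rho f h n hn 1 = 1 := by
  change (RingEquiv.ofBijective _ (h.1 n hn)).symm (Ideal.Quotient.mk _ 1) = 1
  rw [map_one, map_one]

variable {N : Type u} [AddCommGroup N] [Module R N]

include h hn in
/-- retraction of `y ↦ y ⊗ 1` for modules killed by `f^n`. -/
lemma tmul_one_injective (hN : ∀ y : N, f ^ n • y = 0) :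
    Function.Injective (fun y : N => y ⊗ₜ[R] (1 : R')) := by
  have hbot : (Ideal.span ({f ^ n} : Set R) • (⊤ : Submodule R N)) = ⊥ := by
    rw [eq_bot_iff, Submodule.smul_le]
    intro r hr y _
    obtain ⟨a, rfl⟩ := Ideal.mem_span_singleton'.mp hr
    rw [Submodule.mem_bot, mul_smul, hN, smul_zero]
  set ret : N ⊗[R] R' →ₗ[R] N :=
    (Submodule.quotEquivOfEqBot _ hbot).toLinearMap ∘ₗ
      (TensorProduct.tensorQuotEquivQuotSMul N (Ideal.span ({f ^ n} : Set R))).toLinearMap ∘ₗ
        (rho f h n hn).lTensor N with hret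
  have hret_apply : ∀ y : N, ret (y ⊗ₜ[R] (1 : R')) = y := by
    intro y
    rw [hret, LinearMap.comp_apply, LinearMap.comp_apply, LinearMap.lTensor_tmul, rho_one]
    have : (1 : R ⧸ Ideal.span ({f ^ n} : Set R)) = Ideal.Quotient.mk _ 1 := (map_one _).symm
    rw [this, LinearEquiv.coe_coe, LinearEquiv.coe_coe,
      TensorProduct.tensorQuotEquivQuotSMul_tmul_mk, one_smul]
    rfl
  intro y₁ y₂ hy
  have := congrArg ret hy
  rwa [hret_apply, hret_apply] at this

include h hn in
lemma exists_tmul_one (hN : ∀ y : N, f ^ n • y = 0) (z : N ⊗[R] R') :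
    ∃ y : N, z = y ⊗ₜ[R] (1 : R') := by
  induction z using TensorProduct.induction_on with
  | zero => exact ⟨0, (TensorProduct.zero_tmul _ _).symm⟩
  | tmul y r' =>
    obtain ⟨r, s', rfl⟩ := exists_decomp f h n hn r'
    refine ⟨r • y, ?_⟩
    rw [TensorProduct.tmul_add]
    have h1 : y ⊗ₜ[R] (algebraMap R R' r) = (r • y) ⊗ₜ[R] (1 : R') := by
      rw [Algebra.algebraMap_eq_smul_one, TensorProduct.tmul_smul, TensorProduct.smul_tmul']
    have h2 : y ⊗ₜ[R] (algebraMap R R' (f ^ n) * s') = 0 := by
      rw [← Algebra.smul_def, TensorProduct.tmul_smul, TensorProduct.smul_tmul', hN,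
        TensorProduct.zero_tmul]
    rw [h1, h2, add_zero]
  | add x y hx hy =>
    obtain ⟨t₁, rfl⟩ := hx
    obtain ⟨t₂, rfl⟩ := hy
    exact ⟨t₁ + t₂, (TensorProduct.add_tmul _ _ _).symm⟩

include h hn in
/-- injective maps between modules killed by `f^n` stay injective after `⊗ R'`. -/
theorem rTensor_injective_of_torsion {N₁ N₂ : Type u} [AddCommGroup N₁] [Module R N₁]
    [AddCommGroup N₂] [Module R N₂] (j : N₁ →ₗ[R] N₂) (hj : Function.Injective j)
    (h₁ : ∀ y : N₁, f ^ n • y = 0) (h₂ : ∀ y : N₂, f ^ n • y = 0) :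
    Function.Injective (j.rTensor R') := by
  rw [injective_iff_map_eq_zero]
  intro z hz
  obtain ⟨y, rfl⟩ := exists_tmul_one f h n hn h₁ z
  rw [LinearMap.rTensor_tmul] at hz
  have h0 : j y = 0 := by
    apply tmul_one_injective f h n hn h₂
    change j y ⊗ₜ[R] (1 : R') = 0 ⊗ₜ[R] (1 : R')
    rw [hz, TensorProduct.zero_tmul]
  have : y = 0 := hj (h0.trans (map_zero j).symm)
  rw [this, TensorProduct.zero_tmul]

include h hn in
/-- `(f^n) ⊗ R' → R ⊗ R'` is injective. -/
theorem rTensor_span_pow_injective :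
    Function.Injective ((Ideal.span ({f ^ n} : Set R)).subtype.rTensor R') := by
  set g : ↥(Ideal.span ({f ^ n} : Set R)) := ⟨f ^ n, Ideal.subset_span (Set.mem_singleton _)⟩
    with hg
  have hrep : ∀ z : ↥(Ideal.span ({f ^ n} : Set R)) ⊗[R] R', ∃ r' : R', z = g ⊗ₜ[R] r' := by
    intro z
    induction z using TensorProduct.induction_on with
    | zero => exact ⟨0, (TensorProduct.tmul_zero _ _).symm⟩
    | tmul a r' =>
      obtain ⟨a, ha⟩ := a
      obtain ⟨c, rfl⟩ := Ideal.mem_span_singleton'.mp ha
      refine ⟨c • r', ?_⟩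
      have : (⟨c * f ^ n, ha⟩ : ↥(Ideal.span ({f ^ n} : Set R))) = c • g := by
        apply Subtype.ext
        rw [Submodule.coe_smul, smul_eq_mul]
      rw [this, TensorProduct.smul_tmul]
    | add x y hx hy =>
      obtain ⟨t₁, rfl⟩ := hx
      obtain ⟨t₂, rfl⟩ := hy
      exact ⟨t₁ + t₂, (TensorProduct.tmul_add _ _ _).symm⟩
  rw [injective_iff_map_eq_zero]
  intro z hz
  obtain ⟨r', rfl⟩ := hrep z
  rw [LinearMap.rTensor_tmul, Submodule.subtype_apply] at hz
  have h0 : algebraMap R R' (f ^ n) * r' = 0 := by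
    have := congrArg (TensorProduct.lid R R') hz
    rw [TensorProduct.lid_tmul, map_zero, Algebra.smul_def] at this
    exact this
  -- `r'` comes from an `f^n`-torsion element of `R`
  have hloc : algebraMap R' (Localization.Away (algebraMap R R' f)) r' =
      Localization.awayMap (algebraMap R R') f 0 := by
    rw [map_zero, IsLocalization.map_eq_zero_iff (Submonoid.powers (algebraMap R R' f))]
    refine ⟨⟨algebraMap R R' f ^ n, n, rfl⟩, ?_⟩
    change algebraMap R R' f ^ n * r' = 0
    rw [← map_pow]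
    exact h0
  obtain ⟨r, hr1, hr2⟩ := h.2.2.1 r' 0 hloc
  have hr0 : f ^ n * r = 0 := by
    apply h.2.1
    simp only [map_mul, hr1, h0, hr2, mul_zero, map_zero]
  rw [← hr1, Algebra.algebraMap_eq_smul_one, TensorProduct.tmul_smul, TensorProduct.smul_tmul']
  have : r • g = 0 := by
    apply Subtype.ext
    rw [Submodule.coe_smul, smul_eq_mul, Submodule.coe_zero, mul_comm]
    exact hr0
  rw [this, TensorProduct.zero_tmul]

include h hn in
/-- `Tor_1(R/(f^n), R') = 0`. -/
theorem torZero_quot_span_pow : TorZero R 1 (R ⧸ Ideal.span ({f ^ n} : Set R)) R' := by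
  have hex : Function.Exact (Ideal.span ({f ^ n} : Set R)).subtype
      (Submodule.mkQ (Ideal.span ({f ^ n} : Set R))) := LinearMap.exact_subtype_mkQ _
  have key := @torZero_one_iff_left R _ (↥(Ideal.span ({f ^ n} : Set R))) R
    (R ⧸ Ideal.span ({f ^ n} : Set R)) _ _ _ _ _ _ (Ideal.span ({f ^ n} : Set R)).subtype
    (Submodule.mkQ (Ideal.span ({f ^ n} : Set R))) R' _ _ _
  have k2 := key (Submodule.injective_subtype _) hex (Submodule.mkQ_surjective _)
  exact k2.mpr (rTensor_span_pow_injective f h n hn)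

include h hn in
/-- `Tor_1(R/J', R') = 0` for every ideal `J'` containing `f^n`. -/
theorem torZero_quot_of_pow_mem (J' : Ideal R) (hJ' : Ideal.span ({f ^ n} : Set R) ≤ J') :
    TorZero R 1 (R ⧸ J') R' := by
  set I : Ideal R := Ideal.span ({f ^ n} : Set R) with hI
  set N₁ : Submodule R (R ⧸ I) := Submodule.map (Submodule.mkQ I) J' with hN₁
  set p : (R ⧸ I) →ₗ[R] (R ⧸ J') := Submodule.mapQ I J' LinearMap.id (by
    rw [Submodule.comap_id]; exact hJ') with hp
  have hkill : ∀ y : R ⧸ I, f ^ n • y = 0 := by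
    intro y
    obtain ⟨c, rfl⟩ := Submodule.Quotient.mk_surjective _ y
    rw [← Submodule.Quotient.mk_smul, Submodule.Quotient.mk_eq_zero, smul_eq_mul]
    exact Ideal.mul_mem_right _ _ (Ideal.subset_span (Set.mem_singleton _))
  have hpsurj : Function.Surjective p := by
    intro y
    obtain ⟨c, rfl⟩ := Submodule.Quotient.mk_surjective _ y
    exact ⟨Submodule.Quotient.mk c, rfl⟩
  have hex : Function.Exact N₁.subtype p := by
    intro y
    obtain ⟨c, rfl⟩ := Submodule.Quotient.mk_surjective _ y
    have hrange : Set.range N₁.subtype = (N₁ : Set (R ⧸ I)) := by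
      ext z
      simp
    rw [hrange, hp, Submodule.mapQ_apply, LinearMap.id_apply, Submodule.Quotient.mk_eq_zero,
      SetLike.mem_coe, hN₁, Submodule.mem_map]
    constructor
    · intro hc
      exact ⟨c, hc, rfl⟩
    · rintro ⟨c', hc', hcc'⟩
      rw [Submodule.mkQ_apply, Submodule.Quotient.eq] at hcc'
      have : c = c' - (c' - c) := by ring
      rw [this]
      exact Submodule.sub_mem _ hc' (hJ' hcc')
  have hinj : Function.Injective (N₁.subtype.rTensor R') :=
    rTensor_injective_of_torsion f h n hn N₁.subtype (Submodule.injective_subtype _)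
      (fun y => Subtype.ext (by rw [Submodule.coe_smul, hkill, Submodule.coe_zero])) hkill
  have key := @torZero_one_right R _ (↥N₁) (R ⧸ I) (R ⧸ J') _ _ _ _ _ _ N₁.subtype p R' _ _
  have k2 := key hex hpsurj
  have k3 := k2 (torZero_quot_span_pow f h n hn)
  exact k3 hinj

end torsionModules

section main

variable (h : EtGlue.IsGlueingPair R R' f)
include h

/-- **(P)**: `Tor_1(R', N) = 0` for every `f`-power torsion module `N`. -/
theorem torZero_of_torsion (N : Type u) [AddCommGroup N] [Module R N]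
    (hN : ∀ y : N, ∃ n : ℕ, f ^ n • y = 0) : TorZero R 1 R' N := by
  classical
  apply torZero_one_symm
  apply torZero_succ_of_fg_submodules
  intro N' hfg
  haveI : Module.Finite R N' := Module.Finite.iff_fg.mpr hfg
  -- a single power of `f` kills `N'`
  obtain ⟨S, hS⟩ := hfg
  choose nfun hnfun using hN
  set n : ℕ := (∑ y ∈ S, nfun y) + 1 with hn
  have hkillS : ∀ y ∈ S, f ^ n • y = 0 := by
    intro y hy
    have hle : nfun y ≤ n := by
      rw [hn]
      exact le_trans (Finset.single_le_sum (fun _ _ => Nat.zero_le _) hy) (Nat.le_succ _)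
    obtain ⟨k, hk⟩ := Nat.exists_eq_add_of_le hle
    rw [hk, pow_add, mul_comm, mul_smul, hnfun y, smul_zero]
  have hkill : ∀ x ∈ N', f ^ n • x = 0 := by
    intro x hx
    rw [← hS] at hx
    induction hx using Submodule.span_induction with
    | mem y hy => exact hkillS y hy
    | zero => rw [smul_zero]
    | add x y _ _ hx hy => rw [smul_add, hx, hy, add_zero]
    | smul a x _ hx => rw [smul_comm, hx, smul_zero]
  refine torZero_of_finite_of_cyclic R' 0 (Ideal.span ({f ^ n} : Set R))
    (fun J' hJ' => torZero_quot_of_pow_mem f h n (Nat.succ_pos _) J' hJ') N' ?_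
  intro a ha x
  obtain ⟨c, rfl⟩ := Ideal.mem_span_singleton'.mp ha
  apply Subtype.ext
  rw [Submodule.coe_smul, Submodule.coe_zero, mul_smul, hkill x x.2, smul_zero]

/-- S7064 -/
theorem torZero_coker_localization (M : Type u) [AddCommGroup M] [Module R M] :
    TorZero R 1 R' (LocalizedModule (Submonoid.powers f) M ⧸
      LinearMap.range (LocalizedModule.mkLinearMap (Submonoid.powers f) M)) := by
  apply torZero_of_torsion f h
  intro y
  obtain ⟨x, rfl⟩ := Submodule.Quotient.mk_surjective _ y
  induction x using LocalizedModule.induction_on with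
  | h m s =>
    obtain ⟨s, k, rfl⟩ := s
    refine ⟨k, ?_⟩
    rw [← Submodule.Quotient.mk_smul, Submodule.Quotient.mk_eq_zero]
    refine ⟨m, ?_⟩
    rw [LocalizedModule.mkLinearMap_apply]
    have h1 : (f ^ k) • LocalizedModule.mk m (⟨f ^ k, k, rfl⟩ : Submonoid.powers f) =
        LocalizedModule.mk ((f ^ k) • m) (⟨f ^ k, k, rfl⟩ : Submonoid.powers f) :=
      LocalizedModule.smul'_mk _ _ _
    rw [h1]
    exact (LocalizedModule.mk_cancel (⟨f ^ k, k, rfl⟩ : Submonoid.powers f) m).symm

end main

end Groth.Agent.GlueTor
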