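import Mathlib
import Groth.Prelude.Def_EtGlue
import Groth.Agent.Lib.FlatCrit_helper5
import Groth.Agent.Lib.GlueTor_helper5

/-!
# Flatness and glueing pairs (Beauville–Laszlo) (helper5)

For a glueing pair `(R → R', f)`: `M` is flat iff `R' ⊗ M` is flat over `R'` and `M_f` is flat
over `R_f`.
-/

set_option autoImplicit false
universe u

open CategoryTheory TensorProduct

namespace Groth.Agent.GlueFlat

open Groth.Agent.TorLES Groth.Agent.TorPrimes Groth.Agent.TorBal Groth.Agent.FlatCrit

section general

variable {A : Type u} [CommRing A]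

/-- `Tor_{n+1}(X, M) = 0` when `g` acts bijectively on `X` and `M_g` is flat over `A_g`. -/
theorem torZero_of_bijective_smul (g : A) (X M : Type u) [AddCommGroup X] [Module A X]
    [AddCommGroup M] [Module A M] (hX : Function.Bijective (fun x : X => g • x))
    (hM : Module.Flat (Localization.Away g) (LocalizedModule (Submonoid.powers g) M)) (n : ℕ) :
    TorZero A (n + 1) X M := by
  haveI : IsLocalizedModule (Submonoid.powers g) (LinearMap.id : X →ₗ[A] X) := by
    refine ⟨?_, ?_, ?_⟩
    · rintro ⟨s, n, rfl⟩
      have hu : IsUnit (algebraMap A (Module.End A X) g) := by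
        rw [Module.End.isUnit_iff]
        exact hX
      show IsUnit (algebraMap A (Module.End A X) (g ^ n))
      rw [map_pow]
      exact hu.pow n
    · intro y
      exact ⟨(y, 1), by simp⟩
    · intro x₁ x₂ h
      exact ⟨1, by simpa using h⟩
  exact torZero_of_linearEquiv
    (IsLocalizedModule.iso (Submonoid.powers g) (LinearMap.id : X →ₗ[A] X)) M (n + 1)
    (torZero_localizedModule g X M hM n)

/-- the kernel of a surjection of flat modules is flat. -/
theorem flat_of_exact {L₁ L₂ L₃ : Type u} [AddCommGroup L₁] [Module A L₁] [AddCommGroup L₂]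
    [Module A L₂] [AddCommGroup L₃] [Module A L₃] (i : L₁ →ₗ[A] L₂) (p : L₂ →ₗ[A] L₃)
    (hi : Function.Injective i) (hip : Function.Exact i p) (hp : Function.Surjective p)
    [Module.Flat A L₂] [Module.Flat A L₃] : Module.Flat A L₁ := by
  rw [Module.Flat.iff_rTensor_injective']
  intro J
  have h : TorZero A 1 (A ⧸ J) L₁ := by
    apply (torZero_symm 1 _ _).mp
    exact torZero_left i p (A ⧸ J) hi hip hp 1 (torZero_succ_of_flat_left (A ⧸ J) L₃ 1)
      (torZero_succ_of_flat_left (A ⧸ J) L₂ 0)
  exact rTensor_injective_of_torZero_one J.subtype J.mkQ L₁ (Submodule.injective_subtype _)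
    (LinearMap.exact_subtype_mkQ J) (Submodule.mkQ_surjective J) h

end general

variable {R R' : Type u} [CommRing R] [CommRing R'] [Algebra R R']

section step2

variable (X : Type u) [AddCommGroup X] [Module R X]

/-- base change of the standard presentation stays left exact when `Tor_1(X, R') = 0`. -/
theorem baseChange_subtype_injective (ha : TorZero R 1 X R') :
    Function.Injective ((LinearMap.ker (presG (R := R) X)).subtype.baseChange R') := by
  have hii : Function.Injective (LinearMap.ker (presG (R := R) X)).subtype :=
    Submodule.injective_subtype _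
  have hee : Function.Exact (LinearMap.ker (presG (R := R) X)).subtype (presG (R := R) X) :=
    LinearMap.exact_subtype_ker_map _
  have h1 : Function.Injective ((LinearMap.ker (presG (R := R) X)).subtype.rTensor R') := by
    have := @rTensor_injective_of_torZero_one R _ (↥(LinearMap.ker (presG (R := R) X))) (X →₀ R) X
      _ _ _ _ _ _ (LinearMap.ker (presG (R := R) X)).subtype (presG (R := R) X) R' _ _
      hii hee (presG_surjective X)
    have h3 := this ha
    exact h3
  have h2 : Function.Injective ((LinearMap.ker (presG (R := R) X)).subtype.lTensor R') :=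
    (LinearMap.lTensor_inj_iff_rTensor_inj _ _).mpr h1
  rw [LinearMap.baseChange_eq_ltensor]
  exact h2

theorem baseChange_exact :
    Function.Exact ((LinearMap.ker (presG (R := R) X)).subtype.baseChange R')
      ((presG (R := R) X).baseChange R') :=
  lTensor_exact R' (LinearMap.exact_subtype_ker_map _) (presG_surjective X)

theorem baseChange_surjective :
    Function.Surjective ((presG (R := R) X).baseChange R') :=
  LinearMap.lTensor_surjective R' (presG_surjective X)

/-- `R' ⊗ L` is flat over `R'` for the first syzygy `L` of `X`. -/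
theorem flat_baseChange_ker (ha : TorZero R 1 X R') (hb : Module.Flat R' (R' ⊗[R] X)) :
    Module.Flat R' (R' ⊗[R] ↥(LinearMap.ker (presG (R := R) X))) := by
  haveI := hb
  exact flat_of_exact _ _ (baseChange_subtype_injective X ha) (baseChange_exact X)
    (baseChange_surjective X)

/-- `Tor_1^R(X, T) = 0` for every `R'`-module `T`. -/
theorem torZero_right_of_module (ha : TorZero R 1 X R') (hb : Module.Flat R' (R' ⊗[R] X))
    (T : Type u) [AddCommGroup T] [Module R T] [Module R' T] [IsScalarTower R R' T] :
    TorZero R 1 X T := by
  haveI := hb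
  set ι := (LinearMap.ker (presG (R := R) X)).subtype with hι
  set ι' := ι.baseChange R' with hι'
  have h0 : TorZero R' 1 (R' ⊗[R] X) T := torZero_succ_of_flat_left T (R' ⊗[R] X) 0
  have hinj1 : Function.Injective (ι'.rTensor T) := by
    have := @rTensor_injective_of_torZero_one R' _ (R' ⊗[R] ↥(LinearMap.ker (presG (R := R) X)))
      (R' ⊗[R] (X →₀ R)) (R' ⊗[R] X)
      _ _ _ _ _ _ ι' ((presG (R := R) X).baseChange R') T _ _
      (baseChange_subtype_injective X ha) (baseChange_exact X) (baseChange_surjective X)
    have h3 := this h0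
    exact h3
  have hinj2 : Function.Injective (ι'.lTensor T) :=
    (LinearMap.lTensor_inj_iff_rTensor_inj _ _).mpr hinj1
  let e₁ := TensorProduct.AlgebraTensorModule.cancelBaseChange R R' R' T
    ↥(LinearMap.ker (presG (R := R) X))
  let e₂ := TensorProduct.AlgebraTensorModule.cancelBaseChange R R' R' T (X →₀ R)
  have hsq : ∀ x, e₂ (ι'.lTensor T x) = ι.lTensor T (e₁ x) := by
    intro x
    induction x using TensorProduct.induction_on with
    | zero => simp only [map_zero]
    | tmul t y =>
      induction y using TensorProduct.induction_on with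
      | zero => simp only [TensorProduct.tmul_zero, map_zero]
      | tmul b l =>
        rw [LinearMap.lTensor_tmul]
        show e₂ (t ⊗ₜ[R'] (ι.baseChange R' (b ⊗ₜ[R] l))) = _
        rw [LinearMap.baseChange_tmul]
        show TensorProduct.AlgebraTensorModule.cancelBaseChange R R' R' T (X →₀ R)
          (t ⊗ₜ[R'] (b ⊗ₜ[R] ι l)) = ι.lTensor T
            (TensorProduct.AlgebraTensorModule.cancelBaseChange R R' R' T _ (t ⊗ₜ[R'] (b ⊗ₜ[R] l)))
        rw [TensorProduct.AlgebraTensorModule.cancelBaseChange_tmul,
          TensorProduct.AlgebraTensorModule.cancelBaseChange_tmul, LinearMap.lTensor_tmul]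
      | add y₁ y₂ h₁ h₂ => simp only [TensorProduct.tmul_add, map_add, h₁, h₂]
    | add x₁ x₂ h₁ h₂ => simp only [map_add, h₁, h₂]
  have hinj3 : Function.Injective (ι.lTensor T) := by
    intro x y hxy
    obtain ⟨x', rfl⟩ := e₁.surjective x
    obtain ⟨y', rfl⟩ := e₁.surjective y
    rw [← hsq, ← hsq] at hxy
    have := hinj2 (e₂.injective hxy)
    rw [this]
  have hinj4 : Function.Injective (ι.rTensor T) :=
    (LinearMap.lTensor_inj_iff_rTensor_inj _ _).mp hinj3
  have hii : Function.Injective ι := Submodule.injective_subtype _
  have hee : Function.Exact ι (presG (R := R) X) := LinearMap.exact_subtype_ker_map _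
  have key := @torZero_one_right R _ (↥(LinearMap.ker (presG (R := R) X))) (X →₀ R) X
      _ _ _ _ _ _ ι (presG (R := R) X) T _ _ hee (presG_surjective X)
      (torZero_succ_of_flat_left T (X →₀ R) 0)
  exact key hinj4

end step2

variable (f : R) (h : EtGlue.IsGlueingPair R R' f)

section step1

/-- the `R`-linear map `R_f → R'_f`. -/
noncomputable def awayLin : Localization.Away f →ₗ[R] Localization.Away (algebraMap R R' f) where
  toFun := Localization.awayMap (algebraMap R R') f
  map_add' := map_add _
  map_smul' r y := by
    rw [RingHom.id_apply, Algebra.smul_def, map_mul, Algebra.smul_def]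
    congr 1
    rw [Localization.awayMap, IsLocalization.Away.map, IsLocalization.map_eq,
      IsScalarTower.algebraMap_apply R R' (Localization.Away (algebraMap R R' f))]

include h in
/-- `Tor_{n+1}^R(R', X) = 0` when `X_f` is flat over `R_f`. -/
theorem torZero_left_algebra (X : Type u) [AddCommGroup X] [Module R X]
    (hX : Module.Flat (Localization.Away f) (LocalizedModule (Submonoid.powers f) X)) (n : ℕ) :
    TorZero R (n + 1) R' X := by
  haveI : Module.Flat R (Localization.Away f) := IsLocalization.flat _ (Submonoid.powers f)
  let i : R →ₗ[R] R' × Localization.Away f :=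
    LinearMap.prod (Algebra.linearMap R R') (Algebra.linearMap R (Localization.Away f))
  let p : R' × Localization.Away f →ₗ[R] Localization.Away (algebraMap R R' f) :=
    (Algebra.linearMap R' (Localization.Away (algebraMap R R' f))).restrictScalars R ∘ₗ
      LinearMap.fst R R' (Localization.Away f) -
    awayLin f ∘ₗ LinearMap.snd R R' (Localization.Away f)
  have hi : Function.Injective i := h.2.1
  have hp : Function.Surjective p := by
    intro z
    obtain ⟨x, y, hxy⟩ := h.2.2.2 z
    exact ⟨(x, y), hxy⟩
  have hip : Function.Exact i p := by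
    rintro ⟨x, y⟩
    constructor
    · intro hz
      have hz' : algebraMap R' (Localization.Away (algebraMap R R' f)) x =
          Localization.awayMap (algebraMap R R') f y := sub_eq_zero.mp hz
      obtain ⟨r, hr1, hr2⟩ := h.2.2.1 x y hz'
      exact ⟨r, Prod.ext hr1 hr2⟩
    · rintro ⟨r, hr⟩
      have hr1 : algebraMap R R' r = x := congrArg Prod.fst hr
      have hr2 : algebraMap R (Localization.Away f) r = y := congrArg Prod.snd hr
      show algebraMap R' (Localization.Away (algebraMap R R' f)) x -
        Localization.awayMap (algebraMap R R') f y = 0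
      rw [← hr1, ← hr2, Localization.awayMap, IsLocalization.Away.map, IsLocalization.map_eq,
        sub_self]
  have hbij : Function.Bijective
      (fun z : Localization.Away (algebraMap R R' f) => f • z) := by
    have hu : IsUnit (algebraMap R' (Localization.Away (algebraMap R R' f))
        (algebraMap R R' f)) := IsLocalization.Away.algebraMap_isUnit _
    have heq : ∀ z : Localization.Away (algebraMap R R' f),
        f • z = algebraMap R' (Localization.Away (algebraMap R R' f)) (algebraMap R R' f) * z := by
      intro z
      rw [Algebra.smul_def,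
        IsScalarTower.algebraMap_apply R R' (Localization.Away (algebraMap R R' f))]
    obtain ⟨u, hu'⟩ := hu
    constructor
    · intro z₁ z₂ hz
      simp only [heq, ← hu'] at hz
      exact (Units.mul_right_inj u).mp hz
    · intro z
      refine ⟨(↑u⁻¹ : Localization.Away (algebraMap R R' f)) * z, ?_⟩
      simp only [heq, ← hu']
      rw [← mul_assoc, Units.mul_inv, one_mul]
  have tmid : TorZero R (n + 1) (R' × Localization.Away f) X :=
    torZero_mid i p X hi hip hp (n + 1) (torZero_succ_of_flat_left X R n)
      (torZero_of_bijective_smul f _ X hbij hX n)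
  exact torZero_left (LinearMap.inl R R' (Localization.Away f))
    (LinearMap.snd R R' (Localization.Away f)) X LinearMap.inl_injective
    Function.Exact.inl_snd LinearMap.snd_surjective (n + 1)
    (torZero_succ_of_flat_left X (Localization.Away f) (n + 1)) tmid

end step1

section torsion

include h in
/-- `f`-power torsion modules behave like `R'`-modules for `Tor` vanishing. -/
theorem torZero_of_torsion_of_modules (M : Type u) [AddCommGroup M] [Module R M] (k : ℕ)
    (H : ∀ (T'' : Type u) [AddCommGroup T''] [Module R T''] [Module R' T'']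
      [IsScalarTower R R' T''], TorZero R (k + 1) T'' M)
    (T : Type u) [AddCommGroup T] [Module R T] (hT : ∀ t : T, ∃ n : ℕ, f ^ n • t = 0) :
    TorZero R (k + 1) T M := by
  apply torZero_succ_of_fg_submodules
  intro T' hfg
  obtain ⟨n, hn⟩ := exists_pow_smul_eq_zero_of_fg f T' hfg hT
  have hkill : ∀ y : T', f ^ (n + 1) • y = 0 := by
    intro y
    apply Subtype.ext
    rw [Submodule.coe_smul, Submodule.coe_zero, pow_succ', mul_smul, hn _ y.2, smul_zero]
  have hinj : Function.Injective ((TensorProduct.mk R T' R').flip 1) :=
    Groth.Agent.GlueTor.tmul_one_injective f h (n + 1) (Nat.succ_pos n) hkill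
  have hsurj : Function.Surjective ((TensorProduct.mk R T' R').flip 1) := by
    intro z
    obtain ⟨y, hy⟩ := Groth.Agent.GlueTor.exists_tmul_one f h (n + 1) (Nat.succ_pos n) hkill z
    exact ⟨y, hy.symm⟩
  let e₁ : T' ≃ₗ[R] T' ⊗[R] R' := LinearEquiv.ofBijective _ ⟨hinj, hsurj⟩
  let e : T' ≃ₗ[R] R' ⊗[R] T' := e₁.trans (TensorProduct.comm R T' R')
  exact torZero_of_linearEquiv e.symm M (k + 1) (H (R' ⊗[R] T'))

end torsion

section main

include h in
/-- **Flatness glues along a glueing pair.** -/
theorem flat_of_glueing (M : Type u) [AddCommGroup M] [Module R M]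
    (hM' : Module.Flat R' (R' ⊗[R] M))
    (hMf : Module.Flat (Localization.Away f) (LocalizedModule (Submonoid.powers f) M)) :
    Module.Flat R M := by
  set ι := (LinearMap.ker (presG (R := R) M)).subtype with hι
  have hιi : Function.Injective ι := Submodule.injective_subtype _
  have hex : Function.Exact ι (presG (R := R) M) := LinearMap.exact_subtype_ker_map _
  have hsurj := presG_surjective (R := R) M
  have a0 : TorZero R 1 M R' := (torZero_symm 1 _ _).mp (torZero_left_algebra f h M hMf 0)
  have a1 : TorZero R 2 M R' := (torZero_symm 2 _ _).mp (torZero_left_algebra f h M hMf 1)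
  have aL : TorZero R 1 ↥(LinearMap.ker (presG (R := R) M)) R' :=
    (torZero_shift ι (presG (R := R) M) R' hιi hex hsurj 0).mp a1
  have bL := flat_baseChange_ker M a0 hM'
  have H0 : ∀ (T'' : Type u) [AddCommGroup T''] [Module R T''] [Module R' T'']
      [IsScalarTower R R' T''], TorZero R (0 + 1) T'' M := fun T'' _ _ _ _ =>
    (torZero_symm 1 _ _).mp (torZero_right_of_module M a0 hM' T'')
  have H1 : ∀ (T'' : Type u) [AddCommGroup T''] [Module R T''] [Module R' T'']
      [IsScalarTower R R' T''], TorZero R (1 + 1) T'' M := fun T'' _ _ _ _ =>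
    (torZero_symm 2 _ _).mp ((torZero_shift ι (presG (R := R) M) T'' hιi hex hsurj 0).mpr
      (torZero_right_of_module _ aL bL T''))
  have hall : ∀ (N : Type u) [AddCommGroup N] [Module R N], TorZero R 1 N M := by
    intro N _ _
    let ℓ := LocalizedModule.mkLinearMap (Submonoid.powers f) N
    let Kt : Submodule R N := LinearMap.ker ℓ
    let Rg : Submodule R (LocalizedModule (Submonoid.powers f) N) := LinearMap.range ℓ
    have hKt : ∀ x : Kt, ∃ n : ℕ, f ^ n • x = 0 := by
      intro x
      obtain ⟨s, ⟨n, rfl⟩, hs⟩ := LocalizedModule.mem_ker_mkLinearMap_iff.mp x.2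
      exact ⟨n, Subtype.ext (by rw [Submodule.coe_smul, Submodule.coe_zero]; exact hs)⟩
    have hW : ∀ y : LocalizedModule (Submonoid.powers f) N ⧸ Rg, ∃ n : ℕ, f ^ n • y = 0 := by
      intro y
      obtain ⟨x, rfl⟩ := Submodule.Quotient.mk_surjective _ y
      induction x using LocalizedModule.induction_on with
      | h m s =>
        obtain ⟨s, n, rfl⟩ := s
        refine ⟨n, ?_⟩
        rw [← Submodule.Quotient.mk_smul, Submodule.Quotient.mk_eq_zero]
        refine ⟨m, ?_⟩
        show LocalizedModule.mkLinearMap (Submonoid.powers f) N m = _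
        rw [LocalizedModule.mkLinearMap_apply]
        have h1' : (f ^ n) • LocalizedModule.mk m (⟨f ^ n, n, rfl⟩ : Submonoid.powers f) =
            LocalizedModule.mk ((f ^ n) • m) (⟨f ^ n, n, rfl⟩ : Submonoid.powers f) :=
          LocalizedModule.smul'_mk _ _ _
        rw [h1']
        exact (LocalizedModule.mk_cancel (⟨f ^ n, n, rfl⟩ : Submonoid.powers f) m).symm
    have t1 : TorZero R 1 Kt M := torZero_of_torsion_of_modules f h M 0 H0 Kt hKt
    have t2 : TorZero R 2 (LocalizedModule (Submonoid.powers f) N ⧸ Rg) M :=
      torZero_of_torsion_of_modules f h M 1 H1 _ hW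
    have t3 : TorZero R 1 (LocalizedModule (Submonoid.powers f) N) M :=
      torZero_localizedModule f N M hMf 0
    have t4 : TorZero R 1 Rg M :=
      torZero_left Rg.subtype Rg.mkQ M (Submodule.injective_subtype _)
        (LinearMap.exact_subtype_mkQ Rg) (Submodule.mkQ_surjective Rg) 1 t2 t3
    have hex' : Function.Exact Kt.subtype ℓ.rangeRestrict := by
      intro x
      constructor
      · intro hx
        exact ⟨⟨x, LinearMap.mem_ker.mpr (congrArg Subtype.val hx)⟩, rfl⟩
      · rintro ⟨y, rfl⟩
        exact Subtype.ext (LinearMap.mem_ker.mp y.2)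
    exact torZero_mid Kt.subtype ℓ.rangeRestrict M (Submodule.injective_subtype _) hex'
      ℓ.surjective_rangeRestrict 1 t1 t4
  rw [Module.Flat.iff_rTensor_injective']
  intro J
  exact rTensor_injective_of_torZero_one J.subtype J.mkQ M (Submodule.injective_subtype _)
    (LinearMap.exact_subtype_mkQ J) (Submodule.mkQ_surjective J) (hall (R ⧸ J))

end main

end Groth.Agent.GlueFlat
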