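import Mathlib
import Groth.Prelude.Def_EtGlue
import Groth.Agent.Lib.EtGlue2_helper4
import Groth.Agent.Lib.GlueFlat_helper5

/-!
# Beauville–Laszlo glueing detects flat ring maps (helper3)
-/

set_option autoImplicit false

namespace Groth.Agent.Lib.BLFlatH3

open TensorProduct Groth.Agent.Lib.EtGlueH4

universe u

attribute [local instance] Algebra.TensorProduct.rightAlgebra

section Pair

variable {R R' : Type u} [CommRing R] [CommRing R'] [Algebra R R'] {f : R}
variable {A : Type u} [CommRing A] [Algebra R A]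

lemma algebraMap_right_apply (a : A) : algebraMap A (R' ⊗[R] A) a = (1 : R') ⊗ₜ[R] a := rfl

lemma pow_mul_eq_smul (n : ℕ) (z : R' ⊗[R] A) :
    algebraMap A (R' ⊗[R] A) (algebraMap R A f) ^ n * z = f ^ n • z := by
  rw [← map_pow, ← map_pow, algebraMap_right_apply]
  induction z using TensorProduct.induction_on with
  | zero => simp
  | tmul r' a =>
    rw [Algebra.TensorProduct.tmul_mul_tmul, one_mul, ← Algebra.smul_def,
      TensorProduct.tmul_smul]
  | add z₁ z₂ h₁ h₂ => rw [mul_add, smul_add, h₁, h₂]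

/-- `A/f^n → A'/f^n` is bijective for `A' = R' ⊗ A`. -/
theorem quotPowBijective (hq : EtGlue.QuotPowBijective R R' f) :
    EtGlue.QuotPowBijective A (R' ⊗[R] A) (algebraMap R A f) := by
  intro n hn
  constructor
  · rw [injective_iff_map_eq_zero]
    intro x hx
    obtain ⟨a, rfl⟩ := Ideal.Quotient.mk_surjective x
    rw [Ideal.quotientMap_mk, Ideal.Quotient.eq_zero_iff_mem, Ideal.map_span,
      Set.image_singleton, Ideal.mem_span_singleton'] at hx
    obtain ⟨z, hz⟩ := hx
    rw [Ideal.Quotient.eq_zero_iff_mem]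
    -- the quotient module
    let J : Submodule R A := (Ideal.span {algebraMap R A f ^ n}).restrictScalars R
    have hT : ∀ t : A ⧸ J, f ^ n • t = 0 := by
      intro t
      obtain ⟨b, rfl⟩ := Submodule.Quotient.mk_surjective _ t
      rw [← Submodule.Quotient.mk_smul, Submodule.Quotient.mk_eq_zero]
      show f ^ n • b ∈ Ideal.span {algebraMap R A f ^ n}
      rw [Algebra.smul_def, map_pow]
      exact Ideal.mul_mem_right _ _ (Ideal.subset_span rfl)
    have hkill : ∀ w : R' ⊗[R] (A ⧸ J), f ^ n • w = 0 := by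
      intro w
      induction w using TensorProduct.induction_on with
      | zero => simp
      | tmul r' t => rw [← TensorProduct.tmul_smul, hT, TensorProduct.tmul_zero]
      | add w₁ w₂ h₁ h₂ => rw [smul_add, h₁, h₂, add_zero]
    have h1 : (1 : R') ⊗ₜ[R] (J.mkQ a) = 0 := by
      have e : (1 : R') ⊗ₜ[R] a = f ^ n • z := by
        rw [← pow_mul_eq_smul, mul_comm, ← map_pow]; exact hz.symm
      have h2 : LinearMap.lTensor R' J.mkQ ((1 : R') ⊗ₜ[R] a) =
          LinearMap.lTensor R' J.mkQ (f ^ n • z) := by rw [e]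
      rw [LinearMap.lTensor_tmul, map_smul, hkill] at h2
      exact h2
    have h3 := eq_zero_of_one_tmul_eq_zero_of_pow (M := A ⧸ J) hq n hT h1
    rw [Submodule.mkQ_apply, Submodule.Quotient.mk_eq_zero] at h3
    exact h3
  · intro x
    obtain ⟨z, rfl⟩ := Ideal.Quotient.mk_surjective x
    induction z using TensorProduct.induction_on with
    | zero => exact ⟨0, by simp⟩
    | tmul r' a =>
      obtain ⟨r, s', hr⟩ := q1 hq n r'
      refine ⟨Ideal.Quotient.mk _ (r • a), ?_⟩
      rw [Ideal.quotientMap_mk, Ideal.Quotient.eq, Ideal.map_span, Set.image_singleton,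
        Ideal.mem_span_singleton']
      have e1 : (algebraMap R R' r) ⊗ₜ[R] a = (1 : R') ⊗ₜ[R] (r • a) := by
        rw [Algebra.algebraMap_eq_smul_one, TensorProduct.smul_tmul]
      have e2 : (algebraMap R R' (f ^ n) * s') ⊗ₜ[R] a =
          (s' ⊗ₜ[R] a) * ((1 : R') ⊗ₜ[R] (algebraMap R A (f ^ n))) := by
        rw [Algebra.TensorProduct.tmul_mul_tmul, mul_one, mul_comm a, ← Algebra.smul_def,
          ← Algebra.smul_def (f ^ n) a, TensorProduct.smul_tmul]
      refine ⟨-(s' ⊗ₜ[R] a), ?_⟩
      show -(s' ⊗ₜ[R] a) * ((1 : R') ⊗ₜ[R] (algebraMap R A f ^ n)) =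
        (1 : R') ⊗ₜ[R] (r • a) - r' ⊗ₜ[R] a
      rw [hr, TensorProduct.add_tmul, e1, e2, ← map_pow]
      ring
    | add z₁ z₂ h₁ h₂ =>
      obtain ⟨y₁, hy₁⟩ := h₁
      obtain ⟨y₂, hy₂⟩ := h₂
      exact ⟨y₁ + y₂, by rw [map_add, hy₁, hy₂, map_add]⟩

/-- A glueable algebra gives a glueing pair `(A → R' ⊗ A, f)`. -/
theorem isGlueingPair_of_isGlueable (hq : EtGlue.QuotPowBijective R R' f)
    (hA : EtGlue.IsGlueable R R' f A) :
    EtGlue.IsGlueingPair A (R' ⊗[R] A) (algebraMap R A f) := by
  obtain ⟨hinj, hsurj⟩ := torsion_of_glueable A hA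
  refine glueingPair_of_tb (quotPowBijective hq) ⟨?_, ?_⟩
  · rintro x ⟨n, hn⟩ hx
    refine hinj x ⟨n, ?_⟩ hx
    rw [Algebra.smul_def, map_pow]; exact hn
  · rintro x' ⟨n, hn⟩
    rw [pow_mul_eq_smul] at hn
    obtain ⟨m, ⟨k, hk⟩, hm⟩ := hsurj x' ⟨n, hn⟩
    refine ⟨m, ⟨k, ?_⟩, hm⟩
    rw [← map_pow, ← Algebra.smul_def]; exact hk

end Pair

section Pieces

variable {R R' : Type u} [CommRing R] [CommRing R'] [Algebra R R']
variable {A B : Type u} [CommRing A] [Algebra R A] [CommRing B] [Algebra R B] (φ : A →ₐ[R] B)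

theorem flat_tensor_of (h2 : (Algebra.TensorProduct.map (AlgHom.id R R') φ).toRingHom.Flat) :
    letI algAB : Algebra A B := φ.toRingHom.toAlgebra
    Module.Flat (R' ⊗[R] A) ((R' ⊗[R] A) ⊗[A] B) := by
  letI algAB : Algebra A B := φ.toRingHom.toAlgebra
  haveI : IsScalarTower R A B := .of_algebraMap_eq fun r => (φ.commutes r).symm
  letI algA'B' : Algebra (R' ⊗[R] A) (R' ⊗[R] B) :=
    (Algebra.TensorProduct.lTensor (S := R') R' (IsScalarTower.toAlgHom R A B)).toRingHom.toAlgebra
  have heq : (Algebra.TensorProduct.map (AlgHom.id R R') φ).toRingHom =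
      (Algebra.TensorProduct.lTensor (S := R') R' (IsScalarTower.toAlgHom R A B)).toRingHom := by
    apply RingHom.ext
    intro x
    induction x using TensorProduct.induction_on with
    | zero => simp
    | tmul r a => rfl
    | add x y hx hy => rw [map_add, map_add, hx, hy]
  have hfl : Module.Flat (R' ⊗[R] A) (R' ⊗[R] B) := by
    rw [heq] at h2
    exact h2
  let e : R' ⊗[R] B ≃ₐ[R' ⊗[R] A] (R' ⊗[R] A) ⊗[A] B :=
    { __ := (Algebra.IsPushout.cancelBaseChangeAlg _ _ _ _ _).symm,
      commutes' x := congr($(Algebra.IsPushout.cancelBaseChange_symm_comp_lTensor R A B R') x) }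
  exact Module.Flat.of_linearEquiv e.symm.toLinearEquiv

theorem flat_localized_of {A B : Type u} [CommRing A] [CommRing B] (φ : A →+* B) (a : A)
    (h1 : (Localization.awayMap φ a).Flat) :
    letI algAB : Algebra A B := φ.toAlgebra
    Module.Flat (Localization.Away a) (LocalizedModule (Submonoid.powers a) B) := by
  letI algAB : Algebra A B := φ.toAlgebra
  letI alg1 : Algebra (Localization.Away a) (Localization.Away (φ a)) :=
    (Localization.awayMap φ a).toAlgebra
  have hfl : Module.Flat (Localization.Away a) (Localization.Away (φ a)) := h1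
  haveI : IsScalarTower A B (Localization.Away (φ a)) := inferInstance
  haveI : IsScalarTower A (Localization.Away a) (Localization.Away (φ a)) :=
    .of_algebraMap_eq fun x => by
      rw [IsScalarTower.algebraMap_apply A B (Localization.Away (φ a))]
      show algebraMap B (Localization.Away (φ a)) (φ x) =
        Localization.awayMap φ a (algebraMap A _ x)
      exact (IsLocalization.map_eq _ x).symm
  haveI : IsLocalization (Algebra.algebraMapSubmonoid B (Submonoid.powers a))
      (Localization.Away (φ a)) := by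
    have : Algebra.algebraMapSubmonoid B (Submonoid.powers a) = Submonoid.powers (φ a) := by
      show Submonoid.map (algebraMap A B) (Submonoid.powers a) = _
      rw [Submonoid.map_powers]; rfl
    rw [this]; infer_instance
  let e0 : LocalizedModule (Submonoid.powers a) B ≃ₗ[A] Localization.Away (φ a) :=
    IsLocalizedModule.iso (Submonoid.powers a)
      (IsScalarTower.toAlgHom A B (Localization.Away (φ a))).toLinearMap
  let e : LocalizedModule (Submonoid.powers a) B ≃ₗ[Localization.Away a] Localization.Away (φ a) :=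
    e0.extendScalarsOfIsLocalization (Submonoid.powers a) (Localization.Away a)
  exact Module.Flat.of_linearEquiv e

end Pieces

section Main

variable {R R' : Type u} [CommRing R] [CommRing R'] [Algebra R R'] {f : R}
variable {A B : Type u} [CommRing A] [Algebra R A] [CommRing B] [Algebra R B] (φ : A →ₐ[R] B)

theorem flat_of (hRR : EtGlue.IsGlueingPair R R' f) (hA : EtGlue.IsGlueable R R' f A)
    (h1 : (Localization.awayMap φ.toRingHom (algebraMap R A f)).Flat)
    (h2 : (Algebra.TensorProduct.map (AlgHom.id R R') φ).toRingHom.Flat) :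
    φ.toRingHom.Flat := by
  have hpair := isGlueingPair_of_isGlueable hRR.1 hA
  letI algAB : Algebra A B := φ.toRingHom.toAlgebra
  show Module.Flat A B
  exact Groth.Agent.GlueFlat.flat_of_glueing (algebraMap R A f) hpair B
    (flat_tensor_of φ h2) (flat_localized_of φ.toRingHom (algebraMap R A f) h1)

theorem flat_iff (hRR : EtGlue.IsGlueingPair R R' f) (hA : EtGlue.IsGlueable R R' f A) :
    φ.toRingHom.Flat ↔
      (Localization.awayMap φ.toRingHom (algebraMap R A f)).Flat ∧
      (Algebra.TensorProduct.map (AlgHom.id R R') φ).toRingHom.Flat := by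
  refine ⟨fun h => ⟨?_, ?_⟩, fun h => flat_of φ hRR hA h.1 h.2⟩
  · exact RingHom.Flat.propertyIsLocal.localizationAwayPreserves φ.toRingHom (algebraMap R A f)
      _ _ h
  · have := RingHom.Flat.lTensor (R := R) (S := R) R' (f := φ) h
    exact this

end Main

end Groth.Agent.Lib.BLFlatH3
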