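import Mathlib
import Groth.Agent.Lib.AbsFlat_helper5

open TensorProduct

namespace Groth.Agent.Lib.FlatMul

universe u

section
variable (A B : Type u) [CommRing A] [CommRing B] [Algebra A B]
variable (N : Type u) [AddCommGroup N] [Module B N] [Module A N] [IsScalarTower A B N]

/-- `Φ(u ⊗ v)(n) = u ⊗ (v • n)`. -/
noncomputable def Phi : B ⊗[A] B →ₗ[A] (N →ₗ[A] B ⊗[A] N) :=
  TensorProduct.lift (LinearMap.mk₂ A
    (fun u v => (TensorProduct.mk A B N u) ∘ₗ (Algebra.lsmul A A N v : N →ₗ[A] N))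
    (by intro u u' v; ext n; simp [add_tmul])
    (by intro a u v; ext n; simp [smul_tmul'])
    (by intro u v v'; ext n; simp [add_smul, tmul_add])
    (by intro a u v; ext n; simp [tmul_smul]))

theorem Phi_tmul (u v : B) (n : N) : Phi A B N (u ⊗ₜ[A] v) n = u ⊗ₜ[A] (v • n) := by
  simp [Phi]

theorem P1 (c : B ⊗[A] B) (n : N) :
    LinearMap.liftBaseChange B (LinearMap.id : N →ₗ[A] N) (Phi A B N c n) =
      (Algebra.TensorProduct.lmul' A c) • n := by
  induction c using TensorProduct.induction_on with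
  | zero => simp
  | tmul u v => simp [Phi_tmul, mul_smul]
  | add x y hx hy => simp only [map_add, LinearMap.add_apply, add_smul, hx, hy]

theorem P2a (b : B) (c : B ⊗[A] B) (n : N) :
    Phi A B N ((b ⊗ₜ[A] (1 : B)) * c) n = b • Phi A B N c n := by
  induction c using TensorProduct.induction_on with
  | zero => simp
  | tmul u v =>
    rw [Algebra.TensorProduct.tmul_mul_tmul, Phi_tmul, Phi_tmul, one_mul, smul_tmul', smul_eq_mul]
  | add x y hx hy => simp only [mul_add, map_add, LinearMap.add_apply, smul_add, hx, hy]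

theorem P2b (b : B) (c : B ⊗[A] B) (n : N) :
    Phi A B N (((1 : B) ⊗ₜ[A] b) * c) n = Phi A B N c (b • n) := by
  induction c using TensorProduct.induction_on with
  | zero => simp
  | tmul u v =>
    rw [Algebra.TensorProduct.tmul_mul_tmul, Phi_tmul, Phi_tmul, one_mul, mul_comm b v, mul_smul]
  | add x y hx hy => simp only [mul_add, map_add, LinearMap.add_apply, hx, hy]

theorem exists_e (h : (Algebra.TensorProduct.lmul' A (S := B)).Flat) {l : ℕ} (f : Fin l → B) :
    ∃ e : B ⊗[A] B, Algebra.TensorProduct.lmul' A e = 1 ∧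
      ∀ i, (f i ⊗ₜ[A] (1 : B)) * e = ((1 : B) ⊗ₜ[A] f i) * e := by
  classical
  letI : Algebra (B ⊗[A] B) B := (Algebra.TensorProduct.lmul' A (S := B)).toRingHom.toAlgebra
  haveI : Module.Flat (B ⊗[A] B) B := h
  have hsurj : Function.Surjective (Algebra.ofId (B ⊗[A] B) B) := fun b => ⟨b ⊗ₜ 1, by
    rw [Algebra.ofId_apply, RingHom.algebraMap_toAlgebra]; simp⟩
  haveI : (RingHom.ker (Algebra.ofId (B ⊗[A] B) B)).Pure :=
    Module.Flat.of_linearEquiv (Ideal.quotientKerAlgEquivOfSurjective hsurj).toLinearEquiv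
  have hmem : ∀ b : B, (b ⊗ₜ[A] (1 : B) - (1 : B) ⊗ₜ[A] b) ∈
      RingHom.ker (Algebra.ofId (B ⊗[A] B) B) := by
    intro b
    rw [RingHom.mem_ker, Algebra.ofId_apply, RingHom.algebraMap_toAlgebra]
    simp
  have hker : ∀ c ∈ RingHom.ker (Algebra.ofId (B ⊗[A] B) B),
      Algebra.TensorProduct.lmul' A c = 0 := by
    intro c hc
    rw [RingHom.mem_ker, Algebra.ofId_apply, RingHom.algebraMap_toAlgebra] at hc
    exact hc
  choose d hdJ hd using fun i => Ideal.exists_eq_mul_of_pure (hmem (f i))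
  refine ⟨∏ i, (1 - d i), ?_, ?_⟩
  · rw [map_prod]
    apply Finset.prod_eq_one
    intro i _
    rw [map_sub, map_one, hker _ (hdJ i), sub_zero]
  · intro i
    rw [← sub_eq_zero, ← sub_mul, ← Finset.mul_prod_erase Finset.univ _ (Finset.mem_univ i),
      ← mul_assoc, mul_sub, mul_one, ← hd i, sub_self, zero_mul]

theorem flat_of_flat_mul (h : (Algebra.TensorProduct.lmul' A (S := B)).Flat) [Module.Flat A N] :
    Module.Flat B N := by
  apply Module.Flat.of_forall_isTrivialRelation
  intro l f x hfx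
  obtain ⟨e, he1, he2⟩ := exists_e A B h f
  have hs : ∀ i n, Phi A B N e (f i • n) = f i • Phi A B N e n := by
    intro i n
    rw [← P2b, ← he2 i, P2a]
  have hsum : ∑ i, f i • Phi A B N e (x i) = 0 := by
    simp_rw [← hs]
    rw [← map_sum, hfx, map_zero]
  obtain ⟨k, a, y, hy1, hy2⟩ := Module.Flat.isTrivialRelation_of_sum_smul_eq_zero hsum
  refine ⟨k, a, fun j => LinearMap.liftBaseChange B (LinearMap.id : N →ₗ[A] N) (y j), ?_, hy2⟩
  intro i
  have := congrArg (LinearMap.liftBaseChange B (LinearMap.id : N →ₗ[A] N)) (hy1 i)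
  rw [P1, he1, one_smul, map_sum] at this
  simp only [map_smul] at this
  exact this

end

open Groth.Agent.Lib.AbsFlat_helper5 in
theorem isReduced_of_weaklyEtale (A B : Type u) [CommRing A] [CommRing B] [Algebra A B]
    [IsReduced A] [Algebra.WeaklyEtale A B] : IsReduced B := by
  have hinj : Function.Injective
      (algebraMap A (∀ p : PrimeSpectrum A, p.asIdeal.ResidueField)) := by
    rw [injective_iff_map_eq_zero]
    intro a ha
    have hnil : a ∈ nilradical A := by
      rw [nilradical_eq_sInf, Ideal.mem_sInf]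
      intro p hp
      haveI : p.IsPrime := hp
      have h1 : algebraMap A (⟨p, hp⟩ : PrimeSpectrum A).asIdeal.ResidueField a = 0 :=
        congrFun ha ⟨p, hp⟩
      exact (Ideal.algebraMap_residueField_eq_zero).mp h1
    exact (mem_nilradical.mp hnil).eq_zero
  have hVNR : IsVNR (∀ p : PrimeSpectrum A, p.asIdeal.ResidueField) :=
    isVNR_pi_field (fun p : PrimeSpectrum A => p.asIdeal.ResidueField)
  have hflat : ∀ (M : Type u) [AddCommGroup M]
      [Module ((∀ p : PrimeSpectrum A, p.asIdeal.ResidueField) ⊗[A] B) M],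
      Module.Flat ((∀ p : PrimeSpectrum A, p.asIdeal.ResidueField) ⊗[A] B) M := by
    intro M _ _
    letI : Module (∀ p : PrimeSpectrum A, p.asIdeal.ResidueField) M :=
      Module.compHom M (algebraMap (∀ p : PrimeSpectrum A, p.asIdeal.ResidueField)
        ((∀ p : PrimeSpectrum A, p.asIdeal.ResidueField) ⊗[A] B))
    haveI : IsScalarTower (∀ p : PrimeSpectrum A, p.asIdeal.ResidueField)
        ((∀ p : PrimeSpectrum A, p.asIdeal.ResidueField) ⊗[A] B) M :=
      ⟨fun k c m => by
        show (k • c) • m = (algebraMap (∀ p : PrimeSpectrum A, p.asIdeal.ResidueField)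
          ((∀ p : PrimeSpectrum A, p.asIdeal.ResidueField) ⊗[A] B) k) • (c • m)
        rw [Algebra.smul_def k c, mul_smul]⟩
    haveI : Module.Flat (∀ p : PrimeSpectrum A, p.asIdeal.ResidueField) M := flat_of_isVNR hVNR M
    exact flat_of_flat_mul (∀ p : PrimeSpectrum A, p.asIdeal.ResidueField)
      ((∀ p : PrimeSpectrum A, p.asIdeal.ResidueField) ⊗[A] B) M
      (Algebra.WeaklyEtale.flat_lmul' (∀ p : PrimeSpectrum A, p.asIdeal.ResidueField)
        ((∀ p : PrimeSpectrum A, p.asIdeal.ResidueField) ⊗[A] B))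
  haveI : IsReduced ((∀ p : PrimeSpectrum A, p.asIdeal.ResidueField) ⊗[A] B) :=
    isReduced_of_isVNR (isVNR_of_forall_flat _ hflat)
  exact isReduced_of_injective
    (Algebra.TensorProduct.includeRight :
      B →ₐ[A] (∀ p : PrimeSpectrum A, p.asIdeal.ResidueField) ⊗[A] B)
    (Algebra.TensorProduct.includeRight_injective hinj)

end Groth.Agent.Lib.FlatMul
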