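import Mathlib.RingTheory.Flat.FaithfullyFlat.Algebra
import Mathlib.RingTheory.Flat.FaithfullyFlat.Basic
import Mathlib.RingTheory.RingHom.Flat
import Mathlib.AlgebraicGeometry.Morphisms.Flat

/-!
# Flatness descends along a faithfully flat ring map at the end of a tower

* `Groth.Agent.Lib.FlatTower_helper5.flat_of_faithfullyFlat_tower`: for `A → B → C` with
  `C` faithfully flat over `B` and flat over `A`, `B` is flat over `A`.
* `Groth.Agent.Lib.FlatTower_helper5.flat_of_comp_of_surjective`: for morphisms of schemes
  `f : X ⟶ Y`, `g : Y ⟶ Z` with `f` flat and surjective and `f ≫ g` flat, `g` is flat.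
-/

set_option autoImplicit false
universe u

namespace Groth.Agent.Lib.FlatTower_helper5

open TensorProduct

theorem flat_of_faithfullyFlat_tower (A B C : Type*) [CommRing A] [CommRing B] [CommRing C]
    [Algebra A B] [Algebra B C] [Algebra A C] [IsScalarTower A B C]
    [Module.FaithfullyFlat B C] [Module.Flat A C] : Module.Flat A B := by
  rw [Module.Flat.iff_lTensor_preserves_injective_linearMap]
  intro N P _ _ _ _ f hf
  change Function.Injective (f.baseChange B)
  rw [← Module.FaithfullyFlat.lTensor_injective_iff_injective B C]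
  have key : (AlgebraTensorModule.cancelBaseChange A B C C P).toLinearMap.restrictScalars B ∘ₗ
      LinearMap.lTensor C (f.baseChange B) =
      ((f.baseChange C).restrictScalars B) ∘ₗ
        (AlgebraTensorModule.cancelBaseChange A B C C N).toLinearMap.restrictScalars B := by
    ext c n
    simp
  have h1 : Function.Injective (f.baseChange C) :=
    Module.Flat.lTensor_preserves_injective_linearMap f hf
  have h2 : Function.Injective ((AlgebraTensorModule.cancelBaseChange A B C C P).toLinearMap.restrictScalars B ∘ₗ
      LinearMap.lTensor C (f.baseChange B)) := by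
    rw [key]
    exact h1.comp (AlgebraTensorModule.cancelBaseChange A B C C N).injective
  rw [LinearMap.coe_comp] at h2
  exact Function.Injective.of_comp h2

theorem ringHom_flat_of_comp {A B C : Type*} [CommRing A] [CommRing B] [CommRing C]
    (φ : A →+* B) (ψ : B →+* C) (hψ : ψ.FaithfullyFlat) (h : (ψ.comp φ).Flat) : φ.Flat := by
  algebraize [φ, ψ, ψ.comp φ]
  exact flat_of_faithfullyFlat_tower A B C

open AlgebraicGeometry CategoryTheory in
theorem flat_of_comp_of_surjective {X Y Z : Scheme.{u}} (f : X ⟶ Y) (g : Y ⟶ Z)
    [Flat f] [Surjective f] [Flat (f ≫ g)] : Flat g := by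
  rw [Flat.iff_flat_stalkMap]
  intro y
  obtain ⟨x, rfl⟩ := f.surjective y
  have h1 : (f.stalkMap x).hom.Flat := Flat.stalkMap f x
  have h2 : ((f ≫ g).stalkMap x).hom.Flat := Flat.stalkMap (f ≫ g) x
  rw [Scheme.Hom.stalkMap_comp] at h2
  have h3 : (f.stalkMap x).hom.FaithfullyFlat := by
    algebraize [(f.stalkMap x).hom]
    have : IsLocalHom (algebraMap (Y.presheaf.stalk (f x)) (X.presheaf.stalk x)) :=
      inferInstanceAs (IsLocalHom (f.stalkMap x).hom)
    exact Module.FaithfullyFlat.of_flat_of_isLocalHom
  exact ringHom_flat_of_comp _ _ h3 h2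

end Groth.Agent.Lib.FlatTower_helper5
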