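import Mathlib

/-!
# Weakly étale morphisms (helper7)

* `formallyUnramified_of_flat_lmul`: if the multiplication `S ⊗[R] S → S` is flat then `S` is
  formally unramified over `R`.
* `formallyUnramified_of_weaklyEtale`: weakly étale morphisms of schemes are formally unramified.
* `etale_of_weaklyEtale`: weakly étale + locally of finite presentation implies étale.
-/

set_option autoImplicit false
universe u
open CategoryTheory CategoryTheory.Limits AlgebraicGeometry MorphismProperty TensorProduct

namespace Groth.Agent.Lib.WeaklyEtale_helper7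

/-- If the multiplication map `S ⊗[R] S → S` is flat, `S` is formally unramified over `R`. -/
theorem formallyUnramified_of_flat_lmul (R S : Type u) [CommRing R] [CommRing S] [Algebra R S]
    (h : (Algebra.TensorProduct.lmul' R (S := S)).toRingHom.Flat) :
    Algebra.FormallyUnramified R S := by
  algebraize [(Algebra.TensorProduct.lmul' R (S := S)).toRingHom]
  have hsurj : Function.Surjective (Algebra.ofId (S ⊗[R] S) S) := fun x =>
    ⟨1 ⊗ₜ x, (Algebra.TensorProduct.lmul'_apply_tmul (R := R) (S := S) 1 x).trans (one_mul x)⟩
  let e : ((S ⊗[R] S) ⧸ RingHom.ker (Algebra.ofId (S ⊗[R] S) S)) ≃ₐ[S ⊗[R] S] S :=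
    Ideal.quotientKerAlgEquivOfSurjective hsurj
  have hker : RingHom.ker (Algebra.ofId (S ⊗[R] S) S) = KaehlerDifferential.ideal R S := by
    ext x
    rfl
  have hpure : (KaehlerDifferential.ideal R S).Pure := by
    rw [← hker]
    exact Module.Flat.of_linearEquiv e.toLinearEquiv
  refine ⟨?_⟩
  exact (Ideal.cotangent_subsingleton_iff _).2 (Ideal.isIdempotentElem_of_pure _)

/-- Weakly étale morphisms are formally unramified. -/
theorem formallyUnramified_of_weaklyEtale {X Y : Scheme.{u}} (f : X ⟶ Y) [WeaklyEtale f] :
    FormallyUnramified f := by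
  wlog hY : ∃ R, Y = Spec R generalizing X Y
  · rw [IsZariskiLocalAtTarget.iff_of_openCover (P := @FormallyUnramified) Y.affineCover]
    intro i
    haveI hw : WeaklyEtale (Scheme.Cover.pullbackHom Y.affineCover f i) :=
      inferInstanceAs (WeaklyEtale (pullback.snd f (Y.affineCover.f i)))
    exact this _ ⟨_, rfl⟩
  obtain ⟨R, rfl⟩ := hY
  wlog hX : ∃ S, X = Spec S generalizing X
  · rw [IsZariskiLocalAtSource.iff_of_openCover (P := @FormallyUnramified) X.affineCover]
    intro i
    exact this _ ⟨_, rfl⟩
  obtain ⟨S, rfl⟩ := hX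
  obtain ⟨φ, rfl⟩ := Spec.map_surjective f
  rw [HasRingHomProperty.Spec_iff (P := @FormallyUnramified)]
  have hdiag : Flat (pullback.diagonal (Spec.map φ)) := inferInstance
  algebraize [φ.hom]
  rw [show φ = CommRingCat.ofHom (algebraMap R S) from rfl, diagonal_SpecMap R S,
    cancel_right_of_respectsIso (P := @Flat), HasRingHomProperty.Spec_iff (P := @Flat)] at hdiag
  rw [RingHom.FormallyUnramified]
  exact formallyUnramified_of_flat_lmul R S hdiag

/-- Weakly étale morphisms locally of finite presentation are étale. -/
theorem etale_of_weaklyEtale {X Y : Scheme.{u}} (f : X ⟶ Y) [WeaklyEtale f]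
    [LocallyOfFinitePresentation f] : Etale f := by
  haveI := formallyUnramified_of_weaklyEtale f
  exact Etale.of_formallyUnramified_of_flat f

end Groth.Agent.Lib.WeaklyEtale_helper7
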