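import Mathlib
import Groth.Agent.Lib.FlatMul_lead
import Groth.Agent.Lib.AbsFlat_helper5
import Groth.Agent.Lib.FlatTower_helper5
import Groth.Agent.Lib.WeaklyEtale_helper7

/-!
# Weakly étale algebras over a field, part 1 (helper9)

An element of a weakly étale algebra over a field `K` is a root of a separable polynomial.
-/

set_option autoImplicit false
universe u

namespace Groth.Agent.WEField9

open Polynomial TensorProduct

section SepRoot

variable (K : Type*) [Field K]

/-- `b` is a root of a separable polynomial over `K`. -/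
def IsSepRoot {B : Type*} [CommRing B] [Algebra K B] (b : B) : Prop :=
  ∃ g : K[X], g.Separable ∧ aeval b g = 0

variable {K}

theorem IsSepRoot.map {B C : Type*} [CommRing B] [CommRing C] [Algebra K B] [Algebra K C]
    (f : B →ₐ[K] C) {b : B} (h : IsSepRoot K b) : IsSepRoot K (f b) := by
  obtain ⟨g, hg, h0⟩ := h
  exact ⟨g, hg, by rw [aeval_algHom_apply, h0, map_zero]⟩

theorem IsSepRoot.of_injective {B C : Type*} [CommRing B] [CommRing C] [Algebra K B] [Algebra K C]
    (f : B →ₐ[K] C) (hf : Function.Injective f) {b : B} (h : IsSepRoot K (f b)) :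
    IsSepRoot K b := by
  obtain ⟨g, hg, h0⟩ := h
  refine ⟨g, hg, hf ?_⟩
  rw [← aeval_algHom_apply, h0, map_zero]

theorem isSepRoot_iff_isSeparable {L : Type*} [Field L] [Algebra K L] (t : L) :
    IsSepRoot K t ↔ IsSeparable K t := by
  constructor
  · rintro ⟨g, hg, h0⟩
    exact hg.of_dvd (minpoly.dvd K t h0)
  · intro h
    exact ⟨minpoly K t, h, minpoly.aeval K t⟩

/-- two separable polynomials have a separable common multiple -/
theorem exists_separable_common_multiple {g₁ g₂ : K[X]} (h₁ : g₁.Separable) (h₂ : g₂.Separable) :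
    ∃ t : K[X], t.Separable ∧ g₁ ∣ t ∧ g₂ ∣ t := by
  classical
  obtain ⟨s, hs⟩ := EuclideanDomain.gcd_dvd_left g₁ g₂
  obtain ⟨w, hw⟩ := EuclideanDomain.gcd_dvd_right g₁ g₂
  obtain ⟨a, b, hbez⟩ : ∃ a b : K[X], EuclideanDomain.gcd g₁ g₂ = g₁ * a + g₂ * b :=
    ⟨_, _, EuclideanDomain.gcd_eq_gcd_ab g₁ g₂⟩
  set d := EuclideanDomain.gcd g₁ g₂ with hd
  have hd0 : d ≠ 0 := by
    intro h
    rw [h, zero_mul] at hs
    exact h₁.ne_zero hs
  have hsw : IsCoprime s w := by
    refine ⟨a, b, ?_⟩
    have : d * (a * s + b * w) = d * 1 := by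
      rw [mul_one]
      conv_rhs => rw [hbez]
      conv_rhs => rw [hs, hw]
      ring
    exact mul_left_cancel₀ hd0 this
  have hdw : IsCoprime d w := by
    have : (d * w).Separable := hw ▸ h₂
    exact this.isCoprime
  refine ⟨g₁ * w, ?_, dvd_mul_right _ _, ?_⟩
  · refine h₁.mul (h₂.of_dvd ⟨d, by rw [hw, mul_comm]⟩) ?_
    rw [hs]
    exact IsCoprime.mul_left hdw hsw
  · rw [hw, hs]
    exact ⟨s, by ring⟩

/-- in a reduced algebra, a root of a product of separable polynomials is a root of a separable
polynomial -/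
theorem exists_dvd_pow_of_mem_closure
    {g : K[X]} (hg : g ∈ Submonoid.closure {g : K[X] | g.Separable}) :
    ∃ s : K[X], s.Separable ∧ ∃ n : ℕ, g ∣ s ^ n := by
  induction hg using Submonoid.closure_induction with
  | mem g hg => exact ⟨g, hg, 1, by rw [pow_one]⟩
  | one => exact ⟨1, separable_one, 0, by rw [pow_zero]⟩
  | mul g h _ _ ihg ihh =>
    obtain ⟨s, hs, n, hn⟩ := ihg
    obtain ⟨s', hs', n', hn'⟩ := ihh
    obtain ⟨t, ht, h1, h2⟩ := exists_separable_common_multiple hs hs'
    refine ⟨t, ht, n + n', ?_⟩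
    rw [pow_add]
    exact mul_dvd_mul (hn.trans (pow_dvd_pow_of_dvd h1 n)) (hn'.trans (pow_dvd_pow_of_dvd h2 n'))

theorem isSepRoot_of_mem_closure {B : Type*} [CommRing B] [Algebra K B] [IsReduced B] (b : B)
    {g : K[X]} (hg : g ∈ Submonoid.closure {g : K[X] | g.Separable}) (h0 : aeval b g = 0) :
    IsSepRoot K b := by
  obtain ⟨s, hs, n, q, hq⟩ := exists_dvd_pow_of_mem_closure hg
  refine ⟨s, hs, ?_⟩
  have : (aeval b s) ^ n = 0 := by
    rw [← map_pow, hq, map_mul, h0, zero_mul]
  exact (IsNilpotent.eq_zero ⟨n, this⟩)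

end SepRoot

section FieldCase

open IntermediateField

/-- descent of flatness of the diagonal along a faithfully flat map (Stacks 092L) -/
theorem flat_lmul'_of_faithfullyFlat (K F L : Type u) [CommRing K] [CommRing F] [CommRing L]
    [Algebra K F] [Algebra K L] [Algebra F L] [IsScalarTower K F L]
    [Module.Flat K F] [Module.FaithfullyFlat F L]
    (h : (Algebra.TensorProduct.lmul' K (S := L)).toRingHom.Flat) :
    (Algebra.TensorProduct.lmul' K (S := F)).toRingHom.Flat := by
  have hfl : (IsScalarTower.toAlgHom K F L).toRingHom.Flat := by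
    rw [show (IsScalarTower.toAlgHom K F L).toRingHom = algebraMap F L from rfl,
      RingHom.flat_algebraMap_iff]
    infer_instance
  have h1 : (Algebra.TensorProduct.map (IsScalarTower.toAlgHom K F L)
      (IsScalarTower.toAlgHom K F L)).toRingHom.Flat :=
    RingHom.Flat.tensorProductMap hfl hfl
  have h2 := RingHom.Flat.comp h1 h
  apply Groth.Agent.Lib.FlatTower_helper5.ringHom_flat_of_comp _ (algebraMap F L)
  · rw [RingHom.faithfullyFlat_algebraMap_iff]
    infer_instance
  · convert h2 using 1
    apply RingHom.ext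
    intro x
    induction x using TensorProduct.induction_on with
    | zero => simp
    | tmul a b => simp
    | add x y hx hy => rw [map_add, map_add, hx, hy]

/-- field case: if the diagonal of `L/K` is flat then every element of `L` is separable over `K` -/
theorem isSeparable_of_flat_lmul' (K L : Type u) [Field K] [Field L] [Algebra K L]
    (h : (Algebra.TensorProduct.lmul' K (S := L)).toRingHom.Flat) (t : L) : IsSeparable K t := by
  have hF := flat_lmul'_of_faithfullyFlat K K⟮t⟯ L h
  haveI : Algebra.FormallyUnramified K K⟮t⟯ :=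
    Groth.Agent.Lib.WeaklyEtale_helper7.formallyUnramified_of_flat_lmul K K⟮t⟯ hF
  haveI : Algebra.EssFiniteType K K⟮t⟯ :=
    IntermediateField.essFiniteType_iff.2 (fg_adjoin_of_finite (Set.finite_singleton t))
  have := Algebra.FormallyUnramified.isSeparable K K⟮t⟯
  exact (isSeparable_adjoin_simple_iff_isSeparable K L).1 this

end FieldCase

section Main

open Groth.Agent.Lib.AbsFlat_helper5

/-- a weakly étale algebra over a field is von Neumann regular -/
theorem isVNR_of_weaklyEtale (K B : Type u) [Field K] [CommRing B] [Algebra K B]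
    [Algebra.WeaklyEtale K B] : IsVNR B := by
  apply isVNR_of_forall_flat
  intro N _ _
  letI : Module K N := Module.compHom N (algebraMap K B)
  haveI : IsScalarTower K B N := IsScalarTower.of_compHom K B N
  exact Groth.Agent.Lib.FlatMul.flat_of_flat_mul K B N (Algebra.WeaklyEtale.flat_lmul' K B)

/-- the multiplication map of a quotient algebra is bijective -/
theorem lmul'_quotient_bijective (B : Type u) [CommRing B] (I : Ideal B) :
    Function.Bijective (Algebra.TensorProduct.lmul' B (S := B ⧸ I)) := by
  constructor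
  · have key : ∀ z : (B ⧸ I) ⊗[B] (B ⧸ I),
        z = (Algebra.TensorProduct.lmul' B (S := B ⧸ I) z) ⊗ₜ[B] (1 : B ⧸ I) := by
      intro z
      induction z using TensorProduct.induction_on with
      | zero => simp
      | tmul x y =>
        obtain ⟨b, rfl⟩ := Ideal.Quotient.mk_surjective y
        rw [Algebra.TensorProduct.lmul'_apply_tmul]
        have : (Ideal.Quotient.mk I b : B ⧸ I) = b • (1 : B ⧸ I) := by
          rw [Algebra.smul_def, mul_one]; rfl
        rw [this, TensorProduct.tmul_smul, TensorProduct.smul_tmul', mul_smul_comm, mul_one]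
      | add x y hx hy =>
        rw [map_add, TensorProduct.add_tmul, ← hx, ← hy]
    intro z w hzw
    rw [key z, key w, hzw]
  · intro x
    exact ⟨x ⊗ₜ 1, by simp⟩

/-- **T1**: every element of a weakly étale algebra over a field is a root of a separable
polynomial. -/
theorem isSepRoot_of_weaklyEtale (K B : Type u) [Field K] [CommRing B] [Algebra K B]
    [Algebra.WeaklyEtale K B] (b : B) : IsSepRoot K b := by
  have hV := isVNR_of_weaklyEtale K B
  haveI : IsReduced B := isReduced_of_isVNR hV
  -- at each prime, `b` is a root of a separable polynomial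
  have hp : ∀ p : Ideal B, p.IsPrime → ∃ g : K[X], g.Separable ∧ aeval b g ∈ p := by
    intro p hp
    haveI : p.IsMaximal := isMaximal_of_isVNR hV p
    letI : Field (B ⧸ p) := Ideal.Quotient.field p
    haveI : Algebra.WeaklyEtale B (B ⧸ p) :=
      { flat := flat_of_isVNR hV _
        flat_lmul' := RingHom.Flat.of_bijective (lmul'_quotient_bijective B p) }
    haveI : Algebra.WeaklyEtale K (B ⧸ p) := Algebra.WeaklyEtale.trans K B (B ⧸ p)
    have hsep := isSeparable_of_flat_lmul' K (B ⧸ p) (Algebra.WeaklyEtale.flat_lmul' K (B ⧸ p))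
      (Ideal.Quotient.mk p b)
    refine ⟨minpoly K (Ideal.Quotient.mk p b), hsep, ?_⟩
    rw [← Ideal.Quotient.eq_zero_iff_mem]
    have := minpoly.aeval K (Ideal.Quotient.mk p b)
    rw [show (Ideal.Quotient.mk p b : B ⧸ p) = Ideal.Quotient.mkₐ K p b from rfl,
      aeval_algHom_apply] at this
    exact this
  -- the multiplicative set
  let S' : Submonoid K[X] := Submonoid.closure {g : K[X] | g.Separable}
  let M : Submonoid B := S'.map ((aeval b : K[X] →ₐ[K] B) : K[X] →* B)
  have h0 : (0 : B) ∈ M := by
    by_contra h0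
    have hdisj : Disjoint ((⊥ : Ideal B) : Set B) (M : Set B) := by
      rw [Set.disjoint_left]
      intro x hx hxM
      rw [SetLike.mem_coe, Ideal.mem_bot] at hx
      exact h0 (hx ▸ hxM)
    obtain ⟨p, hpp, -, hpM⟩ := Ideal.exists_le_prime_disjoint ⊥ M hdisj
    obtain ⟨g, hg, hgp⟩ := hp p hpp
    exact Set.disjoint_left.1 hpM hgp ⟨g, Submonoid.subset_closure hg, rfl⟩
  obtain ⟨g, hg, hg0⟩ := h0
  exact isSepRoot_of_mem_closure b hg hg0

end Main

end Groth.Agent.WEField9
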