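import Mathlib
import Groth.Prelude.Def_PBC
import Groth.Prelude.Def_EtAlgD
import Groth.Agent.Lib.WEField1_helper9
import Groth.Agent.Lib.IndEtale1_helper3
import Groth.Agent.Lib.IndEtale4_helper3

/-!
# Weakly étale algebras over a field, part 2 (helper9)

A `K`-algebra over a field is weakly étale iff every element is a root of a separable polynomial.
-/

set_option autoImplicit false
universe u

namespace Groth.Agent.WEField9

open Polynomial TensorProduct

section

variable (K : Type u) [Field K]

theorem D_eq_zero_of_isSepRoot {C : Type u} [CommRing C] [Algebra K C] {c : C}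
    (h : IsSepRoot K c) : KaehlerDifferential.D K C c = 0 := by
  obtain ⟨g, ⟨a, b, hab⟩, h0⟩ := h
  have h1 := congrArg (aeval c) hab
  rw [map_add, map_mul, map_mul, h0, mul_zero, zero_add, map_one] at h1
  have h2 : aeval c (derivative g) • KaehlerDifferential.D K C c = 0 := by
    rw [← Derivation.map_aeval, h0, map_zero]
  calc KaehlerDifferential.D K C c = (aeval c b * aeval c (derivative g)) •
      KaehlerDifferential.D K C c := by rw [h1, one_smul]
    _ = 0 := by rw [mul_smul, h2, smul_zero]

theorem formallyUnramified_of_forall_D_eq_zero {C : Type u} [CommRing C] [Algebra K C]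
    (h : ∀ c : C, KaehlerDifferential.D K C c = 0) : Algebra.FormallyUnramified K C := by
  refine ⟨⟨fun x y => ?_⟩⟩
  have key : ∀ z : Ω[C⁄K], z = 0 := by
    intro z
    have hz : z ∈ Submodule.span C (Set.range (KaehlerDifferential.D K C)) := by
      rw [KaehlerDifferential.span_range_derivation]; trivial
    induction hz using Submodule.span_induction with
    | mem x hx =>
      obtain ⟨c, rfl⟩ := hx
      exact h c
    | zero => rfl
    | add x y _ _ hx hy => rw [hx, hy, add_zero]
    | smul a x _ hx => rw [hx, smul_zero]
  rw [key x, key y]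

/-- the subalgebra generated by roots of separable polynomials is formally unramified -/
theorem formallyUnramified_adjoin {B : Type u} [CommRing B] [Algebra K B] (s : Set B)
    (hs : ∀ x ∈ s, IsSepRoot K x) : Algebra.FormallyUnramified K (Algebra.adjoin K s) := by
  apply formallyUnramified_of_forall_D_eq_zero
  rintro ⟨c, hc⟩
  induction hc using Algebra.adjoin_induction with
  | mem x hx =>
    apply D_eq_zero_of_isSepRoot
    exact IsSepRoot.of_injective (Algebra.adjoin K s).val Subtype.val_injective (hs x hx)
  | algebraMap r =>
    exact (KaehlerDifferential.D K (Algebra.adjoin K s)).map_algebraMap r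
  | add x y hx hy ihx ihy =>
    have : (⟨x + y, Subalgebra.add_mem _ hx hy⟩ : Algebra.adjoin K s) = ⟨x, hx⟩ + ⟨y, hy⟩ := rfl
    rw [this, map_add, ihx, ihy, add_zero]
  | mul x y hx hy ihx ihy =>
    have : (⟨x * y, Subalgebra.mul_mem _ hx hy⟩ : Algebra.adjoin K s) = ⟨x, hx⟩ * ⟨y, hy⟩ := rfl
    rw [this, Derivation.leibniz, ihx, ihy, smul_zero, smul_zero, add_zero]

theorem etale_of_formallyUnramified {C : Type u} [CommRing C] [Algebra K C]
    [Algebra.FiniteType K C] [Algebra.FormallyUnramified K C] : Algebra.Etale K C := by
  haveI : Algebra.FormallyEtale K C :=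
    Algebra.FormallyEtale.iff_formallyUnramified_of_field.2 inferInstance
  haveI : Algebra.FinitePresentation K C := Algebra.FinitePresentation.of_finiteType.1 inferInstance
  exact {}

/-- finitely generated subalgebras generated by roots of separable polynomials are étale -/
theorem etale_adjoin {B : Type u} [CommRing B] [Algebra K B] (s : Set B) (hfin : s.Finite)
    (hs : ∀ x ∈ s, IsSepRoot K x) : Algebra.Etale K (Algebra.adjoin K s) := by
  haveI := formallyUnramified_adjoin K s hs
  haveI : Algebra.FiniteType K (Algebra.adjoin K s) := Algebra.FiniteType.adjoin_of_finite hfin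
  exact etale_of_formallyUnramified K

theorem etale_of_forall_isSepRoot {C : Type u} [CommRing C] [Algebra K C]
    [Algebra.FiniteType K C] (h : ∀ c : C, IsSepRoot K c) : Algebra.Etale K C := by
  haveI := formallyUnramified_of_forall_D_eq_zero K (fun c => D_eq_zero_of_isSepRoot K (h c))
  exact etale_of_formallyUnramified K

/-- **T2**: if every element is a root of a separable polynomial, the algebra is ind-étale. -/
theorem isIndEtale_of_forall_isSepRoot (B : Type u) [CommRing B] [Algebra K B]
    (h : ∀ b : B, IsSepRoot K b) : EtPBC.IsIndEtale K B := by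
  apply Groth.Agent.Lib.IndEtaleH3.isIndEtale_of_exists
  · intro b
    refine ⟨Algebra.adjoin K {b}, inferInstance, inferInstance,
      etale_adjoin K {b} (Set.finite_singleton b) (fun x _ => h x), (Algebra.adjoin K {b}).val,
      ⟨b, Algebra.subset_adjoin rfl⟩, rfl⟩
  · intro C _ _ _ f c hc
    haveI : Algebra.FiniteType K f.range :=
      Algebra.FiniteType.of_surjective f.rangeRestrict f.rangeRestrict_surjective
    refine ⟨f.range, inferInstance, inferInstance,
      etale_of_forall_isSepRoot K
        (fun x => IsSepRoot.of_injective f.range.val Subtype.val_injective (h x)),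
      f.rangeRestrict, f.range.val, ?_, ?_⟩
    · ext x; rfl
    · exact Subtype.ext hc

theorem weaklyEtale_of_forall_isSepRoot (B : Type u) [CommRing B] [Algebra K B]
    (h : ∀ b : B, IsSepRoot K b) : Algebra.WeaklyEtale K B :=
  Groth.Agent.Lib.IndEtaleH3.weaklyEtale_of_isIndEtale (isIndEtale_of_forall_isSepRoot K B h)

/-- **W**: weakly étale over a field iff every element is a root of a separable polynomial. -/
theorem weaklyEtale_iff_forall_isSepRoot (B : Type u) [CommRing B] [Algebra K B] :
    Algebra.WeaklyEtale K B ↔ ∀ b : B, IsSepRoot K b :=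
  ⟨fun _ b => isSepRoot_of_weaklyEtale K B b, weaklyEtale_of_forall_isSepRoot K B⟩

end

end Groth.Agent.WEField9
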