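import Mathlib
import Groth.Prelude.Def_EtAlgD
import Groth.Agent.Lib.WEField2_helper9

/-!
# Weakly étale algebras over a field, part 3 (helper9)

The largest weakly étale subalgebra; residue field extensions of weakly étale maps.
-/

set_option autoImplicit false
universe u

namespace Groth.Agent.WEField9

open Polynomial TensorProduct

section SepSub

variable (K : Type u) [Field K] (A : Type u) [CommRing A] [Algebra K A]

theorem isSepRoot_of_mem_adjoin_pair {a b : A} (ha : IsSepRoot K a) (hb : IsSepRoot K b)
    {x : A} (hx : x ∈ Algebra.adjoin K ({a, b} : Set A)) : IsSepRoot K x := by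
  haveI : Algebra.Etale K (Algebra.adjoin K ({a, b} : Set A)) :=
    etale_adjoin K {a, b} (Set.toFinite _) (by
      intro y hy
      rcases hy with rfl | rfl
      · exact ha
      · exact hb)
  exact IsSepRoot.map (Algebra.adjoin K ({a, b} : Set A)).val
    (isSepRoot_of_weaklyEtale K (Algebra.adjoin K ({a, b} : Set A)) ⟨x, hx⟩)

/-- the subalgebra of roots of separable polynomials -/
def sepSub : Subalgebra K A where
  carrier := {a | IsSepRoot K a}
  mul_mem' {a b} ha hb := isSepRoot_of_mem_adjoin_pair K A ha hb
    (Subalgebra.mul_mem _ (Algebra.subset_adjoin (by simp)) (Algebra.subset_adjoin (by simp)))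
  add_mem' {a b} ha hb := isSepRoot_of_mem_adjoin_pair K A ha hb
    (Subalgebra.add_mem _ (Algebra.subset_adjoin (by simp)) (Algebra.subset_adjoin (by simp)))
  algebraMap_mem' r := ⟨X - C r, separable_X_sub_C, by simp⟩

theorem mem_sepSub {a : A} : a ∈ sepSub K A ↔ IsSepRoot K a := Iff.rfl

theorem weaklyEtale_sepSub : Algebra.WeaklyEtale K (sepSub K A) :=
  weaklyEtale_of_forall_isSepRoot K _
    (fun x => IsSepRoot.of_injective (sepSub K A).val Subtype.val_injective x.2)

theorem le_sepSub_of_weaklyEtale (S : Subalgebra K A) [Algebra.WeaklyEtale K S] :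
    S ≤ sepSub K A := fun x hx =>
  IsSepRoot.map S.val (isSepRoot_of_weaklyEtale K S ⟨x, hx⟩)

theorem maxWeaklyEtale_eq_sepSub : EtAlgD.maxWeaklyEtale K A = sepSub K A := by
  apply le_antisymm
  · apply sSup_le
    intro S hS
    haveI : Algebra.WeaklyEtale K S := hS
    exact le_sepSub_of_weaklyEtale K A S
  · exact le_sSup (weaklyEtale_sepSub K A)

theorem weaklyEtale_maxWeaklyEtale : Algebra.WeaklyEtale K (EtAlgD.maxWeaklyEtale K A) := by
  rw [maxWeaklyEtale_eq_sepSub]
  exact weaklyEtale_sepSub K A

end SepSub

section Residue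

/-- residue field extensions of weakly étale maps are separable algebraic (= S1974) -/
theorem isSeparable_residueField (A B : Type u) [CommRing A] [CommRing B] [Algebra A B]
    [Algebra.WeaklyEtale A B] (p : Ideal A) [p.IsPrime] (q : Ideal B) [q.IsPrime] [q.LiesOver p]
    [Algebra (Localization.AtPrime p) (Localization.AtPrime q)]
    [Localization.AtPrime.IsLiesOverAlgebra p q] :
    Algebra.IsSeparable p.ResidueField q.ResidueField := by
  haveI i4 : IsScalarTower A B q.ResidueField := by
    refine IsScalarTower.of_algebraMap_eq fun x => ?_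
    rw [IsScalarTower.algebraMap_apply A (Localization.AtPrime q) q.ResidueField,
      IsScalarTower.algebraMap_apply B (Localization.AtPrime q) q.ResidueField,
      IsScalarTower.algebraMap_apply A B (Localization.AtPrime q)]
  haveI i3 : IsScalarTower A p.ResidueField q.ResidueField := by
    refine IsScalarTower.of_algebraMap_eq fun x => ?_
    rw [IsScalarTower.algebraMap_apply A (Localization.AtPrime q) q.ResidueField,
      IsScalarTower.algebraMap_apply A (Localization.AtPrime p) p.ResidueField,
      IsScalarTower.algebraMap_apply A (Localization.AtPrime p) (Localization.AtPrime q)]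
    rfl
  -- the fibre is weakly étale over `κ(p)`
  let φ : p.ResidueField ⊗[A] B →ₐ[p.ResidueField] q.ResidueField :=
    Algebra.TensorProduct.lift (Algebra.ofId p.ResidueField q.ResidueField)
      (IsScalarTower.toAlgHom A B q.ResidueField) (fun _ _ => Commute.all _ _)
  have hB : ∀ b : B, IsSeparable p.ResidueField (algebraMap B q.ResidueField b) := by
    intro b
    rw [← isSepRoot_iff_isSeparable]
    have h1 := isSepRoot_of_weaklyEtale p.ResidueField (p.ResidueField ⊗[A] B) ((1 : p.ResidueField) ⊗ₜ[A] b)
    have h2 := IsSepRoot.map φ h1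
    have h3 : φ ((1 : p.ResidueField) ⊗ₜ[A] b) = algebraMap B q.ResidueField b := by
      simp [φ]
    rwa [h3] at h2
  rw [← separableClosure.eq_top_iff, eq_top_iff]
  intro y _
  obtain ⟨y, rfl⟩ := IsLocalRing.residue_surjective y
  obtain ⟨b, s, rfl⟩ := IsLocalization.exists_mk'_eq q.primeCompl y
  have hs0 : algebraMap B q.ResidueField s ≠ 0 := by
    rw [Ne, Ideal.algebraMap_residueField_eq_zero]
    exact s.2
  have heq : IsLocalRing.residue (Localization.AtPrime q) (IsLocalization.mk' _ b s) =
      algebraMap B q.ResidueField b * (algebraMap B q.ResidueField s)⁻¹ := by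
    rw [eq_mul_inv_iff_mul_eq₀ hs0,
      IsScalarTower.algebraMap_apply B (Localization.AtPrime q) q.ResidueField,
      IsScalarTower.algebraMap_apply B (Localization.AtPrime q) q.ResidueField,
      IsLocalRing.ResidueField.algebraMap_eq, ← map_mul, IsLocalization.mk'_spec]
  rw [heq]
  exact mul_mem (mem_separableClosure_iff.2 (hB b)) (inv_mem (mem_separableClosure_iff.2 (hB s)))

end Residue

end Groth.Agent.WEField9
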