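import Mathlib
import Groth.Agent.Lib.WEField3_helper9

set_option autoImplicit false
universe u

namespace BMaxH8

open Polynomial Groth.Agent.WEField9

variable (K : Type u) [Field K] (A : Type u) [CommRing A] [Algebra K A]

/-- Part (2): compatibility with subalgebras. -/
theorem map_val_sepSub (A' : Subalgebra K A) :
    (sepSub K A').map A'.val = sepSub K A ⊓ A' := by
  ext x
  constructor
  · rintro ⟨a', ha', rfl⟩
    exact ⟨IsSepRoot.map A'.val ha', a'.2⟩
  · rintro ⟨hx, hxA'⟩
    exact ⟨⟨x, hxA'⟩, IsSepRoot.of_injective A'.val Subtype.val_injective hx, rfl⟩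

variable {K A}

/-- A nilpotent root of a separable polynomial is zero. -/
theorem eq_zero_of_isSepRoot_of_isNilpotent {c : A} (hs : IsSepRoot K c) (hn : IsNilpotent c) :
    c = 0 := by
  obtain ⟨g, hg, h0⟩ := hs
  have hdiv : g.divX * X + C (g.coeff 0) = g := Polynomial.divX_mul_X_add g
  by_cases hc0 : g.coeff 0 = 0
  · rw [hc0, map_zero, add_zero] at hdiv
    have hcop : IsCoprime g.divX X := by
      have hg' := hg
      rw [← hdiv] at hg'
      exact hg'.isCoprime
    obtain ⟨a, b, hab⟩ := hcop
    have h1 : aeval c a * aeval c g.divX + aeval c b * c = 1 := by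
      have := congrArg (aeval c) hab
      simpa using this
    have h2 : aeval c g.divX * c = 0 := by
      have := congrArg (aeval c) hdiv
      rw [h0] at this
      simpa using this
    have hnil : IsNilpotent (aeval c b * c) := Commute.isNilpotent_mul_left (Commute.all _ _) hn
    have hunit : IsUnit (aeval c a * aeval c g.divX) := by
      have : aeval c a * aeval c g.divX = 1 - aeval c b * c := by rw [← h1]; ring
      rw [this]
      exact hnil.isUnit_one_sub
    have hunit' : IsUnit (aeval c g.divX) := isUnit_of_mul_isUnit_right hunit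
    exact (hunit'.mul_right_eq_zero).mp h2
  · have h2 : aeval c g.divX * c + algebraMap K A (g.coeff 0) = 0 := by
      have := congrArg (aeval c) hdiv
      rw [h0] at this
      simpa using this
    have hu : IsUnit (algebraMap K A (g.coeff 0)) := (IsUnit.mk0 _ hc0).map _
    have hcu : IsUnit (aeval c g.divX * c) := by
      have : aeval c g.divX * c = - algebraMap K A (g.coeff 0) := eq_neg_of_add_eq_zero_left h2
      rw [this]
      exact hu.neg
    have hcu' : IsUnit c := isUnit_of_mul_isUnit_right hcu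
    obtain ⟨n, hn⟩ := hn
    have h3 : IsUnit (c ^ n) := hcu'.pow n
    rw [hn] at h3
    have h4 : (0 : A) = 1 := isUnit_zero_iff.mp h3
    calc c = c * 1 := (mul_one c).symm
      _ = c * 0 := by rw [h4]
      _ = 0 := mul_zero c

/-- Lifting roots of separable polynomials along nilpotents. -/
theorem exists_lift_root {b : A} {g : K[X]} (hg : g.Separable) (hn : IsNilpotent (aeval b g)) :
    ∃ b' : A, aeval b' g = 0 ∧ IsNilpotent (b' - b) := by
  have hg0 : g ≠ 0 := hg.ne_zero
  haveI : Algebra.FiniteType K (AdjoinRoot g) := by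
    have : Algebra.FiniteType K K[X] := inferInstance
    exact Algebra.FiniteType.of_surjective (AdjoinRoot.mkₐ g)
      AdjoinRoot.mk_surjective
  have hroot : IsSepRoot K (AdjoinRoot.root g) := ⟨g, hg, by
    rw [AdjoinRoot.aeval_eq, AdjoinRoot.mk_self]⟩
  have hall : ∀ c : AdjoinRoot g, IsSepRoot K c := by
    intro c
    have h1 : (⊤ : Subalgebra K (AdjoinRoot g)) ≤ sepSub K (AdjoinRoot g) := by
      rw [← AdjoinRoot.adjoinRoot_eq_top]
      apply Algebra.adjoin_le
      rintro _ rfl
      exact hroot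
    exact h1 Algebra.mem_top
  haveI : Algebra.Etale K (AdjoinRoot g) := etale_of_forall_isSepRoot K hall
  haveI : Algebra.FormallySmooth K (AdjoinRoot g) := inferInstance
  obtain ⟨n, hn⟩ := hn
  have hI : IsNilpotent (Ideal.span {aeval b g}) := ⟨n, by
    rw [Ideal.span_singleton_pow, hn, Ideal.zero_eq_bot, Ideal.span_singleton_eq_bot]⟩
  have hev : g.eval₂ (Algebra.ofId K (A ⧸ Ideal.span {aeval b g}))
      (Ideal.Quotient.mk (Ideal.span {aeval b g}) b) = 0 := by
    have h1 : g.eval₂ (Algebra.ofId K (A ⧸ Ideal.span {aeval b g}))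
        (Ideal.Quotient.mk (Ideal.span {aeval b g}) b) =
        aeval (Ideal.Quotient.mkₐ K (Ideal.span {aeval b g}) b) g := rfl
    rw [h1, aeval_algHom_apply, Ideal.Quotient.mkₐ_eq_mk, Ideal.Quotient.eq_zero_iff_mem]
    exact Ideal.mem_span_singleton_self _
  obtain ⟨φ, hφ⟩ : ∃ φ : AdjoinRoot g →ₐ[K] A ⧸ Ideal.span {aeval b g},
      φ (AdjoinRoot.root g) = Ideal.Quotient.mk _ b :=
    ⟨AdjoinRoot.liftAlgHom g (Algebra.ofId K (A ⧸ Ideal.span {aeval b g})) _ hev,
      AdjoinRoot.liftAlgHom_root _ _ _ _⟩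
  refine ⟨Algebra.FormallySmooth.lift _ hI φ (AdjoinRoot.root g), ?_, ?_⟩
  · rw [aeval_algHom_apply, AdjoinRoot.aeval_eq, AdjoinRoot.mk_self, map_zero]
  · have h1 : Ideal.Quotient.mk (Ideal.span {aeval b g})
        (Algebra.FormallySmooth.lift _ hI φ (AdjoinRoot.root g)) = Ideal.Quotient.mk _ b := by
      rw [Algebra.FormallySmooth.mk_lift, hφ]
    rw [Ideal.Quotient.eq] at h1
    obtain ⟨r, hr⟩ := Ideal.mem_span_singleton'.mp h1
    rw [← hr]
    exact Commute.isNilpotent_mul_left (Commute.all _ _) ⟨n, hn⟩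

variable (K A)

/-- Part (4): `A → A_red` induces a bijection on maximal weakly étale subalgebras. -/
theorem bijOn_sepSub : Set.BijOn (Ideal.Quotient.mkₐ K (nilradical A)) (sepSub K A)
    (sepSub K (A ⧸ nilradical A)) := by
  refine ⟨?_, ?_, ?_⟩
  · intro a ha
    exact IsSepRoot.map (Ideal.Quotient.mkₐ K (nilradical A)) ha
  · intro a ha b hb hab
    have h1 : a - b ∈ nilradical A := by
      exact Ideal.Quotient.eq.mp hab
    have h2 : IsSepRoot K (a - b) := (sepSub K A).sub_mem ha hb
    exact sub_eq_zero.mp (eq_zero_of_isSepRoot_of_isNilpotent h2 (mem_nilradical.mp h1))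
  · intro y hy
    obtain ⟨b, rfl⟩ := Ideal.Quotient.mk_surjective y
    obtain ⟨g, hg, h0⟩ := hy
    have hnil : IsNilpotent (aeval b g) := by
      rw [← mem_nilradical, ← Ideal.Quotient.eq_zero_iff_mem]
      have : Ideal.Quotient.mk (nilradical A) (aeval b g) =
          aeval (Ideal.Quotient.mkₐ K (nilradical A) b) g := by
        rw [aeval_algHom_apply]; rfl
      rw [this]
      exact h0
    obtain ⟨b', hb', hbb'⟩ := exists_lift_root hg hnil
    refine ⟨b', ⟨g, hg, hb'⟩, ?_⟩
    rw [Ideal.Quotient.mkₐ_eq_mk, Ideal.Quotient.eq]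
    exact mem_nilradical.mpr hbb'

end BMaxH8
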