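import Mathlib
import Groth.Agent.Lib.BMax1_helper8

set_option autoImplicit false
universe u

namespace BMaxH8

open Polynomial Groth.Agent.WEField9

variable {K : Type u} [Field K] {A : Type u} [CommRing A] [Algebra K A]

theorem isIntegral_of_isSepRoot {x : A} (hx : IsSepRoot K x) : IsIntegral K x := by
  obtain ⟨g, hg, h0⟩ := hx
  exact isAlgebraic_iff_isIntegral.mp ⟨g, hg.ne_zero, h0⟩

theorem separable_minpoly {x : A} (hx : IsSepRoot K x) : (minpoly K x).Separable := by
  obtain ⟨g, hg, h0⟩ := hx
  exact hg.of_dvd (minpoly.dvd K x h0)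

theorem irreducible_minpoly [Nontrivial A]
    (hidem : ∀ e : A, IsIdempotentElem e → e = 0 ∨ e = 1) {x : A} (hx : IsSepRoot K x) :
    Irreducible (minpoly K x) := by
  have hint := isIntegral_of_isSepRoot hx
  have hsep := separable_minpoly hx
  refine ⟨minpoly.not_isUnit K x, ?_⟩
  intro p q hpq
  have hcop : IsCoprime p q := by rw [hpq] at hsep; exact hsep.isCoprime
  obtain ⟨a, b, hab⟩ := hcop
  have hp0 : p ≠ 0 := by
    rintro rfl
    rw [zero_mul] at hpq
    exact minpoly.ne_zero hint hpq
  have hq0 : q ≠ 0 := by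
    rintro rfl
    rw [mul_zero] at hpq
    exact minpoly.ne_zero hint hpq
  have h2 : aeval x (a * p) + aeval x (b * q) = 1 := by rw [← map_add, hab, map_one]
  have h1 : aeval x (a * p) * aeval x (b * q) = 0 := by
    rw [← map_mul]
    have : a * p * (b * q) = a * b * minpoly K x := by rw [hpq]; ring
    rw [this, map_mul, minpoly.aeval, mul_zero]
  have he : IsIdempotentElem (aeval x (a * p)) := by
    unfold IsIdempotentElem
    calc aeval x (a * p) * aeval x (a * p)
        = aeval x (a * p) * (1 - aeval x (b * q)) := by rw [← h2]; ring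
      _ = aeval x (a * p) - aeval x (a * p) * aeval x (b * q) := by ring
      _ = aeval x (a * p) := by rw [h1, sub_zero]
  rcases hidem _ he with h | h
  · right
    have h3 : minpoly K x ∣ a * p := minpoly.dvd K x h
    rw [hpq, mul_comm a p] at h3
    have h4 : q ∣ a := (mul_dvd_mul_iff_left hp0).mp h3
    have h5 : q ∣ 1 := by
      rw [← hab]
      exact dvd_add (dvd_mul_of_dvd_left h4 p) (dvd_mul_left q b)
    exact isUnit_of_dvd_one h5
  · left
    have h0 : aeval x (b * q) = 0 := by
      rw [h] at h2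
      exact add_eq_left.mp h2
    have h3 : minpoly K x ∣ b * q := minpoly.dvd K x h0
    rw [hpq] at h3
    have h4 : p ∣ b := (mul_dvd_mul_iff_right hq0).mp h3
    have h5 : p ∣ 1 := by
      rw [← hab]
      exact dvd_add (dvd_mul_left p a) (dvd_mul_of_dvd_left h4 q)
    exact isUnit_of_dvd_one h5

theorem exists_inv [Nontrivial A]
    (hidem : ∀ e : A, IsIdempotentElem e → e = 0 ∨ e = 1) {x : A} (hx : IsSepRoot K x)
    (hx0 : x ≠ 0) : ∃ y : A, IsSepRoot K y ∧ x * y = 1 := by
  have hirr := irreducible_minpoly hidem hx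
  by_cases hdvd : minpoly K x ∣ X
  swap
  · have h := hirr.coprime_iff_not_dvd.mpr hdvd
    obtain ⟨a, b, hab⟩ := h
    refine ⟨aeval x b, ?_, ?_⟩
    · have h1 : aeval x b ∈ sepSub K A := by
        have h2 := (aeval (⟨x, hx⟩ : sepSub K A) b).2
        rwa [← Subalgebra.aeval_coe] at h2
      exact h1
    · have h3 := congrArg (aeval x) hab
      simp only [map_add, map_mul, minpoly.aeval, mul_zero, zero_add, aeval_X, map_one] at h3
      rw [mul_comm]
      exact h3
  · exfalso
    obtain ⟨c, hc⟩ := hdvd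
    have h3 := congrArg (aeval x) hc
    simp only [map_mul, minpoly.aeval, zero_mul, aeval_X] at h3
    exact hx0 h3

variable (K A)

theorem isField_sepSub [Nontrivial A]
    (hidem : ∀ e : A, IsIdempotentElem e → e = 0 ∨ e = 1) : IsField (sepSub K A) := by
  refine ⟨⟨0, 1, zero_ne_one⟩, mul_comm, ?_⟩
  intro a ha
  have ha0 : (a : A) ≠ 0 := fun h => ha (Subtype.ext h)
  obtain ⟨y, hy, hxy⟩ := exists_inv hidem a.2 ha0
  exact ⟨⟨y, hy⟩, Subtype.ext hxy⟩

theorem isSeparable_sepSub : Algebra.IsSeparable K (sepSub K A) := by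
  constructor
  intro x
  obtain ⟨g, hg, h0⟩ := x.2
  have h1 : aeval x g = 0 := by
    apply Subtype.val_injective
    rw [← Subalgebra.aeval_coe]
    exact h0
  exact hg.of_dvd (minpoly.dvd K x h1)

end BMaxH8
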