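import Mathlib

/-!
# Hilbert–Samuel functions, part 1 (helper9)

`chiS I N t = length (M / (N + I^t M))` for a submodule `N` of `M`; the elementary inequality
`chiS N (t+1) ≤ chiS N t + chiS (N + xM) (t+1)` for `x ∈ I`, and the resulting polynomial growth
bound in terms of a system of parameters.
-/

set_option autoImplicit false
universe u v

namespace Groth.Agent.Samuel9

open Module Submodule Pointwise

variable {A : Type u} [CommRing A] {M : Type v} [AddCommGroup M] [Module A M]

/-- The Samuel function of `M / N` with respect to `I`, as an extended natural number. -/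
noncomputable def chiS (I : Ideal A) (N : Submodule A M) (t : ℕ) : ℕ∞ :=
  Module.length A (M ⧸ (N ⊔ I ^ t • (⊤ : Submodule A M)))

/-- The Samuel function of `M` with respect to `I`. -/
noncomputable def chiE (I : Ideal A) (M : Type v) [AddCommGroup M] [Module A M] (t : ℕ) : ℕ∞ :=
  Module.length A (M ⧸ (I ^ t • (⊤ : Submodule A M)))

theorem chiS_bot (I : Ideal A) (t : ℕ) : chiS I (⊥ : Submodule A M) t = chiE I M t := by
  unfold chiS chiE
  rw [bot_sup_eq]

/-- Length of quotients is antitone in the submodule. -/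
theorem length_quot_le_of_le {P Q : Submodule A M} (h : P ≤ Q) :
    Module.length A (M ⧸ Q) ≤ Module.length A (M ⧸ P) :=
  Module.length_le_of_surjective (P.mapQ Q LinearMap.id (by simpa using h))
    (by
      intro y
      obtain ⟨m, rfl⟩ := Q.mkQ_surjective y
      exact ⟨P.mkQ m, by simp⟩)

/-- Additivity of length along `P ≤ Q`. -/
theorem length_quot_eq_add {P Q : Submodule A M} (h : P ≤ Q) :
    Module.length A (M ⧸ P) =
      Module.length A (↥Q ⧸ P.submoduleOf Q) + Module.length A (M ⧸ Q) := by
  have hle : P.submoduleOf Q ≤ Submodule.comap Q.subtype P := le_rfl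
  refine Module.length_eq_add_of_exact
    ((P.submoduleOf Q).mapQ P Q.subtype hle)
    (P.mapQ Q LinearMap.id (by simpa using h)) ?_ ?_ ?_
  · rw [← LinearMap.ker_eq_bot, Submodule.mapQ, Submodule.ker_liftQ_eq_bot']
    ext ⟨m, hm⟩
    simp [Submodule.submoduleOf]
  · intro y
    obtain ⟨m, rfl⟩ := Q.mkQ_surjective y
    exact ⟨P.mkQ m, by simp⟩
  · intro y
    constructor
    · intro hy
      obtain ⟨m, rfl⟩ := P.mkQ_surjective y
      have hm : m ∈ Q := by
        have : Q.mkQ m = 0 := by simpa using hy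
        simpa using this
      exact ⟨(P.submoduleOf Q).mkQ ⟨m, hm⟩, by simp⟩
    · rintro ⟨z, rfl⟩
      obtain ⟨⟨m, hm⟩, rfl⟩ := (P.submoduleOf Q).mkQ_surjective z
      simp [hm]

theorem chiS_mono_right (I : Ideal A) (N : Submodule A M) {s t : ℕ} (h : s ≤ t) :
    chiS I N s ≤ chiS I N t := by
  unfold chiS
  apply length_quot_le_of_le
  exact sup_le_sup_left (Submodule.smul_mono_left (Ideal.pow_le_pow_right h)) _

theorem chiS_le_length (I : Ideal A) (N : Submodule A M) (t : ℕ) :
    chiS I N t ≤ Module.length A (M ⧸ N) :=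
  length_quot_le_of_le le_sup_left

theorem chiS_zero (I : Ideal A) (N : Submodule A M) : chiS I N 0 = 0 := by
  unfold chiS
  rw [pow_zero, Ideal.one_eq_top, Submodule.top_smul, sup_top_eq]
  exact Module.length_eq_zero

/-- The key elementary inequality. -/
theorem chiS_succ_le (I : Ideal A) (N : Submodule A M) (x : A) (hx : x ∈ I) (t : ℕ) :
    chiS I N (t + 1) ≤ chiS I N t + chiS I (N ⊔ x • (⊤ : Submodule A M)) (t + 1) := by
  set Q : Submodule A M := N ⊔ I ^ (t + 1) • (⊤ : Submodule A M) with hQ
  set h : M →ₗ[A] M ⧸ Q := Q.mkQ ∘ₗ (LinearMap.lsmul A M x) with hh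
  set K : Submodule A M := LinearMap.ker h with hK
  -- K contains N + I^t M
  have hKle : N ⊔ I ^ t • (⊤ : Submodule A M) ≤ K := by
    apply sup_le
    · intro n hn
      rw [hK, LinearMap.mem_ker, hh]
      simp only [LinearMap.coe_comp, Function.comp_apply, LinearMap.lsmul_apply, mkQ_apply,
        Quotient.mk_eq_zero]
      exact mem_sup_left (N.smul_mem x hn)
    · rw [Submodule.smul_le]
      intro r hr n _
      rw [hK, LinearMap.mem_ker, hh]
      simp only [LinearMap.coe_comp, Function.comp_apply, LinearMap.lsmul_apply, mkQ_apply,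
        Quotient.mk_eq_zero]
      apply mem_sup_right
      rw [smul_smul]
      refine Submodule.smul_mem_smul ?_ Submodule.mem_top
      rw [pow_succ']
      exact Ideal.mul_mem_mul hx hr
  -- exact sequence
  have hex : Module.length A (M ⧸ Q) =
      Module.length A (M ⧸ K) +
        Module.length A (M ⧸ (Q ⊔ x • (⊤ : Submodule A M))) := by
    refine Module.length_eq_add_of_exact (K.liftQ h le_rfl)
      (Q.mapQ (Q ⊔ x • (⊤ : Submodule A M)) LinearMap.id (by simpa using le_sup_left)) ?_ ?_ ?_
    · rw [← LinearMap.ker_eq_bot]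
      exact Submodule.ker_liftQ_eq_bot _ _ _ le_rfl
    · intro y
      obtain ⟨m, rfl⟩ := (Q ⊔ x • (⊤ : Submodule A M)).mkQ_surjective y
      exact ⟨Q.mkQ m, by simp⟩
    · intro y
      constructor
      · intro hy
        obtain ⟨m, rfl⟩ := Q.mkQ_surjective y
        have hm : m ∈ Q ⊔ x • (⊤ : Submodule A M) := by
          have : (Q ⊔ x • (⊤ : Submodule A M)).mkQ m = 0 := by simpa using hy
          simpa using this
        obtain ⟨q, hq, z, hz, rfl⟩ := Submodule.mem_sup.mp hm
        obtain ⟨m', -, rfl⟩ := (Submodule.mem_smul_pointwise_iff_exists _ _ _).mp hz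
        refine ⟨K.mkQ m', ?_⟩
        simp only [mkQ_apply, liftQ_apply, hh, LinearMap.coe_comp, Function.comp_apply,
          LinearMap.lsmul_apply]
        rw [eq_comm, ← sub_eq_zero, ← Submodule.Quotient.mk_sub, Submodule.Quotient.mk_eq_zero]
        simpa using hq
      · rintro ⟨z, rfl⟩
        obtain ⟨m, rfl⟩ := K.mkQ_surjective z
        simp only [mkQ_apply, liftQ_apply, hh, LinearMap.coe_comp, Function.comp_apply,
          LinearMap.lsmul_apply, mapQ_apply, LinearMap.id_coe, id_eq, Quotient.mk_eq_zero]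
        apply mem_sup_right
        exact Submodule.smul_mem_pointwise_smul _ _ _ trivial
  unfold chiS
  rw [← hQ, hex]
  have h1 : Module.length A (M ⧸ K) ≤
      Module.length A (M ⧸ (N ⊔ I ^ t • (⊤ : Submodule A M))) := length_quot_le_of_le hKle
  have h2 : Q ⊔ x • (⊤ : Submodule A M) =
      N ⊔ x • (⊤ : Submodule A M) ⊔ I ^ (t + 1) • (⊤ : Submodule A M) := by
    rw [hQ, sup_assoc, sup_assoc, sup_comm (I ^ (t + 1) • (⊤ : Submodule A M))]
  rw [h2]
  exact add_le_add h1 le_rfl

/-- Growth bound from a system of parameters contained in `I`. -/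
theorem chiS_le_of_params (I : Ideal A) : ∀ (s : ℕ) (N : Submodule A M) (x : Fin s → A),
    (∀ i, x i ∈ I) →
    Module.length A (M ⧸ (N ⊔ Ideal.span (Set.range x) • (⊤ : Submodule A M))) ≠ ⊤ →
    ∃ C : ℕ, ∀ t : ℕ, chiS I N t ≤ ((C * (t + 1) ^ s : ℕ) : ℕ∞) := by
  intro s
  induction s with
  | zero =>
    intro N x _ hfin
    have h0 : Ideal.span (Set.range x) = ⊥ := by
      rw [Set.range_eq_empty x, Ideal.span_empty]
    rw [h0, Submodule.bot_smul, sup_bot_eq] at hfin
    lift Module.length A (M ⧸ N) to ℕ using hfin with L hL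
    refine ⟨L, fun t => ?_⟩
    have := chiS_le_length I N t
    rw [← hL] at this
    simpa using this
  | succ s ih =>
    intro N x hx hfin
    set N' : Submodule A M := N ⊔ x 0 • (⊤ : Submodule A M) with hN'
    have hspan : N ⊔ Ideal.span (Set.range x) • (⊤ : Submodule A M) =
        N' ⊔ Ideal.span (Set.range (Fin.tail x)) • (⊤ : Submodule A M) := by
      have h1 : Set.range x = insert (x 0) (Set.range (Fin.tail x)) := by
        conv_lhs => rw [← Fin.cons_self_tail x]
        rw [Fin.range_cons]
      rw [h1, Ideal.span_insert, Submodule.sup_smul, Submodule.ideal_span_singleton_smul, hN',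
        sup_assoc]
    rw [hspan] at hfin
    obtain ⟨C', hC'⟩ := ih N' (Fin.tail x) (fun i => hx _) hfin
    have key : ∀ t : ℕ, chiS I N t ≤ ((C' * t * (t + 1) ^ s : ℕ) : ℕ∞) := by
      intro t
      induction t with
      | zero => simp [chiS_zero]
      | succ t iht =>
        have h1 := chiS_succ_le I N (x 0) (hx 0) t
        have h2 := hC' (t + 1)
        refine h1.trans ((add_le_add iht h2).trans ?_)
        have : C' * t * (t + 1) ^ s + C' * (t + 1 + 1) ^ s ≤
            C' * (t + 1) * (t + 1 + 1) ^ s := by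
          have h3 : (t + 1) ^ s ≤ (t + 1 + 1) ^ s := Nat.pow_le_pow_left (by omega) s
          nlinarith [Nat.zero_le (C' * t), Nat.mul_le_mul_left (C' * t) h3]
        exact_mod_cast this
    refine ⟨C', fun t => (key t).trans ?_⟩
    have : C' * t * (t + 1) ^ s ≤ C' * (t + 1) ^ (s + 1) := by
      calc C' * t * (t + 1) ^ s ≤ C' * (t + 1) * (t + 1) ^ s := by gcongr; omega
        _ = C' * (t + 1) ^ (s + 1) := by ring
    exact_mod_cast this

/-- Difference growth bound from a system of `s + 1` parameters contained in `I`. -/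
theorem chiS_succ_le_of_params (I : Ideal A) (s : ℕ) (N : Submodule A M) (x : Fin (s + 1) → A)
    (hx : ∀ i, x i ∈ I)
    (hfin : Module.length A (M ⧸ (N ⊔ Ideal.span (Set.range x) • (⊤ : Submodule A M))) ≠ ⊤) :
    ∃ C : ℕ, ∀ t : ℕ, chiS I N (t + 1) ≤ chiS I N t + ((C * (t + 1 + 1) ^ s : ℕ) : ℕ∞) := by
  set N' : Submodule A M := N ⊔ x 0 • (⊤ : Submodule A M) with hN'
  have hspan : N ⊔ Ideal.span (Set.range x) • (⊤ : Submodule A M) =
      N' ⊔ Ideal.span (Set.range (Fin.tail x)) • (⊤ : Submodule A M) := by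
    have h1 : Set.range x = insert (x 0) (Set.range (Fin.tail x)) := by
      conv_lhs => rw [← Fin.cons_self_tail x]
      rw [Fin.range_cons]
    rw [h1, Ideal.span_insert, Submodule.sup_smul, Submodule.ideal_span_singleton_smul, hN',
      sup_assoc]
  rw [hspan] at hfin
  obtain ⟨C', hC'⟩ := chiS_le_of_params I s N' (Fin.tail x) (fun i => hx _) hfin
  refine ⟨C', fun t => ?_⟩
  have h1 := chiS_succ_le I N (x 0) (hx 0) t
  exact h1.trans (add_le_add le_rfl (hC' (t + 1)))

end Groth.Agent.Samuel9
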