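import Mathlib

/-!
# Hilbert polynomial of a hypersurface section (helper9)
-/

set_option autoImplicit false
universe u

namespace Groth.Agent.HilbSection

open Polynomial

section Poly

/-- the difference polynomial `P(X) - P(X - d)` -/
theorem diff_poly (P : ℚ[X]) (d : ℕ) (hd : 0 < d) (ht : 1 ≤ P.natDegree) :
    (P - taylor (-(d : ℚ)) P).natDegree + 1 = P.natDegree ∧
      (P - taylor (-(d : ℚ)) P).leadingCoeff = P.natDegree * d * P.leadingCoeff := by
  have hP0 : P ≠ 0 := by
    rintro rfl
    simp at ht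
  set t := P.natDegree with htdef
  have ha : P.leadingCoeff ≠ 0 := leadingCoeff_ne_zero.2 hP0
  -- coefficients above
  have hhigh : ∀ j, t ≤ j → (P - taylor (-(d : ℚ)) P).coeff j = 0 := by
    intro j hj
    rw [coeff_sub]
    rcases Nat.eq_or_lt_of_le hj with rfl | hlt
    · rw [coeff_taylor_natDegree, coeff_natDegree, sub_self]
    · rw [coeff_eq_zero_of_natDegree_lt hlt,
        coeff_eq_zero_of_natDegree_lt (by rw [natDegree_taylor]; exact hlt), sub_self]
  -- the coefficient at `t - 1`
  have hcoeff : (P - taylor (-(d : ℚ)) P).coeff (t - 1) = t * d * P.leadingCoeff := by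
    rw [coeff_sub, taylor_coeff]
    have hdeg : (hasseDeriv (t - 1) P).natDegree < 2 := by
      have := natDegree_hasseDeriv_le P (t - 1)
      omega
    rw [eval_eq_sum_range' hdeg, Finset.sum_range_succ, Finset.sum_range_one, hasseDeriv_coeff,
      hasseDeriv_coeff, pow_zero, mul_one, pow_one, zero_add, Nat.choose_self, Nat.cast_one, one_mul]
    have h1 : 1 + (t - 1) = t := by omega
    rw [h1, Nat.choose_symm ht, Nat.choose_one_right, coeff_natDegree]
    ring
  have hne : (P - taylor (-(d : ℚ)) P).coeff (t - 1) ≠ 0 := by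
    rw [hcoeff]
    have h1 : (t : ℚ) ≠ 0 := by
      have : 0 < t := ht
      exact_mod_cast this.ne'
    have h2 : (d : ℚ) ≠ 0 := by exact_mod_cast hd.ne'
    exact mul_ne_zero (mul_ne_zero h1 h2) ha
  have hdeg : (P - taylor (-(d : ℚ)) P).natDegree = t - 1 := by
    apply le_antisymm
    · rw [natDegree_le_iff_coeff_eq_zero]
      intro j hj
      exact hhigh j (by omega)
    · exact le_natDegree_of_ne_zero hne
  refine ⟨by rw [hdeg]; omega, ?_⟩
  rw [leadingCoeff, hdeg, hcoeff]

end Poly

section Pieces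

open MvPolynomial

variable (k : Type u) [Field k] (N : ℕ)

attribute [local instance] MvPolynomial.gradedAlgebra

/-- the degree `m` piece of an ideal -/
noncomputable def piece (J : Ideal (MvPolynomial (Fin N) k)) (m : ℕ) :
    Submodule k (MvPolynomial (Fin N) k) :=
  Submodule.restrictScalars k J ⊓ homogeneousSubmodule (Fin N) k m

theorem mem_piece (J : Ideal (MvPolynomial (Fin N) k)) (m : ℕ) (x : MvPolynomial (Fin N) k) :
    x ∈ piece k N J m ↔ x ∈ J ∧ x.IsHomogeneous m := by
  rw [piece, Submodule.mem_inf, Submodule.restrictScalars_mem, mem_homogeneousSubmodule]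

instance finite_homog (m : ℕ) : Module.Finite k ↥(homogeneousSubmodule (Fin N) k m) :=
  Module.Finite.iff_fg.mpr (homogeneousSubmodule_fg _ _ m)

instance finite_piece (J : Ideal (MvPolynomial (Fin N) k)) (m : ℕ) :
    Module.Finite k ↥(piece k N J m) :=
  Submodule.finiteDimensional_of_le (inf_le_right : piece k N J m ≤ homogeneousSubmodule (Fin N) k m)

/-- homogeneous component of a product with a homogeneous element -/
theorem homogeneousComponent_mul_of_isHomogeneous (c f : MvPolynomial (Fin N) k) (d m : ℕ)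
    (hf : f.IsHomogeneous d) (hm : d ≤ m) :
    homogeneousComponent m (c * f) = homogeneousComponent (m - d) c * f := by
  conv_lhs => rw [← sum_homogeneousComponent c, Finset.sum_mul, map_sum]
  have hterm : ∀ i ∈ Finset.range (c.totalDegree + 1),
      homogeneousComponent m (homogeneousComponent i c * f) =
        if i = m - d then homogeneousComponent (m - d) c * f else 0 := by
    intro i _
    have h1 : (homogeneousComponent i c * f).IsHomogeneous (i + d) :=
      (homogeneousComponent_isHomogeneous i c).mul hf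
    rw [homogeneousComponent_of_mem ((mem_homogeneousSubmodule _ _).2 h1)]
    by_cases hi : i = m - d
    · subst hi
      rw [if_pos (by omega), if_pos rfl]
    · rw [if_neg (by omega), if_neg hi]
  rw [Finset.sum_congr rfl hterm, Finset.sum_ite_eq']
  split_ifs with h
  · rfl
  · rw [Finset.mem_range, not_lt] at h
    rw [homogeneousComponent_eq_zero _ _ (by omega), zero_mul]

theorem piece_sup (I : Ideal (MvPolynomial (Fin N) k))
    (hI : I.IsHomogeneous (homogeneousSubmodule (Fin N) k)) (f : MvPolynomial (Fin N) k) (d : ℕ)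
    (hf : f.IsHomogeneous d) (m : ℕ) (hm : d ≤ m) :
    piece k N (I ⊔ Ideal.span {f}) m = piece k N I m ⊔
      Submodule.map (LinearMap.mulLeft k f) (homogeneousSubmodule (Fin N) k (m - d)) := by
  apply le_antisymm
  · intro g hg
    rw [mem_piece] at hg
    obtain ⟨hgI, hgm⟩ := hg
    obtain ⟨a, ha, b, hb, hab⟩ := Submodule.mem_sup.1 hgI
    obtain ⟨c, rfl⟩ := Ideal.mem_span_singleton'.1 hb
    have h1 : g = homogeneousComponent m a + homogeneousComponent (m - d) c * f := by
      rw [← homogeneousComponent_mul_of_isHomogeneous k N c f d m hf hm, ← map_add, hab,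
        homogeneousComponent_eq_self hgm]
    rw [h1]
    refine Submodule.add_mem_sup ?_ ?_
    · rw [mem_piece]
      exact ⟨homogeneousComponent_mem_of_mem hI ha m, homogeneousComponent_isHomogeneous m a⟩
    · refine ⟨homogeneousComponent (m - d) c,
        (mem_homogeneousSubmodule _ _).2 (homogeneousComponent_isHomogeneous _ c), ?_⟩
      rw [LinearMap.mulLeft_apply, mul_comm]
  · apply sup_le
    · intro g hg
      rw [mem_piece] at hg ⊢
      exact ⟨Ideal.mem_sup_left hg.1, hg.2⟩
    · rintro _ ⟨b, hb, rfl⟩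
      rw [LinearMap.mulLeft_apply, mem_piece]
      refine ⟨Ideal.mem_sup_right (Ideal.mul_mem_right _ _ (Ideal.subset_span rfl)), ?_⟩
      have := hf.mul ((mem_homogeneousSubmodule _ _).1 hb)
      rwa [show d + (m - d) = m by omega] at this

theorem piece_inf (I : Ideal (MvPolynomial (Fin N) k)) [I.IsPrime]
    (f : MvPolynomial (Fin N) k) (d : ℕ) (hf : f.IsHomogeneous d) (hfI : f ∉ I)
    (m : ℕ) (hm : d ≤ m) :
    piece k N I m ⊓
      Submodule.map (LinearMap.mulLeft k f) (homogeneousSubmodule (Fin N) k (m - d)) =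
    Submodule.map (LinearMap.mulLeft k f) (piece k N I (m - d)) := by
  apply le_antisymm
  · rintro g ⟨hg1, b, hb, rfl⟩
    rw [SetLike.mem_coe, mem_piece, LinearMap.mulLeft_apply] at hg1
    refine ⟨b, ?_, rfl⟩
    rw [SetLike.mem_coe, mem_piece]
    refine ⟨?_, (mem_homogeneousSubmodule _ _).1 hb⟩
    exact (Ideal.IsPrime.mem_or_mem inferInstance hg1.1).resolve_left hfI
  · rintro _ ⟨b, hb, rfl⟩
    rw [SetLike.mem_coe, mem_piece] at hb
    rw [LinearMap.mulLeft_apply]
    refine ⟨?_, b, (mem_homogeneousSubmodule _ _).2 hb.2, rfl⟩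
    rw [SetLike.mem_coe, mem_piece]
    refine ⟨Ideal.mul_mem_left _ _ hb.1, ?_⟩
    have := hf.mul hb.2
    rwa [show d + (m - d) = m by omega] at this

theorem finrank_piece (I : Ideal (MvPolynomial (Fin N) k)) [I.IsPrime]
    (hI : I.IsHomogeneous (homogeneousSubmodule (Fin N) k))
    (f : MvPolynomial (Fin N) k) (d : ℕ) (hf : f.IsHomogeneous d) (hfI : f ∉ I)
    (m : ℕ) (hm : d ≤ m) :
    Module.finrank k ↥(piece k N (I ⊔ Ideal.span {f}) m) +
      Module.finrank k ↥(piece k N I (m - d)) =
    Module.finrank k ↥(piece k N I m) +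
      Module.finrank k ↥(homogeneousSubmodule (Fin N) k (m - d)) := by
  have hf0 : f ≠ 0 := fun h => hfI (h ▸ I.zero_mem)
  have hinj : Function.Injective (LinearMap.mulLeft k f) := by
    intro a b hab
    simp only [LinearMap.mulLeft_apply] at hab
    exact mul_left_cancel₀ hf0 hab
  have h1 := Submodule.finrank_sup_add_finrank_inf_eq (piece k N I m)
    (Submodule.map (LinearMap.mulLeft k f) (homogeneousSubmodule (Fin N) k (m - d)))
  rw [← piece_sup k N I hI f d hf m hm, piece_inf k N I f d hf hfI m hm] at h1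
  rw [← (Submodule.equivMapOfInjective _ hinj (piece k N I (m - d))).finrank_eq,
    ← (Submodule.equivMapOfInjective _ hinj (homogeneousSubmodule (Fin N) k (m - d))).finrank_eq]
    at h1
  exact h1

end Pieces

section Main

open MvPolynomial

variable (k : Type u) [Field k] (N : ℕ)

attribute [local instance] MvPolynomial.gradedAlgebra

theorem main (I : Ideal (MvPolynomial (Fin N) k)) [I.IsPrime]
    (hI : I.IsHomogeneous (homogeneousSubmodule (Fin N) k))
    (f : MvPolynomial (Fin N) k) (d : ℕ) (hd : 0 < d) (hf : f.IsHomogeneous d) (hfI : f ∉ I)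
    (P Q : ℚ[X])
    (hP : ∃ m₀ : ℕ, ∀ m : ℕ, m₀ ≤ m → P.eval (m : ℚ) =
      (Module.finrank k ↥(homogeneousSubmodule (Fin N) k m) : ℚ) -
        Module.finrank k ↥(piece k N I m))
    (hQ : ∃ m₀ : ℕ, ∀ m : ℕ, m₀ ≤ m → Q.eval (m : ℚ) =
      (Module.finrank k ↥(homogeneousSubmodule (Fin N) k m) : ℚ) -
        Module.finrank k ↥(piece k N (I ⊔ Ideal.span {f}) m))
    (hdim : 1 ≤ P.natDegree) :
    Q.natDegree + 1 = P.natDegree ∧
      (Q.natDegree.factorial : ℚ) * Q.leadingCoeff =
        d * ((P.natDegree.factorial : ℚ) * P.leadingCoeff) := by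
  obtain ⟨m₁, hP⟩ := hP
  obtain ⟨m₂, hQ⟩ := hQ
  have hQD : Q = P - taylor (-(d : ℚ)) P := by
    apply Polynomial.eq_of_infinite_eval_eq
    refine Set.Infinite.mono ?_ ((Set.Ici_infinite (max m₁ m₂ + d)).image
      (Nat.cast_injective (R := ℚ)).injOn)
    rintro _ ⟨m, hm, rfl⟩
    rw [Set.mem_Ici] at hm
    have hm1 : m₁ ≤ m - d := by
      have := le_max_left m₁ m₂
      omega
    have hm1' : m₁ ≤ m := by omega
    have hm2 : m₂ ≤ m := by
      have := le_max_right m₁ m₂
      omega
    have hdm : d ≤ m := by omega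
    have hfr := finrank_piece k N I hI f d hf hfI m hdm
    have hfrQ : (Module.finrank k ↥(piece k N (I ⊔ Ideal.span {f}) m) : ℚ) +
        Module.finrank k ↥(piece k N I (m - d)) =
        Module.finrank k ↥(piece k N I m) +
        Module.finrank k ↥(homogeneousSubmodule (Fin N) k (m - d)) := by
      exact_mod_cast hfr
    have hPmd := hP (m - d) hm1
    rw [Nat.cast_sub hdm] at hPmd
    rw [Set.mem_setOf_eq, Polynomial.eval_sub, taylor_eval, hQ m hm2, hP m hm1', ← sub_eq_add_neg, hPmd]
    linarith
  have hdiff := diff_poly P d hd hdim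
  rw [← hQD] at hdiff
  obtain ⟨h1, h2⟩ := hdiff
  refine ⟨h1, ?_⟩
  rw [h2, ← h1, Nat.factorial_succ]
  push_cast
  ring

end Main

end Groth.Agent.HilbSection
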