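import Mathlib

/-!
# Hilbert function of a hypersurface (S12915)
-/

universe u

namespace Groth.Agent.Lib.HypersurfaceHilbert

open MvPolynomial

lemma finrank_homog (k : Type u) [Field k] (r t : ℕ) :
    Module.finrank k (MvPolynomial.homogeneousSubmodule (Fin (r + 1)) k t)
      = Nat.choose (t + r) r := by
  classical
  let s : Set (Fin (r + 1) →₀ ℕ) := {d | d.degree = t}
  letI : Fintype s := Fintype.ofFinset ((Finset.univ : Finset (Fin (r + 1))).finsuppAntidiag t) (by
    intro d
    rw [Finset.mem_finsuppAntidiag]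
    simp [s, Finsupp.degree_eq_sum])
  have e1 : MvPolynomial.homogeneousSubmodule (Fin (r + 1)) k t ≃ₗ[k] (s →₀ k) :=
    (LinearEquiv.ofEq _ _
      (MvPolynomial.homogeneousSubmodule_eq_finsupp_supported (Fin (r + 1)) k t)).trans
      (AddMonoidAlgebra.supportedEquivFinsupp s)
  rw [e1.finrank_eq, Module.finrank_finsupp_self, Fintype.card_ofFinset,
    Finset.card_finsuppAntidiag_nat_eq_choose, Finset.card_univ, Fintype.card_fin]
  have : r + 1 + t - 1 = t + r := by omega
  rw [this, Nat.choose_symm_add]

theorem main (k : Type u) [Field k] (r m : ℕ)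
    (f : MvPolynomial (Fin (r + 1)) k) (hf : f.IsHomogeneous m) (hf0 : f ≠ 0) (t : ℕ) (ht : m ≤ t) :
    Module.finrank k
        (Submodule.map ((Ideal.Quotient.mkₐ k (Ideal.span {f})).toLinearMap)
          (MvPolynomial.homogeneousSubmodule (Fin (r + 1)) k t)) =
      Nat.choose (t + r) r - Nat.choose (t + r - m) r := by
  classical
  letI := MvPolynomial.gradedAlgebra (σ := Fin (r + 1)) (R := k)
  haveI : Module.Finite k (MvPolynomial.homogeneousSubmodule (Fin (r + 1)) k t) :=
    Module.Finite.iff_fg.mpr (MvPolynomial.homogeneousSubmodule_fg _ _ t)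
  let g : (MvPolynomial.homogeneousSubmodule (Fin (r + 1)) k t) →ₗ[k]
      (MvPolynomial (Fin (r + 1)) k ⧸ Ideal.span {f}) :=
    (Ideal.Quotient.mkₐ k (Ideal.span {f})).toLinearMap.domRestrict
      (MvPolynomial.homogeneousSubmodule (Fin (r + 1)) k t)
  have hrange : LinearMap.range g
      = Submodule.map (Ideal.Quotient.mkₐ k (Ideal.span {f})).toLinearMap
        (MvPolynomial.homogeneousSubmodule (Fin (r + 1)) k t) :=
    LinearMap.range_domRestrict _ _
  let μ : (MvPolynomial.homogeneousSubmodule (Fin (r + 1)) k (t - m)) →ₗ[k]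
      (MvPolynomial.homogeneousSubmodule (Fin (r + 1)) k t) :=
    { toFun := fun h => ⟨f * h.1, by
        have := hf.mul h.2
        rwa [Nat.add_sub_cancel' ht] at this⟩
      map_add' := fun a b => by
        apply Subtype.ext
        simp [mul_add]
      map_smul' := fun c a => by
        apply Subtype.ext
        simp [mul_smul_comm] }
  have hμinj : Function.Injective μ := by
    intro a b hab
    have : f * a.1 = f * b.1 := congrArg Subtype.val hab
    exact Subtype.ext (mul_left_cancel₀ hf0 this)
  have hker : LinearMap.ker g = LinearMap.range μ := by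
    ext x
    rw [LinearMap.mem_ker, LinearMap.mem_range]
    constructor
    · intro hx
      have hx' : (x : MvPolynomial _ k) ∈ Ideal.span {f} := by
        rw [← Ideal.Quotient.eq_zero_iff_mem]; exact hx
      obtain ⟨h, hh⟩ := Ideal.mem_span_singleton'.mp hx'
      refine ⟨⟨(DirectSum.decompose (MvPolynomial.homogeneousSubmodule (Fin (r + 1)) k) h (t - m)
        : MvPolynomial _ k), SetLike.coe_mem _⟩, ?_⟩
      apply Subtype.ext
      show f * _ = (x : MvPolynomial _ k)
      have h1 := DirectSum.coe_decompose_mul_of_left_mem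
        (𝒜 := MvPolynomial.homogeneousSubmodule (Fin (r + 1)) k) (b := h) t hf
      rw [if_pos ht] at h1
      rw [← h1, mul_comm, hh, DirectSum.decompose_of_mem_same _ x.2]
    · rintro ⟨h, rfl⟩
      show Ideal.Quotient.mk _ (f * h.1) = 0
      rw [Ideal.Quotient.eq_zero_iff_mem]
      exact Ideal.mul_mem_right _ _ (Ideal.subset_span rfl)
  have hrn := LinearMap.finrank_range_add_finrank_ker g
  rw [hker, LinearMap.finrank_range_of_inj hμinj, hrange, finrank_homog, finrank_homog] at hrn
  have : t - m + r = t + r - m := by omega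
  rw [this] at hrn
  omega

end Groth.Agent.Lib.HypersurfaceHilbert
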