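import Mathlib
import Groth.Agent.Lib.Link10_helper9
import Groth.Agent.Lib.HilbSection_helper9
import Groth.Agent.Lib.HypersurfaceHilbert_helper1
import Groth.Agent.Lib.FlatCM2_helper9
import Groth.Agent.Lib.TensorFieldCM_helper9
import Groth.Agent.Lib.DimFT_helper8
import Groth.Agent.Lib.Link3_helper9
import Groth.Agent.Lib.CM_helper5

/-!
# Hilbert function of a complete intersection of `n` hypersurfaces in `P^n` (helper9)
APPEND-ONLY once landed.
-/

set_option autoImplicit false
set_option maxHeartbeats 400000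
universe u

namespace Groth.Agent.ProjDeg9

open Polynomial MvPolynomial Groth.Agent.HilbSection

attribute [local instance] MvPolynomial.gradedAlgebra

section Pieces

variable (k : Type u) [Field k] (N : ℕ)

theorem piece_inf' (I : Ideal (MvPolynomial (Fin N) k))
    (f : MvPolynomial (Fin N) k) (d : ℕ) (hf : f.IsHomogeneous d)
    (hreg : ∀ c, c * f ∈ I → c ∈ I) (m : ℕ) (hm : d ≤ m) :
    piece k N I m ⊓
      Submodule.map (LinearMap.mulLeft k f) (homogeneousSubmodule (Fin N) k (m - d)) =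
    Submodule.map (LinearMap.mulLeft k f) (piece k N I (m - d)) := by
  apply le_antisymm
  · rintro g ⟨hg1, b, hb, rfl⟩
    rw [SetLike.mem_coe, mem_piece, LinearMap.mulLeft_apply] at hg1
    refine ⟨b, ?_, rfl⟩
    rw [SetLike.mem_coe, mem_piece]
    refine ⟨?_, (mem_homogeneousSubmodule _ _).1 hb⟩
    exact hreg b (by rw [mul_comm]; exact hg1.1)
  · rintro _ ⟨b, hb, rfl⟩
    rw [SetLike.mem_coe, mem_piece] at hb
    rw [LinearMap.mulLeft_apply]
    refine ⟨?_, b, (mem_homogeneousSubmodule _ _).2 hb.2, rfl⟩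
    rw [SetLike.mem_coe, mem_piece]
    refine ⟨Ideal.mul_mem_left _ _ hb.1, ?_⟩
    have := hf.mul hb.2
    rwa [show d + (m - d) = m by omega] at this

theorem finrank_piece' (I : Ideal (MvPolynomial (Fin N) k))
    (hI : I.IsHomogeneous (homogeneousSubmodule (Fin N) k))
    (f : MvPolynomial (Fin N) k) (d : ℕ) (hf : f.IsHomogeneous d) (hf0 : f ≠ 0)
    (hreg : ∀ c, c * f ∈ I → c ∈ I) (m : ℕ) (hm : d ≤ m) :
    Module.finrank k ↥(piece k N (I ⊔ Ideal.span {f}) m) +
      Module.finrank k ↥(piece k N I (m - d)) =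
    Module.finrank k ↥(piece k N I m) +
      Module.finrank k ↥(homogeneousSubmodule (Fin N) k (m - d)) := by
  have hinj : Function.Injective (LinearMap.mulLeft k f) := by
    intro a b hab
    simp only [LinearMap.mulLeft_apply] at hab
    exact mul_left_cancel₀ hf0 hab
  have h1 := Submodule.finrank_sup_add_finrank_inf_eq (piece k N I m)
    (Submodule.map (LinearMap.mulLeft k f) (homogeneousSubmodule (Fin N) k (m - d)))
  rw [← piece_sup k N I hI f d hf m hm, piece_inf' k N I f d hf hreg m hm] at h1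
  rw [← (Submodule.equivMapOfInjective _ hinj (piece k N I (m - d))).finrank_eq,
    ← (Submodule.equivMapOfInjective _ hinj (homogeneousSubmodule (Fin N) k (m - d))).finrank_eq]
    at h1
  exact h1

/-- one step: cutting by a regular homogeneous element of degree `d` -/
theorem step (I : Ideal (MvPolynomial (Fin N) k))
    (hI : I.IsHomogeneous (homogeneousSubmodule (Fin N) k))
    (f : MvPolynomial (Fin N) k) (d : ℕ) (hd : 0 < d) (hf : f.IsHomogeneous d) (hf0 : f ≠ 0)
    (hreg : ∀ c, c * f ∈ I → c ∈ I)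
    (P : ℚ[X])
    (hP : ∃ m₀ : ℕ, ∀ m : ℕ, m₀ ≤ m → P.eval (m : ℚ) =
      (Module.finrank k ↥(homogeneousSubmodule (Fin N) k m) : ℚ) -
        Module.finrank k ↥(piece k N I m))
    (hdim : 1 ≤ P.natDegree) :
    ∃ Q : ℚ[X], Q.natDegree + 1 = P.natDegree ∧
      (Q.natDegree.factorial : ℚ) * Q.leadingCoeff =
        d * ((P.natDegree.factorial : ℚ) * P.leadingCoeff) ∧
      ∃ m₀ : ℕ, ∀ m : ℕ, m₀ ≤ m → Q.eval (m : ℚ) =
        (Module.finrank k ↥(homogeneousSubmodule (Fin N) k m) : ℚ) -
          Module.finrank k ↥(piece k N (I ⊔ Ideal.span {f}) m) := by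
  obtain ⟨m₁, hP⟩ := hP
  have hdiff := diff_poly P d hd hdim
  obtain ⟨h1, h2⟩ := hdiff
  refine ⟨P - taylor (-(d : ℚ)) P, h1, ?_, m₁ + d, ?_⟩
  · rw [h2, ← h1, Nat.factorial_succ]
    push_cast
    ring
  · intro m hm
    have hm1 : m₁ ≤ m - d := by omega
    have hm1' : m₁ ≤ m := by omega
    have hdm : d ≤ m := by omega
    have hfr := finrank_piece' k N I hI f d hf hf0 hreg m hdm
    have hfrQ : (Module.finrank k ↥(piece k N (I ⊔ Ideal.span {f}) m) : ℚ) +
        Module.finrank k ↥(piece k N I (m - d)) =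
        Module.finrank k ↥(piece k N I m) +
        Module.finrank k ↥(homogeneousSubmodule (Fin N) k (m - d)) := by
      exact_mod_cast hfr
    have hPmd := hP (m - d) hm1
    rw [Nat.cast_sub hdm] at hPmd
    rw [Polynomial.eval_sub, taylor_eval, hP m hm1', ← sub_eq_add_neg, hPmd]
    linarith

end Pieces

section Chain

variable (k : Type u) [Field k] (n : ℕ)

/-- the ideal generated by the first `i` of the `f_j` -/
noncomputable def J (f : Fin n → MvPolynomial (Fin (n + 1)) k) (i : ℕ) :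
    Ideal (MvPolynomial (Fin (n + 1)) k) :=
  Ideal.span (f '' {j : Fin n | (j : ℕ) < i})

theorem J_zero (f : Fin n → MvPolynomial (Fin (n + 1)) k) : J k n f 0 = ⊥ := by
  unfold J
  simp

theorem J_succ (f : Fin n → MvPolynomial (Fin (n + 1)) k) (i : ℕ) (h : i < n) :
    J k n f (i + 1) = J k n f i ⊔ Ideal.span {f ⟨i, h⟩} := by
  unfold J
  rw [← Ideal.span_union]
  congr 1
  ext x
  simp only [Set.mem_image, Set.mem_setOf_eq, Set.mem_union, Set.mem_singleton_iff]
  constructor
  · rintro ⟨j, hj, rfl⟩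
    rcases Nat.lt_succ_iff_lt_or_eq.1 hj with h1 | h1
    · exact Or.inl ⟨j, h1, rfl⟩
    · right
      congr 1
      exact Fin.ext h1
  · rintro (⟨j, hj, rfl⟩ | rfl)
    · exact ⟨j, by omega, rfl⟩
    · exact ⟨⟨i, h⟩, by simp, rfl⟩

theorem J_top (f : Fin n → MvPolynomial (Fin (n + 1)) k) :
    J k n f n = Ideal.span (Set.range f) := by
  unfold J
  congr 1
  ext x
  simp

theorem J_mono (f : Fin n → MvPolynomial (Fin (n + 1)) k) (i : ℕ) :
    J k n f i ≤ Ideal.span (Set.range f) := by
  unfold J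
  apply Ideal.span_mono
  rintro _ ⟨j, _, rfl⟩
  exact ⟨j, rfl⟩

theorem J_isHomogeneous (f : Fin n → MvPolynomial (Fin (n + 1)) k) (d : Fin n → ℕ)
    (hf : ∀ i, (f i).IsHomogeneous (d i)) (i : ℕ) :
    (J k n f i).IsHomogeneous (homogeneousSubmodule (Fin (n + 1)) k) := by
  apply Ideal.homogeneous_span
  rintro _ ⟨j, _, rfl⟩
  exact ⟨d j, (mem_homogeneousSubmodule _ _).2 (hf j)⟩

theorem chain (f : Fin n → MvPolynomial (Fin (n + 1)) k) (d : Fin n → ℕ) (hd : ∀ i, 1 ≤ d i)
    (hf : ∀ i, (f i).IsHomogeneous (d i)) (hne : ∀ i, f i ≠ 0)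
    (hreg : ∀ (i : ℕ) (h : i < n) (c : MvPolynomial (Fin (n + 1)) k),
      c * f ⟨i, h⟩ ∈ J k n f i → c ∈ J k n f i) :
    ∀ i : ℕ, i ≤ n → ∃ g : ℚ[X], g.natDegree + i = n ∧
      (g.natDegree.factorial : ℚ) * g.leadingCoeff =
        ∏ j ∈ Finset.univ.filter (fun j : Fin n => (j : ℕ) < i), (d j : ℚ) ∧
      ∃ m₀ : ℕ, ∀ m : ℕ, m₀ ≤ m → g.eval (m : ℚ) =
        (Module.finrank k ↥(homogeneousSubmodule (Fin (n + 1)) k m) : ℚ) -
          Module.finrank k ↥(piece k (n + 1) (J k n f i) m) := by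
  intro i
  induction i with
  | zero =>
    intro _
    refine ⟨preHilbertPoly ℚ n 0, ?_, ?_, 0, ?_⟩
    · rw [natDegree_preHilbertPoly, add_zero]
    · rw [natDegree_preHilbertPoly, leadingCoeff_preHilbertPoly]
      have : (Finset.univ.filter (fun j : Fin n => (j : ℕ) < 0)) = ∅ := by simp
      rw [this, Finset.prod_empty]
      have hne : (n.factorial : ℚ) ≠ 0 := by exact_mod_cast n.factorial_ne_zero
      exact mul_inv_cancel₀ hne
    · intro m _
      rw [preHilbertPoly_eq_choose_sub_add ℚ n (Nat.zero_le m), J_zero]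
      have hbot : piece k (n + 1) ⊥ m = ⊥ := by
        rw [eq_bot_iff]
        intro x hx
        rw [mem_piece] at hx
        exact hx.1
      rw [hbot, finrank_bot, Groth.Agent.Lib.HypersurfaceHilbert.finrank_homog]
      simp
  | succ i ih =>
    intro hi
    have hi' : i < n := hi
    obtain ⟨P, hP1, hP2, hP3⟩ := ih (by omega)
    obtain ⟨Q, hQ1, hQ2, hQ3⟩ := step k (n + 1) (J k n f i) (J_isHomogeneous k n f d hf i)
      (f ⟨i, hi'⟩) (d ⟨i, hi'⟩) (hd _) (hf _) (hne _) (hreg i hi') P hP3 (by omega)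
    refine ⟨Q, by omega, ?_, ?_⟩
    · rw [hQ2, hP2]
      have : (Finset.univ.filter (fun j : Fin n => (j : ℕ) < i + 1)) =
          insert ⟨i, hi'⟩ (Finset.univ.filter (fun j : Fin n => (j : ℕ) < i)) := by
        ext j
        simp only [Finset.mem_filter, Finset.mem_univ, true_and, Finset.mem_insert]
        constructor
        · intro hj
          rcases Nat.lt_succ_iff_lt_or_eq.1 hj with h1 | h1
          · exact Or.inr h1
          · exact Or.inl (Fin.ext h1)
        · rintro (rfl | hj)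
          · simp
          · omega
      rw [this, Finset.prod_insert (by simp)]
    · rw [J_succ k n f i hi']
      exact hQ3

/-- the Hilbert function of a homogeneous regular sequence of length `n` in `n + 1` variables is
eventually the product of the degrees -/
theorem hilbert_eventually (f : Fin n → MvPolynomial (Fin (n + 1)) k) (d : Fin n → ℕ)
    (hd : ∀ i, 1 ≤ d i)
    (hf : ∀ i, (f i).IsHomogeneous (d i)) (hne : ∀ i, f i ≠ 0)
    (hreg : ∀ (i : ℕ) (h : i < n) (c : MvPolynomial (Fin (n + 1)) k),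
      c * f ⟨i, h⟩ ∈ J k n f i → c ∈ J k n f i) :
    ∃ m₀ : ℕ, ∀ m : ℕ, m₀ ≤ m →
      Module.finrank k ↥(homogeneousSubmodule (Fin (n + 1)) k m) -
        Module.finrank k ↥((Ideal.span (Set.range f)).restrictScalars k ⊓
          homogeneousSubmodule (Fin (n + 1)) k m) = ∏ i : Fin n, d i := by
  obtain ⟨g, hg1, hg2, m₀, hg3⟩ := chain k n f d hd hf hne hreg n le_rfl
  have hg0 : g.natDegree = 0 := by omega
  have hfil : (Finset.univ.filter (fun j : Fin n => (j : ℕ) < n)) = Finset.univ := by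
    ext j
    simp
  rw [hg0, hfil, Nat.factorial_zero, Nat.cast_one, one_mul] at hg2
  refine ⟨m₀, fun m hm => ?_⟩
  have h1 := hg3 m hm
  rw [J_top] at h1
  have hev : g.eval (m : ℚ) = g.leadingCoeff := by
    rw [Polynomial.eq_C_of_natDegree_eq_zero hg0]
    simp
  rw [hev, hg2] at h1
  have hle : Module.finrank k ↥(piece k (n + 1) (Ideal.span (Set.range f)) m) ≤
      Module.finrank k ↥(homogeneousSubmodule (Fin (n + 1)) k m) :=
    Submodule.finrank_mono inf_le_right
  change Module.finrank k ↥(homogeneousSubmodule (Fin (n + 1)) k m) -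
    Module.finrank k ↥(piece k (n + 1) (Ideal.span (Set.range f)) m) = _
  have h2 : ((Module.finrank k ↥(homogeneousSubmodule (Fin (n + 1)) k m) -
      Module.finrank k ↥(piece k (n + 1) (Ideal.span (Set.range f)) m) : ℕ) : ℚ) =
      ((∏ i : Fin n, d i : ℕ) : ℚ) := by
    rw [Nat.cast_sub hle, ← h1]
    push_cast
    rfl
  exact_mod_cast h2

end Chain

section Regular

open RingTheory.Sequence Groth.Agent.DepthLib

variable (k : Type u) [Field k] (n : ℕ)

theorem deg_zero_const :
    ∀ a ∈ (homogeneousSubmodule (Fin (n + 1)) k) 0,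
      ∃ c : k, algebraMap k (MvPolynomial (Fin (n + 1)) k) c = a := by
  intro a ha
  refine ⟨coeff 0 a, ?_⟩
  rw [MvPolynomial.algebraMap_eq, ← homogeneousComponent_zero,
    homogeneousComponent_eq_self ((mem_homogeneousSubmodule _ _).1 ha)]

theorem coeff_zero_ne_zero_of_not_mem_irrelevant (s : MvPolynomial (Fin (n + 1)) k)
    (hs : s ∉ (HomogeneousIdeal.irrelevant (homogeneousSubmodule (Fin (n + 1)) k)).toIdeal) :
    coeff 0 s ≠ 0 := by
  intro h0
  apply hs
  change s ∈ HomogeneousIdeal.irrelevant (homogeneousSubmodule (Fin (n + 1)) k)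
  rw [HomogeneousIdeal.mem_irrelevant_iff, GradedRing.proj_apply]
  have h1 : ((DirectSum.decompose (homogeneousSubmodule (Fin (n + 1)) k) s 0 :
      homogeneousSubmodule (Fin (n + 1)) k 0) : MvPolynomial (Fin (n + 1)) k) =
      homogeneousComponent 0 s := decomposition.decompose'_apply s 0
  rw [h1, homogeneousComponent_zero, h0, map_zero]

/-- membership in the list of the first `i` entries -/
theorem mem_take_ofFn {α : Type*} (g : Fin n → α) (i : ℕ) (x : α) :
    x ∈ (List.ofFn g).take i ↔ ∃ j : Fin n, (j : ℕ) < i ∧ g j = x := by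
  rw [List.mem_take_iff_getElem]
  constructor
  · rintro ⟨j, hj, rfl⟩
    rw [List.length_ofFn] at hj
    refine ⟨⟨j, by omega⟩, by simp only; omega, ?_⟩
    rw [List.getElem_ofFn]
  · rintro ⟨j, hj, rfl⟩
    refine ⟨j, ?_, ?_⟩
    · rw [List.length_ofFn]
      have := j.2
      omega
    · rw [List.getElem_ofFn]

theorem ofList_take_ofFn (f : Fin n → MvPolynomial (Fin (n + 1)) k) (i : ℕ) :
    Ideal.ofList ((List.ofFn f).take i) = J k n f i := by
  unfold Ideal.ofList J
  congr 1
  ext x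
  rw [Set.mem_setOf_eq, mem_take_ofFn]
  constructor
  · rintro ⟨j, hj, rfl⟩
    exact ⟨j, hj, rfl⟩
  · rintro ⟨j, hj, rfl⟩
    exact ⟨j, hj, rfl⟩

local notation "SS" => MvPolynomial (Fin (n + 1)) k

/-- `n` homogeneous forms in `n + 1` variables cutting out a one-dimensional quotient form a regular
sequence -/
theorem regular_of_dim (f : Fin n → MvPolynomial (Fin (n + 1)) k) (d : Fin n → ℕ)
    (hf : ∀ i, (f i).IsHomogeneous (d i))
    (hdim : ringKrullDim (MvPolynomial (Fin (n + 1)) k ⧸ Ideal.span (Set.range f)) = 1) :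
    ∀ (i : ℕ) (h : i < n) (c : MvPolynomial (Fin (n + 1)) k),
      c * f ⟨i, h⟩ ∈ J k n f i → c ∈ J k n f i := by
  classical
  set 𝒜 := homogeneousSubmodule (Fin (n + 1)) k with h𝒜
  set I := Ideal.span (Set.range f) with hI
  have h0 := deg_zero_const k n
  have hIhom : I.IsHomogeneous 𝒜 := by
    rw [hI, ← J_top]
    exact J_isHomogeneous k n f d hf n
  have hIne : I ≠ ⊤ := by
    intro h
    have : Subsingleton (SS ⧸ I) := Ideal.Quotient.subsingleton_iff.2 h
    rw [ringKrullDim_eq_bot_of_subsingleton] at hdim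
    exact absurd hdim (by simp)
  set 𝔫 := (HomogeneousIdeal.irrelevant 𝒜).toIdeal with h𝔫
  haveI hmax : 𝔫.IsMaximal := Groth.Agent.Link9.irrelevant_isMaximal (𝒜 := 𝒜) h0
  haveI : 𝔫.IsPrime := hmax.isPrime
  have hI𝔫 : I ≤ 𝔫 := Groth.Agent.Link9.le_irrelevant_of_isHomogeneous h0 I hIhom hIne
  obtain ⟨hmax', hdimI⟩ := Groth.Agent.Link9.dim_quot_eq_height_irrelevant h0 I hIhom hIne
  haveI : (𝔫.map (Ideal.Quotient.mk I)).IsPrime := hmax'.isPrime
  -- the localization
  set T := Localization.AtPrime 𝔫 with hT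
  haveI : LocCoh.IsCohenMacaulayRing k := Groth.Agent.TensorCM.isCMRing_field k
  haveI hSCM : LocCoh.IsCohenMacaulayRing SS := Groth.Agent.FlatCM.isCMRing_mvPolynomial k (n + 1)
  haveI hTCM : LocCoh.IsCohenMacaulayLocalRing T := hSCM.isCohenMacaulayLocalRing_localization 𝔫
  have hTdim : ringKrullDim T = ((n + 1 : ℕ) : WithBot ℕ∞) := by
    rw [IsLocalization.AtPrime.ringKrullDim_eq_height 𝔫 T,
      Groth.Agent.DimFTH8.height_of_isMaximal_mvPolynomial k (n + 1) 𝔫]
    rfl
  have hquot : ringKrullDim (T ⧸ I.map (algebraMap SS T)) = 1 := by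
    rw [Groth.Agent.Link9.ringKrullDim_quot_localization SS I 𝔫 hI𝔫, ← hdimI, hdim]
  -- the list
  set l₀ := List.ofFn f with hl₀
  set l := l₀.map (algebraMap SS T) with hl
  have hlen : l.length = n := by simp [hl, hl₀]
  have hofl : Ideal.ofList l = I.map (algebraMap SS T) := by
    rw [hl, ← Ideal.map_ofList]
    congr 1
    have := ofList_take_ofFn k n f n
    rw [J_top, List.take_of_length_le (by simp)] at this
    exact this
  have hmem : ∀ x ∈ l, x ∈ IsLocalRing.maximalIdeal T := by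
    intro x hx
    rw [hl, List.mem_map] at hx
    obtain ⟨y, hy, rfl⟩ := hx
    rw [hl₀, List.mem_ofFn] at hy
    obtain ⟨j, rfl⟩ := hy
    have : f j ∈ 𝔫 := hI𝔫 (Ideal.subset_span ⟨j, rfl⟩)
    rw [← Localization.AtPrime.map_eq_maximalIdeal]
    exact Ideal.mem_map_of_mem _ this
  have hw : IsWeaklyRegular T l := by
    rw [(isCM_list l T hTCM.supportDim_eq_depth hmem).1, supportDim_quot_smul_top_self, hofl,
      hquot, Module.supportDim_self_eq_ringKrullDim, hTdim, hlen]
    push_cast
    rw [add_comm]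
  intro i hi c hc
  -- reduce to homogeneous `c`
  have hJhom := J_isHomogeneous k n f d hf i
  rw [mem_iff_homogeneousComponent_mem hJhom]
  intro e
  have hce : homogeneousComponent e c * f ⟨i, hi⟩ ∈ J k n f i := by
    have h1 := homogeneousComponent_mul_of_isHomogeneous k (n + 1) c (f ⟨i, hi⟩) (d ⟨i, hi⟩)
      (e + d ⟨i, hi⟩) (hf _) (by omega)
    rw [Nat.add_sub_cancel] at h1
    rw [← h1]
    exact homogeneousComponent_mem_of_mem hJhom hc _
  set c' := homogeneousComponent e c with hc'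
  have hc'hom : c'.IsHomogeneous e := homogeneousComponent_isHomogeneous e c
  -- regularity in `T`
  have hil : i < l.length := by rw [hlen]; exact hi
  have hreg := (isWeaklyRegular_iff_Fin T l).1 hw ⟨i, hil⟩
  have hgeti : l[i] = algebraMap SS T (f ⟨i, hi⟩) := by
    simp [hl, hl₀]
  have htake : Ideal.ofList (l.take i) = (J k n f i).map (algebraMap SS T) := by
    rw [hl, ← List.map_take, ← Ideal.map_ofList, ofList_take_ofFn]
  have hmemT : algebraMap SS T c' ∈ (J k n f i).map (algebraMap SS T) := by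
    have h1 : algebraMap SS T c' * algebraMap SS T (f ⟨i, hi⟩) ∈
        (J k n f i).map (algebraMap SS T) := by
      rw [← map_mul]
      exact Ideal.mem_map_of_mem _ hce
    have h2 : (l[i] : T) • (Submodule.Quotient.mk (algebraMap SS T c') :
        T ⧸ (Ideal.ofList (l.take i) • (⊤ : Submodule T T))) = l[i] • 0 := by
      rw [smul_zero, ← Submodule.Quotient.mk_smul, Submodule.Quotient.mk_eq_zero,
        ideal_smul_top_self, htake, hgeti, smul_eq_mul, mul_comm]
      exact h1
    have h3 := hreg h2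
    rw [Submodule.Quotient.mk_eq_zero, ideal_smul_top_self, htake] at h3
    exact h3
  -- descend
  rw [IsLocalization.mem_map_algebraMap_iff 𝔫.primeCompl] at hmemT
  obtain ⟨⟨a, s⟩, has⟩ := hmemT
  have h4 : ∃ t : 𝔫.primeCompl, (t : SS) * (c' * s) = t * a := by
    apply (IsLocalization.eq_iff_exists 𝔫.primeCompl T).1
    rw [map_mul]
    exact has
  obtain ⟨t, ht⟩ := h4
  have hu : (t : SS) * s ∉ 𝔫 := fun h => (Ideal.IsPrime.mem_or_mem inferInstance h).elim t.2 s.2
  have huc : c' * ((t : SS) * s) ∈ J k n f i := by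
    have : c' * ((t : SS) * s) = t * a := by rw [← ht]; ring
    rw [this]
    exact Ideal.mul_mem_left _ _ a.2
  have hu0 := coeff_zero_ne_zero_of_not_mem_irrelevant k n _ hu
  have h5 := homogeneousComponent_mem_of_mem hJhom huc e
  rw [mul_comm, homogeneousComponent_mul_of_isHomogeneous k (n + 1) ((t : SS) * s) c' e e hc'hom
    le_rfl, Nat.sub_self, homogeneousComponent_zero] at h5
  have h6 : MvPolynomial.C (MvPolynomial.coeff 0 ((t : SS) * (s : SS)))⁻¹ *
      (MvPolynomial.C (MvPolynomial.coeff 0 ((t : SS) * (s : SS))) * c') ∈ J k n f i :=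
    Ideal.mul_mem_left _ _ h5
  rwa [← mul_assoc, ← MvPolynomial.C_mul, inv_mul_cancel₀ hu0, MvPolynomial.C_1, one_mul] at h6

/-- **S14440** -/
theorem hilbert_of_dim (f : Fin n → MvPolynomial (Fin (n + 1)) k) (d : Fin n → ℕ)
    (hd : ∀ i, 1 ≤ d i) (hf : ∀ i, (f i).IsHomogeneous (d i))
    (hdim : ringKrullDim (MvPolynomial (Fin (n + 1)) k ⧸ Ideal.span (Set.range f)) = 1) :
    ∃ m₀ : ℕ, ∀ m : ℕ, m₀ ≤ m →
      Module.finrank k ↥(homogeneousSubmodule (Fin (n + 1)) k m) -
        Module.finrank k ↥((Ideal.span (Set.range f)).restrictScalars k ⊓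
          homogeneousSubmodule (Fin (n + 1)) k m) = ∏ i : Fin n, d i := by
  have hreg := regular_of_dim k n f d hf hdim
  have hIne : Ideal.span (Set.range f) ≠ ⊤ := by
    intro h
    have : Subsingleton (MvPolynomial (Fin (n + 1)) k ⧸ Ideal.span (Set.range f)) :=
      Ideal.Quotient.subsingleton_iff.2 h
    rw [ringKrullDim_eq_bot_of_subsingleton] at hdim
    exact absurd hdim (by simp)
  have hne : ∀ i, f i ≠ 0 := by
    intro i h0
    apply hIne
    rw [Ideal.eq_top_iff_one]
    apply J_mono k n f i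
    apply hreg i i.2 1
    have : f ⟨(i : ℕ), i.2⟩ = 0 := h0
    rw [this, mul_zero]
    exact Ideal.zero_mem _
  exact hilbert_eventually k n f d hd hf hne hreg

end Regular

end Groth.Agent.ProjDeg9
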