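import Mathlib
import Groth.Agent.Lib.DimFT_helper8
import Groth.Agent.Lib.Link3_helper9
import Groth.Agent.Lib.HypersurfaceHilbert_helper1

/-!
# Forms of given degree in the ideal of an irreducible projective variety (helper9)
APPEND-ONLY once landed.
-/

set_option autoImplicit false
set_option maxHeartbeats 400000
universe u

namespace Groth.Agent.Fano9

open MvPolynomial

/-- `n ≤ choose n k` for `1 ≤ k ≤ n - 1` -/
theorem le_choose : ∀ (n k : ℕ), 1 ≤ k → k + 1 ≤ n → n ≤ n.choose k := by
  intro n
  induction n with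
  | zero => intro k _ h; omega
  | succ n ih =>
    intro k hk hkn
    obtain ⟨j, rfl⟩ : ∃ j, k = j + 1 := ⟨k - 1, by omega⟩
    have hP : (n + 1).choose (j + 1) = n.choose j + n.choose (j + 1) := Nat.choose_succ_succ n j
    rw [hP]
    by_cases hj : j = 0
    · subst hj
      have h1 : n.choose 0 = 1 := Nat.choose_zero_right n
      have h2 : n.choose (0 + 1) = n := Nat.choose_one_right n
      omega
    · by_cases hjn : j + 1 = n
      · have h1 : n.choose (j + 1) = 1 := by rw [hjn]; exact Nat.choose_self n
        have h2 : n.choose j = n := by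
          rw [← hjn]
          exact Nat.choose_succ_self_right j
        omega
      · have h1 := ih j (by omega) (by omega)
        have h2 : 1 ≤ n.choose (j + 1) := Nat.choose_pos (by omega)
        omega

section Dim

variable (k : Type u) [Field k] (N : ℕ)

/-- the dimension of the quotient by the radical -/
theorem ringKrullDim_quot_radical (I : Ideal (MvPolynomial (Fin N) k)) :
    ringKrullDim (MvPolynomial (Fin N) k ⧸ I.radical) = ringKrullDim (MvPolynomial (Fin N) k ⧸ I) := by
  apply le_antisymm
  · exact ringKrullDim_le_of_surjective (Ideal.Quotient.factor Ideal.le_radical)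
      (Ideal.Quotient.factor_surjective Ideal.le_radical)
  · apply Groth.Agent.Link9.ringKrullDim_quot_le_of_forall_prime
    intro Q hQ hIQ
    have hle : I.radical ≤ Q := hQ.radical_le_iff.2 hIQ
    exact ringKrullDim_le_of_surjective (Ideal.Quotient.factor hle)
      (Ideal.Quotient.factor_surjective hle)

end Dim

section Main

variable (k : Type u) [Field k] (N : ℕ)

/-- variables algebraically independent modulo a prime of the polynomial ring -/
theorem exists_algIndep_vars (P : Ideal (MvPolynomial (Fin N) k)) [P.IsPrime] (e : ℕ)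
    (hdim : ringKrullDim (MvPolynomial (Fin N) k ⧸ P) = (e : WithBot ℕ∞)) :
    ∃ j : Fin e → Fin N,
      AlgebraicIndependent k (fun a => Ideal.Quotient.mk P (X (j a) : MvPolynomial (Fin N) k)) := by
  classical
  haveI : Algebra.FiniteType k (MvPolynomial (Fin N) k ⧸ P) :=
    Algebra.FiniteType.of_surjective (Ideal.Quotient.mkₐ k P) (Ideal.Quotient.mkₐ_surjective k P)
  obtain ⟨n, -, htr, hd, -⟩ := Groth.Agent.DimFTH8.exists_dim_eq k (MvPolynomial (Fin N) k ⧸ P)
  have hne : n = e := by
    rw [hd] at hdim
    exact_mod_cast hdim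
  set s : Set (MvPolynomial (Fin N) k ⧸ P) :=
    Set.range (fun i : Fin N => Ideal.Quotient.mk P (X i : MvPolynomial (Fin N) k)) with hs
  have hadj : Algebra.adjoin k s = ⊤ := by
    have h1 : s = (Ideal.Quotient.mkₐ k P) '' (Set.range (X : Fin N → MvPolynomial (Fin N) k)) := by
      rw [hs, ← Set.range_comp]
      rfl
    rw [h1, ← AlgHom.map_adjoin, MvPolynomial.adjoin_range_X, Algebra.map_top,
      AlgHom.range_eq_top]
    exact Ideal.Quotient.mkₐ_surjective k P
  haveI : Algebra.IsAlgebraic (Algebra.adjoin k s) (MvPolynomial (Fin N) k ⧸ P) := by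
    constructor
    intro a
    have ha : a ∈ Algebra.adjoin k s := by
      rw [hadj]
      exact Algebra.mem_top
    exact isAlgebraic_algebraMap (⟨a, ha⟩ : Algebra.adjoin k s)
  haveI : FaithfulSMul k (MvPolynomial (Fin N) k ⧸ P) :=
    (faithfulSMul_iff_algebraMap_injective k (MvPolynomial (Fin N) k ⧸ P)).2
      (algebraMap k (MvPolynomial (Fin N) k ⧸ P)).injective
  obtain ⟨t, hts, ht⟩ := exists_isTranscendenceBasis_subset (R := k) s
  have hcard : Cardinal.mk t = n := by
    rw [ht.cardinalMk_eq_trdeg, htr]
  haveI : Finite t := (Set.finite_range _).subset hts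
  haveI := Fintype.ofFinite t
  have hcard' : Fintype.card t = e := by
    have h1 := Cardinal.mk_fintype t
    rw [hcard] at h1
    have h2 : n = Fintype.card t := by exact_mod_cast h1
    omega
  let eqv : Fin e ≃ t := (Fintype.equivFinOfCardEq hcard').symm
  have hex : ∀ a : t, ∃ i : Fin N,
      Ideal.Quotient.mk P (X i : MvPolynomial (Fin N) k) = (a : MvPolynomial (Fin N) k ⧸ P) :=
    fun a => hts a.2
  choose idx hidx using hex
  refine ⟨fun a => idx (eqv a), ?_⟩
  have heq : (fun a => Ideal.Quotient.mk P (X (idx (eqv a)) : MvPolynomial (Fin N) k)) =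
      (fun a : t => (a : MvPolynomial (Fin N) k ⧸ P)) ∘ eqv := by
    funext a
    exact hidx _
  rw [heq]
  exact ht.1.comp eqv eqv.injective

end Main

section Count

variable (k : Type u) [Field k] (N : ℕ)

instance finite_homog' (t : ℕ) : Module.Finite k ↥(homogeneousSubmodule (Fin N) k t) :=
  Module.Finite.iff_fg.mpr (homogeneousSubmodule_fg _ _ t)

/-- the forms of degree `t` in an ideal whose radical is a prime with `r + 1` algebraically independent
variables have codimension at least `choose (t + r) r` -/
theorem finrank_add_le (I P : Ideal (MvPolynomial (Fin N) k)) (hIP : I ≤ P) (r : ℕ)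
    (j : Fin (r + 1) → Fin N)
    (hj : AlgebraicIndependent k
      (fun a => Ideal.Quotient.mk P (X (j a) : MvPolynomial (Fin N) k))) (t : ℕ) :
    (t + r).choose r +
      Module.finrank k ↥(homogeneousSubmodule (Fin N) k t ⊓ Submodule.restrictScalars k I) ≤
      Module.finrank k ↥(homogeneousSubmodule (Fin N) k t) := by
  classical
  set V := homogeneousSubmodule (Fin N) k t with hV
  set K := V ⊓ Submodule.restrictScalars k I with hK
  set ρ := (MvPolynomial.rename j : MvPolynomial (Fin (r + 1)) k →ₐ[k] MvPolynomial (Fin N) k)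
    with hρ
  -- `mk P ∘ ρ` is the evaluation at the independent family
  have hcomp : ∀ w : MvPolynomial (Fin (r + 1)) k,
      Ideal.Quotient.mk P (ρ w) =
        MvPolynomial.aeval (fun a => Ideal.Quotient.mk P (X (j a) : MvPolynomial (Fin N) k)) w := by
    intro w
    have h1 : ((Ideal.Quotient.mkₐ k P).comp ρ) =
        MvPolynomial.aeval (fun a => Ideal.Quotient.mk P (X (j a) : MvPolynomial (Fin N) k)) := by
      apply MvPolynomial.algHom_ext
      intro a
      simp [hρ]
    exact congrArg (fun f => f w) h1
  have hρinj : Function.Injective ρ.toLinearMap := by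
    intro w₁ w₂ h
    apply hj
    change MvPolynomial.aeval _ w₁ = MvPolynomial.aeval _ w₂
    rw [← hcomp, ← hcomp]
    exact congrArg _ h
  set W := homogeneousSubmodule (Fin (r + 1)) k t with hW
  set W' := W.map ρ.toLinearMap with hW'
  have hW'V : W' ≤ V := by
    rintro _ ⟨w, hw, rfl⟩
    rw [hV, mem_homogeneousSubmodule]
    exact ((mem_homogeneousSubmodule _ _).1 hw).rename_isHomogeneous
  have hKV : K ≤ V := inf_le_left
  have hdisj : K ⊓ W' = ⊥ := by
    rw [eq_bot_iff]
    rintro x ⟨hxK, w, hw, rfl⟩
    have hxI : ρ.toLinearMap w ∈ I := hxK.2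
    have h1 : Ideal.Quotient.mk P (ρ w) = 0 := Ideal.Quotient.eq_zero_iff_mem.2 (hIP hxI)
    rw [hcomp] at h1
    have h2 : w = 0 := by
      apply hj
      change MvPolynomial.aeval _ w = MvPolynomial.aeval _ 0
      rw [h1, map_zero]
    rw [h2, map_zero]
    exact Submodule.zero_mem _
  haveI : Module.Finite k ↥V := finite_homog' k N t
  haveI : Module.Finite k ↥K := Submodule.finiteDimensional_of_le hKV
  haveI : Module.Finite k ↥W' := Submodule.finiteDimensional_of_le hW'V
  have h1 := Submodule.finrank_sup_add_finrank_inf_eq K W'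
  rw [hdisj, finrank_bot, add_zero] at h1
  have h2 : Module.finrank k ↥(K ⊔ W') ≤ Module.finrank k ↥V :=
    Submodule.finrank_mono (sup_le hKV hW'V)
  have h3 : Module.finrank k ↥W' = Module.finrank k ↥W :=
    (Submodule.equivMapOfInjective _ hρinj W).finrank_eq.symm
  have h4 : Module.finrank k ↥W = (t + r).choose r :=
    Groth.Agent.Lib.HypersurfaceHilbert.finrank_homog k r t
  omega

/-- **S15247**, over any field -/
theorem forms_codim (m d : ℕ) (hd : 1 ≤ d) (hdm : d + 1 ≤ m)
    (I : Ideal (MvPolynomial (Fin (m + 1)) k)) (hirr : I.radical.IsPrime)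
    (hdim : ringKrullDim (MvPolynomial (Fin (m + 1)) k ⧸ I) = ((m + 1 - d : ℕ) : WithBot ℕ∞)) :
    m + 1 + Module.finrank k ↥(homogeneousSubmodule (Fin (m + 1)) k (d + 1) ⊓
        Submodule.restrictScalars k I) ≤
      Module.finrank k ↥(homogeneousSubmodule (Fin (m + 1)) k (d + 1)) := by
  haveI := hirr
  have hdimP : ringKrullDim (MvPolynomial (Fin (m + 1)) k ⧸ I.radical) =
      ((m - d + 1 : ℕ) : WithBot ℕ∞) := by
    rw [ringKrullDim_quot_radical, hdim]
    congr 2
    omega
  obtain ⟨j, hj⟩ := exists_algIndep_vars k (m + 1) I.radical (m - d + 1) hdimP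
  have h1 := finrank_add_le k (m + 1) I I.radical Ideal.le_radical (m - d) j hj (d + 1)
  have h2 : m + 1 ≤ (d + 1 + (m - d)).choose (m - d) := by
    have h3 : d + 1 + (m - d) = m + 1 := by omega
    rw [h3]
    exact le_choose (m + 1) (m - d) (by omega) (by omega)
  omega

end Count

end Groth.Agent.Fano9
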