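import Mathlib
import Groth.Agent.Lib.Fano1_helper9
import Groth.Agent.Lib.Cone3_helper9

/-!
# Growth of Hilbert functions and Krull dimension (helper9)

`hf J m = dim_k (S/J)_m`; the exact recursion `hf J m = hf (J + f) m + hf (J : f) (m - e)`.
APPEND-ONLY once landed.
-/

set_option autoImplicit false
set_option maxHeartbeats 400000
set_option linter.style.haveILetI false
universe u

namespace Groth.Agent.HilbDim9

open Polynomial MvPolynomial Groth.Agent.HilbSection Groth.Agent.ProjDeg9

attribute [local instance] MvPolynomial.gradedAlgebra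

section Rec

variable (k : Type u) [Field k] (N : ℕ)

local notation "SS" => MvPolynomial (Fin N) k

/-- the Hilbert function of `S/J` -/
noncomputable def hf (J : Ideal (MvPolynomial (Fin N) k)) (m : ℕ) : ℕ :=
  Module.finrank k ↥(homogeneousSubmodule (Fin N) k m) - Module.finrank k ↥(piece k N J m)

theorem finrank_piece_le (J : Ideal (MvPolynomial (Fin N) k)) (m : ℕ) :
    Module.finrank k ↥(piece k N J m) ≤ Module.finrank k ↥(homogeneousSubmodule (Fin N) k m) :=
  Submodule.finrank_mono (inf_le_right : piece k N J m ≤ homogeneousSubmodule (Fin N) k m)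

theorem hf_add (J : Ideal (MvPolynomial (Fin N) k)) (m : ℕ) :
    hf k N J m + Module.finrank k ↥(piece k N J m) =
      Module.finrank k ↥(homogeneousSubmodule (Fin N) k m) :=
  Nat.sub_add_cancel (finrank_piece_le k N J m)

theorem hf_top (m : ℕ) : hf k N (⊤ : Ideal (MvPolynomial (Fin N) k)) m = 0 := by
  unfold hf
  have : piece k N (⊤ : Ideal SS) m = homogeneousSubmodule (Fin N) k m := by
    unfold piece
    simp
  rw [this, Nat.sub_self]

theorem hf_anti {J J' : Ideal (MvPolynomial (Fin N) k)} (h : J ≤ J') (m : ℕ) :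
    hf k N J' m ≤ hf k N J m := by
  unfold hf
  have : Module.finrank k ↥(piece k N J m) ≤ Module.finrank k ↥(piece k N J' m) := by
    apply Submodule.finrank_mono
    intro x hx
    rw [mem_piece] at hx ⊢
    exact ⟨h hx.1, hx.2⟩
  omega

theorem colon_isHomogeneous (J : Ideal (MvPolynomial (Fin N) k))
    (hJ : J.IsHomogeneous (homogeneousSubmodule (Fin N) k))
    (f : MvPolynomial (Fin N) k) (e : ℕ) (hfe : f.IsHomogeneous e) :
    (J.colon ({f} : Set (MvPolynomial (Fin N) k))).IsHomogeneous
      (homogeneousSubmodule (Fin N) k) := by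
  intro i c hc
  change ((MvPolynomial.decomposition.decompose' c i : ↥(homogeneousSubmodule (Fin N) k i)) :
    SS) ∈ _
  rw [MvPolynomial.decomposition.decompose'_apply, Submodule.mem_colon_singleton, smul_eq_mul]
  rw [Submodule.mem_colon_singleton, smul_eq_mul] at hc
  have h1 := homogeneousComponent_mul_of_isHomogeneous k N c f e (i + e) hfe (by omega)
  rw [Nat.add_sub_cancel] at h1
  rw [← h1]
  exact homogeneousComponent_mem_of_mem hJ hc _

theorem piece_inf_colon (J : Ideal (MvPolynomial (Fin N) k))
    (f : MvPolynomial (Fin N) k) (e : ℕ) (hfe : f.IsHomogeneous e) (m : ℕ) (hm : e ≤ m) :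
    piece k N J m ⊓
      Submodule.map (LinearMap.mulLeft k f) (homogeneousSubmodule (Fin N) k (m - e)) =
    Submodule.map (LinearMap.mulLeft k f)
      (piece k N (J.colon ({f} : Set (MvPolynomial (Fin N) k))) (m - e)) := by
  apply le_antisymm
  · rintro g ⟨hg1, b, hb, rfl⟩
    rw [SetLike.mem_coe, mem_piece, LinearMap.mulLeft_apply] at hg1
    refine ⟨b, ?_, rfl⟩
    rw [SetLike.mem_coe, mem_piece]
    refine ⟨?_, (mem_homogeneousSubmodule _ _).1 hb⟩
    rw [Submodule.mem_colon_singleton, smul_eq_mul, mul_comm]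
    exact hg1.1
  · rintro _ ⟨b, hb, rfl⟩
    rw [SetLike.mem_coe, mem_piece] at hb
    rw [LinearMap.mulLeft_apply]
    refine ⟨?_, b, (mem_homogeneousSubmodule _ _).2 hb.2, rfl⟩
    rw [SetLike.mem_coe, mem_piece]
    refine ⟨?_, ?_⟩
    · have := hb.1
      rw [Submodule.mem_colon_singleton, smul_eq_mul, mul_comm] at this
      exact this
    · have := hfe.mul hb.2
      rwa [show e + (m - e) = m by omega] at this

theorem finrank_piece_colon (J : Ideal (MvPolynomial (Fin N) k))
    (hJ : J.IsHomogeneous (homogeneousSubmodule (Fin N) k))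
    (f : MvPolynomial (Fin N) k) (e : ℕ) (hfe : f.IsHomogeneous e) (hf0 : f ≠ 0)
    (m : ℕ) (hm : e ≤ m) :
    Module.finrank k ↥(piece k N (J ⊔ Ideal.span {f}) m) +
      Module.finrank k ↥(piece k N (J.colon ({f} : Set (MvPolynomial (Fin N) k))) (m - e)) =
    Module.finrank k ↥(piece k N J m) +
      Module.finrank k ↥(homogeneousSubmodule (Fin N) k (m - e)) := by
  have hinj : Function.Injective (LinearMap.mulLeft k f) := by
    intro a b hab
    simp only [LinearMap.mulLeft_apply] at hab
    exact mul_left_cancel₀ hf0 hab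
  have h1 := Submodule.finrank_sup_add_finrank_inf_eq (piece k N J m)
    (Submodule.map (LinearMap.mulLeft k f) (homogeneousSubmodule (Fin N) k (m - e)))
  rw [← piece_sup k N J hJ f e hfe m hm, piece_inf_colon k N J f e hfe m hm] at h1
  rw [← (Submodule.equivMapOfInjective _ hinj
      (piece k N (J.colon ({f} : Set SS)) (m - e))).finrank_eq,
    ← (Submodule.equivMapOfInjective _ hinj (homogeneousSubmodule (Fin N) k (m - e))).finrank_eq]
    at h1
  exact h1

/-- the exact recursion of Hilbert functions -/
theorem hf_rec (J : Ideal (MvPolynomial (Fin N) k))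
    (hJ : J.IsHomogeneous (homogeneousSubmodule (Fin N) k))
    (f : MvPolynomial (Fin N) k) (e : ℕ) (hfe : f.IsHomogeneous e) (hf0 : f ≠ 0)
    (m : ℕ) (hm : e ≤ m) :
    hf k N J m = hf k N (J ⊔ Ideal.span {f}) m +
      hf k N (J.colon ({f} : Set (MvPolynomial (Fin N) k))) (m - e) := by
  have h1 := finrank_piece_colon k N J hJ f e hfe hf0 m hm
  have h2 := hf_add k N J m
  have h3 := hf_add k N (J ⊔ Ideal.span {f}) m
  have h4 := hf_add k N (J.colon ({f} : Set SS)) (m - e)
  -- `dim S_m = dim (f S_{m-e}) + ...` : need `dim S_{m-e} ≤ dim S_m`-free argument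
  have h5 : Module.finrank k ↥(homogeneousSubmodule (Fin N) k (m - e)) +
      Module.finrank k ↥(piece k N J m) ≤
      Module.finrank k ↥(homogeneousSubmodule (Fin N) k m) +
      Module.finrank k ↥(piece k N (J.colon ({f} : Set SS)) (m - e)) := by
    have := finrank_piece_le k N (J ⊔ Ideal.span {f}) m
    omega
  omega

end Rec

end Groth.Agent.HilbDim9
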