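import Mathlib
import Groth.Agent.Lib.HilbDim1_helper9

/-!
# Growth of Hilbert functions and Krull dimension, II: the upper bound (helper9)

`Bdd d f` says `f m = O(m^(d-1))` (eventually zero when `d = 0`).  By Noetherian induction with
the exact recursion, `dim S/J ≤ d` gives `Bdd d (hf J)`.
APPEND-ONLY once landed.
-/

set_option autoImplicit false
set_option maxHeartbeats 400000
set_option linter.style.haveILetI false
universe u

namespace Groth.Agent.HilbDim9

open Polynomial MvPolynomial Groth.Agent.HilbSection Groth.Agent.ProjDeg9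

attribute [local instance] MvPolynomial.gradedAlgebra

section Arith

/-- `f m = O(m ^ (d - 1))`, to be read as eventually zero when `d = 0` -/
def Bdd (d : ℕ) (f : ℕ → ℕ) : Prop := ∃ C m₀ : ℕ, ∀ m, m₀ ≤ m → f m * m ≤ C * m ^ d

theorem Bdd.zero (d : ℕ) : Bdd d (fun _ => 0) := ⟨0, 0, fun m _ => by simp⟩

theorem Bdd.add {d : ℕ} {f g : ℕ → ℕ} (hf : Bdd d f) (hg : Bdd d g) :
    Bdd d (fun m => f m + g m) := by
  obtain ⟨C₁, m₁, h₁⟩ := hf
  obtain ⟨C₂, m₂, h₂⟩ := hg
  refine ⟨C₁ + C₂, max m₁ m₂, fun m hm => ?_⟩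
  have e1 := h₁ m (le_trans (le_max_left _ _) hm)
  have e2 := h₂ m (le_trans (le_max_right _ _) hm)
  calc (f m + g m) * m = f m * m + g m * m := add_mul _ _ _
    _ ≤ C₁ * m ^ d + C₂ * m ^ d := add_le_add e1 e2
    _ = (C₁ + C₂) * m ^ d := (add_mul _ _ _).symm

theorem Bdd.shift {d : ℕ} {f : ℕ → ℕ} (hf : Bdd d f) (e : ℕ) :
    Bdd d (fun m => f (m - e)) := by
  obtain ⟨C, m₀, h⟩ := hf
  refine ⟨(e + 1) * C, m₀ + e + 1, fun m hm => ?_⟩
  have h1 := h (m - e) (by omega)
  have h2 : m ≤ (e + 1) * (m - e) := by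
    have : 1 ≤ m - e := by omega
    calc m = (m - e) + e * 1 := by omega
      _ ≤ (m - e) + e * (m - e) := by gcongr
      _ = (e + 1) * (m - e) := by ring
  have h3 : (m - e) ^ d ≤ m ^ d := Nat.pow_le_pow_left (Nat.sub_le _ _) d
  calc f (m - e) * m ≤ f (m - e) * ((e + 1) * (m - e)) := Nat.mul_le_mul_left _ h2
    _ = (e + 1) * (f (m - e) * (m - e)) := by ring
    _ ≤ (e + 1) * (C * (m - e) ^ d) := Nat.mul_le_mul_left _ h1
    _ ≤ (e + 1) * (C * m ^ d) := by gcongr
    _ = (e + 1) * C * m ^ d := by ring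

theorem Bdd.of_le {d : ℕ} {f g : ℕ → ℕ} (hg : Bdd d g) (m₁ : ℕ) (h : ∀ m, m₁ ≤ m → f m ≤ g m) :
    Bdd d f := by
  obtain ⟨C, m₀, hC⟩ := hg
  refine ⟨C, max m₀ m₁, fun m hm => ?_⟩
  exact le_trans (Nat.mul_le_mul_right _ (h m (le_trans (le_max_right _ _) hm)))
    (hC m (le_trans (le_max_left _ _) hm))

theorem Bdd.eventually_zero {f : ℕ → ℕ} (hf : Bdd 0 f) : ∃ m₁, ∀ m, m₁ ≤ m → f m = 0 := by
  obtain ⟨C, m₀, h⟩ := hf
  refine ⟨max m₀ (C + 1), fun m hm => ?_⟩
  have h1 := h m (le_trans (le_max_left _ _) hm)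
  have h2 : C + 1 ≤ m := le_trans (le_max_right _ _) hm
  rw [pow_zero, mul_one] at h1
  by_contra h0
  have h3 : 1 ≤ f m := Nat.one_le_iff_ne_zero.2 h0
  have h4 : m ≤ f m * m := Nat.le_mul_of_pos_left _ h3
  omega

theorem pow_succ_add_le (m e : ℕ) : m ^ (e + 1) + (m + 1) ^ e ≤ (m + 1) ^ (e + 1) := by
  have h1 : m ^ e ≤ (m + 1) ^ e := Nat.pow_le_pow_left (Nat.le_succ _) e
  calc m ^ (e + 1) + (m + 1) ^ e = m ^ e * m + (m + 1) ^ e := by rw [pow_succ]
    _ ≤ (m + 1) ^ e * m + (m + 1) ^ e := by gcongr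
    _ = (m + 1) ^ (e + 1) := by ring

theorem Bdd.sum {d : ℕ} {f g : ℕ → ℕ} (hg : Bdd d g)
    (hrec : ∀ m, 1 ≤ m → f m ≤ f (m - 1) + g m) : Bdd (d + 1) f := by
  obtain ⟨C, m₀, h⟩ := hg
  cases d with
  | zero =>
    obtain ⟨m₁, h1⟩ := Bdd.eventually_zero ⟨C, m₀, h⟩
    have h2 : ∀ m, m₁ ≤ m → f m ≤ f m₁ := by
      intro m hm
      induction m, hm using Nat.le_induction with
      | base => exact le_rfl
      | succ m hm ih =>
        have h3 := hrec (m + 1) (by omega)
        have h4 := h1 (m + 1) (by omega)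
        rw [h4, add_zero, Nat.add_sub_cancel] at h3
        exact le_trans h3 ih
    refine ⟨f m₁, m₁, fun m hm => ?_⟩
    rw [zero_add, pow_one]
    exact Nat.mul_le_mul_right _ (h2 m hm)
  | succ e =>
    set M := max m₀ 1 with hM
    have hg' : ∀ m, M ≤ m → g m ≤ C * m ^ e := by
      intro m hm
      have h1 := h m (le_trans (le_max_left _ _) hm)
      have hm1 : 1 ≤ m := le_trans (le_max_right _ _) hm
      rw [pow_succ, ← mul_assoc] at h1
      exact Nat.le_of_mul_le_mul_right h1 (by omega)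
    have h2 : ∀ m, M ≤ m → f m ≤ f M + C * m ^ (e + 1) := by
      intro m hm
      induction m, hm using Nat.le_induction with
      | base => exact Nat.le_add_right _ _
      | succ m hm ih =>
        have h3 := hrec (m + 1) (by omega)
        rw [Nat.add_sub_cancel] at h3
        have h4 := hg' (m + 1) (by omega)
        have h5 := pow_succ_add_le m e
        calc f (m + 1) ≤ f m + g (m + 1) := h3
          _ ≤ (f M + C * m ^ (e + 1)) + C * (m + 1) ^ e := add_le_add ih h4
          _ = f M + C * (m ^ (e + 1) + (m + 1) ^ e) := by ring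
          _ ≤ f M + C * (m + 1) ^ (e + 1) := by gcongr
    refine ⟨f M + C, M, fun m hm => ?_⟩
    have hm1 : 1 ≤ m := le_trans (le_max_right _ _) hm
    have h3 : 1 ≤ m ^ (e + 1) := Nat.one_le_pow _ _ hm1
    calc f m * m ≤ (f M + C * m ^ (e + 1)) * m := Nat.mul_le_mul_right _ (h2 m hm)
      _ ≤ (f M * m ^ (e + 1) + C * m ^ (e + 1)) * m := by
        gcongr
        exact Nat.le_mul_of_pos_right _ h3
      _ = (f M + C) * m ^ (e + 1 + 1) := by ring

end Arith

end Groth.Agent.HilbDim9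

namespace Groth.Agent.HilbDim9

open Polynomial MvPolynomial Groth.Agent.HilbSection Groth.Agent.ProjDeg9

attribute [local instance] MvPolynomial.gradedAlgebra

section Upper

variable (k : Type u) [Field k] (N : ℕ)

local notation "SS" => MvPolynomial (Fin N) k

theorem deg_zero_const' :
    ∀ a ∈ (homogeneousSubmodule (Fin N) k) 0,
      ∃ c : k, algebraMap k (MvPolynomial (Fin N) k) c = a := by
  intro a ha
  refine ⟨coeff 0 a, ?_⟩
  rw [MvPolynomial.algebraMap_eq, ← homogeneousComponent_zero,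
    homogeneousComponent_eq_self ((mem_homogeneousSubmodule _ _).1 ha)]

theorem X_mem_irrelevant (i : Fin N) :
    (X i : MvPolynomial (Fin N) k) ∈
      (HomogeneousIdeal.irrelevant (homogeneousSubmodule (Fin N) k)).toIdeal := by
  change _ ∈ HomogeneousIdeal.irrelevant _
  rw [HomogeneousIdeal.mem_irrelevant_iff, GradedRing.proj_apply]
  exact DirectSum.decompose_of_mem_ne (homogeneousSubmodule (Fin N) k)
    ((mem_homogeneousSubmodule _ _).2 (isHomogeneous_X k i)) (by norm_num : (1 : ℕ) ≠ 0)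

theorem hf_eq_zero_of_X_mem (J : Ideal (MvPolynomial (Fin N) k))
    (hX : ∀ i, (X i : MvPolynomial (Fin N) k) ∈ J) (m : ℕ) (hm : 1 ≤ m) : hf k N J m = 0 := by
  have h1 : piece k N J m = homogeneousSubmodule (Fin N) k m := by
    apply le_antisymm inf_le_right
    intro f hf
    change f ∈ piece k N J m
    rw [mem_piece]
    refine ⟨?_, (mem_homogeneousSubmodule _ _).1 hf⟩
    have h1 : Ideal.span ((X : Fin N → SS) '' Set.univ) ≤ J := by
      rw [Ideal.span_le]
      rintro _ ⟨i, -, rfl⟩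
      exact hX i
    apply h1
    rw [MvPolynomial.mem_ideal_span_X_image]
    intro s hs
    have hdeg := (mem_homogeneousSubmodule _ _).1 hf (mem_support_iff.1 hs)
    by_contra hcon
    push Not at hcon
    have hs0 : s = 0 := by
      ext i
      exact hcon i (Set.mem_univ _)
    rw [hs0, map_zero] at hdeg
    omega
  unfold hf
  rw [h1, Nat.sub_self]

theorem withBot_le_of_add_one_le {x : WithBot ℕ∞} {e : ℕ}
    (h : x + 1 ≤ ((e + 1 : ℕ) : WithBot ℕ∞)) : x ≤ (e : WithBot ℕ∞) := by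
  induction x using WithBot.recBotCoe with
  | bot => exact bot_le
  | coe t =>
    have h' : ((t + 1 : ℕ∞) : WithBot ℕ∞) ≤ (((e + 1 : ℕ) : ℕ∞) : WithBot ℕ∞) := by
      exact_mod_cast h
    rw [WithBot.coe_le_coe] at h'
    have h2 : t ≤ (e : ℕ∞) := by
      push_cast at h'
      exact (WithTop.add_le_add_iff_right ENat.one_ne_top).1 h'
    exact_mod_cast h2

/-- **upper bound**: `dim S/J ≤ d` implies `hf J m = O(m^(d-1))` -/
theorem bdd_of_dim_le (J : Ideal (MvPolynomial (Fin N) k)) :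
    J.IsHomogeneous (homogeneousSubmodule (Fin N) k) → ∀ d : ℕ,
      ringKrullDim (MvPolynomial (Fin N) k ⧸ J) ≤ (d : WithBot ℕ∞) → Bdd d (hf k N J) := by
  classical
  refine IsNoetherian.induction (R := SS) (M := SS)
    (P := fun (J : Ideal SS) => J.IsHomogeneous (homogeneousSubmodule (Fin N) k) → ∀ d : ℕ,
      ringKrullDim (SS ⧸ J) ≤ (d : WithBot ℕ∞) → Bdd d (hf k N J)) ?_ J
  intro (J : Ideal SS) ih hJ d hd
  set 𝒜 := homogeneousSubmodule (Fin N) k with h𝒜
  have h0 := deg_zero_const' k N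
  by_cases htop : J = ⊤
  · subst htop
    exact Bdd.of_le (Bdd.zero d) 0 (fun m _ => by rw [hf_top])
  set 𝔫 := (HomogeneousIdeal.irrelevant 𝒜).toIdeal with h𝔫
  have hmax : 𝔫.IsMaximal := Groth.Agent.Link9.irrelevant_isMaximal (𝒜 := 𝒜) h0
  have hJ𝔫 : J ≤ 𝔫 := Groth.Agent.Link9.le_irrelevant_of_isHomogeneous h0 J hJ htop
  by_cases hp : J.IsPrime
  · by_cases hX : ∀ i, (X i : SS) ∈ J
    · refine ⟨1, 1, fun m hm => ?_⟩
      rw [hf_eq_zero_of_X_mem k N J hX m hm]
      simp
    · push Not at hX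
      obtain ⟨i, hi⟩ := hX
      set J' := J ⊔ Ideal.span {(X i : SS)} with hJ'
      have hXJ' : (X i : SS) ∈ J' := Ideal.mem_sup_right (Ideal.mem_span_singleton_self _)
      have hlt : J < J' := lt_of_le_of_ne le_sup_left (fun h => hi (by rw [h]; exact hXJ'))
      have hJ'hom : J'.IsHomogeneous 𝒜 := by
        apply hJ.sup
        apply Ideal.homogeneous_span
        intro x hx
        rw [Set.mem_singleton_iff] at hx
        subst hx
        exact ⟨1, (mem_homogeneousSubmodule _ _).2 (isHomogeneous_X k i)⟩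
      have hJ'𝔫 : J' ≤ 𝔫 := by
        apply sup_le hJ𝔫
        rw [Ideal.span_le]
        intro x hx
        rw [Set.mem_singleton_iff] at hx
        subst hx
        exact X_mem_irrelevant k N i
      have hJ'ne : J' ≠ ⊤ := fun h => hmax.ne_top (top_le_iff.1 (h ▸ hJ'𝔫))
      haveI : IsDomain (SS ⧸ J) := Ideal.Quotient.isDomain J
      have hdim : ringKrullDim (SS ⧸ J') + 1 ≤ ringKrullDim (SS ⧸ J) := by
        refine ringKrullDim_succ_le_of_surjective (Ideal.Quotient.factor hlt.le)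
          (Ideal.Quotient.factor_surjective hlt.le) (r := Ideal.Quotient.mk J (X i)) ?_ ?_
        · apply mem_nonZeroDivisors_of_ne_zero
          intro h0
          exact hi (Ideal.Quotient.eq_zero_iff_mem.mp h0)
        · rw [Ideal.Quotient.factor_mk]
          exact Ideal.Quotient.eq_zero_iff_mem.mpr hXJ'
      haveI : Nontrivial (SS ⧸ J') := Ideal.Quotient.nontrivial_iff.2 hJ'ne
      have hnn : (0 : WithBot ℕ∞) ≤ ringKrullDim (SS ⧸ J') := ringKrullDim_nonneg_of_nontrivial
      have hcolon : J.colon ({(X i : SS)} : Set SS) = J := by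
        apply le_antisymm
        · intro a ha
          rw [Submodule.mem_colon_singleton, smul_eq_mul] at ha
          exact (hp.mem_or_mem ha).resolve_right hi
        · intro a ha
          rw [Submodule.mem_colon_singleton, smul_eq_mul]
          exact J.mul_mem_right _ ha
      have hrec : ∀ m, 1 ≤ m → hf k N J m ≤ hf k N J (m - 1) + hf k N J' m := by
        intro m hm
        have := hf_rec k N J hJ (X i) 1 (isHomogeneous_X k i) (X_ne_zero i) m hm
        rw [hcolon, ← hJ'] at this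
        omega
      cases d with
      | zero =>
        exfalso
        have h1 : (0 : WithBot ℕ∞) + 1 ≤ ((0 : ℕ) : WithBot ℕ∞) :=
          le_trans (add_le_add_left hnn 1) (le_trans hdim hd)
        have h2 : ((1 : ℕ) : WithBot ℕ∞) ≤ ((0 : ℕ) : WithBot ℕ∞) := by simpa using h1
        have h3 : (1 : ℕ) ≤ 0 := by exact_mod_cast h2
        omega
      | succ e =>
        have hdimJ' : ringKrullDim (SS ⧸ J') ≤ (e : WithBot ℕ∞) :=
          withBot_le_of_add_one_le (le_trans hdim hd)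
        exact Bdd.sum (ih J' hlt hJ'hom e hdimJ') hrec
  · have hex : ∃ x y : SS, SetLike.IsHomogeneousElem 𝒜 x ∧ SetLike.IsHomogeneousElem 𝒜 y ∧
        x * y ∈ J ∧ x ∉ J ∧ y ∉ J := by
      by_contra hcon
      push Not at hcon
      apply hp
      apply hJ.isPrime_of_homogeneous_mem_or_mem htop
      intro x y hx hy hxy
      by_contra h
      push Not at h
      exact h.2 (hcon x y hx hy hxy h.1)
    obtain ⟨x, y, ⟨e, hxe⟩, -, hxy, hxJ, hyJ⟩ := hex
    have hxe' : x.IsHomogeneous e := (mem_homogeneousSubmodule _ _).1 hxe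
    have hx0 : x ≠ 0 := fun h => hxJ (h ▸ J.zero_mem)
    set J₁ := J ⊔ Ideal.span {x} with hJ₁
    set J₂ := J.colon ({x} : Set SS) with hJ₂
    have hxJ₁ : x ∈ J₁ := Ideal.mem_sup_right (Ideal.mem_span_singleton_self _)
    have hlt₁ : J < J₁ := lt_of_le_of_ne le_sup_left (fun h => hxJ (by rw [h]; exact hxJ₁))
    have hle₂ : J ≤ J₂ := by
      intro a ha
      rw [hJ₂, Submodule.mem_colon_singleton, smul_eq_mul]
      exact J.mul_mem_right _ ha
    have hyJ₂ : y ∈ J₂ := by
      rw [hJ₂, Submodule.mem_colon_singleton, smul_eq_mul, mul_comm]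
      exact hxy
    have hlt₂ : J < J₂ := lt_of_le_of_ne hle₂ (fun h => hyJ (by rw [h]; exact hyJ₂))
    have hJ₁hom : J₁.IsHomogeneous 𝒜 := by
      apply hJ.sup
      apply Ideal.homogeneous_span
      intro z hz
      rw [Set.mem_singleton_iff] at hz
      subst hz
      exact ⟨e, hxe⟩
    have hJ₂hom : J₂.IsHomogeneous 𝒜 := colon_isHomogeneous k N J hJ x e hxe'
    have hd₁ : ringKrullDim (SS ⧸ J₁) ≤ (d : WithBot ℕ∞) :=
      le_trans (ringKrullDim_le_of_surjective (Ideal.Quotient.factor hlt₁.le)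
        (Ideal.Quotient.factor_surjective hlt₁.le)) hd
    have hd₂ : ringKrullDim (SS ⧸ J₂) ≤ (d : WithBot ℕ∞) :=
      le_trans (ringKrullDim_le_of_surjective (Ideal.Quotient.factor hlt₂.le)
        (Ideal.Quotient.factor_surjective hlt₂.le)) hd
    have b₁ := ih J₁ hlt₁ hJ₁hom d hd₁
    have b₂ := ih J₂ hlt₂ hJ₂hom d hd₂
    exact Bdd.of_le (b₁.add (b₂.shift e)) e
      (fun m hm => le_of_eq (hf_rec k N J hJ x e hxe' hx0 m hm))

end Upper

end Groth.Agent.HilbDim9
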