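import Mathlib
import Groth.Agent.Lib.HilbDim2_helper9

/-!
# Growth of Hilbert functions and Krull dimension, III: lower bound and the degree of the
Hilbert polynomial (helper9)
APPEND-ONLY once landed.
-/

set_option autoImplicit false
set_option maxHeartbeats 400000
set_option linter.style.haveILetI false
universe u

namespace Groth.Agent.HilbDim9

open Polynomial Filter

section PolyGrowth

/-- a rational polynomial tending to `+∞` cannot be nonpositive on all large naturals -/
theorem false_of_tendsto_atTop (Q : ℚ[X]) (hQ : Tendsto (fun x => eval x Q) atTop atTop)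
    (m₁ : ℕ) (h : ∀ m : ℕ, m₁ ≤ m → Q.eval (m : ℚ) ≤ 0) : False := by
  have h1 := (hQ.comp (tendsto_natCast_atTop_atTop (R := ℚ))).eventually_gt_atTop 0
  obtain ⟨m₂, h₂⟩ := eventually_atTop.1 h1
  have h3 := h₂ (max m₁ m₂) (le_max_right _ _)
  have h4 := h (max m₁ m₂) (le_max_left _ _)
  simp only [Function.comp_apply] at h3
  linarith

/-- a rational polynomial tending to `-∞` cannot be nonnegative on all large naturals -/
theorem false_of_tendsto_atBot (Q : ℚ[X]) (hQ : Tendsto (fun x => eval x Q) atTop atBot)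
    (m₁ : ℕ) (h : ∀ m : ℕ, m₁ ≤ m → 0 ≤ Q.eval (m : ℚ)) : False := by
  have h1 := (hQ.comp (tendsto_natCast_atTop_atTop (R := ℚ))).eventually_lt_atBot 0
  obtain ⟨m₂, h₂⟩ := eventually_atTop.1 h1
  have h3 := h₂ (max m₁ m₂) (le_max_right _ _)
  have h4 := h (max m₁ m₂) (le_max_left _ _)
  simp only [Function.comp_apply] at h3
  linarith

/-- growth `≤ C m^r` bounds the degree above -/
theorem natDegree_le_of_growth (P : ℚ[X]) (r : ℕ) (C : ℚ) (m₁ : ℕ)
    (h0 : ∀ m : ℕ, m₁ ≤ m → 0 ≤ P.eval (m : ℚ))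
    (h1 : ∀ m : ℕ, m₁ ≤ m → P.eval (m : ℚ) ≤ C * (m : ℚ) ^ r) : P.natDegree ≤ r := by
  by_contra hcon
  push Not at hcon
  have hdegP : 0 < P.degree := natDegree_pos_iff_degree_pos.1 (by omega)
  rcases le_or_gt 0 P.leadingCoeff with ha | ha
  · set Q : ℚ[X] := P - C • X ^ r with hQ
    have hlt : (C • (X : ℚ[X]) ^ r).degree < P.degree := by
      refine lt_of_le_of_lt (degree_smul_le _ _) ?_
      rw [degree_X_pow, degree_eq_natDegree (ne_zero_of_natDegree_gt hcon)]
      exact_mod_cast hcon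
    have hdeg : Q.degree = P.degree := degree_sub_eq_left_of_degree_lt hlt
    have hlead : Q.leadingCoeff = P.leadingCoeff := leadingCoeff_sub_of_degree_lt hlt
    have ht : Tendsto (fun x => eval x Q) atTop atTop :=
      Q.tendsto_atTop_of_leadingCoeff_nonneg (by rw [hdeg]; exact hdegP) (by rw [hlead]; exact ha)
    refine false_of_tendsto_atTop Q ht m₁ (fun m hm => ?_)
    rw [hQ, eval_sub, eval_smul, eval_pow, eval_X, smul_eq_mul]
    linarith [h1 m hm]
  · exact false_of_tendsto_atBot P (P.tendsto_atBot_of_leadingCoeff_nonpos hdegP ha.le) m₁ h0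

/-- growth `≥ c m^r` with `c > 0` bounds the degree below -/
theorem le_natDegree_of_growth (P : ℚ[X]) (r : ℕ) (c : ℚ) (hc : 0 < c) (m₁ : ℕ)
    (h1 : ∀ m : ℕ, m₁ ≤ m → c * (m : ℚ) ^ r ≤ P.eval (m : ℚ)) : r ≤ P.natDegree := by
  by_contra hcon
  push Not at hcon
  set Q : ℚ[X] := C c * X ^ r - P with hQ
  have hdegm : (C c * (X : ℚ[X]) ^ r).degree = r := by
    rw [degree_C_mul_X_pow r hc.ne']
  have hlt : P.degree < (C c * (X : ℚ[X]) ^ r).degree := by
    rw [hdegm]
    refine lt_of_le_of_lt degree_le_natDegree ?_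
    exact_mod_cast hcon
  have hdeg : Q.degree = r := by
    rw [hQ, degree_sub_eq_left_of_degree_lt hlt, hdegm]
  have hlead : Q.leadingCoeff = c := by
    rw [hQ, leadingCoeff_sub_of_degree_lt hlt, leadingCoeff_mul, leadingCoeff_C,
      leadingCoeff_X_pow, mul_one]
  have ht : Tendsto (fun x => eval x Q) atTop atTop := by
    apply Q.tendsto_atTop_of_leadingCoeff_nonneg
    · rw [hdeg]
      exact_mod_cast (by omega : 0 < r)
    · rw [hlead]
      exact hc.le
  refine false_of_tendsto_atTop Q ht m₁ (fun m hm => ?_)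
  rw [hQ, eval_sub, eval_mul, eval_C, eval_pow, eval_X]
  linarith [h1 m hm]

end PolyGrowth

end Groth.Agent.HilbDim9

namespace Groth.Agent.HilbDim9

open MvPolynomial Groth.Agent.HilbSection Groth.Agent.ProjDeg9

attribute [local instance] MvPolynomial.gradedAlgebra

section Main

variable (k : Type u) [Field k] (N : ℕ)

local notation "SS" => MvPolynomial (Fin N) k

theorem withBot_le_pred {x : WithBot ℕ∞} {d : ℕ} (h1 : x ≤ (d : WithBot ℕ∞))
    (h2 : x ≠ (d : WithBot ℕ∞)) : x ≤ ((d - 1 : ℕ) : WithBot ℕ∞) := by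
  induction x using WithBot.recBotCoe with
  | bot => exact bot_le
  | coe t =>
    have h1' : t ≤ (d : ℕ∞) := by exact_mod_cast h1
    have ht : t ≠ ⊤ := ne_top_of_le_ne_top (ENat.natCast_ne_top d) h1'
    lift t to ℕ using ht
    have h3 : t ≤ d := by exact_mod_cast h1'
    have h4 : t ≠ d := by
      rintro rfl
      exact h2 rfl
    have h5 : t ≤ d - 1 := by omega
    generalize d - 1 = e at h5 ⊢
    exact_mod_cast h5

theorem choose_le_hf (I Q : Ideal (MvPolynomial (Fin N) k)) (hIQ : I ≤ Q) (r : ℕ)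
    (j : Fin (r + 1) → Fin N)
    (hj : AlgebraicIndependent k
      (fun a => Ideal.Quotient.mk Q (X (j a) : MvPolynomial (Fin N) k))) (t : ℕ) :
    (t + r).choose r ≤ hf k N I t := by
  have h := Groth.Agent.Fano9.finrank_add_le k N I Q hIQ r j hj t
  unfold hf piece
  rw [inf_comm]
  omega

theorem exists_prime_dim_eq (I : Ideal (MvPolynomial (Fin N) k)) (d₀ : ℕ)
    (hd : ringKrullDim (MvPolynomial (Fin N) k ⧸ I) = (d₀ : WithBot ℕ∞)) (hd1 : 1 ≤ d₀) :
    ∃ Q : Ideal (MvPolynomial (Fin N) k), Q.IsPrime ∧ I ≤ Q ∧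
      ringKrullDim (MvPolynomial (Fin N) k ⧸ Q) = (d₀ : WithBot ℕ∞) := by
  by_contra hcon
  push Not at hcon
  have h1 : ringKrullDim (SS ⧸ I) ≤ ((d₀ - 1 : ℕ) : WithBot ℕ∞) := by
    apply Groth.Agent.Link9.ringKrullDim_quot_le_of_forall_prime
    intro Q hQ hIQ
    have h2 : ringKrullDim (SS ⧸ Q) ≤ (d₀ : WithBot ℕ∞) := by
      rw [← hd]
      exact ringKrullDim_le_of_surjective (Ideal.Quotient.factor hIQ)
        (Ideal.Quotient.factor_surjective hIQ)
    exact withBot_le_pred h2 (hcon Q hQ hIQ)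
  rw [hd] at h1
  have h2 : d₀ ≤ d₀ - 1 := by exact_mod_cast h1
  omega

/-- **S10907**: the dimension of the affine cone is one more than the degree of the Hilbert
polynomial -/
theorem main (I : Ideal (MvPolynomial (Fin N) k))
    (hI : I.IsHomogeneous (homogeneousSubmodule (Fin N) k)) (P : Polynomial ℚ) (hP0 : P ≠ 0)
    (hP : ∃ m₀ : ℕ, ∀ m : ℕ, m₀ ≤ m → P.eval (m : ℚ) =
      (Module.finrank k ↥(homogeneousSubmodule (Fin N) k m) : ℚ) -
        Module.finrank k ↥(Submodule.restrictScalars k I ⊓ homogeneousSubmodule (Fin N) k m)) :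
    ringKrullDim (MvPolynomial (Fin N) k ⧸ I) = (P.natDegree : WithBot ℕ∞) + 1 := by
  obtain ⟨m₀, hP⟩ := hP
  have hPhf : ∀ m, m₀ ≤ m → P.eval (m : ℚ) = (hf k N I m : ℚ) := by
    intro m hm
    rw [hP m hm]
    have h1 := hf_add k N I m
    unfold piece at h1
    rw [← h1]
    push_cast
    ring
  -- the Hilbert function is not eventually zero
  have hnz : ∀ m₁, ∃ m, m₁ ≤ m ∧ hf k N I m ≠ 0 := by
    intro m₁
    by_contra hcon
    push Not at hcon
    apply hP0
    apply Polynomial.eq_zero_of_infinite_isRoot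
    apply Set.infinite_of_injective_forall_mem (f := fun i : ℕ => ((max m₀ m₁ + i : ℕ) : ℚ))
    · intro a b hab
      simpa using hab
    · intro i
      rw [Set.mem_ofPred_eq, Polynomial.IsRoot.def, hPhf _ (by omega), hcon _ (by omega)]
      simp
  have hdim_le : ringKrullDim (SS ⧸ I) ≤ (N : WithBot ℕ∞) := by
    refine le_trans (ringKrullDim_quotient_le I) ?_
    rw [MvPolynomial.ringKrullDim_of_isNoetherianRing, ringKrullDim_eq_zero_of_field]
    simp
  have hdim_ge : ¬ ringKrullDim (SS ⧸ I) ≤ ((0 : ℕ) : WithBot ℕ∞) := by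
    intro h
    obtain ⟨m₁, h1⟩ := (bdd_of_dim_le k N I hI 0 h).eventually_zero
    obtain ⟨m, hm, hne⟩ := hnz m₁
    exact hne (h1 m hm)
  obtain ⟨d₀, hd₀, hd1⟩ : ∃ d₀ : ℕ, ringKrullDim (SS ⧸ I) = (d₀ : WithBot ℕ∞) ∧ 1 ≤ d₀ := by
    generalize ringKrullDim (SS ⧸ I) = x at hdim_le hdim_ge
    induction x using WithBot.recBotCoe with
    | bot => exact absurd bot_le hdim_ge
    | coe t =>
      have h1 : t ≤ (N : ℕ∞) := by exact_mod_cast hdim_le
      have ht : t ≠ ⊤ := ne_top_of_le_ne_top (ENat.natCast_ne_top N) h1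
      lift t to ℕ using ht
      refine ⟨t, rfl, ?_⟩
      by_contra h
      have h0 : t = 0 := by omega
      subst h0
      exact hdim_ge le_rfl
  obtain ⟨r, rfl⟩ : ∃ r, d₀ = r + 1 := ⟨d₀ - 1, by omega⟩
  obtain ⟨C, m₁, hC⟩ := bdd_of_dim_le k N I hI (r + 1) hd₀.le
  obtain ⟨Q, hQ, hIQ, hdQ⟩ := exists_prime_dim_eq k N I (r + 1) hd₀ (by omega)
  haveI := hQ
  obtain ⟨j, hj⟩ := Groth.Agent.Fano9.exists_algIndep_vars k N Q (r + 1) hdQ
  have hlow := choose_le_hf k N I Q hIQ r j hj
  have hdeg : P.natDegree = r := by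
    apply le_antisymm
    · apply natDegree_le_of_growth P r (C : ℚ) (max (max m₀ m₁) 1)
      · intro m hm
        rw [hPhf m (le_trans (le_trans (le_max_left _ _) (le_max_left _ _)) hm)]
        positivity
      · intro m hm
        rw [hPhf m (le_trans (le_trans (le_max_left _ _) (le_max_left _ _)) hm)]
        have h1 := hC m (le_trans (le_trans (le_max_right _ _) (le_max_left _ _)) hm)
        have hm1 : 1 ≤ m := le_trans (le_max_right _ _) hm
        have h2 : hf k N I m ≤ C * m ^ r := by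
          rw [pow_succ, ← mul_assoc] at h1
          exact Nat.le_of_mul_le_mul_right h1 (by omega)
        exact_mod_cast h2
    · apply le_natDegree_of_growth P r (1 / (r.factorial : ℚ)) (by positivity) m₀
      intro m hm
      rw [hPhf m hm]
      have h1 := Nat.pow_le_choose (α := ℚ) r (m + r)
      have h2 := hlow m
      rw [show m + r + 1 - r = m + 1 by omega] at h1
      have h3 : ((m : ℚ)) ^ r ≤ ((m + 1 : ℕ) : ℚ) ^ r := by
        gcongr
        linarith
      calc 1 / (r.factorial : ℚ) * (m : ℚ) ^ r = (m : ℚ) ^ r / r.factorial := by ring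
        _ ≤ ((m + 1 : ℕ) : ℚ) ^ r / r.factorial := by gcongr
        _ ≤ ((m + r).choose r : ℚ) := h1
        _ ≤ hf k N I m := by exact_mod_cast h2
  rw [hd₀, hdeg]
  push_cast
  rfl

end Main

end Groth.Agent.HilbDim9
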