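import Mathlib
import Groth.Agent.Lib.HilbDim3_helper9

/-!
# Existence of the Hilbert polynomial of a homogeneous ideal (helper9)
APPEND-ONLY once landed.
-/

set_option autoImplicit false
set_option maxHeartbeats 400000
set_option linter.style.haveILetI false
universe u

namespace Groth.Agent.HilbExist9

open Polynomial

section AntiDiff

/-- the backward difference operator on rational polynomials -/
noncomputable def Δ : ℚ[X] →ₗ[ℚ] ℚ[X] := LinearMap.id - taylor (-(1 : ℚ))

theorem Δ_apply (Q : ℚ[X]) : Δ Q = Q - taylor (-(1 : ℚ)) Q := rfl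

theorem X_pow_mem_range_Δ : ∀ n : ℕ, (X : ℚ[X]) ^ n ∈ LinearMap.range Δ := by
  classical
  intro n
  induction n using Nat.strong_induction_on with
  | _ n ih =>
    set P : ℚ[X] := X ^ (n + 1) with hP
    have hPdeg : P.natDegree = n + 1 := natDegree_X_pow _
    obtain ⟨h1, h2⟩ := Groth.Agent.HilbSection.diff_poly P 1 (by norm_num) (by omega)
    simp only [Nat.cast_one] at h1 h2
    rw [← Δ_apply] at h1 h2
    rw [hPdeg, hP, leadingCoeff_X_pow, mul_one, mul_one] at h2
    rw [hPdeg] at h1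
    have hdeg : (Δ P).natDegree = n := by omega
    -- the remainder
    set R : ℚ[X] := Δ P - C ((n + 1 : ℕ) : ℚ) * X ^ n with hR
    have hRlt : R.degree < (n : WithBot ℕ) := by
      have hne : ((n + 1 : ℕ) : ℚ) ≠ 0 := by positivity
      have hΔ0 : Δ P ≠ 0 := by
        intro h0
        rw [h0, leadingCoeff_zero] at h2
        exact hne h2.symm
      have hd1 : (Δ P).degree = (n : WithBot ℕ) := by
        rw [degree_eq_natDegree hΔ0, hdeg]
      have hd2 : (C ((n + 1 : ℕ) : ℚ) * (X : ℚ[X]) ^ n).degree = (n : WithBot ℕ) :=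
        degree_C_mul_X_pow n hne
      rw [hR, ← hd1]
      apply degree_sub_lt (by rw [hd1, hd2]) hΔ0
      rw [h2, leadingCoeff_mul, leadingCoeff_C, leadingCoeff_X_pow, mul_one]
    have hRmem : R ∈ LinearMap.range Δ := by
      have h3 : R ∈ degreeLT ℚ n := mem_degreeLT.2 hRlt
      rw [degreeLT_eq_span_X_pow] at h3
      refine Submodule.span_le.2 ?_ h3
      intro x hx
      simp only [Finset.coe_image, Finset.coe_range, Set.mem_image, Set.mem_Iio] at hx
      obtain ⟨j, hj, rfl⟩ := hx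
      exact ih j hj
    have hΔP : Δ P ∈ LinearMap.range Δ := LinearMap.mem_range_self _ _
    have h4 : C ((n + 1 : ℕ) : ℚ) * (X : ℚ[X]) ^ n ∈ LinearMap.range Δ := by
      have : C ((n + 1 : ℕ) : ℚ) * (X : ℚ[X]) ^ n = Δ P - R := by rw [hR]; ring
      rw [this]
      exact Submodule.sub_mem _ hΔP hRmem
    have h5 := Submodule.smul_mem (LinearMap.range Δ) (((n + 1 : ℕ) : ℚ)⁻¹) h4
    have hne : ((n + 1 : ℕ) : ℚ) ≠ 0 := by positivity
    rw [← C_mul', ← mul_assoc, ← C_mul, inv_mul_cancel₀ hne, C_1, one_mul] at h5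
    exact h5

/-- every rational polynomial is a backward difference -/
theorem exists_antidiff (Q' : ℚ[X]) : ∃ Q : ℚ[X], Q - taylor (-(1 : ℚ)) Q = Q' := by
  classical
  have h : Q' ∈ LinearMap.range Δ := by
    have h1 : Q' ∈ degreeLT ℚ (Q'.natDegree + 1) := by
      rw [mem_degreeLT]
      exact lt_of_le_of_lt degree_le_natDegree (by exact_mod_cast Nat.lt_succ_self _)
    rw [degreeLT_eq_span_X_pow] at h1
    refine Submodule.span_le.2 ?_ h1
    intro x hx
    simp only [Finset.coe_image, Finset.coe_range, Set.mem_image, Set.mem_Iio] at hx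
    obtain ⟨j, -, rfl⟩ := hx
    exact X_pow_mem_range_Δ j
  obtain ⟨Q, hQ⟩ := h
  exact ⟨Q, hQ⟩

end AntiDiff

end Groth.Agent.HilbExist9

namespace Groth.Agent.HilbExist9

open MvPolynomial Groth.Agent.HilbSection Groth.Agent.ProjDeg9 Groth.Agent.HilbDim9

attribute [local instance] MvPolynomial.gradedAlgebra

section Exist

variable (k : Type u) [Field k] (N : ℕ)

local notation "SS" => MvPolynomial (Fin N) k

/-- **existence of the Hilbert polynomial** of a homogeneous ideal -/
theorem exists_hilbPoly (J : Ideal (MvPolynomial (Fin N) k)) :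
    J.IsHomogeneous (homogeneousSubmodule (Fin N) k) →
      ∃ (Q : Polynomial ℚ) (m₀ : ℕ), ∀ m : ℕ, m₀ ≤ m → (hf k N J m : ℚ) = Q.eval (m : ℚ) := by
  classical
  refine IsNoetherian.induction (R := SS) (M := SS)
    (P := fun (J : Ideal SS) => J.IsHomogeneous (homogeneousSubmodule (Fin N) k) →
      ∃ (Q : Polynomial ℚ) (m₀ : ℕ), ∀ m : ℕ, m₀ ≤ m → (hf k N J m : ℚ) = Q.eval (m : ℚ)) ?_ J
  intro (J : Ideal SS) ih hJ
  set 𝒜 := homogeneousSubmodule (Fin N) k with h𝒜
  by_cases htop : J = ⊤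
  · subst htop
    exact ⟨0, 0, fun m _ => by rw [hf_top]; simp⟩
  by_cases hp : J.IsPrime
  · by_cases hX : ∀ i, (X i : SS) ∈ J
    · exact ⟨0, 1, fun m hm => by rw [hf_eq_zero_of_X_mem k N J hX m hm]; simp⟩
    · push Not at hX
      obtain ⟨i, hi⟩ := hX
      set J' := J ⊔ Ideal.span {(X i : SS)} with hJ'
      have hXJ' : (X i : SS) ∈ J' := Ideal.mem_sup_right (Ideal.mem_span_singleton_self _)
      have hlt : J < J' := lt_of_le_of_ne le_sup_left (fun h => hi (by rw [h]; exact hXJ'))
      have hJ'hom : J'.IsHomogeneous 𝒜 := by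
        apply hJ.sup
        apply Ideal.homogeneous_span
        intro x hx
        rw [Set.mem_singleton_iff] at hx
        subst hx
        exact ⟨1, (mem_homogeneousSubmodule _ _).2 (isHomogeneous_X k i)⟩
      have hcolon : J.colon ({(X i : SS)} : Set SS) = J := by
        apply le_antisymm
        · intro a ha
          rw [Submodule.mem_colon_singleton, smul_eq_mul] at ha
          exact (hp.mem_or_mem ha).resolve_right hi
        · intro a ha
          rw [Submodule.mem_colon_singleton, smul_eq_mul]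
          exact J.mul_mem_right _ ha
      have hrec : ∀ m, 1 ≤ m → hf k N J m = hf k N J' m + hf k N J (m - 1) := by
        intro m hm
        have := hf_rec k N J hJ (X i) 1 (isHomogeneous_X k i) (X_ne_zero i) m hm
        rw [hcolon, ← hJ'] at this
        exact this
      obtain ⟨Q', m₀, hQ'⟩ := ih J' hlt hJ'hom
      obtain ⟨Q, hQ⟩ := exists_antidiff Q'
      set c : ℚ := (hf k N J m₀ : ℚ) - Q.eval (m₀ : ℚ) with hc
      refine ⟨Q + Polynomial.C c, m₀, fun m hm => ?_⟩
      rw [Polynomial.eval_add, Polynomial.eval_C]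
      induction m, hm using Nat.le_induction with
      | base => rw [hc]; ring
      | succ m hm ih2 =>
        have h1 := hrec (m + 1) (by omega)
        rw [Nat.add_sub_cancel] at h1
        have h2 := hQ' (m + 1) (by omega)
        have h3 : Q'.eval ((m + 1 : ℕ) : ℚ) =
            Q.eval ((m + 1 : ℕ) : ℚ) - Q.eval ((m : ℕ) : ℚ) := by
          rw [← hQ, Polynomial.eval_sub, Polynomial.taylor_eval]
          congr 2
          push_cast
          ring
        rw [h1]
        push_cast
        rw [ih2]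
        have h4 : (hf k N J' (m + 1) : ℚ) = Q.eval ((m + 1 : ℕ) : ℚ) - Q.eval ((m : ℕ) : ℚ) := by
          rw [h2, h3]
        rw [h4]
        push_cast
        ring
  · have hex : ∃ x y : SS, SetLike.IsHomogeneousElem 𝒜 x ∧ SetLike.IsHomogeneousElem 𝒜 y ∧
        x * y ∈ J ∧ x ∉ J ∧ y ∉ J := by
      by_contra hcon
      push Not at hcon
      apply hp
      apply hJ.isPrime_of_homogeneous_mem_or_mem htop
      intro x y hx hy hxy
      by_contra h
      push Not at h
      exact h.2 (hcon x y hx hy hxy h.1)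
    obtain ⟨x, y, ⟨e, hxe⟩, -, hxy, hxJ, hyJ⟩ := hex
    have hxe' : x.IsHomogeneous e := (mem_homogeneousSubmodule _ _).1 hxe
    have hx0 : x ≠ 0 := fun h => hxJ (h ▸ J.zero_mem)
    set J₁ := J ⊔ Ideal.span {x} with hJ₁
    set J₂ := J.colon ({x} : Set SS) with hJ₂
    have hxJ₁ : x ∈ J₁ := Ideal.mem_sup_right (Ideal.mem_span_singleton_self _)
    have hlt₁ : J < J₁ := lt_of_le_of_ne le_sup_left (fun h => hxJ (by rw [h]; exact hxJ₁))
    have hle₂ : J ≤ J₂ := by
      intro a ha
      rw [hJ₂, Submodule.mem_colon_singleton, smul_eq_mul]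
      exact J.mul_mem_right _ ha
    have hyJ₂ : y ∈ J₂ := by
      rw [hJ₂, Submodule.mem_colon_singleton, smul_eq_mul, mul_comm]
      exact hxy
    have hlt₂ : J < J₂ := lt_of_le_of_ne hle₂ (fun h => hyJ (by rw [h]; exact hyJ₂))
    have hJ₁hom : J₁.IsHomogeneous 𝒜 := by
      apply hJ.sup
      apply Ideal.homogeneous_span
      intro z hz
      rw [Set.mem_singleton_iff] at hz
      subst hz
      exact ⟨e, hxe⟩
    have hJ₂hom : J₂.IsHomogeneous 𝒜 := colon_isHomogeneous k N J hJ x e hxe'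
    obtain ⟨Q₁, m₁, hQ₁⟩ := ih J₁ hlt₁ hJ₁hom
    obtain ⟨Q₂, m₂, hQ₂⟩ := ih J₂ hlt₂ hJ₂hom
    refine ⟨Q₁ + Polynomial.taylor (-(e : ℚ)) Q₂, max m₁ (m₂ + e), fun m hm => ?_⟩
    have hm1 : m₁ ≤ m := le_trans (le_max_left _ _) hm
    have hm2 : m₂ + e ≤ m := le_trans (le_max_right _ _) hm
    have hrec := hf_rec k N J hJ x e hxe' hx0 m (by omega)
    rw [← hJ₁, ← hJ₂] at hrec
    have hcast : (m : ℚ) + -(e : ℚ) = ((m - e : ℕ) : ℚ) := by
      rw [Nat.cast_sub (by omega)]
      ring
    rw [hrec, Polynomial.eval_add, Polynomial.taylor_eval, hcast, ← hQ₁ m hm1,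
      ← hQ₂ (m - e) (by omega)]
    push_cast
    ring

end Exist

end Groth.Agent.HilbExist9

namespace Groth.Agent.HilbExist9

open MvPolynomial Groth.Agent.HilbSection Groth.Agent.ProjDeg9 Groth.Agent.HilbDim9

attribute [local instance] MvPolynomial.gradedAlgebra

section DegLT

variable (k : Type u) [Field k] (N : ℕ)

local notation "SS" => MvPolynomial (Fin N) k

/-- the Hilbert function as a difference of rational numbers -/
theorem hf_cast (J : Ideal (MvPolynomial (Fin N) k)) (m : ℕ) :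
    (Module.finrank k ↥(homogeneousSubmodule (Fin N) k m) : ℚ) -
      (Module.finrank k ↥(Submodule.restrictScalars k J ⊓ homogeneousSubmodule (Fin N) k m) : ℚ) =
      (hf k N J m : ℚ) := by
  have h1 := hf_add k N J m
  unfold piece at h1
  rw [← h1]
  push_cast
  ring

/-- **S9661**: the Hilbert polynomial of a nonzero homogeneous ideal has degree `< N - 1` -/
theorem degree_lt (I : Ideal (MvPolynomial (Fin N) k))
    (hIh : I.IsHomogeneous (homogeneousSubmodule (Fin N) k)) (hI : I ≠ ⊥) :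
    ∃ P : Polynomial ℚ, P.degree < ((N - 1 : ℕ) : WithBot ℕ) ∧ ∃ M : ℕ, ∀ n : ℕ, M ≤ n →
      ((Module.finrank k ↥(homogeneousSubmodule (Fin N) k n) : ℚ) -
        (Module.finrank k ↥(Submodule.restrictScalars k I ⊓
          homogeneousSubmodule (Fin N) k n) : ℚ)) = P.eval (n : ℚ) := by
  obtain ⟨Q, m₀, hQ⟩ := exists_hilbPoly k N I hIh
  refine ⟨Q, ?_, m₀, fun n hn => by rw [hf_cast, hQ n hn]⟩
  by_cases hQ0 : Q = 0
  · rw [hQ0, Polynomial.degree_zero]
    exact WithBot.bot_lt_coe _
  have hdim := HilbDim9.main k N I hIh Q hQ0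
    ⟨m₀, fun m hm => by rw [hf_cast, hQ m hm]⟩
  -- `dim S/I + 1 ≤ N`
  obtain ⟨f, hfI, hf0⟩ := Submodule.exists_mem_ne_zero_of_ne_bot hI
  have h1 : ringKrullDim (SS ⧸ I) + 1 ≤ ringKrullDim SS :=
    ringKrullDim_succ_le_of_surjective (Ideal.Quotient.mk I) Ideal.Quotient.mk_surjective
      (r := f) (mem_nonZeroDivisors_of_ne_zero hf0) (Ideal.Quotient.eq_zero_iff_mem.2 hfI)
  have h2 : ringKrullDim SS = (N : WithBot ℕ∞) := by
    rw [MvPolynomial.ringKrullDim_of_isNoetherianRing, ringKrullDim_eq_zero_of_field]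
    simp
  rw [hdim, h2] at h1
  have h3 : ((Q.natDegree + 1 + 1 : ℕ) : WithBot ℕ∞) ≤ ((N : ℕ) : WithBot ℕ∞) := by
    push_cast
    exact h1
  have h4 : Q.natDegree + 1 + 1 ≤ N := by exact_mod_cast h3
  rw [Polynomial.degree_eq_natDegree hQ0]
  have h5 : Q.natDegree < N - 1 := by omega
  exact_mod_cast h5

end DegLT

end Groth.Agent.HilbExist9
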