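import Mathlib
import Groth.Agent.Lib.HilbExist1_helper9

/-!
# Hilbert–Samuel polynomial, part 1: eventually polynomial functions (helper9)
APPEND-ONLY once landed.
-/

set_option autoImplicit false
universe u v

namespace Groth.Agent.HS9

open Polynomial

/-- `f` agrees with a rational polynomial for all large arguments. -/
def EP (f : ℕ → ℚ) : Prop := ∃ (Q : ℚ[X]) (n₀ : ℕ), ∀ n, n₀ ≤ n → f n = Q.eval (n : ℚ)

theorem EP.of_eventually_zero {f : ℕ → ℚ} (n₀ : ℕ) (h : ∀ n, n₀ ≤ n → f n = 0) : EP f :=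
  ⟨0, n₀, fun n hn => by rw [h n hn]; simp⟩

theorem EP.congr {f g : ℕ → ℚ} (hf : EP f) (n₀ : ℕ) (h : ∀ n, n₀ ≤ n → f n = g n) : EP g := by
  obtain ⟨Q, a, hQ⟩ := hf
  exact ⟨Q, max a n₀, fun n hn => by
    rw [← h n (le_trans (le_max_right _ _) hn), hQ n (le_trans (le_max_left _ _) hn)]⟩

theorem EP.add {f g : ℕ → ℚ} (hf : EP f) (hg : EP g) : EP (fun n => f n + g n) := by
  obtain ⟨Q, a, hQ⟩ := hf
  obtain ⟨Q', b, hQ'⟩ := hg
  exact ⟨Q + Q', max a b, fun n hn => by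
    show f n + g n = _
    rw [eval_add, hQ n (le_trans (le_max_left _ _) hn), hQ' n (le_trans (le_max_right _ _) hn)]⟩

theorem EP.shift {f : ℕ → ℚ} (hf : EP f) : EP (fun n => f (n + 1)) := by
  obtain ⟨Q, a, hQ⟩ := hf
  refine ⟨taylor 1 Q, a, fun n hn => ?_⟩
  show f (n + 1) = _
  rw [taylor_eval, hQ (n + 1) (by omega)]
  push_cast
  rfl

theorem EP.unshift {f : ℕ → ℚ} (hf : EP (fun n => f (n + 1))) : EP f := by
  obtain ⟨Q, a, hQ⟩ := hf
  refine ⟨taylor (-1) Q, a + 1, fun n hn => ?_⟩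
  obtain ⟨m, rfl⟩ : ∃ m, n = m + 1 := ⟨n - 1, by omega⟩
  have := hQ m (by omega)
  simp only at this
  rw [taylor_eval, this]
  congr 1
  push_cast
  ring

theorem EP.of_diff {f : ℕ → ℚ} (hf : EP (fun n => f (n + 1) - f n)) : EP f := by
  obtain ⟨Q', a, hQ'⟩ := hf
  obtain ⟨Q, hQ⟩ := Groth.Agent.HilbExist9.exists_antidiff (taylor (-1) Q')
  have hstep : ∀ n : ℕ, Q.eval ((n + 1 : ℕ) : ℚ) - Q.eval (n : ℚ) = Q'.eval (n : ℚ) := by
    intro n
    have := congrArg (eval ((n + 1 : ℕ) : ℚ)) hQ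
    rw [eval_sub, taylor_eval, taylor_eval] at this
    have e : ((n + 1 : ℕ) : ℚ) + -1 = (n : ℚ) := by push_cast; ring
    rw [e] at this
    exact this
  refine ⟨Q + C (f a - Q.eval (a : ℚ)), a, fun n hn => ?_⟩
  rw [eval_add, eval_C]
  induction n, hn using Nat.le_induction with
  | base => ring
  | succ n hn ih =>
    have h1 := hQ' n hn
    have h2 := hstep n
    simp only at h1
    linarith

end Groth.Agent.HS9
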