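import Mathlib
import Groth.Agent.Lib.HS1_helper9
import Groth.Agent.Lib.Samuel1_helper9

/-!
# Hilbert–Samuel polynomial, part 2: sandwiched filtrations, ACC, the length recursion (helper9)
APPEND-ONLY once landed.
-/

set_option autoImplicit false
universe u v

namespace Groth.Agent.HS9

open Module Submodule Pointwise Groth.Agent.Samuel9

variable {A : Type u} [CommRing A] {M : Type v} [AddCommGroup M] [Module A M]

/-- The basic length identity for `x : Q → M/P`. -/
theorem length_colon_add (P Q : Submodule A M) (x : A) :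
    Module.length A (M ⧸ (Q ⊓ P.comap (LinearMap.lsmul A M x))) +
        Module.length A (M ⧸ (P ⊔ x • Q)) =
      Module.length A (M ⧸ Q) + Module.length A (M ⧸ P) := by
  set K : Submodule A M := Q ⊓ P.comap (LinearMap.lsmul A M x) with hK
  set S : Submodule A M := P ⊔ x • Q with hS
  have h1 := length_quot_eq_add (inf_le_left : K ≤ Q)
  have h2 := length_quot_eq_add (le_sup_left : P ≤ S)
  have hmem : ∀ q : ↥Q, (LinearMap.lsmul A M x ∘ₗ Q.subtype) q ∈ S := fun q =>
    mem_sup_right (Submodule.smul_mem_pointwise_smul _ _ _ q.2)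
  set g : ↥Q →ₗ[A] ↥S ⧸ P.submoduleOf S :=
    (P.submoduleOf S).mkQ ∘ₗ LinearMap.codRestrict S (LinearMap.lsmul A M x ∘ₗ Q.subtype) hmem
    with hg
  have hsurj : Function.Surjective g := by
    intro y
    obtain ⟨⟨m, hm⟩, rfl⟩ := (P.submoduleOf S).mkQ_surjective y
    obtain ⟨p, hp, z, hz, rfl⟩ := Submodule.mem_sup.mp hm
    obtain ⟨q, hq, rfl⟩ := (Submodule.mem_smul_pointwise_iff_exists _ _ _).mp hz
    refine ⟨⟨q, hq⟩, ?_⟩
    rw [hg, LinearMap.comp_apply, mkQ_apply, mkQ_apply, Submodule.Quotient.eq]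
    show _ ∈ P
    simp only [LinearMap.codRestrict_apply, LinearMap.coe_comp, coe_subtype,
      Function.comp_apply, LinearMap.lsmul_apply, Submodule.coe_sub]
    rw [sub_add_cancel_right]
    exact P.neg_mem hp
  have hker : LinearMap.ker g = K.submoduleOf Q := by
    ext ⟨q, hq⟩
    rw [LinearMap.mem_ker, hg, LinearMap.comp_apply, mkQ_apply, Submodule.Quotient.mk_eq_zero]
    show x • q ∈ P ↔ q ∈ K
    rw [hK]
    constructor
    · intro h; exact ⟨hq, h⟩
    · intro h; exact h.2
  have e : (↥Q ⧸ K.submoduleOf Q) ≃ₗ[A] (↥S ⧸ P.submoduleOf S) :=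
    (Submodule.quotEquivOfEq _ _ hker.symm).trans (g.quotKerEquivOfSurjective hsurj)
  rw [h1, h2, LinearEquiv.length_eq e]
  abel

theorem psmul_mono (x : A) {S T : Submodule A M} (h : S ≤ T) : x • S ≤ x • T := by
  intro m hm
  obtain ⟨m', hm', rfl⟩ := (Submodule.mem_smul_pointwise_iff_exists _ _ _).mp hm
  exact Submodule.smul_mem_pointwise_smul _ _ _ (h hm')

variable (I : Ideal A)

/-- `F` is sandwiched between consecutive steps of the `I`-adic filtration. -/
def IsSand (F : I.Filtration M) : Prop :=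
  (∀ n, I ^ (n + 1) • (⊤ : Submodule A M) ≤ F.N n) ∧ ∀ n, F.N n ≤ I ^ n • (⊤ : Submodule A M)

/-- The colon filtration. -/
def colonF (F : I.Filtration M) (x : A) : I.Filtration M where
  N n := I ^ n • (⊤ : Submodule A M) ⊓ (F.N (n + 1)).comap (LinearMap.lsmul A M x)
  mono n := inf_le_inf (Submodule.smul_mono_left (Ideal.pow_le_pow_right (Nat.le_succ n)))
    (Submodule.comap_mono (F.mono (n + 1)))
  smul_le n := by
    rw [Submodule.smul_le]
    intro r hr m hm
    refine ⟨?_, ?_⟩
    · rw [pow_succ', Submodule.mul_smul]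
      exact Submodule.smul_mem_smul hr hm.1
    · show x • (r • m) ∈ F.N (n + 1 + 1)
      rw [smul_comm]
      exact F.smul_le (n + 1) (Submodule.smul_mem_smul hr hm.2)

/-- The sum filtration. -/
def plusF (F : I.Filtration M) (x : A) : I.Filtration M where
  N n := F.N n ⊔ x • (I ^ (n - 1) • (⊤ : Submodule A M))
  mono n := sup_le_sup (F.mono n) (psmul_mono _
    (Submodule.smul_mono_left (Ideal.pow_le_pow_right (by omega))))
  smul_le n := by
    rw [Submodule.smul_sup]
    refine sup_le_sup (F.smul_le n) ?_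
    rw [Submodule.smul_le]
    intro r hr m hm
    obtain ⟨m', hm', rfl⟩ := (Submodule.mem_smul_pointwise_iff_exists _ _ _).mp hm
    rw [smul_comm r x m']
    apply Submodule.smul_mem_pointwise_smul
    rw [Nat.add_sub_cancel]
    cases n with
    | zero => simp
    | succ n =>
      rw [Nat.add_sub_cancel] at hm'
      rw [pow_succ', Submodule.mul_smul]
      exact Submodule.smul_mem_smul hr hm'

variable {I}

theorem isSand_colonF {F : I.Filtration M} (hF : IsSand I F) {x : A} (hx : x ∈ I) :
    IsSand I (colonF I F x) := by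
  refine ⟨fun n => ?_, fun n => inf_le_left⟩
  refine le_inf (Submodule.smul_mono_left (Ideal.pow_le_pow_right (Nat.le_succ n))) ?_
  intro m hm
  show x • m ∈ F.N (n + 1)
  apply hF.1 (n + 1)
  rw [pow_succ', Submodule.mul_smul]
  exact Submodule.smul_mem_smul hx hm

theorem isSand_plusF {F : I.Filtration M} (hF : IsSand I F) {x : A} (hx : x ∈ I) :
    IsSand I (plusF I F x) := by
  refine ⟨fun n => (hF.1 n).trans le_sup_left, fun n => sup_le (hF.2 n) ?_⟩
  intro m hm
  obtain ⟨m', hm', rfl⟩ := (Submodule.mem_smul_pointwise_iff_exists _ _ _).mp hm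
  cases n with
  | zero => simp
  | succ n =>
    rw [Nat.add_sub_cancel] at hm'
    rw [pow_succ', Submodule.mul_smul]
    exact Submodule.smul_mem_smul hx hm'

theorem le_colonF {F : I.Filtration M} (hF : IsSand I F) {x : A} (hx : x ∈ I) :
    F ≤ colonF I F x := by
  intro n
  refine le_inf (hF.2 n) ?_
  intro m hm
  show x • m ∈ F.N (n + 1)
  exact F.smul_le n (Submodule.smul_mem_smul hx hm)

theorem le_plusF (F : I.Filtration M) (x : A) : F ≤ plusF I F x := fun _ => le_sup_left

theorem plusF_N_succ (F : I.Filtration M) (x : A) (n : ℕ) :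
    (plusF I F x).N (n + 1) = F.N (n + 1) ⊔ x • (I ^ n • (⊤ : Submodule A M)) := by
  show F.N (n + 1) ⊔ x • (I ^ (n + 1 - 1) • (⊤ : Submodule A M)) = _
  rw [Nat.add_sub_cancel]

variable (I)

/-- The normalised length function of a filtration. -/
noncomputable def hq (F : I.Filtration M) (n : ℕ) : ℚ :=
  ((Module.length A (M ⧸ F.N n)).toNat : ℚ) -
    ((Module.length A (M ⧸ I ^ n • (⊤ : Submodule A M))).toNat : ℚ)

variable {I}

theorem length_ne_top_of_isSand (hfin : ∀ t, Module.length A (M ⧸ I ^ t • (⊤ : Submodule A M)) ≠ ⊤)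
    {F : I.Filtration M} (hF : IsSand I F) (n : ℕ) : Module.length A (M ⧸ F.N n) ≠ ⊤ :=
  ne_top_of_le_ne_top (hfin (n + 1)) (length_quot_le_of_le (hF.1 n))

theorem hq_rec (hfin : ∀ t, Module.length A (M ⧸ I ^ t • (⊤ : Submodule A M)) ≠ ⊤)
    {F : I.Filtration M} (hF : IsSand I F) {x : A} (hx : x ∈ I) (n : ℕ) :
    hq I F (n + 1) = hq I (colonF I F x) n + hq I (plusF I F x) (n + 1) := by
  have key := length_colon_add (F.N (n + 1)) (I ^ n • (⊤ : Submodule A M)) x
  have e1 : I ^ n • (⊤ : Submodule A M) ⊓ (F.N (n + 1)).comap (LinearMap.lsmul A M x) =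
      (colonF I F x).N n := rfl
  rw [e1, ← plusF_N_succ] at key
  have f1 := length_ne_top_of_isSand hfin (isSand_colonF hF hx) n
  have f2 := length_ne_top_of_isSand hfin (isSand_plusF hF hx) (n + 1)
  have f3 := hfin n
  have f4 := length_ne_top_of_isSand hfin hF (n + 1)
  unfold hq
  lift Module.length A (M ⧸ (colonF I F x).N n) to ℕ using f1 with a1
  lift Module.length A (M ⧸ (plusF I F x).N (n + 1)) to ℕ using f2 with a2
  lift Module.length A (M ⧸ I ^ n • (⊤ : Submodule A M)) to ℕ using f3 with a3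
  lift Module.length A (M ⧸ F.N (n + 1)) to ℕ using f4 with a4
  have key' : a1 + a2 = a3 + a4 := by exact_mod_cast key
  have key'' : (a1 : ℚ) + a2 = a3 + a4 := by exact_mod_cast key'
  simp only [ENat.toNat_natCast]
  linarith

end Groth.Agent.HS9
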