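import Mathlib
import Groth.Agent.Lib.HS2_helper9

/-!
# Hilbert–Samuel polynomial, part 3: Noetherian induction on sandwiched filtrations (helper9)
APPEND-ONLY once landed.
-/

set_option autoImplicit false
universe u v

namespace Groth.Agent.HS9

open Module Submodule Pointwise Groth.Agent.Samuel9

variable {A : Type u} [CommRing A] {M : Type v} [AddCommGroup M] [Module A M] (I : Ideal A)

/-- The type of sandwiched filtrations. -/
abbrev Sand (M : Type v) [AddCommGroup M] [Module A M] := {F : I.Filtration M // IsSand I F}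

theorem sand_wf [IsNoetherianRing A] [Module.Finite A M] : WellFoundedGT (Sand I M) := by
  rw [wellFoundedGT_iff_monotone_chain_condition]
  intro a
  set Finf : I.Filtration M := ⨆ k, (a k).1 with hFinf
  have hN : ∀ n, Finf.N n = ⨆ k, (a k).1.N n := by
    intro n
    rw [hFinf, Ideal.Filtration.iSup_N, iSup_apply]
  have hle : Finf ≤ I.stableFiltration (⊤ : Submodule A M) := by
    intro n
    show Finf.N n ≤ (I.stableFiltration (⊤ : Submodule A M)).N n
    rw [hN]
    exact iSup_le fun k => (a k).2.2 n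
  obtain ⟨n₀, hn₀⟩ := (I.stableFiltration_stable (⊤ : Submodule A M)).of_le hle
  have hmono : ∀ n, Monotone fun k => (a k).1.N n := fun n k k' hkk' => a.monotone hkk' n
  have hstab : ∀ n, ∃ k₀, ∀ k, k₀ ≤ k → (a k₀).1.N n = (a k).1.N n := fun n =>
    (monotone_stabilizes_iff_noetherian.mpr (inferInstance : IsNoetherian A M)) ⟨_, hmono n⟩
  choose kk hkk using hstab
  set K := (Finset.range (n₀ + 1)).sup kk with hK
  have hKle : ∀ n, n ≤ n₀ → kk n ≤ K := fun n hn =>
    Finset.le_sup (f := kk) (Finset.mem_range.mpr (by omega))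
  have hlow : ∀ n, n ≤ n₀ → Finf.N n ≤ (a K).1.N n := by
    intro n hn
    rw [hN]
    refine iSup_le fun k => ?_
    have h1 : (a k).1.N n ≤ (a (max k (kk n))).1.N n := hmono n (le_max_left _ _)
    have h2 : (a (kk n)).1.N n = (a (max k (kk n))).1.N n := hkk n _ (le_max_right _ _)
    have h3 : (a (kk n)).1.N n = (a K).1.N n := hkk n _ (hKle n hn)
    rw [← h3, h2]
    exact h1
  have hall : ∀ n, Finf.N n ≤ (a K).1.N n := by
    intro n
    induction n with
    | zero => exact hlow 0 (Nat.zero_le _)
    | succ n ih =>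
      by_cases hn : n + 1 ≤ n₀
      · exact hlow _ hn
      · rw [← hn₀ n (by omega)]
        exact (Submodule.smul_mono le_rfl ih).trans ((a K).1.smul_le n)
  refine ⟨K, fun m hm => le_antisymm (a.monotone hm) ?_⟩
  intro n
  show (a m).1.N n ≤ (a K).1.N n
  refine le_trans ?_ (hall n)
  rw [hN]
  exact le_iSup (fun k => (a k).1.N n) m

variable {I}

theorem EP_hq [IsNoetherianRing A] [Module.Finite A M]
    (hfin : ∀ t, Module.length A (M ⧸ I ^ t • (⊤ : Submodule A M)) ≠ ⊤) (F : Sand I M) :
    EP (hq I F.1) := by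
  haveI := sand_wf (M := M) I
  induction F using WellFoundedGT.induction with
  | _ F ih =>
  obtain ⟨F, hF⟩ := F
  by_cases hcase : ∀ x ∈ I, plusF I F x ≤ F
  · -- F.N (n+1) = I^(n+1) M
    refine EP.of_eventually_zero 1 (fun n hn => ?_)
    obtain ⟨m, rfl⟩ : ∃ m, n = m + 1 := ⟨n - 1, by omega⟩
    have heq : F.N (m + 1) = I ^ (m + 1) • (⊤ : Submodule A M) := by
      refine le_antisymm (hF.2 _) ?_
      rw [pow_succ', Submodule.mul_smul, Submodule.smul_le]
      intro r hr z hz
      have : (plusF I F r).N (m + 1) ≤ F.N (m + 1) := hcase r hr (m + 1)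
      rw [plusF_N_succ] at this
      exact this (mem_sup_right (Submodule.smul_mem_pointwise_smul _ _ _ hz))
    show hq I F (m + 1) = 0
    unfold hq
    rw [heq, sub_self]
  · push Not at hcase
    obtain ⟨x, hx, hnle⟩ := hcase
    have hlt : (⟨F, hF⟩ : Sand I M) < ⟨plusF I F x, isSand_plusF hF hx⟩ :=
      Subtype.mk_lt_mk.mpr (lt_of_le_not_ge (le_plusF F x) hnle)
    have hplus : EP (hq I (plusF I F x)) := ih ⟨plusF I F x, isSand_plusF hF hx⟩ hlt
    have hrec := fun n => hq_rec hfin hF hx n
    by_cases hcol : colonF I F x ≤ F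
    · have heq : colonF I F x = F := le_antisymm hcol (le_colonF hF hx)
      apply EP.of_diff
      refine hplus.shift.congr 0 (fun n _ => ?_)
      rw [hrec n, heq]
      ring
    · have hlt2 : (⟨F, hF⟩ : Sand I M) < ⟨colonF I F x, isSand_colonF hF hx⟩ :=
        lt_of_le_not_ge (le_colonF hF hx) hcol
      have hcolon : EP (hq I (colonF I F x)) := ih ⟨colonF I F x, isSand_colonF hF hx⟩ hlt2
      apply EP.unshift
      exact (hcolon.add hplus.shift).congr 0 (fun n _ => (hrec n).symm)

/-- The bottom sandwiched filtration `n ↦ I^(n+1) M`. -/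
def botF (I : Ideal A) (M : Type v) [AddCommGroup M] [Module A M] : I.Filtration M where
  N n := I ^ (n + 1) • (⊤ : Submodule A M)
  mono n := Submodule.smul_mono_left (Ideal.pow_le_pow_right (Nat.le_succ _))
  smul_le n := by
    rw [← Submodule.mul_smul, ← pow_succ']

theorem isSand_botF : IsSand I (botF I M) :=
  ⟨fun _ => le_rfl, fun _ => Submodule.smul_mono_left (Ideal.pow_le_pow_right (Nat.le_succ _))⟩

/-- **Eventual polynomiality of the Samuel function.** -/
theorem EP_chi [IsNoetherianRing A] [Module.Finite A M]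
    (hfin : ∀ t, Module.length A (M ⧸ I ^ t • (⊤ : Submodule A M)) ≠ ⊤) :
    EP (fun n => ((Module.length A (M ⧸ I ^ n • (⊤ : Submodule A M))).toNat : ℚ)) := by
  have h := EP_hq hfin (⟨botF I M, isSand_botF⟩ : Sand I M)
  apply EP.of_diff
  exact h.congr 0 (fun n _ => rfl)

end Groth.Agent.HS9
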