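import Mathlib
import Groth.Agent.Lib.Samuel1_helper9

/-!
# Hilbert–Samuel functions, part 2 (helper9)

Invariance under isomorphism, comparison with quotient modules, and the Artin–Rees comparison of
Samuel functions along a short exact sequence.
-/

set_option autoImplicit false
universe u v

namespace Groth.Agent.Samuel9

open Module Submodule Pointwise

variable {A : Type u} [CommRing A] {M : Type v} [AddCommGroup M] [Module A M]

theorem chiE_congr (I : Ideal A) {M₂ : Type*} [AddCommGroup M₂] [Module A M₂] (e : M ≃ₗ[A] M₂)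
    (t : ℕ) : chiE I M t = chiE I M₂ t := by
  unfold chiE
  refine LinearEquiv.length_eq (Submodule.Quotient.equiv _ _ e ?_)
  rw [Submodule.map_smul'', Submodule.map_top, LinearEquiv.range]

theorem chiS_eq_chiE_quot (I : Ideal A) (N : Submodule A M) (t : ℕ) :
    chiS I N t = chiE I (M ⧸ N) t := by
  unfold chiS chiE
  have h : (I ^ t • (⊤ : Submodule A M)).map N.mkQ = I ^ t • (⊤ : Submodule A (M ⧸ N)) := by
    rw [Submodule.map_smul'', Submodule.map_top, Submodule.range_mkQ]
  rw [← h]
  exact (LinearEquiv.length_eq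
    (Submodule.quotientQuotientEquivQuotientSup N (I ^ t • (⊤ : Submodule A M)))).symm

/-- Exact decomposition of the Samuel function along a submodule. -/
theorem chiE_eq_add (I : Ideal A) (N : Submodule A M) (t : ℕ) :
    chiE I M t = Module.length A (↥N ⧸ (comap N.subtype N ⊓
      comap N.subtype (I ^ t • (⊤ : Submodule A M)))) + chiS I N t := by
  set P : Submodule A M := I ^ t • (⊤ : Submodule A M) with hP
  have h1 := length_quot_eq_add (le_sup_right : P ≤ N ⊔ P)
  have h2 := LinearEquiv.length_eq (LinearMap.quotientInfEquivSupQuotient N P)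
  unfold chiE chiS
  rw [← hP, h1, h2]
  rfl

variable [IsNoetherianRing A] [Module.Finite A M]

/-- The Artin–Rees comparison for a submodule. -/
theorem exists_AR_submodule (I : Ideal A) (N : Submodule A M) :
    ∃ c : ℕ, ∀ t : ℕ, c ≤ t →
      chiE I N (t - c) + chiS I N t ≤ chiE I M t ∧ chiE I M t ≤ chiE I N t + chiS I N t := by
  obtain ⟨c, hc⟩ := Ideal.exists_pow_inf_eq_pow_smul I N
  refine ⟨c, fun t ht => ?_⟩
  rw [chiE_eq_add I N t]
  set W : Submodule A ↥N := comap N.subtype N ⊓
    comap N.subtype (I ^ t • (⊤ : Submodule A M)) with hW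
  have hlow : I ^ t • (⊤ : Submodule A ↥N) ≤ W := by
    rw [Submodule.smul_le]
    intro r hr n _
    rw [hW]
    refine ⟨?_, ?_⟩
    · show N.subtype (r • n) ∈ N
      exact (r • n).2
    · show N.subtype (r • n) ∈ I ^ t • (⊤ : Submodule A M)
      rw [map_smul]
      exact Submodule.smul_mem_smul hr Submodule.mem_top
  have hup : W ≤ I ^ (t - c) • (⊤ : Submodule A ↥N) := by
    intro w hw
    have hw2 : (w : M) ∈ I ^ t • (⊤ : Submodule A M) ⊓ N := ⟨hw.2, w.2⟩
    rw [hc t ht] at hw2
    have hle : I ^ (t - c) • (I ^ c • (⊤ : Submodule A M) ⊓ N) ≤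
        (I ^ (t - c) • (⊤ : Submodule A ↥N)).map N.subtype := by
      rw [Submodule.map_smul'', Submodule.map_top, Submodule.range_subtype]
      exact Submodule.smul_mono le_rfl inf_le_right
    obtain ⟨w', hw', hww'⟩ := hle hw2
    have : w' = w := Subtype.ext hww'
    rw [← this]; exact hw'
  constructor
  · exact add_le_add (length_quot_le_of_le hup) le_rfl
  · exact add_le_add (length_quot_le_of_le hlow) le_rfl

/-- The Artin–Rees comparison along a short exact sequence. -/
theorem exists_AR_exact (I : Ideal A) {M' M'' : Type v} [AddCommGroup M'] [Module A M']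
    [AddCommGroup M''] [Module A M''] (f : M' →ₗ[A] M) (g : M →ₗ[A] M'')
    (hf : Function.Injective f) (hg : Function.Surjective g) (hfg : Function.Exact f g) :
    ∃ c : ℕ, ∀ t : ℕ, c ≤ t →
      chiE I M' (t - c) + chiE I M'' t ≤ chiE I M t ∧
        chiE I M t ≤ chiE I M' t + chiE I M'' t := by
  obtain ⟨c, hc⟩ := exists_AR_submodule I (LinearMap.range f)
  refine ⟨c, fun t ht => ?_⟩
  have e1 : M' ≃ₗ[A] ↥(LinearMap.range f) := LinearEquiv.ofInjective f hf
  have hker : LinearMap.ker g = LinearMap.range f := (LinearMap.exact_iff.mp hfg)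
  have e2 : (M ⧸ LinearMap.range f) ≃ₗ[A] M'' :=
    (Submodule.quotEquivOfEq _ _ hker.symm).trans (g.quotKerEquivOfSurjective hg)
  have h1 := hc t ht
  rw [chiS_eq_chiE_quot, ← chiE_congr I e1, ← chiE_congr I e1, chiE_congr I e2] at h1
  exact h1

end Groth.Agent.Samuel9
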