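import Mathlib
import Groth.Agent.Lib.Samuel2_helper9

/-!
# Hilbert–Samuel polynomial, part 4: lower growth of the Samuel function from the dimension (helper9)
APPEND-ONLY once landed.
-/

set_option autoImplicit false
universe u v

namespace Groth.Agent.HS9

open Module Submodule Pointwise PrimeSpectrum Groth.Agent.Samuel9

variable {A : Type u} [CommRing A]

theorem chiE_mono (I : Ideal A) (M : Type v) [AddCommGroup M] [Module A M] {s t : ℕ} (h : s ≤ t) :
    chiE I M s ≤ chiE I M t := by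
  rw [← chiS_bot, ← chiS_bot]
  exact chiS_mono_right I ⊥ h

/-- Lower growth of order `d` of the Samuel function. -/
def LB (I : Ideal A) (M : Type v) [AddCommGroup M] [Module A M] (d : ℕ) : Prop :=
  ∃ a : ℕ, 1 ≤ a ∧ ∀ n : ℕ, ((n.choose d : ℕ) : ℕ∞) ≤ chiE I M (a * (n + 1))

theorem LB.of_injective [IsNoetherianRing A] (I : Ideal A) {M' M : Type u} [AddCommGroup M']
    [Module A M'] [AddCommGroup M] [Module A M] [Module.Finite A M]
    (f : M' →ₗ[A] M) (hf : Function.Injective f) {d : ℕ} (h : LB I M' d) : LB I M d := by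
  obtain ⟨c, hc⟩ := exists_AR_exact I f (LinearMap.range f).mkQ hf (mkQ_surjective _)
    f.exact_map_mkQ_range
  obtain ⟨a, ha, hLB⟩ := h
  refine ⟨a + c, by omega, fun n => ?_⟩
  have e : (a + c) * (n + 1) = a * (n + 1) + c * n + c := by ring
  have ht : c ≤ (a + c) * (n + 1) := by omega
  have h1 := (hc _ ht).1
  calc ((n.choose d : ℕ) : ℕ∞) ≤ chiE I M' (a * (n + 1)) := hLB n
    _ ≤ chiE I M' ((a + c) * (n + 1) - c) := chiE_mono I M' (by omega)
    _ ≤ chiE I M' ((a + c) * (n + 1) - c) +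
          chiE I (M ⧸ LinearMap.range f) ((a + c) * (n + 1)) := le_self_add
    _ ≤ chiE I M ((a + c) * (n + 1)) := h1

theorem LB.zero {I : Ideal A} (hI : I ≤ Ring.jacobson A) (M : Type v) [AddCommGroup M]
    [Module A M] [Module.Finite A M] [Nontrivial M] : LB I M 0 := by
  refine ⟨1, le_rfl, fun n => ?_⟩
  rw [Nat.choose_zero_right, one_mul, Nat.cast_one, Order.one_le_iff_pos]
  unfold chiE
  rw [Module.length_pos_iff, Submodule.Quotient.nontrivial_iff]
  intro htop
  have h1 : (⊤ : Submodule A M) ≤ I • (⊤ : Submodule A M) :=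
    calc (⊤ : Submodule A M) = I ^ (n + 1) • (⊤ : Submodule A M) := htop.symm
      _ ≤ I • (⊤ : Submodule A M) :=
        Submodule.smul_mono_left (Ideal.pow_le_self (Nat.succ_ne_zero n))
  have h2 := Submodule.eq_bot_of_le_smul_of_le_jacobson_bot I (⊤ : Submodule A M)
    Module.Finite.fg_top h1 (by rw [Ideal.jacobson_bot]; exact hI)
  exact top_ne_bot h2

theorem LB_of_mem_support [IsNoetherianRing A] (I : Ideal A) (M : Type u) [AddCommGroup M]
    [Module A M] [Module.Finite A M] (d : ℕ) (q : PrimeSpectrum A)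
    (hq : q ∈ Module.support A M)
    (h : ∀ q' : PrimeSpectrum A, q' ≤ q → LB I (A ⧸ q'.asIdeal) d) : LB I M d := by
  have h1 : Module.annihilator A M ≤ q.asIdeal := Module.mem_support_iff_of_finite.mp hq
  obtain ⟨p', hp'min, hp'le⟩ := Ideal.exists_minimalPrimes_le h1
  have hass := Module.associatedPrimes.minimalPrimes_annihilator_subset_associatedPrimes A M hp'min
  obtain ⟨hprime, f, hf⟩ := (isAssociatedPrime_iff_exists_injective_linearMap p' M).mp hass
  exact LB.of_injective I f hf (h ⟨p', hprime⟩ hp'le)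

theorem LB.succ_of_regular [IsNoetherianRing A] (I : Ideal A) (B : Type u) [AddCommGroup B]
    [Module A B] [Module.Finite A B] (x : A) (hinj : Function.Injective (LinearMap.lsmul A B x))
    {d : ℕ} (h : LB I (B ⧸ (Ideal.span {x} • (⊤ : Submodule A B))) d) : LB I B (d + 1) := by
  have hex : Function.Exact (LinearMap.lsmul A B x)
      (Ideal.span {x} • (⊤ : Submodule A B)).mkQ := by
    intro y
    rw [mkQ_apply, Submodule.Quotient.mk_eq_zero, Submodule.ideal_span_singleton_smul,
      Submodule.mem_smul_pointwise_iff_exists]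
    constructor
    · rintro ⟨b, -, rfl⟩
      exact ⟨b, rfl⟩
    · rintro ⟨b, rfl⟩
      exact ⟨b, trivial, rfl⟩
  obtain ⟨c', hc'⟩ := exists_AR_exact I (LinearMap.lsmul A B x)
    (Ideal.span {x} • (⊤ : Submodule A B)).mkQ hinj (mkQ_surjective _) hex
  obtain ⟨a, ha, hLBa⟩ := h
  set c₁ := max c' 1 with hc₁
  have hc₁1 : 1 ≤ c₁ := le_max_right _ _
  have hAR : ∀ t, c₁ ≤ t → chiE I B (t - c₁) +
      chiE I (B ⧸ (Ideal.span {x} • (⊤ : Submodule A B))) t ≤ chiE I B t := by
    intro t ht
    have h1 := (hc' t ((le_max_left _ _).trans ht)).1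
    refine le_trans (add_le_add (chiE_mono I B ?_) le_rfl) h1
    have : c' ≤ c₁ := le_max_left _ _
    omega
  refine ⟨a * c₁, Nat.one_le_iff_ne_zero.mpr (Nat.mul_ne_zero (by omega) (by omega)), ?_⟩
  intro n
  induction n with
  | zero => simp
  | succ n ihn =>
    set t := a * c₁ * (n + 1 + 1) with ht
    have hac : c₁ ≤ a * c₁ := Nat.le_mul_of_pos_left _ (by omega)
    have e1 : t = a * c₁ * (n + 1) + a * c₁ := by rw [ht]; ring
    have htc : c₁ ≤ t := by omega
    have h1 := hAR t htc
    have h2 : chiE I B (a * c₁ * (n + 1)) ≤ chiE I B (t - c₁) := chiE_mono I B (by omega)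
    obtain ⟨k, hk⟩ : ∃ k, c₁ * (n + 1 + 1) = k + 1 := ⟨c₁ * (n + 1 + 1) - 1, by
      have : 1 ≤ c₁ * (n + 1 + 1) :=
        Nat.one_le_iff_ne_zero.mpr (Nat.mul_ne_zero (by omega) (by omega))
      omega⟩
    have hkn : n ≤ k := by
      have : 1 * (n + 1 + 1) ≤ c₁ * (n + 1 + 1) := Nat.mul_le_mul_right _ hc₁1
      omega
    have e2 : t = a * (k + 1) := by rw [ht, ← hk]; ring
    have h3 : ((n.choose d : ℕ) : ℕ∞) ≤
        chiE I (B ⧸ (Ideal.span {x} • (⊤ : Submodule A B))) t := by
      rw [e2]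
      refine le_trans ?_ (hLBa k)
      exact_mod_cast Nat.choose_le_choose d hkn
    rw [Nat.choose_succ_succ, Nat.cast_add, add_comm]
    exact (add_le_add (ihn.trans h2) h3).trans h1

theorem LB_quot_prime [IsNoetherianRing A] {I : Ideal A} (hI : I ≤ Ring.jacobson A) :
    ∀ (d : ℕ) (p : PrimeSpectrum A), (d : ℕ∞) ≤ Order.coheight p → LB I (A ⧸ p.asIdeal) d := by
  intro d
  induction d with
  | zero =>
    intro p _
    haveI : Nontrivial (A ⧸ p.asIdeal) := Ideal.Quotient.nontrivial_iff.mpr p.isPrime.ne_top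
    exact LB.zero hI _
  | succ d ih =>
    intro p hp
    have hex : ∃ q : PrimeSpectrum A, p < q ∧ (d : ℕ∞) ≤ Order.coheight q := by
      by_contra hcon
      push Not at hcon
      have : Order.coheight p ≤ (d : ℕ∞) := Order.coheight_le_coe_iff.mpr hcon
      have h2 : ((d + 1 : ℕ) : ℕ∞) ≤ (d : ℕ∞) := hp.trans this
      have h3 : d + 1 ≤ d := by exact_mod_cast h2
      omega
    obtain ⟨q, hpq, hdq⟩ := hex
    have hpq' : p.asIdeal < q.asIdeal := hpq
    obtain ⟨x, hxq, hxp⟩ := SetLike.exists_of_lt hpq'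
    have hqsupp : q ∈ Module.support A
        ((A ⧸ p.asIdeal) ⧸ (Ideal.span {x} • (⊤ : Submodule A (A ⧸ p.asIdeal)))) := by
      rw [Module.support_quotient]
      refine ⟨?_, ?_⟩
      · rw [Module.mem_support_iff_of_finite, Ideal.annihilator_quotient]
        exact hpq'.le
      · rw [mem_zeroLocus, SetLike.coe_subset_coe, Ideal.span_singleton_le_iff_mem]
        exact hxq
    have hLB₂ : LB I ((A ⧸ p.asIdeal) ⧸ (Ideal.span {x} • (⊤ : Submodule A (A ⧸ p.asIdeal)))) d :=
      LB_of_mem_support I _ d q hqsupp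
        (fun q' hq' => ih q' (hdq.trans (Order.coheight_anti hq')))
    have hinj : Function.Injective (LinearMap.lsmul A (A ⧸ p.asIdeal) x) := by
      rw [← LinearMap.ker_eq_bot, LinearMap.ker_eq_bot']
      intro b hb
      obtain ⟨a, rfl⟩ := Ideal.Quotient.mk_surjective b
      have hb' : Ideal.Quotient.mk p.asIdeal (x * a) = 0 := by rw [← hb]; rfl
      rw [Ideal.Quotient.eq_zero_iff_mem] at hb' ⊢
      exact (p.isPrime.mem_or_mem hb').resolve_left hxp
    exact LB.succ_of_regular I (A ⧸ p.asIdeal) x hinj hLB₂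

/-- **Lower growth from the dimension.** -/
theorem LB_of_supportDim [IsNoetherianRing A] {I : Ideal A} (hI : I ≤ Ring.jacobson A)
    (M : Type u) [AddCommGroup M] [Module A M] [Module.Finite A M] (d : ℕ)
    (hd : (d : WithBot ℕ∞) ≤ Module.supportDim A M) : LB I M d := by
  unfold Module.supportDim at hd
  obtain ⟨l, hl⟩ := Order.le_krullDim_iff.mp hd
  set l' : LTSeries (PrimeSpectrum A) := l.map Subtype.val (fun _ _ h => h) with hl'
  have h1 : (l'.length : ℕ∞) ≤ Order.coheight l'.head := Order.length_le_coheight_head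
  have h2 : l'.head = l.head.1 := rfl
  have h3 : l'.length = d := hl
  rw [h2, h3] at h1
  exact LB_of_mem_support I M d l.head.1 l.head.2
    (fun q' hq' => LB_quot_prime hI d q' (h1.trans (Order.coheight_anti hq')))

end Groth.Agent.HS9
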