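import Mathlib
import Groth.Agent.Lib.Samuel2_helper9
import Groth.Agent.Lib.DimTheory_helper5

/-!
# Hilbert–Samuel functions, part 3 (helper9)

Semi-local noetherian rings and ideals of definition: finiteness of the Samuel function, existence
of parameters inside the ideal of definition, and polynomial growth bounds by the dimension.
-/

set_option autoImplicit false
universe u v

namespace Groth.Agent.Samuel9

open Module Submodule Pointwise PrimeSpectrum

variable {A : Type u} [CommRing A] [IsNoetherianRing A]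

/-- `I` is an ideal of definition of the semi-local ring `A`. -/
def IsDef (I : Ideal A) : Prop := I ≤ Ring.jacobson A ∧ ∃ n : ℕ, Ring.jacobson A ^ n ≤ I

theorem IsDef.of_local [IsLocalRing A] {I : Ideal A}
    (h : I ≤ IsLocalRing.maximalIdeal A ∧ ∃ n : ℕ, IsLocalRing.maximalIdeal A ^ n ≤ I) :
    IsDef I := by
  unfold IsDef
  rw [IsLocalRing.ringJacobson_eq_maximalIdeal]
  exact h

variable [Finite (MaximalSpectrum A)]

theorem isMaximal_of_isDef_le {I : Ideal A} (hI : IsDef I) (p : Ideal A) [hp : p.IsPrime]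
    {t : ℕ} (h : I ^ t ≤ p) : p.IsMaximal := by
  by_contra hmax
  obtain ⟨n, hn⟩ := hI.2
  have h1 : I ≤ p := hp.le_of_pow_le h
  have h2 : Ring.jacobson A ≤ p := hp.le_of_pow_le (hn.trans h1)
  exact Groth.Agent.DimLib.jacobson_not_le_of_not_isMaximal p hp hmax h2

theorem isFiniteLength_quot_of_isDef {I : Ideal A} (hI : IsDef I) (M : Type v) [AddCommGroup M]
    [Module A M] [Module.Finite A M] (t : ℕ) :
    IsFiniteLength A (M ⧸ (I ^ t • (⊤ : Submodule A M))) := by
  apply Groth.Agent.DimLib.isFiniteLength_of_support_isMaximal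
  intro p hp
  rw [Module.support_quotient] at hp
  have h1 : I ^ t ≤ p.asIdeal := by
    have := hp.2
    rw [mem_zeroLocus] at this
    exact this
  exact isMaximal_of_isDef_le hI p.asIdeal h1

theorem chiE_ne_top {I : Ideal A} (hI : IsDef I) (M : Type v) [AddCommGroup M]
    [Module A M] [Module.Finite A M] (t : ℕ) : chiE I M t ≠ ⊤ := by
  unfold chiE
  rw [Module.length_ne_top_iff]
  exact isFiniteLength_quot_of_isDef hI M t

/-- Existence of `d` parameters inside the ideal of definition, for `d ≥ dim M`. -/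
theorem exists_params {I : Ideal A} (hI : IsDef I) (M : Type v) [AddCommGroup M]
    [Module A M] [Module.Finite A M] (d : ℕ) (hd : Module.supportDim A M ≤ d) :
    ∃ x : Fin d → A, (∀ i, x i ∈ I) ∧
      Module.length A (M ⧸ (Ideal.span (Set.range x) • (⊤ : Submodule A M))) ≠ ⊤ := by
  obtain ⟨n, hn⟩ := hI.2
  have hdim : Order.krullDim (zeroLocus ((Module.annihilator A M : Ideal A) : Set A)) ≤
      ((d : ℕ) : WithBot ℕ∞) := by
    rw [← Module.support_eq_zeroLocus]
    exact hd
  obtain ⟨y, hyr, hy⟩ := Groth.Agent.DimLib.exists_fin_of_krullDim_le d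
    (Module.annihilator A M) hdim
  refine ⟨fun i => y i ^ n, fun i => hn (Ideal.pow_mem_pow (hyr i) n), ?_⟩
  rw [Module.length_ne_top_iff]
  apply Groth.Agent.DimLib.isFiniteLength_of_support_isMaximal
  intro p hp
  rw [Module.support_quotient, Module.support_eq_zeroLocus] at hp
  apply hy p.asIdeal p.isPrime
  apply sup_le
  · have := hp.1
    rw [mem_zeroLocus] at this
    exact this
  · rw [Ideal.span_le]
    rintro _ ⟨i, rfl⟩
    have h2 := hp.2
    rw [mem_zeroLocus] at h2
    have h3 : y i ^ n ∈ p.asIdeal := h2 (Ideal.subset_span ⟨i, rfl⟩)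
    exact p.isPrime.mem_of_pow_mem n h3

/-- Growth bound by the dimension. -/
theorem chiE_le_of_dim {I : Ideal A} (hI : IsDef I) (M : Type v) [AddCommGroup M]
    [Module A M] [Module.Finite A M] (d : ℕ) (hd : Module.supportDim A M ≤ d) :
    ∃ C : ℕ, ∀ t : ℕ, chiE I M t ≤ ((C * (t + 1) ^ d : ℕ) : ℕ∞) := by
  obtain ⟨x, hxI, hfin⟩ := exists_params hI M d hd
  have := chiS_le_of_params I d (⊥ : Submodule A M) x hxI (by rwa [bot_sup_eq])
  simpa only [chiS_bot] using this

/-- Growth bound for the differences. -/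
theorem chiE_succ_le_of_dim {I : Ideal A} (hI : IsDef I) (M : Type v) [AddCommGroup M]
    [Module A M] [Module.Finite A M] (d : ℕ) (hd : Module.supportDim A M ≤ (d + 1 : ℕ)) :
    ∃ C : ℕ, ∀ t : ℕ, chiE I M (t + 1) ≤ chiE I M t + ((C * (t + 1 + 1) ^ d : ℕ) : ℕ∞) := by
  obtain ⟨x, hxI, hfin⟩ := exists_params hI M (d + 1) hd
  have := chiS_succ_le_of_params I d (⊥ : Submodule A M) x hxI (by rwa [bot_sup_eq])
  simpa only [chiS_bot] using this

end Groth.Agent.Samuel9
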