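import Mathlib
import Groth.Agent.Lib.HS3_helper9
import Groth.Agent.Lib.HS4_helper9
import Groth.Agent.Lib.Samuel3_helper9
import Groth.Agent.Lib.HilbDim3_helper9

/-!
# Hilbert–Samuel polynomial, part 5: the degree equals the dimension (helper9)
APPEND-ONLY once landed.
-/

set_option autoImplicit false
universe u

namespace Groth.Agent.HS9

open Module Submodule Pointwise Polynomial Groth.Agent.Samuel9

theorem natDegree_comp_affine (P : ℚ[X]) (a : ℕ) (ha : 1 ≤ a) :
    (P.comp (C (a : ℚ) * (X + 1))).natDegree = P.natDegree := by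
  have h1 : (C (a : ℚ) * ((X : ℚ[X]) + 1)).natDegree = 1 := by
    have ha0 : (a : ℚ) ≠ 0 := by positivity
    rw [natDegree_C_mul ha0]
    have : ((X : ℚ[X]) + 1) = X + C 1 := by rw [C_1]
    rw [this, natDegree_X_add_C]
  rw [natDegree_comp, h1, mul_one]

theorem choose_growth (d n : ℕ) (hn : 2 * d ≤ n) :
    (1 / (2 ^ d * (d.factorial : ℚ))) * (n : ℚ) ^ d ≤ (n.choose d : ℚ) := by
  have h1 := Nat.pow_le_choose (α := ℚ) d n
  have h2 : (n : ℚ) ≤ 2 * ((n + 1 - d : ℕ) : ℚ) := by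
    have : n ≤ 2 * (n + 1 - d) := by omega
    exact_mod_cast this
  have h3 : (n : ℚ) ^ d ≤ (2 * ((n + 1 - d : ℕ) : ℚ)) ^ d :=
    pow_le_pow_left₀ (by positivity) h2 d
  have hf : (0 : ℚ) < (d.factorial : ℚ) := by exact_mod_cast Nat.factorial_pos d
  refine le_trans ?_ h1
  rw [mul_pow] at h3
  rw [div_mul_eq_mul_div, one_mul, div_le_div_iff₀ (by positivity) hf]
  calc (n : ℚ) ^ d * (d.factorial : ℚ) ≤ (2 ^ d * ((n + 1 - d : ℕ) : ℚ) ^ d) * (d.factorial : ℚ) :=
        mul_le_mul_of_nonneg_right h3 hf.le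
    _ = ((n + 1 - d : ℕ) : ℚ) ^ d * (2 ^ d * (d.factorial : ℚ)) := by ring

/-- **The Hilbert–Samuel polynomial and its degree.** -/
theorem hilbertSamuel (A : Type u) [CommRing A] [IsNoetherianRing A]
    [Finite (MaximalSpectrum A)] (M : Type u) [AddCommGroup M] [Module A M] [Module.Finite A M]
    [Nontrivial M] :
    ∃ P : Polynomial ℚ,
      (∃ N : ℕ, ∀ n : ℕ, N ≤ n →
        ∃ ℓ : ℕ, Module.length A (M ⧸ (Ring.jacobson A ^ n • (⊤ : Submodule A M))) = ℓ ∧
          (ℓ : ℚ) = P.eval (n : ℚ)) ∧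
      (P.natDegree : WithBot ℕ∞) = Module.supportDim A M := by
  set I : Ideal A := Ring.jacobson A with hIdef
  have hI : IsDef I := ⟨le_rfl, 1, by rw [pow_one]⟩
  have hfin : ∀ t, Module.length A (M ⧸ I ^ t • (⊤ : Submodule A M)) ≠ ⊤ := chiE_ne_top hI M
  obtain ⟨P, n₀, hP⟩ := EP_chi hfin
  -- the dimension is a natural number
  obtain ⟨D, hD⟩ := Groth.Agent.DimLib.exists_nat_ringKrullDim_le (A := A)
  have hle : Module.supportDim A M ≤ D := (Module.supportDim_le_ringKrullDim A M).trans hD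
  have hne : Module.supportDim A M ≠ ⊥ := Module.supportDim_ne_bot_of_nontrivial A M
  obtain ⟨e, he⟩ := WithBot.ne_bot_iff_exists.mp hne
  have he_le : e ≤ (D : ℕ∞) := by
    rw [← he] at hle
    exact_mod_cast hle
  have hetop : e ≠ ⊤ := ne_top_of_le_ne_top (ENat.coe_ne_top D) he_le
  lift e to ℕ using hetop with d
  have hdim : Module.supportDim A M = ((d : ℕ) : WithBot ℕ∞) := he.symm
  have hPval : ∀ n, n₀ ≤ n →
      P.eval (n : ℚ) = ((chiE I M n).toNat : ℚ) := fun n hn => (hP n hn).symm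
  refine ⟨P, ⟨n₀, fun n hn => ⟨(chiE I M n).toNat, ?_, hP n hn⟩⟩, ?_⟩
  · exact (ENat.coe_toNat (hfin n)).symm
  rw [hdim]
  have hdeg : P.natDegree = d := by
    apply le_antisymm
    · -- upper bound
      obtain ⟨C₀, hC₀⟩ := chiE_le_of_dim hI M d hdim.le
      refine Groth.Agent.HilbDim9.natDegree_le_of_growth P d ((C₀ : ℚ) * 2 ^ d) (max n₀ 1)
        (fun m hm => ?_) (fun m hm => ?_)
      · rw [hPval m (le_trans (le_max_left _ _) hm)]
        positivity
      · rw [hPval m (le_trans (le_max_left _ _) hm)]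
        have hm1 : 1 ≤ m := le_trans (le_max_right _ _) hm
        have h1 : (chiE I M m).toNat ≤ C₀ * (m + 1) ^ d := ENat.toNat_le_of_le_coe (hC₀ m)
        have h2 : ((chiE I M m).toNat : ℚ) ≤ (C₀ : ℚ) * ((m : ℚ) + 1) ^ d := by exact_mod_cast h1
        refine h2.trans ?_
        have h3 : ((m : ℚ) + 1) ^ d ≤ (2 * (m : ℚ)) ^ d := by
          apply pow_le_pow_left₀ (by positivity)
          have : (1 : ℚ) ≤ (m : ℚ) := by exact_mod_cast hm1
          linarith
        rw [mul_pow] at h3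
        calc (C₀ : ℚ) * ((m : ℚ) + 1) ^ d ≤ (C₀ : ℚ) * (2 ^ d * (m : ℚ) ^ d) :=
              mul_le_mul_of_nonneg_left h3 (by positivity)
          _ = (C₀ : ℚ) * 2 ^ d * (m : ℚ) ^ d := by ring
    · -- lower bound
      obtain ⟨a, ha, hLB⟩ := LB_of_supportDim hI.1 M d hdim.ge
      rw [← natDegree_comp_affine P a ha]
      refine Groth.Agent.HilbDim9.le_natDegree_of_growth _ d (1 / (2 ^ d * (d.factorial : ℚ)))
        (by positivity) (max n₀ (2 * d)) (fun m hm => ?_)
      have hm0 : n₀ ≤ a * (m + 1) := by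
        have : n₀ ≤ m := le_trans (le_max_left _ _) hm
        nlinarith
      have hm2 : 2 * d ≤ m := le_trans (le_max_right _ _) hm
      rw [eval_comp, eval_mul, eval_C, eval_add, eval_X, eval_one]
      have e1 : (a : ℚ) * ((m : ℚ) + 1) = ((a * (m + 1) : ℕ) : ℚ) := by push_cast; ring
      rw [e1, hPval _ hm0]
      refine (choose_growth d m hm2).trans ?_
      have h1 : m.choose d ≤ (chiE I M (a * (m + 1))).toNat := by
        have h0 : ((m.choose d : ℕ) : ℕ∞) ≤ chiE I M (a * (m + 1)) := hLB m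
        have h00 : chiE I M (a * (m + 1)) ≠ ⊤ := hfin (a * (m + 1))
        rw [← ENat.coe_toNat h00] at h0
        exact_mod_cast h0
      exact_mod_cast h1
  rw [hdeg]

end Groth.Agent.HS9
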