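import Mathlib

/-!
# Baer difference of two extensions in an abelian category (helper9)

Two short exact sequences `0 → A → E → C → 0`, `0 → A → E' → C → 0` give a short exact sequence
`0 → A ⊞ A → P → C → 0` (`P` the fibre product of `E` and `E'` over `C`) and the Baer difference
`0 → A → Q → C → 0`; a section of `Q → C` gives an isomorphism `E ≅ E'`.
APPEND-ONLY once landed.
-/

set_option autoImplicit false
open CategoryTheory CategoryTheory.Limits

namespace Baer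

/-- two short exact sequences with the same ends -/
structure Data (𝒜 : Type*) [Category 𝒜] [Abelian 𝒜] where
  A : 𝒜
  C : 𝒜
  E : 𝒜
  E' : 𝒜
  i : A ⟶ E
  π : E ⟶ C
  i' : A ⟶ E'
  π' : E' ⟶ C
  w : i ≫ π = 0
  w' : i' ≫ π' = 0
  hS : (ShortComplex.mk i π w).ShortExact
  hS' : (ShortComplex.mk i' π' w').ShortExact

namespace Data

variable {𝒜 : Type*} [Category 𝒜] [Abelian 𝒜] (D : Data 𝒜)

/-- the first sequence -/
abbrev S : ShortComplex 𝒜 := ShortComplex.mk D.i D.π D.w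
/-- the second sequence -/
abbrev S' : ShortComplex 𝒜 := ShortComplex.mk D.i' D.π' D.w'

instance : Mono D.i := D.hS.mono_f
instance : Epi D.π := D.hS.epi_g
instance : Mono D.i' := D.hS'.mono_f
instance : Epi D.π' := D.hS'.epi_g

/-- the fibre product -/
noncomputable def P : 𝒜 := pullback D.π D.π'
/-- first projection -/
noncomputable def p₁ : D.P ⟶ D.E := pullback.fst D.π D.π'
/-- second projection -/
noncomputable def p₂ : D.P ⟶ D.E' := pullback.snd D.π D.π'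

theorem p_cond : D.p₁ ≫ D.π = D.p₂ ≫ D.π' := pullback.condition

theorem P_hom_ext {T : 𝒜} {a b : T ⟶ D.P} (h₁ : a ≫ D.p₁ = b ≫ D.p₁)
    (h₂ : a ≫ D.p₂ = b ≫ D.p₂) : a = b := pullback.hom_ext h₁ h₂

/-- maps into the fibre product -/
noncomputable def Plift {T : 𝒜} (a : T ⟶ D.E) (b : T ⟶ D.E') (h : a ≫ D.π = b ≫ D.π') :
    T ⟶ D.P := pullback.lift a b h

@[reassoc (attr := simp)]
theorem Plift_p₁ {T : 𝒜} (a : T ⟶ D.E) (b : T ⟶ D.E') (h : a ≫ D.π = b ≫ D.π') :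
    D.Plift a b h ≫ D.p₁ = a := pullback.lift_fst _ _ _

@[reassoc (attr := simp)]
theorem Plift_p₂ {T : 𝒜} (a : T ⟶ D.E) (b : T ⟶ D.E') (h : a ≫ D.π = b ≫ D.π') :
    D.Plift a b h ≫ D.p₂ = b := pullback.lift_snd _ _ _

/-- the projection to `C` -/
noncomputable def q : D.P ⟶ D.C := D.p₁ ≫ D.π

theorem q_eq' : D.q = D.p₂ ≫ D.π' := D.p_cond

/-- the inclusion of `A ⊞ A` -/
noncomputable def j : D.A ⊞ D.A ⟶ D.P :=
  D.Plift (biprod.fst ≫ D.i) (biprod.snd ≫ D.i') (by simp [D.w, D.w'])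

@[reassoc (attr := simp)]
theorem j_p₁ : D.j ≫ D.p₁ = biprod.fst ≫ D.i := D.Plift_p₁ _ _ _

@[reassoc (attr := simp)]
theorem j_p₂ : D.j ≫ D.p₂ = biprod.snd ≫ D.i' := D.Plift_p₂ _ _ _

@[reassoc (attr := simp)]
theorem j_q : D.j ≫ D.q = 0 := by
  rw [q, ← Category.assoc, j_p₁, Category.assoc, D.w, comp_zero]

instance : Mono D.j := ⟨fun a b h => by
  apply biprod.hom_ext
  · rw [← cancel_mono D.i, Category.assoc, Category.assoc, ← j_p₁, ← Category.assoc,
      ← Category.assoc, h]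
  · rw [← cancel_mono D.i', Category.assoc, Category.assoc, ← j_p₂, ← Category.assoc,
      ← Category.assoc, h]⟩

instance : Epi D.p₁ := Abelian.epi_pullback_of_epi_g D.π D.π'

instance : Epi D.p₂ := Abelian.epi_pullback_of_epi_f D.π D.π'

instance : Epi D.q := by
  unfold q
  exact epi_comp _ _

/-- the sequence `0 → A ⊞ A → P → C → 0` -/
noncomputable def SP : ShortComplex 𝒜 := ShortComplex.mk D.j D.q D.j_q

theorem SP_shortExact : D.SP.ShortExact := by
  refine ShortComplex.ShortExact.mk' ?_ (inferInstanceAs (Mono D.j)) (inferInstanceAs (Epi D.q))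
  apply ShortComplex.exact_of_f_is_kernel
  refine KernelFork.IsLimit.ofι' D.j D.j_q (fun {T} x hx => ?_)
  have h1 : (x ≫ D.p₁) ≫ D.π = 0 := by rw [Category.assoc]; exact hx
  have h2 : (x ≫ D.p₂) ≫ D.π' = 0 := by rw [Category.assoc, ← D.q_eq']; exact hx
  refine ⟨biprod.lift (D.hS.exact.lift (x ≫ D.p₁) h1) (D.hS'.exact.lift (x ≫ D.p₂) h2), ?_⟩
  apply D.P_hom_ext
  · rw [Category.assoc, j_p₁, biprod.lift_fst_assoc]
    exact D.hS.exact.lift_f _ h1
  · rw [Category.assoc, j_p₂, biprod.lift_snd_assoc]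
    exact D.hS'.exact.lift_f _ h2

/-- the diagonal copy of `A` in `P` -/
noncomputable def g₀ : D.A ⟶ D.P := D.Plift D.i D.i' (by rw [D.w, D.w'])

@[reassoc (attr := simp)]
theorem g₀_p₁ : D.g₀ ≫ D.p₁ = D.i := D.Plift_p₁ _ _ _

@[reassoc (attr := simp)]
theorem g₀_p₂ : D.g₀ ≫ D.p₂ = D.i' := D.Plift_p₂ _ _ _

theorem g₀_eq : D.g₀ = biprod.lift (𝟙 _) (𝟙 _) ≫ D.j := by
  apply D.P_hom_ext
  · rw [g₀_p₁, Category.assoc, j_p₁, biprod.lift_fst_assoc, Category.id_comp]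
  · rw [g₀_p₂, Category.assoc, j_p₂, biprod.lift_snd_assoc, Category.id_comp]

@[reassoc (attr := simp)]
theorem g₀_q : D.g₀ ≫ D.q = 0 := by
  rw [g₀_eq, Category.assoc, j_q, comp_zero]

instance : Mono D.g₀ := by
  have : Mono (D.g₀ ≫ D.p₁) := by rw [g₀_p₁]; infer_instance
  exact mono_of_mono D.g₀ D.p₁

/-- the middle term of the Baer difference -/
noncomputable def Q : 𝒜 := cokernel D.g₀
/-- the projection `P → Q` -/
noncomputable def proj : D.P ⟶ D.Q := cokernel.π D.g₀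

instance : Epi D.proj := inferInstanceAs (Epi (cokernel.π D.g₀))

@[reassoc (attr := simp)]
theorem g₀_proj : D.g₀ ≫ D.proj = 0 := cokernel.condition _

/-- the projection `Q → C` -/
noncomputable def qQ : D.Q ⟶ D.C := cokernel.desc D.g₀ D.q D.g₀_q

@[reassoc (attr := simp)]
theorem proj_qQ : D.proj ≫ D.qQ = D.q := cokernel.π_desc _ _ _

/-- the inclusion `A → Q` -/
noncomputable def iQ : D.A ⟶ D.Q := biprod.inl ≫ D.j ≫ D.proj

theorem inr_j_proj : biprod.inr ≫ D.j ≫ D.proj = - D.iQ := by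
  have h : (biprod.lift (𝟙 D.A) (𝟙 D.A) : D.A ⟶ D.A ⊞ D.A) = biprod.inl + biprod.inr := by
    apply biprod.hom_ext <;> simp
  have h0 : (biprod.inl + biprod.inr : D.A ⟶ D.A ⊞ D.A) ≫ D.j ≫ D.proj = 0 := by
    rw [← h, ← Category.assoc, ← g₀_eq, g₀_proj]
  rw [Preadditive.add_comp] at h0
  rw [iQ]
  exact eq_neg_of_add_eq_zero_right h0

theorem iQ_qQ : D.iQ ≫ D.qQ = 0 := by
  rw [iQ, Category.assoc, Category.assoc, proj_qQ, j_q, comp_zero]

/-- the Baer difference `0 → A → Q → C → 0` -/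
noncomputable def SQ : ShortComplex 𝒜 := ShortComplex.mk D.iQ D.qQ D.iQ_qQ

theorem j_proj : D.j ≫ D.proj = (biprod.fst - biprod.snd) ≫ D.iQ := by
  apply biprod.hom_ext'
  · rw [Preadditive.sub_comp, Preadditive.comp_sub, biprod.inl_fst_assoc, biprod.inl_snd_assoc,
      zero_comp, sub_zero]
    rfl
  · rw [Preadditive.sub_comp, Preadditive.comp_sub, biprod.inr_fst_assoc, biprod.inr_snd_assoc,
      zero_comp, zero_sub, inr_j_proj]

instance : Epi D.qQ := by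
  have : Epi (D.proj ≫ D.qQ) := by rw [proj_qQ]; infer_instance
  exact epi_of_epi D.proj D.qQ

/-- `g₀` is a kernel of `proj` -/
noncomputable def g₀IsKernel : IsLimit (KernelFork.ofι D.g₀ D.g₀_proj) :=
  Abelian.monoIsKernelOfCokernel (Cofork.ofπ (cokernel.π D.g₀) (by simp))
    (cokernelIsCokernel D.g₀)

instance : Mono D.iQ := ⟨fun {T} a b h => by
  have h0 : (a - b) ≫ D.iQ = 0 := by rw [Preadditive.sub_comp, h, sub_self]
  have h1 : ((a - b) ≫ biprod.inl ≫ D.j) ≫ D.proj = 0 := by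
    rw [Category.assoc, Category.assoc]; exact h0
  obtain ⟨y, hy'⟩ : ∃ y : T ⟶ D.A, y ≫ D.g₀ = (a - b) ≫ biprod.inl ≫ D.j :=
    ⟨(KernelFork.IsLimit.lift' D.g₀IsKernel _ h1).1, (KernelFork.IsLimit.lift' D.g₀IsKernel _ h1).2⟩
  rw [g₀_eq, ← Category.assoc, ← Category.assoc (a - b), cancel_mono] at hy'
  have h2 := congrArg (· ≫ (biprod.snd : D.A ⊞ D.A ⟶ D.A)) hy'
  simp only [Category.assoc, biprod.lift_snd, Category.comp_id, biprod.inl_snd, comp_zero] at h2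
  have h3 := congrArg (· ≫ (biprod.fst : D.A ⊞ D.A ⟶ D.A)) hy'
  simp only [Category.assoc, biprod.lift_fst, Category.comp_id, biprod.inl_fst] at h3
  rw [h2] at h3
  exact sub_eq_zero.1 h3.symm⟩

theorem SQ_shortExact : D.SQ.ShortExact := by
  refine ShortComplex.ShortExact.mk' ?_ (inferInstanceAs (Mono D.iQ)) (inferInstanceAs (Epi D.qQ))
  apply ShortComplex.exact_of_g_is_cokernel
  refine CokernelCofork.IsColimit.ofπ' D.qQ D.iQ_qQ (fun {T} z hz => ?_)
  have h1 : D.j ≫ D.proj ≫ z = 0 := by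
    rw [← Category.assoc, j_proj, Category.assoc, hz, comp_zero]
  haveI : Epi D.SP.g := D.SP_shortExact.epi_g
  refine ⟨D.SP_shortExact.exact.desc (D.proj ≫ z) h1, ?_⟩
  rw [← cancel_epi D.proj, ← Category.assoc, proj_qQ]
  exact D.SP_shortExact.exact.g_desc _ h1

/-- the morphism of sequences `SP → S` -/
noncomputable def φ₁ : D.SP ⟶ D.S where
  τ₁ := biprod.fst
  τ₂ := D.p₁
  τ₃ := 𝟙 _
  comm₁₂ := D.j_p₁.symm
  comm₂₃ := by
    change D.p₁ ≫ D.π = D.q ≫ 𝟙 _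
    rw [Category.comp_id, q]

/-- the morphism of sequences `SP → S'` -/
noncomputable def φ₂ : D.SP ⟶ D.S' where
  τ₁ := biprod.snd
  τ₂ := D.p₂
  τ₃ := 𝟙 _
  comm₁₂ := D.j_p₂.symm
  comm₂₃ := by
    change D.p₂ ≫ D.π' = D.q ≫ 𝟙 _
    rw [Category.comp_id, q_eq']

/-- the morphism of sequences `SP → SQ` -/
noncomputable def φ₃ : D.SP ⟶ D.SQ where
  τ₁ := biprod.fst - biprod.snd
  τ₂ := D.proj
  τ₃ := 𝟙 _
  comm₁₂ := D.j_proj.symm
  comm₂₃ := by
    change D.proj ≫ D.qQ = D.q ≫ 𝟙 _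
    rw [Category.comp_id, proj_qQ]

section Split

variable (s : D.C ⟶ D.Q) (hs : s ≫ D.qQ = 𝟙 _)

/-- the graph -/
noncomputable def P' : 𝒜 := pullback D.proj s
/-- its inclusion in `P` -/
noncomputable def u : D.P' s ⟶ D.P := pullback.fst D.proj s
/-- its projection to `C` -/
noncomputable def b : D.P' s ⟶ D.C := pullback.snd D.proj s

theorem u_proj : D.u s ≫ D.proj = D.b s ≫ s := pullback.condition

instance : Epi (D.b s) := Abelian.epi_pullback_of_epi_f D.proj s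

/-- the inclusion of `A` in the graph -/
noncomputable def a : D.A ⟶ D.P' s := pullback.lift D.g₀ 0 (by rw [g₀_proj, zero_comp])

@[reassoc (attr := simp)]
theorem a_u : D.a s ≫ D.u s = D.g₀ := pullback.lift_fst _ _ _

@[reassoc (attr := simp)]
theorem a_b : D.a s ≫ D.b s = 0 := pullback.lift_snd _ _ _

instance : Mono (D.a s) := by
  have : Mono (D.a s ≫ D.u s) := by rw [a_u]; infer_instance
  exact mono_of_mono (D.a s) (D.u s)

/-- the sequence `0 → A → P' → C → 0` -/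
noncomputable def SP' : ShortComplex 𝒜 := ShortComplex.mk (D.a s) (D.b s) (D.a_b s)

theorem SP'_shortExact : (D.SP' s).ShortExact := by
  refine ShortComplex.ShortExact.mk' ?_ (inferInstanceAs (Mono (D.a s)))
    (inferInstanceAs (Epi (D.b s)))
  apply ShortComplex.exact_of_f_is_kernel
  refine KernelFork.IsLimit.ofι' (D.a s) (D.a_b s) (fun {T} x hx => ?_)
  have h1 : (x ≫ D.u s) ≫ D.proj = 0 := by
    rw [Category.assoc, u_proj, ← Category.assoc, hx, zero_comp]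
  let y : T ⟶ D.A := (KernelFork.IsLimit.lift' D.g₀IsKernel _ h1).1
  have hy' : y ≫ D.g₀ = x ≫ D.u s := (KernelFork.IsLimit.lift' D.g₀IsKernel _ h1).2
  refine ⟨y, ?_⟩
  apply pullback.hom_ext
  · change (y ≫ D.a s) ≫ D.u s = x ≫ D.u s
    rw [Category.assoc, a_u, hy']
  · change (y ≫ D.a s) ≫ D.b s = x ≫ D.b s
    rw [Category.assoc, a_b, comp_zero, hx]

include hs in
theorem u_q : D.u s ≫ D.q = D.b s := by
  rw [← proj_qQ, ← Category.assoc, u_proj, Category.assoc, hs, Category.comp_id]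

/-- the morphism `SP' → S` -/
noncomputable def ψ₁ : D.SP' s ⟶ D.S where
  τ₁ := 𝟙 _
  τ₂ := D.u s ≫ D.p₁
  τ₃ := 𝟙 _
  comm₁₂ := by
    change 𝟙 _ ≫ D.i = D.a s ≫ D.u s ≫ D.p₁
    rw [a_u_assoc, g₀_p₁, Category.id_comp]
  comm₂₃ := by
    change (D.u s ≫ D.p₁) ≫ D.π = D.b s ≫ 𝟙 _
    rw [Category.comp_id, Category.assoc, ← D.u_q s hs, q]

/-- the morphism `SP' → S'` -/
noncomputable def ψ₂ : D.SP' s ⟶ D.S' where
  τ₁ := 𝟙 _
  τ₂ := D.u s ≫ D.p₂
  τ₃ := 𝟙 _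
  comm₁₂ := by
    change 𝟙 _ ≫ D.i' = D.a s ≫ D.u s ≫ D.p₂
    rw [a_u_assoc, g₀_p₂, Category.id_comp]
  comm₂₃ := by
    change (D.u s ≫ D.p₂) ≫ D.π' = D.b s ≫ 𝟙 _
    rw [Category.comp_id, Category.assoc, ← D.u_q s hs, q_eq']

include hs in
/-- a section of the Baer difference gives an isomorphism of the middle terms -/
theorem nonempty_iso_of_section : Nonempty (D.E ≅ D.E') := by
  haveI : IsIso (D.ψ₁ s hs).τ₁ := by change IsIso (𝟙 _); infer_instance
  haveI : IsIso (D.ψ₁ s hs).τ₃ := by change IsIso (𝟙 _); infer_instance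
  haveI : IsIso (D.ψ₂ s hs).τ₁ := by change IsIso (𝟙 _); infer_instance
  haveI : IsIso (D.ψ₂ s hs).τ₃ := by change IsIso (𝟙 _); infer_instance
  haveI h1 : IsIso (D.ψ₁ s hs).τ₂ :=
    ShortComplex.isIso₂_of_shortExact_of_isIso₁₃ (D.ψ₁ s hs) (D.SP'_shortExact s) D.hS
  haveI h2 : IsIso (D.ψ₂ s hs).τ₂ :=
    ShortComplex.isIso₂_of_shortExact_of_isIso₁₃ (D.ψ₂ s hs) (D.SP'_shortExact s) D.hS'
  exact ⟨(asIso (D.ψ₁ s hs).τ₂).symm ≪≫ asIso (D.ψ₂ s hs).τ₂⟩

end Split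

end Data

end Baer
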