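import Mathlib
import Groth.Prelude
import Groth.Agent.Lib.P1Iso8_helper9
import Groth.Agent.Lib.CurvePt2_helper9
import Groth.Agent.Lib.TensBasis6_helper9

/-!
# Sections of an invertible module avoiding finitely many points, over an infinite field (helper9)
APPEND-ONLY once landed.
-/

set_option autoImplicit false
universe u
open CategoryTheory CategoryTheory.Limits AlgebraicGeometry Opposite TopologicalSpace

namespace G0Pic

open QcqsLoc QCohExtn GenLocH8 TensH8 FLFH8 CurvePt EllPic P1Iso

section Avoid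

variable (k : Type u) [Field k] {X : Scheme.{u}} [X.Over (Spec (CommRingCat.of k))]

/-- the sections of an invertible module which do not generate it at `y` form a `k`-subspace -/
noncomputable def notGenSub {L : X.Modules} (hL : PicF.IsInvertible L) (y : X) :
    Submodule k (Coh.structureModule X ⟶ L) where
  carrier := {σ | ¬ CurveLin.GenAt L σ y}
  zero_mem' := by
    obtain ⟨W, hW, hyW, e, he⟩ := exists_isGen hL y
    have h1 : ap (0 : Coh.structureModule X ⟶ L) W (toM (1 : Γ(X, W))) = (0 : Γ(X, W)) • e := by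
      rw [zero_smul]
      rfl
    show ¬ CurveLin.GenAt L 0 y
    rw [genAt_iff_mem_basicOpen _ he h1 hyW, X.mem_basicOpen _ y hyW, map_zero]
    exact not_isUnit_zero
  add_mem' := by
    intro σ τ hσ hτ
    obtain ⟨W, hW, hyW, e, he⟩ := exists_isGen hL y
    obtain ⟨g, hg⟩ := he.exists_coef (ap σ W (toM (1 : Γ(X, W))))
    obtain ⟨g', hg'⟩ := he.exists_coef (ap τ W (toM (1 : Γ(X, W))))
    have h1 : ap (σ + τ) W (toM (1 : Γ(X, W))) = (g + g') • e := by
      have h2 : ap (σ + τ) W (toM (1 : Γ(X, W))) =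
          ap σ W (toM (1 : Γ(X, W))) + ap τ W (toM (1 : Γ(X, W))) := rfl
      rw [h2, hg, hg', add_smul]
    have hσ' : ¬ CurveLin.GenAt L σ y := hσ
    have hτ' : ¬ CurveLin.GenAt L τ y := hτ
    rw [genAt_iff_mem_basicOpen _ he hg hyW, X.mem_basicOpen _ y hyW] at hσ'
    rw [genAt_iff_mem_basicOpen _ he hg' hyW, X.mem_basicOpen _ y hyW] at hτ'
    show ¬ CurveLin.GenAt L (σ + τ) y
    rw [genAt_iff_mem_basicOpen _ he h1 hyW, X.mem_basicOpen _ y hyW, map_add]
    exact IsLocalRing.nonunits_add hσ' hτ'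
  smul_mem' := by
    intro c σ hσ
    obtain ⟨W, hW, hyW, e, he⟩ := exists_isGen hL y
    obtain ⟨g, hg⟩ := he.exists_coef (ap σ W (toM (1 : Γ(X, W))))
    have h1 : ap (c • σ) W (toM (1 : Γ(X, W))) = (VBCurve.strHom k X W c * g) • e := by
      have h3 : ap (c • σ) W (toM (1 : Γ(X, W))) =
          VBCurve.strHom k X W c • ap σ W (toM (1 : Γ(X, W))) :=
        KLin.smul_app_apply c σ W _
      rw [h3, hg, mul_smul]
    have hσ' : ¬ CurveLin.GenAt L σ y := hσ
    rw [genAt_iff_mem_basicOpen _ he hg hyW, X.mem_basicOpen _ y hyW] at hσ'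
    show ¬ CurveLin.GenAt L (c • σ) y
    rw [genAt_iff_mem_basicOpen _ he h1 hyW, X.mem_basicOpen _ y hyW, map_mul]
    intro hu
    exact hσ' (isUnit_of_mul_isUnit_right hu)

theorem mem_notGenSub {L : X.Modules} (hL : PicF.IsInvertible L) (y : X)
    (σ : Coh.structureModule X ⟶ L) : σ ∈ notGenSub k hL y ↔ ¬ CurveLin.GenAt L σ y := Iff.rfl

/-- **over an infinite field, a globally generated invertible module has a nonzero section
generating it at finitely many prescribed points** -/
theorem exists_section_genAt_finset [Infinite k] {L : X.Modules} (hL : PicF.IsInvertible L)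
    (hne : ∃ σ : Coh.structureModule X ⟶ L, σ ≠ 0)
    (T : Finset X) (hgg : ∀ y ∈ T, ∃ σ : Coh.structureModule X ⟶ L, CurveLin.GenAt L σ y) :
    ∃ σ : Coh.structureModule X ⟶ L, σ ≠ 0 ∧ ∀ y ∈ T, CurveLin.GenAt L σ y := by
  classical
  let s : Finset (Subspace k (Coh.structureModule X ⟶ L)) :=
    insert ⊥ (T.image (fun y => notGenSub k hL y))
  have hs : ⊤ ∉ s := by
    intro h
    rcases Finset.mem_insert.mp h with h | h
    · obtain ⟨σ, hσ⟩ := hne
      have : σ ∈ (⊥ : Subspace k (Coh.structureModule X ⟶ L)) := by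
        rw [← h]
        exact Submodule.mem_top
      exact hσ ((Submodule.mem_bot k).mp this)
    · obtain ⟨y, hy, hyt⟩ := Finset.mem_image.mp h
      obtain ⟨σ, hσ⟩ := hgg y hy
      have : σ ∈ notGenSub k hL y := by
        rw [hyt]
        exact Submodule.mem_top
      exact this hσ
  have h1 := Subspace.biUnion_ne_univ_of_top_notMem hs
  obtain ⟨σ, hσ⟩ : ∃ σ : Coh.structureModule X ⟶ L, σ ∉ ⋃ p ∈ s, (p : Set _) := by
    by_contra hno
    push_neg at hno
    exact h1 (Set.eq_univ_of_forall hno)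
  simp only [Set.mem_iUnion, not_exists] at hσ
  refine ⟨σ, ?_, ?_⟩
  · intro h0
    apply hσ ⊥ (Finset.mem_insert_self _ _)
    rw [h0]
    exact Submodule.zero_mem _
  · intro y hy
    by_contra hng
    exact hσ (notGenSub k hL y)
      (Finset.mem_insert_of_mem (Finset.mem_image_of_mem _ hy)) hng

end Avoid

end G0Pic
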