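import Mathlib
import Groth.Prelude
import Groth.Agent.Lib.G0Pic1_helper9
import Groth.Agent.Lib.BirCurve1_helper9
import Groth.Agent.Lib.CurveGG3_helper9

/-!
# Regular closed points of least degree on a genus zero curve over an infinite field (helper9)
APPEND-ONLY once landed.
-/

set_option autoImplicit false
universe u
open CategoryTheory CategoryTheory.Limits AlgebraicGeometry Opposite TopologicalSpace

namespace G0Pic

open QcqsLoc QCohExtn GenLocH8 TensH8 FLFH8 CurvePt EllPic P1Iso

section Sing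

variable (k : Type u) [Field k] (X : Scheme.{u}) [X.Over (Spec (CommRingCat.of k))]
  [IsIntegral X] [IsProper (X ↘ Spec (CommRingCat.of k))]

include k in
/-- an integral proper curve has finitely many non-regular closed points -/
theorem finite_nonregular (hdim : topologicalKrullDim X = 1) :
    {y : X | IsClosed ({y} : Set X) ∧ ¬ IsRegularLocalRing (X.presheaf.stalk y)}.Finite := by
  haveI : IsLocallyNoetherian X :=
    LocallyOfFiniteType.isLocallyNoetherian (X ↘ Spec (CommRingCat.of k))
  haveI : CompactSpace X :=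
    QuasiCompact.compactSpace_of_compactSpace (X ↘ Spec (CommRingCat.of k))
  obtain ⟨_, ⟨U, hU : IsAffineOpen U, rfl⟩, hξU, -⟩ :=
    (X.isBasis_affineOpens).exists_subset_of_mem_open (Set.mem_univ (genericPoint X)) isOpen_univ
  have hne : Nonempty ((U : X.Opens) : Scheme.{u}) := ⟨⟨genericPoint X, hξU⟩⟩
  obtain ⟨V, hVne, hV⟩ := Groth.Agent.Lib.NormFieldFTH4.exists_open_normal X U hU hne
    (Groth.Agent.Lib.NormFieldFTH4.isN2_sections k X U hU hne)
  have hVd : Dense (V : Set X) := V.isOpen.dense hVne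
  have hfin : ((V : Set X)ᶜ).Finite :=
    TensBasis.finite_of_closed_points _ V.isOpen.isClosed_compl
      (fun y hy => BirCurve.isClosed_singleton_of_notMem_dense hdim.le V hVd y hy)
  refine hfin.subset ?_
  rintro y ⟨hyc, hyr⟩ hyV
  apply hyr
  haveI := hV y hyV
  exact isRegularLocalRing_of_isIntegrallyClosed _
    (CurvePtInv.ringKrullDim_stalk_of_closed hdim hyc)

/-- a nonzero section of an invertible module of positive degree vanishes at some closed point -/
theorem exists_closed_not_genAt (hdim : topologicalKrullDim X = 1) {L : X.Modules}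
    (hL : PicF.IsInvertible L) (σ : Coh.structureModule X ⟶ L) (hσ : σ ≠ 0)
    (hdeg : 0 < Curv2.deg k X L 1) :
    ∃ p : X, IsClosed ({p} : Set X) ∧ ¬ CurveLin.GenAt L σ p := by
  haveI : IsLocallyNoetherian X :=
    LocallyOfFiniteType.isLocallyNoetherian (X ↘ Spec (CommRingCat.of k))
  haveI : CompactSpace X :=
    QuasiCompact.compactSpace_of_compactSpace (X ↘ Spec (CommRingCat.of k))
  haveI : IsNoetherian X := {}
  have hOinv := TensH8.isInvertible_structureModule (X := X)
  have hOc := CohDevH8.isCoh_structureModule X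
  have hLc := ProperFinH9.isCoh_of_isInvertible hL
  have hQc : Coh.IsCoh (cokernel σ) := CohKerH8.isCoh_cokernel hOc hLc σ
  have e := CurveDeg.euler_eq_add k X hdim.le hOinv hL σ hσ
  have hpos : 0 < Module.finrank k (Coh.HH X (cokernel σ) 0) := by
    unfold Curv2.deg at hdeg
    have : (0 : ℤ) < (Module.finrank k (Coh.HH X (cokernel σ) 0) : ℤ) := by
      push_cast at hdeg
      linarith
    exact_mod_cast this
  have hcl := CurveDeg.isClosed_singleton_of_mem_support_cokernel hOinv hL σ hσ hdim.le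
  have hne : ∃ x, x ∈ CohB1.support (cokernel σ) := by
    by_contra hempty
    push_neg at hempty
    haveI : Subsingleton (Coh.HH X (cokernel σ) 0) := by
      refine ⟨fun a b => (CurveTens.e₀ (cokernel σ)).injective ?_⟩
      rw [CycLenH8.eq_zero_of_disjoint_support (cokernel σ) (fun y _ => hempty y)
          (CurveTens.e₀ (cokernel σ) a),
        CycLenH8.eq_zero_of_disjoint_support (cokernel σ) (fun y _ => hempty y)
          (CurveTens.e₀ (cokernel σ) b)]
    rw [Module.finrank_zero_of_subsingleton] at hpos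
    exact lt_irrefl 0 hpos
  obtain ⟨x, hx⟩ := hne
  refine ⟨x, hcl x hx, fun hgen => ?_⟩
  obtain ⟨V, hxV, hV⟩ := hgen
  obtain ⟨_, ⟨U, hU, rfl⟩, hxU, hUV⟩ :=
    X.isBasis_affineOpens.exists_subset_of_mem_open hxV V.isOpen
  have hUV' : U ≤ V := hUV
  have hsurj : Function.Surjective (ap σ U) := by
    intro l
    obtain ⟨c, hc⟩ := (hV U hUV').1 l
    refine ⟨toM c, ?_⟩
    have h2 : c • toM (1 : Γ(X, U)) = toM c := mul_one c
    rw [hc, CurveLin.ap_one_res σ hUV', ← ap_smul, h2]
  exact CohDevH8.support_cokernel_subset_compl hOc hLc σ hU hsurj hx hxU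

end Sing

section MinDeg

variable (k : Type u) [Field k] (X : Scheme.{u}) [X.Over (Spec (CommRingCat.of k))]
  [IsIntegral X] [IsProper (X ↘ Spec (CommRingCat.of k))]

/-- the degree of a regular closed point is the degree of an invertible module -/
theorem ptDeg_mem_degSubgroup (hdim : topologicalKrullDim X = 1) (Q : X)
    (hQ : IsClosed ({Q} : Set X)) (hreg : IsRegularLocalRing (X.presheaf.stalk Q)) :
    ((ptDeg k X Q hQ : ℕ) : ℤ) ∈ degSubgroup k X hdim := by
  haveI : IsLocallyNoetherian X :=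
    LocallyOfFiniteType.isLocallyNoetherian (X ↘ Spec (CommRingCat.of k))
  have hinv := CurvePtInv.isInvertible_idealMod_point hdim hQ hreg
  have hdeg := deg_idealMod_point k X Q hQ
  have h1 : -((ptDeg k X Q hQ : ℕ) : ℤ) ∈ degSubgroup k X hdim := ⟨_, hinv, hdeg⟩
  have h2 := (degSubgroup k X hdim).neg_mem h1
  rwa [neg_neg] at h2

/-- the least positive degree of an invertible module divides all degrees -/
theorem exists_min_deg (hdim : topologicalKrullDim X = 1) :
    ∃ e : ℕ, 0 < e ∧ (e : ℤ) ∈ degSubgroup k X hdim ∧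
      ∀ n ∈ degSubgroup k X hdim, (e : ℤ) ∣ n := by
  classical
  haveI : IsLocallyNoetherian X :=
    LocallyOfFiniteType.isLocallyNoetherian (X ↘ Spec (CommRingCat.of k))
  obtain ⟨x, hx, hn⟩ := exists_closed_normal_point k X
  haveI := hn
  have hreg : IsRegularLocalRing (X.presheaf.stalk x) :=
    isRegularLocalRing_of_isIntegrallyClosed _ (CurvePtInv.ringKrullDim_stalk_of_closed hdim hx)
  have hS : ∃ n : ℕ, 0 < n ∧ (n : ℤ) ∈ degSubgroup k X hdim :=
    ⟨ptDeg k X x hx, one_le_ptDeg k X x hx, ptDeg_mem_degSubgroup k X hdim x hx hreg⟩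
  refine ⟨Nat.find hS, (Nat.find_spec hS).1, (Nat.find_spec hS).2, ?_⟩
  intro n hn
  set e := Nat.find hS with he
  have he0 : (0 : ℤ) < e := by exact_mod_cast (Nat.find_spec hS).1
  have hmod : n % (e : ℤ) ∈ degSubgroup k X hdim := by
    have h1 : n % (e : ℤ) = n - (n / (e : ℤ)) • (e : ℤ) := by
      rw [smul_eq_mul, Int.emod_def, mul_comm]
    rw [h1]
    exact (degSubgroup k X hdim).sub_mem hn
      ((degSubgroup k X hdim).zsmul_mem (Nat.find_spec hS).2 _)
  have h0 : 0 ≤ n % (e : ℤ) := Int.emod_nonneg n he0.ne'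
  have hlt : n % (e : ℤ) < e := Int.emod_lt_of_pos n he0
  apply Int.dvd_of_emod_eq_zero
  by_contra hne
  have hpos : 0 < n % (e : ℤ) := lt_of_le_of_ne h0 (Ne.symm hne)
  have hmem : 0 < (n % (e : ℤ)).toNat ∧ (((n % (e : ℤ)).toNat : ℕ) : ℤ) ∈ degSubgroup k X hdim := by
    constructor
    · omega
    · rw [Int.toNat_of_nonneg h0]
      exact hmod
  have := Nat.find_min' hS hmem
  omega

/-- **over an infinite field, a genus zero curve has a regular closed point of the least positive
degree of an invertible module, outside any given finite set** -/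
theorem exists_regular_point_of_deg [Infinite k] (hdim : topologicalKrullDim X = 1)
    (h1 : Subsingleton (Coh.HH X (Coh.structureModule X) 1))
    (e : ℕ) (he0 : 0 < e) (heD : (e : ℤ) ∈ degSubgroup k X hdim)
    (hmin : ∀ n ∈ degSubgroup k X hdim, (e : ℤ) ∣ n) (T : Finset X) :
    ∃ (Q : X) (hQ : IsClosed ({Q} : Set X)), IsRegularLocalRing (X.presheaf.stalk Q) ∧
      Q ∉ T ∧ ptDeg k X Q hQ = e := by
  classical
  haveI : IsLocallyNoetherian X :=
    LocallyOfFiniteType.isLocallyNoetherian (X ↘ Spec (CommRingCat.of k))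
  obtain ⟨M, hM, hdegM⟩ := heD
  have hg : Curv2.genus k X = 0 := by
    show Module.finrank k (Coh.HH X (Coh.structureModule X) 1) = 0
    exact Module.finrank_zero_of_subsingleton
  have hgg : ∀ y : X, ∃ σ : Coh.structureModule X ⟶ M, CurveLin.GenAt M σ y := fun y =>
    CurveGG.exists_section_genAt k X hdim.le hM (by rw [hg, hdegM]; positivity) y
  have hfin := finite_nonregular k X hdim
  have hne : ∃ σ : Coh.structureModule X ⟶ M, σ ≠ 0 := by
    obtain ⟨σ, hσ⟩ := hgg (genericPoint X)
    refine ⟨σ, fun h0 => ?_⟩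
    have : (0 : Coh.structureModule X ⟶ M) ∈ notGenSub k hM (genericPoint X) :=
      Submodule.zero_mem _
    rw [← h0] at this
    exact this hσ
  obtain ⟨σ, hσ0, hσ⟩ := exists_section_genAt_finset k hM hne (T ∪ hfin.toFinset)
    (fun y _ => hgg y)
  obtain ⟨Q, hQ, hQn⟩ := exists_closed_not_genAt k X hdim hM σ hσ0 (by rw [hdegM]; exact_mod_cast he0)
  have hQT : Q ∉ T ∪ hfin.toFinset := fun h => hQn (hσ Q h)
  have hQreg : IsRegularLocalRing (X.presheaf.stalk Q) := by
    by_contra hnr
    apply hQT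
    apply Finset.mem_union_right
    rw [Set.Finite.mem_toFinset]
    exact ⟨hQ, hnr⟩
  refine ⟨Q, hQ, hQreg, fun h => hQT (Finset.mem_union_left _ h), ?_⟩
  -- `deg Q ≤ e`
  set Z := Scheme.IdealSheafData.vanishingIdeal ⟨{Q}, hQ⟩ with hZ
  have hIinv : PicF.IsInvertible (ClSub.idealMod Z) :=
    CurvePtInv.isInvertible_idealMod_point hdim hQ hQreg
  have hF : PicF.IsInvertible (CohB1.tensorMod (ClSub.idealMod Z) M) :=
    isInvertible_tensorMod hIinv hM
  obtain ⟨τ, hτ⟩ := CurveGG.exists_lift_of_not_genAt hQ hM σ hQn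
  have hτ0 : τ ≠ 0 := by
    intro h
    apply hσ0
    rw [← hτ, h, zero_comp]
  have hle := (CurveDeg.deg_le_of_ne_zero k X hdim TensH8.isInvertible_structureModule hF τ hτ0).1
  rw [CurveDeg.deg_structureModule, CurveTens.deg_tensorMod k X hdim.le hIinv hM, hdegM, hZ,
    deg_idealMod_point] at hle
  have h2 := hmin _ (ptDeg_mem_degSubgroup k X hdim Q hQ hQreg)
  have h3 := one_le_ptDeg k X Q hQ
  have h4 : (e : ℤ) ≤ (ptDeg k X Q hQ : ℤ) := Int.le_of_dvd (by exact_mod_cast h3) h2
  have : (ptDeg k X Q hQ : ℤ) = e := by linarith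
  exact_mod_cast this

/-- **statement of S16302** -/
theorem infinite_min_points [Infinite k] (hdim : topologicalKrullDim X = 1)
    (h1 : Subsingleton (Coh.HH X (Coh.structureModule X) 1)) :
    {P : X | ∃ hPc : IsClosed ({P} : Set X), IsRegularLocalRing (X.presheaf.stalk P) ∧
      ∀ (Q : X) (hQc : IsClosed ({Q} : Set X)), IsRegularLocalRing (X.presheaf.stalk Q) →
        ptDeg k X P hPc ≤ ptDeg k X Q hQc}.Infinite := by
  intro hfin
  obtain ⟨e, he0, heD, hmin⟩ := exists_min_deg k X hdim
  obtain ⟨Q, hQ, hQreg, hQT, hQe⟩ :=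
    exists_regular_point_of_deg k X hdim h1 e he0 heD hmin hfin.toFinset
  apply hQT
  rw [Set.Finite.mem_toFinset]
  refine ⟨hQ, hQreg, fun Q' hQ' hQ'reg => ?_⟩
  rw [hQe]
  have h2 := hmin _ (ptDeg_mem_degSubgroup k X hdim Q' hQ' hQ'reg)
  have h3 := one_le_ptDeg k X Q' hQ'
  have h4 : (e : ℤ) ≤ (ptDeg k X Q' hQ' : ℤ) := Int.le_of_dvd (by exact_mod_cast h3) h2
  exact_mod_cast h4

end MinDeg

end G0Pic
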