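import Mathlib
import Groth.Prelude
import Groth.Agent.Lib.VBCurve5_helper9

/-!
# Krull–Schmidt for sums of two invertible modules on an integral proper curve (helper9).
APPEND-ONLY once landed.
-/

set_option autoImplicit false
universe u
open CategoryTheory CategoryTheory.Limits AlgebraicGeometry Opposite TopologicalSpace

namespace VBCurve

open QcqsLoc QCohExtn

section KS

variable (k : Type u) [Field k] (X : Scheme.{u}) [X.Over (Spec (CommRingCat.of k))]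
  [IsIntegral X] [IsProper (X ↘ Spec (CommRingCat.of k))]

/-- Euler characteristics add up on binary biproducts of coherent modules -/
theorem euler_biprod {A B : X.Modules} (hA : Coh.IsCoh A) (hB : Coh.IsCoh B) :
    Curv2.euler k X (A ⊞ B) = Curv2.euler k X A + Curv2.euler k X B := by
  haveI : IsLocallyNoetherian X :=
    LocallyOfFiniteType.isLocallyNoetherian (X ↘ Spec (CommRingCat.of k))
  let S : ShortComplex X.Modules :=
    ShortComplex.mk (biprod.inl : A ⟶ A ⊞ B) (biprod.snd : A ⊞ B ⟶ B) (by simp)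
  have hS : S.ShortExact := (ShortComplex.Splitting.ofHasBinaryBiproduct A B).shortExact
  have h := EulerField.euler_additive k X S hS hA (CohDevH8.isCoh_biprod hA hB) hB
  exact h

end KS

section KS2

/-- **Krull–Schmidt for sums of two invertible modules** -/
theorem krullSchmidt_rank_two (k : Type u) [Field k] (X : Scheme.{u})
    [X.Over (Spec (CommRingCat.of k))] [IsIntegral X] [IsProper (X ↘ Spec (CommRingCat.of k))]
    (hdim : topologicalKrullDim X = 1) {L₁ L₂ M₁ M₂ : X.Modules}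
    (h₁ : PicF.IsInvertible L₁) (h₂ : PicF.IsInvertible L₂)
    (h₃ : PicF.IsInvertible M₁) (h₄ : PicF.IsInvertible M₂) (e : L₁ ⊞ L₂ ≅ M₁ ⊞ M₂) :
    (Nonempty (L₁ ≅ M₁) ∧ Nonempty (L₂ ≅ M₂)) ∨ (Nonempty (L₁ ≅ M₂) ∧ Nonempty (L₂ ≅ M₁)) := by
  haveI : IsLocallyNoetherian X :=
    LocallyOfFiniteType.isLocallyNoetherian (X ↘ Spec (CommRingCat.of k))
  haveI : Nonempty X := inferInstance
  have c₁ := ProperFinH9.isCoh_of_isInvertible h₁
  have c₂ := ProperFinH9.isCoh_of_isInvertible h₂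
  have c₃ := ProperFinH9.isCoh_of_isInvertible h₃
  have c₄ := ProperFinH9.isCoh_of_isInvertible h₄
  -- degrees
  have hdeg : Curv2.deg k X L₁ 1 + Curv2.deg k X L₂ 1 =
      Curv2.deg k X M₁ 1 + Curv2.deg k X M₂ 1 := by
    have e1 := euler_biprod k X c₁ c₂
    have e2 := euler_biprod k X c₃ c₄
    have e3 := CurveTens.euler_of_iso k X e
    unfold Curv2.deg
    linarith
  -- components
  set a₁₁ : L₁ ⟶ M₁ := biprod.inl ≫ e.hom ≫ biprod.fst with ha₁₁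
  set a₂₁ : L₁ ⟶ M₂ := biprod.inl ≫ e.hom ≫ biprod.snd with ha₂₁
  set a₁₂ : L₂ ⟶ M₁ := biprod.inr ≫ e.hom ≫ biprod.fst with ha₁₂
  set a₂₂ : L₂ ⟶ M₂ := biprod.inr ≫ e.hom ≫ biprod.snd with ha₂₂
  have hL₁ : ¬ IsZero L₁ := not_isZero_of_isInvertible h₁
  have hL₂ : ¬ IsZero L₂ := not_isZero_of_isInvertible h₂
  have hM₁ : ¬ IsZero M₁ := not_isZero_of_isInvertible h₃
  have hM₂ : ¬ IsZero M₂ := not_isZero_of_isInvertible h₄
  -- columns are nonzero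
  have col₁ : ¬ (a₁₁ = 0 ∧ a₂₁ = 0) := by
    rintro ⟨h1, h2⟩
    apply hL₁
    rw [IsZero.iff_id_eq_zero]
    have h3 : (biprod.inl : L₁ ⟶ L₁ ⊞ L₂) ≫ e.hom = 0 := by
      apply biprod.hom_ext
      · rw [Category.assoc, zero_comp]; exact h1
      · rw [Category.assoc, zero_comp]; exact h2
    have h4 : (biprod.inl : L₁ ⟶ L₁ ⊞ L₂) = 0 := by
      rw [← cancel_mono e.hom, h3, zero_comp]
    calc 𝟙 L₁ = (biprod.inl : L₁ ⟶ L₁ ⊞ L₂) ≫ biprod.fst := by simp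
      _ = 0 := by rw [h4, zero_comp]
  have col₂ : ¬ (a₁₂ = 0 ∧ a₂₂ = 0) := by
    rintro ⟨h1, h2⟩
    apply hL₂
    rw [IsZero.iff_id_eq_zero]
    have h3 : (biprod.inr : L₂ ⟶ L₁ ⊞ L₂) ≫ e.hom = 0 := by
      apply biprod.hom_ext
      · rw [Category.assoc, zero_comp]; exact h1
      · rw [Category.assoc, zero_comp]; exact h2
    have h4 : (biprod.inr : L₂ ⟶ L₁ ⊞ L₂) = 0 := by
      rw [← cancel_mono e.hom, h3, zero_comp]
    calc 𝟙 L₂ = (biprod.inr : L₂ ⟶ L₁ ⊞ L₂) ≫ biprod.snd := by simp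
      _ = 0 := by rw [h4, zero_comp]
  -- rows are nonzero
  have row₁ : ¬ (a₁₁ = 0 ∧ a₁₂ = 0) := by
    rintro ⟨h1, h2⟩
    apply hM₁
    rw [IsZero.iff_id_eq_zero]
    have h3 : e.hom ≫ (biprod.fst : M₁ ⊞ M₂ ⟶ M₁) = 0 := by
      apply biprod.hom_ext'
      · rw [comp_zero]; exact h1
      · rw [comp_zero]; exact h2
    have h4 : (biprod.fst : M₁ ⊞ M₂ ⟶ M₁) = 0 := by
      rw [← cancel_epi e.hom, h3, comp_zero]
    calc 𝟙 M₁ = biprod.inl ≫ (biprod.fst : M₁ ⊞ M₂ ⟶ M₁) := by simp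
      _ = 0 := by rw [h4, comp_zero]
  have row₂ : ¬ (a₂₁ = 0 ∧ a₂₂ = 0) := by
    rintro ⟨h1, h2⟩
    apply hM₂
    rw [IsZero.iff_id_eq_zero]
    have h3 : e.hom ≫ (biprod.snd : M₁ ⊞ M₂ ⟶ M₂) = 0 := by
      apply biprod.hom_ext'
      · rw [comp_zero]; exact h1
      · rw [comp_zero]; exact h2
    have h4 : (biprod.snd : M₁ ⊞ M₂ ⟶ M₂) = 0 := by
      rw [← cancel_epi e.hom, h3, comp_zero]
    calc 𝟙 M₂ = biprod.inr ≫ (biprod.snd : M₁ ⊞ M₂ ⟶ M₂) := by simp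
      _ = 0 := by rw [h4, comp_zero]
  have key : ∀ {L₁ L₂ M₁ M₂ : X.Modules} (_ : PicF.IsInvertible L₁) (_ : PicF.IsInvertible L₂)
      (_ : PicF.IsInvertible M₁) (_ : PicF.IsInvertible M₂) (a : L₁ ⟶ M₁) (b : L₂ ⟶ M₂),
      a ≠ 0 → b ≠ 0 → Curv2.deg k X L₁ 1 + Curv2.deg k X L₂ 1 =
        Curv2.deg k X M₁ 1 + Curv2.deg k X M₂ 1 → Nonempty (L₁ ≅ M₁) ∧ Nonempty (L₂ ≅ M₂) := by
    intro L₁ L₂ M₁ M₂ g₁ g₂ g₃ g₄ a b ha hb hd
    rcases line_hom_cases k X hdim g₁ g₃ a with h | ⟨-, hle₁, hiso₁⟩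
    · exact absurd h ha
    rcases line_hom_cases k X hdim g₂ g₄ b with h | ⟨-, hle₂, hiso₂⟩
    · exact absurd h hb
    haveI := hiso₁ (by omega)
    haveI := hiso₂ (by omega)
    exact ⟨⟨asIso a⟩, ⟨asIso b⟩⟩
  by_cases h11 : a₁₁ = 0
  · have h21 : a₂₁ ≠ 0 := fun h => col₁ ⟨h11, h⟩
    have h12 : a₁₂ ≠ 0 := fun h => row₁ ⟨h11, h⟩
    right
    exact key h₁ h₂ h₄ h₃ a₂₁ a₁₂ h21 h12 (by omega)
  · by_cases h22 : a₂₂ = 0
    · have h12 : a₁₂ ≠ 0 := fun h => col₂ ⟨h, h22⟩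
      have h21 : a₂₁ ≠ 0 := fun h => row₂ ⟨h, h22⟩
      right
      exact key h₁ h₂ h₄ h₃ a₂₁ a₁₂ h21 h12 (by omega)
    · left
      exact key h₁ h₂ h₃ h₄ a₁₁ a₂₂ h11 h22 hdeg

end KS2

end VBCurve
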