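import Mathlib
import Groth.Prelude
import Groth.Agent.Lib.CurveCliff1_helper9
import Groth.Agent.Lib.VBCurve8_helper9
import Groth.Agent.Lib.CurvePtInv3_helper9
import Groth.Agent.Lib.SerreFT1_helper9
import Groth.Agent.Lib.PB9_helper8

/-!
# Uniqueness of the `g¹₂` on a curve of genus at least two (helper9)

Part 1: sections as morphisms, free modules of rank two, `H⁰` of a biproduct.
APPEND-ONLY once landed.
-/

set_option autoImplicit false
universe u
open CategoryTheory CategoryTheory.Limits AlgebraicGeometry Opposite TopologicalSpace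

namespace CurveG12

open QcqsLoc QCohExtn SerreCrit Groth.Agent.TensInv CurveAmple FLFH8

section Sect

variable (k : Type u) [Field k] (X : Scheme.{u}) [X.Over (Spec (CommRingCat.of k))]

/-- the value at `1` of a morphism `O ⟶ L`, as an additive map -/
noncomputable def evOne (L : X.Modules) : (Coh.structureModule X ⟶ L) →+ Γ(L, ⊤) where
  toFun u := ap u ⊤ (toM (1 : Γ(X, ⊤)))
  map_zero' := rfl
  map_add' _ _ := rfl

theorem evOne_eq (L : X.Modules) (u : Coh.structureModule X ⟶ L) :
    evOne X L u = CurveTens.e₀ L (theta k L u) := (theta_apply k L u).symm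

theorem evOne_smul (L : X.Modules) (c : k) (u : Coh.structureModule X ⟶ L) :
    evOne X L (c • u) =
      (show Γ(X, ⊤) from Coh.toGlobal (X ↘ Spec (CommRingCat.of k)) c) • evOne X L u := by
  rw [evOne_eq k, evOne_eq k, map_smul]
  have h1 : c • theta k L u = (Coh.toGlobal (X ↘ Spec (CommRingCat.of k)) c) • theta k L u := rfl
  rw [h1, CurveTens.e₀_smul]

theorem evOne_secHom (L : X.Modules) (s : Γ(L, ⊤)) : evOne X L (SerreFT.secHom L s) = s :=
  SerreFT.secHom_one L s

/-- linearly independent sections give linearly independent morphisms `O ⟶ L` -/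
theorem linearIndependent_secHom {L : X.Modules} {n : ℕ} (s : Fin n → LinSer.Sect X L)
    (hs : LinSer.LinIndep k X L s) :
    LinearIndependent k (fun i => SerreFT.secHom L (s i)) := by
  rw [Fintype.linearIndependent_iff]
  intro c hc i
  have h1 := congrArg (evOne X L) hc
  rw [map_sum, map_zero] at h1
  have h2 : ∀ j, evOne X L (c j • SerreFT.secHom L (s j)) =
      (show Γ(X, ⊤) from Coh.toGlobal (X ↘ Spec (CommRingCat.of k)) (c j)) •
        (show Γ(L, ⊤) from s j) := by
    intro j
    rw [evOne_smul k, evOne_secHom]
  simp only [h2] at h1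
  exact congrFun (hs c h1) i

end Sect

end CurveG12
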