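import Mathlib
import Groth.Prelude
import Groth.Agent.Lib.CurveG12a_helper9
import Groth.Agent.Lib.Horrocks7_helper9
import Groth.Agent.Lib.TensBasis5_helper9
import Groth.Agent.Lib.VBCurve5_helper9

/-!
# Uniqueness of the `g¹₂` on a curve of genus at least two (helper9)

Part 2: the evaluation sequence `0 → K → O ⊕ O → M → 0` of a `g¹₂` and the main theorem.
APPEND-ONLY once landed.
-/

set_option autoImplicit false
universe u v
open CategoryTheory CategoryTheory.Limits AlgebraicGeometry Opposite TopologicalSpace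

namespace CurveG12

open QcqsLoc QCohExtn SerreCrit Groth.Agent.TensInv CurveAmple FLFH8

section Free

/-- a coproduct of two copies is a biproduct -/
noncomputable def sigmaFinTwoIso {C : Type u} [Category.{v} C] [Preadditive C]
    [HasBinaryBiproducts C] [HasFiniteCoproducts C] (A : C) :
    (∐ fun _ : Fin 2 => A) ≅ A ⊞ A where
  hom := Sigma.desc (fun i : Fin 2 => if i = 0 then biprod.inl else biprod.inr)
  inv := biprod.desc (Sigma.ι (fun _ : Fin 2 => A) 0) (Sigma.ι (fun _ : Fin 2 => A) 1)
  hom_inv_id := by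
    apply Sigma.hom_ext
    intro i
    fin_cases i <;> simp
  inv_hom_id := by
    apply biprod.hom_ext' <;> simp

variable {X : Scheme.{u}}

theorem isFinLocFreeOfRank_biprod_OO : FlatMod.IsFinLocFreeOfRank 2 (OO X ⊞ OO X) :=
  Groth.Agent.Horrocks.isFinLocFreeOfRank_of_iso (sigmaFinTwoIso (OO X))
    (Groth.Agent.Horrocks.isFinLocFreeOfRank_sigma (fun _ : Fin 2 => OO X)
      (fun _ => TensH8.isInvertible_structureModule))

theorem isInvertible_of_rank_one {L : X.Modules} (h : FlatMod.IsFinLocFreeOfRank 1 L) :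
    PicF.IsInvertible L := fun x => by
  obtain ⟨U, hxU, ⟨α⟩⟩ := h x
  exact ⟨U, hxU, ⟨α ≪≫ coproductUniqueIso
    (fun _ : Fin 1 => Coh.structureModule (U : Scheme.{u}))⟩⟩

end Free

section H0

variable (k : Type u) [Field k] (X : Scheme.{u}) [X.Over (Spec (CommRingCat.of k))]
  [IsProper (X ↘ Spec (CommRingCat.of k))]

/-- `h⁰(N ⊕ N) = 2 h⁰(N)` -/
theorem finrank_HH0_biprod (N : X.Modules) (hN : Coh.IsCoh N) :
    Module.finrank k (Coh.HH X (N ⊞ N) 0) = 2 * Module.finrank k (Coh.HH X N 0) := by
  haveI := ProperFinH9.finite_HH_of_proper k X _ hN 0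
  haveI : Module.Finite k (Coh.structureModule X ⟶ N) :=
    Module.Finite.equiv (CurveIdeal.thetaEquiv k N).symm
  let e : (Coh.structureModule X ⟶ N ⊞ N) ≃ₗ[k]
      (Coh.structureModule X ⟶ N) × (Coh.structureModule X ⟶ N) :=
    { toFun := fun u => (u ≫ biprod.fst, u ≫ biprod.snd)
      map_add' := fun u v => by rw [Preadditive.add_comp, Preadditive.add_comp]; rfl
      map_smul' := fun c u => by rw [Linear.smul_comp, Linear.smul_comp]; rfl
      invFun := fun p => biprod.lift p.1 p.2
      left_inv := fun u => by apply biprod.hom_ext <;> simp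
      right_inv := fun p => by simp }
  rw [← (CurveIdeal.thetaEquiv k (N ⊞ N)).finrank_eq, e.finrank_eq, Module.finrank_prod,
    (CurveIdeal.thetaEquiv k N).finrank_eq]
  ring

end H0

section Main

variable (k : Type u) [Field k] [IsAlgClosed k] (X : Scheme.{u}) [X.Over (Spec (CommRingCat.of k))]
  [IsIntegral X] [IsProper (X ↘ Spec (CommRingCat.of k))]

/-- an invertible module of degree four on a curve of genus at least two has at most three
independent sections -/
theorem h0_le_three (hdim : topologicalKrullDim X = 1) (hg : 2 ≤ Curv2.genus k X)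
    {T : X.Modules} (hT : PicF.IsInvertible T) (hdeg : Curv2.deg k X T 1 = 4) :
    Module.finrank k (Coh.HH X T 0) ≤ 3 := by
  haveI : IsLocallyNoetherian X :=
    LocallyOfFiniteType.isLocallyNoetherian (X ↘ Spec (CommRingCat.of k))
  have hTc := ProperFinH9.isCoh_of_isInvertible hT
  have hOc := CohDevH8.isCoh_structureModule X
  haveI := hTc.1
  haveI := hOc.1
  by_cases hs : Nontrivial (Coh.HH X T 0)
  · by_cases h1 : Nontrivial (Coh.HH X T 1)
    · have h := CurveCliff.two_mul_finrank_HH0_le k X hdim hT hs h1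
      rw [hdeg] at h
      omega
    · haveI : Subsingleton (Coh.HH X T 1) := not_nontrivial_iff_subsingleton.mp h1
      have h10 : Module.finrank k (Coh.HH X T 1) = 0 := Module.finrank_zero_of_subsingleton
      have e2 := CurveRR.euler_eq_sub k X hdim.le T
      have e3 := CurveRR.euler_eq_sub k X hdim.le (Coh.structureModule X)
      have e4 := CurveSpec.finrank_HH0_structureModule k X hdim
      have hg' : Curv2.genus k X = Module.finrank k (Coh.HH X (Coh.structureModule X) 1) := rfl
      unfold Curv2.deg at hdeg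
      rw [e2, e3, e4, h10, ← hg'] at hdeg
      push_cast at hdeg
      omega
  · haveI : Subsingleton (Coh.HH X T 0) := not_nontrivial_iff_subsingleton.mp hs
    rw [Module.finrank_zero_of_subsingleton]
    omega

/-- **the kernel of the evaluation map of a `g¹₂` is inverse to every `g¹₂`** -/
theorem exists_kernel (hdim : topologicalKrullDim X = 1)
    (hreg : ∀ x : X, IsRegularLocalRing (X.presheaf.stalk x)) (hg : 2 ≤ Curv2.genus k X)
    {M : X.Modules} (hM : PicF.IsInvertible M) (hdM : Curv2.deg k X M 1 = 2)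
    (u : Fin 2 → (Coh.structureModule X ⟶ M)) (hu : LinearIndependent k u) :
    ∃ K : X.Modules, PicF.IsInvertible K ∧ ∀ N : X.Modules, PicF.IsInvertible N →
      Curv2.deg k X N 1 = 2 → 2 ≤ Module.finrank k (Coh.HH X N 0) →
      Nonempty (CohB1.tensorMod K N ≅ Coh.structureModule X) := by
  haveI : IsLocallyNoetherian X :=
    LocallyOfFiniteType.isLocallyNoetherian (X ↘ Spec (CommRingCat.of k))
  haveI : Nonempty X := inferInstance
  have hOc := CohDevH8.isCoh_structureModule X
  have hM1 := FLFH8.finLocFreeOfRank_one_of_isInvertible hM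
  have hF2 : FlatMod.IsFinLocFreeOfRank 2 (OO X ⊞ OO X) := isFinLocFreeOfRank_biprod_OO
  let φ : OO X ⊞ OO X ⟶ M := biprod.desc (u 0) (u 1)
  have hS := VBCurve.kerImSC_shortExact φ
  obtain ⟨rK, rI, hK, hI, hr⟩ := VBCurve.exists_ranks hreg hdim.le φ hF2
    (FLFH8.IsFinLocFreeOfRank.isFinLocFree M hM1)
  -- the image has rank one
  have hι : Abelian.factorThruImage φ ≫ Abelian.image.ι φ = φ := Abelian.image.fac φ
  have hrI1 : rI ≤ 1 := CurveSub.rank_le_of_mono (Abelian.image.ι φ) hI hM1
  have hu0 : u 0 ≠ 0 := hu.ne_zero 0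
  have hrI0 : rI ≠ 0 := by
    rintro rfl
    have hz : IsZero (Abelian.image φ) := VBCurve.isZero_of_rank_zero hI
    apply hu0
    have h1 : (biprod.inl : OO X ⟶ OO X ⊞ OO X) ≫ φ = u 0 := biprod.inl_desc _ _
    rw [← h1, ← hι, hz.eq_of_tgt (Abelian.factorThruImage φ) 0, zero_comp, comp_zero]
  have hrIeq : rI = 1 := by omega
  have hrKeq : rK = 1 := by omega
  subst hrIeq
  subst hrKeq
  have hKinv : PicF.IsInvertible (VBCurve.kerImSC φ).X₁ := isInvertible_of_rank_one hK
  have hIinv : PicF.IsInvertible (Abelian.image φ) := isInvertible_of_rank_one hI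
  have hIc := ProperFinH9.isCoh_of_isInvertible hIinv
  have hKc := ProperFinH9.isCoh_of_isInvertible hKinv
  -- sections of the image
  let v : Fin 2 → (Coh.structureModule X ⟶ Abelian.image φ) := fun i =>
    (if i = 0 then biprod.inl else biprod.inr) ≫ Abelian.factorThruImage φ
  have hv : ∀ i, v i ≫ Abelian.image.ι φ = u i := by
    intro i
    fin_cases i
    · show (biprod.inl ≫ Abelian.factorThruImage φ) ≫ Abelian.image.ι φ = u 0
      rw [Category.assoc, hι]
      exact biprod.inl_desc _ _
    · show (biprod.inr ≫ Abelian.factorThruImage φ) ≫ Abelian.image.ι φ = u 1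
      rw [Category.assoc, hι]
      exact biprod.inr_desc _ _
  have hvli : LinearIndependent k v := by
    apply LinearIndependent.of_comp (Linear.rightComp k (Coh.structureModule X)
      (Abelian.image.ι φ))
    have : (Linear.rightComp k (Coh.structureModule X) (Abelian.image.ι φ)) ∘ v = u := by
      funext i
      exact hv i
    rw [this]
    exact hu
  haveI := ProperFinH9.finite_HH_of_proper k X _ hIc 0
  haveI : Module.Finite k (Coh.structureModule X ⟶ Abelian.image φ) :=
    Module.Finite.equiv (CurveIdeal.thetaEquiv k _).symm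
  have hh0I : 2 ≤ Module.finrank k (Coh.HH X (Abelian.image φ) 0) := by
    rw [← (CurveIdeal.thetaEquiv k _).finrank_eq]
    have := hvli.fintype_card_le_finrank
    simpa using this
  -- the degree of the image is two
  have h01 := CurveSpec.finrank_HH0_structureModule k X hdim
  haveI hsI : Nontrivial (Coh.HH X (Abelian.image φ) 0) := by
    apply Module.nontrivial_of_finrank_pos (R := k)
    omega
  obtain ⟨hle, heq⟩ := CurveLin.h0_le_deg_add_one k X hdim h01 hIinv hsI
  have hιne : Abelian.image.ι φ ≠ 0 := by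
    intro h0
    apply hu0
    rw [← hv 0, h0, comp_zero]
  have hdI : Curv2.deg k X (Abelian.image φ) 1 = 2 := by
    rcases VBCurve.line_hom_cases k X hdim hIinv hM (Abelian.image.ι φ) with h0 | ⟨-, hle2, -⟩
    · exact absurd h0 hιne
    · rw [hdM] at hle2
      by_contra hne
      have h1 : Curv2.deg k X (Abelian.image φ) 1 = 1 := by
        have : (2 : ℤ) ≤ (Module.finrank k (Coh.HH X (Abelian.image φ) 0) : ℤ) := by
          exact_mod_cast hh0I
        omega
      have h2 : (Module.finrank k (Coh.HH X (Abelian.image φ) 0) : ℤ) =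
          Curv2.deg k X (Abelian.image φ) 1 + 1 := by
        have : (2 : ℤ) ≤ (Module.finrank k (Coh.HH X (Abelian.image φ) 0) : ℤ) := by
          exact_mod_cast hh0I
        omega
      have h3 := heq h2 (by omega)
      omega
  -- the degree of the kernel is minus two
  have hdF : Curv2.deg k X (OO X ⊞ OO X) 2 = 0 := by
    unfold Curv2.deg
    rw [VBCurve.euler_biprod k X hOc hOc]
    push_cast
    ring
  have hdK : Curv2.deg k X (VBCurve.kerImSC φ).X₁ 1 = -2 := by
    have h := CurveDegAdd.deg_additive k X (VBCurve.kerImSC φ) hS 1 2 1 hK hF2 hI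
    have h' : Curv2.deg k X (OO X ⊞ OO X) 2 =
        Curv2.deg k X (VBCurve.kerImSC φ).X₁ 1 + Curv2.deg k X (Abelian.image φ) 1 := h
    rw [hdF, hdI] at h'
    omega
  refine ⟨(VBCurve.kerImSC φ).X₁, hKinv, fun N hN hdN hh0N => ?_⟩
  have hNc := ProperFinH9.isCoh_of_isInvertible hN
  have hN1 := FLFH8.finLocFreeOfRank_one_of_isInvertible hN
  have hN' := FLFH8.IsFinLocFreeOfRank.isFinLocFree N hN1
  -- tensor the evaluation sequence with `N`
  have hS' := TensBasis.shortExact_tR hN' (VBCurve.kerImSC φ) hS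
  have hFc : Coh.IsCoh (OO X ⊞ OO X) := CohDevH8.isCoh_biprod hOc hOc
  have hle3 := CurvePtInv.finrank_HH0_le_add k X _ hS'
    (isCoh_tensorMod X hKc hN) (isCoh_tensorMod X hFc hN) (isCoh_tensorMod X hIc hN)
  have hT : PicF.IsInvertible (CohB1.tensorMod (Abelian.image φ) N) :=
    TensH8.isInvertible_tensorMod hIinv hN
  have hdT : Curv2.deg k X (CohB1.tensorMod (Abelian.image φ) N) 1 = 4 := by
    rw [CurveTens.deg_tensorMod k X hdim.le hIinv hN, hdI, hdN]
    rfl
  have h3 := h0_le_three k X hdim hg hT hdT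
  haveI : PreservesBinaryBiproducts (tR N) :=
    preservesBinaryBiproducts_of_preservesBiproducts (tR N)
  have e1 : (tR N).obj (OO X ⊞ OO X) ≅ N ⊞ N :=
    (tR N).mapBiprod (OO X) (OO X) ≪≫
      biprod.mapIso (Groth.Agent.CMMul.unitorL N) (Groth.Agent.CMMul.unitorL N)
  have h4 : Module.finrank k (Coh.HH X ((tR N).obj (OO X ⊞ OO X)) 0) =
      2 * Module.finrank k (Coh.HH X N 0) := by
    rw [finrank_HH_of_iso k X e1 0, finrank_HH0_biprod k X N hNc]
  have hle3' : Module.finrank k (Coh.HH X ((tR N).obj (OO X ⊞ OO X)) 0) ≤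
      Module.finrank k (Coh.HH X (CohB1.tensorMod (VBCurve.kerImSC φ).X₁ N) 0) +
        Module.finrank k (Coh.HH X (CohB1.tensorMod (Abelian.image φ) N) 0) := hle3
  have hpos : 0 < Module.finrank k (Coh.HH X (CohB1.tensorMod (VBCurve.kerImSC φ).X₁ N) 0) := by
    omega
  haveI : Nontrivial (Coh.HH X (CohB1.tensorMod (VBCurve.kerImSC φ).X₁ N) 0) :=
    Module.nontrivial_of_finrank_pos (R := k) hpos
  obtain ⟨w, hw⟩ := exists_ne (0 : Coh.HH X (CohB1.tensorMod (VBCurve.kerImSC φ).X₁ N) 0)
  obtain ⟨s, rfl⟩ := theta_surjective k _ w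
  have hs0 : s ≠ 0 := by
    rintro rfl
    exact hw (map_zero _)
  have hKN : PicF.IsInvertible (CohB1.tensorMod (VBCurve.kerImSC φ).X₁ N) :=
    TensH8.isInvertible_tensorMod hKinv hN
  refine CurveDeg.iso_structureModule_of_deg_nonpos k X hdim hKN s hs0 ?_
  rw [CurveTens.deg_tensorMod k X hdim.le hKinv hN, hdK, hdN]
  norm_num

/-- **uniqueness of the `g¹₂`** (statement of S11355) -/
theorem g12_unique (hdim : topologicalKrullDim X = 1)
    (hreg : ∀ x : X, IsRegularLocalRing (X.presheaf.stalk x)) (hg : 2 ≤ Curv2.genus k X)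
    (M : X.Modules) (s : Fin 2 → LinSer.Sect X M) (hM : LinSer.IsLinSer k X M 2 1 s)
    (M' : X.Modules) (s' : Fin 2 → LinSer.Sect X M') (hM' : LinSer.IsLinSer k X M' 2 1 s') :
    Nonempty (M ≅ M') := by
  haveI : IsLocallyNoetherian X :=
    LocallyOfFiniteType.isLocallyNoetherian (X ↘ Spec (CommRingCat.of k))
  obtain ⟨hMi, hMd, hMl⟩ := hM
  obtain ⟨hMi', hMd', hMl'⟩ := hM'
  have hu := linearIndependent_secHom k X s hMl
  have hu' := linearIndependent_secHom k X s' hMl'
  have hh0 : ∀ (L : X.Modules) (hL : PicF.IsInvertible L) (t : Fin 2 → (Coh.structureModule X ⟶ L)),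
      LinearIndependent k t → 2 ≤ Module.finrank k (Coh.HH X L 0) := by
    intro L hL t ht
    have hLc := ProperFinH9.isCoh_of_isInvertible hL
    haveI := ProperFinH9.finite_HH_of_proper k X _ hLc 0
    haveI : Module.Finite k (Coh.structureModule X ⟶ L) :=
      Module.Finite.equiv (CurveIdeal.thetaEquiv k _).symm
    rw [← (CurveIdeal.thetaEquiv k _).finrank_eq]
    have := ht.fintype_card_le_finrank
    simpa using this
  have hd2 : Curv2.deg k X M 1 = 2 := by exact_mod_cast hMd
  have hd2' : Curv2.deg k X M' 1 = 2 := by exact_mod_cast hMd'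
  obtain ⟨K, hK, key⟩ := exists_kernel k X hdim hreg hg hMi hd2 _ hu
  obtain ⟨e₁⟩ := key M hMi hd2 (hh0 M hMi _ hu)
  obtain ⟨e₂⟩ := key M' hMi' hd2' (hh0 M' hMi' _ hu')
  exact ⟨(rightUnit M).symm ≪≫ mapL M e₂.symm ≪≫ (assoc M K M').symm ≪≫
    mapR (comm M K ≪≫ e₁) M' ≪≫ Groth.Agent.CMMul.unitorL M'⟩

end Main

end CurveG12
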