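import Mathlib
import Groth.Prelude
import Groth.Agent.Lib.VBSat2_helper9
import Groth.Agent.Lib.CurveG12b_helper9
import Groth.Agent.Lib.EllPic3_helper9
import Groth.Agent.Lib.Horrocks5_helper9

/-!
# Normalized rank two modules on a regular curve (helper9)
APPEND-ONLY once landed.
-/

set_option autoImplicit false
universe u
open CategoryTheory CategoryTheory.Limits AlgebraicGeometry Opposite TopologicalSpace

namespace Ruled

open QcqsLoc QCohExtn GenLocH8 TensH8 FLFH8

section Twist

variable (k : Type u) [Field k] (X : Scheme.{u}) [X.Over (Spec (CommRingCat.of k))]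
  [IsIntegral X] [IsProper (X ↘ Spec (CommRingCat.of k))]

include k in
/-- a nonzero map from an invertible module `P` to `E` gives a nonzero global section of
`E ⊗ M` for an inverse `M` of `P` -/
theorem nontrivial_HH0_of_hom {P E M : X.Modules} (eM : CohB1.tensorMod P M ≅ Coh.structureModule X)
    (p : P ⟶ E) (hp : p ≠ 0) : Nontrivial (Coh.HH X (CohB1.tensorMod E M) 0) := by
  haveI : (Groth.Agent.TensInv.tR M).IsEquivalence :=
    Groth.Agent.TensInv.isEquivalence_tR (Groth.Agent.TensInv.swap ⟨eM⟩)
  let σ : Coh.structureModule X ⟶ CohB1.tensorMod E M :=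
    eM.inv ≫ (Groth.Agent.TensInv.tR M).map p
  have hσ : σ ≠ 0 := by
    intro h
    apply hp
    apply (Groth.Agent.TensInv.tR M).map_injective
    rw [Functor.map_zero]
    have h' : eM.inv ≫ (Groth.Agent.TensInv.tR M).map p = eM.inv ≫ 0 := by
      rw [comp_zero]
      exact h
    exact (cancel_epi eM.inv).mp h'
  refine ⟨⟨CurveIdeal.thetaEquiv k _ σ, 0, fun h => hσ ?_⟩⟩
  apply (CurveIdeal.thetaEquiv k (CohB1.tensorMod E M)).injective
  rw [h, map_zero]

/-- **statement of S12430**: on a regular curve, a nonzero section of a rank two module all of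
whose negative twists have no sections has invertible cokernel -/
theorem isInvertible_cokernel (hdim : topologicalKrullDim X = 1)
    (hreg : ∀ x : X, IsRegularLocalRing (X.presheaf.stalk x))
    (E : X.Modules) (hE : FlatMod.IsFinLocFreeOfRank 2 E)
    (hEneg : ∀ M : X.Modules, PicF.IsInvertible M → Curv2.deg k X M 1 < 0 →
      Subsingleton (Coh.HH X (CohB1.tensorMod E M) 0))
    (s : Coh.structureModule X ⟶ E) (hs : s ≠ 0) :
    PicF.IsInvertible (cokernel s) := by
  haveI : IsLocallyNoetherian X :=
    LocallyOfFiniteType.isLocallyNoetherian (X ↘ Spec (CommRingCat.of k))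
  haveI : Nonempty X := inferInstance
  have hOinv := TensH8.isInvertible_structureModule (X := X)
  have hO : FlatMod.IsFinLocFreeOfRank 1 (Coh.structureModule X) :=
    finLocFreeOfRank_one_of_isInvertible hOinv
  haveI : Mono s := Groth.Agent.Horrocks.mono_of_ne_zero_flf hOinv
    (FLFH8.IsFinLocFreeOfRank.isFinLocFree E hE) s hs
  have hQf : FlatMod.IsFinLocFree (cokernel s) := by
    refine VBSat.coker_locFree_of_max k X hreg hdim s (by norm_num) (by norm_num) hO hE
      (fun P p hp hP => ?_)
    rw [CurveDeg.deg_structureModule]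
    by_contra hpos
    push_neg at hpos
    haveI := hp
    have hPinv : PicF.IsInvertible P := CurveG12.isInvertible_of_rank_one hP
    obtain ⟨M, hM, ⟨eM⟩⟩ := Groth.Agent.InvTensP.exists_inverse P hPinv
    have hdegM : Curv2.deg k X M 1 < 0 := by
      have h1 := CurveTens.deg_tensorMod k X hdim.le hPinv hM
      rw [CurveTens.deg_of_iso k X eM 1, CurveDeg.deg_structureModule] at h1
      linarith
    haveI := hEneg M hM hdegM
    have hp0 : p ≠ 0 := fun h =>
      VBCurve.not_isZero_of_isInvertible hPinv (VBCurve.isZero_of_mono_eq_zero _ h)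
    have := nontrivial_HH0_of_hom k X eM p hp0
    exact not_subsingleton _ ‹Subsingleton (Coh.HH X (CohB1.tensorMod E M) 0)›
  obtain ⟨s₀, hQ⟩ := VBCurve.exists_rank hQf
  have hS := VBCurve.cokernel_shortExact X s
  have hrk : 2 = 1 + s₀ := CurveDegAdd.rank_add _ hS hO hE hQ
  have hs₀ : s₀ = 1 := by omega
  rw [hs₀] at hQ
  exact CurveG12.isInvertible_of_rank_one hQ

end Twist

end Ruled
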