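import Mathlib
import Groth.Prelude
import Groth.Agent.Lib.Ruled1_helper9
import Groth.Agent.Lib.DegPull4_helper9
import Groth.Agent.Lib.CurveAmple5_helper9
import Groth.Agent.Lib.CurveSub1_helper9
import Groth.Agent.Lib.CurveSpec1_helper9
import Groth.Agent.Lib.P1Iso5_helper9
import Groth.Agent.Lib.CurvePtInv6_helper9
import Groth.Agent.Lib.TensBasis6_helper9
import Groth.Agent.Lib.CurveRR1_helper9

/-!
# Splitting of extensions of invertible modules on a curve, and invertible submodules of rank two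
modules (helper9)
APPEND-ONLY once landed.
-/

set_option autoImplicit false
universe u
open CategoryTheory CategoryTheory.Limits AlgebraicGeometry Opposite TopologicalSpace

namespace Ruled

open QcqsLoc QCohExtn GenLocH8 TensH8 FLFH8 Groth.Agent.HHVan

section Abstract

/-- a lift of the unit along a fully faithful functor gives a section -/
theorem section_of_lift {C : Type*} [Category C] (T : C ⥤ C) [T.Full] [T.Faithful] {B Q O : C}
    (g : B ⟶ Q) (e : T.obj Q ≅ O) (σ : O ⟶ T.obj B) (hσ : σ ≫ T.map g = e.inv) :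
    ∃ r : Q ⟶ B, r ≫ g = 𝟙 Q :=
  ⟨T.preimage (e.hom ≫ σ), T.map_injective (by
    rw [T.map_comp, T.map_preimage, Category.assoc, hσ, e.hom_inv_id, T.map_id])⟩

end Abstract

section Split

variable (k : Type u) [Field k] (X : Scheme.{u}) [X.Over (Spec (CommRingCat.of k))]

include k in
/-- a short exact sequence `0 → A → B → C → 0` with `C` invertible, inverse `M`, and
`H¹(A ⊗ M) = 0` splits -/
theorem exists_section (S : ShortComplex X.Modules) (hS : S.ShortExact) {M : X.Modules}
    (hM : PicF.IsInvertible M) (eM : CohB1.tensorMod S.X₃ M ≅ Coh.structureModule X)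
    (h1 : Subsingleton (Coh.HH X (CohB1.tensorMod S.X₁ M) 1)) :
    ∃ r : S.X₃ ⟶ S.X₂, r ≫ S.g = 𝟙 _ := by
  haveI : (Groth.Agent.TensInv.tR M).IsEquivalence :=
    Groth.Agent.TensInv.isEquivalence_tR (Groth.Agent.TensInv.swap ⟨eM⟩)
  have hS' := CurveTens.shortExact_tR hM S hS
  -- lift the section `eM.inv` of `C ⊗ M`
  obtain ⟨y, hy⟩ := Abelian.Ext.covariant_sequence_exact₃ _
    (SerreCrit.shortExact_toSheaf (S.map (Groth.Agent.TensInv.tR M)) hS')
    (show Abelian.Ext _ (Coh.toAb (S.map (Groth.Agent.TensInv.tR M)).X₃) 0 from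
      CurveIdeal.thetaEquiv k _ eM.inv) rfl (Subsingleton.elim (h := h1) _ _)
  have hy' : hmap ((Groth.Agent.TensInv.tR M).map S.g) 0 y =
      CurveIdeal.thetaEquiv k (CohB1.tensorMod S.X₃ M) eM.inv := hy
  obtain ⟨σ, rfl⟩ := (CurveIdeal.thetaEquiv k (CohB1.tensorMod S.X₂ M)).surjective y
  have hσ : σ ≫ (Groth.Agent.TensInv.tR M).map S.g = eM.inv := by
    apply (CurveIdeal.thetaEquiv k (CohB1.tensorMod S.X₃ M)).injective
    rw [← hy']
    show Canon.HHlin k (σ ≫ (Groth.Agent.TensInv.tR M).map S.g) 0 (CurveAmple.oneClass X) = _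
    rw [CurveAmple.HHlin_comp]
    rfl
  exact section_of_lift (Groth.Agent.TensInv.tR M) (B := S.X₂) (Q := S.X₃)
    (O := Coh.structureModule X) S.g eM σ hσ

include k in
/-- the middle term of such a sequence is the direct sum of the outer terms -/
theorem nonempty_iso_biprod (S : ShortComplex X.Modules) (hS : S.ShortExact) {M : X.Modules}
    (hM : PicF.IsInvertible M) (eM : CohB1.tensorMod S.X₃ M ≅ Coh.structureModule X)
    (h1 : Subsingleton (Coh.HH X (CohB1.tensorMod S.X₁ M) 1)) :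
    Nonempty (S.X₂ ≅ S.X₁ ⊞ S.X₃) := by
  obtain ⟨r, hr⟩ := exists_section k X S hS hM eM h1
  haveI := hS.mono_f
  exact ⟨(ShortComplex.Splitting.ofExactOfSection S hS.exact r hr
    (inferInstanceAs (Mono S.f))).isoBinaryBiproduct⟩

end Split

section Sub

variable (k : Type u) [Field k] (X : Scheme.{u}) [X.Over (Spec (CommRingCat.of k))]
  [IsIntegral X] [IsProper (X ↘ Spec (CommRingCat.of k))]

/-- if `χ(E ⊗ M) > 0` then the inverse of `M` embeds into the rank two module `E` -/
theorem exists_invertible_sub (hdim : topologicalKrullDim X = 1)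
    (E : X.Modules) (hE : FlatMod.IsFinLocFreeOfRank 2 E) (M : X.Modules)
    (hM : PicF.IsInvertible M)
    (hχ : 0 < Curv2.deg k X E 2 + 2 * Curv2.deg k X M 1 +
      2 * Curv2.euler k X (Coh.structureModule X)) :
    ∃ (N : X.Modules) (ι : N ⟶ E), PicF.IsInvertible N ∧ Mono ι ∧
      Curv2.deg k X N 1 = - Curv2.deg k X M 1 := by
  haveI : IsLocallyNoetherian X :=
    LocallyOfFiniteType.isLocallyNoetherian (X ↘ Spec (CommRingCat.of k))
  have hM1 : FlatMod.IsFinLocFreeOfRank 1 M := finLocFreeOfRank_one_of_isInvertible hM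
  have hEf := FLFH8.IsFinLocFreeOfRank.isFinLocFree E hE
  have hdeg := DegPull.deg_tensorMod_locFree k X hdim.le 2 1 E M hE hM1
  have hEMc : Coh.IsCoh (CohB1.tensorMod E M) :=
    CurveAmple.isCoh_tensorMod X (KerFreeH8.isCoh_of_finLocFree hEf) hM
  haveI := hEMc.1
  have hRR := CurveRR.euler_eq_sub k X hdim.le (CohB1.tensorMod E M)
  have hH0 : 0 < Module.finrank k (Coh.HH X (CohB1.tensorMod E M) 0) := by
    have h1 : Curv2.deg k X (CohB1.tensorMod E M) (2 * 1) =
        Curv2.euler k X (CohB1.tensorMod E M) -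
          ((2 * 1 : ℕ) : ℤ) * Curv2.euler k X (Coh.structureModule X) := rfl
    push_cast at hdeg h1
    have h2 : (0 : ℤ) ≤ (Module.finrank k (Coh.HH X (CohB1.tensorMod E M) 1) : ℤ) :=
      Int.natCast_nonneg _
    have : (0 : ℤ) < (Module.finrank k (Coh.HH X (CohB1.tensorMod E M) 0) : ℤ) := by linarith
    exact_mod_cast this
  have hHom : 0 < Module.finrank k (Coh.structureModule X ⟶ CohB1.tensorMod E M) := by
    rw [(CurveIdeal.thetaEquiv k _).finrank_eq]
    exact hH0
  haveI := ProperFinH9.finite_HH_of_proper k X _ hEMc 0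
  haveI : Module.Finite k (Coh.structureModule X ⟶ CohB1.tensorMod E M) :=
    Module.Finite.equiv (CurveIdeal.thetaEquiv k _).symm
  obtain ⟨σ, hσ⟩ := Module.finrank_pos_iff_exists_ne_zero.mp hHom
  obtain ⟨N, hN, ⟨e0⟩⟩ := Groth.Agent.InvTensP.exists_inverse M hM
  obtain ⟨eN⟩ := Groth.Agent.TensInv.swap ⟨e0⟩
  haveI : (Groth.Agent.TensInv.tR M).IsEquivalence :=
    Groth.Agent.TensInv.isEquivalence_tR ⟨e0⟩
  obtain ⟨ι, hι⟩ : ∃ ι : N ⟶ E, (Groth.Agent.TensInv.tR M).map ι = eN.hom ≫ σ :=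
    ⟨(Groth.Agent.TensInv.tR M).preimage (eN.hom ≫ σ), Functor.map_preimage _ _⟩
  have hι0 : ι ≠ 0 := by
    intro h
    rw [h, Functor.map_zero] at hι
    apply hσ
    rw [← cancel_epi eN.hom, ← hι, comp_zero]
    rfl
  refine ⟨N, ι, hN, Groth.Agent.Horrocks.mono_of_ne_zero_flf hN hEf ι hι0, ?_⟩
  have h1 := CurveTens.deg_tensorMod k X hdim.le hN hM
  rw [CurveTens.deg_of_iso k X eN 1, CurveDeg.deg_structureModule] at h1
  linarith

end Sub

end Ruled
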