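import Mathlib
import Groth.Prelude
import Groth.Agent.Lib.Ruled2_helper9
import Groth.Agent.Lib.G0Pic2_helper9

/-!
# Degree bounds for indecomposable rank two modules on a curve (helper9)
APPEND-ONLY once landed.
-/

set_option autoImplicit false
universe u
open CategoryTheory CategoryTheory.Limits AlgebraicGeometry Opposite TopologicalSpace

namespace Ruled

open QcqsLoc QCohExtn GenLocH8 TensH8 FLFH8 Groth.Agent.HHVan EllPic P1Iso

section Bounds

variable (k : Type u) [Field k] [IsAlgClosed k] (X : Scheme.{u}) [X.Over (Spec (CommRingCat.of k))]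
  [IsIntegral X] [IsProper (X ↘ Spec (CommRingCat.of k))]

/-- over an algebraically closed field a curve has invertible modules of every degree -/
theorem exists_invertible_of_deg (hdim : topologicalKrullDim X = 1) (m : ℤ) :
    ∃ M : X.Modules, PicF.IsInvertible M ∧ Curv2.deg k X M 1 = m := by
  haveI : IsLocallyNoetherian X :=
    LocallyOfFiniteType.isLocallyNoetherian (X ↘ Spec (CommRingCat.of k))
  obtain ⟨x, hx, hn⟩ := exists_closed_normal_point k X
  haveI := hn
  have hreg : IsRegularLocalRing (X.presheaf.stalk x) :=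
    isRegularLocalRing_of_isIntegrallyClosed _ (CurvePtInv.ringKrullDim_stalk_of_closed hdim hx)
  have h1 := G0Pic.ptDeg_mem_degSubgroup k X hdim x hx hreg
  have h2 : ptDeg k X x hx = 1 := CurvePtInv.finrank_HH0_quotMod_point k X x hx
  rw [h2] at h1
  have h3 := (degSubgroup k X hdim).zsmul_mem h1 m
  have h4 : m • (((1 : ℕ) : ℤ)) = m := by simp
  rw [h4] at h3
  exact h3

/-- an invertible submodule of large degree in a rank two module -/
theorem exists_sub_ge (hdim : topologicalKrullDim X = 1)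
    (E : X.Modules) (hE : FlatMod.IsFinLocFreeOfRank 2 E) :
    ∃ (N : X.Modules) (ι : N ⟶ E), PicF.IsInvertible N ∧ Mono ι ∧
      Curv2.deg k X E 2 - 2 * (Curv2.genus k X : ℤ) ≤ 2 * Curv2.deg k X N 1 := by
  haveI : IsLocallyNoetherian X :=
    LocallyOfFiniteType.isLocallyNoetherian (X ↘ Spec (CommRingCat.of k))
  obtain ⟨M, hM, hdegM⟩ := exists_invertible_of_deg k X hdim
    ((2 * (Curv2.genus k X : ℤ) - Curv2.deg k X E 2) / 2)
  haveI := (CohDevH8.isCoh_structureModule X).1
  have hO := CurveRR.euler_eq_sub k X hdim.le (Coh.structureModule X)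
  rw [CurveSpec.finrank_HH0_structureModule k X hdim] at hO
  have hg : Curv2.genus k X = Module.finrank k (Coh.HH X (Coh.structureModule X) 1) := rfl
  obtain ⟨N, ι, hN, hι, hdegN⟩ := exists_invertible_sub k X hdim E hE M hM (by
    rw [hdegM, hO, ← hg]
    push_cast
    omega)
  refine ⟨N, ι, hN, hι, ?_⟩
  rw [hdegN, hdegM]
  omega

/-- **statement of S11482** -/
theorem rank_two_bounds (hdim : topologicalKrullDim X = 1)
    (hreg : ∀ x : X, IsRegularLocalRing (X.presheaf.stalk x))
    (E : X.Modules) (hE : FlatMod.IsFinLocFreeOfRank 2 E)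
    (hind : ∀ (E₁ E₂ : X.Modules), Nonempty (E ≅ E₁ ⊞ E₂) → IsZero E₁ ∨ IsZero E₂) :
    (∀ (L : X.Modules) (ι : L ⟶ E), PicF.IsInvertible L → Mono ι →
        2 * Curv2.deg k X L 1 ≤ Curv2.deg k X E 2 + 2 * (Curv2.genus k X : ℤ) - 2) ∧
      ∃ (L : X.Modules) (ι : L ⟶ E), PicF.IsInvertible L ∧ Mono ι ∧
        Curv2.deg k X E 2 - 2 * (Curv2.genus k X : ℤ) ≤ 2 * Curv2.deg k X L 1 := by
  haveI : IsLocallyNoetherian X :=
    LocallyOfFiniteType.isLocallyNoetherian (X ↘ Spec (CommRingCat.of k))
  haveI : Nonempty X := inferInstance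
  refine ⟨?_, exists_sub_ge k X hdim E hE⟩
  intro L ι hL hι
  by_contra hgt
  push_neg at hgt
  -- an invertible submodule of greatest degree
  obtain ⟨N₀, hN₀⟩ := CurveSub.bddAbove_deg_invertible_sub k X hdim.le hE
  obtain ⟨z, ⟨P, p, hp, hP, hPz⟩, hmax⟩ := Int.exists_greatest_of_bdd
    (P := fun z => ∃ (P : X.Modules) (p : P ⟶ E), Mono p ∧ PicF.IsInvertible P ∧
      Curv2.deg k X P 1 = z)
    ⟨N₀, fun z ⟨P, p, hp, hP, hz⟩ => hz ▸ hN₀ P p hp hP⟩ ⟨_, L, ι, hι, hL, rfl⟩
  haveI := hp
  have hLz : Curv2.deg k X L 1 ≤ z := hmax _ ⟨L, ι, hι, hL, rfl⟩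
  have hP1 : FlatMod.IsFinLocFreeOfRank 1 P := finLocFreeOfRank_one_of_isInvertible hP
  have hQf : FlatMod.IsFinLocFree (cokernel p) := by
    refine VBSat.coker_locFree_of_max k X hreg hdim p (by norm_num) (by norm_num) hP1 hE
      (fun P' p' hp' hP' => ?_)
    rw [hPz]
    exact hmax _ ⟨P', p', hp', CurveG12.isInvertible_of_rank_one hP', rfl⟩
  obtain ⟨s₀, hQ⟩ := VBCurve.exists_rank hQf
  have hS := VBCurve.cokernel_shortExact X p
  have hrk : 2 = 1 + s₀ := CurveDegAdd.rank_add _ hS hP1 hE hQ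
  have hs₀ : s₀ = 1 := by omega
  rw [hs₀] at hQ
  have hQinv : PicF.IsInvertible (cokernel p) := CurveG12.isInvertible_of_rank_one hQ
  have hdeg := VBCurve.deg_cokernel k X p hP1 hE hQ
  obtain ⟨M, hM, ⟨eM⟩⟩ := Groth.Agent.InvTensP.exists_inverse _ hQinv
  have hdegM : Curv2.deg k X M 1 = - Curv2.deg k X (cokernel p) 1 := by
    have h1 := CurveTens.deg_tensorMod k X hdim.le hQinv hM
    rw [CurveTens.deg_of_iso k X eM 1, CurveDeg.deg_structureModule] at h1
    linarith
  have hH1 : Subsingleton (Coh.HH X (CohB1.tensorMod P M) 1) := by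
    apply CurveAmple.HH1_subsingleton_of_deg_ge k X hdim.le (isInvertible_tensorMod hP hM)
    rw [CurveTens.deg_tensorMod k X hdim.le hP hM, hdegM, hPz]
    rw [hPz] at hdeg
    linarith
  obtain ⟨e⟩ := nonempty_iso_biprod k X
    (ShortComplex.mk p (cokernel.π p) (cokernel.condition p)) hS hM eM hH1
  rcases hind P (cokernel p) ⟨e⟩ with h | h
  · exact VBCurve.not_isZero_of_isInvertible hP h
  · exact VBCurve.not_isZero_of_isInvertible hQinv h

/-- **statement of S11347** -/
theorem normalized_bounds (hdim : topologicalKrullDim X = 1)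
    (hreg : ∀ x : X, IsRegularLocalRing (X.presheaf.stalk x))
    (E : X.Modules) (hE : FlatMod.IsFinLocFreeOfRank 2 E)
    (hn0 : Nontrivial (Coh.HH X E 0))
    (hneg : ∀ M : X.Modules, PicF.IsInvertible M → Curv2.deg k X M 1 < 0 →
      Subsingleton (Coh.HH X (CohB1.tensorMod E M) 0))
    (hind : ∀ L₁ L₂ : X.Modules, PicF.IsInvertible L₁ → PicF.IsInvertible L₂ →
      IsEmpty (E ≅ L₁ ⊞ L₂)) :
    2 - 2 * (Curv2.genus k X : ℤ) ≤ Curv2.deg k X E 2 ∧
      Curv2.deg k X E 2 ≤ 2 * (Curv2.genus k X : ℤ) := by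
  haveI : IsLocallyNoetherian X :=
    LocallyOfFiniteType.isLocallyNoetherian (X ↘ Spec (CommRingCat.of k))
  haveI : Nonempty X := inferInstance
  have hOinv := TensH8.isInvertible_structureModule (X := X)
  have hO : FlatMod.IsFinLocFreeOfRank 1 (Coh.structureModule X) :=
    finLocFreeOfRank_one_of_isInvertible hOinv
  constructor
  · -- lower bound: otherwise the sequence `0 → O → E → Q → 0` splits
    by_contra hlt
    push_neg at hlt
    obtain ⟨v, hv⟩ := exists_ne (0 : Coh.HH X E 0)
    set s := (CurveIdeal.thetaEquiv k E).symm v with hs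
    have hs0 : s ≠ 0 := by
      intro h
      apply hv
      have := congrArg (CurveIdeal.thetaEquiv k E) h
      rw [hs, LinearEquiv.apply_symm_apply, map_zero] at this
      exact this
    haveI : Mono s := Groth.Agent.Horrocks.mono_of_ne_zero_flf hOinv
      (FLFH8.IsFinLocFreeOfRank.isFinLocFree E hE) s hs0
    have hQinv := isInvertible_cokernel k X hdim hreg E hE hneg s hs0
    have hQ : FlatMod.IsFinLocFreeOfRank 1 (cokernel s) :=
      finLocFreeOfRank_one_of_isInvertible hQinv
    have hdeg := VBCurve.deg_cokernel k X s hO hE hQ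
    rw [CurveDeg.deg_structureModule, zero_add] at hdeg
    obtain ⟨M, hM, ⟨eM⟩⟩ := Groth.Agent.InvTensP.exists_inverse _ hQinv
    have hdegM : Curv2.deg k X M 1 = - Curv2.deg k X (cokernel s) 1 := by
      have h1 := CurveTens.deg_tensorMod k X hdim.le hQinv hM
      rw [CurveTens.deg_of_iso k X eM 1, CurveDeg.deg_structureModule] at h1
      linarith
    have hH1 : Subsingleton (Coh.HH X (CohB1.tensorMod (Coh.structureModule X) M) 1) := by
      apply CurveAmple.HH1_subsingleton_of_deg_ge k X hdim.le (isInvertible_tensorMod hOinv hM)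
      rw [CurveTens.deg_tensorMod k X hdim.le hOinv hM, hdegM, CurveDeg.deg_structureModule,
        ← hdeg]
      linarith
    obtain ⟨e⟩ := nonempty_iso_biprod k X
      (ShortComplex.mk s (cokernel.π s) (cokernel.condition s))
      (VBCurve.cokernel_shortExact X s) hM eM hH1
    exact (hind _ _ hOinv hQinv).false e
  · -- upper bound
    obtain ⟨N, ι, hN, hι, hle⟩ := exists_sub_ge k X hdim E hE
    haveI := hι
    have hN0 : Curv2.deg k X N 1 ≤ 0 := by
      by_contra hpos
      push_neg at hpos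
      obtain ⟨M, hM, ⟨eM⟩⟩ := Groth.Agent.InvTensP.exists_inverse N hN
      have hdegM : Curv2.deg k X M 1 < 0 := by
        have h1 := CurveTens.deg_tensorMod k X hdim.le hN hM
        rw [CurveTens.deg_of_iso k X eM 1, CurveDeg.deg_structureModule] at h1
        linarith
      haveI := hneg M hM hdegM
      have hι0 : ι ≠ 0 := fun h =>
        VBCurve.not_isZero_of_isInvertible hN (VBCurve.isZero_of_mono_eq_zero _ h)
      have := nontrivial_HH0_of_hom k X eM ι hι0
      exact not_subsingleton _ ‹Subsingleton (Coh.HH X (CohB1.tensorMod E M) 0)›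
    linarith

end Bounds

end Ruled
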