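import Mathlib
import Groth.Prelude
import Groth.Agent.Lib.Ruled3_helper9
import Groth.Agent.Lib.VBCurve9_helper9

/-!
# Simple rank two modules and decomposable normalized rank two modules on a curve (helper9)
APPEND-ONLY once landed.
-/

set_option autoImplicit false
universe u
open CategoryTheory CategoryTheory.Limits AlgebraicGeometry Opposite TopologicalSpace

namespace Ruled

open QcqsLoc QCohExtn GenLocH8 TensH8 FLFH8 Groth.Agent.HHVan EllPic P1Iso

section Abstract

variable {C : Type*} [Category C] [Abelian C] {k : Type*} [Field k] [Linear k C]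

/-- an object all of whose endomorphisms are scalars is indecomposable -/
theorem isZero_or_of_simple {E : C} (hs : ∀ φ : E ⟶ E, ∃ c : k, φ = c • 𝟙 E) (E₁ E₂ : C)
    (e : E ≅ E₁ ⊞ E₂) : IsZero E₁ ∨ IsZero E₂ := by
  let q : E₁ ⊞ E₂ ⟶ E₁ ⊞ E₂ := biprod.fst ≫ biprod.inl
  let p : E ⟶ E := e.hom ≫ q ≫ e.inv
  have hqq : q ≫ q = q := by simp [q]
  have hpp : p ≫ p = p := by
    simp only [p, Category.assoc, Iso.inv_hom_id_assoc]
    rw [← Category.assoc q q, hqq]
  have hq : q = e.inv ≫ p ≫ e.hom := by simp [p]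
  obtain ⟨c, hc⟩ := hs p
  by_cases hc0 : c = 0
  · left
    rw [IsZero.iff_id_eq_zero]
    have hp0 : p = 0 := by rw [hc, hc0, zero_smul]
    have h1 : q = 0 := by rw [hq, hp0, zero_comp, comp_zero]
    calc 𝟙 E₁ = biprod.inl ≫ q ≫ biprod.fst := by simp [q]
      _ = 0 := by rw [h1, zero_comp, comp_zero]
  · right
    rw [IsZero.iff_id_eq_zero]
    have hp1 : p = 𝟙 E := by
      have h2 : p ≫ (c⁻¹ • 𝟙 E) = 𝟙 E := by
        rw [hc, Linear.smul_comp, Linear.comp_smul, Category.id_comp, smul_smul,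
          mul_inv_cancel₀ hc0, one_smul]
      calc p = p ≫ 𝟙 E := (Category.comp_id p).symm
        _ = p ≫ (p ≫ (c⁻¹ • 𝟙 E)) := by rw [h2]
        _ = (p ≫ p) ≫ (c⁻¹ • 𝟙 E) := (Category.assoc _ _ _).symm
        _ = 𝟙 E := by rw [hpp, h2]
    have h1 : q = 𝟙 _ := by rw [hq, hp1, Category.id_comp, Iso.inv_hom_id]
    calc 𝟙 E₂ = biprod.inr ≫ q ≫ biprod.snd := by rw [h1]; simp
      _ = 0 := by simp [q]

end Abstract

section Simple

variable (k : Type u) [Field k] [IsAlgClosed k] (X : Scheme.{u}) [X.Over (Spec (CommRingCat.of k))]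
  [IsIntegral X] [IsProper (X ↘ Spec (CommRingCat.of k))]

omit [IsAlgClosed k] [IsIntegral X] [IsProper (X ↘ Spec (CommRingCat.of k))] in
/-- the two formulations of simplicity -/
theorem eq_smul_of_simple {E : X.Modules}
    (hsimple : ∀ φ : E ⟶ E, ∃ c : k, (SheafOfModules.toSheaf X.ringCatSheaf).map φ =
      Coh.smulAb E (Coh.toGlobal (X ↘ Spec (CommRingCat.of k)) c)) (φ : E ⟶ E) :
    ∃ c : k, φ = c • 𝟙 E := by
  obtain ⟨c, hc⟩ := hsimple φ
  rw [← VBCurve.toSheaf_map_smul k X E c] at hc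
  exact ⟨c, (SheafOfModules.toSheaf X.ringCatSheaf).map_injective hc⟩

/-- **statement of S11817**: an invertible submodule with invertible quotient of a simple rank
two module has `2 deg L ≤ deg E + g - 2` -/
theorem simple_sub_bound (hdim : topologicalKrullDim X = 1)
    (E : X.Modules) (hE : FlatMod.IsFinLocFreeOfRank 2 E)
    (hsimple : ∀ φ : E ⟶ E, ∃ c : k, (SheafOfModules.toSheaf X.ringCatSheaf).map φ =
      Coh.smulAb E (Coh.toGlobal (X ↘ Spec (CommRingCat.of k)) c))
    (L : X.Modules) (hL : PicF.IsInvertible L) (i : L ⟶ E) [Mono i]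
    (hq : PicF.IsInvertible (cokernel i)) :
    2 * Curv2.deg k X L 1 ≤ Curv2.deg k X E 2 + (Curv2.genus k X : ℤ) - 2 := by
  haveI : IsLocallyNoetherian X :=
    LocallyOfFiniteType.isLocallyNoetherian (X ↘ Spec (CommRingCat.of k))
  haveI : Nonempty X := inferInstance
  have hL1 : FlatMod.IsFinLocFreeOfRank 1 L := finLocFreeOfRank_one_of_isInvertible hL
  have hQ1 : FlatMod.IsFinLocFreeOfRank 1 (cokernel i) := finLocFreeOfRank_one_of_isInvertible hq
  have hS := VBCurve.cokernel_shortExact X i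
  have hdeg := VBCurve.deg_cokernel k X i hL1 hE hQ1
  obtain ⟨M, hM, ⟨eM⟩⟩ := Groth.Agent.InvTensP.exists_inverse _ hq
  have hdegM : Curv2.deg k X M 1 = - Curv2.deg k X (cokernel i) 1 := by
    have h1 := CurveTens.deg_tensorMod k X hdim.le hq hM
    rw [CurveTens.deg_of_iso k X eM 1, CurveDeg.deg_structureModule] at h1
    linarith
  have hLM := isInvertible_tensorMod hL hM
  -- the sequence does not split
  have hH1 : Nontrivial (Coh.HH X (CohB1.tensorMod L M) 1) := by
    by_contra hno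
    rw [not_nontrivial_iff_subsingleton] at hno
    obtain ⟨e⟩ := nonempty_iso_biprod k X
      (ShortComplex.mk i (cokernel.π i) (cokernel.condition i)) hS hM eM hno
    rcases isZero_or_of_simple (k := k) (eq_smul_of_simple k X hsimple) _ _ e with h | h
    · exact VBCurve.not_isZero_of_isInvertible hL h
    · exact VBCurve.not_isZero_of_isInvertible hq h
  -- there is no nonzero map from the quotient to the submodule
  have hH0 : Subsingleton (Coh.HH X (CohB1.tensorMod L M) 0) := by
    by_contra hno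
    rw [not_subsingleton_iff_nontrivial] at hno
    obtain ⟨v, hv⟩ := exists_ne (0 : Coh.HH X (CohB1.tensorMod L M) 0)
    set σ := (CurveIdeal.thetaEquiv k (CohB1.tensorMod L M)).symm v with hσdef
    have hσ : σ ≠ 0 := by
      intro h
      apply hv
      have := congrArg (CurveIdeal.thetaEquiv k (CohB1.tensorMod L M)) h
      rw [hσdef, LinearEquiv.apply_symm_apply, map_zero] at this
      exact this
    haveI : (Groth.Agent.TensInv.tR M).IsEquivalence :=
      Groth.Agent.TensInv.isEquivalence_tR (Groth.Agent.TensInv.swap ⟨eM⟩)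
    let g : cokernel i ⟶ L := (Groth.Agent.TensInv.tR M).preimage (eM.hom ≫ σ)
    have hg : g ≠ 0 := by
      intro h
      apply hσ
      have h1 : (Groth.Agent.TensInv.tR M).map g = eM.hom ≫ σ :=
        (Groth.Agent.TensInv.tR M).map_preimage _
      rw [h, Functor.map_zero] at h1
      exact (cancel_epi eM.hom).1 (h1.symm.trans comp_zero.symm)
    obtain ⟨φ, hφ⟩ := VBCurve.not_simple_of_nonsplit k X
      (ShortComplex.mk i (cokernel.π i) (cokernel.condition i)) hS hL g hg
    obtain ⟨c, hc⟩ := hsimple φ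
    exact hφ c hc
  -- Riemann–Roch
  haveI := (ProperFinH9.isCoh_of_isInvertible hLM).1
  haveI := (CohDevH8.isCoh_structureModule X).1
  have hχ := CurveRR.euler_eq_sub k X hdim.le (CohB1.tensorMod L M)
  have hO := CurveRR.euler_eq_sub k X hdim.le (Coh.structureModule X)
  rw [CurveSpec.finrank_HH0_structureModule k X hdim] at hO
  have hg : Curv2.genus k X = Module.finrank k (Coh.HH X (Coh.structureModule X) 1) := rfl
  have h0 : Module.finrank k (Coh.HH X (CohB1.tensorMod L M) 0) = 0 :=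
    Module.finrank_zero_of_subsingleton
  haveI := ProperFinH9.finite_HH_of_proper k X _ (ProperFinH9.isCoh_of_isInvertible hLM) 1
  have h1 : 0 < Module.finrank k (Coh.HH X (CohB1.tensorMod L M) 1) := Module.finrank_pos
  have hd := CurveTens.deg_tensorMod k X hdim.le hL hM
  have hdef : Curv2.deg k X (CohB1.tensorMod L M) 1 =
      Curv2.euler k X (CohB1.tensorMod L M) - 1 * Curv2.euler k X (Coh.structureModule X) := rfl
  rw [hχ, hO, h0, ← hg] at hdef
  push_cast at hdef
  have h1' : (1 : ℤ) ≤ (Module.finrank k (Coh.HH X (CohB1.tensorMod L M) 1) : ℤ) := by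
    exact_mod_cast h1
  linarith

end Simple

section Decomp

variable (k : Type u) [Field k] (X : Scheme.{u}) [X.Over (Spec (CommRingCat.of k))]
  [IsIntegral X] [IsProper (X ↘ Spec (CommRingCat.of k))]

/-- **statement of S11353**: a decomposable normalized rank two module is `O ⊕ L` with
`deg L ≤ 0` -/
theorem decomposable_normalized (hdim : topologicalKrullDim X = 1)
    (E L₁ L₂ : X.Modules) (hL₁ : PicF.IsInvertible L₁) (hL₂ : PicF.IsInvertible L₂)
    (hE : Nonempty (E ≅ L₁ ⊞ L₂))
    (hn0 : Nontrivial (Coh.HH X E 0))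
    (hneg : ∀ M : X.Modules, PicF.IsInvertible M → Curv2.deg k X M 1 < 0 →
      Subsingleton (Coh.HH X (CohB1.tensorMod E M) 0)) :
    ∃ L : X.Modules, PicF.IsInvertible L ∧ Curv2.deg k X L 1 ≤ 0 ∧
      Nonempty (E ≅ Coh.structureModule X ⊞ L) := by
  haveI : IsLocallyNoetherian X :=
    LocallyOfFiniteType.isLocallyNoetherian (X ↘ Spec (CommRingCat.of k))
  haveI : Nonempty X := inferInstance
  obtain ⟨e⟩ := hE
  -- invertible submodules of `E` have degree `≤ 0`
  have hsub : ∀ (P : X.Modules) (p : P ⟶ E), PicF.IsInvertible P → p ≠ 0 →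
      Curv2.deg k X P 1 ≤ 0 := by
    intro P p hP hp
    by_contra hpos
    push_neg at hpos
    obtain ⟨M, hM, ⟨eM⟩⟩ := Groth.Agent.InvTensP.exists_inverse P hP
    have hdegM : Curv2.deg k X M 1 < 0 := by
      have h1 := CurveTens.deg_tensorMod k X hdim.le hP hM
      rw [CurveTens.deg_of_iso k X eM 1, CurveDeg.deg_structureModule] at h1
      linarith
    haveI := hneg M hM hdegM
    have := nontrivial_HH0_of_hom k X eM p hp
    exact not_subsingleton _ ‹Subsingleton (Coh.HH X (CohB1.tensorMod E M) 0)›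
  have h1 : Curv2.deg k X L₁ 1 ≤ 0 := by
    apply hsub L₁ (biprod.inl ≫ e.inv) hL₁
    intro h
    apply VBCurve.not_isZero_of_isInvertible hL₁
    rw [IsZero.iff_id_eq_zero]
    calc 𝟙 L₁ = (biprod.inl ≫ e.inv) ≫ e.hom ≫ biprod.fst := by simp
      _ = 0 := by rw [h, zero_comp]
  have h2 : Curv2.deg k X L₂ 1 ≤ 0 := by
    apply hsub L₂ (biprod.inr ≫ e.inv) hL₂
    intro h
    apply VBCurve.not_isZero_of_isInvertible hL₂
    rw [IsZero.iff_id_eq_zero]
    calc 𝟙 L₂ = (biprod.inr ≫ e.inv) ≫ e.hom ≫ biprod.snd := by simp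
      _ = 0 := by rw [h, zero_comp]
  obtain ⟨v, hv⟩ := exists_ne (0 : Coh.HH X E 0)
  set s := (CurveIdeal.thetaEquiv k E).symm v with hs
  have hs0 : s ≠ 0 := by
    intro h
    apply hv
    have := congrArg (CurveIdeal.thetaEquiv k E) h
    rw [hs, LinearEquiv.apply_symm_apply, map_zero] at this
    exact this
  by_cases hτ : s ≫ e.hom ≫ biprod.fst = 0
  · have hτ2 : s ≫ e.hom ≫ biprod.snd ≠ 0 := by
      intro h
      apply hs0
      rw [← cancel_mono e.hom]
      apply biprod.hom_ext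
      · rw [Category.assoc, hτ, zero_comp, zero_comp]
      · rw [Category.assoc, h, zero_comp, zero_comp]
    haveI := CurveDeg.isIso_of_deg_nonpos k X hdim hL₂ _ hτ2 h2
    exact ⟨L₁, hL₁, h1, ⟨e ≪≫ biprod.braiding L₁ L₂ ≪≫
      biprod.mapIso (asIso (s ≫ e.hom ≫ biprod.snd)).symm (Iso.refl L₁)⟩⟩
  · haveI := CurveDeg.isIso_of_deg_nonpos k X hdim hL₁ _ hτ h1
    exact ⟨L₂, hL₂, h2, ⟨e ≪≫
      biprod.mapIso (asIso (s ≫ e.hom ≫ biprod.fst)).symm (Iso.refl L₂)⟩⟩

end Decomp

end Ruled
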