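import Mathlib
import Groth.Prelude
import Groth.Agent.Lib.Ruled4_helper9

/-!
# The sharp bound for invertible submodules of rank two modules in genus one (helper9)

Naturality of the twisting map `I ⊗ A → A`, and the key lemma: on a curve of genus one, for an
extension `0 → O → B → L → 0` with `deg L ≥ 2`, some twist `I_x ⊗ B` by the ideal of a closed
point has a nonzero section.
APPEND-ONLY once landed.
-/

set_option autoImplicit false
universe u
open CategoryTheory CategoryTheory.Limits AlgebraicGeometry Opposite TopologicalSpace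
open MonoidalCategory

namespace EllNag

open QcqsLoc QCohExtn GenLocH8 TensH8 FLFH8 Groth.Agent.HHVan EllPic P1Iso Groth.Agent.TensInv
  Groth.Agent.CMMul CurveGG

section Nat

variable {X : Scheme.{u}}

/-- naturality of the left unit isomorphism `O ⊗ F ≅ F` -/
theorem unitorL_nat {F F' : X.Modules} (f : F ⟶ F') :
    (tL (Coh.structureModule X)).map f ≫ (unitorL F').hom = (unitorL F).hom ≫ f := by
  let adj := PresheafOfModules.sheafificationAdjunction.{u, u, u, u}
    (J := Opens.grothendieckTopology X) (𝟙 X.ringCatSheaf.obj)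
  let a : CohB1.tensorMod (Coh.structureModule X) F ⟶ CohB1.tensorMod (Coh.structureModule X) F' :=
    (CohB1.sheafifyMod X).map
        (show (CohB1.tensorPre (Coh.structureModule X) F : X.PresheafOfModules) ⟶
          (CohB1.tensorPre (Coh.structureModule X) F' : X.PresheafOfModules) from
          (CohB1.toPMod (Coh.structureModule X) ◁
            (show CohB1.toPMod F ⟶ CohB1.toPMod F' from f.val)))
  have ha : (tL (Coh.structureModule X)).map f = a := rfl
  have h1 : a ≫ (CohB1.sheafifyMod X).map (unitorPreL F').hom =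
      (CohB1.sheafifyMod X).map (unitorPreL F).hom ≫ (CohB1.sheafifyMod X).map f.val := by
    show (CohB1.sheafifyMod X).map _ ≫ (CohB1.sheafifyMod X).map _ = _
    rw [← Functor.map_comp, ← Functor.map_comp]
    congr 1
    exact leftUnitor_naturality (show CohB1.toPMod F ⟶ CohB1.toPMod F' from f.val)
  have h2 : (CohB1.sheafifyMod X).map f.val ≫ adj.counit.app F' = adj.counit.app F ≫ f :=
    adj.counit.naturality f
  rw [ha]
  calc a ≫ ((CohB1.sheafifyMod X).map (unitorPreL F').hom ≫ adj.counit.app F')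
      = (a ≫ (CohB1.sheafifyMod X).map (unitorPreL F').hom) ≫ adj.counit.app F' :=
        (Category.assoc _ _ _).symm
    _ = ((CohB1.sheafifyMod X).map (unitorPreL F).hom ≫ (CohB1.sheafifyMod X).map f.val) ≫
          adj.counit.app F' := congrArg (· ≫ adj.counit.app F') h1
    _ = (CohB1.sheafifyMod X).map (unitorPreL F).hom ≫ ((CohB1.sheafifyMod X).map f.val ≫
          adj.counit.app F') := Category.assoc _ _ _
    _ = (CohB1.sheafifyMod X).map (unitorPreL F).hom ≫ (adj.counit.app F ≫ f) :=
        congrArg ((CohB1.sheafifyMod X).map (unitorPreL F).hom ≫ ·) h2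
    _ = ((CohB1.sheafifyMod X).map (unitorPreL F).hom ≫ adj.counit.app F) ≫ f :=
        (Category.assoc _ _ _).symm

/-- naturality of the twisting map `I ⊗ A → A` -/
theorem twistι_nat (Z : X.IdealSheafData) {A A' : X.Modules} (f : A ⟶ A') :
    (tL (ClSub.idealMod Z)).map f ≫ twistι Z A' = twistι Z A ≫ f := by
  have h1 : (tL (ClSub.idealMod Z)).map f ≫ (tR A').map (ClSub.idealModι Z) =
      (tR A).map (ClSub.idealModι Z) ≫ (tL (Coh.structureModule X)).map f := by
    show ((tB X).obj _).map f ≫ ((tB X).map (ClSub.idealModι Z)).app A' =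
      ((tB X).map (ClSub.idealModι Z)).app A ≫ ((tB X).obj _).map f
    exact ((tB X).map (ClSub.idealModι Z)).naturality f
  calc (tL (ClSub.idealMod Z)).map f ≫ ((tR A').map (ClSub.idealModι Z) ≫ (unitorL A').hom)
      = ((tL (ClSub.idealMod Z)).map f ≫ (tR A').map (ClSub.idealModι Z)) ≫ (unitorL A').hom :=
        (Category.assoc _ _ _).symm
    _ = ((tR A).map (ClSub.idealModι Z) ≫ (tL (Coh.structureModule X)).map f) ≫
          (unitorL A').hom := congrArg (· ≫ (unitorL A').hom) h1
    _ = (tR A).map (ClSub.idealModι Z) ≫ ((tL (Coh.structureModule X)).map f ≫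
          (unitorL A').hom) := Category.assoc _ _ _
    _ = (tR A).map (ClSub.idealModι Z) ≫ ((unitorL A).hom ≫ f) :=
        congrArg ((tR A).map (ClSub.idealModι Z) ≫ ·) (unitorL_nat f)
    _ = ((tR A).map (ClSub.idealModι Z) ≫ (unitorL A).hom) ≫ f := (Category.assoc _ _ _).symm

theorem shortExact_tL {I : X.Modules} (hI : PicF.IsInvertible I) (S : ShortComplex X.Modules)
    (hS : S.ShortExact) : (S.map (tL I)).ShortExact := by
  obtain ⟨I', -, hI'⟩ := Groth.Agent.InvTensP.exists_inverse I hI
  haveI := isEquivalence_tL hI'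
  exact shortExact_map_of_isEquivalence (tL I) S hS

end Nat


section ExtNat

open Abelian in
/-- compatibility of the connecting classes with a morphism of short exact sequences -/
lemma comp_comp_extClass' {C : Type*} [Category C] [Abelian C] [HasExt C]
    {S' S : ShortComplex C} (hS' : S'.ShortExact)
    (hS : S.ShortExact) (Φ : S' ⟶ S) {G : C} {k : ℕ}
    (a : Ext G S'.X₃ k) {k' : ℕ} (h : k + 1 = k') :
    (a.comp (Ext.mk₀ Φ.τ₃) (add_zero k)).comp hS.extClass h =
      (a.comp hS'.extClass h).comp (Ext.mk₀ Φ.τ₁) (add_zero k') := by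
  rw [Ext.comp_assoc_of_second_deg_zero, ← hS'.extClass_naturality hS Φ,
    ← Ext.comp_assoc_of_third_deg_zero]

end ExtNat

section LES

variable (k : Type u) [Field k] {X : Scheme.{u}} [X.Over (Spec (CommRingCat.of k))]

/-- naturality of the connecting homomorphism -/
theorem δlin_nat {S' S : ShortComplex X.Modules} (hS' : S'.ShortExact) (hS : S.ShortExact)
    (φ : S' ⟶ S) (i : ℕ) (x : Coh.HH X S'.X₃ i) :
    Groth.Agent.ProjFin.δlin k S hS i (Canon.HHlin k φ.τ₃ i x) =
      Canon.HHlin k φ.τ₁ (i + 1) (Groth.Agent.ProjFin.δlin k S' hS' i x) :=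
  comp_comp_extClass' (SerreCrit.shortExact_toSheaf S' hS') (SerreCrit.shortExact_toSheaf S hS)
    ((SerreCrit.TT X).mapShortComplex.map φ) (show Abelian.Ext _ (Coh.toAb S'.X₃) i from x) rfl

/-- `θ` is natural -/
theorem thetaEquiv_comp {A B : X.Modules} (u : Coh.structureModule X ⟶ A) (v : A ⟶ B) :
    CurveIdeal.thetaEquiv k B (u ≫ v) = Canon.HHlin k v 0 (CurveIdeal.thetaEquiv k A u) := by
  show Canon.HHlin k (u ≫ v) 0 (CurveAmple.oneClass X) = _
  rw [CurveAmple.HHlin_comp]
  rfl

end LES

section Core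

variable (k : Type u) [Field k] [IsAlgClosed k] (X : Scheme.{u}) [X.Over (Spec (CommRingCat.of k))]
  [IsIntegral X] [IsProper (X ↘ Spec (CommRingCat.of k))]

/-- the morphism of short complexes `I ⊗ S → S` -/
noncomputable def twistSC (Z : X.IdealSheafData) (S : ShortComplex X.Modules) :
    S.map (tL (ClSub.idealMod Z)) ⟶ S where
  τ₁ := twistι Z S.X₁
  τ₂ := twistι Z S.X₂
  τ₃ := twistι Z S.X₃
  comm₁₂ := (twistι_nat Z S.f).symm
  comm₂₃ := (twistι_nat Z S.g).symm

/-- in genus one, `H¹(I_x ⊗ A) → H¹(A)` is injective for `A ≅ O` -/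
theorem HHlin_twistι_injective (hdim : topologicalKrullDim X = 1) (hg : Curv2.genus k X = 1)
    {x : X} (hx : IsClosed ({x} : Set X)) (hreg : IsRegularLocalRing (X.presheaf.stalk x))
    {A : X.Modules} (e : A ≅ Coh.structureModule X) :
    Function.Injective
      (Canon.HHlin k (twistι (Scheme.IdealSheafData.vanishingIdeal ⟨{x}, hx⟩) A) 1) := by
  haveI : IsLocallyNoetherian X :=
    LocallyOfFiniteType.isLocallyNoetherian (X ↘ Spec (CommRingCat.of k))
  haveI : CompactSpace X :=
    QuasiCompact.compactSpace_of_compactSpace (X ↘ Spec (CommRingCat.of k))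
  haveI : IsNoetherian X := {}
  haveI : Nonempty X := inferInstance
  set Z := Scheme.IdealSheafData.vanishingIdeal ⟨{x}, hx⟩ with hZ
  have hA : PicF.IsInvertible A :=
    TensH8.isInvertible_of_iso' e.symm TensH8.isInvertible_structureModule
  have hI : PicF.IsInvertible (ClSub.idealMod Z) :=
    CurvePtInv.isInvertible_idealMod_point hdim hx hreg
  have hIA := isInvertible_tensorMod hI hA
  haveI := mono_twistι Z hA
  have hAc := ProperFinH9.isCoh_of_isInvertible hA
  have hIAc := ProperFinH9.isCoh_of_isInvertible hIA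
  haveI := hAc.1
  haveI := hIAc.1
  have hτ0 : twistι Z A ≠ 0 := fun h =>
    VBCurve.not_isZero_of_isInvertible hIA (VBCurve.isZero_of_mono_eq_zero _ h)
  -- surjectivity
  have hsurj : Function.Surjective (Canon.HHlin k (twistι Z A) 1) := by
    have hQc : Coh.IsCoh (cokernel (twistι Z A)) := CohKerH8.isCoh_cokernel hIAc hAc _
    haveI : (kernel (twistι Z A)).IsQuasicoherent := SubExt.isQuasicoherent_kernel _
    exact CurveAmple.hmap_surjective_of_kernel_cokernel (twistι Z A) 1
      (CurveRR.HH_subsingleton k X hdim.le _ 2 (by norm_num))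
      (ZeroDimAcyc.HH_subsingleton_of_zero_dim X _ hQc
        (CurveDeg.isClosed_singleton_of_mem_support_cokernel hIA hA _ hτ0 hdim.le) 1 Nat.one_pos)
  -- dimensions
  have hO := CurveRR.euler_eq_sub k X hdim.le (Coh.structureModule X)
  rw [CurveSpec.finrank_HH0_structureModule k X hdim] at hO
  have hgdef : Curv2.genus k X = Module.finrank k (Coh.HH X (Coh.structureModule X) 1) := rfl
  rw [← hgdef, hg] at hO
  have h1A : Module.finrank k (Coh.HH X A 1) = 1 := by
    rw [CurveAmple.finrank_HH_of_iso k X e 1, ← hgdef, hg]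
  have hdegIA : Curv2.deg k X (CohB1.tensorMod (ClSub.idealMod Z) A) 1 = -1 := by
    rw [CurveTens.deg_tensorMod k X hdim.le hI hA, CurvePtInv.deg_idealMod_point k X x hx,
      CurveTens.deg_of_iso k X e 1, CurveDeg.deg_structureModule]
    ring
  have h0IA : Module.finrank k (Coh.HH X (CohB1.tensorMod (ClSub.idealMod Z) A) 0) = 0 := by
    haveI : Subsingleton (Coh.HH X (CohB1.tensorMod (ClSub.idealMod Z) A) 0) := by
      refine ⟨fun a b => ?_⟩
      have key : ∀ v : Coh.HH X (CohB1.tensorMod (ClSub.idealMod Z) A) 0, v = 0 := by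
        intro v
        obtain ⟨u, rfl⟩ := (CurveIdeal.thetaEquiv k _).surjective v
        by_contra hne
        have hu : u ≠ 0 := by
          intro h
          apply hne
          rw [h, map_zero]
        have := CurveDeg.deg_nonneg_of_section k X hdim hIA u hu
        rw [hdegIA] at this
        omega
      rw [key a, key b]
    exact Module.finrank_zero_of_subsingleton
  have hχ := CurveRR.euler_eq_sub k X hdim.le (CohB1.tensorMod (ClSub.idealMod Z) A)
  have hdef : Curv2.deg k X (CohB1.tensorMod (ClSub.idealMod Z) A) 1 =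
      Curv2.euler k X (CohB1.tensorMod (ClSub.idealMod Z) A) -
        ((1 : ℕ) : ℤ) * Curv2.euler k X (Coh.structureModule X) := rfl
  have h1IA : Module.finrank k (Coh.HH X (CohB1.tensorMod (ClSub.idealMod Z) A) 1) = 1 := by
    rw [hdegIA, hχ, hO, h0IA] at hdef
    push_cast at hdef
    have : (Module.finrank k (Coh.HH X (CohB1.tensorMod (ClSub.idealMod Z) A) 1) : ℤ) = 1 := by
      linarith
    exact_mod_cast this
  haveI := ProperFinH9.finite_HH_of_proper k X _ hIAc 1
  haveI := ProperFinH9.finite_HH_of_proper k X _ hAc 1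
  exact (LinearMap.injective_iff_surjective_of_finrank_eq_finrank (h1IA.trans h1A.symm)).2 hsurj

/-- **key lemma**: in genus one, for an extension `0 → O → B → L → 0` with `deg L ≥ 2` some twist
`I_x ⊗ B` by the ideal of a closed point has a nonzero section -/
theorem exists_point_section (hdim : topologicalKrullDim X = 1)
    (hreg : ∀ x : X, IsRegularLocalRing (X.presheaf.stalk x)) (hg : Curv2.genus k X = 1)
    (S : ShortComplex X.Modules) (hS : S.ShortExact) (e : S.X₁ ≅ Coh.structureModule X)
    (hB : FlatMod.IsFinLocFreeOfRank 2 S.X₂)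
    (hL : PicF.IsInvertible S.X₃) (hdeg : 2 ≤ Curv2.deg k X S.X₃ 1) :
    ∃ (x : X) (hx : IsClosed ({x} : Set X)),
      Nontrivial (Coh.HH X (CohB1.tensorMod
        (ClSub.idealMod (Scheme.IdealSheafData.vanishingIdeal ⟨{x}, hx⟩)) S.X₂) 0) := by
  haveI : IsLocallyNoetherian X :=
    LocallyOfFiniteType.isLocallyNoetherian (X ↘ Spec (CommRingCat.of k))
  haveI : Nonempty X := inferInstance
  have hA : PicF.IsInvertible S.X₁ :=
    TensH8.isInvertible_of_iso' e.symm TensH8.isInvertible_structureModule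
  have hA1 : FlatMod.IsFinLocFreeOfRank 1 S.X₁ := finLocFreeOfRank_one_of_isInvertible hA
  have hL1 : FlatMod.IsFinLocFreeOfRank 1 S.X₃ := finLocFreeOfRank_one_of_isInvertible hL
  have hdegB := CurveDegAdd.deg_additive k X S hS 1 2 1 hA1 hB hL1
  rw [CurveTens.deg_of_iso k X e 1, CurveDeg.deg_structureModule, zero_add] at hdegB
  haveI := (CohDevH8.isCoh_structureModule X).1
  have hO := CurveRR.euler_eq_sub k X hdim.le (Coh.structureModule X)
  rw [CurveSpec.finrank_HH0_structureModule k X hdim] at hO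
  have hgdef : Curv2.genus k X = Module.finrank k (Coh.HH X (Coh.structureModule X) 1) := rfl
  rw [← hgdef, hg] at hO
  have hBc : Coh.IsCoh S.X₂ :=
    KerFreeH8.isCoh_of_finLocFree (FLFH8.IsFinLocFreeOfRank.isFinLocFree _ hB)
  haveI := hBc.1
  have hχB := CurveRR.euler_eq_sub k X hdim.le S.X₂
  have hdefB : Curv2.deg k X S.X₂ 2 =
      Curv2.euler k X S.X₂ - ((2 : ℕ) : ℤ) * Curv2.euler k X (Coh.structureModule X) := rfl
  have h0B : 2 ≤ Module.finrank k (Coh.HH X S.X₂ 0) := by
    rw [hdegB, hχB, hO] at hdefB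
    push_cast at hdefB
    have h2 : (0 : ℤ) ≤ (Module.finrank k (Coh.HH X S.X₂ 1) : ℤ) := Int.natCast_nonneg _
    have : (2 : ℤ) ≤ (Module.finrank k (Coh.HH X S.X₂ 0) : ℤ) := by linarith
    exact_mod_cast this
  -- a section of `B` with nonzero image in `L`
  have ht : ∃ t : Coh.structureModule X ⟶ S.X₂, t ≫ S.g ≠ 0 := by
    by_contra hno
    push_neg at hno
    have hz : ∀ v : Coh.HH X S.X₂ 0, Canon.HHlin k S.g 0 v = 0 := by
      intro v
      obtain ⟨t, rfl⟩ := (CurveIdeal.thetaEquiv k S.X₂).surjective v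
      rw [← thetaEquiv_comp, hno t, map_zero]
    have hr : LinearMap.range (Canon.HHlin k S.f 0) = ⊤ := by
      rw [ProperFinH9.range_HHlin_f k S hS 0]
      ext v
      simp only [LinearMap.mem_ker, Submodule.mem_top, iff_true]
      exact hz v
    haveI := ProperFinH9.finite_HH_of_proper k X _ (ProperFinH9.isCoh_of_isInvertible hA) 0
    have h1 := LinearMap.finrank_range_le (Canon.HHlin k S.f 0)
    rw [hr, finrank_top] at h1
    have hA0 : Module.finrank k (Coh.HH X S.X₁ 0) = 1 := by
      rw [CurveAmple.finrank_HH_of_iso k X e 0, CurveSpec.finrank_HH0_structureModule k X hdim]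
    omega
  obtain ⟨t, ht⟩ := ht
  obtain ⟨x, hx, hngen⟩ := G0Pic.exists_closed_not_genAt k X hdim hL (t ≫ S.g) ht (by omega)
  refine ⟨x, hx, ?_⟩
  set Z := Scheme.IdealSheafData.vanishingIdeal ⟨{x}, hx⟩ with hZ
  obtain ⟨s', hs'⟩ := exists_lift_of_not_genAt hx hL (t ≫ S.g) hngen
  have hI : PicF.IsInvertible (ClSub.idealMod Z) :=
    CurvePtInv.isInvertible_idealMod_point hdim hx (hreg x)
  have hS' := shortExact_tL hI S hS
  set v' : Coh.HH X (S.map (tL (ClSub.idealMod Z))).X₃ 0 :=
    CurveIdeal.thetaEquiv k (CohB1.tensorMod (ClSub.idealMod Z) S.X₃) s' with hv'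
  have hv'0 : v' ≠ 0 := by
    intro h
    apply ht
    have h1 : s' = 0 := by
      apply (CurveIdeal.thetaEquiv k _).injective
      exact (hv'.symm.trans h).trans (map_zero _).symm
    rw [← hs', h1, zero_comp]
  have h3 : Canon.HHlin k (twistι Z S.X₃) 0 v' =
      Canon.HHlin k S.g 0 (CurveIdeal.thetaEquiv k _ t) := by
    rw [hv', ← thetaEquiv_comp, ← thetaEquiv_comp, hs']
  have h4 : Groth.Agent.ProjFin.δlin k S hS 0 (Canon.HHlin k (twistι Z S.X₃) 0 v') = 0 := by
    rw [h3, ← LinearMap.mem_ker, ← Groth.Agent.ProjFin.range_HHlin_g]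
    exact ⟨_, rfl⟩
  have h5 := δlin_nat k hS' hS (twistSC X Z S) 0 v'
  have h6 : Groth.Agent.ProjFin.δlin k (S.map (tL (ClSub.idealMod Z))) hS' 0 v' = 0 :=
    HHlin_twistι_injective k X hdim hg hx (hreg x) e
      ((h5.symm.trans h4).trans (map_zero _).symm)
  have h7 : v' ∈ LinearMap.ker (Groth.Agent.ProjFin.δlin k (S.map (tL (ClSub.idealMod Z))) hS' 0) :=
    LinearMap.mem_ker.2 h6
  rw [← Groth.Agent.ProjFin.range_HHlin_g k _ hS' 0] at h7
  obtain ⟨w, hw⟩ := h7
  refine ⟨w, 0, fun h => hv'0 ?_⟩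
  rw [← hw, h]
  exact map_zero _

end Core

end EllNag
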