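import Mathlib
import Groth.Prelude
import Groth.Agent.Lib.VBSat2_helper9

/-!
# The maximal destabilising submodule (first step of the Harder–Narasimhan filtration) (helper9)

Statement of S16470.  APPEND-ONLY once landed.
-/

set_option autoImplicit false
universe u
open CategoryTheory CategoryTheory.Limits AlgebraicGeometry Opposite TopologicalSpace

namespace VBSat

open QcqsLoc QCohExtn

section HN

variable (k : Type u) [Field k] (X : Scheme.{u}) [X.Over (Spec (CommRingCat.of k))]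
  [IsIntegral X] [IsProper (X ↘ Spec (CommRingCat.of k))]

/-- the cokernel of a submodule of maximal slope is finite locally free -/
theorem coker_locFree_of_maxSlope (hreg : ∀ x : X, IsRegularLocalRing (X.presheaf.stalk x))
    (hdim : topologicalKrullDim X = 1) {E E₁ : X.Modules} {r r₁ : ℕ} (hr : 0 < r)
    (hE : FlatMod.IsFinLocFreeOfRank r E) (i₁ : E₁ ⟶ E) [Mono i₁] (hr₁ : 0 < r₁)
    (hE₁ : FlatMod.IsFinLocFreeOfRank r₁ E₁)
    (ha : ∀ (F : X.Modules) (r' : ℕ) (j : F ⟶ E), Mono j → 0 < r' →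
      FlatMod.IsFinLocFreeOfRank r' F →
      Curv2.deg k X F r' * (r₁ : ℤ) ≤ Curv2.deg k X E₁ r₁ * (r' : ℤ)) :
    FlatMod.IsFinLocFree (cokernel i₁) := by
  have hr₁' : (0 : ℤ) < (r₁ : ℤ) := by exact_mod_cast hr₁
  refine coker_locFree_of_max k X hreg hdim i₁ hr₁ hr hE₁ hE (fun P p hp hP => ?_)
  exact le_of_mul_le_mul_right (ha P r₁ p hp hr₁ hP) hr₁'

/-- a second submodule of maximal slope all of whose quotient-submodules have smaller slope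
contains every submodule of maximal slope -/
theorem factor_of_maxSlope (hreg : ∀ x : X, IsRegularLocalRing (X.presheaf.stalk x))
    (hdim : topologicalKrullDim X = 1) {E E₁ E₁' : X.Modules} {r r₁ r₁' : ℕ} (hr : 0 < r)
    (hE : FlatMod.IsFinLocFreeOfRank r E) (i₁ : E₁ ⟶ E) [Mono i₁] (hr₁ : 0 < r₁)
    (hE₁ : FlatMod.IsFinLocFreeOfRank r₁ E₁)
    (ha : ∀ (F : X.Modules) (r' : ℕ) (j : F ⟶ E), Mono j → 0 < r' →
      FlatMod.IsFinLocFreeOfRank r' F →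
      Curv2.deg k X F r' * (r₁ : ℤ) ≤ Curv2.deg k X E₁ r₁ * (r' : ℤ))
    (hb : ∀ (Q : X.Modules) (s : ℕ) (j : Q ⟶ cokernel i₁), Mono j → 0 < s →
      FlatMod.IsFinLocFreeOfRank s Q →
      Curv2.deg k X Q s * (r₁ : ℤ) < Curv2.deg k X E₁ r₁ * (s : ℤ))
    (i₁' : E₁' ⟶ E) [Mono i₁'] (hr₁' : 0 < r₁') (hE₁' : FlatMod.IsFinLocFreeOfRank r₁' E₁')
    (ha' : ∀ (F : X.Modules) (r' : ℕ) (j : F ⟶ E), Mono j → 0 < r' →
      FlatMod.IsFinLocFreeOfRank r' F →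
      Curv2.deg k X F r' * (r₁' : ℤ) ≤ Curv2.deg k X E₁' r₁' * (r' : ℤ)) :
    ∃ a : E₁' ⟶ E₁, a ≫ i₁ = i₁' := by
  haveI : IsLocallyNoetherian X :=
    LocallyOfFiniteType.isLocallyNoetherian (X ↘ Spec (CommRingCat.of k))
  have hr₁Z : (0 : ℤ) < (r₁ : ℤ) := by exact_mod_cast hr₁
  have hr₁'Z : (0 : ℤ) < (r₁' : ℤ) := by exact_mod_cast hr₁'
  -- equal slopes
  have h1 := ha E₁' r₁' i₁' inferInstance hr₁' hE₁'
  have h2 := ha' E₁ r₁ i₁ inferInstance hr₁ hE₁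
  have hμ : Curv2.deg k X E₁ r₁ * (r₁' : ℤ) = Curv2.deg k X E₁' r₁' * (r₁ : ℤ) :=
    le_antisymm h2 h1
  -- `E₁'` is semistable
  have hss' : ModFun.IsSlopeSemistable k X E₁' r₁' := by
    intro F r' j hj hpos hF
    haveI := hj
    exact ha' F r' (j ≫ i₁') inferInstance hpos hF
  have hCf := coker_locFree_of_maxSlope k X hreg hdim hr hE i₁ hr₁ hE₁ ha
  have hS := VBCurve.cokernel_shortExact X i₁
  -- the composite to the cokernel vanishes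
  have hg : i₁' ≫ cokernel.π i₁ = 0 := by
    by_contra hne
    obtain ⟨rK, rI, hI, -, hrI, hle, -, -⟩ :=
      VBCurve.image_slope_ge k X hreg hdim.le (i₁' ≫ cokernel.π i₁) hne hE₁' hCf hss'
    have h3 := hb (Abelian.image (i₁' ≫ cokernel.π i₁)) rI (Abelian.image.ι _) inferInstance hrI hI
    have hrI' : (0 : ℤ) < (rI : ℤ) := by exact_mod_cast hrI
    -- deg E₁' * rI * r₁ ≤ deg I * r₁' * r₁ < deg E₁ * rI * r₁' = deg E₁' * r₁ * rI
    have h4 : Curv2.deg k X E₁' r₁' * (rI : ℤ) * (r₁ : ℤ) ≤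
        Curv2.deg k X (Abelian.image (i₁' ≫ cokernel.π i₁)) rI * (r₁' : ℤ) * (r₁ : ℤ) :=
      mul_le_mul_of_nonneg_right hle hr₁Z.le
    have h5 : Curv2.deg k X (Abelian.image (i₁' ≫ cokernel.π i₁)) rI * (r₁ : ℤ) * (r₁' : ℤ) <
        Curv2.deg k X E₁ r₁ * (rI : ℤ) * (r₁' : ℤ) :=
      mul_lt_mul_of_pos_right h3 hr₁'Z
    have h6 : Curv2.deg k X E₁ r₁ * (rI : ℤ) * (r₁' : ℤ) =
        Curv2.deg k X E₁' r₁' * (rI : ℤ) * (r₁ : ℤ) := by
      calc Curv2.deg k X E₁ r₁ * (rI : ℤ) * (r₁' : ℤ)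
          = (Curv2.deg k X E₁ r₁ * (r₁' : ℤ)) * (rI : ℤ) := by ring
        _ = (Curv2.deg k X E₁' r₁' * (r₁ : ℤ)) * (rI : ℤ) := by rw [hμ]
        _ = _ := by ring
    nlinarith [h4, h5, h6]
  refine ⟨hS.fIsKernel.lift (KernelFork.ofι _ hg), ?_⟩
  exact hS.fIsKernel.fac (KernelFork.ofι _ hg) WalkingParallelPair.zero

/-- **statement of S16470** -/
theorem hn_first_step (hreg : ∀ x : X, IsRegularLocalRing (X.presheaf.stalk x))
    (hdim : topologicalKrullDim X = 1)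
    (r : ℕ) (hr : 0 < r) (E : X.Modules) (hE : FlatMod.IsFinLocFreeOfRank r E) :
    (∃ (E₁ : X.Modules) (r₁ : ℕ) (i₁ : E₁ ⟶ E), Mono i₁ ∧ 0 < r₁ ∧
      FlatMod.IsFinLocFreeOfRank r₁ E₁ ∧
      (∀ (F : X.Modules) (r' : ℕ) (j : F ⟶ E), Mono j → 0 < r' →
        FlatMod.IsFinLocFreeOfRank r' F →
        Curv2.deg k X F r' * (r₁ : ℤ) ≤ Curv2.deg k X E₁ r₁ * (r' : ℤ)) ∧
      (∀ (Q : X.Modules) (s : ℕ) (j : Q ⟶ cokernel i₁), Mono j → 0 < s →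
        FlatMod.IsFinLocFreeOfRank s Q →
        Curv2.deg k X Q s * (r₁ : ℤ) < Curv2.deg k X E₁ r₁ * (s : ℤ))) ∧
    (∀ (E₁ E₁' : X.Modules) (r₁ r₁' : ℕ) (i₁ : E₁ ⟶ E) (i₁' : E₁' ⟶ E),
      Mono i₁ → 0 < r₁ → FlatMod.IsFinLocFreeOfRank r₁ E₁ →
      (∀ (F : X.Modules) (r' : ℕ) (j : F ⟶ E), Mono j → 0 < r' →
        FlatMod.IsFinLocFreeOfRank r' F →
        Curv2.deg k X F r' * (r₁ : ℤ) ≤ Curv2.deg k X E₁ r₁ * (r' : ℤ)) →
      (∀ (Q : X.Modules) (s : ℕ) (j : Q ⟶ cokernel i₁), Mono j → 0 < s →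
        FlatMod.IsFinLocFreeOfRank s Q →
        Curv2.deg k X Q s * (r₁ : ℤ) < Curv2.deg k X E₁ r₁ * (s : ℤ)) →
      Mono i₁' → 0 < r₁' → FlatMod.IsFinLocFreeOfRank r₁' E₁' →
      (∀ (F : X.Modules) (r' : ℕ) (j : F ⟶ E), Mono j → 0 < r' →
        FlatMod.IsFinLocFreeOfRank r' F →
        Curv2.deg k X F r' * (r₁' : ℤ) ≤ Curv2.deg k X E₁' r₁' * (r' : ℤ)) →
      (∀ (Q : X.Modules) (s : ℕ) (j : Q ⟶ cokernel i₁'), Mono j → 0 < s →
        FlatMod.IsFinLocFreeOfRank s Q →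
        Curv2.deg k X Q s * (r₁' : ℤ) < Curv2.deg k X E₁' r₁' * (s : ℤ)) →
      ∃ e : E₁ ≅ E₁', e.hom ≫ i₁' = i₁) := by
  haveI : IsLocallyNoetherian X :=
    LocallyOfFiniteType.isLocallyNoetherian (X ↘ Spec (CommRingCat.of k))
  haveI : Nonempty X := inferInstance
  constructor
  · obtain ⟨E₁, r₁, i₁, hi₁, hr₁, hE₁, ha, hc⟩ := VBCurve.exists_max_destab k X hdim.le hr hE
    haveI := hi₁
    refine ⟨E₁, r₁, i₁, hi₁, hr₁, hE₁, ha, ?_⟩
    intro Q s j hj hs hQ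
    haveI := hj
    have hCf := coker_locFree_of_maxSlope k X hreg hdim hr hE i₁ hr₁ hE₁ ha
    obtain ⟨c, hC⟩ := VBCurve.exists_rank hCf
    obtain ⟨P, p, hp, hP, hPdeg⟩ := VBCurve.exists_preimage k X hreg hdim.le
      (ShortComplex.mk i₁ (cokernel.π i₁) (cokernel.condition i₁))
      (VBCurve.cokernel_shortExact X i₁) hE₁ hE hC j hQ
    have h1 := ha P (r₁ + s) p hp (by omega) hP
    rw [hPdeg] at h1
    push_cast at h1
    have h2 : Curv2.deg k X Q s * (r₁ : ℤ) ≤ Curv2.deg k X E₁ r₁ * (s : ℤ) := by linarith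
    refine lt_of_le_of_ne h2 (fun heq => ?_)
    have h3 : Curv2.deg k X P (r₁ + s) * (r₁ : ℤ) = Curv2.deg k X E₁ r₁ * ((r₁ + s : ℕ) : ℤ) := by
      rw [hPdeg]
      push_cast
      linarith
    have := hc P (r₁ + s) p hp (by omega) hP h3
    omega
  · intro E₁ E₁' r₁ r₁' i₁ i₁' hi₁ hr₁ hE₁ ha hb hi₁' hr₁' hE₁' ha' hb'
    haveI := hi₁
    haveI := hi₁'
    obtain ⟨a, haa⟩ := factor_of_maxSlope k X hreg hdim hr hE i₁ hr₁ hE₁ ha hb i₁' hr₁' hE₁' ha'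
    obtain ⟨b, hbb⟩ := factor_of_maxSlope k X hreg hdim hr hE i₁' hr₁' hE₁' ha' hb' i₁ hr₁ hE₁ ha
    refine ⟨⟨b, a, ?_, ?_⟩, hbb⟩
    · rw [← cancel_mono i₁, Category.assoc, haa, hbb, Category.id_comp]
    · rw [← cancel_mono i₁', Category.assoc, hbb, haa, Category.id_comp]

end HN

end VBSat
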