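import Mathlib
import Groth.Prelude
import Groth.Agent.Lib.VBSat3_helper9
import Groth.Agent.Lib.TensBasis6_helper9
import Groth.Agent.Lib.CurveTens4_helper9
import Groth.Agent.Lib.EllNag1_helper9
import Groth.Agent.Lib.VBCurve3_helper9

/-!
# Twisted (Higgs) pairs on a curve: invariance of the maximal destabilising submodule (helper9)

* `Higgs.exists_untwist`: a submodule of `Q ⊗ L` (`L` invertible) is `G' ⊗ L` for a submodule
  `G'` of `Q` of the same rank and degree `deg G - n deg L`.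
* `Higgs.exists_restriction`: a submodule `E₁ ⊆ E` with `E₁ → E → E ⊗ L → (E/E₁) ⊗ L` zero is
  invariant.
* `Higgs.ss_of_pair_ss`: a semistable pair `(E, φ : E → E ⊗ L)` with `deg L = 0` has `E`
  semistable.
APPEND-ONLY once landed.
-/

set_option autoImplicit false
universe u
open CategoryTheory CategoryTheory.Limits AlgebraicGeometry Opposite TopologicalSpace

namespace Higgs

open Groth.Agent.TensInv

section Iso

variable {X : Scheme.{u}}

theorem isFinLocFreeOfRank_of_iso {M M' : X.Modules} {r : ℕ} (e : M ≅ M')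
    (h : FlatMod.IsFinLocFreeOfRank r M) : FlatMod.IsFinLocFreeOfRank r M' := fun x => by
  obtain ⟨U, hxU, ⟨α⟩⟩ := h x
  exact ⟨U, hxU, ⟨(Scheme.Modules.restrictFunctor U.ι).mapIso e.symm ≪≫ α⟩⟩

/-- a submodule killed by `E → E ⊗ L → (E/E₁) ⊗ L` is invariant -/
theorem exists_restriction {L : X.Modules} (hL : PicF.IsInvertible L) {E E₁ : X.Modules}
    (i₁ : E₁ ⟶ E) [Mono i₁] (φ : E ⟶ CohB1.tensorMod E L)
    (h : i₁ ≫ φ ≫ (tR L).map (cokernel.π i₁) = 0) :
    ∃ χ : E₁ ⟶ CohB1.tensorMod E₁ L, χ ≫ (tR L).map i₁ = i₁ ≫ φ := by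
  have hS : (ShortComplex.mk i₁ (cokernel.π i₁) (cokernel.condition i₁)).ShortExact :=
    ShortComplex.ShortExact.mk' (ShortComplex.exact_cokernel i₁) ‹Mono i₁›
      (inferInstanceAs (Epi (cokernel.π i₁)))
  have hS' := CurveTens.shortExact_tR hL _ hS
  have h' : (i₁ ≫ φ) ≫ ((ShortComplex.mk i₁ (cokernel.π i₁) (cokernel.condition i₁)).map
      (tR L)).g = 0 := by
    rw [Category.assoc]
    exact h
  exact ⟨hS'.fIsKernel.lift (KernelFork.ofι _ h'),
    hS'.fIsKernel.fac (KernelFork.ofι _ h') WalkingParallelPair.zero⟩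

end Iso

section Untwist

variable (k : Type u) [Field k] (X : Scheme.{u}) [X.Over (Spec (CommRingCat.of k))]
  [IsIntegral X] [IsProper (X ↘ Spec (CommRingCat.of k))]

/-- a submodule of `Q ⊗ L` comes from a submodule of `Q` by twisting -/
theorem exists_untwist (hdim : topologicalKrullDim X ≤ 1) {L : X.Modules}
    (hL : PicF.IsInvertible L) {Q G : X.Modules} (j : G ⟶ CohB1.tensorMod Q L) [Mono j] {n : ℕ}
    (hG : FlatMod.IsFinLocFreeOfRank n G) :
    ∃ (G' : X.Modules) (j' : G' ⟶ Q) (c : CohB1.tensorMod G' L ≅ G), Mono j' ∧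
      FlatMod.IsFinLocFreeOfRank n G' ∧
      Curv2.deg k X G' n = Curv2.deg k X G n - n * Curv2.deg k X L 1 ∧
      c.hom ≫ j = (tR L).map j' := by
  obtain ⟨L', hL', ⟨e0⟩⟩ := Groth.Agent.InvTensP.exists_inverse L hL
  haveI : (tR L).IsEquivalence := isEquivalence_tR ⟨e0⟩
  let e := (tR L).asEquivalence
  let c : CohB1.tensorMod (e.inverse.obj G) L ≅ G := e.counitIso.app G
  let u : e.inverse.obj (CohB1.tensorMod Q L) ≅ Q := (e.unitIso.app Q).symm
  let j' : e.inverse.obj G ⟶ Q := e.inverse.map j ≫ u.hom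
  have hj' : Mono j' := by
    haveI : Mono (e.inverse.map j) := inferInstance
    exact mono_comp _ _
  -- rank
  let a : e.inverse.obj G ≅ CohB1.tensorMod G L' :=
    (rightUnit (e.inverse.obj G)).symm ≪≫ mapL (e.inverse.obj G) e0.symm ≪≫
      (assoc (e.inverse.obj G) L L').symm ≪≫ mapR c L'
  have hG' : FlatMod.IsFinLocFreeOfRank n (e.inverse.obj G) :=
    isFinLocFreeOfRank_of_iso a.symm
      (TensBasis.isFinLocFreeOfRank_tensorMod_of_isInvertible hG hL')
  refine ⟨e.inverse.obj G, j', c, hj', hG', ?_, ?_⟩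
  · have h1 := TensBasis.deg_tensorMod_rank' k X hdim hL hG'
    have h2 := CurveTens.deg_of_iso k X c n
    linarith
  · have h1 : (tR L).map u.hom = e.counitIso.hom.app ((tR L).obj Q) :=
      (e.counit_app_functor Q).symm
    have h2 : (tR L).map (e.inverse.map j) ≫ e.counitIso.hom.app ((tR L).obj Q) =
        e.counitIso.hom.app G ≫ j := e.counitIso.hom.naturality j
    exact (((tR L).map_comp (e.inverse.map j) u.hom).trans
      ((congrArg ((tR L).map (e.inverse.map j) ≫ ·) h1).trans h2)).symm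

end Untwist

section SS

variable (k : Type u) [Field k] (X : Scheme.{u}) [X.Over (Spec (CommRingCat.of k))]
  [IsIntegral X] [IsProper (X ↘ Spec (CommRingCat.of k))]

/-- **statement of S16004** over any field -/
theorem ss_of_pair_ss (hreg : ∀ x : X, IsRegularLocalRing (X.presheaf.stalk x))
    (hdim : topologicalKrullDim X = 1) {L : X.Modules} (hL : PicF.IsInvertible L)
    (hL0 : Curv2.deg k X L 1 = 0) {r : ℕ} (hr : 0 < r) {E : X.Modules}
    (hE : FlatMod.IsFinLocFreeOfRank r E) (φ : E ⟶ CohB1.tensorMod E L)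
    (hss : ∀ (G : X.Modules) (n : ℕ) (j : G ⟶ E) (χ : G ⟶ CohB1.tensorMod G L), Mono j → 0 < n →
      FlatMod.IsFinLocFreeOfRank n G → χ ≫ (tR L).map j = j ≫ φ →
      Curv2.deg k X G n * (r : ℤ) ≤ Curv2.deg k X E r * (n : ℤ)) :
    ∀ (G : X.Modules) (n : ℕ) (j : G ⟶ E), Mono j → 0 < n → FlatMod.IsFinLocFreeOfRank n G →
      Curv2.deg k X G n * (r : ℤ) ≤ Curv2.deg k X E r * (n : ℤ) := by
  haveI : IsLocallyNoetherian X :=
    LocallyOfFiniteType.isLocallyNoetherian (X ↘ Spec (CommRingCat.of k))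
  haveI : Nonempty X := inferInstance
  obtain ⟨E₁, r₁, i₁, hi₁, hr₁, hE₁, ha, hb⟩ := (VBSat.hn_first_step k X hreg hdim r hr E hE).1
  haveI := hi₁
  -- `E₁` is semistable
  have hE₁ss : ModFun.IsSlopeSemistable k X E₁ r₁ := fun F r' i hi hr' hF => by
    haveI := hi
    exact ha F r' (i ≫ i₁) (mono_comp _ _) hr' hF
  -- the quotient
  have hCf := VBSat.coker_locFree_of_maxSlope k X hreg hdim hr hE i₁ hr₁ hE₁ ha
  obtain ⟨c, hC⟩ := VBCurve.exists_rank hCf
  have hCL : FlatMod.IsFinLocFreeOfRank c (CohB1.tensorMod (cokernel i₁) L) :=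
    TensBasis.isFinLocFreeOfRank_tensorMod_of_isInvertible hC hL
  -- the composite `E₁ → (E/E₁) ⊗ L` vanishes
  have hzero : i₁ ≫ φ ≫ (tR L).map (cokernel.π i₁) = 0 := by
    refine VBCurve.hom_eq_zero_of_max_slope_lt k X hreg hdim hE₁ hCL hE₁ss ?_ _
    intro G r' j hj hr' hG
    haveI := hj
    obtain ⟨G', j', -, hj', hG', hdeg, -⟩ := exists_untwist k X hdim.le hL j hG
    have := hb G' r' j' hj' hr' hG'
    rw [hdeg, hL0] at this
    simpa using this
  obtain ⟨χ, hχ⟩ := exists_restriction hL i₁ φ hzero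
  have h1 := hss E₁ r₁ i₁ χ hi₁ hr₁ hE₁ hχ
  intro G n j hj hn hG
  have h2 := ha G n j hj hn hG
  have hr₁' : (0 : ℤ) < (r₁ : ℤ) := by exact_mod_cast hr₁
  have hn' : (0 : ℤ) < (n : ℤ) := by exact_mod_cast hn
  have hr' : (0 : ℤ) < (r : ℤ) := by exact_mod_cast hr
  have h3 : (Curv2.deg k X G n * (r : ℤ)) * (r₁ : ℤ) ≤ (Curv2.deg k X E r * (n : ℤ)) * (r₁ : ℤ) := by
    calc (Curv2.deg k X G n * (r : ℤ)) * (r₁ : ℤ)
        = (Curv2.deg k X G n * (r₁ : ℤ)) * (r : ℤ) := by ring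
      _ ≤ (Curv2.deg k X E₁ r₁ * (n : ℤ)) * (r : ℤ) := mul_le_mul_of_nonneg_right h2 hr'.le
      _ = (Curv2.deg k X E₁ r₁ * (r : ℤ)) * (n : ℤ) := by ring
      _ ≤ (Curv2.deg k X E r * (r₁ : ℤ)) * (n : ℤ) := mul_le_mul_of_nonneg_right h1 hn'.le
      _ = _ := by ring
  exact le_of_mul_le_mul_right h3 hr₁'

end SS

end Higgs
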