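import Mathlib
import Groth.Prelude
import Groth.Agent.Lib.Higgs1_helper9

/-!
# Twisted (Higgs) pairs on a curve: morphisms of semistable tuples; sign of `deg L` (helper9)

* `Higgs.slope_le_of_tuple_hom`: a nonzero morphism of semistable tuples does not decrease slopes
  (statement of S16002 over any field).
* `Higgs.deg_nonneg_of_pair_ss`: a semistable pair `(E, φ : E → E ⊗ L)` with `φ ≠ 0` has
  `deg L ≥ 0` (statement of S16003 over any field).
APPEND-ONLY once landed.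
-/

set_option autoImplicit false
universe u
open CategoryTheory CategoryTheory.Limits AlgebraicGeometry Opposite TopologicalSpace

namespace Higgs

open Groth.Agent.TensInv

section Inv

variable {X : Scheme.{u}} [IsIntegral X] [IsLocallyNoetherian X]

/-- kernel and image of a morphism of tuples are invariant -/
theorem ker_im_invariant {L : X.Modules} (hL : PicF.IsInvertible L) {E F : X.Modules}
    (φ : E ⟶ CohB1.tensorMod E L) (ψ : F ⟶ CohB1.tensorMod F L) (f : E ⟶ F)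
    (hf : f ≫ ψ = φ ≫ (tR L).map f) :
    (∃ χ : (VBCurve.kerImSC f).X₁ ⟶ CohB1.tensorMod (VBCurve.kerImSC f).X₁ L,
      χ ≫ (tR L).map (VBCurve.kerImSC f).f = (VBCurve.kerImSC f).f ≫ φ) ∧
    (∃ χ : Abelian.image f ⟶ CohB1.tensorMod (Abelian.image f) L,
      χ ≫ (tR L).map (Abelian.image.ι f) = Abelian.image.ι f ≫ ψ) := by
  obtain ⟨L', hL', ⟨e0⟩⟩ := Groth.Agent.InvTensP.exists_inverse L hL
  haveI : (tR L).IsEquivalence := isEquivalence_tR ⟨e0⟩
  have hS := VBCurve.kerImSC_shortExact f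
  have hS' := CurveTens.shortExact_tR hL _ hS
  let φ' : E ⟶ (tR L).obj E := φ
  let ψ' : F ⟶ (tR L).obj F := ψ
  have hf' : f ≫ ψ' = φ' ≫ (tR L).map f := hf
  let κ : kernel (Abelian.factorThruImage f) ⟶ E := kernel.ι (Abelian.factorThruImage f)
  have hκf : κ ≫ f = 0 := VBCurve.kerImSC_f_comp f
  haveI : Mono ((tR L).map (Abelian.image.ι f)) := inferInstance
  have hfac : (tR L).map (Abelian.factorThruImage f) ≫ (tR L).map (Abelian.image.ι f) =
      (tR L).map f := by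
    rw [← Functor.map_comp, Abelian.image.fac]
  have h0 : κ ≫ φ' ≫ (tR L).map (Abelian.factorThruImage f) = 0 := by
    rw [← cancel_mono ((tR L).map (Abelian.image.ι f)), zero_comp, Category.assoc, Category.assoc,
      hfac, ← hf', ← Category.assoc, hκf, zero_comp]
  have h0' : (κ ≫ φ') ≫ ((VBCurve.kerImSC f).map (tR L)).g = 0 := by
    rw [Category.assoc]
    exact h0
  refine ⟨⟨hS'.fIsKernel.lift (KernelFork.ofι _ h0'),
    hS'.fIsKernel.fac (KernelFork.ofι _ h0') WalkingParallelPair.zero⟩, ?_⟩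
  have h0'' : (VBCurve.kerImSC f).f ≫ (φ' ≫ (tR L).map (Abelian.factorThruImage f)) = 0 := h0
  obtain ⟨χ', hd⟩ : ∃ χ' : Abelian.image f ⟶ (tR L).obj (Abelian.image f),
      Abelian.factorThruImage f ≫ χ' = φ' ≫ (tR L).map (Abelian.factorThruImage f) :=
    ⟨hS.gIsCokernel.desc (CokernelCofork.ofπ _ h0''),
      hS.gIsCokernel.fac (CokernelCofork.ofπ _ h0'') WalkingParallelPair.one⟩
  refine ⟨χ', ?_⟩
  haveI : Epi (Abelian.factorThruImage f) := inferInstance
  show χ' ≫ (tR L).map (Abelian.image.ι f) = Abelian.image.ι f ≫ ψ'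
  rw [← cancel_epi (Abelian.factorThruImage f), ← Category.assoc, hd, Category.assoc, hfac, ← hf',
    ← Category.assoc, Abelian.image.fac]

end Inv

section Tuple

variable (k : Type u) [Field k] (X : Scheme.{u}) [X.Over (Spec (CommRingCat.of k))]
  [IsIntegral X] [IsProper (X ↘ Spec (CommRingCat.of k))]

/-- **statement of S16002** over any field -/
theorem slope_le_of_tuple_hom (hreg : ∀ x : X, IsRegularLocalRing (X.presheaf.stalk x))
    (hdim : topologicalKrullDim X = 1) {ι : Type*} (L : ι → X.Modules)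
    (hL : ∀ i, PicF.IsInvertible (L i)) {r s : ℕ} (hr : 0 < r) (hs : 0 < s) {E F : X.Modules}
    (hE : FlatMod.IsFinLocFreeOfRank r E) (hF : FlatMod.IsFinLocFreeOfRank s F)
    (φ : ∀ i, E ⟶ CohB1.tensorMod E (L i)) (ψ : ∀ i, F ⟶ CohB1.tensorMod F (L i))
    (hEss : ∀ (G : X.Modules) (n : ℕ) (j : G ⟶ E), Mono j → 0 < n →
      FlatMod.IsFinLocFreeOfRank n G →
      (∀ i, ∃ χ : G ⟶ CohB1.tensorMod G (L i), χ ≫ (tR (L i)).map j = j ≫ φ i) →
      Curv2.deg k X G n * (r : ℤ) ≤ Curv2.deg k X E r * (n : ℤ))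
    (hFss : ∀ (G : X.Modules) (n : ℕ) (j : G ⟶ F), Mono j → 0 < n →
      FlatMod.IsFinLocFreeOfRank n G →
      (∀ i, ∃ χ : G ⟶ CohB1.tensorMod G (L i), χ ≫ (tR (L i)).map j = j ≫ ψ i) →
      Curv2.deg k X G n * (s : ℤ) ≤ Curv2.deg k X F s * (n : ℤ))
    (f : E ⟶ F) (hf : ∀ i, f ≫ ψ i = φ i ≫ (tR (L i)).map f) (hne : f ≠ 0) :
    Curv2.deg k X E r * (s : ℤ) ≤ Curv2.deg k X F s * (r : ℤ) := by
  haveI : IsLocallyNoetherian X :=
    LocallyOfFiniteType.isLocallyNoetherian (X ↘ Spec (CommRingCat.of k))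
  obtain ⟨rK, rI, hK, hI, hrr, hrI, hdeg, hz⟩ := VBCurve.exists_kerIm_data k X hreg hdim.le f hne hE
    (FLFH8.IsFinLocFreeOfRank.isFinLocFree F hF)
  have hS := VBCurve.kerImSC_shortExact f
  haveI : Mono (VBCurve.kerImSC f).f := hS.mono_f
  have h1 := hFss (Abelian.image f) rI (Abelian.image.ι f) inferInstance hrI hI
    (fun i => (ker_im_invariant (hL i) (φ i) (ψ i) f (hf i)).2)
  have h2 : Curv2.deg k X E r * (rI : ℤ) ≤ Curv2.deg k X (Abelian.image f) rI * (r : ℤ) := by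
    rcases Nat.eq_zero_or_pos rK with h0 | hpos
    · obtain ⟨hdK, -⟩ := hz h0
      have : r = rI := by omega
      subst this
      rw [hdeg, hdK, zero_add]
    · have h3 := hEss (VBCurve.kerImSC f).X₁ rK (VBCurve.kerImSC f).f hS.mono_f hpos hK
        (fun i => (ker_im_invariant (hL i) (φ i) (ψ i) f (hf i)).1)
      have h4 : (r : ℤ) = (rK : ℤ) + (rI : ℤ) := by exact_mod_cast hrr
      rw [hdeg] at h3 ⊢
      rw [h4] at h3 ⊢
      nlinarith [h3]
  have hrI' : (0 : ℤ) < (rI : ℤ) := by exact_mod_cast hrI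
  have hr' : (0 : ℤ) < (r : ℤ) := by exact_mod_cast hr
  have hs' : (0 : ℤ) < (s : ℤ) := by exact_mod_cast hs
  have h5 : (Curv2.deg k X E r * (s : ℤ)) * (rI : ℤ) ≤ (Curv2.deg k X F s * (r : ℤ)) * (rI : ℤ) := by
    calc (Curv2.deg k X E r * (s : ℤ)) * (rI : ℤ)
        = (Curv2.deg k X E r * (rI : ℤ)) * (s : ℤ) := by ring
      _ ≤ (Curv2.deg k X (Abelian.image f) rI * (r : ℤ)) * (s : ℤ) :=
          mul_le_mul_of_nonneg_right h2 hs'.le
      _ = (Curv2.deg k X (Abelian.image f) rI * (s : ℤ)) * (r : ℤ) := by ring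
      _ ≤ (Curv2.deg k X F s * (rI : ℤ)) * (r : ℤ) := mul_le_mul_of_nonneg_right h1 hr'.le
      _ = _ := by ring
  exact le_of_mul_le_mul_right h5 hrI'

/-- **statement of S16003** over any field -/
theorem deg_nonneg_of_pair_ss (hreg : ∀ x : X, IsRegularLocalRing (X.presheaf.stalk x))
    (hdim : topologicalKrullDim X = 1) {L : X.Modules} (hL : PicF.IsInvertible L)
    {r : ℕ} (hr : 0 < r) {E : X.Modules}
    (hE : FlatMod.IsFinLocFreeOfRank r E) (φ : E ⟶ CohB1.tensorMod E L)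
    (hss : ∀ (G : X.Modules) (n : ℕ) (j : G ⟶ E) (χ : G ⟶ CohB1.tensorMod G L), Mono j → 0 < n →
      FlatMod.IsFinLocFreeOfRank n G → χ ≫ (tR L).map j = j ≫ φ →
      Curv2.deg k X G n * (r : ℤ) ≤ Curv2.deg k X E r * (n : ℤ))
    (hφ : φ ≠ 0) : 0 ≤ Curv2.deg k X L 1 := by
  haveI : IsLocallyNoetherian X :=
    LocallyOfFiniteType.isLocallyNoetherian (X ↘ Spec (CommRingCat.of k))
  have hEL : FlatMod.IsFinLocFreeOfRank r (CohB1.tensorMod E L) :=
    TensBasis.isFinLocFreeOfRank_tensorMod_of_isInvertible hE hL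
  obtain ⟨rK, rI, hK, hI, hrr, hrI, hdeg, hz⟩ := VBCurve.exists_kerIm_data k X hreg hdim.le φ hφ hE
    (FLFH8.IsFinLocFreeOfRank.isFinLocFree _ hEL)
  have hS := VBCurve.kerImSC_shortExact φ
  haveI : Mono (VBCurve.kerImSC φ).f := hS.mono_f
  have h2 : Curv2.deg k X E r * (rI : ℤ) ≤ Curv2.deg k X (Abelian.image φ) rI * (r : ℤ) := by
    rcases Nat.eq_zero_or_pos rK with h0 | hpos
    · obtain ⟨hdK, -⟩ := hz h0
      have : r = rI := by omega
      subst this
      rw [hdeg, hdK, zero_add]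
    · have h3 := hss (VBCurve.kerImSC φ).X₁ rK (VBCurve.kerImSC φ).f 0 hS.mono_f hpos hK
        (zero_comp.trans (VBCurve.kerImSC_f_comp φ).symm)
      have h4 : (r : ℤ) = (rK : ℤ) + (rI : ℤ) := by exact_mod_cast hrr
      rw [hdeg] at h3 ⊢
      rw [h4] at h3 ⊢
      nlinarith [h3]
  obtain ⟨G', j', c, hj', hG', hdG', hc⟩ :=
    exists_untwist k X hdim.le hL (Abelian.image.ι φ) hI
  have hc' : c.inv ≫ (tR L).map j' = Abelian.image.ι φ := (Iso.inv_comp_eq c).mpr hc.symm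
  have hχ : (j' ≫ Abelian.factorThruImage φ ≫ c.inv) ≫ (tR L).map j' = j' ≫ φ :=
    (Category.assoc _ _ _).trans (congrArg (j' ≫ ·) ((Category.assoc _ _ _).trans
      ((congrArg (Abelian.factorThruImage φ ≫ ·) hc').trans (Abelian.image.fac φ))))
  have h3 := hss G' rI j' _ hj' hrI hG' hχ
  rw [hdG'] at h3
  have hrI' : (0 : ℤ) < (rI : ℤ) := by exact_mod_cast hrI
  have hr' : (0 : ℤ) < (r : ℤ) := by exact_mod_cast hr
  by_contra hneg
  rw [not_le] at hneg
  have h6 : (rI : ℤ) * Curv2.deg k X L 1 * (r : ℤ) < 0 := by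
    have : (rI : ℤ) * Curv2.deg k X L 1 < 0 := mul_neg_of_pos_of_neg hrI' hneg
    exact mul_neg_of_neg_of_pos this hr'
  nlinarith [h2, h3, h6]

end Tuple

end Higgs
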