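import Mathlib
import Groth.Prelude
import Groth.Agent.Lib.Higgs2_helper9
import Groth.Agent.Lib.EllNag3_helper9
import Groth.Agent.Lib.Ruled2_helper9
import Groth.Agent.Lib.VBCurve5_helper9

/-!
# Stable twisted pairs of rank two on a curve of genus one (helper9)

`Higgs.stable_of_pair_stable`: on a regular integral proper curve of genus one over an
algebraically closed field, for `L` invertible of degree `0` with `L ⊗ L ≄ O`, a stable pair
`(E, φ : E → E ⊗ L)` of rank two has `E` stable (statement of S16006).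
APPEND-ONLY once landed.
-/

set_option autoImplicit false
universe u
open CategoryTheory CategoryTheory.Limits AlgebraicGeometry Opposite TopologicalSpace

namespace Higgs

open Groth.Agent.TensInv Groth.Agent.HHVan

section Cancel

variable {X : Scheme.{u}}

/-- `M ≅ M ⊗ K` with `M` invertible forces `K ≅ O` -/
theorem nonempty_iso_of_cancel {M K : X.Modules} (hM : PicF.IsInvertible M)
    (e : M ≅ CohB1.tensorMod M K) : Nonempty (K ≅ Coh.structureModule X) := by
  obtain ⟨M', -, ⟨e0⟩⟩ := Groth.Agent.InvTensP.exists_inverse M hM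
  obtain ⟨e1⟩ := swap ⟨e0⟩
  exact ⟨(Groth.Agent.CMMul.unitorL K).symm ≪≫ mapR e1.symm K ≪≫ assoc M' M K ≪≫
    mapL M' e.symm ≪≫ e1⟩

end Cancel

section Ell

variable (k : Type u) [Field k] [IsAlgClosed k] (X : Scheme.{u}) [X.Over (Spec (CommRingCat.of k))]
  [IsIntegral X] [IsProper (X ↘ Spec (CommRingCat.of k))]

/-- on a curve of genus one, invertible modules `P`, `Q` of the same degree with
`H¹(P ⊗ Q⁻¹) ≠ 0` are isomorphic -/
theorem nonempty_iso_of_HH1 (hdim : topologicalKrullDim X = 1) (hg : Curv2.genus k X = 1)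
    {P Q M : X.Modules} (hP : PicF.IsInvertible P) (hQ : PicF.IsInvertible Q)
    (hM : PicF.IsInvertible M) (eM : CohB1.tensorMod Q M ≅ Coh.structureModule X)
    (hdeg : Curv2.deg k X P 1 = Curv2.deg k X Q 1)
    (hH1 : Nontrivial (Coh.HH X (CohB1.tensorMod P M) 1)) : Nonempty (Q ≅ P) := by
  haveI : IsLocallyNoetherian X :=
    LocallyOfFiniteType.isLocallyNoetherian (X ↘ Spec (CommRingCat.of k))
  haveI : Nonempty X := inferInstance
  have hdegM : Curv2.deg k X M 1 = - Curv2.deg k X Q 1 := by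
    have h1 := CurveTens.deg_tensorMod k X hdim.le hQ hM
    rw [CurveTens.deg_of_iso k X eM 1, CurveDeg.deg_structureModule] at h1
    linarith
  have hPM := TensH8.isInvertible_tensorMod hP hM
  have hdegPM := CurveTens.deg_tensorMod k X hdim.le hP hM
  have hdeg0 : Curv2.deg k X (CohB1.tensorMod P M) 1 = 0 := by
    rw [hdegPM, hdegM, hdeg]; ring
  haveI := (ProperFinH9.isCoh_of_isInvertible hPM).1
  haveI := (CohDevH8.isCoh_structureModule X).1
  have hχ := CurveRR.euler_eq_sub k X hdim.le (CohB1.tensorMod P M)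
  have hO := CurveRR.euler_eq_sub k X hdim.le (Coh.structureModule X)
  rw [CurveSpec.finrank_HH0_structureModule k X hdim] at hO
  have hgdef : Curv2.genus k X = Module.finrank k (Coh.HH X (Coh.structureModule X) 1) := rfl
  rw [← hgdef, hg] at hO
  have hdef : Curv2.deg k X (CohB1.tensorMod P M) 1 =
      Curv2.euler k X (CohB1.tensorMod P M) -
        ((1 : ℕ) : ℤ) * Curv2.euler k X (Coh.structureModule X) := rfl
  haveI := ProperFinH9.finite_HH_of_proper k X _ (ProperFinH9.isCoh_of_isInvertible hPM) 1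
  have h1pos : 0 < Module.finrank k (Coh.HH X (CohB1.tensorMod P M) 1) := Module.finrank_pos
  have h0pos : 0 < Module.finrank k (Coh.HH X (CohB1.tensorMod P M) 0) := by
    rw [hdeg0, hχ, hO] at hdef
    push_cast at hdef
    have h2 : (0 : ℤ) < (Module.finrank k (Coh.HH X (CohB1.tensorMod P M) 1) : ℤ) := by
      exact_mod_cast h1pos
    have : (0 : ℤ) < (Module.finrank k (Coh.HH X (CohB1.tensorMod P M) 0) : ℤ) := by linarith
    exact_mod_cast this
  haveI := ProperFinH9.finite_HH_of_proper k X _ (ProperFinH9.isCoh_of_isInvertible hPM) 0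
  obtain ⟨v, hv⟩ := Module.finrank_pos_iff_exists_ne_zero.mp h0pos
  set u := (CurveIdeal.thetaEquiv k (CohB1.tensorMod P M)).symm v with hudef
  have hu : u ≠ 0 := by
    intro h
    apply hv
    have := congrArg (CurveIdeal.thetaEquiv k (CohB1.tensorMod P M)) h
    rw [hudef, LinearEquiv.apply_symm_apply, map_zero] at this
    exact this
  haveI := CurveDeg.isIso_of_deg_nonpos k X hdim hPM u hu hdeg0.le
  haveI : (tR M).IsEquivalence := isEquivalence_tR (swap ⟨eM⟩)
  let eu : Coh.structureModule X ≅ CohB1.tensorMod P M := asIso u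
  exact ⟨(tR M).preimageIso
    (show (tR M).obj Q ≅ (tR M).obj P from eM ≪≫ eu)⟩

/-- **statement of S16006** -/
theorem stable_of_pair_stable (hreg : ∀ x : X, IsRegularLocalRing (X.presheaf.stalk x))
    (hdim : topologicalKrullDim X = 1) (hg : Curv2.genus k X = 1)
    {L : X.Modules} (hL : PicF.IsInvertible L) (hL0 : Curv2.deg k X L 1 = 0)
    (hL2 : ¬ Nonempty (CohB1.tensorMod L L ≅ Coh.structureModule X))
    {E : X.Modules} (hE : FlatMod.IsFinLocFreeOfRank 2 E) (φ : E ⟶ CohB1.tensorMod E L)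
    (hst : ∀ (G : X.Modules) (n : ℕ) (j : G ⟶ E) (χ : G ⟶ CohB1.tensorMod G L), Mono j → 0 < n →
      n < 2 → FlatMod.IsFinLocFreeOfRank n G → χ ≫ (tR L).map j = j ≫ φ →
      Curv2.deg k X G n * (2 : ℤ) < Curv2.deg k X E 2 * (n : ℤ)) :
    ∀ (G : X.Modules) (n : ℕ) (j : G ⟶ E), Mono j → 0 < n → n < 2 →
      FlatMod.IsFinLocFreeOfRank n G →
      Curv2.deg k X G n * (2 : ℤ) < Curv2.deg k X E 2 * (n : ℤ) := by
  haveI : IsLocallyNoetherian X :=
    LocallyOfFiniteType.isLocallyNoetherian (X ↘ Spec (CommRingCat.of k))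
  haveI : Nonempty X := inferInstance
  intro G n j hj hn hn2 hG
  have hn1 : n = 1 := by omega
  subst hn1
  by_contra hnot
  rw [not_lt] at hnot
  -- `E` is semistable
  have hss : ∀ (G : X.Modules) (n : ℕ) (j : G ⟶ E), Mono j → 0 < n →
      FlatMod.IsFinLocFreeOfRank n G →
      Curv2.deg k X G n * ((2 : ℕ) : ℤ) ≤ Curv2.deg k X E 2 * (n : ℤ) := by
    refine ss_of_pair_ss k X hreg hdim hL hL0 (by norm_num) hE φ (fun G n j χ hj hn hG hχ => ?_)
    haveI := hj
    have hle : n ≤ 2 := CurveSub.rank_le_of_mono j hG hE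
    rcases Nat.lt_or_ge n 2 with h | h
    · exact_mod_cast (hst G n j χ hj hn h hG hχ).le
    · have h2 : n = 2 := by omega
      subst h2
      have := (VBCurve.deg_le_of_mono_same_rank k X hdim j hG hE).1
      push_cast
      linarith
  -- a maximal invertible submodule
  obtain ⟨M, p, hp, hM, hmax⟩ := EllNag.exists_max_sub k X hdim hreg E hE
  haveI := hp
  obtain ⟨hNinv, hdegE⟩ := EllNag.isInvertible_cokernel_of_max k X hdim hreg E hE p hM hmax
  have hGinv := CurveG12.isInvertible_of_rank_one hG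
  have h1 := hmax G j hj hGinv
  have hM1 := FLFH8.finLocFreeOfRank_one_of_isInvertible hM
  have h2 := hss M 1 p hp one_pos hM1
  push_cast at h2 hnot
  have hdM : Curv2.deg k X M 1 * 2 = Curv2.deg k X E 2 := by linarith
  have hdMN : Curv2.deg k X M 1 = Curv2.deg k X (cokernel p) 1 := by linarith
  -- key: a destabilising line subbundle is not invariant, hence `A ≅ (E/A) ⊗ L`
  have key : ∀ {A : X.Modules} (a : A ⟶ E) [Mono a], PicF.IsInvertible A →
      PicF.IsInvertible (cokernel a) → Curv2.deg k X A 1 * 2 = Curv2.deg k X E 2 →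
      Curv2.deg k X A 1 = Curv2.deg k X (cokernel a) 1 →
      Nonempty (A ≅ CohB1.tensorMod (cokernel a) L) := by
    intro A a _ hA hC hdA hdAC
    have hCL := TensH8.isInvertible_tensorMod hC hL
    have hdCL := CurveTens.deg_tensorMod k X hdim.le hC hL
    rcases VBCurve.line_hom_cases k X hdim hA hCL (a ≫ φ ≫ (tR L).map (cokernel.π a)) with h0 | h0
    · exfalso
      obtain ⟨χ, hχ⟩ := exists_restriction hL a φ h0
      have := hst A 1 a χ inferInstance one_pos (by norm_num)
        (FLFH8.finLocFreeOfRank_one_of_isInvertible hA) hχ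
      push_cast at this
      linarith
    · obtain ⟨-, -, hiso⟩ := h0
      haveI := hiso (by rw [hdCL, hL0, add_zero, hdAC])
      exact ⟨asIso (a ≫ φ ≫ (tR L).map (cokernel.π a))⟩
  obtain ⟨e1⟩ := key p hM hNinv hdM hdMN
  by_cases hsplit : ∃ s : cokernel p ⟶ E, s ≫ cokernel.π p = 𝟙 _
  · -- split case
    obtain ⟨s, hs⟩ := hsplit
    haveI : Mono s := mono_of_mono_fac hs
    have hmax' : ∀ (P' : X.Modules) (p' : P' ⟶ E), Mono p' → PicF.IsInvertible P' →
        Curv2.deg k X P' 1 ≤ Curv2.deg k X (cokernel p) 1 := fun P' p' hp' hP' => by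
      rw [← hdMN]; exact hmax P' p' hp' hP'
    obtain ⟨hN'inv, hdegE'⟩ :=
      EllNag.isInvertible_cokernel_of_max k X hdim hreg E hE s hNinv hmax'
    have hdN : Curv2.deg k X (cokernel p) 1 * 2 = Curv2.deg k X E 2 := by linarith
    have hdNN' : Curv2.deg k X (cokernel p) 1 = Curv2.deg k X (cokernel s) 1 := by linarith
    obtain ⟨e2⟩ := key s hNinv hN'inv hdN hdNN'
    -- `M ≅ E / s(N)`
    have hne : p ≫ cokernel.π s ≠ 0 := by
      intro h0
      have ha : Abelian.monoLift s p h0 ≫ s = p := Abelian.monoLift_comp s p h0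
      have ha0 : Abelian.monoLift s p h0 = 0 := by
        calc Abelian.monoLift s p h0
            = Abelian.monoLift s p h0 ≫ (s ≫ cokernel.π p) := by rw [hs, Category.comp_id]
          _ = (Abelian.monoLift s p h0 ≫ s) ≫ cokernel.π p := (Category.assoc _ _ _).symm
          _ = p ≫ cokernel.π p := by rw [ha]
          _ = 0 := cokernel.condition p
      have hp0 : p = 0 := by rw [← ha, ha0, zero_comp]
      exact VBCurve.not_isZero_of_isInvertible hM (VBCurve.isZero_of_mono_eq_zero p hp0)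
    obtain ⟨e3⟩ : Nonempty (M ≅ cokernel s) := by
      rcases VBCurve.line_hom_cases k X hdim hM hN'inv (p ≫ cokernel.π s) with h0 | ⟨-, -, hiso⟩
      · exact absurd h0 hne
      · haveI := hiso (by rw [hdMN, hdNN'])
        exact ⟨asIso (p ≫ cokernel.π s)⟩
    -- `M ≅ M ⊗ (L ⊗ L)`
    have e4 : M ≅ CohB1.tensorMod M (CohB1.tensorMod L L) :=
      e1 ≪≫ mapR (e2 ≪≫ mapR e3.symm L) L ≪≫ assoc M L L
    exact hL2 (nonempty_iso_of_cancel hM e4)
  · -- non-split case
    obtain ⟨N', hN', ⟨eN'⟩⟩ := Groth.Agent.InvTensP.exists_inverse _ hNinv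
    have hH1 : Nontrivial (Coh.HH X (CohB1.tensorMod M N') 1) := by
      by_contra hno
      rw [not_nontrivial_iff_subsingleton] at hno
      exact hsplit (Ruled.exists_section k X
        (ShortComplex.mk p (cokernel.π p) (cokernel.condition p))
        (VBCurve.cokernel_shortExact X p) hN' eN' hno)
    obtain ⟨e5⟩ := nonempty_iso_of_HH1 k X hdim hg hM hNinv hN' eN' hdMN hH1
    -- `M ≅ M ⊗ L`, so `L ≅ O`
    obtain ⟨eL⟩ := nonempty_iso_of_cancel hM (e1 ≪≫ mapR e5 L)
    exact hL2 ⟨mapR eL L ≪≫ Groth.Agent.CMMul.unitorL L ≪≫ eL⟩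

end Ell

end Higgs
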