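import Mathlib
import Groth.Prelude
import Groth.Agent.Lib.Baer1_helper9
import Groth.Agent.Lib.Higgs4_helper9

/-!
# Extensions by the structure module and their classes in `H¹` (helper9)

For a short exact sequence `0 → A → E → O → 0` of `O_X`-modules the class `δ(1) ∈ H¹(A)`; equal
classes give isomorphic middle terms (Baer difference).  Application: the normalized
indecomposable rank two module of degree zero on a curve of genus one is unique (S12431).
APPEND-ONLY once landed.
-/

set_option autoImplicit false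
universe u
open CategoryTheory CategoryTheory.Limits AlgebraicGeometry Opposite TopologicalSpace

namespace BaerCoh

open Groth.Agent.HHVan

section Class

variable (k : Type u) [Field k] {X : Scheme.{u}} [X.Over (Spec (CommRingCat.of k))]

/-- the connecting map `H⁰(X₃) → H¹(X₁)` of a short exact sequence of modules -/
noncomputable def delta (S : ShortComplex X.Modules) (hS : S.ShortExact)
    (x : Coh.HH X S.X₃ 0) : Coh.HH X S.X₁ 1 :=
  Abelian.Ext.comp x (SerreCrit.shortExact_toSheaf S hS).extClass (zero_add 1)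

theorem delta_naturality {S S' : ShortComplex X.Modules} (hS : S.ShortExact) (hS' : S'.ShortExact)
    (φ : S ⟶ S') (x : Coh.HH X S.X₃ 0) :
    hmap φ.τ₁ 1 (delta S hS x) = delta S' hS' (hmap φ.τ₃ 0 x) := by
  have hnat := ShortComplex.ShortExact.extClass_naturality
    (SerreCrit.shortExact_toSheaf S hS) (SerreCrit.shortExact_toSheaf S' hS')
    ((SerreCrit.TT X).mapShortComplex.map φ)
  show Abelian.Ext.comp (Abelian.Ext.comp x (SerreCrit.shortExact_toSheaf S hS).extClass (zero_add 1))
      (Abelian.Ext.mk₀ ((SerreCrit.TT X).map φ.τ₁)) (add_zero 1) =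
    Abelian.Ext.comp (Abelian.Ext.comp x (Abelian.Ext.mk₀ ((SerreCrit.TT X).map φ.τ₃)) (add_zero 0))
      (SerreCrit.shortExact_toSheaf S' hS').extClass (zero_add 1)
  refine (Abelian.Ext.comp_assoc_of_third_deg_zero x _ _ (zero_add 1)).trans ?_
  refine Eq.trans ?_ (Abelian.Ext.comp_assoc_of_second_deg_zero x _ _ (zero_add 1)).symm
  exact congrArg (fun t => Abelian.Ext.comp x t (zero_add 1)) hnat

include k in
theorem hmap_sub {M N : X.Modules} (f g : M ⟶ N) (i : ℕ) (x : Coh.HH X M i) :
    hmap (f - g) i x = hmap f i x - hmap g i x := by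
  have h := LinearMap.congr_fun (CurveAmple.HHlin_add k (f - g) g i) x
  rw [sub_add_cancel] at h
  exact eq_sub_of_add_eq h.symm

theorem hmap_id' {M : X.Modules} (i : ℕ) (x : Coh.HH X M i) : hmap (𝟙 M) i x = x := by
  show Sheaf.H.map ((SerreCrit.TT X).map (𝟙 M)) i x = x
  rw [CategoryTheory.Functor.map_id]
  exact Sheaf.H.map_id_apply x

theorem hmap_smul_id {M : X.Modules} (c : k) (i : ℕ) (x : Coh.HH X M i) :
    hmap (c • 𝟙 M) i x = c • x := by
  have h := LinearMap.congr_fun (CurveAmple.HHlin_smul k c (𝟙 M) i) x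
  have h2 : Canon.HHlin k (𝟙 M) i x = x := hmap_id' i x
  rw [LinearMap.smul_apply, h2] at h
  exact h

/-- the class `δ(1) ∈ H¹(A)` of an extension `0 → A → E → O → 0` -/
noncomputable def cls {A E : X.Modules} (i : A ⟶ E) (π : E ⟶ Coh.structureModule X)
    (w : i ≫ π = 0) (hS : (ShortComplex.mk i π w).ShortExact) : Coh.HH X A 1 :=
  delta (ShortComplex.mk i π w) hS (CurveAmple.oneClass X)

include k in
/-- an extension with zero class splits -/
theorem exists_section_of_cls_eq_zero {A E : X.Modules} (i : A ⟶ E)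
    (π : E ⟶ Coh.structureModule X) (w : i ≫ π = 0) (hS : (ShortComplex.mk i π w).ShortExact)
    (h : cls i π w hS = 0) : ∃ σ : Coh.structureModule X ⟶ E, σ ≫ π = 𝟙 _ := by
  obtain ⟨y, hy⟩ := Abelian.Ext.covariant_sequence_exact₃ _
    (SerreCrit.shortExact_toSheaf (ShortComplex.mk i π w) hS)
    (show Abelian.Ext _ (Coh.toAb (Coh.structureModule X)) 0 from CurveAmple.oneClass X) rfl h
  have hy' : hmap π 0 y = CurveAmple.oneClass X := hy
  obtain ⟨σ, rfl⟩ := (CurveIdeal.thetaEquiv k E).surjective y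
  refine ⟨σ, ?_⟩
  apply (CurveIdeal.thetaEquiv k (Coh.structureModule X)).injective
  show Canon.HHlin k (σ ≫ π) 0 (CurveAmple.oneClass X) =
    Canon.HHlin k (𝟙 _) 0 (CurveAmple.oneClass X)
  rw [CurveAmple.HHlin_comp]
  exact hy'.trans (hmap_id' 0 _).symm

include k in
/-- extensions of `O` by `A` with the same class have isomorphic middle terms -/
theorem nonempty_iso_of_cls_eq {A E E' : X.Modules} (i : A ⟶ E)
    (π : E ⟶ Coh.structureModule X) (w : i ≫ π = 0) (hS : (ShortComplex.mk i π w).ShortExact)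
    (i' : A ⟶ E') (π' : E' ⟶ Coh.structureModule X) (w' : i' ≫ π' = 0)
    (hS' : (ShortComplex.mk i' π' w').ShortExact)
    (h : cls i π w hS = cls i' π' w' hS') : Nonempty (E ≅ E') := by
  let D : Baer.Data X.Modules := ⟨A, Coh.structureModule X, E, E', i, π, i', π', w, w', hS, hS'⟩
  have h1 := delta_naturality D.SP_shortExact hS D.φ₁ (CurveAmple.oneClass X)
  have h2 := delta_naturality D.SP_shortExact hS' D.φ₂ (CurveAmple.oneClass X)
  have h3 := delta_naturality D.SP_shortExact D.SQ_shortExact D.φ₃ (CurveAmple.oneClass X)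
  have e1 : hmap (𝟙 (Coh.structureModule X)) 0 (CurveAmple.oneClass X) = CurveAmple.oneClass X :=
    hmap_id' 0 _
  have h1' : hmap (biprod.fst : A ⊞ A ⟶ A) 1 (delta D.SP D.SP_shortExact (CurveAmple.oneClass X)) =
      cls i π w hS := h1.trans (congrArg (delta _ hS) e1)
  have h2' : hmap (biprod.snd : A ⊞ A ⟶ A) 1 (delta D.SP D.SP_shortExact (CurveAmple.oneClass X)) =
      cls i' π' w' hS' := h2.trans (congrArg (delta _ hS') e1)
  have h3' : hmap (biprod.fst - biprod.snd : A ⊞ A ⟶ A) 1
      (delta D.SP D.SP_shortExact (CurveAmple.oneClass X)) =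
      cls D.iQ D.qQ D.iQ_qQ D.SQ_shortExact := h3.trans (congrArg (delta _ D.SQ_shortExact) e1)
  have h0 : cls D.iQ D.qQ D.iQ_qQ D.SQ_shortExact = 0 :=
    h3'.symm.trans ((hmap_sub k _ _ 1 _).trans
      ((congrArg₂ (· - ·) h1' h2').trans (by rw [h, sub_self])))
  obtain ⟨s, hs⟩ := exists_section_of_cls_eq_zero k D.iQ D.qQ D.iQ_qQ D.SQ_shortExact h0
  exact D.nonempty_iso_of_section s hs

/-- rescaling the inclusion rescales the class -/
theorem cls_smul {A E : X.Modules} (i : A ⟶ E) (π : E ⟶ Coh.structureModule X)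
    (w : i ≫ π = 0) (hS : (ShortComplex.mk i π w).ShortExact) (c : k) (hc : c ≠ 0) :
    ∃ (w' : (c • i) ≫ π = 0) (hS' : (ShortComplex.mk (c • i) π w').ShortExact),
      c • cls (c • i) π w' hS' = cls i π w hS := by
  have w' : (c • i) ≫ π = 0 := by rw [Linear.smul_comp, w, smul_zero]
  let eA : A ≅ A :=
    { hom := c • 𝟙 A
      inv := c⁻¹ • 𝟙 A
      hom_inv_id := by
        rw [Linear.smul_comp, Linear.comp_smul, Category.id_comp, smul_smul, mul_inv_cancel₀ hc,
          one_smul]
      inv_hom_id := by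
        rw [Linear.smul_comp, Linear.comp_smul, Category.id_comp, smul_smul, inv_mul_cancel₀ hc,
          one_smul] }
  let e : ShortComplex.mk (c • i) π w' ≅ ShortComplex.mk i π w :=
    ShortComplex.isoMk eA (Iso.refl _) (Iso.refl _)
      (by
        change (c • 𝟙 A) ≫ i = (c • i) ≫ 𝟙 _
        rw [Linear.smul_comp, Category.id_comp, Category.comp_id])
      (by
        change 𝟙 _ ≫ π = π ≫ 𝟙 _
        rw [Category.id_comp, Category.comp_id])
  have hS' : (ShortComplex.mk (c • i) π w').ShortExact := ShortComplex.shortExact_of_iso e.symm hS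
  refine ⟨w', hS', ?_⟩
  have h1 := delta_naturality hS' hS e.hom (CurveAmple.oneClass X)
  have e1 : hmap (𝟙 (Coh.structureModule X)) 0 (CurveAmple.oneClass X) = CurveAmple.oneClass X :=
    hmap_id' 0 _
  have h1' : hmap (c • 𝟙 A) 1 (cls (c • i) π w' hS') = cls i π w hS :=
    h1.trans (congrArg (delta _ hS) e1)
  rw [← h1', hmap_smul_id k]

end Class

section Ell

variable (k : Type u) [Field k] [IsAlgClosed k] (X : Scheme.{u}) [X.Over (Spec (CommRingCat.of k))]
  [IsIntegral X] [IsProper (X ↘ Spec (CommRingCat.of k))]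

/-- a normalized indecomposable rank two module of degree zero on a curve of genus one is a
nonsplit extension of `O` by `O` -/
theorem exists_extension (hdim : topologicalKrullDim X = 1)
    (hreg : ∀ x : X, IsRegularLocalRing (X.presheaf.stalk x)) (hg : Curv2.genus k X = 1)
    (E : X.Modules) (hE : FlatMod.IsFinLocFreeOfRank 2 E)
    (hE0 : Nontrivial (Coh.HH X E 0))
    (hEneg : ∀ M : X.Modules, PicF.IsInvertible M → Curv2.deg k X M 1 < 0 →
      Subsingleton (Coh.HH X (CohB1.tensorMod E M) 0))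
    (hEind : ∀ L₁ L₂ : X.Modules, PicF.IsInvertible L₁ → PicF.IsInvertible L₂ →
      IsEmpty (E ≅ L₁ ⊞ L₂))
    (hEdeg : Curv2.deg k X E 2 = 0) :
    ∃ (i : Coh.structureModule X ⟶ E) (π : E ⟶ Coh.structureModule X) (w : i ≫ π = 0)
      (hS : (ShortComplex.mk i π w).ShortExact), cls i π w hS ≠ 0 := by
  haveI : IsLocallyNoetherian X :=
    LocallyOfFiniteType.isLocallyNoetherian (X ↘ Spec (CommRingCat.of k))
  haveI : Nonempty X := inferInstance
  have hOinv := TensH8.isInvertible_structureModule (X := X)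
  have hO : FlatMod.IsFinLocFreeOfRank 1 (Coh.structureModule X) :=
    FLFH8.finLocFreeOfRank_one_of_isInvertible hOinv
  obtain ⟨v, hv⟩ := exists_ne (0 : Coh.HH X E 0)
  set s := (CurveIdeal.thetaEquiv k E).symm v with hsdef
  have hs : s ≠ 0 := by
    intro h
    apply hv
    have := congrArg (CurveIdeal.thetaEquiv k E) h
    rw [hsdef, LinearEquiv.apply_symm_apply, map_zero] at this
    exact this
  haveI : Mono s := Groth.Agent.Horrocks.mono_of_ne_zero_flf hOinv
    (FLFH8.IsFinLocFreeOfRank.isFinLocFree E hE) s hs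
  have hQ : PicF.IsInvertible (cokernel s) :=
    Ruled.isInvertible_cokernel k X hdim hreg E hE hEneg s hs
  have hQ1 := FLFH8.finLocFreeOfRank_one_of_isInvertible hQ
  have hdegQ : Curv2.deg k X (cokernel s) 1 = 0 := by
    have h := VBCurve.deg_cokernel k X s hO hE hQ1
    rw [hEdeg, CurveDeg.deg_structureModule] at h
    linarith
  obtain ⟨M, hM, ⟨eM⟩⟩ := Groth.Agent.InvTensP.exists_inverse (cokernel s) hQ
  have hS₀ := VBCurve.cokernel_shortExact X s
  have hH1 : Nontrivial (Coh.HH X (CohB1.tensorMod (Coh.structureModule X) M) 1) := by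
    rw [← not_subsingleton_iff_nontrivial]
    intro hsub
    obtain ⟨e⟩ := Ruled.nonempty_iso_biprod k X _ hS₀ hM eM hsub
    exact (hEind _ _ hOinv hQ).false e
  obtain ⟨e⟩ := Higgs.nonempty_iso_of_HH1 k X hdim hg hOinv hQ hM eM
    (by rw [hdegQ, CurveDeg.deg_structureModule]) hH1
  have w : s ≫ cokernel.π s ≫ e.hom = 0 := by rw [cokernel.condition_assoc, zero_comp]
  let eS : ShortComplex.mk s (cokernel.π s) (cokernel.condition s) ≅
      ShortComplex.mk s (cokernel.π s ≫ e.hom) w :=
    ShortComplex.isoMk (Iso.refl _) (Iso.refl _) e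
      (by
        change 𝟙 _ ≫ s = s ≫ 𝟙 _
        rw [Category.id_comp, Category.comp_id])
      (by
        change 𝟙 _ ≫ cokernel.π s ≫ e.hom = cokernel.π s ≫ e.hom
        rw [Category.id_comp])
  have hS : (ShortComplex.mk s (cokernel.π s ≫ e.hom) w).ShortExact :=
    ShortComplex.shortExact_of_iso eS hS₀
  refine ⟨s, cokernel.π s ≫ e.hom, w, hS, fun h => ?_⟩
  obtain ⟨σ, hσ⟩ := exists_section_of_cls_eq_zero k s (cokernel.π s ≫ e.hom) w hS h
  exact (hEind _ _ hOinv hOinv).false
    (ShortComplex.Splitting.ofExactOfSection _ hS.exact σ hσ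
      (inferInstanceAs (Mono s))).isoBinaryBiproduct

/-- **statement of S12431** -/
theorem unique_normalized (hdim : topologicalKrullDim X = 1)
    (hreg : ∀ x : X, IsRegularLocalRing (X.presheaf.stalk x)) (hg : Curv2.genus k X = 1)
    (E : X.Modules) (hE : FlatMod.IsFinLocFreeOfRank 2 E)
    (hE0 : Nontrivial (Coh.HH X E 0))
    (hEneg : ∀ M : X.Modules, PicF.IsInvertible M → Curv2.deg k X M 1 < 0 →
      Subsingleton (Coh.HH X (CohB1.tensorMod E M) 0))
    (hEind : ∀ L₁ L₂ : X.Modules, PicF.IsInvertible L₁ → PicF.IsInvertible L₂ →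
      IsEmpty (E ≅ L₁ ⊞ L₂))
    (hEdeg : Curv2.deg k X E 2 = 0)
    (E' : X.Modules) (hE' : FlatMod.IsFinLocFreeOfRank 2 E')
    (hE'0 : Nontrivial (Coh.HH X E' 0))
    (hE'neg : ∀ M : X.Modules, PicF.IsInvertible M → Curv2.deg k X M 1 < 0 →
      Subsingleton (Coh.HH X (CohB1.tensorMod E' M) 0))
    (hE'ind : ∀ L₁ L₂ : X.Modules, PicF.IsInvertible L₁ → PicF.IsInvertible L₂ →
      IsEmpty (E' ≅ L₁ ⊞ L₂))
    (hE'deg : Curv2.deg k X E' 2 = 0) : Nonempty (E ≅ E') := by
  obtain ⟨i, π, w, hS, hc⟩ := exists_extension k X hdim hreg hg E hE hE0 hEneg hEind hEdeg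
  obtain ⟨i', π', w', hS', hc'⟩ :=
    exists_extension k X hdim hreg hg E' hE' hE'0 hE'neg hE'ind hE'deg
  have hfr : Module.finrank k (Coh.HH X (Coh.structureModule X) 1) = 1 := hg
  obtain ⟨c, hc1⟩ := (finrank_eq_one_iff_of_nonzero' (cls i' π' w' hS') hc').1 hfr (cls i π w hS)
  have hc0 : c ≠ 0 := by
    rintro rfl
    rw [zero_smul] at hc1
    exact hc hc1.symm
  obtain ⟨w'', hS'', h⟩ := cls_smul k i' π' w' hS' c⁻¹ (inv_ne_zero hc0)
  have key : cls i π w hS = cls (c⁻¹ • i') π' w'' hS'' := by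
    rw [← hc1, ← h, smul_smul, mul_inv_cancel₀ hc0, one_smul]
  exact nonempty_iso_of_cls_eq k i π w hS (c⁻¹ • i') π' w'' hS'' key

end Ell

end BaerCoh
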