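import Mathlib
import Groth.Agent.Lib.BaerFamily_helper9
import Groth.Agent.Lib.FreeSheaf_helper2

/-!
# Baer's criterion for abelian sheaves on a small site (helper9)

The free abelian sheaves on representables detect isomorphisms among monomorphisms, so the
criterion of `BaerFamily_helper9` applies.
-/

universe u

open CategoryTheory Limits Opposite

namespace Groth.Agent.Lib.BaerSheaf

open Groth.Agent.Lib.FreeSheaf

variable {C : Type u} [SmallCategory C] (J : GrothendieckTopology C)

lemma detects {A B : Sheaf J AddCommGrpCat.{u}} (p : A ⟶ B) [Mono p] (hp : ¬ IsIso p) :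
    ∃ (X : C) (f : freeSheaf J X ⟶ B), ∀ a : freeSheaf J X ⟶ A, a ≫ p ≠ f := by
  by_contra hcon
  push_neg at hcon
  apply hp
  haveI : Mono p.hom := inferInstanceAs (Mono ((sheafToPresheaf J AddCommGrpCat.{u}).map p))
  haveI : ∀ U, IsIso (p.hom.app U) := fun U => by
    rw [ConcreteCategory.isIso_iff_bijective]
    constructor
    · exact (AddCommGrpCat.mono_iff_injective _).1 inferInstance
    · intro s
      obtain ⟨a, ha⟩ := hcon U.unop ((freeSheafHomEquiv J U.unop B).symm s)
      refine ⟨freeSheafHomEquiv J U.unop A a, ?_⟩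
      rw [← freeSheafHomEquiv_comp, ha, Equiv.apply_symm_apply]
  haveI : IsIso p.hom := NatIso.isIso_of_isIso_app _
  haveI : IsIso ((sheafToPresheaf J AddCommGrpCat.{u}).map p) := ‹IsIso p.hom›
  exact isIso_of_reflects_iso p (sheafToPresheaf J AddCommGrpCat.{u})

theorem injective_of_extension (I : Sheaf J AddCommGrpCat.{u})
    (h : ∀ (X : C) (S : Sheaf J AddCommGrpCat.{u}) (i : S ⟶ freeSheaf J X) [Mono i] (φ : S ⟶ I),
      ∃ ψ : freeSheaf J X ⟶ I, i ≫ ψ = φ) :
    Injective I :=
  Groth.Agent.Lib.BaerFamily.injective_of_extension.{u} (G := fun X : C => freeSheaf J X)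
    (fun _ _ p _ hp => detects J p hp) I h

end Groth.Agent.Lib.BaerSheaf
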