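import Mathlib
import Groth.Prelude.Def_W4c1hurwitzcptBd

set_option autoImplicit false
universe u

namespace Groth.Agent.Lib.BasedRep

open MvPolynomial W4c1hurwitzcpt

noncomputable section

abbrev Idx (d : ℕ) : Type := (Fin d × Fin d × Fin d) ⊕ Fin d

variable (K : Type u) [Field K] (d : ℕ)

def cX (i j k : Fin d) : MvPolynomial (Idx d) K := X (Sum.inl (i, j, k))
def uX (i : Fin d) : MvPolynomial (Idx d) K := X (Sum.inr i)

def Rel : Set (MvPolynomial (Idx d) K) :=
  {r | (∃ i j k, r = cX K d i j k - cX K d j i k) ∨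
       (∃ i j l m, r = (∑ k, cX K d i j k * cX K d k l m) - ∑ k, cX K d j l k * cX K d i k m) ∨
       (∃ j m : Fin d, r = (∑ i, uX K d i * cX K d i j m) - (if j = m then 1 else 0))}

def relIdeal : Ideal (MvPolynomial (Idx d) K) := Ideal.span (Rel K d)

abbrev Bq : Type u := MvPolynomial (Idx d) K ⧸ relIdeal K d

variable {K d}

theorem mk_rel_eq_zero {r : MvPolynomial (Idx d) K} (hr : r ∈ Rel K d) :
    (Ideal.Quotient.mk (relIdeal K d) r) = 0 :=
  Ideal.Quotient.eq_zero_iff_mem.mpr (Ideal.subset_span hr)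

variable (A : Type u) [CommRing A] [Algebra K A]

def toBased (g : Bq K d →ₐ[K] A) : BasedAlg d A where
  c i j k := g (Ideal.Quotient.mk (relIdeal K d) (cX K d i j k))
  u i := g (Ideal.Quotient.mk (relIdeal K d) (uX K d i))
  comm i j k := by
    have h := mk_rel_eq_zero (K := K) (d := d) (Or.inl ⟨i, j, k, rfl⟩)
    rw [map_sub, sub_eq_zero] at h
    rw [h]
  assoc i j l m := by
    have h := congrArg g (mk_rel_eq_zero (K := K) (d := d) (Or.inr (Or.inl ⟨i, j, l, m, rfl⟩)))
    simp only [map_sub, map_sum, map_mul, map_zero, sub_eq_zero] at h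
    exact h
  unit j m := by
    have h := congrArg g (mk_rel_eq_zero (K := K) (d := d) (Or.inr (Or.inr ⟨j, m, rfl⟩)))
    by_cases hjm : j = m
    · rw [if_pos hjm] at h ⊢
      simp only [map_sub, map_sum, map_mul, map_zero, map_one, sub_eq_zero] at h
      exact h
    · rw [if_neg hjm] at h ⊢
      simp only [map_sub, map_sum, map_mul, map_zero, sub_zero] at h
      exact h

def evalMap (s : BasedAlg d A) : MvPolynomial (Idx d) K →ₐ[K] A :=
  aeval (Sum.elim (fun t : Fin d × Fin d × Fin d => s.c t.1 t.2.1 t.2.2) s.u)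

theorem evalMap_cX (s : BasedAlg d A) (i j k : Fin d) :
    evalMap A s (cX K d i j k) = s.c i j k := by
  simp [evalMap, cX]

theorem evalMap_uX (s : BasedAlg d A) (i : Fin d) : evalMap A s (uX K d i) = s.u i := by
  simp [evalMap, uX]

theorem evalMap_rel (s : BasedAlg d A) : ∀ a ∈ relIdeal K d, evalMap (K := K) A s a = 0 := by
  intro a ha
  have hle : relIdeal K d ≤ RingHom.ker (evalMap (K := K) A s) := by
    apply Ideal.span_le.mpr
    rintro r (⟨i, j, k, rfl⟩ | ⟨i, j, l, m, rfl⟩ | ⟨j, m, rfl⟩)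
    · rw [SetLike.mem_coe, RingHom.mem_ker, map_sub, evalMap_cX, evalMap_cX, s.comm i j k, sub_self]
    · rw [SetLike.mem_coe, RingHom.mem_ker, map_sub, map_sum, map_sum]
      simp only [map_mul, evalMap_cX]
      rw [s.assoc i j l m, sub_self]
    · rw [SetLike.mem_coe, RingHom.mem_ker, map_sub, map_sum]
      simp only [map_mul, evalMap_cX, evalMap_uX]
      rw [s.unit j m]
      split_ifs <;> simp
  exact RingHom.mem_ker.mp (hle ha)

def ofBased (s : BasedAlg d A) : Bq K d →ₐ[K] A :=
  Ideal.Quotient.liftₐ (relIdeal K d) (evalMap A s) (evalMap_rel A s)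

theorem ofBased_mk (s : BasedAlg d A) (p : MvPolynomial (Idx d) K) :
    ofBased A s (Ideal.Quotient.mk (relIdeal K d) p) = evalMap A s p := rfl

def eta : (Bq K d →ₐ[K] A) ≃ BasedAlg d A where
  toFun := toBased A
  invFun := ofBased A
  left_inv g := by
    apply Ideal.Quotient.algHom_ext
    apply MvPolynomial.algHom_ext
    rintro (⟨i, j, k⟩ | i)
    · show ofBased A (toBased A g) (Ideal.Quotient.mk (relIdeal K d) (cX K d i j k)) =
        (toBased A g).c i j k
      rw [ofBased_mk, evalMap_cX]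
    · show ofBased A (toBased A g) (Ideal.Quotient.mk (relIdeal K d) (uX K d i)) =
        (toBased A g).u i
      rw [ofBased_mk, evalMap_uX]
  right_inv s := by
    apply BasedAlg.ext
    · funext i j k
      show ofBased A s (Ideal.Quotient.mk (relIdeal K d) (cX K d i j k)) = s.c i j k
      rw [ofBased_mk, evalMap_cX]
    · funext i
      show ofBased A s (Ideal.Quotient.mk (relIdeal K d) (uX K d i)) = s.u i
      rw [ofBased_mk, evalMap_uX]

theorem eta_natural (A A' : Type u) [CommRing A] [Algebra K A] [CommRing A'] [Algebra K A']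
    (f : A →ₐ[K] A') (g : Bq K d →ₐ[K] A) :
    eta A' (f.comp g) = (eta A g).map f.toRingHom := by
  apply BasedAlg.ext
  · funext i j k
    rfl
  · funext i
    rfl

end

theorem main (K : Type u) [Field K] [CharZero K] (d : ℕ) :
    ∃ (B : Type u) (_ : CommRing B) (_ : Algebra K B) (_ : Algebra.FiniteType K B)
      (η : ∀ (A : Type u) [CommRing A] [Algebra K A], (B →ₐ[K] A) ≃ W4c1hurwitzcpt.BasedAlg d A),
      ∀ (A A' : Type u) [CommRing A] [Algebra K A] [CommRing A'] [Algebra K A']
        (f : A →ₐ[K] A') (g : B →ₐ[K] A),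
        η A' (f.comp g) = (η A g).map f.toRingHom :=
  ⟨Bq K d, inferInstance, inferInstance,
    Algebra.FiniteType.of_surjective (Ideal.Quotient.mkₐ K (relIdeal K d))
      (Ideal.Quotient.mkₐ_surjective K _),
    fun A _ _ => eta A, fun A A' _ _ _ _ f g => eta_natural A A' f g⟩

end Groth.Agent.Lib.BasedRep
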