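import Mathlib

set_option autoImplicit false
universe u

namespace Groth.Agent.BasisIn9

open IsLocalRing

/-- prime avoidance for modules over a local ring with infinite residue field: finitely many
proper submodules containing `𝔪 N` do not cover `N`. -/
theorem exists_not_mem_of_infinite {B N : Type*} [CommRing B] [IsLocalRing B]
    [Infinite (ResidueField B)] [AddCommGroup N] [Module B N] {ι : Type*} [Finite ι]
    (W : ι → Submodule B N) (hW : ∀ j, (maximalIdeal B) • (⊤ : Submodule B N) ≤ W j)
    (hne : ∀ j, W j ≠ ⊤) : ∃ x : N, ∀ j, x ∉ W j := by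
  classical
  haveI := Fintype.ofFinite ι
  by_contra hcon
  push Not at hcon
  have hcov : ⋃ j ∈ (Finset.univ : Finset ι), (W j : Set N) = Set.univ := by
    ext x
    simp only [Finset.mem_univ, Set.iUnion_true, Set.mem_iUnion, SetLike.mem_coe, Set.mem_univ,
      iff_true]
    exact hcon x
  obtain ⟨k, -, hfi⟩ := Submodule.exists_finiteIndex_of_cover hcov
  haveI : Finite (N ⧸ W k) := AddSubgroup.finite_quotient_of_finiteIndex
  obtain ⟨x, hx⟩ : ∃ x : N, x ∉ W k := by
    by_contra h
    push Not at h
    exact hne k (eq_top_iff.2 fun x _ => h x)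
  let f : B →ₗ[B] (N ⧸ W k) := LinearMap.toSpanSingleton B _ ((W k).mkQ x)
  have hker : LinearMap.ker f = maximalIdeal B := by
    have h1 : maximalIdeal B ≤ LinearMap.ker f := by
      intro b hb
      rw [LinearMap.mem_ker]
      change b • (W k).mkQ x = 0
      rw [← map_smul, Submodule.mkQ_apply, Submodule.Quotient.mk_eq_zero]
      exact hW k (Submodule.smul_mem_smul hb Submodule.mem_top)
    have h2 : LinearMap.ker f ≠ ⊤ := by
      intro h
      have : (1 : B) ∈ LinearMap.ker f := by rw [h]; trivial
      rw [LinearMap.mem_ker] at this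
      change (1 : B) • (W k).mkQ x = 0 at this
      rw [one_smul, Submodule.mkQ_apply, Submodule.Quotient.mk_eq_zero] at this
      exact hx this
    exact ((maximalIdeal.isMaximal B).eq_of_le h2 h1).symm
  -- the residue field embeds in the finite quotient
  let g : (B ⧸ LinearMap.ker f) →ₗ[B] (N ⧸ W k) := (LinearMap.ker f).liftQ f le_rfl
  have hg : Function.Injective g := by
    rw [← LinearMap.ker_eq_bot]
    exact Submodule.ker_liftQ_eq_bot _ _ _ le_rfl
  haveI : Finite (B ⧸ LinearMap.ker f) := Finite.of_injective g hg
  have hfin : Finite (B ⧸ maximalIdeal B) := by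
    rw [← hker]; infer_instance
  exact @not_finite (ResidueField B) _ hfin

end Groth.Agent.BasisIn9
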