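import Mathlib
import Groth.Agent.Lib.BasisIn1_helper9

set_option autoImplicit false
universe u

namespace Groth.Agent.BasisIn9

open IsLocalRing

/-- Nakayama for a semi-local ring: a submodule which is everything modulo each maximal ideal is
everything. -/
theorem eq_top_of_sup_smul {A M : Type*} [CommRing A] [AddCommGroup M] [Module A M]
    [Module.Finite A M] [Finite (MaximalSpectrum A)] (Q : Submodule A M)
    (h : ∀ 𝔪 : MaximalSpectrum A, Q ⊔ 𝔪.asIdeal • (⊤ : Submodule A M) = ⊤) : Q = ⊤ := by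
  classical
  haveI := Fintype.ofFinite (MaximalSpectrum A)
  have key : ∀ s : Finset (MaximalSpectrum A),
      Q ⊔ (∏ 𝔪 ∈ s, 𝔪.asIdeal) • (⊤ : Submodule A M) = ⊤ := by
    intro s
    induction s using Finset.induction_on with
    | empty =>
      rw [Finset.prod_empty, Ideal.one_eq_top, Submodule.top_smul, sup_top_eq]
    | insert 𝔪 s hms ih =>
      rw [Finset.prod_insert hms, Submodule.mul_smul]
      rw [eq_top_iff]
      calc (⊤ : Submodule A M) = Q ⊔ 𝔪.asIdeal • (⊤ : Submodule A M) := (h 𝔪).symm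
        _ = Q ⊔ 𝔪.asIdeal • (Q ⊔ (∏ 𝔪 ∈ s, 𝔪.asIdeal) • (⊤ : Submodule A M)) := by rw [ih]
        _ = Q ⊔ (𝔪.asIdeal • Q ⊔ 𝔪.asIdeal • ((∏ 𝔪 ∈ s, 𝔪.asIdeal) • (⊤ : Submodule A M))) := by
            rw [Submodule.smul_sup]
        _ ≤ Q ⊔ 𝔪.asIdeal • ((∏ 𝔪 ∈ s, 𝔪.asIdeal) • (⊤ : Submodule A M)) := by
            refine sup_le le_sup_left (sup_le ?_ le_sup_right)
            exact Submodule.smul_le_right.trans le_sup_left
  have hJ : (∏ 𝔪 ∈ (Finset.univ : Finset (MaximalSpectrum A)), 𝔪.asIdeal) ≤ Ideal.jacobson ⊥ := by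
    refine le_sInf ?_
    rintro J ⟨-, hJ⟩
    exact (Ideal.prod_le_inf).trans (Finset.inf_le (b := (⟨J, hJ⟩ : MaximalSpectrum A))
      (Finset.mem_univ _))
  rw [eq_top_iff]
  exact Submodule.le_of_le_smul_of_le_jacobson_bot Module.Finite.fg_top hJ (key Finset.univ).ge

variable {B A M : Type u} [CommRing B] [CommRing A]
    [IsLocalRing B] [Infinite (IsLocalRing.ResidueField B)] [Algebra B A]
    [Finite (MaximalSpectrum A)]
    [AddCommGroup M] [Module A M] [Module B M] [IsScalarTower B A M]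
    [Module.Free A M] [Module.Finite A M]

/-- reduction of the coordinates modulo a maximal ideal -/
noncomputable def rho {n : ℕ} (b : Module.Basis (Fin n) A M) (I : Ideal A) :
    M →ₗ[A] (Fin n → A ⧸ I) :=
  ((Ideal.Quotient.mkₐ A I).toLinearMap.compLeft (Fin n)).comp b.equivFun.toLinearMap

omit [Module.Free A M] [Module.Finite A M] [Finite (MaximalSpectrum A)] in
theorem rho_apply {n : ℕ} (b : Module.Basis (Fin n) A M) (I : Ideal A) (x : M) (i : Fin n) :
    rho b I x i = Ideal.Quotient.mk I (b.repr x i) := rfl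

omit [Module.Free A M] [Module.Finite A M] [Finite (MaximalSpectrum A)] in
theorem rho_surjective {n : ℕ} (b : Module.Basis (Fin n) A M) (I : Ideal A) :
    Function.Surjective (rho b I) := by
  intro v
  choose a ha using fun i => Ideal.Quotient.mk_surjective (v i)
  refine ⟨b.equivFun.symm a, ?_⟩
  funext i
  rw [rho_apply]
  have : b.repr (b.equivFun.symm a) i = a i := by
    have := congr_fun (b.equivFun.apply_symm_apply a) i
    exact this
  rw [this, ha]

omit [Module.Free A M] [Module.Finite A M] [Finite (MaximalSpectrum A)] in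
theorem rho_smul {n : ℕ} (b : Module.Basis (Fin n) A M) (I : Ideal A) (a : A) (x : M) :
    rho b I (a • x) = (Ideal.Quotient.mk I a) • rho b I x := by
  rw [map_smul]
  funext i
  simp only [Pi.smul_apply]
  rw [Algebra.smul_def]
  rfl

omit [Module.Free A M] [Module.Finite A M] [Finite (MaximalSpectrum A)] in
theorem ker_rho_le {n : ℕ} (b : Module.Basis (Fin n) A M) (I : Ideal A) (x : M)
    (hx : rho b I x = 0) : x ∈ I • (⊤ : Submodule A M) := by
  rw [← b.sum_repr x]
  refine Submodule.sum_mem _ fun i _ => ?_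
  refine Submodule.smul_mem_smul ?_ Submodule.mem_top
  have := congr_fun hx i
  rw [rho_apply] at this
  exact Ideal.Quotient.eq_zero_iff_mem.1 this

end Groth.Agent.BasisIn9
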