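import Mathlib
import Groth.Agent.Lib.BasisIn2_helper9

set_option autoImplicit false
universe u

namespace Groth.Agent.BasisIn9

open IsLocalRing

variable {B A M : Type u} [CommRing B] [CommRing A]
    [IsLocalRing B] [Infinite (IsLocalRing.ResidueField B)] [Algebra B A]
    [Finite (MaximalSpectrum A)]
    [AddCommGroup M] [Module A M] [Module B M] [IsScalarTower B A M]

theorem exists_indep
    (hBA : (IsLocalRing.maximalIdeal B).map (algebraMap B A) ≤ (⊥ : Ideal A).jacobson)
    {n : ℕ} (b : Module.Basis (Fin n) A M)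
    (N : Submodule B M) (hN : Submodule.span A (N : Set M) = ⊤) :
    ∀ i, i ≤ n → ∃ x : Fin i → M, (∀ j, x j ∈ N) ∧ ∀ 𝔪 : MaximalSpectrum A,
      LinearIndependent (A ⧸ 𝔪.asIdeal) (fun j => rho b 𝔪.asIdeal (x j)) := by
  intro i
  induction i with
  | zero =>
    intro _
    exact ⟨Fin.elim0, fun j => j.elim0, fun 𝔪 => linearIndependent_empty_type⟩
  | succ i ih =>
    intro hi
    obtain ⟨x, hxN, hx⟩ := ih (Nat.le_of_succ_le hi)
    -- the subspaces to avoid
    let S : ∀ 𝔪 : MaximalSpectrum A, Submodule (A ⧸ 𝔪.asIdeal) (Fin n → A ⧸ 𝔪.asIdeal) :=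
      fun 𝔪 => Submodule.span _ (Set.range fun j => rho b 𝔪.asIdeal (x j))
    have hsmulB : ∀ (𝔪 : MaximalSpectrum A) (c : B) (y : M),
        rho b 𝔪.asIdeal (c • y) = Ideal.Quotient.mk 𝔪.asIdeal (algebraMap B A c) • rho b 𝔪.asIdeal y := by
      intro 𝔪 c y
      rw [← rho_smul, algebraMap_smul]
    let W : MaximalSpectrum A → Submodule B N := fun 𝔪 =>
      { carrier := {y : N | rho b 𝔪.asIdeal y.1 ∈ S 𝔪}
        add_mem' := by
          intro y y' hy hy'
          change rho b 𝔪.asIdeal (y.1 + y'.1) ∈ S 𝔪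
          rw [map_add]
          exact (S 𝔪).add_mem hy hy'
        zero_mem' := by
          change rho b 𝔪.asIdeal (0 : M) ∈ S 𝔪
          rw [map_zero]
          exact (S 𝔪).zero_mem
        smul_mem' := by
          intro c y hy
          change rho b 𝔪.asIdeal (c • y.1) ∈ S 𝔪
          rw [hsmulB]
          exact (S 𝔪).smul_mem _ hy }
    have hW : ∀ 𝔪, (maximalIdeal B) • (⊤ : Submodule B N) ≤ W 𝔪 := by
      intro 𝔪
      rw [Submodule.smul_le]
      intro c hc y _
      change rho b 𝔪.asIdeal (c • y.1) ∈ S 𝔪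
      rw [hsmulB]
      have h1 : algebraMap B A c ∈ 𝔪.asIdeal := by
        have h2 : algebraMap B A c ∈ (⊥ : Ideal A).jacobson := hBA (Ideal.mem_map_of_mem _ hc)
        have hle : (⊥ : Ideal A).jacobson ≤ 𝔪.asIdeal :=
          sInf_le (⟨bot_le, 𝔪.isMaximal⟩ : (⊥ ≤ 𝔪.asIdeal) ∧ 𝔪.asIdeal.IsMaximal)
        exact hle h2
      rw [Ideal.Quotient.eq_zero_iff_mem.2 h1, zero_smul]
      exact (S 𝔪).zero_mem
    have hne : ∀ 𝔪, W 𝔪 ≠ ⊤ := by
      intro 𝔪 htop
      haveI := 𝔪.isMaximal
      letI : Field (A ⧸ 𝔪.asIdeal) := Ideal.Quotient.field 𝔪.asIdeal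
      have hall : ∀ y ∈ N, rho b 𝔪.asIdeal y ∈ S 𝔪 := by
        intro y hy
        have : (⟨y, hy⟩ : N) ∈ W 𝔪 := by rw [htop]; trivial
        exact this
      have hStop : S 𝔪 = ⊤ := by
        rw [eq_top_iff]
        intro v hv
        clear hv
        obtain ⟨z, rfl⟩ := rho_surjective b 𝔪.asIdeal v
        have hz : z ∈ Submodule.span A (N : Set M) := by rw [hN]; trivial
        induction hz using Submodule.span_induction with
        | mem y hy => exact hall y hy
        | zero => rw [map_zero]; exact (S 𝔪).zero_mem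
        | add y y' _ _ h1 h2 => rw [map_add]; exact (S 𝔪).add_mem h1 h2
        | smul a y _ h1 => rw [rho_smul]; exact (S 𝔪).smul_mem _ h1
      have h1 : Module.finrank (A ⧸ 𝔪.asIdeal) (S 𝔪) ≤ i := by
        have := finrank_range_le_card (R := A ⧸ 𝔪.asIdeal) (fun j : Fin i => rho b 𝔪.asIdeal (x j))
        rw [Fintype.card_fin] at this
        exact this
      rw [hStop, finrank_top, Module.finrank_fin_fun] at h1
      omega
    obtain ⟨y, hy⟩ := exists_not_mem_of_infinite W hW hne
    refine ⟨Fin.cons y.1 x, ?_, ?_⟩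
    · intro j
      refine Fin.cases ?_ (fun j => ?_) j
      · simpa using y.2
      · simpa using hxN j
    · intro 𝔪
      haveI := 𝔪.isMaximal
      letI : Field (A ⧸ 𝔪.asIdeal) := Ideal.Quotient.field 𝔪.asIdeal
      have hcons : (fun j => rho b 𝔪.asIdeal ((Fin.cons y.1 x : Fin (i + 1) → M) j))
          = Fin.cons (rho b 𝔪.asIdeal y.1) (fun j => rho b 𝔪.asIdeal (x j)) := by
        funext j
        refine Fin.cases ?_ (fun j => ?_) j
        · simp
        · simp
      rw [hcons]
      exact linearIndependent_finCons.2 ⟨hx 𝔪, hy 𝔪⟩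

theorem main [Module.Free A M] [Module.Finite A M]
    (hBA : (IsLocalRing.maximalIdeal B).map (algebraMap B A) ≤ (⊥ : Ideal A).jacobson)
    (N : Submodule B M) (hN : Submodule.span A (N : Set M) = ⊤) :
    ∃ b : Module.Basis (Fin (Module.finrank A M)) A M, ∀ i, b i ∈ N := by
  rcases subsingleton_or_nontrivial A with hA | hA
  · -- trivial ring: M is trivial
    haveI : Subsingleton M := Module.subsingleton A M
    haveI : Subsingleton (Fin (Module.finrank A M) →₀ A) :=
      ⟨fun f g => Finsupp.ext fun i => Subsingleton.elim _ _⟩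
    let b0 : Module.Basis (Fin (Module.finrank A M)) A M :=
      Module.Basis.ofRepr (LinearEquiv.ofSubsingleton M (Fin (Module.finrank A M) →₀ A))
    exact ⟨b0, fun i => by rw [Subsingleton.elim (b0 i) 0]; exact N.zero_mem⟩
  haveI := hA
  let b := Module.finBasis A M
  obtain ⟨x, hxN, hx⟩ := exists_indep hBA b N hN _ le_rfl
  have hspan : Submodule.span A (Set.range x) = ⊤ := by
    apply eq_top_of_sup_smul
    intro 𝔪
    haveI := 𝔪.isMaximal
    letI : Field (A ⧸ 𝔪.asIdeal) := Ideal.Quotient.field 𝔪.asIdeal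
    have hS : Submodule.span (A ⧸ 𝔪.asIdeal) (Set.range fun j => rho b 𝔪.asIdeal (x j)) = ⊤ :=
      (hx 𝔪).span_eq_top_of_card_eq_finrank' (by simp)
    rw [eq_top_iff]
    intro z _
    have hz : rho b 𝔪.asIdeal z ∈
        Submodule.span (A ⧸ 𝔪.asIdeal) (Set.range fun j => rho b 𝔪.asIdeal (x j)) := by
      rw [hS]; trivial
    obtain ⟨c, hc⟩ := (Submodule.mem_span_range_iff_exists_fun _).1 hz
    choose a ha using fun j => Ideal.Quotient.mk_surjective (c j)
    have hdiff : rho b 𝔪.asIdeal (z - ∑ j, a j • x j) = 0 := by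
      rw [map_sub, map_sum, ← hc, sub_eq_zero]
      refine Finset.sum_congr rfl fun j _ => ?_
      rw [rho_smul, ha]
    have h1 := ker_rho_le b 𝔪.asIdeal _ hdiff
    have h2 : ∑ j, a j • x j ∈ Submodule.span A (Set.range x) :=
      Submodule.sum_mem _ fun j _ => Submodule.smul_mem _ _ (Submodule.subset_span ⟨j, rfl⟩)
    have : z = ∑ j, a j • x j + (z - ∑ j, a j • x j) := by abel
    rw [this]
    exact Submodule.add_mem_sup h2 h1
  refine ⟨basisOfTopLeSpanOfCardEqFinrank x hspan.ge (by simp), fun i => ?_⟩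
  rw [coe_basisOfTopLeSpanOfCardEqFinrank]
  exact hxN i

end Groth.Agent.BasisIn9
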