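import Mathlib
import Groth.Prelude.Def_Found

/-!
# Kaplansky's dévissage: direct summands of direct sums of countably generated modules (lead)
-/

set_option autoImplicit false
universe u
open scoped Classical

namespace Groth.Agent.Lib.Kaplansky

section Aux

variable {R : Type u} [CommRing R] {M : Type u} [AddCommGroup M] [Module R M]

theorem isCountablyGenerated_of_span (S : Submodule R M) (T : Set M) (hT : T.Countable)
    (hS : S = Submodule.span R T) : CAlg.IsCountablyGenerated R S := by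
  refine ⟨(fun x : S => (x : M)) ⁻¹' T, hT.preimage Subtype.val_injective, ?_⟩
  apply Submodule.map_injective_of_injective S.subtype_injective
  rw [Submodule.map_span, Submodule.map_subtype_top]
  have hTS : T ⊆ S := by
    rw [hS]
    exact Submodule.subset_span
  have : (S.subtype '' ((fun x : S => (x : M)) ⁻¹' T)) = T := by
    ext y
    constructor
    · rintro ⟨x, hx, rfl⟩
      exact hx
    · intro hy
      exact ⟨⟨y, hTS hy⟩, hy, rfl⟩
  rw [this, hS]

variable {ι : Type u}

/-- The sub-sum over an index set. -/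
def MJ (N : ι → Submodule R M) (J : Set ι) : Submodule R M := ⨆ i ∈ J, N i

theorem MJ_mono (N : ι → Submodule R M) {J J' : Set ι} (h : J ⊆ J') : MJ N J ≤ MJ N J' :=
  biSup_mono fun _ hi => h hi

theorem le_MJ (N : ι → Submodule R M) {J : Set ι} {i : ι} (hi : i ∈ J) : N i ≤ MJ N J :=
  le_iSup₂ (f := fun i (_ : i ∈ J) => N i) i hi

theorem MJ_union (N : ι → Submodule R M) (J J' : Set ι) : MJ N (J ∪ J') = MJ N J ⊔ MJ N J' :=
  iSup_union

theorem MJ_isCompl (N : ι → Submodule R M) (hind : iSupIndep N) (htop : iSup N = ⊤)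
    (J : Set ι) : IsCompl (MJ N J) (MJ N Jᶜ) := by
  refine ⟨hind.disjoint_biSup_biSup disjoint_compl_right, ?_⟩
  rw [codisjoint_iff]
  show MJ N J ⊔ MJ N Jᶜ = ⊤
  rw [← MJ_union, Set.union_compl_self]
  show ⨆ i ∈ (Set.univ : Set ι), N i = ⊤
  rw [iSup_univ, htop]

theorem countable_reach {α : Type u} (r : α → α → Prop) (hr : ∀ a, {b | r a b}.Countable) (a : α) :
    {b | Relation.ReflTransGen r a b}.Countable := by
  let lvl : ℕ → Set α := fun n => Nat.rec {a} (fun _ s => ⋃ x ∈ s, {b | r x b}) n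
  have hlvl0 : lvl 0 = {a} := rfl
  have hlvlS : ∀ n, lvl (n + 1) = ⋃ x ∈ lvl n, {b | r x b} := fun _ => rfl
  have hc : ∀ n, (lvl n).Countable := by
    intro n
    induction n with
    | zero => rw [hlvl0]; exact Set.countable_singleton a
    | succ n ih => rw [hlvlS]; exact ih.biUnion fun x _ => hr x
  refine (Set.countable_iUnion hc).mono ?_
  intro b hb
  change Relation.ReflTransGen r a b at hb
  induction hb with
  | refl => exact Set.mem_iUnion.2 ⟨0, by rw [hlvl0]; rfl⟩
  | tail _ hbc ih =>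
    obtain ⟨n, hn⟩ := Set.mem_iUnion.1 ih
    refine Set.mem_iUnion.2 ⟨n + 1, ?_⟩
    rw [hlvlS]
    exact Set.mem_biUnion hn hbc

end Aux

theorem main (R : Type u) [CommRing R] (M : Type u)
    [AddCommGroup M] [Module R M] (ι : Type u) (N : ι → Submodule R M) (hN : DirectSum.IsInternal N)
    (hc : ∀ i, CAlg.IsCountablyGenerated R (N i)) (P Q : Submodule R M) (hPQ : IsCompl P Q) :
    ∃ (κ : Type u) (L : κ → Submodule R P), DirectSum.IsInternal L ∧
      ∀ k, CAlg.IsCountablyGenerated R (L k) := by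
  have hind : iSupIndep N := hN.submodule_iSupIndep
  have htop : iSup N = ⊤ := hN.submodule_iSup_eq_top
  let pP : M →ₗ[R] P := P.projectionOnto Q hPQ
  let p : M →ₗ[R] M := P.projection Q hPQ
  have hp_coe : ∀ m, ((pP m : P) : M) = p m := fun _ => rfl
  have hpP_left : ∀ y : P, pP (y : M) = y := fun y => Submodule.projectionOnto_apply_left hPQ y
  -- generators
  choose gen hgenc hgens using hc
  let gen' : ι → Set M := fun i => (fun x : N i => (x : M)) '' gen i
  have hgen'c : ∀ i, (gen' i).Countable := fun i => (hgenc i).image _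
  have hgen's : ∀ i, Submodule.span R (gen' i) = N i := by
    intro i
    have h := congrArg (Submodule.map (N i).subtype) (hgens i)
    rw [Submodule.map_span, Submodule.map_subtype_top] at h
    exact h
  -- supports
  have hsupp : ∀ x : M, ∃ σ : Finset ι, x ∈ ⨆ i ∈ σ, N i := by
    intro x
    apply Submodule.exists_finset_of_mem_iSup
    rw [htop]
    trivial
  choose σ hσ using hsupp
  let out : ι → Set ι := fun i => ⋃ y ∈ gen' i, (σ (p y) : Set ι)
  have hout_c : ∀ i, (out i).Countable := fun i =>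
    (hgen'c i).biUnion fun y _ => (σ (p y)).countable_toSet
  have hout : ∀ i, (N i).map p ≤ MJ N (out i) := by
    intro i
    rw [← hgen's i, Submodule.map_span, Submodule.span_le]
    rintro _ ⟨y, hy, rfl⟩
    have h1 := hσ (p y)
    have h2 : (⨆ j ∈ σ (p y), N j) ≤ MJ N (out i) := by
      refine iSup₂_le fun j hj => ?_
      exact le_MJ N (Set.mem_biUnion hy (Finset.mem_coe.2 hj))
    exact h2 h1
  -- closed sets are good
  have hgood : ∀ J : Set ι, (∀ i ∈ J, out i ⊆ J) → (MJ N J).map p ≤ MJ N J := by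
    intro J hJ
    show Submodule.map p (⨆ i ∈ J, N i) ≤ _
    rw [Submodule.map_iSup]
    refine iSup_le fun i => ?_
    rw [Submodule.map_iSup]
    refine iSup_le fun hi => ?_
    exact (hout i).trans (MJ_mono N (hJ i hi))
  -- PJ
  let PJ : Set ι → Submodule R P := fun J => (MJ N J).map pP
  have hPJ_mono : ∀ {J J' : Set ι}, J ⊆ J' → PJ J ≤ PJ J' := fun h =>
    Submodule.map_mono (MJ_mono N h)
  have hPJ_mem : ∀ J : Set ι, (∀ i ∈ J, out i ⊆ J) → ∀ y ∈ PJ J, (y : M) ∈ MJ N J := by
    intro J hJ y hy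
    obtain ⟨m, hm, rfl⟩ := hy
    rw [hp_coe]
    exact hgood J hJ (Submodule.mem_map_of_mem hm)
  -- retractions
  let rr : Set ι → (P →ₗ[R] P) := fun J =>
    pP ∘ₗ ((MJ N J).projection (MJ N Jᶜ) (MJ_isCompl N hind htop J)) ∘ₗ P.subtype
  have hrr_mem : ∀ (J : Set ι) (y : P), rr J y ∈ PJ J := by
    intro J y
    exact Submodule.mem_map_of_mem (Submodule.projection_apply_mem _ _)
  have hrr_fix : ∀ J : Set ι, (∀ i ∈ J, out i ⊆ J) → ∀ y ∈ PJ J, rr J y = y := by
    intro J hJ y hy
    show pP (((MJ N J).projection (MJ N Jᶜ) (MJ_isCompl N hind htop J)) (y : M)) = y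
    rw [Submodule.projection_apply_of_mem_left _ (hPJ_mem J hJ y hy), hpP_left]
  -- well-order
  obtain ⟨linst, wfinst⟩ := exists_wellFoundedLT (α := ι)
  letI := linst
  haveI := wfinst
  let reach : ι → Set ι := fun i => {j | Relation.ReflTransGen (fun a b => b ∈ out a) i j}
  have hreach_c : ∀ i, (reach i).Countable := fun i =>
    countable_reach (fun a b => b ∈ out a) hout_c i
  have hreach_self : ∀ i, i ∈ reach i := fun i => Relation.ReflTransGen.refl
  have hreach_cl : ∀ i, ∀ j ∈ reach i, out j ⊆ reach i := fun i j hj k hk =>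
    Relation.ReflTransGen.tail hj hk
  let Jlt : ι → Set ι := fun i => {j | ∃ i', i' < i ∧ j ∈ reach i'}
  let Jle : ι → Set ι := fun i => Jlt i ∪ reach i
  have hJlt_cl : ∀ i, ∀ j ∈ Jlt i, out j ⊆ Jlt i := by
    rintro i j ⟨i', hi', hj⟩ k hk
    exact ⟨i', hi', hreach_cl i' j hj hk⟩
  have hJle_cl : ∀ i, ∀ j ∈ Jle i, out j ⊆ Jle i := by
    rintro i j (hj | hj) k hk
    · exact Or.inl (hJlt_cl i j hj hk)
    · exact Or.inr (hreach_cl i j hj hk)
  have hJle_lt : ∀ {i' i : ι}, i' < i → Jle i' ⊆ Jlt i := by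
    rintro i' i h j (⟨i'', hi'', hj⟩ | hj)
    · exact ⟨i'', hi''.trans h, hj⟩
    · exact ⟨i', h, hj⟩
  let A : ι → Submodule R P := fun i => PJ (Jlt i)
  let B : ι → Submodule R P := fun i => PJ (Jle i)
  let L : ι → Submodule R P := fun i => (B i).map (LinearMap.id - rr (Jlt i))
  have hAB : ∀ i, A i ≤ B i := fun i => hPJ_mono Set.subset_union_left
  have hBA : ∀ {i' i : ι}, i' < i → B i' ≤ A i := fun h => hPJ_mono (hJle_lt h)
  have hLB : ∀ i, L i ≤ B i := by
    rintro i _ ⟨b, hb, rfl⟩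
    show b - rr (Jlt i) b ∈ B i
    exact Submodule.sub_mem _ hb (hAB i (hrr_mem (Jlt i) b))
  have hLA : ∀ i, ∀ y ∈ L i, y ∈ A i → y = 0 := by
    rintro i _ ⟨b, _, rfl⟩ hy
    have h1 : rr (Jlt i) (b - rr (Jlt i) b) = b - rr (Jlt i) b :=
      hrr_fix (Jlt i) (hJlt_cl i) _ hy
    have h2 : rr (Jlt i) (rr (Jlt i) b) = rr (Jlt i) b :=
      hrr_fix (Jlt i) (hJlt_cl i) _ (hrr_mem (Jlt i) b)
    show b - rr (Jlt i) b = 0
    rw [← h1, map_sub, h2, sub_self]
  have hBAL : ∀ i, B i ≤ A i ⊔ L i := by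
    intro i b hb
    rw [Submodule.mem_sup]
    exact ⟨rr (Jlt i) b, hrr_mem (Jlt i) b, b - rr (Jlt i) b,
      Submodule.mem_map_of_mem (f := LinearMap.id - rr (Jlt i)) hb, by abel⟩
  have hA_le : ∀ i, A i ≤ ⨆ i', ⨆ (_ : i' < i), B i' := by
    intro i
    have h1 : MJ N (Jlt i) ≤ ⨆ i', ⨆ (_ : i' < i), MJ N (Jle i') := by
      refine iSup₂_le fun j hj => ?_
      obtain ⟨i', hi', hj'⟩ := hj
      exact (le_MJ N (Or.inr hj' : j ∈ Jle i')).trans
        (le_iSup₂ (f := fun i' (_ : i' < i) => MJ N (Jle i')) i' hi')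
    refine (Submodule.map_mono (f := pP) h1).trans ?_
    rw [Submodule.map_iSup]
    refine iSup_mono fun i' => ?_
    rw [Submodule.map_iSup]
  -- spanning
  have hB_le : ∀ i, B i ≤ ⨆ k, L k := by
    intro i
    induction i using WellFoundedLT.induction with
    | ind i ih =>
      refine (hBAL i).trans (sup_le ?_ (le_iSup L i))
      exact (hA_le i).trans (iSup₂_le fun i' hi' => ih i' hi')
  have htopL : iSup L = ⊤ := by
    rw [eq_top_iff]
    intro y _
    have hy : (y : M) ∈ ⨆ i, MJ N (Jle i) := by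
      have h1 : (y : M) ∈ iSup N := by rw [htop]; trivial
      exact (iSup_mono fun i => le_MJ N (Or.inr (hreach_self i) : i ∈ Jle i)) h1
    have h2 : pP (y : M) ∈ Submodule.map pP (⨆ i, MJ N (Jle i)) := Submodule.mem_map_of_mem hy
    rw [hpP_left, Submodule.map_iSup] at h2
    exact (iSup_le hB_le) h2
  -- independence
  have hindL : iSupIndep L := by
    rw [iSupIndep_iff_finsetSum_eq_zero_imp_eq_zero]
    intro s
    induction s using Finset.induction_on_max with
    | empty => intro v _ _ i hi; exact absurd hi (Finset.notMem_empty i)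
    | insert a s hlt ih =>
      intro v hv hsum i hi
      have has : a ∉ s := fun h => lt_irrefl a (hlt a h)
      rw [Finset.sum_insert has] at hsum
      have hva : v a = 0 := by
        apply hLA a (v a) (hv a (Finset.mem_insert_self a s))
        have h1 : v a = -∑ j ∈ s, v j := eq_neg_of_add_eq_zero_left hsum
        rw [h1]
        refine Submodule.neg_mem _ (Submodule.sum_mem _ fun j hj => ?_)
        exact hBA (hlt j hj) (hLB j (hv j (Finset.mem_insert_of_mem hj)))
      rw [hva, zero_add] at hsum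
      rcases Finset.mem_insert.1 hi with rfl | hi'
      · exact hva
      · exact ih v (fun j hj => hv j (Finset.mem_insert_of_mem hj)) hsum i hi'
  refine ⟨ι, L, DirectSum.isInternal_submodule_of_iSupIndep_of_iSup_eq_top
    (dec_ι := fun a b => Classical.propDecidable (a = b)) hindL htopL, ?_⟩
  -- countable generation
  intro i
  let f : M →ₗ[R] P := (LinearMap.id - rr (Jlt i)) ∘ₗ pP
  apply isCountablyGenerated_of_span (L i) (f '' (⋃ j ∈ reach i, gen' j))
    (((hreach_c i).biUnion fun j _ => hgen'c j).image _)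
  apply le_antisymm
  · rintro _ ⟨b, hb, rfl⟩
    obtain ⟨m, hm, rfl⟩ := hb
    have hm' : m ∈ MJ N (Jlt i) ⊔ MJ N (reach i) := by
      rw [← MJ_union]
      exact hm
    obtain ⟨m1, hm1, m2, hm2, rfl⟩ := Submodule.mem_sup.1 hm'
    have h1 : ((LinearMap.id : P →ₗ[R] P) - rr (Jlt i)) (pP m1) = 0 := by
      show pP m1 - rr (Jlt i) (pP m1) = 0
      rw [hrr_fix (Jlt i) (hJlt_cl i) _ (Submodule.mem_map_of_mem hm1), sub_self]
    have h2 : ((LinearMap.id : P →ₗ[R] P) - rr (Jlt i)) (pP (m1 + m2)) = f m2 := by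
      rw [map_add, map_add, h1, zero_add]
      rfl
    rw [h2, ← Submodule.map_span]
    refine Submodule.mem_map_of_mem ?_
    have h3 : MJ N (reach i) ≤ Submodule.span R (⋃ j ∈ reach i, gen' j) := by
      refine iSup₂_le fun j hj => ?_
      rw [← hgen's j]
      exact Submodule.span_mono (Set.subset_biUnion_of_mem hj)
    exact h3 hm2
  · rw [Submodule.span_le]
    rintro _ ⟨y, hy, rfl⟩
    obtain ⟨j, hj, hyj⟩ := Set.mem_iUnion₂.1 hy
    have hyN : y ∈ N j := by
      rw [← hgen's j]
      exact Submodule.subset_span hyj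
    have hyB : pP y ∈ B i :=
      Submodule.mem_map_of_mem (le_MJ N (Or.inr hj : j ∈ Jle i) hyN)
    exact Submodule.mem_map_of_mem (f := LinearMap.id - rr (Jlt i)) hyB

end Groth.Agent.Lib.Kaplansky
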