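import Mathlib
import Groth.Agent.Lib.Kaplansky_lead

/-!
# Kaplansky: projective modules over local rings are free (lead)
-/

set_option autoImplicit false
universe u
open scoped Classical

namespace Groth.Agent.Lib.KaplanskyLocal

open IsLocalRing

section General

variable {R : Type u} [CommRing R]

theorem isCompl_range_ker {V P : Type*} [AddCommGroup V] [Module R V] [AddCommGroup P]
    [Module R P] (ι : V →ₗ[R] P) (ρ : P →ₗ[R] V) (h : ∀ v, ρ (ι v) = v) :
    IsCompl (LinearMap.range ι) (LinearMap.ker ρ) := by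
  constructor
  · rw [Submodule.disjoint_def]
    rintro _ ⟨w, rfl⟩ hw
    rw [LinearMap.mem_ker, h] at hw
    rw [hw, map_zero]
  · rw [codisjoint_iff, eq_top_iff]
    intro v _
    rw [Submodule.mem_sup]
    refine ⟨ι (ρ v), ⟨_, rfl⟩, v - ι (ρ v), ?_, by abel⟩
    rw [LinearMap.mem_ker, map_sub, h, sub_self]

variable [IsLocalRing R]

theorem exists_free_summand (P : Type u) [AddCommGroup P] [Module R P]
    [Module.Projective R P] (x : P) :
    ∃ F1 G1 : Submodule R P, IsCompl F1 G1 ∧ Module.Free R F1 ∧ x ∈ F1 := by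
  obtain ⟨s, hs⟩ : ∃ s : P →ₗ[R] (P →₀ R), Finsupp.linearCombination R id ∘ₗ s = LinearMap.id :=
    Module.projective_def'.1 (inferInstance : Module.Projective R P)
  let q : (P →₀ R) →ₗ[R] P := Finsupp.linearCombination R id
  have hqs : ∀ y, q (s y) = y := fun y => LinearMap.congr_fun hs y
  let p : (P →₀ R) →ₗ[R] (P →₀ R) := s ∘ₗ q
  have hpp : ∀ e, p (p e) = p e := fun e => by
    show s (q (s (q e))) = s (q e)
    rw [hqs]
  obtain ⟨x', hx'def⟩ : ∃ x' : P →₀ R, x' = s x := ⟨_, rfl⟩
  have hpx' : p x' = x' := by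
    rw [hx'def]
    show s (q (s x)) = s x
    rw [hqs]
  have hqx' : q x' = x := by rw [hx'def, hqs]
  -- minimal basis
  have hex : ∃ k : ℕ, ∃ b : Module.Basis P R (P →₀ R), (b.repr x').support.card = k :=
    ⟨_, Finsupp.basisSingleOne, rfl⟩
  obtain ⟨b, hb⟩ := Nat.find_spec hex
  have hmin : ∀ b' : Module.Basis P R (P →₀ R), Nat.find hex ≤ (b'.repr x').support.card :=
    fun b' => Nat.find_min' hex ⟨b', rfl⟩
  obtain ⟨supp, hsupp⟩ : ∃ supp : Finset P, supp = (b.repr x').support := ⟨_, rfl⟩
  obtain ⟨a, ha⟩ : ∃ a : P → R, a = fun i => b.repr x' i := ⟨_, rfl⟩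
  rw [← hsupp] at hb
  have hx'sum : x' = ∑ i ∈ supp, a i • b i := by
    have h := b.linearCombination_repr x'
    rw [Finsupp.linearCombination_apply, Finsupp.sum] at h
    rw [hsupp, ha]
    exact h.symm
  -- Step 1
  have step1 : ∀ k ∈ supp, ∀ β : P → R, a k ≠ ∑ j ∈ supp.erase k, β j * a j := by
    intro k hk β hak
    let ψ : (P →₀ R) →ₗ[R] (P →₀ R) :=
      b.constr R (fun j => if j ∈ supp.erase k then β j • b k else 0)
    have hψb : ∀ j, ψ (b j) = if j ∈ supp.erase k then β j • b k else 0 :=
      fun j => b.constr_basis R _ j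
    have hψk : ψ (b k) = 0 := by rw [hψb, if_neg (Finset.notMem_erase k supp)]
    have hψψ : ∀ e, ψ (ψ e) = 0 := by
      have h0 : ψ ∘ₗ ψ = 0 := by
        apply b.ext
        intro j
        rw [LinearMap.comp_apply, hψb]
        split_ifs
        · rw [map_smul, hψk, smul_zero, LinearMap.zero_apply]
        · rw [map_zero, LinearMap.zero_apply]
      exact fun e => LinearMap.congr_fun h0 e
    let φ : (P →₀ R) ≃ₗ[R] (P →₀ R) :=
      LinearEquiv.ofLinear (LinearMap.id + ψ) (LinearMap.id - ψ)
        (LinearMap.ext fun e => by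
          simp only [LinearMap.comp_apply, LinearMap.add_apply, LinearMap.sub_apply,
            LinearMap.id_apply, map_sub, hψψ]
          abel)
        (LinearMap.ext fun e => by
          simp only [LinearMap.comp_apply, LinearMap.add_apply, LinearMap.sub_apply,
            LinearMap.id_apply, map_add, hψψ]
          abel)
    let b' : Module.Basis P R (P →₀ R) := b.map φ
    have hb' : ∀ j, b' j = b j + ψ (b j) := fun j => rfl
    have hx'2 : x' = ∑ j ∈ supp.erase k, a j • b' j := by
      have h1 : ∑ i ∈ supp, a i • b i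
          = a k • b k + ∑ i ∈ supp.erase k, a i • b i :=
        (Finset.add_sum_erase supp (fun i => a i • b i) hk).symm
      rw [hx'sum, h1, hak, Finset.sum_smul, ← Finset.sum_add_distrib]
      refine Finset.sum_congr rfl fun j hj => ?_
      rw [hb', hψb, if_pos hj, smul_add, smul_smul, mul_comm (a j), add_comm]
    have hsub : (b'.repr x').support ⊆ supp.erase k := by
      have h2 : b'.repr x' = ∑ j ∈ supp.erase k, a j • Finsupp.single j (1 : R) := by
        conv_lhs => rw [hx'2, map_sum]
        refine Finset.sum_congr rfl fun j _ => ?_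
        rw [map_smul, b'.repr_self]
      rw [h2]
      refine (Finsupp.support_finsetSum).trans ?_
      refine Finset.biUnion_subset.2 fun j hj => ?_
      refine (Finsupp.support_smul).trans ?_
      refine (Finsupp.support_single_subset).trans ?_
      exact Finset.singleton_subset_iff.2 hj
    have h1 := Finset.card_le_card hsub
    have h2 := hmin b'
    rw [Finset.card_erase_of_mem hk] at h1
    have h3 : 0 < supp.card := Finset.card_pos.2 ⟨k, hk⟩
    omega
  -- Step 2
  obtain ⟨cc, hcc⟩ : ∃ cc : P → P → R, cc = fun i j => b.repr (p (b i)) j := ⟨_, rfl⟩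
  obtain ⟨δ, hδ⟩ : ∃ δ : P → P → R, δ = fun i j => if i = j then 1 else 0 := ⟨_, rfl⟩
  have hx'p : x' = ∑ i ∈ supp, a i • p (b i) := by
    conv_lhs => rw [← hpx', hx'sum, map_sum]
    exact Finset.sum_congr rfl fun i _ => by rw [map_smul]
  have hcoord : ∀ j ∈ supp, ∑ i ∈ supp, a i * (cc i j - δ i j) = 0 := by
    intro j hj
    have h1 : a j = ∑ i ∈ supp, a i * cc i j := by
      have h3 : b.repr x' j = b.repr (∑ i ∈ supp, a i • p (b i)) j := by rw [← hx'p]
      rw [map_sum, Finsupp.finsetSum_apply] at h3
      have haj : a j = b.repr x' j := by rw [ha]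
      rw [haj, h3]
      refine Finset.sum_congr rfl fun i _ => ?_
      rw [map_smul, Finsupp.smul_apply, smul_eq_mul, hcc]
    have h4 : ∑ i ∈ supp, a i * δ i j = a j := by
      rw [hδ, Finset.sum_eq_single j]
      · simp
      · intro i _ hij
        simp [hij]
      · intro hj'
        exact absurd hj hj'
    simp only [mul_sub, Finset.sum_sub_distrib]
    rw [← h1, h4, sub_self]
  have hcm : ∀ i ∈ supp, ∀ j ∈ supp, cc i j - δ i j ∈ maximalIdeal R := by
    intro i0 hi0 j hj
    by_contra hnm
    have hu : IsUnit (cc i0 j - δ i0 j) := by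
      by_contra hnu
      exact hnm ((mem_maximalIdeal _).2 hnu)
    obtain ⟨u, hu'⟩ := hu
    have h1 : a i0 * (cc i0 j - δ i0 j) + ∑ i ∈ supp.erase i0, a i * (cc i j - δ i j) = 0 :=
      (Finset.add_sum_erase supp (fun i => a i * (cc i j - δ i j)) hi0).trans (hcoord j hj)
    rw [← hu'] at h1
    apply step1 i0 hi0 (fun i => -(↑u⁻¹ : R) * (cc i j - δ i j))
    have h3 : a i0 * (u : R) = -∑ i ∈ supp.erase i0, a i * (cc i j - δ i j) :=
      eq_neg_of_add_eq_zero_left h1
    have h2 : a i0 = -(↑u⁻¹ : R) * ∑ i ∈ supp.erase i0, a i * (cc i j - δ i j) := by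
      calc a i0 = a i0 * (u : R) * (↑u⁻¹ : R) := by rw [mul_assoc, Units.mul_inv, mul_one]
        _ = _ := by rw [h3]; ring
    rw [h2, Finset.mul_sum]
    exact Finset.sum_congr rfl fun i _ => by ring
  -- the maps
  let ymap : (↥supp → R) →ₗ[R] (P →₀ R) :=
    Fintype.linearCombination R (fun i : ↥supp => p (b i))
  have hymap : ∀ v, ymap v = ∑ i : ↥supp, v i • p (b i) := fun v => rfl
  let π : (P →₀ R) →ₗ[R] (↥supp → R) :=
    { toFun := fun e i => b.repr e i
      map_add' := fun e e' => by
        ext i
        simp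
      map_smul' := fun r e => by
        ext i
        simp }
  have hπ : ∀ e (i : ↥supp), π e i = b.repr e i := fun _ _ => rfl
  let c : (↥supp → R) →ₗ[R] (↥supp → R) := π ∘ₗ ymap
  have hc_apply : ∀ (v : ↥supp → R) (j : ↥supp), c v j = ∑ i : ↥supp, v i * cc i j := by
    intro v j
    show π (ymap v) j = _
    rw [hπ, hymap, map_sum, Finsupp.finsetSum_apply, hcc]
    refine Finset.sum_congr rfl fun i _ => ?_
    rw [map_smul, Finsupp.smul_apply, smul_eq_mul]
  have hc_surj : Function.Surjective c := by
    rw [← LinearMap.range_eq_top]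
    have hfg : (⊤ : Submodule R (↥supp → R)).FG := Module.Finite.fg_top
    have hjac : maximalIdeal R ≤ Ideal.jacobson ⊥ := by
      rw [IsLocalRing.jacobson_eq_maximalIdeal ⊥ bot_ne_top]
    refine eq_top_iff.2 (Submodule.le_of_le_smul_of_le_jacobson_bot hfg hjac ?_)
    intro v _
    rw [Submodule.mem_sup]
    refine ⟨c v, ⟨v, rfl⟩, v - c v, ?_, by abel⟩
    have hcoordm : ∀ j, (v - c v) j ∈ maximalIdeal R := by
      intro j
      rw [Pi.sub_apply, hc_apply]
      have h4 : ∑ i : ↥supp, v i * δ (i : P) (j : P) = v j := by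
        rw [hδ, Finset.sum_eq_single j]
        · simp
        · intro i _ hij
          have hne : (i : P) ≠ (j : P) := fun h => hij (Subtype.ext h)
          simp [hne]
        · intro hj'
          exact absurd (Finset.mem_univ j) hj'
      have h5 : v j - ∑ i : ↥supp, v i * cc (i : P) (j : P)
          = -∑ i : ↥supp, v i * (cc (i : P) (j : P) - δ (i : P) (j : P)) := by
        simp only [mul_sub, Finset.sum_sub_distrib, h4]
        ring
      rw [h5]
      exact (Ideal.neg_mem_iff _).2
        (Ideal.sum_mem _ fun i _ => Ideal.mul_mem_left _ _ (hcm i i.2 j j.2))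
    have hw : v - c v = ∑ j, (v - c v) j • (Pi.single j (1 : R) : ↥supp → R) := by
      ext k
      simp only [Finset.sum_apply, Pi.smul_apply, Pi.single_apply, smul_eq_mul, mul_ite, mul_one,
        mul_zero, Finset.sum_ite_eq, Finset.mem_univ, if_true]
    rw [hw]
    exact Submodule.sum_mem _ fun j _ => Submodule.smul_mem_smul (hcoordm j) Submodule.mem_top
  have hc_inj : Function.Injective c :=
    OrzechProperty.injective_of_surjective_endomorphism c hc_surj
  let ce : (↥supp → R) ≃ₗ[R] (↥supp → R) := LinearEquiv.ofBijective c ⟨hc_inj, hc_surj⟩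
  let ρ : (P →₀ R) →ₗ[R] (↥supp → R) := ce.symm.toLinearMap ∘ₗ π
  have hρy : ∀ v, ρ (ymap v) = v := fun v => by
    show ce.symm (c v) = v
    exact ce.symm_apply_apply v
  have hpy : ∀ v, p (ymap v) = ymap v := by
    intro v
    rw [hymap, map_sum]
    exact Finset.sum_congr rfl fun i _ => by rw [map_smul, hpp]
  let ymap' : (↥supp → R) →ₗ[R] P := q ∘ₗ ymap
  let ρ' : P →ₗ[R] (↥supp → R) := ρ ∘ₗ s
  have hρy' : ∀ v, ρ' (ymap' v) = v := fun v => by
    show ρ (s (q (ymap v))) = v
    have h1 : s (q (ymap v)) = ymap v := hpy v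
    rw [h1, hρy]
  refine ⟨LinearMap.range ymap', LinearMap.ker ρ', isCompl_range_ker ymap' ρ' hρy', ?_, ?_⟩
  · have hinj : Function.Injective ymap' := Function.LeftInverse.injective hρy'
    exact Module.Free.of_equiv (LinearEquiv.ofInjective ymap' hinj)
  · refine ⟨fun i => a i, ?_⟩
    show q (ymap fun i => a i) = x
    have h2 : ymap (fun i : ↥supp => a i) = x' := by
      rw [hymap, Finset.sum_coe_sort supp (fun i => a i • p (b i)), ← hx'p]
    rw [h2, hqx']

theorem free_of_countablyGenerated (P : Type u) [AddCommGroup P] [Module R P]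
    [Module.Projective R P] (hc : CAlg.IsCountablyGenerated R P) : Module.Free R P := by
  obtain ⟨s0, hs0c, hs0s⟩ := hc
  have hne : (insert (0 : P) s0).Nonempty := Set.insert_nonempty _ _
  obtain ⟨x, hx⟩ := (hs0c.insert 0).exists_eq_range hne
  have hxspan : Submodule.span R (Set.range x) = ⊤ := by
    rw [← hx, eq_top_iff, ← hs0s]
    exact Submodule.span_mono (Set.subset_insert _ _)
  have step : ∀ (S T : Submodule R P), IsCompl S T → ∀ y : P,
      ∃ F1 T' : Submodule R P, IsCompl (S ⊔ F1) T' ∧ F1 ≤ T ∧ Module.Free R F1 ∧ y ∈ S ⊔ F1 := by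
    intro S T hST y
    haveI : Module.Projective R T :=
      Module.Projective.of_split T.subtype (T.projectionOnto S hST.symm)
        (Submodule.projectionOnto_comp_subtype hST.symm)
    obtain ⟨F1', G1', hFG, hfree, hz⟩ :=
      exists_free_summand (R := R) T (T.projectionOnto S hST.symm y)
    haveI := hfree
    refine ⟨F1'.map T.subtype, G1'.map T.subtype, ?_, ?_, ?_, ?_⟩
    · constructor
      · rw [Submodule.disjoint_def]
        intro v hv hvG
        obtain ⟨s1, hs1, f, hf, rfl⟩ := Submodule.mem_sup.1 hv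
        have hfT : f ∈ T := by
          obtain ⟨f', _, rfl⟩ := hf
          exact f'.2
        have hvT : s1 + f ∈ T := by
          obtain ⟨g', _, hg'⟩ := hvG
          rw [← hg']
          exact g'.2
        have hs1T : s1 ∈ T := by
          have h := T.sub_mem hvT hfT
          simpa using h
        have hs10 : s1 = 0 := (Submodule.disjoint_def.1 hST.disjoint) s1 hs1 hs1T
        rw [hs10, zero_add] at hvG ⊢
        obtain ⟨f', hf', rfl⟩ := hf
        obtain ⟨g', hg', hgf⟩ := hvG
        have hgf' : g' = f' := Subtype.ext hgf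
        rw [hgf'] at hg'
        have h0 := (Submodule.disjoint_def.1 hFG.disjoint) f' hf' hg'
        rw [h0, map_zero]
      · rw [codisjoint_iff, sup_assoc, ← Submodule.map_sup, hFG.sup_eq_top,
          Submodule.map_subtype_top]
        exact hST.sup_eq_top
    · rintro _ ⟨f', _, rfl⟩
      exact f'.2
    · exact Module.Free.of_equiv (Submodule.equivSubtypeMap T F1')
    · have hy : y = (S.projection T hST) y + (T.projection S hST.symm) y :=
        (Submodule.projection_add_projection_eq_self hST y).symm
      rw [hy]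
      refine Submodule.add_mem _ (Submodule.mem_sup_left (Submodule.projection_apply_mem hST y))
        (Submodule.mem_sup_right ?_)
      exact ⟨_, hz, rfl⟩
  choose F1 T' hcompl hle hfree hmem using step
  let St := {ST : Submodule R P × Submodule R P // IsCompl ST.1 ST.2}
  let st : ℕ → St := fun n => Nat.rec (motive := fun _ => St) ⟨(⊥, ⊤), isCompl_bot_top⟩
    (fun n ST => ⟨(ST.1.1 ⊔ F1 ST.1.1 ST.1.2 ST.2 (x n), T' ST.1.1 ST.1.2 ST.2 (x n)),
      hcompl ST.1.1 ST.1.2 ST.2 (x n)⟩) n
  let Sn : ℕ → Submodule R P := fun n => (st n).1.1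
  let Tn : ℕ → Submodule R P := fun n => (st n).1.2
  have hSTn : ∀ n, IsCompl (Sn n) (Tn n) := fun n => (st n).2
  let Fn : ℕ → Submodule R P := fun n => F1 (Sn n) (Tn n) (hSTn n) (x n)
  have hS0 : Sn 0 = ⊥ := rfl
  have hSsucc : ∀ n, Sn (n + 1) = Sn n ⊔ Fn n := fun n => rfl
  have hFT : ∀ n, Fn n ≤ Tn n := fun n => hle _ _ _ _
  have hFfree : ∀ n, Module.Free R (Fn n) := fun n => hfree _ _ _ _
  have hxS : ∀ n, x n ∈ Sn (n + 1) := fun n => hmem _ _ _ _
  have hSsup : ∀ n, Sn n = ⨆ k, ⨆ (_ : k < n), Fn k := by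
    intro n
    induction n with
    | zero =>
      rw [hS0]
      simp
    | succ n ih => rw [hSsucc, Nat.iSup_lt_succ, ← ih]
  have hindF : iSupIndep Fn := by
    rw [iSupIndep_iff_finsetSum_eq_zero_imp_eq_zero]
    intro s
    induction s using Finset.induction_on_max with
    | empty =>
      intro v _ _ i hi
      exact absurd hi (Finset.notMem_empty i)
    | insert a s hlt ih =>
      intro v hv hsum i hi
      have has : a ∉ s := fun h => lt_irrefl a (hlt a h)
      rw [Finset.sum_insert has] at hsum
      have hva : v a = 0 := by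
        have h1 : v a = -∑ j ∈ s, v j := eq_neg_of_add_eq_zero_left hsum
        have h2 : v a ∈ Sn a := by
          rw [h1, hSsup]
          refine Submodule.neg_mem _ (Submodule.sum_mem _ fun j hj => ?_)
          exact (le_iSup₂ (f := fun k (_ : k < a) => Fn k) j (hlt j hj))
            (hv j (Finset.mem_insert_of_mem hj))
        exact (Submodule.disjoint_def.1 (hSTn a).disjoint) _ h2
          (hFT a (hv a (Finset.mem_insert_self a s)))
      rw [hva, zero_add] at hsum
      rcases Finset.mem_insert.1 hi with rfl | hi'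
      · exact hva
      · exact ih v (fun j hj => hv j (Finset.mem_insert_of_mem hj)) hsum i hi'
  have htopF : iSup Fn = ⊤ := by
    rw [eq_top_iff, ← hxspan, Submodule.span_le]
    rintro _ ⟨n, rfl⟩
    have h := (hSsup (n + 1)).le (hxS n)
    exact (iSup₂_le fun k _ => le_iSup Fn k) h
  have hint : DirectSum.IsInternal Fn :=
    DirectSum.isInternal_submodule_of_iSupIndep_of_iSup_eq_top hindF htopF
  haveI := hFfree
  exact Module.Free.of_equiv (LinearEquiv.ofBijective (DirectSum.coeLinearMap Fn) hint)

end General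

set_option maxSynthPendingDepth 3 in
theorem free_of_projective (R : Type u) [CommRing R] [IsLocalRing R] (P : Type u)
    [AddCommGroup P] [Module R P] [Module.Projective R P] : Module.Free R P := by
  obtain ⟨s, hs⟩ : ∃ s : P →ₗ[R] (P →₀ R), Finsupp.linearCombination R id ∘ₗ s = LinearMap.id :=
    Module.projective_def'.1 (inferInstance : Module.Projective R P)
  let q : (P →₀ R) →ₗ[R] P := Finsupp.linearCombination R id
  have hqs : ∀ y, q (s y) = y := fun y => LinearMap.congr_fun hs y
  let b0 : Module.Basis P R (P →₀ R) := Finsupp.basisSingleOne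
  let N : P → Submodule R (P →₀ R) := fun i => Submodule.span R {b0 i}
  have hNind : iSupIndep N := b0.linearIndependent.iSupIndep_span_singleton
  have hNtop : iSup N = ⊤ := by
    rw [← Submodule.span_range_eq_iSup, b0.span_eq]
  have hNint : DirectSum.IsInternal N :=
    DirectSum.isInternal_submodule_of_iSupIndep_of_iSup_eq_top hNind hNtop
  have hNc : ∀ i, CAlg.IsCountablyGenerated R (N i) := fun i =>
    Kaplansky.isCountablyGenerated_of_span (N i) {b0 i} (Set.countable_singleton _) rfl
  have hPQ : IsCompl (LinearMap.range s) (LinearMap.ker q) := isCompl_range_ker s q hqs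
  obtain ⟨κ, L, hLint, hLc⟩ := Kaplansky.main R (P →₀ R) P N hNint hNc _ _ hPQ
  have hsinj : Function.Injective s := Function.LeftInverse.injective hqs
  let e1 : P ≃ₗ[R] LinearMap.range s := LinearEquiv.ofInjective s hsinj
  let e2 : (DirectSum κ fun k => L k) ≃ₗ[R] LinearMap.range s :=
    LinearEquiv.ofBijective (DirectSum.coeLinearMap L) hLint
  haveI : Module.Projective R (DirectSum κ fun k => L k) :=
    Module.Projective.of_equiv' (e1.trans e2.symm)
  haveI : ∀ k, Module.Projective R (L k) := fun k =>
    Module.Projective.of_split (DirectSum.lof R κ (fun k => L k) k)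
      (DirectSum.component R κ (fun k => L k) k)
      (LinearMap.ext fun y => by
        show DirectSum.component R κ (fun k => ↥(L k)) k
          (DirectSum.lof R κ (fun k => ↥(L k)) k y) = y
        exact DirectSum.component.lof_self (M := fun k => ↥(L k)) R k y)
  haveI : ∀ k, Module.Free R (L k) := fun k => by
    exact free_of_countablyGenerated (R := R) (↥(L k)) (hLc k)
  exact Module.Free.of_equiv (e2.trans e1.symm)

end Groth.Agent.Lib.KaplanskyLocal
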