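import Mathlib
import Groth.Prelude.Def_Found
import Groth.Agent.Lib.KaplanskyLocal_lead

/-! Bass: big projective modules are free (commutative case, `R/J` Noetherian) — helper4.

`Big R P` is a localization-free form of "infinite rank at every maximal ideal".
Main results: `main7110` (unimodular element `s + m`), `main7111` (every element lies in a finite
stably free direct summand), `main7112` (countably generated big projectives are free). -/

set_option autoImplicit false
set_option linter.unusedVariables false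
set_option linter.unusedTactic false
set_option linter.unreachableTactic false
set_option linter.unusedSectionVars false
set_option maxHeartbeats 800000

universe u
open scoped Classical

namespace Groth.Agent.Lib.BassBigH4

variable {R : Type u} [CommRing R]

/-- the Jacobson radical -/
abbrev jac (R : Type u) [CommRing R] : Ideal R := (⊥ : Ideal R).jacobson

/-- "infinite rank at every maximal ideal", localization-free form -/
def Big (R : Type u) [CommRing R] (P : Type u) [AddCommGroup P] [Module R P] : Prop :=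
  ∀ (n : Ideal R), n.IsMaximal → ∀ N : Submodule R P, N.FG →
    N ⊔ n • (⊤ : Submodule R P) ≠ ⊤

section Basic

variable {P : Type u} [AddCommGroup P] [Module R P] {P' : Type u} [AddCommGroup P'] [Module R P']

theorem big_of_map (f : P' →ₗ[R] P) (N0 : Submodule R P) (hN0 : N0.FG)
    (h : LinearMap.range f ⊔ N0 = ⊤) (hP : Big R P) : Big R P' := by
  intro n hn N' hN' hEq
  apply hP n hn (N'.map f ⊔ N0) ((hN'.map f).sup hN0)
  have key : LinearMap.range f ≤ (N'.map f ⊔ N0) ⊔ n • (⊤ : Submodule R P) := by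
    rintro _ ⟨x, rfl⟩
    have hx : x ∈ N' ⊔ n • (⊤ : Submodule R P') := by rw [hEq]; exact Submodule.mem_top
    obtain ⟨a, ha, b, hb, rfl⟩ := Submodule.mem_sup.1 hx
    rw [map_add]
    refine Submodule.add_mem_sup (Submodule.mem_sup_left ⟨a, ha, rfl⟩) ?_
    have h1 : f b ∈ Submodule.map f (n • (⊤ : Submodule R P')) := ⟨b, hb, rfl⟩
    rw [Submodule.map_smul''] at h1
    have h2 : n • Submodule.map f (⊤ : Submodule R P') ≤ n • (⊤ : Submodule R P) :=
      Submodule.smul_mono (le_refl n) le_top
    exact h2 h1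
  have h3 : LinearMap.range f ⊔ N0 ≤ (N'.map f ⊔ N0) ⊔ n • (⊤ : Submodule R P) :=
    sup_le key (le_sup_of_le_left le_sup_right)
  rw [h] at h3
  exact eq_top_iff.2 h3

end Basic

theorem big_of_not_finite (P : Type u) [AddCommGroup P] [Module R P] [Module.Projective R P]
    (hP : ∀ (m : Ideal R) [m.IsMaximal],
      ¬ Module.Finite (Localization.AtPrime m) (LocalizedModule m.primeCompl P)) : Big R P := by
  intro n hn N hN hEq
  haveI := hn
  apply hP n
  haveI : Module.Free (Localization.AtPrime n) (LocalizedModule n.primeCompl P) :=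
    KaplanskyLocal.free_of_projective (Localization.AtPrime n) (LocalizedModule n.primeCompl P)
  obtain ⟨T, hT⟩ := hN
  let b := Module.Free.chooseBasis (Localization.AtPrime n) (LocalizedModule n.primeCompl P)
  let f : P →ₗ[R] LocalizedModule n.primeCompl P := LocalizedModule.mkLinearMap n.primeCompl P
  let L0 : Finset (Module.Free.ChooseBasisIndex (Localization.AtPrime n)
      (LocalizedModule n.primeCompl P)) := T.biUnion (fun t => (b.repr (f t)).support)
  have hall : ∀ l, l ∈ L0 := by
    intro l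
    by_contra hl
    let lam : LocalizedModule n.primeCompl P →ₗ[R] Localization.AtPrime n :=
      (b.coord l).restrictScalars R
    have hlam : ∀ y, lam y = b.repr y l := fun y => Module.Basis.coord_apply b l y
    let W : Submodule R P := Submodule.comap (lam ∘ₗ f)
      ((IsLocalRing.maximalIdeal (Localization.AtPrime n)).restrictScalars R)
    have hW : ∀ p, p ∈ W ↔ lam (f p) ∈ IsLocalRing.maximalIdeal (Localization.AtPrime n) :=
      fun p => Iff.rfl
    have hNW : N ≤ W := by
      rw [← hT, Submodule.span_le]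
      intro t ht
      have h0 : b.repr (f t) l = 0 := by
        refine Finsupp.notMem_support_iff.1 (fun h => hl ?_)
        exact Finset.mem_biUnion.2 ⟨t, Finset.mem_coe.1 ht, h⟩
      refine (hW t).2 ?_
      rw [hlam, h0]
      exact zero_mem _
    have hnW : n • (⊤ : Submodule R P) ≤ W := by
      rw [Submodule.smul_le]
      intro a ha p _
      refine (hW _).2 ?_
      have h2 : lam (f (a • p)) = a • lam (f p) := by rw [map_smul, map_smul]
      rw [h2, Algebra.smul_def]
      exact Ideal.mul_mem_right _ _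
        ((IsLocalization.AtPrime.to_map_mem_maximal_iff (Localization.AtPrime n) n a).2 ha)
    have htop : ∀ p : P, lam (f p) ∈ IsLocalRing.maximalIdeal (Localization.AtPrime n) := by
      intro p
      have hp : p ∈ N ⊔ n • (⊤ : Submodule R P) := by rw [hEq]; exact Submodule.mem_top
      exact (hW p).1 ((sup_le hNW hnW) hp)
    obtain ⟨⟨p, u⟩, hpu⟩ := IsLocalizedModule.surj n.primeCompl f (b l)
    have hpu' : (u : R) • b l = f p := hpu
    have h3 : lam ((u : R) • b l) = lam (f p) := congrArg lam hpu'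
    have h4 : lam ((u : R) • b l) = algebraMap R (Localization.AtPrime n) (u : R) := by
      rw [map_smul, hlam, Module.Basis.repr_self, Finsupp.single_eq_same, Algebra.smul_def,
        mul_one]
    have h5 : algebraMap R (Localization.AtPrime n) (u : R) ∈
        IsLocalRing.maximalIdeal (Localization.AtPrime n) := by
      rw [← h4, h3]
      exact htop p
    exact (Ideal.mem_primeCompl_iff.1 u.2)
      ((IsLocalization.AtPrime.to_map_mem_maximal_iff (Localization.AtPrime n) n (u : R)).1 h5)
  haveI : Fintype (Module.Free.ChooseBasisIndex (Localization.AtPrime n)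
      (LocalizedModule n.primeCompl P)) := ⟨L0, hall⟩
  exact Module.Finite.of_basis b

section Ord

variable {P : Type u} [AddCommGroup P] [Module R P]

/-- the order ideal `{φ x}` of `x` -/
def ord (R : Type u) [CommRing R] {P : Type u} [AddCommGroup P] [Module R P] (x : P) :
    Ideal R where
  carrier := {r | ∃ φ : P →ₗ[R] R, φ x = r}
  add_mem' := by
    rintro _ _ ⟨φ, rfl⟩ ⟨ψ, rfl⟩
    exact ⟨φ + ψ, LinearMap.add_apply φ ψ x⟩
  zero_mem' := ⟨0, LinearMap.zero_apply x⟩
  smul_mem' := by
    rintro c _ ⟨φ, rfl⟩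
    exact ⟨c • φ, LinearMap.smul_apply c φ x⟩

theorem mem_ord {x : P} {r : R} : r ∈ ord R x ↔ ∃ φ : P →ₗ[R] R, φ x = r := Iff.rfl

theorem mem_ord_smul (ι : P →ₗ[R] (P →₀ R))
    (hι : ∀ y, Finsupp.linearCombination R id (ι y) = y) (x : P) :
    x ∈ ord R x • (⊤ : Submodule R P) := by
  have h1 : (∑ i ∈ (ι x).support, (ι x i) • i) ∈ ord R x • (⊤ : Submodule R P) := by
    refine Submodule.sum_mem (ord R x • (⊤ : Submodule R P)) (fun i _ => ?_)
    exact Submodule.smul_mem_smul (mem_ord.2 ⟨(Finsupp.lapply i) ∘ₗ ι, rfl⟩) Submodule.mem_top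
  have h2 := hι x
  rw [Finsupp.linearCombination_apply] at h2
  have h3 : (∑ i ∈ (ι x).support, (ι x i) • i) = x := h2
  rwa [h3] at h1

theorem ord_le_sup (ι : P →ₗ[R] (P →₀ R))
    (hι : ∀ y, Finsupp.linearCombination R id (ι y) = y) (s k : P) (J : Ideal R)
    (hk : ∀ i ∈ (ι s).support, ι k i ∈ J) : ord R s ≤ ord R (s + k) ⊔ J := by
  intro r hr
  obtain ⟨φ, rfl⟩ := mem_ord.1 hr
  let ψ : P →ₗ[R] R := ∑ i ∈ (ι s).support, (φ i) • ((Finsupp.lapply i) ∘ₗ ι)
  have hψ : ∀ y, ψ y = ∑ i ∈ (ι s).support, φ i * ι y i := by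
    intro y
    show (∑ i ∈ (ι s).support, (φ i) • ((Finsupp.lapply i) ∘ₗ ι)) y = _
    rw [LinearMap.sum_apply]
    rfl
  have hψs : ψ s = φ s := by
    have e1 := hι s
    rw [Finsupp.linearCombination_apply] at e1
    have e2 : (∑ i ∈ (ι s).support, (ι s i) • i) = s := e1
    have e3 : φ s = φ (∑ i ∈ (ι s).support, (ι s i) • i) := by rw [e2]
    rw [hψ, e3, map_sum]
    refine Finset.sum_congr rfl (fun i _ => ?_)
    rw [map_smul, smul_eq_mul, mul_comm]
  have hψk : ψ k ∈ J := by
    rw [hψ]
    exact J.sum_mem (fun i hi => J.mul_mem_left _ (hk i hi))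
  have h1 : φ s = ψ (s + k) + (-(ψ k)) := by
    rw [map_add, hψs]; ring
  rw [h1]
  exact Submodule.add_mem_sup (mem_ord.2 ⟨ψ, rfl⟩) (J.neg_mem hψk)

theorem exists_ann (s : P) (M : Submodule R P) (hM : Submodule.span R {s} ⊔ M = ⊤) (I : Ideal R)
    (hs : s ∈ I • (⊤ : Submodule R P)) : ∃ a : R, 1 - a ∈ I ∧ ∀ p : P, a • p ∈ M := by
  rw [← hM, Submodule.smul_sup] at hs
  obtain ⟨u, hu, v, hv, huv⟩ := Submodule.mem_sup.1 hs
  obtain ⟨b, hb, rfl⟩ := Submodule.mem_smul_span_singleton.1 hu
  have hvM : v ∈ M := Submodule.smul_le_right hv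
  refine ⟨1 - b, by simpa using hb, fun p => ?_⟩
  have has : (1 - b) • s ∈ M := by
    have e : (1 - b) • s = v := by
      rw [sub_smul, one_smul]
      exact sub_eq_of_eq_add' huv.symm
    rw [e]
    exact hvM
  have hp : p ∈ Submodule.span R {s} ⊔ M := by rw [hM]; exact Submodule.mem_top
  obtain ⟨x, hx, m, hm, rfl⟩ := Submodule.mem_sup.1 hp
  obtain ⟨r, rfl⟩ := Submodule.mem_span_singleton.1 hx
  rw [smul_add, smul_comm]
  exact M.add_mem (M.smul_mem r has) (M.smul_mem _ hm)

theorem isNoetherian_of_quotient (J : Ideal R) (Q : Type*) [AddCommGroup Q] [Module R Q]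
    [Module (R ⧸ J) Q] [IsScalarTower R (R ⧸ J) Q] [IsNoetherian (R ⧸ J) Q] :
    IsNoetherian R Q := by
  rw [isNoetherian_def]
  intro N
  let N' : Submodule (R ⧸ J) Q :=
    { carrier := N
      add_mem' := fun ha hb => N.add_mem ha hb
      zero_mem' := N.zero_mem
      smul_mem' := by
        intro c x hx
        obtain ⟨r, rfl⟩ := Ideal.Quotient.mk_surjective c
        have e : (Ideal.Quotient.mk J r) • x = r • x := by
          rw [← Ideal.Quotient.algebraMap_eq, algebraMap_smul]
        show (Ideal.Quotient.mk J r) • x ∈ N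
        rw [e]
        exact N.smul_mem r hx }
  obtain ⟨T, hT⟩ := (isNoetherian_def.1 (inferInstance : IsNoetherian (R ⧸ J) Q)) N'
  refine ⟨T, ?_⟩
  have h1 : Submodule.restrictScalars R (Submodule.span (R ⧸ J) (T : Set Q)) =
      Submodule.span R (T : Set Q) :=
    Submodule.restrictScalars_span R (R ⧸ J)
      (by rw [Ideal.Quotient.algebraMap_eq]; exact Ideal.Quotient.mk_surjective) _
  rw [← h1, hT]
  exact Submodule.ext (fun x => Iff.rfl)

theorem exists_fg_sup_ker {Q : Type*} [AddCommGroup Q] [Module R Q] [IsNoetherian R Q]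
    (θ : P →ₗ[R] Q) : ∃ N : Submodule R P, N.FG ∧ N ⊔ LinearMap.ker θ = ⊤ := by
  obtain ⟨W, hW⟩ := IsNoetherian.noetherian (LinearMap.range θ)
  have hWr : ∀ w ∈ W, ∃ p, θ p = w := by
    intro w hw
    have h1 : w ∈ Submodule.span R (W : Set Q) := Submodule.subset_span (Finset.mem_coe.2 hw)
    rw [hW] at h1
    exact h1
  let t : Q → P := fun w => if h : ∃ p, θ p = w then h.choose else 0
  have ht : ∀ w ∈ W, θ (t w) = w := by
    intro w hw
    have h := hWr w hw
    show θ (if h : ∃ p, θ p = w then h.choose else 0) = w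
    rw [dif_pos h]
    exact h.choose_spec
  refine ⟨Submodule.span R ((W.image t : Finset P) : Set P),
    Submodule.fg_span (Finset.finite_toSet _), ?_⟩
  rw [eq_top_iff]
  intro y _
  have hy : θ y ∈ Submodule.span R (W : Set Q) := by
    rw [hW]; exact LinearMap.mem_range_self θ y
  have hle : Submodule.span R (W : Set Q) ≤
      Submodule.map θ (Submodule.span R ((W.image t : Finset P) : Set P)) := by
    rw [Submodule.span_le]
    intro w hw
    refine ⟨t w, Submodule.subset_span ?_, ht w (Finset.mem_coe.1 hw)⟩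
    exact Finset.mem_coe.2 (Finset.mem_image_of_mem t (Finset.mem_coe.1 hw))
  obtain ⟨y', hy', hyy'⟩ := hle hy
  have e : y' + (y - y') = y := by abel
  rw [← e]
  refine Submodule.add_mem_sup hy' ?_
  rw [LinearMap.mem_ker, map_sub, hyy', sub_self]

end Ord

/-- Core of S7110 -/
theorem exists_unimodular [IsNoetherianRing (R ⧸ (⊥ : Ideal R).jacobson)]
    (P : Type u) [AddCommGroup P] [Module R P] [Module.Projective R P] (hbig : Big R P)
    (s : P) (M : Submodule R P) (hM : Submodule.span R {s} ⊔ M = ⊤) :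
    ∃ m ∈ M, ∃ φ : P →ₗ[R] R, φ (s + m) = 1 := by
  obtain ⟨ι, hι0⟩ := Module.projective_def'.1 (inferInstance : Module.Projective R P)
  have hι : ∀ y, Finsupp.linearCombination R id (ι y) = y := fun y => LinearMap.congr_fun hι0 y
  let mkJ : R →+* R ⧸ jac R := Ideal.Quotient.mk (jac R)
  let 𝒜 : Set (Ideal (R ⧸ jac R)) := {A | ∃ m ∈ M, A = (ord R (s + m) ⊔ jac R).map mkJ}
  have hne : 𝒜.Nonempty := ⟨_, 0, M.zero_mem, rfl⟩
  obtain ⟨A, ⟨m0, hm0, rfl⟩, hmax⟩ :=
    (set_has_maximal_iff_noetherian.2
      (inferInstance : IsNoetherian (R ⧸ jac R) (R ⧸ jac R))) 𝒜 hne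
  refine ⟨m0, hm0, ?_⟩
  by_contra hno
  have hne_top : ord R (s + m0) ≠ ⊤ := by
    intro h
    have h1 : (1 : R) ∈ ord R (s + m0) := by rw [h]; exact Submodule.mem_top
    exact hno (mem_ord.1 h1)
  obtain ⟨n, hn, hle⟩ := Ideal.exists_le_maximal _ hne_top
  have hJn : jac R ≤ n := sInf_le ⟨bot_le, hn⟩
  have hM' : Submodule.span R {s + m0} ⊔ M = ⊤ := by
    rw [eq_top_iff, ← hM]
    refine sup_le ?_ le_sup_right
    rw [Submodule.span_singleton_le_iff_mem]
    have h2 : (s + m0) + (-m0) ∈ Submodule.span R {s + m0} ⊔ M :=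
      Submodule.add_mem_sup (Submodule.mem_span_singleton_self _) (M.neg_mem hm0)
    have e : (s + m0) + (-m0) = s := by abel
    rwa [e] at h2
  have hs'n : s + m0 ∈ n • (⊤ : Submodule R P) :=
    Submodule.smul_mono_left hle (mem_ord_smul ι hι (s + m0))
  obtain ⟨a, ha1, haM⟩ :=
    exists_ann (s + m0) M hM' (ord R (s + m0)) (mem_ord_smul ι hι (s + m0))
  let θ : P →ₗ[R] (↥(ι (s + m0)).support → R ⧸ jac R) :=
    LinearMap.pi (fun i : ↥(ι (s + m0)).support =>
      (Algebra.linearMap R (R ⧸ jac R)) ∘ₗ (Finsupp.lapply (i : P)) ∘ₗ ι)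
  have hθ : ∀ (k : P) (i : ↥(ι (s + m0)).support),
      θ k i = Ideal.Quotient.mk (jac R) (ι k i) := fun k i => rfl
  haveI : IsNoetherian R (↥(ι (s + m0)).support → R ⧸ jac R) :=
    isNoetherian_of_quotient (jac R) (↥(ι (s + m0)).support → R ⧸ jac R)
  obtain ⟨N, hNfg, hNsup⟩ := exists_fg_sup_ker θ
  have hker : ¬ (LinearMap.ker θ ≤ n • (⊤ : Submodule R P)) := by
    intro h
    refine hbig n hn N hNfg (eq_top_iff.2 ?_)
    have h4 : N ⊔ LinearMap.ker θ ≤ N ⊔ n • (⊤ : Submodule R P) := sup_le_sup_left h N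
    rw [hNsup] at h4
    exact h4
  obtain ⟨k, hk, hkn⟩ := SetLike.not_le_iff_exists.1 hker
  have hmM : a • k ∈ M := haM k
  have hmker : ∀ i ∈ (ι (s + m0)).support, ι (a • k) i ∈ jac R := by
    intro i hi
    have h1 : a • k ∈ LinearMap.ker θ := Submodule.smul_mem _ a hk
    have h2 := congrFun (LinearMap.mem_ker.1 h1) ⟨i, hi⟩
    rw [hθ] at h2
    exact Ideal.Quotient.eq_zero_iff_mem.1 h2
  have hmn : a • k ∉ n • (⊤ : Submodule R P) := by
    intro h
    apply hkn
    have e : a • k + (1 - a) • k = k := by rw [← add_smul]; simp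
    have h3 : a • k + (1 - a) • k ∈ n • (⊤ : Submodule R P) :=
      Submodule.add_mem _ h (Submodule.smul_mem_smul (hle ha1) Submodule.mem_top)
    rwa [e] at h3
  have hsum : (s + m0) + a • k ∉ n • (⊤ : Submodule R P) := by
    intro h
    apply hmn
    have h3 := Submodule.sub_mem _ h hs'n
    rwa [add_sub_cancel_left] at h3
  have hord : ¬ ord R ((s + m0) + a • k) ≤ n := by
    intro h
    exact hsum (Submodule.smul_mono_left h (mem_ord_smul ι hι _))
  have hC : ord R (s + m0) ≤ ord R ((s + m0) + a • k) ⊔ jac R :=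
    ord_le_sup ι hι (s + m0) (a • k) (jac R) hmker
  have hassoc : (s + m0) + a • k = s + (m0 + a • k) := add_assoc _ _ _
  rw [hassoc] at hord hC
  have hin : (ord R (s + (m0 + a • k)) ⊔ jac R).map mkJ ∈ 𝒜 :=
    ⟨m0 + a • k, M.add_mem hm0 hmM, rfl⟩
  have hle2 : (ord R (s + m0) ⊔ jac R).map mkJ ≤ (ord R (s + (m0 + a • k)) ⊔ jac R).map mkJ :=
    Ideal.map_mono (sup_le hC le_sup_right)
  have hge : (ord R (s + (m0 + a • k)) ⊔ jac R).map mkJ ≤ (ord R (s + m0) ⊔ jac R).map mkJ := by
    by_contra h
    exact hmax _ hin (lt_of_le_not_ge hle2 h)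
  apply hord
  intro x hx
  have h1 : mkJ x ∈ (ord R (s + m0) ⊔ jac R).map mkJ :=
    hge (Ideal.mem_map_of_mem mkJ (Submodule.mem_sup_left hx))
  obtain ⟨y, hy, hyx⟩ :=
    (Ideal.mem_map_iff_of_surjective mkJ Ideal.Quotient.mk_surjective).1 h1
  have hxy : x - y ∈ jac R := Ideal.Quotient.eq.1 hyx.symm
  have hyn : y ∈ n := (sup_le hle hJn) hy
  have e : (x - y) + y = x := by ring
  rw [← e]
  exact n.add_mem (hJn hxy) hyn

theorem pi_dual_apply {Q : Type*} [AddCommGroup Q] [Module R Q] {n : ℕ} (l : Fin n → Q)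
    (φ : Fin n → (Q →ₗ[R] R)) (hδ : ∀ i j, φ i (l j) = if i = j then 1 else 0)
    (c : Fin n → R) : LinearMap.pi φ (Fintype.linearCombination R l c) = c := by
  funext i
  rw [LinearMap.pi_apply, Fintype.linearCombination_apply, map_sum]
  have h1 : ∀ j ∈ Finset.univ, φ i (c j • l j) = if i = j then c j else 0 := by
    intro j _
    rw [map_smul, hδ, smul_eq_mul]
    by_cases h : i = j
    · rw [if_pos h, if_pos h, mul_one]
    · rw [if_neg h, if_neg h, mul_zero]
  rw [Finset.sum_congr rfl h1, Finset.sum_ite_eq, if_pos (Finset.mem_univ i)]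

/-- splitting off a free summand of rank `n` mapping onto an `n`-generated module -/
theorem exists_free_summand_onto [IsNoetherianRing (R ⧸ (⊥ : Ideal R).jacobson)] :
    ∀ (n : ℕ) (P : Type u) [AddCommGroup P] [Module R P] [Module.Projective R P]
      (hbig : Big R P) (C : Type u) [AddCommGroup C] [Module R C] (g : P →ₗ[R] C)
      (hg : Function.Surjective g) (c : Fin n → C) (hc : Submodule.span R (Set.range c) = ⊤),
      ∃ (l : Fin n → P) (φ : Fin n → (P →ₗ[R] R)),
        (∀ i j, φ i (l j) = if i = j then 1 else 0) ∧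
        Submodule.map g (Submodule.span R (Set.range l)) = ⊤ := by
  intro n
  induction n with
  | zero =>
    intro P _ _ _ hbig C _ _ g hg c hc
    refine ⟨fun i => i.elim0, fun i => i.elim0, fun i => i.elim0, ?_⟩
    rw [← hc]
    simp only [Set.range_eq_empty, Submodule.span_empty, Submodule.map_bot]
  | succ n ih =>
    intro P _ _ _ hbig C _ _ g hg c hc
    obtain ⟨s, hs⟩ := hg (c 0)
    let c' : Fin n → C := fun i => c i.succ
    let M : Submodule R P := Submodule.comap g (Submodule.span R (Set.range c'))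
    have hrange : Set.range c = insert (c 0) (Set.range c') := by
      have h1 : c = Fin.cons (c 0) c' := (Fin.cons_self_tail c).symm
      conv_lhs => rw [h1]
      exact Fin.range_cons _ _
    have hcspan : Submodule.span R {c 0} ⊔ Submodule.span R (Set.range c') = ⊤ := by
      rw [← Submodule.span_insert, ← hrange, hc]
    have hM : Submodule.span R {s} ⊔ M = ⊤ := by
      rw [eq_top_iff]
      intro p _
      have hp : g p ∈ Submodule.span R {c 0} ⊔ Submodule.span R (Set.range c') := by
        rw [hcspan]; exact Submodule.mem_top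
      obtain ⟨x, hx, w, hw, hxw⟩ := Submodule.mem_sup.1 hp
      obtain ⟨r, rfl⟩ := Submodule.mem_span_singleton.1 hx
      have e : r • s + (p - r • s) = p := by abel
      rw [← e]
      refine Submodule.add_mem_sup
        (Submodule.smul_mem _ r (Submodule.mem_span_singleton_self s)) ?_
      show g (p - r • s) ∈ Submodule.span R (Set.range c')
      rw [map_sub, map_smul, hs, ← hxw, add_sub_cancel_left]
      exact hw
    obtain ⟨m, hm, φ0, hφ0⟩ := exists_unimodular P hbig s M hM
    obtain ⟨l0, hl0⟩ : ∃ l0, l0 = s + m := ⟨_, rfl⟩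
    rw [← hl0] at hφ0
    let P1 : Submodule R P := LinearMap.ker φ0
    let ret : P →ₗ[R] P1 := LinearMap.codRestrict P1 (LinearMap.id - φ0.smulRight l0) (by
      intro p
      show φ0 ((LinearMap.id - φ0.smulRight l0 : P →ₗ[R] P) p) = 0
      rw [LinearMap.sub_apply, LinearMap.id_apply, LinearMap.smulRight_apply, map_sub, map_smul,
        hφ0, smul_eq_mul, mul_one, sub_self])
    have hret : ∀ p, ((ret p : P1) : P) = p - φ0 p • l0 := fun p => rfl
    have hret_sub : ∀ q : P1, ret (q : P) = q := by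
      intro q
      apply Subtype.ext
      rw [hret]
      have h0 : φ0 (q : P) = 0 := q.2
      rw [h0, zero_smul, sub_zero]
    have hret_l0 : ret l0 = 0 := by
      apply Subtype.ext
      rw [hret, hφ0, one_smul, sub_self]
      rfl
    haveI : Module.Projective R P1 :=
      Module.Projective.of_split P1.subtype ret (LinearMap.ext hret_sub)
    have hbig1 : Big R P1 := by
      refine big_of_map P1.subtype (Submodule.span R {l0}) (Submodule.fg_span_singleton l0) ?_ hbig
      rw [eq_top_iff]
      intro p _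
      have e : ((ret p : P1) : P) + φ0 p • l0 = p := by rw [hret]; abel
      rw [← e]
      exact Submodule.add_mem_sup ⟨ret p, rfl⟩
        (Submodule.smul_mem _ _ (Submodule.mem_span_singleton_self l0))
    let D : Submodule R C := Submodule.span R {g l0}
    have hD0 : D.mkQ (g l0) = 0 :=
      (Submodule.Quotient.mk_eq_zero D).2 (Submodule.mem_span_singleton_self _)
    let g1 : P1 →ₗ[R] (C ⧸ D) := D.mkQ ∘ₗ g ∘ₗ P1.subtype
    have hg1 : Function.Surjective g1 := by
      intro y
      obtain ⟨x, rfl⟩ := D.mkQ_surjective y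
      obtain ⟨p, rfl⟩ := hg x
      refine ⟨ret p, ?_⟩
      show D.mkQ (g ((ret p : P1) : P)) = D.mkQ (g p)
      rw [hret, map_sub, map_sub, map_smul, map_smul, hD0, smul_zero, sub_zero]
    let c1 : Fin n → (C ⧸ D) := fun i => D.mkQ (c' i)
    have h2 : Submodule.map D.mkQ (Submodule.span R (Set.range c')) =
        Submodule.span R (Set.range c1) := by
      rw [Submodule.map_span, ← Set.range_comp]
      rfl
    have hc1 : Submodule.span R (Set.range c1) = ⊤ := by
      have hgm : g m ∈ Submodule.span R (Set.range c') := hm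
      have h0 : D.mkQ (c 0) ∈ Submodule.span R (Set.range c1) := by
        have e : c 0 = g l0 - g m := by
          rw [hl0, map_add, add_sub_cancel_right, hs]
        rw [e, map_sub, hD0, zero_sub]
        refine Submodule.neg_mem _ ?_
        rw [← h2]
        exact ⟨g m, hgm, rfl⟩
      rw [eq_top_iff]
      intro y _
      obtain ⟨x, rfl⟩ := D.mkQ_surjective y
      have hx : x ∈ Submodule.span R {c 0} ⊔ Submodule.span R (Set.range c') := by
        rw [hcspan]; exact Submodule.mem_top
      obtain ⟨u, hu, w, hw, rfl⟩ := Submodule.mem_sup.1 hx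
      obtain ⟨r, rfl⟩ := Submodule.mem_span_singleton.1 hu
      rw [map_add, map_smul]
      refine Submodule.add_mem _ (Submodule.smul_mem _ r h0) ?_
      rw [← h2]
      exact ⟨w, hw, rfl⟩
    obtain ⟨l', φ', hδ, hmap⟩ := ih P1 hbig1 (C ⧸ D) g1 hg1 c1 hc1
    let l : Fin (n + 1) → P := Fin.cons l0 (fun j => ((l' j : P1) : P))
    let φ : Fin (n + 1) → (P →ₗ[R] R) := Fin.cons φ0 (fun i => (φ' i) ∘ₗ ret)
    have hl_zero : l 0 = l0 := Fin.cons_zero _ _
    have hl_succ : ∀ j : Fin n, l j.succ = ((l' j : P1) : P) := fun j => Fin.cons_succ _ _ j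
    have hφ_zero : φ 0 = φ0 := Fin.cons_zero _ _
    have hφ_succ : ∀ i : Fin n, φ i.succ = (φ' i) ∘ₗ ret := fun i => Fin.cons_succ _ _ i
    refine ⟨l, φ, ?_, ?_⟩
    · intro i j
      refine Fin.cases ?_ (fun i' => ?_) i
      · refine Fin.cases ?_ (fun j' => ?_) j
        · rw [hφ_zero, hl_zero, hφ0, if_pos rfl]
        · rw [hφ_zero, hl_succ, if_neg (Fin.succ_ne_zero j').symm]
          exact LinearMap.mem_ker.1 (l' j').2
      · refine Fin.cases ?_ (fun j' => ?_) j
        · rw [hφ_succ, hl_zero, if_neg (Fin.succ_ne_zero i'), LinearMap.comp_apply, hret_l0,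
            map_zero]
        · rw [hφ_succ, hl_succ, LinearMap.comp_apply, hret_sub, hδ]
          by_cases h : i' = j'
          · rw [if_pos h, if_pos (congrArg Fin.succ h)]
          · rw [if_neg h, if_neg (fun h' => h (Fin.succ_injective _ h'))]
    · rw [eq_top_iff]
      intro x _
      have hx1 : D.mkQ x ∈ Submodule.map g1 (Submodule.span R (Set.range l')) := by
        rw [hmap]; exact Submodule.mem_top
      obtain ⟨y, hy, hyx⟩ := hx1
      have h3 : x - g (y : P) ∈ D := by
        refine (Submodule.Quotient.mk_eq_zero D).1 ?_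
        show D.mkQ (x - g (y : P)) = 0
        rw [map_sub, ← hyx]
        exact sub_self _
      obtain ⟨r, hr⟩ := Submodule.mem_span_singleton.1 h3
      refine ⟨(y : P) + r • l0, ?_, ?_⟩
      · refine Submodule.add_mem _ ?_
          (Submodule.smul_mem _ r (Submodule.subset_span ⟨0, hl_zero⟩))
        have hle : Submodule.map P1.subtype (Submodule.span R (Set.range l')) ≤
            Submodule.span R (Set.range l) := by
          rw [Submodule.map_span, Submodule.span_le]
          rintro _ ⟨_, ⟨j, rfl⟩, rfl⟩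
          exact Submodule.subset_span ⟨j.succ, hl_succ j⟩
        exact hle ⟨y, hy, rfl⟩
      · rw [map_add, map_smul, hr]
        abel

/-- S7110 -/
theorem main7110 (R : Type u) [CommRing R] [IsNoetherianRing (R ⧸ (⊥ : Ideal R).jacobson)]
    (P : Type u) [AddCommGroup P] [Module R P] [Module.Projective R P]
    (hP : ∀ (m : Ideal R) [m.IsMaximal],
      ¬ Module.Finite (Localization.AtPrime m) (LocalizedModule m.primeCompl P))
    (s : P) (M : Submodule R P) (hM : Submodule.span R {s} ⊔ M = ⊤) :
    ∃ m ∈ M, ∃ φ : P →ₗ[R] R, φ (s + m) = 1 :=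
  exists_unimodular P (big_of_not_finite P hP) s M hM

/-- every element of a big projective lies in a finite stably free direct summand (explicit) -/
theorem exists_sf_summand [IsNoetherianRing (R ⧸ (⊥ : Ideal R).jacobson)]
    (P : Type u) [AddCommGroup P] [Module R P] [Module.Projective R P] (hbig : Big R P) (s : P) :
    ∃ K K' : Submodule R P, IsCompl K K' ∧ K.FG ∧ s ∈ K ∧
      ∃ k : ℕ, Module.Free R (K × (Fin k → R)) := by
  obtain ⟨ι, hι0⟩ := Module.projective_def'.1 (inferInstance : Module.Projective R P)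
  have hι : ∀ y, Finsupp.linearCombination R id (ι y) = y := fun y => LinearMap.congr_fun hι0 y
  let g0 : P →ₗ[R] (↥(ι s).support → R) :=
    LinearMap.pi (fun i : ↥(ι s).support => (Finsupp.lapply (i : P)) ∘ₗ ι)
  have hg0 : ∀ p (i : ↥(ι s).support), g0 p i = ι p i := fun p i => rfl
  let j : (↥(ι s).support → R) →ₗ[R] P :=
    Fintype.linearCombination R (fun i : ↥(ι s).support => (i : P))
  have hj : ∀ f, j f = ∑ i : ↥(ι s).support, f i • (i : P) :=
    fun f => Fintype.linearCombination_apply R _ f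
  let v : ↥(ι s).support → R := g0 s
  have hjv : j v = s := by
    rw [hj]
    have h1 : ∑ i : ↥(ι s).support, v i • (i : P) = ∑ i ∈ (ι s).support, (ι s i) • i :=
      Finset.sum_coe_sort (ι s).support (fun i => (ι s i) • i)
    rw [h1]
    have h2 := hι s
    rw [Finsupp.linearCombination_apply] at h2
    exact h2
  let E : (↥(ι s).support → R) →ₗ[R] (↥(ι s).support → R) := g0 ∘ₗ j
  have hE : ∀ f, E f = g0 (j f) := fun f => rfl
  let D : Submodule R (↥(ι s).support → R) := LinearMap.range (E - LinearMap.id)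
  let g : P →ₗ[R] ((↥(ι s).support → R) ⧸ D) := D.mkQ ∘ₗ g0
  have hg : Function.Surjective g := by
    intro y
    obtain ⟨f, rfl⟩ := D.mkQ_surjective y
    refine ⟨j f, ?_⟩
    show D.mkQ (g0 (j f)) = D.mkQ f
    rw [← sub_eq_zero, ← map_sub]
    exact (Submodule.Quotient.mk_eq_zero D).2 ⟨f, rfl⟩
  obtain ⟨n, c, hc⟩ := Module.Finite.exists_fin (R := R) (M := (↥(ι s).support → R) ⧸ D)
  obtain ⟨l, φ, hδ, hmap⟩ :=
    exists_free_summand_onto (R := R) n P hbig ((↥(ι s).support → R) ⧸ D) g hg c hc
  let lam : (Fin n → R) →ₗ[R] P := Fintype.linearCombination R l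
  have hlam : ∀ c, lam c = ∑ i, c i • l i := fun c => Fintype.linearCombination_apply R l c
  let pv : P →ₗ[R] (Fin n → R) := LinearMap.pi φ
  have hpv : ∀ c, pv (lam c) = c := fun c => pi_dual_apply l φ hδ c
  let chi : (↥(ι s).support → R) × (Fin n → R) →ₗ[R] (↥(ι s).support → R) :=
    (E - LinearMap.id).coprod (g0 ∘ₗ lam)
  have hchi : ∀ f c, chi (f, c) = (E f - f) + g0 (lam c) := by
    intro f c
    show ((E - LinearMap.id).coprod (g0 ∘ₗ lam)) (f, c) = _
    rw [LinearMap.coprod_apply]
    rfl
  have hchi_surj : Function.Surjective chi := by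
    intro f0
    have h1 : D.mkQ f0 ∈ Submodule.map g (Submodule.span R (Set.range l)) := by
      rw [hmap]; exact Submodule.mem_top
    obtain ⟨x, hx, hxf⟩ := h1
    obtain ⟨c, rfl⟩ := (Submodule.mem_span_range_iff_exists_fun R).1 hx
    have h2 : f0 - g0 (lam c) ∈ D := by
      refine (Submodule.Quotient.mk_eq_zero D).1 ?_
      show D.mkQ (f0 - g0 (lam c)) = 0
      rw [map_sub, ← hxf, hlam]
      exact sub_self _
    obtain ⟨f, hf⟩ := h2
    refine ⟨(f, c), ?_⟩
    rw [hchi]
    have hf' : E f - f = f0 - g0 (lam c) := hf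
    rw [hf']
    abel
  obtain ⟨σ, hσ⟩ := Module.projective_lifting_property chi
    (LinearMap.id : (↥(ι s).support → R) →ₗ[R] (↥(ι s).support → R)) hchi_surj
  have hσ' : ∀ f, chi (σ f) = f := fun f => LinearMap.congr_fun hσ f
  let Z : Submodule R ((↥(ι s).support → R) × (Fin n → R)) := LinearMap.ker chi
  let retZ : (↥(ι s).support → R) × (Fin n → R) →ₗ[R] Z :=
    LinearMap.codRestrict Z (LinearMap.id - σ ∘ₗ chi) (by
      intro x
      show chi ((LinearMap.id - σ ∘ₗ chi : (↥(ι s).support → R) × (Fin n → R) →ₗ[R] (↥(ι s).support → R) × (Fin n → R)) x) = 0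
      rw [LinearMap.sub_apply, LinearMap.id_apply, LinearMap.comp_apply, map_sub, hσ', sub_self])
  have hretZ_coe : ∀ x, ((retZ x : Z) : (↥(ι s).support → R) × (Fin n → R)) = x - σ (chi x) :=
    fun x => rfl
  have hretZ : ∀ z : Z, retZ (z : (↥(ι s).support → R) × (Fin n → R)) = z := by
    intro z
    apply Subtype.ext
    rw [hretZ_coe]
    have h0 : chi (z : (↥(ι s).support → R) × (Fin n → R)) = 0 := z.2
    rw [h0, map_zero, sub_zero]
  let mu : Z →ₗ[R] P := (j.coprod lam) ∘ₗ Z.subtype
  have hmu : ∀ (f : ↥(ι s).support → R) (c : Fin n → R) (hz : (f, c) ∈ Z),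
      mu ⟨(f, c), hz⟩ = j f + lam c := by
    intro f c hz
    show (j.coprod lam) (f, c) = _
    rw [LinearMap.coprod_apply]
  let r : P →ₗ[R] Z := retZ ∘ₗ (LinearMap.prod g0 (pv ∘ₗ (LinearMap.id - j ∘ₗ g0)))
  have hr : ∀ z : Z, r (mu z) = z := by
    rintro ⟨⟨f, c⟩, hz⟩
    have hz' : (E f - f) + g0 (lam c) = 0 := by
      rw [← hchi]; exact hz
    have h1 : g0 (j f + lam c) = f := by
      rw [map_add, ← hE]
      have e : E f + g0 (lam c) = ((E f - f) + g0 (lam c)) + f := by abel
      rw [e, hz', zero_add]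
    have h2 : pv ((j f + lam c) - j (g0 (j f + lam c))) = c := by
      rw [h1, add_sub_cancel_left, hpv]
    have h3 : (LinearMap.prod g0 (pv ∘ₗ (LinearMap.id - j ∘ₗ g0))) (j f + lam c) = (f, c) := by
      rw [LinearMap.prod_apply]
      exact Prod.ext h1 h2
    have e1 : r (mu ⟨(f, c), hz⟩) =
        retZ ((LinearMap.prod g0 (pv ∘ₗ (LinearMap.id - j ∘ₗ g0))) (mu ⟨(f, c), hz⟩)) := rfl
    rw [e1, hmu, h3]
    exact hretZ ⟨(f, c), hz⟩
  have hcompl : IsCompl (LinearMap.range mu) (LinearMap.ker r) :=
    KaplanskyLocal.isCompl_range_ker mu r hr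
  have hmu_inj : Function.Injective mu := fun a b hab => by rw [← hr a, ← hr b, hab]
  let e1map : Z × (↥(ι s).support → R) →ₗ[R] (↥(ι s).support → R) × (Fin n → R) :=
    Z.subtype.coprod σ
  have he1 : ∀ (z : Z) (f : ↥(ι s).support → R),
      e1map (z, f) = (z : (↥(ι s).support → R) × (Fin n → R)) + σ f := by
    intro z f
    show (Z.subtype.coprod σ) (z, f) = _
    rw [LinearMap.coprod_apply]
    rfl
  have he1_inj : Function.Injective e1map := by
    rw [← LinearMap.ker_eq_bot, LinearMap.ker_eq_bot']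
    rintro ⟨z, f⟩ h
    rw [he1] at h
    have h2 := congrArg chi h
    rw [map_add, map_zero, hσ'] at h2
    have hz0 : chi (z : (↥(ι s).support → R) × (Fin n → R)) = 0 := z.2
    rw [hz0, zero_add] at h2
    subst h2
    rw [map_zero, add_zero] at h
    have hz1 : z = 0 := Subtype.ext h
    rw [hz1]
    rfl
  have he1_surj : Function.Surjective e1map := by
    intro x
    refine ⟨(retZ x, chi x), ?_⟩
    rw [he1, hretZ_coe]
    abel
  let e1 : (Z × (↥(ι s).support → R)) ≃ₗ[R] (↥(ι s).support → R) × (Fin n → R) :=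
    LinearEquiv.ofBijective e1map ⟨he1_inj, he1_surj⟩
  haveI : Module.Finite R Z := Module.Finite.of_surjective retZ (fun z => ⟨z, hretZ z⟩)
  refine ⟨LinearMap.range mu, LinearMap.ker r, hcompl, ?_, ?_, Fintype.card ↥(ι s).support, ?_⟩
  · rw [LinearMap.range_eq_map]
    exact Submodule.FG.map _ Module.Finite.fg_top
  · have hv : ((v, 0) : (↥(ι s).support → R) × (Fin n → R)) ∈ Z := by
      show chi (v, 0) = 0
      rw [hchi, map_zero, map_zero, add_zero, hE, hjv]
      exact sub_self _
    refine ⟨⟨(v, 0), hv⟩, ?_⟩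
    rw [hmu, map_zero, add_zero, hjv]
  · exact Module.Free.of_equiv (e1.symm ≪≫ₗ
      (LinearEquiv.prodCongr (LinearEquiv.ofInjective mu hmu_inj)
        (LinearEquiv.funCongrLeft R R (Fintype.equivFin ↥(ι s).support).symm)))

/-- S7111 -/
theorem main7111 (R : Type u) [CommRing R] [IsNoetherianRing (R ⧸ (⊥ : Ideal R).jacobson)]
    (P : Type u) [AddCommGroup P] [Module R P] [Module.Projective R P]
    (hP : ∀ (m : Ideal R) [m.IsMaximal],
      ¬ Module.Finite (Localization.AtPrime m) (LocalizedModule m.primeCompl P))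
    (s : P) :
    ∃ (K K' : Submodule R P), IsCompl K K' ∧ Module.Finite R K ∧ Module.IsStablyFree R K ∧
      s ∈ K := by
  obtain ⟨K, K', hc, hfg, hs, k, hfree⟩ := exists_sf_summand P (big_of_not_finite P hP) s
  haveI := hfree
  exact ⟨K, K', hc, Module.Finite.iff_fg.2 hfg,
    Module.IsStablyFree.of_free_prod R K (Fin k → R), hs⟩

/-- every element of a big projective lies in a finite free direct summand -/
theorem exists_free_summand [IsNoetherianRing (R ⧸ (⊥ : Ideal R).jacobson)]
    (P : Type u) [AddCommGroup P] [Module R P] [Module.Projective R P] (hbig : Big R P) (s : P) :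
    ∃ G G' : Submodule R P, IsCompl G G' ∧ G.FG ∧ Module.Free R G ∧ s ∈ G := by
  obtain ⟨K, K', hc, hfg, hs, k, hfree⟩ := exists_sf_summand P hbig s
  haveI := hfree
  haveI : Module.Finite R K := Module.Finite.iff_fg.2 hfg
  haveI : Module.Projective R K' :=
    Module.Projective.of_split K'.subtype (K'.projectionOnto K hc.symm)
      (Submodule.projectionOnto_comp_subtype hc.symm)
  have hbig' : Big R K' := by
    refine big_of_map K'.subtype K hfg ?_ hbig
    rw [Submodule.range_subtype, sup_comm]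
    exact hc.sup_eq_top
  obtain ⟨l, φ, hδ, -⟩ := exists_free_summand_onto (R := R) k K' hbig' PUnit.{u + 1}
    (0 : K' →ₗ[R] PUnit.{u + 1}) (fun y => ⟨0, Subsingleton.elim _ _⟩) (fun _ => PUnit.unit)
    (eq_top_iff.2 (fun x _ => by rw [Subsingleton.elim x 0]; exact Submodule.zero_mem _))
  let lam : (Fin k → R) →ₗ[R] P := K'.subtype ∘ₗ Fintype.linearCombination R l
  have hlam : ∀ c, lam c = ((Fintype.linearCombination R l c : K') : P) := fun c => rfl
  let muG : K × (Fin k → R) →ₗ[R] P := K.subtype.coprod lam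
  have hmuG : ∀ (x : K) (c : Fin k → R), muG (x, c) = (x : P) + lam c := by
    intro x c
    show (K.subtype.coprod lam) (x, c) = _
    rw [LinearMap.coprod_apply]
    rfl
  let rG : P →ₗ[R] K × (Fin k → R) :=
    LinearMap.prod (K.projectionOnto K' hc) (LinearMap.pi φ ∘ₗ K'.projectionOnto K hc.symm)
  have hrG : ∀ x, rG (muG x) = x := by
    rintro ⟨x, c⟩
    rw [hmuG]
    have e1 : K.projectionOnto K' hc ((x : P) + lam c) = x := by
      rw [map_add, Submodule.projectionOnto_apply_left,
        Submodule.projectionOnto_apply_of_mem_right hc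
          (hlam c ▸ (Fintype.linearCombination R l c).2), add_zero]
    have e2 : K'.projectionOnto K hc.symm ((x : P) + lam c) =
        Fintype.linearCombination R l c := by
      rw [map_add, Submodule.projectionOnto_apply_of_mem_right hc.symm x.2, zero_add, hlam]
      exact Submodule.projectionOnto_apply_left hc.symm (Fintype.linearCombination R l c)
    show (K.projectionOnto K' hc ((x : P) + lam c),
      LinearMap.pi φ (K'.projectionOnto K hc.symm ((x : P) + lam c))) = (x, c)
    rw [e1, e2, pi_dual_apply l φ hδ c]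
  have hinj : Function.Injective muG := fun a b hab => by rw [← hrG a, ← hrG b, hab]
  refine ⟨LinearMap.range muG, LinearMap.ker rG,
    KaplanskyLocal.isCompl_range_ker muG rG hrG, ?_, ?_, ?_⟩
  · rw [LinearMap.range_eq_map]
    exact Submodule.FG.map _ Module.Finite.fg_top
  · exact Module.Free.of_equiv (LinearEquiv.ofInjective muG hinj)
  · refine ⟨(⟨s, hs⟩, 0), ?_⟩
    rw [hmuG, map_zero, add_zero]

/-- S7112 -/
theorem main7112 (R : Type u) [CommRing R] [IsNoetherianRing (R ⧸ (⊥ : Ideal R).jacobson)]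
    (P : Type u) [AddCommGroup P] [Module R P] [Module.Projective R P]
    (hP : ∀ (m : Ideal R) [m.IsMaximal],
      ¬ Module.Finite (Localization.AtPrime m) (LocalizedModule m.primeCompl P))
    (hc : CAlg.IsCountablyGenerated R P) : Module.Free R P := by
  have hbig := big_of_not_finite P hP
  obtain ⟨s0, hs0c, hs0s⟩ := hc
  have hne : (insert (0 : P) s0).Nonempty := Set.insert_nonempty _ _
  obtain ⟨x, hx⟩ := (hs0c.insert 0).exists_eq_range hne
  have hxspan : Submodule.span R (Set.range x) = ⊤ := by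
    rw [← hx, eq_top_iff, ← hs0s]
    exact Submodule.span_mono (Set.subset_insert _ _)
  have step : ∀ (S T : Submodule R P), IsCompl S T → S.FG → ∀ y : P,
      ∃ F1 T' : Submodule R P, IsCompl (S ⊔ F1) T' ∧ F1 ≤ T ∧ Module.Free R F1 ∧ F1.FG ∧
        y ∈ S ⊔ F1 := by
    intro S T hST hSfg y
    haveI : Module.Projective R T :=
      Module.Projective.of_split T.subtype (T.projectionOnto S hST.symm)
        (Submodule.projectionOnto_comp_subtype hST.symm)
    have hbigT : Big R T := by
      refine big_of_map T.subtype S hSfg ?_ hbig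
      rw [Submodule.range_subtype, sup_comm]
      exact hST.sup_eq_top
    obtain ⟨F1', G1', hFG, hfg1, hfree, hz⟩ :=
      exists_free_summand (R := R) T hbigT (T.projectionOnto S hST.symm y)
    haveI := hfree
    refine ⟨F1'.map T.subtype, G1'.map T.subtype, ?_, ?_, ?_, hfg1.map _, ?_⟩
    · constructor
      · rw [Submodule.disjoint_def]
        intro v hv hvG
        obtain ⟨s1, hs1, f, hf, rfl⟩ := Submodule.mem_sup.1 hv
        have hfT : f ∈ T := by
          obtain ⟨f', _, rfl⟩ := hf
          exact f'.2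
        have hvT : s1 + f ∈ T := by
          obtain ⟨g', _, hg'⟩ := hvG
          rw [← hg']
          exact g'.2
        have hs1T : s1 ∈ T := by
          have h := T.sub_mem hvT hfT
          simpa using h
        have hs10 : s1 = 0 := (Submodule.disjoint_def.1 hST.disjoint) s1 hs1 hs1T
        rw [hs10, zero_add] at hvG ⊢
        obtain ⟨f', hf', rfl⟩ := hf
        obtain ⟨g', hg', hgf⟩ := hvG
        have hgf' : g' = f' := Subtype.ext hgf
        rw [hgf'] at hg'
        have h0 := (Submodule.disjoint_def.1 hFG.disjoint) f' hf' hg'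
        rw [h0, map_zero]
      · rw [codisjoint_iff, sup_assoc, ← Submodule.map_sup, hFG.sup_eq_top,
          Submodule.map_subtype_top]
        exact hST.sup_eq_top
    · rintro _ ⟨f', _, rfl⟩
      exact f'.2
    · exact Module.Free.of_equiv (Submodule.equivSubtypeMap T F1')
    · have hy : y = (S.projection T hST) y + (T.projection S hST.symm) y :=
        (Submodule.projection_add_projection_eq_self hST y).symm
      rw [hy]
      refine Submodule.add_mem _ (Submodule.mem_sup_left (Submodule.projection_apply_mem hST y))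
        (Submodule.mem_sup_right ?_)
      exact ⟨_, hz, rfl⟩
  choose F1 T' hcompl hle hfree hfg hmem using step
  let St := {ST : Submodule R P × Submodule R P // IsCompl ST.1 ST.2 ∧ ST.1.FG}
  let st : ℕ → St := fun n => Nat.rec (motive := fun _ => St)
    ⟨(⊥, ⊤), isCompl_bot_top, Submodule.fg_bot⟩
    (fun n ST => ⟨(ST.1.1 ⊔ F1 ST.1.1 ST.1.2 ST.2.1 ST.2.2 (x n),
        T' ST.1.1 ST.1.2 ST.2.1 ST.2.2 (x n)),
      hcompl ST.1.1 ST.1.2 ST.2.1 ST.2.2 (x n),
      ST.2.2.sup (hfg ST.1.1 ST.1.2 ST.2.1 ST.2.2 (x n))⟩) n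
  let Sn : ℕ → Submodule R P := fun n => (st n).1.1
  let Tn : ℕ → Submodule R P := fun n => (st n).1.2
  have hSTn : ∀ n, IsCompl (Sn n) (Tn n) := fun n => (st n).2.1
  have hSfg : ∀ n, (Sn n).FG := fun n => (st n).2.2
  let Fn : ℕ → Submodule R P := fun n => F1 (Sn n) (Tn n) (hSTn n) (hSfg n) (x n)
  have hS0 : Sn 0 = ⊥ := rfl
  have hSsucc : ∀ n, Sn (n + 1) = Sn n ⊔ Fn n := fun n => rfl
  have hFT : ∀ n, Fn n ≤ Tn n := fun n => hle _ _ _ _ _
  have hFfree : ∀ n, Module.Free R (Fn n) := fun n => hfree _ _ _ _ _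
  have hxS : ∀ n, x n ∈ Sn (n + 1) := fun n => hmem _ _ _ _ _
  have hSsup : ∀ n, Sn n = ⨆ k, ⨆ (_ : k < n), Fn k := by
    intro n
    induction n with
    | zero =>
      rw [hS0]
      simp
    | succ n ih => rw [hSsucc, Nat.iSup_lt_succ, ← ih]
  have hindF : iSupIndep Fn := by
    rw [iSupIndep_iff_finsetSum_eq_zero_imp_eq_zero]
    intro s
    induction s using Finset.induction_on_max with
    | empty =>
      intro v _ _ i hi
      exact absurd hi (Finset.notMem_empty i)
    | insert a s hlt ih =>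
      intro v hv hsum i hi
      have has : a ∉ s := fun h => lt_irrefl a (hlt a h)
      rw [Finset.sum_insert has] at hsum
      have hva : v a = 0 := by
        have h1 : v a = -∑ j ∈ s, v j := eq_neg_of_add_eq_zero_left hsum
        have h2 : v a ∈ Sn a := by
          rw [h1, hSsup]
          refine Submodule.neg_mem _ (Submodule.sum_mem _ fun j hj => ?_)
          exact (le_iSup₂ (f := fun k (_ : k < a) => Fn k) j (hlt j hj))
            (hv j (Finset.mem_insert_of_mem hj))
        exact (Submodule.disjoint_def.1 (hSTn a).disjoint) _ h2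
          (hFT a (hv a (Finset.mem_insert_self a s)))
      rw [hva, zero_add] at hsum
      rcases Finset.mem_insert.1 hi with rfl | hi'
      · exact hva
      · exact ih v (fun j hj => hv j (Finset.mem_insert_of_mem hj)) hsum i hi'
  have htopF : iSup Fn = ⊤ := by
    rw [eq_top_iff, ← hxspan, Submodule.span_le]
    rintro _ ⟨n, rfl⟩
    have h := (hSsup (n + 1)).le (hxS n)
    exact (iSup₂_le fun k _ => le_iSup Fn k) h
  have hint : DirectSum.IsInternal Fn :=
    DirectSum.isInternal_submodule_of_iSupIndep_of_iSup_eq_top hindF htopF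
  haveI := hFfree
  exact Module.Free.of_equiv (LinearEquiv.ofBijective (DirectSum.coeLinearMap Fn) hint)

end Groth.Agent.Lib.BassBigH4
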