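import Mathlib
import Groth.Prelude.Def_GSzMilK

/-!
# Basic symbol calculus in Milnor K-theory (helper4)

Multilinearity of symbols, the relations `{x, -x} = 0`, `{x, x} = {x, -1}`, anticommutativity in
`K_2`, extensionality of additive maps on symbols, and vanishing of the tame symbol on unit symbols.
-/

set_option autoImplicit false
universe u v w

namespace Groth.Agent.Lib.MilKH4

open MilK

section Basic

variable {F : Type u} [Field F]

theorem symbol_update_mul {n : ℕ} (x : Fin n → Fˣ) (i : Fin n) (a b : Fˣ) :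
    (symbol (Function.update x i (a * b)) : K F n) =
      symbol (Function.update x i a) + symbol (Function.update x i b) := by
  have key : ∀ c : Fˣ, (fun j => Additive.ofMul (Function.update x i c j)) =
      Function.update (fun j => Additive.ofMul (x j)) i (Additive.ofMul c) := by
    intro c; funext j
    by_cases h : j = i
    · subst h; simp
    · simp [Function.update_of_ne h]
  unfold symbol
  rw [key, key, key, ofMul_mul, MultilinearMap.map_update_add, map_add]

theorem symbol_cons_mul {n : ℕ} (a b : Fˣ) (v : Fin n → Fˣ) :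
    (symbol (Fin.cons (a * b) v : Fin (n + 1) → Fˣ) : K F (n + 1)) =
      symbol (Fin.cons a v : Fin (n + 1) → Fˣ) + symbol (Fin.cons b v : Fin (n + 1) → Fˣ) := by
  have key : ∀ c : Fˣ, (fun i => Additive.ofMul ((Fin.cons c v : Fin (n + 1) → Fˣ) i)) =
      (Fin.cons (Additive.ofMul c) (fun i => Additive.ofMul (v i)) :
        Fin (n + 1) → Additive Fˣ) := by
    intro c; funext i
    refine Fin.cases ?_ (fun j => ?_) i
    · simp
    · simp
  unfold symbol
  rw [key, key, key, ofMul_mul, MultilinearMap.cons_add, map_add]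

theorem hom_ext {M : Type w} [AddCommGroup M] {n : ℕ} (f g : K F n →+ M)
    (h : ∀ x : Fin n → Fˣ, f (symbol x) = g (symbol x)) : f = g := by
  have key : (f.comp (mk F n)).toIntLinearMap = (g.comp (mk F n)).toIntLinearMap := by
    apply PiTensorProduct.ext
    apply MultilinearMap.ext
    intro v
    show f (mk F n (PiTensorProduct.tprod ℤ v)) = g (mk F n (PiTensorProduct.tprod ℤ v))
    rw [mk_tprod]
    exact h _
  apply AddMonoidHom.ext
  intro x
  obtain ⟨t, rfl⟩ := mk_surjective F n x
  exact LinearMap.congr_fun key t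

/-! ### `K_2` -/

theorem sym2_mul_left (a a' b : Fˣ) :
    (symbol ![a * a', b] : K F 2) = symbol ![a, b] + symbol ![a', b] := by
  have h : ∀ c : Fˣ, (![c, b] : Fin 2 → Fˣ) = Function.update ![a, b] 0 c := by
    intro c; funext i; fin_cases i <;> simp
  have := symbol_update_mul (F := F) ![a, b] 0 a a'
  rw [← h (a * a'), ← h a, ← h a'] at this
  exact this

theorem sym2_mul_right (a b b' : Fˣ) :
    (symbol ![a, b * b'] : K F 2) = symbol ![a, b] + symbol ![a, b'] := by
  have h : ∀ c : Fˣ, (![a, c] : Fin 2 → Fˣ) = Function.update ![a, b] 1 c := by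
    intro c; funext i; fin_cases i <;> simp
  have := symbol_update_mul (F := F) ![a, b] 1 b b'
  rw [← h (b * b'), ← h b, ← h b'] at this
  exact this

theorem sym2_one_left (b : Fˣ) : (symbol ![1, b] : K F 2) = 0 := by
  have := sym2_mul_left (F := F) 1 1 b
  rw [mul_one] at this
  have h2 : (symbol ![1, b] : K F 2) + 0 = symbol ![1, b] + symbol ![1, b] := by
    rw [add_zero]; exact this
  exact (add_left_cancel h2).symm

theorem sym2_one_right (a : Fˣ) : (symbol ![a, 1] : K F 2) = 0 := by
  have := sym2_mul_right (F := F) a 1 1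
  rw [mul_one] at this
  have h2 : (symbol ![a, 1] : K F 2) + 0 = symbol ![a, 1] + symbol ![a, 1] := by
    rw [add_zero]; exact this
  exact (add_left_cancel h2).symm

theorem sym2_inv_left (a b : Fˣ) : (symbol ![a⁻¹, b] : K F 2) = -symbol ![a, b] := by
  have := sym2_mul_left (F := F) a a⁻¹ b
  rw [mul_inv_cancel, sym2_one_left] at this
  exact eq_neg_of_add_eq_zero_right this.symm

theorem sym2_inv_right (a b : Fˣ) : (symbol ![a, b⁻¹] : K F 2) = -symbol ![a, b] := by
  have := sym2_mul_right (F := F) a b b⁻¹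
  rw [mul_inv_cancel, sym2_one_right] at this
  exact eq_neg_of_add_eq_zero_right this.symm

theorem sym2_steinberg (a b : Fˣ) (h : (a : F) + (b : F) = 1) : (symbol ![a, b] : K F 2) = 0 :=
  symbol_eq_zero_of_isSteinberg _ ⟨0, 1, by decide, by simpa using h⟩

theorem sym2_neg_self (x : Fˣ) : (symbol ![x, -x] : K F 2) = 0 := by
  by_cases hx : x = 1
  · subst hx; exact sym2_one_left _
  · have hx0 : (x : F) ≠ 0 := x.ne_zero
    have h1 : (1 - (x : F)) ≠ 0 := sub_ne_zero.2 (fun h => hx (Units.ext h.symm))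
    have h2 : (1 - (x : F)⁻¹) ≠ 0 := by
      refine sub_ne_zero.2 (fun h => hx (Units.ext ?_))
      have : (x : F)⁻¹ = 1 := h.symm
      rw [inv_eq_one] at this
      exact this
    let u : Fˣ := Units.mk0 _ h1
    let w : Fˣ := Units.mk0 _ h2
    have e : -x = u * w⁻¹ := by
      apply Units.ext
      show -(x : F) = (1 - (x : F)) * (1 - (x : F)⁻¹)⁻¹
      rw [eq_mul_inv_iff_mul_eq₀ h2, mul_sub, mul_one, neg_mul, mul_inv_cancel₀ hx0]
      ring
    have hu : (symbol ![x, u] : K F 2) = 0 := sym2_steinberg x u (by simp [u])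
    have hw : (symbol ![x⁻¹, w] : K F 2) = 0 := sym2_steinberg x⁻¹ w (by simp [w])
    rw [sym2_inv_left] at hw
    rw [e, sym2_mul_right, sym2_inv_right, hu, zero_add]
    exact hw

theorem sym2_self (x : Fˣ) : (symbol ![x, x] : K F 2) = symbol ![x, -1] := by
  have e : x = (-1) * (-x) := by rw [neg_mul_neg, one_mul]
  conv_lhs => rw [show (![x, x] : Fin 2 → Fˣ) = ![x, (-1) * (-x)] from by rw [← e]]
  rw [sym2_mul_right, sym2_neg_self, add_zero]

theorem sym2_anticomm (x y : Fˣ) : (symbol ![x, y] : K F 2) + symbol ![y, x] = 0 := by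
  have h := sym2_neg_self (F := F) (x * y)
  rw [sym2_mul_left] at h
  have e1 : -(x * y) = (-x) * y := by rw [neg_mul]
  have e2 : -(x * y) = (-y) * x := by rw [neg_mul, mul_comm]
  have h1 : (symbol ![x, -(x * y)] : K F 2) = symbol ![x, y] := by
    rw [e1, sym2_mul_right, sym2_neg_self, zero_add]
  have h2 : (symbol ![y, -(x * y)] : K F 2) = symbol ![y, x] := by
    rw [e2, sym2_mul_right, sym2_neg_self, zero_add]
  rw [h1, h2] at h
  exact h

theorem sym2_swap (x y : Fˣ) : (symbol ![y, x] : K F 2) = -symbol ![x, y] :=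
  eq_neg_of_add_eq_zero_right (sym2_anticomm x y)

/-- `a ↦ {a, b}` as an additive map. -/
noncomputable def sym2L (b : Fˣ) : Additive Fˣ →+ K F 2 :=
  AddMonoidHom.mk' (fun a => symbol ![Additive.toMul a, b]) (fun x y => sym2_mul_left _ _ _)

/-- `b ↦ {a, b}` as an additive map. -/
noncomputable def sym2R (a : Fˣ) : Additive Fˣ →+ K F 2 :=
  AddMonoidHom.mk' (fun b => symbol ![a, Additive.toMul b]) (fun x y => sym2_mul_right _ _ _)

theorem sym2_zpow_left (a b : Fˣ) (k : ℤ) :
    (symbol ![a ^ k, b] : K F 2) = k • symbol ![a, b] := by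
  have := map_zsmul (sym2L (F := F) b) k (Additive.ofMul a)
  exact this

theorem sym2_zpow_right (a b : Fˣ) (k : ℤ) :
    (symbol ![a, b ^ k] : K F 2) = k • symbol ![a, b] := by
  have := map_zsmul (sym2R (F := F) a) k (Additive.ofMul b)
  exact this

/-! ### `K_1` -/

theorem sym1_mul (a b : Fˣ) : (symbol ![a * b] : K F 1) = symbol ![a] + symbol ![b] := by
  have h : ∀ c : Fˣ, (![c] : Fin 1 → Fˣ) = Function.update ![a] 0 c := by
    intro c; funext i; fin_cases i; simp
  have := symbol_update_mul (F := F) ![a] 0 a b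
  rw [← h (a * b), ← h a, ← h b] at this
  exact this

/-- `a ↦ {a}` as an additive map. -/
noncomputable def sym1L : Additive Fˣ →+ K F 1 :=
  AddMonoidHom.mk' (fun a => symbol ![Additive.toMul a]) (fun x y => sym1_mul _ _)

theorem sym1_zpow (a : Fˣ) (k : ℤ) : (symbol ![a ^ k] : K F 1) = k • symbol ![a] := by
  have := map_zsmul (sym1L (F := F)) k (Additive.ofMul a)
  exact this

end Basic

section Tame

variable (A : Type u) [CommRing A] [IsDomain A] [IsDiscreteValuationRing A]
  (L : Type v) [Field L] [Algebra A L] [IsFractionRing A L]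

theorem unitFrac_mul_unit (ϖ : A) (h : ϖ ≠ 0) (u : Aˣ) (h' : ϖ * (u : A) ≠ 0) :
    unitFrac A L (ϖ * (u : A)) h' = unitFrac A L ϖ h * unitToFrac A L u := by
  apply Units.ext
  show algebraMap A L (ϖ * (u : A)) = algebraMap A L ϖ * algebraMap A L (u : A)
  exact map_mul _ _ _

/-- The tame symbol vanishes on symbols of units. -/
theorem tame_units (n : ℕ) (d : K L (n + 1) →+ K (IsLocalRing.ResidueField A) n)
    (hd : IsTameSymbol A L n d) (u : Fin (n + 1) → Aˣ) :
    d (symbol fun i => unitToFrac A L (u i)) = 0 := by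
  obtain ⟨ϖ, hϖ⟩ := IsDiscreteValuationRing.exists_irreducible A
  have hϖ' : Irreducible (ϖ * ((u 0 : Aˣ) : A)) := (irreducible_mul_units (u 0)).2 hϖ
  have e : (fun i => unitToFrac A L (u i)) =
      (Fin.cons (unitToFrac A L (u 0)) (fun i : Fin n => unitToFrac A L (u i.succ)) :
        Fin (n + 1) → Lˣ) := by
    funext i
    refine Fin.cases ?_ (fun j => ?_) i
    · simp
    · simp
  have h1 := hd ϖ hϖ (fun i => u i.succ)
  have h2 := hd (ϖ * ((u 0 : Aˣ) : A)) hϖ' (fun i => u i.succ)
  rw [unitFrac_mul_unit A L ϖ hϖ.ne_zero (u 0) hϖ'.ne_zero, symbol_cons_mul, map_add, h1] at h2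
  rw [e]
  have h3 : (symbol fun i => unitResidue A (u i.succ)) + d (symbol (Fin.cons (unitToFrac A L (u 0))
      (fun i : Fin n => unitToFrac A L (u i.succ)) : Fin (n + 1) → Lˣ)) =
      (symbol fun i => unitResidue A (u i.succ)) + 0 := by
    rw [add_zero]; exact h2
  exact add_left_cancel h3

theorem append_one_comp_cast {α : Type*} {n : ℕ} (a : α) (y : Fin n → α) (h : n + 1 = 1 + n) :
    Fin.append ![a] y ∘ Fin.cast h = (Fin.cons a y : Fin (n + 1) → α) := by
  funext i
  refine Fin.cases ?_ (fun j => ?_) i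
  · have e : Fin.cast h (0 : Fin (n + 1)) = Fin.castAdd n (0 : Fin 1) := Fin.ext (by simp)
    rw [Function.comp_apply, e, Fin.append_left]
    simp
  · have e : Fin.cast h j.succ = Fin.natAdd 1 j := Fin.ext (by simp [add_comm])
    rw [Function.comp_apply, e, Fin.append_right]
    simp

/-- The tame symbol of `{π, u}`. -/
theorem tame2 (d : K L 2 →+ K (IsLocalRing.ResidueField A) 1) (hd : IsTameSymbol A L 1 d)
    (ϖ : A) (hϖ : Irreducible ϖ) (u : Aˣ) :
    d (symbol ![unitFrac A L ϖ hϖ.ne_zero, unitToFrac A L u]) = symbol ![unitResidue A u] := by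
  have h := hd ϖ hϖ (fun _ => u)
  have e1 : (Fin.cons (unitFrac A L ϖ hϖ.ne_zero) (fun _ : Fin 1 => unitToFrac A L u) :
      Fin 2 → Lˣ) = ![unitFrac A L ϖ hϖ.ne_zero, unitToFrac A L u] := by
    funext i; fin_cases i <;> rfl
  have e2 : (fun _ : Fin 1 => unitResidue A u) = ![unitResidue A u] := by
    funext i; fin_cases i; rfl
  rw [e1, e2] at h
  exact h

theorem unitToFrac_neg_one : unitToFrac A L (-1) = -1 := by
  apply Units.ext
  show algebraMap A L ((-1 : Aˣ) : A) = ((-1 : Lˣ) : L)
  simp

theorem unitResidue_neg_one : unitResidue A (-1) = -1 := by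
  apply Units.ext
  show IsLocalRing.residue A ((-1 : Aˣ) : A) = ((-1 : (IsLocalRing.ResidueField A)ˣ) : IsLocalRing.ResidueField A)
  simp

/-- The tame symbol vanishes on `{u, u'}` for units. -/
theorem tame2_units (d : K L 2 →+ K (IsLocalRing.ResidueField A) 1) (hd : IsTameSymbol A L 1 d)
    (u u' : Aˣ) : d (symbol ![unitToFrac A L u, unitToFrac A L u']) = 0 := by
  have h := tame_units A L 1 d hd ![u, u']
  have e : (fun i => unitToFrac A L (![u, u'] i)) = ![unitToFrac A L u, unitToFrac A L u'] := by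
    funext i; fin_cases i <;> rfl
  rw [e] at h
  exact h

end Tame

end Groth.Agent.Lib.MilKH4
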