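import Mathlib
import Groth.Prelude.Def_GSzMilK
import Groth.Agent.Lib.MilK_helper4

/-!
# Milnor K-theory: two-slot calculus, transpositions, generation over a DVR (helper4)
-/

set_option autoImplicit false

universe u v w

namespace Groth.Agent.Lib.MilK2H4

open MilK Groth.Agent.Lib.MilKH4

section Abstract

variable {F : Type u} [Field F] {M : Type w} [AddCommGroup M]

/-- An abstract Steinberg symbol with values in an additive group. -/
structure IsStSym (s : Fˣ → Fˣ → M) : Prop where
  mul_left : ∀ a a' b, s (a * a') b = s a b + s a' b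
  mul_right : ∀ a b b', s a (b * b') = s a b + s a b'
  stein : ∀ a b : Fˣ, (a : F) + (b : F) = 1 → s a b = 0

namespace IsStSym

variable {s : Fˣ → Fˣ → M}

theorem one_left (h : IsStSym s) (b : Fˣ) : s 1 b = 0 := by
  have h1 := h.mul_left 1 1 b
  rw [mul_one] at h1
  have h2 : s 1 b + 0 = s 1 b + s 1 b := by rw [add_zero]; exact h1
  exact (add_left_cancel h2).symm

theorem one_right (h : IsStSym s) (a : Fˣ) : s a 1 = 0 := by
  have h1 := h.mul_right a 1 1
  rw [mul_one] at h1
  have h2 : s a 1 + 0 = s a 1 + s a 1 := by rw [add_zero]; exact h1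
  exact (add_left_cancel h2).symm

theorem inv_left (h : IsStSym s) (a b : Fˣ) : s a⁻¹ b = - s a b := by
  have h1 := h.mul_left a a⁻¹ b
  rw [mul_inv_cancel, h.one_left] at h1
  exact eq_neg_of_add_eq_zero_right h1.symm

theorem inv_right (h : IsStSym s) (a b : Fˣ) : s a b⁻¹ = - s a b := by
  have h1 := h.mul_right a b b⁻¹
  rw [mul_inv_cancel, h.one_right] at h1
  exact eq_neg_of_add_eq_zero_right h1.symm

theorem neg_self (h : IsStSym s) (x : Fˣ) : s x (-x) = 0 := by
  by_cases hx : x = 1
  · subst hx; exact h.one_left _
  · have hx0 : (x : F) ≠ 0 := x.ne_zero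
    have h1 : (1 - (x : F)) ≠ 0 := sub_ne_zero.2 (fun h => hx (Units.ext h.symm))
    have h2 : (1 - (x : F)⁻¹) ≠ 0 := by
      refine sub_ne_zero.2 (fun h => hx (Units.ext ?_))
      have : (x : F)⁻¹ = 1 := h.symm
      rw [inv_eq_one] at this
      exact this
    let u : Fˣ := Units.mk0 _ h1
    let w : Fˣ := Units.mk0 _ h2
    have e : -x = u * w⁻¹ := by
      apply Units.ext
      show -(x : F) = (1 - (x : F)) * (1 - (x : F)⁻¹)⁻¹
      rw [eq_mul_inv_iff_mul_eq₀ h2, mul_sub, mul_one, neg_mul, mul_inv_cancel₀ hx0]
      ring
    have hu : s x u = 0 := h.stein x u (by simp [u])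
    have hw : s x⁻¹ w = 0 := h.stein x⁻¹ w (by simp [w])
    rw [h.inv_left] at hw
    rw [e, h.mul_right, h.inv_right, hu, zero_add]
    exact hw

theorem self (h : IsStSym s) (x : Fˣ) : s x x = s x (-1) := by
  have e : x = (-1) * (-x) := by rw [neg_mul_neg, one_mul]
  conv_lhs => rw [e, h.mul_right]
  rw [← e, h.neg_self, add_zero]

theorem anticomm (h : IsStSym s) (x y : Fˣ) : s x y + s y x = 0 := by
  have h0 := h.neg_self (x * y)
  rw [h.mul_left] at h0
  have e1 : -(x * y) = (-x) * y := by rw [neg_mul]
  have e2 : -(x * y) = (-y) * x := by rw [neg_mul, mul_comm]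
  have h1 : s x (-(x * y)) = s x y := by
    rw [e1, h.mul_right, h.neg_self, zero_add]
  have h2 : s y (-(x * y)) = s y x := by
    rw [e2, h.mul_right, h.neg_self, zero_add]
  rw [h1, h2] at h0
  exact h0

theorem swap (h : IsStSym s) (x y : Fˣ) : s y x = - s x y :=
  eq_neg_of_add_eq_zero_right (h.anticomm x y)

theorem zpow_left (h : IsStSym s) (a b : Fˣ) (k : ℤ) : s (a ^ k) b = k • s a b := by
  have := map_zsmul (AddMonoidHom.mk' (fun a : Additive Fˣ => s (Additive.toMul a) b)
    (fun x y => h.mul_left _ _ _)) k (Additive.ofMul a)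
  exact this

theorem zpow_right (h : IsStSym s) (a b : Fˣ) (k : ℤ) : s a (b ^ k) = k • s a b := by
  have := map_zsmul (AddMonoidHom.mk' (fun b : Additive Fˣ => s a (Additive.toMul b))
    (fun x y => h.mul_right _ _ _)) k (Additive.ofMul b)
  exact this

end IsStSym

end Abstract

section Slots

variable {F : Type u} [Field F]

theorem symbol_update_zpow {n : ℕ} (x : Fin n → Fˣ) (i : Fin n) (a : Fˣ) (k : ℤ) :
    (symbol (Function.update x i (a ^ k)) : K F n) = k • symbol (Function.update x i a) := by
  have := map_zsmul (AddMonoidHom.mk' (fun a : Additive Fˣ =>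
    (symbol (Function.update x i (Additive.toMul a)) : K F n))
    (fun a b => symbol_update_mul x i _ _)) k (Additive.ofMul a)
  exact this

/-- The symbol with two slots replaced. -/
noncomputable def slot2 {n : ℕ} (f : Fin n → Fˣ) (i j : Fin n) (a b : Fˣ) : K F n :=
  symbol (Function.update (Function.update f i a) j b)

theorem slot2_isStSym {n : ℕ} (f : Fin n → Fˣ) (i j : Fin n) (hij : i ≠ j) :
    IsStSym (slot2 f i j) where
  mul_left a a' b := by
    unfold slot2
    rw [Function.update_comm hij (a * a') b f, Function.update_comm hij a b f,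
      Function.update_comm hij a' b f]
    exact symbol_update_mul _ i a a'
  mul_right a b b' := symbol_update_mul (Function.update f i a) j b b'
  stein a b hab := by
    unfold slot2
    apply symbol_eq_zero_of_isSteinberg
    have hi : Function.update (Function.update f i a) j b i = a := by
      rw [Function.update_of_ne hij, Function.update_self]
    have hj : Function.update (Function.update f i a) j b j = b := Function.update_self _ _ _
    rcases lt_or_gt_of_ne hij with hlt | hlt
    · exact ⟨i, j, hlt, by rw [hi, hj]; exact hab⟩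
    · exact ⟨j, i, hlt, by rw [hi, hj, add_comm]; exact hab⟩

theorem symbol_swap {n : ℕ} (f : Fin n → Fˣ) (i j : Fin n) (hij : i ≠ j) :
    (symbol (f ∘ Equiv.swap i j) : K F n) = - symbol f := by
  have h := (slot2_isStSym f i j hij).swap (f i) (f j)
  have e1 : Function.update (Function.update f i (f j)) j (f i) = f ∘ Equiv.swap i j := by
    funext k
    by_cases hk : k = j
    · subst hk
      rw [Function.update_self, Function.comp_apply, Equiv.swap_apply_right]
    · by_cases hk' : k = i
      · subst hk'
        rw [Function.update_of_ne hk, Function.update_self, Function.comp_apply,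
          Equiv.swap_apply_left]
      · rw [Function.update_of_ne hk, Function.update_of_ne hk', Function.comp_apply,
          Equiv.swap_apply_of_ne_of_ne hk' hk]
  have e2 : Function.update (Function.update f i (f i)) j (f j) = f := by
    rw [Function.update_eq_self, Function.update_eq_self]
  unfold slot2 at h
  rw [e1, e2] at h
  exact h

theorem symbol_two_same {n : ℕ} (f : Fin n → Fˣ) (i j : Fin n) (hij : i ≠ j) (hfij : f i = f j) :
    (symbol f : K F n) = symbol (Function.update f j (-1)) := by
  have h := (slot2_isStSym f i j hij).self (f i)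
  unfold slot2 at h
  rw [Function.update_eq_self] at h
  rw [hfij, Function.update_eq_self] at h
  exact h

/-- `{a, -a, …}` at slots `i ≠ j` vanishes. -/
theorem symbol_neg_self {n : ℕ} (f : Fin n → Fˣ) (i j : Fin n) (hij : i ≠ j)
    (hfij : f j = - f i) : (symbol f : K F n) = 0 := by
  have h := (slot2_isStSym f i j hij).neg_self (f i)
  unfold slot2 at h
  rw [Function.update_eq_self, ← hfij, Function.update_eq_self] at h
  exact h

theorem symbol_cons_cons_swap {n : ℕ} (a b : Fˣ) (v : Fin n → Fˣ) :
    (symbol (Fin.cons a (Fin.cons b v : Fin (n + 1) → Fˣ) : Fin (n + 1 + 1) → Fˣ) : K F (n + 1 + 1)) =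
      - symbol (Fin.cons b (Fin.cons a v : Fin (n + 1) → Fˣ) : Fin (n + 1 + 1) → Fˣ) := by
  have h := symbol_swap (Fin.cons b (Fin.cons a v : Fin (n + 1) → Fˣ) : Fin (n + 1 + 1) → Fˣ)
    0 1 (by simp)
  rw [← h]
  congr 1
  funext k
  refine Fin.cases ?_ (fun k' => ?_) k
  · rw [Function.comp_apply, Equiv.swap_apply_left]
    rfl
  · refine Fin.cases ?_ (fun k'' => ?_) k'
    · rw [Function.comp_apply]
      have : Equiv.swap (0 : Fin (n + 1 + 1)) 1 (Fin.succ 0) = 0 := by
        have : (Fin.succ 0 : Fin (n + 1 + 1)) = 1 := rfl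
        rw [this, Equiv.swap_apply_right]
      rw [this]
      rfl
    · have h0 : (k''.succ.succ : Fin (n + 1 + 1)) ≠ 0 := Fin.succ_ne_zero _
      have h1 : (k''.succ.succ : Fin (n + 1 + 1)) ≠ 1 := by
        intro h1
        have : (1 : Fin (n + 1 + 1)) = Fin.succ 0 := rfl
        rw [this] at h1
        exact Fin.succ_ne_zero _ (Fin.succ_injective _ h1)
      rw [Function.comp_apply, Equiv.swap_apply_of_ne_of_ne h0 h1]
      rfl

end Slots

section DVR

variable (A : Type u) [CommRing A] [IsDomain A] [IsDiscreteValuationRing A]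
  (L : Type v) [Field L] [Algebra A L] [IsFractionRing A L]

theorem exists_zpow_unit (ϖ : A) (hϖ : Irreducible ϖ) (x : Lˣ) :
    ∃ (k : ℤ) (u : Aˣ), x = unitFrac A L ϖ hϖ.ne_zero ^ k * unitToFrac A L u := by
  obtain ⟨a, b, hb, hab⟩ := IsFractionRing.div_surjective (A := A) (x : L)
  have hb0 : b ≠ 0 := nonZeroDivisors.ne_zero hb
  have ha0 : a ≠ 0 := by
    rintro rfl
    rw [map_zero, zero_div] at hab
    exact x.ne_zero hab.symm
  obtain ⟨m, u, hu⟩ := IsDiscreteValuationRing.eq_unit_mul_pow_irreducible ha0 hϖ
  obtain ⟨m', u', hu'⟩ := IsDiscreteValuationRing.eq_unit_mul_pow_irreducible hb0 hϖ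
  refine ⟨(m : ℤ) - m', u * u'⁻¹, ?_⟩
  apply Units.ext
  have hπ0 : algebraMap A L ϖ ≠ 0 := (unitFrac A L ϖ hϖ.ne_zero).ne_zero
  have hu'0 : algebraMap A L (u' : A) ≠ 0 := (unitToFrac A L u').ne_zero
  have e1 : (x : L) = (algebraMap A L (u : A) * algebraMap A L ϖ ^ m) /
      (algebraMap A L (u' : A) * algebraMap A L ϖ ^ m') := by
    rw [← hab, hu, hu', map_mul, map_mul, map_pow, map_pow]
  have e2 : ((unitFrac A L ϖ hϖ.ne_zero ^ ((m : ℤ) - m') * unitToFrac A L (u * u'⁻¹) : Lˣ) : L) =
      algebraMap A L ϖ ^ ((m : ℤ) - m') *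
        (algebraMap A L (u : A) * (algebraMap A L (u' : A))⁻¹) := by
    rw [map_mul, map_inv, Units.val_mul, Units.val_zpow_eq_zpow_val, Units.val_mul,
      Units.val_inv_eq_inv_val]
    rfl
  rw [e1, e2, zpow_sub₀ hπ0, zpow_natCast, zpow_natCast]
  field_simp

/-- The two kinds of generators of `K_{n+1}(L)` for a DVR. -/
def gens (ϖ : A) (hϖ : Irreducible ϖ) (n : ℕ) : Set (K L (n + 1)) :=
  {z | (∃ u : Fin n → Aˣ, z = symbol (Fin.cons (unitFrac A L ϖ hϖ.ne_zero)
        fun i => unitToFrac A L (u i))) ∨
       (∃ u : Fin (n + 1) → Aˣ, z = symbol fun i => unitToFrac A L (u i))}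

theorem pure_mem (ϖ : A) (hϖ : Irreducible ϖ) (n : ℕ) :
    ∀ (N : ℕ) (ε : Fin (n + 1) → Bool) (u : Fin (n + 1) → Aˣ),
      (Finset.univ.filter (fun i => ε i = true)).card = N →
      (symbol (fun i => if ε i = true then unitFrac A L ϖ hϖ.ne_zero
        else unitToFrac A L (u i)) : K L (n + 1)) ∈ AddSubgroup.closure (gens A L ϖ hϖ n) := by
  intro N
  induction N using Nat.strong_induction_on with
  | _ N ih =>
    intro ε u hN
    by_cases h0 : N = 0
    · subst h0
      have hε : ∀ i, ε i = false := by
        intro i
        by_contra hi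
        have hi' : ε i = true := by simpa using hi
        have hmem : i ∈ Finset.univ.filter (fun i => ε i = true) :=
          Finset.mem_filter.mpr ⟨Finset.mem_univ i, hi'⟩
        rw [Finset.card_eq_zero] at hN
        rw [hN] at hmem
        exact absurd hmem (Finset.notMem_empty _)
      apply AddSubgroup.subset_closure
      right
      refine ⟨u, ?_⟩
      congr 1
      funext i
      rw [hε i]
      simp
    · by_cases h1 : N = 1
      · subst h1
        obtain ⟨i₀, hi₀⟩ := Finset.card_eq_one.mp hN
        have hε : ∀ i, ε i = true ↔ i = i₀ := by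
          intro i
          have := Finset.ext_iff.mp hi₀ i
          rw [Finset.mem_filter, Finset.mem_singleton] at this
          constructor
          · intro h; exact this.mp ⟨Finset.mem_univ i, h⟩
          · intro h; exact (this.mpr h).2
        by_cases hi0 : i₀ = 0
        · apply AddSubgroup.subset_closure
          left
          refine ⟨fun i => u i.succ, ?_⟩
          congr 1
          funext i
          refine Fin.cases ?_ (fun j => ?_) i
          · rw [if_pos ((hε 0).mpr hi0.symm)]
            rfl
          · have hne : ¬ ε j.succ = true := fun h => by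
              have h' := (hε _).mp h
              rw [hi0] at h'
              exact Fin.succ_ne_zero j h'
            rw [if_neg hne]
            rfl
        · obtain ⟨x, hx⟩ : ∃ x : Fin (n + 1) → Lˣ, x = fun i => if ε i = true then
              unitFrac A L ϖ hϖ.ne_zero else unitToFrac A L (u i) := ⟨_, rfl⟩
          rw [← hx]
          have hsw := symbol_swap x 0 i₀ (Ne.symm hi0)
          have hmem : (symbol (x ∘ Equiv.swap 0 i₀) : K L (n + 1)) ∈
              AddSubgroup.closure (gens A L ϖ hϖ n) := by
            apply AddSubgroup.subset_closure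
            left
            refine ⟨fun i => u (Equiv.swap 0 i₀ i.succ), ?_⟩
            congr 1
            funext i
            refine Fin.cases ?_ (fun j => ?_) i
            · rw [Function.comp_apply, Equiv.swap_apply_left, hx]
              show (if ε i₀ = true then _ else _) = _
              rw [if_pos ((hε i₀).mpr rfl)]
              rfl
            · rw [Function.comp_apply, hx]
              have hne : ¬ ε (Equiv.swap 0 i₀ j.succ) = true := fun h => by
                have h' := (hε _).mp h
                have h'' : j.succ = 0 := by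
                  have := congrArg (Equiv.swap 0 i₀) h'
                  rw [Equiv.swap_apply_self, Equiv.swap_apply_right] at this
                  exact this
                exact Fin.succ_ne_zero j h''
              show (if ε (Equiv.swap 0 i₀ j.succ) = true then _ else _) = _
              rw [if_neg hne]
              rfl
          have : (symbol x : K L (n + 1)) = - symbol (x ∘ Equiv.swap 0 i₀) := by
            rw [hsw, neg_neg]
          rw [this]
          exact AddSubgroup.neg_mem _ hmem
      · have hlt : 1 < (Finset.univ.filter (fun i => ε i = true)).card := by omega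
        obtain ⟨i, hi, j, hj, hij⟩ := Finset.one_lt_card.mp hlt
        have hi' : ε i = true := (Finset.mem_filter.mp hi).2
        have hj' : ε j = true := (Finset.mem_filter.mp hj).2
        obtain ⟨x, hx⟩ : ∃ x : Fin (n + 1) → Lˣ, x = fun i => if ε i = true then
            unitFrac A L ϖ hϖ.ne_zero else unitToFrac A L (u i) := ⟨_, rfl⟩
        rw [← hx]
        have hxi : x i = x j := by
          rw [hx]
          show (if ε i = true then _ else _) = (if ε j = true then _ else _)
          rw [if_pos hi', if_pos hj']
        rw [symbol_two_same x i j hij hxi]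
        have e : Function.update x j (-1) = fun l =>
            if (Function.update ε j false) l = true then unitFrac A L ϖ hϖ.ne_zero
            else unitToFrac A L ((Function.update u j (-1)) l) := by
          funext l
          by_cases hl : l = j
          · subst hl
            rw [Function.update_self, Function.update_self, Function.update_self,
              if_neg (by simp), unitToFrac_neg_one]
          · rw [Function.update_of_ne hl, Function.update_of_ne hl, Function.update_of_ne hl, hx]
        rw [e]
        apply ih (N - 1) (by omega) _ _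
        have hfil : Finset.univ.filter (fun l => Function.update ε j false l = true) =
            (Finset.univ.filter (fun l => ε l = true)).erase j := by
          ext l
          by_cases hl : l = j
          · subst hl
            simp
          · simp [hl]
        rw [hfil, Finset.card_erase_of_mem hj, hN]

theorem symbol_mem_of_pure_off (ϖ : A) (hϖ : Irreducible ϖ) (n : ℕ) :
    ∀ (S : Finset (Fin (n + 1))) (x : Fin (n + 1) → Lˣ),
      (∀ i, i ∉ S → (x i = unitFrac A L ϖ hϖ.ne_zero ∨ ∃ v : Aˣ, x i = unitToFrac A L v)) →
      (symbol x : K L (n + 1)) ∈ AddSubgroup.closure (gens A L ϖ hϖ n) := by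
  classical
  intro S
  induction S using Finset.induction_on with
  | empty =>
    intro x hx
    have h : ∀ i, ∃ (b : Bool) (v : Aˣ), x i = if b = true then unitFrac A L ϖ hϖ.ne_zero
        else unitToFrac A L v := by
      intro i
      rcases hx i (Finset.notMem_empty i) with h | ⟨v, hv⟩
      · exact ⟨true, 1, by rw [if_pos rfl]; exact h⟩
      · exact ⟨false, v, by rw [if_neg (by simp)]; exact hv⟩
    choose ε u hxe using h
    have : x = fun i => if ε i = true then unitFrac A L ϖ hϖ.ne_zero
        else unitToFrac A L (u i) := funext hxe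
    rw [this]
    exact pure_mem A L ϖ hϖ n _ ε u rfl
  | insert j S' hj ih =>
    intro x hx
    obtain ⟨k, v, hkv⟩ := exists_zpow_unit A L ϖ hϖ (x j)
    have hxx : x = Function.update x j (unitFrac A L ϖ hϖ.ne_zero ^ k * unitToFrac A L v) := by
      rw [← hkv, Function.update_eq_self]
    rw [hxx, symbol_update_mul, symbol_update_zpow]
    have hoff : ∀ (c : Lˣ), (c = unitFrac A L ϖ hϖ.ne_zero ∨ ∃ v : Aˣ, c = unitToFrac A L v) →
        ∀ i, i ∉ S' → (Function.update x j c i = unitFrac A L ϖ hϖ.ne_zero ∨
          ∃ v : Aˣ, Function.update x j c i = unitToFrac A L v) := by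
      intro c hc i hi
      by_cases hij : i = j
      · subst hij
        rw [Function.update_self]
        exact hc
      · rw [Function.update_of_ne hij]
        apply hx i
        rw [Finset.mem_insert]
        rintro (h | h)
        · exact hij h
        · exact hi h
    apply AddSubgroup.add_mem
    · apply AddSubgroup.zsmul_mem
      exact ih _ (hoff _ (Or.inl rfl))
    · exact ih _ (hoff _ (Or.inr ⟨v, rfl⟩))

theorem closure_gens_eq_top (ϖ : A) (hϖ : Irreducible ϖ) (n : ℕ) :
    AddSubgroup.closure (gens A L ϖ hϖ n) = ⊤ := by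
  rw [eq_top_iff]
  intro z _
  have h := hom_ext (QuotientAddGroup.mk' (AddSubgroup.closure (gens A L ϖ hϖ n))) 0
    (fun x => by
      rw [AddMonoidHom.zero_apply]
      exact (QuotientAddGroup.eq_zero_iff _).mpr
        (symbol_mem_of_pure_off A L ϖ hϖ n Finset.univ x (fun i hi => absurd (Finset.mem_univ i) hi)))
  have h' := DFunLike.congr_fun h z
  exact (QuotientAddGroup.eq_zero_iff _).mp h'

/-- Two additive maps out of `K_{n+1}(L)` agreeing on `{π, u₁, …, uₙ}` and on `{u₀, …, uₙ}` are
equal. -/
theorem dvr_hom_ext {M : Type w} [AddCommGroup M] (ϖ : A) (hϖ : Irreducible ϖ) (n : ℕ)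
    (f g : K L (n + 1) →+ M)
    (h1 : ∀ u : Fin n → Aˣ,
      f (symbol (Fin.cons (unitFrac A L ϖ hϖ.ne_zero) fun i => unitToFrac A L (u i))) =
      g (symbol (Fin.cons (unitFrac A L ϖ hϖ.ne_zero) fun i => unitToFrac A L (u i))))
    (h2 : ∀ u : Fin (n + 1) → Aˣ,
      f (symbol fun i => unitToFrac A L (u i)) = g (symbol fun i => unitToFrac A L (u i))) :
    f = g := by
  apply AddMonoidHom.eq_of_eqOn_dense (closure_gens_eq_top A L ϖ hϖ n)
  rintro z (⟨u, rfl⟩ | ⟨u, rfl⟩)
  · exact h1 u
  · exact h2 u

end DVR

end Groth.Agent.Lib.MilK2H4
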