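import Groth.Agent.Lib.AffDesc3_helper7

/-!
# An algebraic space over a field which becomes affine over the algebraic closure is affine
(helper7)
-/

set_option autoImplicit false
set_option linter.style.haveILetI false
set_option backward.isDefEq.respectTransparency false
set_option backward.isDefEq.respectTransparency.types false
universe u
open CategoryTheory CategoryTheory.Limits AlgebraicGeometry Opposite MorphismProperty
open AlgSp Groth.Agent.Lib.AffDescH7 Groth.Agent.Lib.AlgSpQC2_helper7

namespace Groth.Agent.Lib.BcAlgClosureH7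

theorem main16834 (k : Type u) [Field k]
    (X : Sp (Spec (CommRingCat.of k))) (hX : IsAlgSpace X)
    (kbar : Type u) [Field kbar] [Algebra k kbar]
    (T : Over (Spec (CommRingCat.of k))) (hT : IsAffine T.left)
    (e : X ⨯ (yon (Spec (CommRingCat.of k))).obj
        (Over.mk (Spec.map (CommRingCat.ofHom (algebraMap k kbar)))) ≅
      (yon (Spec (CommRingCat.of k))).obj T) :
    ∃ (U : Over (Spec (CommRingCat.of k))), IsAffine U.left ∧
      Nonempty (X ≅ (yon (Spec (CommRingCat.of k))).obj U) := by
  obtain ⟨S, hS⟩ : ∃ S : Scheme.{u}, S = Spec (CommRingCat.of k) := ⟨_, rfl⟩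
  subst hS
  let Z : Over (Spec (CommRingCat.of k)) := Over.mk (𝟙 _)
  let Z' : Over (Spec (CommRingCat.of k)) :=
    Over.mk (Spec.map (CommRingCat.ofHom (algebraMap k kbar)))
  let c : Z' ⟶ Z := Over.homMk (Spec.map (CommRingCat.ofHom (algebraMap k kbar)))
    (Category.comp_id _)
  have t : IsTerminal ((yon (Spec (CommRingCat.of k))).obj Z) := isTerminalYonId
  obtain ⟨v', hv'⟩ := (yon (Spec (CommRingCat.of k))).map_surjective
    (e.inv ≫ (prod.snd : X ⨯ (yon (Spec (CommRingCat.of k))).obj Z' ⟶ _))
  have sq0 : IsPullback (prod.fst : X ⨯ (yon (Spec (CommRingCat.of k))).obj Z' ⟶ X) prod.snd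
      (t.from X) (t.from ((yon (Spec (CommRingCat.of k))).obj Z')) :=
    IsPullback.of_is_product' (prodIsProd X _) t
  have hc : t.from ((yon (Spec (CommRingCat.of k))).obj Z') =
      (yon (Spec (CommRingCat.of k))).map c := t.hom_ext _ _
  have sq : IsPullback (e.inv ≫ prod.fst) ((yon (Spec (CommRingCat.of k))).map v') (t.from X)
      ((yon (Spec (CommRingCat.of k))).map c) := by
    rw [hv', ← hc]
    exact IsPullback.of_iso sq0 e (Iso.refl _) (Iso.refl _) (Iso.refl _)
      (by first | (simp; done) | (simp; rfl)) (by first | (simp; done) | (simp; rfl))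
      (by first | (simp; done) | (simp; rfl)) (by first | (simp; done) | (simp; rfl))
  have hZ : IsAffine Z.left := by
    show IsAffine (Spec _)
    infer_instance
  have hZ' : IsAffine Z'.left := by
    show IsAffine (Spec _)
    infer_instance
  have hfl : Flat c.left := by
    show Flat (Spec.map (CommRingCat.ofHom (algebraMap k kbar)))
    rw [HasRingHomProperty.Spec_iff (P := @Flat)]
    exact RingHom.flat_algebraMap_iff.2 inferInstance
  have hs : Surjective c.left := by
    show Surjective (Spec.map (CommRingCat.ofHom (algebraMap k kbar)))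
    exact ⟨PrimeSpectrum.comap_surjective_of_faithfullyFlat (A := k) (B := kbar)⟩
  obtain ⟨V, hV, ⟨i⟩⟩ := affine_descent c hZ hZ' hs hfl hX (t.from X) hT _ v' sq
  exact ⟨V, hV, ⟨i.symm⟩⟩

end Groth.Agent.Lib.BcAlgClosureH7
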