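import Mathlib
import Groth.Prelude
import Groth.Agent.Lib.FibPt4_helper9

/-!
# Base change of families over `k`-schemes (helper9)

For `g : T' ⟶ T` over `Spec k`: the map `X ×_k T' ⟶ X ×_k T`, its compatibility with the slices at
rational points and with the fibres of modules.
APPEND-ONLY once landed.
-/

set_option autoImplicit false
universe u
open AlgebraicGeometry CategoryTheory CategoryTheory.Limits TopologicalSpace

namespace BddBC

variable (k : Type u) [Field k] (X : Scheme.{u}) [X.Over (Spec (CommRingCat.of k))]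
  {T T' : Scheme.{u}} (q : T ⟶ Spec (CommRingCat.of k)) (q' : T' ⟶ Spec (CommRingCat.of k))
  (g : T' ⟶ T) (hg : g ≫ q = q')

/-- `X ×_k T' ⟶ X ×_k T` -/
noncomputable def bcMap : Pic13.prodK k X q' ⟶ Pic13.prodK k X q :=
  pullback.lift (pullback.fst _ _) (pullback.snd _ _ ≫ g)
    (by rw [Category.assoc, hg]; exact pullback.condition)

@[reassoc]
theorem bcMap_fst : bcMap k X q q' g hg ≫ pullback.fst (X ↘ Spec (CommRingCat.of k)) q =
    pullback.fst (X ↘ Spec (CommRingCat.of k)) q' := pullback.lift_fst _ _ _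

@[reassoc]
theorem bcMap_snd : bcMap k X q q' g hg ≫ pullback.snd (X ↘ Spec (CommRingCat.of k)) q =
    pullback.snd (X ↘ Spec (CommRingCat.of k)) q' ≫ g := pullback.lift_snd _ _ _

theorem isPullback_bcMap : IsPullback (bcMap k X q q' g hg)
    (pullback.snd (X ↘ Spec (CommRingCat.of k)) q')
    (pullback.snd (X ↘ Spec (CommRingCat.of k)) q) g := by
  have hright : IsPullback (pullback.fst (X ↘ Spec (CommRingCat.of k)) q)
      (pullback.snd (X ↘ Spec (CommRingCat.of k)) q) (X ↘ Spec (CommRingCat.of k)) q :=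
    IsPullback.of_hasPullback _ _
  refine IsPullback.of_right ?_ (bcMap_snd k X q q' g hg) hright
  rw [bcMap_fst, hg]
  exact IsPullback.of_hasPullback _ _

theorem sliceAt_fst (t : Spec (CommRingCat.of k) ⟶ T) (ht : t ≫ q = 𝟙 _) :
    Pic13.sliceAt k X q t ht ≫ pullback.fst (X ↘ Spec (CommRingCat.of k)) q = 𝟙 X := by
  unfold Pic13.sliceAt
  exact pullback.lift_fst _ _ _

theorem sliceAt_snd (t : Spec (CommRingCat.of k) ⟶ T) (ht : t ≫ q = 𝟙 _) :
    Pic13.sliceAt k X q t ht ≫ pullback.snd (X ↘ Spec (CommRingCat.of k)) q =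
      (X ↘ Spec (CommRingCat.of k)) ≫ t := by
  unfold Pic13.sliceAt
  exact pullback.lift_snd _ _ _

theorem sliceAt_bcMap (t' : Spec (CommRingCat.of k) ⟶ T') (ht' : t' ≫ q' = 𝟙 _) :
    Pic13.sliceAt k X q' t' ht' ≫ bcMap k X q q' g hg =
      Pic13.sliceAt k X q (t' ≫ g) (by rw [Category.assoc, hg, ht']) := by
  apply pullback.hom_ext
  · rw [Category.assoc, bcMap_fst, sliceAt_fst, sliceAt_fst]
  · rw [Category.assoc, bcMap_snd, sliceAt_snd, ← Category.assoc, sliceAt_snd, Category.assoc]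

/-- the fibre of the pulled back family at `t'` is the fibre of the family at `g ∘ t'` -/
theorem nonempty_fibreMod_bc (𝓕 : (Pic13.prodK k X q).Modules)
    (t' : Spec (CommRingCat.of k) ⟶ T') (ht' : t' ≫ q' = 𝟙 _) :
    Nonempty (Pic13.fibreMod k X q' t' ht'
        ((Scheme.Modules.pullback (bcMap k X q q' g hg)).obj 𝓕) ≅
      Pic13.fibreMod k X q (t' ≫ g) (by rw [Category.assoc, hg, ht']) 𝓕) := by
  unfold Pic13.fibreMod
  exact ⟨(Scheme.Modules.pullbackComp _ _).app 𝓕 ≪≫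
    (Scheme.Modules.pullbackCongr (sliceAt_bcMap k X q q' g hg t' ht')).app 𝓕⟩

/-- the fibres at equal rational points -/
theorem nonempty_fibreMod_congr (𝓕 : (Pic13.prodK k X q).Modules)
    {t₁ t₂ : Spec (CommRingCat.of k) ⟶ T} (h : t₁ = t₂) (ht₁ : t₁ ≫ q = 𝟙 _)
    (ht₂ : t₂ ≫ q = 𝟙 _) :
    Nonempty (Pic13.fibreMod k X q t₁ ht₁ 𝓕 ≅ Pic13.fibreMod k X q t₂ ht₂ 𝓕) := by
  subst h
  exact ⟨Iso.refl _⟩

end BddBC
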