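import Mathlib
import Groth.Prelude.Def_WeakSerre
import Groth.Agent.Lib.WayOut_helper4

set_option autoImplicit false
set_option linter.style.haveILetI false
set_option linter.unusedSectionVars false

universe w₁ w₂ v₁ v₂ u₁ u₂

open CategoryTheory Limits Pretriangulated DerivedCategory ZeroObject

namespace Groth.Agent.Lib.BddEquivH4

open Groth.Agent.Lib.WayOutH4 Groth.Agent.Lib.EssConstDH4

/-! ### Full faithfulness of a triangulated functor on pairs of objects -/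

section FF

variable {C D : Type*} [Category C] [Category D] [HasZeroObject C] [HasZeroObject D]
  [Preadditive C] [Preadditive D] [HasShift C ℤ] [HasShift D ℤ]
  [∀ n : ℤ, (shiftFunctor C n).Additive] [∀ n : ℤ, (shiftFunctor D n).Additive]
  [Pretriangulated C] [Pretriangulated D]
  (L : C ⥤ D) [L.CommShift ℤ] [L.IsTriangulated]

/-- `L` is bijective on `Hom(K, K')` -/
def FF (K K' : C) : Prop := Function.Bijective (fun φ : K ⟶ K' => L.map φ)

variable {L}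

lemma FF.inj0 {K K' : C} (h : FF L K K') {f : K ⟶ K'} (hf : L.map f = 0) : f = 0 :=
  h.1 (by show L.map f = L.map 0; rw [hf, L.map_zero])

lemma FF.surj {K K' : C} (h : FF L K K') (g : L.obj K ⟶ L.obj K') :
    ∃ f : K ⟶ K', L.map f = g := h.2 g

lemma FF.mk' {K K' : C} (inj0 : ∀ f : K ⟶ K', L.map f = 0 → f = 0)
    (surj : ∀ g : L.obj K ⟶ L.obj K', ∃ f : K ⟶ K', L.map f = g) : FF L K K' := by
  refine ⟨fun φ ψ h => ?_, surj⟩
  have h' : L.map φ = L.map ψ := h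
  rw [← sub_eq_zero]
  apply inj0
  rw [L.map_sub, h', sub_self]

lemma FF_of_iso_left {K₁ K₂ K' : C} (e : K₁ ≅ K₂) (h : FF L K₁ K') : FF L K₂ K' := by
  apply FF.mk'
  · intro f hf
    have : e.hom ≫ f = 0 := h.inj0 (by rw [L.map_comp, hf, comp_zero])
    rw [← cancel_epi e.hom, this, comp_zero]
  · intro g
    obtain ⟨φ₁, hφ₁⟩ := h.surj (L.map e.hom ≫ g)
    refine ⟨e.inv ≫ φ₁, ?_⟩
    rw [L.map_comp, hφ₁, ← L.map_comp_assoc, e.inv_hom_id, L.map_id, Category.id_comp]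

lemma FF_of_iso_right {K K₁ K₂ : C} (e : K₁ ≅ K₂) (h : FF L K K₁) : FF L K K₂ := by
  apply FF.mk'
  · intro f hf
    have : f ≫ e.inv = 0 := h.inj0 (by rw [L.map_comp, hf, zero_comp])
    rw [← cancel_mono e.inv, this, zero_comp]
  · intro g
    obtain ⟨φ₁, hφ₁⟩ := h.surj (g ≫ L.map e.inv)
    refine ⟨φ₁ ≫ e.hom, ?_⟩
    rw [L.map_comp, hφ₁, Category.assoc, ← L.map_comp, e.inv_hom_id, L.map_id, Category.comp_id]

lemma FF_of_isZero_left {K K' : C} (hK : IsZero K) : FF L K K' :=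
  ⟨fun _ _ _ => hK.eq_of_src _ _, fun g => ⟨0, (L.map_isZero hK).eq_of_src _ _⟩⟩

lemma FF_of_isZero_right {K K' : C} (hK : IsZero K') : FF L K K' :=
  ⟨fun _ _ _ => hK.eq_of_tgt _ _, fun g => ⟨0, (L.map_isZero hK).eq_of_tgt _ _⟩⟩

lemma FF_tri_left (T : Triangle C) (hT : T ∈ distTriang C) (K' : C)
    (h₁ : FF L T.obj₁ K') (h₃ : FF L T.obj₃ K') (h₁' : FF L (T.obj₁⟦(1 : ℤ)⟧) K')
    (h₃' : FF L (T.obj₃⟦(-1 : ℤ)⟧) K') : FF L T.obj₂ K' := by
  have hLT := L.map_distinguished T hT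
  have hT' := inv_rot_of_distTriang T hT
  obtain ⟨ρ, hρ⟩ : ∃ ρ : T.obj₃⟦(-1 : ℤ)⟧ ⟶ T.obj₁, ρ = T.invRotate.mor₁ := ⟨_, rfl⟩
  have z' : ρ ≫ T.mor₁ = 0 := by rw [hρ]; exact comp_distTriang_mor_zero₁₂ _ hT'
  have ex' : ∀ u : T.obj₁ ⟶ K', ρ ≫ u = 0 → ∃ v : T.obj₂ ⟶ K', u = T.mor₁ ≫ v := by
    intro u hu
    rw [hρ] at hu
    exact Triangle.yoneda_exact₂ T.invRotate hT' u hu
  apply FF.mk'
  · intro f hf
    have e1 : T.mor₁ ≫ f = 0 := h₁.inj0 (by rw [L.map_comp, hf, comp_zero])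
    obtain ⟨g, hg⟩ := Triangle.yoneda_exact₂ T hT f e1
    have e2 : L.map T.mor₂ ≫ L.map g = 0 := by rw [← L.map_comp, ← hg, hf]
    obtain ⟨h', hh'⟩ : ∃ h' : (L.obj T.obj₁)⟦(1 : ℤ)⟧ ⟶ L.obj K',
        L.map g = (L.map T.mor₃ ≫ (L.commShiftIso (1 : ℤ)).hom.app T.obj₁) ≫ h' :=
      Triangle.yoneda_exact₃ (L.mapTriangle.obj T) hLT (L.map g) e2
    obtain ⟨h, hh⟩ := h₁'.surj ((L.commShiftIso (1 : ℤ)).hom.app T.obj₁ ≫ h')
    have e3 : g = T.mor₃ ≫ h := by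
      rw [← sub_eq_zero]
      apply h₃.inj0
      rw [L.map_sub, L.map_comp, hh, hh', Category.assoc, sub_self]
    rw [hg, e3, comp_distTriang_mor_zero₂₃_assoc _ hT, zero_comp]
  · intro f'
    obtain ⟨u, hu⟩ := h₁.surj (L.map T.mor₁ ≫ f')
    have e1 : ρ ≫ u = 0 := h₃'.inj0 (by
      rw [L.map_comp, hu, ← L.map_comp_assoc, z', L.map_zero, zero_comp])
    obtain ⟨v, hv⟩ := ex' u e1
    have e2 : L.map T.mor₁ ≫ (f' - L.map v) = 0 := by
      rw [Preadditive.comp_sub, ← hu, hv, L.map_comp, sub_self]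
    obtain ⟨w', hw'⟩ : ∃ w' : L.obj T.obj₃ ⟶ L.obj K', f' - L.map v = L.map T.mor₂ ≫ w' :=
      Triangle.yoneda_exact₂ (L.mapTriangle.obj T) hLT (f' - L.map v) e2
    obtain ⟨w, hw⟩ := h₃.surj w'
    refine ⟨v + T.mor₂ ≫ w, ?_⟩
    rw [L.map_add, L.map_comp, hw, ← hw']
    abel

lemma FF_tri_right (K : C) (T : Triangle C) (hT : T ∈ distTriang C)
    (h₁ : FF L K T.obj₁) (h₃ : FF L K T.obj₃) (h₁' : FF L K (T.obj₁⟦(1 : ℤ)⟧))
    (h₃' : FF L K (T.obj₃⟦(-1 : ℤ)⟧)) : FF L K T.obj₂ := by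
  have hLT := L.map_distinguished T hT
  have hT' := inv_rot_of_distTriang T hT
  have hLT' := L.map_distinguished _ hT'
  obtain ⟨ρ, hρ⟩ : ∃ ρ : T.obj₃⟦(-1 : ℤ)⟧ ⟶ T.obj₁, ρ = T.invRotate.mor₁ := ⟨_, rfl⟩
  have z' : ρ ≫ T.mor₁ = 0 := by rw [hρ]; exact comp_distTriang_mor_zero₁₂ _ hT'
  have ex' : ∀ g' : L.obj K ⟶ L.obj T.obj₁, g' ≫ L.map T.mor₁ = 0 →
      ∃ h' : L.obj K ⟶ L.obj (T.obj₃⟦(-1 : ℤ)⟧), g' = h' ≫ L.map ρ := by
    intro g' hg'
    rw [hρ]
    exact Triangle.coyoneda_exact₂ (L.mapTriangle.obj T.invRotate) hLT' g' hg'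
  apply FF.mk'
  · intro f hf
    have e1 : f ≫ T.mor₂ = 0 := h₃.inj0 (by rw [L.map_comp, hf, zero_comp])
    obtain ⟨g, hg⟩ := Triangle.coyoneda_exact₂ T hT f e1
    have e2 : L.map g ≫ L.map T.mor₁ = 0 := by rw [← L.map_comp, ← hg, hf]
    obtain ⟨h', hh'⟩ := ex' (L.map g) e2
    obtain ⟨h, hh⟩ := h₃'.surj h'
    have e3 : g = h ≫ ρ := by
      rw [← sub_eq_zero]
      apply h₁.inj0
      rw [L.map_sub, L.map_comp, hh, hh', sub_self]
    rw [hg, e3, Category.assoc, z', comp_zero]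
  · intro f'
    obtain ⟨u, hu⟩ := h₃.surj (f' ≫ L.map T.mor₂)
    have e1 : u ≫ T.mor₃ = 0 := h₁'.inj0 (by
      rw [L.map_comp, hu, Category.assoc, ← L.map_comp, comp_distTriang_mor_zero₂₃ _ hT,
        L.map_zero, comp_zero])
    obtain ⟨v, hv⟩ := Triangle.coyoneda_exact₃ T hT u e1
    have e2 : (f' - L.map v) ≫ L.map T.mor₂ = 0 := by
      rw [Preadditive.sub_comp, ← hu, hv, L.map_comp, sub_self]
    obtain ⟨w', hw'⟩ : ∃ w' : L.obj K ⟶ L.obj T.obj₁, f' - L.map v = w' ≫ L.map T.mor₁ :=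
      Triangle.coyoneda_exact₂ (L.mapTriangle.obj T) hLT (f' - L.map v) e2
    obtain ⟨w, hw⟩ := h₁.surj w'
    refine ⟨v + w ≫ T.mor₁, ?_⟩
    rw [L.map_add, L.map_comp, hw, ← hw']
    abel

lemma FF_shift (K K' : C) (a : ℤ) (h : FF L K K') : FF L (K⟦a⟧) (K'⟦a⟧) := by
  have key : ∀ ψ : K ⟶ K', L.map (ψ⟦a⟧') = (L.commShiftIso a).hom.app K ≫ (L.map ψ)⟦a⟧' ≫
      (L.commShiftIso a).inv.app K' := by
    intro ψ
    have nat : L.map (ψ⟦a⟧') ≫ (L.commShiftIso a).hom.app K' =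
        (L.commShiftIso a).hom.app K ≫ (L.map ψ)⟦a⟧' := (L.commShiftIso a).hom.naturality ψ
    calc L.map (ψ⟦a⟧') = (L.map (ψ⟦a⟧') ≫ (L.commShiftIso a).hom.app K') ≫
          (L.commShiftIso a).inv.app K' := by simp
      _ = _ := by rw [nat, Category.assoc]
  constructor
  · intro φ₁ φ₂ hφ
    obtain ⟨ψ₁, rfl⟩ := (shiftFunctor C a).map_surjective φ₁
    obtain ⟨ψ₂, rfl⟩ := (shiftFunctor C a).map_surjective φ₂
    have hφ' : L.map (ψ₁⟦a⟧') = L.map (ψ₂⟦a⟧') := hφ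
    rw [key, key] at hφ'
    have h2 := (cancel_epi ((L.commShiftIso a).hom.app K)).1 hφ'
    have h3 := (cancel_mono ((L.commShiftIso a).inv.app K')).1 h2
    have h4 : L.map ψ₁ = L.map ψ₂ := (shiftFunctor D a).map_injective h3
    rw [h.1 h4]
  · intro g
    obtain ⟨g₀, hg₀⟩ := (shiftFunctor D a).map_surjective
      ((L.commShiftIso a).inv.app K ≫ g ≫ (L.commShiftIso a).hom.app K')
    obtain ⟨ψ, hψ⟩ := h.surj g₀
    refine ⟨ψ⟦a⟧', ?_⟩
    show L.map (ψ⟦a⟧') = g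
    rw [key, hψ, hg₀]
    simp

variable (L)

/-- objects `K` with `L` fully faithful on `Hom(K⟦n⟧, K')` for all `n` -/
def ffLeft (K' : C) : ObjectProperty C := fun K => ∀ n : ℤ, FF L (K⟦n⟧) K'

/-- objects `K'` with `L` fully faithful on `Hom(K, K'⟦n⟧)` for all `n` -/
def ffRight (K : C) : ObjectProperty C := fun K' => ∀ n : ℤ, FF L K (K'⟦n⟧)

instance ffLeft_closedUnderIso (K' : C) : (ffLeft L K').IsClosedUnderIsomorphisms where
  of_iso e h := fun n => FF_of_iso_left ((shiftFunctor C n).mapIso e) (h n)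

instance ffRight_closedUnderIso (K : C) : (ffRight L K).IsClosedUnderIsomorphisms where
  of_iso e h := fun n => FF_of_iso_right ((shiftFunctor C n).mapIso e) (h n)

instance ffLeft_isTriangulated (K' : C) : (ffLeft L K').IsTriangulated where
  exists_zero := ⟨0, isZero_zero C, fun n =>
    FF_of_isZero_left ((shiftFunctor C n).map_isZero (isZero_zero C))⟩
  isStableUnderShiftBy a := ⟨by
    intro K hK n
    exact FF_of_iso_left ((shiftFunctorAdd' C a n (a + n) rfl).app K) (hK (a + n))⟩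
  toIsTriangulatedClosed₂ := .mk' (fun T hT h₁ h₃ n =>
    FF_tri_left ((CategoryTheory.shiftFunctor (Triangle C) n).obj T)
      (Triangle.shift_distinguished T hT n) K' (h₁ n) (h₃ n)
      (FF_of_iso_left ((shiftFunctorAdd' C n 1 (n + 1) rfl).app T.obj₁) (h₁ (n + 1)))
      (FF_of_iso_left ((shiftFunctorAdd' C n (-1) (n + -1) rfl).app T.obj₃) (h₃ (n + -1))))

instance ffRight_isTriangulated (K : C) : (ffRight L K).IsTriangulated where
  exists_zero := ⟨0, isZero_zero C, fun n =>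
    FF_of_isZero_right ((shiftFunctor C n).map_isZero (isZero_zero C))⟩
  isStableUnderShiftBy a := ⟨by
    intro K' hK' n
    exact FF_of_iso_right ((shiftFunctorAdd' C a n (a + n) rfl).app K') (hK' (a + n))⟩
  toIsTriangulatedClosed₂ := .mk' (fun T hT h₁ h₃ n =>
    FF_tri_right K ((CategoryTheory.shiftFunctor (Triangle C) n).obj T)
      (Triangle.shift_distinguished T hT n) (h₁ n) (h₃ n)
      (FF_of_iso_right ((shiftFunctorAdd' C n 1 (n + 1) rfl).app T.obj₁) (h₁ (n + 1)))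
      (FF_of_iso_right ((shiftFunctorAdd' C n (-1) (n + -1) rfl).app T.obj₃) (h₃ (n + -1))))

end FF

/-! ### Bounded objects of the derived category -/

section Bdd

variable {A₁ : Type u₁} [Category.{v₁} A₁] [Abelian A₁] [HasDerivedCategory.{w₁} A₁]
  {A₂ : Type u₂} [Category.{v₂} A₂] [Abelian A₂] [HasDerivedCategory.{w₂} A₂]

/-- bounded for the standard t-structure -/
def IsBdd (K : DerivedCategory A₁) : Prop :=
  ∃ a b : ℤ, TStructure.t.IsGE K a ∧ TStructure.t.IsLE K b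

lemma bdd_devissage' (𝒮 : ObjectProperty (DerivedCategory A₁)) [𝒮.IsTriangulated]
    [𝒮.IsClosedUnderIsomorphisms] (K : DerivedCategory A₁) (hb : IsBdd K)
    (h : ∀ q : ℤ, 𝒮 ((singleFunctor A₁ 0).obj ((homologyFunctor A₁ q).obj K))) : 𝒮 K := by
  obtain ⟨a, b, ha, hb⟩ := hb
  exact bounded_devissage 𝒮 (b - a).toNat a b (by omega) K ha hb h

lemma cohIn_truncLE (P : ObjectProperty A₁) [P.IsClosedUnderIsomorphisms] [P.ContainsZero]
    (M : DerivedCategory A₁) (n : ℤ) (hc : WSerre.cohIn P M) :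
    WSerre.cohIn P ((TStructure.t.truncLE n).obj M) := by
  intro q
  by_cases hq : q ≤ n
  · haveI := isIso_homology_truncLEι M n q hq
    exact P.prop_of_iso
      (asIso ((homologyFunctor A₁ q).map ((TStructure.t.truncLEι n).app M))).symm (hc q)
  · exact P.prop_of_isZero (isZero_of_isLE ((TStructure.t.truncLE n).obj M) n q (by omega))

lemma cohIn_truncGE (P : ObjectProperty A₁) [P.IsClosedUnderIsomorphisms] [P.ContainsZero]
    (M : DerivedCategory A₁) (n : ℤ) (hc : WSerre.cohIn P M) :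
    WSerre.cohIn P ((TStructure.t.truncGE n).obj M) := by
  intro q
  by_cases hq : n ≤ q
  · haveI := isIso_homology_truncGEπ M n q hq
    exact P.prop_of_iso
      (asIso ((homologyFunctor A₁ q).map ((TStructure.t.truncGEπ n).app M))) (hc q)
  · exact P.prop_of_isZero (isZero_of_isGE ((TStructure.t.truncGE n).obj M) n q (by omega))

variable (F : A₁ ⥤ A₂) [F.Additive] [PreservesFiniteLimits F] [PreservesFiniteColimits F]
  (P₁ : ObjectProperty A₁) [WSerre.IsWeakSerre P₁] (P₂ : ObjectProperty A₂) [WSerre.IsWeakSerre P₂]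

theorem ff_bdd
    (h2 : ∀ M M' : A₁, P₁ M → P₁ M' → ∀ n : ℤ,
      FF F.mapDerivedCategory ((singleFunctor A₁ 0).obj M) (((singleFunctor A₁ 0).obj M')⟦n⟧))
    (K K' : DerivedCategory A₁) (hK : IsBdd K) (hcK : WSerre.cohIn P₁ K) (hK' : IsBdd K')
    (hcK' : WSerre.cohIn P₁ K') : FF F.mapDerivedCategory K K' := by
  have s1 : ∀ M : A₁, P₁ M → ∀ K'' : DerivedCategory A₁, IsBdd K'' → WSerre.cohIn P₁ K'' →
      ffRight F.mapDerivedCategory ((singleFunctor A₁ 0).obj M) K'' := by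
    intro M hM K'' hb hc
    exact bdd_devissage' (ffRight F.mapDerivedCategory ((singleFunctor A₁ 0).obj M)) K'' hb
      (fun q => h2 M _ hM (hc q))
  have s2 : ffLeft F.mapDerivedCategory K' K := by
    apply bdd_devissage' (ffLeft F.mapDerivedCategory K') K hK
    intro q n
    have h := s1 _ (hcK q) K' hK' hcK' (-n)
    have h' := FF_shift _ _ n h
    exact FF_of_iso_right ((shiftFunctorCompIsoId (DerivedCategory A₁) (-n) n (by omega)).app K') h'
  exact FF_of_iso_left ((shiftFunctorZero (DerivedCategory A₁) ℤ).app K) (s2 0)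

lemma lift_single
    (hess : ∀ N : A₂, P₂ N → ∃ N₁ : A₁, P₁ N₁ ∧ Nonempty (F.obj N₁ ≅ N))
    (a : ℤ) (M : DerivedCategory A₂) [TStructure.t.IsGE M a] [TStructure.t.IsLE M a]
    (hc : WSerre.cohIn P₂ M) :
    ∃ K : DerivedCategory A₁, TStructure.t.IsGE K a ∧ TStructure.t.IsLE K a ∧
      WSerre.cohIn P₁ K ∧ Nonempty (F.mapDerivedCategory.obj K ≅ M) := by
  obtain ⟨N, ⟨e⟩⟩ := exists_iso_singleFunctor_obj_of_isGE_of_isLE M a
  have eN : (homologyFunctor A₂ a).obj M ≅ N :=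
    (homologyFunctor A₂ a).mapIso e ≪≫ (singleFunctorCompHomologyFunctorIso A₂ a).app N
  have hN : P₂ N := P₂.prop_of_iso eN (hc a)
  obtain ⟨N₁, hN₁, ⟨e₁⟩⟩ := hess N hN
  refine ⟨(singleFunctor A₁ a).obj N₁, inferInstance, inferInstance, ?_,
    ⟨(F.mapDerivedCategorySingleFunctor a).app N₁ ≪≫ (singleFunctor A₂ a).mapIso e₁ ≪≫ e.symm⟩⟩
  intro q
  by_cases hq : q = a
  · subst hq
    exact P₁.prop_of_iso ((singleFunctorCompHomologyFunctorIso A₁ q).app N₁).symm hN₁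
  · rcases lt_or_gt_of_ne hq with h | h
    · exact P₁.prop_of_isZero (isZero_of_isGE ((singleFunctor A₁ a).obj N₁) a q h)
    · exact P₁.prop_of_isZero (isZero_of_isLE ((singleFunctor A₁ a).obj N₁) a q h)

theorem lift_bdd
    (hess : ∀ N : A₂, P₂ N → ∃ N₁ : A₁, P₁ N₁ ∧ Nonempty (F.obj N₁ ≅ N))
    (h2 : ∀ M M' : A₁, P₁ M → P₁ M' → ∀ n : ℤ,
      FF F.mapDerivedCategory ((singleFunctor A₁ 0).obj M) (((singleFunctor A₁ 0).obj M')⟦n⟧))
    (d : ℕ) : ∀ (a b : ℤ), a ≤ b → b ≤ a + d → ∀ M : DerivedCategory A₂,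
      TStructure.t.IsGE M a → TStructure.t.IsLE M b → WSerre.cohIn P₂ M →
      ∃ K : DerivedCategory A₁, TStructure.t.IsGE K a ∧ TStructure.t.IsLE K b ∧
        WSerre.cohIn P₁ K ∧ Nonempty (F.mapDerivedCategory.obj K ≅ M) := by
  induction d with
  | zero =>
    intro a b hab hab' M hge hle hc
    have hba : b = a := by push_cast at hab'; omega
    subst hba
    haveI := hge
    haveI := hle
    exact lift_single F P₁ P₂ hess b M hc
  | succ d ih =>
    intro a b hab hab' M hge hle hc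
    by_cases hb' : b ≤ a + d
    · exact ih a b hab hb' M hge hle hc
    · haveI := hge
      haveI := hle
      have hb : b - 1 + 1 = b := by omega
      have hTM := TStructure.t.triangleLEGE_distinguished (b - 1) b hb M
      obtain ⟨K₁, hK₁ge, hK₁le, hK₁c, ⟨e₁⟩⟩ := ih a (b - 1) (by push_cast at hab'; omega)
        (by push_cast at hab'; omega) ((TStructure.t.truncLE (b - 1)).obj M)
        (inferInstanceAs (TStructure.t.IsGE ((TStructure.t.truncLE (b - 1)).obj M) a))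
        (inferInstanceAs (TStructure.t.IsLE ((TStructure.t.truncLE (b - 1)).obj M) (b - 1)))
        (cohIn_truncLE P₂ M (b - 1) hc)
      haveI : TStructure.t.IsGE ((TStructure.t.truncGE b).obj M) b := inferInstance
      haveI : TStructure.t.IsLE ((TStructure.t.truncGE b).obj M) b := inferInstance
      obtain ⟨K₃, hK₃ge, hK₃le, hK₃c, ⟨e₃⟩⟩ := lift_single F P₁ P₂ hess b
        ((TStructure.t.truncGE b).obj M) (cohIn_truncGE P₂ M b hc)
      haveI := hK₁ge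
      haveI := hK₁le
      haveI := hK₃ge
      haveI := hK₃le
      have hff : FF F.mapDerivedCategory K₃ (K₁⟦(1 : ℤ)⟧) :=
        ff_bdd F P₁ h2 K₃ (K₁⟦(1 : ℤ)⟧) ⟨b, b, hK₃ge, hK₃le⟩ hK₃c
          ⟨a - 1, b - 1 - 1, TStructure.t.isGE_shift K₁ a 1 (a - 1) (by omega),
            TStructure.t.isLE_shift K₁ (b - 1) 1 (b - 1 - 1) (by omega)⟩
          ((WSerre.cohIn P₁).le_shift (1 : ℤ) _ hK₁c)
      obtain ⟨dK, hdK⟩ := hff.surj (e₃.hom ≫ (TStructure.t.truncGEδLE (b - 1) b hb).app M ≫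
        (e₁.inv)⟦(1 : ℤ)⟧' ≫ (F.mapDerivedCategory.commShiftIso (1 : ℤ)).inv.app K₁)
      obtain ⟨K₂, f, g, hTK⟩ := distinguished_cocone_triangle₂ dK
      have hLTK := F.mapDerivedCategory.map_distinguished _ hTK
      have comm : (F.mapDerivedCategory.mapTriangle.obj (Triangle.mk f g dK)).mor₃ ≫
          (e₁.hom)⟦(1 : ℤ)⟧' =
          e₃.hom ≫ ((TStructure.t.triangleLEGE (b - 1) b hb).obj M).mor₃ := by
        show (F.mapDerivedCategory.map dK ≫
          (F.mapDerivedCategory.commShiftIso (1 : ℤ)).hom.app K₁) ≫ (e₁.hom)⟦(1 : ℤ)⟧' =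
          e₃.hom ≫ (TStructure.t.truncGEδLE (b - 1) b hb).app M
        have hid : (e₁.inv)⟦(1 : ℤ)⟧' ≫ (e₁.hom)⟦(1 : ℤ)⟧' = 𝟙 _ := by
          rw [← CategoryTheory.Functor.map_comp, e₁.inv_hom_id, CategoryTheory.Functor.map_id]
        rw [hdK]
        simp only [Category.assoc, Iso.inv_hom_id_app_assoc, hid]
        exact congrArg (fun x => e₃.hom ≫ x) (Category.comp_id _)
      obtain ⟨β, hβ1, hβ2⟩ : ∃ β : F.mapDerivedCategory.obj K₂ ⟶ M,
          F.mapDerivedCategory.map f ≫ β = e₁.hom ≫ (TStructure.t.truncLEι (b - 1)).app M ∧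
          F.mapDerivedCategory.map g ≫ e₃.hom = β ≫ (TStructure.t.truncGEπ b).app M :=
        complete_distinguished_triangle_morphism₂
        (F.mapDerivedCategory.mapTriangle.obj (Triangle.mk f g dK))
        ((TStructure.t.triangleLEGE (b - 1) b hb).obj M) hLTK hTM e₁.hom e₃.hom comm
      haveI : IsIso β := isIso₂_of_isIso₁₃
        (Triangle.homMk (F.mapDerivedCategory.mapTriangle.obj (Triangle.mk f g dK))
          ((TStructure.t.triangleLEGE (b - 1) b hb).obj M) e₁.hom β e₃.hom hβ1 hβ2 comm)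
        hLTK hTM (inferInstanceAs (IsIso e₁.hom)) (inferInstanceAs (IsIso e₃.hom))
      refine ⟨K₂, ?_, ?_, ?_, ⟨asIso β⟩⟩
      · exact TStructure.t.isGE₂ _ hTK a hK₁ge (TStructure.t.isGE_of_ge K₃ a b (by omega))
      · exact TStructure.t.isLE₂ _ hTK b (TStructure.t.isLE_of_le K₁ (b - 1) b (by omega)) hK₃le
      · exact (WSerre.cohIn P₁).ext_of_isTriangulatedClosed₂ _ hTK hK₁c hK₃c

theorem main15234
    (h1 : ∀ M : A₁, P₁ M → P₂ (F.obj M))
    (hess : ∀ N : A₂, P₂ N → ∃ N₁ : A₁, P₁ N₁ ∧ Nonempty (F.obj N₁ ≅ N))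
    (h2 : ∀ M M' : A₁, P₁ M → P₁ M' → ∀ n : ℤ, Function.Bijective
      (fun φ : ((singleFunctor A₁ 0).obj M ⟶ ((singleFunctor A₁ 0).obj M')⟦n⟧) =>
        F.mapDerivedCategory.map φ)) :
    (∀ K : DerivedCategory A₁, WSerre.cohInBdd P₁ K →
        WSerre.cohInBdd P₂ (F.mapDerivedCategory.obj K)) ∧
      (∀ K K' : DerivedCategory A₁, WSerre.cohInBdd P₁ K → WSerre.cohInBdd P₁ K' →
        Function.Bijective (fun φ : (K ⟶ K') => F.mapDerivedCategory.map φ)) ∧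
      (∀ M : DerivedCategory A₂, WSerre.cohInBdd P₂ M →
        ∃ K : DerivedCategory A₁, WSerre.cohInBdd P₁ K ∧
          Nonempty (F.mapDerivedCategory.obj K ≅ M)) := by
  refine ⟨?_, ?_, ?_⟩
  · rintro K ⟨hc, ⟨a, ha⟩, ⟨b, hb⟩⟩
    refine ⟨fun q => ?_, ⟨a, isGE_mapDerivedCategory F K a ha⟩,
      ⟨b, isLE_mapDerivedCategory F K b hb⟩⟩
    obtain ⟨e⟩ := nonempty_homologyIso F K q
    exact P₂.prop_of_iso e.symm (h1 _ (hc q))
  · rintro K K' ⟨hc, ⟨a, ha⟩, ⟨b, hb⟩⟩ ⟨hc', ⟨a', ha'⟩, ⟨b', hb'⟩⟩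
    exact ff_bdd F P₁ h2 K K' ⟨a, b, ha, hb⟩ hc ⟨a', b', ha', hb'⟩ hc'
  · rintro M ⟨hc, ⟨a, ha⟩, ⟨b, hb⟩⟩
    haveI := hb
    have hb2 : TStructure.t.IsLE M (max a b) := TStructure.t.isLE_of_le M b (max a b) (le_max_right _ _)
    obtain ⟨K, hKge, hKle, hKc, hK⟩ := lift_bdd F P₁ P₂ hess h2 (max a b - a).toNat a (max a b)
      (le_max_left _ _) (by have := le_max_left a b; omega) M ha hb2 hc
    exact ⟨K, ⟨hKc, ⟨a, hKge⟩, ⟨max a b, hKle⟩⟩, hK⟩

end Bdd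

end Groth.Agent.Lib.BddEquivH4
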