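import Mathlib

namespace Groth.Agent.Lib.BddExpCount

open PowerSeries

noncomputable def G (p : ℕ) : ℤ⟦X⟧ :=
  ∑ e ∈ (Finset.univ : Finset (Fin p)).filter (fun e : Fin p => 1 ≤ (e : ℕ)), (X : ℤ⟦X⟧) ^ (e : ℕ)

theorem G_mul (p : ℕ) : G p * (1 - X) = X * (1 - X ^ (p - 1)) := by
  cases p with
  | zero => simp [G]
  | succ q =>
    have hG : G (q + 1) = X * ∑ j ∈ Finset.range q, (X : ℤ⟦X⟧) ^ j := by
      rw [G, Finset.sum_filter, Fin.sum_univ_succ, Finset.mul_sum,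
        ← Fin.sum_univ_eq_sum_range (fun j => (X : ℤ⟦X⟧) * X ^ j) q]
      simp [pow_succ']
    rw [hG, mul_assoc, geom_sum_mul_neg, Nat.add_sub_cancel]

theorem G_pow (p n : ℕ) :
    G p ^ n = X ^ n * (1 - X ^ (p - 1)) ^ n * (mk 1 : ℤ⟦X⟧) ^ n := by
  have h1 : (mk 1 : ℤ⟦X⟧) * (1 - X) = 1 := by apply mk_one_mul_one_sub_eq_one
  calc G p ^ n = G p ^ n * ((1 - X) * (mk 1 : ℤ⟦X⟧)) ^ n := by
        rw [mul_comm (1 - X), h1, one_pow, mul_one]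
    _ = (G p * (1 - X)) ^ n * (mk 1 : ℤ⟦X⟧) ^ n := by rw [mul_pow, mul_pow, mul_assoc]
    _ = X ^ n * (1 - X ^ (p - 1)) ^ n * (mk 1 : ℤ⟦X⟧) ^ n := by rw [G_mul, mul_pow]

theorem one_sub_pow_expand (q n : ℕ) :
    (1 - (X : ℤ⟦X⟧) ^ q) ^ n =
      ∑ i ∈ Finset.range (n + 1), C ((-1 : ℤ) ^ i * (n.choose i : ℤ)) * (X : ℤ⟦X⟧) ^ (q * i) := by
  have h : (1 - (X : ℤ⟦X⟧) ^ q) = -(X ^ q) + 1 := by ring
  rw [h, add_pow]
  apply Finset.sum_congr rfl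
  intro i _
  rw [neg_pow, one_pow, mul_one, ← pow_mul, map_mul, map_pow, map_neg, map_one, map_natCast]
  ring

theorem coeff_rhs (p n s : ℕ) (hn : 1 ≤ n) :
    coeff s (X ^ n * (1 - (X : ℤ⟦X⟧) ^ (p - 1)) ^ n * (mk 1 : ℤ⟦X⟧) ^ n) =
      ∑ i ∈ Finset.range (n + 1), (-1 : ℤ) ^ i * (n.choose i : ℤ) *
          (if i * (p - 1) + n ≤ s then (((s - i * (p - 1) - 1).choose (n - 1) : ℕ) : ℤ)
            else 0) := by
  obtain ⟨d, rfl⟩ : ∃ d, n = d + 1 := ⟨n - 1, by omega⟩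
  rw [mk_one_pow_eq_mk_choose_add, one_sub_pow_expand, Finset.mul_sum, Finset.sum_mul, map_sum]
  apply Finset.sum_congr rfl
  intro i _
  have h1 : (X : ℤ⟦X⟧) ^ (d + 1) * (C ((-1 : ℤ) ^ i * ((d + 1).choose i : ℤ)) *
      (X : ℤ⟦X⟧) ^ ((p - 1) * i)) * (mk fun m => ((d + m).choose d : ℤ) : ℤ⟦X⟧) =
      C ((-1 : ℤ) ^ i * ((d + 1).choose i : ℤ)) *
        ((X : ℤ⟦X⟧) ^ (d + 1 + (p - 1) * i) * (mk fun m => ((d + m).choose d : ℤ) : ℤ⟦X⟧)) := by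
    rw [pow_add]; ring
  rw [h1, coeff_C_mul, coeff_X_pow_mul', coeff_mk]
  congr 1
  have hcomm : (p - 1) * i = i * (p - 1) := mul_comm _ _
  rw [hcomm]
  generalize i * (p - 1) = t
  by_cases h : t + (d + 1) ≤ s
  · have h' : d + 1 + t ≤ s := by omega
    have e1 : d + (s - (d + 1 + t)) = s - t - 1 := by omega
    have e2 : d + 1 - 1 = d := rfl
    rw [if_pos h, if_pos h', e1, e2]
  · have h' : ¬ d + 1 + t ≤ s := by omega
    rw [if_neg h, if_neg h']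

theorem coeff_G_pow (p n s : ℕ) :
    coeff s (G p ^ n) =
      (Fintype.card {e : Fin n → Fin p // (∀ i, 1 ≤ (e i : ℕ)) ∧ ∑ i, (e i : ℕ) = s} : ℤ) := by
  have h1 : G p ^ n = ∏ _i : Fin n, G p := by
    rw [Finset.prod_const, Finset.card_univ, Fintype.card_fin]
  rw [h1, G, Finset.prod_univ_sum]
  simp only [Finset.prod_pow_eq_pow_sum, map_sum, coeff_X_pow]
  rw [Finset.sum_boole, Fintype.card_subtype]
  refine congrArg Nat.cast (congrArg Finset.card ?_)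
  ext e
  simp [Fintype.mem_piFinset, eq_comm]

theorem main (p n s : ℕ) (hn : 1 ≤ n) :
    (Fintype.card {e : Fin n → Fin p // (∀ i, 1 ≤ (e i : ℕ)) ∧ ∑ i, (e i : ℕ) = s} : ℤ) =
      ∑ i ∈ Finset.range (n + 1),
        (-1 : ℤ) ^ i * (n.choose i : ℤ) *
          (if i * (p - 1) + n ≤ s then (((s - i * (p - 1) - 1).choose (n - 1) : ℕ) : ℤ)
            else 0) := by
  rw [← coeff_G_pow, G_pow, coeff_rhs p n s hn]

end Groth.Agent.Lib.BddExpCount
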