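import Mathlib
import Groth.Agent.Lib.BddExpCount_lead

namespace Groth.Agent.Lib.BddExpCount2

open PowerSeries Groth.Agent.Lib.BddExpCount

noncomputable section

abbrev QQ := Polynomial ℤ⟦X⟧

def w (h e : ℕ) : QQ :=
  Polynomial.C ((X : ℤ⟦X⟧) ^ e) * (if 2 * e < 2 * h + 1 then (Polynomial.X : QQ) else 1)

def W (h : ℕ) : QQ :=
  ∑ e ∈ (Finset.univ : Finset (Fin (2 * h + 1))).filter (fun e : Fin (2 * h + 1) => 1 ≤ (e : ℕ)),
    w h (e : ℕ)

theorem sum_fin_filter {M : Type*} [AddCommMonoid M] (m : ℕ) (f : ℕ → M) :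
    ∑ e ∈ (Finset.univ : Finset (Fin m)).filter (fun e : Fin m => 1 ≤ (e : ℕ)), f (e : ℕ) =
      ∑ e ∈ Finset.Ico 1 m, f e := by
  rw [Finset.sum_filter, Fin.sum_univ_eq_sum_range (fun e => if 1 ≤ e then f e else 0) m,
    ← Finset.sum_filter]
  apply Finset.sum_congr _ (fun _ _ => rfl)
  ext e
  simp only [Finset.mem_filter, Finset.mem_range, Finset.mem_Ico]
  omega

theorem G_eq (m : ℕ) : G m = ∑ e ∈ Finset.Ico 1 m, (X : ℤ⟦X⟧) ^ e := by
  unfold G
  exact sum_fin_filter m (fun e => (X : ℤ⟦X⟧) ^ e)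

theorem W_eq (h : ℕ) :
    W h = Polynomial.C (G (h + 1)) * Polynomial.X + Polynomial.C (X ^ h * G (h + 1)) := by
  unfold W
  rw [sum_fin_filter (2 * h + 1) (w h),
    ← Finset.sum_Ico_consecutive (w h) (by omega : 1 ≤ h + 1) (by omega : h + 1 ≤ 2 * h + 1), G_eq]
  congr 1
  · rw [map_sum, Finset.sum_mul]
    apply Finset.sum_congr rfl
    intro e he
    have := Finset.mem_Ico.mp he
    rw [w, if_pos (by omega)]
  · have hI : Finset.Ico (h + 1) (2 * h + 1) = Finset.Ico (1 + h) (h + 1 + h) := by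
      congr 1 <;> omega
    rw [hI, ← Finset.sum_Ico_add' (w h) 1 (h + 1) h, Finset.mul_sum, map_sum]
    apply Finset.sum_congr rfl
    intro e he
    have := Finset.mem_Ico.mp he
    rw [w, if_neg (by omega), mul_one, pow_add, mul_comm]

theorem coeff_W_pow (h n s D : ℕ) :
    coeff s ((W h ^ n).coeff D) =
      (Fintype.card {e : Fin n → Fin (2 * h + 1) // (∀ i, 1 ≤ (e i : ℕ)) ∧
        ∑ i, (e i : ℕ) = s ∧
        (Finset.univ.filter fun i => 2 * (e i : ℕ) < 2 * h + 1).card = D} : ℤ) := by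
  have h1 : W h ^ n = ∏ _i : Fin n, W h := by
    rw [Finset.prod_const, Finset.card_univ, Fintype.card_fin]
  rw [h1, W, Finset.prod_univ_sum]
  have h2 : ∀ f : Fin n → Fin (2 * h + 1), ∏ i, w h ((f i : Fin (2 * h + 1)) : ℕ) =
      Polynomial.C ((X : ℤ⟦X⟧) ^ (∑ i, (f i : ℕ))) *
        Polynomial.X ^ (Finset.univ.filter fun i => 2 * (f i : ℕ) < 2 * h + 1).card := by
    intro f
    simp only [w]
    rw [Finset.prod_mul_distrib, Finset.prod_ite, Finset.prod_const, Finset.prod_const_one,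
      mul_one, ← map_prod, Finset.prod_pow_eq_pow_sum]
  simp only [h2, Polynomial.finset_sum_coeff, Polynomial.coeff_C_mul_X_pow, map_sum,
    apply_ite (coeff s), coeff_X_pow, map_zero, ← ite_and]
  rw [Finset.sum_boole, Fintype.card_subtype]
  refine congrArg Nat.cast (congrArg Finset.card ?_)
  ext f
  simp only [Finset.mem_filter, Fintype.mem_piFinset, Finset.mem_univ, true_and]
  constructor
  · rintro ⟨a, b, c⟩
    exact ⟨a, c.symm, b.symm⟩
  · rintro ⟨a, b, c⟩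
    exact ⟨a, c.symm, b.symm⟩

theorem coeff_add_pow (S L : ℤ⟦X⟧) (n D : ℕ) :
    ((Polynomial.C S * Polynomial.X + Polynomial.C L) ^ n).coeff D =
      if D ∈ Finset.range (n + 1) then S ^ D * L ^ (n - D) * (n.choose D : ℤ⟦X⟧) else 0 := by
  rw [add_pow, Polynomial.finset_sum_coeff]
  have h1 : ∀ m : ℕ, ((Polynomial.C S * Polynomial.X) ^ m * (Polynomial.C L) ^ (n - m) *
      (n.choose m : Polynomial ℤ⟦X⟧)).coeff D =
      if D = m then S ^ m * L ^ (n - m) * (n.choose m : ℤ⟦X⟧) else 0 := by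
    intro m
    have e : (Polynomial.C S * Polynomial.X) ^ m * (Polynomial.C L) ^ (n - m) *
        (n.choose m : Polynomial ℤ⟦X⟧) =
        Polynomial.C (S ^ m * L ^ (n - m) * (n.choose m : ℤ⟦X⟧)) * Polynomial.X ^ m := by
      rw [map_mul, map_mul, map_pow, map_pow, map_natCast]; ring
    rw [e, Polynomial.coeff_C_mul_X_pow]
  simp only [h1]
  rw [Finset.sum_ite_eq]

theorem card_zero_of_pos (q m : ℕ) (hm : 1 ≤ m) :
    Fintype.card {e : Fin m → Fin q // (∀ i, 1 ≤ (e i : ℕ)) ∧ ∑ i, (e i : ℕ) = 0} = 0 := by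
  rw [Fintype.card_eq_zero_iff]
  constructor
  rintro ⟨e, h1, h2⟩
  have h3 := (Finset.sum_eq_zero_iff.mp h2) ⟨0, hm⟩ (Finset.mem_univ _)
  have h4 := h1 ⟨0, hm⟩
  omega

theorem main_aux (h n s D : ℕ) :
    (Fintype.card {e : Fin n → Fin (2 * h + 1) // (∀ i, 1 ≤ (e i : ℕ)) ∧
        ∑ i, (e i : ℕ) = s ∧
        (Finset.univ.filter fun i => 2 * (e i : ℕ) < 2 * h + 1).card = D} : ℤ) =
      (n.choose D : ℤ) * ∑ j ∈ Finset.range (s + 1),
        (Fintype.card {e : Fin D → Fin (h + 1) // (∀ i, 1 ≤ (e i : ℕ)) ∧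
          ∑ i, (e i : ℕ) = j} : ℤ) *
        (Fintype.card {e : Fin (n - D) → Fin (h + 1) // (∀ i, 1 ≤ (e i : ℕ)) ∧
          ∑ i, (e i : ℕ) = s - j - (n - D) * h} : ℤ) := by
  rw [← coeff_W_pow, W_eq, coeff_add_pow]
  by_cases hD : D ∈ Finset.range (n + 1)
  · rw [if_pos hD]
    have e : G (h + 1) ^ D * (X ^ h * G (h + 1)) ^ (n - D) * ((n.choose D : ℕ) : ℤ⟦X⟧) =
        C ((n.choose D : ℕ) : ℤ) *
          (G (h + 1) ^ D * (X ^ ((n - D) * h) * G (h + 1) ^ (n - D))) := by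
      rw [mul_pow, ← pow_mul, mul_comm h (n - D), map_natCast]; ring
    rw [e, coeff_C_mul, coeff_mul]
    simp only [Finset.Nat.sum_antidiagonal_eq_sum_range_succ_mk]
    congr 1
    apply Finset.sum_congr rfl
    intro j hj
    rw [coeff_G_pow, coeff_X_pow_mul']
    congr 1
    by_cases hle : (n - D) * h ≤ s - j
    · rw [if_pos hle, coeff_G_pow]
    · rw [if_neg hle]
      have hm : 1 ≤ n - D := by
        by_contra hcon
        have h0 : n - D = 0 := by omega
        rw [h0, zero_mul] at hle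
        exact hle (Nat.zero_le _)
      have h0 : s - j - (n - D) * h = 0 := by omega
      rw [h0]
      symm
      exact_mod_cast card_zero_of_pos (h + 1) (n - D) hm
  · rw [if_neg hD, map_zero,
      Nat.choose_eq_zero_of_lt (by have := Finset.mem_range.not.mp hD; omega)]
    simp

theorem main (p n s D : ℕ) (hp : Odd p) :
    Fintype.card {e : Fin n → Fin p // (∀ i, 1 ≤ (e i : ℕ)) ∧ ∑ i, (e i : ℕ) = s ∧
        (Finset.univ.filter fun i => 2 * (e i : ℕ) < p).card = D} =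
      n.choose D * ∑ j ∈ Finset.range (s + 1),
        Fintype.card {e : Fin D → Fin ((p + 1) / 2) // (∀ i, 1 ≤ (e i : ℕ)) ∧
          ∑ i, (e i : ℕ) = j} *
          Fintype.card {e : Fin (n - D) → Fin ((p + 1) / 2) // (∀ i, 1 ≤ (e i : ℕ)) ∧
            ∑ i, (e i : ℕ) = (s - j - (n - D) * ((p - 1) / 2))} := by
  obtain ⟨h, rfl⟩ := hp
  have e1 : (2 * h + 1 + 1) / 2 = h + 1 := by omega
  have e2 : (2 * h + 1 - 1) / 2 = h := by omega
  rw [e1, e2]
  exact_mod_cast main_aux h n s D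

end

end Groth.Agent.Lib.BddExpCount2
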