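import Mathlib
import Groth.Prelude
import Groth.Agent.Lib.RpushNat_helper9
import Groth.Agent.Lib.CohKer_helper8
import Groth.Agent.Lib.ConsMod1_helper2

/-!
# Bounded families: the universal cokernel over an affine space (helper9)

For morphisms `u_1, …, u_M : A' ⟶ A` of modules on a `k`-scheme `Y`, the cokernel of
`Σ t_j · u_j` on `Y ×_k 𝔸^M_k` has fibre `coker (Σ a_j u_j)` at the `k`-point `a`.  Hence every family
of modules which are cokernels of `k`-linear combinations of the `u_j` is bounded.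
APPEND-ONLY once landed.
-/

set_option autoImplicit false
universe u
open CategoryTheory CategoryTheory.Limits AlgebraicGeometry Opposite TopologicalSpace

namespace BddFam

section Pull

variable {X Y : Scheme.{u}} (f : X ⟶ Y)

/-- pullback commutes with multiplication by global functions -/
theorem pull_map_smulModΓ (N : Y.Modules) (a : Γ(Y, ⊤)) :
    (Scheme.Modules.pullback f).map (Formal.smulModΓ N a) =
      Formal.smulModΓ ((Scheme.Modules.pullback f).obj N) (f.appTop.hom a) := by
  let adj := Scheme.Modules.pullbackPushforwardAdjunction f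
  apply (adj.homEquiv N ((Scheme.Modules.pullback f).obj N)).injective
  rw [Adjunction.homEquiv_unit, Adjunction.homEquiv_unit]
  rw [RpushNat.push_map_smulModΓ f ((Scheme.Modules.pullback f).obj N) a]
  have h1 := KLin.comp_smulModΓ (adj.unit.app N) a
  have h2 := adj.unit.naturality (Formal.smulModΓ N a)
  exact h2.symm.trans h1.symm

end Pull

section Fibre

variable {Y Z : Scheme.{u}} (s : Y ⟶ Z) (p : Z ⟶ Y) (hsp : s ≫ p = 𝟙 Y)

include hsp in
/-- `s^* p^* ≅ id` for a section `s` of `p` -/
noncomputable def retrIso :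
    Scheme.Modules.pullback p ⋙ Scheme.Modules.pullback s ≅ 𝟭 Y.Modules :=
  Scheme.Modules.pullbackComp s p ≪≫ Scheme.Modules.pullbackCongr hsp ≪≫
    Scheme.Modules.pullbackId Y

include hsp in
/-- the fibre of the universal cokernel along a section -/
theorem nonempty_fibre_cokernel_iso {A' A : Y.Modules} {M : ℕ} (u : Fin M → (A' ⟶ A))
    (τ : Fin M → Γ(Z, ⊤)) :
    Nonempty ((Scheme.Modules.pullback s).obj
        (cokernel (∑ j, (Scheme.Modules.pullback p).map (u j) ≫
          Formal.smulModΓ ((Scheme.Modules.pullback p).obj A) (τ j))) ≅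
      cokernel (∑ j, u j ≫ Formal.smulModΓ A (s.appTop.hom (τ j)))) := by
  let θ := retrIso s p hsp
  let e1 := PreservesCokernel.iso (Scheme.Modules.pullback s)
    (∑ j, (Scheme.Modules.pullback p).map (u j) ≫
      Formal.smulModΓ ((Scheme.Modules.pullback p).obj A) (τ j))
  have w : (Scheme.Modules.pullback s).map
        (∑ j, (Scheme.Modules.pullback p).map (u j) ≫
          Formal.smulModΓ ((Scheme.Modules.pullback p).obj A) (τ j)) ≫ (θ.app A).hom =
      (θ.app A').hom ≫ ∑ j, u j ≫ Formal.smulModΓ A (s.appTop.hom (τ j)) := by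
    rw [Functor.map_sum, Preadditive.sum_comp, Preadditive.comp_sum]
    refine Finset.sum_congr rfl (fun j _ => ?_)
    rw [Functor.map_comp, pull_map_smulModΓ, Category.assoc]
    have h1 := KLin.comp_smulModΓ (θ.hom.app A) (s.appTop.hom (τ j))
    have h2 : (Scheme.Modules.pullback s).map ((Scheme.Modules.pullback p).map (u j)) ≫
        θ.hom.app A = θ.hom.app A' ≫ u j := θ.hom.naturality (u j)
    change _ ≫ Formal.smulModΓ _ _ ≫ θ.hom.app A = θ.hom.app A' ≫ _
    rw [← h1, ← Category.assoc, h2, Category.assoc]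
    rfl
  exact ⟨e1 ≪≫ cokernel.mapIso _ _ (θ.app A') (θ.app A) w⟩

end Fibre

section Bounded

variable (k : Type u) [Field k]

/-- the parameter space `𝔸^M_k` -/
noncomputable abbrev AffSp (M : ℕ) : Scheme.{u} :=
  Spec (CommRingCat.of (MvPolynomial (Fin M) k))

/-- the structure morphism of `𝔸^M_k` -/
noncomputable abbrev affStr (M : ℕ) : AffSp k M ⟶ Spec (CommRingCat.of k) :=
  Spec.map (CommRingCat.ofHom (MvPolynomial.C : k →+* MvPolynomial (Fin M) k))

/-- the `k`-point `a` of `𝔸^M_k` -/
noncomputable abbrev affPt {M : ℕ} (a : Fin M → k) : Spec (CommRingCat.of k) ⟶ AffSp k M :=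
  Spec.map (CommRingCat.ofHom (MvPolynomial.eval a))

theorem affPt_str {M : ℕ} (a : Fin M → k) : affPt k a ≫ affStr k M = 𝟙 _ := by
  rw [← Spec.map_comp, ← CommRingCat.ofHom_comp]
  have h : (MvPolynomial.eval a).comp (MvPolynomial.C : k →+* MvPolynomial (Fin M) k) =
      RingHom.id k := by
    ext x
    simp
  rw [h]
  exact Spec.map_id _

instance locallyOfFiniteType_affStr (M : ℕ) : LocallyOfFiniteType (affStr k M) := by
  rw [HasRingHomProperty.Spec_iff (P := @LocallyOfFiniteType)]
  exact (RingHom.finiteType_algebraMap (A := k) (B := MvPolynomial (Fin M) k)).mpr inferInstance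

instance quasiCompact_affStr (M : ℕ) : QuasiCompact (affStr k M) := inferInstance

theorem affPt_appTop {M : ℕ} (a : Fin M → k) (y : MvPolynomial (Fin M) k) :
    (affPt k a).appTop.hom
        ((Scheme.ΓSpecIso (CommRingCat.of (MvPolynomial (Fin M) k))).inv.hom y) =
      (Scheme.ΓSpecIso (CommRingCat.of k)).inv.hom (MvPolynomial.eval a y) := by
  have h := Scheme.ΓSpecIso_inv_naturality
    (CommRingCat.ofHom (MvPolynomial.eval a : MvPolynomial (Fin M) k →+* k))
  have h2 := congrArg (fun φ => φ.hom y) h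
  exact h2.symm

variable (Y : Scheme.{u}) [Y.Over (Spec (CommRingCat.of k))]

/-- **the universal cokernel**: a family of modules all of which are cokernels of `k`-linear
combinations of finitely many fixed morphisms `A' ⟶ A` of coherent modules is bounded -/
theorem isBounded_of_cokernels {A' A : Y.Modules} (hA' : Coh.IsCoh A') (hA : Coh.IsCoh A)
    {M : ℕ} (u : Fin M → (A' ⟶ A)) (P : Y.Modules → Prop)
    (hP : ∀ F, P F → ∃ a : Fin M → k, Nonempty (cokernel (∑ j, a j • u j) ≅ F)) :
    Pic13.IsBounded k Y P := by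
  refine ⟨AffSp k M, affStr k M, inferInstance, inferInstance, ?_⟩
  let p₁ : Pic13.prodK k Y (affStr k M) ⟶ Y := pullback.fst _ _
  let p₂ : Pic13.prodK k Y (affStr k M) ⟶ AffSp k M := pullback.snd _ _
  let τ : Fin M → Γ(Pic13.prodK k Y (affStr k M), ⊤) := fun j =>
    p₂.appTop.hom ((Scheme.ΓSpecIso (CommRingCat.of (MvPolynomial (Fin M) k))).inv.hom
      (MvPolynomial.X j))
  refine ⟨cokernel (∑ j, (Scheme.Modules.pullback p₁).map (u j) ≫
      Formal.smulModΓ ((Scheme.Modules.pullback p₁).obj A) (τ j)),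
    CohKerH8.isCoh_cokernel (Groth.Agent.Lib.ConsModH2.isCoh_pullback p₁ A' hA')
      (Groth.Agent.Lib.ConsModH2.isCoh_pullback p₁ A hA) _, ?_⟩
  intro F hF
  obtain ⟨a, ⟨e⟩⟩ := hP F hF
  refine ⟨affPt k a, affPt_str k a, ?_⟩
  have hsp : Pic13.sliceAt k Y (affStr k M) (affPt k a) (affPt_str k a) ≫ p₁ = 𝟙 Y :=
    pullback.lift_fst _ _ _
  have hsq : Pic13.sliceAt k Y (affStr k M) (affPt k a) (affPt_str k a) ≫ p₂ =
      (Y ↘ Spec (CommRingCat.of k)) ≫ affPt k a := pullback.lift_snd _ _ _
  obtain ⟨e2⟩ := nonempty_fibre_cokernel_iso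
    (Pic13.sliceAt k Y (affStr k M) (affPt k a) (affPt_str k a)) p₁ hsp u τ
  have hτ : ∀ j, (Pic13.sliceAt k Y (affStr k M) (affPt k a) (affPt_str k a)).appTop.hom (τ j) =
      Coh.toGlobal (Y ↘ Spec (CommRingCat.of k)) (a j) := by
    intro j
    have h1 : (Pic13.sliceAt k Y (affStr k M) (affPt k a) (affPt_str k a)).appTop.hom (τ j) =
        (Pic13.sliceAt k Y (affStr k M) (affPt k a) (affPt_str k a) ≫ p₂).appTop.hom
          ((Scheme.ΓSpecIso (CommRingCat.of (MvPolynomial (Fin M) k))).inv.hom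
            (MvPolynomial.X j)) := by
      rw [Scheme.Hom.comp_appTop]
      rfl
    rw [h1, hsq, Scheme.Hom.comp_appTop]
    change (Y ↘ Spec (CommRingCat.of k)).appTop.hom ((affPt k a).appTop.hom _) = _
    rw [affPt_appTop, MvPolynomial.eval_X]
    rfl
  have hsum : (∑ j, u j ≫ Formal.smulModΓ A
      ((Pic13.sliceAt k Y (affStr k M) (affPt k a) (affPt_str k a)).appTop.hom (τ j))) =
      ∑ j, a j • u j := by
    refine Finset.sum_congr rfl (fun j _ => ?_)
    rw [hτ j, KLin.smul_def]
    exact KLin.comp_smulModΓ (u j) _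
  exact ⟨e2 ≪≫ eqToIso (by rw [hsum]) ≪≫ e⟩

end Bounded

end BddFam
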