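import Mathlib
import Groth.Prelude
import Groth.Agent.Lib.BddFam1_helper9
import Groth.Agent.Lib.ThickSq1_helper2

/-!
# Bounded families, part 2: finite Hom spaces and pullbacks (helper9)

* a finite dimensional vector space of dimension `≤ N` is spanned by `N` vectors;
* `Hom(∐ A_i, B)` is finite dimensional when the `Hom(A_i, B)` are;
* the family of all cokernels of morphisms `A' ⟶ A` is bounded when `Hom(A', A)` is finite dimensional;
* pullbacks of such cokernels along a morphism of `k`-schemes.
APPEND-ONLY once landed.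
-/

set_option autoImplicit false
universe u
open CategoryTheory CategoryTheory.Limits AlgebraicGeometry Opposite TopologicalSpace

namespace BddFam

section Lin

variable (k : Type u) [Field k]

/-- a vector space of dimension `≤ N` is spanned by `N` vectors -/
theorem exists_spanning_fin (V : Type u) [AddCommGroup V] [Module k V] [Module.Finite k V] (N : ℕ)
    (h : Module.finrank k V ≤ N) :
    ∃ φ : Fin N → V, Submodule.span k (Set.range φ) = ⊤ := by
  let b := Module.finBasis k V
  refine ⟨fun j => if hj : (j : ℕ) < Module.finrank k V then b ⟨j, hj⟩ else 0, ?_⟩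
  rw [eq_top_iff, ← b.span_eq]
  apply Submodule.span_mono
  rintro _ ⟨i, rfl⟩
  refine ⟨⟨i, lt_of_lt_of_le i.2 h⟩, ?_⟩
  simp

end Lin

section Sigma

variable (k : Type u) [Field k] {C : Type*} [Category C] [Preadditive C] [Linear k C]

/-- `Hom(∐ A_i, B)` is finite dimensional when the `Hom(A_i, B)` are -/
theorem finite_hom_sigma {ι : Type} [Finite ι] (f : ι → C) [HasCoproduct f] (B : C)
    (h : ∀ i, Module.Finite k (f i ⟶ B)) : Module.Finite k ((∐ f) ⟶ B) := by
  haveI := h
  haveI := Fintype.ofFinite ι
  let L : ((∐ f) ⟶ B) →ₗ[k] ((i : ι) → (f i ⟶ B)) :=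
    { toFun := fun g i => Sigma.ι f i ≫ g
      map_add' := fun g g' => by
        funext i
        exact Preadditive.comp_add _ _ _ _ _ _
      map_smul' := fun a g => by
        funext i
        exact Linear.comp_smul _ _ _ (Sigma.ι f i) a g }
  have hL : Function.Injective L := by
    intro g g' hgg
    apply Sigma.hom_ext
    intro i
    exact congrFun hgg i
  exact Module.Finite.of_injective L hL

end Sigma

section Bounded

variable (k : Type u) [Field k] (Y : Scheme.{u}) [Y.Over (Spec (CommRingCat.of k))]

/-- the family of all cokernels of morphisms `A' ⟶ A` of coherent modules is bounded when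
`Hom(A', A)` is finite dimensional -/
theorem isBounded_of_finite {A' A : Y.Modules} (hA' : Coh.IsCoh A') (hA : Coh.IsCoh A)
    (hfin : Module.Finite k (A' ⟶ A)) (P : Y.Modules → Prop)
    (hP : ∀ F, P F → ∃ u : A' ⟶ A, Nonempty (cokernel u ≅ F)) :
    Pic13.IsBounded k Y P := by
  haveI := hfin
  obtain ⟨M, s, hs⟩ := Module.Finite.exists_fin (R := k) (M := (A' ⟶ A))
  refine isBounded_of_cokernels k Y hA' hA s P ?_
  intro F hF
  obtain ⟨u, ⟨e⟩⟩ := hP F hF
  have hu : u ∈ Submodule.span k (Set.range s) := by
    rw [hs]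
    exact Submodule.mem_top
  obtain ⟨a, ha⟩ := (Submodule.mem_span_range_iff_exists_fun k).mp hu
  exact ⟨a, ⟨eqToIso (by rw [ha]) ≪≫ e⟩⟩

variable {Y} {X : Scheme.{u}} [X.Over (Spec (CommRingCat.of k))] (i : X ⟶ Y)
  (hi : i ≫ (Y ↘ Spec (CommRingCat.of k)) = (X ↘ Spec (CommRingCat.of k)))

include hi in
/-- pullback along a morphism of `k`-schemes is `k`-linear -/
theorem pull_map_smul {M N : Y.Modules} (a : k) (g : M ⟶ N) :
    (Scheme.Modules.pullback i).map (a • g) = a • (Scheme.Modules.pullback i).map g := by
  rw [KLin.smul_def, KLin.smul_def, Functor.map_comp,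
    Groth.Agent.Lib.ThickH2.pull_smulMod' i hi]

include hi in
/-- the family of pullbacks of the cokernels of linear combinations of finitely many morphisms
of coherent modules is bounded -/
theorem isBounded_of_pullback_cokernels {A' A : Y.Modules} (hA' : Coh.IsCoh A')
    (hA : Coh.IsCoh A) {M : ℕ} (u : Fin M → (A' ⟶ A)) (P : X.Modules → Prop)
    (hP : ∀ F, P F → ∃ a : Fin M → k,
      Nonempty ((Scheme.Modules.pullback i).obj (cokernel (∑ j, a j • u j)) ≅ F)) :
    Pic13.IsBounded k X P := by
  refine isBounded_of_cokernels k X (Groth.Agent.Lib.ConsModH2.isCoh_pullback i A' hA')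
    (Groth.Agent.Lib.ConsModH2.isCoh_pullback i A hA)
    (fun j => (Scheme.Modules.pullback i).map (u j)) P ?_
  intro F hF
  obtain ⟨a, ⟨e⟩⟩ := hP F hF
  refine ⟨a, ⟨?_ ≪≫ e⟩⟩
  have h1 : (∑ j, a j • (Scheme.Modules.pullback i).map (u j)) =
      (Scheme.Modules.pullback i).map (∑ j, a j • u j) := by
    rw [Functor.map_sum]
    exact Finset.sum_congr rfl (fun j _ => (pull_map_smul k i hi (a j) (u j)).symm)
  exact eqToIso (by rw [h1]) ≪≫
    (PreservesCokernel.iso (Scheme.Modules.pullback i) (∑ j, a j • u j)).symm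

end Bounded

end BddFam
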