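import Mathlib
import Groth.Prelude
import Groth.Agent.Lib.CMReg2_helper9

/-!
# Gaeta resolutions on the projective plane, part 1: covariant `Ext` toolbox (helper9)
APPEND-ONLY once landed.
-/

set_option autoImplicit false
universe w v u
open CategoryTheory CategoryTheory.Limits AlgebraicGeometry TopologicalSpace Opposite Abelian

namespace Groth.Agent.Gaeta

section Abstract

variable {C : Type u} [Category.{v} C] [Abelian C] [HasExt.{w} C]

theorem subsingleton_of_forall_eq_zero {A : Type*} [Zero A] (h : ∀ x : A, x = 0) :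
    Subsingleton A := ⟨fun x y => by rw [h x, h y]⟩

theorem subsingleton_ext_zero_iff (X Y : C) :
    Subsingleton (Ext X Y 0) ↔ Subsingleton (X ⟶ Y) :=
  ⟨fun h => (Ext.addEquiv₀ (X := X) (Y := Y)).symm.toEquiv.subsingleton,
    fun h => (Ext.addEquiv₀ (X := X) (Y := Y)).toEquiv.subsingleton⟩

/-- `Ext^q(T, X₃) = 0` from `Ext^q(T, X₂) = 0` and `Ext^{q+1}(T, X₁) = 0` -/
theorem sub_ext_X3 {S : ShortComplex C} (hS : S.ShortExact) (T : C) (q : ℕ)
    (h2 : Subsingleton (Ext T S.X₂ q)) (h1 : Subsingleton (Ext T S.X₁ (q + 1))) :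
    Subsingleton (Ext T S.X₃ q) := by
  apply subsingleton_of_forall_eq_zero
  intro x
  obtain ⟨x₂, hx₂⟩ := Ext.covariant_sequence_exact₃ T hS x rfl (Subsingleton.elim _ _)
  rw [← hx₂, Subsingleton.elim x₂ 0, Ext.zero_comp]

/-- `Ext^q(T, X₂) = 0` from `Ext^q(T, X₁) = 0` and `Ext^q(T, X₃) = 0` -/
theorem sub_ext_X2 {S : ShortComplex C} (hS : S.ShortExact) (T : C) (q : ℕ)
    (h1 : Subsingleton (Ext T S.X₁ q)) (h3 : Subsingleton (Ext T S.X₃ q)) :
    Subsingleton (Ext T S.X₂ q) := by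
  apply subsingleton_of_forall_eq_zero
  intro x
  obtain ⟨x₁, hx₁⟩ := Ext.covariant_sequence_exact₂ T hS x (Subsingleton.elim _ _)
  rw [← hx₁, Subsingleton.elim x₁ 0, Ext.zero_comp]

/-- `Ext^{q+1}(T, X₁) = 0` from `Ext^q(T, X₃) = 0` and `Ext^{q+1}(T, X₂) = 0` -/
theorem sub_ext_X1_succ {S : ShortComplex C} (hS : S.ShortExact) (T : C) (q : ℕ)
    (h3 : Subsingleton (Ext T S.X₃ q)) (h2 : Subsingleton (Ext T S.X₂ (q + 1))) :
    Subsingleton (Ext T S.X₁ (q + 1)) := by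
  apply subsingleton_of_forall_eq_zero
  intro x
  obtain ⟨x₃, hx₃⟩ := Ext.covariant_sequence_exact₁ T hS x (Subsingleton.elim _ _) rfl
  rw [← hx₃, Subsingleton.elim x₃ 0, Ext.zero_comp]

/-- `Ext^1(T, X₁) = 0` from `Ext^1(T, X₂) = 0` and surjectivity of `Hom(T, X₂) → Hom(T, X₃)` -/
theorem sub_ext_X1_one {S : ShortComplex C} (hS : S.ShortExact) (T : C)
    (h3 : ∀ φ : T ⟶ S.X₃, ∃ ψ : T ⟶ S.X₂, ψ ≫ S.g = φ) (h2 : Subsingleton (Ext T S.X₂ 1)) :
    Subsingleton (Ext T S.X₁ 1) := by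
  apply subsingleton_of_forall_eq_zero
  intro x
  obtain ⟨x₃, hx₃⟩ := Ext.covariant_sequence_exact₁ T hS x (Subsingleton.elim _ _) (zero_add 1)
  obtain ⟨φ, rfl⟩ := (Ext.mk₀_bijective _ _).2 x₃
  obtain ⟨ψ, rfl⟩ := h3 φ
  rw [← hx₃, ← Ext.mk₀_comp_mk₀, Ext.comp_assoc_of_second_deg_zero, hS.comp_extClass,
    Ext.comp_zero]

/-- `Hom(T, X₁) = 0` from injectivity of `Hom(T, X₂) → Hom(T, X₃)` -/
theorem sub_hom_X1 {S : ShortComplex C} (hS : S.ShortExact) (T : C)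
    (h : ∀ ψ : T ⟶ S.X₂, ψ ≫ S.g = 0 → ψ = 0) : Subsingleton (T ⟶ S.X₁) := by
  apply subsingleton_of_forall_eq_zero
  intro φ
  haveI := hS.mono_f
  have h1 : φ ≫ S.f = 0 := h _ (by rw [Category.assoc, S.zero, comp_zero])
  exact (cancel_mono S.f).mp (h1.trans zero_comp.symm)

/-- injectivity of `Hom(T, X₂) → Hom(T, X₃)` from `Hom(T, X₁) = 0` -/
theorem hom_injective_of {S : ShortComplex C} (hS : S.ShortExact) (T : C)
    (h : Subsingleton (T ⟶ S.X₁)) (ψ : T ⟶ S.X₂) (hψ : ψ ≫ S.g = 0) : ψ = 0 := by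
  haveI := hS.mono_f
  rw [← hS.exact.lift_f ψ hψ, Subsingleton.elim (hS.exact.lift ψ hψ) 0, zero_comp]

/-- surjectivity of `Hom(T, X₂) → Hom(T, X₃)` from `Ext^1(T, X₁) = 0` -/
theorem hom_surjective_of {S : ShortComplex C} (hS : S.ShortExact) (T : C)
    (h : Subsingleton (Ext T S.X₁ 1)) (φ : T ⟶ S.X₃) : ∃ ψ : T ⟶ S.X₂, ψ ≫ S.g = φ := by
  obtain ⟨x₂, hx₂⟩ := Ext.covariant_sequence_exact₃ T hS (Ext.mk₀ φ) (zero_add 1)
    (Subsingleton.elim _ _)
  obtain ⟨ψ, rfl⟩ := (Ext.mk₀_bijective _ _).2 x₂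
  rw [Ext.mk₀_comp_mk₀] at hx₂
  exact ⟨ψ, (Ext.mk₀_bijective _ _).1 hx₂⟩

attribute [local instance] Abelian.hasFiniteBiproducts

/-- `Ext` into a finite biproduct vanishes if it vanishes into every summand -/
theorem sub_ext_biproduct (T : C) {n : ℕ} (f : Fin n → C) (q : ℕ)
    (h : ∀ j, Subsingleton (Ext T (f j) q)) : Subsingleton (Ext T (⨁ f) q) :=
  (Ext.addEquivBiproduct T (biproduct.isBilimit f) q).toEquiv.subsingleton

theorem sub_ext_biprod (T A B : C) (q : ℕ) (hA : Subsingleton (Ext T A q))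
    (hB : Subsingleton (Ext T B q)) : Subsingleton (Ext T (A ⊞ B) q) :=
  (Ext.addEquivBiprod (X := T) (Y₁ := A) (Y₂ := B) (n := q)).toEquiv.subsingleton

theorem sub_ext_iso_right (T : C) {A B : C} (e : A ≅ B) (q : ℕ) (h : Subsingleton (Ext T B q)) :
    Subsingleton (Ext T A q) := by
  apply subsingleton_of_forall_eq_zero
  intro x
  have h1 : x = (x.comp (Ext.mk₀ e.hom) (add_zero q)).comp (Ext.mk₀ e.inv) (add_zero q) := by
    rw [Ext.comp_assoc_of_second_deg_zero, Ext.mk₀_comp_mk₀, e.hom_inv_id, Ext.comp_mk₀_id]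
  rw [h1, Subsingleton.elim (x.comp (Ext.mk₀ e.hom) (add_zero q)) 0, Ext.zero_comp]

theorem sub_ext_iso_left {A B : C} (e : A ≅ B) (Y : C) (q : ℕ) (h : Subsingleton (Ext B Y q)) :
    Subsingleton (Ext A Y q) := by
  apply subsingleton_of_forall_eq_zero
  intro x
  have h1 : x = (Ext.mk₀ e.hom).comp ((Ext.mk₀ e.inv).comp x (zero_add q)) (zero_add q) := by
    rw [← Ext.comp_assoc_of_second_deg_zero, Ext.mk₀_comp_mk₀, e.hom_inv_id, Ext.mk₀_id_comp]
  rw [h1, Subsingleton.elim ((Ext.mk₀ e.inv).comp x (zero_add q)) 0, Ext.comp_zero]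

end Abstract

end Groth.Agent.Gaeta
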