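import Mathlib
import Groth.Prelude
import Groth.Agent.Lib.GaetaP2a_helper9
import Groth.Agent.Lib.RegGG_helper9
import Groth.Agent.Lib.PForm2_helper9
import Groth.Agent.Lib.CurveIdeal1_helper9
import Groth.Agent.Lib.RegZero_helper9
import Groth.Agent.Lib.Horrocks1_helper9

/-!
# Gaeta resolutions on the projective plane, part 2: `Hom` and `Ext` between twists (helper9)
APPEND-ONLY once landed.
-/

set_option autoImplicit false
universe u
open CategoryTheory CategoryTheory.Limits AlgebraicGeometry TopologicalSpace Opposite Abelian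

namespace Groth.Agent.Gaeta

open Groth.Agent.TensInv QcqsLoc QCohExtn

section Lin

variable {A : Type u} [CommRing A] {X : Scheme.{u}} [X.Over (Spec (CommRingCat.of A))]

/-- tensoring with a fixed module is a linear functor -/
theorem tR_map_smul (L : X.Modules) {K N : X.Modules} (a : A) (g : K ⟶ N) :
    (tR L).map (a • g) = a • (tR L).map g := by
  apply PFormH9.hom_ext_tmul
  intro U m l
  refine (RegGGH9.tR_map_tmul L (a • g) U m l).trans ?_
  have h1 : (((a • g).val.app (op U)).hom m) =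
      X.presheaf.map (homOfLE (le_top : U ≤ ⊤)).op
        (Coh.toGlobal (X ↘ Spec (CommRingCat.of A)) a) • (g.val.app (op U)).hom m :=
    KLin.smul_app_apply a g U m
  have h2 : ((a • (tR L).map g).val.app (op U)).hom (SecTwist.tmul K L U m l) =
      X.presheaf.map (homOfLE (le_top : U ≤ ⊤)).op
        (Coh.toGlobal (X ↘ Spec (CommRingCat.of A)) a) •
          (((tR L).map g).val.app (op U)).hom (SecTwist.tmul K L U m l) :=
    KLin.smul_app_apply a ((tR L).map g) U _
  refine Eq.trans ?_ h2.symm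
  refine Eq.trans ?_ (congrArg (fun z => X.presheaf.map (homOfLE (le_top : U ≤ ⊤)).op
        (Coh.toGlobal (X ↘ Spec (CommRingCat.of A)) a) • z) (RegGGH9.tR_map_tmul L g U m l)).symm
  refine (congrArg (fun z => SecTwist.tmul N L U z l) h1).trans ?_
  exact TensH8.tmul_smul_left N L U _ _ l

instance linear_tR (L : X.Modules) : (tR L).Linear A where
  map_smul f a := tR_map_smul L a f

end Lin

section Pn

open Groth.Agent.ProjTens Groth.Agent.CMReg Groth.Agent.ExtDual Groth.Agent.ProjCech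

variable (n : ℕ) (k : Type u) [Field k]

/-- `Ext^q(A, B) = 0` for `A ≅ O(a)`, `B ≅ O(b)` unless `q = 0`, `a ≤ b` or `q = n`,
`b - a ≤ -n-1` -/
theorem sub_ext_TT [HasExt.{u} (CohB1.ProjSpace n k).Modules]
    {A B : (CohB1.ProjSpace n k).Modules} (a b : ℤ) (eA : A ≅ OO n k a) (eB : B ≅ OO n k b)
    (q : ℕ) (h₀ : ¬ (q = 0 ∧ a ≤ b)) (hn : ¬ (q = n ∧ b - a ≤ -((n : ℤ) + 1))) :
    Subsingleton (Ext A B q) := by
  apply sub_ext_iso_left eA
  apply sub_ext_iso_right _ eB
  rw [subsingleton_ext_twist_iff n k a (-a) (by omega) (OO n k b) q]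
  obtain ⟨e⟩ := twist_add' n k b (-a) (b - a) (by omega)
  apply HHVan.subsingleton_of_iso e.symm
  exact subsingleton_HH_twist (b - a) q (by omega) (by omega)

/-- `Hom(O(a), F) ≃ H⁰(F(-a))`, linearly -/
theorem nonempty_homEquiv (a : ℤ) (F : (CohB1.ProjSpace n k).Modules) :
    Nonempty ((OO n k a ⟶ F) ≃ₗ[k]
      Coh.HH (CohB1.ProjSpace n k) (CohB1.tensorMod F (OO n k (-a))) 0) := by
  haveI := isEquivalence_tR_twist n k (-a)
  obtain ⟨e⟩ := twist_inv n k a (-a) (by omega)
  have e' : (tR (OO n k (-a))).obj (OO n k a) ≅ Coh.structureModule (CohB1.ProjSpace n k) := e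
  have E1 : (OO n k a ⟶ F) ≃ₗ[k]
      ((tR (OO n k (-a))).obj (OO n k a) ⟶ (tR (OO n k (-a))).obj F) :=
    LinearEquiv.ofBijective ((tR (OO n k (-a))).mapLinearMap k)
      ⟨(tR (OO n k (-a))).map_injective, (tR (OO n k (-a))).map_surjective⟩
  have E2 := Linear.homCongr k e' (Iso.refl ((tR (OO n k (-a))).obj F))
  have E3 := CurveIdeal.thetaEquiv k ((tR (OO n k (-a))).obj F)
  exact ⟨(E1.trans E2).trans E3⟩

theorem finite_hom {A : (CohB1.ProjSpace n k).Modules} (a : ℤ) (eA : A ≅ OO n k a)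
    (F : (CohB1.ProjSpace n k).Modules) (hF : Coh.IsCoh F) : Module.Finite k (A ⟶ F) := by
  obtain ⟨e⟩ := nonempty_homEquiv n k a F
  haveI := finite_HH k n _ (Groth.Agent.RegZero.isCoh_twistBy n k F hF (-a)) 0
  exact Module.Finite.equiv ((Linear.homCongr k eA (Iso.refl F)).trans e).symm

theorem finrank_end {A : (CohB1.ProjSpace n k).Modules} (a : ℤ) (eA : A ≅ OO n k a) :
    Module.finrank k (A ⟶ A) = 1 := by
  obtain ⟨e⟩ := nonempty_homEquiv n k a (OO n k a)
  obtain ⟨e₁⟩ := twist_inv n k a (-a) (by omega)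
  rw [((Linear.homCongr k eA eA).trans e).finrank_eq,
    (Groth.Agent.HypConn.hhEquivOfIso (A := k) e₁ 0).finrank_eq]
  obtain ⟨e0⟩ := twist_zero n k
  rw [← (Groth.Agent.HypConn.hhEquivOfIso (A := k) e0 0).finrank_eq]
  have h := Groth.Agent.ProjEuler.finrank_HH_zero k n 0
  rw [Nat.zero_add, Nat.choose_self] at h
  exact h

theorem id_ne_zero {A : (CohB1.ProjSpace n k).Modules} (a : ℤ) (eA : A ≅ OO n k a) :
    𝟙 A ≠ 0 := by
  intro h
  have h1 := finrank_end n k a eA
  haveI : Subsingleton (A ⟶ A) :=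
    subsingleton_of_forall_eq_zero (fun c => by rw [← Category.id_comp c, h, zero_comp])
  rw [Module.finrank_zero_of_subsingleton] at h1
  exact zero_ne_one h1

/-- every endomorphism of a twist is a scalar -/
theorem exists_smul_id {A : (CohB1.ProjSpace n k).Modules} (a : ℤ) (eA : A ≅ OO n k a)
    (c : A ⟶ A) : ∃ r : k, c = r • 𝟙 A := by
  obtain ⟨r, hr⟩ := (finrank_eq_one_iff_of_nonzero' _ (id_ne_zero n k a eA)).mp
    (finrank_end n k a eA) c
  exact ⟨r, hr.symm⟩

end Pn

end Groth.Agent.Gaeta
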