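import Mathlib
import Groth.Prelude
import Groth.Agent.Lib.Tens38_helper8
import Groth.Agent.Lib.Tens24_helper8
import Groth.Agent.Lib.TensInv2_helper9
import Groth.Agent.Lib.NegPow_helper5

/-!
# Multiplication by a "dual section" `τ : T ⟶ O` on `G ⊗ T` (helper9)

For a morphism `τ : T ⟶ O_X` and a module `G`, the morphism `mu τ G : G ⊗ T ⟶ G`,
`g ⊗ a ↦ τ(a) • g`; its local form in terms of a generator of `T`; and the morphism
`tauOf t ε : T ⟶ O` attached to a section `t : O ⟶ P` and an isomorphism `ε : P ⊗ T ≅ O`,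
whose non-vanishing locus is `X_t`.
APPEND-ONLY once landed.
-/

set_option autoImplicit false

namespace NegTw9

open AlgebraicGeometry CategoryTheory CategoryTheory.Limits TopologicalSpace Opposite TensorProduct
open QcqsLoc MonoidalCategory GenLocH8 FLFH8 QCohExtn TensH8

universe u

variable {X : Scheme.{u}}

/-- the pairing `G × T → G`, `(g, a) ↦ τ(a) • g`. -/
noncomputable def muBilin {T : X.Modules} (τ : T ⟶ Coh.structureModule X) (G : X.Modules) :
    FLFH8.BilinData G T G where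
  β U g a := ofM (ap τ U a) • g
  add_left U g g' a := smul_add _ _ _
  smul_left U r g a := smul_comm _ _ _
  add_right U g a a' := by
    rw [map_add]
    exact add_smul _ _ _
  smul_right U r g a := by
    rw [ap_smul]
    exact mul_smul r _ _
  natural h g a := by
    rw [rF_smul, ap_rF]
    rfl

/-- the morphism `G ⊗ T ⟶ G`, `g ⊗ a ↦ τ(a) • g`. -/
noncomputable def mu {T : X.Modules} (τ : T ⟶ Coh.structureModule X) (G : X.Modules) :
    CohB1.tensorMod G T ⟶ G :=
  (muBilin τ G).toHom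

theorem mu_tmul {T : X.Modules} (τ : T ⟶ Coh.structureModule X) (G : X.Modules) (U : X.Opens)
    (g : Γ(G, U)) (a : Γ(T, U)) :
    ap (mu τ G) U (SecTwist.tmul G T U g a) = ofM (ap τ U a) • g :=
  (muBilin τ G).toHom_tmul U g a

/-- local form of `mu`: over an open where `T` has a generator `e`, every section of `G ⊗ T` is
`g ⊗ e` and `mu` sends it to `τ(e) • g`. -/
theorem mu_local {T : X.Modules} (τ : T ⟶ Coh.structureModule X) (G : X.Modules) {W : X.Opens}
    {e : Γ(T, W)} (he : IsGen T W e) (κ : Γ(CohB1.tensorMod G T, W)) :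
    ∃ g : Γ(G, W), κ = SecTwist.tmul G T W g e ∧ ap (mu τ G) W κ = ofM (ap τ W e) • g := by
  obtain ⟨g, hg⟩ := tmulGen_surjective G T he le_rfl κ
  rw [SubExt.rF_self] at hg
  refine ⟨g, hg.symm, ?_⟩
  rw [← hg, mu_tmul]

open Groth.Agent.TensInv in
/-- the morphism `T ⟶ O` attached to a section `t` of `P` and `ε : P ⊗ T ≅ O`. -/
noncomputable def tauOf {P T : X.Modules} (t : Coh.structureModule X ⟶ P)
    (ε : CohB1.tensorMod P T ≅ Coh.structureModule X) : T ⟶ Coh.structureModule X :=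
  (comm (Coh.structureModule X) T ≪≫ rightUnit T).inv ≫ tmap t T ≫ ε.hom

open Groth.Agent.TensInv in
/-- local computation of `tauOf`: over an open with generators `e'` of `T` and `p` of `P`, with
`t = c • p`, one has `τ(e') = (unit) * c * (unit)`. -/
theorem tauOf_local {P T : X.Modules} (t : Coh.structureModule X ⟶ P)
    (ε : CohB1.tensorMod P T ≅ Coh.structureModule X) {W : X.Opens} {e : Γ(T, W)}
    (he : IsGen T W e) {p : Γ(P, W)} (hp : IsGen P W p) (c : Γ(X, W))
    (hc : SecTwist.val t W = c • p) :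
    ∃ a v : Γ(X, W), IsUnit a ∧ IsUnit v ∧ ofM (ap (tauOf t ε) W e) = a * (c * v) := by
  let κ : T ≅ CohB1.tensorMod (Coh.structureModule X) T :=
    (comm (Coh.structureModule X) T ≪≫ rightUnit T).symm
  have g1 : IsGen _ W (ap κ.hom W e) := isGen_of_iso κ he
  have g2 : IsGen (CohB1.tensorMod (Coh.structureModule X) T) W
      (SecTwist.tmul (Coh.structureModule X) T W (toM 1) e) := isGen_tmul (isGen_one W) he
  obtain ⟨a, ha⟩ := g2.exists_coef (ap κ.hom W e)
  have hau : IsUnit a := isUnit_of_isGen_smul g2 (ha ▸ g1)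
  have g3 : IsGen (CohB1.tensorMod P T) W (SecTwist.tmul P T W p e) := isGen_tmul hp he
  have g4 : IsGen (Coh.structureModule X) W (ap ε.hom W (SecTwist.tmul P T W p e)) :=
    isGen_of_iso ε g3
  have hv0 : ap ε.hom W (SecTwist.tmul P T W p e) =
      ofM (ap ε.hom W (SecTwist.tmul P T W p e)) • toM (1 : Γ(X, W)) :=
    (mul_one (ofM (ap ε.hom W (SecTwist.tmul P T W p e)))).symm
  have hvu : IsUnit (ofM (ap ε.hom W (SecTwist.tmul P T W p e))) :=
    isUnit_of_isGen_smul (isGen_one W) (hv0 ▸ g4)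
  refine ⟨a, ofM (ap ε.hom W (SecTwist.tmul P T W p e)), hau, hvu, ?_⟩
  have h1 : ap (tauOf t ε) W e = ap ε.hom W (ap (tmap t T) W (ap κ.hom W e)) := rfl
  have h2 : ap (tmap t T) W (SecTwist.tmul (Coh.structureModule X) T W (toM 1) e) =
      c • SecTwist.tmul P T W p e := by
    rw [tmap_tmul, ← val_eq_ap, hc]
    exact tmul_smul_left P T W c p e
  have h3 : ap ε.hom W (ap (tmap t T) W
      (a • SecTwist.tmul (Coh.structureModule X) T W (toM 1) e)) =
      a • (c • ap ε.hom W (SecTwist.tmul P T W p e)) :=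
    calc ap ε.hom W (ap (tmap t T) W (a • SecTwist.tmul (Coh.structureModule X) T W (toM 1) e))
        = ap ε.hom W (a • ap (tmap t T) W
            (SecTwist.tmul (Coh.structureModule X) T W (toM 1) e)) :=
          congrArg (ap ε.hom W) (ap_smul (tmap t T) a _)
      _ = ap ε.hom W (a • (c • SecTwist.tmul P T W p e)) :=
          congrArg (fun z => ap ε.hom W (a • z)) h2
      _ = a • ap ε.hom W (c • SecTwist.tmul P T W p e) := ap_smul ε.hom a _
      _ = a • (c • ap ε.hom W (SecTwist.tmul P T W p e)) :=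
          congrArg (fun z => a • z) (ap_smul ε.hom c _)
  have h4 : ap (tauOf t ε) W e = a • (c • ap ε.hom W (SecTwist.tmul P T W p e)) :=
    h1.trans ((congrArg (fun z => ap ε.hom W (ap (tmap t T) W z)) ha).trans h3)
  exact congrArg ofM h4

/-- the non-vanishing locus of `tauOf t ε` is `X_t`. -/
theorem basicOpen_tauOf {P T : X.Modules} (hP : PicF.IsInvertible P)
    (t : Coh.structureModule X ⟶ P) (ε : CohB1.tensorMod P T ≅ Coh.structureModule X)
    {W : X.Opens} {e : Γ(T, W)} (he : IsGen T W e) :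
    X.basicOpen (ofM (ap (tauOf t ε) W e)) = CohB1.genLocus P t ⊓ W := by
  have key : ∀ x ∈ W, ∃ W' : X.Opens, x ∈ W' ∧
      X.basicOpen (ofM (ap (tauOf t ε) W e)) ⊓ W' = (CohB1.genLocus P t ⊓ W) ⊓ W' := by
    intro x hxW
    obtain ⟨W', -, hxW', hW'W, p, hp⟩ := exists_isGen_le hP x W hxW
    refine ⟨W', hxW', ?_⟩
    obtain ⟨c, hc⟩ := hp.exists_coef (SecTwist.val t W')
    obtain ⟨a, v, hau, hvu, hacv⟩ := tauOf_local t ε (he.res hW'W) hp c hc
    have h1 : ofM (ap (tauOf t ε) W' (rF T hW'W e)) = rX hW'W (ofM (ap (tauOf t ε) W e)) := by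
      rw [ap_rF]
      rfl
    have h2 : X.basicOpen (rX hW'W (ofM (ap (tauOf t ε) W e))) = X.basicOpen c := by
      rw [← h1, hacv, Scheme.basicOpen_mul, Scheme.basicOpen_mul,
        Scheme.basicOpen_of_isUnit X hau, Scheme.basicOpen_of_isUnit X hvu]
      apply le_antisymm
      · exact inf_le_right.trans inf_le_left
      · exact le_inf (X.basicOpen_le c) (le_inf le_rfl (X.basicOpen_le c))
    rw [basicOpen_rX] at h2
    have h3 := genLocus_inf_eq t hp c hc
    rw [inf_comm, h2, ← h3]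
    ext y
    constructor
    · rintro ⟨hy1, hy2⟩
      exact ⟨⟨hy1, hW'W hy2⟩, hy2⟩
    · rintro ⟨⟨hy1, -⟩, hy2⟩
      exact ⟨hy1, hy2⟩
  ext x
  constructor
  · intro hx
    have hxW : x ∈ W := X.basicOpen_le _ hx
    obtain ⟨W', hxW', hW'⟩ := key x hxW
    have : x ∈ X.basicOpen (ofM (ap (tauOf t ε) W e)) ⊓ W' := ⟨hx, hxW'⟩
    rw [hW'] at this
    exact this.1
  · intro hx
    obtain ⟨W', hxW', hW'⟩ := key x hx.2
    have : x ∈ (CohB1.genLocus P t ⊓ W) ⊓ W' := ⟨hx, hxW'⟩
    rw [← hW'] at this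
    exact this.1

end NegTw9
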