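import Mathlib
import Groth.Prelude
import Groth.Agent.Lib.Tens33_helper8
import Groth.Agent.Lib.IrrDec1_helper8
import Groth.Agent.Lib.AssPt1_helper8
import Groth.Agent.Lib.Desc1_helper8

/-!
# Regular sections of invertible modules avoiding finitely many points (helper5)
APPEND-ONLY once landed.
-/

set_option autoImplicit false
universe u
open CategoryTheory CategoryTheory.Limits AlgebraicGeometry TopologicalSpace Opposite
open QcqsLoc QCohExtn GenLocH8

namespace Groth.Agent.RegSec

variable {X : Scheme.{u}}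

/-- The associated points of the structure sheaf lying in a Noetherian affine open are finitely
many. -/
theorem finite_assPoints_affine {U : X.Opens} (hU : IsAffineOpen U) [IsNoetherianRing Γ(X, U)] :
    {x : X | x ∈ U ∧ Curv2.IsAssPoint (Coh.structureModule X) x}.Finite := by
  have hfin : (associatedPrimes Γ(X, U) Γ(X, U)).Finite := associatedPrimes.finite _ _
  have hinj : Function.Injective (fun u : U => (hU.primeIdealOf u).asIdeal) := by
    intro u v huv
    have h1 : hU.primeIdealOf u = hU.primeIdealOf v := PrimeSpectrum.ext huv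
    have h2 := hU.fromSpec_primeIdealOf u
    have h3 := hU.fromSpec_primeIdealOf v
    rw [h1] at h2
    exact Subtype.ext (h2.symm.trans h3)
  have hfin' : {u : U | (hU.primeIdealOf u).asIdeal ∈ associatedPrimes Γ(X, U) Γ(X, U)}.Finite :=
    hfin.preimage (hinj.injOn)
  refine (hfin'.image Subtype.val).subset ?_
  rintro x ⟨hxU, hx⟩
  refine ⟨⟨x, hxU⟩, ?_, rfl⟩
  rw [AssPtH8.isAssPoint_structureModule_iff, AssPtH8.isAssociatedPrime_stalk_iff hU hxU] at hx
  exact hx

/-- On a Noetherian scheme the structure sheaf has finitely many associated points. -/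
theorem finite_assPoints [IsNoetherian X] :
    {x : X | Curv2.IsAssPoint (Coh.structureModule X) x}.Finite := by
  obtain ⟨t, ht⟩ := isCompact_univ.elim_finite_subcover
    (fun U : X.affineOpens => ((U.1 : X.Opens) : Set X)) (fun U => U.1.isOpen) (by
      intro x _
      obtain ⟨_, ⟨W, hW : IsAffineOpen W, rfl⟩, hxW, -⟩ :=
        (X.isBasis_affineOpens).exists_subset_of_mem_open (Set.mem_univ x) isOpen_univ
      exact Set.mem_iUnion.2 ⟨⟨W, hW⟩, hxW⟩)
  have hfin : (⋃ U ∈ t, {x : X | x ∈ (U : X.affineOpens).1 ∧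
      Curv2.IsAssPoint (Coh.structureModule X) x}).Finite := by
    refine t.finite_toSet.biUnion (fun U _ => ?_)
    haveI : IsNoetherianRing Γ(X, U.1) := IsLocallyNoetherian.component_noetherian U
    exact finite_assPoints_affine U.2
  refine hfin.subset ?_
  intro x hx
  have := ht (Set.mem_univ x)
  obtain ⟨U, hUt, hxU⟩ := Set.mem_iUnion₂.1 this
  exact Set.mem_iUnion₂.2 ⟨U, hUt, hxU, hx⟩


/-- A section of a module which generates it at the associated points of the structure sheaf is
a monomorphism `O_X ⟶ L`. -/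
theorem mono_of_assPoints_le_genLocus [IsLocallyNoetherian X] (L : X.Modules)
    (s : Coh.structureModule X ⟶ L)
    (h : ∀ x, Curv2.IsAssPoint (Coh.structureModule X) x → x ∈ CohB1.genLocus L s) : Mono s := by
  apply DescH8.mono_of_app_injective
  intro W
  rw [injective_iff_map_eq_zero (s.app W).hom]
  intro a ha
  by_contra hne
  have h1 : ∃ y, ∃ hy : y ∈ W, (Coh.structureModule X).presheaf.germ W y hy a ≠ 0 := by
    by_contra hcon
    push Not at hcon
    apply hne
    refine TopCat.Presheaf.section_ext ⟨_, (Coh.structureModule X).isSheaf⟩ W a 0 (fun y hy => ?_)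
    exact (hcon y hy).trans (map_zero _).symm
  obtain ⟨y, hy, hc⟩ := h1
  obtain ⟨y', hspec, hass, hne'⟩ :=
    IrrDecH8.exists_assPoint_specializes (Coh.structureModule X) y _ hc
  have hy'W : y' ∈ W := hspec.mem_open W.isOpen hy
  rw [SecOrdH8.stalkSpecializes_germ] at hne'
  obtain ⟨V, hy'V, hV⟩ := (mem_genLocus_iff L s y').1 (h y' hass)
  apply hne'
  have h2 : rF (Coh.structureModule X) (inf_le_right : V ⊓ W ≤ W) a = 0 := by
    apply (hV (V ⊓ W) inf_le_left).1
    have h3 : ap s (V ⊓ W) (rF (Coh.structureModule X) (inf_le_right : V ⊓ W ≤ W) a) =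
        rF L (inf_le_right : V ⊓ W ≤ W) (ap s W a) := ap_rF s _ a
    have h4 : ap s W a = 0 := ha
    rw [h4, map_zero] at h3
    exact h3.trans (map_zero (ap s (V ⊓ W))).symm
  have h5 : (Coh.structureModule X).presheaf.germ W y' hy'W a =
      (Coh.structureModule X).presheaf.germ (V ⊓ W) y' ⟨hy'V, hy'W⟩
        (rF (Coh.structureModule X) (inf_le_right : V ⊓ W ≤ W) a) :=
    (TopCat.Presheaf.germ_res_apply (Coh.structureModule X).presheaf (homOfLE inf_le_right) y'
      ⟨hy'V, hy'W⟩ a).symm
  rw [h5, h2, map_zero]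

/-- **S11967**: on a quasi-affine Noetherian scheme, an invertible module has a regular section
generating it near finitely many given points. -/
theorem exists_regular_section [IsNoetherian X] [X.IsQuasiAffine] (L : X.Modules)
    (hL : PicF.IsInvertible L) (E : Set X) (hE : E.Finite) :
    ∃ φ : Coh.structureModule X ⟶ L, Mono φ ∧
      ∀ x ∈ E, ∃ W : X.Opens, x ∈ W ∧ IsIso ((Scheme.Modules.restrictFunctor W.ι).map φ) := by
  obtain ⟨s, -, hsub, -⟩ := TensH8.exists_affine_genLocus_of_finite_of_isQuasiAffine hL ⊤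
    (E ∪ {x : X | Curv2.IsAssPoint (Coh.structureModule X) x}) (hE.union finite_assPoints)
    (fun _ _ => trivial)
  refine ⟨s, mono_of_assPoints_le_genLocus L s (fun x hx => hsub (Or.inr hx)), fun x hx => ?_⟩
  obtain ⟨V, hxV, hV⟩ := (mem_genLocus_iff L s x).1 (hsub (Or.inl hx))
  exact ⟨V, hxV, (isIso_restrict_iff s V).2 hV⟩

end Groth.Agent.RegSec
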