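import Mathlib
import Groth.Prelude
import Groth.Agent.Lib.NegTw1_helper9
import Groth.Agent.Lib.RegSec_helper5
import Groth.Agent.Lib.QCohFT_helper9
import Groth.Agent.Lib.Tens26_helper8

/-!
# Associated points of coherent modules and twists (helper9)

Finiteness of `Ass(F)` for coherent `F` on a Noetherian scheme, invariance of associated points
under tensoring with an invertible module, and injectivity of `mu τ G` when `τ` does not vanish
at the associated points of `G`.
APPEND-ONLY once landed.
-/

set_option autoImplicit false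

namespace NegTw9

open AlgebraicGeometry CategoryTheory CategoryTheory.Limits TopologicalSpace Opposite TensorProduct
open QcqsLoc MonoidalCategory GenLocH8 FLFH8 QCohExtn TensH8

universe u

variable {X : Scheme.{u}}

/-- The associated points of a coherent module lying in a Noetherian affine open are finitely
many. -/
theorem finite_assPoints_affine (F : X.Modules) (hF : Coh.IsCoh F) {U : X.Opens}
    (hU : IsAffineOpen U) [IsNoetherianRing Γ(X, U)] :
    {x : X | x ∈ U ∧ Curv2.IsAssPoint F x}.Finite := by
  haveI : F.IsQuasicoherent := hF.1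
  haveI : SheafOfModules.IsFiniteType (R := X.ringCatSheaf) F := hF.2
  haveI : Module.Finite Γ(X, U) Γ(F, U) := QCohFT.finite_of_isFiniteType F hU
  have hfin : (associatedPrimes Γ(X, U) Γ(F, U)).Finite := associatedPrimes.finite _ _
  have hinj : Function.Injective (fun u : U => (hU.primeIdealOf u).asIdeal) := by
    intro u v huv
    have h1 : hU.primeIdealOf u = hU.primeIdealOf v := PrimeSpectrum.ext huv
    have h2 := hU.fromSpec_primeIdealOf u
    have h3 := hU.fromSpec_primeIdealOf v
    rw [h1] at h2
    exact Subtype.ext (h2.symm.trans h3)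
  have hfin' : {u : U | (hU.primeIdealOf u).asIdeal ∈ associatedPrimes Γ(X, U) Γ(F, U)}.Finite :=
    hfin.preimage (hinj.injOn)
  refine (hfin'.image Subtype.val).subset ?_
  rintro x ⟨hxU, hx⟩
  refine ⟨⟨x, hxU⟩, ?_, rfl⟩
  rw [AssPtH8.isAssPoint_iff F hU hxU] at hx
  exact hx

/-- On a Noetherian scheme a coherent module has finitely many associated points. -/
theorem finite_assPoints [IsNoetherian X] (F : X.Modules) (hF : Coh.IsCoh F) :
    {x : X | Curv2.IsAssPoint F x}.Finite := by
  obtain ⟨t, ht⟩ := isCompact_univ.elim_finite_subcover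
    (fun U : X.affineOpens => ((U.1 : X.Opens) : Set X)) (fun U => U.1.isOpen) (by
      intro x _
      obtain ⟨_, ⟨W, hW : IsAffineOpen W, rfl⟩, hxW, -⟩ :=
        (X.isBasis_affineOpens).exists_subset_of_mem_open (Set.mem_univ x) isOpen_univ
      exact Set.mem_iUnion.2 ⟨⟨W, hW⟩, hxW⟩)
  have hfin : (⋃ U ∈ t, {x : X | x ∈ (U : X.affineOpens).1 ∧ Curv2.IsAssPoint F x}).Finite := by
    refine t.finite_toSet.biUnion (fun U _ => ?_)
    haveI : IsNoetherianRing Γ(X, U.1) := IsLocallyNoetherian.component_noetherian U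
    exact finite_assPoints_affine F hF U.2
  refine hfin.subset ?_
  intro x hx
  have := ht (Set.mem_univ x)
  obtain ⟨U, hUt, hxU⟩ := Set.mem_iUnion₂.1 this
  exact Set.mem_iUnion₂.2 ⟨U, hUt, hxU, hx⟩

/-- tensoring with a generator, as a linear equivalence on sections. -/
noncomputable def tmulGenEquiv (F : X.Modules) {N : X.Modules} {W : X.Opens} {e : Γ(N, W)}
    (he : IsGen N W e) : Γ(F, W) ≃ₗ[Γ(X, W)] Γ(CohB1.tensorMod F N, W) :=
  LinearEquiv.ofBijective
    { toFun := fun g => SecTwist.tmul F N W g e
      map_add' := fun g g' => tmul_add_left F N W g g' e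
      map_smul' := fun r g => by
        show SecTwist.tmul F N W (r • g) e = r • SecTwist.tmul F N W g e
        exact tmul_smul_left F N W r g e }
    ⟨fun g g' h => tmulGen_injective F N he le_rfl g g' (by
        rw [SubExt.rF_self]
        exact h),
      fun y => by
        obtain ⟨g, hg⟩ := tmulGen_surjective F N he le_rfl y
        rw [SubExt.rF_self] at hg
        exact ⟨g, hg⟩⟩

/-- Tensoring with an invertible module does not change the associated points. -/
theorem isAssPoint_tensorMod_iff [IsLocallyNoetherian X] (F : X.Modules) [F.IsQuasicoherent]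
    {N : X.Modules} (hN : PicF.IsInvertible N) (x : X) :
    Curv2.IsAssPoint (CohB1.tensorMod F N) x ↔ Curv2.IsAssPoint F x := by
  haveI := isQuasicoherent_tensorMod_right F hN
  obtain ⟨W, hW, hxW, -, e, he⟩ := exists_isGen_le hN x ⊤ trivial
  haveI : IsNoetherianRing Γ(X, W) := IsLocallyNoetherian.component_noetherian ⟨W, hW⟩
  rw [AssPtH8.isAssPoint_iff _ hW hxW, AssPtH8.isAssPoint_iff F hW hxW,
    LinearEquiv.AssociatedPrimes.eq (tmulGenEquiv F he)]

/-- A section killed by a function which is invertible at all associated points is zero. -/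
theorem eq_zero_of_smul_eq_zero [IsLocallyNoetherian X] (G : X.Modules) [G.IsQuasicoherent]
    {W : X.Opens} (f : Γ(X, W)) (g : Γ(G, W)) (hfg : f • g = 0)
    (h : ∀ x ∈ W, Curv2.IsAssPoint G x → x ∈ X.basicOpen f) : g = 0 := by
  by_contra hne
  have h1 : ∃ y, ∃ hy : y ∈ W, G.presheaf.germ W y hy g ≠ 0 := by
    by_contra hcon
    push Not at hcon
    apply hne
    refine TopCat.Presheaf.section_ext ⟨_, G.isSheaf⟩ W g 0 (fun y hy => ?_)
    exact (hcon y hy).trans (map_zero _).symm
  obtain ⟨y, hy, hc⟩ := h1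
  obtain ⟨y', hspec, hass, hne'⟩ := IrrDecH8.exists_assPoint_specializes G y _ hc
  have hy'W : y' ∈ W := hspec.mem_open W.isOpen hy
  rw [SecOrdH8.stalkSpecializes_germ] at hne'
  have hy'B : y' ∈ X.basicOpen f := h y' hy'W hass
  apply hne'
  have hu : IsUnit (rX (X.basicOpen_le f) f) := X.toRingedSpace.isUnit_res_basicOpen f
  have h2 : rF G (X.basicOpen_le f) g = 0 := by
    have h3 : rX (X.basicOpen_le f) f • rF G (X.basicOpen_le f) g = 0 := by
      rw [← rF_smul, hfg, map_zero]
    obtain ⟨v, hv⟩ := hu.exists_left_inv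
    have h4 := congrArg (fun z => v • z) h3
    simp only [smul_zero, ← mul_smul, hv, one_smul] at h4
    exact h4
  have h5 : G.presheaf.germ W y' hy'W g =
      G.presheaf.germ (X.basicOpen f) y' hy'B (rF G (X.basicOpen_le f) g) :=
    (TopCat.Presheaf.germ_res_apply G.presheaf (homOfLE (X.basicOpen_le f)) y' hy'B g).symm
  rw [h5, h2, map_zero]

/-- `mu τ G` is a monomorphism when `τ` does not vanish at the associated points of `G`. -/
theorem mono_mu [IsLocallyNoetherian X] {T : X.Modules} (hT : PicF.IsInvertible T)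
    (τ : T ⟶ Coh.structureModule X) (G : X.Modules) [G.IsQuasicoherent]
    (h : ∀ x, Curv2.IsAssPoint G x → ∀ (W : X.Opens) (e : Γ(T, W)), IsGen T W e → x ∈ W →
      x ∈ X.basicOpen (ofM (ap τ W e))) : Mono (mu τ G) := by
  apply FComplH8.mono_of_app_injective
  intro W
  rw [injective_iff_map_eq_zero]
  intro κ hκ
  apply eq_zero_of_cover (CohB1.tensorMod G T) κ
  intro z hz
  obtain ⟨W', -, hzW', hW'W, e, he⟩ := exists_isGen_le hT z W hz
  refine ⟨W', hW'W, hzW', ?_⟩
  obtain ⟨g, hg1, hg2⟩ := mu_local τ G he (rF _ hW'W κ)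
  have h1 : ap (mu τ G) W' (rF _ hW'W κ) = 0 := by rw [ap_rF, hκ, map_zero]
  rw [hg2] at h1
  have hg0 : g = 0 :=
    eq_zero_of_smul_eq_zero G _ g h1 (fun x hxW' hx => h x hx W' e he hxW')
  rw [hg1, hg0, tmul_zero_left]

end NegTw9
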