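import Mathlib
import Groth.Prelude
import Groth.Agent.Lib.NegTw2_helper9

/-!
# Sections infinitely divisible by `τ` vanish near the zero locus of `τ` (helper9)
APPEND-ONLY once landed.
-/

set_option autoImplicit false

namespace NegTw9

open AlgebraicGeometry CategoryTheory CategoryTheory.Limits TopologicalSpace Opposite TensorProduct
open QcqsLoc MonoidalCategory GenLocH8 FLFH8 QCohExtn TensH8

universe u

variable {X : Scheme.{u}}

/-- the global section `σ` of `G` is, locally, divisible by the `i`-th power of `τ`. -/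
def Div {T : X.Modules} (τ : T ⟶ Coh.structureModule X) (G : X.Modules)
    (σ : Coh.structureModule X ⟶ G) (i : ℕ) : Prop :=
  ∀ (W : X.Opens) (e : Γ(T, W)), IsGen T W e →
    ∃ g : Γ(G, W), SecTwist.val σ W = ofM (ap τ W e) ^ i • g

theorem val_comp {G G' : X.Modules} (σ : Coh.structureModule X ⟶ G) (φ : G ⟶ G') (W : X.Opens) :
    SecTwist.val (σ ≫ φ) W = ap φ W (SecTwist.val σ W) := rfl

theorem div_zero {T : X.Modules} (τ : T ⟶ Coh.structureModule X) (G : X.Modules)
    (σ : Coh.structureModule X ⟶ G) : Div τ G σ 0 := by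
  intro W e _
  exact ⟨SecTwist.val σ W, by rw [pow_zero, one_smul]⟩

theorem Div.comp {T : X.Modules} {τ : T ⟶ Coh.structureModule X} {G G' : X.Modules}
    {σ : Coh.structureModule X ⟶ G} {i : ℕ} (h : Div τ G σ i) (φ : G ⟶ G') :
    Div τ G' (σ ≫ φ) i := by
  intro W e he
  obtain ⟨g, hg⟩ := h W e he
  refine ⟨ap φ W g, ?_⟩
  rw [val_comp, hg]
  exact ap_smul φ _ g

theorem Div.mu {T : X.Modules} {τ : T ⟶ Coh.structureModule X} {G : X.Modules}
    {σ : Coh.structureModule X ⟶ CohB1.tensorMod G T} {i : ℕ} (h : Div τ _ σ i) :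
    Div τ G (σ ≫ mu τ G) (i + 1) := by
  intro W e he
  obtain ⟨κ, hκ⟩ := h W e he
  obtain ⟨g, -, hg⟩ := mu_local τ G he κ
  refine ⟨g, ?_⟩
  rw [val_comp, hκ]
  refine (ap_smul (NegTw9.mu τ G) _ κ).trans ?_
  rw [hg, ← mul_smul, ← pow_succ]

/-- Krull's intersection theorem for a principal ideal, in elementwise form. -/
theorem krull_aux {A N : Type u} [CommRing A] [IsNoetherianRing A] [AddCommGroup N] [Module A N]
    [Module.Finite A N] (f : A) (s : N) (h : ∀ i : ℕ, ∃ g : N, s = f ^ i • g) :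
    ∃ a : A, (1 - a * f) • s = 0 := by
  have hmem : s ∈ (⨅ i : ℕ, (Ideal.span {f}) ^ i • ⊤ : Submodule A N) := by
    refine (Submodule.mem_iInf _).2 (fun i => ?_)
    obtain ⟨g, hg⟩ := h i
    rw [hg]
    exact Submodule.smul_mem_smul (Ideal.pow_mem_pow (Ideal.subset_span (Set.mem_singleton f)) i) Submodule.mem_top
  obtain ⟨⟨r, hr⟩, hrs⟩ := (Ideal.mem_iInf_smul_pow_eq_bot_iff (Ideal.span {f}) s).1 hmem
  obtain ⟨a, rfl⟩ := Ideal.mem_span_singleton'.1 hr
  refine ⟨a, ?_⟩
  rw [sub_smul, one_smul]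
  exact sub_eq_zero.2 hrs.symm

/-- Krull: a section of a coherent module divisible by all powers of `τ` vanishes near every
point where `τ` vanishes. -/
theorem exists_val_eq_zero_of_div [IsLocallyNoetherian X] {T : X.Modules}
    (τ : T ⟶ Coh.structureModule X) (G : X.Modules) (hG : Coh.IsCoh G)
    (σ : Coh.structureModule X ⟶ G) (h : ∀ i, Div τ G σ i)
    {W : X.Opens} (hW : IsAffineOpen W) {e : Γ(T, W)} (he : IsGen T W e) {x : X} (hxW : x ∈ W)
    (hx : x ∉ X.basicOpen (ofM (ap τ W e))) :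
    ∃ W' : X.Opens, x ∈ W' ∧ SecTwist.val σ W' = 0 := by
  haveI : G.IsQuasicoherent := hG.1
  haveI : SheafOfModules.IsFiniteType (R := X.ringCatSheaf) G := hG.2
  haveI : IsNoetherianRing Γ(X, W) := IsLocallyNoetherian.component_noetherian ⟨W, hW⟩
  haveI : Module.Finite Γ(X, W) Γ(G, W) := QCohFT.finite_of_isFiniteType G hW
  set f : Γ(X, W) := ofM (ap τ W e) with hf
  obtain ⟨s, hs⟩ : ∃ s : Γ(G, W), s = SecTwist.val σ W := ⟨_, rfl⟩
  have hdiv : ∀ i, ∃ g : Γ(G, W), s = f ^ i • g := fun i => by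
    obtain ⟨g, hg⟩ := h i W e he
    exact ⟨g, hs.trans hg⟩
  obtain ⟨a, hu0⟩ := krull_aux f s hdiv
  have hxu : x ∈ X.basicOpen (1 - a * f) := by
    rw [Scheme.mem_basicOpen X _ x hxW]
    rw [Scheme.mem_basicOpen X _ x hxW] at hx
    rw [map_sub, map_one, map_mul]
    have hnu : (X.presheaf.germ W x hxW) a * (X.presheaf.germ W x hxW) f ∈
        nonunits (X.presheaf.stalk x) := by
      rw [← IsLocalRing.mem_maximalIdeal]
      exact Ideal.mul_mem_left _ _ ((IsLocalRing.mem_maximalIdeal _).2 hx)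
    exact IsLocalRing.isUnit_one_sub_self_of_mem_nonunits _ hnu
  refine ⟨X.basicOpen (1 - a * f), hxu, ?_⟩
  have hu : IsUnit (rX (X.basicOpen_le (1 - a * f)) (1 - a * f)) :=
    X.toRingedSpace.isUnit_res_basicOpen (1 - a * f)
  have h3 : rX (X.basicOpen_le (1 - a * f)) (1 - a * f) •
      rF G (X.basicOpen_le (1 - a * f)) s = 0 := by
    rw [← rF_smul, hu0, map_zero]
  obtain ⟨v, hv⟩ := hu.exists_left_inv
  have h4 := congrArg (fun z => v • z) h3
  simp only [smul_zero, ← mul_smul, hv, one_smul] at h4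
  have h6 : rF G (X.basicOpen_le (1 - a * f)) (SecTwist.val σ W) = 0 := hs ▸ h4
  exact (rF_val σ (X.basicOpen_le (1 - a * f))).symm.trans h6

end NegTw9
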