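import Mathlib
import Groth.Prelude
import Groth.Agent.Lib.NegTw3_helper9

/-!
# Sections of a module without closed associated points vanishing off an affine open (helper9)

On a scheme proper over a field, a point whose closure lies in an affine open is closed; hence
a global section of a quasi-coherent module without closed associated points which vanishes near
every point outside an affine open is zero.
APPEND-ONLY once landed.
-/

set_option autoImplicit false

namespace NegTw9

open AlgebraicGeometry CategoryTheory CategoryTheory.Limits TopologicalSpace Opposite TensorProduct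
open QcqsLoc MonoidalCategory GenLocH8 FLFH8 QCohExtn TensH8

universe u

section Pt

variable (k : Type u) [Field k]

/-- an affine scheme proper over a field is discrete -/
theorem discreteTopology_of_isAffine_of_isProper (Z : Scheme.{u}) [IsAffine Z]
    (p : Z ⟶ Spec (CommRingCat.of k)) [IsProper p] : DiscreteTopology Z := by
  haveI : IsFinite p := IsFinite.iff_isProper_and_isAffineHom.mpr ⟨inferInstance, inferInstance⟩
  have hfin := IsFinite.finite_app p ⊤ (isAffineOpen_top (Spec (CommRingCat.of k)))
  let e : k ≃+* Γ(Spec (CommRingCat.of k), ⊤) :=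
    (Scheme.ΓSpecIso (CommRingCat.of k)).commRingCatIsoToRingEquiv.symm
  haveI : IsArtinianRing Γ(Spec (CommRingCat.of k), ⊤) := e.surjective.isArtinianRing
  let φ := (p.app ⊤).hom
  letI := φ.toAlgebra
  haveI : Module.Finite Γ(Spec (CommRingCat.of k), ⊤) Γ(Z, p ⁻¹ᵁ ⊤) := hfin
  haveI : IsArtinianRing Γ(Z, p ⁻¹ᵁ ⊤) :=
    IsArtinianRing.of_finite Γ(Spec (CommRingCat.of k), ⊤) _
  haveI : IsArtinianRing Γ(Z, ⊤) := ‹IsArtinianRing Γ(Z, p ⁻¹ᵁ ⊤)›
  haveI : IsLocallyArtinian (Spec Γ(Z, ⊤)) := Scheme.isLocallyArtinianScheme_Spec.mpr inferInstance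
  haveI : DiscreteTopology (Spec Γ(Z, ⊤)) := inferInstance
  exact Z.isoSpec.hom.homeomorph.symm.discreteTopology

variable (X : Scheme.{u}) [X.Over (Spec (CommRingCat.of k))]
  [IsProper (X ↘ Spec (CommRingCat.of k))]

include k in
/-- on a scheme proper over a field, a point whose closure lies in an affine open is closed -/
theorem isClosed_singleton_of_closure_subset_affine (y : X) (U : X.Opens) (hU : IsAffineOpen U)
    (h : closure ({y} : Set X) ⊆ U) : IsClosed ({y} : Set X) := by
  let Zc : TopologicalSpace.Closeds X := ⟨closure {y}, isClosed_closure⟩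
  let I : X.IdealSheafData := Scheme.IdealSheafData.vanishingIdeal Zc
  have hrange : Set.range I.subschemeι = closure ({y} : Set X) := by
    rw [Scheme.IdealSheafData.range_subschemeι, Scheme.IdealSheafData.coe_support_vanishingIdeal]
    rfl
  have hle : Set.range I.subschemeι ⊆ Set.range U.ι := by
    rw [hrange, Scheme.Opens.range_ι]
    exact h
  let j : I.subscheme ⟶ U := IsOpenImmersion.lift U.ι I.subschemeι hle
  have hj : j ≫ U.ι = I.subschemeι := IsOpenImmersion.lift_fac _ _ _
  haveI : IsClosedImmersion (j ≫ U.ι) := hj ▸ inferInstance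
  haveI : IsClosedImmersion j := IsClosedImmersion.of_comp j U.ι
  haveI : IsAffine U := hU
  haveI : IsAffine I.subscheme := isAffine_of_isAffineHom j
  haveI : IsProper (I.subschemeι ≫ (X ↘ Spec (CommRingCat.of k))) := inferInstance
  haveI : DiscreteTopology I.subscheme :=
    discreteTopology_of_isAffine_of_isProper k I.subscheme
      (I.subschemeι ≫ (X ↘ Spec (CommRingCat.of k)))
  have hy : y ∈ Set.range I.subschemeι := by
    rw [hrange]
    exact subset_closure rfl
  obtain ⟨w, hw⟩ := hy
  have h1 : IsClosed ({w} : Set I.subscheme) := isClosed_discrete _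
  have h2 := I.subschemeι.isClosedEmbedding.isClosedMap _ h1
  rw [Set.image_singleton, hw] at h2
  exact h2

end Pt

section Van

variable (k : Type u) [Field k] (X : Scheme.{u}) [X.Over (Spec (CommRingCat.of k))]
  [IsProper (X ↘ Spec (CommRingCat.of k))]

include k in
/-- a global section of a quasi-coherent module without closed associated points which vanishes
near every point outside an affine open is zero -/
theorem eq_zero_of_vanish_off_affine [IsLocallyNoetherian X] (G : X.Modules) [G.IsQuasicoherent]
    (U : X.Opens) (hU : IsAffineOpen U)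
    (hass : ∀ x : X, IsClosed ({x} : Set X) → ¬ Curv2.IsAssPoint G x)
    (σ : Coh.structureModule X ⟶ G)
    (hvan : ∀ x : X, x ∉ U → ∃ W' : X.Opens, x ∈ W' ∧ SecTwist.val σ W' = 0) : σ = 0 := by
  by_contra hne
  have hne0 : SecTwist.val σ ⊤ ≠ 0 := by
    intro h0
    apply hne
    apply hom_ext_of_val
    rw [h0]
    exact (Groth.Agent.NegPow.val_zero_hom G ⊤).symm
  obtain ⟨s, hs⟩ : ∃ s : Γ(G, ⊤), s = SecTwist.val σ ⊤ := ⟨_, rfl⟩
  rw [← hs] at hne0
  have h1 : ∃ y, ∃ hy : y ∈ (⊤ : X.Opens), G.presheaf.germ ⊤ y hy s ≠ 0 := by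
    by_contra hcon
    push Not at hcon
    apply hne0
    refine TopCat.Presheaf.section_ext ⟨_, G.isSheaf⟩ ⊤ s 0 (fun y hy => ?_)
    exact (hcon y hy).trans (map_zero _).symm
  obtain ⟨y, hy, hc⟩ := h1
  obtain ⟨y', hspec, hass', hne'⟩ := IrrDecH8.exists_assPoint_specializes G y _ hc
  rw [SecOrdH8.stalkSpecializes_germ] at hne'
  apply hass y' ?_ hass'
  apply isClosed_singleton_of_closure_subset_affine k X y' U hU
  intro z hz
  by_contra hzU
  obtain ⟨W', hzW', hW'⟩ := hvan z hzU
  have hsp : y' ⤳ z := specializes_iff_mem_closure.2 hz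
  have hy'W' : y' ∈ W' := hsp.mem_open W'.isOpen hzW'
  apply hne'
  have h5 : G.presheaf.germ ⊤ y' trivial s =
      G.presheaf.germ W' y' hy'W' (rF G (le_top : W' ≤ ⊤) s) :=
    (TopCat.Presheaf.germ_res_apply G.presheaf (homOfLE (le_top : W' ≤ ⊤)) y' hy'W' s).symm
  have h6 : rF G (le_top : W' ≤ ⊤) s = 0 := by
    rw [hs]
    exact (rF_val σ (le_top : W' ≤ ⊤)).trans hW'
  rw [h5, h6, map_zero]

end Van

end NegTw9
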