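import Mathlib
import Groth.Prelude
import Groth.Agent.Lib.CurvePtInv6_helper9
import Groth.Agent.Lib.QuotSec3_helper9
import Groth.Agent.Lib.ProjTwW_helper5
import Groth.Agent.Lib.HypSurf_helper9

/-!
# Twisting an invertible module by a closed point: `h⁰(L) ≤ h⁰(L(x)) ≤ h⁰(L) + [κ(x):k]` (helper9)

`PtTwist.main` is the statement of S7837.
APPEND-ONLY once landed.
-/

set_option autoImplicit false
universe u
open CategoryTheory CategoryTheory.Limits AlgebraicGeometry Opposite TopologicalSpace

namespace PtTwist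

open QcqsLoc QCohExtn FLFH8 QuotSec Groth.Agent.TensInv

section Ideal

variable {C : Scheme.{u}}

/-- the ideal of a closed point in an affine open neighbourhood (no integrality needed) -/
theorem vanishingIdeal_point_ideal' {p : C} (hp : IsClosed ({p} : Set C)) (U : C.affineOpens)
    (hpU : p ∈ U.1) :
    (Scheme.IdealSheafData.vanishingIdeal ⟨{p}, hp⟩).ideal U =
      (U.2.primeIdealOf ⟨p, hpU⟩).asIdeal := by
  rw [Scheme.IdealSheafData.vanishingIdeal_ideal]
  refine Eq.trans (congrArg PrimeSpectrum.vanishingIdeal ?_)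
    (PrimeSpectrum.vanishingIdeal_singleton _)
  ext y
  constructor
  · intro hy
    have hy' : U.2.fromSpec y = p := hy
    apply U.2.fromSpec.isOpenEmbedding.injective
    rw [hy', U.2.fromSpec_primeIdealOf ⟨p, hpU⟩]
  · intro hy
    have hy' : y = U.2.primeIdealOf ⟨p, hpU⟩ := hy
    rw [hy']
    exact U.2.fromSpec_primeIdealOf ⟨p, hpU⟩

/-- the kernel ideal sheaf of `Spec κ(x) → C` is the vanishing ideal of the closed point `x` -/
theorem ker_fromSpecResidueField {x : C} (hx : IsClosed ({x} : Set C)) :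
    (C.fromSpecResidueField x).ker = Scheme.IdealSheafData.vanishingIdeal ⟨{x}, hx⟩ := by
  apply CurvePtInv.ker_eq_vanishingIdeal_of_range
  exact Scheme.range_fromSpecResidueField x

end Ideal

section Field

variable (k : Type u) [Field k] (C : Scheme.{u}) [C.Over (Spec (CommRingCat.of k))]

/-- `dim_k Γ(U)/𝔪_x = [κ(x) : k]` -/
theorem finrank_quot_eq_finrank_residueField {x : C} (hx : IsClosed ({x} : Set C))
    (U : C.affineOpens) (hxU : x ∈ U.1) :
    letI := algU k U
    letI := Curv2.resAlgebra k C x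
    Module.finrank k (Γ(C, U.1) ⧸ (U.2.primeIdealOf ⟨x, hxU⟩).asIdeal) =
      Module.finrank k (C.residueField x) := by
  letI := algU k U
  letI := Curv2.resAlgebra k C x
  set 𝔪 := (U.2.primeIdealOf ⟨x, hxU⟩).asIdeal with h𝔪
  haveI hmax : 𝔪.IsMaximal := U.2.primeIdealOf_isMaximal_of_isClosed ⟨x, hxU⟩ hx
  letI : Algebra Γ(C, U.1) (C.presheaf.stalk x) :=
    TopCat.Presheaf.algebra_section_stalk C.presheaf ⟨x, hxU⟩
  haveI : IsLocalization.AtPrime (C.presheaf.stalk x) 𝔪 := U.2.isLocalization_stalk ⟨x, hxU⟩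
  let φ : (Γ(C, U.1) ⧸ 𝔪) ≃+* C.residueField x :=
    IsLocalization.AtPrime.equivQuotMaximalIdeal 𝔪 (C.presheaf.stalk x)
  have hφ : ∀ c : k, φ (algebraMap k (Γ(C, U.1) ⧸ 𝔪) c) = Curv2.resMap k C x c := by
    intro c
    have h1 : algebraMap k (Γ(C, U.1) ⧸ 𝔪) c = Ideal.Quotient.mk 𝔪 (strU k C U.1 c) := rfl
    rw [h1]
    show (IsLocalization.AtPrime.equivQuotMaximalIdeal 𝔪 (C.presheaf.stalk x))
      (Ideal.Quotient.mk 𝔪 (strU k C U.1 c)) = _
    rw [IsLocalization.AtPrime.equivQuotMaximalIdeal_apply_mk]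
    show (C.residue x).hom ((C.presheaf.germ U.1 x hxU).hom (strU k C U.1 c)) = Curv2.resMap k C x c
    have hg : (C.presheaf.germ U.1 x hxU).hom (strU k C U.1 c) =
        (C.presheaf.germ ⊤ x trivial).hom (strTop k C c) := by
      show (C.presheaf.germ U.1 x hxU).hom
        ((C.presheaf.map (homOfLE le_top).op).hom (strTop k C c)) = _
      exact TopCat.Presheaf.germ_res_apply C.presheaf (homOfLE le_top) x hxU (strTop k C c)
    rw [hg]
    rfl
  let e : (Γ(C, U.1) ⧸ 𝔪) ≃ₗ[k] C.residueField x :=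
    { toFun := fun z => φ z
      invFun := fun w => φ.symm w
      left_inv := fun z => φ.symm_apply_apply z
      right_inv := fun w => φ.apply_symm_apply w
      map_add' := fun a b => map_add φ a b
      map_smul' := fun c z => by
        show φ (c • z) = Curv2.resMap k C x c * φ z
        rw [Algebra.smul_def, map_mul, hφ] }
  exact e.finrank_eq

end Field

section Main

variable (k : Type u) [Field k] (C : Scheme.{u}) [C.Over (Spec (CommRingCat.of k))]
  [IsProper (C ↘ Spec (CommRingCat.of k))]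

/-- `dim_k H⁰(O/I_x) = [κ(x):k]` -/
theorem finrank_HH0_quotMod_point {x : C} (hx : IsClosed ({x} : Set C)) :
    letI := Curv2.resAlgebra k C x
    Module.finrank k (Coh.HH C (ClSub.quotMod (C.fromSpecResidueField x).ker) 0) =
      Module.finrank k (C.residueField x) := by
  letI := Curv2.resAlgebra k C x
  rw [ker_fromSpecResidueField hx]
  obtain ⟨_, ⟨U₀, hU₀, rfl⟩, hxU, -⟩ :=
    C.isBasis_affineOpens.exists_subset_of_mem_open (Set.mem_univ x) isOpen_univ
  let U : C.affineOpens := ⟨U₀, hU₀⟩
  letI := algU k U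
  have hsupp : ((Scheme.IdealSheafData.vanishingIdeal ⟨{x}, hx⟩).support : Set C) ⊆
      (U : Set C) := by
    rw [Scheme.IdealSheafData.coe_support_vanishingIdeal]
    intro y hy
    have : y = x := hy
    rw [this]
    exact hxU
  rw [finrank_HH0_quotMod k _ U hsupp _ (vanishingIdeal_point_ideal' hx U hxU)]
  exact finrank_quot_eq_finrank_residueField k C hx U hxU

/-- `H⁰` of a monomorphism into a coherent module -/
theorem finrank_HH0_le_of_mono {A B : C.Modules} (f : A ⟶ B) [Mono f] (hB : Coh.IsCoh B) :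
    Module.finrank k (Coh.HH C A 0) ≤ Module.finrank k (Coh.HH C B 0) := by
  haveI := ProperFinH9.finite_HH_of_proper k C _ hB 0
  rw [← (CurveIdeal.thetaEquiv k A).finrank_eq, ← (CurveIdeal.thetaEquiv k B).finrank_eq]
  haveI : Module.Finite k (Coh.structureModule C ⟶ B) :=
    Module.Finite.equiv (CurveIdeal.thetaEquiv k _).symm
  exact LinearMap.finrank_le_finrank_of_injective
    (f := Linear.rightComp k (Coh.structureModule C) f) (fun u v h => (cancel_mono f).mp h)

/-- **statement of S7837** (only `x` closed and `L'` invertible are used) -/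
theorem main {x : C} (hx : IsClosed ({x} : Set C)) {L L' : C.Modules}
    (hL' : PicF.IsInvertible L')
    (hLL' : Nonempty (L ≅ CohB1.tensorMod L' (ClSub.idealMod (C.fromSpecResidueField x).ker))) :
    letI := Curv2.resAlgebra k C x
    Module.finrank k (Coh.HH C L 0) ≤ Module.finrank k (Coh.HH C L' 0) ∧
      Module.finrank k (Coh.HH C L' 0) ≤
        Module.finrank k (Coh.HH C L 0) + Module.finrank k (C.residueField x) := by
  letI := Curv2.resAlgebra k C x
  haveI : IsLocallyNoetherian C :=
    LocallyOfFiniteType.isLocallyNoetherian (C ↘ Spec (CommRingCat.of k))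
  obtain ⟨e⟩ := hLL'
  have hpt := finrank_HH0_quotMod_point k C hx
  set Z := (C.fromSpecResidueField x).ker with hZ
  have hS := Groth.Agent.HypSurf.ses_shortExact Z
  have hS' := CurveTens.shortExact_tR hL' _ hS
  have cI := CurveIdeal.isCoh_idealMod Z
  have cO := CohDevH8.isCoh_structureModule C
  have cQ := CurveIdeal.isCoh_quotMod Z
  have c1 : Coh.IsCoh (CohB1.tensorMod (ClSub.idealMod Z) L') := CurveAmple.isCoh_tensorMod C cI hL'
  have c2 : Coh.IsCoh (CohB1.tensorMod (Coh.structureModule C) L') :=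
    CurveAmple.isCoh_tensorMod C cO hL'
  have c3 : Coh.IsCoh (CohB1.tensorMod (ClSub.quotMod Z) L') := CurveAmple.isCoh_tensorMod C cQ hL'
  let e1 : L ≅ CohB1.tensorMod (ClSub.idealMod Z) L' :=
    e ≪≫ Groth.Agent.ProjTw.tensorModComm _ _
  let e2 : CohB1.tensorMod (Coh.structureModule C) L' ≅ L' := Groth.Agent.CMMul.unitorL L'
  have h1 : Module.finrank k (Coh.HH C L 0) =
      Module.finrank k (Coh.HH C (CohB1.tensorMod (ClSub.idealMod Z) L') 0) :=
    (Groth.Agent.HypConn.hhEquivOfIso (A := k) e1 0).finrank_eq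
  have h2 : Module.finrank k (Coh.HH C (CohB1.tensorMod (Coh.structureModule C) L') 0) =
      Module.finrank k (Coh.HH C L' 0) :=
    (Groth.Agent.HypConn.hhEquivOfIso (A := k) e2 0).finrank_eq
  have hcl : ∀ y ∈ CohB1.support (ClSub.quotMod Z), IsClosed ({y} : Set C) := by
    intro y hy
    have h := CurveIdeal.support_quotMod_subset Z (Iso.refl _) hy
    rw [hZ, ker_fromSpecResidueField hx, Scheme.IdealSheafData.coe_support_vanishingIdeal] at h
    have : y = x := h
    rw [this]
    exact hx
  have h3 := CurvePtInv.finrank_HH0_tensor_rank k C (ClSub.quotMod Z) L' cQ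
    (finLocFreeOfRank_one_of_isInvertible hL') hcl
  have h4 := CurvePtInv.finrank_HH0_le_add k C _ hS' c1 c2 c3
  haveI : Mono ((tR L').map (ClSub.idealModι Z)) := hS'.mono_f
  have h5 := finrank_HH0_le_of_mono k C ((tR L').map (ClSub.idealModι Z)) c2
  have h4' : Module.finrank k (Coh.HH C (CohB1.tensorMod (Coh.structureModule C) L') 0) ≤
      Module.finrank k (Coh.HH C (CohB1.tensorMod (ClSub.idealMod Z) L') 0) +
        Module.finrank k (Coh.HH C (CohB1.tensorMod (ClSub.quotMod Z) L') 0) := h4
  have h5' : Module.finrank k (Coh.HH C (CohB1.tensorMod (ClSub.idealMod Z) L') 0) ≤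
      Module.finrank k (Coh.HH C (CohB1.tensorMod (Coh.structureModule C) L') 0) := h5
  constructor
  · omega
  · rw [one_mul] at h3
    omega

end Main

end PtTwist
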