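import Mathlib
import Groth.Prelude
import Groth.Agent.Lib.NegTw4_helper9
import Groth.Agent.Lib.Tens32_helper8
import Groth.Agent.Lib.PtTwist1_helper9
import Groth.Agent.Lib.CurveAmple3_helper9
import Groth.Agent.Lib.InvTens2_helper8

/-!
# `H⁰(F ⊗ M^n) = 0` for `n ≫ 0` when `F` has no closed associated point (helper9)

`NegTw9.main` is the statement of S7679.
APPEND-ONLY once landed.
-/

set_option autoImplicit false

namespace NegTw9

open AlgebraicGeometry CategoryTheory CategoryTheory.Limits TopologicalSpace Opposite TensorProduct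
open QcqsLoc MonoidalCategory GenLocH8 FLFH8 QCohExtn TensH8

universe u

section Arith

/-- an antitone sequence of naturals is eventually constant -/
theorem eventually_const (a : ℕ → ℕ) (h : ∀ j, a (j + 1) ≤ a j) : ∃ J, ∀ j, J ≤ j → a j = a J := by
  classical
  have hanti : Antitone a := antitone_nat_of_succ_le h
  have hne : ∃ v, ∃ J, a J = v := ⟨a 0, 0, rfl⟩
  obtain ⟨J, hJ⟩ := Nat.find_spec hne
  refine ⟨J, fun j hj => le_antisymm (hanti hj) ?_⟩
  rw [hJ]
  exact Nat.find_min' hne ⟨j, rfl⟩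

/-- a sequence non-increasing along steps of `q` is eventually `q`-periodic -/
theorem eventually_periodic (d : ℕ → ℕ) (q : ℕ) (h : ∀ n, d (n + q) ≤ d n) :
    ∃ n₀, ∀ n, n₀ ≤ n → d (n + q) = d n := by
  have hid : ∀ n, (∑ r ∈ Finset.range q, d (n + 1 + r)) + d n =
      (∑ r ∈ Finset.range q, d (n + r)) + d (n + q) := by
    intro n
    have h1 := Finset.sum_range_succ' (fun r => d (n + r)) q
    have h2 := Finset.sum_range_succ (fun r => d (n + r)) q
    simp only [add_zero] at h1
    have h3 : ∀ r, d (n + (r + 1)) = d (n + 1 + r) := fun r => by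
      congr 1
      omega
    simp only [h3] at h1
    omega
  obtain ⟨J, hJ⟩ := eventually_const (fun n => ∑ r ∈ Finset.range q, d (n + r)) (fun n => by
    have := hid n
    have := h n
    show (∑ r ∈ Finset.range q, d (n + 1 + r)) ≤ ∑ r ∈ Finset.range q, d (n + r)
    omega)
  refine ⟨J, fun n hn => ?_⟩
  have h1 := hJ n hn
  have h2 := hJ (n + 1) (by omega)
  have h3 := hid n
  omega

end Arith

section Main

variable (k : Type u) [Field k] (X : Scheme.{u}) [X.Over (Spec (CommRingCat.of k))]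
  [IsProper (X ↘ Spec (CommRingCat.of k))]

include k in
open Groth.Agent.TensInv in
/-- **statement of S7679** -/
theorem main (L : X.Modules) (hL : CohB1.IsAmple L) (M : X.Modules) (hM : ClSub.IsInverseOf L M)
    (F : X.Modules) (hF : Coh.IsCoh F)
    (hass : ∀ x : X, IsClosed ({x} : Set X) → ¬ Curv2.IsAssPoint F x) :
    ∃ n₀ : ℕ, ∀ n : ℕ, n₀ ≤ n →
      Subsingleton (Coh.HH X (CohB1.tensorMod F (CohB1.tensorPow M n)) 0) := by
  haveI : IsNoetherian X :=
    { __ := LocallyOfFiniteType.isLocallyNoetherian (X ↘ Spec (CommRingCat.of k))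
      __ := QuasiCompact.compactSpace_of_compactSpace (X ↘ Spec (CommRingCat.of k)) }
  haveI : F.IsQuasicoherent := hF.1
  obtain ⟨ε₁⟩ := hM
  have hLinv : PicF.IsInvertible L := hL.1
  have hMinv : PicF.IsInvertible M := InvTensH8.isInvertible_of_tensor_iso (comm M L ≪≫ ε₁)
  -- the section `t`
  obtain ⟨m, t, hZt, -, haff⟩ := exists_affine_genLocus_of_finite hL
    {x : X | Curv2.IsAssPoint F x} (finite_assPoints F hF) ⊤ (fun _ _ => trivial)
  generalize m + 1 = q at t hZt haff
  have hPinv : PicF.IsInvertible (CohB1.tensorPow L q) := isInvertible_tensorPow hLinv q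
  have hTinv : PicF.IsInvertible (CohB1.tensorPow M q) := isInvertible_tensorPow hMinv q
  obtain ⟨ε⟩ := Groth.Agent.NegPow.tensorPow_inverse ε₁ q
  obtain ⟨τ, hτdef⟩ : ∃ τ : CohB1.tensorPow M q ⟶ Coh.structureModule X, τ = tauOf t ε :=
    ⟨_, rfl⟩
  have hτ : ∀ (W : X.Opens) (e : Γ(CohB1.tensorPow M q, W)), IsGen (CohB1.tensorPow M q) W e →
      X.basicOpen (ofM (ap τ W e)) = CohB1.genLocus (CohB1.tensorPow L q) t ⊓ W :=
    fun W e he => hτdef ▸ basicOpen_tauOf hPinv t ε he
  -- the modules `G n`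
  obtain ⟨G, hGdef⟩ : ∃ G : ℕ → X.Modules,
      G = fun n => CohB1.tensorMod F (CohB1.tensorPow M n) := ⟨_, rfl⟩
  have hGcoh : ∀ n, Coh.IsCoh (G n) := fun n => by
    rw [hGdef]
    exact CurveAmple.isCoh_tensorMod X hF (isInvertible_tensorPow hMinv n)
  have hGass : ∀ n x, Curv2.IsAssPoint (G n) x ↔ Curv2.IsAssPoint F x := fun n x => by
    rw [hGdef]
    exact isAssPoint_tensorMod_iff F (isInvertible_tensorPow hMinv n) x
  have hα : ∀ n, Nonempty (G (n + q) ≅ CohB1.tensorMod (G n) (CohB1.tensorPow M q)) := fun n => by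
    rw [hGdef]
    obtain ⟨e⟩ := Groth.Agent.NegPow.tensorPow_add M n q
    exact ⟨mapL F e ≪≫ (assoc F _ _).symm⟩
  choose α _ using fun n => (⟨(hα n).some, trivial⟩ :
    ∃ _ : G (n + q) ≅ CohB1.tensorMod (G n) (CohB1.tensorPow M q), True)
  obtain ⟨ν, hνdef⟩ : ∃ ν : ∀ n, G (n + q) ⟶ G n, ν = fun n => (α n).hom ≫ mu τ (G n) :=
    ⟨_, rfl⟩
  have hmono : ∀ n, Mono (ν n) := fun n => by
    haveI : (G n).IsQuasicoherent := (hGcoh n).1
    haveI : Mono (mu τ (G n)) := mono_mu hTinv τ (G n) (fun x hx W e he hxW => by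
      rw [hτ W e he]
      exact ⟨hZt ((hGass n x).1 hx), hxW⟩)
    rw [hνdef]
    exact mono_comp _ _
  -- dimensions
  have hd : ∀ n, Module.finrank k (Coh.HH X (G (n + q)) 0) ≤ Module.finrank k (Coh.HH X (G n) 0) :=
    fun n => by
      haveI := hmono n
      exact PtTwist.finrank_HH0_le_of_mono k X (ν n) (hGcoh n)
  obtain ⟨n₀, hn₀⟩ := eventually_periodic (fun n => Module.finrank k (Coh.HH X (G n) 0)) q hd
  refine ⟨n₀, fun n hn => ?_⟩
  have hsurj : ∀ n', n₀ ≤ n' →
      Function.Surjective (fun σ : Coh.structureModule X ⟶ G (n' + q) => σ ≫ ν n') := by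
    intro n' hn'
    haveI := hmono n'
    haveI := ProperFinH9.finite_HH_of_proper k X _ (hGcoh n') 0
    haveI := ProperFinH9.finite_HH_of_proper k X _ (hGcoh (n' + q)) 0
    haveI : Module.Finite k (Coh.structureModule X ⟶ G n') :=
      Module.Finite.equiv (CurveIdeal.thetaEquiv k _).symm
    haveI : Module.Finite k (Coh.structureModule X ⟶ G (n' + q)) :=
      Module.Finite.equiv (CurveIdeal.thetaEquiv k _).symm
    have heq : Module.finrank k (Coh.structureModule X ⟶ G (n' + q)) =
        Module.finrank k (Coh.structureModule X ⟶ G n') := by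
      rw [(CurveIdeal.thetaEquiv k (G (n' + q))).finrank_eq,
        (CurveIdeal.thetaEquiv k (G n')).finrank_eq]
      exact hn₀ n' hn'
    exact (LinearMap.injective_iff_surjective_of_finrank_eq_finrank heq
      (f := Linear.rightComp k (Coh.structureModule X) (ν n'))).1
      (fun u v h => (cancel_mono (ν n')).mp h)
  have hdiv : ∀ i : ℕ, ∀ n', n₀ ≤ n' → ∀ σ : Coh.structureModule X ⟶ G n',
      Div τ (G n') σ i := by
    intro i
    induction i with
    | zero => intro n' _ σ; exact div_zero τ _ σ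
    | succ i ih =>
      intro n' hn' σ
      obtain ⟨σ', rfl⟩ := hsurj n' hn' σ
      have h1 := ih (n' + q) (by omega) σ'
      have h2 := (h1.comp (α n').hom).mu
      have h3 : σ' ≫ ν n' = (σ' ≫ (α n').hom) ≫ mu τ (G n') := by
        rw [hνdef, Category.assoc]
      show Div τ (G n') (σ' ≫ ν n') (i + 1)
      rw [h3]
      exact h2
  have hzero : ∀ σ : Coh.structureModule X ⟶ G n, σ = 0 := by
    intro σ
    haveI : (G n).IsQuasicoherent := (hGcoh n).1
    apply eq_zero_of_vanish_off_affine k X (G n) (CohB1.genLocus (CohB1.tensorPow L q) t) haff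
      (fun x hx hax => hass x hx ((hGass n x).1 hax)) σ
    intro x hx
    obtain ⟨W, hW, hxW, -, e, he⟩ := exists_isGen_le hTinv x ⊤ trivial
    exact exists_val_eq_zero_of_div τ (G n) (hGcoh n) σ (fun i => hdiv i n hn σ) hW he hxW
      (by
        rw [hτ W e he]
        exact fun h => hx h.1)
  have hfin : Subsingleton (Coh.HH X (G n) 0) := by
    refine ⟨fun a b => ?_⟩
    apply (CurveIdeal.thetaEquiv k (G n)).symm.injective
    rw [hzero ((CurveIdeal.thetaEquiv k (G n)).symm a), hzero ((CurveIdeal.thetaEquiv k (G n)).symm b)]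
  rw [hGdef] at hfin
  exact hfin

end Main

end NegTw9
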