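import Mathlib
import Groth.Prelude
import Groth.Agent.Lib.ProperFin9_helper9
import Groth.Agent.Lib.CohKer_helper8

/-!
# Dimension inequalities from exact sequences of coherent modules on a proper scheme over a field
(helper9)
APPEND-ONLY once landed.
-/

set_option autoImplicit false
universe u
open CategoryTheory CategoryTheory.Limits AlgebraicGeometry TopologicalSpace Opposite

namespace CohIneqH9

open Groth.Agent.ProjFin ProperFinH9

section SES

variable (k : Type u) [Field k] {X : Scheme.{u}} [X.Over (Spec (CommRingCat.of k))]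

/-- `h^m`, the dimension of the `m`-th cohomology -/
noncomputable def hh (F : X.Modules) (m : ℕ) : ℕ := Module.finrank k (Coh.HH X F m)

variable (S : ShortComplex X.Modules) (hS : S.ShortExact)

include hS in
theorem hh_mid_le (m : ℕ) [Module.Finite k (Coh.HH X S.X₁ m)] [Module.Finite k (Coh.HH X S.X₂ m)]
    [Module.Finite k (Coh.HH X S.X₃ m)] :
    hh k S.X₂ m ≤ hh k S.X₁ m + hh k S.X₃ m := by
  unfold hh
  have h1 := LinearMap.finrank_range_add_finrank_ker (Canon.HHlin k S.g m)
  rw [← range_HHlin_f k S hS m] at h1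
  have h2 := LinearMap.finrank_range_le (Canon.HHlin k S.f m)
  have h3 := Submodule.finrank_le (LinearMap.range (Canon.HHlin k S.g m))
  omega

include hS in
theorem hh_left_succ_le (m : ℕ) [Module.Finite k (Coh.HH X S.X₁ (m + 1))]
    [Module.Finite k (Coh.HH X S.X₃ m)] [Module.Finite k (Coh.HH X S.X₂ (m + 1))] :
    hh k S.X₁ (m + 1) ≤ hh k S.X₃ m + hh k S.X₂ (m + 1) := by
  unfold hh
  have h1 := LinearMap.finrank_range_add_finrank_ker (Canon.HHlin k S.f (m + 1))
  rw [← range_δlin k S hS m] at h1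
  have h2 := LinearMap.finrank_range_le (δlin k S hS m)
  have h3 := Submodule.finrank_le (LinearMap.range (Canon.HHlin k S.f (m + 1)))
  omega

include hS in
theorem hh_left_zero_le [Module.Finite k (Coh.HH X S.X₂ 0)] :
    hh k S.X₁ 0 ≤ hh k S.X₂ 0 :=
  LinearMap.finrank_le_finrank_of_injective (HHlin_f_zero_injective k S hS)

end SES


section Chain

open Finset

variable {X : Scheme.{u}} (C : ℕ → X.Modules) (d : ∀ j, C j ⟶ C (j + 1))
  (hd : ∀ j, d j ≫ d (j + 1) = 0)

theorem lift_zero (j : ℕ) :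
    kernel.ι (d j) ≫ kernel.lift (d (j + 1)) (d j) (hd j) = 0 := by
  rw [← cancel_mono (kernel.ι (d (j + 1))), Category.assoc, kernel.lift_ι, kernel.condition,
    zero_comp]

/-- the short complex `0 → ker d_j → C_j → ker d_{j+1} → 0` -/
noncomputable abbrev sc (j : ℕ) : ShortComplex X.Modules :=
  ShortComplex.mk (kernel.ι (d j)) (kernel.lift (d (j + 1)) (d j) (hd j)) (lift_zero C d hd j)

theorem sc_shortExact (hex : ∀ j, (ShortComplex.mk (d j) (d (j + 1)) (hd j)).Exact) (j : ℕ) :
    (sc C d hd j).ShortExact :=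
  { exact := ShortComplex.exact_of_f_is_kernel _
      (isKernelOfComp (kernel.ι (d (j + 1))) (d j) (kernelIsKernel (d j)) (lift_zero C d hd j)
        (kernel.lift_ι _ _ _))
    mono_f := inferInstanceAs (Mono (kernel.ι (d j)))
    epi_g := (ShortComplex.exact_iff_epi_kernel_lift _).mp (hex j) }

/-- the short complex `0 → C_0 → C_1 → ker d_2 → 0` -/
noncomputable abbrev sc₀ : ShortComplex X.Modules :=
  ShortComplex.mk (d 0) (kernel.lift (d 2) (d 1) (hd 1)) (by
    rw [← cancel_mono (kernel.ι (d 2)), Category.assoc, kernel.lift_ι, hd 0, zero_comp])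

theorem sc₀_shortExact [Mono (d 0)]
    (hex : ∀ j, (ShortComplex.mk (d j) (d (j + 1)) (hd j)).Exact) : (sc₀ C d hd).ShortExact :=
  { exact := ShortComplex.exact_of_f_is_kernel _
      (isKernelOfComp (kernel.ι (d 2)) (d 1)
        (haveI : Mono (ShortComplex.mk (d 0) (d 1) (hd 0)).f := ‹Mono (d 0)›
         (hex 0).fIsKernel) (sc₀ C d hd).zero (kernel.lift_ι _ _ _))
    mono_f := ‹Mono (d 0)›
    epi_g := (ShortComplex.exact_iff_epi_kernel_lift _).mp (hex 1) }

theorem sum_Icc_one_eq (n : ℕ) (f : ℕ → ℤ) :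
    ∑ j ∈ Icc 1 n, f j = ∑ t ∈ range n, f (t + 1) := by
  induction n with
  | zero => simp
  | succ n ih => rw [sum_Icc_succ_top (by omega), ih, sum_range_succ]

variable (k : Type u) [Field k] [X.Over (Spec (CommRingCat.of k))]
  [IsProper (X ↘ Spec (CommRingCat.of k))]

include k in
theorem isLocallyNoetherian_of_proper : IsLocallyNoetherian X :=
  LocallyOfFiniteType.isLocallyNoetherian (X ↘ Spec (CommRingCat.of k))

variable (hC : ∀ j, Coh.IsCoh (C j))
  (hex : ∀ j, (ShortComplex.mk (d j) (d (j + 1)) (hd j)).Exact)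

include k hC in
theorem isCoh_ker (j : ℕ) : Coh.IsCoh (kernel (d j)) := by
  haveI := isLocallyNoetherian_of_proper (X := X) k
  exact CohKerH8.isCoh_kernel (hC j) (hC (j + 1)) (d j)

include hC hex in
theorem hh_ker_le (m : ℕ) : ∀ j : ℕ,
    hh k (kernel (d j)) m ≤ ∑ t ∈ range (m + 1), hh k (C (j + t)) (m - t) := by
  induction m with
  | zero =>
    intro j
    haveI := finite_HH_of_proper k X (C j) (hC j) 0
    simpa using hh_left_zero_le k (sc C d hd j) (sc_shortExact C d hd hex j)
  | succ m ih =>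
    intro j
    haveI := finite_HH_of_proper k X (C j) (hC j) (m + 1)
    haveI := finite_HH_of_proper k X _ (isCoh_ker C d k hC j) (m + 1)
    haveI := finite_HH_of_proper k X _ (isCoh_ker C d k hC (j + 1)) m
    have h1 := hh_left_succ_le k (sc C d hd j) (sc_shortExact C d hd hex j) m
    have h2 := ih (j + 1)
    rw [sum_range_succ']
    have h3 : ∑ t ∈ range (m + 1), hh k (C (j + (t + 1))) (m + 1 - (t + 1)) =
        ∑ t ∈ range (m + 1), hh k (C (j + 1 + t)) (m - t) := by
      refine sum_congr rfl (fun t _ => ?_)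
      rw [show j + (t + 1) = j + 1 + t by omega, show m + 1 - (t + 1) = m - t by omega]
    rw [h3]
    have h4 : hh k (sc C d hd j).X₁ (m + 1) = hh k (kernel (d j)) (m + 1) := rfl
    have h5 : hh k (sc C d hd j).X₃ m = hh k (kernel (d (j + 1))) m := rfl
    have h6 : hh k (sc C d hd j).X₂ (m + 1) = hh k (C j) (m + 1) := rfl
    simp only [Nat.add_zero, Nat.sub_zero]
    omega

include hC hex in
/-- the inequality of S17630 -/
theorem main [Mono (d 0)] (i : ℕ) :
    |(hh k (C 0) i : ℤ) - (hh k (C 1) i : ℤ)| ≤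
      (Icc 1 (i + 1)).sum (fun j => ((hh k (C (j + 1)) (i + 1 - j) : ℕ) : ℤ)) +
        (Icc 1 i).sum (fun j => ((hh k (C (j + 1)) (i - j) : ℕ) : ℤ)) := by
  rw [sum_Icc_one_eq, sum_Icc_one_eq]
  have hS := sc₀_shortExact C d hd hex
  haveI := finite_HH_of_proper k X (C 0) (hC 0) i
  haveI := finite_HH_of_proper k X (C 1) (hC 1) i
  haveI := finite_HH_of_proper k X _ (isCoh_ker C d k hC 2) i
  have h1 : hh k (C 1) i ≤ hh k (C 0) i + hh k (kernel (d 2)) i :=
    hh_mid_le k (sc₀ C d hd) hS i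
  have h2 := hh_ker_le C d hd k hC hex i 2
  have e1 : ∑ t ∈ range (i + 1), ((hh k (C (t + 1 + 1)) (i + 1 - (t + 1)) : ℕ) : ℤ) =
      ((∑ t ∈ range (i + 1), hh k (C (2 + t)) (i - t) : ℕ) : ℤ) := by
    push_cast
    refine sum_congr rfl (fun t _ => ?_)
    rw [show t + 1 + 1 = 2 + t by omega]
  rw [e1]
  cases i with
  | zero =>
    have h3 : hh k (C 0) 0 ≤ hh k (C 1) 0 := hh_left_zero_le k (sc₀ C d hd) hS
    simp only [range_zero, sum_empty, add_zero]
    rw [abs_le]
    constructor <;> omega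
  | succ m =>
    haveI := finite_HH_of_proper k X _ (isCoh_ker C d k hC 2) m
    have h3 : hh k (C 0) (m + 1) ≤ hh k (kernel (d 2)) m + hh k (C 1) (m + 1) :=
      hh_left_succ_le k (sc₀ C d hd) hS m
    have h4 := hh_ker_le C d hd k hC hex m 2
    have e2 : ∑ t ∈ range (m + 1), ((hh k (C (t + 1 + 1)) (m + 1 - (t + 1)) : ℕ) : ℤ) =
        ((∑ t ∈ range (m + 1), hh k (C (2 + t)) (m - t) : ℕ) : ℤ) := by
      push_cast
      refine sum_congr rfl (fun t _ => ?_)
      rw [show t + 1 + 1 = 2 + t by omega]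
    rw [e2, abs_le]
    constructor <;> omega

end Chain

end CohIneqH9
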