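import Mathlib
import Groth.Prelude
import Groth.Agent.Lib.Snap2_helper9
import Groth.Agent.Lib.SuppFT_helper9

/-!
# Intersection numbers `FGA.intNum` as alternating sums (helper9).
APPEND-ONLY once landed.
-/

set_option autoImplicit false
universe u
open CategoryTheory CategoryTheory.Limits AlgebraicGeometry Opposite TopologicalSpace

namespace Snap9

open Groth.Agent.Lib.GVanH2 Groth.Agent.TensInv

section ListSum

variable (k : Type u) [Field k] (X : Scheme.{u}) [X.Over (Spec (CommRingCat.of k))]
  [IsProper (X ↘ Spec (CommRingCat.of k))]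

/-- the alternating sum as a sum over sublists -/
theorem altSum_eq_sum_sublists' (l : List X.Modules) (F : X.Modules) :
    altSum k X l F = ((l.sublists').map (fun s => (-1 : ℤ) ^ s.length *
      Curv2.euler k X (CohB1.tensorMod (FGA.tensorList s) F))).sum := by
  induction l generalizing F with
  | nil =>
    simp only [altSum_nil, List.sublists'_nil, List.map_cons, List.length_nil, pow_zero, one_mul,
      List.map_nil, List.sum_cons, List.sum_nil, add_zero]
    exact (CurveTens.euler_of_iso k X (Groth.Agent.CMMul.unitorL F)).symm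
  | cons M l ih =>
    rw [altSum_cons, List.sublists'_cons, List.map_append, List.sum_append, List.map_map,
      ih F, ih (CohB1.tensorMod F M), sub_eq_add_neg, List.sum_neg, List.map_map]
    congr 1
    congr 1
    apply List.map_congr_left
    intro s _
    symm
    have e : CohB1.tensorMod (FGA.tensorList (M :: s)) F ≅
        CohB1.tensorMod (FGA.tensorList s) (CohB1.tensorMod F M) :=
      assoc M (FGA.tensorList s) F ≪≫ comm M (CohB1.tensorMod (FGA.tensorList s) F) ≪≫
        assoc (FGA.tensorList s) F M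
    simp only [Function.comp_apply, List.length_cons, pow_succ]
    rw [CurveTens.euler_of_iso k X e]
    ring

end ListSum

section Comb

theorem sum_finset_sort_eq (r : ℕ) (g : List (Fin r) → ℤ) :
    ∑ I : Finset (Fin r), g (I.sort (· ≤ ·)) = (((List.finRange r).sublists').map g).sum := by
  classical
  have hnd : ((List.finRange r).sublists').Nodup :=
    List.nodup_sublists'.mpr (List.nodup_finRange r)
  rw [← List.sum_toFinset g hnd]
  have hle : (List.finRange r).Pairwise (· ≤ ·) := (List.sortedLT_finRange r).sortedLE.pairwise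
  refine Finset.sum_bij' (fun I _ => I.sort (· ≤ ·)) (fun s _ => s.toFinset) ?_ ?_ ?_ ?_ ?_
  · intro I _
    rw [List.mem_toFinset, List.mem_sublists']
    exact List.sublist_of_subperm_of_pairwise
      ((Finset.sort_nodup _ _).subperm (fun x _ => List.mem_finRange x))
      (Finset.pairwise_sort _ _) hle
  · intro s _
    exact Finset.mem_univ _
  · intro I _
    exact Finset.sort_toFinset _ _
  · intro s hs
    rw [List.mem_toFinset, List.mem_sublists'] at hs
    exact (List.toFinset_sort (· ≤ ·) ((List.nodup_finRange r).sublist hs)).mpr (hle.sublist hs)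
  · intro I _
    rfl

end Comb

section IntNum

variable (k : Type u) [Field k] (X : Scheme.{u}) [X.Over (Spec (CommRingCat.of k))]
  [IsProper (X ↘ Spec (CommRingCat.of k))]

/-- `FGA.intNum` is the recursive alternating sum -/
theorem intNum_eq_altSum (d : ℕ) (hd : topologicalKrullDim X ≤ d) {r : ℕ}
    (M : Fin r → X.Modules) (F : X.Modules) :
    FGA.intNum k X d M F = altSum k X (List.ofFn M) F := by
  rw [altSum_eq_sum_sublists', List.ofFn_eq_map, List.sublists'_map, List.map_map]
  have h := sum_finset_sort_eq r (fun s => (-1 : ℤ) ^ s.length *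
    Curv2.euler k X (CohB1.tensorMod (FGA.tensorList (s.map M)) F))
  refine Eq.trans ?_ (h.trans ?_)
  · unfold FGA.intNum
    apply Finset.sum_congr rfl
    intro I _
    rw [Finset.length_sort, euler_eq_eulerCharLE k X d hd]
  · congr 1
    apply List.map_congr_left
    intro s _
    simp only [Function.comp_apply, List.length_map]

end IntNum

section Dim

theorem dimC_le_topologicalKrullDim {X : Scheme.{u}} (Z : Closeds X) :
    dimC (X := X.toTopCat) Z ≤ topologicalKrullDim ↥(Z : Set X) := by
  have hg : Topology.IsClosedEmbedding (Subtype.val : ↥(Z : Set X) → X) :=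
    Z.isClosed.isClosedEmbedding_subtypeVal
  have hr : Set.range (Subtype.val : ↥(Z : Set X) → X) = (Z : Set X) := Subtype.range_coe
  refine Order.krullDim_le_of_strictMono
    (fun C : {C : IrreducibleCloseds X // (C : Set X) ⊆ (Z : Set X)} =>
      (⟨Subtype.val ⁻¹' (C.1 : Set X), ?_, C.1.isClosed.preimage continuous_subtype_val⟩ :
          IrreducibleCloseds ↥(Z : Set X))) ?_
  · constructor
    · obtain ⟨c, hc⟩ := C.1.isIrreducible.nonempty
      exact ⟨⟨c, C.2 hc⟩, hc⟩
    · rintro u v hu hv ⟨t₁, ht₁C, ht₁u⟩ ⟨t₂, ht₂C, ht₂v⟩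
      obtain ⟨u', hu', rfl⟩ := hg.isInducing.isOpen_iff.mp hu
      obtain ⟨v', hv', rfl⟩ := hg.isInducing.isOpen_iff.mp hv
      obtain ⟨z, hzC, hzu, hzv⟩ := C.1.isIrreducible.isPreirreducible u' v' hu' hv'
        ⟨t₁.1, ht₁C, ht₁u⟩ ⟨t₂.1, ht₂C, ht₂v⟩
      exact ⟨⟨z, C.2 hzC⟩, hzC, hzu, hzv⟩
  · intro C₁ C₂ h
    obtain ⟨x, hx2, hx1⟩ := SetLike.exists_of_lt (show C₁.1 < C₂.1 from h)
    exact SetLike.lt_iff_le_and_exists.mpr
      ⟨fun s hs => (le_of_lt (show C₁.1 < C₂.1 from h)) hs, ⟨x, C₂.2 hx2⟩, hx2, hx1⟩

end Dim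

section Van

variable (k : Type u) [Field k] (X : Scheme.{u}) [X.Over (Spec (CommRingCat.of k))]
  [IsProper (X ↘ Spec (CommRingCat.of k))]

/-- the alternating sum over a family of `r` invertible modules vanishes on coherent modules with
`dim Supp < r` -/
theorem altSum_ofFn_eq_zero {r : ℕ} (M : Fin r → X.Modules) (hM : ∀ i, PicF.IsInvertible (M i))
    (F : X.Modules) (hF : Coh.IsCoh F) (hr : topologicalKrullDim (CohB1.support F) < r) :
    altSum k X (List.ofFn M) F = 0 := by
  haveI := hF.2
  have hcl : IsClosed (CohB1.support F) := SuppFT.isClosed_support F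
  refine altSum_eq_zero k X (List.ofFn M) ?_ F hF ⟨CohB1.support F, hcl⟩ (fun _ h => h) ?_
  · intro N hN
    obtain ⟨i, rfl⟩ := (List.mem_ofFn' M N).mp hN
    exact hM i
  · rw [List.length_ofFn]
    exact lt_of_le_of_lt (dimC_le_topologicalKrullDim ⟨CohB1.support F, hcl⟩) hr

/-- **S3231** -/
theorem main3231 (d : ℕ) (hd : topologicalKrullDim X ≤ d) {r : ℕ} (M : Fin r → X.Modules)
    (hM : ∀ i, PicF.IsInvertible (M i)) (F : X.Modules) (hF : Coh.IsCoh F)
    (hr : topologicalKrullDim (CohB1.support F) < r) : FGA.intNum k X d M F = 0 := by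
  rw [intNum_eq_altSum k X d hd]
  exact altSum_ofFn_eq_zero k X M hM F hF hr

end Van

section Add

variable (k : Type u) [Field k] (X : Scheme.{u}) [X.Over (Spec (CommRingCat.of k))]
  [IsProper (X ↘ Spec (CommRingCat.of k))]

/-- **S3232**: additivity of the intersection numbers in the first entry -/
theorem main3232 (d : ℕ) (hd : topologicalKrullDim X ≤ d) {r : ℕ} (M : Fin r → X.Modules)
    (hM : ∀ i, PicF.IsInvertible (M i)) (A B : X.Modules) (hA : PicF.IsInvertible A)
    (hB : PicF.IsInvertible B) (F : X.Modules) (hF : Coh.IsCoh F)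
    (hr : topologicalKrullDim (CohB1.support F) ≤ (r + 1 : ℕ)) :
    FGA.intNum k X d (Fin.cons (CohB1.tensorMod A B) M) F =
      FGA.intNum k X d (Fin.cons A M) F + FGA.intNum k X d (Fin.cons B M) F := by
  rw [intNum_eq_altSum k X d hd, intNum_eq_altSum k X d hd, intNum_eq_altSum k X d hd,
    List.ofFn_cons, List.ofFn_cons, List.ofFn_cons]
  haveI := hF.2
  have hcl : IsClosed (CohB1.support F) := SuppFT.isClosed_support F
  have h0 : altSum k X (A :: B :: List.ofFn M) F = 0 := by
    refine altSum_eq_zero k X _ ?_ F hF ⟨CohB1.support F, hcl⟩ (fun _ h => h) ?_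
    · intro N hN
      rcases List.mem_cons.mp hN with rfl | hN
      · exact hA
      rcases List.mem_cons.mp hN with rfl | hN
      · exact hB
      obtain ⟨i, rfl⟩ := (List.mem_ofFn' M N).mp hN
      exact hM i
    · rw [List.length_cons, List.length_cons, List.length_ofFn]
      refine lt_of_le_of_lt ((dimC_le_topologicalKrullDim ⟨CohB1.support F, hcl⟩).trans hr) ?_
      exact_mod_cast Nat.lt_succ_self (r + 1)
  simp only [altSum_cons, Fin.cons_zero, Fin.tail_cons] at h0 ⊢
  have e := altSum_of_iso k X (List.ofFn M) (assoc F A B)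
  rw [e] at h0
  linarith

end Add

end Snap9
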