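import Mathlib

/-!
# Functions on `ℕ^r` with vanishing higher mixed differences are polynomials (helper9).
APPEND-ONLY once landed.  Mathlib only.

`Snap9.exists_poly_of_vanish`: if all mixed forward differences of order `> d` of
`f : (Fin r → ℕ) → ℤ` vanish, then `f` is given by a rational polynomial of total degree `≤ d`.
-/

set_option autoImplicit false
open Finset

namespace Snap9

section Diff

variable {r : ℕ}

/-- the `i`-th unit vector -/
def ee (i : Fin r) : Fin r → ℕ := Pi.single i 1

/-- iterated mixed forward differences -/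
def iterDiff (f : (Fin r → ℕ) → ℤ) : List (Fin r) → (Fin r → ℕ) → ℤ
  | [] => f
  | i :: l => fwdDiff (ee i) (iterDiff f l)

@[simp] theorem iterDiff_nil (f : (Fin r → ℕ) → ℤ) : iterDiff f [] = f := rfl

theorem iterDiff_cons (f : (Fin r → ℕ) → ℤ) (i : Fin r) (l : List (Fin r)) (n : Fin r → ℕ) :
    iterDiff f (i :: l) n = iterDiff f l (n + ee i) - iterDiff f l n := rfl

theorem iterDiff_append (f : (Fin r → ℕ) → ℤ) (l₁ l₂ : List (Fin r)) :
    iterDiff f (l₁ ++ l₂) = iterDiff (iterDiff f l₂) l₁ := by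
  induction l₁ with
  | nil => rfl
  | cons i l ih =>
    show fwdDiff (ee i) (iterDiff f (l ++ l₂)) = fwdDiff (ee i) (iterDiff (iterDiff f l₂) l)
    rw [ih]

theorem iterDiff_replicate (f : (Fin r → ℕ) → ℤ) (i : Fin r) (k : ℕ) :
    iterDiff f (List.replicate k i) = (fwdDiff (ee i))^[k] f := by
  induction k with
  | zero => rfl
  | succ k ih =>
    rw [List.replicate_succ, Function.iterate_succ_apply', ← ih]
    rfl

/-- all mixed differences of order `≥ m` vanish -/
def Vanish (m : ℕ) (f : (Fin r → ℕ) → ℤ) : Prop :=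
  ∀ l : List (Fin r), m ≤ l.length → ∀ n, iterDiff f l n = 0

end Diff

section Step

variable {r : ℕ} (f : (Fin (r + 1) → ℕ) → ℤ)

/-- the `k`-th difference in the first variable, restricted to the hyperplane `x₀ = 0` -/
def gg (k : ℕ) : (Fin r → ℕ) → ℤ :=
  fun n' => iterDiff f (List.replicate k 0) (Fin.cons 0 n')

theorem cons_add_ee (a : ℕ) (n' : Fin r → ℕ) (j : Fin r) :
    (Fin.cons a n' : Fin (r + 1) → ℕ) + ee j.succ = Fin.cons a (n' + ee j) := by
  funext i
  refine Fin.cases ?_ (fun i' => ?_) i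
  · simp [ee]
  · simp only [Pi.add_apply, Fin.cons_succ, ee]
    congr 1
    by_cases h : i' = j
    · subst h
      simp
    · rw [Pi.single_eq_of_ne h, Pi.single_eq_of_ne (fun h' => h (Fin.succ_injective _ h'))]

theorem iterDiff_gg (k : ℕ) (l' : List (Fin r)) (n' : Fin r → ℕ) :
    iterDiff (gg f k) l' n' =
      iterDiff f (l'.map Fin.succ ++ List.replicate k 0) (Fin.cons 0 n') := by
  induction l' generalizing n' with
  | nil => rfl
  | cons j l ih =>
    rw [iterDiff_cons, ih, ih, List.map_cons, List.cons_append, iterDiff_cons, cons_add_ee]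

theorem vanish_gg {d : ℕ} (hf : Vanish (d + 1) f) (k : ℕ) : Vanish ((d - k) + 1) (gg f k) := by
  intro l' hl' n'
  rw [iterDiff_gg]
  apply hf
  rw [List.length_append, List.length_map, List.length_replicate]
  omega

theorem gg_eq_zero {d : ℕ} (hf : Vanish (d + 1) f) (k : ℕ) (hk : d + 1 ≤ k) (n' : Fin r → ℕ) :
    gg f k n' = 0 := by
  apply hf
  rw [List.length_replicate]
  exact hk

theorem cons_eq (a : ℕ) (n' : Fin r → ℕ) :
    (Fin.cons a n' : Fin (r + 1) → ℕ) = Fin.cons 0 n' + a • ee 0 := by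
  funext i
  refine Fin.cases ?_ (fun i' => ?_) i
  · simp [ee]
  · simp [ee]

/-- Newton's expansion in the first variable -/
theorem newton_first (a : ℕ) (n' : Fin r → ℕ) :
    f (Fin.cons a n') = ∑ k ∈ range (a + 1), (a.choose k : ℤ) * gg f k n' := by
  rw [cons_eq, shift_eq_sum_fwdDiff_iter (ee 0) f a (Fin.cons 0 n')]
  apply Finset.sum_congr rfl
  intro k _
  rw [nsmul_eq_mul]
  unfold gg
  rw [iterDiff_replicate]

theorem newton_first' {d : ℕ} (hf : Vanish (d + 1) f) (a : ℕ) (n' : Fin r → ℕ) :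
    f (Fin.cons a n') = ∑ k ∈ range (d + 1), (a.choose k : ℤ) * gg f k n' := by
  rw [newton_first f a n']
  have h1 : ∑ k ∈ range (a + 1), (a.choose k : ℤ) * gg f k n' =
      ∑ k ∈ range (a + d + 2), (a.choose k : ℤ) * gg f k n' := by
    apply Finset.sum_subset (Finset.range_subset_range.mpr (by omega))
    intro k _ hk
    rw [Finset.mem_range, not_lt] at hk
    rw [Nat.choose_eq_zero_of_lt (by omega), Nat.cast_zero, zero_mul]
  have h2 : ∑ k ∈ range (d + 1), (a.choose k : ℤ) * gg f k n' =
      ∑ k ∈ range (a + d + 2), (a.choose k : ℤ) * gg f k n' := by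
    apply Finset.sum_subset (Finset.range_subset_range.mpr (by omega))
    intro k _ hk
    rw [Finset.mem_range, not_lt] at hk
    rw [gg_eq_zero f hf k hk, mul_zero]
  rw [h1, h2]

end Step

section Poly

open MvPolynomial

/-- the binomial polynomial `C(x₀, k)` in the first variable -/
noncomputable def bp (r k : ℕ) : MvPolynomial (Fin (r + 1)) ℚ :=
  C (1 / (k.factorial : ℚ)) * ∏ j ∈ range k, (X 0 - C (j : ℚ))

theorem totalDegree_bp (r k : ℕ) : (bp r k).totalDegree ≤ k := by
  unfold bp
  refine (totalDegree_mul _ _).trans ?_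
  rw [totalDegree_C, zero_add]
  refine (totalDegree_finsetProd _ _).trans ?_
  have h1 : ∀ j ∈ range k, (X 0 - C (j : ℚ) : MvPolynomial (Fin (r + 1)) ℚ).totalDegree ≤ 1 := by
    intro j _
    refine (totalDegree_sub _ _).trans ?_
    rw [totalDegree_X, totalDegree_C]
    simp
  calc ∑ j ∈ range k, (X 0 - C (j : ℚ) : MvPolynomial (Fin (r + 1)) ℚ).totalDegree
      ≤ ∑ _j ∈ range k, 1 := Finset.sum_le_sum h1
    _ = k := by simp

theorem eval_bp (r k : ℕ) (x : Fin (r + 1) → ℚ) (a : ℕ) (hx : x 0 = a) :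
    eval x (bp r k) = (a.choose k : ℚ) := by
  unfold bp
  rw [map_mul, eval_C, map_prod]
  simp only [map_sub, eval_X, eval_C, hx]
  rw [← descPochhammer_eval_eq_prod_range, descPochhammer_eval_eq_descFactorial,
    Nat.descFactorial_eq_factorial_mul_choose]
  push_cast
  have hk : (k.factorial : ℚ) ≠ 0 := by exact_mod_cast Nat.factorial_ne_zero k
  field_simp

/-- **Functions with vanishing higher differences are polynomials.** -/
theorem exists_poly_of_vanish : ∀ (r : ℕ) (d : ℕ) (f : (Fin r → ℕ) → ℤ), Vanish (d + 1) f →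
    ∃ P : MvPolynomial (Fin r) ℚ, P.totalDegree ≤ d ∧
      ∀ n, (f n : ℚ) = eval (fun i => (n i : ℚ)) P := by
  intro r
  induction r with
  | zero =>
    intro d f _
    refine ⟨C (f 0 : ℚ), by rw [totalDegree_C]; exact Nat.zero_le d, fun n => ?_⟩
    rw [eval_C, Subsingleton.elim n 0]
  | succ r ih =>
    intro d f hf
    have hQ : ∀ k, ∃ Q : MvPolynomial (Fin r) ℚ, Q.totalDegree ≤ d - k ∧
        ∀ n', (gg f k n' : ℚ) = eval (fun i => (n' i : ℚ)) Q :=
      fun k => ih (d - k) (gg f k) (vanish_gg f hf k)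
    choose Q hQd hQe using hQ
    refine ⟨∑ k ∈ range (d + 1), bp r k * rename Fin.succ (Q k), ?_, ?_⟩
    · apply totalDegree_finsetSum_le
      intro k hk
      rw [Finset.mem_range] at hk
      refine (totalDegree_mul _ _).trans ?_
      have h1 := totalDegree_bp r k
      have h2 := (totalDegree_rename_le Fin.succ (Q k)).trans (hQd k)
      omega
    · intro n
      obtain ⟨a, n', rfl⟩ : ∃ a n', n = Fin.cons a n' :=
        ⟨n 0, Fin.tail n, (Fin.cons_self_tail n).symm⟩
      rw [newton_first' f hf, map_sum]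
      push_cast
      apply Finset.sum_congr rfl
      intro k _
      rw [map_mul, eval_bp r k _ a (by simp), eval_rename, hQe]
      rfl

end Poly

end Snap9
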