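import Mathlib
import Groth.Prelude
import Groth.Agent.Lib.Snap3_helper9
import Groth.Agent.Lib.Snap4_helper9

/-!
# Snapper's theorem: Euler characteristics of twists are numerical polynomials (helper9).
APPEND-ONLY once landed.
-/

set_option autoImplicit false
universe u
open CategoryTheory CategoryTheory.Limits AlgebraicGeometry Opposite TopologicalSpace

namespace Snap9

open Groth.Agent.Lib.GVanH2 Groth.Agent.TensInv

section Ind

variable {r : ℕ}

theorem sum_ee (i : Fin r) : ∑ j, ee i j = 1 := by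
  unfold ee
  rw [Finset.sum_pi_single']
  simp

/-- induction on `ℕ^r` along unit vectors -/
theorem pi_nat_induction {P : (Fin r → ℕ) → Prop} (h0 : P 0)
    (hs : ∀ n i, P n → P (n + ee i)) : ∀ n, P n := by
  have key : ∀ m : ℕ, ∀ n : Fin r → ℕ, ∑ i, n i = m → P n := by
    intro m
    induction m with
    | zero =>
      intro n hm
      have : n = 0 := by
        funext i
        exact Finset.sum_eq_zero_iff.mp hm i (Finset.mem_univ i)
      rw [this]
      exact h0
    | succ m ih =>
      intro n hm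
      have hex : ∃ i, n i ≠ 0 := by
        by_contra h
        push Not at h
        simp [h] at hm
      obtain ⟨i, hi⟩ := hex
      have hle : ee i ≤ n := by
        intro j
        unfold ee
        by_cases h : j = i
        · subst h
          simp only [Pi.single_eq_same]
          omega
        · rw [Pi.single_eq_of_ne h]
          exact Nat.zero_le _
      have hn : n = (n - ee i) + ee i := (tsub_add_cancel_of_le hle).symm
      rw [hn]
      apply hs
      apply ih
      have h1 : ∑ j, n j = ∑ j, (n - ee i) j + ∑ j, ee i j := by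
        rw [← Finset.sum_add_distrib]
        apply Finset.sum_congr rfl
        intro j _
        exact congrFun hn j
      rw [sum_ee] at h1
      omega
  intro n
  exact key _ n rfl

end Ind

section Sys

variable (k : Type u) [Field k] (X : Scheme.{u}) [X.Over (Spec (CommRingCat.of k))]
  [IsProper (X ↘ Spec (CommRingCat.of k))]

variable {r : ℕ} (L : Fin r → X.Modules) (hL : ∀ i, PicF.IsInvertible (L i))
  (T : (Fin r → ℕ) → X.Modules)
  (hT : ∀ n i, Nonempty (T (n + ee i) ≅ CohB1.tensorMod (T n) (L i)))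

include k hL hT in
/-- all members of a twist system are coherent with support in that of the initial member -/
theorem sys_isCoh (Z : Closeds X) (h0 : Coh.IsCoh (T 0)) (hs0 : CohB1.support (T 0) ⊆ (Z : Set X)) :
    ∀ n, Coh.IsCoh (T n) ∧ CohB1.support (T n) ⊆ (Z : Set X) := by
  haveI : IsLocallyNoetherian X :=
    LocallyOfFiniteType.isLocallyNoetherian (X ↘ Spec (CommRingCat.of k))
  apply pi_nat_induction
  · exact ⟨h0, hs0⟩
  · rintro n i ⟨hc, hs⟩
    obtain ⟨e⟩ := hT n i
    have hc' := isCoh_tensorMod hc (hL i)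
    haveI := hc.1
    haveI : (L i).IsQuasicoherent := (ProperFinH9.isCoh_of_isInvertible (hL i)).1
    exact ⟨CohDevH8.isCoh_of_iso e hc',
      (CohDevH8.support_subset_of_mono e.hom).trans
        ((NodalG0.support_tensorMod_subset_left _ _).trans hs)⟩

include hT in
/-- the iterated differences of `n ↦ χ(T n)` are the alternating sums -/
theorem iterDiff_euler (l : List (Fin r)) (n : Fin r → ℕ) :
    iterDiff (fun n => Curv2.euler k X (T n)) l n =
      (-1 : ℤ) ^ l.length * altSum k X (l.map L) (T n) := by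
  induction l generalizing n with
  | nil => simp
  | cons i l ih =>
    obtain ⟨e⟩ := hT n i
    rw [iterDiff_cons, ih, ih, List.map_cons, altSum_cons, List.length_cons, pow_succ,
      ← altSum_of_iso k X (l.map L) e]
    ring

include hL hT in
/-- **Snapper**: the Euler characteristics of a twist system are given by a polynomial -/
theorem sys_exists_poly (Z : Closeds X) (h0 : Coh.IsCoh (T 0))
    (hs0 : CohB1.support (T 0) ⊆ (Z : Set X)) (d : ℕ)
    (hd : dimC (X := X.toTopCat) Z < ((d + 1 : ℕ) : WithBot ℕ∞)) :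
    ∃ P : MvPolynomial (Fin r) ℚ, P.totalDegree ≤ d ∧
      ∀ n : Fin r → ℕ, (Curv2.euler k X (T n) : ℚ) = MvPolynomial.eval (fun i => (n i : ℚ)) P := by
  apply exists_poly_of_vanish r d (fun n => Curv2.euler k X (T n))
  intro l hl n
  rw [iterDiff_euler k X L T hT]
  obtain ⟨hc, hs⟩ := sys_isCoh k X L hL T hT Z h0 hs0 n
  rw [altSum_eq_zero k X (l.map L) ?_ (T n) hc Z hs ?_, mul_zero]
  · intro N hN
    obtain ⟨i, -, rfl⟩ := List.mem_map.mp hN
    exact hL i
  · rw [List.length_map]
    refine lt_of_lt_of_le hd ?_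
    exact_mod_cast hl

end Sys

section TP

variable {X : Scheme.{u}}

/-- `(A ⊗ B) ⊗ C ≅ (A ⊗ C) ⊗ B` -/
noncomputable def swapR (A B C : X.Modules) :
    CohB1.tensorMod (CohB1.tensorMod A B) C ≅ CohB1.tensorMod (CohB1.tensorMod A C) B :=
  assoc A B C ≪≫ mapL A (comm B C) ≪≫ (assoc A C B).symm

theorem ee_last_castSucc {r : ℕ} (n : Fin (r + 1) → ℕ) :
    (fun j : Fin r => (n + ee (Fin.last r)) j.castSucc) = fun j => n j.castSucc := by
  funext j
  simp [ee, Pi.single_eq_of_ne (Fin.castSucc_lt_last j).ne]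

theorem ee_last_last {r : ℕ} (n : Fin (r + 1) → ℕ) :
    (n + ee (Fin.last r)) (Fin.last r) = n (Fin.last r) + 1 := by
  simp [ee]

theorem ee_castSucc_castSucc {r : ℕ} (n : Fin (r + 1) → ℕ) (j : Fin r) :
    (fun j' : Fin r => (n + ee j.castSucc) j'.castSucc) = (fun j' => n j'.castSucc) + ee j := by
  funext j'
  simp only [Pi.add_apply, ee]
  congr 1
  by_cases h : j' = j
  · subst h
    simp
  · rw [Pi.single_eq_of_ne h, Pi.single_eq_of_ne (fun h' => h (Fin.castSucc_injective _ h'))]

theorem ee_castSucc_last {r : ℕ} (n : Fin (r + 1) → ℕ) (j : Fin r) :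
    (n + ee j.castSucc) (Fin.last r) = n (Fin.last r) := by
  simp [ee, Pi.single_eq_of_ne (Fin.castSucc_lt_last j).ne']

/-- `Curv2.tensorPows` is a twist system -/
theorem tensorPows_step (F : X.Modules) : ∀ (r : ℕ) (L : Fin r → X.Modules) (n : Fin r → ℕ)
    (i : Fin r), Nonempty (Curv2.tensorPows F r L (n + ee i) ≅
      CohB1.tensorMod (Curv2.tensorPows F r L n) (L i)) := by
  intro r
  induction r with
  | zero => intro L n i; exact i.elim0
  | succ r ih =>
    intro L n i
    refine Fin.lastCases ?_ (fun j => ?_) i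
    · have h1 : Curv2.tensorPows F (r + 1) L (n + ee (Fin.last r)) =
          CohB1.tensorMod (Curv2.tensorPows F r (fun i => L i.castSucc) (fun j => n j.castSucc))
            (CohB1.tensorPow (L (Fin.last r)) (n (Fin.last r) + 1)) := by
        show CohB1.tensorMod (Curv2.tensorPows F r (fun i => L i.castSucc)
          (fun j => (n + ee (Fin.last r)) j.castSucc))
          (CohB1.tensorPow (L (Fin.last r)) ((n + ee (Fin.last r)) (Fin.last r))) = _
        rw [ee_last_castSucc, ee_last_last]
      rw [h1]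
      exact ⟨(assoc _ _ _).symm⟩
    · have h1 : Curv2.tensorPows F (r + 1) L (n + ee j.castSucc) =
          CohB1.tensorMod (Curv2.tensorPows F r (fun i => L i.castSucc)
            ((fun j' => n j'.castSucc) + ee j))
            (CohB1.tensorPow (L (Fin.last r)) (n (Fin.last r))) := by
        show CohB1.tensorMod (Curv2.tensorPows F r (fun i => L i.castSucc)
          (fun j' => (n + ee j.castSucc) j'.castSucc))
          (CohB1.tensorPow (L (Fin.last r)) ((n + ee j.castSucc) (Fin.last r))) = _
        rw [ee_castSucc_castSucc, ee_castSucc_last]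
      rw [h1]
      obtain ⟨e⟩ := ih (fun i => L i.castSucc) (fun j' => n j'.castSucc) j
      exact ⟨mapR e _ ≪≫ swapR _ _ _⟩

end TP

section Main1528

variable (k : Type u) [Field k] (X : Scheme.{u}) [X.Over (Spec (CommRingCat.of k))]
  [IsProper (X ↘ Spec (CommRingCat.of k))]

include k in
theorem tensorPows_isCoh (F : X.Modules) (hF : Coh.IsCoh F) : ∀ (r : ℕ) (L : Fin r → X.Modules)
    (_ : ∀ i, PicF.IsInvertible (L i)) (n : Fin r → ℕ),
    Coh.IsCoh (Curv2.tensorPows F r L n) ∧
      CohB1.support (Curv2.tensorPows F r L n) ⊆ CohB1.support F := by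
  haveI : IsLocallyNoetherian X :=
    LocallyOfFiniteType.isLocallyNoetherian (X ↘ Spec (CommRingCat.of k))
  intro r
  induction r with
  | zero => intro L _ n; exact ⟨hF, fun _ h => h⟩
  | succ r ih =>
    intro L hL n
    obtain ⟨hc, hs⟩ := ih (fun i => L i.castSucc) (fun i => hL _) (fun j => n j.castSucc)
    have hP := TensH8.isInvertible_tensorPow (hL (Fin.last r)) (n (Fin.last r))
    haveI := hc.1
    haveI : (CohB1.tensorPow (L (Fin.last r)) (n (Fin.last r))).IsQuasicoherent :=
      (ProperFinH9.isCoh_of_isInvertible hP).1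
    exact ⟨isCoh_tensorMod hc hP, (NodalG0.support_tensorMod_subset_left _ _).trans hs⟩

/-- **S1528** (Snapper) -/
theorem main1528 (F : X.Modules) (hF : Coh.IsCoh F) (d : ℕ)
    (hsupp : topologicalKrullDim (CohB1.support F) ≤ d)
    (r : ℕ) (L : Fin r → X.Modules) (hL : ∀ i, PicF.IsInvertible (L i)) :
    ∃ P : MvPolynomial (Fin r) ℚ, P.totalDegree ≤ d ∧
      ∀ n : Fin r → ℕ, (Curv2.euler k X (Curv2.tensorPows F r L n) : ℚ) =
        MvPolynomial.eval (fun i => (n i : ℚ)) P := by
  haveI := hF.2
  have hcl : IsClosed (CohB1.support F) := SuppFT.isClosed_support F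
  obtain ⟨h0, hs0⟩ := tensorPows_isCoh k X F hF r L hL 0
  refine sys_exists_poly k X L hL (fun n => Curv2.tensorPows F r L n)
    (fun n i => tensorPows_step F r L n i) ⟨CohB1.support F, hcl⟩ h0 hs0 d ?_
  refine lt_of_le_of_lt ((dimC_le_topologicalKrullDim ⟨CohB1.support F, hcl⟩).trans hsupp) ?_
  exact_mod_cast Nat.lt_succ_self d

end Main1528

section MT

variable {X : Scheme.{u}}

theorem multiTwist_succ {n : ℕ} (L : Fin (n + 1) → X.Modules) (m : Fin (n + 1) → ℕ) :
    FGA.multiTwist L m = CohB1.tensorMod (CohB1.tensorPow (L 0) (m 0))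
      (FGA.multiTwist (fun i => L i.succ) (fun i => m i.succ)) := by
  unfold FGA.multiTwist
  rw [List.finRange_succ, List.map_cons, List.map_map]
  rfl

theorem ee_zero_zero {n : ℕ} (m : Fin (n + 1) → ℕ) :
    (m + ee (0 : Fin (n + 1))) 0 = m 0 + 1 := by
  simp [ee]

theorem ee_zero_succ {n : ℕ} (m : Fin (n + 1) → ℕ) :
    (fun j : Fin n => (m + ee (0 : Fin (n + 1))) j.succ) = fun j => m j.succ := by
  funext j
  simp [ee, Pi.single_eq_of_ne (Fin.succ_ne_zero j)]

theorem ee_succ_zero {n : ℕ} (m : Fin (n + 1) → ℕ) (j : Fin n) : (m + ee j.succ) 0 = m 0 := by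
  simp [ee, Pi.single_eq_of_ne (Fin.succ_ne_zero j).symm]

theorem ee_succ_succ {n : ℕ} (m : Fin (n + 1) → ℕ) (j : Fin n) :
    (fun j' : Fin n => (m + ee j.succ) j'.succ) = (fun j' => m j'.succ) + ee j := by
  funext j'
  simp only [Pi.add_apply, ee]
  congr 1
  by_cases h : j' = j
  · subst h
    simp
  · rw [Pi.single_eq_of_ne h, Pi.single_eq_of_ne (fun h' => h (Fin.succ_injective _ h'))]

theorem multiTwist_step : ∀ (n : ℕ) (L : Fin n → X.Modules) (m : Fin n → ℕ) (i : Fin n),
    Nonempty (FGA.multiTwist L (m + ee i) ≅ CohB1.tensorMod (FGA.multiTwist L m) (L i)) := by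
  intro n
  induction n with
  | zero => intro L m i; exact i.elim0
  | succ n ih =>
    intro L m i
    rw [multiTwist_succ, multiTwist_succ L m]
    refine Fin.cases ?_ (fun j => ?_) i
    · rw [ee_zero_zero, ee_zero_succ]
      exact ⟨swapR _ _ _⟩
    · rw [ee_succ_zero, ee_succ_succ]
      obtain ⟨e⟩ := ih (fun i => L i.succ) (fun j' => m j'.succ) j
      exact ⟨mapL _ e ≪≫ (assoc _ _ _).symm⟩

theorem multiTwist_isInvertible : ∀ (n : ℕ) (L : Fin n → X.Modules)
    (_ : ∀ i, PicF.IsInvertible (L i)) (m : Fin n → ℕ), PicF.IsInvertible (FGA.multiTwist L m) := by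
  intro n
  induction n with
  | zero => intro L _ m; exact TensH8.isInvertible_structureModule
  | succ n ih =>
    intro L hL m
    rw [multiTwist_succ]
    exact TensH8.isInvertible_tensorMod (TensH8.isInvertible_tensorPow (hL 0) (m 0))
      (ih (fun i => L i.succ) (fun i => hL _) _)

end MT

section Main3230

variable (k : Type u) [Field k] (X : Scheme.{u}) [X.Over (Spec (CommRingCat.of k))]
  [IsProper (X ↘ Spec (CommRingCat.of k))]

/-- **S3230** (Snapper, `FGA` form) -/
theorem main3230 (d : ℕ) (hd : topologicalKrullDim X ≤ d)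
    {n : ℕ} (L : Fin n → X.Modules) (hL : ∀ i, PicF.IsInvertible (L i)) (F : X.Modules)
    (hF : Coh.IsCoh F) (r : ℕ) (hr : topologicalKrullDim (CohB1.support F) ≤ r) :
    ∃ P : MvPolynomial (Fin n) ℚ, P.totalDegree ≤ r ∧
      ∀ m : Fin n → ℕ, (FGA.eulerCharLE k X (CohB1.tensorMod (FGA.multiTwist L m) F) d : ℚ) =
        MvPolynomial.eval (fun i => (m i : ℚ)) P := by
  haveI : IsLocallyNoetherian X :=
    LocallyOfFiniteType.isLocallyNoetherian (X ↘ Spec (CommRingCat.of k))
  haveI := hF.1
  haveI := hF.2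
  have hcl : IsClosed (CohB1.support F) := SuppFT.isClosed_support F
  have hI0 := multiTwist_isInvertible n L hL 0
  have h0 : Coh.IsCoh (CohB1.tensorMod (FGA.multiTwist L 0) F) :=
    CohDevH8.isCoh_of_iso (comm _ _) (isCoh_tensorMod hF hI0)
  haveI : (FGA.multiTwist L 0).IsQuasicoherent := (ProperFinH9.isCoh_of_isInvertible hI0).1
  have hs0 : CohB1.support (CohB1.tensorMod (FGA.multiTwist L 0) F) ⊆ CohB1.support F :=
    (CohDevH8.support_subset_of_mono (comm _ _).hom).trans
      (NodalG0.support_tensorMod_subset_left _ _)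
  obtain ⟨P, hP, hPe⟩ := sys_exists_poly k X L hL
    (fun m => CohB1.tensorMod (FGA.multiTwist L m) F)
    (fun m i => by
      obtain ⟨e⟩ := multiTwist_step n L m i
      exact ⟨mapR e F ≪≫ swapR _ _ _⟩) ⟨CohB1.support F, hcl⟩ h0 hs0 r
    (by
      refine lt_of_le_of_lt ((dimC_le_topologicalKrullDim ⟨CohB1.support F, hcl⟩).trans hr) ?_
      exact_mod_cast Nat.lt_succ_self r)
  refine ⟨P, hP, fun m => ?_⟩
  rw [← euler_eq_eulerCharLE k X d hd]
  exact hPe m

end Main3230

end Snap9
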