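import Mathlib
import Groth.Prelude
import Groth.Agent.Lib.Snap5_helper9
import Groth.Agent.Lib.CurveIdeal1_helper9

/-!
# Intersection numbers are integers (helper9).
APPEND-ONLY once landed.
-/

set_option autoImplicit false
universe u
open CategoryTheory CategoryTheory.Limits AlgebraicGeometry Opposite TopologicalSpace

open Finset MvPolynomial

namespace Snap9

/-- indicator vector of a finite set -/
def ind {d : ℕ} (S : Finset (Fin d)) : Fin d → ℕ := fun i => if i ∈ S then 1 else 0

theorem sum_ind_monomial {d : ℕ} (m : Fin d →₀ ℕ) :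
    ∑ S : Finset (Fin d), (-1 : ℚ) ^ (d - S.card) * ∏ i, ((ind S i : ℕ) : ℚ) ^ m i =
      if ∀ i, m i ≠ 0 then 1 else 0 := by
  have h1 : ∀ S : Finset (Fin d), (-1 : ℚ) ^ (d - S.card) * ∏ i, ((ind S i : ℕ) : ℚ) ^ m i =
      (∏ i ∈ S, (1 : ℚ)) * ∏ i ∈ Sᶜ, (-(0 : ℚ) ^ m i) := by
    intro S
    rw [Finset.prod_const_one, one_mul, Finset.prod_neg, Finset.card_compl, Fintype.card_fin]
    congr 1
    rw [← Finset.prod_mul_prod_compl S]
    have h2 : ∏ i ∈ S, ((ind S i : ℕ) : ℚ) ^ m i = 1 := by
      apply Finset.prod_eq_one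
      intro i hi
      simp [ind, hi]
    have h3 : ∏ i ∈ Sᶜ, ((ind S i : ℕ) : ℚ) ^ m i = ∏ i ∈ Sᶜ, (0 : ℚ) ^ m i := by
      apply Finset.prod_congr rfl
      intro i hi
      rw [Finset.mem_compl] at hi
      simp [ind, hi]
    rw [h2, h3, one_mul]
  rw [Finset.sum_congr rfl (fun S _ => h1 S), ← Fintype.prod_add]
  by_cases h : ∀ i, m i ≠ 0
  · rw [if_pos h]
    apply Finset.prod_eq_one
    intro i _
    rw [zero_pow (h i), neg_zero, add_zero]
  · rw [if_neg h]
    push Not at h
    obtain ⟨i, hi⟩ := h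
    apply Finset.prod_eq_zero (Finset.mem_univ i)
    rw [hi, pow_zero]
    norm_num

/-- the coefficient of `x_1 ⋯ x_d` of a polynomial of total degree `≤ d` in `d` variables -/
theorem coeff_one_eq_sum {d : ℕ} (P : MvPolynomial (Fin d) ℚ) (hP : P.totalDegree ≤ d) :
    MvPolynomial.coeff (Finsupp.equivFunOnFinite.symm fun _ : Fin d => 1) P =
      ∑ S : Finset (Fin d), (-1 : ℚ) ^ (d - S.card) *
        MvPolynomial.eval (fun i => ((ind S i : ℕ) : ℚ)) P := by
  have h1 : ∀ S : Finset (Fin d), (-1 : ℚ) ^ (d - S.card) *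
      MvPolynomial.eval (fun i => ((ind S i : ℕ) : ℚ)) P =
      ∑ m ∈ P.support, P.coeff m * ((-1 : ℚ) ^ (d - S.card) * ∏ i, ((ind S i : ℕ) : ℚ) ^ m i) := by
    intro S
    rw [MvPolynomial.eval_eq', Finset.mul_sum]
    apply Finset.sum_congr rfl
    intro m _
    ring
  rw [Finset.sum_congr rfl (fun S _ => h1 S), Finset.sum_comm]
  simp_rw [← Finset.mul_sum, sum_ind_monomial]
  have hone : ∀ x ∈ P.support, (∀ i, x i ≠ 0) →
      x = Finsupp.equivFunOnFinite.symm fun _ : Fin d => 1 := by
    intro x hx hne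
    have h2 := MvPolynomial.le_totalDegree hx
    rw [Finsupp.sum_fintype _ _ (fun _ => rfl)] at h2
    have h3 : ∑ i, x i = ∑ i : Fin d, (1 + (x i - 1)) := by
      apply Finset.sum_congr rfl
      intro i _
      have := hne i
      omega
    rw [Finset.sum_add_distrib, Finset.sum_const, Finset.card_univ, Fintype.card_fin,
      smul_eq_mul, mul_one] at h3
    have h4 : ∑ i, (x i - 1) = 0 := by omega
    ext i
    have h5 := Finset.sum_eq_zero_iff.mp h4 i (Finset.mem_univ i)
    have := hne i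
    show x i = 1
    omega
  rw [Finset.sum_eq_single (Finsupp.equivFunOnFinite.symm fun _ : Fin d => 1)]
  · rw [if_pos, mul_one]
    intro i
    simp
  · intro b hb hne
    rw [if_neg, mul_zero]
    intro h
    exact hne (hone b hb h)
  · intro h
    rw [MvPolynomial.notMem_support_iff.mp h, zero_mul]

/-- a rational polynomial is determined by its values at the points of `ℕ^r` -/
theorem eq_of_eval_nat_eq {r : ℕ} (P Q : MvPolynomial (Fin r) ℚ)
    (h : ∀ n : Fin r → ℕ, MvPolynomial.eval (fun i => (n i : ℚ)) P =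
      MvPolynomial.eval (fun i => (n i : ℚ)) Q) : P = Q := by
  apply MvPolynomial.funext_set (fun _ => Set.range (Nat.cast : ℕ → ℚ))
    (fun _ => Set.infinite_range_of_injective Nat.cast_injective)
  intro x hx
  choose n hn using (fun i => hx i (Set.mem_univ i))
  have hx' : x = fun i => (n i : ℚ) := funext (fun i => (hn i).symm)
  rw [hx', h n]

section Main7685

variable (k : Type u) [Field k] (X : Scheme.{u}) [X.Over (Spec (CommRingCat.of k))]
  [IsProper (X ↘ Spec (CommRingCat.of k))]

include k in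
theorem dim_support_quotMod_le (D : X.IdealSheafData) (d : WithBot ℕ∞)
    (hD : topologicalKrullDim (D.support : Set X) ≤ d) :
    topologicalKrullDim (CohB1.support (ClSub.quotMod D)) ≤ d :=
  (Topology.IsEmbedding.inclusion
    (CurveIdeal.support_quotMod_subset D (Iso.refl _))).isInducing.topologicalKrullDim_le.trans hD

/-- the polynomial computing the Euler characteristics of the twists of `O_D` has total degree
at most `dim D` -/
theorem totalDegree_le_of_eval (D : X.IdealSheafData) (d : ℕ)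
    (hD : topologicalKrullDim (D.support : Set X) ≤ d) {r : ℕ}
    (L : Fin r → X.Modules) (hL : ∀ i, PicF.IsInvertible (L i)) (P : MvPolynomial (Fin r) ℚ)
    (hP : ∀ n : Fin r → ℕ, (Curv2.euler k X (Curv2.tensorPows (ClSub.quotMod D) r L n) : ℚ) =
      MvPolynomial.eval (fun i => (n i : ℚ)) P) : P.totalDegree ≤ d := by
  haveI : IsLocallyNoetherian X :=
    LocallyOfFiniteType.isLocallyNoetherian (X ↘ Spec (CommRingCat.of k))
  obtain ⟨P', hP'd, hP'e⟩ := main1528 k X (ClSub.quotMod D) (CurveIdeal.isCoh_quotMod D) d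
    (dim_support_quotMod_le k X D d hD) r L hL
  have h : P = P' := eq_of_eval_nat_eq P P' (fun n => by rw [← hP n, hP'e n])
  rw [h]
  exact hP'd

/-- **S7685** -/
theorem main7685 (D : X.IdealSheafData) (d : ℕ)
    (hD : topologicalKrullDim (D.support : Set X) = d)
    (L : Fin d → X.Modules) (hL : ∀ i, PicF.IsInvertible (L i)) (P : MvPolynomial (Fin d) ℚ)
    (hP : ∀ n : Fin d → ℕ, (Curv2.euler k X (Curv2.tensorPows (ClSub.quotMod D) d L n) : ℚ) =
      MvPolynomial.eval (fun i => (n i : ℚ)) P) :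
    ∃ z : ℤ, MvPolynomial.coeff (Finsupp.equivFunOnFinite.symm fun _ : Fin d => 1) P = (z : ℚ) := by
  have hdeg := totalDegree_le_of_eval k X D d hD.le L hL P hP
  rw [coeff_one_eq_sum P hdeg]
  refine ⟨∑ S : Finset (Fin d), (-1 : ℤ) ^ (d - S.card) *
    Curv2.euler k X (Curv2.tensorPows (ClSub.quotMod D) d L (ind S)), ?_⟩
  push_cast
  apply Finset.sum_congr rfl
  intro S _
  rw [hP (ind S)]

end Main7685

end Snap9
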