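import Mathlib
import Groth.Prelude
import Groth.Agent.Lib.Snap6_helper9
import Groth.Agent.Lib.CurveTens1_helper9

/-!
# Intersection with an effective Cartier divisor (helper9).
APPEND-ONLY once landed.
-/

set_option autoImplicit false
universe u
open CategoryTheory CategoryTheory.Limits AlgebraicGeometry Opposite TopologicalSpace

open Finset MvPolynomial

namespace Snap9

section Top

open Topology

/-- a closed subset all of whose points have proper generizations has smaller dimension -/
theorem topologicalKrullDim_le_of_generization {T : Type*} [TopologicalSpace T] [QuasiSober T]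
    [T0Space T] (Z : Set T) (hZ : IsClosed Z) (hgen : ∀ x ∈ Z, ∃ y : T, y ⤳ x ∧ y ≠ x) (n : ℕ)
    (hT : topologicalKrullDim T ≤ ((n + 1 : ℕ) : WithBot ℕ∞)) :
    topologicalKrullDim Z ≤ (n : WithBot ℕ∞) := by
  unfold topologicalKrullDim Order.krullDim at hT ⊢
  apply iSup_le
  intro p
  have hind : IsInducing (Subtype.val : Z → T) := IsInducing.subtypeVal
  let q : LTSeries (IrreducibleCloseds T) :=
    p.map (IrreducibleCloseds.map Subtype.val hind.continuous)
      (IrreducibleCloseds.map_strictMono_of_isInducing hind)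
  obtain ⟨x, hx⟩ := QuasiSober.sober q.last.isIrreducible q.last.isClosed
  have hsub : (q.last : Set T) ⊆ Z := by
    show closure (Subtype.val '' (p.last : Set Z)) ⊆ Z
    apply closure_minimal _ hZ
    rintro _ ⟨z, -, rfl⟩
    exact z.2
  have hxZ : x ∈ Z := hsub (hx.mem)
  obtain ⟨y, hyx, hne⟩ := hgen x hxZ
  let W : IrreducibleCloseds T := ⟨closure {y}, isIrreducible_singleton.closure, isClosed_closure⟩
  have hlt : q.last < W := by
    refine lt_of_le_of_ne ?_ ?_
    · intro w hw
      have hw' : w ∈ closure ({x} : Set T) := by rw [hx.def]; exact hw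
      exact (specializes_iff_closure_subset.mp hyx) hw'
    · intro h
      have h2 : y ∈ (q.last : Set T) := by
        rw [h]; exact subset_closure rfl
      rw [← hx.def] at h2
      have hxy : x ⤳ y := specializes_iff_mem_closure.mpr h2
      exact hne (hyx.antisymm hxy).eq
  let q' := q.snoc W hlt
  have h3 : ((q'.length : ℕ) : WithBot ℕ∞) ≤ ((n + 1 : ℕ) : WithBot ℕ∞) :=
    (le_iSup (fun p : LTSeries (IrreducibleCloseds T) => ((p.length : ℕ) : WithBot ℕ∞)) q').trans hT
  have h4 : q'.length = p.length + 1 := by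
    simp [q', q]
  rw [h4] at h3
  have h5 : p.length + 1 ≤ n + 1 := by exact_mod_cast h3
  exact_mod_cast Nat.le_of_succ_le_succ h5

end Top

section Cartier

variable {X : Scheme.{u}}

/-- every point of an effective Cartier divisor has a proper generization -/
theorem exists_generization_of_mem_support_effCartier
    (D : X.IdealSheafData) (hD : BlowUp.IsEffCartierIdeal D) (x : X)
    (hx : x ∈ D.support) : ∃ y : X, y ⤳ x ∧ y ≠ x := by
  obtain ⟨U, hxU, f, hf, hDf⟩ := hD x
  have h1 : x ∈ X.zeroLocus (U := U.1) (D.ideal U) :=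
    (Scheme.IdealSheafData.mem_support_iff_of_mem hxU).1 hx
  have hxf : x ∉ X.basicOpen f := by
    rw [Scheme.mem_zeroLocus_iff] at h1
    exact h1 f (by rw [hDf]; exact Ideal.mem_span_singleton_self f)
  set p := U.2.primeIdealOf ⟨x, hxU⟩ with hp
  have hfp : f ∈ p.asIdeal := by
    by_contra hfp
    apply hxf
    have h2 : p ∈ PrimeSpectrum.basicOpen f := hfp
    rw [← U.2.fromSpec_preimage_basicOpen f] at h2
    have h3 : U.2.fromSpec p = x := U.2.fromSpec_primeIdealOf ⟨x, hxU⟩
    rw [← h3]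
    exact h2
  obtain ⟨q, hq, hqp⟩ := Ideal.exists_minimalPrimes_le (bot_le : (⊥ : Ideal Γ(X, U.1)) ≤ p.asIdeal)
  haveI : q.IsPrime := hq.1.1
  have hfq : f ∉ q := fun h =>
    Set.disjoint_left.mp (Ideal.disjoint_nonZeroDivisors_of_mem_minimalPrimes hq) h hf
  let q' : PrimeSpectrum Γ(X, U.1) := ⟨q, inferInstance⟩
  have hle : q' ≤ p := hqp
  have hspec : q' ⤳ p := (PrimeSpectrum.le_iff_specializes q' p).1 hle
  have hspec' : U.2.fromSpec q' ⤳ U.2.fromSpec p := hspec.map U.2.fromSpec.continuous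
  rw [U.2.fromSpec_primeIdealOf ⟨x, hxU⟩] at hspec'
  refine ⟨U.2.fromSpec q', hspec', ?_⟩
  intro h
  have h2 : U.2.fromSpec q' = U.2.fromSpec p := by
    rw [U.2.fromSpec_primeIdealOf ⟨x, hxU⟩]; exact h
  have h3 : q' = p := U.2.fromSpec.isOpenEmbedding.injective h2
  apply hfq
  have : q = p.asIdeal := congrArg PrimeSpectrum.asIdeal h3
  rw [this]
  exact hfp

/-- an effective Cartier divisor on a scheme of dimension `e + 1` has dimension at most `e` -/
theorem dim_support_effCartier_le (e : ℕ) (hX : topologicalKrullDim X ≤ ((e + 1 : ℕ) : WithBot ℕ∞))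
    (D : X.IdealSheafData) (hD : FGA.IsEffCartier D) :
    topologicalKrullDim (D.support : Set X) ≤ (e : WithBot ℕ∞) :=
  topologicalKrullDim_le_of_generization (D.support : Set X) D.support.isClosed
    (fun x hx => exists_generization_of_mem_support_effCartier D hD x hx) e hX

end Cartier

section Comb

/-- splitting a sum over the subsets of `Fin (e + 1)` according to the membership of `0` -/
theorem sum_finset_fin_succ {e : ℕ} {M : Type*} [AddCommMonoid M]
    (F : Finset (Fin (e + 1)) → M) :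
    ∑ S : Finset (Fin (e + 1)), F S =
      ∑ S' : Finset (Fin e), F (S'.map (Fin.succEmb e)) +
        ∑ S' : Finset (Fin e), F (insert 0 (S'.map (Fin.succEmb e))) := by
  have key : ∀ G : Finset (Fin (e + 1)) → M,
      ∑ t ∈ ((Finset.univ : Finset (Fin e)).map (Fin.succEmb e)).powerset, G t =
        ∑ S' : Finset (Fin e), G (S'.map (Fin.succEmb e)) := by
    intro G
    symm
    apply Finset.sum_bij (fun S' _ => S'.map (Fin.succEmb e))
    · intro S' _
      rw [Finset.mem_powerset]
      exact Finset.map_subset_map.mpr (Finset.subset_univ _)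
    · intro a _ b _ h
      exact Finset.map_injective _ h
    · intro t ht
      rw [Finset.mem_powerset, Finset.subset_map_iff] at ht
      obtain ⟨u, -, rfl⟩ := ht
      exact ⟨u, Finset.mem_univ _, rfl⟩
    · intro _ _
      rfl
  have h0 : (0 : Fin (e + 1)) ∉ (Finset.univ : Finset (Fin e)).map (Fin.succEmb e) := by
    simp
  have huniv : (Finset.univ : Finset (Fin (e + 1))) =
      insert 0 ((Finset.univ : Finset (Fin e)).map (Fin.succEmb e)) := by
    rw [Fin.univ_succ, Finset.cons_eq_insert]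
    rfl
  rw [← Finset.powerset_univ, huniv, Finset.sum_powerset_insert h0, key, key]

theorem ind_map_succ {e : ℕ} (S' : Finset (Fin e)) :
    ind (S'.map (Fin.succEmb e)) = Fin.cons 0 (ind S') := by
  funext i
  refine Fin.cases ?_ (fun j => ?_) i
  · simp [ind]
  · simp [ind]

theorem ind_insert_map_succ {e : ℕ} (S' : Finset (Fin e)) :
    ind (insert 0 (S'.map (Fin.succEmb e))) = Fin.cons 1 (ind S') := by
  funext i
  refine Fin.cases ?_ (fun j => ?_) i
  · simp [ind]
  · simp [ind, Fin.succ_ne_zero]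

/-- the alternating sum over the vertices of the unit cube, split in the first direction -/
theorem alt_sum_split {e : ℕ} (f : (Fin (e + 1) → ℕ) → ℚ) :
    ∑ S : Finset (Fin (e + 1)), (-1 : ℚ) ^ (e + 1 - S.card) * f (ind S) =
      ∑ S' : Finset (Fin e), (-1 : ℚ) ^ (e - S'.card) *
        (f (Fin.cons 1 (ind S')) - f (Fin.cons 0 (ind S'))) := by
  rw [sum_finset_fin_succ, ← Finset.sum_add_distrib]
  apply Finset.sum_congr rfl
  intro S' _
  have hc : S'.card ≤ e := by
    have := Finset.card_le_univ S'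
    simpa using this
  have hi : (0 : Fin (e + 1)) ∉ S'.map (Fin.succEmb e) := by simp
  rw [ind_map_succ, ind_insert_map_succ, Finset.card_insert_of_notMem hi, Finset.card_map,
    Nat.add_sub_add_right, Nat.sub_add_comm hc, pow_succ]
  ring

end Comb

section Sys2

variable {X : Scheme.{u}}

open Groth.Agent.TensInv

/-- uniqueness of twist systems -/
theorem sys_unique {r : ℕ} (L : Fin r → X.Modules) (T T' : (Fin r → ℕ) → X.Modules)
    (hT : ∀ n i, Nonempty (T (n + ee i) ≅ CohB1.tensorMod (T n) (L i)))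
    (hT' : ∀ n i, Nonempty (T' (n + ee i) ≅ CohB1.tensorMod (T' n) (L i)))
    (h0 : Nonempty (T 0 ≅ T' 0)) : ∀ n, Nonempty (T n ≅ T' n) := by
  apply pi_nat_induction
  · exact h0
  · rintro n i ⟨e⟩
    obtain ⟨a⟩ := hT n i
    obtain ⟨b⟩ := hT' n i
    exact ⟨a ≪≫ mapR e (L i) ≪≫ b.symm⟩

theorem tensorPows_zero (F : X.Modules) : ∀ (r : ℕ) (L : Fin r → X.Modules),
    Nonempty (Curv2.tensorPows F r L 0 ≅ F) := by
  intro r
  induction r with
  | zero => intro L; exact ⟨Iso.refl _⟩
  | succ r ih =>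
    intro L
    obtain ⟨e⟩ := ih (fun i => L i.castSucc)
    exact ⟨mapR e _ ≪≫ rightUnit F⟩

/-- `F ⊗ (O ⊗ L^n) ≅ F ⊗ L^n` -/
theorem tensorPows_tensor (F : X.Modules) (r : ℕ) (L : Fin r → X.Modules) (n : Fin r → ℕ) :
    Nonempty (CohB1.tensorMod F (Curv2.tensorPows (Coh.structureModule X) r L n) ≅
      Curv2.tensorPows F r L n) := by
  refine sys_unique L
    (fun n => CohB1.tensorMod F (Curv2.tensorPows (Coh.structureModule X) r L n))
    (fun n => Curv2.tensorPows F r L n) ?_ (fun n i => tensorPows_step F r L n i) ?_ n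
  · intro n i
    obtain ⟨a⟩ := tensorPows_step (Coh.structureModule X) r L n i
    exact ⟨mapL F a ≪≫ (assoc _ _ _).symm⟩
  · obtain ⟨a⟩ := tensorPows_zero (Coh.structureModule X) r L
    obtain ⟨b⟩ := tensorPows_zero F r L
    exact ⟨mapL F a ≪≫ rightUnit F ≪≫ b.symm⟩

/-- dropping a variable with exponent zero -/
theorem tensorPows_cons_zero (F : X.Modules) (e : ℕ) (L : Fin (e + 1) → X.Modules)
    (m : Fin e → ℕ) :
    Nonempty (Curv2.tensorPows F (e + 1) L (Fin.cons 0 m) ≅
      Curv2.tensorPows F e (fun j => L j.succ) m) := by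
  refine sys_unique (fun j => L j.succ)
    (fun m => Curv2.tensorPows F (e + 1) L (Fin.cons 0 m))
    (fun m => Curv2.tensorPows F e (fun j => L j.succ) m) ?_
    (fun m j => tensorPows_step F e _ m j) ?_ m
  · intro m j
    show Nonempty (Curv2.tensorPows F (e + 1) L (Fin.cons 0 (m + ee j)) ≅ _)
    rw [← cons_add_ee]
    exact tensorPows_step F (e + 1) L _ j.succ
  · have h0 : (Fin.cons 0 (0 : Fin e → ℕ) : Fin (e + 1) → ℕ) = 0 := by
      funext i
      refine Fin.cases rfl (fun j => rfl) i
    show Nonempty (Curv2.tensorPows F (e + 1) L (Fin.cons 0 0) ≅ _)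
    rw [h0]
    obtain ⟨a⟩ := tensorPows_zero F (e + 1) L
    obtain ⟨b⟩ := tensorPows_zero F e (fun j => L j.succ)
    exact ⟨a ≪≫ b.symm⟩

theorem tensorPows_isInvertible : ∀ (r : ℕ) (L : Fin r → X.Modules)
    (_ : ∀ i, PicF.IsInvertible (L i)) (n : Fin r → ℕ),
    PicF.IsInvertible (Curv2.tensorPows (Coh.structureModule X) r L n) := by
  intro r
  induction r with
  | zero => intro L _ n; exact TensH8.isInvertible_structureModule
  | succ r ih =>
    intro L hL n
    exact TensH8.isInvertible_tensorMod (ih (fun i => L i.castSucc) (fun i => hL _) _)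
      (TensH8.isInvertible_tensorPow (hL (Fin.last r)) _)

end Sys2

section Main7648

variable (k : Type u) [Field k] (X : Scheme.{u}) [X.Over (Spec (CommRingCat.of k))]
  [IsProper (X ↘ Spec (CommRingCat.of k))]

open Groth.Agent.TensInv

/-- `χ(L^{n + e_i}) = χ(L^n) + χ(O_D ⊗ L^{n + e_i})` when `L_i ≅ O(D)` -/
theorem euler_step (D : X.IdealSheafData) (r : ℕ) (L : Fin r → X.Modules)
    (hL : ∀ i, PicF.IsInvertible (L i)) (i : Fin r)
    (hLD : ClSub.IsInverseOf (L i) (ClSub.idealMod D)) (n : Fin r → ℕ) :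
    Curv2.euler k X (Curv2.tensorPows (Coh.structureModule X) r L (n + ee i)) =
      Curv2.euler k X (Curv2.tensorPows (Coh.structureModule X) r L n) +
        Curv2.euler k X (Curv2.tensorPows (ClSub.quotMod D) r L (n + ee i)) := by
  haveI : IsLocallyNoetherian X :=
    LocallyOfFiniteType.isLocallyNoetherian (X ↘ Spec (CommRingCat.of k))
  have hNi : PicF.IsInvertible (Curv2.tensorPows (Coh.structureModule X) r L (n + ee i)) :=
    tensorPows_isInvertible r L hL _
  have hS := CurveTens.shortExact_tR hNi (Groth.Agent.HypSurf.ses D)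
    (Groth.Agent.HypSurf.ses_shortExact D)
  have h1 := EulerField.euler_additive k X _ hS
    (isCoh_tensorMod (CurveIdeal.isCoh_idealMod D) hNi)
    (isCoh_tensorMod (CohDevH8.isCoh_structureModule X) hNi)
    (isCoh_tensorMod (CurveIdeal.isCoh_quotMod D) hNi)
  obtain ⟨a⟩ := tensorPows_step (Coh.structureModule X) r L n i
  obtain ⟨b⟩ := hLD
  obtain ⟨c⟩ := tensorPows_tensor (ClSub.quotMod D) r L (n + ee i)
  have e1 := Groth.Agent.CMMul.unitorL
    (Curv2.tensorPows (Coh.structureModule X) r L (n + ee i))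
  have e2 : CohB1.tensorMod (ClSub.idealMod D)
      (Curv2.tensorPows (Coh.structureModule X) r L (n + ee i)) ≅
      Curv2.tensorPows (Coh.structureModule X) r L n :=
    mapL _ a ≪≫ comm _ _ ≪≫ assoc _ _ _ ≪≫ mapL _ b ≪≫ rightUnit _
  rw [← CurveTens.euler_of_iso k X e1, ← CurveTens.euler_of_iso k X e2,
    ← CurveTens.euler_of_iso k X c]
  exact h1

/-- **S7648** -/
theorem main7648 (e : ℕ) (hX : topologicalKrullDim X = e + 1) (D : X.IdealSheafData)
    (hD : FGA.IsEffCartier D)
    (L : Fin (e + 1) → X.Modules) (hL : ∀ j, PicF.IsInvertible (L j))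
    (hLD : ClSub.IsInverseOf (L 0) (ClSub.idealMod D))
    (P : MvPolynomial (Fin (e + 1)) ℚ) (Q : MvPolynomial (Fin e) ℚ)
    (hP : ∀ n : Fin (e + 1) → ℕ, (Curv2.euler k X
      (Curv2.tensorPows (Coh.structureModule X) (e + 1) L n) : ℚ) =
        MvPolynomial.eval (fun i => (n i : ℚ)) P)
    (hQ : ∀ n : Fin e → ℕ, (Curv2.euler k X
      (Curv2.tensorPows (ClSub.quotMod D) e (fun j => L j.succ) n) : ℚ) =
        MvPolynomial.eval (fun i => (n i : ℚ)) Q) :
    MvPolynomial.coeff (Finsupp.equivFunOnFinite.symm fun _ : Fin (e + 1) => 1) P =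
      MvPolynomial.coeff (Finsupp.equivFunOnFinite.symm fun _ : Fin e => 1) Q := by
  haveI : IsLocallyNoetherian X :=
    LocallyOfFiniteType.isLocallyNoetherian (X ↘ Spec (CommRingCat.of k))
  have hXle : topologicalKrullDim X ≤ ((e + 1 : ℕ) : WithBot ℕ∞) := by
    rw [hX]; push_cast; exact le_rfl
  have hdimD : topologicalKrullDim (D.support : Set X) ≤ (e : WithBot ℕ∞) :=
    dim_support_effCartier_le e hXle D hD
  -- degree bounds
  obtain ⟨P', hP'd, hP'e⟩ := main1528 k X (Coh.structureModule X)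
    (CohDevH8.isCoh_structureModule X) (e + 1)
    ((topologicalKrullDim_subspace_le X _).trans hXle) (e + 1) L hL
  have hPP' : P = P' := eq_of_eval_nat_eq P P' (fun n => by rw [← hP n, hP'e n])
  have hPd : P.totalDegree ≤ e + 1 := by rw [hPP']; exact hP'd
  have hQd : Q.totalDegree ≤ e :=
    totalDegree_le_of_eval k X D e hdimD (fun j => L j.succ) (fun j => hL _) Q hQ
  obtain ⟨H, hHd, hHe⟩ := main1528 k X (ClSub.quotMod D) (CurveIdeal.isCoh_quotMod D) e
    (dim_support_quotMod_le k X D e hdimD) (e + 1) L hL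
  have hH0 : MvPolynomial.coeff (Finsupp.equivFunOnFinite.symm fun _ : Fin (e + 1) => 1) H = 0 := by
    apply MvPolynomial.coeff_eq_zero_of_totalDegree_lt
    refine lt_of_le_of_lt hHd ?_
    have : ∑ i ∈ (Finsupp.equivFunOnFinite.symm fun _ : Fin (e + 1) => 1).support,
        (Finsupp.equivFunOnFinite.symm fun _ : Fin (e + 1) => 1) i = e + 1 := by
      rw [Finset.sum_subset (Finset.subset_univ _) (fun i _ hi => by
        simpa using hi)]
      simp
    rw [this]
    exact Nat.lt_succ_self e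
  rw [coeff_one_eq_sum H (hHd.trans (Nat.le_succ e))] at hH0
  rw [coeff_one_eq_sum P hPd, coeff_one_eq_sum Q hQd]
  have hsP := alt_sum_split (fun n => ((Curv2.euler k X
    (Curv2.tensorPows (Coh.structureModule X) (e + 1) L n) : ℤ) : ℚ))
  have hsH := alt_sum_split (fun n => ((Curv2.euler k X
    (Curv2.tensorPows (ClSub.quotMod D) (e + 1) L n) : ℤ) : ℚ))
  simp only [hP, hHe] at hsP hsH
  rw [hsP]
  rw [hsH] at hH0
  have hK : ∀ m : Fin e → ℕ,
      MvPolynomial.eval (fun i => (((Fin.cons 1 m : Fin (e + 1) → ℕ) i : ℕ) : ℚ)) P -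
        MvPolynomial.eval (fun i => (((Fin.cons 0 m : Fin (e + 1) → ℕ) i : ℕ) : ℚ)) P =
        MvPolynomial.eval (fun i => (((Fin.cons 1 m : Fin (e + 1) → ℕ) i : ℕ) : ℚ)) H := by
    intro m
    rw [← hP, ← hP, ← hHe]
    have h1 : (Fin.cons 1 m : Fin (e + 1) → ℕ) = Fin.cons 0 m + ee (0 : Fin (e + 1)) := by
      funext i
      refine Fin.cases ?_ (fun j => ?_) i
      · simp [ee]
      · simp [ee, Pi.single_eq_of_ne (Fin.succ_ne_zero j)]
    rw [h1, euler_step k X D (e + 1) L hL 0 hLD (Fin.cons 0 m)]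
    push_cast
    ring
  have hC : ∀ m : Fin e → ℕ,
      MvPolynomial.eval (fun i => (((Fin.cons 0 m : Fin (e + 1) → ℕ) i : ℕ) : ℚ)) H =
        MvPolynomial.eval (fun i => ((m i : ℕ) : ℚ)) Q := by
    intro m
    rw [← hQ, ← hHe]
    obtain ⟨c⟩ := tensorPows_cons_zero (ClSub.quotMod D) e L m
    rw [CurveTens.euler_of_iso k X c]
  rw [← sub_eq_zero, ← Finset.sum_sub_distrib, ← hH0]
  apply Finset.sum_congr rfl
  intro S' _
  rw [hK, hC]
  ring

end Main7648

end Snap9
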