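import Mathlib
import Groth.Prelude
import Groth.Agent.Lib.Snap7_helper9
import Groth.Agent.Lib.CycLen8_helper8
import Groth.Agent.Lib.KZero_helper4

/-!
# Intersection numbers and multiplicities of components (helper9).
APPEND-ONLY once landed.
-/

set_option autoImplicit false
universe u
open CategoryTheory CategoryTheory.Limits AlgebraicGeometry Opposite TopologicalSpace

open Finset MvPolynomial

namespace Snap9

section Comb2

theorem ind_insert {d : ℕ} (S : Finset (Fin d)) (i : Fin d) (hi : i ∉ S) :
    ind (insert i S) = ind S + ee i := by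
  funext j
  simp only [ind, Finset.mem_insert, Pi.add_apply, ee]
  by_cases h : j = i
  · subst h
    simp [hi]
  · simp [h]

/-- iterated differences along distinct directions as alternating sums -/
theorem iterDiff_eq_sum {d : ℕ} (f : (Fin d → ℕ) → ℤ) (l : List (Fin d)) (hl : l.Nodup)
    (n : Fin d → ℕ) :
    iterDiff f l n =
      ∑ S ∈ l.toFinset.powerset, (-1 : ℤ) ^ (l.length - S.card) * f (n + ind S) := by
  induction l generalizing n with
  | nil =>
    simp
    congr 1
  | cons i l ih =>
    have hi : i ∉ l.toFinset := by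
      rw [List.mem_toFinset]
      exact (List.nodup_cons.mp hl).1
    have hl' := (List.nodup_cons.mp hl).2
    rw [iterDiff_cons, ih hl', ih hl', List.toFinset_cons, Finset.sum_powerset_insert hi,
      ← Finset.sum_sub_distrib, ← Finset.sum_add_distrib]
    apply Finset.sum_congr rfl
    intro S hS
    rw [Finset.mem_powerset] at hS
    have hiS : i ∉ S := fun h => hi (hS h)
    have hc : S.card ≤ l.length := by
      calc S.card ≤ l.toFinset.card := Finset.card_le_card hS
        _ ≤ l.length := List.toFinset_card_le l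
    rw [ind_insert S i hiS, Finset.card_insert_of_notMem hiS, List.length_cons,
      Nat.add_sub_add_right, Nat.sub_add_comm hc, pow_succ]
    have e1 : n + ee i + ind S = n + (ind S + ee i) := by
      rw [add_assoc, add_comm (ee i)]
    rw [e1]
    ring

/-- the coefficient of `x_1 ⋯ x_d` as an iterated difference -/
theorem coeff_eq_iterDiff {d : ℕ} (P : MvPolynomial (Fin d) ℚ) (hP : P.totalDegree ≤ d)
    (f : (Fin d → ℕ) → ℤ)
    (hf : ∀ n : Fin d → ℕ, (f n : ℚ) = MvPolynomial.eval (fun i => (n i : ℚ)) P) :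
    MvPolynomial.coeff (Finsupp.equivFunOnFinite.symm fun _ : Fin d => 1) P =
      ((iterDiff f (List.finRange d) 0 : ℤ) : ℚ) := by
  rw [coeff_one_eq_sum P hP, iterDiff_eq_sum f _ (List.nodup_finRange d) 0,
    List.toFinset_finRange, Finset.powerset_univ, List.length_finRange]
  push_cast
  apply Finset.sum_congr rfl
  intro S _
  rw [zero_add, hf]

end Comb2

section K0

variable (k : Type u) [Field k] (X : Scheme.{u}) [X.Over (Spec (CommRingCat.of k))]
  [IsProper (X ↘ Spec (CommRingCat.of k))]

open Groth.Agent.Lib.GVanH2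

/-- the coefficient of `n_1 ⋯ n_d` of the Snapper polynomial as an alternating sum -/
theorem coeff_eq_altSum (F : X.Modules) (d : ℕ) (L : Fin d → X.Modules)
    (P : MvPolynomial (Fin d) ℚ) (hPd : P.totalDegree ≤ d)
    (hP : ∀ n : Fin d → ℕ, (Curv2.euler k X (Curv2.tensorPows F d L n) : ℚ) =
      MvPolynomial.eval (fun i => (n i : ℚ)) P) :
    MvPolynomial.coeff (Finsupp.equivFunOnFinite.symm fun _ : Fin d => 1) P =
      (-1 : ℚ) ^ d * (altSum k X (List.ofFn L) F : ℚ) := by
  rw [coeff_eq_iterDiff P hPd (fun n => Curv2.euler k X (Curv2.tensorPows F d L n)) hP,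
    iterDiff_euler k X L (fun n => Curv2.tensorPows F d L n)
      (fun n i => tensorPows_step F d L n i), List.length_finRange, ← List.ofFn_eq_map]
  obtain ⟨e⟩ := tensorPows_zero F d L
  rw [altSum_of_iso k X _ e]
  push_cast
  rfl

/-- the alternating sum as a homomorphism on `K₀(Coh X)` -/
noncomputable def altHom (l : List X.Modules) (hl : ∀ M ∈ l, PicF.IsInvertible M) :
    KZero.K0sub (fun M : X.Modules => Coh.IsCoh M) →+ ℤ :=
  Groth.Agent.Lib.KZeroH4.liftSub _ (fun F => altSum k X l F)
    (fun S hS h1 h2 h3 => altSum_additive k X l hl S hS h1 h2 h3)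

theorem altHom_clSub (l : List X.Modules) (hl : ∀ M ∈ l, PicF.IsInvertible M) (F : X.Modules)
    (hF : Coh.IsCoh F) :
    altHom k X l hl (KZero.clSub (fun M : X.Modules => Coh.IsCoh M) F) = altSum k X l F :=
  Groth.Agent.Lib.KZeroH4.liftSub_clSub _ _ _ F hF

/-- `altHom` kills the classes supported in dimension smaller than the number of factors -/
theorem altHom_eq_zero_of_mem (l : List X.Modules) (hl : ∀ M ∈ l, PicF.IsInvertible M)
    (c : KZero.K0sub (fun M : X.Modules => Coh.IsCoh M))
    (hc : c ∈ AddSubgroup.closure {c : KZero.K0sub (fun M : X.Modules => Coh.IsCoh M) |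
        ∃ G : X.Modules, Coh.IsCoh G ∧ topologicalKrullDim ↥(CohB1.support G) < l.length ∧
          c = KZero.clSub (fun M : X.Modules => Coh.IsCoh M) G}) :
    altHom k X l hl c = 0 := by
  have hle : AddSubgroup.closure {c : KZero.K0sub (fun M : X.Modules => Coh.IsCoh M) |
        ∃ G : X.Modules, Coh.IsCoh G ∧ topologicalKrullDim ↥(CohB1.support G) < l.length ∧
          c = KZero.clSub (fun M : X.Modules => Coh.IsCoh M) G} ≤ (altHom k X l hl).ker := by
    rw [AddSubgroup.closure_le]
    rintro _ ⟨G, hG, hdim, rfl⟩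
    rw [SetLike.mem_coe, AddMonoidHom.mem_ker, altHom_clSub k X l hl G hG]
    haveI := hG.2
    have hcl : IsClosed (CohB1.support G) := SuppFT.isClosed_support G
    exact altSum_eq_zero k X l hl G hG ⟨CohB1.support G, hcl⟩ (fun _ h => h)
      (lt_of_le_of_lt (dimC_le_topologicalKrullDim ⟨CohB1.support G, hcl⟩) hdim)
  exact hle hc

open CycLenH8 in
/-- **multiplicity formula** for the alternating sums -/
theorem altSum_eq_finsum (l : List X.Modules) (hl : ∀ M ∈ l, PicF.IsInvertible M)
    (F : X.Modules) (hF : Coh.IsCoh F)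
    (hsupp : topologicalKrullDim ↥(CohB1.support F) ≤ l.length) :
    (altSum k X l F : ℚ) = ∑ᶠ ξ : X,
      (if topologicalKrullDim (closure ({ξ} : Set X)) = (l.length : WithBot ℕ∞) then
        ((Module.length (X.presheaf.stalk ξ) (F.presheaf.stalk ξ)).toNat : ℚ) *
          (altSum k X l (Cyc.closureStructureSheaf ξ) : ℚ) else 0) := by
  haveI : IsLocallyNoetherian X :=
    LocallyOfFiniteType.isLocallyNoetherian (X ↘ Spec (CommRingCat.of k))
  haveI : CompactSpace X :=
    QuasiCompact.compactSpace_of_compactSpace (X ↘ Spec (CommRingCat.of k))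
  haveI : IsNoetherian X := {}
  haveI := hF.2
  have hcl : IsClosed (CohB1.support F) := SuppFT.isClosed_support F
  have hmem := clSub_sub_lenSum_mem l.length F hF hsupp
  have h0 := altHom_eq_zero_of_mem k X l hl _ hmem
  rw [map_sub, altHom_clSub k X l hl F hF, sub_eq_zero] at h0
  rw [h0, lenSum_eq_sum hcl hsupp (fun _ h => h), map_sum]
  have hterm : ∀ ξ : X, ((altHom k X l hl (lenTerm l.length F ξ) : ℤ) : ℚ) =
      (if topologicalKrullDim (closure ({ξ} : Set X)) = (l.length : WithBot ℕ∞) then
        ((Module.length (X.presheaf.stalk ξ) (F.presheaf.stalk ξ)).toNat : ℚ) *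
          (altSum k X l (Cyc.closureStructureSheaf ξ) : ℚ) else 0) := by
    intro ξ
    unfold lenTerm
    split_ifs with h
    · rw [map_nsmul, altHom_clSub k X l hl _ (CohDevH8.isCoh_closureStructureSheaf ξ),
        nsmul_eq_mul]
      push_cast
      rfl
    · rw [map_zero]
      rfl
  rw [← funext hterm]
  symm
  push_cast
  apply finsum_eq_sum_of_support_subset
  rw [Set.Finite.coe_toFinset]
  refine Set.Subset.trans ?_ (lenTerm_support_subset hcl hsupp (fun _ h => h))
  intro ξ hξ
  rw [Function.mem_support] at hξ ⊢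
  intro h
  apply hξ
  rw [h, map_zero]
  rfl

/-- **S7686** -/
theorem main7686 (D : X.IdealSheafData) (d : ℕ)
    (hD : topologicalKrullDim (D.support : Set X) = d)
    (L : Fin d → X.Modules) (hL : ∀ i, PicF.IsInvertible (L i)) (P : MvPolynomial (Fin d) ℚ)
    (hP : ∀ n : Fin d → ℕ, (Curv2.euler k X (Curv2.tensorPows (ClSub.quotMod D) d L n) : ℚ) =
      MvPolynomial.eval (fun i => (n i : ℚ)) P)
    (Q : X → MvPolynomial (Fin d) ℚ)
    (hQ : ∀ ξ : X, topologicalKrullDim (closure ({ξ} : Set X)) = (d : WithBot ℕ∞) →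
      ∀ n : Fin d → ℕ, (Curv2.euler k X (Curv2.tensorPows (ClSub.quotMod
        (Scheme.IdealSheafData.vanishingIdeal
          (⟨closure ({ξ} : Set X), isClosed_closure⟩ : TopologicalSpace.Closeds X))) d L n) : ℚ) =
        MvPolynomial.eval (fun i => (n i : ℚ)) (Q ξ)) :
    MvPolynomial.coeff (Finsupp.equivFunOnFinite.symm fun _ : Fin d => 1) P =
      ∑ᶠ ξ : X, (if topologicalKrullDim (closure ({ξ} : Set X)) = (d : WithBot ℕ∞) then
        ((Module.length (X.presheaf.stalk ξ) ((ClSub.quotMod D).presheaf.stalk ξ)).toNat : ℚ) *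
          MvPolynomial.coeff (Finsupp.equivFunOnFinite.symm fun _ : Fin d => 1) (Q ξ) else 0) := by
  haveI : IsLocallyNoetherian X :=
    LocallyOfFiniteType.isLocallyNoetherian (X ↘ Spec (CommRingCat.of k))
  have hl : ∀ M ∈ List.ofFn L, PicF.IsInvertible M := by
    intro N hN
    obtain ⟨i, rfl⟩ := (List.mem_ofFn' L N).mp hN
    exact hL i
  have hlen : (List.ofFn L).length = d := List.length_ofFn
  have hPd := totalDegree_le_of_eval k X D d hD.le L hL P hP
  rw [coeff_eq_altSum k X (ClSub.quotMod D) d L P hPd hP,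
    altSum_eq_finsum k X (List.ofFn L) hl (ClSub.quotMod D) (CurveIdeal.isCoh_quotMod D)
      (by rw [hlen]; exact dim_support_quotMod_le k X D d hD.le), mul_finsum]
  congr 1
  funext ξ
  rw [hlen]
  split_ifs with h
  · have hdim : topologicalKrullDim (((Scheme.IdealSheafData.vanishingIdeal
        (⟨closure ({ξ} : Set X), isClosed_closure⟩ : TopologicalSpace.Closeds X)).support :
          TopologicalSpace.Closeds X) : Set X) ≤ (d : WithBot ℕ∞) := by
      rw [Scheme.IdealSheafData.coe_support_vanishingIdeal]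
      exact h.le
    have hQd := totalDegree_le_of_eval k X _ d hdim L hL (Q ξ) (hQ ξ h)
    rw [coeff_eq_altSum k X _ d L (Q ξ) hQd (hQ ξ h)]
    have : Cyc.closureStructureSheaf ξ = ClSub.quotMod (Scheme.IdealSheafData.vanishingIdeal
        (⟨closure ({ξ} : Set X), isClosed_closure⟩ : TopologicalSpace.Closeds X)) := rfl
    rw [this]
    ring
  · rw [mul_zero]

end K0

end Snap9
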