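import Mathlib
import Groth.Prelude
import Groth.Agent.Lib.Snap9_helper9

/-!
# Intersection numbers `FGA.intNum` and multiplicities (helper9).
APPEND-ONLY once landed.
-/

set_option autoImplicit false
universe u
open CategoryTheory CategoryTheory.Limits AlgebraicGeometry Opposite TopologicalSpace

namespace Snap9

section Main14521

variable (k : Type u) [Field k] (X : Scheme.{u}) [X.Over (Spec (CommRingCat.of k))]
  [IsProper (X ↘ Spec (CommRingCat.of k))]

/-- **S14521** -/
theorem main14521 (d : ℕ) (hd : topologicalKrullDim X ≤ d)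
    {r : ℕ} (M : Fin r → X.Modules) (hM : ∀ i, PicF.IsInvertible (M i))
    (F : X.Modules) (hF : Coh.IsCoh F) (hsupp : topologicalKrullDim ↥(CohB1.support F) ≤ r)
    (s : Finset X) (hs : ∀ ξ : X, ξ ∈ s ↔ ξ ∈ CohB1.support F ∧
      topologicalKrullDim ↥(closure ({ξ} : Set X)) = r) :
    FGA.intNum k X d M F =
      ∑ ξ ∈ s, ((Module.length (X.presheaf.stalk ξ) (F.presheaf.stalk ξ)).toNat : ℤ) *
        FGA.intNum k X d M (ClSub.quotMod (Scheme.IdealSheafData.vanishingIdeal
          ⟨closure ({ξ} : Set X), isClosed_closure⟩)) := by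
  have hl : ∀ N ∈ List.ofFn M, PicF.IsInvertible N := by
    intro N hN
    obtain ⟨i, rfl⟩ := (List.mem_ofFn' M N).mp hN
    exact hM i
  have hlen : (List.ofFn M).length = r := List.length_ofFn
  apply Int.cast_injective (α := ℚ)
  rw [intNum_eq_altSum k X d hd, altSum_eq_finsum k X (List.ofFn M) hl F hF
    (by rw [hlen]; exact hsupp)]
  push_cast
  have hterm : ∀ ξ ∈ s, ((Module.length (X.presheaf.stalk ξ) (F.presheaf.stalk ξ)).toNat : ℚ) *
      (FGA.intNum k X d M (ClSub.quotMod (Scheme.IdealSheafData.vanishingIdeal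
          ⟨closure ({ξ} : Set X), isClosed_closure⟩)) : ℚ) =
      (if topologicalKrullDim (closure ({ξ} : Set X)) = ((List.ofFn M).length : WithBot ℕ∞) then
        ((Module.length (X.presheaf.stalk ξ) (F.presheaf.stalk ξ)).toNat : ℚ) *
          (altSum k X (List.ofFn M) (Cyc.closureStructureSheaf ξ) : ℚ) else 0) := by
    intro ξ hξ
    rw [hs] at hξ
    rw [hlen, if_pos hξ.2, intNum_eq_altSum k X d hd]
    rfl
  rw [Finset.sum_congr rfl hterm]
  apply finsum_eq_sum_of_support_subset
  intro ξ hξ
  rw [Function.mem_support] at hξ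
  rw [Finset.mem_coe, hs]
  by_cases h : topologicalKrullDim ↥(closure ({ξ} : Set X)) = (r : WithBot ℕ∞)
  · refine ⟨?_, h⟩
    intro hsub
    apply hξ
    rw [hlen, if_pos h]
    have : Module.length (X.presheaf.stalk ξ) (F.presheaf.stalk ξ) = 0 :=
      Module.length_eq_zero_iff.mpr hsub
    rw [this]
    simp
  · exfalso
    apply hξ
    rw [hlen, if_neg h]

end Main14521

end Snap9
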