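import Mathlib
import Groth.Prelude
import Groth.Agent.Lib.Snap11_helper9
import Groth.Agent.Lib.CMMul1_helper9
import Groth.Agent.Lib.NegTw2_helper9
import Groth.Agent.Lib.PForm2_helper9
import Groth.Agent.Lib.NodalG0a_helper9
import Groth.Agent.Lib.Tens31_helper8

/-!
# Intersection with an effective Cartier divisor, `FGA.intNum` form (helper9).
APPEND-ONLY once landed.
-/

set_option autoImplicit false
universe u
open CategoryTheory CategoryTheory.Limits AlgebraicGeometry TopologicalSpace Opposite
open TensorProduct MonoidalCategory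

namespace Snap9

open QcqsLoc QCohExtn SerreCrit GenLocH8 TensH8 Groth.Agent.TensInv FLFH8

section Unit

variable {X : Scheme.{u}}

/-- section formula for `L ⊗ ψ` -/
theorem ap_tL_map_tmul {A B : X.Modules} (ψ : A ⟶ B) (L : X.Modules) (U : X.Opens)
    (s : Γ(L, U)) (a : Γ(A, U)) :
    ap ((tL L).map ψ) U (SecTwist.tmul L A U s a) = SecTwist.tmul L B U s (ap ψ U a) := by
  let adj := PresheafOfModules.sheafificationAdjunction.{u, u, u, u}
    (J := Opens.grothendieckTopology X) (𝟙 X.ringCatSheaf.obj)
  let P : X.PresheafOfModules := CohB1.tensorPre L A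
  let Q : X.PresheafOfModules := CohB1.tensorPre L B
  let g : P ⟶ Q := (show (CohB1.tensorPre L A : CohB1.PMod X) ⟶
      (CohB1.tensorPre L B : CohB1.PMod X) from
    CohB1.toPMod L ◁ (show CohB1.toPMod A ⟶ CohB1.toPMod B from ψ.val))
  let x : ↥((CohB1.tensorPre L A).obj (op U)) := s ⊗ₜ a
  have natU : ((adj.unit.app Q).app (op U)).hom ((g.app (op U)).hom x) =
      ((((CohB1.sheafifyMod X).map g).val.app (op U)).hom
        (((adj.unit.app P).app (op U)).hom x)) :=
    congrArg (fun φ => (PresheafOfModules.Hom.app φ (op U)).hom x) (adj.unit.naturality g)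
  have hg : (g.app (op U)).hom x =
      (s ⊗ₜ (ap ψ U a : Γ(B, U)) : ↥((CohB1.tensorPre L B).obj (op U))) := by
    rfl
  rw [hg] at natU
  exact natU.symm

/-- The right unit isomorphism `F ⊗ O ≅ F` of the sectionwise tensor product. -/
noncomputable def unitorPreR (F : X.Modules) :
    (CohB1.tensorPre F (Coh.structureModule X) : X.PresheafOfModules) ≅ F.val :=
  (ρ_ (CohB1.toPMod F) : (CohB1.tensorPre F (Coh.structureModule X) : CohB1.PMod X) ≅
    (CohB1.toPMod F : CohB1.PMod X))

theorem unitorPreR_hom_tmul (F : X.Modules) (U : X.Opens) (t : F.val.obj (op U))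
    (r : X.ringCatSheaf.obj.obj (op U)) :
    ((unitorPreR F).hom.app (op U)).hom
        ((t ⊗ₜ (r : (Coh.structureModule X).val.obj (op U)) :
          ↥((CohB1.tensorPre F (Coh.structureModule X)).obj (op U)))) = r • t := by
  change ((ρ_ (CohB1.toPMod F)).hom.app (op U)).hom _ = _
  simp [PresheafOfModules.rightUnitor_hom_app]
  rfl

/-- The canonical identification `F ⊗ O ≅ F`. -/
noncomputable def unitorR (F : X.Modules) : CohB1.tensorMod F (Coh.structureModule X) ≅ F :=
  (CohB1.sheafifyMod X).mapIso (unitorPreR F) ≪≫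
    (asIso (PresheafOfModules.sheafificationAdjunction.{u, u, u, u}
      (J := Opens.grothendieckTopology X) (𝟙 X.ringCatSheaf.obj)).counit).app F

theorem unitorR_tmul (F : X.Modules) (U : X.Opens) (t : F.val.obj (op U))
    (r : X.ringCatSheaf.obj.obj (op U)) :
    ((unitorR F).hom.val.app (op U)).hom
        (SecTwist.tmul F (Coh.structureModule X) U t
          (r : (Coh.structureModule X).val.obj (op U))) = r • t := by
  let adj := PresheafOfModules.sheafificationAdjunction.{u, u, u, u}
    (J := Opens.grothendieckTopology X) (𝟙 X.ringCatSheaf.obj)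
  let P : X.PresheafOfModules := CohB1.tensorPre F (Coh.structureModule X)
  let x : ↥((CohB1.tensorPre F (Coh.structureModule X)).obj (op U)) :=
    t ⊗ₜ (r : (Coh.structureModule X).val.obj (op U))
  have natU : ((adj.unit.app F.val).app (op U)).hom (((unitorPreR F).hom.app (op U)).hom x) =
      ((((CohB1.sheafifyMod X).map (unitorPreR F).hom).val.app (op U)).hom
        (((adj.unit.app P).app (op U)).hom x)) :=
    congrArg (fun φ => (PresheafOfModules.Hom.app φ (op U)).hom x)
      (adj.unit.naturality (unitorPreR F).hom)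
  rw [unitorPreR_hom_tmul] at natU
  have triU : (((adj.counit.app F).val.app (op U)).hom
      (((adj.unit.app F.val).app (op U)).hom (r • t))) = r • t :=
    congrArg (fun φ => (PresheafOfModules.Hom.app φ (op U)).hom (r • t))
      (adj.right_triangle_components F)
  change ((((CohB1.sheafifyMod X).map (unitorPreR F).hom ≫ adj.counit.app F).val.app (op U)).hom
      (((adj.unit.app P).app (op U)).hom x)) = r • t
  rw [← triU, natU]
  rfl

theorem unitorR_tmul' (F : X.Modules) (U : X.Opens) (t : Γ(F, U)) (r : Γ(X, U)) :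
    ap (unitorR F).hom U (SecTwist.tmul F (Coh.structureModule X) U t (toM r)) = r • t :=
  unitorR_tmul F U t r

open NegTw9 in
/-- `mu τ G` is `G ⊗ τ` followed by the unit isomorphism -/
theorem mu_eq {T : X.Modules} (τ : T ⟶ Coh.structureModule X) (G : X.Modules) :
    mu τ G = (tL G).map τ ≫ (unitorR G).hom := by
  apply PFormH9.hom_ext_tmul
  intro U g a
  have h1 := mu_tmul τ G U g a
  have h2 := ap_tL_map_tmul τ G U g a
  have h3 := unitorR_tmul' G U g (ofM (ap τ U a))
  show ap (mu τ G) U (SecTwist.tmul G T U g a) =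
    ap (unitorR G).hom U (ap ((tL G).map τ) U (SecTwist.tmul G T U g a))
  rw [h1, h2]
  exact h3.symm

/-- the cokernel of `F ⊗ f` for a short exact sequence -/
noncomputable def cokerTLIso (F : X.Modules) (S : ShortComplex X.Modules)
    (hS : S.ShortExact) : cokernel ((tL F).map S.f) ≅ (tL F).obj S.X₃ := by
  haveI := NodalG0.preservesColimits_tL F
  haveI : PreservesColimitsOfSize.{0, 0} (tL F) := preservesSmallestColimits_of_preservesColimits _
  exact IsColimit.coconePointUniqueUpToIso (colimit.isColimit _)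
    (CokernelCofork.mapIsColimit _ hS.gIsCokernel (tL F))

open NegTw9 in
/-- `coker (F ⊗ I_D → F) ≅ F ⊗ O_D` -/
theorem nonempty_cokernel_mu_iso (D : X.IdealSheafData) (F : X.Modules) :
    Nonempty (cokernel (mu (ClSub.idealModι D) F) ≅ CohB1.tensorMod F (ClSub.quotMod D)) := by
  rw [mu_eq]
  exact ⟨cokernelCompIsIso _ _ ≪≫
    cokerTLIso F (Groth.Agent.HypSurf.ses D) (Groth.Agent.HypSurf.ses_shortExact D)⟩

end Unit

section Alt

variable (k : Type u) [Field k] (X : Scheme.{u}) [X.Over (Spec (CommRingCat.of k))]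
  [IsProper (X ↘ Spec (CommRingCat.of k))]

theorem altSum_swap (A B : X.Modules) (l : List X.Modules) (G : X.Modules) :
    altSum k X (A :: B :: l) G = altSum k X (B :: A :: l) G := by
  simp only [altSum_cons]
  rw [altSum_of_iso k X l (swapR G A B)]
  ring

theorem altSum_append_singleton (l : List X.Modules) (A G : X.Modules) :
    altSum k X (l ++ [A]) G = altSum k X l G - altSum k X l (CohB1.tensorMod G A) := by
  induction l generalizing G with
  | nil => rfl
  | cons N l ih =>
    rw [List.cons_append, altSum_cons, ih, ih, altSum_cons, altSum_cons,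
      altSum_of_iso k X l (swapR G N A)]
    ring

open NegTw9 in
/-- peeling off a factor with a "dual section" which is injective on `G` -/
theorem altSum_cons_of_mono (l : List X.Modules) (hl : ∀ M ∈ l, PicF.IsInvertible M)
    {T : X.Modules} (hT : PicF.IsInvertible T) (τ : T ⟶ Coh.structureModule X) (G : X.Modules)
    (hG : Coh.IsCoh G) [Mono (mu τ G)] :
    altSum k X (T :: l) G = altSum k X l (cokernel (mu τ G)) := by
  haveI : IsLocallyNoetherian X :=
    LocallyOfFiniteType.isLocallyNoetherian (X ↘ Spec (CommRingCat.of k))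
  have hS := shortExact_cokernel (mu τ G)
  have hGT := isCoh_tensorMod hG hT
  have h := altSum_additive k X l hl _ hS hGT hG (CohKerH8.isCoh_cokernel hGT hG _)
  have h' : altSum k X l G = altSum k X l (CohB1.tensorMod G T) +
      altSum k X l (cokernel (mu τ G)) := h
  rw [altSum_cons, h']
  ring

end Alt

section Cartier2

variable {X : Scheme.{u}}

/-- a local generator of the ideal of `D` is invertible away from `D` -/
theorem mem_basicOpen_idealModι (D : X.IdealSheafData) {W : X.Opens}
    {e : Γ(ClSub.idealMod D, W)} (he : IsGen (ClSub.idealMod D) W e) {x : X} (hxW : x ∈ W)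
    (hx : x ∉ D.support) : x ∈ X.basicOpen (ofM (ap (ClSub.idealModι D) W e)) := by
  have hsub : Subsingleton ((ClSub.quotMod D).presheaf.stalk x) := by
    by_contra h
    exact hx (CurveIdeal.support_quotMod_subset D (Iso.refl _) h)
  have hS := Groth.Agent.HypSurf.ses_shortExact D
  haveI : Mono (Groth.Agent.HypSurf.ses D).f := hS.mono_f
  have h0 : (ClSub.quotMod D).presheaf.germ W x hxW (ap (ClSub.toSubscheme D) W (toM 1)) =
      (ClSub.quotMod D).presheaf.germ W x hxW 0 := Subsingleton.elim _ _
  obtain ⟨V, hxV, i, i', hV⟩ := TopCat.Presheaf.germ_eq (ClSub.quotMod D).presheaf x hxW hxW _ _ h0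
  rw [map_zero] at hV
  have hVW : V ≤ W := i.le
  have h2 : ap (ClSub.toSubscheme D) V (rF (Coh.structureModule X) hVW (toM 1)) = 0 := by
    rw [ap_rF]
    exact hV
  obtain ⟨a, ha⟩ := QCohExact.app_exact (Groth.Agent.HypSurf.ses D) hS.exact V _ h2
  obtain ⟨c, hc⟩ := (he.res hVW).exists_coef a
  have ha' : ap (ClSub.idealModι D) V a = rF (Coh.structureModule X) hVW (toM 1) := ha
  rw [hc, ap_smul, ap_rF] at ha'
  have h3 : c * rX hVW (ofM (ap (ClSub.idealModι D) W e)) = 1 := by
    have h4 := congrArg ofM ha'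
    have h5 : ofM (rF (Coh.structureModule X) hVW (toM (1 : Γ(X, W)))) = 1 := map_one (rX hVW)
    rw [h5] at h4
    exact h4
  have hu : IsUnit (rX hVW (ofM (ap (ClSub.idealModι D) W e))) :=
    IsUnit.of_mul_eq_one c ((mul_comm _ _).trans h3)
  have h6 := Scheme.basicOpen_of_isUnit X hu
  rw [basicOpen_rX] at h6
  have h7 : x ∈ V ⊓ X.basicOpen (ofM (ap (ClSub.idealModι D) W e)) := by
    rw [h6]; exact hxV
  exact h7.2

end Cartier2

section Main14522

variable (k : Type u) [Field k] (X : Scheme.{u}) [X.Over (Spec (CommRingCat.of k))]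
  [IsProper (X ↘ Spec (CommRingCat.of k))]

open NegTw9 in
/-- **S14522** -/
theorem main14522 (d : ℕ) (hd : topologicalKrullDim X ≤ d)
    {r : ℕ} (M : Fin r → X.Modules) (hM : ∀ i, PicF.IsInvertible (M i))
    (F : X.Modules) (hF : Coh.IsCoh F)
    (D : X.IdealSheafData) (hD : BlowUp.IsEffCartierIdeal D)
    (hass : ∀ x ∈ D.support, ¬ Curv2.IsAssPoint F x) :
    FGA.intNum k X d (Fin.snoc M (ClSub.idealMod D)) F =
      FGA.intNum k X d M (CohB1.tensorMod F (ClSub.quotMod D)) := by
  haveI : IsLocallyNoetherian X :=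
    LocallyOfFiniteType.isLocallyNoetherian (X ↘ Spec (CommRingCat.of k))
  haveI := hF.1
  have hl : ∀ N ∈ List.ofFn M, PicF.IsInvertible N := by
    intro N hN
    obtain ⟨i, rfl⟩ := (List.mem_ofFn' M N).mp hN
    exact hM i
  have hT : PicF.IsInvertible (ClSub.idealMod D) :=
    TensH8.isInvertible_idealMod_of_isEffCartierIdeal D hD
  haveI : Mono (mu (ClSub.idealModι D) F) := by
    apply mono_mu hT
    intro x hx W e he hxW
    exact mem_basicOpen_idealModι D he hxW (fun h => hass x h hx)
  obtain ⟨ε⟩ := nonempty_cokernel_mu_iso D F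
  rw [intNum_eq_altSum k X d hd, intNum_eq_altSum k X d hd, List.ofFn_succ',
    List.concat_eq_append, altSum_append_singleton]
  simp only [Fin.snoc_castSucc, Fin.snoc_last]
  have h1 := altSum_cons_of_mono k X (List.ofFn M) hl hT (ClSub.idealModι D) F hF
  rw [altSum_cons] at h1
  rw [h1, altSum_of_iso k X _ ε]

end Main14522

end Snap9
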