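import Mathlib
import Groth.Prelude
import Groth.Agent.Lib.Snap12_helper9
import Groth.Agent.Lib.CycLen2_helper8
import Groth.Agent.Lib.CohDev6_helper8
import Groth.Agent.Lib.EquidimSub2_helper8

/-!
# Positivity of intersection numbers of ample modules, I: dimension lemmas (helper9).
APPEND-ONLY once landed.
-/

set_option autoImplicit false
universe u
open CategoryTheory CategoryTheory.Limits AlgebraicGeometry Opposite TopologicalSpace

namespace Snap9

open Groth.Agent.Lib.GVanH2

section DimLemmas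

variable {X : Scheme.{u}}

theorem withBot_lt_succ_iff (x : WithBot ℕ∞) (r : ℕ) :
    x < ((r + 1 : ℕ) : WithBot ℕ∞) ↔ x ≤ (r : WithBot ℕ∞) := by
  induction x using WithBot.recBotCoe with
  | bot => simp
  | coe y =>
    induction y using ENat.recTopCoe with
    | top =>
      constructor
      · intro h
        exact absurd h (not_lt.mpr le_top)
      · intro h
        exfalso
        have h1 : ((⊤ : ℕ∞) : WithBot ℕ∞) ≤ ((r : ℕ∞) : WithBot ℕ∞) := h
        rw [WithBot.coe_le_coe] at h1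
        exact absurd h1 (not_le.mpr (ENat.coe_lt_top r))
    | coe m =>
      have h1 : (((m : ℕ∞) : WithBot ℕ∞)) = ((m : ℕ) : WithBot ℕ∞) := rfl
      rw [h1, Nat.cast_lt, Nat.cast_le, Nat.lt_succ_iff]

theorem topologicalKrullDim_le_dimC (Z : Closeds X) :
    topologicalKrullDim ↥(Z : Set X) ≤ dimC (X := X.toTopCat) Z := by
  have hg : Topology.IsInducing (Subtype.val : ↥(Z : Set X) → X) := Topology.IsInducing.subtypeVal
  refine Order.krullDim_le_of_strictMono
    (fun C : IrreducibleCloseds ↥(Z : Set X) =>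
      (⟨IrreducibleCloseds.map Subtype.val continuous_subtype_val C, ?_⟩ :
        {C : IrreducibleCloseds X // (C : Set X) ⊆ (Z : Set X)})) ?_
  · refine closure_minimal ?_ Z.isClosed
    rintro _ ⟨c, -, rfl⟩
    exact c.2
  · intro C₁ C₂ h
    exact IrreducibleCloseds.map_strictMono_of_isInducing hg h

theorem dimC_eq (Z : Closeds X) :
    dimC (X := X.toTopCat) Z = topologicalKrullDim ↥(Z : Set X) :=
  le_antisymm (dimC_le_topologicalKrullDim Z) (topologicalKrullDim_le_dimC Z)

theorem length_le_dimC {Z Z' : Closeds X}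
    (l : LTSeries {T : IrreducibleCloseds X // (T : Set X) ⊆ (Z : Set X)})
    (h : (l.last.1 : Set X) ⊆ (Z' : Set X)) :
    (l.length : WithBot ℕ∞) ≤ dimC (X := X.toTopCat) Z' := by
  let l' : LTSeries {T : IrreducibleCloseds X // (T : Set X) ⊆ (Z' : Set X)} :=
    { length := l.length
      toFun := fun i => ⟨(l i).1, fun x hx => h ((l.monotone (Fin.le_last i)) hx)⟩
      step := fun i => l.step i }
  exact Order.LTSeries.length_le_krullDim l'

/-- a closed set of dimension `≥ r` contains a point whose closure has dimension `≥ r` -/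
theorem exists_point_of_le_dimC {Z : Closeds X} {r : ℕ}
    (h : (r : WithBot ℕ∞) ≤ dimC (X := X.toTopCat) Z) :
    ∃ ξ : X, ξ ∈ (Z : Set X) ∧
      (r : WithBot ℕ∞) ≤ dimC (X := X.toTopCat) ⟨closure {ξ}, isClosed_closure⟩ := by
  obtain ⟨l, hl⟩ := Order.le_krullDim_iff.mp h
  obtain ⟨ξ, hξ⟩ := QuasiSober.sober (α := X) l.last.1.isIrreducible l.last.1.isClosed
  refine ⟨ξ, l.last.2 hξ.mem, ?_⟩
  rw [← hl]
  apply length_le_dimC l
  intro x hx
  show x ∈ closure ({ξ} : Set X)
  rw [hξ.def]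
  exact hx

/-- a point whose closure has dimension `≥ r + 1` has a proper specialization whose closure has
dimension `≥ r` -/
theorem exists_specialization_of_le_dimC {ξ : X} {r : ℕ}
    (h : ((r + 1 : ℕ) : WithBot ℕ∞) ≤ dimC (X := X.toTopCat) ⟨closure {ξ}, isClosed_closure⟩) :
    ∃ η : X, ξ ⤳ η ∧ η ≠ ξ ∧
      (r : WithBot ℕ∞) ≤ dimC (X := X.toTopCat) ⟨closure {η}, isClosed_closure⟩ := by
  obtain ⟨l, hl⟩ := Order.le_krullDim_iff.mp h
  have hne : l.length ≠ 0 := by omega
  have hlt : l.eraseLast.last < l.last := l.eraseLast_last_rel_last hne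
  obtain ⟨η, hη⟩ := QuasiSober.sober (α := X) l.eraseLast.last.1.isIrreducible
    l.eraseLast.last.1.isClosed
  have hηZ : η ∈ closure ({ξ} : Set X) := l.eraseLast.last.2 hη.mem
  refine ⟨η, specializes_iff_mem_closure.mpr hηZ, ?_, ?_⟩
  · rintro rfl
    obtain ⟨x, hx1, hx2⟩ := SetLike.exists_of_lt (show l.eraseLast.last.1 < l.last.1 from hlt)
    apply hx2
    have h3 : x ∈ closure ({η} : Set X) := l.last.2 hx1
    rw [hη.def] at h3
    exact h3
  · have hlen : l.eraseLast.length = r := by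
      simp only [RelSeries.eraseLast_length]
      omega
    rw [← hlen]
    apply length_le_dimC l.eraseLast
    intro x hx
    show x ∈ closure ({η} : Set X)
    rw [hη.def]
    exact hx

end DimLemmas

section SuppCoker

open QcqsLoc QCohExtn SerreCrit GenLocH8 TensH8 FLFH8 NegTw9

variable {X : Scheme.{u}}

/-- where `τ` does not vanish, the cokernel of `mu τ G` has trivial stalk -/
theorem subsingleton_stalk_cokernel_mu {T : X.Modules} (τ : T ⟶ Coh.structureModule X)
    (G : X.Modules) {W : X.Opens} {e : Γ(T, W)} {x : X}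
    (hx : x ∈ X.basicOpen (ofM (ap τ W e))) :
    Subsingleton ((cokernel (mu τ G)).presheaf.stalk x) := by
  refine ⟨fun a b => ?_⟩
  suffices h : ∀ c : (cokernel (mu τ G)).presheaf.stalk x, c = 0 by rw [h a, h b]
  intro c
  obtain ⟨g₀, rfl⟩ := EpiLoc.stalk_surjective_of_epi (cokernel.π (mu τ G)) x c
  obtain ⟨V₀, hxV₀, g, rfl⟩ := TopCat.Presheaf.exists_germ_eq G.presheaf g₀
  set f := ofM (ap τ W e) with hf
  have hVW : V₀ ⊓ X.basicOpen f ≤ W := inf_le_right.trans (X.basicOpen_le f)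
  have hxV : x ∈ V₀ ⊓ X.basicOpen f := ⟨hxV₀, hx⟩
  have hu : IsUnit (rX hVW f) := by
    have h1 : IsUnit (rX (X.basicOpen_le f) f) := X.toRingedSpace.isUnit_res_basicOpen f
    have h2 : rX hVW f =
        rX (inf_le_right : V₀ ⊓ X.basicOpen f ≤ X.basicOpen f) (rX (X.basicOpen_le f) f) :=
      (rX_rX _ _ f).symm
    rw [h2]
    exact h1.map _
  obtain ⟨v, hv⟩ := hu.exists_left_inv
  have hκ : ap (mu τ G) (V₀ ⊓ X.basicOpen f)
      (SecTwist.tmul G T (V₀ ⊓ X.basicOpen f)
        (v • rF G (inf_le_left : V₀ ⊓ X.basicOpen f ≤ V₀) g) (rF T hVW e)) =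
      rF G (inf_le_left : V₀ ⊓ X.basicOpen f ≤ V₀) g := by
    rw [mu_tmul, ap_rF]
    have h3 : ofM (rF (Coh.structureModule X) hVW (ap τ W e)) = rX hVW f := rfl
    rw [h3, ← mul_smul, mul_comm, hv, one_smul]
  have h0 : ap (cokernel.π (mu τ G)) (V₀ ⊓ X.basicOpen f)
      (rF G (inf_le_left : V₀ ⊓ X.basicOpen f ≤ V₀) g) = 0 := by
    rw [← hκ, ← SerreCrit.ap_comp, cokernel.condition]
    rfl
  rw [← TopCat.Presheaf.germ_res_apply G.presheaf
    (homOfLE (inf_le_left : V₀ ⊓ X.basicOpen f ≤ V₀)) x hxV g]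
  refine (DescH8.stk_germ (cokernel.π (mu τ G)) hxV _).trans ?_
  have h4 : (cokernel.π (mu τ G)).app (V₀ ⊓ X.basicOpen f)
      (G.presheaf.map (homOfLE (inf_le_left : V₀ ⊓ X.basicOpen f ≤ V₀)).op g) = 0 := h0
  rw [h4, map_zero]

/-- the support of the cokernel of `mu τ G` lies in the support of `G` -/
theorem support_cokernel_mu_subset {T : X.Modules} (τ : T ⟶ Coh.structureModule X)
    (G : X.Modules) : CohB1.support (cokernel (mu τ G)) ⊆ CohB1.support G := by
  intro x hx hG
  apply hx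
  refine ⟨fun a b => ?_⟩
  obtain ⟨a', rfl⟩ := EpiLoc.stalk_surjective_of_epi (cokernel.π (mu τ G)) x a
  obtain ⟨b', rfl⟩ := EpiLoc.stalk_surjective_of_epi (cokernel.π (mu τ G)) x b
  have hab : a' = b' := hG.elim a' b'
  rw [hab]

/-- where `τ` vanishes, the cokernel of `mu τ G` has the same support as `G` -/
theorem mem_support_cokernel_mu {T : X.Modules} (τ : T ⟶ Coh.structureModule X)
    (G : X.Modules) (hG : Coh.IsCoh G) [Mono (mu τ G)] {W : X.Opens} {e : Γ(T, W)}
    (he : IsGen T W e) {x : X} (hxW : x ∈ W) (hx : x ∉ X.basicOpen (ofM (ap τ W e)))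
    (hxG : x ∈ CohB1.support G) : x ∈ CohB1.support (cokernel (mu τ G)) := by
  intro hsub
  apply hxG
  haveI := hG.1
  haveI := hG.2
  haveI := SuppStalkH8.finite_stalk G x
  have hle : (⊤ : Submodule (X.presheaf.stalk x) (G.presheaf.stalk x)) ≤
      IsLocalRing.maximalIdeal (X.presheaf.stalk x) •
        (⊤ : Submodule (X.presheaf.stalk x) (G.presheaf.stalk x)) := by
    intro g₀ _
    have hex := CycLenH8.stalk_exact _ (shortExact_cokernel (mu τ G)) x
    obtain ⟨κ₀, hκ₀⟩ := (hex g₀).mp (Subsingleton.elim _ _)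
    obtain ⟨V₀, hxV₀, κ, rfl⟩ := TopCat.Presheaf.exists_germ_eq _ κ₀
    have hxV : x ∈ V₀ ⊓ W := ⟨hxV₀, hxW⟩
    obtain ⟨g', hg1, hg2⟩ := mu_local τ G (he.res (inf_le_right : V₀ ⊓ W ≤ W))
      (rF _ (inf_le_left : V₀ ⊓ W ≤ V₀) κ)
    have h1 : g₀ = G.presheaf.germ (V₀ ⊓ W) x hxV
        (ofM (ap τ (V₀ ⊓ W) (rF T (inf_le_right : V₀ ⊓ W ≤ W) e)) • g') := by
      rw [← hκ₀, ← hg2]
      rw [← TopCat.Presheaf.germ_res_apply (CohB1.tensorMod G T).presheaf
        (homOfLE (inf_le_left : V₀ ⊓ W ≤ V₀)) x hxV κ]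
      exact DescH8.stk_germ (mu τ G) hxV _
    rw [h1, Groth.Agent.Lib.QCohLoc_helper4.germ_smul]
    apply Submodule.smul_mem_smul _ Submodule.mem_top
    rw [IsLocalRing.mem_maximalIdeal, mem_nonunits_iff]
    intro hunit
    apply hx
    have h2 : ofM (ap τ (V₀ ⊓ W) (rF T (inf_le_right : V₀ ⊓ W ≤ W) e)) =
        rX (inf_le_right : V₀ ⊓ W ≤ W) (ofM (ap τ W e)) := by
      rw [ap_rF]
      rfl
    rw [h2] at hunit
    have h3 : x ∈ X.basicOpen (rX (inf_le_right : V₀ ⊓ W ≤ W) (ofM (ap τ W e))) :=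
      (Scheme.mem_basicOpen X _ x hxV).mpr hunit
    rw [basicOpen_rX] at h3
    exact h3.2
  have hbot := Submodule.eq_bot_of_le_smul_of_le_jacobson_bot
    (IsLocalRing.maximalIdeal (X.presheaf.stalk x))
    (⊤ : Submodule (X.presheaf.stalk x) (G.presheaf.stalk x)) Module.Finite.fg_top hle
    (IsLocalRing.maximalIdeal_le_jacobson _)
  exact (Submodule.subsingleton_iff (X.presheaf.stalk x)).mp
    ((subsingleton_iff_bot_eq_top).mp hbot.symm)

end SuppCoker

section Css

open QcqsLoc QCohExtn SerreCrit GenLocH8 TensH8 FLFH8 NegTw9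

variable {X : Scheme.{u}}

/-- the support of the structure sheaf of the closure of a point is the whole closure -/
theorem mem_support_css (ξ : X) {x : X} (hx : x ∈ closure ({ξ} : Set X)) :
    x ∈ CohB1.support (Cyc.closureStructureSheaf ξ) := by
  have hr := EquidimSubH8.range_vanishingIdeal_subschemeι
    (⟨closure ({ξ} : Set X), isClosed_closure⟩ : Closeds X)
  have hx' : x ∈ Set.range (IntMult.ptIdeal ξ).subschemeι.base := by
    rw [show IntMult.ptIdeal ξ = Scheme.IdealSheafData.vanishingIdeal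
      ⟨closure ({ξ} : Set X), isClosed_closure⟩ from rfl, hr]
    exact hx
  obtain ⟨z, rfl⟩ := hx'
  intro hsub
  have hb := CycLenH8.pushStalkHom_bijective (IntMult.ptIdeal ξ).subschemeι
    (Coh.structureModule (IntMult.ptIdeal ξ).subscheme)
    (IntMult.ptIdeal ξ).subschemeι.isEmbedding.isInducing z
  haveI : Subsingleton ((Cyc.closureStructureSheaf ξ).presheaf.stalk
    ((IntMult.ptIdeal ξ).subschemeι z)) := hsub
  have h1 : Subsingleton ((Coh.structureModule (IntMult.ptIdeal ξ).subscheme).presheaf.stalk z) :=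
    ⟨fun a b => by
      obtain ⟨a', rfl⟩ := hb.2 a
      obtain ⟨b', rfl⟩ := hb.2 b
      have hab : a' = b' := hsub.elim a' b'
      rw [hab]⟩
  have h2 : Subsingleton ((IntMult.ptIdeal ξ).subscheme.presheaf.stalk z) :=
    (CycLenH8.stalkStructureEquiv z).toEquiv.subsingleton
  exact not_subsingleton _ h2

/-- a section of `O_Z` (`Z` the closure of `ξ`) killed by a function not vanishing at `ξ` is zero -/
theorem css_eq_zero_of_smul_eq_zero (ξ : X) {W : X.Opens} (f : Γ(X, W))
    (g : Γ(Cyc.closureStructureSheaf ξ, W)) (hfg : f • g = 0)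
    (h : ξ ∈ W → ξ ∈ X.basicOpen f) : g = 0 := by
  obtain ⟨hint, -⟩ := CohDevH8.exists_isIntegral_subscheme (closure ({ξ} : Set X))
    isClosed_closure ξ rfl
  have hr := EquidimSubH8.range_vanishingIdeal_subschemeι
    (⟨closure ({ξ} : Set X), isClosed_closure⟩ : Closeds X)
  set I := Scheme.IdealSheafData.vanishingIdeal
    (⟨closure ({ξ} : Set X), isClosed_closure⟩ : Closeds X) with hI
  haveI : IsIntegral I.subscheme := hint
  by_cases hξW : ξ ∈ W
  · have hξr : ξ ∈ Set.range I.subschemeι.base := by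
      rw [hr]
      exact subset_closure (Set.mem_singleton ξ)
    obtain ⟨z₀, hz₀⟩ := hξr
    have hz₀W : z₀ ∈ I.subschemeι ⁻¹ᵁ W := by
      show I.subschemeι z₀ ∈ W
      rw [hz₀]
      exact hξW
    haveI hdom : IsDomain Γ(I.subscheme, I.subschemeι ⁻¹ᵁ W) :=
      @IsIntegral.component_integral _ _ (I.subschemeι ⁻¹ᵁ W) ⟨⟨z₀, hz₀W⟩⟩
    have hmul : (I.subschemeι.app W).hom f * (show Γ(I.subscheme, I.subschemeι ⁻¹ᵁ W) from g) = 0 :=
      hfg
    rcases mul_eq_zero.mp hmul with h0 | h0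
    · exfalso
      have h1 : z₀ ∈ I.subschemeι ⁻¹ᵁ X.basicOpen f := by
        show I.subschemeι z₀ ∈ X.basicOpen f
        rw [hz₀]
        exact h hξW
      rw [Scheme.preimage_basicOpen] at h1
      have h2 : I.subscheme.basicOpen ((I.subschemeι.app W).hom f) = ⊥ := by
        rw [h0]
        exact Scheme.basicOpen_zero _ _
      have h3 : z₀ ∈ I.subscheme.basicOpen ((I.subschemeι.app W).hom f) := h1
      rw [h2] at h3
      exact h3
    · exact h0
  · have hbot : I.subschemeι ⁻¹ᵁ W = ⊥ := by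
      ext z
      simp only [Opens.coe_bot, Set.mem_empty_iff_false, iff_false]
      intro hz
      apply hξW
      have hz' : I.subschemeι z ∈ closure ({ξ} : Set X) := by
        have hz2 : I.subschemeι z ∈ Set.range I.subschemeι.base := ⟨z, rfl⟩
        rw [hr] at hz2
        exact hz2
      exact (specializes_iff_mem_closure.mpr hz').mem_open W.isOpen hz
    have hsub : Subsingleton Γ(I.subscheme, I.subschemeι ⁻¹ᵁ W) := by
      rw [hbot]
      infer_instance
    exact hsub.elim (show Γ(I.subscheme, I.subschemeι ⁻¹ᵁ W) from g) 0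

/-- `mu τ O_Z` is a monomorphism when `τ` does not vanish at the generic point of `Z` -/
theorem mono_mu_css {T : X.Modules} (hT : PicF.IsInvertible T)
    (τ : T ⟶ Coh.structureModule X) (ξ : X)
    (h : ∀ (W : X.Opens) (e : Γ(T, W)), IsGen T W e → ξ ∈ W →
      ξ ∈ X.basicOpen (ofM (ap τ W e))) : Mono (mu τ (Cyc.closureStructureSheaf ξ)) := by
  apply FComplH8.mono_of_app_injective
  intro W
  rw [injective_iff_map_eq_zero]
  intro κ hκ
  apply eq_zero_of_cover (CohB1.tensorMod (Cyc.closureStructureSheaf ξ) T) κ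
  intro z hz
  obtain ⟨W', -, hzW', hW'W, e, he⟩ := exists_isGen_le hT z W hz
  refine ⟨W', hW'W, hzW', ?_⟩
  obtain ⟨g, hg1, hg2⟩ := mu_local τ (Cyc.closureStructureSheaf ξ) he (rF _ hW'W κ)
  have h1 : ap (mu τ (Cyc.closureStructureSheaf ξ)) W' (rF _ hW'W κ) = 0 := by
    rw [ap_rF, hκ, map_zero]
  rw [hg2] at h1
  have hg0 : g = 0 := css_eq_zero_of_smul_eq_zero ξ _ g h1 (fun hξ => h W' e he hξ)
  rw [hg1, hg0, tmul_zero_left]

end Css

end Snap9
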