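import Mathlib
import Groth.Prelude
import Groth.Agent.Lib.Snap13_helper9
import Groth.Agent.Lib.Tens4_helper8
import Groth.Agent.Lib.NegPow_helper5

/-!
# Positivity of intersection numbers of ample modules, II: sections separating a point from a
specialization (helper9).
APPEND-ONLY once landed.
-/

set_option autoImplicit false
universe u
open CategoryTheory CategoryTheory.Limits AlgebraicGeometry Opposite TopologicalSpace

namespace Snap9

open Groth.Agent.Lib.GVanH2

section Sep

open QcqsLoc QCohExtn GenLocH8 TensH8 FLFH8 NegTw9 Groth.Agent.TensInv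

variable {X : Scheme.{u}}

/-- a function on `X_s` extends, after twisting, to a global section whose locus inside `X_s` is
the non-vanishing locus of the function -/
theorem exists_section_basicOpen [CompactSpace X] [QuasiSeparatedSpace X] {P : X.Modules}
    (hP : PicF.IsInvertible P) (s : Coh.structureModule X ⟶ P)
    (f : Γ(X, CohB1.genLocus P s)) :
    ∃ n0 : ℕ, ∀ N : ℕ, n0 ≤ N → ∃ σ : Coh.structureModule X ⟶
        CohB1.tensorMod (Coh.structureModule X) (CohB1.tensorPow P N),
      CohB1.genLocus _ σ ⊓ CohB1.genLocus P s = X.basicOpen f := by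
  haveI : (Coh.structureModule X).IsQuasicoherent := (CohDevH8.isCoh_structureModule X).1
  obtain ⟨n0, hn0⟩ := exists_twist_extends hP s (Coh.structureModule X) (toM f)
  refine ⟨n0, fun N hN => ?_⟩
  obtain ⟨t', ht'⟩ := hn0 N hN
  refine ⟨homOfSec _ t', ?_⟩
  have hgen : IsGen (CohB1.tensorMod (Coh.structureModule X) (CohB1.tensorPow P N))
      (CohB1.genLocus P s)
      (SecTwist.twist s N (Coh.structureModule X) (CohB1.genLocus P s) (toM 1)) := by
    have h1 : IsGen P (CohB1.genLocus P s) (SecTwist.val s (CohB1.genLocus P s)) :=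
      isGen_val_of_le_genLocus s le_rfl
    have h2 := isGen_lpow h1 N
    rw [CycCov.lpow_val] at h2
    exact isGen_tmul (isGen_one _) h2
  refine genLocus_inf_eq (homOfSec _ t') hgen f ?_
  rw [val_homOfSec, ht']
  have h3 : (toM f : Γ(Coh.structureModule X, CohB1.genLocus P s)) = f • toM 1 :=
    (mul_one f).symm
  unfold SecTwist.twist
  rw [h3]
  exact tmul_smul_left _ _ _ f (toM 1) _

/-- for an ample `L` with inverse `M`, a point `ξ` and a proper specialization `η` of `ξ`, there
are an invertible module `P` with inverse a positive power of `M` and a section of `P` which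
vanishes at `η` but not at `ξ` -/
theorem exists_sep_section [CompactSpace X] [QuasiSeparatedSpace X] {L M : X.Modules}
    (hL : CohB1.IsAmple L) (ε₀ : CohB1.tensorMod L M ≅ Coh.structureModule X) {ξ η : X}
    (hs : ξ ⤳ η) (hne : η ≠ ξ) :
    ∃ (q : ℕ) (_ : 0 < q) (P : X.Modules) (_ : PicF.IsInvertible P)
      (σ : Coh.structureModule X ⟶ P)
      (_ : CohB1.tensorMod P (CohB1.tensorPow M q) ≅ Coh.structureModule X),
      ξ ∈ CohB1.genLocus P σ ∧ η ∉ CohB1.genLocus P σ := by
  obtain ⟨n, s, hη, haff⟩ := hL.2.2 η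
  have hP₀ : PicF.IsInvertible (CohB1.tensorPow L (n + 1)) := isInvertible_tensorPow hL.1 _
  have hξs : ξ ∈ CohB1.genLocus _ s := hs.mem_open (CohB1.genLocus _ s).isOpen hη
  have hξη : ξ ∉ closure ({η} : Set X) := by
    intro h
    exact hne ((hs.antisymm (specializes_iff_mem_closure.mpr h)).eq).symm
  let V : X.Opens := ⟨(closure ({η} : Set X))ᶜ, isClosed_closure.isOpen_compl⟩
  obtain ⟨f, hfV, hξf⟩ := haff.exists_basicOpen_le (V := V) ⟨ξ, hξη⟩ hξs
  have hηf : η ∉ X.basicOpen f := fun h => hfV h (subset_closure (Set.mem_singleton η))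
  obtain ⟨n0, hn0⟩ := exists_section_basicOpen hP₀ s f
  obtain ⟨σ, hσ⟩ := hn0 (n0 + 1) (Nat.le_succ n0)
  obtain ⟨e1⟩ := Groth.Agent.NegPow.tensorPow_mul M (n + 1) (n0 + 1)
  obtain ⟨e2⟩ := Groth.Agent.NegPow.tensorPow_inverse ε₀ (n + 1)
  obtain ⟨e3⟩ := Groth.Agent.NegPow.tensorPow_inverse e2 (n0 + 1)
  refine ⟨(n + 1) * (n0 + 1), Nat.mul_pos (Nat.succ_pos _) (Nat.succ_pos _), _,
    isInvertible_tensorMod isInvertible_structureModule (isInvertible_tensorPow hP₀ _), σ,
    mapR (Groth.Agent.CMMul.unitorL _) _ ≪≫ mapL _ e1.symm ≪≫ e3, ?_, ?_⟩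
  · have h1 : ξ ∈ X.basicOpen f := hξf
    rw [← hσ] at h1
    exact h1.1
  · intro h
    apply hηf
    rw [← hσ]
    exact ⟨h, hη⟩

end Sep

section Multi

open QcqsLoc QCohExtn GenLocH8 TensH8 FLFH8 NegTw9 Groth.Agent.TensInv

variable (k : Type u) [Field k] (X : Scheme.{u}) [X.Over (Spec (CommRingCat.of k))]
  [IsProper (X ↘ Spec (CommRingCat.of k))]

/-- additivity of the alternating sums in the first entry -/
theorem altSum_tensor_cons (l : List X.Modules) (hl : ∀ M ∈ l, PicF.IsInvertible M)
    (A B : X.Modules) (hA : PicF.IsInvertible A) (hB : PicF.IsInvertible B) (G : X.Modules)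
    (hG : Coh.IsCoh G)
    (hdim : topologicalKrullDim (CohB1.support G) ≤ ((l.length + 1 : ℕ) : WithBot ℕ∞)) :
    altSum k X (CohB1.tensorMod A B :: l) G = altSum k X (A :: l) G + altSum k X (B :: l) G := by
  haveI := hG.2
  have hcl : IsClosed (CohB1.support G) := SuppFT.isClosed_support G
  have h0 : altSum k X (A :: B :: l) G = 0 := by
    refine altSum_eq_zero k X _ ?_ G hG ⟨CohB1.support G, hcl⟩ (fun _ h => h) ?_
    · intro N hN
      rcases List.mem_cons.mp hN with rfl | hN
      · exact hA
      rcases List.mem_cons.mp hN with rfl | hN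
      · exact hB
      exact hl N hN
    · rw [List.length_cons, List.length_cons]
      refine lt_of_le_of_lt ((dimC_le_topologicalKrullDim ⟨CohB1.support G, hcl⟩).trans hdim) ?_
      exact_mod_cast Nat.lt_succ_self (l.length + 1)
  simp only [altSum_cons] at h0 ⊢
  have e := altSum_of_iso k X l (assoc G A B)
  rw [e] at h0
  linarith

/-- homogeneity of the alternating sums in the first entry -/
theorem altSum_tensorPow_cons (l : List X.Modules) (hl : ∀ M ∈ l, PicF.IsInvertible M)
    {M : X.Modules} (hM : PicF.IsInvertible M) (q : ℕ) (G : X.Modules) (hG : Coh.IsCoh G)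
    (hdim : topologicalKrullDim (CohB1.support G) ≤ ((l.length + 1 : ℕ) : WithBot ℕ∞)) :
    altSum k X (CohB1.tensorPow M q :: l) G = (q : ℤ) * altSum k X (M :: l) G := by
  induction q with
  | zero =>
    show altSum k X (Coh.structureModule X :: l) G = _
    rw [altSum_cons, altSum_of_iso k X l (rightUnit G)]
    simp
  | succ q ih =>
    show altSum k X (CohB1.tensorMod (CohB1.tensorPow M q) M :: l) G = _
    rw [altSum_tensor_cons k X l hl _ _ (isInvertible_tensorPow hM q) hM G hG hdim, ih]
    push_cast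
    ring

end Multi

end Snap9
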