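import Mathlib
import Groth.Prelude
import Groth.Agent.Lib.Snap14_helper9
import Groth.Agent.Lib.CurveDeg1_helper9
import Groth.Agent.Lib.ProperFin9_helper9

/-!
# Positivity of intersection numbers of ample modules, III: the induction (helper9).
APPEND-ONLY once landed.
-/

set_option autoImplicit false
universe u
open CategoryTheory CategoryTheory.Limits AlgebraicGeometry Opposite TopologicalSpace

namespace Snap9

open Groth.Agent.Lib.GVanH2

section Pos

open QcqsLoc QCohExtn GenLocH8 TensH8 FLFH8 NegTw9 Groth.Agent.TensInv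

variable (k : Type u) [Field k] (X : Scheme.{u}) [X.Over (Spec (CommRingCat.of k))]
  [IsProper (X ↘ Spec (CommRingCat.of k))]

/-- base case: the Euler characteristic of the structure sheaf of a closed point is positive -/
theorem euler_css_pos (ξ : X)
    (h0 : topologicalKrullDim (closure ({ξ} : Set X)) = ((0 : ℕ) : WithBot ℕ∞)) :
    0 < Curv2.euler k X (Cyc.closureStructureSheaf ξ) := by
  haveI : IsLocallyNoetherian X :=
    LocallyOfFiniteType.isLocallyNoetherian (X ↘ Spec (CommRingCat.of k))
  have hcoh := CohDevH8.isCoh_closureStructureSheaf ξ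
  have hclosed : ∀ x ∈ CohB1.support (Cyc.closureStructureSheaf ξ), IsClosed ({x} : Set X) := by
    intro x hx
    have hxξ : x ∈ closure ({ξ} : Set X) := CohDevH8.support_closureStructureSheaf_subset ξ hx
    rw [← closure_subset_iff_isClosed]
    intro y hy
    have hxy : x ⤳ y := specializes_iff_mem_closure.mpr hy
    have hyξ : closure ({y} : Set X) ⊆ closure ({ξ} : Set X) :=
      closure_minimal (Set.singleton_subset_iff.mpr
        (isClosed_closure.closure_subset_iff.mpr (Set.singleton_subset_iff.mpr hxξ) hy))
        isClosed_closure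
    have hdy : topologicalKrullDim (closure ({y} : Set X)) = ((0 : ℕ) : WithBot ℕ∞) := by
      apply le_antisymm
      · exact (Topology.IsEmbedding.inclusion hyξ).isInducing.topologicalKrullDim_le.trans h0.le
      · have hd : dimC (X := X.toTopCat) ⟨closure ({y} : Set X), isClosed_closure⟩ =
            topologicalKrullDim ↥(closure ({y} : Set X)) := dimC_eq _
        rw [← hd]
        by_contra hlt
        rw [not_le] at hlt
        have hbot := eq_bot_of_dimC_lt_zero (X := X.toTopCat) hlt
        have hmem : y ∈ ((⟨closure ({y} : Set X), isClosed_closure⟩ : Closeds X) : Set X) :=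
          subset_closure (Set.mem_singleton y)
        rw [hbot] at hmem
        exact hmem
    have := CycLenH8.eq_of_specializes_of_dim (X := X) isClosed_closure h0.le hxξ hxy hdy
    rw [Set.mem_singleton_iff]
    exact this.symm
  rw [CurveDeg.euler_eq_finrank_of_closed_support k X _ hcoh hclosed]
  haveI := ProperFinH9.finite_HH_of_proper k X _ hcoh 0
  by_contra hle
  have hz : Module.finrank k (Coh.HH X (Cyc.closureStructureSheaf ξ) 0) = 0 := by
    have : ¬ 0 < Module.finrank k (Coh.HH X (Cyc.closureStructureSheaf ξ) 0) := by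
      intro h
      exact hle (by exact_mod_cast h)
    omega
  haveI hsub : Subsingleton (Coh.HH X (Cyc.closureStructureSheaf ξ) 0) :=
    Module.finrank_zero_iff.mp hz
  have hΓ : Subsingleton Γ(Cyc.closureStructureSheaf ξ, ⊤) :=
    (Groth.Agent.NegPow.h0 (Cyc.closureStructureSheaf ξ)).symm.toEquiv.subsingleton
  have hzero := CurveDeg.isZero_of_closed_support X _ hcoh hclosed hΓ
  have hempty := CycLenH8.support_eq_empty_of_isZero hzero
  have hmem := mem_support_css ξ (subset_closure (Set.mem_singleton ξ))
  rw [hempty] at hmem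
  exact hmem

/-- positivity on the structure sheaves of integral closed subschemes gives nonnegativity, and
positivity on modules with a top-dimensional point in the support -/
theorem altSum_nonneg_pos_of_css (l : List X.Modules) (hl : ∀ M ∈ l, PicF.IsInvertible M)
    (H : ∀ ξ : X, topologicalKrullDim (closure ({ξ} : Set X)) = (l.length : WithBot ℕ∞) →
      0 < altSum k X l (Cyc.closureStructureSheaf ξ))
    (F : X.Modules) (hF : Coh.IsCoh F)
    (hsupp : topologicalKrullDim ↥(CohB1.support F) ≤ l.length) :
    0 ≤ altSum k X l F ∧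
      ((∃ η ∈ CohB1.support F,
        topologicalKrullDim (closure ({η} : Set X)) = (l.length : WithBot ℕ∞)) →
        0 < altSum k X l F) := by
  haveI : IsLocallyNoetherian X :=
    LocallyOfFiniteType.isLocallyNoetherian (X ↘ Spec (CommRingCat.of k))
  haveI : CompactSpace X :=
    QuasiCompact.compactSpace_of_compactSpace (X ↘ Spec (CommRingCat.of k))
  haveI : IsNoetherian X := {}
  haveI := hF.2
  have hcl : IsClosed (CohB1.support F) := SuppFT.isClosed_support F
  have key := altSum_eq_finsum k X l hl F hF hsupp
  have hnn : ∀ ξ : X, (0 : ℚ) ≤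
      (if topologicalKrullDim (closure ({ξ} : Set X)) = (l.length : WithBot ℕ∞) then
        ((Module.length (X.presheaf.stalk ξ) (F.presheaf.stalk ξ)).toNat : ℚ) *
          (altSum k X l (Cyc.closureStructureSheaf ξ) : ℚ) else 0) := by
    intro ξ
    split_ifs with h
    · exact mul_nonneg (Nat.cast_nonneg _) (by exact_mod_cast (H ξ h).le)
    · exact le_rfl
  constructor
  · have h1 : (0 : ℚ) ≤ (altSum k X l F : ℚ) := by
      rw [key]
      exact finsum_nonneg hnn
    exact_mod_cast h1
  · rintro ⟨η, hη, hdη⟩
    have hfin : (Function.support (fun ξ : X =>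
        (if topologicalKrullDim (closure ({ξ} : Set X)) = (l.length : WithBot ℕ∞) then
          ((Module.length (X.presheaf.stalk ξ) (F.presheaf.stalk ξ)).toNat : ℚ) *
            (altSum k X l (Cyc.closureStructureSheaf ξ) : ℚ) else 0))).Finite := by
      refine (CycLenH8.finite_maximal_points hcl).subset ?_
      intro x hx
      rw [Function.mem_support] at hx
      have h1 : topologicalKrullDim (closure ({x} : Set X)) = (l.length : WithBot ℕ∞) := by
        by_contra h
        exact hx (if_neg h)
      have h2 : x ∈ CohB1.support F := by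
        intro hsub
        apply hx
        rw [if_pos h1]
        have h3 : Module.length (X.presheaf.stalk x) (F.presheaf.stalk x) = 0 :=
          Module.length_eq_zero_iff.mpr hsub
        rw [h3]
        simp
      exact ⟨h2, fun t ht htx => CycLenH8.eq_of_specializes_of_dim hcl hsupp ht htx h1⟩
    have hpos : (0 : ℚ) <
        (if topologicalKrullDim (closure ({η} : Set X)) = (l.length : WithBot ℕ∞) then
          ((Module.length (X.presheaf.stalk η) (F.presheaf.stalk η)).toNat : ℚ) *
            (altSum k X l (Cyc.closureStructureSheaf η) : ℚ) else 0) := by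
      rw [if_pos hdη]
      apply mul_pos
      · have hfl := CycLenH8.isFiniteLength_stalk_of_dim hcl hsupp hF (fun _ h => h) η hdη
        have h1 : Module.length (X.presheaf.stalk η) (F.presheaf.stalk η) ≠ ⊤ :=
          Module.length_ne_top_iff.mpr hfl
        have h2 : Module.length (X.presheaf.stalk η) (F.presheaf.stalk η) ≠ 0 :=
          fun h => hη (Module.length_eq_zero_iff.mp h)
        have h3 : 0 < (Module.length (X.presheaf.stalk η) (F.presheaf.stalk η)).toNat := by
          rw [Nat.pos_iff_ne_zero, Ne, ENat.toNat_eq_zero]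
          rintro (h | h)
          · exact h2 h
          · exact h1 h
        exact_mod_cast h3
      · exact_mod_cast H η hdη
    have h1 : (0 : ℚ) < (altSum k X l F : ℚ) := by
      rw [key]
      exact finsum_pos' hnn ⟨η, hpos⟩ hfin
    exact_mod_cast h1

/-- inverses of ample invertible modules -/
def AmpInv {X : Scheme.{u}} (M : X.Modules) : Prop :=
  ∃ L : X.Modules, CohB1.IsAmple L ∧
    Nonempty (CohB1.tensorMod L M ≅ Coh.structureModule X)

omit [X.Over (Spec (CommRingCat.of k))] [IsProper (X ↘ Spec (CommRingCat.of k))] in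
theorem AmpInv.isInvertible {M : X.Modules} (h : AmpInv M) : PicF.IsInvertible M := by
  obtain ⟨L, -, ⟨e⟩⟩ := h
  exact InvTensH8.isInvertible_of_tensor_iso (comm M L ≪≫ e)

/-- **positivity** of the intersection numbers of ample modules with integral closed
subschemes -/
theorem altSum_css_pos (l : List X.Modules) (hl : ∀ M ∈ l, AmpInv M) : ∀ ξ : X,
    topologicalKrullDim (closure ({ξ} : Set X)) = (l.length : WithBot ℕ∞) →
      0 < altSum k X l (Cyc.closureStructureSheaf ξ) := by
  haveI : IsLocallyNoetherian X :=
    LocallyOfFiniteType.isLocallyNoetherian (X ↘ Spec (CommRingCat.of k))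
  haveI : CompactSpace X :=
    QuasiCompact.compactSpace_of_compactSpace (X ↘ Spec (CommRingCat.of k))
  induction l with
  | nil =>
    intro ξ h
    exact euler_css_pos k X ξ h
  | cons M l ih =>
    intro ξ hξ
    have ih' := ih (fun N hN => hl N (List.mem_cons_of_mem _ hN))
    obtain ⟨L, hLamp, ⟨ε₀⟩⟩ := hl M List.mem_cons_self
    have hlinv : ∀ N ∈ l, PicF.IsInvertible N :=
      fun N hN => (hl N (List.mem_cons_of_mem _ hN)).isInvertible
    have hMinv : PicF.IsInvertible M := (hl M List.mem_cons_self).isInvertible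
    -- dimensions
    have hξ' : topologicalKrullDim (closure ({ξ} : Set X)) =
        ((l.length + 1 : ℕ) : WithBot ℕ∞) := hξ
    have hdC : dimC (X := X.toTopCat) ⟨closure ({ξ} : Set X), isClosed_closure⟩ =
        ((l.length + 1 : ℕ) : WithBot ℕ∞) := (dimC_eq _).trans hξ'
    obtain ⟨η, hs, hne, hηge⟩ := exists_specialization_of_le_dimC (r := l.length) hdC.ge
    have hξη : ξ ∉ closure ({η} : Set X) := fun h =>
      hne ((hs.antisymm (specializes_iff_mem_closure.mpr h)).eq).symm
    have hξmem : ξ ∈ ((⟨closure ({ξ} : Set X), isClosed_closure⟩ : Closeds X) : Set X) :=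
      subset_closure (Set.mem_singleton ξ)
    have hlt : (⟨closure ({η} : Set X), isClosed_closure⟩ : Closeds X) <
        ⟨closure ({ξ} : Set X), isClosed_closure⟩ := by
      refine lt_of_le_of_ne (specializes_iff_closure_subset.mp hs) ?_
      intro heq
      apply hξη
      have h2 := hξmem
      rw [← heq] at h2
      exact h2
    have hirr : IsIrreducible (closure ({ξ} : Set X)) := isIrreducible_singleton.closure
    have hdClt : dimC (X := X.toTopCat) ⟨closure ({ξ} : Set X), isClosed_closure⟩ <
        ((l.length + 1 + 1 : ℕ) : WithBot ℕ∞) := by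
      rw [hdC]
      exact_mod_cast Nat.lt_succ_self (l.length + 1)
    have hηle : dimC (X := X.toTopCat) ⟨closure ({η} : Set X), isClosed_closure⟩ ≤
        (l.length : WithBot ℕ∞) :=
      (withBot_lt_succ_iff _ l.length).mp
        (dimC_lt_of_lt (X := X.toTopCat) hirr hlt (l.length + 1) hdClt)
    have hηdim : topologicalKrullDim (closure ({η} : Set X)) = (l.length : WithBot ℕ∞) :=
      (dimC_eq ⟨closure ({η} : Set X), isClosed_closure⟩).symm.trans (le_antisymm hηle hηge)
    -- the section
    obtain ⟨q, hq, P, hP, σ, ε, hξσ, hησ⟩ := exists_sep_section hLamp ε₀ hs hne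
    have hT : PicF.IsInvertible (CohB1.tensorPow M q) := isInvertible_tensorPow hMinv q
    have hbo : ∀ (W : X.Opens) (e : Γ(CohB1.tensorPow M q, W)), IsGen _ W e →
        X.basicOpen (ofM (ap (tauOf σ ε) W e)) = CohB1.genLocus P σ ⊓ W :=
      fun W e he => basicOpen_tauOf hP σ ε he
    haveI : Mono (mu (tauOf σ ε) (Cyc.closureStructureSheaf ξ)) :=
      mono_mu_css hT (tauOf σ ε) ξ (fun W e he hξW => by
        rw [hbo W e he]
        exact ⟨hξσ, hξW⟩)
    have hcoh := CohDevH8.isCoh_closureStructureSheaf ξ
    have h1 := altSum_cons_of_mono k X l hlinv hT (tauOf σ ε) (Cyc.closureStructureSheaf ξ) hcoh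
    have hQcoh : Coh.IsCoh (cokernel (mu (tauOf σ ε) (Cyc.closureStructureSheaf ξ))) :=
      CohKerH8.isCoh_cokernel (isCoh_tensorMod hcoh hT) hcoh _
    have hQsub : CohB1.support (cokernel (mu (tauOf σ ε) (Cyc.closureStructureSheaf ξ))) ⊆
        closure ({ξ} : Set X) :=
      (support_cokernel_mu_subset (tauOf σ ε) _).trans
        (CohDevH8.support_closureStructureSheaf_subset ξ)
    have hξQ : ξ ∉ CohB1.support (cokernel (mu (tauOf σ ε) (Cyc.closureStructureSheaf ξ))) := by
      obtain ⟨W, -, hξW, -, e, he⟩ := exists_isGen_le hT ξ ⊤ trivial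
      intro h
      exact h (subsingleton_stalk_cokernel_mu (tauOf σ ε) _ (W := W) (e := e) (by
        rw [hbo W e he]
        exact ⟨hξσ, hξW⟩))
    have hηQ : η ∈ CohB1.support (cokernel (mu (tauOf σ ε) (Cyc.closureStructureSheaf ξ))) := by
      obtain ⟨W, -, hηW, -, e, he⟩ := exists_isGen_le hT η ⊤ trivial
      exact mem_support_cokernel_mu (tauOf σ ε) _ hcoh he hηW (by
        rw [hbo W e he]
        exact fun h => hησ h.1) (mem_support_css ξ (specializes_iff_mem_closure.mp hs))
    haveI := hQcoh.2
    have hQcl : IsClosed (CohB1.support (cokernel (mu (tauOf σ ε) (Cyc.closureStructureSheaf ξ)))) :=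
      SuppFT.isClosed_support _
    have hQlt : (⟨CohB1.support (cokernel (mu (tauOf σ ε) (Cyc.closureStructureSheaf ξ))),
        hQcl⟩ : Closeds X) < ⟨closure ({ξ} : Set X), isClosed_closure⟩ := by
      refine lt_of_le_of_ne hQsub ?_
      intro heq
      apply hξQ
      have h2 := hξmem
      rw [← heq] at h2
      exact h2
    have hQdim : topologicalKrullDim
        ↥(CohB1.support (cokernel (mu (tauOf σ ε) (Cyc.closureStructureSheaf ξ)))) ≤
        (l.length : WithBot ℕ∞) :=
      (dimC_eq ⟨_, hQcl⟩).symm.le.trans ((withBot_lt_succ_iff _ l.length).mp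
        (dimC_lt_of_lt (X := X.toTopCat) hirr hQlt (l.length + 1) hdClt))
    have hpos := (altSum_nonneg_pos_of_css k X l hlinv ih' _ hQcoh hQdim).2 ⟨η, hηQ, hηdim⟩
    have hcssdim : topologicalKrullDim (CohB1.support (Cyc.closureStructureSheaf ξ)) ≤
        ((l.length + 1 : ℕ) : WithBot ℕ∞) :=
      (Topology.IsEmbedding.inclusion
        (CohDevH8.support_closureStructureSheaf_subset ξ)).isInducing.topologicalKrullDim_le.trans
        hξ'.le
    have hmul := altSum_tensorPow_cons k X l hlinv hMinv q (Cyc.closureStructureSheaf ξ) hcoh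
      hcssdim
    rw [h1] at hmul
    rw [hmul] at hpos
    have hq' : (0 : ℤ) < (q : ℤ) := by exact_mod_cast hq
    exact (mul_pos_iff_of_pos_left hq').mp hpos

/-- positivity for arbitrary coherent modules whose support has dimension `= r` -/
theorem altSum_pos (l : List X.Modules) (hl : ∀ M ∈ l, AmpInv M) (F : X.Modules)
    (hF : Coh.IsCoh F)
    (hr : topologicalKrullDim (CohB1.support F) = (l.length : WithBot ℕ∞)) :
    0 < altSum k X l F := by
  haveI := hF.2
  have hcl : IsClosed (CohB1.support F) := SuppFT.isClosed_support F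
  have hdC : dimC (X := X.toTopCat) ⟨CohB1.support F, hcl⟩ = (l.length : WithBot ℕ∞) :=
    (dimC_eq _).trans hr
  obtain ⟨ξ, hξF, hξge⟩ := exists_point_of_le_dimC (r := l.length) hdC.ge
  have hsub : closure ({ξ} : Set X) ⊆ CohB1.support F :=
    closure_minimal (Set.singleton_subset_iff.mpr hξF) hcl
  have hξle : dimC (X := X.toTopCat) ⟨closure ({ξ} : Set X), isClosed_closure⟩ ≤
      (l.length : WithBot ℕ∞) :=
    (dimC_mono (X := X.toTopCat) (Z := ⟨closure ({ξ} : Set X), isClosed_closure⟩)
      (Z' := ⟨CohB1.support F, hcl⟩) hsub).trans hdC.le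
  have hξdim : topologicalKrullDim (closure ({ξ} : Set X)) = (l.length : WithBot ℕ∞) :=
    (dimC_eq ⟨closure ({ξ} : Set X), isClosed_closure⟩).symm.trans (le_antisymm hξle hξge)
  exact (altSum_nonneg_pos_of_css k X l (fun N hN => (hl N hN).isInvertible)
    (altSum_css_pos k X l hl) F hF hr.le).2 ⟨ξ, hξF, hξdim⟩

/-- nonnegativity for coherent modules whose support has dimension `≤ r` -/
theorem altSum_nonneg (l : List X.Modules) (hl : ∀ M ∈ l, AmpInv M) (F : X.Modules)
    (hF : Coh.IsCoh F)
    (hr : topologicalKrullDim (CohB1.support F) ≤ (l.length : WithBot ℕ∞)) :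
    0 ≤ altSum k X l F :=
  (altSum_nonneg_pos_of_css k X l (fun N hN => (hl N hN).isInvertible)
    (altSum_css_pos k X l hl) F hF hr).1

/-- **S3233** -/
theorem main3233 (d : ℕ) (hd : topologicalKrullDim X ≤ d) {r : ℕ} (L M : Fin r → X.Modules)
    (hL : ∀ i, CohB1.IsAmple (L i))
    (hLM : ∀ i, Nonempty (CohB1.tensorMod (L i) (M i) ≅ Coh.structureModule X))
    (F : X.Modules) (hF : Coh.IsCoh F) (hr : topologicalKrullDim (CohB1.support F) = r) :
    0 < FGA.intNum k X d M F := by
  rw [intNum_eq_altSum k X d hd]
  apply altSum_pos k X _ _ F hF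
  · rw [List.length_ofFn]
    exact hr
  · intro N hN
    obtain ⟨i, rfl⟩ := (List.mem_ofFn' M N).mp hN
    exact ⟨L i, hL i, hLM i⟩

end Pos

end Snap9
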