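import Mathlib
import Groth.Prelude
import Groth.Agent.Lib.Snap15_helper9

/-!
# Positivity of intersection numbers, IV: divisors with sections on a surface (helper9).
APPEND-ONLY once landed.
-/

set_option autoImplicit false
universe u
open CategoryTheory CategoryTheory.Limits AlgebraicGeometry Opposite TopologicalSpace

namespace Snap9

open Groth.Agent.Lib.GVanH2

section Surf

open QcqsLoc QCohExtn GenLocH8 TensH8 FLFH8 NegTw9 Groth.Agent.TensInv

variable {X : Scheme.{u}}

/-- on an integral scheme, the "dual section" of a nonzero section does not vanish identically: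
there is a point and a local generator at which it is invertible -/
theorem exists_mem_basicOpen_tauOf [IsIntegral X] {P T : X.Modules} (hP : PicF.IsInvertible P)
    (hT : PicF.IsInvertible T) (t : Coh.structureModule X ⟶ P) (ht : t ≠ 0)
    (ε : CohB1.tensorMod P T ≅ Coh.structureModule X) :
    ∃ (W : X.Opens) (e : Γ(T, W)) (x : X), IsGen T W e ∧
      x ∈ X.basicOpen (ofM (ap (tauOf t ε) W e)) := by
  obtain ⟨x0⟩ : Nonempty X := inferInstance
  obtain ⟨W, hx0W, e, p, he, hp⟩ := exists_isGen₂ hT hP x0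
  obtain ⟨c, hc⟩ := hp.exists_coef (SecTwist.val t W)
  obtain ⟨a, v, hau, hvu, hacv⟩ := tauOf_local t ε he hp c hc
  have hWne : (W : Set X).Nonempty := ⟨x0, hx0W⟩
  haveI : Nonempty W := hWne.to_subtype
  have hc0 : c ≠ 0 := by
    intro h
    apply ht
    refine CurveDeg.hom_eq_zero_of_ap_gen isInvertible_structureModule hP t hWne (isGen_one W) ?_
    have h1 : ap t W (toM 1) = SecTwist.val t W := rfl
    rw [h1, hc, h, zero_smul]
  have hne : X.basicOpen (ofM (ap (tauOf t ε) W e)) ≠ ⊥ := by
    rw [hacv, Ne, AlgebraicGeometry.basicOpen_eq_bot_iff]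
    intro h0
    have h1 : c * v = 0 := (hau.mul_right_eq_zero).mp h0
    exact hc0 ((hvu.mul_left_eq_zero).mp h1)
  have hne' : ((X.basicOpen (ofM (ap (tauOf t ε) W e)) : X.Opens) : Set X).Nonempty := by
    rw [Set.nonempty_iff_ne_empty]
    intro h
    apply hne
    ext y
    simp only [Opens.coe_bot]
    rw [h]
  obtain ⟨x, hx⟩ := hne'
  exact ⟨W, e, x, he, hx⟩

/-- on an integral scheme, multiplication by the "dual section" of a nonzero section is injective
on the structure sheaf -/
theorem mono_mu_structureModule [IsIntegral X] {P T : X.Modules} (hP : PicF.IsInvertible P)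
    (hT : PicF.IsInvertible T) (t : Coh.structureModule X ⟶ P) (ht : t ≠ 0)
    (ε : CohB1.tensorMod P T ≅ Coh.structureModule X) :
    Mono (mu (tauOf t ε) (Coh.structureModule X)) := by
  apply CurveDeg.mono_of_ne_zero (isInvertible_tensorMod isInvertible_structureModule hT)
    isInvertible_structureModule
  intro h0
  obtain ⟨W, e, x, he, hx⟩ := exists_mem_basicOpen_tauOf hP hT t ht ε
  have h1 := mu_tmul (tauOf t ε) (Coh.structureModule X) W (toM 1) e
  rw [h0] at h1
  have h2 : ofM (ap (tauOf t ε) W e) = 0 := by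
    have h3 : ofM (ap (tauOf t ε) W e) • (toM (1 : Γ(X, W))) = 0 := h1.symm
    have h4 : (ofM (ap (tauOf t ε) W e) * 1 : Γ(X, W)) = 0 := h3
    rwa [mul_one] at h4
  rw [h2, Scheme.basicOpen_zero] at hx
  exact hx

end Surf

section Main11752

open QcqsLoc QCohExtn GenLocH8 TensH8 FLFH8 NegTw9 Groth.Agent.TensInv

variable (k : Type u) [Field k] (X : Scheme.{u}) [X.Over (Spec (CommRingCat.of k))]
  [IsProper (X ↘ Spec (CommRingCat.of k))]

/-- **S11752** -/
theorem main11752 [IsIntegral X] (hdim : topologicalKrullDim X = 2)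
    (N N' : X.Modules) (hN : PicF.IsInvertible N)
    (hNN' : Nonempty (CohB1.tensorMod N N' ≅ Coh.structureModule X))
    (hpos : 0 < FGA.intNum k X 2 ![N', N'] (Coh.structureModule X))
    (hsec : ∃ n : ℕ, 0 < n ∧ Nontrivial (Coh.HH X (CohB1.tensorPow N n) 0))
    (H H' : X.Modules) (hH : CohB1.IsAmple H)
    (hHH' : Nonempty (CohB1.tensorMod H H' ≅ Coh.structureModule X)) :
    0 < FGA.intNum k X 2 ![N', H'] (Coh.structureModule X) := by
  haveI : IsLocallyNoetherian X :=
    LocallyOfFiniteType.isLocallyNoetherian (X ↘ Spec (CommRingCat.of k))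
  have hd : topologicalKrullDim X ≤ ((2 : ℕ) : WithBot ℕ∞) := by
    rw [hdim]
    norm_num
  rw [intNum_eq_altSum k X 2 hd] at hpos ⊢
  have hl1 : List.ofFn ![N', N'] = [N', N'] := by simp
  have hl2 : List.ofFn ![N', H'] = [N', H'] := by simp
  rw [hl1] at hpos
  rw [hl2]
  obtain ⟨n, hn, hnt⟩ := hsec
  obtain ⟨ε₀⟩ := hNN'
  obtain ⟨ε₁⟩ := hHH'
  obtain ⟨t, ht⟩ := Groth.Agent.NegPow.exists_hom_ne_zero _ hnt
  obtain ⟨εn⟩ := Groth.Agent.NegPow.tensorPow_inverse ε₀ n
  have hN'inv : PicF.IsInvertible N' := InvTensH8.isInvertible_of_tensor_iso (comm N' N ≪≫ ε₀)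
  have hH'inv : PicF.IsInvertible H' := InvTensH8.isInvertible_of_tensor_iso (comm H' H ≪≫ ε₁)
  have hP := isInvertible_tensorPow hN n
  have hT := isInvertible_tensorPow hN'inv n
  haveI := mono_mu_structureModule hP hT t ht εn
  have hOcoh := CohDevH8.isCoh_structureModule X
  have hQcoh : Coh.IsCoh (cokernel (mu (tauOf t εn) (Coh.structureModule X))) :=
    CohKerH8.isCoh_cokernel (isCoh_tensorMod hOcoh hT) hOcoh _
  have hA : ∀ B : X.Modules, PicF.IsInvertible B →
      altSum k X [B] (cokernel (mu (tauOf t εn) (Coh.structureModule X))) =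
        (n : ℤ) * altSum k X [N', B] (Coh.structureModule X) := by
    intro B hB
    have hlB : ∀ M ∈ [B], PicF.IsInvertible M := by
      intro M hM
      rw [List.mem_singleton] at hM
      rw [hM]
      exact hB
    have h1 := altSum_cons_of_mono k X [B] hlB hT (tauOf t εn) (Coh.structureModule X) hOcoh
    have hOdim : topologicalKrullDim (CohB1.support (Coh.structureModule X)) ≤
        ((([B] : List X.Modules).length + 1 : ℕ) : WithBot ℕ∞) :=
      (topologicalKrullDim_subspace_le X _).trans hd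
    have h2 := altSum_tensorPow_cons k X [B] hlB hN'inv n (Coh.structureModule X) hOcoh hOdim
    rw [← h1, h2]
  obtain ⟨W, e, x, he, hx⟩ := exists_mem_basicOpen_tauOf hP hT t ht εn
  have hxQ : x ∉ CohB1.support (cokernel (mu (tauOf t εn) (Coh.structureModule X))) :=
    fun h => h (subsingleton_stalk_cokernel_mu (tauOf t εn) (Coh.structureModule X) hx)
  haveI := hQcoh.2
  have hQcl : IsClosed (CohB1.support (cokernel (mu (tauOf t εn) (Coh.structureModule X)))) :=
    SuppFT.isClosed_support _
  have hQlt : (⟨CohB1.support (cokernel (mu (tauOf t εn) (Coh.structureModule X))), hQcl⟩ :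
      Closeds X) < ⊤ := by
    refine lt_of_le_of_ne le_top ?_
    intro heq
    apply hxQ
    have h2 : x ∈ ((⊤ : Closeds X) : Set X) := trivial
    rw [← heq] at h2
    exact h2
  have hirr : IsIrreducible (((⊤ : Closeds X)) : Set X) := by
    rw [Closeds.coe_top]
    exact IrreducibleSpace.isIrreducible_univ X
  have htop : dimC (X := X.toTopCat) (⊤ : Closeds X) < ((1 + 1 + 1 : ℕ) : WithBot ℕ∞) := by
    refine lt_of_le_of_lt ((dimC_top_le (X := X.toTopCat)).trans hd) ?_
    exact_mod_cast (by norm_num : (2 : ℕ) < 1 + 1 + 1)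
  have hQdim : topologicalKrullDim
      ↥(CohB1.support (cokernel (mu (tauOf t εn) (Coh.structureModule X)))) ≤
      ((1 : ℕ) : WithBot ℕ∞) :=
    (dimC_eq ⟨_, hQcl⟩).symm.le.trans ((withBot_lt_succ_iff _ 1).mp
      (dimC_lt_of_lt (X := X.toTopCat) hirr hQlt (1 + 1) htop))
  have hAmp : ∀ M ∈ [H'], AmpInv M := by
    intro M hM
    rw [List.mem_singleton] at hM
    rw [hM]
    exact ⟨H, hH, ⟨ε₁⟩⟩
  have hn' : (0 : ℤ) < (n : ℤ) := by exact_mod_cast hn
  by_cases hcase : topologicalKrullDim
      ↥(CohB1.support (cokernel (mu (tauOf t εn) (Coh.structureModule X)))) =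
      ((1 : ℕ) : WithBot ℕ∞)
  · have h3 := altSum_pos k X [H'] hAmp _ hQcoh hcase
    rw [hA H' hH'inv] at h3
    exact (mul_pos_iff_of_pos_left hn').mp h3
  · exfalso
    have hlt := lt_of_le_of_ne hQdim hcase
    have hlN : ∀ M ∈ [N'], PicF.IsInvertible M := by
      intro M hM
      rw [List.mem_singleton] at hM
      rw [hM]
      exact hN'inv
    have h4 : altSum k X [N'] (cokernel (mu (tauOf t εn) (Coh.structureModule X))) = 0 :=
      altSum_eq_zero k X [N'] hlN _ hQcoh ⟨_, hQcl⟩ (fun _ h => h)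
        (lt_of_le_of_lt (dimC_le_topologicalKrullDim _) hlt)
    rw [hA N' hN'inv] at h4
    have h5 : 0 < (n : ℤ) * altSum k X [N', N'] (Coh.structureModule X) := mul_pos hn' hpos
    rw [h4] at h5
    exact lt_irrefl _ h5

end Main11752

end Snap9
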