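import Mathlib
import Groth.Prelude
import Groth.Agent.Lib.Snap3_helper9
import Groth.Agent.Lib.InvTens2_helper8

/-!
# Riemann–Roch type expansion `χ(L^m ⊗ F) = Σ_i C(m+i-1, i) ∫ c_1(L)^i F` (helper9).
APPEND-ONLY once landed.
-/

set_option autoImplicit false
universe u
open CategoryTheory CategoryTheory.Limits AlgebraicGeometry Opposite TopologicalSpace

namespace Snap9

/-- Newton's backward difference formula -/
theorem newton_backward_aux (r : ℕ) (A : ℕ → ℕ → ℤ)
    (hstep : ∀ i m, A (i + 1) (m + 1) = A i (m + 1) - A i m)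
    (hvan : ∀ i m, r + 1 ≤ i → A i m = 0) :
    ∀ (m i : ℕ), A i m = ∑ j ∈ Finset.range (r + 1 - i), ((m + j - 1).choose j : ℤ) * A (i + j) 0 := by
  intro m
  induction m with
  | zero =>
    intro i
    by_cases hi : r + 1 ≤ i
    · rw [hvan i 0 hi, Nat.sub_eq_zero_of_le hi, Finset.range_zero, Finset.sum_empty]
    · rw [Finset.sum_eq_single 0]
      · simp
      · intro j _ hj
        rw [Nat.choose_eq_zero_of_lt (by omega)]
        simp
      · intro h
        exfalso
        apply h
        rw [Finset.mem_range]
        omega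
  | succ m ih =>
    have key : ∀ t i : ℕ, r + 1 ≤ i + t →
        A i (m + 1) = ∑ j ∈ Finset.range (r + 1 - i), ((m + 1 + j - 1).choose j : ℤ) * A (i + j) 0 := by
      intro t
      induction t with
      | zero =>
        intro i hi
        rw [hvan i _ (by omega), Nat.sub_eq_zero_of_le (by omega), Finset.range_zero,
          Finset.sum_empty]
      | succ t iht =>
        intro i hi
        by_cases hi' : r + 1 ≤ i
        · rw [hvan i _ hi', Nat.sub_eq_zero_of_le hi', Finset.range_zero, Finset.sum_empty]
        · have h1 : A i (m + 1) = A i m + A (i + 1) (m + 1) := by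
            rw [hstep]; ring
          have hs : r + 1 - i = (r + 1 - (i + 1)) + 1 := by omega
          rw [h1, ih i, iht (i + 1) (by omega), hs, Finset.sum_range_succ', Finset.sum_range_succ',
            add_assoc, add_comm _ (∑ j ∈ Finset.range (r + 1 - (i + 1)), _), ← add_assoc,
            ← Finset.sum_add_distrib]
          congr 1
          · apply Finset.sum_congr rfl
            intro j _
            have e1 : m + (j + 1) - 1 = m + j := by omega
            have e2 : m + 1 + j - 1 = m + j := by omega
            have e3 : m + 1 + (j + 1) - 1 = (m + j) + 1 := by omega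
            have e4 : i + 1 + j = i + (j + 1) := by omega
            rw [e1, e2, e3, e4, Nat.choose_succ_succ]
            push_cast
            ring
          · simp
    intro i
    exact key (r + 1) i (by omega)

theorem newton_backward (r : ℕ) (A : ℕ → ℕ → ℤ)
    (hstep : ∀ i m, A (i + 1) (m + 1) = A i (m + 1) - A i m)
    (hvan : ∀ i m, r + 1 ≤ i → A i m = 0) (m : ℕ) :
    A 0 m = ∑ i ∈ Finset.range (r + 1), ((m + i - 1).choose i : ℤ) * A i 0 := by
  have h := newton_backward_aux r A hstep hvan m 0
  simpa using h


section Main11753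

variable (k : Type u) [Field k] (X : Scheme.{u}) [X.Over (Spec (CommRingCat.of k))]
  [IsProper (X ↘ Spec (CommRingCat.of k))]

open Groth.Agent.TensInv Groth.Agent.Lib.GVanH2

/-- **S11753** -/
theorem main11753 (d : ℕ) (hd : topologicalKrullDim X ≤ d)
    (L M : X.Modules) (hL : PicF.IsInvertible L)
    (hLM : Nonempty (CohB1.tensorMod L M ≅ Coh.structureModule X))
    (F : X.Modules) (hF : Coh.IsCoh F) (r : ℕ)
    (hr : topologicalKrullDim (CohB1.support F) ≤ r) (m : ℕ) :
    FGA.eulerCharLE k X (CohB1.tensorMod (CohB1.tensorPow L m) F) d =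
      (Finset.range (r + 1)).sum (fun i => ((m + i - 1).choose i : ℤ) *
        FGA.intNum k X d (fun _ : Fin i => M) F) := by
  haveI : IsLocallyNoetherian X :=
    LocallyOfFiniteType.isLocallyNoetherian (X ↘ Spec (CommRingCat.of k))
  obtain ⟨e⟩ := hLM
  have hM : PicF.IsInvertible M := InvTensH8.isInvertible_of_tensor_iso (comm M L ≪≫ e)
  haveI := hF.2
  have hcl : IsClosed (CohB1.support F) := SuppFT.isClosed_support F
  let G : ℕ → X.Modules := fun m => CohB1.tensorMod F (CohB1.tensorPow L m)
  let A : ℕ → ℕ → ℤ := fun i m => altSum k X (List.replicate i M) (G m)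
  have hGc : ∀ m, Coh.IsCoh (G m) := fun m =>
    isCoh_tensorMod hF (TensH8.isInvertible_tensorPow hL m)
  have hGs : ∀ m, CohB1.support (G m) ⊆ CohB1.support F := by
    intro m
    haveI := hF.1
    haveI : (CohB1.tensorPow L m).IsQuasicoherent :=
      (ProperFinH9.isCoh_of_isInvertible (TensH8.isInvertible_tensorPow hL m)).1
    exact NodalG0.support_tensorMod_subset_left _ _
  have hstep : ∀ i m, A (i + 1) (m + 1) = A i (m + 1) - A i m := by
    intro i m
    show altSum k X (List.replicate (i + 1) M) (G (m + 1)) = _
    rw [List.replicate_succ, altSum_cons]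
    congr 1
    apply altSum_of_iso
    exact assoc _ _ _ ≪≫ mapL F (assoc _ _ _ ≪≫ mapL _ e ≪≫ rightUnit _)
  have hvan : ∀ i m, r + 1 ≤ i → A i m = 0 := by
    intro i m hi
    refine altSum_eq_zero k X (List.replicate i M) ?_ (G m) (hGc m) ⟨CohB1.support F, hcl⟩
      (hGs m) ?_
    · intro N hN
      rw [List.eq_of_mem_replicate hN]
      exact hM
    · rw [List.length_replicate]
      refine lt_of_le_of_lt ((dimC_le_topologicalKrullDim ⟨CohB1.support F, hcl⟩).trans hr) ?_
      exact_mod_cast hi
  have h := newton_backward r A hstep hvan m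
  rw [← euler_eq_eulerCharLE k X d hd, CurveTens.euler_of_iso k X (comm _ _)]
  refine h.trans ?_
  apply Finset.sum_congr rfl
  intro i _
  congr 1
  rw [intNum_eq_altSum k X d hd, List.ofFn_const]
  exact altSum_of_iso k X _ (rightUnit F)

end Main11753

end Snap9
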