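import Mathlib
import Groth.Prelude
import Groth.Agent.Lib.Snap15_helper9
import Groth.Agent.Lib.Snap8_helper9
import Groth.Agent.Lib.RelAmpleVan_helper9
import Groth.Agent.Lib.InvTensP2_helper5
import Groth.Agent.Lib.CurveAmple3_helper9

/-!
# Asymptotic Riemann–Roch for ample modules (helper9).
APPEND-ONLY once landed.
-/

set_option autoImplicit false
universe u
open CategoryTheory CategoryTheory.Limits AlgebraicGeometry Opposite TopologicalSpace

namespace Snap9

open Groth.Agent.Lib.GVanH2

section PolyBound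

open Polynomial

theorem abs_eval_le (p : ℚ[X]) (e : ℕ) (hp : p.natDegree ≤ e) (m : ℕ) :
    |p.eval (m : ℚ)| ≤ (∑ i ∈ Finset.range (e + 1), |p.coeff i|) * ((m : ℚ) + 1) ^ e := by
  rw [Polynomial.eval_eq_sum_range' (Nat.lt_succ_of_le hp), Finset.sum_mul]
  refine (Finset.abs_sum_le_sum_abs _ _).trans (Finset.sum_le_sum ?_)
  intro i hi
  have hm : (0 : ℚ) ≤ (m : ℚ) := Nat.cast_nonneg m
  rw [abs_mul, abs_pow, abs_of_nonneg hm]
  apply mul_le_mul_of_nonneg_left _ (abs_nonneg _)
  have hi' : i ≤ e := Nat.lt_succ_iff.mp (Finset.mem_range.mp hi)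
  calc (m : ℚ) ^ i ≤ ((m : ℚ) + 1) ^ i := pow_le_pow_left₀ hm (by linarith) i
    _ ≤ ((m : ℚ) + 1) ^ e := pow_le_pow_right₀ (by linarith) hi'

theorem choose_eq_eval (i m : ℕ) :
    ((m + i - 1).choose i : ℚ) = (ascPochhammer ℚ i).eval (m : ℚ) / (i.factorial : ℚ) := by
  have h1 : ((ascPochhammer ℕ i).eval m : ℕ) = i.factorial * (m + i - 1).choose i := by
    rw [ascPochhammer_nat_eq_ascFactorial, Nat.ascFactorial_eq_factorial_mul_choose']
  have h2 : ((ascPochhammer ℚ i).eval (m : ℚ)) =
      (i.factorial : ℚ) * ((m + i - 1).choose i : ℚ) := by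
    rw [← ascPochhammer_eval_cast, h1]
    push_cast
    ring
  have h3 : (i.factorial : ℚ) ≠ 0 := Nat.cast_ne_zero.mpr (Nat.factorial_ne_zero i)
  rw [h2]
  field_simp

/-- `Σ_{i ≤ d} C(m+i-1, i) a_i = (a_d / d!) m^d + O((m+1)^{d-1})` -/
theorem exists_bound (d : ℕ) (a : ℕ → ℚ) :
    ∃ C : ℚ, 0 ≤ C ∧ ∀ m : ℕ,
      |(∑ i ∈ Finset.range (d + 1), ((m + i - 1).choose i : ℚ) * a i) -
        a d / (d.factorial : ℚ) * (m : ℚ) ^ d| ≤ C * ((m : ℚ) + 1) ^ (d - 1) := by
  set p : ℚ[X] := (∑ i ∈ Finset.range d, C (a i / (i.factorial : ℚ)) * ascPochhammer ℚ i) +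
    C (a d / (d.factorial : ℚ)) * (ascPochhammer ℚ d - X ^ d) with hp
  have hdeg : p.natDegree ≤ d - 1 := by
    apply (natDegree_add_le _ _).trans (max_le ?_ ?_)
    · apply natDegree_sum_le_of_forall_le
      intro i hi
      have := Finset.mem_range.mp hi
      refine (natDegree_C_mul_le _ _).trans ?_
      rw [ascPochhammer_natDegree]
      omega
    · refine (natDegree_C_mul_le _ _).trans ?_
      rcases Nat.eq_zero_or_pos d with rfl | hd
      · simp
      · have hne : ascPochhammer ℚ d ≠ 0 := (monic_ascPochhammer ℚ d).ne_zero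
        have h1 : (ascPochhammer ℚ d - X ^ d).degree < (ascPochhammer ℚ d).degree := by
          apply degree_sub_lt_left
          · rw [degree_X_pow, degree_eq_natDegree hne, ascPochhammer_natDegree]
          · exact hne
          · rw [(monic_ascPochhammer ℚ d).leadingCoeff, leadingCoeff_X_pow]
        rw [degree_eq_natDegree hne, ascPochhammer_natDegree] at h1
        have h2 : (ascPochhammer ℚ d - X ^ d).natDegree < d := by
          by_cases h0 : ascPochhammer ℚ d - X ^ d = 0
          · rw [h0, natDegree_zero]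
            exact hd
          · rw [degree_eq_natDegree h0] at h1
            exact_mod_cast h1
        omega
  have heval : ∀ m : ℕ, p.eval (m : ℚ) =
      (∑ i ∈ Finset.range (d + 1), ((m + i - 1).choose i : ℚ) * a i) -
        a d / (d.factorial : ℚ) * (m : ℚ) ^ d := by
    intro m
    rw [hp, Finset.sum_range_succ]
    simp only [eval_add, eval_finsetSum, eval_mul, eval_C, eval_sub, eval_pow, eval_X,
      choose_eq_eval]
    have hs : ∑ x ∈ Finset.range d, a x / (x.factorial : ℚ) * eval (m : ℚ) (ascPochhammer ℚ x) =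
        ∑ x ∈ Finset.range d, eval (m : ℚ) (ascPochhammer ℚ x) / (x.factorial : ℚ) * a x :=
      Finset.sum_congr rfl (fun x _ => by ring)
    rw [hs]
    ring
  refine ⟨∑ i ∈ Finset.range (d - 1 + 1), |p.coeff i|,
    Finset.sum_nonneg (fun _ _ => abs_nonneg _), fun m => ?_⟩
  rw [← heval m]
  exact abs_eval_le p (d - 1) hdeg m

end PolyBound

section Flip

open QcqsLoc QCohExtn GenLocH8 TensH8 FLFH8 NegTw9 Groth.Agent.TensInv

variable (k : Type u) [Field k] (X : Scheme.{u}) [X.Over (Spec (CommRingCat.of k))]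
  [IsProper (X ↘ Spec (CommRingCat.of k))]

/-- the alternating sums do not depend on the order of the factors -/
theorem altSum_perm {l l' : List X.Modules} (h : l.Perm l') :
    ∀ G : X.Modules, altSum k X l G = altSum k X l' G := by
  induction h with
  | nil => intro G; rfl
  | cons x _ ih => intro G; rw [altSum_cons, altSum_cons, ih, ih]
  | swap x y l => intro G; exact altSum_swap k X y x l G
  | trans _ _ ih1 ih2 => intro G; rw [ih1, ih2]

/-- replacing a factor by its inverse changes the sign -/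
theorem altSum_flip (l : List X.Modules) (hl : ∀ N ∈ l, PicF.IsInvertible N)
    {L M : X.Modules} (hL : PicF.IsInvertible L) (hM : PicF.IsInvertible M)
    (ε : CohB1.tensorMod L M ≅ Coh.structureModule X) (G : X.Modules) (hG : Coh.IsCoh G)
    (hdim : topologicalKrullDim (CohB1.support G) ≤ ((l.length + 1 : ℕ) : WithBot ℕ∞)) :
    altSum k X (L :: l) G = - altSum k X (M :: l) G := by
  haveI := hG.2
  have hcl : IsClosed (CohB1.support G) := SuppFT.isClosed_support G
  have h0 : altSum k X (L :: M :: l) G = 0 := by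
    refine altSum_eq_zero k X _ ?_ G hG ⟨CohB1.support G, hcl⟩ (fun _ h => h) ?_
    · intro N hN
      rcases List.mem_cons.mp hN with rfl | hN
      · exact hL
      rcases List.mem_cons.mp hN with rfl | hN
      · exact hM
      exact hl N hN
    · rw [List.length_cons, List.length_cons]
      refine lt_of_le_of_lt ((dimC_le_topologicalKrullDim ⟨CohB1.support G, hcl⟩).trans hdim) ?_
      exact_mod_cast Nat.lt_succ_self (l.length + 1)
  have e : CohB1.tensorMod (CohB1.tensorMod G L) M ≅ G :=
    assoc G L M ≪≫ mapL G ε ≪≫ rightUnit G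
  have h1 := altSum_of_iso k X l e
  simp only [altSum_cons] at h0 ⊢
  rw [h1] at h0
  linarith

/-- replacing all factors `L` by the inverse `M` -/
theorem altSum_replicate_flip {L M : X.Modules} (hL : PicF.IsInvertible L)
    (hM : PicF.IsInvertible M) (ε : CohB1.tensorMod L M ≅ Coh.structureModule X)
    (G : X.Modules) (hG : Coh.IsCoh G) : ∀ (a b : ℕ),
    topologicalKrullDim (CohB1.support G) ≤ ((a + b : ℕ) : WithBot ℕ∞) →
    altSum k X (List.replicate a L ++ List.replicate b M) G =
      (-1 : ℤ) ^ a * altSum k X (List.replicate (a + b) M) G := by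
  intro a
  induction a with
  | zero =>
    intro b _
    simp
  | succ a ih =>
    intro b hdim
    have hl : ∀ N ∈ List.replicate a L ++ List.replicate b M, PicF.IsInvertible N := by
      intro N hN
      rcases List.mem_append.mp hN with h | h
      · rw [(List.mem_replicate.mp h).2]
        exact hL
      · rw [(List.mem_replicate.mp h).2]
        exact hM
    have hlen : (List.replicate a L ++ List.replicate b M).length + 1 = a + 1 + b := by
      simp
      omega
    rw [List.replicate_succ, List.cons_append,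
      altSum_flip k X _ hl hL hM ε G hG (by rw [hlen]; exact hdim)]
    have hperm : (M :: (List.replicate a L ++ List.replicate b M)).Perm
        (List.replicate a L ++ List.replicate (b + 1) M) := by
      rw [List.replicate_succ]
      exact List.perm_middle.symm
    have hab : a + (b + 1) = a + 1 + b := by omega
    rw [altSum_perm k X hperm, ih (b + 1) (by rw [hab]; exact hdim), hab]
    ring

end Flip

section Main7649

open QcqsLoc QCohExtn GenLocH8 TensH8 FLFH8 NegTw9 Groth.Agent.TensInv

variable (k : Type u) [Field k] (X : Scheme.{u}) [X.Over (Spec (CommRingCat.of k))]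
  [IsProper (X ↘ Spec (CommRingCat.of k))]

/-- the coefficient of `x_1 ⋯ x_d` of the Snapper polynomial of `(L, …, L)` is the intersection
number `(L^d)` computed with the inverse `M` -/
theorem coeff_eq_intNum (d : ℕ) (hX : topologicalKrullDim X ≤ d) {L M : X.Modules}
    (hL : PicF.IsInvertible L) (ε : CohB1.tensorMod L M ≅ Coh.structureModule X)
    (P : MvPolynomial (Fin d) ℚ)
    (hP : ∀ n : Fin d → ℕ, (Curv2.euler k X
      (Curv2.tensorPows (Coh.structureModule X) d (fun _ => L) n) : ℚ) =
        MvPolynomial.eval (fun i => (n i : ℚ)) P) :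
    MvPolynomial.coeff (Finsupp.equivFunOnFinite.symm fun _ : Fin d => 1) P =
      (FGA.intNum k X d (fun _ : Fin d => M) (Coh.structureModule X) : ℚ) := by
  haveI : IsLocallyNoetherian X :=
    LocallyOfFiniteType.isLocallyNoetherian (X ↘ Spec (CommRingCat.of k))
  have hM : PicF.IsInvertible M := InvTensH8.isInvertible_of_tensor_iso (comm M L ≪≫ ε)
  have hOcoh := CohDevH8.isCoh_structureModule X
  have hOdim : topologicalKrullDim (CohB1.support (Coh.structureModule X)) ≤ d :=
    (topologicalKrullDim_subspace_le X _).trans hX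
  obtain ⟨P', hP'd, hP'e⟩ := main1528 k X (Coh.structureModule X) hOcoh d hOdim d
    (fun _ => L) (fun _ => hL)
  have hPP' : P = P' := eq_of_eval_nat_eq P P' (fun n => by rw [← hP n, hP'e n])
  have hPd : P.totalDegree ≤ d := hPP' ▸ hP'd
  rw [coeff_eq_altSum k X (Coh.structureModule X) d (fun _ => L) P hPd hP,
    intNum_eq_altSum k X d hX, List.ofFn_const, List.ofFn_const]
  have h := altSum_replicate_flip k X hL hM ε (Coh.structureModule X) hOcoh d 0
    (by simpa using hOdim)
  rw [List.replicate_zero, List.append_nil, Nat.add_zero] at h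
  rw [h]
  push_cast
  rw [← mul_assoc, ← mul_pow]
  simp

/-- **S7649** -/
theorem main7649 (d : ℕ) (hX : topologicalKrullDim X = d) (L : X.Modules)
    (hL : CohB1.IsAmple L) (P : MvPolynomial (Fin d) ℚ)
    (hP : ∀ n : Fin d → ℕ, (Curv2.euler k X
      (Curv2.tensorPows (Coh.structureModule X) d (fun _ => L) n) : ℚ) =
        MvPolynomial.eval (fun i => (n i : ℚ)) P) :
    0 < MvPolynomial.coeff (Finsupp.equivFunOnFinite.symm fun _ : Fin d => 1) P ∧
      ∃ C : ℚ, ∀ n : ℕ,
        |(Module.finrank k (Coh.HH X (CohB1.tensorPow L n) 0) : ℚ) -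
            MvPolynomial.coeff (Finsupp.equivFunOnFinite.symm fun _ : Fin d => 1) P /
              (d.factorial : ℚ) * (n : ℚ) ^ d| ≤ C * ((n : ℚ) + 1) ^ (d - 1) := by
  haveI : IsLocallyNoetherian X :=
    LocallyOfFiniteType.isLocallyNoetherian (X ↘ Spec (CommRingCat.of k))
  obtain ⟨M, hM, ⟨ε⟩⟩ := Groth.Agent.InvTensP.exists_inverse L hL.1
  have hc := coeff_eq_intNum k X d hX.le hL.1 ε P hP
  have hOcoh := CohDevH8.isCoh_structureModule X
  have hOdimeq : topologicalKrullDim (CohB1.support (Coh.structureModule X)) = d := by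
    rw [CohDevH8.support_structureModule]
    exact ((Homeomorph.Set.univ X).isHomeomorph.topologicalKrullDim_eq).trans hX
  have hpos : 0 < FGA.intNum k X d (fun _ : Fin d => M) (Coh.structureModule X) :=
    main3233 k X d hX.le (fun _ => L) (fun _ => M) (fun _ => hL) (fun _ => ⟨ε⟩)
      (Coh.structureModule X) hOcoh hOdimeq
  refine ⟨by rw [hc]; exact_mod_cast hpos, ?_⟩
  obtain ⟨n₀, hn₀⟩ := RelAmpleVanH9.serre_vanishing_ample (X ↘ Spec (CommRingCat.of k)) L hL.1 hL
    (Coh.structureModule X) hOcoh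
  obtain ⟨C₀, hC₀, hb⟩ := exists_bound d
    (fun i => (FGA.intNum k X d (fun _ : Fin i => M) (Coh.structureModule X) : ℚ))
  have key : ∀ n, n₀ ≤ n → (Module.finrank k (Coh.HH X (CohB1.tensorPow L n) 0) : ℚ) =
      ∑ i ∈ Finset.range (d + 1), ((n + i - 1).choose i : ℚ) *
        (FGA.intNum k X d (fun _ : Fin i => M) (Coh.structureModule X) : ℚ) := by
    intro n hn
    have h1 := main11753 k X d hX.le L M hL.1 ⟨ε⟩ (Coh.structureModule X) hOcoh d hOdimeq.le n
    rw [← euler_eq_eulerCharLE k X d hX.le] at h1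
    have h2 : Curv2.euler k X (CohB1.tensorMod (CohB1.tensorPow L n) (Coh.structureModule X)) =
        Curv2.euler k X (CohB1.tensorMod (Coh.structureModule X) (CohB1.tensorPow L n)) :=
      CurveTens.euler_of_iso k X (comm _ _)
    have h3 : Curv2.euler k X (CohB1.tensorMod (Coh.structureModule X) (CohB1.tensorPow L n)) =
        (Module.finrank k (Coh.HH X
          (CohB1.tensorMod (Coh.structureModule X) (CohB1.tensorPow L n)) 0) : ℤ) := by
      rw [EulerField.euler_eq_sum k X 0 _ (fun p hp => hn₀ n hn p hp)]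
      simp
    have h4 : Module.finrank k (Coh.HH X
        (CohB1.tensorMod (Coh.structureModule X) (CohB1.tensorPow L n)) 0) =
        Module.finrank k (Coh.HH X (CohB1.tensorPow L n) 0) :=
      (Groth.Agent.HypConn.hhEquivOfIso (A := k) (Groth.Agent.CMMul.unitorL _) 0).finrank_eq
    rw [h2, h3, h4] at h1
    have h5 : ((Module.finrank k (Coh.HH X (CohB1.tensorPow L n) 0) : ℤ) : ℚ) =
        ((∑ i ∈ Finset.range (d + 1), ((n + i - 1).choose i : ℤ) *
          FGA.intNum k X d (fun _ : Fin i => M) (Coh.structureModule X) : ℤ) : ℚ) := by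
      rw [h1]
    push_cast at h5
    exact h5
  refine ⟨C₀ + ∑ n ∈ Finset.range n₀,
    |(Module.finrank k (Coh.HH X (CohB1.tensorPow L n) 0) : ℚ) -
      MvPolynomial.coeff (Finsupp.equivFunOnFinite.symm fun _ : Fin d => 1) P /
        (d.factorial : ℚ) * (n : ℚ) ^ d|, fun n => ?_⟩
  have hS : (0 : ℚ) ≤ ∑ n ∈ Finset.range n₀,
      |(Module.finrank k (Coh.HH X (CohB1.tensorPow L n) 0) : ℚ) -
        MvPolynomial.coeff (Finsupp.equivFunOnFinite.symm fun _ : Fin d => 1) P /
          (d.factorial : ℚ) * (n : ℚ) ^ d| := Finset.sum_nonneg (fun _ _ => abs_nonneg _)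
  have hn0 : (0 : ℚ) ≤ (n : ℚ) := Nat.cast_nonneg n
  have hone : (1 : ℚ) ≤ ((n : ℚ) + 1) ^ (d - 1) := one_le_pow₀ (by linarith)
  by_cases hn : n₀ ≤ n
  · have h2 := hb n
    beta_reduce at h2
    rw [← key n hn, ← hc] at h2
    refine h2.trans ?_
    apply mul_le_mul_of_nonneg_right _ (by linarith)
    linarith
  · rw [not_le] at hn
    have h1 := Finset.single_le_sum (f := fun n : ℕ =>
      |(Module.finrank k (Coh.HH X (CohB1.tensorPow L n) 0) : ℚ) -
        MvPolynomial.coeff (Finsupp.equivFunOnFinite.symm fun _ : Fin d => 1) P /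
          (d.factorial : ℚ) * (n : ℚ) ^ d|) (fun _ _ => abs_nonneg _) (Finset.mem_range.mpr hn)
    refine h1.trans ?_
    calc (∑ n ∈ Finset.range n₀,
          |(Module.finrank k (Coh.HH X (CohB1.tensorPow L n) 0) : ℚ) -
            MvPolynomial.coeff (Finsupp.equivFunOnFinite.symm fun _ : Fin d => 1) P /
              (d.factorial : ℚ) * (n : ℚ) ^ d|)
        ≤ (C₀ + ∑ n ∈ Finset.range n₀,
          |(Module.finrank k (Coh.HH X (CohB1.tensorPow L n) 0) : ℚ) -
            MvPolynomial.coeff (Finsupp.equivFunOnFinite.symm fun _ : Fin d => 1) P /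
              (d.factorial : ℚ) * (n : ℚ) ^ d|) * 1 := by linarith
      _ ≤ _ := mul_le_mul_of_nonneg_left hone (by linarith)

end Main7649

end Snap9
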