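import Mathlib
import Groth.Prelude
import Groth.Agent.Lib.Snap17_helper9
import Groth.Agent.Lib.ProjTens1_helper9
import Groth.Agent.Lib.ProjSpaceProper_helper4
import Groth.Agent.Lib.Tens18_helper8
import Groth.Agent.Lib.DegPull5_helper9

/-!
# Top Hilbert coefficients of invertible modules on projective schemes are intersection numbers
(S5644, helper9).  APPEND-ONLY once landed.
-/

set_option autoImplicit false
universe u
open CategoryTheory CategoryTheory.Limits AlgebraicGeometry Opposite TopologicalSpace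

namespace Snap9

section Binom

/-- hockey stick -/
theorem choose_add_eq_sum (m : ℕ) : ∀ j : ℕ,
    (m + j).choose j = ∑ i ∈ Finset.range (j + 1), (m + i - 1).choose i := by
  intro j
  induction j with
  | zero => simp
  | succ j ih =>
    rw [Finset.sum_range_succ, ← ih]
    have e2 : m + (j + 1) - 1 = m + j := by omega
    rw [e2, ← add_assoc, Nat.choose_succ_succ]

theorem binom_indep : ∀ (r : ℕ) (x : ℕ → ℤ) (N : ℕ),
    (∀ m, N ≤ m → ∑ i ∈ Finset.range (r + 1), x i * ((m + i - 1).choose i : ℤ) = 0) →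
    ∀ i ≤ r, x i = 0 := by
  intro r
  induction r with
  | zero =>
    intro x N h i hi
    obtain rfl : i = 0 := by omega
    have := h N le_rfl
    simpa using this
  | succ r ih =>
    intro x N h
    have hstep : ∀ m, N + 1 ≤ m →
        ∑ i ∈ Finset.range (r + 1), x (i + 1) * ((m + i - 1).choose i : ℤ) = 0 := by
      intro m hm
      obtain ⟨m, rfl⟩ : ∃ m', m = m' + 1 := ⟨m - 1, by omega⟩
      have h1 := h (m + 1) (by omega)
      have h2 := h m (by omega)
      rw [Finset.sum_range_succ'] at h1 h2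
      have h3 : ∑ i ∈ Finset.range (r + 1), x (i + 1) * (((m + 1 + (i + 1) - 1).choose (i + 1) : ℤ) -
          ((m + (i + 1) - 1).choose (i + 1) : ℤ)) = 0 := by
        have : ∑ i ∈ Finset.range (r + 1), x (i + 1) * (((m + 1 + (i + 1) - 1).choose (i + 1) : ℤ) -
          ((m + (i + 1) - 1).choose (i + 1) : ℤ)) =
          (∑ i ∈ Finset.range (r + 1), x (i + 1) * ((m + 1 + (i + 1) - 1).choose (i + 1) : ℤ)) -
          ∑ i ∈ Finset.range (r + 1), x (i + 1) * ((m + (i + 1) - 1).choose (i + 1) : ℤ) := by
          rw [← Finset.sum_sub_distrib]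
          apply Finset.sum_congr rfl
          intro i _
          ring
        rw [this]
        simp only [Nat.choose_zero_right, Nat.cast_one, mul_one] at h1 h2
        linarith
      rw [← h3]
      apply Finset.sum_congr rfl
      intro i _
      have e1 : m + 1 + (i + 1) - 1 = (m + i) + 1 := by omega
      have e2 : m + (i + 1) - 1 = m + i := by omega
      have e3 : m + 1 + i - 1 = m + i := by omega
      rw [e1, e2, e3, Nat.choose_succ_succ]
      push_cast
      ring
    have hx := ih (fun i => x (i + 1)) (N + 1) hstep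
    intro i hi
    rcases Nat.eq_zero_or_pos i with rfl | hpos
    · have h0 := h N le_rfl
      rw [Finset.sum_range_succ', Finset.sum_eq_zero] at h0
      · simpa using h0
      · intro j hj
        rw [hx j (by rw [Finset.mem_range] at hj; omega), zero_mul]
    · obtain ⟨i, rfl⟩ : ∃ i', i = i' + 1 := ⟨i - 1, by omega⟩
      exact hx i (by omega)

/-- change of basis -/
theorem sum_choose_rebase (r : ℕ) (a : ℕ → ℤ) (m : ℕ) :
    ∑ j ∈ Finset.range (r + 1), a j * ((m + j).choose j : ℤ) =
      ∑ i ∈ Finset.range (r + 1), (∑ j ∈ Finset.Icc i r, a j) * ((m + i - 1).choose i : ℤ) := by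
  simp_rw [choose_add_eq_sum m, Nat.cast_sum, Finset.mul_sum, Finset.sum_mul]
  rw [Finset.sum_sigma', Finset.sum_sigma']
  apply Finset.sum_bij' (fun p _ => (⟨p.2, p.1⟩ : Σ _ : ℕ, ℕ)) (fun p _ => (⟨p.2, p.1⟩ : Σ _ : ℕ, ℕ))
  · rintro ⟨j, i⟩ h
    simp only [Finset.mem_sigma, Finset.mem_range, Finset.mem_Icc] at h ⊢
    omega
  · rintro ⟨i, j⟩ h
    simp only [Finset.mem_sigma, Finset.mem_range, Finset.mem_Icc] at h ⊢
    omega
  · rintro ⟨j, i⟩ _; rfl
  · rintro ⟨i, j⟩ _; rfl
  · rintro ⟨j, i⟩ _; rfl

/-- extracting the two top coefficients -/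
theorem top_coeffs (r : ℕ) (a c : ℕ → ℤ)
    (h : ∀ m : ℕ, ∑ j ∈ Finset.range (r + 2), a j * ((m + j).choose j : ℤ) =
      ∑ i ∈ Finset.range (r + 2), ((m + i - 1).choose i : ℤ) * c i) :
    a (r + 1) = c (r + 1) ∧ a r = c r - c (r + 1) := by
  have key := binom_indep (r + 1) (fun i => (∑ j ∈ Finset.Icc i (r + 1), a j) - c i) 0 (by
    intro m _
    have := h m
    rw [sum_choose_rebase] at this
    simp only [sub_mul, Finset.sum_sub_distrib]
    rw [this, sub_eq_zero]
    apply Finset.sum_congr rfl
    intro i _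
    ring)
  have h1 := key (r + 1) le_rfl
  have h2 := key r (by omega)
  simp only [Finset.Icc_self, Finset.sum_singleton] at h1
  have h3 : Finset.Icc r (r + 1) = {r, r + 1} := by
    ext x; simp only [Finset.mem_Icc, Finset.mem_insert, Finset.mem_singleton]; omega
  rw [h3, Finset.sum_pair (by omega)] at h2
  constructor
  · linarith
  · linarith


end Binom

section Geo

open Groth.Agent.TensInv Groth.Agent.Lib.GVanH2 TensH8

variable (k : Type u) [Field k] (n : ℕ) {X : Scheme.{u}} (i : X ⟶ CohB1.ProjSpace n k)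

/-- `O_X(d) = i^* O(d)` -/
noncomputable abbrev HX (d : ℤ) : X.Modules :=
  (Scheme.Modules.pullback i).obj (Twist.twistProjSpace n k d)

theorem isInvertible_twist (d : ℤ) : PicF.IsInvertible (Twist.twistProjSpace n k d) := by
  obtain ⟨e⟩ := Groth.Agent.ProjTens.twist_inv n k d (-d) (by omega)
  exact InvTensH8.isInvertible_of_tensor_iso e

theorem isInvertible_HX (d : ℤ) : PicF.IsInvertible (HX k n i d) :=
  TensH8.isInvertible_pullback i (isInvertible_twist k n d)

theorem nonempty_HX_inv (a b : ℤ) (h : a + b = 0) :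
    Nonempty (CohB1.tensorMod (HX k n i a) (HX k n i b) ≅ Coh.structureModule X) := by
  obtain ⟨e⟩ := Groth.Agent.ProjTens.twist_inv n k a b h
  exact ⟨(PullTensH9.pullTensIso i (isInvertible_twist k n a) (isInvertible_twist k n b)).symm ≪≫
    (Scheme.Modules.pullback i).mapIso e ≪≫ PBH8.pullbackUnitIso i⟩

theorem nonempty_HX_pow : ∀ m : ℕ,
    Nonempty (HX k n i (m : ℤ) ≅ CohB1.tensorPow (HX k n i 1) m) := by
  intro m
  induction m with
  | zero =>
    obtain ⟨e0⟩ := Groth.Agent.ProjTens.twist_zero n k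
    exact ⟨(Scheme.Modules.pullback i).mapIso e0 ≪≫ PBH8.pullbackUnitIso i⟩
  | succ m ih =>
    obtain ⟨e⟩ := ih
    obtain ⟨e1⟩ := Groth.Agent.ProjTens.twist_add' n k (m : ℤ) 1 ((m + 1 : ℕ) : ℤ) (by push_cast; ring)
    exact ⟨(Scheme.Modules.pullback i).mapIso e1.symm ≪≫
      PullTensH9.pullTensIso i (isInvertible_twist k n m) (isInvertible_twist k n 1) ≪≫
      mapR e _⟩

variable [X.Over (Spec (CommRingCat.of k))]

theorem isProper_of_closedImmersion [IsClosedImmersion i]
    (hi : i ≫ CohB1.ProjSpace.toSpec n k = X ↘ Spec (CommRingCat.of k)) :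
    IsProper (X ↘ Spec (CommRingCat.of k)) := by
  rw [← hi]
  haveI := Groth.Agent.Lib.ProjSpaceProperH4.isProper_toSpec n k
  infer_instance

variable [IsProper (X ↘ Spec (CommRingCat.of k))]

/-- the Hilbert polynomial of a coherent module in terms of intersection numbers -/
theorem eulerCharLE_twistOn (d : ℕ) (hd : topologicalKrullDim X ≤ d) (F : X.Modules)
    (hF : Coh.IsCoh F) (m : ℕ) :
    FGA.eulerCharLE k X (Pic13.twistOn k i F m) d =
      ∑ j ∈ Finset.range (d + 1), ((m + j - 1).choose j : ℤ) *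
        altSum k X (List.replicate j (HX k n i (-1))) F := by
  obtain ⟨e⟩ := nonempty_HX_pow k n i m
  have hsupp : topologicalKrullDim (CohB1.support F) ≤ d :=
    (topologicalKrullDim_subspace_le X _).trans hd
  have h := main11753 k X d hd (HX k n i 1) (HX k n i (-1)) (isInvertible_HX k n i 1)
    (nonempty_HX_inv k n i 1 (-1) (by omega)) F hF d hsupp m
  have e' : Pic13.twistOn k i F m ≅ CohB1.tensorMod (CohB1.tensorPow (HX k n i 1) m) F :=
    mapL F e ≪≫ comm _ _
  rw [← euler_eq_eulerCharLE k X d hd, CurveTens.euler_of_iso k X e',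
    euler_eq_eulerCharLE k X d hd, h]
  apply Finset.sum_congr rfl
  intro j _
  rw [intNum_eq_altSum k X d hd, List.ofFn_const]

/-- **S5644** -/
theorem main5644 (s : ℕ) (hdim : topologicalKrullDim X = (s + 1 : ℕ))
    (L L' : X.Modules) (hL : PicF.IsInvertible L)
    (hLL' : Nonempty (CohB1.tensorMod L L' ≅ Coh.structureModule X))
    (a e : Fin (s + 2) → ℤ)
    (ha : ∀ m : ℕ, FGA.eulerCharLE k X (Pic13.twistOn k i L m) (s + 1) =
      ∑ j : Fin (s + 2), a j * ((m + j).choose j : ℤ))
    (he : ∀ m : ℕ, FGA.eulerCharLE k X (Pic13.twistOn k i (Coh.structureModule X) m) (s + 1) =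
      ∑ j : Fin (s + 2), e j * ((m + j).choose j : ℤ)) :
    a (Fin.last (s + 1)) = e (Fin.last (s + 1)) ∧
      a (Fin.last (s + 1)) = FGA.intNum k X (s + 1)
        (fun _ : Fin (s + 1) => HX k n i (-1)) (Coh.structureModule X) ∧
      a (Fin.castSucc (Fin.last s)) - e (Fin.castSucc (Fin.last s)) = FGA.intNum k X (s + 1)
        (Matrix.vecCons L' (fun _ : Fin s => HX k n i (-1))) (Coh.structureModule X) := by
  haveI : IsLocallyNoetherian X :=
    LocallyOfFiniteType.isLocallyNoetherian (X ↘ Spec (CommRingCat.of k))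
  have hd : topologicalKrullDim X ≤ ((s + 1 : ℕ) : WithBot ℕ∞) := hdim.le
  obtain ⟨ε⟩ := hLL'
  have hL' : PicF.IsInvertible L' := InvTensH8.isInvertible_of_tensor_iso (comm L' L ≪≫ ε)
  have hH' := isInvertible_HX k n i (-1)
  have hOcoh := CohDevH8.isCoh_structureModule X
  have hLcoh : Coh.IsCoh L := ProperFinH9.isCoh_of_isInvertible hL
  set H' := HX k n i (-1) with hH'def
  -- the coefficient extraction
  have extract : ∀ (F : X.Modules) (_ : Coh.IsCoh F) (b : Fin (s + 2) → ℤ)
      (_ : ∀ m : ℕ, FGA.eulerCharLE k X (Pic13.twistOn k i F m) (s + 1) =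
        ∑ j : Fin (s + 2), b j * ((m + j).choose j : ℤ)),
      b (Fin.last (s + 1)) = altSum k X (List.replicate (s + 1) H') F ∧
        b (Fin.castSucc (Fin.last s)) = altSum k X (List.replicate s H') F -
          altSum k X (List.replicate (s + 1) H') F := by
    intro F hF b hb
    let b' : ℕ → ℤ := fun j => if h : j < s + 2 then b ⟨j, h⟩ else 0
    have h1 := top_coeffs s b' (fun j => altSum k X (List.replicate j H') F) (by
      intro m
      rw [← eulerCharLE_twistOn k n i (s + 1) hd F hF m, hb m,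
        ← Fin.sum_univ_eq_sum_range (fun j => b' j * ((m + j).choose j : ℤ)) (s + 2)]
      apply Finset.sum_congr rfl
      intro j _
      simp only [b', dif_pos j.2])
    have e1 : b' (s + 1) = b (Fin.last (s + 1)) := by
      simp only [b']; rw [dif_pos (by omega)]; rfl
    have e2 : b' s = b (Fin.castSucc (Fin.last s)) := by
      simp only [b']; rw [dif_pos (by omega)]; rfl
    rw [e1, e2] at h1
    exact h1
  obtain ⟨hA1, hA2⟩ := extract L hLcoh a ha
  obtain ⟨hE1, hE2⟩ := extract (Coh.structureModule X) hOcoh e he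
  -- (i)
  have hl : ∀ (j : ℕ), ∀ N ∈ List.replicate j H', PicF.IsInvertible N := by
    intro j N hN
    rw [List.eq_of_mem_replicate hN]; exact hH'
  have htop : altSum k X (List.replicate (s + 1) H') L =
      altSum k X (List.replicate (s + 1) H') (Coh.structureModule X) := by
    have h0 : altSum k X (L' :: List.replicate (s + 1) H') L = 0 := by
      refine altSum_eq_zero k X _ ?_ L hLcoh ⊤ (fun _ _ => trivial) ?_
      · intro N hN
        rcases List.mem_cons.mp hN with rfl | hN
        · exact hL'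
        · exact hl _ N hN
      · refine lt_of_le_of_lt ((dimC_top_le (X := X.toTopCat)).trans hd) ?_
        simp only [List.length_cons, List.length_replicate]
        exact_mod_cast Nat.lt_succ_self (s + 1)
    rw [altSum_cons, altSum_of_iso k X _ ε] at h0
    linarith
  have hOdim : topologicalKrullDim (CohB1.support (Coh.structureModule X)) ≤
      (((List.replicate s H').length + 1 : ℕ) : WithBot ℕ∞) := by
    rw [List.length_replicate]
    exact (topologicalKrullDim_subspace_le X _).trans hd
  have hflip := altSum_flip k X (List.replicate s H') (hl s) hL hL' ε (Coh.structureModule X)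
    hOcoh hOdim
  rw [altSum_cons, altSum_of_iso k X _ (comm (Coh.structureModule X) L ≪≫ rightUnit L)] at hflip
  refine ⟨by rw [hA1, hE1, htop], ?_, ?_⟩
  · rw [hA1, htop, intNum_eq_altSum k X (s + 1) hd, List.ofFn_const]
  · rw [hA2, hE2, intNum_eq_altSum k X (s + 1) hd, List.ofFn_succ]
    simp only [Matrix.cons_val_zero, Matrix.cons_val_succ, List.ofFn_const]
    linarith

end Geo

end Snap9
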