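import Mathlib
import Groth.Prelude
import Groth.Agent.Lib.Snap18_helper9
import Groth.Agent.Lib.Snap16_helper9
import Groth.Agent.Lib.AffDim5_helper8
import Groth.Agent.Lib.ProjTwAmple_helper5

/-!
# Effective nonzero Cartier divisors have positive degree (S5632, helper9).
APPEND-ONLY once landed.
-/

set_option autoImplicit false
universe u
open CategoryTheory CategoryTheory.Limits AlgebraicGeometry Opposite TopologicalSpace

namespace Snap9

section Krull

/-- **Krull's principal ideal theorem, geometrically**: on an irreducible scheme of dimension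
`d + 1` locally of finite type over a field, the closure of a point corresponding to a minimal
prime over a principal ideal has dimension `≥ d` -/
theorem le_dim_closure_of_minimalPrimes (k : Type u) [Field k] (X : Scheme.{u})
    [X.Over (Spec (CommRingCat.of k))] [LocallyOfFiniteType (X ↘ Spec (CommRingCat.of k))]
    [IrreducibleSpace X] (d : ℕ)
    (hdim : topologicalKrullDim X = ((d + 1 : ℕ) : WithBot ℕ∞))
    {W : X.Opens} (hW : IsAffineOpen W) (f : Γ(X, W)) (P : PrimeSpectrum Γ(X, W))
    (hmin : P.asIdeal ∈ (Ideal.span {f}).minimalPrimes) :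
    (d : WithBot ℕ∞) ≤ topologicalKrullDim ↥(closure ({hW.fromSpec P} : Set X)) := by
  haveI : IsLocallyNoetherian X :=
    LocallyOfFiniteType.isLocallyNoetherian (X ↘ Spec (CommRingCat.of k))
  haveI : IsNoetherianRing Γ(X, W) := IsLocallyNoetherian.component_noetherian ⟨W, hW⟩
  set y := hW.fromSpec P with hy
  have hyW : y ∈ W := by
    have h : hW.fromSpec P ∈ hW.fromSpec.opensRange := ⟨P, rfl⟩
    rwa [hW.opensRange_fromSpec] at h
  have hPy : hW.primeIdealOf ⟨y, hyW⟩ = P :=
    hW.fromSpec.isOpenEmbedding.injective (hW.fromSpec_primeIdealOf ⟨y, hyW⟩)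
  have hht : P.asIdeal.height ≤ 1 :=
    Ideal.height_le_one_of_isPrincipal_of_mem_minimalPrimes _ _ hmin
  letI := TopCat.Presheaf.algebra_section_stalk X.presheaf (⟨y, hyW⟩ : W)
  haveI : IsLocalization.AtPrime (X.presheaf.stalk y) P.asIdeal := by
    have := hW.isLocalization_stalk ⟨y, hyW⟩
    rwa [hPy] at this
  have hco : (Order.coheight y : WithBot ℕ∞) ≤ 1 := by
    rw [← AlgebraicGeometry.ringKrullDim_stalk_eq_coheight,
      IsLocalization.AtPrime.ringKrullDim_eq_height P.asIdeal (X.presheaf.stalk y)]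
    exact_mod_cast hht
  obtain ⟨d', hd', hloc⟩ := Groth.Agent.Lib.AffDimH8.exists_dim_nat_of_irreducible k X
    (X ↘ Spec (CommRingCat.of k))
  have hdd : d' = d + 1 := by
    have : ((d' : ℕ) : WithBot ℕ∞) = ((d + 1 : ℕ) : WithBot ℕ∞) := by rw [← hd', hdim]
    exact_mod_cast this
  have h1 := hloc y
  rw [LocDimProdH8.localDim_eq k X y, hdd] at h1
  rw [Groth.Agent.ClosHtH8.topologicalKrullDim_closure_singleton X y]
  have hco' : Order.coheight y ≤ 1 := by exact_mod_cast hco
  have h2 : (Order.coheight y + Order.height y : ℕ∞) = ((d + 1 : ℕ) : ℕ∞) := by exact_mod_cast h1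
  have h3 : ((d : ℕ) : ℕ∞) ≤ Order.height y := by
    by_contra hlt
    rw [not_le] at hlt
    have h4 : Order.coheight y + Order.height y < 1 + (d : ℕ∞) := by
      calc Order.coheight y + Order.height y ≤ 1 + Order.height y := by gcongr
        _ < 1 + (d : ℕ∞) := by
          apply (ENat.add_lt_add_iff_left (by simp)).mpr hlt
    rw [h2] at h4
    push_cast at h4
    rw [add_comm] at h4
    exact lt_irrefl _ h4
  exact_mod_cast h3

end Krull

section Main5632

open QcqsLoc QCohExtn GenLocH8 TensH8 FLFH8 NegTw9 Groth.Agent.TensInv Groth.Agent.Lib.GVanH2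

variable (k : Type u) [Field k] (n : ℕ) {X : Scheme.{u}} (i : X ⟶ CohB1.ProjSpace n k)

/-- `O(1)` is ample on projective space -/
theorem isAmple_twist_one_projSpace : CohB1.IsAmple (Twist.twistProjSpace n k 1) := by
  classical
  exact Groth.Agent.ProjTw.isAmple_twist_one (CohB1.polyGrading n k) _
    (Groth.Agent.ProjFin.hs1_X n k) (Groth.Agent.ProjFin.hcov_X n k)

variable [X.Over (Spec (CommRingCat.of k))]

/-- **S5632** -/
theorem main5632 [IsClosedImmersion i]
    (hi : i ≫ CohB1.ProjSpace.toSpec n k = X ↘ Spec (CommRingCat.of k))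
    [IsIntegral X] (s : ℕ) (hdim : topologicalKrullDim X = (s + 1 : ℕ))
    (L L' : X.Modules) (hL : PicF.IsInvertible L)
    (hLL' : Nonempty (CohB1.tensorMod L L' ≅ Coh.structureModule X))
    (hdeg : FGA.intNum k X (s + 1)
      (Matrix.vecCons L' (fun _ : Fin s => HX k n i (-1))) (Coh.structureModule X) ≤ 0)
    (hsec : Nontrivial (Coh.HH X L 0)) :
    Nonempty (L ≅ Coh.structureModule X) := by
  haveI := isProper_of_closedImmersion k n i hi
  haveI : IsLocallyNoetherian X :=
    LocallyOfFiniteType.isLocallyNoetherian (X ↘ Spec (CommRingCat.of k))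
  haveI : CompactSpace X :=
    QuasiCompact.compactSpace_of_compactSpace (X ↘ Spec (CommRingCat.of k))
  have hd : topologicalKrullDim X ≤ ((s + 1 : ℕ) : WithBot ℕ∞) := hdim.le
  obtain ⟨ε⟩ := hLL'
  have hL' : PicF.IsInvertible L' := InvTensH8.isInvertible_of_tensor_iso (comm L' L ≪≫ ε)
  have hH' := isInvertible_HX k n i (-1)
  have hOcoh := CohDevH8.isCoh_structureModule X
  set H' := HX k n i (-1) with hH'def
  obtain ⟨σ, hσ⟩ := Groth.Agent.NegPow.exists_hom_ne_zero L hsec
  haveI hmono : Mono (mu (tauOf σ ε) (Coh.structureModule X)) :=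
    mono_mu_structureModule hL hL' σ hσ ε
  set Q := cokernel (mu (tauOf σ ε) (Coh.structureModule X)) with hQ
  have hQcoh : Coh.IsCoh Q :=
    CohKerH8.isCoh_cokernel (isCoh_tensorMod hOcoh hL') hOcoh _
  have hl : ∀ N ∈ List.replicate s H', PicF.IsInvertible N := by
    intro N hN
    rw [List.eq_of_mem_replicate hN]; exact hH'
  -- the degree is the intersection number of the zero scheme
  rw [intNum_eq_altSum k X (s + 1) hd, List.ofFn_succ] at hdeg
  simp only [Matrix.cons_val_zero, Matrix.cons_val_succ, List.ofFn_const] at hdeg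
  rw [altSum_cons_of_mono k X (List.replicate s H') hl hL' (tauOf σ ε) (Coh.structureModule X)
    hOcoh] at hdeg
  by_cases hempty : CohB1.support Q = ∅
  · -- the section vanishes nowhere
    have hQ0 : IsZero Q := CohDevH8.isZero_of_support_eq_empty Q hempty
    haveI : Epi (mu (tauOf σ ε) (Coh.structureModule X)) :=
      Preadditive.epi_of_cokernel_zero (hQ0.eq_of_tgt _ _)
    haveI : IsIso (mu (tauOf σ ε) (Coh.structureModule X)) := isIso_of_mono_of_epi _
    let e1 : CohB1.tensorMod (Coh.structureModule X) L' ≅ Coh.structureModule X :=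
      asIso (mu (tauOf σ ε) (Coh.structureModule X))
    let e2 : L' ≅ Coh.structureModule X :=
      (comm (Coh.structureModule X) L' ≪≫ rightUnit L').symm ≪≫ e1
    exact ⟨(rightUnit L).symm ≪≫ mapL L e2.symm ≪≫ ε⟩
  · exfalso
    haveI := hQcoh.2
    have hQcl : IsClosed (CohB1.support Q) := SuppFT.isClosed_support Q
    obtain ⟨x, hx⟩ := Set.nonempty_iff_ne_empty.mpr hempty
    obtain ⟨W, hW, hxW, -, e, he⟩ := exists_isGen_le hL' x ⊤ trivial
    haveI : IsNoetherianRing Γ(X, W) := IsLocallyNoetherian.component_noetherian ⟨W, hW⟩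
    set f := ofM (ap (tauOf σ ε) W e) with hf
    have hxf : x ∉ X.basicOpen f := fun h =>
      hx (subsingleton_stalk_cokernel_mu (tauOf σ ε) (Coh.structureModule X) h)
    have hmem : ∀ P : PrimeSpectrum Γ(X, W), hW.fromSpec P ∈ X.basicOpen f ↔ f ∉ P.asIdeal := by
      intro P
      have h1 : hW.fromSpec P ∈ X.basicOpen f ↔ P ∈ hW.fromSpec ⁻¹ᵁ X.basicOpen f := Iff.rfl
      rw [h1, hW.fromSpec_preimage_basicOpen]
      exact PrimeSpectrum.mem_basicOpen _ _
    have hPx : hW.fromSpec (hW.primeIdealOf ⟨x, hxW⟩) = x := hW.fromSpec_primeIdealOf ⟨x, hxW⟩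
    have hfP : f ∈ (hW.primeIdealOf ⟨x, hxW⟩).asIdeal := by
      by_contra h
      exact hxf (hPx ▸ (hmem _).mpr h)
    obtain ⟨q, hqmin, hqle⟩ := Ideal.exists_minimalPrimes_le
      (show Ideal.span {f} ≤ (hW.primeIdealOf ⟨x, hxW⟩).asIdeal from
        (Ideal.span_singleton_le_iff_mem _).mpr hfP)
    let P : PrimeSpectrum Γ(X, W) := ⟨q, hqmin.1.1⟩
    set y := hW.fromSpec P with hy
    have hyW : y ∈ W := by
      have h : hW.fromSpec P ∈ hW.fromSpec.opensRange := ⟨P, rfl⟩
      rwa [hW.opensRange_fromSpec] at h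
    have hfq : f ∈ q := (Ideal.span_singleton_le_iff_mem _).mp hqmin.1.2
    have hyf : y ∉ X.basicOpen f := fun h => (hmem P).mp h hfq
    have hyQ : y ∈ CohB1.support Q :=
      mem_support_cokernel_mu (tauOf σ ε) (Coh.structureModule X) hOcoh he hyW hyf (by
        rw [CohDevH8.support_structureModule]; trivial)
    have hlow := le_dim_closure_of_minimalPrimes k X s hdim hW f P hqmin
    have hsub : closure ({y} : Set X) ⊆ CohB1.support Q :=
      closure_minimal (Set.singleton_subset_iff.mpr hyQ) hQcl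
    have hlow' : (s : WithBot ℕ∞) ≤ topologicalKrullDim ↥(CohB1.support Q) :=
      hlow.trans (Topology.IsEmbedding.inclusion hsub).isInducing.topologicalKrullDim_le
    -- the upper bound
    obtain ⟨W₀, e₀, x₀, he₀, hx₀⟩ := exists_mem_basicOpen_tauOf hL hL' σ hσ ε
    have hx₀Q : x₀ ∉ CohB1.support Q := fun h =>
      h (subsingleton_stalk_cokernel_mu (tauOf σ ε) (Coh.structureModule X) hx₀)
    have hlt : (⟨CohB1.support Q, hQcl⟩ : Closeds X) < ⊤ := by
      refine lt_of_le_of_ne le_top ?_
      intro heq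
      apply hx₀Q
      have : x₀ ∈ ((⟨CohB1.support Q, hQcl⟩ : Closeds X) : Set X) := by rw [heq]; trivial
      exact this
    have hirr : IsIrreducible (((⊤ : Closeds X) : Closeds X) : Set X) := by
      rw [Closeds.coe_top]
      exact IrreducibleSpace.isIrreducible_univ X
    have htop : dimC (X := X.toTopCat) (⊤ : Closeds X) < ((s + 1 + 1 : ℕ) : WithBot ℕ∞) := by
      refine lt_of_le_of_lt ((dimC_top_le (X := X.toTopCat)).trans hd) ?_
      exact_mod_cast Nat.lt_succ_self (s + 1)
    have hup : topologicalKrullDim ↥(CohB1.support Q) ≤ (s : WithBot ℕ∞) :=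
      (dimC_eq ⟨_, hQcl⟩).symm.le.trans ((withBot_lt_succ_iff _ s).mp
        (Groth.Agent.Lib.GVanH2.dimC_lt_of_lt (X := X.toTopCat) hirr hlt (s + 1) htop))
    have hHamp : CohB1.IsAmple (HX k n i 1) :=
      TensH8.isAmple_pullback_of_isAffineHom i (isAmple_twist_one_projSpace k n)
    have hpos := altSum_pos k X (List.replicate s H') (by
      intro N hN
      rw [List.eq_of_mem_replicate hN]
      exact ⟨HX k n i 1, hHamp, nonempty_HX_inv k n i 1 (-1) (by omega)⟩) Q hQcoh (by
      rw [List.length_replicate]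
      exact le_antisymm hup hlow')
    exact absurd hdeg (not_le.mpr hpos)

end Main5632

end Snap9
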