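import Mathlib
import Groth.Prelude
import Groth.Agent.Lib.Snap13_helper9
import Groth.Agent.Lib.DimZeroGG_helper8
import Groth.Agent.Lib.DegPull5_helper9

/-!
# The multiplicity formula for additive functions on `K₀(Coh X)`; degree of a locally free module
on a proper scheme of dimension `≤ 1` as a sum over irreducible components (S1641, helper9).
APPEND-ONLY once landed.
-/

set_option autoImplicit false
universe u
open CategoryTheory CategoryTheory.Limits AlgebraicGeometry Opposite TopologicalSpace

namespace Snap9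

section General

variable {X : Scheme.{u}} [IsNoetherian X]

open CycLenH8 in
/-- **multiplicity formula** for an additive function on `K₀(Coh X)` vanishing on the classes of
modules supported in dimension `< n` -/
theorem hom_eq_finsum (φ : KZero.K0sub (fun M : X.Modules => Coh.IsCoh M) →+ ℤ) (n : ℕ)
    (hφ : ∀ G : X.Modules, Coh.IsCoh G → topologicalKrullDim ↥(CohB1.support G) < n →
      φ (KZero.clSub (fun M : X.Modules => Coh.IsCoh M) G) = 0)
    (F : X.Modules) (hF : Coh.IsCoh F) (hsupp : topologicalKrullDim ↥(CohB1.support F) ≤ n) :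
    φ (KZero.clSub (fun M : X.Modules => Coh.IsCoh M) F) = ∑ᶠ ξ : X,
      (if topologicalKrullDim (closure ({ξ} : Set X)) = (n : WithBot ℕ∞) then
        ((Module.length (X.presheaf.stalk ξ) (F.presheaf.stalk ξ)).toNat : ℤ) *
          φ (KZero.clSub (fun M : X.Modules => Coh.IsCoh M) (Cyc.closureStructureSheaf ξ))
        else 0) := by
  haveI := hF.2
  have hcl : IsClosed (CohB1.support F) := SuppFT.isClosed_support F
  have hmem := clSub_sub_lenSum_mem n F hF hsupp
  have hle : AddSubgroup.closure {c : KZero.K0sub (fun M : X.Modules => Coh.IsCoh M) |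
        ∃ G : X.Modules, Coh.IsCoh G ∧ topologicalKrullDim ↥(CohB1.support G) < n ∧
          c = KZero.clSub (fun M : X.Modules => Coh.IsCoh M) G} ≤ φ.ker := by
    rw [AddSubgroup.closure_le]
    rintro _ ⟨G, hG, hdim, rfl⟩
    rw [SetLike.mem_coe, AddMonoidHom.mem_ker]
    exact hφ G hG hdim
  have h0 : φ _ = 0 := hle hmem
  rw [map_sub, sub_eq_zero] at h0
  rw [h0, lenSum_eq_sum hcl hsupp (fun _ h => h), map_sum]
  have hterm : ∀ ξ : X, φ (lenTerm n F ξ) =
      (if topologicalKrullDim (closure ({ξ} : Set X)) = (n : WithBot ℕ∞) then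
        ((Module.length (X.presheaf.stalk ξ) (F.presheaf.stalk ξ)).toNat : ℤ) *
          φ (KZero.clSub (fun M : X.Modules => Coh.IsCoh M) (Cyc.closureStructureSheaf ξ))
        else 0) := by
    intro ξ
    unfold lenTerm
    split_ifs with h
    · rw [map_nsmul, nsmul_eq_mul]
    · rw [map_zero]
  rw [← funext hterm]
  symm
  apply finsum_eq_sum_of_support_subset
  rw [Set.Finite.coe_toFinset]
  refine Set.Subset.trans ?_ (lenTerm_support_subset hcl hsupp (fun _ h => h))
  intro ξ hξ
  rw [Function.mem_support] at hξ ⊢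
  intro h
  apply hξ
  rw [h, map_zero]

end General

section Curve

open Groth.Agent.TensInv

variable (k : Type u) [Field k] (X : Scheme.{u}) [X.Over (Spec (CommRingCat.of k))]
  [IsProper (X ↘ Spec (CommRingCat.of k))]

/-- the twisted Euler characteristic defect as a homomorphism on `K₀(Coh X)` -/
noncomputable def phiHom (E : X.Modules) (n : ℕ) (hE : FlatMod.IsFinLocFreeOfRank n E) :
    KZero.K0sub (fun M : X.Modules => Coh.IsCoh M) →+ ℤ :=
  Groth.Agent.Lib.KZeroH4.liftSub _ (fun A => DegPull.phi k X E n A)
    (fun S hS h1 h2 h3 => by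
      haveI : IsLocallyNoetherian X :=
        LocallyOfFiniteType.isLocallyNoetherian (X ↘ Spec (CommRingCat.of k))
      have hE' := TensBasis.isFinLocFree_of_rank hE
      have e1 := EulerField.euler_additive k X S hS h1 h2 h3
      have e2 := EulerField.euler_additive k X (S.map (tR E)) (TensBasis.shortExact_tR hE' S hS)
        (TensBasis.isCoh_tensorMod_finLocFree h1 hE') (TensBasis.isCoh_tensorMod_finLocFree h2 hE')
        (TensBasis.isCoh_tensorMod_finLocFree h3 hE')
      have e2' : Curv2.euler k X (CohB1.tensorMod S.X₂ E) =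
          Curv2.euler k X (CohB1.tensorMod S.X₁ E) + Curv2.euler k X (CohB1.tensorMod S.X₃ E) := e2
      show DegPull.phi k X E n S.X₂ = DegPull.phi k X E n S.X₁ + DegPull.phi k X E n S.X₃
      unfold DegPull.phi
      rw [e1, e2']
      ring)

theorem phiHom_clSub (E : X.Modules) (n : ℕ) (hE : FlatMod.IsFinLocFreeOfRank n E)
    (F : X.Modules) (hF : Coh.IsCoh F) :
    phiHom k X E n hE (KZero.clSub (fun M : X.Modules => Coh.IsCoh M) F) = DegPull.phi k X E n F :=
  Groth.Agent.Lib.KZeroH4.liftSub_clSub _ _ _ F hF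

/-- `phi` vanishes on coherent modules with zero-dimensional support -/
theorem phi_eq_zero_of_dim (E : X.Modules) (n : ℕ) (hE : FlatMod.IsFinLocFreeOfRank n E)
    (G : X.Modules) (hG : Coh.IsCoh G)
    (hdim : topologicalKrullDim ↥(CohB1.support G) < ((1 : ℕ) : WithBot ℕ∞)) :
    DegPull.phi k X E n G = 0 := by
  haveI := hG.2
  have hcl : IsClosed (CohB1.support G) := SuppFT.isClosed_support G
  have hd0 : topologicalKrullDim ↥(CohB1.support G) ≤ 0 := by
    have := (withBot_lt_succ_iff (topologicalKrullDim ↥(CohB1.support G)) 0).mp hdim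
    exact_mod_cast this
  have h0 : ∀ x ∈ CohB1.support G, IsClosed ({x} : Set X) := by
    intro x hx
    rw [← CycLenH8.closure_singleton_of_dim_zero hcl hd0 hx]
    exact isClosed_closure
  unfold DegPull.phi
  rw [BirCurve.euler_tensor_rank k X G E hG hE h0]
  ring

/-- `phi` of the structure sheaf of a closed subscheme is the degree of the restriction -/
theorem phi_quotMod (E : X.Modules) (n : ℕ) (hE : FlatMod.IsFinLocFreeOfRank n E)
    (D : X.IdealSheafData) :
    DegPull.phi k X E n (ClSub.quotMod D) =
      @Curv2.deg k _ D.subscheme ⟨D.subschemeι ≫ (X ↘ Spec (CommRingCat.of k))⟩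
        ((Scheme.Modules.pullback D.subschemeι).obj E) n := by
  letI : D.subscheme.Over (Spec (CommRingCat.of k)) :=
    ⟨D.subschemeι ≫ (X ↘ Spec (CommRingCat.of k))⟩
  haveI : IsLocallyNoetherian X :=
    LocallyOfFiniteType.isLocallyNoetherian (X ↘ Spec (CommRingCat.of k))
  have h1 := DegPull.euler_pullback_eq k D.subschemeι rfl E (TensBasis.isFinLocFree_of_rank hE)
  have h2 := BirCurve.euler_push k D.subschemeι rfl (Coh.structureModule D.subscheme)
  unfold DegPull.phi Curv2.deg
  rw [h1, ← h2]

theorem deg_subscheme_congr (E : X.Modules) (n : ℕ) {D D' : X.IdealSheafData} (h : D = D') :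
    @Curv2.deg k _ D.subscheme ⟨D.subschemeι ≫ (X ↘ Spec (CommRingCat.of k))⟩
        ((Scheme.Modules.pullback D.subschemeι).obj E) n =
      @Curv2.deg k _ D'.subscheme ⟨D'.subschemeι ≫ (X ↘ Spec (CommRingCat.of k))⟩
        ((Scheme.Modules.pullback D'.subschemeι).obj E) n := by
  subst h; rfl

/-- **S1641** -/
theorem main1641 [IsNoetherian X] (hdim : topologicalKrullDim X ≤ 1)
    (n : ℕ) (E : X.Modules) (hE : FlatMod.IsFinLocFreeOfRank n E) :
    Curv2.deg k X E n = ∑ᶠ Z : irreducibleComponents (X : Type u),
      (if topologicalKrullDim (Z.1 : Set X) = 1 then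
        ((Module.length (X.presheaf.stalk Z.2.1.genericPoint)
          (X.presheaf.stalk Z.2.1.genericPoint)).toNat : ℤ) *
          @Curv2.deg k _ (X.irreducibleComponentIdeal Z.1 Z.2).radical.subscheme
            ⟨(X.irreducibleComponentIdeal Z.1 Z.2).radical.subschemeι ≫
              (X ↘ (Spec (CommRingCat.of k)))⟩
            ((Scheme.Modules.pullback
              (X.irreducibleComponentIdeal Z.1 Z.2).radical.subschemeι).obj E) n
      else 0) := by
  have hOcoh := CohDevH8.isCoh_structureModule X
  have hOsupp : topologicalKrullDim ↥(CohB1.support (Coh.structureModule X)) ≤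
      ((1 : ℕ) : WithBot ℕ∞) := by
    rw [Nat.cast_one]
    exact (topologicalKrullDim_subspace_le X _).trans hdim
  have h := hom_eq_finsum (phiHom k X E n hE) 1 (fun G hG hd => by
    rw [phiHom_clSub k X E n hE G hG]
    exact phi_eq_zero_of_dim k X E n hE G hG hd) (Coh.structureModule X) hOcoh hOsupp
  rw [phiHom_clSub k X E n hE _ hOcoh] at h
  have hdeg : DegPull.phi k X E n (Coh.structureModule X) = Curv2.deg k X E n := by
    unfold DegPull.phi Curv2.deg
    rw [CurveTens.euler_of_iso k X (comm (Coh.structureModule X) E ≪≫ rightUnit E)]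
  rw [← hdeg, h]
  set g : X → ℤ := fun ξ =>
    (if topologicalKrullDim (closure ({ξ} : Set X)) = ((1 : ℕ) : WithBot ℕ∞) then
      ((Module.length (X.presheaf.stalk ξ) ((Coh.structureModule X).presheaf.stalk ξ)).toNat : ℤ) *
        phiHom k X E n hE (KZero.clSub (fun M : X.Modules => Coh.IsCoh M)
          (Cyc.closureStructureSheaf ξ)) else 0) with hg
  let e : irreducibleComponents (X : Type u) → X := fun Z => Z.2.1.genericPoint
  have he : ∀ Z : irreducibleComponents (X : Type u), closure ({e Z} : Set X) = Z.1 := fun Z =>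
    Z.2.1.closure_genericPoint (isClosed_of_mem_irreducibleComponents Z.1 Z.2)
  have hinj : Function.Injective e := fun Z W hZW => Subtype.ext (by rw [← he Z, ← he W, hZW])
  have hterm : ∀ Z : irreducibleComponents (X : Type u),
      (if topologicalKrullDim (Z.1 : Set X) = 1 then
        ((Module.length (X.presheaf.stalk Z.2.1.genericPoint)
          (X.presheaf.stalk Z.2.1.genericPoint)).toNat : ℤ) *
          @Curv2.deg k _ (X.irreducibleComponentIdeal Z.1 Z.2).radical.subscheme
            ⟨(X.irreducibleComponentIdeal Z.1 Z.2).radical.subschemeι ≫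
              (X ↘ (Spec (CommRingCat.of k)))⟩
            ((Scheme.Modules.pullback
              (X.irreducibleComponentIdeal Z.1 Z.2).radical.subschemeι).obj E) n
      else 0) = g (e Z) := by
    intro Z
    have hideal : (X.irreducibleComponentIdeal Z.1 Z.2).radical = IntMult.ptIdeal (e Z) := by
      rw [← Scheme.IdealSheafData.vanishingIdeal_support]
      unfold IntMult.ptIdeal
      congr 1
      apply TopologicalSpace.Closeds.ext
      exact (he Z).symm
    simp only [hg]
    rw [he Z, Nat.cast_one]
    split_ifs with hd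
    · rw [phiHom_clSub k X E n hE _ (CohDevH8.isCoh_closureStructureSheaf (e Z))]
      have hq : DegPull.phi k X E n (Cyc.closureStructureSheaf (e Z)) =
          DegPull.phi k X E n (ClSub.quotMod (IntMult.ptIdeal (e Z))) := rfl
      rw [hq, phi_quotMod k X E n hE, deg_subscheme_congr k X E n hideal,
        (CycLenH8.stalkStructureEquiv (X := X) (e Z)).length_eq]
    · rfl
  rw [finsum_congr hterm]
  rw [← finsum_mem_range hinj, ← finsum_mem_univ g]
  apply finsum_mem_inter_support_eq'
  intro ξ hξ
  refine ⟨fun _ => ?_, fun _ => Set.mem_univ _⟩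
  have hd1 : topologicalKrullDim (closure ({ξ} : Set X)) = ((1 : ℕ) : WithBot ℕ∞) := by
    by_contra hne
    apply hξ
    simp only [hg]
    rw [if_neg hne]
  -- `closure {ξ}` is an irreducible component
  obtain ⟨W, hWirr, hξW, hWmax⟩ := exists_preirreducible (closure ({ξ} : Set X))
    isIrreducible_singleton.closure.isPreirreducible
  have hWcomp : W ∈ irreducibleComponents (X : Type u) := by
    refine ⟨⟨⟨ξ, hξW (subset_closure rfl)⟩, hWirr⟩, ?_⟩
    intro V hV hWV
    exact (hWmax V hV.2 hWV).le
  refine ⟨⟨W, hWcomp⟩, ?_⟩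
  have hη := he ⟨W, hWcomp⟩
  have hηW : e ⟨W, hWcomp⟩ ⤳ ξ := by
    rw [specializes_iff_mem_closure, hη]
    exact hξW (subset_closure rfl)
  have hdimU : topologicalKrullDim ↥(Set.univ : Set X) ≤ ((1 : ℕ) : WithBot ℕ∞) := by
    rw [Nat.cast_one, (Homeomorph.Set.univ X).isHomeomorph.topologicalKrullDim_eq]
    exact hdim
  exact CycLenH8.eq_of_specializes_of_dim isClosed_univ hdimU (Set.mem_univ _) hηW hd1

end Curve

end Snap9
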