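import Mathlib
import Groth.Prelude
import Groth.Agent.Lib.Snap19_helper9
import Groth.Agent.Lib.Snap17_helper9
import Groth.Agent.Lib.EquidimSub2_helper8

/-!
# Intersection numbers depend only on numerical equivalence classes (S11748, helper9).
APPEND-ONLY once landed.
-/

set_option autoImplicit false
universe u
open CategoryTheory CategoryTheory.Limits AlgebraicGeometry Opposite TopologicalSpace

namespace Snap9

section NumEq

open Groth.Agent.TensInv Groth.Agent.Lib.GVanH2

variable (k : Type u) [Field k] (X : Scheme.{u}) [X.Over (Spec (CommRingCat.of k))]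
  [IsProper (X ↘ Spec (CommRingCat.of k))]

/-- numerical equivalence of two modules: equal degrees on all integral closed curves -/
def NumEq (A B : X.Modules) : Prop :=
  ∀ (Y : Scheme.{u}) (ι : Y ⟶ X) [IsClosedImmersion ι], IsIntegral Y → topologicalKrullDim Y = 1 →
    Pic13.curveDeg k (ι ≫ (X ↘ Spec (CommRingCat.of k))) ((Scheme.Modules.pullback ι).obj A) =
      Pic13.curveDeg k (ι ≫ (X ↘ Spec (CommRingCat.of k))) ((Scheme.Modules.pullback ι).obj B)

/-- the multiplicity formula for the alternating sums, integer valued -/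
theorem altSum_eq_finsum_int (l : List X.Modules) (hl : ∀ M ∈ l, PicF.IsInvertible M)
    (F : X.Modules) (hF : Coh.IsCoh F)
    (hsupp : topologicalKrullDim ↥(CohB1.support F) ≤ l.length) :
    altSum k X l F = ∑ᶠ ξ : X,
      (if topologicalKrullDim (closure ({ξ} : Set X)) = (l.length : WithBot ℕ∞) then
        ((Module.length (X.presheaf.stalk ξ) (F.presheaf.stalk ξ)).toNat : ℤ) *
          altSum k X l (Cyc.closureStructureSheaf ξ) else 0) := by
  haveI : IsLocallyNoetherian X :=
    LocallyOfFiniteType.isLocallyNoetherian (X ↘ Spec (CommRingCat.of k))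
  haveI : CompactSpace X :=
    QuasiCompact.compactSpace_of_compactSpace (X ↘ Spec (CommRingCat.of k))
  haveI : IsNoetherian X := {}
  have h := hom_eq_finsum (altHom k X l hl) l.length (fun G hG hd => by
    apply altHom_eq_zero_of_mem k X l hl
    exact AddSubgroup.subset_closure ⟨G, hG, hd, rfl⟩) F hF hsupp
  rw [altHom_clSub k X l hl F hF] at h
  rw [h]
  apply finsum_congr
  intro ξ
  split_ifs
  · rw [altHom_clSub k X l hl _ (CohDevH8.isCoh_closureStructureSheaf ξ)]
  · rfl

/-- the degree on the closure of a point with one-dimensional closure, in terms of `altSum` -/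
theorem altSum_singleton_css (A : X.Modules) (hA : PicF.IsInvertible A) (ξ : X)
    (hξ : topologicalKrullDim (closure ({ξ} : Set X)) = ((1 : ℕ) : WithBot ℕ∞)) :
    altSum k X [A] (Cyc.closureStructureSheaf ξ) =
      - Pic13.curveDeg k ((IntMult.ptIdeal ξ).subschemeι ≫ (X ↘ Spec (CommRingCat.of k)))
        ((Scheme.Modules.pullback (IntMult.ptIdeal ξ).subschemeι).obj A) := by
  haveI : IsLocallyNoetherian X :=
    LocallyOfFiniteType.isLocallyNoetherian (X ↘ Spec (CommRingCat.of k))
  set D := IntMult.ptIdeal ξ with hD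
  letI : D.subscheme.Over (Spec (CommRingCat.of k)) :=
    ⟨D.subschemeι ≫ (X ↘ Spec (CommRingCat.of k))⟩
  haveI : IsProper (D.subscheme ↘ Spec (CommRingCat.of k)) :=
    inferInstanceAs (IsProper (D.subschemeι ≫ (X ↘ Spec (CommRingCat.of k))))
  have hE : FlatMod.IsFinLocFreeOfRank 1 A := FLFH8.finLocFreeOfRank_one_of_isInvertible hA
  have h1 := phi_quotMod k X A 1 hE D
  have hdimD : topologicalKrullDim D.subscheme ≤ ((1 : ℕ) : WithBot ℕ∞) := by
    apply DegPull.dim_subscheme_le (X := X) D
    have : (D.support : Set X) = closure ({ξ} : Set X) := by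
      rw [hD]; unfold IntMult.ptIdeal
      rw [Scheme.IdealSheafData.coe_support_vanishingIdeal]
      rfl
    rw [this, hξ]
  unfold Pic13.curveDeg
  rw [← euler_eq_eulerCharLE k D.subscheme 1 hdimD, ← euler_eq_eulerCharLE k D.subscheme 1 hdimD]
  unfold DegPull.phi Curv2.deg at h1
  have h2 : altSum k X [A] (Cyc.closureStructureSheaf ξ) =
      Curv2.euler k X (ClSub.quotMod D) - Curv2.euler k X (CohB1.tensorMod (ClSub.quotMod D) A) :=
    rfl
  rw [h2]
  push_cast at h1
  linarith

/-- the reduced closed subscheme on the closure of a point with `d`-dimensional closure has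
dimension `d` -/
theorem dim_ptIdeal_subscheme (ξ : X) :
    topologicalKrullDim (IntMult.ptIdeal ξ).subscheme =
      topologicalKrullDim (closure ({ξ} : Set X)) := by
  have hemb := (IntMult.ptIdeal ξ).subschemeι.isClosedEmbedding
  have hr : Set.range (IntMult.ptIdeal ξ).subschemeι = closure ({ξ} : Set X) :=
    EquidimSubH8.range_vanishingIdeal_subschemeι ⟨closure ({ξ} : Set X), isClosed_closure⟩
  rw [(hemb.isEmbedding.toHomeomorph).isHomeomorph.topologicalKrullDim_eq, hr]

/-- **key lemma**: replacing a factor by a numerically equivalent one does not change the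
intersection number -/
theorem altSum_cons_numEq : ∀ (r : ℕ) (l₀ : List X.Modules), (∀ N ∈ l₀, PicF.IsInvertible N) →
    l₀.length = r → ∀ (A B : X.Modules), PicF.IsInvertible A → PicF.IsInvertible B →
    NumEq k X A B → ∀ (F : X.Modules), Coh.IsCoh F →
    topologicalKrullDim ↥(CohB1.support F) ≤ ((r + 1 : ℕ) : WithBot ℕ∞) →
      altSum k X (A :: l₀) F = altSum k X (B :: l₀) F := by
  haveI : IsLocallyNoetherian X :=
    LocallyOfFiniteType.isLocallyNoetherian (X ↘ Spec (CommRingCat.of k))
  intro r
  induction r with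
  | zero =>
    intro l₀ hl₀ hlen A B hA hB hAB F hF hsupp
    obtain rfl : l₀ = [] := List.length_eq_zero_iff.mp hlen
    rw [altSum_eq_finsum_int k X [A] (by simpa using hA) F hF (by simpa using hsupp),
      altSum_eq_finsum_int k X [B] (by simpa using hB) F hF (by simpa using hsupp)]
    apply finsum_congr
    intro ξ
    simp only [List.length_cons, List.length_nil, zero_add]
    split_ifs with hξ
    · rw [altSum_singleton_css k X A hA ξ hξ, altSum_singleton_css k X B hB ξ hξ]
      obtain ⟨hint, -⟩ := CohDevH8.exists_isIntegral_subscheme (closure ({ξ} : Set X))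
        isClosed_closure ξ rfl
      have hdim1 : topologicalKrullDim (IntMult.ptIdeal ξ).subscheme = 1 := by
        rw [dim_ptIdeal_subscheme, hξ]; rfl
      rw [hAB (IntMult.ptIdeal ξ).subscheme (IntMult.ptIdeal ξ).subschemeι hint hdim1]
    · rfl
  | succ r ih =>
    intro l₀ hl₀ hlen A B hA hB hAB F hF hsupp
    obtain ⟨M, l₁, rfl⟩ : ∃ M l₁, l₀ = M :: l₁ := by
      cases l₀ with
      | nil => simp at hlen
      | cons M l₁ => exact ⟨M, l₁, rfl⟩
    have hM : PicF.IsInvertible M := hl₀ M List.mem_cons_self
    have hl₁ : ∀ N ∈ l₁, PicF.IsInvertible N := fun N hN => hl₀ N (List.mem_cons_of_mem _ hN)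
    have hlen₁ : l₁.length = r := by simpa using hlen
    have hlA : ∀ N ∈ A :: M :: l₁, PicF.IsInvertible N := by
      intro N hN
      rcases List.mem_cons.mp hN with rfl | hN
      · exact hA
      · exact hl₀ N hN
    have hlB : ∀ N ∈ B :: M :: l₁, PicF.IsInvertible N := by
      intro N hN
      rcases List.mem_cons.mp hN with rfl | hN
      · exact hB
      · exact hl₀ N hN
    have hlenA : (A :: M :: l₁).length = r + 1 + 1 := by simp [hlen₁]
    have hlenB : (B :: M :: l₁).length = r + 1 + 1 := by simp [hlen₁]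
    rw [altSum_eq_finsum_int k X _ hlA F hF (by rw [hlenA]; exact hsupp),
      altSum_eq_finsum_int k X _ hlB F hF (by rw [hlenB]; exact hsupp)]
    apply finsum_congr
    intro ξ
    rw [hlenA, hlenB]
    split_ifs with hξ
    · congr 1
      obtain ⟨hint, -⟩ := CohDevH8.exists_isIntegral_subscheme (closure ({ξ} : Set X))
        isClosed_closure ξ rfl
      haveI : IsIntegral (IntMult.ptIdeal ξ).subscheme := hint
      obtain ⟨F', Q₁, Q₂, T, -, hQ₁, hQ₂, hTsub, hTne, hs₁, hs₂, hform⟩ :=
        exists_common_sub_push k X (IntMult.ptIdeal ξ).subschemeι hM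
      have hr : Set.range (IntMult.ptIdeal ξ).subschemeι = closure ({ξ} : Set X) :=
        EquidimSubH8.range_vanishingIdeal_subschemeι ⟨closure ({ξ} : Set X), isClosed_closure⟩
      rw [hr] at hTsub hTne
      have hlt : T < (⟨closure ({ξ} : Set X), isClosed_closure⟩ : Closeds X) :=
        lt_of_le_of_ne hTsub (fun h => hTne (congrArg (fun Z : Closeds X => (Z : Set X)) h))
      have hirr : IsIrreducible (closure ({ξ} : Set X)) := isIrreducible_singleton.closure
      have hdC : dimC (X := X.toTopCat) ⟨closure ({ξ} : Set X), isClosed_closure⟩ <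
          ((r + 1 + 1 + 1 : ℕ) : WithBot ℕ∞) := by
        rw [dimC_eq]
        show topologicalKrullDim ↥(closure ({ξ} : Set X)) < _
        rw [hξ]
        exact_mod_cast Nat.lt_succ_self (r + 1 + 1)
      have hT : dimC (X := X.toTopCat) T ≤ ((r + 1 : ℕ) : WithBot ℕ∞) :=
        (withBot_lt_succ_iff _ (r + 1)).mp
          (dimC_lt_of_lt (X := X.toTopCat) hirr hlt (r + 1 + 1) hdC)
      have hdimQ : ∀ Q : X.Modules, Coh.IsCoh Q → CohB1.support Q ⊆ (T : Set X) →
          topologicalKrullDim ↥(CohB1.support Q) ≤ ((r + 1 : ℕ) : WithBot ℕ∞) := by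
        intro Q hQ hsub
        haveI := hQ.2
        have hcl : IsClosed (CohB1.support Q) := SuppFT.isClosed_support Q
        refine (dimC_eq ⟨_, hcl⟩).symm.le.trans ?_
        exact (dimC_mono (X := X.toTopCat) (Z := ⟨_, hcl⟩) (Z' := T) hsub).trans hT
      have hlA₁ : ∀ N ∈ A :: l₁, PicF.IsInvertible N := by
        intro N hN
        rcases List.mem_cons.mp hN with rfl | hN
        · exact hA
        · exact hl₁ N hN
      have hlB₁ : ∀ N ∈ B :: l₁, PicF.IsInvertible N := by
        intro N hN
        rcases List.mem_cons.mp hN with rfl | hN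
        · exact hB
        · exact hl₁ N hN
      have e1 := ih l₁ hl₁ hlen₁ A B hA hB hAB Q₁ hQ₁ (hdimQ Q₁ hQ₁ hs₁)
      have e2 := ih l₁ hl₁ hlen₁ A B hA hB hAB Q₂ hQ₂ (hdimQ Q₂ hQ₂ hs₂)
      obtain ⟨a1, a2⟩ := hform (A :: l₁) hlA₁
      obtain ⟨b1, b2⟩ := hform (B :: l₁) hlB₁
      have hcss : Cyc.closureStructureSheaf ξ =
          (Scheme.Modules.pushforward (IntMult.ptIdeal ξ).subschemeι).obj
            (Coh.structureModule (IntMult.ptIdeal ξ).subscheme) := rfl
      rw [altSum_swap k X A M l₁, altSum_swap k X B M l₁, altSum_cons k X M (A :: l₁),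
        altSum_cons k X M (B :: l₁), hcss, a1, a2, b1, b2, e1, e2]
      ring
    · rfl

omit [IsProper (X ↘ Spec (CommRingCat.of k))] in
theorem forall₂_left_invertible {t t' : List X.Modules}
    (h : List.Forall₂ (fun A B => PicF.IsInvertible A ∧ PicF.IsInvertible B ∧ NumEq k X A B) t t') :
    ∀ N ∈ t, PicF.IsInvertible N := by
  induction h with
  | nil => intro N hN; simp at hN
  | cons hab _ ih =>
    intro N hN
    rcases List.mem_cons.mp hN with rfl | hN
    · exact hab.1
    · exact ih N hN

/-- replacing all factors by numerically equivalent ones -/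
theorem altSum_forall₂_numEq {t t' : List X.Modules}
    (h : List.Forall₂ (fun A B => PicF.IsInvertible A ∧ PicF.IsInvertible B ∧ NumEq k X A B) t t') :
    ∀ (u : List X.Modules), (∀ N ∈ u, PicF.IsInvertible N) → ∀ F : X.Modules, Coh.IsCoh F →
      topologicalKrullDim ↥(CohB1.support F) ≤ ((t.length + u.length : ℕ) : WithBot ℕ∞) →
      altSum k X (t ++ u) F = altSum k X (t' ++ u) F := by
  induction h with
  | nil => intro u _ F _ _; rfl
  | @cons A B t₁ t₁' hAB h ih =>
    intro u hu F hF hsupp
    obtain ⟨hA, hB, hnum⟩ := hAB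
    have ht₁ : ∀ N ∈ t₁, PicF.IsInvertible N := forall₂_left_invertible k X h
    have hl : ∀ N ∈ t₁ ++ u, PicF.IsInvertible N := by
      intro N hN
      rcases List.mem_append.mp hN with hN | hN
      · exact ht₁ N hN
      · exact hu N hN
    have hBu : ∀ N ∈ B :: u, PicF.IsInvertible N := by
      intro N hN
      rcases List.mem_cons.mp hN with rfl | hN
      · exact hB
      · exact hu N hN
    have hlen : ((A :: t₁).length + u.length : ℕ) = (t₁ ++ u).length + 1 := by
      simp only [List.length_cons, List.length_append]; omega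
    have e1 : altSum k X (A :: (t₁ ++ u)) F = altSum k X (B :: (t₁ ++ u)) F :=
      altSum_cons_numEq k X (t₁ ++ u).length (t₁ ++ u) hl rfl A B hA hB hnum F hF
        (by rw [← hlen]; exact hsupp)
    have e2 : altSum k X (B :: (t₁ ++ u)) F = altSum k X (t₁ ++ B :: u) F :=
      (altSum_perm k X List.perm_middle F).symm
    have e3 : altSum k X (t₁ ++ B :: u) F = altSum k X (t₁' ++ B :: u) F :=
      ih (B :: u) hBu F hF (by
        have : (t₁.length + (B :: u).length : ℕ) = (A :: t₁).length + u.length := by
          simp only [List.length_cons]; omega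
        rw [this]; exact hsupp)
    have e4 : altSum k X (t₁' ++ B :: u) F = altSum k X (B :: (t₁' ++ u)) F :=
      altSum_perm k X List.perm_middle F
    show altSum k X (A :: (t₁ ++ u)) F = altSum k X (B :: (t₁' ++ u)) F
    rw [e1, e2, e3, e4]

/-- **S11748** -/
theorem main11748 (d : ℕ) (hd : topologicalKrullDim X ≤ d)
    {r : ℕ} (M M' : Fin r → X.Modules) (hM : ∀ i, PicF.IsInvertible (M i))
    (hM' : ∀ i, PicF.IsInvertible (M' i))
    (hnum : ∀ i : Fin r, NumEq k X (M i) (M' i))
    (F : X.Modules) (hF : Coh.IsCoh F) (hr : topologicalKrullDim (CohB1.support F) ≤ r) :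
    FGA.intNum k X d M F = FGA.intNum k X d M' F := by
  rw [intNum_eq_altSum k X d hd, intNum_eq_altSum k X d hd]
  have h2 : List.Forall₂ (fun A B => PicF.IsInvertible A ∧ PicF.IsInvertible B ∧ NumEq k X A B)
      (List.ofFn M) (List.ofFn M') := by
    rw [List.forall₂_iff_get]
    refine ⟨by simp, ?_⟩
    intro i h1 h2
    simp only [List.get_eq_getElem, List.getElem_ofFn]
    exact ⟨hM _, hM' _, hnum _⟩
  have := altSum_forall₂_numEq k X h2 [] (by simp) F hF (by
    simp only [List.length_ofFn, List.length_nil, add_zero]; exact hr)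
  simpa using this

end NumEq

end Snap9
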