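import Mathlib
import Groth.Prelude
import Groth.Agent.Lib.Snap21_helper9
import Groth.Agent.Lib.DegPull5_helper9
import Groth.Agent.Lib.DegPull2_helper9
import Groth.Agent.Lib.PB9_helper8

/-!
# Pullback preserves numerical equivalence (S11749, helper9).
APPEND-ONLY once landed.
-/

set_option autoImplicit false
universe u
open CategoryTheory CategoryTheory.Limits AlgebraicGeometry Opposite TopologicalSpace

namespace Snap9

section Const

/-- the pullback of a module along a morphism whose range lies in a trivialising open is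
trivial -/
theorem nonempty_pullback_iso_unit {Y X : Scheme.{u}} (h : Y ⟶ X) (L : X.Modules) (U : X.Opens)
    (hU : Set.range h ⊆ (U : Set X)) (e : L.restrict U.ι ≅ Coh.structureModule U.toScheme) :
    Nonempty ((Scheme.Modules.pullback h).obj L ≅ Coh.structureModule Y) := by
  have hr : Set.range h ⊆ Set.range U.ι := by
    rw [Scheme.Opens.range_ι]
    exact hU
  let l : Y ⟶ U := IsOpenImmersion.lift U.ι h hr
  have hl : l ≫ U.ι = h := IsOpenImmersion.lift_fac _ _ _
  exact ⟨(Scheme.Modules.pullbackCongr hl.symm).app L ≪≫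
    ((Scheme.Modules.pullbackComp l U.ι).app L).symm ≪≫
    (Scheme.Modules.pullback l).mapIso
      (((Scheme.Modules.restrictFunctorIsoPullback U.ι).app L).symm ≪≫ e) ≪≫
    PBH8.pullbackUnitIso l⟩

end Const

section Curve

variable {Y X : Scheme.{u}} [IsIntegral Y]

/-- the range of a closed map from an integral scheme of dimension at most one has dimension at
most one -/
theorem dim_range_le_one (hY : topologicalKrullDim Y ≤ 1) (h : Y ⟶ X) (hcl : IsClosedMap h) :
    topologicalKrullDim ↥(Set.range h) ≤ 1 := by
  have hS : IsClosed (Set.range h) := hcl.isClosed_range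
  haveI : QuasiSober ↥(Set.range h) := hS.isClosedEmbedding_subtypeVal.quasiSober
  unfold topologicalKrullDim
  rw [Order.krullDim_le_one_iff]
  intro T
  obtain ⟨t, ht⟩ := QuasiSober.sober T.isIrreducible' T.isClosed'
  have ht' : closure ({t} : Set ↥(Set.range h)) = (T : Set ↥(Set.range h)) := ht.def
  obtain ⟨y, hy⟩ := t.2
  by_cases hyη : y = genericPoint Y
  · right
    have hT : (T : Set ↥(Set.range h)) = Set.univ := by
      apply Set.eq_univ_of_forall
      rintro ⟨_, y', rfl⟩
      have h0 : y' ∈ closure ({genericPoint Y} : Set Y) := by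
        rw [(genericPoint_spec Y).def]
        trivial
      have h1 : h y' ∈ closure ({h (genericPoint Y)} : Set X) := by
        have := image_closure_subset_closure_image h.continuous ⟨y', h0, rfl⟩
        rwa [Set.image_singleton] at this
      rw [← ht', closure_subtype, Set.image_singleton, ← hy, hyη]
      exact h1
    intro T' _ x _
    show x ∈ (T : Set ↥(Set.range h))
    rw [hT]
    trivial
  · left
    have hcy := DegPull.isClosed_singleton_of_ne_generic hY y hyη
    have hct : IsClosed ({t} : Set ↥(Set.range h)) := by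
      have h1 : IsClosed (h '' ({y} : Set Y)) := hcl _ hcy
      rw [Set.image_singleton, hy] at h1
      have h2 : ({t} : Set ↥(Set.range h)) = Subtype.val ⁻¹' ({(t : X)} : Set X) := by
        ext z
        simp only [Set.mem_singleton_iff, Set.mem_preimage]
        exact ⟨fun hz => congrArg Subtype.val hz, fun hz => Subtype.ext hz⟩
      rw [h2]
      exact h1.preimage continuous_subtype_val
    have hT : (T : Set ↥(Set.range h)) = {t} := by
      rw [← ht', hct.closure_eq]
    intro T' hT'T x hx
    obtain ⟨z, hz⟩ := T'.isIrreducible'.nonempty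
    have hzt : z = t := by
      have h3 : z ∈ (T : Set ↥(Set.range h)) := hT'T hz
      rw [hT] at h3
      exact h3
    have hxt : x = t := by
      have h3 : x ∈ (T : Set ↥(Set.range h)) := hx
      rw [hT] at h3
      exact h3
    rw [hxt, ← hzt]
    exact hz

end Curve

section Finite

variable (k : Type u) [Field k] {Y X : Scheme.{u}}
  [Y.Over (Spec (CommRingCat.of k))] [X.Over (Spec (CommRingCat.of k))] [IsIntegral Y]
  [IsProper (Y ↘ Spec (CommRingCat.of k))] [IsProper (X ↘ Spec (CommRingCat.of k))]

/-- a morphism from a proper integral curve that does not contract it to a closed point is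
finite -/
theorem isFinite_of_not_isClosed (hY : topologicalKrullDim Y = 1)
    (h : Y ⟶ X) (hh : h ≫ (X ↘ Spec (CommRingCat.of k)) = Y ↘ Spec (CommRingCat.of k))
    (hη : ¬ IsClosed ({h (genericPoint Y)} : Set X)) : IsFinite h := by
  haveI : IsLocallyNoetherian Y :=
    LocallyOfFiniteType.isLocallyNoetherian (Y ↘ Spec (CommRingCat.of k))
  haveI : CompactSpace Y :=
    QuasiCompact.compactSpace_of_compactSpace (Y ↘ Spec (CommRingCat.of k))
  haveI : IsProper (h ≫ (X ↘ Spec (CommRingCat.of k))) := by rw [hh]; infer_instance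
  haveI : IsProper h := IsProper.of_comp h (X ↘ Spec (CommRingCat.of k))
  have hfib : ∀ x : X, (h ⁻¹' {x}).Finite := by
    intro x
    by_cases hx : IsClosed ({x} : Set X)
    · have hcl' : IsClosed (h ⁻¹' {x}) := hx.preimage h.continuous
      refine TensBasis.finite_of_closed_points _ hcl' (fun y hy => ?_)
      refine DegPull.isClosed_singleton_of_ne_generic hY.le y (fun hyg => ?_)
      apply hη
      have hy' : h y = x := hy
      rw [← hyg, hy']
      exact hx
    · refine Set.Finite.subset (Set.finite_singleton (genericPoint Y)) ?_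
      intro y hy
      rw [Set.mem_singleton_iff]
      by_contra hne
      have hcl := DegPull.isClosed_singleton_of_ne_generic hY.le y hne
      have hcl' : IsClosed (h '' ({y} : Set Y)) := h.isClosedMap _ hcl
      rw [Set.image_singleton] at hcl'
      have hy' : h y = x := hy
      rw [hy'] at hcl'
      exact hx hcl'
  haveI : LocallyQuasiFinite h := LocallyQuasiFinite.of_finite_preimage_singleton h hfib
  exact IsFinite.of_isProper_of_locallyQuasiFinite h

end Finite

section Supp

open QcqsLoc

variable {Y X : Scheme.{u}} (h : Y ⟶ X)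

/-- the support of a direct image lies in the range, when the range is closed -/
theorem support_pushforward_subset_range (hr : IsClosed (Set.range h)) (C : Y.Modules) :
    CohB1.support ((Scheme.Modules.pushforward h).obj C) ⊆ Set.range h := by
  intro x hx
  by_contra hxr
  apply hx
  apply CurveTens.subsingleton_stalk_of_locally_zero
  intro V hxV s
  let O : X.Opens := ⟨(Set.range h)ᶜ, hr.isOpen_compl⟩
  refine ⟨V ⊓ O, inf_le_left, ⟨hxV, hxr⟩, ?_⟩
  have hbot : h ⁻¹ᵁ (V ⊓ O) = ⊥ := by
    apply le_antisymm _ bot_le
    intro z hz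
    exact (hz.2 ⟨z, rfl⟩).elim
  haveI : Subsingleton Γ(C, h ⁻¹ᵁ (V ⊓ O)) := by
    rw [hbot]
    exact LocCohAff.subsingleton_sections_bot C
  exact Subsingleton.elim (α := Γ(C, h ⁻¹ᵁ (V ⊓ O))) _ _

end Supp

section Main

open Groth.Agent.TensInv Groth.Agent.Lib.GVanH2 SerreCrit

variable (k : Type u) [Field k] (X X' : Scheme.{u})
  [X.Over (Spec (CommRingCat.of k))] [X'.Over (Spec (CommRingCat.of k))]
  [IsProper (X ↘ Spec (CommRingCat.of k))] [IsProper (X' ↘ Spec (CommRingCat.of k))]

/-- **statement of S11749** -/
theorem main11749 (g : X' ⟶ X)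
    (hg : g ≫ (X ↘ Spec (CommRingCat.of k)) = X' ↘ Spec (CommRingCat.of k))
    (L N : X.Modules) (hL : PicF.IsInvertible L) (hN : PicF.IsInvertible N)
    (hnum : NumEq k X L N) : NumEq k X' ((Scheme.Modules.pullback g).obj L)
      ((Scheme.Modules.pullback g).obj N) := by
  intro Y ι _ hint hdim
  haveI : IsIntegral Y := hint
  letI : Y.Over (Spec (CommRingCat.of k)) := ⟨ι ≫ (X' ↘ Spec (CommRingCat.of k))⟩
  haveI : IsProper (Y ↘ Spec (CommRingCat.of k)) :=
    inferInstanceAs (IsProper (ι ≫ (X' ↘ Spec (CommRingCat.of k))))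
  haveI : IsLocallyNoetherian X :=
    LocallyOfFiniteType.isLocallyNoetherian (X ↘ Spec (CommRingCat.of k))
  set h : Y ⟶ X := ι ≫ g with hh_def
  have hh : h ≫ (X ↘ Spec (CommRingCat.of k)) = Y ↘ Spec (CommRingCat.of k) := by
    rw [hh_def, Category.assoc, hg]
    rfl
  haveI : IsProper (h ≫ (X ↘ Spec (CommRingCat.of k))) := by rw [hh]; infer_instance
  haveI : IsProper h := IsProper.of_comp h (X ↘ Spec (CommRingCat.of k))
  have hdimY : topologicalKrullDim Y ≤ ((1 : ℕ) : WithBot ℕ∞) := by
    rw [hdim]
    rfl
  unfold Pic13.curveDeg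
  rw [← euler_eq_eulerCharLE k Y 1 hdimY, ← euler_eq_eulerCharLE k Y 1 hdimY,
    ← euler_eq_eulerCharLE k Y 1 hdimY]
  have eL : (Scheme.Modules.pullback ι).obj ((Scheme.Modules.pullback g).obj L) ≅
      (Scheme.Modules.pullback h).obj L := (Scheme.Modules.pullbackComp ι g).app L
  have eN : (Scheme.Modules.pullback ι).obj ((Scheme.Modules.pullback g).obj N) ≅
      (Scheme.Modules.pullback h).obj N := (Scheme.Modules.pullbackComp ι g).app N
  rw [CurveTens.euler_of_iso k Y eL, CurveTens.euler_of_iso k Y eN]
  congr 1
  by_cases hη : IsClosed ({h (genericPoint Y)} : Set X)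
  · -- the curve is contracted to a closed point
    have hrange : ∀ U : X.Opens, h (genericPoint Y) ∈ U → Set.range h ⊆ (U : Set X) := by
      rintro U hU _ ⟨y, rfl⟩
      have h0 : y ∈ closure ({genericPoint Y} : Set Y) := by
        rw [(genericPoint_spec Y).def]
        trivial
      have h1 : h y ∈ closure ({h (genericPoint Y)} : Set X) := by
        have := image_closure_subset_closure_image h.continuous ⟨y, h0, rfl⟩
        rwa [Set.image_singleton] at this
      rw [hη.closure_eq, Set.mem_singleton_iff] at h1
      rw [h1]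
      exact hU
    obtain ⟨U, hxU, ⟨e⟩⟩ := hL (h (genericPoint Y))
    obtain ⟨U', hxU', ⟨e'⟩⟩ := hN (h (genericPoint Y))
    obtain ⟨a⟩ := nonempty_pullback_iso_unit h L U (hrange U hxU) e
    obtain ⟨b⟩ := nonempty_pullback_iso_unit h N U' (hrange U' hxU') e'
    exact CurveTens.euler_of_iso k Y (a ≪≫ b.symm)
  · haveI : IsFinite h := isFinite_of_not_isClosed k hdim h hh hη
    have hL' := TensBasis.isFinLocFree_of_rank (FLFH8.finLocFreeOfRank_one_of_isInvertible hL)
    have hN' := TensBasis.isFinLocFree_of_rank (FLFH8.finLocFreeOfRank_one_of_isInvertible hN)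
    rw [DegPull.euler_pullback_eq k h hh L hL', DegPull.euler_pullback_eq k h hh N hN']
    have hF : Coh.IsCoh ((Scheme.Modules.pushforward h).obj (OO Y)) := BirCurve.isCoh_push_OO h
    have hsupp : topologicalKrullDim
        ↥(CohB1.support ((Scheme.Modules.pushforward h).obj (OO Y))) ≤
          ((0 + 1 : ℕ) : WithBot ℕ∞) := by
      have hsub := support_pushforward_subset_range h h.isClosedMap.isClosed_range (OO Y)
      have h1 := (Topology.IsEmbedding.inclusion hsub).isInducing.topologicalKrullDim_le
      refine h1.trans ?_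
      exact dim_range_le_one hdim.le h h.isClosedMap
    have key := altSum_cons_numEq k X 0 [] (fun _ hN => absurd hN (List.not_mem_nil)) rfl L N
      hL hN hnum _ hF hsupp
    simp only [altSum_cons, altSum_nil] at key
    linarith

end Main

end Snap9
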