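import Mathlib
import Groth.Prelude
import Groth.Agent.Lib.Snap22_helper9
import Groth.Agent.Lib.CohDev15_helper8
import Groth.Agent.Lib.Tens38_helper8
import Groth.Agent.Lib.RelAmpleVan_helper9
import Groth.Agent.Lib.CurveDegAdd1_helper9

/-!
# Nakai–Moishezon, I: vanishing for modules supported where `L` is ample on integral closed
subschemes; ampleness from ampleness on integral closed subschemes (helper9).
APPEND-ONLY once landed.
-/

set_option autoImplicit false
universe u
open CategoryTheory CategoryTheory.Limits AlgebraicGeometry Opposite TopologicalSpace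

namespace Snap9

open Groth.Agent.TensInv Groth.Agent.Lib.GVanH2

section EvVan

variable {X : Scheme.{u}}

/-- the twists of `F` by large powers of `L` have no higher cohomology -/
def EvVan (L F : X.Modules) : Prop :=
  ∃ m₀ : ℕ, ∀ m : ℕ, m₀ ≤ m → ∀ p : ℕ, 0 < p →
    Subsingleton (Coh.HH X (CohB1.tensorMod F (CohB1.tensorPow L m)) p)

theorem EvVan.of_iso {L F G : X.Modules} (e : F ≅ G) (h : EvVan L F) : EvVan L G := by
  obtain ⟨m₀, hm₀⟩ := h
  exact ⟨m₀, fun m hm p hp =>
    Groth.Agent.HHVan.subsingleton_of_iso (mapR e (CohB1.tensorPow L m)) p (hm₀ m hm p hp)⟩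

theorem evVan_of_isZero {L F : X.Modules} (hF : IsZero F) : EvVan L F := by
  refine ⟨0, fun m _ p _ => ?_⟩
  apply CurveDegAdd.HH_subsingleton_of_isZero
  exact Functor.map_isZero (tR (CohB1.tensorPow L m)) hF

end EvVan

section Ext

variable (k : Type u) [Field k] {X : Scheme.{u}} [X.Over (Spec (CommRingCat.of k))]

include k in
/-- exactness in the middle of the long exact cohomology sequence -/
theorem subsingleton_HH_mid (S : ShortComplex X.Modules) (hS : S.ShortExact) (p : ℕ)
    (h1 : Subsingleton (Coh.HH X S.X₁ p)) (h3 : Subsingleton (Coh.HH X S.X₃ p)) :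
    Subsingleton (Coh.HH X S.X₂ p) := by
  refine ⟨fun a b => ?_⟩
  suffices h : ∀ x : Coh.HH X S.X₂ p, x = 0 by rw [h a, h b]
  intro x
  have hx : x ∈ LinearMap.ker (Canon.HHlin k S.g p) := by
    rw [LinearMap.mem_ker]
    exact Subsingleton.elim _ _
  rw [← ProperFinH9.range_HHlin_f k S hS p] at hx
  obtain ⟨y, rfl⟩ := hx
  rw [Subsingleton.elim y 0, map_zero]

include k in
/-- the class `EvVan L` is closed under extensions -/
theorem evVan_ext {L : X.Modules} (hL : PicF.IsInvertible L) (S : ShortComplex X.Modules)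
    (hS : S.ShortExact) (h1 : EvVan L S.X₁) (h3 : EvVan L S.X₃) : EvVan L S.X₂ := by
  obtain ⟨m₁, hm₁⟩ := h1
  obtain ⟨m₃, hm₃⟩ := h3
  refine ⟨max m₁ m₃, fun m hm p hp => ?_⟩
  have hS' := CurveTens.shortExact_tR (TensH8.isInvertible_tensorPow hL m) S hS
  exact subsingleton_HH_mid k _ hS' p (hm₁ m ((le_max_left _ _).trans hm) p hp)
    (hm₃ m ((le_max_right _ _).trans hm) p hp)

end Ext

section Push

variable (k : Type u) [Field k] {W X : Scheme.{u}} [W.Over (Spec (CommRingCat.of k))]
  [X.Over (Spec (CommRingCat.of k))]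

/-- projection formula for the twists by powers of an invertible module -/
theorem nonempty_push_twist_iso [IsLocallyNoetherian X] (j : W ⟶ X) {L : X.Modules}
    (hL : PicF.IsInvertible L) (G : W.Modules) (m : ℕ) :
    Nonempty (CohB1.tensorMod ((Scheme.Modules.pushforward j).obj G) (CohB1.tensorPow L m) ≅
      (Scheme.Modules.pushforward j).obj
        (CohB1.tensorMod G (CohB1.tensorPow ((Scheme.Modules.pullback j).obj L) m))) := by
  have hLm := TensH8.isInvertible_tensorPow hL m
  have hE := TensBasis.isFinLocFree_of_rank (FLFH8.finLocFreeOfRank_one_of_isInvertible hLm)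
  obtain ⟨e⟩ := DegPull.nonempty_pullback_tensorPow_iso j hL m
  exact ⟨comm _ _ ≪≫ (PFormH9.projIso j (CohB1.tensorPow L m) hE).app G ≪≫
    (Scheme.Modules.pushforward j).mapIso (mapR e G ≪≫ comm _ _)⟩

/-- direct images of coherent modules from a closed subscheme on which `L` is ample have
eventually vanishing twisted cohomology -/
theorem evVan_push [IsLocallyNoetherian X] (j : W ⟶ X) [IsClosedImmersion j]
    (hj : j ≫ (X ↘ Spec (CommRingCat.of k)) = W ↘ Spec (CommRingCat.of k))
    [IsProper (W ↘ Spec (CommRingCat.of k))] {L : X.Modules} (hL : PicF.IsInvertible L)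
    (hamp : CohB1.IsAmple ((Scheme.Modules.pullback j).obj L)) (G : W.Modules)
    (hG : Coh.IsCoh G) : EvVan L ((Scheme.Modules.pushforward j).obj G) := by
  obtain ⟨n₀, hn₀⟩ := RelAmpleVanH9.serre_vanishing_ample (W ↘ Spec (CommRingCat.of k)) _ hamp.1
    hamp G hG
  refine ⟨n₀, fun m hm p hp => ?_⟩
  obtain ⟨e⟩ := nonempty_push_twist_iso j hL G m
  haveI := hG.1
  haveI : (CohB1.tensorPow ((Scheme.Modules.pullback j).obj L) m).IsQuasicoherent :=
    (ProperFinH9.isCoh_of_isInvertible (TensH8.isInvertible_tensorPow hamp.1 m)).1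
  haveI : (CohB1.tensorMod G
      (CohB1.tensorPow ((Scheme.Modules.pullback j).obj L) m)).IsQuasicoherent :=
    TensQCH8.isQuasicoherent_tensorMod _ _
  haveI := hn₀ m hm p hp
  have h1 : Subsingleton (Coh.HH X ((Scheme.Modules.pushforward j).obj
      (CohB1.tensorMod G (CohB1.tensorPow ((Scheme.Modules.pullback j).obj L) m))) p) :=
    (Groth.Agent.PushEdgeNat.pushEdgeEquiv j hj _ p).toEquiv.subsingleton
  exact Groth.Agent.HHVan.subsingleton_of_iso e.symm p h1

end Push

section LemmaV

variable (k : Type u) [Field k] (X : Scheme.{u}) [X.Over (Spec (CommRingCat.of k))]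
  [IsProper (X ↘ Spec (CommRingCat.of k))]

/-- `L` is ample on the reduced closed subscheme on every irreducible closed subset of `T` -/
def AmpleOn (L : X.Modules) (T : Set X) : Prop :=
  ∀ (Z : Set X) (hZ : IsClosed Z), IsIrreducible Z → Z ⊆ T →
    CohB1.IsAmple ((Scheme.Modules.pullback
      (Scheme.IdealSheafData.vanishingIdeal ⟨Z, hZ⟩).subschemeι).obj L)

include k in
/-- **vanishing**: if `L` is ample on all integral closed subschemes inside `T`, the twists of a
coherent module supported in `T` by large powers of `L` have no higher cohomology -/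
theorem evVan_of_ampleOn {L : X.Modules} (hL : PicF.IsInvertible L) {T : Set X}
    (hT : AmpleOn X L T) (F : X.Modules) (hF : Coh.IsCoh F) (hFT : CohB1.support F ⊆ T) :
    EvVan L F := by
  haveI : IsLocallyNoetherian X :=
    LocallyOfFiniteType.isLocallyNoetherian (X ↘ Spec (CommRingCat.of k))
  haveI : CompactSpace X :=
    QuasiCompact.compactSpace_of_compactSpace (X ↘ Spec (CommRingCat.of k))
  haveI : IsNoetherian X := {}
  have hiso : ∀ M N : X.Modules, Nonempty (M ≅ N) → EvVan L M → EvVan L N :=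
    fun M N ⟨e⟩ h => h.of_iso e
  have hext : ∀ S : ShortComplex X.Modules, S.ShortExact → Coh.IsCoh S.X₁ → Coh.IsCoh S.X₂ →
      Coh.IsCoh S.X₃ → EvVan L S.X₁ → EvVan L S.X₃ → EvVan L S.X₂ :=
    fun S hS _ _ _ h1 h3 => evVan_ext k hL S hS h1 h3
  refine CohDevH8.induction_on_support (EvVan L) hiso (fun M hM => evVan_of_isZero hM) hext T ?_
    F hF hFT
  intro Z hZ hirr hZT IH F hF hk
  have hy : closure {hirr.genericPoint} = Z := hirr.closure_genericPoint hZ
  obtain ⟨hint, -⟩ := CohDevH8.exists_isIntegral_subscheme Z hZ _ hy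
  refine CohDevH8.ideal_devissage_step (EvVan L) hiso hext Z hZ _ hy ?_ IH F hF hk
  intro I ι hι hI
  letI : (Scheme.IdealSheafData.vanishingIdeal ⟨Z, hZ⟩).subscheme.Over
      (Spec (CommRingCat.of k)) :=
    ⟨(Scheme.IdealSheafData.vanishingIdeal ⟨Z, hZ⟩).subschemeι ≫ (X ↘ Spec (CommRingCat.of k))⟩
  haveI : IsProper ((Scheme.IdealSheafData.vanishingIdeal ⟨Z, hZ⟩).subscheme ↘
      Spec (CommRingCat.of k)) :=
    inferInstanceAs (IsProper ((Scheme.IdealSheafData.vanishingIdeal ⟨Z, hZ⟩).subschemeι ≫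
      (X ↘ Spec (CommRingCat.of k))))
  haveI : IsLocallyNoetherian (Scheme.IdealSheafData.vanishingIdeal ⟨Z, hZ⟩).subscheme :=
    LocallyOfFiniteType.isLocallyNoetherian
      ((Scheme.IdealSheafData.vanishingIdeal ⟨Z, hZ⟩).subscheme ↘ Spec (CommRingCat.of k))
  haveI := hι
  have hIc : Coh.IsCoh I := CohDevH8.isCoh_of_mono ι hI (CohDevH8.isCoh_structureModule _)
  exact evVan_push k (Scheme.IdealSheafData.vanishingIdeal ⟨Z, hZ⟩).subschemeι rfl hL
    (hT Z hZ hirr hZT) I hIc

include k in
/-- **ampleness can be tested on integral closed subschemes** -/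
theorem isAmple_of_ampleOn_univ {L : X.Modules} (hL : PicF.IsInvertible L)
    (hT : AmpleOn X L Set.univ) : CohB1.IsAmple L := by
  haveI : IsLocallyNoetherian X :=
    LocallyOfFiniteType.isLocallyNoetherian (X ↘ Spec (CommRingCat.of k))
  haveI : CompactSpace X :=
    QuasiCompact.compactSpace_of_compactSpace (X ↘ Spec (CommRingCat.of k))
  apply TensH8.isAmple_of_H1 hL
  intro I i hi hI
  haveI := hi
  have hIc : Coh.IsCoh I := CohDevH8.isCoh_of_mono i hI (CohDevH8.isCoh_structureModule X)
  obtain ⟨m₀, hm₀⟩ := evVan_of_ampleOn k X hL hT I hIc (Set.subset_univ _)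
  exact ⟨m₀, hm₀ (m₀ + 1) (by omega) 1 one_pos⟩

include k in
/-- every invertible module on a proper scheme of dimension `≤ 0` is ample -/
theorem isAmple_of_dim_zero {L : X.Modules} (hL : PicF.IsInvertible L)
    (hdim : topologicalKrullDim X ≤ 0) : CohB1.IsAmple L := by
  haveI : IsLocallyNoetherian X :=
    LocallyOfFiniteType.isLocallyNoetherian (X ↘ Spec (CommRingCat.of k))
  haveI : CompactSpace X :=
    QuasiCompact.compactSpace_of_compactSpace (X ↘ Spec (CommRingCat.of k))
  haveI : IsNoetherian X := {}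
  apply TensH8.isAmple_of_H1 hL
  intro I i hi hI
  refine ⟨0, ?_⟩
  have hd : dimC (X := X.toTopCat) (⊤ : Closeds X) < ((1 : ℕ) : WithBot ℕ∞) := by
    refine lt_of_le_of_lt ((dimC_top_le (X := X.toTopCat)).trans hdim) ?_
    exact_mod_cast zero_lt_one
  exact subsingleton_HH_of_dimC 1 ⊤ hd _ (fun _ _ => trivial) 1 le_rfl

end LemmaV

end Snap9
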