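import Mathlib
import Groth.Prelude
import Groth.Agent.Lib.Snap23_helper9

/-!
# Nakai–Moishezon, II: restriction of intersection numbers to closed subschemes (helper9).
APPEND-ONLY once landed.
-/

set_option autoImplicit false
universe u
open CategoryTheory CategoryTheory.Limits AlgebraicGeometry Opposite TopologicalSpace

namespace Snap9

open Groth.Agent.TensInv Groth.Agent.Lib.GVanH2

section Pos

variable (k : Type u) [Field k] (X : Scheme.{u}) [X.Over (Spec (CommRingCat.of k))]

/-- the Nakai–Moishezon positivity hypothesis, for the inverse `M` of the module in question: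
`(M^d · F) > 0` (in the sign convention of `altSum`) for coherent `F` with support of dimension
`d > 0` -/
def NMPos (M : X.Modules) : Prop :=
  ∀ (F : X.Modules), Coh.IsCoh F → ∀ d : ℕ, 0 < d →
    topologicalKrullDim (CohB1.support F) = (d : WithBot ℕ∞) →
      0 < altSum k X (List.replicate d M) F

end Pos

section Transfer

variable (k : Type u) [Field k] {W X : Scheme.{u}} [W.Over (Spec (CommRingCat.of k))]
  [X.Over (Spec (CommRingCat.of k))] [IsProper (W ↘ Spec (CommRingCat.of k))]
  [IsProper (X ↘ Spec (CommRingCat.of k))]

/-- projection formula, one invertible factor -/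
theorem nonempty_push_tensor_iso [IsLocallyNoetherian X] (j : W ⟶ X) {A : X.Modules}
    (hA : PicF.IsInvertible A) (G : W.Modules) :
    Nonempty (CohB1.tensorMod ((Scheme.Modules.pushforward j).obj G) A ≅
      (Scheme.Modules.pushforward j).obj
        (CohB1.tensorMod G ((Scheme.Modules.pullback j).obj A))) := by
  have hE := TensBasis.isFinLocFree_of_rank (FLFH8.finLocFreeOfRank_one_of_isInvertible hA)
  exact ⟨comm _ _ ≪≫ (PFormH9.projIso j A hE).app G ≪≫
    (Scheme.Modules.pushforward j).mapIso (comm _ _)⟩

/-- intersection numbers on a closed subscheme are intersection numbers of the direct image -/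
theorem altSum_pullback (j : W ⟶ X) [IsAffineHom j]
    (hj : j ≫ (X ↘ Spec (CommRingCat.of k)) = W ↘ Spec (CommRingCat.of k)) :
    ∀ (l : List X.Modules), (∀ N ∈ l, PicF.IsInvertible N) → ∀ (G : W.Modules),
      G.IsQuasicoherent →
      altSum k W (l.map (Scheme.Modules.pullback j).obj) G =
        altSum k X l ((Scheme.Modules.pushforward j).obj G) := by
  haveI : IsLocallyNoetherian X :=
    LocallyOfFiniteType.isLocallyNoetherian (X ↘ Spec (CommRingCat.of k))
  haveI : IsLocallyNoetherian W :=
    LocallyOfFiniteType.isLocallyNoetherian (W ↘ Spec (CommRingCat.of k))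
  intro l
  induction l with
  | nil =>
    intro _ G hG
    haveI := hG
    exact (BirCurve.euler_push k j hj G).symm
  | cons A l ih =>
    intro hl G hG
    haveI := hG
    have hA : PicF.IsInvertible A := hl A List.mem_cons_self
    have hl' : ∀ N ∈ l, PicF.IsInvertible N := fun N hN => hl N (List.mem_cons_of_mem _ hN)
    have hpA : PicF.IsInvertible ((Scheme.Modules.pullback j).obj A) :=
      TensH8.isInvertible_pullback j hA
    haveI : ((Scheme.Modules.pullback j).obj A).IsQuasicoherent :=
      (ProperFinH9.isCoh_of_isInvertible hpA).1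
    have hq : (CohB1.tensorMod G ((Scheme.Modules.pullback j).obj A)).IsQuasicoherent :=
      TensQCH8.isQuasicoherent_tensorMod _ _
    obtain ⟨e⟩ := nonempty_push_tensor_iso j hA G
    rw [List.map_cons, altSum_cons, altSum_cons, ih hl' G hG, ih hl' _ hq,
      altSum_of_iso k X l e]

/-- the support of the direct image under a closed immersion is the image of the support -/
theorem support_pushforward_eq (j : W ⟶ X) [IsClosedImmersion j] (G : W.Modules) :
    CohB1.support ((Scheme.Modules.pushforward j).obj G) = j '' CohB1.support G := by
  apply Set.Subset.antisymm (support_pushforward_subset j G)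
  rintro _ ⟨w, hw, rfl⟩
  exact CohDevH8.mem_support_pushforward j j.isClosedEmbedding.isEmbedding G w
    (not_subsingleton_iff_nontrivial.mp hw)

/-- the dimension of the support of a direct image under a closed immersion -/
theorem dim_support_pushforward (j : W ⟶ X) [IsClosedImmersion j] (G : W.Modules) :
    topologicalKrullDim ↥(CohB1.support ((Scheme.Modules.pushforward j).obj G)) =
      topologicalKrullDim ↥(CohB1.support G) := by
  rw [support_pushforward_eq j G]
  have hemb : Topology.IsEmbedding (fun w : ↥(CohB1.support G) => j (w : W)) :=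
    j.isClosedEmbedding.isEmbedding.comp Topology.IsEmbedding.subtypeVal
  have hr : Set.range (fun w : ↥(CohB1.support G) => j (w : W)) = j '' CohB1.support G := by
    ext x
    constructor
    · rintro ⟨w, rfl⟩
      exact ⟨w, w.2, rfl⟩
    · rintro ⟨w, hw, rfl⟩
      exact ⟨⟨w, hw⟩, rfl⟩
  rw [← hr]
  exact ((hemb.toHomeomorph).isHomeomorph.topologicalKrullDim_eq).symm

/-- the positivity hypothesis restricts to closed subschemes -/
theorem nmPos_pullback (j : W ⟶ X) [IsClosedImmersion j]
    (hj : j ≫ (X ↘ Spec (CommRingCat.of k)) = W ↘ Spec (CommRingCat.of k))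
    {M : X.Modules} (hM : PicF.IsInvertible M) (h : NMPos k X M) :
    NMPos k W ((Scheme.Modules.pullback j).obj M) := by
  haveI : IsLocallyNoetherian X :=
    LocallyOfFiniteType.isLocallyNoetherian (X ↘ Spec (CommRingCat.of k))
  intro G hG d hd hdim
  have h1 := altSum_pullback k j hj (List.replicate d M)
    (fun N hN => by rw [List.eq_of_mem_replicate hN]; exact hM) G hG.1
  rw [List.map_replicate] at h1
  rw [h1]
  refine h _ (CohDevH8.isCoh_pushforward_of_isFinite j hG) d hd ?_
  rw [dim_support_pushforward j G, hdim]

end Transfer

end Snap9
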