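import Mathlib
import Groth.Prelude
import Groth.Agent.Lib.Snap24_helper9
import Groth.Agent.Lib.CohIneq_helper9

/-!
# Nakai–Moishezon, III: bookkeeping in long exact cohomology sequences (helper9).
APPEND-ONLY once landed.
-/

set_option autoImplicit false
universe u
open CategoryTheory CategoryTheory.Limits AlgebraicGeometry Opposite TopologicalSpace

namespace Snap9

open Groth.Agent.TensInv Groth.Agent.Lib.GVanH2 Groth.Agent.ProjFin

section LES

variable (k : Type u) [Field k] {X : Scheme.{u}} [X.Over (Spec (CommRingCat.of k))]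

/-- vanishing of the higher cohomology -/
def HVan (F : X.Modules) : Prop := ∀ p : ℕ, 0 < p → Subsingleton (Coh.HH X F p)

variable (S : ShortComplex X.Modules) (hS : S.ShortExact)

include hS in
theorem surjective_HHlin_f (p : ℕ) (h3 : Subsingleton (Coh.HH X S.X₃ p)) :
    Function.Surjective (Canon.HHlin k S.f p) := by
  intro x
  have hx : x ∈ LinearMap.ker (Canon.HHlin k S.g p) := by
    rw [LinearMap.mem_ker]
    exact Subsingleton.elim _ _
  rw [← ProperFinH9.range_HHlin_f k S hS p] at hx
  exact hx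

include hS in
theorem injective_HHlin_g (p : ℕ) (h1 : Subsingleton (Coh.HH X S.X₁ p)) :
    Function.Injective (Canon.HHlin k S.g p) := by
  rw [← LinearMap.ker_eq_bot, ← ProperFinH9.range_HHlin_f k S hS p, LinearMap.range_eq_bot]
  ext y
  rw [Subsingleton.elim y 0, map_zero]
  rfl

include hS in
theorem surjective_HHlin_g (p : ℕ) (h1 : Subsingleton (Coh.HH X S.X₁ (p + 1))) :
    Function.Surjective (Canon.HHlin k S.g p) := by
  intro x
  have hx : x ∈ LinearMap.ker (δlin k S hS p) := by
    rw [LinearMap.mem_ker]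
    exact Subsingleton.elim _ _
  rw [← range_HHlin_g k S hS p] at hx
  exact hx

include hS in
theorem injective_HHlin_f_succ (p : ℕ) (h3 : Subsingleton (Coh.HH X S.X₃ p)) :
    Function.Injective (Canon.HHlin k S.f (p + 1)) := by
  rw [← LinearMap.ker_eq_bot, ← ProperFinH9.range_δlin k S hS p, LinearMap.range_eq_bot]
  ext y
  rw [Subsingleton.elim y 0, map_zero]
  rfl

include hS in
theorem surjective_HHlin_g_of_injective (p : ℕ)
    (hinj : Function.Injective (Canon.HHlin k S.f (p + 1))) :
    Function.Surjective (Canon.HHlin k S.g p) := by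
  intro x
  have hx : x ∈ LinearMap.ker (δlin k S hS p) := by
    rw [LinearMap.mem_ker]
    apply hinj
    rw [map_zero]
    have h1 : δlin k S hS p x ∈ LinearMap.range (δlin k S hS p) := ⟨x, rfl⟩
    rw [ProperFinH9.range_δlin k S hS p, LinearMap.mem_ker] at h1
    exact h1
  rw [← range_HHlin_g k S hS p] at hx
  exact hx

end LES

section Exact

variable (k : Type u) [Field k] {X : Scheme.{u}} [X.Over (Spec (CommRingCat.of k))]

/-- a morphism whose kernel and cokernel have no higher cohomology (after applying an exact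
functor) induces isomorphisms on `H^p`, `p ≥ 2` -/
theorem finrank_HH_eq_of_exact (F : X.Modules ⥤ X.Modules) [F.PreservesZeroMorphisms]
    (hF : ∀ S : ShortComplex X.Modules, S.ShortExact → (S.map F).ShortExact)
    {A B : X.Modules} (ψ : A ⟶ B) (hK : HVan (F.obj (kernel ψ)))
    (hC : HVan (F.obj (cokernel ψ))) (p : ℕ) (hp : 2 ≤ p) :
    Module.finrank k (Coh.HH X (F.obj A) p) = Module.finrank k (Coh.HH X (F.obj B) p) := by
  let S₁ : ShortComplex X.Modules :=
    ShortComplex.mk (kernel.ι ψ) (cokernel.π (kernel.ι ψ)) (cokernel.condition _)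
  have hS₁ : S₁.ShortExact := ShortComplex.ShortExact.mk' (ShortComplex.exact_cokernel _)
    (inferInstanceAs (Mono (kernel.ι ψ))) (inferInstanceAs (Epi (cokernel.π (kernel.ι ψ))))
  let S₂ : ShortComplex X.Modules :=
    ShortComplex.mk (kernel.ι (cokernel.π ψ)) (cokernel.π ψ) (kernel.condition _)
  have hS₂ : S₂.ShortExact := ShortComplex.ShortExact.mk' (ShortComplex.exact_kernel _)
    (inferInstanceAs (Mono (kernel.ι (cokernel.π ψ)))) (inferInstanceAs (Epi (cokernel.π ψ)))
  obtain ⟨q, rfl⟩ : ∃ q, p = q + 2 := ⟨p - 2, by omega⟩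
  have b₁ : Function.Bijective (Canon.HHlin k (S₁.map F).g (q + 2)) :=
    ⟨injective_HHlin_g k _ (hF S₁ hS₁) (q + 2) (hK _ (by omega)),
      surjective_HHlin_g k _ (hF S₁ hS₁) (q + 2) (hK _ (by omega))⟩
  have b₂ : Function.Bijective (Canon.HHlin k (S₂.map F).f (q + 1 + 1)) :=
    ⟨injective_HHlin_f_succ k _ (hF S₂ hS₂) (q + 1) (hC _ (by omega)),
      surjective_HHlin_f k _ (hF S₂ hS₂) (q + 1 + 1) (hC _ (by omega))⟩
  have e₁ := (LinearEquiv.ofBijective _ b₁).finrank_eq
  have e₂ := (LinearEquiv.ofBijective _ b₂).finrank_eq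
  have e₃ := (Groth.Agent.HypConn.hhEquivOfIso (A := k)
    (F.mapIso (Abelian.coimageIsoImage ψ)) (q + 2)).finrank_eq
  exact e₁.trans (e₃.trans e₂)

end Exact

end Snap9
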