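import Mathlib
import Groth.Prelude
import Groth.Agent.Lib.Snap25_helper9
import Groth.Agent.Lib.CohDev12_helper8

/-!
# Nakai–Moishezon, IV: stabilisation of the higher cohomology of the powers and existence of
sections (helper9).
APPEND-ONLY once landed.
-/

set_option autoImplicit false
universe u
open CategoryTheory CategoryTheory.Limits AlgebraicGeometry Opposite TopologicalSpace

namespace Snap9

open Groth.Agent.TensInv Groth.Agent.Lib.GVanH2 Groth.Agent.ProjFin QcqsLoc QCohExtn GenLocH8 TensH8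

section Stab

variable (k : Type u) [Field k] (X : Scheme.{u}) [X.Over (Spec (CommRingCat.of k))]
  [IsProper (X ↘ Spec (CommRingCat.of k))]

/-- the standing vanishing hypothesis of the inductive step: twists of coherent modules with
proper support by large powers of `L` have no higher cohomology -/
def VanProper (L : X.Modules) : Prop :=
  ∀ F : X.Modules, Coh.IsCoh F → CohB1.support F ≠ Set.univ → EvVan L F

/-- the higher cohomology groups `H^p`, `p ≥ 2`, of the powers of `L` are eventually of constant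
dimension -/
theorem exists_stab [IsIntegral X] {L : X.Modules} (hL : PicF.IsInvertible L)
    (hV : VanProper X L) :
    ∃ m₀ : ℕ, ∀ m : ℕ, m₀ ≤ m → ∀ p : ℕ, 2 ≤ p →
      Module.finrank k (Coh.HH X (CohB1.tensorPow L (m + 1)) p) =
        Module.finrank k (Coh.HH X (CohB1.tensorPow L m) p) := by
  haveI : IsLocallyNoetherian X :=
    LocallyOfFiniteType.isLocallyNoetherian (X ↘ Spec (CommRingCat.of k))
  haveI : CompactSpace X :=
    QuasiCompact.compactSpace_of_compactSpace (X ↘ Spec (CommRingCat.of k))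
  haveI : IsNoetherian X := {}
  obtain ⟨x₀⟩ : Nonempty X := inferInstance
  obtain ⟨U, hU, hxU, e, he⟩ := exists_isGen hL x₀
  have hOc := CohDevH8.isCoh_structureModule X
  have hLc := ProperFinH9.isCoh_of_isInvertible hL
  let φ : Γ(X, U) →ₗ[Γ(X, U)] Γ(L, U) := LinearMap.toSpanSingleton _ _ e
  have hφ : Function.Bijective φ := by
    obtain ⟨h1, h2⟩ := he U le_rfl
    rw [SubExt.rF_self] at h1 h2
    constructor
    · rw [← LinearMap.ker_eq_bot, LinearMap.ker_eq_bot']
      intro c hc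
      exact h2 c hc
    · intro l
      obtain ⟨c, hc⟩ := h1 l
      exact ⟨c, hc.symm⟩
  let eq : Γ(Coh.structureModule X, U) ≃ₗ[Γ(X, U)] Γ(L, U) :=
    (CohDevH8.sectionsOOEquiv U).symm.trans (LinearEquiv.ofBijective φ hφ)
  obtain ⟨H, p₁, p₂, hH, -, hb₁, hb₂⟩ := CohDevH8.exists_roof hOc hLc hU eq
  have hne : ∀ T : Set X, T ⊆ (U : Set X)ᶜ → T ≠ Set.univ := by
    intro T hT h
    exact hT (h ▸ Set.mem_univ x₀) hxU
  obtain ⟨m₁, hm₁⟩ := hV _ (CohKerH8.isCoh_kernel hH hOc p₁)
    (hne _ (CohDevH8.support_kernel_subset_compl hH hOc p₁ hU hb₁.1))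
  obtain ⟨m₂, hm₂⟩ := hV _ (CohKerH8.isCoh_cokernel hH hOc p₁)
    (hne _ (CohDevH8.support_cokernel_subset_compl hH hOc p₁ hU hb₁.2))
  obtain ⟨m₃, hm₃⟩ := hV _ (CohKerH8.isCoh_kernel hH hLc p₂)
    (hne _ (CohDevH8.support_kernel_subset_compl hH hLc p₂ hU hb₂.1))
  obtain ⟨m₄, hm₄⟩ := hV _ (CohKerH8.isCoh_cokernel hH hLc p₂)
    (hne _ (CohDevH8.support_cokernel_subset_compl hH hLc p₂ hU hb₂.2))
  refine ⟨max (max m₁ m₂) (max m₃ m₄), fun m hm p hp => ?_⟩
  have h1 : m₁ ≤ m := (le_max_left _ _).trans ((le_max_left _ _).trans hm)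
  have h2 : m₂ ≤ m := (le_max_right _ _).trans ((le_max_left _ _).trans hm)
  have h3 : m₃ ≤ m := (le_max_left _ _).trans ((le_max_right _ _).trans hm)
  have h4 : m₄ ≤ m := (le_max_right _ _).trans ((le_max_right _ _).trans hm)
  have hN := isInvertible_tensorPow hL m
  have hF : ∀ S : ShortComplex X.Modules, S.ShortExact →
      (S.map (tR (CohB1.tensorPow L m))).ShortExact :=
    fun S hS => CurveTens.shortExact_tR hN S hS
  have e₁ := finrank_HH_eq_of_exact k (tR (CohB1.tensorPow L m)) hF p₁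
    (fun q hq => hm₁ m h1 q hq) (fun q hq => hm₂ m h2 q hq) p hp
  have e₂ := finrank_HH_eq_of_exact k (tR (CohB1.tensorPow L m)) hF p₂
    (fun q hq => hm₃ m h3 q hq) (fun q hq => hm₄ m h4 q hq) p hp
  have i₁ : (tR (CohB1.tensorPow L m)).obj (Coh.structureModule X) ≅ CohB1.tensorPow L m :=
    comm _ _ ≪≫ rightUnit _
  have i₂ : (tR (CohB1.tensorPow L m)).obj L ≅ CohB1.tensorPow L (m + 1) := comm _ _
  rw [← (Groth.Agent.HypConn.hhEquivOfIso (A := k) i₁ p).finrank_eq,
    ← (Groth.Agent.HypConn.hhEquivOfIso (A := k) i₂ p).finrank_eq, ← e₁, ← e₂]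

end Stab

section Large

/-- a positive leading term eventually dominates -/
theorem exists_large (n : ℕ) (hn : 1 ≤ n) (a C B : ℚ) (ha : 0 < a) (hC : 0 ≤ C) (m₀ : ℕ) :
    ∃ m : ℕ, m₀ ≤ m ∧ B < a * (m : ℚ) ^ n - C * ((m : ℚ) + 1) ^ (n - 1) := by
  obtain ⟨m₁, hm₁⟩ := exists_nat_ge ((|B| + 1 + C * 2 ^ (n - 1)) / a)
  refine ⟨max (max m₀ 1) m₁, (le_max_left _ _).trans (le_max_left _ _), ?_⟩
  set m : ℕ := max (max m₀ 1) m₁ with hm
  have hm1 : (1 : ℚ) ≤ (m : ℚ) := by
    have : 1 ≤ m := (le_max_right _ _).trans (le_max_left _ _)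
    exact_mod_cast this
  have hmm₁ : (m₁ : ℚ) ≤ (m : ℚ) := by
    have : m₁ ≤ m := le_max_right _ _
    exact_mod_cast this
  have h1 : |B| + 1 + C * 2 ^ (n - 1) ≤ a * (m : ℚ) := by
    have := (div_le_iff₀ ha).mp (hm₁.trans hmm₁)
    linarith
  have h2 : ((m : ℚ) + 1) ^ (n - 1) ≤ 2 ^ (n - 1) * (m : ℚ) ^ (n - 1) := by
    rw [← mul_pow]
    exact pow_le_pow_left₀ (by linarith) (by linarith) _
  have h3 : (m : ℚ) ^ n = (m : ℚ) ^ (n - 1) * (m : ℚ) := by
    rw [← pow_succ]
    congr 1
    omega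
  have h4 : (1 : ℚ) ≤ (m : ℚ) ^ (n - 1) := one_le_pow₀ hm1
  have h5 : C * ((m : ℚ) + 1) ^ (n - 1) ≤ C * (2 ^ (n - 1) * (m : ℚ) ^ (n - 1)) :=
    mul_le_mul_of_nonneg_left h2 hC
  have h6 : (|B| + 1) * 1 ≤ (a * (m : ℚ) - C * 2 ^ (n - 1)) * (m : ℚ) ^ (n - 1) := by
    apply mul_le_mul _ h4 zero_le_one
    · have := abs_nonneg B
      linarith
    · linarith
  have h7 : B ≤ |B| := le_abs_self B
  rw [h3]
  nlinarith [h5, h6, h7]

end Large

section Sections

variable (k : Type u) [Field k] (X : Scheme.{u}) [X.Over (Spec (CommRingCat.of k))]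
  [IsProper (X ↘ Spec (CommRingCat.of k))]

/-- **existence of sections**: on an integral proper scheme of positive dimension on which the
top self-intersection of `L` is positive and `L` is ample on all proper closed subschemes, large
powers of `L` have nonzero sections -/
theorem exists_section [IsIntegral X] (n : ℕ) (hn : 0 < n) (hdim : topologicalKrullDim X = n)
    {L M : X.Modules} (hL : PicF.IsInvertible L)
    (ε : CohB1.tensorMod L M ≅ Coh.structureModule X) (hV : VanProper X L)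
    (hpos : NMPos k X M) (m₁ : ℕ) :
    ∃ m : ℕ, m₁ ≤ m ∧ Nontrivial (Coh.HH X (CohB1.tensorPow L m) 0) := by
  haveI : IsLocallyNoetherian X :=
    LocallyOfFiniteType.isLocallyNoetherian (X ↘ Spec (CommRingCat.of k))
  haveI : CompactSpace X :=
    QuasiCompact.compactSpace_of_compactSpace (X ↘ Spec (CommRingCat.of k))
  haveI : IsNoetherian X := {}
  by_contra hcon
  push Not at hcon
  have h0 : ∀ m, m₁ ≤ m → Module.finrank k (Coh.HH X (CohB1.tensorPow L m) 0) = 0 := by
    intro m hm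
    haveI : Subsingleton (Coh.HH X (CohB1.tensorPow L m) 0) := hcon m hm
    exact Module.finrank_zero_of_subsingleton
  obtain ⟨m₀, hm₀⟩ := exists_stab k X hL hV
  have hstab : ∀ m, m₀ ≤ m → ∀ p, 2 ≤ p →
      Module.finrank k (Coh.HH X (CohB1.tensorPow L m) p) =
        Module.finrank k (Coh.HH X (CohB1.tensorPow L m₀) p) := by
    intro m hm p hp
    induction m, hm using Nat.le_induction with
    | base => rfl
    | succ m hm ih => rw [hm₀ m hm p hp, ih]
  have hX : topologicalKrullDim X ≤ (n : WithBot ℕ∞) := hdim.le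
  have hOcoh := CohDevH8.isCoh_structureModule X
  have hOdimeq : topologicalKrullDim (CohB1.support (Coh.structureModule X)) = n := by
    rw [CohDevH8.support_structureModule]
    exact ((Homeomorph.Set.univ X).isHomeomorph.topologicalKrullDim_eq).trans hdim
  set c : ℕ → ℚ := fun i => (FGA.intNum k X n (fun _ : Fin i => M) (Coh.structureModule X) : ℚ)
    with hc
  have hcn : (0 : ℚ) < c n := by
    have h1 := hpos _ hOcoh n hn hOdimeq
    have h2 : FGA.intNum k X n (fun _ : Fin n => M) (Coh.structureModule X) =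
        altSum k X (List.replicate n M) (Coh.structureModule X) := by
      rw [intNum_eq_altSum k X n hX, List.ofFn_const]
    rw [hc]
    show (0 : ℚ) < ((FGA.intNum k X n (fun _ : Fin n => M) (Coh.structureModule X) : ℤ) : ℚ)
    rw [h2]
    exact_mod_cast h1
  obtain ⟨C₀, hC₀, hb⟩ := exists_bound n c
  have hvan : ∀ (F : X.Modules) (p : ℕ), n < p → Subsingleton (Coh.HH X F p) := by
    intro F p hp
    have hd : dimC (X := X.toTopCat) (⊤ : Closeds X) < ((n + 1 : ℕ) : WithBot ℕ∞) := by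
      refine lt_of_le_of_lt ((dimC_top_le (X := X.toTopCat)).trans hX) ?_
      exact_mod_cast Nat.lt_succ_self n
    exact subsingleton_HH_of_dimC (n + 1) ⊤ hd F (fun _ _ => trivial) p hp
  have key : ∀ m, (∑ p ∈ Finset.range (n + 1), (-1 : ℚ) ^ p *
      (Module.finrank k (Coh.HH X (CohB1.tensorPow L m) p) : ℚ)) =
      ∑ i ∈ Finset.range (n + 1), ((m + i - 1).choose i : ℚ) * c i := by
    intro m
    have h1 := main11753 k X n hX L M hL ⟨ε⟩ (Coh.structureModule X) hOcoh n hOdimeq.le m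
    rw [← euler_eq_eulerCharLE k X n hX, CurveTens.euler_of_iso k X (rightUnit _),
      EulerField.euler_eq_sum k X n _ (fun p hp => hvan _ p hp)] at h1
    have h5 := congrArg (fun z : ℤ => (z : ℚ)) h1
    push_cast at h5
    exact h5
  set B : ℚ := ∑ p ∈ Finset.range (n + 1),
    (Module.finrank k (Coh.HH X (CohB1.tensorPow L m₀) p) : ℚ) with hB
  have hfact : (0 : ℚ) < (n.factorial : ℚ) := by exact_mod_cast Nat.factorial_pos n
  obtain ⟨m, hm, hlt⟩ := exists_large n hn (c n / (n.factorial : ℚ)) C₀ B (div_pos hcn hfact) hC₀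
    (max m₀ m₁)
  have hm0 : m₀ ≤ m := (le_max_left _ _).trans hm
  have hm1 : m₁ ≤ m := (le_max_right _ _).trans hm
  have hle : (∑ p ∈ Finset.range (n + 1), (-1 : ℚ) ^ p *
      (Module.finrank k (Coh.HH X (CohB1.tensorPow L m) p) : ℚ)) ≤ B := by
    apply Finset.sum_le_sum
    intro p _
    rcases Nat.lt_or_ge p 2 with hp | hp
    · interval_cases p
      · rw [h0 m hm1]
        simp
      · have : (0 : ℚ) ≤ (Module.finrank k (Coh.HH X (CohB1.tensorPow L m) 1) : ℚ) :=
          Nat.cast_nonneg _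
        have h2 : (0 : ℚ) ≤ (Module.finrank k (Coh.HH X (CohB1.tensorPow L m₀) 1) : ℚ) :=
          Nat.cast_nonneg _
        simp only [pow_one]
        linarith
    · rw [hstab m hm0 p hp]
      have h2 : (0 : ℚ) ≤ (Module.finrank k (Coh.HH X (CohB1.tensorPow L m₀) p) : ℚ) :=
        Nat.cast_nonneg _
      rcases neg_one_pow_eq_or ℚ p with h | h
      · rw [h, one_mul]
      · rw [h]
        linarith
  have h2 := hb m
  rw [abs_le] at h2
  rw [key m] at hle
  linarith [h2.1]

end Sections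

end Snap9
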