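import Mathlib
import Groth.Prelude
import Groth.Agent.Lib.Snap26_helper9
import Groth.Agent.Lib.CurveLin3_helper9
import Groth.Agent.Lib.CurvePt2_helper9
import Groth.Agent.Lib.ProjDual2_helper9

/-!
# Nakai–Moishezon, V: sections without base points at closed points (helper9).
APPEND-ONLY once landed.
-/

set_option autoImplicit false
universe u
open CategoryTheory CategoryTheory.Limits AlgebraicGeometry Opposite TopologicalSpace

namespace Snap9

open Groth.Agent.TensInv Groth.Agent.Lib.GVanH2 Groth.Agent.ProjFin QcqsLoc QCohExtn GenLocH8 TensH8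
  SerreCrit FLFH8

section Formal

variable {X : Scheme.{u}}

/-- **lifting a generator**: if global sections of the invertible module `P` surject onto those of
a quotient `R` which is killed by the ideal of the closed point `x` and nonzero at `x`, then some
global section of `P` generates `P` at `x` -/
theorem exists_genAt_of_surjective {P R : X.Modules} (hP : PicF.IsInvertible P) (π : P ⟶ R)
    [Epi π] {x : X} (hx : IsClosed ({x} : Set X)) [R.IsQuasicoherent]
    [SheafOfModules.IsFiniteType (R := X.ringCatSheaf) R]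
    (hk : ClSub.KilledByIdeal (Scheme.IdealSheafData.vanishingIdeal ⟨{x}, hx⟩) R)
    (hxR : x ∈ CohB1.support R) (hsurj : Function.Surjective (ap π ⊤)) :
    ∃ τ : Coh.structureModule X ⟶ P, CurveLin.GenAt P τ x := by
  obtain ⟨W, hW, hxW, e, he⟩ := exists_isGen hP x
  have hsupp : CohB1.support R ⊆ ({x} : Set X) := by
    have h1 := CohDevH8.support_subset_of_killed _ R hk
    rwa [Scheme.IdealSheafData.coe_support_vanishingIdeal] at h1
  let U₂ : X.Opens := ⟨({x} : Set X)ᶜ, hx.isOpen_compl⟩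
  have hcov : (⊤ : X.Opens) ≤ W ⊔ U₂ := by
    intro y _
    by_cases hy : y = x
    · exact Or.inl (hy ▸ hxW)
    · exact Or.inr hy
  have hagree : rF R (inf_le_left : W ⊓ U₂ ≤ W) (ap π W e) =
      rF R (inf_le_right : W ⊓ U₂ ≤ U₂) 0 := by
    rw [map_zero]
    apply CycLenH8.eq_zero_of_disjoint_support R
    intro y hy hyR
    exact hy.2 (hsupp hyR)
  obtain ⟨ρ, hρW, -⟩ := glue₂_mod R (le_top : W ≤ ⊤) (le_top : U₂ ≤ ⊤) hcov (ap π W e) 0 hagree
  obtain ⟨τ₀, hτ₀⟩ := hsurj ρ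
  refine ⟨SDivGenH8.unitHom P τ₀, ?_⟩
  have hone : ap (SDivGenH8.unitHom P τ₀) W (toM (1 : Γ(X, W))) = rF P (le_top : W ≤ ⊤) τ₀ :=
    SDivGenH8.unitHom_app_one P τ₀ W
  obtain ⟨a, ha⟩ := he.exists_coef (rF P (le_top : W ≤ ⊤) τ₀)
  rw [CurvePt.genAt_iff_mem_basicOpen _ he (hone.trans ha) hxW]
  by_contra hxa
  apply hxR
  -- `π e = 0` on `W`
  have ha' : a ∈ (Scheme.IdealSheafData.vanishingIdeal ⟨{x}, hx⟩).ideal ⟨W, hW⟩ :=
    CurveGG.mem_vanishingIdeal_of_notMem_basicOpen hx hW a hxa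
  have h1 : ap π W (a • e) = 0 := by
    rw [ap_smul]
    exact hk ⟨W, hW⟩ a ha' _
  have h2 : ap π W (rF P (le_top : W ≤ ⊤) τ₀) = ap π W e := by
    rw [ap_rF, hτ₀, hρW]
  have h3 : ap π W e = 0 := by rw [← h2, ha, h1]
  -- the stalk of `R` at `x` vanishes
  refine ⟨fun z z' => ?_⟩
  suffices h : ∀ c : R.presheaf.stalk x, c = 0 by rw [h z, h z']
  intro c
  obtain ⟨p₀, rfl⟩ := EpiLoc.stalk_surjective_of_epi π x c
  obtain ⟨V₀, hxV₀, p, rfl⟩ := TopCat.Presheaf.exists_germ_eq P.presheaf p₀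
  have hxV : x ∈ V₀ ⊓ W := ⟨hxV₀, hxW⟩
  obtain ⟨b, hb⟩ := (he.res (inf_le_right : V₀ ⊓ W ≤ W)).exists_coef
    (rF P (inf_le_left : V₀ ⊓ W ≤ V₀) p)
  have h4 : ap π (V₀ ⊓ W) (rF P (inf_le_left : V₀ ⊓ W ≤ V₀) p) = 0 := by
    rw [hb, ap_smul, ap_rF, h3, map_zero, smul_zero]
  rw [← TopCat.Presheaf.germ_res_apply P.presheaf
    (homOfLE (inf_le_left : V₀ ⊓ W ≤ V₀)) x hxV p]
  refine (DescH8.stk_germ π hxV _).trans ?_
  have h5 : π.app (V₀ ⊓ W) (P.presheaf.map (homOfLE (inf_le_left : V₀ ⊓ W ≤ V₀)).op p) = 0 := h4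
  rw [h5, map_zero]

/-- away from the support of its cokernel, an injective section of an invertible module
generates -/
theorem genAt_of_notMem_support_cokernel {P : X.Modules} (hP : PicF.IsInvertible P)
    (t : Coh.structureModule X ⟶ P) [Mono t] {x : X}
    (hx : x ∉ CohB1.support (cokernel t)) : CurveLin.GenAt P t x := by
  obtain ⟨W, hW, hxW, e, he⟩ := exists_isGen hP x
  obtain ⟨f, hf⟩ := he.exists_coef (ap t W (toM (1 : Γ(X, W))))
  rw [CurvePt.genAt_iff_mem_basicOpen t he hf hxW]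
  have hsub : Subsingleton ((cokernel t).presheaf.stalk x) := not_not.mp hx
  have hex := CycLenH8.stalk_exact _ (shortExact_cokernel t) x
  obtain ⟨κ₀, hκ₀⟩ := (hex (P.presheaf.germ W x hxW e)).mp (Subsingleton.elim _ _)
  obtain ⟨V₀, hxV₀, κ, rfl⟩ := TopCat.Presheaf.exists_germ_eq _ κ₀
  have h1 : P.presheaf.germ V₀ x hxV₀ (ap t V₀ κ) = P.presheaf.germ W x hxW e := by
    rw [← hκ₀]
    exact (DescH8.stk_germ t hxV₀ κ).symm
  obtain ⟨V', hxV', i₁, i₂, h2⟩ := TopCat.Presheaf.germ_eq P.presheaf x hxV₀ hxW _ _ h1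
  have hV'V₀ : V' ≤ V₀ := i₁.le
  have hV'W : V' ≤ W := i₂.le
  have h2' : rF P hV'V₀ (ap t V₀ κ) = rF P hV'W e := h2
  -- `κ = c • 1`
  obtain ⟨c, hc⟩ : ∃ c : Γ(X, V₀), κ = c • toM (1 : Γ(X, V₀)) :=
    ⟨ofM κ, (mul_one (ofM κ)).symm⟩
  have h3 : rF P hV'V₀ (ap t V₀ κ) = (rX hV'V₀ c * rX hV'W f) • rF P hV'W e := by
    rw [hc, ap_smul, rF_smul, CurveLin.ap_one_res t hV'V₀, ← CurveLin.ap_one_res t hV'W, hf,
      rF_smul, mul_smul]
  have h4 : (rX hV'V₀ c * rX hV'W f) • rF P hV'W e = (1 : Γ(X, V')) • rF P hV'W e := by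
    rw [← h3, h2', one_smul]
  have h5 : rX hV'V₀ c * rX hV'W f = 1 := TensH8.IsGen.coef_ext (he.res hV'W) h4
  have h6 : IsUnit (rX hV'W f) := IsUnit.of_mul_eq_one_right _ h5
  have h7 : x ∈ X.basicOpen (rX hV'W f) := by
    rw [Scheme.mem_basicOpen X _ x hxV']
    exact h6.map _
  rw [basicOpen_rX] at h7
  exact h7.2

end Formal

section Stab1

/-- a non-increasing sequence of natural numbers is eventually constant -/
theorem antitone_eventually_const (b : ℕ → ℕ) (hb : ∀ r, b (r + 1) ≤ b r) :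
    ∃ r₁, ∀ r, r₁ ≤ r → b (r + 1) = b r := by
  have hanti : Antitone b := antitone_nat_of_succ_le hb
  have hne : (Set.range b).Nonempty := ⟨b 0, 0, rfl⟩
  obtain ⟨r₁, hr₁⟩ := Nat.sInf_mem hne
  refine ⟨r₁, fun r hr => ?_⟩
  have h1 : b r ≤ b r₁ := hanti hr
  have h2 : b (r + 1) ≤ b r := hb r
  have h3 : b r₁ ≤ b (r + 1) := by
    rw [hr₁]
    exact Nat.sInf_le ⟨r + 1, rfl⟩
  omega

variable (k : Type u) [Field k] (X : Scheme.{u}) [X.Over (Spec (CommRingCat.of k))]
  [IsProper (X ↘ Spec (CommRingCat.of k))]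

include k in
/-- **lifting sections from the zero scheme of a section**: for arbitrarily large `j`, global
sections of `L^m ⊗ L^j` surject onto those of `coker t ⊗ L^j` -/
theorem exists_sections_surjective {L : X.Modules} (hL : PicF.IsInvertible L)
    (hV : VanProper X L) (m : ℕ) (hm : 0 < m)
    (t : Coh.structureModule X ⟶ CohB1.tensorPow L m) [Mono t]
    (hsupp : CohB1.support (cokernel t) ≠ Set.univ) (j₁ : ℕ) :
    ∃ j : ℕ, j₁ ≤ j ∧
      Function.Surjective (ap ((tR (CohB1.tensorPow L j)).map (cokernel.π t)) ⊤) := by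
  haveI : IsLocallyNoetherian X :=
    LocallyOfFiniteType.isLocallyNoetherian (X ↘ Spec (CommRingCat.of k))
  have hOc := CohDevH8.isCoh_structureModule X
  have hPc := ProperFinH9.isCoh_of_isInvertible (isInvertible_tensorPow hL m)
  have hQc : Coh.IsCoh (cokernel t) := CohKerH8.isCoh_cokernel hOc hPc t
  let S : ShortComplex X.Modules := ShortComplex.mk t (cokernel.π t) (cokernel.condition t)
  have hS : S.ShortExact := shortExact_cokernel t
  obtain ⟨j₀, hj₀⟩ := hV (cokernel t) hQc hsupp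
  have hSj : ∀ j, (S.map (tR (CohB1.tensorPow L j))).ShortExact :=
    fun j => CurveTens.shortExact_tR (isInvertible_tensorPow hL j) S hS
  set a : ℕ → ℕ := fun j => Module.finrank k (Coh.HH X (CohB1.tensorPow L j) 1) with ha
  have e₁ : ∀ j, Module.finrank k (Coh.HH X (S.map (tR (CohB1.tensorPow L j))).X₁ 1) = a j := by
    intro j
    exact (Groth.Agent.HypConn.hhEquivOfIso (A := k)
      (comm (Coh.structureModule X) (CohB1.tensorPow L j) ≪≫ rightUnit _) 1).finrank_eq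
  have e₂ : ∀ j, Module.finrank k (Coh.HH X (S.map (tR (CohB1.tensorPow L j))).X₂ 1) =
      a (m + j) := by
    intro j
    obtain ⟨e⟩ := TensPowH9.tensorPow_add L m j
    exact (Groth.Agent.HypConn.hhEquivOfIso (A := k) e.symm 1).finrank_eq
  have hc₁ : ∀ j, Coh.IsCoh (S.map (tR (CohB1.tensorPow L j))).X₁ :=
    fun j => isCoh_tensorMod hOc (isInvertible_tensorPow hL j)
  have hc₂ : ∀ j, Coh.IsCoh (S.map (tR (CohB1.tensorPow L j))).X₂ :=
    fun j => isCoh_tensorMod hPc (isInvertible_tensorPow hL j)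
  have hsurj : ∀ j, j₀ ≤ j →
      Function.Surjective (Canon.HHlin k (S.map (tR (CohB1.tensorPow L j))).f 1) :=
    fun j hj => surjective_HHlin_f k _ (hSj j) 1 (hj₀ j hj 1 one_pos)
  have hle : ∀ j, j₀ ≤ j → a (m + j) ≤ a j := by
    intro j hj
    haveI := ProperFinH9.finite_HH_of_proper k X _ (hc₁ j) 1
    rw [← e₁ j, ← e₂ j]
    have h1 := LinearMap.finrank_range_le (Canon.HHlin k (S.map (tR (CohB1.tensorPow L j))).f 1)
    rw [LinearMap.range_eq_top.mpr (hsurj j hj), finrank_top] at h1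
    exact h1
  obtain ⟨r₁, hr₁⟩ := antitone_eventually_const (fun r => a (j₀ + r * m)) (fun r => by
    have h1 := hle (j₀ + r * m) (Nat.le_add_right _ _)
    have h2 : j₀ + (r + 1) * m = m + (j₀ + r * m) := by ring
    show a (j₀ + (r + 1) * m) ≤ a (j₀ + r * m)
    rw [h2]
    exact h1)
  set r := max r₁ j₁ with hr
  refine ⟨j₀ + r * m, ?_, ?_⟩
  · have h1 : j₁ ≤ r := le_max_right _ _
    have h2 : r ≤ r * m := Nat.le_mul_of_pos_right r hm
    omega
  · have hj : j₀ ≤ j₀ + r * m := Nat.le_add_right _ _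
    have heq : a (m + (j₀ + r * m)) = a (j₀ + r * m) := by
      have h1 := hr₁ r (le_max_left _ _)
      have h2 : j₀ + (r + 1) * m = m + (j₀ + r * m) := by ring
      have h1' : a (j₀ + (r + 1) * m) = a (j₀ + r * m) := h1
      rw [h2] at h1'
      exact h1'
    haveI := ProperFinH9.finite_HH_of_proper k X _ (hc₁ (j₀ + r * m)) 1
    haveI := ProperFinH9.finite_HH_of_proper k X _ (hc₂ (j₀ + r * m)) 1
    have hinj : Function.Injective
        (Canon.HHlin k (S.map (tR (CohB1.tensorPow L (j₀ + r * m)))).f 1) :=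
      (LinearMap.injective_iff_surjective_of_finrank_eq_finrank
        ((e₁ _).trans (heq.symm.trans (e₂ _).symm))).mpr (hsurj _ hj)
    have hK := surjective_HHlin_g_of_injective k _ (hSj (j₀ + r * m)) 0 hinj
    intro q
    obtain ⟨w, hw⟩ := hK ((Groth.Agent.ProjDual.h0 _).symm q)
    refine ⟨Groth.Agent.ProjDual.h0 _ w, ?_⟩
    have key := Groth.Agent.ProjDual.h0_nat
      ((tR (CohB1.tensorPow L (j₀ + r * m))).map (cokernel.π t)) w
    rw [key]
    have hw' : Groth.Agent.HHVan.hmap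
        ((tR (CohB1.tensorPow L (j₀ + r * m))).map (cokernel.π t)) 0 w =
        (Groth.Agent.ProjDual.h0 _).symm q := hw
    rw [hw', AddEquiv.apply_symm_apply]

end Stab1

end Snap9
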