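import Mathlib
import Groth.Prelude
import Groth.Agent.Lib.Snap27_helper9
import Groth.Agent.Lib.SuppTens2_helper8
import Groth.Agent.Lib.CurveLin2_helper9

/-!
# Nakai–Moishezon, VI: a power of `L` has a section generating at a given closed point (helper9).
APPEND-ONLY once landed.
-/

set_option autoImplicit false
universe u
open CategoryTheory CategoryTheory.Limits AlgebraicGeometry Opposite TopologicalSpace TensorProduct

namespace Snap9

open Groth.Agent.TensInv Groth.Agent.Lib.GVanH2 Groth.Agent.ProjFin QcqsLoc QCohExtn GenLocH8 TensH8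
  SerreCrit FLFH8

section Alg

theorem smul_tensor_eq_zero (R M N : Type*) [CommRing R] [AddCommGroup M]
    [Module R M] [AddCommGroup N] [Module R N] (a : R) (h : ∀ m : M, a • m = 0)
    (z : M ⊗[R] N) : a • z = 0 := by
  induction z using TensorProduct.induction_on with
  | zero => exact smul_zero _
  | tmul m n => rw [TensorProduct.smul_tmul', h, TensorProduct.zero_tmul]
  | add x y hx hy => rw [smul_add, hx, hy, add_zero]

end Alg

section Formal

variable {X : Scheme.{u}}

open TensQCH8 in
/-- tensoring preserves being killed by an ideal -/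
theorem killedByIdeal_tensorMod (J : X.IdealSheafData) (A N : X.Modules) [A.IsQuasicoherent]
    [N.IsQuasicoherent] (hk : ClSub.KilledByIdeal J A) :
    ClSub.KilledByIdeal J (CohB1.tensorMod A N) := by
  intro U a ha m
  obtain ⟨z, rfl⟩ := (eta_bijective A N U.2).2 m
  have h1 : a • (eta A N U.1 z : Γ(CohB1.tensorMod A N, U.1)) = eta A N U.1 (a • z) :=
    (eta_smul A N U.1 a z).symm
  have h2 : a • z = 0 :=
    smul_tensor_eq_zero Γ(X, U.1) Γ(A, U.1) Γ(N, U.1) a (hk U a ha) z
  refine h1.trans ?_
  rw [h2, map_zero]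

/-- an invertible module has full support -/
theorem mem_support_of_isInvertible {N : X.Modules} (hN : PicF.IsInvertible N) (x : X) :
    x ∈ CohB1.support N := by
  obtain ⟨W, hW, hxW, e, he⟩ := exists_isGen hN x
  intro hsub
  have h1 := (SecOrdH8.stalk_gen he hxW).2 1 (Subsingleton.elim _ _)
  exact one_ne_zero h1

end Formal

section Main

variable (k : Type u) [Field k] (X : Scheme.{u}) [X.Over (Spec (CommRingCat.of k))]
  [IsProper (X ↘ Spec (CommRingCat.of k))]

include k in
/-- the cokernel of a nonzero section of an invertible module on an integral scheme has proper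
support -/
theorem support_cokernel_ne_univ [IsIntegral X] {P : X.Modules} (hP : PicF.IsInvertible P)
    (t : Coh.structureModule X ⟶ P) (ht : t ≠ 0) : CohB1.support (cokernel t) ≠ Set.univ := by
  haveI : IsLocallyNoetherian X :=
    LocallyOfFiniteType.isLocallyNoetherian (X ↘ Spec (CommRingCat.of k))
  haveI : CompactSpace X :=
    QuasiCompact.compactSpace_of_compactSpace (X ↘ Spec (CommRingCat.of k))
  haveI : IsNoetherian X := {}
  have hOc := CohDevH8.isCoh_structureModule X
  have hPc := ProperFinH9.isCoh_of_isInvertible hP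
  obtain ⟨x₀⟩ : Nonempty X := inferInstance
  obtain ⟨W, hW, hxW, e, he⟩ := exists_isGen hP x₀
  obtain ⟨f, hf⟩ := he.exists_coef (ap t W (toM (1 : Γ(X, W))))
  have hf0 : f ≠ 0 := by
    rintro rfl
    apply ht
    exact CurveDeg.hom_eq_zero_of_ap_gen TensH8.isInvertible_structureModule hP t ⟨x₀, hxW⟩
      (TensH8.isGen_one W) (by rw [hf, zero_smul])
  have hne : X.basicOpen f ≠ ⊥ := fun h => hf0 ((basicOpen_eq_bot_iff f).mp h)
  obtain ⟨x, hx⟩ : ∃ x, x ∈ X.basicOpen f := by
    by_contra hcon
    push Not at hcon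
    apply hne
    ext y
    simp only [Opens.coe_bot, Set.mem_empty_iff_false, iff_false]
    exact hcon y
  intro heq
  have hxs : x ∈ CohB1.support (cokernel t) := heq ▸ Set.mem_univ x
  exact CurveLin.notMem_basicOpen_of_mem_support hOc hPc t hW he hf hxs hx

include k in
/-- **sections without base point at a closed point**: given a nonzero section of `L^m`, some
power of `L` has a section generating at the closed point `x` -/
theorem exists_genAt_closed [IsIntegral X] {L : X.Modules} (hL : PicF.IsInvertible L)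
    (hV : VanProper X L) (m : ℕ) (hm : 0 < m)
    (t : Coh.structureModule X ⟶ CohB1.tensorPow L m) (ht : t ≠ 0)
    {x : X} (hx : IsClosed ({x} : Set X)) :
    ∃ (q : ℕ) (_ : 0 < q) (τ : Coh.structureModule X ⟶ CohB1.tensorPow L q),
      CurveLin.GenAt (CohB1.tensorPow L q) τ x := by
  haveI : IsLocallyNoetherian X :=
    LocallyOfFiniteType.isLocallyNoetherian (X ↘ Spec (CommRingCat.of k))
  haveI : CompactSpace X :=
    QuasiCompact.compactSpace_of_compactSpace (X ↘ Spec (CommRingCat.of k))
  haveI : IsNoetherian X := {}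
  have hOc := CohDevH8.isCoh_structureModule X
  have hPinv := isInvertible_tensorPow hL m
  have hPc := ProperFinH9.isCoh_of_isInvertible hPinv
  haveI : Mono t := CurveDeg.mono_of_ne_zero TensH8.isInvertible_structureModule hPinv t ht
  have hsupp := support_cokernel_ne_univ k X hPinv t ht
  by_cases hxQ : x ∈ CohB1.support (cokernel t)
  swap
  · exact ⟨m, hm, t, genAt_of_notMem_support_cokernel hPinv t hxQ⟩
  have hQc : Coh.IsCoh (cokernel t) := CohKerH8.isCoh_cokernel hOc hPc t
  haveI := hQc.1
  set J := Scheme.IdealSheafData.vanishingIdeal ⟨{x}, hx⟩ with hJ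
  set ρ := CohDevH8.quotJπ J (cokernel t) with hρ
  haveI : Epi ρ := CohDevH8.epi_quotJπ J (cokernel t)
  have hRc : Coh.IsCoh (CohDevH8.quotJ J (cokernel t)) := CohDevH8.isCoh_quotJ J _ hQc
  haveI := hRc.1
  have hRk : ClSub.KilledByIdeal J (CohDevH8.quotJ J (cokernel t)) :=
    CohDevH8.killed_quotJ J _
  have hxJ : x ∈ J.support := by
    rw [hJ, ← SetLike.mem_coe, Scheme.IdealSheafData.coe_support_vanishingIdeal]
    exact Set.mem_singleton x
  have hxR : x ∈ CohB1.support (CohDevH8.quotJ J (cokernel t)) :=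
    CohDevH8.mem_support_quotJ J _ hQc hxQ hxJ
  have hKc : Coh.IsCoh (kernel ρ) := CohKerH8.isCoh_kernel hQc hRc ρ
  have hKs : CohB1.support (kernel ρ) ≠ Set.univ := by
    intro h
    apply hsupp
    apply Set.eq_univ_of_univ_subset
    rw [← h]
    exact CohDevH8.support_subset_of_mono (kernel.ι ρ)
  obtain ⟨j₁, hj₁⟩ := hV (kernel ρ) hKc hKs
  obtain ⟨j, hj, hsurj₁⟩ := exists_sections_surjective k X hL hV m hm t hsupp j₁
  set N := CohB1.tensorPow L j with hN
  have hNinv : PicF.IsInvertible N := isInvertible_tensorPow hL j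
  have hNc := ProperFinH9.isCoh_of_isInvertible hNinv
  haveI := hNc.1
  let S' : ShortComplex X.Modules := ShortComplex.mk (kernel.ι ρ) ρ (kernel.condition ρ)
  have hS' : S'.ShortExact := ShortComplex.ShortExact.mk' (ShortComplex.exact_kernel _)
    (inferInstanceAs (Mono (kernel.ι ρ))) (inferInstanceAs (Epi ρ))
  have hS'N : (S'.map (tR N)).ShortExact := CurveTens.shortExact_tR hNinv S' hS'
  have hsub : Subsingleton (Coh.HH X (S'.map (tR N)).X₁ 1) := hj₁ j hj 1 one_pos
  have hsurj₂ : Function.Surjective (ap ((tR N).map ρ) ⊤) := fun c =>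
    surj_of_H1 (S'.map (tR N)) hS'N (fun y => @Subsingleton.elim _ hsub _ _) c
  set π := (tR N).map (cokernel.π t ≫ ρ) with hπ
  haveI : Epi π := CurveTens.epi_tR hNinv _
  have hsurj : Function.Surjective (ap π ⊤) := by
    intro c
    obtain ⟨b, hb⟩ := hsurj₂ c
    obtain ⟨a, ha⟩ := hsurj₁ b
    refine ⟨a, ?_⟩
    rw [hπ, Functor.map_comp]
    show ap ((tR N).map ρ) ⊤ (ap ((tR N).map (cokernel.π t)) ⊤ a) = c
    rw [ha, hb]
  have hRNc : Coh.IsCoh ((tR N).obj (CohDevH8.quotJ J (cokernel t))) :=
    isCoh_tensorMod hRc hNinv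
  haveI := hRNc.1
  haveI := hRNc.2
  have hRNk : ClSub.KilledByIdeal J ((tR N).obj (CohDevH8.quotJ J (cokernel t))) :=
    killedByIdeal_tensorMod J _ N hRk
  have hxRN : x ∈ CohB1.support ((tR N).obj (CohDevH8.quotJ J (cokernel t))) := by
    have h1 := SuppTensH8.support_tensorMod (CohDevH8.quotJ J (cokernel t)) N hRc.2 hNc.2
    have h2 : x ∈ CohB1.support (CohB1.tensorMod (CohDevH8.quotJ J (cokernel t)) N) := by
      rw [h1]
      exact ⟨hxR, mem_support_of_isInvertible hNinv x⟩
    exact h2
  have hP'inv : PicF.IsInvertible ((tR N).obj (CohB1.tensorPow L m)) :=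
    TensH8.isInvertible_tensorMod hPinv hNinv
  obtain ⟨τ, hτ⟩ := exists_genAt_of_surjective hP'inv π hx hRNk hxRN hsurj
  obtain ⟨e⟩ := TensPowH9.tensorPow_add L m j
  exact ⟨m + j, by omega, τ ≫ e.inv, CurveLin.GenAt.of_iso e.symm hτ⟩

end Main

end Snap9
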