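import Mathlib
import Groth.Prelude
import Groth.Agent.Lib.Snap28_helper9
import Groth.Agent.Lib.TensPowApi_helper9
import Groth.Agent.Lib.P1Iso6_helper9

/-!
# Nakai–Moishezon, VII: a power of `L` is generated by finitely many global sections (helper9).
APPEND-ONLY once landed.
-/

set_option autoImplicit false
universe u
open CategoryTheory CategoryTheory.Limits AlgebraicGeometry Opposite TopologicalSpace TensorProduct

namespace Snap9

open Groth.Agent.TensInv Groth.Agent.Lib.GVanH2 Groth.Agent.ProjFin QcqsLoc QCohExtn GenLocH8 TensH8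
  SerreCrit FLFH8

section Formal

variable {X : Scheme.{u}}

/-- transporting a section of `L^q` to a section of `L^Q` for a multiple `Q` of `q`, preserving
generation -/
theorem exists_pow_section (L : X.Modules) (q c Q : ℕ) (h : Q = q * c)
    (τ : Coh.structureModule X ⟶ CohB1.tensorPow L q) :
    ∃ σ : Coh.structureModule X ⟶ CohB1.tensorPow L Q,
      ∀ x, CurveLin.GenAt (CohB1.tensorPow L q) τ x → CurveLin.GenAt (CohB1.tensorPow L Q) σ x := by
  subst h
  obtain ⟨e⟩ := TensPowH9.tensorPow_mul L q c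
  exact ⟨CurveLin.powSec τ c ≫ e.hom, fun x hx => (CurveLin.genAt_powSec τ hx c).of_iso e⟩

/-- finitely many sections of powers, generating on an open cover, give a generating family of
sections of one power -/
theorem exists_generating_family [CompactSpace X] [Nonempty X] (L : X.Modules)
    (h : ∀ x : X, ∃ (q : ℕ) (_ : 0 < q) (τ : Coh.structureModule X ⟶ CohB1.tensorPow L q),
      CurveLin.GenAt (CohB1.tensorPow L q) τ x) :
    ∃ (Q : ℕ) (_ : 0 < Q) (n : ℕ) (b : Fin (n + 1) → (Coh.structureModule X ⟶ CohB1.tensorPow L Q)),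
      ∀ x, ∃ i, CurveLin.GenAt (CohB1.tensorPow L Q) (b i) x := by
  choose q hq τ hτ using h
  choose V hxV hV using hτ
  obtain ⟨s, hs⟩ := isCompact_univ.elim_finite_subcover (fun x => (V x : Set X))
    (fun x => (V x).isOpen) (fun y _ => Set.mem_iUnion.mpr ⟨y, hxV y⟩)
  set Q := ∏ x ∈ s, q x with hQ
  have hQpos : 0 < Q := Finset.prod_pos (fun x _ => hq x)
  have hσ : ∀ x : s, ∃ σ : Coh.structureModule X ⟶ CohB1.tensorPow L Q,
      ∀ y, CurveLin.GenAt (CohB1.tensorPow L (q x)) (τ x) y →
        CurveLin.GenAt (CohB1.tensorPow L Q) σ y := by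
    intro x
    have hdvd : q x ∣ Q := Finset.dvd_prod_of_mem q x.2
    exact exists_pow_section L (q x) (Q / q x) Q (Nat.mul_div_cancel' hdvd).symm (τ x)
  choose σ hσ' using hσ
  have hne : s.Nonempty := by
    obtain ⟨x₀⟩ : Nonempty X := inferInstance
    have h1 := hs (Set.mem_univ x₀)
    simp only [Set.mem_iUnion] at h1
    obtain ⟨x, hx, -⟩ := h1
    exact ⟨x, hx⟩
  have hcard : s.card = (s.card - 1) + 1 := by
    have := hne.card_pos
    omega
  let e : s ≃ Fin ((s.card - 1) + 1) := s.equivFin.trans (finCongr hcard)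
  refine ⟨Q, hQpos, s.card - 1, fun i => σ (e.symm i), fun y => ?_⟩
  have h1 := hs (Set.mem_univ y)
  simp only [Set.mem_iUnion] at h1
  obtain ⟨x, hx, hyx⟩ := h1
  refine ⟨e ⟨x, hx⟩, ?_⟩
  show CurveLin.GenAt (CohB1.tensorPow L Q) (σ (e.symm (e ⟨x, hx⟩))) y
  rw [Equiv.symm_apply_apply]
  exact hσ' ⟨x, hx⟩ y ⟨V x, hyx, hV x⟩

end Formal

section Main

variable (k : Type u) [Field k] (X : Scheme.{u}) [X.Over (Spec (CommRingCat.of k))]
  [IsProper (X ↘ Spec (CommRingCat.of k))]

include k in
/-- **a power of `L` is generated by finitely many global sections** -/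
theorem exists_power_generated [IsIntegral X] {L : X.Modules} (hL : PicF.IsInvertible L)
    (hV : VanProper X L) (m : ℕ) (hm : 0 < m)
    (t : Coh.structureModule X ⟶ CohB1.tensorPow L m) (ht : t ≠ 0) :
    ∃ (Q : ℕ) (_ : 0 < Q) (n : ℕ) (b : Fin (n + 1) → (Coh.structureModule X ⟶ CohB1.tensorPow L Q)),
      ∀ x, ∃ i, CurveLin.GenAt (CohB1.tensorPow L Q) (b i) x := by
  haveI : CompactSpace X :=
    QuasiCompact.compactSpace_of_compactSpace (X ↘ Spec (CommRingCat.of k))
  apply exists_generating_family L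
  intro x
  obtain ⟨y, hy, hycl⟩ := IsClosed.exists_closed_singleton (isClosed_closure (s := ({x} : Set X)))
    ⟨x, subset_closure rfl⟩
  obtain ⟨q, hq, τ, W, hyW, hW⟩ := exists_genAt_closed k X hL hV m hm t ht hycl
  refine ⟨q, hq, τ, W, ?_, hW⟩
  obtain ⟨z, hzW, hz⟩ := mem_closure_iff.mp hy W W.isOpen hyW
  rw [Set.mem_singleton_iff.mp hz] at hzW
  exact hzW

end Main

end Snap9
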