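import Mathlib
import Groth.Prelude
import Groth.Agent.Lib.Snap29_helper9
import Groth.Agent.Lib.Snap22_helper9
import Groth.Agent.Lib.Snap20_helper9
import Groth.Agent.Lib.NegPow_helper5
import Groth.Agent.Lib.WeilCohG3_helper9
import Groth.Agent.S3572
import Groth.Agent.S2327

/-!
# Nakai–Moishezon, VIII: positivity forbids contracted subvarieties; a generated power with the
positivity hypothesis is ample (helper9).
APPEND-ONLY once landed.
-/

set_option autoImplicit false
universe u
open CategoryTheory CategoryTheory.Limits AlgebraicGeometry Opposite TopologicalSpace TensorProduct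

namespace Snap9

open Groth.Agent.TensInv Groth.Agent.Lib.GVanH2 Groth.Agent.ProjFin QcqsLoc QCohExtn GenLocH8 TensH8
  SerreCrit FLFH8

section Top

variable {X : Scheme.{u}}

/-- a point whose closure has dimension `≤ 0` is closed -/
theorem isClosed_singleton_of_dim_closure_le_zero (ξ : X)
    (h : topologicalKrullDim ↥(closure ({ξ} : Set X)) ≤ 0) : IsClosed ({ξ} : Set X) := by
  by_contra hcl
  have hne : closure ({ξ} : Set X) ≠ {ξ} := fun h => hcl (h ▸ isClosed_closure)
  obtain ⟨η, hη, hηξ⟩ : ∃ η ∈ closure ({ξ} : Set X), η ≠ ξ := by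
    by_contra hcon
    push Not at hcon
    apply hne
    apply Set.Subset.antisymm
    · intro η hη
      exact hcon η hη
    · exact subset_closure
  set Z : Closeds X := ⟨closure ({ξ} : Set X), isClosed_closure⟩ with hZ
  set Z' : Closeds X := ⟨closure ({η} : Set X), isClosed_closure⟩ with hZ'
  have hle : Z' ≤ Z := closure_minimal (Set.singleton_subset_iff.mpr hη) isClosed_closure
  have hlt : Z' < Z := by
    refine lt_of_le_of_ne hle ?_
    intro heq
    apply hηξ
    have h1 : ξ ∈ (Z' : Set X) := by
      rw [heq]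
      exact subset_closure rfl
    have h2 : η ⤳ ξ := specializes_iff_mem_closure.mpr h1
    have h3 : ξ ⤳ η := specializes_iff_mem_closure.mpr hη
    exact (h2.antisymm h3).eq
  have hirr : IsIrreducible (Z : Set X) := isIrreducible_singleton.closure
  have hdim : dimC (X := X.toTopCat) Z < ((0 + 1 : ℕ) : WithBot ℕ∞) := by
    rw [dimC_eq]
    refine lt_of_le_of_lt h ?_
    norm_num
  have h1 := dimC_lt_of_lt hirr hlt 0 hdim
  have h2 := eq_bot_of_dimC_lt_zero h1
  have h3 : η ∈ (Z' : Set X) := subset_closure rfl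
  rw [h2] at h3
  exact h3

/-- a proper morphism with finite fibres over closed points is finite -/
theorem isFinite_of_finite_closed_fibres {Y : Scheme.{u}} (f : X ⟶ Y) [IsProper f]
    [CompactSpace X]
    (h : ∀ y : Y, IsClosed ({y} : Set Y) → (f ⁻¹' {y}).Finite) : IsFinite f := by
  suffices LocallyQuasiFinite f from .of_isProper_of_locallyQuasiFinite _
  rw [← Scheme.Hom.quasiFiniteLocus_eq_top_iff]
  by_contra hne
  have hcl : IsClosed ((f.quasiFiniteLocus : Set X)ᶜ) := f.quasiFiniteLocus.isOpen.isClosed_compl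
  have hne' : ((f.quasiFiniteLocus : Set X)ᶜ).Nonempty := by
    by_contra hcon
    apply hne
    rw [Set.not_nonempty_iff_eq_empty, Set.compl_empty_iff] at hcon
    exact SetLike.coe_injective hcon
  obtain ⟨x, hx, hxcl⟩ := IsClosed.exists_closed_singleton hcl hne'
  have hy : IsClosed ({f x} : Set Y) := by
    have := f.isClosedMap _ hxcl
    rwa [Set.image_singleton] at this
  have hfin := h (f x) hy
  apply hx
  have : Finite (f.fiber (f x)) := (f.fiberHomeo (f x)).finite_iff.mpr hfin
  exact Scheme.Hom.quasiFiniteAt_iff_isOpen_singleton_asFiber.mpr (isOpen_discrete _)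

end Top

section Contract

variable (k : Type u) [Field k] (X : Scheme.{u}) [X.Over (Spec (CommRingCat.of k))]
  [IsProper (X ↘ Spec (CommRingCat.of k))]

/-- **positivity forbids contracted subvarieties**: under the Nakai–Moishezon positivity
hypothesis, a closed subset on whose reduced subscheme a positive power of `M` is trivial has
dimension `≤ 0` -/
theorem dim_le_zero_of_trivial {M : X.Modules} (hM : PicF.IsInvertible M) (hpos : NMPos k X M)
    (Q : ℕ) (hQ : 0 < Q) (Z : Set X) (hZ : IsClosed Z)
    (e : (Scheme.Modules.pullback (Scheme.IdealSheafData.vanishingIdeal ⟨Z, hZ⟩).subschemeι).obj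
      (CohB1.tensorPow M Q) ≅
        Coh.structureModule (Scheme.IdealSheafData.vanishingIdeal ⟨Z, hZ⟩).subscheme) :
    topologicalKrullDim ↥Z ≤ 0 := by
  haveI : IsLocallyNoetherian X :=
    LocallyOfFiniteType.isLocallyNoetherian (X ↘ Spec (CommRingCat.of k))
  haveI : CompactSpace X :=
    QuasiCompact.compactSpace_of_compactSpace (X ↘ Spec (CommRingCat.of k))
  set I := Scheme.IdealSheafData.vanishingIdeal ⟨Z, hZ⟩ with hI
  set j := I.subschemeι with hj
  letI : I.subscheme.Over (Spec (CommRingCat.of k)) := ⟨j ≫ (X ↘ Spec (CommRingCat.of k))⟩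
  haveI : IsProper (I.subscheme ↘ Spec (CommRingCat.of k)) :=
    inferInstanceAs (IsProper (j ≫ (X ↘ Spec (CommRingCat.of k))))
  have hjk : j ≫ (X ↘ Spec (CommRingCat.of k)) = I.subscheme ↘ Spec (CommRingCat.of k) := rfl
  haveI : IsLocallyNoetherian I.subscheme :=
    LocallyOfFiniteType.isLocallyNoetherian (I.subscheme ↘ Spec (CommRingCat.of k))
  set F := (Scheme.Modules.pushforward j).obj (Coh.structureModule I.subscheme) with hF
  have hOc := CohDevH8.isCoh_structureModule I.subscheme
  have hFc : Coh.IsCoh F := CohDevH8.isCoh_pushforward_of_isFinite j hOc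
  have hsupp : CohB1.support F = Z := by
    rw [hF, support_pushforward_eq j, CohDevH8.support_structureModule, Set.image_univ,
      Scheme.IdealSheafData.range_subschemeι, Scheme.IdealSheafData.coe_support_vanishingIdeal]
    rfl
  by_contra hdim
  have hfin : topologicalKrullDim ↥Z < ⊤ :=
    lt_of_le_of_lt (topologicalKrullDim_subspace_le X Z)
      (Groth.Agent.WCF9.topDim_lt_top X (X ↘ Spec (CommRingCat.of k)))
  obtain ⟨d, hd, hdZ⟩ : ∃ d : ℕ, 0 < d ∧ topologicalKrullDim ↥Z = (d : WithBot ℕ∞) := by
    have h1 : topologicalKrullDim ↥Z ≠ ⊥ := fun h => hdim (h ▸ bot_le)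
    obtain ⟨a, ha⟩ := WithBot.ne_bot_iff_exists.mp h1
    have h2 : a ≠ ⊤ := by
      rintro rfl
      rw [← ha] at hfin
      exact lt_irrefl _ hfin
    obtain ⟨d, rfl⟩ := ENat.ne_top_iff_exists.mp h2
    refine ⟨d, ?_, ha.symm⟩
    by_contra h0
    have h3 : d = 0 := by omega
    subst h3
    apply hdim
    rw [← ha]
    rfl
  obtain ⟨d', rfl⟩ : ∃ d', d = d' + 1 := ⟨d - 1, by omega⟩
  have h1 := hpos F hFc (d' + 1) hd (by rw [hsupp]; exact hdZ)
  rw [List.replicate_succ] at h1
  have hl : ∀ N ∈ List.replicate d' M, PicF.IsInvertible N := fun N hN => by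
    rw [List.eq_of_mem_replicate hN]
    exact hM
  have hdim' : topologicalKrullDim ↥(CohB1.support F) ≤
      (((List.replicate d' M).length + 1 : ℕ) : WithBot ℕ∞) := by
    rw [hsupp, hdZ, List.length_replicate]
  have h2 := altSum_tensorPow_cons k X (List.replicate d' M) hl hM Q F hFc hdim'
  have hl' : ∀ N ∈ CohB1.tensorPow M Q :: List.replicate d' M, PicF.IsInvertible N := by
    intro N hN
    rcases List.mem_cons.mp hN with h | h
    · rw [h]
      exact isInvertible_tensorPow hM Q
    · exact hl N h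
  have h3 := altSum_pullback k j hjk (CohB1.tensorPow M Q :: List.replicate d' M) hl'
    (Coh.structureModule I.subscheme) hOc.1
  rw [List.map_cons, altSum_cons] at h3
  have e' : CohB1.tensorMod (Coh.structureModule I.subscheme)
      ((Scheme.Modules.pullback j).obj (CohB1.tensorPow M Q)) ≅ Coh.structureModule I.subscheme :=
    mapL _ e ≪≫ rightUnit _
  rw [altSum_of_iso k I.subscheme _ e', sub_self] at h3
  have h4 : (0 : ℤ) < (Q : ℤ) * altSum k X (M :: List.replicate d' M) F :=
    mul_pos (by exact_mod_cast hQ) h1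
  rw [← h2, ← h3] at h4
  exact lt_irrefl _ h4

/-- **the morphism defined by a generated power is finite** under the positivity hypothesis -/
theorem isFinite_of_nmPos {n : ℕ} {L M : X.Modules} (hL : PicF.IsInvertible L)
    (ε : CohB1.tensorMod L M ≅ Coh.structureModule X) (hpos : NMPos k X M) (Q : ℕ) (hQ : 0 < Q)
    (r : X ⟶ CohB1.ProjSpace n k)
    (hr : r ≫ CohB1.ProjSpace.toSpec n k = X ↘ Spec (CommRingCat.of k))
    (τ : (Scheme.Modules.pullback r).obj (Twist.twistProjSpace n k 1) ≅ CohB1.tensorPow L Q) :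
    IsFinite r := by
  haveI : IsLocallyNoetherian X :=
    LocallyOfFiniteType.isLocallyNoetherian (X ↘ Spec (CommRingCat.of k))
  haveI : CompactSpace X :=
    QuasiCompact.compactSpace_of_compactSpace (X ↘ Spec (CommRingCat.of k))
  have hM : PicF.IsInvertible M := InvTensH8.isInvertible_of_tensor_iso (comm M L ≪≫ ε)
  haveI : IsProper (CohB1.ProjSpace.toSpec n k) :=
    Groth.Agent.Lib.ProjSpaceProperH4.isProper_toSpec n k
  haveI : IsProper (r ≫ CohB1.ProjSpace.toSpec n k) := by rw [hr]; infer_instance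
  haveI : IsProper r := IsProper.of_comp r (CohB1.ProjSpace.toSpec n k)
  apply isFinite_of_finite_closed_fibres r
  intro y hy
  have hcl : IsClosed (r ⁻¹' {y}) := hy.preimage r.continuous
  refine TensBasis.finite_of_closed_points _ hcl (fun ξ hξ => ?_)
  apply isClosed_singleton_of_dim_closure_le_zero
  have hZ : IsClosed (closure ({ξ} : Set X)) := isClosed_closure
  have hZT : closure ({ξ} : Set X) ⊆ r ⁻¹' {y} :=
    closure_minimal (Set.singleton_subset_iff.mpr hξ) hcl
  set I := Scheme.IdealSheafData.vanishingIdeal ⟨closure ({ξ} : Set X), hZ⟩ with hI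
  set j := I.subschemeι with hj
  obtain ⟨U, hyU, ⟨e⟩⟩ := isInvertible_twist k n 1 y
  have hrange : Set.range (j ≫ r) ⊆ (U : Set (CohB1.ProjSpace n k)) := by
    rintro _ ⟨w, rfl⟩
    have h1 : j w ∈ closure ({ξ} : Set X) := by
      have h0 : j w ∈ Set.range j := ⟨w, rfl⟩
      have h00 : Set.range j = closure ({ξ} : Set X) := by
        rw [hj, Scheme.IdealSheafData.range_subschemeι, hI,
          Scheme.IdealSheafData.coe_support_vanishingIdeal]
        rfl
      rw [h00] at h0
      exact h0
    have h2 : r (j w) = y := hZT h1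
    rw [Scheme.Hom.comp_apply, h2]
    exact hyU
  obtain ⟨a⟩ := nonempty_pullback_iso_unit (j ≫ r) (Twist.twistProjSpace n k 1) U hrange e
  have hLQ := isInvertible_tensorPow hL Q
  have hMQ := isInvertible_tensorPow hM Q
  have eL : (Scheme.Modules.pullback j).obj (CohB1.tensorPow L Q) ≅
      Coh.structureModule I.subscheme :=
    (Scheme.Modules.pullback j).mapIso τ.symm ≪≫
      (Scheme.Modules.pullbackComp j r).app _ ≪≫ a
  obtain ⟨εQ⟩ := Groth.Agent.NegPow.tensorPow_inverse ε Q
  have eM : (Scheme.Modules.pullback j).obj (CohB1.tensorPow M Q) ≅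
      Coh.structureModule I.subscheme :=
    (rightUnit _).symm ≪≫ mapL _ eL.symm ≪≫ comm _ _ ≪≫
      (PullTensH9.pullTensIso j hLQ hMQ).symm ≪≫
      (Scheme.Modules.pullback j).mapIso εQ ≪≫ PBH8.pullbackUnitIso j
  exact dim_le_zero_of_trivial k X hM hpos Q hQ _ hZ eM

/-- **a generated power with the positivity hypothesis is ample** -/
theorem isAmple_of_generated_power {L M : X.Modules} (hL : PicF.IsInvertible L)
    (ε : CohB1.tensorMod L M ≅ Coh.structureModule X) (hpos : NMPos k X M) (Q : ℕ) (hQ : 0 < Q)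
    (n : ℕ) (b : Fin (n + 1) → (Coh.structureModule X ⟶ CohB1.tensorPow L Q))
    (hb : ∀ x, ∃ i, CurveLin.GenAt (CohB1.tensorPow L Q) (b i) x) : CohB1.IsAmple L := by
  haveI : CompactSpace X :=
    QuasiCompact.compactSpace_of_compactSpace (X ↘ Spec (CommRingCat.of k))
  haveI : X.IsSeparated := by
    have e : terminal.from X =
        (X ↘ Spec (CommRingCat.of k)) ≫ terminal.from (Spec (CommRingCat.of k)) :=
      terminal.hom_ext _ _
    refine ⟨?_⟩
    rw [e]
    infer_instance
  have hLQ := isInvertible_tensorPow hL Q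
  have hs := P1Iso.generatedBy_of_genAt b hb
  obtain ⟨r, hr, τ, -⟩ := Groth.Agent.S3572.result n (X ↘ Spec (CommRingCat.of k))
    (CohB1.tensorPow L Q) hLQ _ hs
  haveI : IsFinite r := isFinite_of_nmPos k X hL ε hpos Q hQ r hr τ
  have h1 : CohB1.IsAmple ((Scheme.Modules.pullback r).obj (Twist.twistProjSpace n k 1)) :=
    TensH8.isAmple_pullback_of_isAffineHom r (isAmple_twist_one_projSpace k n)
  have h2 : CohB1.IsAmple (CohB1.tensorPow L Q) := (TensH8.isAmple_congr τ).mp h1
  exact (Groth.Agent.S2327.result X L hL Q hQ).mpr h2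

end Contract

end Snap9
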