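import Mathlib
import Groth.Prelude
import Groth.Agent.Lib.Snap30_helper9
import Groth.Agent.Lib.DegPull5_helper9

/-!
# Nakai–Moishezon, IX: the induction on the dimension (helper9).
APPEND-ONLY once landed.
-/

set_option autoImplicit false
universe u
open CategoryTheory CategoryTheory.Limits AlgebraicGeometry Opposite TopologicalSpace TensorProduct

namespace Snap9

open Groth.Agent.TensInv Groth.Agent.Lib.GVanH2 Groth.Agent.ProjFin QcqsLoc QCohExtn GenLocH8 TensH8
  SerreCrit FLFH8

section Assembly

variable (k : Type u) [Field k]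

/-- the conclusion of the Nakai–Moishezon criterion in dimension `≤ n` -/
def NMConcl (n : ℕ) : Prop :=
  ∀ (X : Scheme.{u}) [X.Over (Spec (CommRingCat.of k))]
    [IsProper (X ↘ Spec (CommRingCat.of k))],
    topologicalKrullDim X ≤ (n : WithBot ℕ∞) → ∀ (L M : X.Modules), PicF.IsInvertible L →
      (CohB1.tensorMod L M ≅ Coh.structureModule X) → NMPos k X M → CohB1.IsAmple L

variable (X : Scheme.{u}) [X.Over (Spec (CommRingCat.of k))]
  [IsProper (X ↘ Spec (CommRingCat.of k))]

/-- the conclusion in dimension `≤ n` gives ampleness on the closed subsets of dimension `≤ n` -/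
theorem ampleOn_of_nmConcl (n : ℕ) (IH : NMConcl k n) {L M : X.Modules}
    (hL : PicF.IsInvertible L) (ε : CohB1.tensorMod L M ≅ Coh.structureModule X)
    (hpos : NMPos k X M) (T : Set X)
    (hT : ∀ Z : Set X, IsClosed Z → IsIrreducible Z → Z ⊆ T →
      topologicalKrullDim ↥Z ≤ (n : WithBot ℕ∞)) : AmpleOn X L T := by
  intro Z hZ hirr hZT
  have hM : PicF.IsInvertible M := InvTensH8.isInvertible_of_tensor_iso (comm M L ≪≫ ε)
  set I := Scheme.IdealSheafData.vanishingIdeal ⟨Z, hZ⟩ with hI
  set j := I.subschemeι with hj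
  letI : I.subscheme.Over (Spec (CommRingCat.of k)) := ⟨j ≫ (X ↘ Spec (CommRingCat.of k))⟩
  haveI : IsProper (I.subscheme ↘ Spec (CommRingCat.of k)) :=
    inferInstanceAs (IsProper (j ≫ (X ↘ Spec (CommRingCat.of k))))
  have hjk : j ≫ (X ↘ Spec (CommRingCat.of k)) = I.subscheme ↘ Spec (CommRingCat.of k) := rfl
  have hdim : topologicalKrullDim I.subscheme ≤ (n : WithBot ℕ∞) := by
    apply DegPull.dim_subscheme_le X I
    rw [hI, Scheme.IdealSheafData.coe_support_vanishingIdeal]
    exact hT Z hZ hirr hZT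
  exact IH I.subscheme hdim _ _ (isInvertible_pullback j hL)
    ((PullTensH9.pullTensIso j hL hM).symm ≪≫ (Scheme.Modules.pullback j).mapIso ε ≪≫
      PBH8.pullbackUnitIso j)
    (nmPos_pullback k j hjk hM hpos)

/-- **the inductive step** on an integral scheme -/
theorem isAmple_step (n : ℕ) (IH : NMConcl k n) [IsIntegral X]
    (hdim : topologicalKrullDim X ≤ ((n + 1 : ℕ) : WithBot ℕ∞)) {L M : X.Modules}
    (hL : PicF.IsInvertible L) (ε : CohB1.tensorMod L M ≅ Coh.structureModule X)
    (hpos : NMPos k X M) : CohB1.IsAmple L := by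
  by_cases hle : topologicalKrullDim X ≤ (n : WithBot ℕ∞)
  · exact IH X hle L M hL ε hpos
  have hdimeq : topologicalKrullDim X = ((n + 1 : ℕ) : WithBot ℕ∞) := by
    apply le_antisymm hdim
    by_contra hcon
    exact hle ((withBot_lt_succ_iff _ n).mp (not_le.mp hcon))
  have hV : VanProper X L := by
    intro F hF hne
    haveI := hF.2
    have hcl : IsClosed (CohB1.support F) := SuppFT.isClosed_support F
    apply evVan_of_ampleOn k X hL (T := CohB1.support F) ?_ F hF subset_rfl
    apply ampleOn_of_nmConcl k X n IH hL ε hpos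
    intro Z hZ hirr hZF
    have hlt : (⟨Z, hZ⟩ : Closeds X) < ⊤ := by
      refine lt_of_le_of_ne le_top ?_
      intro heq
      apply hne
      apply Set.eq_univ_of_univ_subset
      have h0 : Z = Set.univ := congrArg (fun C : Closeds X => (C : Set X)) heq
      rw [← h0]
      exact hZF
    have h1 : dimC (X := X.toTopCat) (⊤ : Closeds X) < ((n + 1 + 1 : ℕ) : WithBot ℕ∞) := by
      refine lt_of_le_of_lt (dimC_top_le (X := X.toTopCat)) ?_
      show topologicalKrullDim ↥X < _
      rw [hdimeq]
      exact_mod_cast Nat.lt_succ_self (n + 1)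
    have hirrX : IsIrreducible (((⊤ : Closeds X) : Set X)) := by
      rw [Closeds.coe_top]
      exact IrreducibleSpace.isIrreducible_univ X
    have h2 := dimC_lt_of_lt (X := X.toTopCat) hirrX hlt (n + 1) h1
    rw [withBot_lt_succ_iff, dimC_eq] at h2
    exact h2
  obtain ⟨m, hm, hnt⟩ := exists_section k X (n + 1) (Nat.succ_pos n) hdimeq hL ε hV hpos 1
  obtain ⟨t, ht⟩ := Groth.Agent.NegPow.exists_hom_ne_zero _ hnt
  obtain ⟨Q, hQ, n', b, hb⟩ := exists_power_generated k X hL hV m (by omega) t ht
  exact isAmple_of_generated_power k X hL ε hpos Q hQ n' b hb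

end Assembly

section Main

variable (k : Type u) [Field k]

/-- the Nakai–Moishezon criterion in all dimensions -/
theorem nmConcl : ∀ n : ℕ, NMConcl k n := by
  intro n
  induction n with
  | zero =>
    intro X _ _ hdim L M hL ε hpos
    exact isAmple_of_dim_zero k X hL (by simpa using hdim)
  | succ n IH =>
    intro X _ _ hdim L M hL ε hpos
    have hM : PicF.IsInvertible M := InvTensH8.isInvertible_of_tensor_iso (comm M L ≪≫ ε)
    apply isAmple_of_ampleOn_univ k X hL
    intro Z hZ hirr _
    obtain ⟨ξ, hξ⟩ := QuasiSober.sober hirr hZ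
    obtain ⟨hint, -⟩ := CohDevH8.exists_isIntegral_subscheme Z hZ ξ hξ.def
    haveI := hint
    set I := Scheme.IdealSheafData.vanishingIdeal ⟨Z, hZ⟩ with hI
    set j := I.subschemeι with hj
    letI : I.subscheme.Over (Spec (CommRingCat.of k)) := ⟨j ≫ (X ↘ Spec (CommRingCat.of k))⟩
    haveI : IsProper (I.subscheme ↘ Spec (CommRingCat.of k)) :=
      inferInstanceAs (IsProper (j ≫ (X ↘ Spec (CommRingCat.of k))))
    have hjk : j ≫ (X ↘ Spec (CommRingCat.of k)) = I.subscheme ↘ Spec (CommRingCat.of k) := rfl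
    have hdimW : topologicalKrullDim I.subscheme ≤ ((n + 1 : ℕ) : WithBot ℕ∞) :=
      DegPull.dim_subscheme_le X I ((topologicalKrullDim_subspace_le X _).trans hdim)
    exact isAmple_step k I.subscheme n IH hdimW (isInvertible_pullback j hL)
      ((PullTensH9.pullTensIso j hL hM).symm ≪≫ (Scheme.Modules.pullback j).mapIso ε ≪≫
        PBH8.pullbackUnitIso j)
      (nmPos_pullback k j hjk hM hpos)

variable (X : Scheme.{u}) [X.Over (Spec (CommRingCat.of k))]
  [IsProper (X ↘ Spec (CommRingCat.of k))]

/-- **Nakai–Moishezon**: positivity of all the self-intersection numbers implies ampleness -/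
theorem isAmple_of_nmPos {L M : X.Modules} (hL : PicF.IsInvertible L)
    (ε : CohB1.tensorMod L M ≅ Coh.structureModule X) (hpos : NMPos k X M) :
    CohB1.IsAmple L := by
  haveI : CompactSpace X :=
    QuasiCompact.compactSpace_of_compactSpace (X ↘ Spec (CommRingCat.of k))
  have hfin : topologicalKrullDim X < ⊤ :=
    Groth.Agent.WCF9.topDim_lt_top X (X ↘ Spec (CommRingCat.of k))
  obtain ⟨n, hn⟩ : ∃ n : ℕ, topologicalKrullDim X ≤ (n : WithBot ℕ∞) := by
    induction hD : topologicalKrullDim X using WithBot.recBotCoe with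
    | bot => exact ⟨0, bot_le⟩
    | coe a =>
      have h2 : a ≠ ⊤ := by
        rintro rfl
        rw [hD] at hfin
        exact lt_irrefl _ hfin
      obtain ⟨d, rfl⟩ := ENat.ne_top_iff_exists.mp h2
      exact ⟨d, le_rfl⟩
  exact nmConcl k n X hn L M hL ε hpos

end Main

end Snap9
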