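import Mathlib
import Groth.Prelude
import Groth.Agent.Lib.Snap31_helper9

/-!
# Nakai–Moishezon, X: the statements S7749 and S11371 (helper9).
APPEND-ONLY once landed.
-/

set_option autoImplicit false
universe u
open CategoryTheory CategoryTheory.Limits AlgebraicGeometry Opposite TopologicalSpace TensorProduct

namespace Snap9

open Groth.Agent.TensInv Groth.Agent.Lib.GVanH2 Groth.Agent.ProjFin QcqsLoc QCohExtn GenLocH8 TensH8
  SerreCrit FLFH8

section Conv

variable (k : Type u) [Field k] (X : Scheme.{u}) [X.Over (Spec (CommRingCat.of k))]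
  [IsProper (X ↘ Spec (CommRingCat.of k))]

/-- the coefficient of `x_1 ⋯ x_d` of the Snapper polynomial of `(L, …, L)` on a coherent module
`F` is the intersection number `(L^d · F)` computed with the inverse `M` -/
theorem coeff_eq_altSum_inv (F : X.Modules) (hF : Coh.IsCoh F) (d : ℕ)
    (hdim : topologicalKrullDim (CohB1.support F) ≤ d) {L M : X.Modules}
    (hL : PicF.IsInvertible L) (ε : CohB1.tensorMod L M ≅ Coh.structureModule X)
    (P : MvPolynomial (Fin d) ℚ)
    (hP : ∀ n : Fin d → ℕ, (Curv2.euler k X (Curv2.tensorPows F d (fun _ => L) n) : ℚ) =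
        MvPolynomial.eval (fun i => (n i : ℚ)) P) :
    MvPolynomial.coeff (Finsupp.equivFunOnFinite.symm fun _ : Fin d => 1) P =
      (altSum k X (List.replicate d M) F : ℚ) := by
  have hM : PicF.IsInvertible M := InvTensH8.isInvertible_of_tensor_iso (comm M L ≪≫ ε)
  obtain ⟨P', hP'd, hP'e⟩ := main1528 k X F hF d hdim d (fun _ => L) (fun _ => hL)
  have hPP' : P = P' := eq_of_eval_nat_eq P P' (fun n => by rw [← hP n, hP'e n])
  have hPd : P.totalDegree ≤ d := hPP' ▸ hP'd
  rw [coeff_eq_altSum k X F d (fun _ => L) P hPd hP, List.ofFn_const]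
  have h := altSum_replicate_flip k X hL hM ε F hF d 0 (by simpa using hdim)
  rw [List.replicate_zero, List.append_nil, Nat.add_zero] at h
  rw [h]
  push_cast
  rw [← mul_assoc, ← mul_pow]
  simp

/-- positivity on the integral closed subschemes gives the positivity hypothesis -/
theorem nmPos_of_points {M : X.Modules} (hM : PicF.IsInvertible M)
    (H : ∀ (ξ : X) (d : ℕ), 0 < d →
      topologicalKrullDim (closure ({ξ} : Set X)) = (d : WithBot ℕ∞) →
        0 < altSum k X (List.replicate d M) (Cyc.closureStructureSheaf ξ)) : NMPos k X M := by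
  intro F hF d hd hr
  haveI := hF.2
  have hcl : IsClosed (CohB1.support F) := SuppFT.isClosed_support F
  have hdC : dimC (X := X.toTopCat) ⟨CohB1.support F, hcl⟩ = (d : WithBot ℕ∞) :=
    (dimC_eq _).trans hr
  obtain ⟨ξ, hξF, hξge⟩ := exists_point_of_le_dimC (r := d) hdC.ge
  have hsub : closure ({ξ} : Set X) ⊆ CohB1.support F :=
    closure_minimal (Set.singleton_subset_iff.mpr hξF) hcl
  have hξle : dimC (X := X.toTopCat) ⟨closure ({ξ} : Set X), isClosed_closure⟩ ≤
      (d : WithBot ℕ∞) :=
    (dimC_mono (X := X.toTopCat) (Z := ⟨closure ({ξ} : Set X), isClosed_closure⟩)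
      (Z' := ⟨CohB1.support F, hcl⟩) hsub).trans hdC.le
  have hξdim : topologicalKrullDim (closure ({ξ} : Set X)) = (d : WithBot ℕ∞) :=
    (dimC_eq ⟨closure ({ξ} : Set X), isClosed_closure⟩).symm.trans (le_antisymm hξle hξge)
  have hl : ∀ N ∈ List.replicate d M, PicF.IsInvertible N := fun N hN => by
    rw [List.eq_of_mem_replicate hN]
    exact hM
  refine (altSum_nonneg_pos_of_css k X (List.replicate d M) hl (fun η hη => ?_) F hF ?_).2
    ⟨ξ, hξF, ?_⟩
  · rw [List.length_replicate] at hη
    exact H η d hd hη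
  · rw [List.length_replicate]
    exact hr.le
  · rw [List.length_replicate]
    exact hξdim

/-- the inverse of an ample module satisfies the positivity hypothesis -/
theorem nmPos_of_isAmple {L M : X.Modules} (hL : CohB1.IsAmple L)
    (ε : CohB1.tensorMod L M ≅ Coh.structureModule X) : NMPos k X M := by
  intro F hF d _ hr
  apply altSum_pos k X (List.replicate d M) _ F hF
  · rw [List.length_replicate]
    exact hr
  · intro N hN
    rw [List.eq_of_mem_replicate hN]
    exact ⟨L, hL, ⟨ε⟩⟩

include k in
/-- the structure sheaf of a closed subscheme: coherence and support -/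
theorem isCoh_quotMod (Z : X.IdealSheafData) : Coh.IsCoh (ClSub.quotMod Z) := by
  haveI : IsLocallyNoetherian X :=
    LocallyOfFiniteType.isLocallyNoetherian (X ↘ Spec (CommRingCat.of k))
  haveI : IsLocallyNoetherian Z.subscheme :=
    LocallyOfFiniteType.isLocallyNoetherian (Z.subschemeι ≫ (X ↘ Spec (CommRingCat.of k)))
  exact CohDevH8.isCoh_pushforward_of_isFinite Z.subschemeι
    (CohDevH8.isCoh_structureModule Z.subscheme)

omit [X.Over (Spec (CommRingCat.of k))] [IsProper (X ↘ Spec (CommRingCat.of k))] in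
theorem support_quotMod (Z : X.IdealSheafData) :
    CohB1.support (ClSub.quotMod Z) = (Z.support : Set X) := by
  rw [support_pushforward_eq Z.subschemeι, CohDevH8.support_structureModule, Set.image_univ,
    Scheme.IdealSheafData.range_subschemeι]

/-- **S7749**: the Nakai–Moishezon criterion -/
theorem main7749 (L : X.Modules) (hL : PicF.IsInvertible L) :
    CohB1.IsAmple L ↔
      ∀ (Z : X.IdealSheafData) [IsIntegral Z.subscheme] (d : ℕ), 0 < d →
        topologicalKrullDim (Z.support : Set X) = d →
        ∀ P : MvPolynomial (Fin d) ℚ,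
          (∀ n : Fin d → ℕ, (Curv2.euler k X
            (Curv2.tensorPows (ClSub.quotMod Z) d (fun _ => L) n) : ℚ) =
              MvPolynomial.eval (fun i => (n i : ℚ)) P) →
          0 < MvPolynomial.coeff (Finsupp.equivFunOnFinite.symm fun _ : Fin d => 1) P := by
  obtain ⟨M, hM, ⟨ε⟩⟩ := Groth.Agent.InvTensP.exists_inverse L hL
  constructor
  · intro hamp Z _ d hd hdim P hP
    have hFc := isCoh_quotMod k X Z
    have hs := support_quotMod X Z
    rw [coeff_eq_altSum_inv k X (ClSub.quotMod Z) hFc d (by rw [hs, hdim]) hL ε P hP]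
    have h1 := nmPos_of_isAmple k X hamp ε (ClSub.quotMod Z) hFc d hd (by rw [hs, hdim])
    exact_mod_cast h1
  · intro H
    apply isAmple_of_nmPos k X hL ε
    apply nmPos_of_points k X hM
    intro ξ d hd hdim
    obtain ⟨hint, -⟩ := CohDevH8.exists_isIntegral_subscheme (closure ({ξ} : Set X))
      isClosed_closure ξ rfl
    have hFc := isCoh_quotMod k X (IntMult.ptIdeal ξ)
    have hs : CohB1.support (ClSub.quotMod (IntMult.ptIdeal ξ)) = closure ({ξ} : Set X) := by
      rw [support_quotMod X]
      unfold IntMult.ptIdeal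
      rw [Scheme.IdealSheafData.coe_support_vanishingIdeal]
      rfl
    have hsd : topologicalKrullDim ((IntMult.ptIdeal ξ).support : Set X) = (d : WithBot ℕ∞) := by
      rw [← support_quotMod X, hs]
      exact hdim
    obtain ⟨P, -, hP⟩ := main1528 k X (ClSub.quotMod (IntMult.ptIdeal ξ)) hFc d
      (by rw [hs, hdim]) d (fun _ => L) (fun _ => hL)
    have h1 := @H (IntMult.ptIdeal ξ) hint d hd hsd P hP
    rw [coeff_eq_altSum_inv k X _ hFc d (by rw [hs, hdim]) hL ε P hP] at h1
    have h2 : Cyc.closureStructureSheaf ξ = ClSub.quotMod (IntMult.ptIdeal ξ) := rfl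
    rw [h2]
    exact_mod_cast h1

end Conv

end Snap9
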