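import Mathlib
import Groth.Prelude
import Groth.Agent.Lib.Snap32_helper9

/-!
# Nakai–Moishezon, XI: ampleness is a numerical property (S11371) (helper9).
APPEND-ONLY once landed.
-/

set_option autoImplicit false
universe u
open CategoryTheory CategoryTheory.Limits AlgebraicGeometry Opposite TopologicalSpace TensorProduct

namespace Snap9

open Groth.Agent.TensInv Groth.Agent.Lib.GVanH2 Groth.Agent.ProjFin QcqsLoc QCohExtn GenLocH8 TensH8
  SerreCrit FLFH8

section NumEquiv

variable (k : Type u) [Field k] (X : Scheme.{u}) [X.Over (Spec (CommRingCat.of k))]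
  [IsProper (X ↘ Spec (CommRingCat.of k))]

/-- numerical equivalence can be tested on the closures of the points with one-dimensional
closure -/
theorem numEq_of_points {A B : X.Modules} (hA : PicF.IsInvertible A) (hB : PicF.IsInvertible B)
    (H : ∀ ξ : X, topologicalKrullDim (closure ({ξ} : Set X)) = ((1 : ℕ) : WithBot ℕ∞) →
      altSum k X [A] (Cyc.closureStructureSheaf ξ) =
        altSum k X [B] (Cyc.closureStructureSheaf ξ)) : NumEq k X A B := by
  intro Y ι _ hint hdim
  haveI : IsIntegral Y := hint
  letI : Y.Over (Spec (CommRingCat.of k)) := ⟨ι ≫ (X ↘ Spec (CommRingCat.of k))⟩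
  haveI : IsProper (Y ↘ Spec (CommRingCat.of k)) :=
    inferInstanceAs (IsProper (ι ≫ (X ↘ Spec (CommRingCat.of k))))
  haveI : IsLocallyNoetherian X :=
    LocallyOfFiniteType.isLocallyNoetherian (X ↘ Spec (CommRingCat.of k))
  have hh : ι ≫ (X ↘ Spec (CommRingCat.of k)) = Y ↘ Spec (CommRingCat.of k) := rfl
  have hdimY : topologicalKrullDim Y ≤ ((1 : ℕ) : WithBot ℕ∞) := by
    rw [hdim]
    rfl
  unfold Pic13.curveDeg
  rw [← euler_eq_eulerCharLE k Y 1 hdimY, ← euler_eq_eulerCharLE k Y 1 hdimY,
    ← euler_eq_eulerCharLE k Y 1 hdimY]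
  congr 1
  have hA' := TensBasis.isFinLocFree_of_rank (FLFH8.finLocFreeOfRank_one_of_isInvertible hA)
  have hB' := TensBasis.isFinLocFree_of_rank (FLFH8.finLocFreeOfRank_one_of_isInvertible hB)
  rw [DegPull.euler_pullback_eq k ι hh A hA', DegPull.euler_pullback_eq k ι hh B hB']
  have hF : Coh.IsCoh ((Scheme.Modules.pushforward ι).obj (OO Y)) := BirCurve.isCoh_push_OO ι
  have hsupp : topologicalKrullDim
      ↥(CohB1.support ((Scheme.Modules.pushforward ι).obj (OO Y))) ≤
        ((1 : ℕ) : WithBot ℕ∞) := by
    have hsub := support_pushforward_subset_range ι ι.isClosedMap.isClosed_range (OO Y)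
    have h1 := (Topology.IsEmbedding.inclusion hsub).isInducing.topologicalKrullDim_le
    refine h1.trans ?_
    exact dim_range_le_one hdim.le ι ι.isClosedMap
  have key : altSum k X [A] ((Scheme.Modules.pushforward ι).obj (OO Y)) =
      altSum k X [B] ((Scheme.Modules.pushforward ι).obj (OO Y)) := by
    rw [altSum_eq_finsum_int k X [A] (by simpa using hA) _ hF (by simpa using hsupp),
      altSum_eq_finsum_int k X [B] (by simpa using hB) _ hF (by simpa using hsupp)]
    apply finsum_congr
    intro ξ
    simp only [List.length_cons, List.length_nil, zero_add]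
    split_ifs with hξ
    · rw [H ξ hξ]
    · rfl
  simp only [altSum_cons, altSum_nil] at key
  linarith

omit [IsProper (X ↘ Spec (CommRingCat.of k))] in
theorem forall₂_replicate {A B : X.Modules} (hA : PicF.IsInvertible A)
    (hB : PicF.IsInvertible B) (h : NumEq k X A B) : ∀ d : ℕ,
    List.Forall₂ (fun A B => PicF.IsInvertible A ∧ PicF.IsInvertible B ∧ NumEq k X A B)
      (List.replicate d A) (List.replicate d B) := by
  intro d
  induction d with
  | zero => exact List.Forall₂.nil
  | succ d ih =>
    rw [List.replicate_succ, List.replicate_succ]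
    exact List.Forall₂.cons ⟨hA, hB, h⟩ ih

/-- **S11371**: ampleness only depends on the numerical equivalence class -/
theorem main11371 (L L' : X.Modules) (hL : PicF.IsInvertible L) (hL' : PicF.IsInvertible L')
    (hnum : ∀ C : X.IdealSheafData, IsIntegral C.subscheme →
      topologicalKrullDim (C.support : Set X) = 1 →
        Curv2.euler k X (CohB1.tensorMod (ClSub.quotMod C) L) =
          Curv2.euler k X (CohB1.tensorMod (ClSub.quotMod C) L'))
    (hamp : CohB1.IsAmple L) : CohB1.IsAmple L' := by
  obtain ⟨M, hM, ⟨ε⟩⟩ := Groth.Agent.InvTensP.exists_inverse L hL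
  obtain ⟨M', hM', ⟨ε'⟩⟩ := Groth.Agent.InvTensP.exists_inverse L' hL'
  have hLL' : NumEq k X L L' := by
    apply numEq_of_points k X hL hL'
    intro ξ hξ
    obtain ⟨hint, -⟩ := CohDevH8.exists_isIntegral_subscheme (closure ({ξ} : Set X))
      isClosed_closure ξ rfl
    have hs : ((IntMult.ptIdeal ξ).support : Set X) = closure ({ξ} : Set X) := by
      unfold IntMult.ptIdeal
      rw [Scheme.IdealSheafData.coe_support_vanishingIdeal]
      rfl
    have h1 := hnum (IntMult.ptIdeal ξ) hint (by rw [hs, hξ]; rfl)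
    show Curv2.euler k X (ClSub.quotMod (IntMult.ptIdeal ξ)) -
        Curv2.euler k X (CohB1.tensorMod (ClSub.quotMod (IntMult.ptIdeal ξ)) L) =
      Curv2.euler k X (ClSub.quotMod (IntMult.ptIdeal ξ)) -
        Curv2.euler k X (CohB1.tensorMod (ClSub.quotMod (IntMult.ptIdeal ξ)) L')
    rw [h1]
  apply isAmple_of_nmPos k X hL' ε'
  intro F hF d hd hr
  have hpos := nmPos_of_isAmple k X hamp ε F hF d hd hr
  have h1 := altSum_replicate_flip k X hL hM ε F hF d 0 (by simpa using hr.le)
  have h2 := altSum_replicate_flip k X hL' hM' ε' F hF d 0 (by simpa using hr.le)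
  rw [List.replicate_zero, List.append_nil, Nat.add_zero] at h1 h2
  have h4 := altSum_forall₂_numEq k X (forall₂_replicate k X hL hL' hLL' d) []
    (by simp) F hF (by simpa using hr.le)
  rw [List.append_nil, List.append_nil] at h4
  rw [h1, h2] at h4
  have h5 : ((-1 : ℤ) ^ d) ≠ 0 := pow_ne_zero _ (by norm_num)
  have h6 := mul_left_cancel₀ h5 h4
  rw [← h6]
  exact hpos

end NumEquiv

end Snap9
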