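import Mathlib
import Groth.Prelude
import Groth.Agent.Lib.Snap33_helper9
import Groth.Agent.Lib.GG3_helper8

/-!
# Nakai–Moishezon, XII: a globally generated module which is ample on all curves is ample
(S11369) (helper9).
APPEND-ONLY once landed.
-/

set_option autoImplicit false
universe u
open CategoryTheory CategoryTheory.Limits AlgebraicGeometry Opposite TopologicalSpace TensorProduct

namespace Snap9

open Groth.Agent.TensInv Groth.Agent.Lib.GVanH2 Groth.Agent.ProjFin QcqsLoc QCohExtn GenLocH8 TensH8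
  SerreCrit FLFH8

section Top

theorem withBot_exists_nat (x : WithBot ℕ∞) (d : ℕ) (h1 : ((1 : ℕ) : WithBot ℕ∞) ≤ x)
    (h2 : x < (d : WithBot ℕ∞)) : ∃ e : ℕ, x = (e : WithBot ℕ∞) ∧ 1 ≤ e ∧ e < d := by
  induction x using WithBot.recBotCoe with
  | bot => simp at h1
  | coe y =>
    induction y using ENat.recTopCoe with
    | top =>
      exfalso
      exact absurd h2 (not_lt.mpr le_top)
    | coe m =>
      have h0 : (((m : ℕ∞) : WithBot ℕ∞)) = ((m : ℕ) : WithBot ℕ∞) := rfl
      rw [h0] at h1 h2 ⊢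
      exact ⟨m, rfl, by exact_mod_cast h1, by exact_mod_cast h2⟩

variable {X : Scheme.{u}}

/-- below a point whose closure has finite dimension `≥ 1` there is a point whose closure is a
curve -/
theorem exists_curve_point_aux : ∀ (d : ℕ) (ξ : X), 1 ≤ d →
    dimC (X := X.toTopCat) ⟨closure ({ξ} : Set X), isClosed_closure⟩ = (d : WithBot ℕ∞) →
    ∃ ξ' ∈ closure ({ξ} : Set X),
      dimC (X := X.toTopCat) ⟨closure ({ξ'} : Set X), isClosed_closure⟩ =
        ((1 : ℕ) : WithBot ℕ∞) := by
  intro d
  induction d using Nat.strong_induction_on with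
  | _ d IH =>
    intro ξ hd hdim
    by_cases h1 : d = 1
    · subst h1
      exact ⟨ξ, subset_closure rfl, hdim⟩
    have h2 : 2 ≤ d := by omega
    have hge : ((1 + 1 : ℕ) : WithBot ℕ∞) ≤
        dimC (X := X.toTopCat) ⟨closure ({ξ} : Set X), isClosed_closure⟩ := by
      rw [hdim]
      exact_mod_cast h2
    obtain ⟨η, hs, hne, hη⟩ := exists_specialization_of_le_dimC hge
    have hηmem : η ∈ closure ({ξ} : Set X) := specializes_iff_mem_closure.mp hs
    have hle : (⟨closure ({η} : Set X), isClosed_closure⟩ : Closeds X) ≤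
        ⟨closure ({ξ} : Set X), isClosed_closure⟩ :=
      closure_minimal (Set.singleton_subset_iff.mpr hηmem) isClosed_closure
    have hlt : (⟨closure ({η} : Set X), isClosed_closure⟩ : Closeds X) <
        ⟨closure ({ξ} : Set X), isClosed_closure⟩ := by
      refine lt_of_le_of_ne hle ?_
      intro heq
      apply hne
      have h3 : ξ ∈ closure ({η} : Set X) := by
        have h4 : ξ ∈ ((⟨closure ({ξ} : Set X), isClosed_closure⟩ : Closeds X) : Set X) :=
          subset_closure rfl
        rw [← heq] at h4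
        exact h4
      exact ((specializes_iff_mem_closure.mpr h3).antisymm hs).eq
    have hirr : IsIrreducible
        (((⟨closure ({ξ} : Set X), isClosed_closure⟩ : Closeds X)) : Set X) :=
      isIrreducible_singleton.closure
    have hd' : dimC (X := X.toTopCat) ⟨closure ({ξ} : Set X), isClosed_closure⟩ <
        ((d + 1 : ℕ) : WithBot ℕ∞) := by
      rw [hdim]
      exact_mod_cast Nat.lt_succ_self d
    have h5 := dimC_lt_of_lt (X := X.toTopCat) hirr hlt d hd'
    obtain ⟨e, he, he1, hed⟩ := withBot_exists_nat _ d hη h5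
    obtain ⟨ξ', hξ', hdim'⟩ := IH e hed η he1 he
    exact ⟨ξ', hle hξ', hdim'⟩

/-- in a finite-dimensional scheme, the closure of a non-closed point contains a point whose
closure has dimension one -/
theorem exists_curve_point (hfin : topologicalKrullDim X < ⊤) (ξ : X)
    (hξ : ¬ IsClosed ({ξ} : Set X)) :
    ∃ ξ' ∈ closure ({ξ} : Set X),
      topologicalKrullDim ↥(closure ({ξ'} : Set X)) = ((1 : ℕ) : WithBot ℕ∞) := by
  have h1 : ((0 + 1 : ℕ) : WithBot ℕ∞) ≤
      dimC (X := X.toTopCat) ⟨closure ({ξ} : Set X), isClosed_closure⟩ := by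
    by_contra hcon
    apply hξ
    apply isClosed_singleton_of_dim_closure_le_zero
    have h0 := (withBot_lt_succ_iff _ 0).mp (not_le.mp hcon)
    rw [dimC_eq ⟨closure ({ξ} : Set X), isClosed_closure⟩] at h0
    exact_mod_cast h0
  have h2 : dimC (X := X.toTopCat) ⟨closure ({ξ} : Set X), isClosed_closure⟩ < ⊤ := by
    rw [dimC_eq]
    exact lt_of_le_of_lt (topologicalKrullDim_subspace_le X _) hfin
  obtain ⟨d, hd⟩ : ∃ d : ℕ,
      dimC (X := X.toTopCat) ⟨closure ({ξ} : Set X), isClosed_closure⟩ = (d : WithBot ℕ∞) := by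
    induction hD : dimC (X := X.toTopCat) ⟨closure ({ξ} : Set X), isClosed_closure⟩
      using WithBot.recBotCoe with
    | bot =>
      rw [hD] at h1
      simp at h1
    | coe a =>
      have h3 : a ≠ ⊤ := by
        rintro rfl
        rw [hD] at h2
        exact lt_irrefl _ h2
      obtain ⟨d, rfl⟩ := ENat.ne_top_iff_exists.mp h3
      exact ⟨d, rfl⟩
  have hd1 : 1 ≤ d := by
    rw [hd] at h1
    exact_mod_cast h1
  obtain ⟨ξ', hξ', hdim'⟩ := exists_curve_point_aux d ξ hd1 hd
  refine ⟨ξ', hξ', ?_⟩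
  rw [dimC_eq ⟨closure ({ξ'} : Set X), isClosed_closure⟩] at hdim'
  exact hdim'

/-- finitely many sections generating on an open cover -/
theorem exists_generating_family_one [CompactSpace X] [Nonempty X] (L : X.Modules)
    (h : ∀ x : X, ∃ σ : Coh.structureModule X ⟶ L, CurveLin.GenAt L σ x) :
    ∃ (n : ℕ) (b : Fin (n + 1) → (Coh.structureModule X ⟶ L)),
      ∀ x, ∃ i, CurveLin.GenAt L (b i) x := by
  choose τ hτ using h
  choose V hxV hV using hτ
  obtain ⟨s, hs⟩ := isCompact_univ.elim_finite_subcover (fun x => (V x : Set X))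
    (fun x => (V x).isOpen) (fun y _ => Set.mem_iUnion.mpr ⟨y, hxV y⟩)
  have hne : s.Nonempty := by
    obtain ⟨x₀⟩ : Nonempty X := inferInstance
    have h1 := hs (Set.mem_univ x₀)
    simp only [Set.mem_iUnion] at h1
    obtain ⟨x, hx, -⟩ := h1
    exact ⟨x, hx⟩
  have hcard : s.card = (s.card - 1) + 1 := by
    have := hne.card_pos
    omega
  let e : s ≃ Fin ((s.card - 1) + 1) := s.equivFin.trans (finCongr hcard)
  refine ⟨s.card - 1, fun i => τ (e.symm i).1, fun y => ?_⟩
  have h1 := hs (Set.mem_univ y)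
  simp only [Set.mem_iUnion] at h1
  obtain ⟨x, hx, hyx⟩ := h1
  refine ⟨e ⟨x, hx⟩, ?_⟩
  show CurveLin.GenAt L (τ (e.symm (e ⟨x, hx⟩)).1) y
  rw [Equiv.symm_apply_apply]
  exact ⟨V x, hyx, hV x⟩

end Top

section Main

variable (k : Type u) [Field k] (X : Scheme.{u}) [X.Over (Spec (CommRingCat.of k))]
  [IsProper (X ↘ Spec (CommRingCat.of k))]

include k in
/-- a proper scheme on which the structure sheaf is ample has dimension `≤ 0` -/
theorem dim_le_zero_of_isAmple_trivial {N : X.Modules} (hN : CohB1.IsAmple N)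
    (e : N ≅ Coh.structureModule X) : topologicalKrullDim X ≤ 0 := by
  obtain ⟨M, hM, ⟨ε⟩⟩ := Groth.Agent.InvTensP.exists_inverse N hN.1
  have hpos : NMPos k X M := nmPos_of_isAmple k X hN ε
  have eM : M ≅ Coh.structureModule X :=
    (rightUnit M).symm ≪≫ mapL M e.symm ≪≫ comm M N ≪≫ ε
  have eM1 : CohB1.tensorPow M 1 ≅ Coh.structureModule X :=
    mapL _ eM ≪≫ rightUnit _
  have h := dim_le_zero_of_trivial k X hM hpos 1 one_pos Set.univ isClosed_univ
    ((Scheme.Modules.pullback _).mapIso eM1 ≪≫ PBH8.pullbackUnitIso _)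
  rwa [(Homeomorph.Set.univ X).isHomeomorph.topologicalKrullDim_eq] at h

include k in
/-- **S11369**: a globally generated invertible module which is ample on every integral curve is
ample -/
theorem main11369 (L : X.Modules) (hL : PicF.IsInvertible L)
    (hgen : Curv2.IsGloballyGenerated L)
    (hcurves : ∀ C : X.IdealSheafData, IsIntegral C.subscheme →
      topologicalKrullDim (C.support : Set X) = 1 →
        CohB1.IsAmple ((Scheme.Modules.pullback C.subschemeι).obj L)) :
    CohB1.IsAmple L := by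
  haveI : IsLocallyNoetherian X :=
    LocallyOfFiniteType.isLocallyNoetherian (X ↘ Spec (CommRingCat.of k))
  haveI : CompactSpace X :=
    QuasiCompact.compactSpace_of_compactSpace (X ↘ Spec (CommRingCat.of k))
  by_cases hne : Nonempty X
  swap
  · apply isAmple_of_dim_zero k X hL
    haveI : IsEmpty X := not_nonempty_iff.mp hne
    haveI : IsEmpty (IrreducibleCloseds X) :=
      ⟨fun T => IsEmpty.false T.isIrreducible'.nonempty.some⟩
    unfold topologicalKrullDim
    rw [Order.krullDim_eq_bot]
    exact bot_le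
  have hfin : topologicalKrullDim X < ⊤ :=
    Groth.Agent.WCF9.topDim_lt_top X (X ↘ Spec (CommRingCat.of k))
  have hgg : ∀ x : X, ∃ σ : Coh.structureModule X ⟶ L, CurveLin.GenAt L σ x := fun x => by
    obtain ⟨t, ht⟩ := GGH8.exists_hom_mem_genLocus hL hgen x
    exact ⟨t, CurvePt.genAt_of_mem_genLocus t ht⟩
  obtain ⟨n, b, hb⟩ := exists_generating_family_one L hgg
  have hs := P1Iso.generatedBy_of_genAt b hb
  obtain ⟨r, hr, τ, -⟩ := Groth.Agent.S3572.result n (X ↘ Spec (CommRingCat.of k)) L hL _ hs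
  haveI : IsProper (CohB1.ProjSpace.toSpec n k) :=
    Groth.Agent.Lib.ProjSpaceProperH4.isProper_toSpec n k
  haveI : IsProper (r ≫ CohB1.ProjSpace.toSpec n k) := by rw [hr]; infer_instance
  haveI : IsProper r := IsProper.of_comp r (CohB1.ProjSpace.toSpec n k)
  haveI : IsFinite r := by
    apply isFinite_of_finite_closed_fibres r
    intro y hy
    have hcl : IsClosed (r ⁻¹' {y}) := hy.preimage r.continuous
    refine TensBasis.finite_of_closed_points _ hcl (fun ξ hξ => ?_)
    by_contra hξcl
    obtain ⟨ξ', hξ', hdim'⟩ := exists_curve_point hfin ξ hξcl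
    have hZT : closure ({ξ'} : Set X) ⊆ r ⁻¹' {y} :=
      closure_minimal (Set.singleton_subset_iff.mpr
        (closure_minimal (Set.singleton_subset_iff.mpr hξ) hcl hξ')) hcl
    obtain ⟨hint, -⟩ := CohDevH8.exists_isIntegral_subscheme (closure ({ξ'} : Set X))
      isClosed_closure ξ' rfl
    have hsC : ((IntMult.ptIdeal ξ').support : Set X) = closure ({ξ'} : Set X) := by
      unfold IntMult.ptIdeal
      rw [Scheme.IdealSheafData.coe_support_vanishingIdeal]
      rfl
    have hamp := hcurves (IntMult.ptIdeal ξ') hint (by rw [hsC, hdim']; rfl)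
    set j := (IntMult.ptIdeal ξ').subschemeι with hj
    letI : (IntMult.ptIdeal ξ').subscheme.Over (Spec (CommRingCat.of k)) :=
      ⟨j ≫ (X ↘ Spec (CommRingCat.of k))⟩
    haveI : IsProper ((IntMult.ptIdeal ξ').subscheme ↘ Spec (CommRingCat.of k)) :=
      inferInstanceAs (IsProper (j ≫ (X ↘ Spec (CommRingCat.of k))))
    obtain ⟨U, hyU, ⟨e⟩⟩ := isInvertible_twist k n 1 y
    have hrange : Set.range (j ≫ r) ⊆ (U : Set (CohB1.ProjSpace n k)) := by
      rintro _ ⟨w, rfl⟩
      have h1 : j w ∈ closure ({ξ'} : Set X) := by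
        have h0 : j w ∈ Set.range j := ⟨w, rfl⟩
        rw [hj, Scheme.IdealSheafData.range_subschemeι, hsC] at h0
        exact h0
      have h2 : r (j w) = y := hZT h1
      rw [Scheme.Hom.comp_apply, h2]
      exact hyU
    obtain ⟨a⟩ := nonempty_pullback_iso_unit (j ≫ r) (Twist.twistProjSpace n k 1) U hrange e
    have eL : (Scheme.Modules.pullback j).obj L ≅
        Coh.structureModule (IntMult.ptIdeal ξ').subscheme :=
      (Scheme.Modules.pullback j).mapIso τ.symm ≪≫
        (Scheme.Modules.pullbackComp j r).app _ ≪≫ a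
    have h0 := dim_le_zero_of_isAmple_trivial k (IntMult.ptIdeal ξ').subscheme hamp eL
    rw [dim_ptIdeal_subscheme, hdim'] at h0
    exact absurd h0 (by norm_num)
  have h1 : CohB1.IsAmple ((Scheme.Modules.pullback r).obj (Twist.twistProjSpace n k 1)) :=
    TensH8.isAmple_pullback_of_isAffineHom r (isAmple_twist_one_projSpace k n)
  exact (TensH8.isAmple_congr τ).mp h1

end Main

end Snap9
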