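import Mathlib
import Groth.Prelude
import Groth.Agent.Lib.Snap34_helper9
import Groth.Agent.Lib.CurveGG3_helper9

/-!
# Nakai–Moishezon, XIII: strictly nef and semiample is ample (S16710) (helper9).
APPEND-ONLY once landed.
-/

set_option autoImplicit false
universe u
open CategoryTheory CategoryTheory.Limits AlgebraicGeometry Opposite TopologicalSpace TensorProduct

namespace Snap9

open Groth.Agent.TensInv Groth.Agent.Lib.GVanH2 Groth.Agent.ProjFin QcqsLoc QCohExtn GenLocH8 TensH8
  SerreCrit FLFH8

section Curves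

variable (k : Type u) [Field k] (X : Scheme.{u}) [X.Over (Spec (CommRingCat.of k))]
  [IsProper (X ↘ Spec (CommRingCat.of k))]

omit [X.Over (Spec (CommRingCat.of k))] [IsProper (X ↘ Spec (CommRingCat.of k))] in
/-- the support of the structure sheaf of the closure of a point -/
theorem support_css (ξ : X) :
    CohB1.support (Cyc.closureStructureSheaf ξ) = closure ({ξ} : Set X) := by
  show CohB1.support (ClSub.quotMod (IntMult.ptIdeal ξ)) = _
  rw [support_quotMod X]
  unfold IntMult.ptIdeal
  rw [Scheme.IdealSheafData.coe_support_vanishingIdeal]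
  rfl

/-- an invertible module a positive power of which is trivial on an integral curve has degree zero
on this curve -/
theorem altSum_css_eq_zero_of_trivial {L : X.Modules} (hL : PicF.IsInvertible L) (Q : ℕ)
    (hQ : 0 < Q) (ξ : X)
    (hdim : topologicalKrullDim (closure ({ξ} : Set X)) = ((1 : ℕ) : WithBot ℕ∞))
    (e : (Scheme.Modules.pullback (IntMult.ptIdeal ξ).subschemeι).obj (CohB1.tensorPow L Q) ≅
      Coh.structureModule (IntMult.ptIdeal ξ).subscheme) :
    altSum k X [L] (Cyc.closureStructureSheaf ξ) = 0 := by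
  haveI : IsLocallyNoetherian X :=
    LocallyOfFiniteType.isLocallyNoetherian (X ↘ Spec (CommRingCat.of k))
  set I := IntMult.ptIdeal ξ with hI
  set j := I.subschemeι with hj
  letI : I.subscheme.Over (Spec (CommRingCat.of k)) := ⟨j ≫ (X ↘ Spec (CommRingCat.of k))⟩
  haveI : IsProper (I.subscheme ↘ Spec (CommRingCat.of k)) :=
    inferInstanceAs (IsProper (j ≫ (X ↘ Spec (CommRingCat.of k))))
  have hjk : j ≫ (X ↘ Spec (CommRingCat.of k)) = I.subscheme ↘ Spec (CommRingCat.of k) := rfl
  haveI : IsLocallyNoetherian I.subscheme :=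
    LocallyOfFiniteType.isLocallyNoetherian (I.subscheme ↘ Spec (CommRingCat.of k))
  have hOc := CohDevH8.isCoh_structureModule I.subscheme
  have hFc : Coh.IsCoh (Cyc.closureStructureSheaf ξ) := isCoh_quotMod k X I
  have hdim' : topologicalKrullDim ↥(CohB1.support (Cyc.closureStructureSheaf ξ)) ≤
      ((([] : List X.Modules).length + 1 : ℕ) : WithBot ℕ∞) := by
    rw [support_css, hdim]
    rfl
  have h2 := altSum_tensorPow_cons k X [] (fun _ h => absurd h (List.not_mem_nil)) hL Q
    (Cyc.closureStructureSheaf ξ) hFc hdim'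
  have hl' : ∀ N ∈ [CohB1.tensorPow L Q], PicF.IsInvertible N := by
    intro N hN
    rw [List.mem_singleton.mp hN]
    exact isInvertible_tensorPow hL Q
  have h3 := altSum_pullback k j hjk [CohB1.tensorPow L Q] hl'
    (Coh.structureModule I.subscheme) hOc.1
  rw [List.map_cons, List.map_nil, altSum_cons] at h3
  have e' : CohB1.tensorMod (Coh.structureModule I.subscheme)
      ((Scheme.Modules.pullback j).obj (CohB1.tensorPow L Q)) ≅ Coh.structureModule I.subscheme :=
    mapL _ e ≪≫ rightUnit _
  rw [altSum_of_iso k I.subscheme _ e', sub_self] at h3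
  have h4 : altSum k X [CohB1.tensorPow L Q] (Cyc.closureStructureSheaf ξ) = 0 := h3.symm
  rw [h2] at h4
  rcases mul_eq_zero.mp h4 with h | h
  · exact absurd h (by exact_mod_cast hQ.ne')
  · exact h

/-- **the morphism defined by a generated power is finite** if the degrees on all integral curves
are nonzero -/
theorem isFinite_of_curvePos {n : ℕ} {L : X.Modules} (hL : PicF.IsInvertible L)
    (hpos : ∀ ξ : X, topologicalKrullDim (closure ({ξ} : Set X)) = ((1 : ℕ) : WithBot ℕ∞) →
      altSum k X [L] (Cyc.closureStructureSheaf ξ) ≠ 0)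
    (Q : ℕ) (hQ : 0 < Q) (r : X ⟶ CohB1.ProjSpace n k)
    (hr : r ≫ CohB1.ProjSpace.toSpec n k = X ↘ Spec (CommRingCat.of k))
    (τ : (Scheme.Modules.pullback r).obj (Twist.twistProjSpace n k 1) ≅ CohB1.tensorPow L Q) :
    IsFinite r := by
  haveI : IsLocallyNoetherian X :=
    LocallyOfFiniteType.isLocallyNoetherian (X ↘ Spec (CommRingCat.of k))
  haveI : CompactSpace X :=
    QuasiCompact.compactSpace_of_compactSpace (X ↘ Spec (CommRingCat.of k))
  have hfin : topologicalKrullDim X < ⊤ :=
    Groth.Agent.WCF9.topDim_lt_top X (X ↘ Spec (CommRingCat.of k))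
  haveI : IsProper (CohB1.ProjSpace.toSpec n k) :=
    Groth.Agent.Lib.ProjSpaceProperH4.isProper_toSpec n k
  haveI : IsProper (r ≫ CohB1.ProjSpace.toSpec n k) := by rw [hr]; infer_instance
  haveI : IsProper r := IsProper.of_comp r (CohB1.ProjSpace.toSpec n k)
  apply isFinite_of_finite_closed_fibres r
  intro y hy
  have hcl : IsClosed (r ⁻¹' {y}) := hy.preimage r.continuous
  refine TensBasis.finite_of_closed_points _ hcl (fun ξ hξ => ?_)
  by_contra hξcl
  obtain ⟨ξ', hξ', hdim'⟩ := exists_curve_point hfin ξ hξcl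
  have hZT : closure ({ξ'} : Set X) ⊆ r ⁻¹' {y} :=
    closure_minimal (Set.singleton_subset_iff.mpr
      (closure_minimal (Set.singleton_subset_iff.mpr hξ) hcl hξ')) hcl
  have hsC : ((IntMult.ptIdeal ξ').support : Set X) = closure ({ξ'} : Set X) := by
    unfold IntMult.ptIdeal
    rw [Scheme.IdealSheafData.coe_support_vanishingIdeal]
    rfl
  set j := (IntMult.ptIdeal ξ').subschemeι with hj
  obtain ⟨U, hyU, ⟨e⟩⟩ := isInvertible_twist k n 1 y
  have hrange : Set.range (j ≫ r) ⊆ (U : Set (CohB1.ProjSpace n k)) := by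
    rintro _ ⟨w, rfl⟩
    have h1 : j w ∈ closure ({ξ'} : Set X) := by
      have h0 : j w ∈ Set.range j := ⟨w, rfl⟩
      rw [hj, Scheme.IdealSheafData.range_subschemeι, hsC] at h0
      exact h0
    have h2 : r (j w) = y := hZT h1
    rw [Scheme.Hom.comp_apply, h2]
    exact hyU
  obtain ⟨a⟩ := nonempty_pullback_iso_unit (j ≫ r) (Twist.twistProjSpace n k 1) U hrange e
  have eL : (Scheme.Modules.pullback j).obj (CohB1.tensorPow L Q) ≅
      Coh.structureModule (IntMult.ptIdeal ξ').subscheme :=
    (Scheme.Modules.pullback j).mapIso τ.symm ≪≫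
      (Scheme.Modules.pullbackComp j r).app _ ≪≫ a
  exact hpos ξ' hdim' (altSum_css_eq_zero_of_trivial k X hL Q hQ ξ' hdim' eL)

/-- **a semiample invertible module of nonzero degree on every integral curve is ample** -/
theorem isAmple_of_generated_power_of_curves {L : X.Modules} (hL : PicF.IsInvertible L)
    (hpos : ∀ ξ : X, topologicalKrullDim (closure ({ξ} : Set X)) = ((1 : ℕ) : WithBot ℕ∞) →
      altSum k X [L] (Cyc.closureStructureSheaf ξ) ≠ 0)
    (Q : ℕ) (hQ : 0 < Q) (n : ℕ)
    (b : Fin (n + 1) → (Coh.structureModule X ⟶ CohB1.tensorPow L Q))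
    (hb : ∀ x, ∃ i, CurveLin.GenAt (CohB1.tensorPow L Q) (b i) x) : CohB1.IsAmple L := by
  haveI : CompactSpace X :=
    QuasiCompact.compactSpace_of_compactSpace (X ↘ Spec (CommRingCat.of k))
  haveI : X.IsSeparated := by
    have e : terminal.from X =
        (X ↘ Spec (CommRingCat.of k)) ≫ terminal.from (Spec (CommRingCat.of k)) :=
      terminal.hom_ext _ _
    refine ⟨?_⟩
    rw [e]
    infer_instance
  have hLQ := isInvertible_tensorPow hL Q
  have hs := P1Iso.generatedBy_of_genAt b hb
  obtain ⟨r, hr, τ, -⟩ := Groth.Agent.S3572.result n (X ↘ Spec (CommRingCat.of k))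
    (CohB1.tensorPow L Q) hLQ _ hs
  haveI : IsFinite r := isFinite_of_curvePos k X hL hpos Q hQ r hr τ
  have h1 : CohB1.IsAmple ((Scheme.Modules.pullback r).obj (Twist.twistProjSpace n k 1)) :=
    TensH8.isAmple_pullback_of_isAffineHom r (isAmple_twist_one_projSpace k n)
  have h2 : CohB1.IsAmple (CohB1.tensorPow L Q) := (TensH8.isAmple_congr τ).mp h1
  exact (Groth.Agent.S2327.result X L hL Q hQ).mpr h2

include k in
/-- an ample module is semiample -/
theorem exists_generated_power_of_isAmple {L : X.Modules} (hamp : CohB1.IsAmple L) :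
    ∃ m : ℕ, Curv2.IsGloballyGenerated (CohB1.tensorPow L (m + 1)) := by
  haveI : CompactSpace X :=
    QuasiCompact.compactSpace_of_compactSpace (X ↘ Spec (CommRingCat.of k))
  by_cases hne : Nonempty X
  swap
  · refine ⟨0, CurveGG.isGloballyGenerated_of_forall_genAt (fun x => ?_)⟩
    exact absurd ⟨x⟩ hne
  obtain ⟨Q, hQ, n, b, hb⟩ := exists_generating_family L (fun x => by
    obtain ⟨n, s, hxs, -⟩ := hamp.2.2 x
    exact ⟨n + 1, Nat.succ_pos n, s, CurvePt.genAt_of_mem_genLocus s hxs⟩)
  obtain ⟨m, rfl⟩ : ∃ m, Q = m + 1 := ⟨Q - 1, by omega⟩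
  refine ⟨m, CurveGG.isGloballyGenerated_of_forall_genAt (fun x => ?_)⟩
  obtain ⟨i, hi⟩ := hb x
  exact ⟨b i, hi⟩

/-- **S16710**: ample iff strictly nef and semiample -/
theorem main16710 (L : X.Modules) (hL : PicF.IsInvertible L) :
    CohB1.IsAmple L ↔
      ((∀ C : X.IdealSheafData, IsIntegral C.subscheme →
          topologicalKrullDim (C.support : Set X) = 1 →
            0 < Curv2.euler k X (CohB1.tensorMod (ClSub.quotMod C) L) -
              Curv2.euler k X (ClSub.quotMod C)) ∧
        ∃ m : ℕ, Curv2.IsGloballyGenerated (CohB1.tensorPow L (m + 1))) := by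
  haveI : CompactSpace X :=
    QuasiCompact.compactSpace_of_compactSpace (X ↘ Spec (CommRingCat.of k))
  constructor
  · intro hamp
    refine ⟨fun C _ hdim => ?_, exists_generated_power_of_isAmple k X hamp⟩
    obtain ⟨M, hM, ⟨ε⟩⟩ := Groth.Agent.InvTensP.exists_inverse L hL
    have hFc := isCoh_quotMod k X C
    have hs := support_quotMod X C
    have h1 := nmPos_of_isAmple k X hamp ε (ClSub.quotMod C) hFc 1 one_pos (by rw [hs, hdim]; rfl)
    have h2 := altSum_flip k X [] (fun _ h => absurd h (List.not_mem_nil)) hL hM ε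
      (ClSub.quotMod C) hFc (by rw [hs, hdim]; rfl)
    rw [List.replicate_one] at h1
    simp only [altSum_cons, altSum_nil] at h1 h2
    linarith
  · rintro ⟨hnef, m, hgen⟩
    by_cases hne : Nonempty X
    swap
    · apply isAmple_of_dim_zero k X hL
      haveI : IsEmpty X := not_nonempty_iff.mp hne
      haveI : IsEmpty (IrreducibleCloseds X) :=
        ⟨fun T => IsEmpty.false T.isIrreducible'.nonempty.some⟩
      unfold topologicalKrullDim
      rw [Order.krullDim_eq_bot]
      exact bot_le
    have hLQ := isInvertible_tensorPow hL (m + 1)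
    have hgg : ∀ x : X, ∃ σ : Coh.structureModule X ⟶ CohB1.tensorPow L (m + 1),
        CurveLin.GenAt (CohB1.tensorPow L (m + 1)) σ x := fun x => by
      obtain ⟨t, ht⟩ := GGH8.exists_hom_mem_genLocus hLQ hgen x
      exact ⟨t, CurvePt.genAt_of_mem_genLocus t ht⟩
    obtain ⟨n, b, hb⟩ := exists_generating_family_one (CohB1.tensorPow L (m + 1)) hgg
    apply isAmple_of_generated_power_of_curves k X hL ?_ (m + 1) (Nat.succ_pos m) n b hb
    intro ξ hdim
    obtain ⟨hint, -⟩ := CohDevH8.exists_isIntegral_subscheme (closure ({ξ} : Set X))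
      isClosed_closure ξ rfl
    have hsC : ((IntMult.ptIdeal ξ).support : Set X) = closure ({ξ} : Set X) := by
      unfold IntMult.ptIdeal
      rw [Scheme.IdealSheafData.coe_support_vanishingIdeal]
      rfl
    have h1 := hnef (IntMult.ptIdeal ξ) hint (by rw [hsC, hdim]; rfl)
    have h2 : Cyc.closureStructureSheaf ξ = ClSub.quotMod (IntMult.ptIdeal ξ) := rfl
    rw [h2, altSum_cons, altSum_nil, altSum_nil]
    intro h0
    linarith

end Curves

end Snap9
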