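import Mathlib
import Groth.Prelude
import Groth.Agent.Lib.Snap35_helper9

/-!
# Nakai–Moishezon, XIV: strictly nef with sections of powers on all integral closed subschemes is
ample (S16711) (helper9).
APPEND-ONLY once landed.
-/

set_option autoImplicit false
universe u
open CategoryTheory CategoryTheory.Limits AlgebraicGeometry Opposite TopologicalSpace TensorProduct

namespace Snap9

open Groth.Agent.TensInv Groth.Agent.Lib.GVanH2 Groth.Agent.ProjFin QcqsLoc QCohExtn GenLocH8 TensH8
  SerreCrit FLFH8

section CurvePosDef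

variable (k : Type u) [Field k] (X : Scheme.{u}) [X.Over (Spec (CommRingCat.of k))]

/-- positivity of the degrees on curves, for the inverse `M` of the module in question (in the
sign convention of `altSum`), in the form for coherent modules -/
def CurvePos (M : X.Modules) : Prop :=
  ∀ F : X.Modules, Coh.IsCoh F →
    topologicalKrullDim (CohB1.support F) = ((1 : ℕ) : WithBot ℕ∞) → 0 < altSum k X [M] F

end CurvePosDef

section Transfer

variable (k : Type u) [Field k] {W X : Scheme.{u}} [W.Over (Spec (CommRingCat.of k))]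
  [X.Over (Spec (CommRingCat.of k))] [IsProper (W ↘ Spec (CommRingCat.of k))]
  [IsProper (X ↘ Spec (CommRingCat.of k))]

/-- positivity on curves restricts to closed subschemes -/
theorem curvePos_pullback (j : W ⟶ X) [IsClosedImmersion j]
    (hj : j ≫ (X ↘ Spec (CommRingCat.of k)) = W ↘ Spec (CommRingCat.of k))
    {M : X.Modules} (hM : PicF.IsInvertible M) (h : CurvePos k X M) :
    CurvePos k W ((Scheme.Modules.pullback j).obj M) := by
  haveI : IsLocallyNoetherian X :=
    LocallyOfFiniteType.isLocallyNoetherian (X ↘ Spec (CommRingCat.of k))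
  intro G hG hdim
  have h1 := altSum_pullback k j hj [M]
    (fun N hN => by rw [List.mem_singleton.mp hN]; exact hM) G hG.1
  rw [List.map_cons, List.map_nil] at h1
  rw [h1]
  refine h _ (CohDevH8.isCoh_pushforward_of_isFinite j hG) ?_
  rw [dim_support_pushforward j G, hdim]

omit [IsProper (X ↘ Spec (CommRingCat.of k))] in
/-- eventual vanishing descends from the direct image under a closed immersion -/
theorem evVan_of_push [IsLocallyNoetherian X] (j : W ⟶ X) [IsClosedImmersion j]
    (hj : j ≫ (X ↘ Spec (CommRingCat.of k)) = W ↘ Spec (CommRingCat.of k))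
    {L : X.Modules} (hL : PicF.IsInvertible L) (G : W.Modules) (hG : Coh.IsCoh G)
    (h : EvVan L ((Scheme.Modules.pushforward j).obj G)) :
    EvVan ((Scheme.Modules.pullback j).obj L) G := by
  obtain ⟨n₀, hn₀⟩ := h
  refine ⟨n₀, fun m hm p hp => ?_⟩
  obtain ⟨e⟩ := nonempty_push_twist_iso j hL G m
  haveI := hG.1
  have hpL : PicF.IsInvertible ((Scheme.Modules.pullback j).obj L) :=
    TensH8.isInvertible_pullback j hL
  haveI : (CohB1.tensorPow ((Scheme.Modules.pullback j).obj L) m).IsQuasicoherent :=
    (ProperFinH9.isCoh_of_isInvertible (TensH8.isInvertible_tensorPow hpL m)).1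
  haveI : (CohB1.tensorMod G
      (CohB1.tensorPow ((Scheme.Modules.pullback j).obj L) m)).IsQuasicoherent :=
    TensQCH8.isQuasicoherent_tensorMod _ _
  have h1 : Subsingleton (Coh.HH X ((Scheme.Modules.pushforward j).obj
      (CohB1.tensorMod G (CohB1.tensorPow ((Scheme.Modules.pullback j).obj L) m))) p) :=
    Groth.Agent.HHVan.subsingleton_of_iso e p (hn₀ m hm p hp)
  exact (Groth.Agent.PushEdgeNat.pushEdgeEquiv j hj _ p).symm.toEquiv.subsingleton

end Transfer

section Main

variable (k : Type u) [Field k] (X : Scheme.{u}) [X.Over (Spec (CommRingCat.of k))]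
  [IsProper (X ↘ Spec (CommRingCat.of k))]

/-- positivity on the integral curves gives positivity on the coherent modules with
one-dimensional support -/
theorem curvePos_of_points {M : X.Modules} (hM : PicF.IsInvertible M)
    (H : ∀ ξ : X, topologicalKrullDim (closure ({ξ} : Set X)) = ((1 : ℕ) : WithBot ℕ∞) →
        0 < altSum k X [M] (Cyc.closureStructureSheaf ξ)) : CurvePos k X M := by
  intro F hF hr
  haveI := hF.2
  have hcl : IsClosed (CohB1.support F) := SuppFT.isClosed_support F
  have hdC : dimC (X := X.toTopCat) ⟨CohB1.support F, hcl⟩ = ((1 : ℕ) : WithBot ℕ∞) :=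
    (dimC_eq _).trans hr
  obtain ⟨ξ, hξF, hξge⟩ := exists_point_of_le_dimC (r := 1) hdC.ge
  have hsub : closure ({ξ} : Set X) ⊆ CohB1.support F :=
    closure_minimal (Set.singleton_subset_iff.mpr hξF) hcl
  have hξle : dimC (X := X.toTopCat) ⟨closure ({ξ} : Set X), isClosed_closure⟩ ≤
      ((1 : ℕ) : WithBot ℕ∞) :=
    (dimC_mono (X := X.toTopCat) (Z := ⟨closure ({ξ} : Set X), isClosed_closure⟩)
      (Z' := ⟨CohB1.support F, hcl⟩) hsub).trans hdC.le
  have hξdim : topologicalKrullDim (closure ({ξ} : Set X)) = ((1 : ℕ) : WithBot ℕ∞) :=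
    (dimC_eq ⟨closure ({ξ} : Set X), isClosed_closure⟩).symm.trans (le_antisymm hξle hξge)
  have hl : ∀ N ∈ [M], PicF.IsInvertible N := fun N hN => by
    rw [List.mem_singleton.mp hN]
    exact hM
  refine (altSum_nonneg_pos_of_css k X [M] hl (fun η hη => ?_) F hF ?_).2 ⟨ξ, hξF, ?_⟩
  · exact H η hη
  · exact hr.le
  · exact hξdim

/-- the degrees on the integral curves are nonzero under the positivity hypothesis -/
theorem altSum_css_ne_zero_of_curvePos {L M : X.Modules} (hL : PicF.IsInvertible L)
    (ε : CohB1.tensorMod L M ≅ Coh.structureModule X) (hpos : CurvePos k X M) (ξ : X)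
    (hdim : topologicalKrullDim (closure ({ξ} : Set X)) = ((1 : ℕ) : WithBot ℕ∞)) :
    altSum k X [L] (Cyc.closureStructureSheaf ξ) ≠ 0 := by
  have hM : PicF.IsInvertible M := InvTensH8.isInvertible_of_tensor_iso (comm M L ≪≫ ε)
  have hFc : Coh.IsCoh (Cyc.closureStructureSheaf ξ) := isCoh_quotMod k X (IntMult.ptIdeal ξ)
  have h1 := hpos (Cyc.closureStructureSheaf ξ) hFc (by rw [support_css, hdim])
  have h2 := altSum_flip k X [] (fun _ h => absurd h (List.not_mem_nil)) hL hM ε
    (Cyc.closureStructureSheaf ξ) hFc (by rw [support_css, hdim]; rfl)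
  rw [h2]
  intro h0
  linarith

/-- **the inductive step**: ampleness on the integral closed subscheme with generic point `ξ`,
given ampleness on the smaller ones and a nonzero section of a power -/
theorem isAmple_ptIdeal_of_curvePos_eff {L M : X.Modules} (hL : PicF.IsInvertible L)
    (ε : CohB1.tensorMod L M ≅ Coh.structureModule X) (hpos : CurvePos k X M) (ξ : X)
    (IH : ∀ (Z' : Set X) (hZ' : IsClosed Z'), IsIrreducible Z' → Z' ⊆ closure ({ξ} : Set X) →
      Z' ≠ closure ({ξ} : Set X) →
      CohB1.IsAmple ((Scheme.Modules.pullback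
        (Scheme.IdealSheafData.vanishingIdeal ⟨Z', hZ'⟩).subschemeι).obj L))
    (m : ℕ) (s : Coh.structureModule (IntMult.ptIdeal ξ).subscheme ⟶
      CohB1.tensorPow ((Scheme.Modules.pullback (IntMult.ptIdeal ξ).subschemeι).obj L) (m + 1))
    (hs : s ≠ 0) :
    CohB1.IsAmple ((Scheme.Modules.pullback (IntMult.ptIdeal ξ).subschemeι).obj L) := by
  haveI : IsLocallyNoetherian X :=
    LocallyOfFiniteType.isLocallyNoetherian (X ↘ Spec (CommRingCat.of k))
  have hM : PicF.IsInvertible M := InvTensH8.isInvertible_of_tensor_iso (comm M L ≪≫ ε)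
  obtain ⟨hint, -⟩ := CohDevH8.exists_isIntegral_subscheme (closure ({ξ} : Set X))
    isClosed_closure ξ rfl
  revert s
  set I := IntMult.ptIdeal ξ with hI
  haveI : IsIntegral I.subscheme := hint
  set j := I.subschemeι with hj
  intro s hs
  letI : I.subscheme.Over (Spec (CommRingCat.of k)) := ⟨j ≫ (X ↘ Spec (CommRingCat.of k))⟩
  haveI : IsProper (I.subscheme ↘ Spec (CommRingCat.of k)) :=
    inferInstanceAs (IsProper (j ≫ (X ↘ Spec (CommRingCat.of k))))
  have hjk : j ≫ (X ↘ Spec (CommRingCat.of k)) = I.subscheme ↘ Spec (CommRingCat.of k) := rfl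
  have hrange : Set.range j = closure ({ξ} : Set X) :=
    EquidimSubH8.range_vanishingIdeal_subschemeι ⟨closure ({ξ} : Set X), isClosed_closure⟩
  have hLW : PicF.IsInvertible ((Scheme.Modules.pullback j).obj L) := isInvertible_pullback j hL
  have hMW : PicF.IsInvertible ((Scheme.Modules.pullback j).obj M) := isInvertible_pullback j hM
  have εW : CohB1.tensorMod ((Scheme.Modules.pullback j).obj L)
      ((Scheme.Modules.pullback j).obj M) ≅ Coh.structureModule I.subscheme :=
    (PullTensH9.pullTensIso j hL hM).symm ≪≫ (Scheme.Modules.pullback j).mapIso ε ≪≫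
      PBH8.pullbackUnitIso j
  have hposW : CurvePos k I.subscheme ((Scheme.Modules.pullback j).obj M) :=
    curvePos_pullback k j hjk hM hpos
  have hV : VanProper I.subscheme ((Scheme.Modules.pullback j).obj L) := by
    intro F hF hne
    apply evVan_of_push k j hjk hL F hF
    have hGc : Coh.IsCoh ((Scheme.Modules.pushforward j).obj F) :=
      CohDevH8.isCoh_pushforward_of_isFinite j hF
    apply evVan_of_ampleOn k X hL (T := CohB1.support ((Scheme.Modules.pushforward j).obj F)) ?_
      _ hGc subset_rfl
    intro Z' hZ' hirr' hsub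
    rw [support_pushforward_eq j F] at hsub
    have hle : Z' ⊆ closure ({ξ} : Set X) := by
      intro z hz
      obtain ⟨w, -, rfl⟩ := hsub hz
      rw [← hrange]
      exact ⟨w, rfl⟩
    refine IH Z' hZ' hirr' hle ?_
    intro heq
    apply hne
    apply Set.eq_univ_of_forall
    intro w
    have h1 : j w ∈ Z' := by
      rw [heq, ← hrange]
      exact ⟨w, rfl⟩
    obtain ⟨w', hw', hww'⟩ := hsub h1
    rw [← j.isClosedEmbedding.injective hww']
    exact hw'
  obtain ⟨Q, hQ, n', b, hb⟩ := exists_power_generated k I.subscheme hLW hV (m + 1)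
    (Nat.succ_pos m) s hs
  exact isAmple_of_generated_power_of_curves k I.subscheme hLW
    (fun η hη => altSum_css_ne_zero_of_curvePos k I.subscheme hLW εW hposW η hη) Q hQ n' b hb

/-- **strictly nef with sections of powers on all integral closed subschemes implies ample** -/
theorem isAmple_of_curvePos_eff {L M : X.Modules} (hL : PicF.IsInvertible L)
    (ε : CohB1.tensorMod L M ≅ Coh.structureModule X) (hpos : CurvePos k X M)
    (heff : ∀ ξ : X, ∃ (m : ℕ) (s : Coh.structureModule (IntMult.ptIdeal ξ).subscheme ⟶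
      CohB1.tensorPow ((Scheme.Modules.pullback (IntMult.ptIdeal ξ).subschemeι).obj L) (m + 1)),
      s ≠ 0) : CohB1.IsAmple L := by
  haveI : IsLocallyNoetherian X :=
    LocallyOfFiniteType.isLocallyNoetherian (X ↘ Spec (CommRingCat.of k))
  haveI : CompactSpace X :=
    QuasiCompact.compactSpace_of_compactSpace (X ↘ Spec (CommRingCat.of k))
  haveI : IsNoetherian X := {}
  apply isAmple_of_ampleOn_univ k X hL
  suffices h : ∀ Zc : Closeds X, IsIrreducible (Zc : Set X) →
      CohB1.IsAmple ((Scheme.Modules.pullback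
        (Scheme.IdealSheafData.vanishingIdeal Zc).subschemeι).obj L) by
    intro Z hZ hirr _
    exact h ⟨Z, hZ⟩ hirr
  intro Zc
  induction Zc using WellFoundedLT.induction with
  | ind Zc IH =>
    intro hirr
    have hy : closure {hirr.genericPoint} = (Zc : Set X) := hirr.closure_genericPoint Zc.isClosed
    set ξ := hirr.genericPoint with hξ
    have hZc : Zc = ⟨closure ({ξ} : Set X), isClosed_closure⟩ := Closeds.ext hy.symm
    obtain ⟨m, s, hs⟩ := heff ξ
    have key := isAmple_ptIdeal_of_curvePos_eff k X hL ε hpos ξ (fun Z' hZ' hirr' hle hne => by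
      refine IH ⟨Z', hZ'⟩ ?_ hirr'
      refine lt_of_le_of_ne ?_ ?_
      · intro z hz
        show z ∈ (Zc : Set X)
        rw [← hy]
        exact hle hz
      · intro heq
        apply hne
        rw [hy, ← heq]
        rfl) m s hs
    rw [hZc]
    exact key

/-- **S16711** -/
theorem main16711 (L : X.Modules) (hL : PicF.IsInvertible L)
    (hnef : ∀ C : X.IdealSheafData, IsIntegral C.subscheme →
      topologicalKrullDim (C.support : Set X) = 1 →
        0 < Curv2.euler k X (CohB1.tensorMod (ClSub.quotMod C) L) -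
          Curv2.euler k X (ClSub.quotMod C))
    (heff : ∀ Z : X.IdealSheafData, IsIntegral Z.subscheme →
      ∃ (m : ℕ) (s : Coh.structureModule Z.subscheme ⟶
          CohB1.tensorPow ((Scheme.Modules.pullback Z.subschemeι).obj L) (m + 1)), s ≠ 0) :
    CohB1.IsAmple L := by
  obtain ⟨M, hM, ⟨ε⟩⟩ := Groth.Agent.InvTensP.exists_inverse L hL
  apply isAmple_of_curvePos_eff k X hL ε
  · apply curvePos_of_points k X hM
    intro ξ hdim
    obtain ⟨hint, -⟩ := CohDevH8.exists_isIntegral_subscheme (closure ({ξ} : Set X))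
      isClosed_closure ξ rfl
    have hsC : ((IntMult.ptIdeal ξ).support : Set X) = closure ({ξ} : Set X) := by
      unfold IntMult.ptIdeal
      rw [Scheme.IdealSheafData.coe_support_vanishingIdeal]
      rfl
    have h1 := hnef (IntMult.ptIdeal ξ) hint (by rw [hsC, hdim]; rfl)
    have hFc : Coh.IsCoh (Cyc.closureStructureSheaf ξ) := isCoh_quotMod k X (IntMult.ptIdeal ξ)
    have h2 := altSum_flip k X [] (fun _ h => absurd h (List.not_mem_nil)) hL hM ε
      (Cyc.closureStructureSheaf ξ) hFc (by rw [support_css, hdim]; rfl)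
    have h3 : Cyc.closureStructureSheaf ξ = ClSub.quotMod (IntMult.ptIdeal ξ) := rfl
    rw [altSum_cons, altSum_nil, altSum_nil] at h2
    rw [h3] at h2 ⊢
    linarith
  · intro ξ
    obtain ⟨hint, -⟩ := CohDevH8.exists_isIntegral_subscheme (closure ({ξ} : Set X))
      isClosed_closure ξ rfl
    exact heff (IntMult.ptIdeal ξ) hint

end Main

end Snap9
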