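import Mathlib
import Groth.Prelude
import Groth.Agent.Lib.Snap36_helper9
import Groth.Agent.Lib.HypSurf_helper9
import Groth.Agent.Lib.Tens31_helper8
import Groth.Agent.Lib.EpiLoc_helper9
import Groth.Agent.Lib.CohKer_helper8

/-!
# Vanishing for the twists of the powers of the ideal of a closed point (S15254) (helper9).
APPEND-ONLY once landed.
-/

set_option autoImplicit false
universe u
open CategoryTheory CategoryTheory.Limits AlgebraicGeometry Opposite TopologicalSpace TensorProduct

namespace Snap9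

open Groth.Agent.TensInv Groth.Agent.Lib.GVanH2 Groth.Agent.ProjFin QcqsLoc QCohExtn GenLocH8 TensH8
  SerreCrit FLFH8

section Top

theorem topologicalKrullDim_le_zero_of_subsingleton (T : Type*) [TopologicalSpace T]
    [Subsingleton T] : topologicalKrullDim T ≤ 0 := by
  haveI : Subsingleton (IrreducibleCloseds T) := by
    constructor
    intro a b
    apply IrreducibleCloseds.ext
    ext x
    constructor
    · intro _
      obtain ⟨y, hy⟩ := b.isIrreducible.nonempty
      rwa [Subsingleton.elim x y]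
    · intro _
      obtain ⟨y, hy⟩ := a.isIrreducible.nonempty
      rwa [Subsingleton.elim x y]
  exact Order.krullDim_nonpos_of_subsingleton

end Top

section PointIdeal

variable (k : Type u) [Field k] (X : Scheme.{u}) [X.Over (Spec (CommRingCat.of k))]
  [IsProper (X ↘ Spec (CommRingCat.of k))]

omit [X.Over (Spec (CommRingCat.of k))] [IsProper (X ↘ Spec (CommRingCat.of k))] in
/-- the support of a power of the ideal of a closed point is contained in the point -/
theorem support_pointIdeal_pow_subset (x : X) (hx : IsClosed ({x} : Set X)) (a : ℕ) :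
    (((W4c2seshadripos.pointIdeal x hx) ^ a).support : Set X) ⊆ {x} := by
  rcases Nat.eq_zero_or_pos a with rfl | ha
  · rw [pow_zero, Scheme.IdealSheafData.one_eq_top]
    intro y hy
    rw [Scheme.IdealSheafData.support_top] at hy
    exact absurd hy (Set.notMem_empty y)
  · rw [Scheme.IdealSheafData.support_pow _ a ha.ne']
    unfold W4c2seshadripos.pointIdeal
    rw [Scheme.IdealSheafData.coe_support_vanishingIdeal]
    exact fun y hy => hy

include k in
/-- the twists of the structure sheaf of an infinitesimal neighbourhood of a closed point have no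
higher cohomology -/
theorem subsingleton_HH_quotMod_pointIdeal (x : X) (hx : IsClosed ({x} : Set X)) (a : ℕ)
    (N : X.Modules) (hN : PicF.IsInvertible N) (p : ℕ) (hp : 1 ≤ p) :
    Subsingleton (Coh.HH X (CohB1.tensorMod
      (ClSub.quotMod ((W4c2seshadripos.pointIdeal x hx) ^ a)) N) p) := by
  haveI : IsLocallyNoetherian X :=
    LocallyOfFiniteType.isLocallyNoetherian (X ↘ Spec (CommRingCat.of k))
  haveI : CompactSpace X :=
    QuasiCompact.compactSpace_of_compactSpace (X ↘ Spec (CommRingCat.of k))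
  haveI : IsNoetherian X := {}
  have hQc := isCoh_quotMod k X ((W4c2seshadripos.pointIdeal x hx) ^ a)
  have hNc := ProperFinH9.isCoh_of_isInvertible hN
  haveI := hQc.1
  haveI := hNc.1
  have hsupp : CohB1.support (CohB1.tensorMod
      (ClSub.quotMod ((W4c2seshadripos.pointIdeal x hx) ^ a)) N) ⊆ {x} := by
    refine (NodalG0.support_tensorMod_subset_left _ _).trans ?_
    rw [support_quotMod X]
    exact support_pointIdeal_pow_subset X x hx a
  have hd : dimC (X := X.toTopCat) ⟨{x}, hx⟩ < ((1 : ℕ) : WithBot ℕ∞) := by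
    rw [dimC_eq]
    haveI : Subsingleton ↥({x} : Set X) := (Set.subsingleton_singleton (a := x)).coe_sort
    refine lt_of_le_of_lt
      (topologicalKrullDim_le_zero_of_subsingleton ↥({x} : Set X)) ?_
    exact_mod_cast zero_lt_one
  exact subsingleton_HH_of_dimC 1 ⟨{x}, hx⟩ hd _ hsupp p hp

include k in
/-- **S15254** -/
theorem main15254 (x : X) (hx : IsClosed ({x} : Set X)) (L : X.Modules) (hL : CohB1.IsAmple L) :
    ∃ m₀ : ℕ, ∀ m : ℕ, m₀ ≤ m → ∀ i : ℕ, 1 < i → ∀ a : ℕ,
      Subsingleton (Coh.HH X (CohB1.tensorMod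
        (ClSub.idealMod ((W4c2seshadripos.pointIdeal x hx) ^ a)) (CohB1.tensorPow L m)) i) := by
  haveI : IsLocallyNoetherian X :=
    LocallyOfFiniteType.isLocallyNoetherian (X ↘ Spec (CommRingCat.of k))
  obtain ⟨m₀, hm₀⟩ := RelAmpleVanH9.serre_vanishing_ample (X ↘ Spec (CommRingCat.of k)) L hL.1 hL
    (Coh.structureModule X) (CohDevH8.isCoh_structureModule X)
  refine ⟨m₀, fun m hm i hi a => ?_⟩
  obtain ⟨p, rfl⟩ : ∃ p, i = p + 1 := ⟨i - 1, by omega⟩
  have hp : 1 ≤ p := by omega
  have hLm := isInvertible_tensorPow hL.1 m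
  have hS := CurveTens.shortExact_tR hLm
    (Groth.Agent.HypSurf.ses ((W4c2seshadripos.pointIdeal x hx) ^ a))
    (Groth.Agent.HypSurf.ses_shortExact ((W4c2seshadripos.pointIdeal x hx) ^ a))
  have h3 := subsingleton_HH_quotMod_pointIdeal k X x hx a _ hLm p hp
  have hinj := injective_HHlin_f_succ k _ hS p h3
  have h2 : Subsingleton (Coh.HH X (CohB1.tensorMod (Coh.structureModule X)
      (CohB1.tensorPow L m)) (p + 1)) := hm₀ m hm (p + 1) (Nat.succ_pos p)
  exact @Function.Injective.subsingleton _ _ _ hinj h2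

end PointIdeal

section Incl

open QCohExtn

variable {X : Scheme.{u}} {I J : X.IdealSheafData} (hIJ : I ≤ J)

include hIJ in
theorem incl_w : ClSub.idealModι I ≫ ClSub.toSubscheme J = 0 := by
  apply Scheme.Modules.hom_ext
  intro O
  ext σ
  show ap (ClSub.toSubscheme J) O (ap (ClSub.idealModι I) O σ) = 0
  refine QcqsLoc.eq_zero_of_cover _ _ (fun x hx => ?_)
  obtain ⟨W, hW, hxW, hWO⟩ := (Opens.isBasis_iff_nbhd.mp X.isBasis_affineOpens) hx
  refine ⟨W, hWO, hxW, ?_⟩
  rw [← QCohExtn.ap_rF, ← QCohExtn.ap_rF]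
  have hmem := TensH8.idealModι_mem I hW (rF (ClSub.idealMod I) hWO σ)
  have hmemJ := (Scheme.IdealSheafData.le_def.mp hIJ) ⟨W, hW⟩ hmem
  obtain ⟨t, ht⟩ := TensH8.exists_idealMod_section J hW _ hmemJ
  have h2 : ap (ClSub.idealModι I) W (rF (ClSub.idealMod I) hWO σ) =
      ap (ClSub.idealModι J) W t := ht.symm
  rw [h2]
  exact TensH8.kernel_section_mem (ClSub.toSubscheme J) t

/-- the inclusion of ideal sheaves, as a morphism of modules -/
noncomputable def incl : ClSub.idealMod I ⟶ ClSub.idealMod J :=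
  kernel.lift (ClSub.toSubscheme J) (ClSub.idealModι I) (incl_w hIJ)

theorem incl_ι : incl hIJ ≫ ClSub.idealModι J = ClSub.idealModι I :=
  kernel.lift_ι _ _ _

instance mono_incl : Mono (incl hIJ) := by
  haveI : Mono (ClSub.idealModι I) :=
    inferInstanceAs (Mono (kernel.ι (ClSub.unitToPush I.subschemeι)))
  haveI : Mono (incl hIJ ≫ ClSub.idealModι J) := by
    rw [incl_ι]
    infer_instance
  exact mono_of_mono (incl hIJ) (ClSub.idealModι J)

omit hIJ in
/-- away from its support, an ideal is the unit ideal -/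
theorem ideal_eq_top_of_disjoint (I : X.IdealSheafData) {W : X.Opens} (hW : IsAffineOpen W)
    (hd : Disjoint (W : Set X) (I.support : Set X)) : I.ideal ⟨W, hW⟩ = ⊤ := by
  rw [← PrimeSpectrum.zeroLocus_empty_iff_eq_top]
  have h1 := hW.fromSpec_image_zeroLocus (I.ideal ⟨W, hW⟩ : Set Γ(X, W))
  have h2 := I.coe_support_inter ⟨W, hW⟩
  have h3 : (I.support : Set X) ∩ (W : Set X) = ∅ := by
    rw [Set.inter_comm]
    exact hd.inter_eq
  rw [← h2, h3] at h1
  exact Set.image_eq_empty.mp h1

/-- the quotient of two ideals is supported on the support of the smaller one -/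
theorem support_cokernel_incl_subset :
    CohB1.support (cokernel (incl hIJ)) ⊆ (I.support : Set X) := by
  intro y hy
  by_contra hyI
  apply hy
  refine ⟨fun g g' => ?_⟩
  suffices h : ∀ g : (cokernel (incl hIJ)).presheaf.stalk y, g = 0 by rw [h g, h g']
  intro g
  obtain ⟨V, hyV, q, rfl⟩ := TopCat.Presheaf.exists_germ_eq _ g
  obtain ⟨V', hV', hyV', n, hn⟩ := EpiLoc.exists_local_lift (cokernel.π (incl hIJ)) q hyV
  have hopen : IsOpen ((V' : Set X) ∩ (I.support : Set X)ᶜ) :=
    V'.isOpen.inter I.support.isClosed.isOpen_compl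
  obtain ⟨_, ⟨W, hW : IsAffineOpen W, rfl⟩, hyW, hle⟩ :=
    X.isBasis_affineOpens.exists_subset_of_mem_open
      (show y ∈ (V' : Set X) ∩ (I.support : Set X)ᶜ from ⟨hyV', hyI⟩) hopen
  have hWV' : W ≤ V' := fun z hz => (hle hz).1
  have htop : I.ideal ⟨W, hW⟩ = ⊤ := by
    apply ideal_eq_top_of_disjoint I hW
    rw [Set.disjoint_left]
    intro z hz hzI
    exact (hle hz).2 hzI
  obtain ⟨t, ht⟩ := TensH8.exists_idealMod_section I hW
    (SerreCrit.toFn (ap (ClSub.idealModι J) W (rF (ClSub.idealMod J) hWV' n)))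
    (by rw [htop]; trivial)
  have h1 : ap (incl hIJ) W t = rF (ClSub.idealMod J) hWV' n := by
    apply TensH8.idealModι_injective J W
    have h0 := congrArg (fun ψ : ClSub.idealMod I ⟶ Coh.structureModule X => ap ψ W t)
      (incl_ι hIJ)
    exact h0.trans ht
  have h2 : ap (cokernel.π (incl hIJ)) W (rF (ClSub.idealMod J) hWV' n) = 0 := by
    rw [← h1]
    have h0 := congrArg (fun ψ : ClSub.idealMod I ⟶ cokernel (incl hIJ) => ap ψ W t)
      (cokernel.condition (incl hIJ))
    exact h0
  have h3 : rF (cokernel (incl hIJ)) (hWV'.trans hV') q = 0 := by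
    rw [← QcqsLoc.rF_rF (cokernel (incl hIJ)) hWV' hV' q]
    have hn' : ap (cokernel.π (incl hIJ)) V' n = rF (cokernel (incl hIJ)) hV' q := hn
    rw [← hn', ← QCohExtn.ap_rF]
    exact h2
  have h4 := TopCat.Presheaf.germ_res_apply (cokernel (incl hIJ)).presheaf
    (homOfLE (hWV'.trans hV')) y hyW q
  rw [← h4]
  have h5 : ((cokernel (incl hIJ)).presheaf.map (homOfLE (hWV'.trans hV')).op) q = 0 := h3
  rw [h5, map_zero]

end Incl

section Main2

variable (k : Type u) [Field k] (X : Scheme.{u}) [X.Over (Spec (CommRingCat.of k))]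
  [IsProper (X ↘ Spec (CommRingCat.of k))]

omit [X.Over (Spec (CommRingCat.of k))] [IsProper (X ↘ Spec (CommRingCat.of k))] in
theorem pow_succ_le (I : X.IdealSheafData) (a : ℕ) : I ^ (a + 1) ≤ I ^ a := by
  rw [Scheme.IdealSheafData.le_def]
  intro U
  rw [Scheme.IdealSheafData.ideal_pow, Scheme.IdealSheafData.ideal_pow]
  exact Ideal.pow_le_pow_right (Nat.le_succ a)

include k in
/-- **S15255** -/
theorem main15255 (x : X) (hx : IsClosed ({x} : Set X)) (L : X.Modules)
    (hL : PicF.IsInvertible L) (a m : ℕ)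
    (h : Nontrivial (Coh.HH X (CohB1.tensorMod
      (ClSub.idealMod ((W4c2seshadripos.pointIdeal x hx) ^ a)) (CohB1.tensorPow L m)) 1)) :
    Nontrivial (Coh.HH X (CohB1.tensorMod
      (ClSub.idealMod ((W4c2seshadripos.pointIdeal x hx) ^ (a + 1))) (CohB1.tensorPow L m)) 1) := by
  haveI : IsLocallyNoetherian X :=
    LocallyOfFiniteType.isLocallyNoetherian (X ↘ Spec (CommRingCat.of k))
  haveI : CompactSpace X :=
    QuasiCompact.compactSpace_of_compactSpace (X ↘ Spec (CommRingCat.of k))
  haveI : IsNoetherian X := {}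
  set I := W4c2seshadripos.pointIdeal x hx with hI
  have hle := pow_succ_le X I a
  have hLm := isInvertible_tensorPow hL m
  have hNc := ProperFinH9.isCoh_of_isInvertible hLm
  let S₀ : ShortComplex X.Modules :=
    ShortComplex.mk (incl hle) (cokernel.π (incl hle)) (cokernel.condition _)
  have hS₀ : S₀.ShortExact := shortExact_cokernel (incl hle)
  have hS := CurveTens.shortExact_tR hLm S₀ hS₀
  have hOc := CohDevH8.isCoh_structureModule X
  have hI1 : Coh.IsCoh (ClSub.idealMod (I ^ (a + 1))) :=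
    CohKerH8.isCoh_kernel hOc (isCoh_quotMod k X (I ^ (a + 1))) (ClSub.toSubscheme (I ^ (a + 1)))
  have hI2 : Coh.IsCoh (ClSub.idealMod (I ^ a)) :=
    CohKerH8.isCoh_kernel hOc (isCoh_quotMod k X (I ^ a)) (ClSub.toSubscheme (I ^ a))
  have hQc : Coh.IsCoh (cokernel (incl hle)) := CohKerH8.isCoh_cokernel hI1 hI2 (incl hle)
  haveI := hQc.1
  haveI := hNc.1
  have hsupp : CohB1.support (CohB1.tensorMod (cokernel (incl hle)) (CohB1.tensorPow L m)) ⊆
      {x} := by
    refine (NodalG0.support_tensorMod_subset_left _ _).trans ?_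
    exact (support_cokernel_incl_subset hle).trans
      (support_pointIdeal_pow_subset X x hx (a + 1))
  have hd : dimC (X := X.toTopCat) ⟨{x}, hx⟩ < ((1 : ℕ) : WithBot ℕ∞) := by
    rw [dimC_eq]
    haveI : Subsingleton ↥({x} : Set X) := (Set.subsingleton_singleton (a := x)).coe_sort
    refine lt_of_le_of_lt
      (topologicalKrullDim_le_zero_of_subsingleton ↥({x} : Set X)) ?_
    exact_mod_cast zero_lt_one
  have h3 : Subsingleton (Coh.HH X (CohB1.tensorMod (cokernel (incl hle))
      (CohB1.tensorPow L m)) 1) :=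
    subsingleton_HH_of_dimC 1 ⟨{x}, hx⟩ hd _ hsupp 1 le_rfl
  have hsurj := surjective_HHlin_f k _ hS 1 h3
  exact @Function.Surjective.nontrivial _ _ h _ hsurj

end Main2

end Snap9
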