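import Mathlib
import Groth.Prelude
import Groth.Agent.Lib.Snap37_helper9
import Groth.Agent.Lib.Tens23_helper8
import Groth.Agent.Lib.TensPowApi_helper9
import Groth.Agent.Lib.Horrocks6_helper9

/-!
# Sections of the powers of a big invertible module (S17587) (helper9).
APPEND-ONLY once landed.
-/

set_option autoImplicit false
universe u
open CategoryTheory CategoryTheory.Limits AlgebraicGeometry Opposite TopologicalSpace TensorProduct

namespace Snap9

open Groth.Agent.TensInv Groth.Agent.Lib.GVanH2 Groth.Agent.ProjFin QcqsLoc QCohExtn GenLocH8 TensH8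
  SerreCrit FLFH8

section Generic

variable {X : Scheme.{u}}

/-- a section generating an invertible module somewhere is nonzero -/
theorem ne_zero_of_genAt {P : X.Modules} (hP : PicF.IsInvertible P)
    (s : Coh.structureModule X ⟶ P) {x : X} (h : CurveLin.GenAt P s x) : s ≠ 0 := by
  rintro rfl
  obtain ⟨W, hW, hxW, e, he⟩ := exists_isGen hP x
  have hf : ap (0 : Coh.structureModule X ⟶ P) W (toM (1 : Γ(X, W))) = (0 : Γ(X, W)) • e := by
    rw [zero_smul]
    rfl
  rw [CurvePt.genAt_iff_mem_basicOpen _ he hf hxW] at h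
  rw [Scheme.basicOpen_zero] at h
  exact h

/-- a nonzero section of an invertible module on an integral scheme generates it at the generic
point -/
theorem genAt_genericPoint_of_ne_zero [IsIntegral X] {P : X.Modules} (hP : PicF.IsInvertible P)
    (s : Coh.structureModule X ⟶ P) (hs : s ≠ 0) : CurveLin.GenAt P s (genericPoint X) := by
  obtain ⟨W, hW, hxW, e, he⟩ := exists_isGen hP (genericPoint X)
  obtain ⟨f, hf⟩ := he.exists_coef (ap s W (toM (1 : Γ(X, W))))
  rw [CurvePt.genAt_iff_mem_basicOpen s he hf hxW]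
  have hf0 : f ≠ 0 := by
    rintro rfl
    apply hs
    exact CurveDeg.hom_eq_zero_of_ap_gen TensH8.isInvertible_structureModule hP s
      ⟨genericPoint X, hxW⟩ (TensH8.isGen_one W) (by rw [hf, zero_smul])
  have hne : X.basicOpen f ≠ ⊥ := fun h => hf0 ((basicOpen_eq_bot_iff f).mp h)
  have hne' : ((X.basicOpen f : X.Opens) : Set X).Nonempty := by
    by_contra hcon
    apply hne
    ext y
    simp only [Opens.coe_bot, Set.mem_empty_iff_false, iff_false]
    intro hy
    exact hcon ⟨y, hy⟩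
  exact ((genericPoint_spec X).mem_open_set_iff (X.basicOpen f).isOpen).mpr
    (by rwa [Set.univ_inter])

/-- a nonzero section gives a nonzero class in `H^0` -/
theorem nontrivial_HH0_of_hom_ne_zero {F : X.Modules} (t : Coh.structureModule X ⟶ F)
    (ht : t ≠ 0) : Nontrivial (Coh.HH X F 0) := by
  have h1 : ap t ⊤ (toM (1 : Γ(X, ⊤))) ≠ 0 := fun h => ht (CurveLin.hom_eq_zero_of_ap_one t h)
  haveI : Nontrivial Γ(F, ⊤) := ⟨⟨_, 0, h1⟩⟩
  exact (Groth.Agent.NegPow.h0 F).toEquiv.nontrivial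

end Generic

section Semigroup

variable {X : Scheme.{u}} [IsIntegral X]

/-- if `L^p` and `L^q` have nonzero sections, so has `L^(p a + q b)` -/
theorem exists_section_combination {L : X.Modules} (hL : PicF.IsInvertible L) (p q : ℕ)
    (s : Coh.structureModule X ⟶ CohB1.tensorPow L p) (hs : s ≠ 0)
    (t : Coh.structureModule X ⟶ CohB1.tensorPow L q) (ht : t ≠ 0) (a b : ℕ) :
    ∃ w : Coh.structureModule X ⟶ CohB1.tensorPow L (p * a + q * b), w ≠ 0 := by
  have hLp := isInvertible_tensorPow hL p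
  have hLq := isInvertible_tensorPow hL q
  have gs := genAt_genericPoint_of_ne_zero hLp s hs
  have gt := genAt_genericPoint_of_ne_zero hLq t ht
  have gsa := CurveLin.genAt_powSec s gs a
  have gtb := CurveLin.genAt_powSec t gt b
  obtain ⟨e1⟩ := TensPowH9.tensorPow_mul L p a
  obtain ⟨e2⟩ := TensPowH9.tensorPow_mul L q b
  obtain ⟨e3⟩ := TensPowH9.tensorPow_add L (p * a) (q * b)
  have g1 := (gsa.of_iso e1).tmul (gtb.of_iso e2)
  have g2 := g1.of_iso e3.symm
  exact ⟨_, ne_zero_of_genAt (isInvertible_tensorPow hL _) _ g2⟩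

end Semigroup

section Main

theorem exists_combination (m n : ℕ) (hm : 0 < m) (hn : m * m ≤ n) :
    ∃ a b : ℕ, n = m * a + (m + 1) * b := by
  have hq : n % m ≤ n / m := by
    have h1 : n % m < m := Nat.mod_lt n hm
    have h2 : m ≤ n / m := (Nat.le_div_iff_mul_le hm).mpr hn
    omega
  refine ⟨n / m - n % m, n % m, ?_⟩
  have h3 := Nat.div_add_mod n m
  have h4 : m * (n / m - n % m) = m * (n / m) - m * (n % m) := Nat.mul_sub m _ _
  have h5 : m * (n % m) ≤ m * (n / m) := Nat.mul_le_mul_left m hq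
  rw [h4, add_mul, one_mul]
  omega

variable (k : Type u) [Field k] (X : Scheme.{u}) [X.Over (Spec (CommRingCat.of k))]
  [IsIntegral X] [IsProper (X ↘ Spec (CommRingCat.of k))]

omit [X.Over (Spec (CommRingCat.of k))] [IsProper (X ↘ Spec (CommRingCat.of k))] in
/-- a mono from a globally generated invertible module into `L^m` gives a nonzero section -/
theorem exists_section_of_mono {A P : X.Modules} (hA : PicF.IsInvertible A)
    (hg : Curv2.IsGloballyGenerated A) (φ : A ⟶ P) [Mono φ] :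
    ∃ s : Coh.structureModule X ⟶ P, s ≠ 0 := by
  obtain ⟨σ₀, hσ₀⟩ := GGH8.exists_hom_mem_genLocus hA hg (genericPoint X)
  have hσ₀' : σ₀ ≠ 0 := ne_zero_of_genAt hA σ₀ (CurvePt.genAt_of_mem_genLocus σ₀ hσ₀)
  refine ⟨σ₀ ≫ φ, fun h => hσ₀' ?_⟩
  rw [← cancel_mono φ, h, zero_comp]

omit [X.Over (Spec (CommRingCat.of k))] [IsProper (X ↘ Spec (CommRingCat.of k))] in
/-- twisting a mono from `A ⊗ O` by `L`: a nonzero section of `A ⊗ L` gives one of `P ⊗ L` -/
theorem exists_section_twist {A P L : X.Modules} (hL : PicF.IsInvertible L)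
    (φ : CohB1.tensorMod A (Coh.structureModule X) ⟶ P) [Mono φ]
    (σ : Coh.structureModule X ⟶ CohB1.tensorMod A L) (hσ : σ ≠ 0) :
    ∃ t : Coh.structureModule X ⟶ CohB1.tensorMod P L, t ≠ 0 := by
  have h2 : Mono ((tR L).map φ) := CurveTens.mono_tR hL φ
  refine ⟨(σ ≫ (mapR (rightUnit A).symm L).hom) ≫ (tR L).map φ, fun h => hσ ?_⟩
  have h3 : σ ≫ (mapR (rightUnit A).symm L).hom = 0 :=
    (@cancel_mono _ _ _ _ _ ((tR L).map φ) h2 _ _).mp (h.trans zero_comp.symm)
  exact (cancel_mono (mapR (rightUnit A).symm L).hom).mp (h3.trans zero_comp.symm)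

include k in
/-- **S17587** (over any field) -/
theorem main17587 (H : X.Modules) (hH : CohB1.IsAmple H) (L : X.Modules)
    (hL : PicF.IsInvertible L)
    (hbig : ∀ A : X.Modules, CohB1.IsAmple A →
      ∃ (m : ℕ) (φ : A ⟶ CohB1.tensorPow L m), 0 < m ∧ Mono φ) :
    ∃ m₁ : ℕ, ∀ m : ℕ, m₁ ≤ m → Nontrivial (Coh.HH X (CohB1.tensorPow L m) 0) := by
  haveI : IsLocallyNoetherian X :=
    LocallyOfFiniteType.isLocallyNoetherian (X ↘ Spec (CommRingCat.of k))
  haveI : CompactSpace X :=
    QuasiCompact.compactSpace_of_compactSpace (X ↘ Spec (CommRingCat.of k))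
  obtain ⟨n₀, -, h₀⟩ := TensH8.exists_isAmple_gg_twist hH
    (TensH8.isInvertible_structureModule (X := X))
  obtain ⟨n₁, -, h₁⟩ := TensH8.exists_isAmple_gg_twist hH hL
  obtain ⟨hA₀, hg₀⟩ := h₀ (max n₀ n₁) (le_max_left _ _)
  obtain ⟨hA₁, hg₁⟩ := h₁ (max n₀ n₁) (le_max_right _ _)
  obtain ⟨m, φ, hm, hφ⟩ := hbig _ hA₀
  haveI := hφ
  obtain ⟨s, hs⟩ := exists_section_of_mono X hA₀.1 hg₀ φ
  obtain ⟨σ₁, hσ₁⟩ := GGH8.exists_hom_mem_genLocus hA₁.1 hg₁ (genericPoint X)
  have hσ₁' : σ₁ ≠ 0 := ne_zero_of_genAt hA₁.1 σ₁ (CurvePt.genAt_of_mem_genLocus σ₁ hσ₁)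
  obtain ⟨t, ht⟩ : ∃ t : Coh.structureModule X ⟶ CohB1.tensorPow L (m + 1), t ≠ 0 :=
    exists_section_twist X hL φ σ₁ hσ₁'
  refine ⟨m * m, fun n hn => ?_⟩
  obtain ⟨a, b, rfl⟩ := exists_combination m n hm hn
  obtain ⟨w, hw⟩ := exists_section_combination hL m (m + 1) s hs t ht a b
  exact nontrivial_HH0_of_hom_ne_zero w hw

end Main

section Volume

variable {X : Scheme.{u}}

/-- interchange `(A ⊗ B) ⊗ (C ⊗ D) ≅ (A ⊗ C) ⊗ (B ⊗ D)` -/
noncomputable def interchange (A B C D : X.Modules) :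
    CohB1.tensorMod (CohB1.tensorMod A B) (CohB1.tensorMod C D) ≅
      CohB1.tensorMod (CohB1.tensorMod A C) (CohB1.tensorMod B D) :=
  assoc A B (CohB1.tensorMod C D) ≪≫ mapL A ((assoc B C D).symm ≪≫ mapR (comm B C) D ≪≫
    assoc C B D) ≪≫ (assoc A C (CohB1.tensorMod B D)).symm

/-- `(L ⊗ E)^m ≅ L^m ⊗ E^m` -/
theorem tensorPow_tensorMod (L E : X.Modules) (m : ℕ) :
    Nonempty (CohB1.tensorPow (CohB1.tensorMod L E) m ≅
      CohB1.tensorMod (CohB1.tensorPow L m) (CohB1.tensorPow E m)) := by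
  induction m with
  | zero => exact ⟨(rightUnit (Coh.structureModule X)).symm⟩
  | succ m ih =>
    obtain ⟨e⟩ := ih
    exact ⟨mapR e (CohB1.tensorMod L E) ≪≫ interchange _ _ _ _⟩

/-- multiplication by a monomorphic section, on the left of an invertible module, is a
monomorphism -/
theorem exists_mono_mul {P Q : X.Modules} (hP : PicF.IsInvertible P)
    (t : Coh.structureModule X ⟶ Q) [Mono t] :
    ∃ j : P ⟶ CohB1.tensorMod P Q, Mono j := by
  obtain ⟨P', -, ⟨ε⟩⟩ := Groth.Agent.InvTensP.exists_inverse P hP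
  haveI : (tL P).IsEquivalence := isEquivalence_tL ⟨ε⟩
  have h1 : Mono ((tL P).map t) := inferInstance
  have h2 : Mono (rightUnit P).inv := inferInstance
  exact ⟨(rightUnit P).inv ≫ (tL P).map t, @mono_comp _ _ _ _ _ _ h2 _ h1⟩

end Volume

section Volume2

variable (k : Type u) [Field k] (X : Scheme.{u}) [X.Over (Spec (CommRingCat.of k))]
  [IsIntegral X] [IsProper (X ↘ Spec (CommRingCat.of k))]

/-- `h^0(L^m) ≤ h^0((L ⊗ E)^m)` for `E` with a nonzero section -/
theorem finrank_HH0_le_of_section (L : X.Modules) (hL : PicF.IsInvertible L)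
    (E : X.Modules) (hE : PicF.IsInvertible E) (s : Coh.structureModule X ⟶ E) (hs : s ≠ 0)
    (m : ℕ) :
    Module.finrank k (Coh.HH X (CohB1.tensorPow L m) 0) ≤
      Module.finrank k (Coh.HH X (CohB1.tensorPow (CohB1.tensorMod L E) m) 0) := by
  haveI : IsLocallyNoetherian X :=
    LocallyOfFiniteType.isLocallyNoetherian (X ↘ Spec (CommRingCat.of k))
  have hLm := isInvertible_tensorPow hL m
  have hEm := isInvertible_tensorPow hE m
  have g := CurveLin.genAt_powSec s (genAt_genericPoint_of_ne_zero hE s hs) m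
  have ht : CurveLin.powSec s m ≠ 0 := ne_zero_of_genAt hEm _ g
  haveI : Mono (CurveLin.powSec s m) :=
    CurveDeg.mono_of_ne_zero TensH8.isInvertible_structureModule hEm _ ht
  obtain ⟨j, hj⟩ := exists_mono_mul hLm (CurveLin.powSec s m)
  obtain ⟨e⟩ := tensorPow_tensorMod L E m
  haveI : Mono (j ≫ e.inv) := @mono_comp _ _ _ _ _ j hj e.inv inferInstance
  have hinj : Function.Injective (Canon.HHlin k (j ≫ e.inv) 0) :=
    Groth.Agent.Horrocks.injective_hmap_zero_of_mono (j ≫ e.inv)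
  have hcoh : Coh.IsCoh (CohB1.tensorPow (CohB1.tensorMod L E) m) :=
    ProperFinH9.isCoh_of_isInvertible
      (isInvertible_tensorPow (TensH8.isInvertible_tensorMod hL hE) m)
  haveI := ProperFinH9.finite_HH_of_proper k X _ hcoh 0
  exact LinearMap.finrank_le_finrank_of_injective hinj

/-- **S19807** -/
theorem main19807 (d : ℕ) (L : X.Modules) (hL : PicF.IsInvertible L)
    (E : X.Modules) (hE : PicF.IsInvertible E) (s : Coh.structureModule X ⟶ E) (hs : s ≠ 0) :
    Filter.limsup (fun m : ℕ =>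
        (Module.finrank k (Coh.HH X (CohB1.tensorPow L m) 0) : ENNReal) /
          (m : ENNReal) ^ d) Filter.atTop ≤
      Filter.limsup (fun m : ℕ =>
        (Module.finrank k (Coh.HH X (CohB1.tensorPow (CohB1.tensorMod L E) m) 0) : ENNReal) /
          (m : ENNReal) ^ d) Filter.atTop := by
  apply Filter.limsup_le_limsup
  · refine Filter.Eventually.of_forall (fun m => ?_)
    apply ENNReal.div_le_div_right
    exact_mod_cast finrank_HH0_le_of_section k X L hL E hE s hs m
  · exact Filter.isCoboundedUnder_le_of_le Filter.atTop (x := 0) (fun _ => bot_le)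
  · exact Filter.isBoundedUnder_of ⟨⊤, fun _ => le_top⟩

end Volume2

end Snap9
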