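import Mathlib
import Groth.Prelude
import Groth.Agent.Lib.Snap35_helper9
import Groth.Agent.Lib.CMMul1_helper9

/-!
# Nef invertible modules have nonnegative degree on one-dimensional proper schemes (S17276)
(helper9).
APPEND-ONLY once landed.
-/

set_option autoImplicit false
universe u
open CategoryTheory CategoryTheory.Limits AlgebraicGeometry Opposite TopologicalSpace TensorProduct

namespace Snap9

open Groth.Agent.TensInv Groth.Agent.Lib.GVanH2 Groth.Agent.ProjFin QcqsLoc QCohExtn GenLocH8 TensH8
  SerreCrit FLFH8

section Nef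

variable (k : Type u) [Field k] (X : Scheme.{u}) [X.Over (Spec (CommRingCat.of k))]
  [IsProper (X ↘ Spec (CommRingCat.of k))]

/-- the curve-wise sign condition in terms of point closures -/
theorem altSum_css_nonpos_of_nef (L : X.Modules)
    (hnef : ∀ C : X.IdealSheafData, IsIntegral C.subscheme →
      topologicalKrullDim (C.support : Set X) = 1 →
        0 ≤ Curv2.euler k X (CohB1.tensorMod (ClSub.quotMod C) L) - Curv2.euler k X (ClSub.quotMod C))
    (ξ : X) (hξ : topologicalKrullDim (closure ({ξ} : Set X)) = ((1 : ℕ) : WithBot ℕ∞)) :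
    altSum k X [L] (Cyc.closureStructureSheaf ξ) ≤ 0 := by
  obtain ⟨hint, -⟩ := CohDevH8.exists_isIntegral_subscheme (closure ({ξ} : Set X))
    isClosed_closure ξ rfl
  have hsC : ((IntMult.ptIdeal ξ).support : Set X) = closure ({ξ} : Set X) := by
    unfold IntMult.ptIdeal
    rw [Scheme.IdealSheafData.coe_support_vanishingIdeal]
    rfl
  have h := hnef (IntMult.ptIdeal ξ) hint (by rw [hsC, hξ]; rfl)
  have h2 : altSum k X [L] (Cyc.closureStructureSheaf ξ) =
      Curv2.euler k X (ClSub.quotMod (IntMult.ptIdeal ξ)) -
        Curv2.euler k X (CohB1.tensorMod (ClSub.quotMod (IntMult.ptIdeal ξ)) L) := rfl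
  rw [h2]
  linarith

/-- **a module with nonpositive `altSum` on all curves has nonpositive `altSum` on every coherent
module with support of dimension at most one** -/
theorem altSum_singleton_nonpos (L : X.Modules) (hL : PicF.IsInvertible L)
    (hnef : ∀ ξ : X, topologicalKrullDim (closure ({ξ} : Set X)) = ((1 : ℕ) : WithBot ℕ∞) →
      altSum k X [L] (Cyc.closureStructureSheaf ξ) ≤ 0)
    (F : X.Modules) (hF : Coh.IsCoh F)
    (hsupp : topologicalKrullDim ↥(CohB1.support F) ≤ 1) : altSum k X [L] F ≤ 0 := by
  rw [altSum_eq_finsum_int k X [L] (fun M hM => by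
    rw [List.mem_singleton] at hM; subst hM; exact hL) F hF hsupp]
  rw [← neg_nonneg, ← finsum_neg_distrib]
  apply finsum_nonneg
  intro ξ
  rw [neg_nonneg]
  split_ifs with h
  · exact mul_nonpos_of_nonneg_of_nonpos (by positivity) (hnef ξ h)
  · exact le_rfl

/-- **S17276** -/
theorem main17276 (hdim : topologicalKrullDim X = 1) (L : X.Modules) (hL : PicF.IsInvertible L)
    (hnef : ∀ C : X.IdealSheafData, IsIntegral C.subscheme →
      topologicalKrullDim (C.support : Set X) = 1 →
        0 ≤ Curv2.euler k X (CohB1.tensorMod (ClSub.quotMod C) L) - Curv2.euler k X (ClSub.quotMod C)) :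
    0 ≤ Curv2.deg k X L 1 := by
  have hOcoh := CohDevH8.isCoh_structureModule X
  have hOdim : topologicalKrullDim (CohB1.support (Coh.structureModule X)) ≤ 1 := by
    rw [CohDevH8.support_structureModule]
    exact (((Homeomorph.Set.univ X).isHomeomorph.topologicalKrullDim_eq).trans hdim).le
  have h := altSum_singleton_nonpos k X L hL (altSum_css_nonpos_of_nef k X L hnef)
    (Coh.structureModule X) hOcoh hOdim
  have h2 : altSum k X [L] (Coh.structureModule X) =
      Curv2.euler k X (Coh.structureModule X) -
        Curv2.euler k X (CohB1.tensorMod (Coh.structureModule X) L) := rfl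
  rw [h2, CurveTens.euler_of_iso k X (Groth.Agent.CMMul.unitorL L)] at h
  unfold Curv2.deg
  push_cast
  linarith

end Nef

end Snap9
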