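import Mathlib
import Groth.Prelude
import Groth.Agent.Lib.Snap41_helper9
import Groth.Agent.Lib.Snap38_helper9
import Groth.Agent.Lib.CohIneq_helper9
import Groth.Agent.Lib.TensQC2_helper8

/-!
# Growth of `h^0(F ⊗ L^m)`: it is `O(m^{dim Supp F})` on a proper scheme over a field (helper9).
APPEND-ONLY once landed.
-/

set_option autoImplicit false
universe u
open CategoryTheory CategoryTheory.Limits AlgebraicGeometry Opposite TopologicalSpace TensorProduct

namespace Snap9

open Groth.Agent.TensInv Groth.Agent.Lib.GVanH2 Groth.Agent.ProjFin QcqsLoc QCohExtn GenLocH8 TensH8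
  SerreCrit FLFH8

section Zero

/-- the cohomology of a zero module vanishes -/
theorem subsingleton_HH_of_isZero' {X : Scheme.{u}} (M : X.Modules) (h : IsZero M) (p : ℕ) :
    Subsingleton (Coh.HH X M p) := by
  refine ⟨fun x y => ?_⟩
  have hx : ∀ z : Coh.HH X M p, z = 0 := fun z => by
    have hz : IsZero (Coh.toAb M) := Functor.map_isZero (SerreCrit.TT X) h
    have h1 := Abelian.Ext.comp_mk₀_id (show Abelian.Ext _ (Coh.toAb M) p from z)
    rw [hz.eq_of_src (𝟙 _) 0, Abelian.Ext.mk₀_zero, Abelian.Ext.comp_zero] at h1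
    exact h1.symm
  rw [hx x, hx y]

/-- tensoring a zero module gives a zero module -/
theorem isZero_tensorMod_of_isZero {X : Scheme.{u}} {Q : X.Modules} (N : X.Modules)
    (h : IsZero Q) : IsZero (CohB1.tensorMod Q N) :=
  Functor.map_isZero (tR N) h

end Zero

section Arith

/-- the arithmetic of the recursion `h(m₀ + m) ≤ h(m) + C (m+1)^{e-1}` -/
theorem growth_of_recursion (h : ℕ → ℕ) (m₀ : ℕ) (hm₀ : 0 < m₀) (e CQ : ℕ) (he : e = 0 → CQ = 0)
    (hrec : ∀ m, h (m₀ + m) ≤ h m + CQ * (m + 1) ^ (e - 1)) :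
    ∃ C : ℕ, ∀ m, h m ≤ C * (m + 1) ^ e := by
  set B := ∑ r ∈ Finset.range m₀, h r with hB
  have hBr : ∀ r, r < m₀ → h r ≤ B := fun r hr =>
    Finset.single_le_sum (f := h) (fun _ _ => Nat.zero_le _) (Finset.mem_range.mpr hr)
  refine ⟨B + CQ, fun m => ?_⟩
  induction m using Nat.strong_induction_on with
  | _ m IH =>
    by_cases hm : m < m₀
    · calc h m ≤ B := hBr m hm
        _ ≤ B + CQ := Nat.le_add_right _ _
        _ ≤ (B + CQ) * (m + 1) ^ e := Nat.le_mul_of_pos_right _ (by positivity)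
    · obtain ⟨m', rfl⟩ : ∃ m', m = m₀ + m' := ⟨m - m₀, by omega⟩
      have h1 := hrec m'
      have h2 := IH m' (by omega)
      rcases Nat.eq_zero_or_pos e with he0 | hepos
      · subst he0
        rw [he rfl] at h1 h2 ⊢
        simp only [pow_zero, mul_one, zero_mul, add_zero] at h1 h2 ⊢
        exact h1.trans h2
      · obtain ⟨e', rfl⟩ : ∃ e', e = e' + 1 := ⟨e - 1, by omega⟩
        simp only [Nat.add_sub_cancel] at h1
        have h3 : (m' + 1) ^ (e' + 1) + (m' + 1) ^ e' ≤ (m₀ + m' + 1) ^ (e' + 1) := by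
          calc (m' + 1) ^ (e' + 1) + (m' + 1) ^ e' = (m' + 1) ^ e' * (m' + 2) := by ring
            _ ≤ (m' + 2) ^ e' * (m' + 2) :=
                Nat.mul_le_mul_right _ (Nat.pow_le_pow_left (by omega) _)
            _ = (m' + 2) ^ (e' + 1) := by ring
            _ ≤ (m₀ + m' + 1) ^ (e' + 1) := Nat.pow_le_pow_left (by omega) _
        calc h (m₀ + m') ≤ h m' + CQ * (m' + 1) ^ e' := h1
          _ ≤ (B + CQ) * (m' + 1) ^ (e' + 1) + CQ * (m' + 1) ^ e' := by omega
          _ ≤ (B + CQ) * (m' + 1) ^ (e' + 1) + (B + CQ) * (m' + 1) ^ e' :=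
              Nat.add_le_add_left (Nat.mul_le_mul_right _ (Nat.le_add_left _ _)) _
          _ = (B + CQ) * ((m' + 1) ^ (e' + 1) + (m' + 1) ^ e') := by ring
          _ ≤ (B + CQ) * (m₀ + m' + 1) ^ (e' + 1) := Nat.mul_le_mul_left _ h3

end Arith

section Integral

variable (k : Type u) [Field k] (Z : Scheme.{u}) [Z.Over (Spec (CommRingCat.of k))]
  [IsProper (Z ↘ Spec (CommRingCat.of k))]

/-- left exactness of `H^0` in terms of dimensions, after tensoring with an invertible module -/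
theorem hh_tR_mid_le {N : Z.Modules} (hN : PicF.IsInvertible N) (S : ShortComplex Z.Modules)
    (hS : S.ShortExact) (h1 : Coh.IsCoh S.X₁) (h2 : Coh.IsCoh S.X₂) (h3 : Coh.IsCoh S.X₃) :
    Module.finrank k (Coh.HH Z (CohB1.tensorMod S.X₂ N) 0) ≤
      Module.finrank k (Coh.HH Z (CohB1.tensorMod S.X₁ N) 0) +
        Module.finrank k (Coh.HH Z (CohB1.tensorMod S.X₃ N) 0) := by
  have hNc := ProperFinH9.isCoh_of_isInvertible hN
  have hS' := CurveTens.shortExact_tR hN S hS
  haveI : Module.Finite k (Coh.HH Z (S.map (tR N)).X₁ 0) :=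
    ProperFinH9.finite_HH_of_proper k Z _ (RelAmpleVanH9.isCoh_tensorMod h1 hNc) 0
  haveI : Module.Finite k (Coh.HH Z (S.map (tR N)).X₂ 0) :=
    ProperFinH9.finite_HH_of_proper k Z _ (RelAmpleVanH9.isCoh_tensorMod h2 hNc) 0
  haveI : Module.Finite k (Coh.HH Z (S.map (tR N)).X₃ 0) :=
    ProperFinH9.finite_HH_of_proper k Z _ (RelAmpleVanH9.isCoh_tensorMod h3 hNc) 0
  exact CohIneqH9.hh_mid_le k (S.map (tR N)) hS' 0

variable [IsIntegral Z]

/-- one step: multiplication by a nonzero section of `M^{m₀}` -/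
theorem hh_step {M : Z.Modules} (hM : PicF.IsInvertible M) (m₀ : ℕ)
    (s : Coh.structureModule Z ⟶ CohB1.tensorPow M m₀) (hs : s ≠ 0) (m : ℕ) :
    Module.finrank k (Coh.HH Z (CohB1.tensorPow M (m₀ + m)) 0) ≤
      Module.finrank k (Coh.HH Z (CohB1.tensorPow M m) 0) +
        Module.finrank k (Coh.HH Z (CohB1.tensorMod (cokernel s) (CohB1.tensorPow M m)) 0) := by
  haveI : IsLocallyNoetherian Z :=
    LocallyOfFiniteType.isLocallyNoetherian (Z ↘ Spec (CommRingCat.of k))
  have hM0 := isInvertible_tensorPow hM m₀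
  have hN := isInvertible_tensorPow hM m
  haveI : Mono s := CurveDeg.mono_of_ne_zero TensH8.isInvertible_structureModule hM0 s hs
  have hOc := CohDevH8.isCoh_structureModule Z
  have hM0c := ProperFinH9.isCoh_of_isInvertible hM0
  let S : ShortComplex Z.Modules := ShortComplex.mk s (cokernel.π s) (cokernel.condition s)
  have hS : S.ShortExact :=
    { exact := ShortComplex.exact_of_g_is_cokernel S (cokernelIsCokernel s)
      mono_f := inferInstanceAs (Mono s)
      epi_g := inferInstanceAs (Epi (cokernel.π s)) }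
  have h := hh_tR_mid_le k Z hN S hS hOc hM0c (CohKerH8.isCoh_cokernel hOc hM0c s)
  obtain ⟨e⟩ := TensPowH9.tensorPow_add M m₀ m
  rw [(Groth.Agent.HypConn.hhEquivOfIso (A := k) e 0).finrank_eq,
    ← (Groth.Agent.HypConn.hhEquivOfIso (A := k)
      (Groth.Agent.CMMul.unitorL (CohB1.tensorPow M m)) 0).finrank_eq]
  exact h

/-- **the integral case of the growth estimate**, given the estimate in smaller dimension -/
theorem growth_integral (e : ℕ) (hdim : topologicalKrullDim Z ≤ (e : WithBot ℕ∞)) {M : Z.Modules}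
    (hM : PicF.IsInvertible M)
    (IH : ∀ Q : Z.Modules, Coh.IsCoh Q →
      topologicalKrullDim ↥(CohB1.support Q) < (e : WithBot ℕ∞) →
      ∃ C : ℕ, (e = 0 → C = 0) ∧ ∀ m, Module.finrank k
        (Coh.HH Z (CohB1.tensorMod Q (CohB1.tensorPow M m)) 0) ≤ C * (m + 1) ^ (e - 1)) :
    ∃ C : ℕ, ∀ m, Module.finrank k (Coh.HH Z (CohB1.tensorPow M m) 0) ≤ C * (m + 1) ^ e := by
  haveI : IsLocallyNoetherian Z :=
    LocallyOfFiniteType.isLocallyNoetherian (Z ↘ Spec (CommRingCat.of k))
  by_cases hex : ∃ m₀, 0 < m₀ ∧ Nontrivial (Coh.HH Z (CohB1.tensorPow M m₀) 0)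
  · obtain ⟨m₀, hm₀, hnt⟩ := hex
    obtain ⟨s, hs⟩ := Groth.Agent.NegPow.exists_hom_ne_zero _ hnt
    have hM0 := isInvertible_tensorPow hM m₀
    have hOc := CohDevH8.isCoh_structureModule Z
    have hM0c := ProperFinH9.isCoh_of_isInvertible hM0
    have hQc : Coh.IsCoh (cokernel s) := CohKerH8.isCoh_cokernel hOc hM0c s
    haveI := hQc.2
    have hcl : IsClosed (CohB1.support (cokernel s)) := SuppFT.isClosed_support (cokernel s)
    have hne := support_cokernel_ne_univ k Z hM0 s hs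
    set Z' : Closeds Z := ⟨CohB1.support (cokernel s), hcl⟩ with hZ'
    have hlt : Z' < ⊤ := lt_top_iff_ne_top.mpr (fun h => hne (congrArg (fun T : Closeds Z =>
      (T : Set Z)) h))
    have hirr : IsIrreducible (((⊤ : Closeds Z)) : Set Z) := by
      rw [Closeds.coe_top]
      exact IrreducibleSpace.isIrreducible_univ Z
    have h1 : dimC (X := Z.toTopCat) (⊤ : Closeds Z) < ((e + 1 : ℕ) : WithBot ℕ∞) :=
      lt_of_le_of_lt ((dimC_top_le (X := Z.toTopCat)).trans hdim)
        (by exact_mod_cast Nat.lt_succ_self e)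
    have h2 := dimC_lt_of_lt (X := Z.toTopCat) hirr hlt e h1
    rw [dimC_eq Z'] at h2
    obtain ⟨CQ, hCQ0, hCQ⟩ := IH (cokernel s) hQc h2
    apply growth_of_recursion
      (fun m => Module.finrank k (Coh.HH Z (CohB1.tensorPow M m) 0)) m₀ hm₀ e CQ hCQ0
    intro m
    exact (hh_step k Z hM m₀ s hs m).trans (Nat.add_le_add_left (hCQ m) _)
  · push Not at hex
    refine ⟨Module.finrank k (Coh.HH Z (CohB1.tensorPow M 0) 0), fun m => ?_⟩
    rcases Nat.eq_zero_or_pos m with rfl | hm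
    · simp
    · haveI : Subsingleton (Coh.HH Z (CohB1.tensorPow M m) 0) := hex m hm
      rw [Module.finrank_zero_of_subsingleton]
      exact Nat.zero_le _

end Integral

section Piece

variable (k : Type u) [Field k] {X : Scheme.{u}} [X.Over (Spec (CommRingCat.of k))]
  [IsProper (X ↘ Spec (CommRingCat.of k))]

/-- the sections of the twists of the direct image of an ideal of a closed subscheme are bounded
by the sections of the powers of the restricted module -/
theorem hh_push_ideal_le {T : Scheme.{u}} [T.Over (Spec (CommRingCat.of k))] (i : T ⟶ X)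
    (hi : i ≫ (X ↘ Spec (CommRingCat.of k)) = T ↘ Spec (CommRingCat.of k))
    [IsClosedImmersion i] {L : X.Modules} (hL : PicF.IsInvertible L)
    (I : T.Modules) (ι : I ⟶ Coh.structureModule T) [Mono ι] (hI : Coh.IsQCoh I) (m : ℕ) :
    Module.finrank k (Coh.HH X (CohB1.tensorMod ((Scheme.Modules.pushforward i).obj I)
      (CohB1.tensorPow L m)) 0) ≤
      Module.finrank k (Coh.HH T (CohB1.tensorPow ((Scheme.Modules.pullback i).obj L) m) 0) := by
  haveI : IsProper (T ↘ Spec (CommRingCat.of k)) := by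
    rw [← hi]
    infer_instance
  haveI : IsLocallyNoetherian T :=
    LocallyOfFiniteType.isLocallyNoetherian (T ↘ Spec (CommRingCat.of k))
  have hLm := isInvertible_tensorPow hL m
  have hflf := TensH8.isFinLocFree_of_isInvertible hLm
  set P := (Scheme.Modules.pullback i).obj (CohB1.tensorPow L m) with hP
  have hPinv : PicF.IsInvertible P := TensH8.isInvertible_pullback i hLm
  have hPc := ProperFinH9.isCoh_of_isInvertible hPinv
  haveI : P.IsQuasicoherent := hPc.1
  haveI : I.IsQuasicoherent := hI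
  haveI : (CohB1.tensorMod P I).IsQuasicoherent := TensQCH8.isQuasicoherent_tensorMod P I
  have e1 : CohB1.tensorMod ((Scheme.Modules.pushforward i).obj I) (CohB1.tensorPow L m) ≅
      (Scheme.Modules.pushforward i).obj (CohB1.tensorMod P I) :=
    comm _ _ ≪≫ (PFormH9.projIso i (CohB1.tensorPow L m) hflf).app I
  rw [(Groth.Agent.HypConn.hhEquivOfIso (A := k) e1 0).finrank_eq,
    (Groth.Agent.PushEdgeNat.pushEdgeEquiv i hi (CohB1.tensorMod P I) 0).finrank_eq]
  obtain ⟨e2⟩ := DegPull.nonempty_pullback_tensorPow_iso i hL m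
  have hm1 : Mono ((tR P).map ι) := CurveTens.mono_tR hPinv ι
  have hm2 : Mono ((tR P).map ι ≫ (Groth.Agent.CMMul.unitorL P).hom ≫ e2.hom) :=
    @mono_comp _ _ _ _ _ _ hm1 _ inferInstance
  haveI : Mono ((comm P I).hom ≫ (tR P).map ι ≫ (Groth.Agent.CMMul.unitorL P).hom ≫ e2.hom) :=
    @mono_comp _ _ _ _ _ _ inferInstance _ hm2
  have hinj : Function.Injective (Canon.HHlin k
      ((comm P I).hom ≫ (tR P).map ι ≫ (Groth.Agent.CMMul.unitorL P).hom ≫ e2.hom) 0) :=
    Groth.Agent.Horrocks.injective_hmap_zero_of_mono _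
  have hcoh : Coh.IsCoh (CohB1.tensorPow ((Scheme.Modules.pullback i).obj L) m) :=
    ProperFinH9.isCoh_of_isInvertible
      (isInvertible_tensorPow (TensH8.isInvertible_pullback i hL) m)
  haveI := ProperFinH9.finite_HH_of_proper k T _ hcoh 0
  exact LinearMap.finrank_le_finrank_of_injective hinj

end Piece

section Main

variable (k : Type u) [Field k]

/-- the growth estimate at level `e` -/
def Growth (e : ℕ) : Prop :=
  ∀ (X : Scheme.{u}) [X.Over (Spec (CommRingCat.of k))]
    [IsProper (X ↘ Spec (CommRingCat.of k))] (L : X.Modules), PicF.IsInvertible L →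
    ∀ F : X.Modules, Coh.IsCoh F →
    topologicalKrullDim ↥(CohB1.support F) ≤ (e : WithBot ℕ∞) →
    ∃ C : ℕ, ∀ m : ℕ, Module.finrank k
      (Coh.HH X (CohB1.tensorMod F (CohB1.tensorPow L m)) 0) ≤ C * (m + 1) ^ e

/-- the inductive step -/
theorem growth_step (e : ℕ)
    (IH : ∀ (Z : Scheme.{u}) [Z.Over (Spec (CommRingCat.of k))]
      [IsProper (Z ↘ Spec (CommRingCat.of k))] (M : Z.Modules), PicF.IsInvertible M →
      ∀ Q : Z.Modules, Coh.IsCoh Q →
      topologicalKrullDim ↥(CohB1.support Q) < (e : WithBot ℕ∞) →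
      ∃ C : ℕ, (e = 0 → C = 0) ∧ ∀ m, Module.finrank k
        (Coh.HH Z (CohB1.tensorMod Q (CohB1.tensorPow M m)) 0) ≤ C * (m + 1) ^ (e - 1)) :
    Growth k e := by
  intro X _ _ L hL F hF hdimF
  haveI : IsLocallyNoetherian X :=
    LocallyOfFiniteType.isLocallyNoetherian (X ↘ Spec (CommRingCat.of k))
  haveI : CompactSpace X :=
    QuasiCompact.compactSpace_of_compactSpace (X ↘ Spec (CommRingCat.of k))
  haveI : IsNoetherian X := {}
  let K : X.Modules → Prop := fun F =>
    topologicalKrullDim ↥(CohB1.support F) ≤ (e : WithBot ℕ∞) →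
    ∃ C : ℕ, ∀ m : ℕ, Module.finrank k
      (Coh.HH X (CohB1.tensorMod F (CohB1.tensorPow L m)) 0) ≤ C * (m + 1) ^ e
  have hiso : ∀ M N : X.Modules, Nonempty (M ≅ N) → K M → K N := by
    rintro M N ⟨ε⟩ hM hdN
    have hsub : CohB1.support M ⊆ CohB1.support N := CohDevH8.support_subset_of_mono ε.hom
    obtain ⟨C, hC⟩ := hM
      ((Topology.IsEmbedding.inclusion hsub).isInducing.topologicalKrullDim_le.trans hdN)
    refine ⟨C, fun m => ?_⟩
    rw [← (Groth.Agent.HypConn.hhEquivOfIso (A := k) (mapR ε (CohB1.tensorPow L m)) 0).finrank_eq]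
    exact hC m
  have h0 : ∀ M : X.Modules, IsZero M → K M := by
    intro M hM _
    refine ⟨0, fun m => ?_⟩
    have hz : IsZero (CohB1.tensorMod M (CohB1.tensorPow L m)) :=
      Functor.map_isZero (tR (CohB1.tensorPow L m)) hM
    haveI := subsingleton_HH_of_isZero' _ hz 0
    rw [Module.finrank_zero_of_subsingleton]
    exact Nat.zero_le _
  have hext : ∀ S : ShortComplex X.Modules, S.ShortExact → Coh.IsCoh S.X₁ → Coh.IsCoh S.X₂ →
      Coh.IsCoh S.X₃ → K S.X₁ → K S.X₃ → K S.X₂ := by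
    intro S hS c1 c2 c3 k1 k3 hd2
    haveI := hS.mono_f
    haveI := hS.epi_g
    haveI := c2.1
    haveI := c3.1
    have hsub1 : CohB1.support S.X₁ ⊆ CohB1.support S.X₂ := CohDevH8.support_subset_of_mono S.f
    have hsub3 : CohB1.support S.X₃ ⊆ CohB1.support S.X₂ := CohDevH8.support_subset_of_epi S.g
    obtain ⟨C1, hC1⟩ := k1
      ((Topology.IsEmbedding.inclusion hsub1).isInducing.topologicalKrullDim_le.trans hd2)
    obtain ⟨C3, hC3⟩ := k3
      ((Topology.IsEmbedding.inclusion hsub3).isInducing.topologicalKrullDim_le.trans hd2)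
    refine ⟨C1 + C3, fun m => ?_⟩
    have h := hh_tR_mid_le k X (isInvertible_tensorPow hL m) S hS c1 c2 c3
    have h1 := hC1 m
    have h3 := hC3 m
    calc _ ≤ _ := h
      _ ≤ C1 * (m + 1) ^ e + C3 * (m + 1) ^ e := Nat.add_le_add h1 h3
      _ = (C1 + C3) * (m + 1) ^ e := by ring
  have hstep : ∀ (Z : Set X) (hZ : IsClosed Z), IsIrreducible Z → Z ⊆ Set.univ →
      (∀ M : X.Modules, Coh.IsCoh M → CohB1.support M ⊆ Z → CohB1.support M ≠ Z → K M) →
      ∀ F : X.Modules, Coh.IsCoh F →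
        ClSub.KilledByIdeal (Scheme.IdealSheafData.vanishingIdeal ⟨Z, hZ⟩) F → K F := by
    intro Z hZ hZirr _ IH' F hF hk hdF
    haveI := hF.1
    haveI := hF.2
    have hsub : CohB1.support F ⊆ Z := by
      have h1 := CohDevH8.support_subset_of_killed _ F hk
      rwa [Scheme.IdealSheafData.coe_support_vanishingIdeal] at h1
    by_cases hne : CohB1.support F = Z
    swap
    · exact IH' F hF hsub hne hdF
    have hy : closure {hZirr.genericPoint} = Z := hZirr.closure_genericPoint hZ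
    obtain ⟨hint, -⟩ := CohDevH8.exists_isIntegral_subscheme Z hZ _ hy
    refine CohDevH8.ideal_devissage_step K hiso hext Z hZ _ hy ?_ IH' F hF hk hdF
    set J := Scheme.IdealSheafData.vanishingIdeal ⟨Z, hZ⟩ with hJ
    intro I ι hι hqI _
    letI : J.subscheme.Over (Spec (CommRingCat.of k)) :=
      ⟨J.subschemeι ≫ (X ↘ Spec (CommRingCat.of k))⟩
    haveI : IsProper (J.subscheme ↘ Spec (CommRingCat.of k)) :=
      inferInstanceAs (IsProper (J.subschemeι ≫ (X ↘ Spec (CommRingCat.of k))))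
    have hdimT : topologicalKrullDim J.subscheme ≤ (e : WithBot ℕ∞) := by
      apply DegPull.dim_subscheme_le X J
      rw [hJ, Scheme.IdealSheafData.coe_support_vanishingIdeal]
      show topologicalKrullDim ↥Z ≤ _
      rw [← hne]
      exact hdF
    have hMinv := TensH8.isInvertible_pullback J.subschemeι hL
    obtain ⟨C, hC⟩ := growth_integral k J.subscheme e hdimT hMinv
      (fun Q hQ hdQ => IH J.subscheme _ hMinv Q hQ hdQ)
    exact ⟨C, fun m => (hh_push_ideal_le k J.subschemeι rfl hL I ι hqI m).trans (hC m)⟩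
  exact CohDevH8.induction_on_support K hiso h0 hext Set.univ hstep F hF (Set.subset_univ _) hdimF

/-- a coherent module with support of negative dimension is zero -/
theorem isZero_of_dim_support_lt_zero {Z : Scheme.{u}} (Q : Z.Modules) (hQ : Coh.IsCoh Q)
    (hd : topologicalKrullDim ↥(CohB1.support Q) < ((0 : ℕ) : WithBot ℕ∞)) : IsZero Q := by
  haveI := hQ.2
  have hcl : IsClosed (CohB1.support Q) := SuppFT.isClosed_support Q
  have h1 : (⟨CohB1.support Q, hcl⟩ : Closeds Z) = ⊥ :=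
    eq_bot_of_dimC_lt_zero (X := Z.toTopCat) (by rw [dimC_eq]; exact hd)
  apply CohDevH8.isZero_of_support_eq_empty
  exact congrArg (fun T : Closeds Z => (T : Set Z)) h1

/-- **growth of the spaces of sections**: on a proper scheme over a field,
`h^0(F ⊗ L^m) ≤ C (m+1)^e` for `F` coherent with support of dimension at most `e` -/
theorem growth : ∀ e : ℕ, Growth k e
  | 0 => growth_step k 0 (fun Z _ _ M _ Q hQ hd => ⟨0, fun _ => rfl, fun m => by
      have hz : IsZero (CohB1.tensorMod Q (CohB1.tensorPow M m)) :=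
        Functor.map_isZero (tR (CohB1.tensorPow M m)) (isZero_of_dim_support_lt_zero Q hQ hd)
      haveI := subsingleton_HH_of_isZero' _ hz 0
      rw [Module.finrank_zero_of_subsingleton]
      exact Nat.zero_le _⟩)
  | e + 1 => growth_step k (e + 1) (fun Z _ _ M hM Q hQ hd => by
      obtain ⟨C, hC⟩ := growth e Z M hM Q hQ ((withBot_lt_succ_iff _ e).mp hd)
      exact ⟨C, fun h => absurd h (Nat.succ_ne_zero e), hC⟩)

end Main

section Apps

variable (k : Type u) [Field k] (X : Scheme.{u}) [X.Over (Spec (CommRingCat.of k))]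
  [IsProper (X ↘ Spec (CommRingCat.of k))]

/-- **S19801** (no projectivity or integrality needed) -/
theorem main19801 (d : ℕ) (hd : topologicalKrullDim X = d) (L : X.Modules)
    (hL : PicF.IsInvertible L) (F : X.Modules) (hF : Coh.IsCoh F) :
    (fun m : ℕ => (Module.finrank k
      (Coh.HH X (CohB1.tensorMod F (CohB1.tensorPow L m)) 0) : ℝ)) =O[Filter.atTop]
      (fun m : ℕ => (m : ℝ) ^ d) := by
  have hdF : topologicalKrullDim ↥(CohB1.support F) ≤ (d : WithBot ℕ∞) :=
    (Topology.IsInducing.subtypeVal.topologicalKrullDim_le).trans hd.le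
  obtain ⟨C, hC⟩ := growth k d X L hL F hF hdF
  apply Asymptotics.IsBigO.of_bound ((C : ℝ) * 2 ^ d)
  filter_upwards [Filter.eventually_ge_atTop 1] with m hm
  rw [Real.norm_natCast, Real.norm_eq_abs, abs_of_nonneg (by positivity)]
  have h1 : ((Module.finrank k (Coh.HH X (CohB1.tensorMod F (CohB1.tensorPow L m)) 0) : ℕ) : ℝ) ≤
      ((C * (m + 1) ^ d : ℕ) : ℝ) := by exact_mod_cast hC m
  have h2 : ((m : ℝ) + 1) ^ d ≤ (2 * (m : ℝ)) ^ d := by
    apply pow_le_pow_left₀ (by positivity)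
    have : (1 : ℝ) ≤ m := by exact_mod_cast hm
    linarith
  calc _ ≤ ((C * (m + 1) ^ d : ℕ) : ℝ) := h1
    _ = (C : ℝ) * ((m : ℝ) + 1) ^ d := by push_cast; ring
    _ ≤ (C : ℝ) * (2 * (m : ℝ)) ^ d := mul_le_mul_of_nonneg_left h2 (by positivity)
    _ = (C : ℝ) * 2 ^ d * (m : ℝ) ^ d := by rw [mul_pow]; ring

/-- arithmetic: a function growing like `m^d` is not bounded by `b m + C (m+1)^{d-1}` with
`b = 0` -/
theorem exists_pos_of_growth (c : ℝ) (hc : 0 < c) (d C : ℕ) (hC0 : d = 0 → C = 0)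
    (a b : ℕ → ℕ) (hbig : ∀ᶠ n : ℕ in Filter.atTop, c * (n : ℝ) ^ d < (a n : ℝ))
    (hle : ∀ m, a m ≤ b m + C * (m + 1) ^ (d - 1)) : ∃ m, 0 < m ∧ 0 < b m := by
  obtain ⟨N, hN⟩ := exists_nat_ge ((C : ℝ) * 2 ^ (d - 1) / c)
  obtain ⟨m, hm1, hm2⟩ := (hbig.and (Filter.eventually_ge_atTop (N + 1))).exists
  refine ⟨m, by omega, ?_⟩
  by_contra hb
  have hb0 : b m = 0 := by omega
  have h1 := hle m
  rw [hb0, zero_add] at h1
  have h2 : (a m : ℝ) ≤ (C : ℝ) * ((m : ℝ) + 1) ^ (d - 1) := by exact_mod_cast h1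
  rcases Nat.eq_zero_or_pos d with hd0 | hdpos
  · subst hd0
    rw [hC0 rfl] at h2
    simp only [pow_zero, mul_one, Nat.cast_zero, zero_mul] at hm1 h2
    linarith
  · obtain ⟨d', rfl⟩ : ∃ d', d = d' + 1 := ⟨d - 1, by omega⟩
    simp only [Nat.add_sub_cancel] at h2 hN
    have hm1' : (1 : ℝ) ≤ m := by exact_mod_cast (by omega : 1 ≤ m)
    have h3 : ((m : ℝ) + 1) ^ d' ≤ (2 * (m : ℝ)) ^ d' :=
      pow_le_pow_left₀ (by positivity) (by linarith) _
    have h4 : (C : ℝ) * 2 ^ d' ≤ c * m := by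
      have hNm : (N : ℝ) ≤ m := by exact_mod_cast (by omega : N ≤ m)
      have := (div_le_iff₀ hc).mp (hN.trans hNm)
      linarith
    have h5 : (a m : ℝ) ≤ c * (m : ℝ) ^ (d' + 1) := by
      calc (a m : ℝ) ≤ (C : ℝ) * ((m : ℝ) + 1) ^ d' := h2
        _ ≤ (C : ℝ) * (2 * (m : ℝ)) ^ d' := mul_le_mul_of_nonneg_left h3 (by positivity)
        _ = ((C : ℝ) * 2 ^ d') * (m : ℝ) ^ d' := by rw [mul_pow]; ring
        _ ≤ (c * m) * (m : ℝ) ^ d' := mul_le_mul_of_nonneg_right h4 (by positivity)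
        _ = c * (m : ℝ) ^ (d' + 1) := by ring
    linarith

/-- **S17277** -/
theorem main17277 (d : ℕ) (hdim : topologicalKrullDim X = d) (L : X.Modules)
    (hL : PicF.IsInvertible L)
    (hbig : ∃ c : ℝ, 0 < c ∧ ∀ᶠ n : ℕ in Filter.atTop,
      c * (n : ℝ) ^ d < (Module.finrank k (Coh.HH X (CohB1.tensorPow L n) 0) : ℝ))
    (Z : X.IdealSheafData) (hZ : topologicalKrullDim (Z.support : Set X) < d) :
    ∃ m : ℕ, 0 < m ∧
      Nontrivial (Coh.HH X (CohB1.tensorMod (ClSub.idealMod Z) (CohB1.tensorPow L m)) 0) := by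
  haveI : IsLocallyNoetherian X :=
    LocallyOfFiniteType.isLocallyNoetherian (X ↘ Spec (CommRingCat.of k))
  obtain ⟨c, hc, hbig⟩ := hbig
  have hQc := CurveIdeal.isCoh_quotMod Z
  have hIc := CurveIdeal.isCoh_idealMod Z
  have hOc := CohDevH8.isCoh_structureModule X
  have hdQ : topologicalKrullDim ↥(CohB1.support (ClSub.quotMod Z)) < (d : WithBot ℕ∞) := by
    rw [support_quotMod X Z]
    exact hZ
  -- the bound for the quotient
  obtain ⟨C, hC0, hC⟩ : ∃ C : ℕ, (d = 0 → C = 0) ∧ ∀ m, Module.finrank k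
      (Coh.HH X (CohB1.tensorMod (ClSub.quotMod Z) (CohB1.tensorPow L m)) 0) ≤
        C * (m + 1) ^ (d - 1) := by
    rcases Nat.eq_zero_or_pos d with hd0 | hdpos
    · subst hd0
      refine ⟨0, fun _ => rfl, fun m => ?_⟩
      have hz0 : IsZero (ClSub.quotMod Z) := isZero_of_dim_support_lt_zero _ hQc hdQ
      have hz := isZero_tensorMod_of_isZero (CohB1.tensorPow L m) hz0
      haveI := subsingleton_HH_of_isZero' _ hz 0
      rw [Module.finrank_zero_of_subsingleton]
      exact Nat.zero_le _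
    · obtain ⟨d', rfl⟩ : ∃ d', d = d' + 1 := ⟨d - 1, by omega⟩
      obtain ⟨C, hC⟩ := growth k d' X L hL _ hQc ((withBot_lt_succ_iff _ d').mp hdQ)
      exact ⟨C, fun h => absurd h (Nat.succ_ne_zero d'), hC⟩
  obtain ⟨m, hm, hpos⟩ := exists_pos_of_growth c hc d C hC0
    (fun n => Module.finrank k (Coh.HH X (CohB1.tensorPow L n) 0))
    (fun n => Module.finrank k
      (Coh.HH X (CohB1.tensorMod (ClSub.idealMod Z) (CohB1.tensorPow L n)) 0)) hbig
    (fun n => by
      have h : Module.finrank k (Coh.HH X (CohB1.tensorMod (Coh.structureModule X)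
          (CohB1.tensorPow L n)) 0) ≤
          Module.finrank k (Coh.HH X (CohB1.tensorMod (ClSub.idealMod Z)
            (CohB1.tensorPow L n)) 0) +
          Module.finrank k (Coh.HH X (CohB1.tensorMod (ClSub.quotMod Z)
            (CohB1.tensorPow L n)) 0) :=
        hh_tR_mid_le k X (isInvertible_tensorPow hL n) (Groth.Agent.HypSurf.ses Z)
          (Groth.Agent.HypSurf.ses_shortExact Z) hIc hOc hQc
      rw [(Groth.Agent.HypConn.hhEquivOfIso (A := k)
        (Groth.Agent.CMMul.unitorL (CohB1.tensorPow L n)) 0).finrank_eq] at h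
      exact h.trans (Nat.add_le_add_left (hC n) _))
  exact ⟨m, hm, Module.nontrivial_of_finrank_pos (R := k) hpos⟩

end Apps

end Snap9
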