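import Mathlib
import Groth.Prelude
import Groth.Agent.Lib.Snap41_helper9
import Groth.Agent.Lib.Snap22_helper9
import Groth.Agent.Lib.AffDim6_helper8
import Groth.Agent.Lib.ClosHt_helper8
import Groth.Agent.Lib.CycLen8_helper8

/-!
# Nefness and surjective pullback (S16712) (helper9).
APPEND-ONLY once landed.
-/

set_option autoImplicit false
universe u
open CategoryTheory CategoryTheory.Limits AlgebraicGeometry Opposite TopologicalSpace TensorProduct

namespace Snap9

open Groth.Agent.TensInv Groth.Agent.Lib.GVanH2 Groth.Agent.ProjFin QcqsLoc QCohExtn GenLocH8 TensH8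
  SerreCrit FLFH8

section Lift

variable (k : Type u) [Field k] {X X' : Scheme.{u}}
  [X.Over (Spec (CommRingCat.of k))] [X'.Over (Spec (CommRingCat.of k))]
  [IsProper (X ↘ Spec (CommRingCat.of k))] [IsProper (X' ↘ Spec (CommRingCat.of k))]

/-- a point with one-dimensional closure lifts along a surjective morphism to a point with
one-dimensional closure -/
theorem exists_lift_dim_one (f : X' ⟶ X)
    (hf : f ≫ (X ↘ Spec (CommRingCat.of k)) = X' ↘ Spec (CommRingCat.of k)) [Surjective f]
    (ζ : X) (hζ : topologicalKrullDim (closure ({ζ} : Set X)) = ((1 : ℕ) : WithBot ℕ∞)) :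
    ∃ ζ' : X', f ζ' = ζ ∧
      topologicalKrullDim (closure ({ζ'} : Set X')) = ((1 : ℕ) : WithBot ℕ∞) := by
  haveI : IsProper (f ≫ (X ↘ Spec (CommRingCat.of k))) := by rw [hf]; infer_instance
  haveI : IsProper f := IsProper.of_comp f (X ↘ Spec (CommRingCat.of k))
  obtain ⟨x', hx'⟩ := Surjective.surj (f := f) ζ
  subst hx'
  obtain ⟨z, -, hz⟩ := IsClosed.exists_closed_singleton (X := f.fiber (f x')) isClosed_univ
    ⟨f.asFiber x', trivial⟩
  have hz0 : Order.height z = 0 := by
    rw [Order.height_eq_zero]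
    intro y hy
    have hy' : z ⤳ y := hy
    have h1 : y ∈ closure ({z} : Set (f.fiber (f x'))) := hy'.mem_closure
    rw [hz.closure_eq, Set.mem_singleton_iff] at h1
    rw [h1]
  have h1 := Groth.Agent.Lib.AffDimH8.height_fiberι k (X ↘ Spec (CommRingCat.of k)) f (f x') z
  rw [hz0, add_zero] at h1
  refine ⟨f.fiberι (f x') z, Groth.Agent.FibRes2H8.fiberι_mem f (f x') z, ?_⟩
  rw [Groth.Agent.ClosHtH8.topologicalKrullDim_closure_singleton, h1,
    ← Groth.Agent.ClosHtH8.topologicalKrullDim_closure_singleton, hζ]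

end Lift

section Stalk

/-- the direct image of the structure sheaf has nontrivial stalks at points of the range -/
theorem nontrivial_stalk_push_OO {Y X : Scheme.{u}} (h : Y ⟶ X) (y : Y) :
    Nontrivial (((Scheme.Modules.pushforward h).obj (OO Y)).presheaf.stalk (h y)) := by
  rw [← not_subsingleton_iff_nontrivial]
  intro hsub
  obtain ⟨W, hW, hxW, hs⟩ := CurveTens.exists_rF_eq_zero
    ((Scheme.Modules.pushforward h).obj (OO Y)) hsub (V := ⊤) trivial
    (show Γ((Scheme.Modules.pushforward h).obj (OO Y), ⊤) from (1 : Γ(Y, h ⁻¹ᵁ ⊤)))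
  haveI := @Scheme.component_nontrivial Y (h ⁻¹ᵁ W) ⟨⟨y, hxW⟩⟩
  have h2 : (Y.presheaf.map (homOfLE (show h ⁻¹ᵁ W ≤ h ⁻¹ᵁ ⊤ from
      fun _ _ => trivial)).op).hom (1 : Γ(Y, h ⁻¹ᵁ ⊤)) = 0 := hs
  rw [map_one] at h2
  exact one_ne_zero h2

end Stalk

section Key

variable (k : Type u) [Field k] (X X' : Scheme.{u})
  [X.Over (Spec (CommRingCat.of k))] [X'.Over (Spec (CommRingCat.of k))]
  [IsProper (X ↘ Spec (CommRingCat.of k))] [IsProper (X' ↘ Spec (CommRingCat.of k))]

/-- **the degree of a pullback on a curve**: either the curve is contracted and the degree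
vanishes, or the degree is computed by the direct image of the structure sheaf of the curve -/
theorem curveDeg_pullback_cases (g : X' ⟶ X)
    (hg : g ≫ (X ↘ Spec (CommRingCat.of k)) = X' ↘ Spec (CommRingCat.of k))
    (L : X.Modules) (hL : PicF.IsInvertible L)
    (Y : Scheme.{u}) (ι : Y ⟶ X') [IsClosedImmersion ι] [IsIntegral Y]
    (hdim : topologicalKrullDim Y = 1) :
    (IsClosed ({g (ι (genericPoint Y))} : Set X) ∧
      Pic13.curveDeg k (ι ≫ (X' ↘ Spec (CommRingCat.of k)))
        ((Scheme.Modules.pullback ι).obj ((Scheme.Modules.pullback g).obj L)) = 0) ∨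
    (¬ IsClosed ({g (ι (genericPoint Y))} : Set X) ∧ ∃ F : X.Modules, Coh.IsCoh F ∧
      CohB1.support F ⊆ closure ({g (ι (genericPoint Y))} : Set X) ∧
      topologicalKrullDim ↥(CohB1.support F) ≤ 1 ∧
      Nontrivial (F.presheaf.stalk (g (ι (genericPoint Y)))) ∧
      Pic13.curveDeg k (ι ≫ (X' ↘ Spec (CommRingCat.of k)))
        ((Scheme.Modules.pullback ι).obj ((Scheme.Modules.pullback g).obj L)) =
          - altSum k X [L] F) := by
  letI : Y.Over (Spec (CommRingCat.of k)) := ⟨ι ≫ (X' ↘ Spec (CommRingCat.of k))⟩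
  haveI : IsProper (Y ↘ Spec (CommRingCat.of k)) :=
    inferInstanceAs (IsProper (ι ≫ (X' ↘ Spec (CommRingCat.of k))))
  haveI : IsLocallyNoetherian X :=
    LocallyOfFiniteType.isLocallyNoetherian (X ↘ Spec (CommRingCat.of k))
  set h : Y ⟶ X := ι ≫ g with hh_def
  have hh : h ≫ (X ↘ Spec (CommRingCat.of k)) = Y ↘ Spec (CommRingCat.of k) := by
    rw [hh_def, Category.assoc, hg]
    rfl
  haveI : IsProper (h ≫ (X ↘ Spec (CommRingCat.of k))) := by rw [hh]; infer_instance
  haveI : IsProper h := IsProper.of_comp h (X ↘ Spec (CommRingCat.of k))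
  have hdimY : topologicalKrullDim Y ≤ ((1 : ℕ) : WithBot ℕ∞) := by
    rw [hdim]
    rfl
  have hηh : g (ι (genericPoint Y)) = h (genericPoint Y) := rfl
  rw [hηh]
  unfold Pic13.curveDeg
  rw [← euler_eq_eulerCharLE k Y 1 hdimY, ← euler_eq_eulerCharLE k Y 1 hdimY]
  have eL : (Scheme.Modules.pullback ι).obj ((Scheme.Modules.pullback g).obj L) ≅
      (Scheme.Modules.pullback h).obj L := (Scheme.Modules.pullbackComp ι g).app L
  rw [CurveTens.euler_of_iso k Y eL]
  have hcl : ∀ y : Y, h y ∈ closure ({h (genericPoint Y)} : Set X) := by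
    intro y
    have h0 : y ∈ closure ({genericPoint Y} : Set Y) := by
      rw [(genericPoint_spec Y).def]
      trivial
    have := image_closure_subset_closure_image h.continuous ⟨y, h0, rfl⟩
    rwa [Set.image_singleton] at this
  by_cases hη : IsClosed ({h (genericPoint Y)} : Set X)
  · left
    refine ⟨hη, ?_⟩
    have hrange : ∀ U : X.Opens, h (genericPoint Y) ∈ U → Set.range h ⊆ (U : Set X) := by
      rintro U hU _ ⟨y, rfl⟩
      have h1 := hcl y
      rw [hη.closure_eq, Set.mem_singleton_iff] at h1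
      rw [h1]
      exact hU
    obtain ⟨U, hxU, ⟨e⟩⟩ := hL (h (genericPoint Y))
    obtain ⟨a⟩ := nonempty_pullback_iso_unit h L U (hrange U hxU) e
    rw [CurveTens.euler_of_iso k Y a]
    exact sub_self _
  · right
    refine ⟨hη, ?_⟩
    haveI : IsFinite h := isFinite_of_not_isClosed k hdim h hh hη
    have hL' := TensBasis.isFinLocFree_of_rank (FLFH8.finLocFreeOfRank_one_of_isInvertible hL)
    have hF : Coh.IsCoh ((Scheme.Modules.pushforward h).obj (OO Y)) := BirCurve.isCoh_push_OO h
    have hsub := support_pushforward_subset_range h h.isClosedMap.isClosed_range (OO Y)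
    have hsupp : topologicalKrullDim
        ↥(CohB1.support ((Scheme.Modules.pushforward h).obj (OO Y))) ≤ 1 := by
      have h1 := (Topology.IsEmbedding.inclusion hsub).isInducing.topologicalKrullDim_le
      refine h1.trans ?_
      exact dim_range_le_one hdim.le h h.isClosedMap
    refine ⟨(Scheme.Modules.pushforward h).obj (OO Y), hF, ?_, hsupp,
      nontrivial_stalk_push_OO h (genericPoint Y), ?_⟩
    · intro x hx
      obtain ⟨y, rfl⟩ := hsub hx
      exact hcl y
    · rw [DegPull.euler_pullback_eq k h hh L hL', ← BirCurve.euler_push k h hh (OO Y)]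
      have h2 : altSum k X [L] ((Scheme.Modules.pushforward h).obj (OO Y)) =
        Curv2.euler k X ((Scheme.Modules.pushforward h).obj (OO Y)) -
          Curv2.euler k X (CohB1.tensorMod ((Scheme.Modules.pushforward h).obj (OO Y)) L) := rfl
      rw [h2]
      ring

end Key

section Main

variable (k : Type u) [Field k] (X X' : Scheme.{u})
  [X.Over (Spec (CommRingCat.of k))] [X'.Over (Spec (CommRingCat.of k))]
  [IsProper (X ↘ Spec (CommRingCat.of k))] [IsProper (X' ↘ Spec (CommRingCat.of k))]

/-- nefness in terms of the closures of points -/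
theorem nef_iff_css (L : X.Modules) (hL : PicF.IsInvertible L) :
    (∀ C : X.IdealSheafData, IsIntegral C.subscheme →
      topologicalKrullDim (C.support : Set X) = 1 →
        0 ≤ Curv2.euler k X (CohB1.tensorMod (ClSub.quotMod C) L) -
          Curv2.euler k X (ClSub.quotMod C)) ↔
    (∀ ξ : X, topologicalKrullDim (closure ({ξ} : Set X)) = ((1 : ℕ) : WithBot ℕ∞) →
      altSum k X [L] (Cyc.closureStructureSheaf ξ) ≤ 0) := by
  constructor
  · exact altSum_css_nonpos_of_nef k X L
  · intro hQ C _ hdim
    have h := altSum_singleton_nonpos k X L hL hQ (ClSub.quotMod C) (isCoh_quotMod k X C)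
      (by rw [support_quotMod X C, hdim])
    have h2 : altSum k X [L] (ClSub.quotMod C) =
        Curv2.euler k X (ClSub.quotMod C) -
          Curv2.euler k X (CohB1.tensorMod (ClSub.quotMod C) L) := rfl
    rw [h2] at h
    linarith

/-- **S16712** -/
theorem main16712 (f : X' ⟶ X)
    (hf : f ≫ (X ↘ (Spec (CommRingCat.of k))) = X' ↘ (Spec (CommRingCat.of k)))
    [Surjective f] (L : X.Modules) (hL : PicF.IsInvertible L) :
    (∀ C : X.IdealSheafData, IsIntegral C.subscheme →
        topologicalKrullDim (C.support : Set X) = 1 →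
          0 ≤ Curv2.euler k X (CohB1.tensorMod (ClSub.quotMod C) L) -
            Curv2.euler k X (ClSub.quotMod C)) ↔
      (∀ C' : X'.IdealSheafData, IsIntegral C'.subscheme →
        topologicalKrullDim (C'.support : Set X') = 1 →
          0 ≤ Curv2.euler k X' (CohB1.tensorMod (ClSub.quotMod C')
              ((Scheme.Modules.pullback f).obj L)) -
            Curv2.euler k X' (ClSub.quotMod C')) := by
  haveI : IsLocallyNoetherian X :=
    LocallyOfFiniteType.isLocallyNoetherian (X ↘ Spec (CommRingCat.of k))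
  haveI : CompactSpace X :=
    QuasiCompact.compactSpace_of_compactSpace (X ↘ Spec (CommRingCat.of k))
  haveI : IsNoetherian X := {}
  have hfL : PicF.IsInvertible ((Scheme.Modules.pullback f).obj L) :=
    TensH8.isInvertible_pullback f hL
  rw [nef_iff_css k X L hL, nef_iff_css k X' _ hfL]
  constructor
  · intro hQ ζ' hζ'
    obtain ⟨hint, hgen⟩ := CohDevH8.exists_isIntegral_subscheme (closure ({ζ'} : Set X'))
      isClosed_closure ζ' rfl
    rw [altSum_singleton_css k X' _ hfL ζ' hζ']
    haveI : IsIntegral (IntMult.ptIdeal ζ').subscheme := hint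
    have hdimY : topologicalKrullDim (IntMult.ptIdeal ζ').subscheme = 1 := by
      rw [dim_ptIdeal_subscheme, hζ']; rfl
    rcases curveDeg_pullback_cases k X X' f hf L hL (IntMult.ptIdeal ζ').subscheme
      (IntMult.ptIdeal ζ').subschemeι hdimY with ⟨-, h0⟩ | ⟨-, F, hF, -, hsupp, -, h1⟩
    · rw [h0]; simp
    · rw [h1, neg_neg]
      exact altSum_singleton_nonpos k X L hL hQ F hF hsupp
  · intro hQ' ζ hζ
    obtain ⟨ζ', hfζ', hζ'⟩ := exists_lift_dim_one k f hf ζ hζ
    obtain ⟨hint, hgen⟩ := CohDevH8.exists_isIntegral_subscheme (closure ({ζ'} : Set X'))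
      isClosed_closure ζ' rfl
    have h0 := hQ' ζ' hζ'
    rw [altSum_singleton_css k X' _ hfL ζ' hζ'] at h0
    haveI : IsIntegral (IntMult.ptIdeal ζ').subscheme := hint
    have hdimY : topologicalKrullDim (IntMult.ptIdeal ζ').subscheme = 1 := by
      rw [dim_ptIdeal_subscheme, hζ']; rfl
    have hgen' : (IntMult.ptIdeal ζ').subschemeι
        (genericPoint (IntMult.ptIdeal ζ').subscheme) = ζ' := hgen
    rcases curveDeg_pullback_cases k X X' f hf L hL (IntMult.ptIdeal ζ').subscheme
      (IntMult.ptIdeal ζ').subschemeι hdimY with ⟨hcl, -⟩ | ⟨-, F, hF, hsub, hsupp, hnt, h1⟩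
    · exfalso
      rw [hgen', hfζ'] at hcl
      rw [hcl.closure_eq] at hζ
      have h2 := topologicalKrullDim_zero_of_discreteTopology ↥({ζ} : Set X)
      rw [hζ] at h2
      have h3 : ((1 : ℕ) : WithBot ℕ∞) ≤ ((0 : ℕ) : WithBot ℕ∞) := h2
      rw [Nat.cast_le] at h3
      omega
    · rw [hgen', hfζ'] at hsub hnt
      rw [h1, neg_neg] at h0
      have hdζ : topologicalKrullDim ↥(closure ({ζ} : Set X)) ≤ ((1 : ℕ) : WithBot ℕ∞) := hζ.le
      rw [altSum_eq_finsum_int k X [L] (fun M hM => by
        rw [List.mem_singleton] at hM; subst hM; exact hL) F hF hsupp] at h0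
      rw [finsum_eq_single _ ζ] at h0
      · have hζ1 : topologicalKrullDim ↥(closure ({ζ} : Set X)) =
            (([L].length : ℕ) : WithBot ℕ∞) := hζ
        rw [if_pos hζ1] at h0
        have hfl := CycLenH8.isFiniteLength_stalk_of_dim isClosed_closure hdζ hF hsub ζ hζ
        have hn : 0 < (Module.length (X.presheaf.stalk ζ) (F.presheaf.stalk ζ)).toNat := by
          apply Nat.pos_of_ne_zero
          rw [Ne, ENat.toNat_eq_zero, not_or]
          exact ⟨(Module.length_pos_iff.mpr hnt).ne', Module.length_ne_top_iff.mpr hfl⟩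
        by_contra hpos
        push Not at hpos
        have hn' : (0 : ℤ) <
            ((Module.length (X.presheaf.stalk ζ) (F.presheaf.stalk ζ)).toNat : ℤ) := by
          exact_mod_cast hn
        have := mul_pos hn' hpos
        linarith
      · intro x hx
        split_ifs with hdx
        · have hxs : Subsingleton (F.presheaf.stalk x) := by
            by_contra hns
            have hxc : x ∈ closure ({ζ} : Set X) := hsub hns
            have hsp : ζ ⤳ x := specializes_iff_mem_closure.mpr hxc
            exact hx (CycLenH8.eq_of_specializes_of_dim isClosed_closure hdζ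
              (subset_closure rfl) hsp hdx).symm
          rw [Module.length_eq_zero_iff.mpr hxs]
          simp
        · rfl

end Main

end Snap9
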