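import Mathlib
import Groth.Prelude
import Groth.Agent.Lib.Snap46_helper9
import Groth.Agent.Lib.NodalG0a_helper9
import Groth.Agent.Lib.EllNag1_helper9
import Groth.Agent.Lib.CurveAmple2_helper9
import Groth.Agent.Lib.InvTensP2_helper5
import Groth.Agent.Lib.CohIneq_helper9
import Groth.Agent.Lib.Snap42_helper9

/-!
# One-dimensional proper schemes with `H¹(O) = 0`: nef invertible modules have no `H¹` and are
globally generated (S16295, S16296) (helper9).
APPEND-ONLY once landed.
-/

set_option autoImplicit false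
universe u
open CategoryTheory CategoryTheory.Limits AlgebraicGeometry Opposite TopologicalSpace TensorProduct

namespace Snap9

open Groth.Agent.TensInv Groth.Agent.Lib.GVanH2 Groth.Agent.ProjFin QcqsLoc QCohExtn GenLocH8 TensH8
  SerreCrit FLFH8

section Rat

variable (k : Type u) [Field k] (X : Scheme.{u}) [X.Over (Spec (CommRingCat.of k))]
  [IsProper (X ↘ Spec (CommRingCat.of k))]

/-- `χ = h⁰ - h¹` in dimension at most one -/
theorem euler_eq_sub_of_dim_le_one (hdim : topologicalKrullDim X ≤ 1) (F : X.Modules)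
    [F.IsQuasicoherent] :
    Curv2.euler k X F = (Module.finrank k (Coh.HH X F 0) : ℤ) -
      (Module.finrank k (Coh.HH X F 1) : ℤ) := by
  rw [EulerField.euler_eq_sum k X 1 F (fun p hp => by
    obtain ⟨n, rfl⟩ : ∃ n, p = n + 2 := ⟨p - 2, by omega⟩
    exact BirCurve.HH_subsingleton_of_dim_le_one k X hdim F n)]
  simp [Finset.sum_range_succ]
  ring

/-- a nonzero coherent quotient of a nef invertible module has a nonzero section, when
`H¹(O) = 0` in dimension at most one -/
theorem finrank_HH0_pos_of_quotient (hdim : topologicalKrullDim X ≤ 1)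
    (h1 : Subsingleton (Coh.HH X (Coh.structureModule X) 1))
    (N : X.Modules) (hN : PicF.IsInvertible N)
    (hnef : ∀ ξ : X, topologicalKrullDim (closure ({ξ} : Set X)) = ((1 : ℕ) : WithBot ℕ∞) →
      altSum k X [N] (Cyc.closureStructureSheaf ξ) ≤ 0)
    (G : X.Modules) (hG : Coh.IsCoh G) (π : N ⟶ G) [Epi π] (hz : ¬ IsZero G) :
    0 < Module.finrank k (Coh.HH X G 0) := by
  haveI : IsLocallyNoetherian X :=
    LocallyOfFiniteType.isLocallyNoetherian (X ↘ Spec (CommRingCat.of k))
  obtain ⟨N', hN', ⟨ε⟩⟩ := Groth.Agent.InvTensP.exists_inverse N hN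
  have hN'c := ProperFinH9.isCoh_of_isInvertible hN'
  have hNc := ProperFinH9.isCoh_of_isInvertible hN
  set G₀ := CohB1.tensorMod G N' with hG₀
  have hG₀c : Coh.IsCoh G₀ := RelAmpleVanH9.isCoh_tensorMod hG hN'c
  haveI := hG₀c.1
  haveI := hG.1
  haveI : (Coh.structureModule X).IsQuasicoherent := (CohDevH8.isCoh_structureModule X).1
  -- the epimorphism `O ⟶ G₀`
  have hepi : Epi ((tR N').map π) := NodalG0.epi_tR_map N' π
  let p : Coh.structureModule X ⟶ G₀ := ε.inv ≫ (tR N').map π
  haveI : Epi p := @epi_comp _ _ _ _ _ ε.inv inferInstance ((tR N').map π) hepi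
  -- `G ≅ G₀ ⊗ N`
  have eG : CohB1.tensorMod G₀ N ≅ G :=
    assoc G N' N ≪≫ mapL G (comm N' N ≪≫ ε) ≪≫ CurveAmple.unitorR G
  have hG₀z : ¬ IsZero G₀ := by
    intro h
    apply hz
    exact (isZero_tensorMod_of_isZero N h).of_iso eG.symm
  have hp : p ≠ 0 := by
    intro h
    apply hG₀z
    rw [IsZero.iff_id_eq_zero, ← cancel_epi p, h, zero_comp, zero_comp]
  -- `h⁰(G₀) > 0`
  haveI := ProperFinH9.finite_HH_of_proper k X G₀ hG₀c 0
  haveI := ProperFinH9.finite_HH_of_proper k X G hG 0
  have h0 : 0 < Module.finrank k (Coh.HH X G₀ 0) := by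
    rw [Module.finrank_pos_iff_exists_ne_zero]
    refine ⟨CurveIdeal.thetaEquiv k G₀ p, fun h => hp ?_⟩
    exact (CurveIdeal.thetaEquiv k G₀).injective (h.trans (map_zero _).symm)
  -- `h¹(G₀) = 0`
  haveI : Subsingleton (Coh.HH X G₀ 1) := NodalG0.HH1_of_epi k X hdim p h1
  have hχ₀ := euler_eq_sub_of_dim_le_one k X hdim G₀
  rw [Module.finrank_zero_of_subsingleton (M := Coh.HH X G₀ 1), Nat.cast_zero, sub_zero] at hχ₀
  have hχ := euler_eq_sub_of_dim_le_one k X hdim G
  -- nefness
  have hsupp : topologicalKrullDim ↥(CohB1.support G₀) ≤ 1 :=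
    (Topology.IsEmbedding.subtypeVal.isInducing.topologicalKrullDim_le).trans hdim
  have ha := altSum_singleton_nonpos k X N hN hnef G₀ hG₀c hsupp
  have h2 : altSum k X [N] G₀ =
      Curv2.euler k X G₀ - Curv2.euler k X (CohB1.tensorMod G₀ N) := rfl
  rw [h2, CurveTens.euler_of_iso k X eG] at ha
  have : (0 : ℤ) < (Module.finrank k (Coh.HH X G 0) : ℤ) := by
    have h3 : (0 : ℤ) < (Module.finrank k (Coh.HH X G₀ 0) : ℤ) := by exact_mod_cast h0
    have h4 : (0 : ℤ) ≤ (Module.finrank k (Coh.HH X G 1) : ℤ) := Int.natCast_nonneg _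
    linarith
  exact_mod_cast this

/-- **the core induction**: every coherent quotient of a nef invertible module has no `H¹` and is
generated by its global sections -/
theorem rat_core (hdim : topologicalKrullDim X ≤ 1)
    (h1 : Subsingleton (Coh.HH X (Coh.structureModule X) 1))
    (N : X.Modules) (hN : PicF.IsInvertible N)
    (hnef : ∀ ξ : X, topologicalKrullDim (closure ({ξ} : Set X)) = ((1 : ℕ) : WithBot ℕ∞) →
      altSum k X [N] (Cyc.closureStructureSheaf ξ) ≤ 0) :
    ∀ n : ℕ, ∀ G : X.Modules, Coh.IsCoh G → ∀ (π : N ⟶ G), Epi π →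
      Module.finrank k (Coh.HH X G 0) = n →
        Subsingleton (Coh.HH X G 1) ∧ NodalG0.JointlyEpi G := by
  haveI : IsLocallyNoetherian X :=
    LocallyOfFiniteType.isLocallyNoetherian (X ↘ Spec (CommRingCat.of k))
  intro n
  induction n using Nat.strong_induction_on with
  | _ n IH =>
    intro G hG π hπ hn
    haveI := hπ
    by_cases hz : IsZero G
    · exact ⟨subsingleton_HH_of_isZero' G hz 1, fun C c _ => hz.eq_of_src _ _⟩
    · have hpos := finrank_HH0_pos_of_quotient k X hdim h1 N hN hnef G hG π hz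
      haveI := ProperFinH9.finite_HH_of_proper k X G hG 0
      obtain ⟨v, hv⟩ := (Module.finrank_pos_iff_exists_ne_zero (R := k)).mp hpos
      obtain ⟨s, hs⟩ : ∃ s : Coh.structureModule X ⟶ G, CurveIdeal.thetaEquiv k G s = v :=
        ⟨(CurveIdeal.thetaEquiv k G).symm v, LinearEquiv.apply_symm_apply _ _⟩
      have hOc := CohDevH8.isCoh_structureModule X
      have hQc : Coh.IsCoh (cokernel s) := CohKerH8.isCoh_cokernel hOc hG s
      have hIc : Coh.IsCoh (kernel (cokernel.π s)) := CohKerH8.isCoh_kernel hG hQc _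
      haveI := hG.1
      haveI := hQc.1
      haveI := hIc.1
      haveI := hOc.1
      -- `H¹` of the image vanishes
      have hI1 : Subsingleton (Coh.HH X (kernel (cokernel.π s)) 1) :=
        NodalG0.HH1_of_epi k X hdim (Abelian.factorThruImage s) h1
      -- the short exact sequence
      let S : ShortComplex X.Modules :=
        ShortComplex.mk (kernel.ι (cokernel.π s)) (cokernel.π s) (kernel.condition _)
      have hS : S.ShortExact :=
        ShortComplex.ShortExact.mk' (S.exact_of_f_is_kernel (kernelIsKernel (cokernel.π s)))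
          (inferInstanceAs (Mono (kernel.ι (cokernel.π s))))
          (inferInstanceAs (Epi (cokernel.π s)))
      have hsurj : Function.Surjective (Canon.HHlin k (cokernel.π s) 0) :=
        CurveAmple.hmap_g_surjective S hS 0 hI1
      haveI := ProperFinH9.finite_HH_of_proper k X (cokernel s) hQc 0
      -- the dimension drops
      have hlt : Module.finrank k (Coh.HH X (cokernel s) 0) < n := by
        have h2 := LinearMap.finrank_range_add_finrank_ker (Canon.HHlin k (cokernel.π s) 0)
        have h3 : LinearMap.range (Canon.HHlin k (cokernel.π s) 0) = ⊤ :=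
          LinearMap.range_eq_top.mpr hsurj
        have hvk : v ∈ LinearMap.ker (Canon.HHlin k (cokernel.π s) 0) := by
          rw [LinearMap.mem_ker, ← hs, ← EllNag.thetaEquiv_comp, cokernel.condition, map_zero]
        have h4 : 0 < Module.finrank k (LinearMap.ker (Canon.HHlin k (cokernel.π s) 0)) := by
          rw [Module.finrank_pos_iff_exists_ne_zero]
          exact ⟨⟨v, hvk⟩, fun h => hv (congrArg Subtype.val h)⟩
        rw [h3, finrank_top] at h2
        omega
      obtain ⟨hQ1, hQje⟩ := IH _ hlt (cokernel s) hQc (π ≫ cokernel.π s) (epi_comp _ _) rfl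
      refine ⟨NodalG0.HH1_of_coker k X hdim s hQ1 h1, ?_⟩
      intro C c hc
      have h5 : s ≫ c = 0 := hc s
      have h6 : cokernel.π s ≫ cokernel.desc s c h5 = c := cokernel.π_desc s c h5
      have h7 : cokernel.desc s c h5 = 0 := by
        apply hQje
        intro σ''
        obtain ⟨w, hw⟩ := hsurj (CurveIdeal.thetaEquiv k _ σ'')
        obtain ⟨σ, hσ⟩ : ∃ σ : Coh.structureModule X ⟶ G, CurveIdeal.thetaEquiv k G σ = w :=
          ⟨(CurveIdeal.thetaEquiv k G).symm w, LinearEquiv.apply_symm_apply _ _⟩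
        have h8 : σ ≫ cokernel.π s = σ'' := by
          apply (CurveIdeal.thetaEquiv k _).injective
          rw [EllNag.thetaEquiv_comp, hσ]
          exact hw
        rw [← h8, Category.assoc, h6]
        exact hc σ
      rw [← h6, h7, comp_zero]

/-- nefness in the degree form implies the sign condition on closures of points -/
theorem css_nonpos_of_deg_nonneg (L : X.Modules) (hL : PicF.IsInvertible L)
    (hnef : ∀ J : X.IdealSheafData, IsIntegral J.subscheme → topologicalKrullDim J.subscheme = 1 →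
      0 ≤ @Curv2.deg k _ J.subscheme ⟨J.subschemeι ≫ (X ↘ (Spec (CommRingCat.of k)))⟩
        ((Scheme.Modules.pullback J.subschemeι).obj L) 1)
    (ξ : X) (hξ : topologicalKrullDim (closure ({ξ} : Set X)) = ((1 : ℕ) : WithBot ℕ∞)) :
    altSum k X [L] (Cyc.closureStructureSheaf ξ) ≤ 0 := by
  obtain ⟨hint, -⟩ := CohDevH8.exists_isIntegral_subscheme (closure ({ξ} : Set X))
    isClosed_closure ξ rfl
  have hdimY : topologicalKrullDim (IntMult.ptIdeal ξ).subscheme = 1 := by
    rw [dim_ptIdeal_subscheme, hξ]; rfl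
  have h := hnef (IntMult.ptIdeal ξ) hint hdimY
  rw [altSum_singleton_css k X L hL ξ hξ]
  letI : (IntMult.ptIdeal ξ).subscheme.Over (Spec (CommRingCat.of k)) :=
    ⟨(IntMult.ptIdeal ξ).subschemeι ≫ (X ↘ Spec (CommRingCat.of k))⟩
  haveI : IsProper ((IntMult.ptIdeal ξ).subscheme ↘ Spec (CommRingCat.of k)) :=
    inferInstanceAs (IsProper ((IntMult.ptIdeal ξ).subschemeι ≫ (X ↘ Spec (CommRingCat.of k))))
  have hdimY' : topologicalKrullDim (IntMult.ptIdeal ξ).subscheme ≤ ((1 : ℕ) : WithBot ℕ∞) := by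
    rw [hdimY]; rfl
  unfold Pic13.curveDeg
  rw [← euler_eq_eulerCharLE k (IntMult.ptIdeal ξ).subscheme 1 hdimY',
    ← euler_eq_eulerCharLE k (IntMult.ptIdeal ξ).subscheme 1 hdimY']
  unfold Curv2.deg at h
  push_cast at h
  linarith

/-- **S16295** -/
theorem main16295 (hdim : topologicalKrullDim X = 1)
    (h1 : Subsingleton (Coh.HH X (Coh.structureModule X) 1))
    (L : X.Modules) (hL : PicF.IsInvertible L)
    (hnef : ∀ J : X.IdealSheafData, IsIntegral J.subscheme → topologicalKrullDim J.subscheme = 1 →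
      0 ≤ @Curv2.deg k _ J.subscheme ⟨J.subschemeι ≫ (X ↘ (Spec (CommRingCat.of k)))⟩
        ((Scheme.Modules.pullback J.subschemeι).obj L) 1) :
    Subsingleton (Coh.HH X L 1) ∧ Curv2.IsGloballyGenerated L := by
  have hLc := ProperFinH9.isCoh_of_isInvertible hL
  obtain ⟨h, hje⟩ := rat_core k X hdim.le h1 L hL (css_nonpos_of_deg_nonneg k X L hL hnef) _ L hLc
    (𝟙 L) inferInstance rfl
  exact ⟨h, NodalG0.gg_of_jointlyEpi hje⟩

/-- **S16296** -/
theorem main16296 (hdim : topologicalKrullDim X = 1)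
    (h1 : Subsingleton (Coh.HH X (Coh.structureModule X) 1))
    (L : X.Modules) (hL : PicF.IsInvertible L)
    (hnef : ∀ J : X.IdealSheafData, IsIntegral J.subscheme → topologicalKrullDim J.subscheme = 1 →
      0 ≤ @Curv2.deg k _ J.subscheme ⟨J.subschemeι ≫ (X ↘ (Spec (CommRingCat.of k)))⟩
        ((Scheme.Modules.pullback J.subschemeι).obj L) 1) :
    (Module.finrank k (Coh.HH X L 0) : ℤ) =
      Module.finrank k (Coh.HH X (Coh.structureModule X) 0) + Curv2.deg k X L 1 := by
  obtain ⟨h, -⟩ := main16295 k X hdim h1 L hL hnef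
  haveI := (ProperFinH9.isCoh_of_isInvertible hL).1
  haveI : (Coh.structureModule X).IsQuasicoherent := (CohDevH8.isCoh_structureModule X).1
  have e1 := euler_eq_sub_of_dim_le_one k X hdim.le L
  have e2 := euler_eq_sub_of_dim_le_one k X hdim.le (Coh.structureModule X)
  rw [Module.finrank_zero_of_subsingleton (M := Coh.HH X L 1), Nat.cast_zero, sub_zero] at e1
  rw [Module.finrank_zero_of_subsingleton (M := Coh.HH X (Coh.structureModule X) 1),
    Nat.cast_zero, sub_zero] at e2
  unfold Curv2.deg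
  push_cast
  rw [e1, e2]
  ring

end Rat

end Snap9
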