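import Mathlib
import Groth.Prelude
import Groth.Agent.Lib.FibDim3_helper2
import Groth.Agent.Lib.RpushAffine1_helper9

/-!
# Vanishing of cohomology above the fibre dimension over an affine Noetherian base (helper9)

APPEND-ONLY once landed.
-/

set_option autoImplicit false
universe u
open CategoryTheory CategoryTheory.Limits AlgebraicGeometry Opposite TopologicalSpace

namespace Snap9

/-- for `X` proper over `Spec A` with `A` Noetherian and fibres of dimension at most `d`, coherent
modules have no cohomology in degrees above `d` -/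
theorem subsingleton_HH_of_fibre_dim {A : Type u} [CommRing A] [IsNoetherianRing A]
    {X : Scheme.{u}} (f : X ⟶ Spec (CommRingCat.of A)) [IsProper f] (d : ℕ)
    (hfib : ∀ y : ↥(Spec (CommRingCat.of A)), topologicalKrullDim ↥(f.fiber y) ≤ d)
    (M : X.Modules) (hM : Coh.IsCoh M) (p : ℕ) (hp : d < p) :
    Subsingleton (Coh.HH X M p) := by
  haveI := hM.1
  obtain ⟨e⟩ := RpushAffine.main f M p
  suffices h : Subsingleton ↑(((Coh.RpushAb f p).obj (Coh.toAb M)).obj.obj (op ⊤)) from
    e.toEquiv.subsingleton
  refine ⟨fun s t => ?_⟩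
  apply TopCat.Presheaf.section_ext ((Coh.RpushAb f p).obj (Coh.toAb M)) ⊤ s t
  intro y hy
  have hz := Groth.Agent.Lib.FibDimH2.stalk_isZero f y d (hfib y) M hM p hp
  haveI := AddCommGrpCat.subsingleton_of_isZero hz
  exact Subsingleton.elim _ _

end Snap9
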