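import Mathlib
import Groth.Prelude
import Groth.Agent.Lib.Snap50_helper9
import Groth.Agent.Lib.FibVan4_helper2
import Groth.Agent.Lib.ClImmTw1_helper9
import Groth.Agent.Lib.Snap47_helper9
import Groth.Agent.Lib.AmpleComp2_helper9
import Groth.Agent.Lib.BirCurve3_helper9
import Groth.Agent.Lib.CurveTens4_helper9

/-!
# The closed fibre over a maximal ideal: `F/mF` versus `ι_* ι^* F` (helper9)

APPEND-ONLY once landed.
-/

set_option autoImplicit false
universe u
open CategoryTheory CategoryTheory.Limits AlgebraicGeometry Opposite TopologicalSpace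

namespace Snap9

open Groth.Agent.Lib.FibVanH2 Groth.Agent.HHVan

section Fib

variable (A κ : Type u) [CommRing A] [CommRing κ] [Algebra A κ] (m : Ideal A)
  {X Z : Scheme.{u}} [X.Over (Spec (CommRingCat.of A))] [Z.Over (Spec (CommRingCat.of κ))]
  (ι : Z ⟶ X)
  (hsq : IsPullback ι (Z ↘ Spec (CommRingCat.of κ)) (X ↘ Spec (CommRingCat.of A))
    (Spec.map (CommRingCat.ofHom (algebraMap A κ))))

include hsq in
/-- `F/mF ≅ ι_* ι^* F`, compatibly with the projection and the unit -/
theorem exists_theta (hsurj : Function.Surjective (algebraMap A κ))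
    (hker : RingHom.ker (algebraMap A κ) = m) (F : X.Modules) [F.IsQuasicoherent] :
    ∃ θ : Formal.modPow m 1 F ≅
        (Scheme.Modules.pushforward ι).obj ((Scheme.Modules.pullback ι).obj F),
      Formal.modPowπ m 1 F ≫ θ.hom =
        (Scheme.Modules.pullbackPushforwardAdjunction ι).unit.app F := by
  haveI : IsClosedImmersion ι := isClosedImmersion_ι A κ ι hsq hsurj
  have hk := killedByIdeal_modPow_one A κ m ι hsq hsurj hker F
  haveI := ClPushH8.isIso_unit ι (Formal.modPow m 1 F) hk
  have hm : ∀ c ∈ m, algebraMap A κ c = 0 := fun c hc => by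
    rw [← hker] at hc
    exact hc
  haveI := isIso_pullback_map_modPowπ A κ m ι hsq F hm
  refine ⟨asIso ((Scheme.Modules.pullbackPushforwardAdjunction ι).unit.app
      (Formal.modPow m 1 F)) ≪≫
    (Scheme.Modules.pushforward ι).mapIso
      (asIso ((Scheme.Modules.pullback ι).map (Formal.modPowπ m 1 F))).symm, ?_⟩
  have hnat := (Scheme.Modules.pullbackPushforwardAdjunction ι).unit.naturality
    (Formal.modPowπ m 1 F)
  simp only [Functor.id_obj, Functor.id_map, Functor.comp_obj, Functor.comp_map] at hnat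
  rw [Iso.trans_hom, asIso_hom, ← Category.assoc, hnat, Category.assoc, Functor.mapIso_hom,
    Iso.symm_hom, asIso_inv, ← Functor.map_comp, IsIso.hom_inv_id,
    CategoryTheory.Functor.map_id, Category.comp_id]

include hsq in
/-- vanishing for `F/mF` gives vanishing on the fibre -/
theorem subsingleton_HH_fibre_of_modPow_one (hsurj : Function.Surjective (algebraMap A κ))
    (hker : RingHom.ker (algebraMap A κ) = m) (F : X.Modules) [F.IsQuasicoherent] (q : ℕ)
    (h : Subsingleton (Coh.HH X (Formal.modPow m 1 F) q)) :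
    Subsingleton (Coh.HH Z ((Scheme.Modules.pullback ι).obj F) q) := by
  haveI : IsClosedImmersion ι := isClosedImmersion_ι A κ ι hsq hsurj
  obtain ⟨θ, -⟩ := exists_theta A κ m ι hsq hsurj hker F
  have h2 : Subsingleton (Coh.HH X ((Scheme.Modules.pushforward ι).obj
      ((Scheme.Modules.pullback ι).obj F)) q) := subsingleton_of_iso θ q h
  exact Groth.Agent.ClImmTw.subsingleton_HH_of_push ι _ q h2

end Fib

end Snap9

namespace Snap9

section Dim

/-- the fibre over a maximal ideal, as a pullback along `Spec (A/𝔪)`, has the dimension of the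
scheme-theoretic fibre -/
theorem dim_fibre_le {A : Type u} [CommRing A] {X : Scheme.{u}}
    (f : X ⟶ Spec (CommRingCat.of A)) (𝔪 : Ideal A) [h𝔪 : 𝔪.IsMaximal] (d : ℕ)
    (hfib : ∀ y : ↥(Spec (CommRingCat.of A)), topologicalKrullDim ↥(f.fiber y) ≤ d) :
    topologicalKrullDim
      ↥(pullback f (Spec.map (CommRingCat.ofHom (algebraMap A (A ⧸ 𝔪))))) ≤ d := by
  set g := Spec.map (CommRingCat.ofHom (algebraMap A (A ⧸ 𝔪))) with hg
  haveI : IsClosedImmersion g :=
    IsClosedImmersion.spec_of_surjective _ Ideal.Quotient.mk_surjective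
  haveI : IsClosedImmersion (pullback.fst f g) := inferInstance
  let y : ↥(Spec (CommRingCat.of A)) := (⟨𝔪, h𝔪.isPrime⟩ : PrimeSpectrum A)
  have hrg : Set.range g = {y} := by
    have h1 := _root_.range_comap_of_surjective _ (algebraMap A (A ⧸ 𝔪))
      Ideal.Quotient.mk_surjective
    rw [Ideal.Quotient.algebraMap_eq, Ideal.mk_ker, PrimeSpectrum.zeroLocus_eq_singleton] at h1
    exact h1
  have hrange : Set.range (pullback.fst f g) = f ⁻¹' {y} := by
    rw [Scheme.Pullback.range_fst, hrg]
  let h : ↥(pullback f g) ≃ₜ ↥(f.fiber y) :=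
    ((pullback.fst f g).isClosedEmbedding.isEmbedding.toHomeomorph.trans
      (Homeomorph.setCongr hrange)).trans (f.fiberHomeo y).symm
  rw [IsHomeomorph.topologicalKrullDim_eq h h.isHomeomorph]
  exact hfib y

end Dim

end Snap9

namespace Snap9

section Nef

variable {A : Type u} [CommRing A] {X : Scheme.{u}} (f : X ⟶ Spec (CommRingCat.of A)) [IsProper f]

/-- relative nefness restricts to nefness on the fibre over a maximal ideal -/
theorem nef_fibre (L : X.Modules) (hL : PicF.IsInvertible L)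
    (hnef : ∀ (K : Type u) [Field K] (i : A →+* K) (J : X.IdealSheafData)
      (t : J.subscheme ⟶ Spec (CommRingCat.of K)),
      AlgebraicGeometry.IsIntegral J.subscheme → topologicalKrullDim ↥J.subscheme = 1 →
      t ≫ Spec.map (CommRingCat.ofHom i) = J.subschemeι ≫ f →
      0 ≤ @Curv2.deg K _ J.subscheme ⟨t⟩ ((Scheme.Modules.pullback J.subschemeι).obj L) 1)
    (K : Type u) [Field K] (i : A →+* K) (hi : Function.Surjective i)
    (g : Spec (CommRingCat.of K) ⟶ Spec (CommRingCat.of A))
    (hg : g = Spec.map (CommRingCat.ofHom i))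
    (J' : (pullback f g).IdealSheafData)
    (hint : IsIntegral J'.subscheme) (hdim : topologicalKrullDim J'.subscheme = 1) :
    0 ≤ @Curv2.deg K _ J'.subscheme ⟨J'.subschemeι ≫ pullback.snd f g⟩
      ((Scheme.Modules.pullback J'.subschemeι).obj
        ((Scheme.Modules.pullback (pullback.fst f g)).obj L)) 1 := by
  haveI := hint
  haveI : IsClosedImmersion g := by
    rw [hg]; exact IsClosedImmersion.spec_of_surjective _ hi
  haveI : IsClosedImmersion (pullback.fst f g) := inferInstance
  haveI : IsProper (pullback.snd f g) := inferInstance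
  obtain ⟨c, hc⟩ : ∃ c : J'.subscheme ⟶ X, c = J'.subschemeι ≫ pullback.fst f g := ⟨_, rfl⟩
  haveI : IsClosedImmersion c := by rw [hc]; infer_instance
  obtain ⟨J, hJ⟩ : ∃ J : X.IdealSheafData, J = c.ker := ⟨_, rfl⟩
  obtain ⟨τ, hτ⟩ : ∃ τ : J'.subscheme ⟶ J.subscheme, IsIso τ ∧ τ ≫ J.subschemeι = c := by
    subst hJ
    exact ⟨c.toImage, inferInstance, c.toImage_imageι⟩
  obtain ⟨hτiso, hcι⟩ := hτ
  haveI := hτiso
  let t : J.subscheme ⟶ Spec (CommRingCat.of K) := inv τ ≫ J'.subschemeι ≫ pullback.snd f g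
  haveI : Nonempty J'.subscheme := inferInstance
  haveI : Nonempty J.subscheme := ⟨τ (Classical.arbitrary _)⟩
  have hintJ : IsIntegral J.subscheme := isIntegral_of_isOpenImmersion (inv τ)
  have hdimJ : topologicalKrullDim J.subscheme = 1 := by
    rw [← hdim]
    exact (IsHomeomorph.topologicalKrullDim_eq _ τ.homeomorph.isHomeomorph).symm
  have hcompat : t ≫ Spec.map (CommRingCat.ofHom i) = J.subschemeι ≫ f := by
    rw [← hg]
    show (inv τ ≫ J'.subschemeι ≫ pullback.snd f g) ≫ g = J.subschemeι ≫ f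
    have h1 : J'.subschemeι ≫ pullback.snd f g ≫ g = c ≫ f := by
      rw [← pullback.condition, hc, Category.assoc]
    rw [Category.assoc, Category.assoc, h1, ← hcι, Category.assoc, IsIso.inv_hom_id_assoc]
  have h0 := hnef K i J t hintJ hdimJ hcompat
  letI : J.subscheme.Over (Spec (CommRingCat.of K)) := ⟨t⟩
  letI : J'.subscheme.Over (Spec (CommRingCat.of K)) := ⟨J'.subschemeι ≫ pullback.snd f g⟩
  haveI : IsProper (J'.subscheme ↘ Spec (CommRingCat.of K)) :=
    inferInstanceAs (IsProper (J'.subschemeι ≫ pullback.snd f g))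
  haveI : IsProper (J.subscheme ↘ Spec (CommRingCat.of K)) :=
    inferInstanceAs (IsProper (inv τ ≫ J'.subschemeι ≫ pullback.snd f g))
  have hf : τ ≫ (J.subscheme ↘ Spec (CommRingCat.of K)) =
      J'.subscheme ↘ Spec (CommRingCat.of K) := by
    show τ ≫ inv τ ≫ J'.subschemeι ≫ pullback.snd f g = J'.subschemeι ≫ pullback.snd f g
    rw [IsIso.hom_inv_id_assoc]
  have hd1 : Dense (((⊤ : J.subscheme.Opens) : J.subscheme.Opens) : Set J.subscheme) := by
    simp
  have hd2 : Dense (SetLike.coe (τ ⁻¹ᵁ (⊤ : J.subscheme.Opens))) := by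
    simp
  have hdimJ' : topologicalKrullDim J.subscheme ≤ 1 := hdimJ.le
  have h1 := BirCurve.deg_pullback K hdimJ' τ hf ⊤ hd1 hd2 inferInstance 1
    ((Scheme.Modules.pullback J.subschemeι).obj L)
    (FLFH8.finLocFreeOfRank_one_of_isInvertible (TensH8.isInvertible_pullback J.subschemeι hL))
  have e2 : (Scheme.Modules.pullback τ).obj
        ((Scheme.Modules.pullback J.subschemeι).obj L) ≅
      (Scheme.Modules.pullback J'.subschemeι).obj
        ((Scheme.Modules.pullback (pullback.fst f g)).obj L) :=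
    (Scheme.Modules.pullbackComp τ J.subschemeι).app L ≪≫
      eqToIso (congrArg (fun φ => (Scheme.Modules.pullback φ).obj L) (hcι.trans hc)) ≪≫
      ((Scheme.Modules.pullbackComp J'.subschemeι (pullback.fst f g)).app L).symm
  rw [← CurveTens.deg_of_iso K _ e2 1, h1]
  exact h0

end Nef

end Snap9

namespace Snap9

section Core

variable {A : Type u} [CommRing A] {X : Scheme.{u}} (f : X ⟶ Spec (CommRingCat.of A)) [IsProper f]

/-- on the fibre over a maximal ideal the pullback of a relatively nef module has no `H¹` and is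
generated by its sections, provided `H¹` of the structure sheaf of the fibre vanishes -/
theorem fibre_core
    (hfib : ∀ y : ↥(Spec (CommRingCat.of A)), topologicalKrullDim ↥(f.fiber y) ≤ 1)
    (L : X.Modules) (hL : PicF.IsInvertible L)
    (hnef : ∀ (K : Type u) [Field K] (i : A →+* K) (J : X.IdealSheafData)
      (t : J.subscheme ⟶ Spec (CommRingCat.of K)),
      AlgebraicGeometry.IsIntegral J.subscheme → topologicalKrullDim ↥J.subscheme = 1 →
      t ≫ Spec.map (CommRingCat.ofHom i) = J.subschemeι ≫ f →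
      0 ≤ @Curv2.deg K _ J.subscheme ⟨t⟩ ((Scheme.Modules.pullback J.subschemeι).obj L) 1)
    (𝔪 : Ideal A) [h𝔪 : 𝔪.IsMaximal]
    (hO : Subsingleton (Coh.HH
      (pullback f (Spec.map (CommRingCat.ofHom (algebraMap A (A ⧸ 𝔪)))))
      (Coh.structureModule _) 1)) :
    Subsingleton (Coh.HH (pullback f (Spec.map (CommRingCat.ofHom (algebraMap A (A ⧸ 𝔪)))))
      ((Scheme.Modules.pullback
        (pullback.fst f (Spec.map (CommRingCat.ofHom (algebraMap A (A ⧸ 𝔪)))))).obj L) 1) ∧
    NodalG0.JointlyEpi ((Scheme.Modules.pullback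
        (pullback.fst f (Spec.map (CommRingCat.ofHom (algebraMap A (A ⧸ 𝔪)))))).obj L) := by
  letI : Field (A ⧸ 𝔪) := Ideal.Quotient.field 𝔪
  letI : (pullback f (Spec.map (CommRingCat.ofHom (algebraMap A (A ⧸ 𝔪))))).Over
      (Spec (CommRingCat.of (A ⧸ 𝔪))) := ⟨pullback.snd f _⟩
  haveI : IsProper ((pullback f (Spec.map (CommRingCat.ofHom (algebraMap A (A ⧸ 𝔪))))) ↘
      Spec (CommRingCat.of (A ⧸ 𝔪))) :=
    inferInstanceAs (IsProper (pullback.snd f _))
  have hdim : topologicalKrullDim
      ↥(pullback f (Spec.map (CommRingCat.ofHom (algebraMap A (A ⧸ 𝔪))))) ≤ 1 :=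
    dim_fibre_le f 𝔪 1 (fun y => by simpa using hfib y)
  have hN := TensH8.isInvertible_pullback
    (pullback.fst f (Spec.map (CommRingCat.ofHom (algebraMap A (A ⧸ 𝔪))))) hL
  have hnefZ := fun J' hint hd => nef_fibre f L hL hnef (A ⧸ 𝔪) (algebraMap A (A ⧸ 𝔪))
    Ideal.Quotient.mk_surjective _ rfl J' hint hd
  exact rat_core (A ⧸ 𝔪) _ hdim hO _ hN
    (fun ξ hξ => css_nonpos_of_deg_nonneg (A ⧸ 𝔪) _ _ hN hnefZ ξ hξ) _ _
    (ProperFinH9.isCoh_of_isInvertible hN) (𝟙 _) inferInstance rfl

end Core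

end Snap9
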