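import Mathlib
import Groth.Prelude
import Groth.Agent.Lib.Snap51_helper9
import Groth.Agent.Lib.ProjDual1_helper9
import Groth.Agent.Lib.FormalFn1_helper2
import Groth.Agent.Lib.FormalModPow_helper4
import Groth.Agent.Lib.CohKer_helper8
import Groth.Agent.Lib.CohDev8_helper8
import Groth.Agent.Lib.ProjFin2_helper9
import Groth.Agent.Lib.CurveDegAdd1_helper9

/-!
# Nakayama for `H¹` over a Noetherian base (helper9)

APPEND-ONLY once landed.
-/

set_option autoImplicit false
universe u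
open CategoryTheory CategoryTheory.Limits AlgebraicGeometry Opposite TopologicalSpace

namespace Snap9

open Groth.Agent.HHVan Groth.Agent.ProjDual Groth.Agent.Lib.FormalFnH2
  Groth.Agent.Lib.FormalModPowH4

section Alg

/-- a finite module which equals `𝔪 M` for every maximal ideal `𝔪` is zero -/
theorem subsingleton_of_forall_maximal {A M : Type*} [CommRing A] [AddCommGroup M] [Module A M]
    [Module.Finite A M]
    (h : ∀ 𝔪 : Ideal A, 𝔪.IsMaximal → (⊤ : Submodule A M) ≤ 𝔪 • (⊤ : Submodule A M)) :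
    Subsingleton M := by
  by_contra hM
  rw [not_subsingleton_iff_nontrivial] at hM
  have hann : Module.annihilator A M ≠ ⊤ := by
    intro htop
    obtain ⟨x, hx⟩ := exists_ne (0 : M)
    have h1 : (1 : A) ∈ Module.annihilator A M := by rw [htop]; exact Submodule.mem_top
    rw [Module.mem_annihilator] at h1
    exact hx ((one_smul A x).symm.trans (h1 x))
  obtain ⟨𝔪, h𝔪, hle⟩ := Ideal.exists_le_maximal _ hann
  obtain ⟨r, hr1, hr⟩ := Submodule.exists_sub_one_mem_and_smul_eq_zero_of_fg_of_le_smul 𝔪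
    (⊤ : Submodule A M) Module.Finite.fg_top (h 𝔪 h𝔪)
  have hr' : r ∈ Module.annihilator A M := by
    rw [Module.mem_annihilator]
    exact fun x => hr x Submodule.mem_top
  have h2 : r ∈ 𝔪 := hle hr'
  have h3 : (1 : A) ∈ 𝔪 := by
    have := 𝔪.sub_mem h2 hr1
    rwa [sub_sub_cancel] at this
  exact h𝔪.ne_top ((Ideal.eq_top_iff_one 𝔪).mpr h3)

end Alg

section RightExact

variable {X : Scheme.{u}} [IsLocallyNoetherian X]

/-- `H¹` is right exact when `H²` vanishes on coherent modules -/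
theorem HH1_of_epi_of_H2
    (hH2 : ∀ M : X.Modules, Coh.IsCoh M → Subsingleton (Coh.HH X M 2))
    {G T : X.Modules} (hG : Coh.IsCoh G) (hT : Coh.IsCoh T) (m : G ⟶ T) [Epi m]
    (h : Subsingleton (Coh.HH X G 1)) : Subsingleton (Coh.HH X T 1) := by
  have hK := hH2 _ (CohKerH8.isCoh_kernel hG hT m)
  have hC : Subsingleton (Coh.HH X (cokernel m) 1) :=
    CurveDegAdd.HH_subsingleton_of_isZero X (isZero_cokernel_of_epi m) 1
  exact (CurveAmple.hmap_surjective_of_kernel_cokernel m 1 hK hC).subsingleton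

end RightExact

section Gen

variable {A : Type u} [CommRing A] {X : Scheme.{u}} [X.Over (Spec (CommRingCat.of A))]

/-- multiplication by a finite family of elements -/
noncomputable def phi {n : ℕ} (a : Fin n → A) (L : X.Modules) : (⨁ fun _ : Fin n => L) ⟶ L :=
  biproduct.desc (fun j => Formal.smulMod A L (a j))

theorem ι_phi {n : ℕ} (a : Fin n → A) (L : X.Modules) (j : Fin n) :
    biproduct.ι (fun _ : Fin n => L) j ≫ phi a L = Formal.smulMod A L (a j) :=
  biproduct.ι_desc _ _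

/-- the cokernel of the multiplications by generators of `𝔪` is `L/𝔪L` -/
theorem exists_cokernel_phi_iso (𝔪 : Ideal A) {n : ℕ} (a : Fin n → A)
    (ha : Ideal.span (Set.range a) = 𝔪) (L : X.Modules) :
    ∃ e : cokernel (phi a L) ≅ Formal.modPow 𝔪 1 L,
      cokernel.π (phi a L) ≫ e.hom = Formal.modPowπ 𝔪 1 L := by
  have hmem : ∀ j, a j ∈ 𝔪 ^ 1 := fun j => by
    rw [pow_one, ← ha]
    exact Ideal.subset_span ⟨j, rfl⟩
  have h1 : phi a L ≫ Formal.modPowπ 𝔪 1 L = 0 := by
    apply biproduct.hom_ext'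
    intro j
    rw [← Category.assoc, ι_phi, comp_zero]
    exact smulMod_modPowπ L 𝔪 1 (hmem j)
  have h2 : Formal.smulFamily (𝔪 ^ 1) L ≫ cokernel.π (phi a L) = 0 := by
    apply Sigma.hom_ext
    intro b
    rw [← Category.assoc, ι_smulFamily, comp_zero]
    have hb : (b : A) ∈ Ideal.span (Set.range a) := by
      rw [ha]
      exact (pow_one 𝔪).le b.2
    obtain ⟨c, hc⟩ := (Submodule.mem_span_range_iff_exists_fun A).mp hb
    rw [← hc, smulMod_sum, Preadditive.sum_comp]
    apply Finset.sum_eq_zero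
    intro j _
    rw [smul_eq_mul, mul_comm, smulMod_mul, ← ι_phi a L j, Category.assoc, Category.assoc,
      cokernel.condition, comp_zero, comp_zero]
  let u : cokernel (phi a L) ⟶ Formal.modPow 𝔪 1 L :=
    cokernel.desc (phi a L) (Formal.modPowπ 𝔪 1 L) h1
  let v : Formal.modPow 𝔪 1 L ⟶ cokernel (phi a L) :=
    cokernel.desc (Formal.smulFamily (𝔪 ^ 1) L) (cokernel.π (phi a L)) h2
  have hu : cokernel.π (phi a L) ≫ u = Formal.modPowπ 𝔪 1 L := cokernel.π_desc _ _ _
  have hv : Formal.modPowπ 𝔪 1 L ≫ v = cokernel.π (phi a L) := cokernel.π_desc _ _ _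
  refine ⟨⟨u, v, ?_, ?_⟩, hu⟩
  · rw [← cancel_epi (cokernel.π (phi a L)), ← Category.assoc, hu, hv, Category.comp_id]
  · rw [← cancel_epi (Formal.modPowπ 𝔪 1 L), ← Category.assoc, hv, hu, Category.comp_id]

end Gen

end Snap9

namespace Snap9

open Groth.Agent.HHVan Groth.Agent.ProjDual Groth.Agent.Lib.FormalFnH2
  Groth.Agent.Lib.FormalModPowH4

section Nak

variable {A : Type u} [CommRing A] {X : Scheme.{u}} [X.Over (Spec (CommRingCat.of A))]
  [IsLocallyNoetherian X]

/-- every class in `H^i` of a finite biproduct is a sum of classes coming from the summands -/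
theorem hmap_biproduct_decomp {n : ℕ} (L : X.Modules) {T : X.Modules}
    (ψ : (⨁ fun _ : Fin n => L) ⟶ T) (i : ℕ) (y : Coh.HH X (⨁ fun _ : Fin n => L) i) :
    hmap ψ i y = ∑ j : Fin n, hmap (biproduct.ι (fun _ : Fin n => L) j ≫ ψ) i
      (hmap (biproduct.π (fun _ : Fin n => L) j) i y) := by
  have h1 : ψ = ∑ j : Fin n, biproduct.π (fun _ : Fin n => L) j ≫
      (biproduct.ι (fun _ : Fin n => L) j ≫ ψ) := by
    conv_lhs => rw [← Category.id_comp ψ, ← biproduct.total, Preadditive.sum_comp]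
    apply Finset.sum_congr rfl
    intro j _
    rw [Category.assoc]
  conv_lhs => rw [h1]
  rw [hmap_sum]
  apply Finset.sum_congr rfl
  intro j _
  rw [hmap_comp]

/-- `H^i` of a finite biproduct of copies of `L` vanishes when `H^i(L)` does -/
theorem subsingleton_HH_biproduct {n : ℕ} (L : X.Modules) (i : ℕ)
    (h : Subsingleton (Coh.HH X L i)) :
    Subsingleton (Coh.HH X (⨁ fun _ : Fin n => L) i) := by
  refine ⟨fun x y => ?_⟩
  have hz : ∀ z : Coh.HH X (⨁ fun _ : Fin n => L) i, z = 0 := by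
    intro z
    have h1 := hmap_biproduct_decomp L (𝟙 (⨁ fun _ : Fin n => L)) i z
    rw [hmap_id] at h1
    rw [h1]
    apply Finset.sum_eq_zero
    intro j _
    rw [Subsingleton.elim (hmap (biproduct.π (fun _ : Fin n => L) j) i z) 0, map_zero]
  rw [hz x, hz y]

/-- **Nakayama step**: if `H¹(L/𝔪L) = 0` then `H¹(L) = 𝔪 H¹(L)` -/
theorem HH1_le_smul_top
    (hH2 : ∀ M : X.Modules, Coh.IsCoh M → Subsingleton (Coh.HH X M 2))
    (𝔪 : Ideal A) {n : ℕ} (a : Fin n → A) (ha : Ideal.span (Set.range a) = 𝔪)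
    (L : X.Modules) (hL : Coh.IsCoh L)
    (hC : Subsingleton (Coh.HH X (Formal.modPow 𝔪 1 L) 1)) :
    (⊤ : Submodule A (Coh.HH X L 1)) ≤ 𝔪 • (⊤ : Submodule A (Coh.HH X L 1)) := by
  obtain ⟨e, -⟩ := exists_cokernel_phi_iso 𝔪 a ha L
  have hC' : Subsingleton (Coh.HH X (cokernel (phi a L)) 1) := subsingleton_of_iso e.symm 1 hC
  have hBc : Coh.IsCoh (⨁ fun _ : Fin n => L) :=
    CohDevH8.isCoh_of_iso (biproduct.isoCoproduct _) (Groth.Agent.ProjFin.isCoh_sigma_fin L hL n)
  have hK := hH2 _ (CohKerH8.isCoh_kernel hBc hL (phi a L))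
  have hsurj := CurveAmple.hmap_surjective_of_kernel_cokernel (phi a L) 1 hK hC'
  intro x _
  obtain ⟨y, rfl⟩ := hsurj x
  have h1 := hmap_biproduct_decomp L (phi a L) 1 y
  have h2 : hmap (phi a L) 1 y = ∑ j : Fin n, a j •
      (hmap (biproduct.π (fun _ : Fin n => L) j) 1 y) := by
    rw [h1]
    apply Finset.sum_congr rfl
    intro j _
    rw [ι_phi]
    rfl
  rw [h2]
  apply Submodule.sum_mem
  intro j _
  apply Submodule.smul_mem_smul _ Submodule.mem_top
  rw [← ha]
  exact Ideal.subset_span ⟨j, rfl⟩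

end Nak

end Snap9
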