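import Mathlib
import Groth.Prelude
import Groth.Agent.Lib.Snap52_helper9
import Groth.Agent.Lib.CurveIdeal1_helper9
import Groth.Agent.Lib.SerreCrit3_helper9
import Groth.Agent.Lib.SDivGen_helper8
import Groth.Agent.Lib.ProperFin9_helper9

/-!
# Relatively nef invertible modules over a Noetherian base with `H¹(O) = 0`: vanishing of `H¹`
(helper9)

APPEND-ONLY once landed.
-/

set_option autoImplicit false
universe u
open CategoryTheory CategoryTheory.Limits AlgebraicGeometry Opposite TopologicalSpace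

namespace Snap9

open Groth.Agent.HHVan Groth.Agent.ProjDual Groth.Agent.Lib.FormalFnH2
  Groth.Agent.Lib.FormalModPowH4 QcqsLoc QCohExtn GenLocH8 TensH8 FLFH8

section Lift

variable {X : Scheme.{u}}

/-- two morphisms out of the structure module agreeing on `1` are equal -/
theorem hom_ext_of_ap_one {M : X.Modules} (u v : Coh.structureModule X ⟶ M)
    (h : ap u ⊤ (toM (1 : Γ(X, ⊤))) = ap v ⊤ (toM (1 : Γ(X, ⊤)))) : u = v := by
  have h0 : u - v = 0 := by
    apply CurveIdeal.hom_eq_zero_of_ap_one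
    show ap (u - v) ⊤ (toM (1 : Γ(X, ⊤))) = 0
    have : ap (u - v) ⊤ (toM (1 : Γ(X, ⊤))) =
        ap u ⊤ (toM (1 : Γ(X, ⊤))) - ap v ⊤ (toM (1 : Γ(X, ⊤))) := rfl
    rw [this, h, sub_self]
  exact sub_eq_zero.mp h0

/-- sections lift along the epimorphism of a short exact sequence whose kernel has no `H¹` -/
theorem exists_lift_hom (S : ShortComplex X.Modules) (hS : S.ShortExact)
    (h1 : Subsingleton (Coh.HH X S.X₁ 1)) (σ' : Coh.structureModule X ⟶ S.X₃) :
    ∃ σ : Coh.structureModule X ⟶ S.X₂, σ ≫ S.g = σ' := by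
  obtain ⟨b, hb⟩ := SerreCrit.surj_of_H1 S hS (fun x => Subsingleton.elim _ _)
    (ap σ' ⊤ (toM (1 : Γ(X, ⊤))))
  refine ⟨SDivGenH8.unitHom S.X₂ b, ?_⟩
  apply hom_ext_of_ap_one
  have h3 := SDivGenH8.unitHom_app_one S.X₂ b ⊤
  have h4 : S.X₂.val.map (homOfLE (le_top : (⊤ : X.Opens) ≤ ⊤)).op b = b :=
    SubExt.rF_self S.X₂ le_top _
  have h5 : ap (SDivGenH8.unitHom S.X₂ b) ⊤ (toM (1 : Γ(X, ⊤))) = b := h3.trans h4
  show ap S.g ⊤ (ap (SDivGenH8.unitHom S.X₂ b) ⊤ (toM (1 : Γ(X, ⊤)))) = _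
  rw [h5]
  exact hb

end Lift

end Snap9

namespace Snap9

open Groth.Agent.HHVan Groth.Agent.ProjDual Groth.Agent.Lib.FormalFnH2
  Groth.Agent.Lib.FormalModPowH4 Groth.Agent.Lib.FibVanH2

section Main

variable {A : Type u} [CommRing A] [IsNoetherianRing A] {X : Scheme.{u}}
  (f : X ⟶ Spec (CommRingCat.of A)) [IsProper f]

/-- `H²` vanishes on coherent modules when the fibres have dimension at most one -/
theorem HH2_subsingleton
    (hfib : ∀ y : ↥(Spec (CommRingCat.of A)), topologicalKrullDim ↥(f.fiber y) ≤ 1)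
    (M : X.Modules) (hM : Coh.IsCoh M) : Subsingleton (Coh.HH X M 2) :=
  subsingleton_HH_of_fibre_dim f 1 (fun y => by simpa using hfib y) M hM 2 (by norm_num)

/-- `H¹(F/𝔪F) = 0` when `H¹(F) = 0` -/
theorem HH1_modPow_of_HH1
    (hfib : ∀ y : ↥(Spec (CommRingCat.of A)), topologicalKrullDim ↥(f.fiber y) ≤ 1)
    (𝔪 : Ideal A) (F : X.Modules) (hF : Coh.IsCoh F)
    (h : Subsingleton (Coh.HH X F 1)) :
    letI : X.Over (Spec (CommRingCat.of A)) := ⟨f⟩
    Subsingleton (Coh.HH X (Formal.modPow 𝔪 1 F) 1) := by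
  letI : X.Over (Spec (CommRingCat.of A)) := ⟨f⟩
  haveI : IsLocallyNoetherian X := LocallyOfFiniteType.isLocallyNoetherian f
  obtain ⟨n, a, ha⟩ := Submodule.fg_iff_exists_fin_generating_family.mp
    (IsNoetherian.noetherian 𝔪)
  obtain ⟨e, -⟩ := exists_cokernel_phi_iso 𝔪 a ha F
  have hBc : Coh.IsCoh (⨁ fun _ : Fin n => F) :=
    CohDevH8.isCoh_of_iso (biproduct.isoCoproduct _) (Groth.Agent.ProjFin.isCoh_sigma_fin F hF n)
  have hCc : Coh.IsCoh (cokernel (phi a F)) := CohKerH8.isCoh_cokernel hBc hF _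
  have h1 := HH1_of_epi_of_H2 (HH2_subsingleton f hfib) hF hCc (cokernel.π (phi a F)) h
  exact subsingleton_of_iso e 1 h1

/-- the fibre over a maximal ideal: no `H¹` and generation by sections for the pullback of `L` -/
theorem fibre_core'
    (h1 : Subsingleton (Coh.HH X (Coh.structureModule X) 1))
    (hfib : ∀ y : ↥(Spec (CommRingCat.of A)), topologicalKrullDim ↥(f.fiber y) ≤ 1)
    (L : X.Modules) (hL : PicF.IsInvertible L)
    (hnef : ∀ (K : Type u) [Field K] (i : A →+* K) (J : X.IdealSheafData)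
      (t : J.subscheme ⟶ Spec (CommRingCat.of K)),
      AlgebraicGeometry.IsIntegral J.subscheme → topologicalKrullDim ↥J.subscheme = 1 →
      t ≫ Spec.map (CommRingCat.ofHom i) = J.subschemeι ≫ f →
      0 ≤ @Curv2.deg K _ J.subscheme ⟨t⟩ ((Scheme.Modules.pullback J.subschemeι).obj L) 1)
    (𝔪 : Ideal A) [h𝔪 : 𝔪.IsMaximal] :
    Subsingleton (Coh.HH (pullback f (Spec.map (CommRingCat.ofHom (algebraMap A (A ⧸ 𝔪)))))
      ((Scheme.Modules.pullback
        (pullback.fst f (Spec.map (CommRingCat.ofHom (algebraMap A (A ⧸ 𝔪)))))).obj L) 1) ∧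
    NodalG0.JointlyEpi ((Scheme.Modules.pullback
        (pullback.fst f (Spec.map (CommRingCat.ofHom (algebraMap A (A ⧸ 𝔪)))))).obj L) := by
  letI : X.Over (Spec (CommRingCat.of A)) := ⟨f⟩
  haveI : IsLocallyNoetherian X := LocallyOfFiniteType.isLocallyNoetherian f
  letI : (pullback f (Spec.map (CommRingCat.ofHom (algebraMap A (A ⧸ 𝔪))))).Over
      (Spec (CommRingCat.of (A ⧸ 𝔪))) := ⟨pullback.snd f _⟩
  have hsq : IsPullback (pullback.fst f (Spec.map (CommRingCat.ofHom (algebraMap A (A ⧸ 𝔪)))))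
      ((pullback f (Spec.map (CommRingCat.ofHom (algebraMap A (A ⧸ 𝔪))))) ↘
        Spec (CommRingCat.of (A ⧸ 𝔪)))
      (X ↘ Spec (CommRingCat.of A))
      (Spec.map (CommRingCat.ofHom (algebraMap A (A ⧸ 𝔪)))) :=
    IsPullback.of_hasPullback f _
  have hOc := CohDevH8.isCoh_structureModule X
  haveI := hOc.1
  have h2 := HH1_modPow_of_HH1 f hfib 𝔪 _ hOc h1
  have h3 := subsingleton_HH_fibre_of_modPow_one A (A ⧸ 𝔪) 𝔪 _ hsq
    Ideal.Quotient.mk_surjective (by rw [Ideal.Quotient.algebraMap_eq, Ideal.mk_ker])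
    (Coh.structureModule X) 1 h2
  have hO : Subsingleton (Coh.HH
      (pullback f (Spec.map (CommRingCat.ofHom (algebraMap A (A ⧸ 𝔪)))))
      (Coh.structureModule _) 1) :=
    subsingleton_of_iso (PBH8.pullbackUnitIso _) 1 h3
  exact fibre_core f hfib L hL hnef 𝔪 hO

/-- **vanishing of `H¹`** -/
theorem main_H1
    (h1 : Subsingleton (Coh.HH X (Coh.structureModule X) 1))
    (hfib : ∀ y : ↥(Spec (CommRingCat.of A)), topologicalKrullDim ↥(f.fiber y) ≤ 1)
    (L : X.Modules) (hL : PicF.IsInvertible L)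
    (hnef : ∀ (K : Type u) [Field K] (i : A →+* K) (J : X.IdealSheafData)
      (t : J.subscheme ⟶ Spec (CommRingCat.of K)),
      AlgebraicGeometry.IsIntegral J.subscheme → topologicalKrullDim ↥J.subscheme = 1 →
      t ≫ Spec.map (CommRingCat.ofHom i) = J.subschemeι ≫ f →
      0 ≤ @Curv2.deg K _ J.subscheme ⟨t⟩ ((Scheme.Modules.pullback J.subschemeι).obj L) 1) :
    Subsingleton (Coh.HH X L 1) := by
  letI : X.Over (Spec (CommRingCat.of A)) := ⟨f⟩
  haveI : IsProper (X ↘ Spec (CommRingCat.of A)) := ‹IsProper f›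
  haveI : IsLocallyNoetherian X := LocallyOfFiniteType.isLocallyNoetherian f
  have hLc := ProperFinH9.isCoh_of_isInvertible hL
  haveI := hLc.1
  haveI := ProperFinH9.finite_HH_of_proper A X L hLc 1
  apply subsingleton_of_forall_maximal (A := A)
  intro 𝔪 h𝔪
  haveI := h𝔪
  obtain ⟨n, a, ha⟩ := Submodule.fg_iff_exists_fin_generating_family.mp
    (IsNoetherian.noetherian 𝔪)
  apply HH1_le_smul_top (HH2_subsingleton f hfib) 𝔪 a ha L hLc
  letI : (pullback f (Spec.map (CommRingCat.ofHom (algebraMap A (A ⧸ 𝔪))))).Over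
      (Spec (CommRingCat.of (A ⧸ 𝔪))) := ⟨pullback.snd f _⟩
  have hsq : IsPullback (pullback.fst f (Spec.map (CommRingCat.ofHom (algebraMap A (A ⧸ 𝔪)))))
      ((pullback f (Spec.map (CommRingCat.ofHom (algebraMap A (A ⧸ 𝔪))))) ↘
        Spec (CommRingCat.of (A ⧸ 𝔪)))
      (X ↘ Spec (CommRingCat.of A))
      (Spec.map (CommRingCat.ofHom (algebraMap A (A ⧸ 𝔪)))) :=
    IsPullback.of_hasPullback f _
  exact subsingleton_HH_modPow_one_of_fibre A (A ⧸ 𝔪) 𝔪 _ hsq
    Ideal.Quotient.mk_surjective (by rw [Ideal.Quotient.algebraMap_eq, Ideal.mk_ker]) L 1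
    (fibre_core' f h1 hfib L hL hnef 𝔪).1

end Main

end Snap9
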