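import Mathlib
import Groth.Prelude
import Groth.Agent.Lib.Tens45_helper8

/-!
# Formal properties of `ParaF.InvRestrictEquiv` (helper8)
APPEND-ONLY once landed.
-/

set_option autoImplicit false

namespace TensH8

open AlgebraicGeometry CategoryTheory CategoryTheory.Limits TopologicalSpace Opposite TensorProduct
open QcqsLoc MonoidalCategory GenLocH8 FLFH8 QCohExtn PBH8 SerreCrit GGH8

universe u

section Formal

/-- Restriction along `j` is bijective on morphisms between invertible modules. -/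
def FFInv {U V : Scheme.{u}} (j : U ⟶ V) [IsOpenImmersion j] : Prop :=
  ∀ L L' : V.Modules, PicF.IsInvertible L → PicF.IsInvertible L' →
    Function.Bijective (fun φ : L ⟶ L' => (Scheme.Modules.restrictFunctor j).map φ)

/-- Every invertible module on the source is a restriction of an invertible module. -/
def ESInv {U V : Scheme.{u}} (j : U ⟶ V) [IsOpenImmersion j] : Prop :=
  ∀ L₀ : U.Modules, PicF.IsInvertible L₀ →
    ∃ L : V.Modules, PicF.IsInvertible L ∧ Nonempty (L.restrict j ≅ L₀)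

theorem invRestrictEquiv_iff {U V : Scheme.{u}} (j : U ⟶ V) [IsOpenImmersion j] :
    ParaF.InvRestrictEquiv j ↔ FFInv j ∧ ESInv j := Iff.rfl

/-- Restriction along a composition. -/
noncomputable def restrictCompIso {U U' V : Scheme.{u}} (i : U ⟶ U') (j' : U' ⟶ V) (j : U ⟶ V)
    [IsOpenImmersion i] [IsOpenImmersion j'] [IsOpenImmersion j] (h : i ≫ j' = j) :
    Scheme.Modules.restrictFunctor j ≅
      Scheme.Modules.restrictFunctor j' ⋙ Scheme.Modules.restrictFunctor i :=
  Scheme.Modules.restrictFunctorCongr h.symm ≪≫ Scheme.Modules.restrictFunctorComp i j'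

/-- Restriction along an isomorphism is an equivalence. -/
noncomputable def restrictEquivOfIsIso {U V : Scheme.{u}} (e : U ⟶ V) [IsIso e] :
    V.Modules ≌ U.Modules :=
  CategoryTheory.Equivalence.mk (Scheme.Modules.restrictFunctor e)
    (Scheme.Modules.restrictFunctor (inv e))
    ((Scheme.Modules.restrictFunctorId).symm ≪≫
      restrictCompIso (inv e) e (𝟙 V) (IsIso.inv_hom_id e))
    ((restrictCompIso e (inv e) (𝟙 U) (IsIso.hom_inv_id e)).symm ≪≫
      Scheme.Modules.restrictFunctorId)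

theorem ffInv_of_isIso {U V : Scheme.{u}} (e : U ⟶ V) [IsIso e] : FFInv e := by
  intro L L' _ _
  have h1 : (restrictEquivOfIsIso e).functor = Scheme.Modules.restrictFunctor e := rfl
  haveI : (Scheme.Modules.restrictFunctor e).IsEquivalence := by
    rw [← h1]; infer_instance
  exact ⟨(Scheme.Modules.restrictFunctor e).map_injective,
    (Scheme.Modules.restrictFunctor e).map_surjective⟩

theorem esInv_of_isIso {U V : Scheme.{u}} (e : U ⟶ V) [IsIso e] : ESInv e := by
  intro L₀ hL₀
  exact ⟨L₀.restrict (inv e), isInvertible_restrict (inv e) hL₀,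
    ⟨(restrictEquivOfIsIso e).counitIso.app L₀⟩⟩

variable {U U' V : Scheme.{u}} (i : U ⟶ U') (j' : U' ⟶ V) (j : U ⟶ V)
  [IsOpenImmersion i] [IsOpenImmersion j'] [IsOpenImmersion j]

theorem ffInv_comp (h : i ≫ j' = j) (hi : FFInv i) (hj' : FFInv j') : FFInv j := by
  intro L L' hL hL'
  refine map_bijective_of_natIso (restrictCompIso i j' j h) L L' ?_
  exact (hi _ _ (isInvertible_restrict j' hL) (isInvertible_restrict j' hL')).comp (hj' L L' hL hL')

theorem esInv_comp (h : i ≫ j' = j) (hi : ESInv i) (hj' : ESInv j') : ESInv j := by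
  intro L₀ hL₀
  obtain ⟨L₁, hL₁, ⟨α⟩⟩ := hi L₀ hL₀
  obtain ⟨L, hL, ⟨β⟩⟩ := hj' L₁ hL₁
  exact ⟨L, hL, ⟨(restrictCompIso i j' j h).app L ≪≫
    (Scheme.Modules.restrictFunctor i).mapIso β ≪≫ α⟩⟩

theorem ffInv_of_comp (h : i ≫ j' = j) (hi : FFInv i) (hj : FFInv j) : FFInv j' := by
  intro L L' hL hL'
  have h1 : Function.Bijective (fun φ : L ⟶ L' =>
      (Scheme.Modules.restrictFunctor j' ⋙ Scheme.Modules.restrictFunctor i).map φ) :=
    map_bijective_of_natIso (restrictCompIso i j' j h).symm L L' (hj L L' hL hL')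
  have h2 := hi _ _ (isInvertible_restrict j' hL) (isInvertible_restrict j' hL')
  exact (Function.Bijective.of_comp_iff' h2 _).mp h1

/-- A functor bijective on morphisms between invertible modules reflects isomorphisms between
them. -/
theorem nonempty_iso_of_ffInv (hi : FFInv i) {A B : U'.Modules} (hA : PicF.IsInvertible A)
    (hB : PicF.IsInvertible B) (θ : A.restrict i ≅ B.restrict i) : Nonempty (A ≅ B) := by
  obtain ⟨f, hf⟩ := (hi A B hA hB).2 θ.hom
  obtain ⟨g, hg⟩ := (hi B A hB hA).2 θ.inv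
  have hf' : (Scheme.Modules.restrictFunctor i).map f = θ.hom := hf
  have hg' : (Scheme.Modules.restrictFunctor i).map g = θ.inv := hg
  refine ⟨⟨f, g, ?_, ?_⟩⟩
  · apply (hi A A hA hA).1
    show (Scheme.Modules.restrictFunctor i).map (f ≫ g) =
      (Scheme.Modules.restrictFunctor i).map (𝟙 A)
    rw [CategoryTheory.Functor.map_comp, hf', hg', θ.hom_inv_id, CategoryTheory.Functor.map_id]
  · apply (hi B B hB hB).1
    show (Scheme.Modules.restrictFunctor i).map (g ≫ f) =
      (Scheme.Modules.restrictFunctor i).map (𝟙 B)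
    rw [CategoryTheory.Functor.map_comp, hf', hg', θ.inv_hom_id, CategoryTheory.Functor.map_id]

theorem esInv_of_comp (h : i ≫ j' = j) (hi : FFInv i) (hj : ESInv j) : ESInv j' := by
  intro L₀' hL₀'
  obtain ⟨L, hL, ⟨θ⟩⟩ := hj _ (isInvertible_restrict i hL₀')
  refine ⟨L, hL, ?_⟩
  exact nonempty_iso_of_ffInv i hi (isInvertible_restrict j' hL) hL₀'
    (((restrictCompIso i j' j h).app L).symm ≪≫ θ)

theorem invRestrictEquiv_of_isIso {U V : Scheme.{u}} (e : U ⟶ V) [IsIso e] :
    ParaF.InvRestrictEquiv e := ⟨ffInv_of_isIso e, esInv_of_isIso e⟩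

theorem invRestrictEquiv_comp (h : i ≫ j' = j) (hi : ParaF.InvRestrictEquiv i)
    (hj' : ParaF.InvRestrictEquiv j') : ParaF.InvRestrictEquiv j :=
  ⟨ffInv_comp i j' j h hi.1 hj'.1, esInv_comp i j' j h hi.2 hj'.2⟩

theorem invRestrictEquiv_of_comp (h : i ≫ j' = j) (hi : ParaF.InvRestrictEquiv i)
    (hj : ParaF.InvRestrictEquiv j) : ParaF.InvRestrictEquiv j' :=
  ⟨ffInv_of_comp i j' j h hi.1 hj.1, esInv_of_comp i j' j h hi.1 hj.2⟩

end Formal

section Transfer

/-- Transfer of `InvRestrictEquiv` along an isomorphism of arrows. -/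
theorem invRestrictEquiv_of_iso_arrow {U V U' V' : Scheme.{u}} (j : U ⟶ V) (j' : U' ⟶ V')
    [IsOpenImmersion j] [IsOpenImmersion j'] (a : U' ⟶ U) (b : V' ⟶ V) [IsIso a] [IsIso b]
    (h : a ≫ j = j' ≫ b) (hj : ParaF.InvRestrictEquiv j) : ParaF.InvRestrictEquiv j' := by
  have h1 : ParaF.InvRestrictEquiv (a ≫ j) :=
    invRestrictEquiv_comp a j (a ≫ j) rfl (invRestrictEquiv_of_isIso a) hj
  have h2 : (a ≫ j) ≫ inv b = j' := by rw [h, Category.assoc, IsIso.hom_inv_id, Category.comp_id]
  exact invRestrictEquiv_comp (a ≫ j) (inv b) j' h2 h1 (invRestrictEquiv_of_isIso (inv b))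

end Transfer

end TensH8
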