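import Mathlib
import Groth.Prelude
import Groth.Agent.Lib.Tens46_helper8

/-!
# Permanence of parafactorial pairs (helper8)
APPEND-ONLY once landed.
-/

set_option autoImplicit false

namespace TensH8

open AlgebraicGeometry CategoryTheory CategoryTheory.Limits TopologicalSpace Opposite TensorProduct
open QcqsLoc MonoidalCategory GenLocH8 FLFH8 QCohExtn PBH8 SerreCrit GGH8

universe u

section Smaller

variable (X : Scheme.{u})

/-- The defining property of a parafactorial pair for an inclusion `A ≤ B` with `A = B ∖ Y`. -/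
theorem invRestrictEquiv_of_eq {Y : Closeds ↥X} (h : ParaF.IsParafactorialPair X Y)
    {A B : X.Opens} (e : A ≤ B) (hA : A = B ⊓ Y.compl) :
    ParaF.InvRestrictEquiv (X.homOfLE e) := by
  subst hA
  exact h B

theorem compl_le_compl_of_le {Y Y' : Closeds ↥X} (hle : Y' ≤ Y) : Y.compl ≤ Y'.compl := by
  intro x hx hx'
  exact hx (hle hx')

/-- Shrinking the closed subset preserves parafactoriality. -/
theorem isParafactorialPair_of_le {Y Y' : Closeds ↥X} (hle : Y' ≤ Y)
    (h : ParaF.IsParafactorialPair X Y) : ParaF.IsParafactorialPair X Y' := by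
  intro V
  have hc := compl_le_compl_of_le X hle
  have hUU' : V ⊓ Y.compl ≤ V ⊓ Y'.compl := inf_le_inf_left V hc
  have hi : ParaF.InvRestrictEquiv (X.homOfLE hUU') := by
    apply invRestrictEquiv_of_eq X h
    apply le_antisymm
    · exact le_inf hUU' inf_le_right
    · exact le_inf (inf_le_left.trans inf_le_left) inf_le_right
  exact invRestrictEquiv_of_comp (X.homOfLE hUU')
    (X.homOfLE (inf_le_left : V ⊓ Y'.compl ≤ V)) (X.homOfLE (inf_le_left : V ⊓ Y.compl ≤ V))
    (X.homOfLE_homOfLE _ _) hi (h V)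

end Smaller


section Restrict

variable (X : Scheme.{u})

theorem ι_image_inf_closedsIn_compl (Y : Closeds ↥X) (W : X.Opens)
    (V' : (W : Scheme.{u}).Opens) :
    W.ι ''ᵁ (V' ⊓ (ParaF.closedsIn W Y).compl) = W.ι ''ᵁ V' ⊓ Y.compl := by
  ext x
  constructor
  · rintro ⟨w, ⟨hwV, hwY⟩, rfl⟩
    exact ⟨⟨w, hwV, rfl⟩, hwY⟩
  · rintro ⟨⟨w, hwV, rfl⟩, hxY⟩
    exact ⟨w, ⟨hwV, hxY⟩, rfl⟩

/-- Parafactoriality passes to open subschemes. -/
theorem isParafactorialPair_restrict {Y : Closeds ↥X} (h : ParaF.IsParafactorialPair X Y)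
    (W : X.Opens) : ParaF.IsParafactorialPair (W : Scheme.{u}) (ParaF.closedsIn W Y) := by
  intro V'
  have e : V' ⊓ (ParaF.closedsIn W Y).compl ≤ V' := inf_le_left
  have hj : ParaF.InvRestrictEquiv (X.homOfLE (W.ι.image_mono e)) :=
    invRestrictEquiv_of_eq X h _ (ι_image_inf_closedsIn_compl X Y W V')
  exact invRestrictEquiv_of_iso_arrow (X.homOfLE (W.ι.image_mono e))
    ((W : Scheme.{u}).homOfLE e) (W.ι.isoImage _).hom (W.ι.isoImage _).hom
    (W.ι.isoImage_hom_homOfLE _ _ e) hj

end Restrict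

end TensH8
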