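import Mathlib
import Groth.Prelude
import Groth.Agent.Lib.Tens47_helper8

/-!
# Parafactoriality is local (helper8)
APPEND-ONLY once landed.
-/

set_option autoImplicit false

namespace TensH8

open AlgebraicGeometry CategoryTheory CategoryTheory.Limits TopologicalSpace Opposite TensorProduct
open QcqsLoc MonoidalCategory GenLocH8 FLFH8 QCohExtn PBH8 SerreCrit GGH8

universe u

section Local

variable (X : Scheme.{u})

theorem presheaf_map_bijective_of_invRestrictEquiv {A B : X.Opens} (e : A ≤ B)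
    (h : ParaF.InvRestrictEquiv (X.homOfLE e)) :
    Function.Bijective (X.presheaf.map (homOfLE e).op) := by
  have h1 := rX_bijective_of_invRestrictEquiv (X.homOfLE e) h
  have h2 : Function.Bijective (X.presheaf.map (homOfLE
      (B.ι.image_mono (le_top : X.homOfLE e ''ᵁ ⊤ ≤ ⊤))).op) := h1
  exact presheaf_map_bijective_congr X _ _ (ι_image_homOfLE_image_top X e) B.ι_image_top h2

theorem invRestrictEquiv_congr {A B A' B' : X.Opens} (e : A ≤ B) (e' : A' ≤ B') (hA : A = A')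
    (hB : B = B') (h : ParaF.InvRestrictEquiv (X.homOfLE e)) :
    ParaF.InvRestrictEquiv (X.homOfLE e') := by
  subst hA
  subst hB
  exact h

/-- The defining property over opens contained in an open `W` on which the pair is
parafactorial. -/
theorem invRestrictEquiv_of_le {Y : Closeds ↥X} (W : X.Opens)
    (hW : ParaF.IsParafactorialPair (W : Scheme.{u}) (ParaF.closedsIn W Y)) {V : X.Opens}
    (hV : V ≤ W) : ParaF.InvRestrictEquiv (X.homOfLE (inf_le_left : V ⊓ Y.compl ≤ V)) := by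
  have e' : W.ι ⁻¹ᵁ V ⊓ (ParaF.closedsIn W Y).compl ≤ W.ι ⁻¹ᵁ V := inf_le_left
  have h1 := hW (W.ι ⁻¹ᵁ V)
  have h2 : ParaF.InvRestrictEquiv (X.homOfLE (W.ι.image_mono e')) :=
    invRestrictEquiv_of_iso_arrow ((W : Scheme.{u}).homOfLE e') (X.homOfLE (W.ι.image_mono e'))
      (W.ι.isoImage _).inv (W.ι.isoImage _).inv (W.ι.isoImage_inv_homOfLE _ _ e') h1
  have hB : W.ι ''ᵁ (W.ι ⁻¹ᵁ V) = V := by
    rw [Scheme.Hom.image_preimage_eq_opensRange_inf, Scheme.Opens.opensRange_ι]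
    exact inf_eq_right.mpr hV
  refine invRestrictEquiv_congr X _ _ ?_ hB h2
  rw [ι_image_inf_closedsIn_compl, hB]

/-- Bijectivity of restriction of functions away from `Y` is local. -/
theorem presheaf_map_bijective_of_cover {ι : Type*} (W : ι → X.Opens) (hW : ⨆ i, W i = ⊤)
    (Y : Closeds ↥X)
    (hloc : ∀ (i : ι) (V : X.Opens), V ≤ W i →
      Function.Bijective (X.presheaf.map (homOfLE (inf_le_left : V ⊓ Y.compl ≤ V)).op))
    (V : X.Opens) :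
    Function.Bijective (X.presheaf.map (homOfLE (inf_le_left : V ⊓ Y.compl ≤ V)).op) := by
  have hloc' : ∀ (i : ι) (V : X.Opens), V ≤ W i →
      Function.Bijective (rX (inf_le_left : V ⊓ Y.compl ≤ V)) := hloc
  show Function.Bijective (rX (inf_le_left : V ⊓ Y.compl ≤ V))
  have hidx : ∀ x : X, ∃ i, x ∈ W i := by
    intro x
    have hx : x ∈ (⨆ i, W i) := by rw [hW]; trivial
    exact Opens.mem_iSup.mp hx
  choose ix hix using hidx
  constructor
  · intro s t hst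
    apply eqX_of_cover
    intro x hx
    have hle : V ⊓ W (ix x) ≤ V := inf_le_left
    refine ⟨V ⊓ W (ix x), hle, ⟨hx, hix x⟩, ?_⟩
    apply (hloc' (ix x) (V ⊓ W (ix x)) inf_le_right).1
    have h1 := congrArg (rX (inf_le_inf_right Y.compl hle :
      V ⊓ W (ix x) ⊓ Y.compl ≤ V ⊓ Y.compl)) hst
    rw [rX_rX, rX_rX] at h1
    rw [rX_rX, rX_rX]
    exact h1
  · intro t
    have hex : ∀ x : {x // x ∈ V}, ∃ c : Γ(X, V ⊓ W (ix x.1)),
        rX (inf_le_left : V ⊓ W (ix x.1) ⊓ Y.compl ≤ V ⊓ W (ix x.1)) c =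
          rX (inf_le_inf_right Y.compl (inf_le_left : V ⊓ W (ix x.1) ≤ V)) t := fun x =>
      (hloc' (ix x.1) (V ⊓ W (ix x.1)) inf_le_right).2 _
    choose c hc using hex
    obtain ⟨s, hs⟩ := glueX (fun x : {x // x ∈ V} => V ⊓ W (ix x.1)) V (fun _ => inf_le_left)
      (fun x hx => Opens.mem_iSup.mpr ⟨⟨x, hx⟩, ⟨hx, hix x⟩⟩) c (by
        intro x y
        have hle : (V ⊓ W (ix x.1)) ⊓ (V ⊓ W (ix y.1)) ≤ W (ix x.1) :=
          inf_le_left.trans inf_le_right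
        apply (hloc' (ix x.1) _ hle).1
        have h1 := congrArg (rX (inf_le_inf_right Y.compl
          (inf_le_left : (V ⊓ W (ix x.1)) ⊓ (V ⊓ W (ix y.1)) ≤ V ⊓ W (ix x.1)))) (hc x)
        have h2 := congrArg (rX (inf_le_inf_right Y.compl
          (inf_le_right : (V ⊓ W (ix x.1)) ⊓ (V ⊓ W (ix y.1)) ≤ V ⊓ W (ix y.1)))) (hc y)
        rw [rX_rX, rX_rX] at h1 h2
        rw [rX_rX, rX_rX]
        exact h1.trans h2.symm)
    refine ⟨s, ?_⟩
    apply eqX_of_cover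
    rintro x ⟨hxV, hxY⟩
    refine ⟨V ⊓ W (ix x) ⊓ Y.compl, inf_le_inf_right Y.compl inf_le_left,
      ⟨⟨hxV, hix x⟩, hxY⟩, ?_⟩
    have h1 := hc ⟨x, hxV⟩
    have h2 := hs ⟨x, hxV⟩
    rw [rX_rX]
    rw [← h1, ← h2, rX_rX]

end Local


section LocalB

variable (X : Scheme.{u})

theorem exists_isGen_of_eq {Z : Scheme.{u}} (L : Z.Modules) {O₁ O₂ : Z.Opens} (h : O₁ = O₂)
    (e : Γ(L, O₁)) (he : IsGen L O₁ e) : ∃ e' : Γ(L, O₂), IsGen L O₂ e' := by
  subst h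
  exact ⟨e, he⟩

theorem homOfLE_preimage_ι_preimage {A B : X.Opens} (e : A ≤ B) (O : X.Opens) :
    X.homOfLE e ⁻¹ᵁ (B.ι ⁻¹ᵁ O) = A.ι ⁻¹ᵁ O := by
  ext x
  show B.ι (X.homOfLE e x) ∈ O ↔ A.ι x ∈ O
  rw [Scheme.Opens.ι_apply, Scheme.Opens.ι_apply, Scheme.homOfLE_apply]

/-- Generator form of the invertibility of a direct image from the complement of `Y`. -/
theorem isInvertible_pushforward_of_local_gens (Y : Closeds ↥X) (V : X.Opens)
    (hf : ∀ W : (V : Scheme.{u}).Opens,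
      Function.Bijective ((X.homOfLE (inf_le_left : V ⊓ Y.compl ≤ V)).app W))
    (L : ((V ⊓ Y.compl : X.Opens) : Scheme.{u}).Modules)
    (hgen : ∀ y ∈ V, ∃ O : X.Opens, y ∈ O ∧ O ≤ V ∧ IsAffineOpen O ∧
      ∃ e : Γ(L, (V ⊓ Y.compl).ι ⁻¹ᵁ O), IsGen L ((V ⊓ Y.compl).ι ⁻¹ᵁ O) e) :
    PicF.IsInvertible ((Scheme.Modules.pushforward
      (X.homOfLE (inf_le_left : V ⊓ Y.compl ≤ V))).obj L) := by
  apply isInvertible_of_gens
  rintro ⟨y, hy⟩
  obtain ⟨O, hyO, hOV, hO, e, he⟩ := hgen y hy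
  have himg : V.ι ''ᵁ (V.ι ⁻¹ᵁ O) = O := by
    rw [Scheme.Hom.image_preimage_eq_opensRange_inf, Scheme.Opens.opensRange_ι]
    exact inf_eq_right.mpr hOV
  have haff : IsAffineOpen (V.ι ⁻¹ᵁ O) := by
    rw [← V.ι.isAffineOpen_iff_of_isOpenImmersion, himg]
    exact hO
  obtain ⟨e', he'⟩ := exists_isGen_of_eq L
    (homOfLE_preimage_ι_preimage X (inf_le_left : V ⊓ Y.compl ≤ V) O).symm e he
  exact ⟨V.ι ⁻¹ᵁ O, haff, hyO, _, isGen_pushforward _ hf he'⟩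

/-- Local triviality away from `Y` near points of an open where the defining property holds. -/
theorem exists_gen_of_invRestrictEquiv (Y : Closeds ↥X) {V V₁ : X.Opens} (hV₁ : V₁ ≤ V)
    (h₁ : ParaF.InvRestrictEquiv (X.homOfLE (inf_le_left : V₁ ⊓ Y.compl ≤ V₁)))
    (L : ((V ⊓ Y.compl : X.Opens) : Scheme.{u}).Modules) (hL : PicF.IsInvertible L)
    (y : X) (hy : y ∈ V₁) :
    ∃ O : X.Opens, y ∈ O ∧ O ≤ V ∧ IsAffineOpen O ∧
      ∃ e : Γ(L, (V ⊓ Y.compl).ι ⁻¹ᵁ O), IsGen L ((V ⊓ Y.compl).ι ⁻¹ᵁ O) e := by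
  have hk : V₁ ⊓ Y.compl ≤ V ⊓ Y.compl := inf_le_inf_right Y.compl hV₁
  obtain ⟨M, hM, ⟨θ⟩⟩ := h₁.2 (L.restrict (X.homOfLE hk)) (isInvertible_restrict _ hL)
  obtain ⟨O', hO', hyO', m, hm⟩ := exists_isGen hM (⟨y, hy⟩ : (V₁ : Scheme.{u}))
  have hle : X.homOfLE (inf_le_left : V₁ ⊓ Y.compl ≤ V₁) ''ᵁ
      (X.homOfLE (inf_le_left : V₁ ⊓ Y.compl ≤ V₁) ⁻¹ᵁ O') ≤ O' :=
    Scheme.Hom.image_preimage_le _ O'
  have h2 : IsGen (M.restrict (X.homOfLE (inf_le_left : V₁ ⊓ Y.compl ≤ V₁)))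
      (X.homOfLE (inf_le_left : V₁ ⊓ Y.compl ≤ V₁) ⁻¹ᵁ O') (rF M hle m) :=
    isGen_restrict _ M _ (hm.res hle)
  have h3 := isGen_of_iso θ h2
  have h4 := isGen_of_restrict (X.homOfLE hk) L _ h3
  have hOV₁ : V₁.ι ''ᵁ O' ≤ V₁ := (V₁.ι.image_le_opensRange O').trans (le_of_eq V₁.opensRange_ι)
  have heq : X.homOfLE hk ''ᵁ (X.homOfLE (inf_le_left : V₁ ⊓ Y.compl ≤ V₁) ⁻¹ᵁ O') =
      (V ⊓ Y.compl).ι ⁻¹ᵁ (V₁.ι ''ᵁ O') := by
    apply (V ⊓ Y.compl).ι.image_injective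
    show (V ⊓ Y.compl).ι ''ᵁ (X.homOfLE hk ''ᵁ _) = (V ⊓ Y.compl).ι ''ᵁ ((V ⊓ Y.compl).ι ⁻¹ᵁ _)
    rw [← Scheme.Hom.comp_image, Scheme.Hom.image_preimage_eq_opensRange_inf,
      Scheme.Opens.opensRange_ι]
    simp only [Scheme.homOfLE_ι]
    rw [Scheme.ι_image_homOfLE_eq_ι_image_inf]
    apply le_antisymm
    · exact le_inf (le_inf (inf_le_left.trans (hOV₁.trans hV₁)) (inf_le_right.trans inf_le_right))
        inf_le_left
    · exact le_inf inf_le_right (le_inf (inf_le_right.trans hOV₁)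
        (inf_le_left.trans inf_le_right))
  obtain ⟨e', he'⟩ := exists_isGen_of_eq L heq _ h4
  exact ⟨V₁.ι ''ᵁ O', ⟨⟨y, hy⟩, hyO', rfl⟩, hOV₁.trans hV₁,
    hO'.image_of_isOpenImmersion V₁.ι, e', he'⟩

/-- **Parafactoriality is local.** -/
theorem isParafactorialPair_of_cover (Y : Closeds ↥X) {ι : Type*} (W : ι → X.Opens)
    (hW : ⨆ i, W i = ⊤)
    (h : ∀ i, ParaF.IsParafactorialPair (W i : Scheme.{u}) (ParaF.closedsIn (W i) Y)) :
    ParaF.IsParafactorialPair X Y := by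
  rw [isParafactorialPair_iff]
  have hA := presheaf_map_bijective_of_cover X W hW Y (fun i V hV =>
    presheaf_map_bijective_of_invRestrictEquiv X _ (invRestrictEquiv_of_le X (W i) (h i) hV))
  refine ⟨hA, fun V L hL => ?_⟩
  apply isInvertible_pushforward_of_local_gens X Y V (homOfLE_app_bijective X Y hA V) L
  intro y hy
  have hy' : y ∈ (⨆ i, W i) := by rw [hW]; trivial
  obtain ⟨i, hi⟩ := Opens.mem_iSup.mp hy'
  exact exists_gen_of_invRestrictEquiv X Y (inf_le_left : V ⊓ W i ≤ V)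
    (invRestrictEquiv_of_le X (W i) (h i) inf_le_right) L hL y ⟨hy, hi⟩

end LocalB

end TensH8
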