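import Mathlib
import Groth.Prelude
import Groth.Agent.Lib.Tens44_helper8
import Groth.Agent.Lib.Tens48_helper8
import Groth.Agent.Lib.TensInv2_helper9

/-!
# Sections of `L ⊗ A^N` generating at finitely many points, `A` ample (helper5)
APPEND-ONLY once landed.
-/

set_option autoImplicit false

namespace Groth.Agent.FinPtsGen

open AlgebraicGeometry CategoryTheory CategoryTheory.Limits TopologicalSpace Opposite
open QcqsLoc GenLocH8 FLFH8 QCohExtn TensH8 Groth.Agent.TensInv CohB1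

universe u

variable {X : Scheme.{u}}

theorem tensorPow_add (L : X.Modules) (a b : ℕ) :
    Nonempty (tensorPow L (a + b) ≅ tensorMod (tensorPow L a) (tensorPow L b)) := by
  induction b with
  | zero => exact ⟨(rightUnit _).symm⟩
  | succ b ih =>
    obtain ⟨e⟩ := ih
    exact ⟨mapR e L ≪≫ assoc _ _ _⟩

theorem tensorPow_mul (L : X.Modules) (m t : ℕ) :
    Nonempty (tensorPow (tensorPow L m) t ≅ tensorPow L (m * t)) := by
  induction t with
  | zero => exact ⟨Iso.refl _⟩
  | succ t ih =>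
    obtain ⟨e⟩ := ih
    obtain ⟨e'⟩ := tensorPow_add L (m * t) m
    exact ⟨mapR e _ ≪≫ e'.symm⟩

/-- `(M ⊗ L^r) ⊗ (L^m)^t ≅ M ⊗ L^{r + m t}`. -/
theorem twistIso (M L : X.Modules) (m t r : ℕ) :
    Nonempty (tensorMod (tensorMod M (tensorPow L r)) (tensorPow (tensorPow L m) t) ≅
      tensorMod M (tensorPow L (r + m * t))) := by
  obtain ⟨e₁⟩ := tensorPow_add L r (m * t)
  obtain ⟨e₂⟩ := tensorPow_mul L m t
  exact ⟨(mapL M (e₁ ≪≫ mapL _ e₂.symm) ≪≫ (assoc _ _ _).symm).symm⟩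

/-- `(M ⊗ L^a) ⊗ L^b ≅ M ⊗ L^{a + b}`. -/
theorem addIso (M L : X.Modules) (a b : ℕ) :
    Nonempty (tensorMod (tensorMod M (tensorPow L a)) (tensorPow L b) ≅
      tensorMod M (tensorPow L (a + b))) := by
  obtain ⟨e₁⟩ := tensorPow_add L a b
  exact ⟨assoc _ _ _ ≪≫ mapL M e₁.symm⟩

/-- Composing a section with an isomorphism does not change its generating locus. -/
theorem genLocus_comp_iso {M M' : X.Modules} (s : Coh.structureModule X ⟶ M) (α : M ≅ M') :
    CohB1.genLocus M' (s ≫ α.hom) = CohB1.genLocus M s := by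
  unfold CohB1.genLocus
  congr 1
  ext U
  simp only [Set.mem_setOf_eq, Functor.map_comp]
  constructor
  · intro h
    exact IsIso.of_isIso_comp_right _ ((Scheme.Modules.restrictFunctor U.ι).map α.hom)
  · intro h
    infer_instance

/-- The locus of a section is contained in the locus of its powers. -/
theorem genLocus_le_genLocus_powHom {L : X.Modules} (hL : PicF.IsInvertible L)
    (s : Coh.structureModule X ⟶ L) (d : ℕ) :
    CohB1.genLocus L s ≤ CohB1.genLocus _ (SecTwist.powHom s d) := by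
  intro x hx
  obtain ⟨W, -, hxW, e, he⟩ := exists_isGen hL x
  obtain ⟨a, ha⟩ := he.exists_coef (SecTwist.val s W)
  have h1 := genLocus_inf_eq s he a ha
  have h2 := genLocus_inf_eq (SecTwist.powHom s d) ((Frame.pow L d).isGen he) (a ^ d)
    (val_powHom_eq s d ha)
  have hxa : x ∈ X.basicOpen a := by
    rw [← h1]
    exact ⟨hx, hxW⟩
  have hxd : x ∈ X.basicOpen (a ^ d) := by
    rw [Scheme.mem_basicOpen _ _ _ hxW] at hxa ⊢
    rw [map_pow]
    exact hxa.pow d
  rw [← h2] at hxd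
  exact hxd.1

/-- A trivialisation of `L` over an open gives a generator. -/
theorem exists_isGen_of_iso {L : X.Modules} (U : X.Opens)
    (β : L.restrict U.ι ≅ Coh.structureModule (U : Scheme.{u})) : ∃ e : Γ(L, U), IsGen L U e := by
  have h0 : IsGen (L.restrict U.ι) ⊤ (ap β.inv ⊤ (toM 1)) :=
    TensH8.isGen_of_iso β.symm (TensH8.isGen_one ⊤)
  have h1 := TensH8.isGen_of_restrict U.ι L _ h0
  exact TensH8.exists_isGen_of_eq L (Scheme.Opens.ι_image_top U) _ h1

/-- **Main theorem**: for `A` ample and `L` invertible, the modules `L ⊗ A^N`, `N ≫ 0`, have a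
global section generating at all points of a given finite set. -/
theorem exists_gen_at_finite {A L : X.Modules} (hA : CohB1.IsAmple A) (hL : PicF.IsInvertible L)
    (T : Set X) (hT : T.Finite) :
    ∃ N₀ : ℕ, ∀ N : ℕ, N₀ ≤ N → ∃ s : Coh.structureModule X ⟶ tensorMod L (tensorPow A N),
      T ⊆ (CohB1.genLocus _ s : Set X) := by
  classical
  obtain ⟨hAinv, hc, hcov⟩ := id hA
  haveI := hc
  haveI : QuasiSeparatedSpace X := quasiSeparatedSpace_of_affine_genLocus hAinv hcov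
  obtain ⟨n₀, t₀, hT₀, -, haff₀⟩ :=
    exists_affine_genLocus_of_finite hA T hT ⊤ (fun _ _ => trivial)
  have step : ∀ L' : X.Modules, PicF.IsInvertible L' → ∃ (p N : ℕ)
      (σ : Coh.structureModule X ⟶
        tensorMod (tensorMod L' (tensorPow (tensorPow A p) N)) (tensorPow A p)),
      (n₀ + 1) ∣ (N + 1) ∧ T ⊆ (CohB1.genLocus _ σ : Set X) := by
    intro L' hL'
    obtain ⟨U, hU, hTU, ⟨β⟩⟩ := exists_affine_trivial_of_finite hL' hT.toFinset
      ⟨CohB1.genLocus _ t₀, haff₀, fun x hx => hT₀ (hT.mem_toFinset.1 hx)⟩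
    obtain ⟨l, hl⟩ := exists_isGen_of_iso U β
    obtain ⟨n, t, hTt, htU, -⟩ := exists_affine_genLocus_of_finite hA T hT U
      (fun x hx => hTU x (hT.mem_toFinset.2 hx))
    have htU' : CohB1.genLocus _ t ≤ U := fun x hx => htU hx
    have hP := isInvertible_tensorPow hAinv (n + 1)
    obtain ⟨n0, hn0⟩ := exists_hom_twist_genLocus hP hL' t (rF L' htU' l) (hl.res htU')
    have hpos : 0 < (n₀ + 1) * (n0 + 1) := Nat.mul_pos (Nat.succ_pos _) (Nat.succ_pos _)
    obtain ⟨σ, hσ⟩ := hn0 ((n₀ + 1) * (n0 + 1) - 1) (by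
      have : n0 + 1 ≤ (n₀ + 1) * (n0 + 1) := Nat.le_mul_of_pos_left _ (Nat.succ_pos _)
      omega)
    refine ⟨n + 1, (n₀ + 1) * (n0 + 1) - 1, σ, ?_, ?_⟩
    · rw [Nat.sub_add_cancel hpos]
      exact dvd_mul_right _ _
    · rw [hσ]
      exact hTt
  -- sections in each residue class
  have hres : ∀ r : ℕ, ∃ (K : ℕ) (s : Coh.structureModule X ⟶ tensorMod L (tensorPow A K)),
      K % (n₀ + 1) = r % (n₀ + 1) ∧ T ⊆ (CohB1.genLocus _ s : Set X) := by
    intro r
    obtain ⟨p, N, σ, hdvd, hTσ⟩ := step (tensorMod L (tensorPow A r))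
      (isInvertible_tensorMod hL (isInvertible_tensorPow hAinv r))
    obtain ⟨α₁⟩ := twistIso L A p N r
    obtain ⟨α₂⟩ := addIso L A (r + p * N) p
    refine ⟨r + p * N + p, σ ≫ (mapR α₁ (tensorPow A p) ≪≫ α₂).hom, ?_, ?_⟩
    · obtain ⟨c, hc⟩ := hdvd
      have : r + p * N + p = r + (n₀ + 1) * (p * c) := by
        have : p * N + p = p * (N + 1) := by ring
        rw [add_assoc, this, hc]
        ring
      rw [this, Nat.add_mul_mod_self_left]
    · rw [genLocus_comp_iso]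
      exact hTσ
  choose K s hK hs using hres
  refine ⟨∑ r ∈ Finset.range (n₀ + 1), K r, fun N hN => ?_⟩
  have hr : N % (n₀ + 1) ∈ Finset.range (n₀ + 1) :=
    Finset.mem_range.2 (Nat.mod_lt _ (Nat.succ_pos _))
  have hKle : K (N % (n₀ + 1)) ≤ N :=
    (Finset.single_le_sum (f := K) (fun _ _ => Nat.zero_le _) hr).trans hN
  have hmod : (N - K (N % (n₀ + 1))) % (n₀ + 1) = 0 := by
    apply Nat.sub_mod_eq_zero_of_mod_eq
    rw [hK, Nat.mod_mod]
  obtain ⟨j, hj⟩ := Nat.dvd_of_mod_eq_zero hmod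
  have hN' : N = K (N % (n₀ + 1)) + (n₀ + 1) * j := by omega
  obtain ⟨α₃⟩ := twistIso L A (n₀ + 1) j (K (N % (n₀ + 1)))
  rw [hN']
  refine ⟨SecTwist.tmulHom (s (N % (n₀ + 1))) (SecTwist.powHom t₀ j) ≫ α₃.hom, ?_⟩
  rw [genLocus_comp_iso, genLocus_tmulHom
    (isInvertible_tensorMod hL (isInvertible_tensorPow hAinv _))
    (isInvertible_tensorPow (isInvertible_tensorPow hAinv _) _)]
  intro x hx
  exact ⟨hs _ hx, genLocus_le_genLocus_powHom (isInvertible_tensorPow hAinv _) t₀ j (hT₀ hx)⟩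

end Groth.Agent.FinPtsGen
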