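import Mathlib
import Groth.Prelude.Def_RelProj4
import Groth.Agent.Lib.ProjQLim2_helper5

/-!
# The structure morphism of `Proj` on points  (helper5)

* `mem_toSpecZero_iff` : for `y ∈ Proj 𝒜` and `b ∈ 𝒜₀`, `b ∈ toSpecZero(y)` iff `b ∈ y`.
* `mem_basicOpen_iff_not_mem_zpt` : for a relative `Proj`, `p x ∈ D(a)` iff `a ∉ zpt(x)`.
-/

set_option autoImplicit false
universe u
open AlgebraicGeometry CategoryTheory CategoryTheory.Limits HomogeneousLocalization Opposite TopologicalSpace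
open scoped HomogeneousIdeal

noncomputable section

namespace Groth.Agent.LineChart

open Groth.Agent.RelProjTN RelProj Groth.Agent.ProjQLim

section PZ
variable {A σ : Type u} [CommRing A] [SetLike σ A] [AddSubgroupClass σ A] (𝒜 : ℕ → σ) [GradedRing 𝒜]

theorem isLocalizationElem_eq {m : ℕ} {f : A} (hf : f ∈ 𝒜 m) (b : 𝒜 0)
    (hbf : (b : A) * f ∈ 𝒜 m) :
    Away.isLocalizationElem hf hbf = (fromZeroRingHom 𝒜 (Submonoid.powers f) b) ^ m := by
  apply HomogeneousLocalization.val_injective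
  rw [HomogeneousLocalization.val_pow, Away.val_mk]
  have h1 : (fromZeroRingHom 𝒜 (Submonoid.powers f) b).val = Localization.mk (b : A) 1 := rfl
  rw [h1, Localization.mk_pow, Localization.mk_eq_mk_iff, Localization.r_iff_exists]
  refine ⟨1, ?_⟩
  simp only [OneMemClass.coe_one, one_mul, one_pow]
  ring

theorem mem_toSpecZero_iff (y : Proj 𝒜) (b : 𝒜 0) :
    b ∈ ((Proj.toSpecZero 𝒜).base y).asIdeal ↔ (b : A) ∈ y.asHomogeneousIdeal := by
  obtain ⟨m, hm, f, hf, hyf, -⟩ := exists_homogeneous_basicOpen 𝒜 y ⊤ trivial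
  have hy : y ∈ (Proj.awayι 𝒜 f hf hm).opensRange := by
    rw [Proj.opensRange_awayι]; exact hyf
  obtain ⟨z, rfl⟩ := hy
  have h1 : (Proj.toSpecZero 𝒜).base ((Proj.awayι 𝒜 f hf hm).base z) =
      (Spec.map (CommRingCat.ofHom (fromZeroRingHom 𝒜 (Submonoid.powers f)))).base z :=
    congrArg (fun t => t.base z) (Proj.awayι_toSpecZero 𝒜 f hf hm)
  rw [h1]
  have hbf : (b : A) * f ∈ 𝒜 m := by
    have := SetLike.mul_mem_graded b.2 hf
    rwa [zero_add] at this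
  have key := Proj.awayι_preimage_basicOpen 𝒜 hf hm hbf hm
  have e1 : (Proj.awayι 𝒜 f hf hm).base z ∈ Proj.basicOpen 𝒜 ((b : A) * f) ↔
      Away.isLocalizationElem hf hbf ∉ z.asIdeal :=
    (congrArg (fun O => z ∈ O) key).to_iff
  have e2 : (Proj.awayι 𝒜 f hf hm).base z ∈ Proj.basicOpen 𝒜 ((b : A) * f) ↔
      (b : A) ∉ ((Proj.awayι 𝒜 f hf hm).base z).asHomogeneousIdeal := by
    rw [Proj.basicOpen_mul]
    exact ⟨fun h => h.1, fun h => ⟨h, hyf⟩⟩
  have e3 : Away.isLocalizationElem hf hbf ∈ z.asIdeal ↔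
      fromZeroRingHom 𝒜 (Submonoid.powers f) b ∈ z.asIdeal := by
    rw [isLocalizationElem_eq 𝒜 hf b hbf]
    exact ⟨fun h => z.isPrime.mem_of_pow_mem m h, fun h => Ideal.pow_mem_of_mem _ h m hm⟩
  show fromZeroRingHom 𝒜 (Submonoid.powers f) b ∈ z.asIdeal ↔ _
  rw [← e3]
  constructor
  · intro h
    by_contra hcon
    exact (e1.mp (e2.mpr hcon)) h
  · intro h
    by_contra hcon
    exact (e2.mp (e1.mpr hcon)) h

end PZ

section Z
variable {Y PB : Scheme.{u}} {ℬ : RelProj.QCGrAlg Y} {pB : PB ⟶ Y}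
  {chartB : ∀ (U : Y.Opens) (hU : IsAffineOpen U),
    (((pB ⁻¹ᵁ U : PB.Opens) : Scheme.{u}) ≅ Proj (ℬ.deg U hU))}

/-- `p x ∈ D(a)` iff `a ∉ zpt(x)`. -/
theorem mem_basicOpen_iff_not_mem_zpt (hB : RelProj.IsRelProj ℬ pB chartB) (U : Y.Opens)
    (hU : IsAffineOpen U) (x : PB) (hx : x ∈ pB ⁻¹ᵁ U) (a : Γ(Y, U)) :
    pB x ∈ Y.basicOpen a ↔
      (ℬ.str.app (op U)).hom a ∉ (zpt pB chartB U hU x hx).asHomogeneousIdeal := by
  have h1 : pB x = hU.fromSpec ((Spec.map (ℬ.strZero U hU))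
      ((Proj.toSpecZero (ℬ.deg U hU)) (zpt pB chartB U hU x hx))) := by
    have h2 := congrArg (fun t => t.base (zpt pB chartB U hU x hx)) (emb_comp hB U hU)
    have h3 : pB.base ((RelProj.emb pB chartB U hU).base (zpt pB chartB U hU x hx)) = _ := h2
    rw [emb_zpt] at h3
    exact h3
  rw [h1]
  have h4 : hU.fromSpec ((Spec.map (ℬ.strZero U hU))
      ((Proj.toSpecZero (ℬ.deg U hU)) (zpt pB chartB U hU x hx))) ∈ Y.basicOpen a ↔
      (Spec.map (ℬ.strZero U hU)) ((Proj.toSpecZero (ℬ.deg U hU)) (zpt pB chartB U hU x hx)) ∈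
        PrimeSpectrum.basicOpen a :=
    (congrArg (fun O => (Spec.map (ℬ.strZero U hU))
      ((Proj.toSpecZero (ℬ.deg U hU)) (zpt pB chartB U hU x hx)) ∈ O)
      (hU.fromSpec_preimage_basicOpen a)).to_iff
  rw [h4]
  have h5 := mem_toSpecZero_iff (ℬ.deg U hU) (zpt pB chartB U hU x hx) ((ℬ.strZero U hU).hom a)
  show ¬ ((ℬ.strZero U hU).hom a ∈
    ((Proj.toSpecZero (ℬ.deg U hU)).base (zpt pB chartB U hU x hx)).asIdeal) ↔ _
  rw [h5]
  rfl

end Z

end Groth.Agent.LineChart
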