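import Mathlib
import Groth.Prelude.Def_RelProj4
import Groth.Prelude.Def_Pic
import Groth.Agent.Lib.LineChart1_helper5
import Groth.Agent.Lib.SymInv2_helper5
import Groth.Agent.Lib.ConeImm2_helper5
import Groth.Agent.Lib.QCAlgMod_helper9

/-!
# Charts of `Proj(Sym L)` for an invertible module `L`  (helper5)
-/

set_option autoImplicit false
universe u
open AlgebraicGeometry CategoryTheory CategoryTheory.Limits HomogeneousLocalization Opposite TopologicalSpace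
open scoped HomogeneousIdeal

noncomputable section

namespace Groth.Agent.LineChart

open Groth.Agent.RelProjTN RelProj QcqsLoc

variable {X PL : Scheme.{u}} (L : X.Modules) [L.IsQuasicoherent] (𝒮L : RelProj.QCGrAlg X)
  (j : L ⟶ 𝒮L.toModule) (hj : RelProj.IsGrSymAlg L 𝒮L j)

/-- The degree-one generator `T = j(e)` of `Sym(L)(V)`. -/
abbrev TT (V : X.Opens) (e : Γ(L, V)) : 𝒮L.presheaf.obj (op V) := (j.app V e : 𝒮L.presheaf.obj (op V))

include hj in
theorem hpoly_of_isGen (V : X.Opens) (hV : IsAffineOpen V) (e : Γ(L, V))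
    (he : GenLocH8.IsGen L V e) :
    Function.Bijective (Polynomial.eval₂RingHom (𝒮L.str.app (op V)).hom (TT L 𝒮L j V e)) := by
  have h1 := he V le_rfl
  have hres : rF L (le_refl V) e = e := by
    show (L.presheaf.map (homOfLE (le_refl V)).op).hom e = e
    have e' : (homOfLE (le_refl V)).op = 𝟙 (op V) := Subsingleton.elim _ _
    rw [e', L.presheaf.map_id]; rfl
  rw [hres] at h1
  exact Groth.Agent.SymInv.bijective_poly L 𝒮L j hj.1 V hV e h1.1 h1.2

include hj in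
theorem exists_coeff (V : X.Opens) (hV : IsAffineOpen V) (e : Γ(L, V))
    (he : GenLocH8.IsGen L V e) (k : ℕ) (s : 𝒮L.presheaf.obj (op V)) (hs : s ∈ 𝒮L.deg V hV k) :
    ∃ a : Γ(X, V), s = (𝒮L.str.app (op V)).hom a * TT L 𝒮L j V e ^ k :=
  Groth.Agent.ConeImm.exists_of_mem_deg (𝒮L.deg V hV) (𝒮L.str.app (op V)).hom (TT L 𝒮L j V e)
    (fun a => 𝒮L.str_mem V hV a) (hj.2 V hV e) (hpoly_of_isGen L 𝒮L j hj V hV e he) k s hs

include hj in
theorem T_not_mem (V : X.Opens) (hV : IsAffineOpen V) (e : Γ(L, V))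
    (he : GenLocH8.IsGen L V e) (y : Proj (𝒮L.deg V hV)) :
    TT L 𝒮L j V e ∉ y.asHomogeneousIdeal := by
  have h1 := Groth.Agent.ConeImm.basicOpen_eq_top (𝒮L.deg V hV) (𝒮L.str.app (op V)).hom
    (TT L 𝒮L j V e) (fun a => 𝒮L.str_mem V hV a) (hj.2 V hV e)
    (hpoly_of_isGen L 𝒮L j hj V hV e he)
  have h2 : y ∈ Proj.basicOpen (𝒮L.deg V hV) (TT L 𝒮L j V e) := h1 ▸ trivial
  exact (Proj.mem_basicOpen _ _ _).mp h2

theorem res_T {V V' : X.Opens} (h : V' ≤ V) (e : Γ(L, V)) :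
    (𝒮L.presheaf.map (homOfLE h).op).hom (TT L 𝒮L j V e) = TT L 𝒮L j V' (rF L h e) :=
  (QCohCrit.app_naturality j (homOfLE h) e).symm

theorem exists_basic_gen (hL : PicF.IsInvertible L) (V : X.Opens) (hV : IsAffineOpen V) (x : X)
    (hx : x ∈ V) :
    ∃ g : Γ(X, V), x ∈ X.basicOpen g ∧ ∃ e : Γ(L, X.basicOpen g),
      GenLocH8.IsGen L (X.basicOpen g) e := by
  obtain ⟨W, -, hxW, e, he⟩ := GenLocH8.exists_isGen hL x
  obtain ⟨g, hg, hxg⟩ := hV.exists_basicOpen_le (V := W) ⟨x, hxW⟩ hx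
  exact ⟨g, hxg, rF L hg e, he.res hg⟩

/-- The degree-`n` part of `𝒮L(D(g))` comes from that of `𝒮L(V)`, up to a power of `g`. -/
theorem exists_deg_lift (V : X.Opens) (hV : IsAffineOpen V) (g : Γ(X, V)) (n : ℕ)
    (y : 𝒮L.presheaf.obj (op (X.basicOpen g))) (hy : y ∈ 𝒮L.deg _ (hV.basicOpen g) n) :
    ∃ (m : ℕ) (b : 𝒮L.presheaf.obj (op V)), b ∈ 𝒮L.deg V hV n ∧
      (𝒮L.presheaf.map (homOfLE (X.basicOpen_le g)).op).hom b =
        y * (𝒮L.presheaf.map (homOfLE (X.basicOpen_le g)).op).hom ((𝒮L.str.app (op V)).hom g) ^ m := by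
  classical
  letI alg : Algebra (𝒮L.presheaf.obj (op V)) (𝒮L.presheaf.obj (op (X.basicOpen g))) :=
    (𝒮L.presheaf.map (homOfLE (X.basicOpen_le g)).op).hom.toAlgebra
  haveI hloc : IsLocalization.Away ((𝒮L.str.app (op V)).hom g)
      (𝒮L.presheaf.obj (op (X.basicOpen g))) := 𝒮L.isQC V hV g
  obtain ⟨m, b, hb⟩ := IsLocalization.Away.surj ((𝒮L.str.app (op V)).hom g) y
  have hb' : y * (𝒮L.presheaf.map (homOfLE (X.basicOpen_le g)).op).hom
      ((𝒮L.str.app (op V)).hom g) ^ m =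
      (𝒮L.presheaf.map (homOfLE (X.basicOpen_le g)).op).hom b := hb
  refine ⟨m, (DirectSum.decompose (𝒮L.deg V hV) b n : 𝒮L.presheaf.obj (op V)),
    SetLike.coe_mem _, ?_⟩
  have h3 := GradedRingHom.map_directSumDecompose (𝒮L.deg V hV) (𝒮L.deg _ (hV.basicOpen g))
    (𝒮L.res hV (hV.basicOpen g) (X.basicOpen_le g)) (x := b) (i := n)
  have h4 : 𝒮L.res hV (hV.basicOpen g) (X.basicOpen_le g) b =
      (𝒮L.presheaf.map (homOfLE (X.basicOpen_le g)).op).hom b := rfl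
  have hmem : y * (𝒮L.presheaf.map (homOfLE (X.basicOpen_le g)).op).hom
      ((𝒮L.str.app (op V)).hom g) ^ m ∈ 𝒮L.deg _ (hV.basicOpen g) n := by
    have h5 : (𝒮L.presheaf.map (homOfLE (X.basicOpen_le g)).op).hom
        ((𝒮L.str.app (op V)).hom g) ∈ 𝒮L.deg _ (hV.basicOpen g) 0 :=
      𝒮L.map_mem hV (hV.basicOpen g) (X.basicOpen_le g) (𝒮L.str_mem V hV g)
    have h6 := SetLike.mul_mem_graded hy (SetLike.pow_mem_graded m h5)
    simpa using h6
  rw [h4, ← hb', DirectSum.decompose_of_mem_same _ hmem] at h3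
  exact h3

end Groth.Agent.LineChart
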