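import Mathlib
import Groth.Prelude.Def_RelProj4
import Groth.Prelude.Def_Pic
import Groth.Agent.Lib.LineChart2_helper5

/-!
# Non-vanishing loci of sections of `L^{⊗n}` in terms of `Proj(Sym L)`  (helper5)

For a compatible family `t_V ∈ 𝒮L(V)_n` (`V` affine), and a point `x'` of `Proj(𝒮L)` over `x`:
`x' ∈ D_+(t_V)` for some affine `V ∋ x` iff `𝒮L(W)_n ⊆ (t_W)` for some affine `W ∋ x`.
-/

set_option autoImplicit false
universe u
open AlgebraicGeometry CategoryTheory CategoryTheory.Limits HomogeneousLocalization Opposite TopologicalSpace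
open scoped HomogeneousIdeal

noncomputable section

namespace Groth.Agent.LineChart

open Groth.Agent.RelProjTN RelProj QcqsLoc

variable {X PL : Scheme.{u}} (L : X.Modules) [L.IsQuasicoherent] (𝒮L : RelProj.QCGrAlg X)
  (j : L ⟶ 𝒮L.toModule) (hj : RelProj.IsGrSymAlg L 𝒮L j) (hL : PicF.IsInvertible L)
  {pL : PL ⟶ X}
  {chartL : ∀ (U : X.Opens) (hU : IsAffineOpen U), (((pL ⁻¹ᵁ U : PL.Opens) : Scheme.{u}) ≅ Proj (𝒮L.deg U hU))}
  (hPL : RelProj.IsRelProj 𝒮L pL chartL)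
  (n : ℕ)
  (t : ∀ (V : X.Opens), IsAffineOpen V → 𝒮L.presheaf.obj (op V))
  (ht_deg : ∀ (V : X.Opens) (hV : IsAffineOpen V), t V hV ∈ 𝒮L.deg V hV n)
  (ht_res : ∀ (V : X.Opens) (hV : IsAffineOpen V) (V' : X.Opens) (hV' : IsAffineOpen V') (h : V' ≤ V),
    (𝒮L.presheaf.map (homOfLE h).op).hom (t V hV) = t V' hV')

include hj hL hPL ht_deg ht_res in
theorem A_to_B (x' : PL) (V : X.Opens) (hV : IsAffineOpen V) (hxV : x' ∈ pL ⁻¹ᵁ V)
    (hA : zpt pL chartL V hV x' hxV ∈ Proj.basicOpen (𝒮L.deg V hV) (t V hV)) :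
    ∃ (W : X.Opens) (hW : IsAffineOpen W), pL x' ∈ W ∧
      ((𝒮L.deg W hW n : AddSubgroup (𝒮L.presheaf.obj (op W))) : Set (𝒮L.presheaf.obj (op W))) ⊆
        (Ideal.span {t W hW} : Set (𝒮L.presheaf.obj (op W))) := by
  obtain ⟨g, hxg, e, he⟩ := exists_basic_gen L hL V hV (pL x') hxV
  have hV' : IsAffineOpen (X.basicOpen g) := hV.basicOpen g
  have hx' : x' ∈ pL ⁻¹ᵁ (X.basicOpen g) := hxg
  have h1 := (mem_zpt_res hPL V hV g x' hx' (t V hV)).mp hA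
  rw [ht_res V hV _ hV' (X.basicOpen_le g)] at h1
  obtain ⟨a, ha⟩ := exists_coeff L 𝒮L j hj _ hV' e he n (t _ hV') (ht_deg _ hV')
  have h2 : (𝒮L.str.app (op (X.basicOpen g))).hom a ∉
      (zpt pL chartL _ hV' x' hx').asHomogeneousIdeal := by
    intro hmem
    apply (Proj.mem_basicOpen _ _ _).mp h1
    rw [ha]
    exact Ideal.mul_mem_right _ _ hmem
  have h3 : pL x' ∈ X.basicOpen a := (mem_basicOpen_iff_not_mem_zpt hPL _ hV' x' hx' a).mpr h2
  have hW : IsAffineOpen (X.basicOpen a) := hV'.basicOpen a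
  refine ⟨X.basicOpen a, hW, h3, ?_⟩
  intro y hy
  have heW := he.res (X.basicOpen_le a)
  obtain ⟨c, hc⟩ := exists_coeff L 𝒮L j hj _ hW _ heW n y hy
  -- `t W = str(a|W) * T_W^n`
  have htW : t _ hW = (𝒮L.str.app (op (X.basicOpen a))).hom (rX (X.basicOpen_le a) a) *
      TT L 𝒮L j _ (rF L (X.basicOpen_le a) e) ^ n := by
    rw [← ht_res _ hV' _ hW (X.basicOpen_le a), ha, map_mul, map_pow, res_T,
      QCAlgMod.str_res 𝒮L.toQCAlg (X.basicOpen_le a) a]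
  obtain ⟨v, hv⟩ : IsUnit (rX (X.basicOpen_le a) a) := RingedSpace.isUnit_res_basicOpen _ a
  refine Ideal.mem_span_singleton'.mpr ⟨(𝒮L.str.app (op (X.basicOpen a))).hom (c * ↑v⁻¹), ?_⟩
  rw [htW, hc, ← mul_assoc, ← map_mul, ← hv, mul_assoc, Units.inv_mul, mul_one]

include hj hL hPL ht_res in
theorem B_to_A (x' : PL) (W : X.Opens) (hW : IsAffineOpen W) (hxW : pL x' ∈ W)
    (hB : ((𝒮L.deg W hW n : AddSubgroup (𝒮L.presheaf.obj (op W))) : Set (𝒮L.presheaf.obj (op W))) ⊆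
        (Ideal.span {t W hW} : Set (𝒮L.presheaf.obj (op W)))) :
    ∃ (V : X.Opens) (hV : IsAffineOpen V) (hxV : x' ∈ pL ⁻¹ᵁ V),
      zpt pL chartL V hV x' hxV ∈ Proj.basicOpen (𝒮L.deg V hV) (t V hV) := by
  obtain ⟨g, hxg, e, he⟩ := exists_basic_gen L hL W hW (pL x') hxW
  have hW' : IsAffineOpen (X.basicOpen g) := hW.basicOpen g
  have hx' : x' ∈ pL ⁻¹ᵁ (X.basicOpen g) := hxg
  refine ⟨X.basicOpen g, hW', hx', ?_⟩
  have hTn : TT L 𝒮L j _ e ^ n ∈ 𝒮L.deg _ hW' n := by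
    have hT1 : TT L 𝒮L j _ e ∈ 𝒮L.deg _ hW' 1 := hj.2 _ hW' e
    have := SetLike.pow_mem_graded n hT1
    simpa using this
  obtain ⟨m, b, hb, hbres⟩ := exists_deg_lift 𝒮L W hW g n _ hTn
  obtain ⟨c, hc⟩ := Ideal.mem_span_singleton'.mp (hB hb)
  rw [← hc, map_mul, ht_res W hW _ hW' (X.basicOpen_le g)] at hbres
  refine (Proj.mem_basicOpen _ _ _).mpr fun hmem => ?_
  have h1 : TT L 𝒮L j _ e ^ n * (𝒮L.presheaf.map (homOfLE (X.basicOpen_le g)).op).hom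
      ((𝒮L.str.app (op W)).hom g) ^ m ∈ (zpt pL chartL _ hW' x' hx').asHomogeneousIdeal := by
    rw [← hbres]
    exact Ideal.mul_mem_left _ _ hmem
  have hprime := (zpt pL chartL _ hW' x' hx').isPrime
  rcases hprime.mem_or_mem h1 with h2 | h2
  · exact T_not_mem L 𝒮L j hj _ hW' e he _ (hprime.mem_of_pow_mem n h2)
  · have h3 := hprime.mem_of_pow_mem m h2
    letI alg : Algebra (𝒮L.presheaf.obj (op W)) (𝒮L.presheaf.obj (op (X.basicOpen g))) :=
      (𝒮L.presheaf.map (homOfLE (X.basicOpen_le g)).op).hom.toAlgebra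
    haveI hloc : IsLocalization.Away ((𝒮L.str.app (op W)).hom g)
        (𝒮L.presheaf.obj (op (X.basicOpen g))) := 𝒮L.isQC W hW g
    have hu : IsUnit ((𝒮L.presheaf.map (homOfLE (X.basicOpen_le g)).op).hom
        ((𝒮L.str.app (op W)).hom g)) :=
      IsLocalization.Away.algebraMap_isUnit ((𝒮L.str.app (op W)).hom g)
    exact hprime.ne_top (Ideal.eq_top_of_isUnit_mem _ h3 hu)

end Groth.Agent.LineChart
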