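import Mathlib
import Groth.Prelude.Def_RelProj4
import Groth.Prelude.Def_Pic
import Groth.Agent.Lib.LineChart3_helper5
import Groth.Agent.Lib.ProjNull_helper3

/-!
# `r_{L,ψ}` over an affine base: `r⁻¹(D_+(f)) = X_t`, everywhere-definedness, dominance  (helper5)
-/

set_option autoImplicit false
universe u
open AlgebraicGeometry CategoryTheory CategoryTheory.Limits HomogeneousLocalization Opposite TopologicalSpace
open scoped HomogeneousIdeal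

noncomputable section

namespace Groth.Agent.LineChart

open Groth.Agent.RelProjTN RelProj QcqsLoc Groth.Agent.ProjQ Groth.Agent.ProjQLim

variable {Y X P PL : Scheme.{u}} (q : X ⟶ Y) (L : X.Modules) [L.IsQuasicoherent]
  (hL : PicF.IsInvertible L)
  (𝒮 : RelProj.QCGrAlg Y) (𝒮L : RelProj.QCGrAlg X)
  (j : L ⟶ 𝒮L.toModule) (hj : RelProj.IsGrSymAlg L 𝒮L j)
  (u : RelProj.QGrHom q 𝒮 𝒮L)
  (p : P ⟶ Y)
  (chart : ∀ (U : Y.Opens) (hU : IsAffineOpen U), (((p ⁻¹ᵁ U : P.Opens) : Scheme.{u}) ≅ Proj (𝒮.deg U hU)))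
  (hP : RelProj.IsRelProj 𝒮 p chart)
  (pL : PL ⟶ X)
  (chartL : ∀ (U : X.Opens) (hU : IsAffineOpen U), (((pL ⁻¹ᵁ U : PL.Opens) : Scheme.{u}) ≅ Proj (𝒮L.deg U hU)))
  (hPL : RelProj.IsRelProj 𝒮L pL chartL)
  (hY : IsAffineOpen (⊤ : Y.Opens))

theorem le_pre (V : X.Opens) : V ≤ q ⁻¹ᵁ (⊤ : Y.Opens) :=
  le_top.trans (Scheme.Hom.preimage_top q).ge

/-- The family `t_V = ψ♭(s)|V`. -/
def tFam (s : 𝒮.presheaf.obj (op ⊤)) (V : X.Opens) (_ : IsAffineOpen V) : 𝒮L.presheaf.obj (op V) :=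
  (u.appLE ⊤ V (le_pre q V)).hom s

theorem tFam_deg {n : ℕ} (s : 𝒮.presheaf.obj (op ⊤)) (hs : s ∈ 𝒮.deg ⊤ hY n)
    (V : X.Opens) (hV : IsAffineOpen V) : tFam q 𝒮 𝒮L u s V hV ∈ 𝒮L.deg V hV n :=
  (u.gradedAt ⊤ hY V hV (le_pre q V)).map_mem hs

theorem tFam_res (s : 𝒮.presheaf.obj (op ⊤)) (V : X.Opens) (hV : IsAffineOpen V) (V' : X.Opens)
    (hV' : IsAffineOpen V') (h : V' ≤ V) :
    (𝒮L.presheaf.map (homOfLE h).op).hom (tFam q 𝒮 𝒮L u s V hV) = tFam q 𝒮 𝒮L u s V' hV' :=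
  congrArg (fun ψ => ψ.hom s) (u.toQHom.appLE_map (le_pre q V) h)

theorem tFam_eq (s : 𝒮.presheaf.obj (op ⊤)) (V : X.Opens) (hV : IsAffineOpen V) :
    tFam q 𝒮 𝒮L u s V hV = u.gradedAt ⊤ hY V hV (le_pre q V) s := rfl

include hL hj hPL in
/-- **Everywhere-definedness.** -/
theorem domQ_eq_top_iff [IsIso pL] :
    RelProj.domQ u pL chartL = ⊤ ↔
      ∀ x : X, ∃ (n : ℕ) (_ : 0 < n) (s : 𝒮.presheaf.obj (op ⊤)) (_ : s ∈ 𝒮.deg ⊤ hY n)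
        (V : X.Opens) (hV : IsAffineOpen V), x ∈ V ∧
          ((𝒮L.deg V hV n : AddSubgroup (𝒮L.presheaf.obj (op V))) : Set (𝒮L.presheaf.obj (op V))) ⊆
            (Ideal.span {(u.appLE ⊤ V (le_top.trans (Scheme.Hom.preimage_top q).ge)).hom s} :
              Set (𝒮L.presheaf.obj (op V))) := by
  constructor
  · intro h x
    obtain ⟨x', rfl⟩ := pL.surjective x
    have hx' : x' ∈ RelProj.domQ u pL chartL := h ▸ Opens.mem_top x'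
    obtain ⟨V, hV, hxV, -⟩ := Opens.isBasis_iff_nbhd.mp X.isBasis_affineOpens
      (Opens.mem_top (pL x'))
    have hxV' : x' ∈ pL ⁻¹ᵁ V := hxV
    obtain ⟨d, hd, f, hf, hfr⟩ := exists_idx_at u hPL x' hx' ⊤ hY V hV (le_pre q V) hxV'
    have h1 := (mem_range_cP_iff u ⟨⊤, hY, V, hV, le_pre q V, d, hd, f, hf⟩ x' hxV').mp hfr
    obtain ⟨W, hW, hxW, hsub⟩ := A_to_B L 𝒮L j hj hL hPL d (tFam q 𝒮 𝒮L u f)
      (tFam_deg q 𝒮 𝒮L u hY f hf) (tFam_res q 𝒮 𝒮L u f) x' V hV hxV' h1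
    exact ⟨d, hd, f, hf, W, hW, hxW, hsub⟩
  · intro h
    rw [eq_top_iff]
    intro x' _
    obtain ⟨n, hn, s, hs, V, hV, hxV, hsub⟩ := h (pL x')
    obtain ⟨V', hV', hxV', hmem⟩ := B_to_A L 𝒮L j hj hL hPL n (tFam q 𝒮 𝒮L u s)
      (tFam_res q 𝒮 𝒮L u s) x' V hV hxV hsub
    exact mem_domQ_of_mem_domOpen u x' ⊤ hY V' hV' (le_pre q V') hxV'
      (mem_domOpen_of_mem_basicOpen _ hn hs _ hmem)

end Groth.Agent.LineChart
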