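import Mathlib
import Groth.Prelude.Def_RelProj4
import Groth.Prelude.Def_Pic
import Groth.Agent.Lib.LineChart4_helper5

/-!
# `r⁻¹(D_+(f)) = X_t` and the dominance criterion over an affine base  (helper5)
-/

set_option autoImplicit false
universe u
open AlgebraicGeometry CategoryTheory CategoryTheory.Limits HomogeneousLocalization Opposite TopologicalSpace
open scoped HomogeneousIdeal

noncomputable section

namespace Groth.Agent.LineChart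

open Groth.Agent.RelProjTN RelProj QcqsLoc Groth.Agent.ProjQ Groth.Agent.ProjQLim

variable {Y X P PL : Scheme.{u}} (q : X ⟶ Y) (L : X.Modules) [L.IsQuasicoherent]
  (hL : PicF.IsInvertible L)
  (𝒮 : RelProj.QCGrAlg Y) (𝒮L : RelProj.QCGrAlg X)
  (j : L ⟶ 𝒮L.toModule) (hj : RelProj.IsGrSymAlg L 𝒮L j)
  (u : RelProj.QGrHom q 𝒮 𝒮L)
  (p : P ⟶ Y)
  (chart : ∀ (U : Y.Opens) (hU : IsAffineOpen U), (((p ⁻¹ᵁ U : P.Opens) : Scheme.{u}) ≅ Proj (𝒮.deg U hU)))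
  (hP : RelProj.IsRelProj 𝒮 p chart)
  (pL : PL ⟶ X)
  (chartL : ∀ (U : X.Opens) (hU : IsAffineOpen U), (((pL ⁻¹ᵁ U : PL.Opens) : Scheme.{u}) ≅ Proj (𝒮L.deg U hU)))
  (hPL : RelProj.IsRelProj 𝒮L pL chartL)
  (r : ((RelProj.domQ u pL chartL : PL.Opens) : Scheme.{u}) ⟶ P)
  (hr : RelProj.IsProjQMapOn u p chart pL chartL (RelProj.domQ u pL chartL) r)
  (hY : IsAffineOpen (⊤ : Y.Opens))

include hr hPL in
/-- `r(y) ∈ D_+(f)` iff `y ∈ D_+(ψ♭ f)`, in any chart. -/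
theorem r_mem_iff (y : ((RelProj.domQ u pL chartL : PL.Opens) : Scheme.{u})) {d : ℕ} (hd : 0 < d)
    (f : 𝒮.presheaf.obj (op ⊤)) (hf : f ∈ 𝒮.deg ⊤ hY d) (V : X.Opens) (hV : IsAffineOpen V)
    (hxV : y.1 ∈ pL ⁻¹ᵁ V) :
    r.base y ∈ (RelProj.emb p chart ⊤ hY) ''ᵁ Proj.basicOpen (𝒮.deg ⊤ hY) f ↔
      zpt pL chartL V hV y.1 hxV ∈ Proj.basicOpen (𝒮L.deg V hV) (tFam q 𝒮 𝒮L u f V hV) := by
  have hvx : r.base y ∈ p ⁻¹ᵁ (⊤ : Y.Opens) := trivial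
  have h1 := projQ_mem_basicOpen_iff u hPL _ rfl r hr y ⊤ hY V hV (le_pre q V) hxV hvx hd hf
  refine Iff.trans ?_ h1
  constructor
  · rintro ⟨z, hz, hzr⟩
    have : zpt p chart ⊤ hY (r.base y) hvx = z := by
      apply (RelProj.emb p chart ⊤ hY).isOpenEmbedding.injective
      rw [emb_zpt]
      exact hzr.symm
    rw [this]
    exact hz
  · intro h
    exact ⟨_, h, emb_zpt ⊤ hY _ hvx⟩

include hL hj hr hPL in
/-- **`r⁻¹(D_+(f)) = X_t`.** -/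
theorem preimage_basicOpen_eq (d : ℕ) (hd : 0 < d) (f : 𝒮.presheaf.obj (op ⊤))
    (hf : f ∈ 𝒮.deg ⊤ hY d) :
    (RelProj.domQ u pL chartL).ι ''ᵁ
        (r ⁻¹ᵁ ((RelProj.emb p chart ⊤ hY) ''ᵁ Proj.basicOpen (𝒮.deg ⊤ hY) f)) =
      pL ⁻¹ᵁ
        (⨆ V : {V : X.affineOpens //
          ((𝒮L.deg V.1 V.2 d : AddSubgroup (𝒮L.presheaf.obj (op (V.1 : X.Opens)))) :
              Set (𝒮L.presheaf.obj (op (V.1 : X.Opens)))) ⊆
            (Ideal.span {(u.appLE ⊤ (V.1 : X.Opens)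
              (le_top.trans (Scheme.Hom.preimage_top q).ge)).hom f} :
                Set (𝒮L.presheaf.obj (op (V.1 : X.Opens))))},
          (V.1.1 : X.Opens)) := by
  ext x'
  constructor
  · rintro ⟨y, hy, rfl⟩
    obtain ⟨V, hV, hxV, -⟩ := Opens.isBasis_iff_nbhd.mp X.isBasis_affineOpens
      (Opens.mem_top (pL y.1))
    have hxV' : y.1 ∈ pL ⁻¹ᵁ V := hxV
    have h1 := (r_mem_iff q 𝒮 𝒮L u p chart pL chartL hPL r hr hY y hd f hf V hV hxV').mp hy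
    obtain ⟨W, hW, hxW, hsub⟩ := A_to_B L 𝒮L j hj hL hPL d (tFam q 𝒮 𝒮L u f)
      (tFam_deg q 𝒮 𝒮L u hY f hf) (tFam_res q 𝒮 𝒮L u f) y.1 V hV hxV' h1
    exact Opens.mem_iSup.mpr ⟨⟨⟨W, hW⟩, hsub⟩, hxW⟩
  · intro hx'
    obtain ⟨⟨⟨W, hW⟩, hsub⟩, hxW⟩ := Opens.mem_iSup.mp hx'
    obtain ⟨V', hV', hxV', hmem⟩ := B_to_A L 𝒮L j hj hL hPL d (tFam q 𝒮 𝒮L u f)
      (tFam_res q 𝒮 𝒮L u f) x' W hW hxW hsub
    have hxG : x' ∈ RelProj.domQ u pL chartL :=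
      mem_domQ_of_mem_domOpen u x' ⊤ hY V' hV' (le_pre q V') hxV'
        (mem_domOpen_of_mem_basicOpen _ hd hf _ hmem)
    refine ⟨⟨x', hxG⟩, ?_, rfl⟩
    exact (r_mem_iff q 𝒮 𝒮L u p chart pL chartL hPL r hr hY ⟨x', hxG⟩ hd f hf V' hV' hxV').mpr hmem

include hL hj hr hPL in
/-- **Dominance criterion.** -/
theorem isDominant_iff [IsIso pL] :
    IsDominant r ↔
      ∀ (n : ℕ), 0 < n → ∀ s ∈ 𝒮.deg ⊤ hY n,
        (∀ x : X, ∃ (V : X.Opens) (_ : IsAffineOpen V), x ∈ V ∧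
          IsNilpotent ((u.appLE ⊤ V (le_top.trans (Scheme.Hom.preimage_top q).ge)).hom s)) →
          IsNilpotent s := by
  constructor
  · intro hdom n hn s hs hloc
    by_contra hnil
    obtain ⟨z, hz⟩ := (Groth.Agent.Lib.ProjNull_helper3.basicOpen_nonempty_iff (𝒮.deg ⊤ hY)
      (HomogeneousIdeal.mem_irrelevant_of_mem _ hn hs)).mpr hnil
    have hopen : IsOpen ((RelProj.emb p chart ⊤ hY).base ''
        (Proj.basicOpen (𝒮.deg ⊤ hY) s : Set (Proj (𝒮.deg ⊤ hY)))) :=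
      (RelProj.emb p chart ⊤ hY).isOpenEmbedding.isOpenMap _ (Proj.basicOpen (𝒮.deg ⊤ hY) s).isOpen
    obtain ⟨_, ⟨z', hz', rfl⟩, ⟨y, hy⟩⟩ := hdom.denseRange.inter_open_nonempty _ hopen
      ⟨_, ⟨z, hz, rfl⟩⟩
    obtain ⟨V, hV, hxV, hnilV⟩ := hloc (pL y.1)
    have hxV' : y.1 ∈ pL ⁻¹ᵁ V := hxV
    have h1 := (r_mem_iff q 𝒮 𝒮L u p chart pL chartL hPL r hr hY y hn s hs V hV hxV').mp
      ⟨z', hz', hy.symm⟩
    obtain ⟨k, hk⟩ := hnilV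
    apply (Proj.mem_basicOpen _ _ _).mp h1
    refine (zpt pL chartL V hV y.1 hxV').isPrime.mem_of_pow_mem k ?_
    have hk' : tFam q 𝒮 𝒮L u s V hV ^ k = 0 := hk
    rw [hk']
    exact zero_mem _
  · intro H
    refine ⟨?_⟩
    rw [DenseRange, dense_iff_inter_open]
    rintro N hN ⟨w, hw⟩
    have hw' : w ∈ p ⁻¹ᵁ (⊤ : Y.Opens) := trivial
    have hz : zpt p chart ⊤ hY w hw' ∈ (RelProj.emb p chart ⊤ hY) ⁻¹ᵁ ⟨N, hN⟩ := by
      show (RelProj.emb p chart ⊤ hY).base (zpt p chart ⊤ hY w hw') ∈ N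
      rw [emb_zpt]
      exact hw
    obtain ⟨d, hd, f, hf, hzf, hfO⟩ := exists_homogeneous_basicOpen (𝒮.deg ⊤ hY) _ _ hz
    have hfn : ¬ IsNilpotent f :=
      (Groth.Agent.Lib.ProjNull_helper3.basicOpen_nonempty_iff (𝒮.deg ⊤ hY)
        (HomogeneousIdeal.mem_irrelevant_of_mem _ hd hf)).mp ⟨_, hzf⟩
    have hH := mt (H d hd f hf) hfn
    push Not at hH
    obtain ⟨x₀, hx₀⟩ := hH
    obtain ⟨W, hW, hxW, e, he⟩ := GenLocH8.exists_isGen hL x₀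
    obtain ⟨a, ha⟩ := exists_coeff L 𝒮L j hj W hW e he d (tFam q 𝒮 𝒮L u f W hW)
      (tFam_deg q 𝒮 𝒮L u hY f hf W hW)
    have han : ¬ IsNilpotent a := by
      intro hnil
      apply hx₀ W hW hxW
      show IsNilpotent (tFam q 𝒮 𝒮L u f W hW)
      rw [ha]
      exact Commute.isNilpotent_mul_right (Commute.all _ _) (hnil.map _)
    have hne : PrimeSpectrum.basicOpen a ≠ ⊥ := fun h =>
      han ((PrimeSpectrum.basicOpen_eq_bot_iff a).mp h)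
    obtain ⟨𝔭, h𝔭⟩ : ∃ 𝔭 : PrimeSpectrum Γ(X, W), 𝔭 ∈ PrimeSpectrum.basicOpen a := by
      by_contra hcon
      push Not at hcon
      exact hne (Opens.ext (Set.eq_empty_of_forall_notMem hcon))
    have hx₁ : hW.fromSpec 𝔭 ∈ X.basicOpen a := by
      have : 𝔭 ∈ hW.fromSpec ⁻¹ᵁ X.basicOpen a := by
        rw [hW.fromSpec_preimage_basicOpen a]; exact h𝔭
      exact this
    obtain ⟨x₁', hx₁'⟩ := pL.surjective (hW.fromSpec 𝔭)
    have hx₁W : x₁' ∈ pL ⁻¹ᵁ W := by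
      show pL x₁' ∈ W
      rw [hx₁']
      exact X.basicOpen_le a hx₁
    have h2 : (𝒮L.str.app (op W)).hom a ∉ (zpt pL chartL W hW x₁' hx₁W).asHomogeneousIdeal :=
      (mem_basicOpen_iff_not_mem_zpt hPL W hW x₁' hx₁W a).mp (hx₁' ▸ hx₁)
    have h3 : zpt pL chartL W hW x₁' hx₁W ∈
        Proj.basicOpen (𝒮L.deg W hW) (tFam q 𝒮 𝒮L u f W hW) := by
      refine (Proj.mem_basicOpen _ _ _).mpr fun hmem => ?_
      rw [ha] at hmem
      rcases (zpt pL chartL W hW x₁' hx₁W).isPrime.mem_or_mem hmem with h4 | h4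
      · exact h2 h4
      · exact T_not_mem L 𝒮L j hj W hW e he _
          ((zpt pL chartL W hW x₁' hx₁W).isPrime.mem_of_pow_mem d h4)
    have hxG : x₁' ∈ RelProj.domQ u pL chartL :=
      mem_domQ_of_mem_domOpen u x₁' ⊤ hY W hW (le_pre q W) hx₁W
        (mem_domOpen_of_mem_basicOpen _ hd hf _ h3)
    have h5 := (r_mem_iff q 𝒮 𝒮L u p chart pL chartL hPL r hr hY ⟨x₁', hxG⟩ hd f hf W hW
      hx₁W).mpr h3
    obtain ⟨z', hz', hzr⟩ := h5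
    refine ⟨r.base ⟨x₁', hxG⟩, ?_, ⟨⟨x₁', hxG⟩, rfl⟩⟩
    rw [← hzr]
    exact hfO hz'

end Groth.Agent.LineChart
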