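import Mathlib
import Groth.Prelude
import Groth.Agent.Lib.ModHomBasis_helper5
import Groth.Agent.Lib.QCAlgMod_helper9
import Groth.Agent.Lib.FinCov5_helper8

/-!
# The degree-`d` part of a quasi-coherent graded algebra as a quasi-coherent module  (helper5)
APPEND-ONLY once landed.

* `PBProj.degMod 𝒮 d : Y.Modules` with `degι : degMod 𝒮 d ⟶ 𝒮.toModule` (mono): over an affine open
  `U`, the image of `degι` is exactly `𝒮(U)_d`.
* quasi-coherent; of finite type when `𝒮.IsFTDeg d`.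
-/

set_option autoImplicit false
universe u
open CategoryTheory CategoryTheory.Limits AlgebraicGeometry TopologicalSpace Opposite

noncomputable section

namespace Groth.Agent.PBProj

open QcqsLoc QCohExtn QCAlgMod

variable {Y : Scheme.{u}} (𝒮 : RelProj.QCGrAlg Y)

/-- The complement of the degree-`d` projection, on sections over an affine open. -/
def cproj (d : ℕ) (U : Y.Opens) (hU : IsAffineOpen U) (x : 𝒮.presheaf.obj (op U)) :
    𝒮.presheaf.obj (op U) :=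
  x - (DirectSum.decompose (𝒮.deg U hU) x d : 𝒮.presheaf.obj (op U))

theorem cproj_add (d : ℕ) (U : Y.Opens) (hU : IsAffineOpen U) (x y : 𝒮.presheaf.obj (op U)) :
    cproj 𝒮 d U hU (x + y) = cproj 𝒮 d U hU x + cproj 𝒮 d U hU y := by
  unfold cproj
  rw [DirectSum.decompose_add, DirectSum.add_apply, AddMemClass.coe_add]
  ring

theorem cproj_smul (d : ℕ) (U : Y.Opens) (hU : IsAffineOpen U) (r : Γ(Y, U))
    (x : 𝒮.presheaf.obj (op U)) :
    cproj 𝒮 d U hU ((𝒮.str.app (op U)).hom r * x) = (𝒮.str.app (op U)).hom r * cproj 𝒮 d U hU x := by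
  unfold cproj
  rw [DirectSum.coe_decompose_mul_of_left_mem_of_le (𝒮.deg U hU) (𝒮.str_mem U hU r) (Nat.zero_le d),
    Nat.sub_zero, mul_sub]

theorem cproj_res (d : ℕ) {U V : Y.Opens} (hU : IsAffineOpen U) (hV : IsAffineOpen V) (h : V ≤ U)
    (x : 𝒮.presheaf.obj (op U)) :
    cproj 𝒮 d V hV (𝒮.res hU hV h x) = 𝒮.res hU hV h (cproj 𝒮 d U hU x) := by
  unfold cproj
  rw [map_sub, GradedRingHom.map_directSumDecompose]

theorem cproj_eq_zero_iff (d : ℕ) (U : Y.Opens) (hU : IsAffineOpen U) (x : 𝒮.presheaf.obj (op U)) :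
    cproj 𝒮 d U hU x = 0 ↔ x ∈ 𝒮.deg U hU d := by
  unfold cproj
  rw [sub_eq_zero]
  constructor
  · intro h
    rw [h]
    exact SetLike.coe_mem _
  · intro h
    exact (DirectSum.decompose_of_mem_same (𝒮.deg U hU) h).symm

theorem exists_cprojHom (d : ℕ) :
    ∃ π : 𝒮.toModule ⟶ 𝒮.toModule, ∀ (U : Y.Opens) (hU : IsAffineOpen U) (x : Γ(𝒮.toModule, U)),
      toB 𝒮.toQCAlg (ap π U x) = cproj 𝒮 d U hU (toB 𝒮.toQCAlg x) := by
  have hB : Opens.IsBasis (Set.range (fun i : Y.affineOpens => (i.1 : Y.Opens))) := by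
    rw [Subtype.range_coe]
    exact Y.isBasis_affineOpens
  obtain ⟨φ, hφ⟩ := Groth.Agent.ModHomBasis.exists_hom_of_basis 𝒮.toModule 𝒮.toModule
    (fun i : Y.affineOpens => (i.1 : Y.Opens)) hB
    (fun i x => ofB 𝒮.toQCAlg (cproj 𝒮 d i.1 i.2 (toB 𝒮.toQCAlg x)))
    (fun i x y => cproj_add 𝒮 d i.1 i.2 _ _)
    (fun i r x => cproj_smul 𝒮 d i.1 i.2 r _)
    (fun i k h x => cproj_res 𝒮 d i.2 k.2 h _)
  exact ⟨φ, fun U hU x => hφ ⟨U, hU⟩ x⟩

/-- The complement of the degree-`d` projection, as an endomorphism of the module `𝒮`. -/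
def cprojHom (d : ℕ) : 𝒮.toModule ⟶ 𝒮.toModule := (exists_cprojHom 𝒮 d).choose

theorem cprojHom_app (d : ℕ) (U : Y.Opens) (hU : IsAffineOpen U) (x : Γ(𝒮.toModule, U)) :
    toB 𝒮.toQCAlg (ap (cprojHom 𝒮 d) U x) = cproj 𝒮 d U hU (toB 𝒮.toQCAlg x) :=
  (exists_cprojHom 𝒮 d).choose_spec U hU x

/-- The degree-`d` part of `𝒮`, as an `O_Y`-module. -/
def degMod (d : ℕ) : Y.Modules := kernel (cprojHom 𝒮 d)

/-- The inclusion of the degree-`d` part. -/
def degι (d : ℕ) : degMod 𝒮 d ⟶ 𝒮.toModule := kernel.ι (cprojHom 𝒮 d)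

instance mono_degι (d : ℕ) : Mono (degι 𝒮 d) := inferInstanceAs (Mono (kernel.ι _))

theorem isQuasicoherent_degMod (d : ℕ) : (degMod 𝒮 d).IsQuasicoherent := by
  haveI : 𝒮.toModule.IsQuasicoherent := isQuasicoherent_toModule 𝒮.toQCAlg
  exact SubExt.isQuasicoherent_kernel (cprojHom 𝒮 d)

theorem degι_mem (d : ℕ) (U : Y.Opens) (hU : IsAffineOpen U) (x : Γ(degMod 𝒮 d, U)) :
    toB 𝒮.toQCAlg (ap (degι 𝒮 d) U x) ∈ 𝒮.deg U hU d := by
  rw [← cproj_eq_zero_iff, ← cprojHom_app]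
  have h : degι 𝒮 d ≫ cprojHom 𝒮 d = 0 := kernel.condition _
  have h2 := congrArg (fun t => ap t U x) h
  exact h2

theorem exists_of_mem (d : ℕ) (U : Y.Opens) (hU : IsAffineOpen U) (y : 𝒮.presheaf.obj (op U))
    (hy : y ∈ 𝒮.deg U hU d) : ∃ x : Γ(degMod 𝒮 d, U), toB 𝒮.toQCAlg (ap (degι 𝒮 d) U x) = y := by
  have h0 : ap (cprojHom 𝒮 d) U (ofB 𝒮.toQCAlg y) = 0 := by
    have := cprojHom_app 𝒮 d U hU (ofB 𝒮.toQCAlg y)
    rw [(cproj_eq_zero_iff 𝒮 d U hU y).mpr hy] at this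
    exact this
  obtain ⟨l, hl⟩ := FLFH8.exists_kernel_section (cprojHom 𝒮 d) U (ofB 𝒮.toQCAlg y) h0
  exact ⟨l, hl⟩

theorem degι_injective (d : ℕ) (U : Y.Opens) : Function.Injective (ap (degι 𝒮 d) U) :=
  QCohExact.app_injective_of_mono (degι 𝒮 d) U

theorem finite_degMod (d : ℕ) (hft : 𝒮.IsFTDeg d) (U : Y.Opens) (hU : IsAffineOpen U) :
    Module.Finite Γ(Y, U) Γ(degMod 𝒮 d, U) := by
  classical
  obtain ⟨T, hT, hspan⟩ := hft U hU
  have hex : ∀ t : 𝒮.presheaf.obj (op U), ∃ x : Γ(degMod 𝒮 d, U),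
      t ∈ T → toB 𝒮.toQCAlg (ap (degι 𝒮 d) U x) = t := by
    intro t
    by_cases ht : t ∈ T
    · obtain ⟨x, hx⟩ := exists_of_mem 𝒮 d U hU t (hT ht)
      exact ⟨x, fun _ => hx⟩
    · exact ⟨0, fun h => absurd h ht⟩
  choose xt hxt using hex
  refine ⟨⟨T.image xt, ?_⟩⟩
  rw [eq_top_iff]
  intro x _
  obtain ⟨c, hc⟩ := hspan _ (degι_mem 𝒮 d U hU x)
  have hx : x = ∑ t ∈ T, c t • xt t := by
    apply degι_injective 𝒮 d U
    rw [map_sum]
    refine Eq.trans (show ap (degι 𝒮 d) U x = ofB 𝒮.toQCAlg (toB 𝒮.toQCAlg (ap (degι 𝒮 d) U x)) from rfl) ?_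
    rw [hc]
    refine Finset.sum_congr rfl fun t ht => ?_
    rw [ap_smul]
    show ofB 𝒮.toQCAlg ((𝒮.str.app (op U)).hom (c t) * t) = c t • ap (degι 𝒮 d) U (xt t)
    have e : ap (degι 𝒮 d) U (xt t) = ofB 𝒮.toQCAlg t := hxt t ht
    rw [e]
    rfl
  rw [hx]
  exact Submodule.sum_mem _ fun t ht =>
    Submodule.smul_mem _ _ (Submodule.subset_span (Finset.mem_coe.mpr (Finset.mem_image_of_mem _ ht)))

theorem isFiniteType_degMod (d : ℕ) (hft : 𝒮.IsFTDeg d) :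
    SheafOfModules.IsFiniteType (R := Y.ringCatSheaf) (degMod 𝒮 d) := by
  haveI := isQuasicoherent_degMod 𝒮 d
  exact QCohCrit.isFiniteType_of_sections_cover _ (fun U : Y.affineOpens => (U : Y.Opens))
    (fun U => U.2) (iSup_affineOpens_eq_top Y) (fun U => finite_degMod 𝒮 d hft U.1 U.2)

end Groth.Agent.PBProj
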