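import Mathlib
import Groth.Prelude
import Groth.Agent.Lib.PBProj1_helper5
import Groth.Agent.Lib.LineChart2_helper5
import Groth.Agent.Lib.Tens16_helper8
import Groth.Agent.Lib.Tens11_helper8

/-!
# The degree-`n` part of `Sym(L)` for an invertible `L` is framed of weight `n` (helper5).
APPEND-ONLY once landed.
-/

set_option autoImplicit false
universe u
open CategoryTheory CategoryTheory.Limits AlgebraicGeometry TopologicalSpace Opposite

noncomputable section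

namespace Groth.Agent.RLS

open QcqsLoc QCohExtn QCAlgMod GenLocH8 TensH8 Groth.Agent.PBProj Groth.Agent.LineChart

variable {X : Scheme.{u}} (L : X.Modules) [L.IsQuasicoherent] (𝒮L : RelProj.QCGrAlg X)
  (j : L ⟶ 𝒮L.toModule) (hj : RelProj.IsGrSymAlg L 𝒮L j)

/-- A section of `𝒮L` over any open which is homogeneous of degree `n` over the affine opens is a
section of the degree-`n` part. -/
theorem exists_degSec (n : ℕ) (W : X.Opens) (y : 𝒮L.presheaf.obj (op W))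
    (hy : ∀ (V : X.Opens) (hV : IsAffineOpen V) (h : V ≤ W),
      (𝒮L.presheaf.map (homOfLE h).op).hom y ∈ 𝒮L.deg V hV n) :
    ∃ x : Γ(degMod 𝒮L n, W), toB 𝒮L.toQCAlg (ap (degι 𝒮L n) W x) = y := by
  have h0 : ap (cprojHom 𝒮L n) W (ofB 𝒮L.toQCAlg y) = 0 := by
    apply QcqsLoc.eq_of_cover (F := 𝒮L.toModule)
    intro x hx
    obtain ⟨V, hV, hxV, hVW⟩ := Opens.isBasis_iff_nbhd.mp X.isBasis_affineOpens hx
    refine ⟨V, hVW, hxV, ?_⟩
    rw [map_zero, ← ap_rF]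
    have h1 := cprojHom_app 𝒮L n V hV (rF 𝒮L.toModule hVW (ofB 𝒮L.toQCAlg y))
    have h2 : cproj 𝒮L n V hV (toB 𝒮L.toQCAlg (rF 𝒮L.toModule hVW (ofB 𝒮L.toQCAlg y))) = 0 :=
      (cproj_eq_zero_iff 𝒮L n V hV _).mpr (hy V hV hVW)
    exact h1.trans h2
  exact FLFH8.exists_kernel_section (cprojHom 𝒮L n) W (ofB 𝒮L.toQCAlg y) h0

include hj in
theorem pow_T_mem (n : ℕ) (W : X.Opens) (e : Γ(L, W)) (V : X.Opens) (hV : IsAffineOpen V)
    (h : V ≤ W) :
    (𝒮L.presheaf.map (homOfLE h).op).hom (TT L 𝒮L j W e ^ n) ∈ 𝒮L.deg V hV n := by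
  rw [map_pow, res_T]
  have hT1 : TT L 𝒮L j V (rF L h e) ∈ 𝒮L.deg V hV 1 := hj.2 V hV _
  have := SetLike.pow_mem_graded n hT1
  simpa using this

/-- The section `j(e)^n` of the degree-`n` part. -/
def powSec (n : ℕ) (W : X.Opens) (e : Γ(L, W)) : Γ(degMod 𝒮L n, W) :=
  (exists_degSec 𝒮L n W (TT L 𝒮L j W e ^ n) (pow_T_mem L 𝒮L j hj n W e)).choose

theorem powSec_spec (n : ℕ) (W : X.Opens) (e : Γ(L, W)) :
    toB 𝒮L.toQCAlg (ap (degι 𝒮L n) W (powSec L 𝒮L j hj n W e)) = TT L 𝒮L j W e ^ n :=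
  (exists_degSec 𝒮L n W (TT L 𝒮L j W e ^ n) (pow_T_mem L 𝒮L j hj n W e)).choose_spec

theorem powSec_res (n : ℕ) {W W' : X.Opens} (h : W' ≤ W) (e : Γ(L, W)) :
    rF (degMod 𝒮L n) h (powSec L 𝒮L j hj n W e) = powSec L 𝒮L j hj n W' (rF L h e) := by
  apply degι_injective 𝒮L n W'
  rw [ap_rF]
  show (𝒮L.presheaf.map (homOfLE h).op).hom
      (toB 𝒮L.toQCAlg (ap (degι 𝒮L n) W (powSec L 𝒮L j hj n W e))) =
    toB 𝒮L.toQCAlg (ap (degι 𝒮L n) W' (powSec L 𝒮L j hj n W' (rF L h e)))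
  rw [powSec_spec, powSec_spec, map_pow, res_T]

theorem T_smul (W : X.Opens) (c : Γ(X, W)) (e : Γ(L, W)) :
    TT L 𝒮L j W (c • e) = (𝒮L.str.app (op W)).hom c * TT L 𝒮L j W e := by
  show toB 𝒮L.toQCAlg (ap j W (c • e)) = _
  rw [ap_smul]
  rfl

theorem powSec_smul (n : ℕ) (W : X.Opens) (c : Γ(X, W)) (e : Γ(L, W)) :
    powSec L 𝒮L j hj n W (c • e) = c ^ n • powSec L 𝒮L j hj n W e := by
  apply degι_injective 𝒮L n W
  rw [ap_smul]
  show toB 𝒮L.toQCAlg (ap (degι 𝒮L n) W (powSec L 𝒮L j hj n W (c • e))) =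
    toB 𝒮L.toQCAlg (c ^ n • ap (degι 𝒮L n) W (powSec L 𝒮L j hj n W e))
  rw [smul_eq, powSec_spec, powSec_spec, T_smul, mul_pow, map_pow]

include hj in
theorem isGen_powSec (n : ℕ) {W : X.Opens} {e : Γ(L, W)} (he : IsGen L W e) :
    IsGen (degMod 𝒮L n) W (powSec L 𝒮L j hj n W e) := by
  refine isGen_of_basis _ {U' | IsAffineOpen U'} ?_ ?_
  · intro O x hO hx
    obtain ⟨V, hV, hxV, hVO⟩ := Opens.isBasis_iff_nbhd.mp X.isBasis_affineOpens hx
    exact ⟨V, hV, hxV, hVO⟩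
  · intro U' hU' hU'W
    have heU := he.res hU'W
    rw [powSec_res]
    constructor
    · intro l
      obtain ⟨a, ha⟩ := exists_coeff L 𝒮L j hj U' hU' _ heU n _ (degι_mem 𝒮L n U' hU' l)
      refine ⟨a, ?_⟩
      apply degι_injective 𝒮L n U'
      rw [ap_smul]
      show toB 𝒮L.toQCAlg (ap (degι 𝒮L n) U' l) =
        toB 𝒮L.toQCAlg (a • ap (degι 𝒮L n) U' (powSec L 𝒮L j hj n U' (rF L hU'W e)))
      rw [smul_eq, powSec_spec]
      exact ha
    · intro c hc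
      have h1 : (𝒮L.str.app (op U')).hom c * TT L 𝒮L j U' (rF L hU'W e) ^ n = 0 := by
        have h0 := congrArg (fun t => toB 𝒮L.toQCAlg (ap (degι 𝒮L n) U' t)) hc
        have h0' : toB 𝒮L.toQCAlg (ap (degι 𝒮L n) U'
            (c • powSec L 𝒮L j hj n U' (rF L hU'W e))) = 0 := h0.trans (map_zero _)
        rw [ap_smul, smul_eq, powSec_spec] at h0'
        exact h0'
      have hb := hpoly_of_isGen L 𝒮L j hj U' hU' _ heU
      have h2 : Polynomial.eval₂RingHom (𝒮L.str.app (op U')).hom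
          (TT L 𝒮L j U' (rF L hU'W e)) (Polynomial.C c * Polynomial.X ^ n) = 0 := by
        rw [map_mul, map_pow]
        simp only [Polynomial.coe_eval₂RingHom, Polynomial.eval₂_C, Polynomial.eval₂_X]
        exact h1
      have h3 := hb.1 (h2.trans (map_zero _).symm)
      have h4 := congrArg (fun q => Polynomial.coeff q n) h3
      simpa using h4

/-- **The degree-`n` part of `Sym(L)` is framed of weight `n`** by `e ↦ j(e)^n`. -/
def degFrame (n : ℕ) : Frame L (degMod 𝒮L n) n where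
  φ W e := powSec L 𝒮L j hj n W e
  isGen he := isGen_powSec L 𝒮L j hj n he
  res h e := powSec_res L 𝒮L j hj n h e
  smul W c e := powSec_smul L 𝒮L j hj n W c e

end Groth.Agent.RLS
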