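import Mathlib
import Groth.Prelude
import Groth.Agent.Lib.RLS1_helper5
import Groth.Agent.Lib.LineChart5_helper5
import Groth.Agent.Lib.ProjQ5_helper5

/-!
# The locus of `u(a)` is `r⁻¹(D_+(a))`, for `u : 𝒜 ⟶ f_* Sym(L)` and `r = r_{L,u}` (helper5).
APPEND-ONLY once landed.
-/

set_option autoImplicit false
universe u
open CategoryTheory CategoryTheory.Limits AlgebraicGeometry TopologicalSpace Opposite
open scoped HomogeneousIdeal

noncomputable section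

namespace Groth.Agent.RLS

open QcqsLoc QCohExtn QCAlgMod GenLocH8 TensH8 Groth.Agent.PBProj Groth.Agent.LineChart
  Groth.Agent.RelProjTN Groth.Agent.ProjQ

section Local
variable {X PL : Scheme.{u}} (L : X.Modules) [L.IsQuasicoherent] (𝒮L : RelProj.QCGrAlg X)
  (j : L ⟶ 𝒮L.toModule) (hj : RelProj.IsGrSymAlg L 𝒮L j)
  {pL : PL ⟶ X}
  {chartL : ∀ (U : X.Opens) (hU : IsAffineOpen U),
    (((pL ⁻¹ᵁ U : PL.Opens) : Scheme.{u}) ≅ Proj (𝒮L.deg U hU))}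
  (hPL : RelProj.IsRelProj 𝒮L pL chartL)

include hj hPL in
/-- In a chart of `P(L) ≅ X` over an affine open trivialising `L`: the point lies in
`D_+(c · T^n)` iff `c` does not vanish at it. -/
theorem zpt_mem_basicOpen_iff (W : X.Opens) (hW : IsAffineOpen W) (e : Γ(L, W))
    (he : IsGen L W e) (c : Γ(X, W)) (n : ℕ) (x' : PL) (hx' : x' ∈ pL ⁻¹ᵁ W) :
    zpt pL chartL W hW x' hx' ∈ Proj.basicOpen (𝒮L.deg W hW)
        ((𝒮L.str.app (op W)).hom c * TT L 𝒮L j W e ^ n) ↔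
      pL x' ∈ X.basicOpen c := by
  rw [mem_basicOpen_iff_not_mem_zpt hPL W hW x' hx' c, Proj.mem_basicOpen]
  have hprime := (zpt pL chartL W hW x' hx').isPrime
  constructor
  · intro h hc
    exact h (Ideal.mul_mem_right _ _ hc)
  · intro h hmem
    rcases hprime.mem_or_mem hmem with h1 | h1
    · exact h h1
    · exact T_not_mem L 𝒮L j hj W hW e he _ (hprime.mem_of_pow_mem n h1)

end Local

section Global
variable {X Y P PL : Scheme.{u}} (f : X ⟶ Y) (L : X.Modules) [L.IsQuasicoherent]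
  (𝒮L : RelProj.QCGrAlg X) (j : L ⟶ 𝒮L.toModule) (hj : RelProj.IsGrSymAlg L 𝒮L j)
  (𝒜 : RelProj.QCGrAlg Y) (u : RelProj.QGrHom f 𝒜 𝒮L)

/-- The section `u(a)` of the degree-`d` part of `Sym(L)` over `f⁻¹V`, for `a ∈ 𝒜(V)_d`. -/
theorem exists_secOf (V : Y.Opens) (hV : IsAffineOpen V) (d : ℕ) (a : 𝒜.presheaf.obj (op V))
    (ha : a ∈ 𝒜.deg V hV d) :
    ∃ σ : Γ(degMod 𝒮L d, f ⁻¹ᵁ V),
      toB 𝒮L.toQCAlg (ap (degι 𝒮L d) (f ⁻¹ᵁ V) σ) = (u.app V).hom a :=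
  exists_degSec 𝒮L d (f ⁻¹ᵁ V) ((u.app V).hom a)
    (fun V' hV' h => u.map_mem V hV V' hV' h ha)

/-- The section `u(a)`. -/
def secOf (V : Y.Opens) (hV : IsAffineOpen V) (d : ℕ) (a : 𝒜.presheaf.obj (op V))
    (ha : a ∈ 𝒜.deg V hV d) : Γ(degMod 𝒮L d, f ⁻¹ᵁ V) :=
  (exists_secOf f 𝒮L 𝒜 u V hV d a ha).choose

theorem secOf_spec (V : Y.Opens) (hV : IsAffineOpen V) (d : ℕ) (a : 𝒜.presheaf.obj (op V))
    (ha : a ∈ 𝒜.deg V hV d) :
    toB 𝒮L.toQCAlg (ap (degι 𝒮L d) (f ⁻¹ᵁ V) (secOf f 𝒮L 𝒜 u V hV d a ha)) = (u.app V).hom a :=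
  (exists_secOf f 𝒮L 𝒜 u V hV d a ha).choose_spec

variable {pL : PL ⟶ X}
  {chartL : ∀ (U : X.Opens) (hU : IsAffineOpen U),
    (((pL ⁻¹ᵁ U : PL.Opens) : Scheme.{u}) ≅ Proj (𝒮L.deg U hU))}
  (hPL : RelProj.IsRelProj 𝒮L pL chartL)
  {p : P ⟶ Y}
  {chart : ∀ (U : Y.Opens) (hU : IsAffineOpen U),
    (((p ⁻¹ᵁ U : P.Opens) : Scheme.{u}) ≅ Proj (𝒜.deg U hU))}
  (hP : RelProj.IsRelProj 𝒜 p chart)
  (r : ((RelProj.domQ u pL chartL : PL.Opens) : Scheme.{u}) ⟶ P)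
  (hr : RelProj.IsProjQMapOn u p chart pL chartL (RelProj.domQ u pL chartL) r)

include hr hPL hP in
/-- `r(y) ∈ D_+(a)` iff `y ∈ D_+(u a)`, in the charts over any affine pair. -/
theorem r_mem_iff' (y : ((RelProj.domQ u pL chartL : PL.Opens) : Scheme.{u}))
    (V : Y.Opens) (hV : IsAffineOpen V) {d : ℕ} (hd : 0 < d)
    (a : 𝒜.presheaf.obj (op V)) (ha : a ∈ 𝒜.deg V hV d) (W : X.Opens) (hW : IsAffineOpen W)
    (hle : W ≤ f ⁻¹ᵁ V) (hyW : y.1 ∈ pL ⁻¹ᵁ W) :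
    r.base y ∈ (RelProj.emb p chart V hV) ''ᵁ Proj.basicOpen (𝒜.deg V hV) a ↔
      zpt pL chartL W hW y.1 hyW ∈
        Proj.basicOpen (𝒮L.deg W hW) (u.gradedAt V hV W hW hle a) := by
  have hvx : r.base y ∈ p ⁻¹ᵁ V := projQ_mem_preimage u hP hPL _ rfl r hr y V W hle hyW
  have h1 := projQ_mem_basicOpen_iff u hPL _ rfl r hr y V hV W hW hle hyW hvx hd ha
  refine Iff.trans ?_ h1
  constructor
  · rintro ⟨z, hz, hzr⟩
    have : zpt p chart V hV (r.base y) hvx = z := by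
      apply (RelProj.emb p chart V hV).isOpenEmbedding.injective
      rw [emb_zpt]
      exact hzr.symm
    rw [this]
    exact hz
  · intro h
    exact ⟨_, h, emb_zpt V hV _ hvx⟩

include hj hr hPL hP in
/-- **The locus of the section `u(a)` is `r⁻¹(D_+(a))`**, transported to `X` along `P(L) ≅ X`. -/
theorem hasLocus_secOf (V : Y.Opens) (hV : IsAffineOpen V) {d : ℕ} (hd : 0 < d)
    (a : 𝒜.presheaf.obj (op V)) (ha : a ∈ 𝒜.deg V hV d) (Q : X.Opens)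
    (hQ : ∀ y : ((RelProj.domQ u pL chartL : PL.Opens) : Scheme.{u}), pL.base y.1 ∈ f ⁻¹ᵁ V →
      (pL.base y.1 ∈ Q ↔
        r.base y ∈ (RelProj.emb p chart V hV) ''ᵁ Proj.basicOpen (𝒜.deg V hV) a))
    (hsurj : ∀ x ∈ f ⁻¹ᵁ V, ∃ y : ((RelProj.domQ u pL chartL : PL.Opens) : Scheme.{u}),
      pL.base y.1 = x) :
    HasLocus (degFrame L 𝒮L j hj d) (secOf f 𝒮L 𝒜 u V hV d a ha) Q := by
  intro W hW e he
  obtain ⟨c, hc⟩ : ∃ c : Γ(X, W), c = (degFrame L 𝒮L j hj d).coefOf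
      (secOf f 𝒮L 𝒜 u V hV d a ha) W hW e he := ⟨_, rfl⟩
  rw [← hc]
  have hspec : rF (degMod 𝒮L d) hW (secOf f 𝒮L 𝒜 u V hV d a ha) =
      c • powSec L 𝒮L j hj d W e := by
    rw [hc]
    exact (degFrame L 𝒮L j hj d).coefOf_spec (secOf f 𝒮L 𝒜 u V hV d a ha) W hW e he
  have key : ∀ x ∈ W, (x ∈ Q ↔ x ∈ X.basicOpen c) := by
    intro x hxW
    obtain ⟨W', hW', hxW', hW'W⟩ := Opens.isBasis_iff_nbhd.mp X.isBasis_affineOpens hxW
    have hW'aff : IsAffineOpen W' := hW'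
    obtain ⟨y, hy⟩ := hsurj x (hW hxW)
    have hle : W' ≤ f ⁻¹ᵁ V := hW'W.trans hW
    have hyW' : y.1 ∈ pL ⁻¹ᵁ W' := by
      show pL.base y.1 ∈ W'
      rw [hy]; exact hxW'
    have hyV : pL.base y.1 ∈ f ⁻¹ᵁ V := by rw [hy]; exact hW hxW
    have hid : (u.gradedAt V hV W' hW'aff hle a : 𝒮L.presheaf.obj (op W')) =
        (𝒮L.str.app (op W')).hom (rX hW'W c) * TT L 𝒮L j W' (rF L hW'W e) ^ d := by
      have h1 := congrArg (rF (degMod 𝒮L d) hW'W) hspec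
      rw [rF_rF, rF_smul, powSec_res] at h1
      have h2 : toB 𝒮L.toQCAlg (ap (degι 𝒮L d) W'
          (rF (degMod 𝒮L d) (hW'W.trans hW) (secOf f 𝒮L 𝒜 u V hV d a ha))) =
          toB 𝒮L.toQCAlg (ap (degι 𝒮L d) W'
            (rX hW'W c • powSec L 𝒮L j hj d W' (rF L hW'W e))) :=
        congrArg (fun t => toB 𝒮L.toQCAlg (ap (degι 𝒮L d) W' t)) h1
      rw [ap_rF, ap_smul, smul_eq, powSec_spec] at h2
      rw [← h2]
      show (u.appLE V W' hle).hom a = (𝒮L.presheaf.map (homOfLE hle).op).hom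
        (toB 𝒮L.toQCAlg (ap (degι 𝒮L d) (f ⁻¹ᵁ V) (secOf f 𝒮L 𝒜 u V hV d a ha)))
      rw [secOf_spec]
      rfl
    rw [← hy, hQ y hyV, r_mem_iff' f 𝒮L 𝒜 u hPL hP r hr y V hV hd a ha W' hW'aff hle hyW', hid,
      zpt_mem_basicOpen_iff L 𝒮L j hj hPL W' hW'aff _ (he.res hW'W) _ d y.1 hyW',
      Scheme.basicOpen_res]
    constructor
    · exact fun h => h.2
    · intro h
      exact ⟨by rw [hy]; exact hxW', h⟩
  ext x
  constructor
  · rintro ⟨hxQ, hxW⟩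
    exact (key x hxW).mp hxQ
  · intro hxc
    have hxW : x ∈ W := X.basicOpen_le c hxc
    exact ⟨(key x hxW).mpr hxc, hxW⟩

end Global

end Groth.Agent.RLS
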