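import Mathlib
import Groth.Prelude
import Groth.Agent.Lib.RLS2_helper5
import Groth.Agent.Lib.ProjQLim2_helper5
import Groth.Agent.Lib.SpecChart_helper5
import Groth.Agent.Lib.Tens13_helper8

/-!
# If `r_{L,u}` is everywhere defined and a topological embedding then `L` is relatively ample
(helper5).  APPEND-ONLY once landed.
-/

set_option autoImplicit false
universe u
open CategoryTheory CategoryTheory.Limits AlgebraicGeometry TopologicalSpace Opposite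
open scoped HomogeneousIdeal

noncomputable section

namespace Groth.Agent.RLS

open QcqsLoc QCohExtn QCAlgMod GenLocH8 TensH8 Groth.Agent.PBProj Groth.Agent.LineChart
  Groth.Agent.RelProjTN Groth.Agent.ProjQ

variable {X Y P PL : Scheme.{u}} (f : X ⟶ Y) (L : X.Modules) [L.IsQuasicoherent]
  (𝒮L : RelProj.QCGrAlg X) (j : L ⟶ 𝒮L.toModule) (hj : RelProj.IsGrSymAlg L 𝒮L j)
  (𝒜 : RelProj.QCGrAlg Y) (u : RelProj.QGrHom f 𝒜 𝒮L)
  {pL : PL ⟶ X}
  {chartL : ∀ (U : X.Opens) (hU : IsAffineOpen U),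
    (((pL ⁻¹ᵁ U : PL.Opens) : Scheme.{u}) ≅ Proj (𝒮L.deg U hU))}
  (hPL : RelProj.IsRelProj 𝒮L pL chartL)
  {p : P ⟶ Y}
  {chart : ∀ (U : Y.Opens) (hU : IsAffineOpen U),
    (((p ⁻¹ᵁ U : P.Opens) : Scheme.{u}) ≅ Proj (𝒜.deg U hU))}
  (hP : RelProj.IsRelProj 𝒜 p chart)
  (r : ((RelProj.domQ u pL chartL : PL.Opens) : Scheme.{u}) ⟶ P)
  (hr : RelProj.IsProjQMapOn u p chart pL chartL (RelProj.domQ u pL chartL) r)

/-- The morphism `r` read on `X` through `P(L) ≅ X`, when everywhere defined. -/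
def rhoX [IsIso pL] (htop : RelProj.domQ u pL chartL = ⊤) : X ⟶ P :=
  haveI : IsIso (RelProj.domQ u pL chartL).ι := Groth.Agent.SpecChart.isIso_ι_of_eq_top _ htop
  inv pL ≫ inv (RelProj.domQ u pL chartL).ι ≫ r

theorem rhoX_apply [IsIso pL] (htop : RelProj.domQ u pL chartL = ⊤)
    (y : ((RelProj.domQ u pL chartL : PL.Opens) : Scheme.{u})) :
    (rhoX f 𝒮L 𝒜 u r htop).base (pL.base y.1) = r.base y := by
  haveI : IsIso (RelProj.domQ u pL chartL).ι := Groth.Agent.SpecChart.isIso_ι_of_eq_top _ htop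
  have h1 : pL ≫ rhoX f 𝒮L 𝒜 u r htop = inv (RelProj.domQ u pL chartL).ι ≫ r := by
    unfold rhoX
    rw [IsIso.hom_inv_id_assoc]
  have h2 : (RelProj.domQ u pL chartL).ι ≫ pL ≫ rhoX f 𝒮L 𝒜 u r htop = r := by
    rw [h1, IsIso.hom_inv_id_assoc]
  exact congrArg (fun m => m.base y) h2

theorem exists_point [IsIso pL] (htop : RelProj.domQ u pL chartL = ⊤) (x : X) :
    ∃ y : ((RelProj.domQ u pL chartL : PL.Opens) : Scheme.{u}), pL.base y.1 = x := by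
  refine ⟨⟨(inv pL).base x, htop ▸ trivial⟩, ?_⟩
  exact congrArg (fun m => m.base x) (IsIso.inv_hom_id pL)

theorem isEmbedding_rhoX [IsIso pL] (htop : RelProj.domQ u pL chartL = ⊤)
    (hemb : Topology.IsEmbedding r.base) :
    Topology.IsEmbedding (rhoX f 𝒮L 𝒜 u r htop).base := by
  haveI : IsIso (RelProj.domQ u pL chartL).ι := Groth.Agent.SpecChart.isIso_ι_of_eq_top _ htop
  unfold rhoX
  have h1 : Topology.IsEmbedding (inv pL).base := (inv pL).isOpenEmbedding.isEmbedding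
  have h2 : Topology.IsEmbedding (inv (RelProj.domQ u pL chartL).ι).base :=
    (inv (RelProj.domQ u pL chartL).ι).isOpenEmbedding.isEmbedding
  exact hemb.comp (h2.comp h1)

include hj hP hPL hr in
/-- **If `r_{L,u}` is everywhere defined and a topological embedding, then `L` is ample relative
to `f`.** -/
theorem isRelAmple_of_isEmbedding [QuasiCompact f] (hL : PicF.IsInvertible L)
    (htop : RelProj.domQ u pL chartL = ⊤) (hemb : Topology.IsEmbedding r.base) :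
    RelAmple.IsRelAmple f L := by
  haveI : IsIso pL := Groth.Agent.SymInv.isIso_pL L 𝒮L j hL hj hPL
  rw [isRelAmple_iff f hL]
  refine ⟨inferInstance, fun V => ⟨(quasiCompact_iff_forall_isAffineOpen.mp inferInstance) V.1 V.2,
    fun x hx => ?_⟩⟩
  obtain ⟨N, hNaff, hxN, hNV, e, he⟩ := exists_isGen_le hL x (f ⁻¹ᵁ V.1) hx
  have hρemb := isEmbedding_rhoX f 𝒮L 𝒜 u r htop hemb
  obtain ⟨O, hO, hON⟩ := hρemb.isInducing.isOpen_iff.mp N.isOpen
  obtain ⟨y, hy⟩ := exists_point f 𝒮L 𝒜 u htop x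
  have hρy : (rhoX f 𝒮L 𝒜 u r htop).base x = r.base y := by
    rw [← hy]; exact rhoX_apply f 𝒮L 𝒜 u r htop y
  have hry : r.base y ∈ p ⁻¹ᵁ V.1 :=
    projQ_mem_preimage u hP hPL _ rfl r hr y V.1 N hNV (by show pL.base y.1 ∈ N; rw [hy]; exact hxN)
  have hxO : (rhoX f 𝒮L 𝒜 u r htop).base x ∈ O := by
    have : x ∈ (rhoX f 𝒮L 𝒜 u r htop).base ⁻¹' O := by rw [hON]; exact hxN
    exact this
  obtain ⟨d, hd, a, ha, hza, haO⟩ := Groth.Agent.ProjQLim.exists_homogeneous_basicOpen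
    (𝒜.deg V.1 V.2) (zpt p chart V.1 V.2 (r.base y) hry)
    ((RelProj.emb p chart V.1 V.2) ⁻¹ᵁ ⟨O, hO⟩) (by
      show (RelProj.emb p chart V.1 V.2).base (zpt p chart V.1 V.2 (r.base y) hry) ∈ O
      rw [emb_zpt, ← hρy]
      exact hxO)
  obtain ⟨Q, hQdef⟩ : ∃ Q : X.Opens, Q = (rhoX f 𝒮L 𝒜 u r htop) ⁻¹ᵁ
      ((RelProj.emb p chart V.1 V.2) ''ᵁ Proj.basicOpen (𝒜.deg V.1 V.2) a) := ⟨_, rfl⟩
  have hQN : Q ≤ N := by
    intro x' hx'
    rw [hQdef] at hx'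
    obtain ⟨z, hz, hzx⟩ := hx'
    have h1 : (rhoX f 𝒮L 𝒜 u r htop).base x' ∈ O := by
      rw [← hzx]
      exact haO hz
    have : x' ∈ (rhoX f 𝒮L 𝒜 u r htop).base ⁻¹' O := h1
    rw [hON] at this
    exact this
  have hxQ : x ∈ Q := by
    rw [hQdef]
    show (rhoX f 𝒮L 𝒜 u r htop).base x ∈
      ((RelProj.emb p chart V.1 V.2) ''ᵁ Proj.basicOpen (𝒜.deg V.1 V.2) a)
    rw [hρy]
    exact ⟨_, hza, emb_zpt V.1 V.2 _ hry⟩
  have hloc : HasLocus (degFrame L 𝒮L j hj d) (secOf f 𝒮L 𝒜 u V.1 V.2 d a ha) Q := by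
    refine hasLocus_secOf f L 𝒮L j hj 𝒜 u hPL hP r hr V.1 V.2 hd a ha Q (fun y' _ => ?_)
      (fun x' _ => exists_point f 𝒮L 𝒜 u htop x')
    rw [hQdef]
    show (rhoX f 𝒮L 𝒜 u r htop).base (pL.base y'.1) ∈
      ((RelProj.emb p chart V.1 V.2) ''ᵁ Proj.basicOpen (𝒜.deg V.1 V.2) a) ↔
      r.base y' ∈ ((RelProj.emb p chart V.1 V.2) ''ᵁ Proj.basicOpen (𝒜.deg V.1 V.2) a)
    rw [rhoX_apply]
  have hQaff : IsAffineOpen Q := by
    have h1 := hloc N hNV e he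
    rw [inf_eq_left.mpr hQN] at h1
    rw [h1]
    exact hNaff.basicOpen _
  obtain ⟨n, rfl⟩ : ∃ n, d = n + 1 := Nat.exists_eq_succ_of_ne_zero hd.ne'
  obtain ⟨σ', hσ'⟩ := HasLocus.change_frame hL (degFrame L 𝒮L j hj (n + 1))
    (Frame.pow L (n + 1)) _ hloc
  exact ⟨n, σ', Q, hQaff, hxQ, hQN.trans hNV, hσ'⟩

end Groth.Agent.RLS
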