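import Mathlib
import Groth.Prelude
import Groth.Agent.Lib.RLS3_helper5
import Groth.Agent.Lib.SerreQS_helper5

/-!
# Killing and extending sections of `Sym(L)` along the locus of a homogeneous section (helper5).
APPEND-ONLY once landed.
-/

set_option autoImplicit false
universe u
open CategoryTheory CategoryTheory.Limits AlgebraicGeometry TopologicalSpace Opposite

noncomputable section

namespace Groth.Agent.RLS

open QcqsLoc QCohExtn QCAlgMod GenLocH8 TensH8 SerreCrit Groth.Agent.PBProj Groth.Agent.LineChart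

section Generic
variable {X : Scheme.{u}} {L M : X.Modules} {n : ℕ}

/-- A framed module of weight `n` is `O_X` twisted by weight `n`. -/
def tframeOfFrame (Φ : Frame L M n) : TFrame L (OO X) M n where
  ψ W e _ g := toFn g • Φ.φ W e
  add W e _ g g' := add_smul (toFn g) (toFn g') _
  smul W e _ r g := mul_smul r (toFn g) _
  bij W e he := by
    have hg := Φ.isGen he W le_rfl
    rw [SubExt.rF_self] at hg
    constructor
    · intro g g' h
      have h' : toFn g • Φ.φ W e = toFn g' • Φ.φ W e := h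
      have : (toFn g - toFn g') • Φ.φ W e = 0 := by rw [sub_smul, h', sub_self]
      exact sub_eq_zero.mp (hg.2 _ this)
    · intro y
      obtain ⟨c, hc⟩ := hg.1 y
      exact ⟨ofFn c, hc.symm⟩
  res h e _ g := by
    rw [rF_smul, Φ.res]
    rfl
  change W e _ u _ g := by
    rw [Φ.smul, ← mul_smul]
    congr 1
    exact mul_comm _ _

theorem tframeOfFrame_ψ (Φ : Frame L M n) (W : X.Opens) (e : Γ(L, W)) (he : IsGen L W e)
    (g : Γ(OO X, W)) : (tframeOfFrame Φ).ψ W e he g = toFn g • Φ.φ W e := rfl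

end Generic

variable {X : Scheme.{u}} (L : X.Modules) [L.IsQuasicoherent] (𝒮L : RelProj.QCGrAlg X)
  (j : L ⟶ 𝒮L.toModule) (hj : RelProj.IsGrSymAlg L 𝒮L j)

theorem toB_smul_powSec (n : ℕ) (W : X.Opens) (g : Γ(X, W)) (e : Γ(L, W)) :
    toB 𝒮L.toQCAlg (ap (degι 𝒮L n) W (g • powSec L 𝒮L j hj n W e)) =
      (𝒮L.str.app (op W)).hom g * TT L 𝒮L j W e ^ n := by
  rw [ap_smul, QCAlgMod.smul_eq, powSec_spec]

/-- Multiplication by `j(e)^n` from degree `k` to degree `n + k`, as a twisted frame. -/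
def mulT (k n : ℕ) : TFrame L (degMod 𝒮L k) (degMod 𝒮L (n + k)) n :=
  TFrame.untwist (tframeOfFrame (degFrame L 𝒮L j hj (n + k))) (tframeOfFrame (degFrame L 𝒮L j hj k))

theorem mulT_spec (k n : ℕ) (W : X.Opens) (e : Γ(L, W)) (he : IsGen L W e)
    (τ : Γ(degMod 𝒮L k, W)) :
    toB 𝒮L.toQCAlg (ap (degι 𝒮L (n + k)) W ((mulT L 𝒮L j hj k n).ψ W e he τ)) =
      TT L 𝒮L j W e ^ n * toB 𝒮L.toQCAlg (ap (degι 𝒮L k) W τ) := by
  obtain ⟨γ, hγ⟩ : ∃ γ : Γ(OO X, W), γ =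
      (tframeOfFrame (degFrame L 𝒮L j hj k)).coefOf τ W le_rfl e he := ⟨_, rfl⟩
  have h1 : (mulT L 𝒮L j hj k n).ψ W e he τ = toFn γ • powSec L 𝒮L j hj (n + k) W e := by
    rw [hγ]; rfl
  have h2 : toFn γ • powSec L 𝒮L j hj k W e = τ := by
    have := (tframeOfFrame (degFrame L 𝒮L j hj k)).coefOf_spec τ W le_rfl e he
    rw [SubExt.rF_self, ← hγ] at this
    exact this
  rw [h1, toB_smul_powSec, ← h2, toB_smul_powSec, pow_add]
  ring

/-- The restriction of a section of the degree-`d` part to an open trivialising `L`. -/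
theorem res_toB_degι {d : ℕ} {V0 : X.Opens} (σ : Γ(degMod 𝒮L d, V0)) (W : X.Opens) (hW : W ≤ V0)
    (e : Γ(L, W)) (he : IsGen L W e) :
    (𝒮L.presheaf.map (homOfLE hW).op).hom (toB 𝒮L.toQCAlg (ap (degι 𝒮L d) V0 σ)) =
      (𝒮L.str.app (op W)).hom ((degFrame L 𝒮L j hj d).coefOf σ W hW e he) *
        TT L 𝒮L j W e ^ d := by
  have h1 := (degFrame L 𝒮L j hj d).coefOf_spec σ W hW e he
  have h2 : toB 𝒮L.toQCAlg (ap (degι 𝒮L d) W (rF (degMod 𝒮L d) hW σ)) =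
      toB 𝒮L.toQCAlg (ap (degι 𝒮L d) W
        ((degFrame L 𝒮L j hj d).coefOf σ W hW e he • powSec L 𝒮L j hj d W e)) :=
    congrArg (fun t => toB 𝒮L.toQCAlg (ap (degι 𝒮L d) W t)) h1
  rw [ap_rF, toB_smul_powSec] at h2
  exact h2

/-- A finite cover of a quasi-compact open by affine opens trivialising `L`. -/
theorem exists_finite_gen_cover (hL : PicF.IsInvertible L) {V0 : X.Opens}
    (hV0 : IsCompact (V0 : Set X)) :
    ∃ (ι : Type u) (_ : Fintype ι) (W : ι → X.Opens), (∀ i, IsAffineOpen (W i)) ∧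
      (∀ i, W i ≤ V0) ∧ (∀ y ∈ V0, ∃ i, y ∈ W i) ∧ ∀ i, ∃ e : Γ(L, W i), IsGen L (W i) e := by
  have key : ∀ x : V0, ∃ W : X.Opens, IsAffineOpen W ∧ x.1 ∈ W ∧ W ≤ V0 ∧
      ∃ e : Γ(L, W), IsGen L W e := fun x => exists_isGen_le hL x.1 V0 x.2
  choose W0 hW0 hxW0 hW0V hgen using key
  obtain ⟨Tf, hTf⟩ := hV0.elim_finite_subcover (fun x : V0 => ((W0 x : X.Opens) : Set X))
    (fun x => (W0 x).isOpen) (fun y hy => Set.mem_iUnion.mpr ⟨⟨y, hy⟩, hxW0 ⟨y, hy⟩⟩)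
  refine ⟨Tf, inferInstance, fun i => W0 i.1, fun i => hW0 i.1, fun i => hW0V i.1, ?_,
    fun i => hgen i.1⟩
  intro y hy
  obtain ⟨x, hxT, hyx⟩ := Set.mem_iUnion₂.mp (hTf hy)
  exact ⟨⟨x, hxT⟩, hyx⟩

include hj in
/-- **Killing**: a section of `Sym(L)` over a quasi-compact open `V0` which vanishes on the locus
`O` of a homogeneous section `σ` is killed by a power of `σ`. -/
theorem exists_pow_mul_eq_zero (hL : PicF.IsInvertible L) {V0 : X.Opens}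
    (hV0 : IsCompact (V0 : Set X)) {d : ℕ} (σ : Γ(degMod 𝒮L d, V0)) {O : X.Opens} (hO : O ≤ V0)
    (hloc : HasLocus (degFrame L 𝒮L j hj d) σ O) (y : 𝒮L.presheaf.obj (op V0))
    (hy : (𝒮L.presheaf.map (homOfLE hO).op).hom y = 0) :
    ∃ N : ℕ, toB 𝒮L.toQCAlg (ap (degι 𝒮L d) V0 σ) ^ N * y = 0 := by
  haveI : 𝒮L.toModule.IsQuasicoherent := isQuasicoherent_toModule 𝒮L.toQCAlg
  obtain ⟨ι, _, W, hW, hWV, hcov, hgen⟩ := exists_finite_gen_cover L hL hV0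
  choose e he using hgen
  obtain ⟨f, hf⟩ : ∃ f : ∀ i, Γ(X, W i), ∀ i, f i =
      (degFrame L 𝒮L j hj d).coefOf σ (W i) (hWV i) (e i) (he i) := ⟨_, fun _ => rfl⟩
  have hD : ∀ i, O ⊓ W i = X.basicOpen (f i) := fun i => by
    rw [hf i]; exact hloc (W i) (hWV i) (e i) (he i)
  have hk : ∀ i, ∃ n : ℕ, f i ^ n • rF 𝒮L.toModule (hWV i) (ofB 𝒮L.toQCAlg y) = 0 := by
    intro i
    apply Groth.Agent.Lib.QCohExtH1.exists_pow_smul_eq_zero_of_isCompact 𝒮L.toModule (W i)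
      (hW i).isCompact
    show rF 𝒮L.toModule (X.basicOpen_le (f i)) (rF 𝒮L.toModule (hWV i) (ofB 𝒮L.toQCAlg y)) = 0
    have hle : X.basicOpen (f i) ≤ O := by rw [← hD i]; exact inf_le_left
    have h0 : rF 𝒮L.toModule hO (ofB 𝒮L.toQCAlg y) = 0 := hy
    rw [rF_rF, ← rF_rF (F := 𝒮L.toModule) hle hO, h0, map_zero]
  choose n hn using hk
  refine ⟨Finset.univ.sup n, ?_⟩
  have key : ofB 𝒮L.toQCAlg
      (toB 𝒮L.toQCAlg (ap (degι 𝒮L d) V0 σ) ^ (Finset.univ.sup n) * y) = 0 := by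
    apply eq_zero_of_cover (F := 𝒮L.toModule)
    intro x hx
    obtain ⟨i, hi⟩ := hcov x hx
    refine ⟨W i, hWV i, hi, ?_⟩
    have hle : n i ≤ Finset.univ.sup n := Finset.le_sup (f := n) (Finset.mem_univ i)
    have h1 : (𝒮L.str.app (op (W i))).hom (f i) ^ (Finset.univ.sup n) *
        (𝒮L.presheaf.map (homOfLE (hWV i)).op).hom y = 0 := by
      have h2 : toB 𝒮L.toQCAlg (f i ^ n i • rF 𝒮L.toModule (hWV i) (ofB 𝒮L.toQCAlg y)) = 0 :=
        hn i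
      rw [QCAlgMod.smul_eq, map_pow] at h2
      have h3 : (𝒮L.str.app (op (W i))).hom (f i) ^ n i *
          (𝒮L.presheaf.map (homOfLE (hWV i)).op).hom y = 0 := h2
      rw [← Nat.sub_add_cancel hle, pow_add, mul_assoc, h3, mul_zero]
    show (𝒮L.presheaf.map (homOfLE (hWV i)).op).hom
      (toB 𝒮L.toQCAlg (ap (degι 𝒮L d) V0 σ) ^ (Finset.univ.sup n) * y) = 0
    rw [map_mul, map_pow, res_toB_degι L 𝒮L j hj σ (W i) (hWV i) (e i) (he i), ← hf i, mul_pow,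
      mul_comm ((𝒮L.str.app (op (W i))).hom (f i) ^ _), mul_assoc, h1, mul_zero]
  exact key

theorem res_res {V W Z : X.Opens} (h₁ : V ≤ W) (h₂ : W ≤ Z) (z : 𝒮L.presheaf.obj (op Z)) :
    (𝒮L.presheaf.map (homOfLE h₁).op).hom ((𝒮L.presheaf.map (homOfLE h₂).op).hom z) =
      (𝒮L.presheaf.map (homOfLE (h₁.trans h₂)).op).hom z :=
  rF_rF (F := 𝒮L.toModule) h₁ h₂ (ofB 𝒮L.toQCAlg z)

theorem res_toB_ap {k : ℕ} {W V : X.Opens} (h : W ≤ V) (τ : Γ(degMod 𝒮L k, V)) :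
    (𝒮L.presheaf.map (homOfLE h).op).hom (toB 𝒮L.toQCAlg (ap (degι 𝒮L k) V τ)) =
      toB 𝒮L.toQCAlg (ap (degι 𝒮L k) W (rF (degMod 𝒮L k) h τ)) := by
  rw [ap_rF]
  rfl

include hj in
/-- **Extending**: for a homogeneous section `τ` of degree `k` over the locus `O` of `σ`, some
`σ^N τ` extends to a homogeneous section of degree `dN + k` over the quasi-compact quasi-separated
open `V0`. -/
theorem exists_extend_mul (hL : PicF.IsInvertible L) {V0 : X.Opens}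
    (hV0 : IsCompact (V0 : Set X)) (hqs : IsQuasiSeparated (V0 : Set X)) {d : ℕ}
    (σ : Γ(degMod 𝒮L d, V0)) {O : X.Opens} (hO : O ≤ V0)
    (hloc : HasLocus (degFrame L 𝒮L j hj d) σ O) (k : ℕ) (τ : Γ(degMod 𝒮L k, O)) :
    ∃ (N : ℕ) (y : Γ(degMod 𝒮L (d * N + k), V0)),
      (𝒮L.presheaf.map (homOfLE hO).op).hom
          (toB 𝒮L.toQCAlg (ap (degι 𝒮L (d * N + k)) V0 y)) =
        (𝒮L.presheaf.map (homOfLE hO).op).hom (toB 𝒮L.toQCAlg (ap (degι 𝒮L d) V0 σ)) ^ N *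
          toB 𝒮L.toQCAlg (ap (degι 𝒮L k) O τ) := by
  haveI := isQuasicoherent_degMod 𝒮L k
  obtain ⟨N0, hN0⟩ := Groth.Agent.SerreQS.exists_extend' hL (degMod 𝒮L k)
    (degFrame L 𝒮L j hj d) hV0 hqs σ hO hloc τ
  obtain ⟨y, hy⟩ := hN0 N0 le_rfl (mulT L 𝒮L j hj k (d * N0))
  refine ⟨N0, y, ?_⟩
  have key : ofB 𝒮L.toQCAlg ((𝒮L.presheaf.map (homOfLE hO).op).hom
        (toB 𝒮L.toQCAlg (ap (degι 𝒮L (d * N0 + k)) V0 y))) =
      ofB 𝒮L.toQCAlg
        ((𝒮L.presheaf.map (homOfLE hO).op).hom (toB 𝒮L.toQCAlg (ap (degι 𝒮L d) V0 σ)) ^ N0 *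
          toB 𝒮L.toQCAlg (ap (degι 𝒮L k) O τ)) := by
    apply eq_of_cover (F := 𝒮L.toModule)
    intro x hx
    obtain ⟨W, -, hxW, hWO, e, he⟩ := exists_isGen_le hL x O hx
    refine ⟨W, hWO, hxW, ?_⟩
    show (𝒮L.presheaf.map (homOfLE hWO).op).hom ((𝒮L.presheaf.map (homOfLE hO).op).hom
        (toB 𝒮L.toQCAlg (ap (degι 𝒮L (d * N0 + k)) V0 y))) =
      (𝒮L.presheaf.map (homOfLE hWO).op).hom
        ((𝒮L.presheaf.map (homOfLE hO).op).hom (toB 𝒮L.toQCAlg (ap (degι 𝒮L d) V0 σ)) ^ N0 *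
          toB 𝒮L.toQCAlg (ap (degι 𝒮L k) O τ))
    rw [res_res, res_toB_ap, hy W hWO e he, mulT_spec, map_mul, map_pow, res_res,
      res_toB_degι L 𝒮L j hj σ W (hWO.trans hO) e he, res_toB_ap, ap_smul, QCAlgMod.smul_eq,
      map_pow, mul_pow, pow_mul]
    ring
  exact key

end Groth.Agent.RLS
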