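import Mathlib
import Groth.Prelude
import Groth.Agent.Lib.AcycEmb_helper9
import Groth.Agent.Lib.QCAlgMod_helper9
import Groth.Agent.Lib.SerreCrit2_helper9

/-!
# Terms of the Čech complex of sheaves are quasi-coherent (helper9)
APPEND-ONLY once landed.
-/

set_option autoImplicit false
universe u

open CategoryTheory CategoryTheory.Limits AlgebraicGeometry Opposite TopologicalSpace

namespace CechShQC

variable {X : Scheme.{u}}

theorem qc_of_iso {M N : X.Modules} (α : M ≅ N) (h : N.IsQuasicoherent) : M.IsQuasicoherent :=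
  (SheafOfModules.isQuasicoherent X.ringCatSheaf).prop_of_iso α.symm h

/-- finite products (indexed by `Fin n`) of quasi-coherent modules are quasi-coherent -/
theorem isQuasicoherent_pi_fin : ∀ (n : ℕ) (f : Fin n → X.Modules),
    (∀ k, (f k).IsQuasicoherent) → (∏ᶜ f).IsQuasicoherent
  | 0, f, _ => by
    apply SerreCrit.isZero_quasicoherent
    rw [IsZero.iff_id_eq_zero]
    apply Pi.hom_ext
    intro k
    exact k.elim0
  | n + 1, f, h => by
    have ih := isQuasicoherent_pi_fin n (fun i => f i.succ) (fun i => h i.succ)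
    haveI := h 0
    haveI := ih
    have hb : (f 0 ⊞ ∏ᶜ fun i : Fin n => f i.succ).IsQuasicoherent :=
      QCAlgMod.isQuasicoherent_biprod _ _
    let c₁ : Fan fun i : Fin n => f i.succ := Fan.mk _ (Pi.π fun i : Fin n => f i.succ)
    have hc₁ : IsLimit c₁ := productIsProduct _
    let c₂ : BinaryFan (f 0) c₁.pt := BinaryFan.mk prod.fst prod.snd
    have hc₂ : IsLimit c₂ := prodIsProd _ _
    have t := extendFanIsLimit f hc₁ hc₂
    let e : ∏ᶜ f ≅ (f 0 ⨯ ∏ᶜ fun i : Fin n => f i.succ) :=
      (productIsProduct f).conePointUniqueUpToIso t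
    exact qc_of_iso (e ≪≫ (biprod.isoProd _ _).symm) hb

/-- finite products of quasi-coherent modules are quasi-coherent -/
theorem isQuasicoherent_pi {J : Type u} [Finite J] (f : J → X.Modules)
    (h : ∀ k, (f k).IsQuasicoherent) : (∏ᶜ f).IsQuasicoherent := by
  obtain ⟨n, ⟨ε⟩⟩ := Finite.exists_equiv_fin J
  have h1 := isQuasicoherent_pi_fin n (f ∘ ε.symm) (fun k => h _)
  exact qc_of_iso (Pi.reindex ε.symm f).symm h1

/-- a finite nonempty product of affine opens in a separated scheme is affine -/
theorem isAffineOpen_pi [X.IsSeparated] {J : Type} [Fintype J] [Nonempty J] (g : J → X.Opens)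
    (hg : ∀ k, IsAffineOpen (g k)) : IsAffineOpen (∏ᶜ g) := by
  have hne : (Finset.univ : Finset J).Nonempty := Finset.univ_nonempty
  have h1 : ∏ᶜ g = Finset.univ.inf' hne g := by
    apply le_antisymm
    · exact Finset.le_inf' _ _ (fun k _ => leOfHom (Pi.π g k))
    · exact leOfHom (Pi.lift (fun k => homOfLE (Finset.inf'_le g (Finset.mem_univ k))))
  rw [h1]
  exact Finset.inf'_induction hne g (fun a ha b hb => ha.inf hb) (fun k _ => hg k)

end CechShQC
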