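import Mathlib
import Groth.Prelude
import Groth.Agent.Lib.Horrocks7_helper9

/-!
# Horrocks' splitting criterion for finite locally free modules of rank `r` on `P^n_k` (helper9)
APPEND-ONLY once landed.
-/

set_option autoImplicit false
universe u
open CategoryTheory CategoryTheory.Limits AlgebraicGeometry TopologicalSpace Opposite Abelian

namespace Groth.Agent.Horrocks

open Groth.Agent.HHVan Groth.Agent.CMReg Groth.Agent.ProjTens Groth.Agent.TensInv
  Groth.Agent.ExtDual Groth.Agent.ProjFin Groth.Agent.ProjInt Groth.Agent.ProjDual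
  Groth.Agent.ProjCech

/-- a finite locally free module is coherent -/
theorem isCoh_of_finLocFree {X : Scheme.{u}} (F : X.Modules) (hF : FlatMod.IsFinLocFree F) :
    Coh.IsCoh F := by
  haveI := FLFH8.isQuasicoherent_of_finLocFree F hF
  haveI := FLFH8.isFinitePresentation_of_finLocFree F hF
  exact ⟨inferInstance, inferInstance⟩

section Zero

variable (k : Type u) [Field k]

theorem basicOpen_zero_eq_top :
    Proj.basicOpen (𝒜 0 k) (mon 0 k (Finsupp.single 0 1)) = ⊤ := by
  have h := iSup_cov (n := 0) (R := k)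
  rw [eq_top_iff, ← h]
  apply iSup_le
  rintro ⟨i⟩
  obtain rfl : i = 0 := Fin.fin_one_eq_zero i
  exact le_of_eq (cov_eq _)

theorem isAffine_projSpace_zero : IsAffine (CohB1.ProjSpace 0 k) := by
  have h2 : IsAffineOpen (⊤ : (Proj (𝒜 0 k)).Opens) := by
    rw [← basicOpen_zero_eq_top k]
    exact isAffineOpen_mon (m := Finsupp.single 0 1) (by simp)
  haveI : IsAffine ((⊤ : (Proj (𝒜 0 k)).Opens) : Scheme.{u}) := h2
  exact IsAffine.of_isIso (Scheme.topIso (Proj (𝒜 0 k))).inv

theorem isField_gamma_projSpace (n : ℕ) : IsField Γ(CohB1.ProjSpace n k, ⊤) where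
  exists_pair_ne := ⟨cc k 0, cc k 1, fun h => zero_ne_one ((bijective_cc_projSpace n k).1 h)⟩
  mul_comm := mul_comm
  mul_inv_cancel := fun ha => (isUnit_of_ne_zero n k _ ha).exists_right_inv

/-- every finite locally free module on `P^0_k` is free -/
theorem exists_iso_free_zero (E : (CohB1.ProjSpace 0 k).Modules)
    (hflf : FlatMod.IsFinLocFree E) :
    ∃ s : ℕ, Nonempty (E ≅ FlatMod.freeMod (CohB1.ProjSpace 0 k) s) := by
  haveI := isAffine_projSpace_zero k
  haveI := FLFH8.isQuasicoherent_of_finLocFree E hflf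
  haveI := FLFH8.isFinitePresentation_of_finLocFree E hflf
  haveI : Module.Finite Γ(CohB1.ProjSpace 0 k, ⊤) Γ(E, ⊤) :=
    QCohFT.finite_of_isFiniteType E (isAffineOpen_top _)
  letI := (isField_gamma_projSpace k 0).toField
  let b := Module.finBasis Γ(CohB1.ProjSpace 0 k, ⊤) Γ(E, ⊤)
  haveI := SDivFreeH8.isIso_freeHom E b b.linearIndependent b.span_eq
  exact ⟨_, ⟨(asIso (SDivGenH8.freeHom E b)).symm⟩⟩

end Zero

section Main

variable (n : ℕ) (k : Type u) [Field k]

/-- Horrocks' splitting criterion for a finite locally free module of rank `r` on `P^n_k` -/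
theorem horrocks_flf (r : ℕ) (E : (CohB1.ProjSpace n k).Modules)
    (hE : FlatMod.IsFinLocFreeOfRank r E) :
    (∃ a : Fin r → ℤ, Nonempty (E ≅ ∐ fun j : Fin r => OO n k (a j))) ↔
      ∀ (i : ℕ) (d : ℤ), 0 < i → i < n →
        Subsingleton (Coh.HH (CohB1.ProjSpace n k) (CohB1.tensorMod E (OO n k d)) i) := by
  have hflf := FLFH8.IsFinLocFreeOfRank.isFinLocFree E hE
  have hcoh := isCoh_of_finLocFree E hflf
  haveI := isIntegral_projSpace n k
  haveI : Nonempty (CohB1.ProjSpace n k) := inferInstance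
  constructor
  · rintro ⟨a, ⟨e⟩⟩ i d hi hin
    exact ((horrocks n k (by omega) E hcoh).mp ⟨r, a, ⟨e⟩⟩).2 d i hi hin
  · intro h
    rcases Nat.eq_zero_or_pos n with rfl | hn
    · obtain ⟨s, ⟨α⟩⟩ := exists_iso_free_zero k E hflf
      have hs : FlatMod.IsFinLocFreeOfRank s E :=
        fun x => ⟨⊤, trivial, FLFH8.iso_restrict_of_iso α ⊤⟩
      obtain rfl : r = s := rank_unique hE hs
      obtain ⟨e0⟩ := twist_zero 0 k
      exact ⟨fun _ => 0, ⟨α ≪≫ Sigma.mapIso (fun _ => e0.symm)⟩⟩
    · obtain ⟨m₀, hm₀⟩ := exists_h0_vanish n k hn E hcoh hflf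
      obtain ⟨r', m, ⟨e⟩⟩ := (horrocks n k hn E hcoh).mpr
        ⟨⟨m₀, hm₀⟩, fun m i hi hin => h i m hi hin⟩
      have hr' : FlatMod.IsFinLocFreeOfRank r' E :=
        isFinLocFreeOfRank_of_iso e.symm
          (isFinLocFreeOfRank_sigma _ (fun j => isInvertible_OO n k (m j)))
      obtain rfl : r = r' := rank_unique hE hr'
      exact ⟨m, ⟨e⟩⟩

end Main

end Groth.Agent.Horrocks
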