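import Mathlib
import Groth.Prelude
import Groth.Agent.Lib.Horrocks8_helper9

/-!
# Splitting type of vector bundles on `P^1_k`: dimension of cohomology of direct sums (helper9)
APPEND-ONLY once landed.
-/

set_option autoImplicit false
universe u
open CategoryTheory CategoryTheory.Limits AlgebraicGeometry TopologicalSpace Opposite Abelian

namespace Groth.Agent.P1Split

open Groth.Agent.HHVan Groth.Agent.CMReg Groth.Agent.ProjTens Groth.Agent.TensInv
  Groth.Agent.ExtDual Groth.Agent.ProjFin Groth.Agent.ProjInt Groth.Agent.ProjDual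
  Groth.Agent.ProjCech

section Decomp

variable {X : Scheme.{u}}

lemma hmap_zero' {M N : X.Modules} (i : ℕ) (x : Coh.HH X M i) : hmap (0 : M ⟶ N) i x = 0 := by
  have h : hmap (0 : M ⟶ N) i = HmapHom i ((SerreCrit.TT X).map (0 : M ⟶ N)) := rfl
  rw [h, Functor.map_zero, map_zero]
  rfl

lemma hmap_sum' {M N : X.Modules} {ι : Type*} (s : Finset ι) (φ : ι → (M ⟶ N)) (i : ℕ)
    (x : Coh.HH X M i) : hmap (∑ j ∈ s, φ j) i x = ∑ j ∈ s, hmap (φ j) i x := by
  have h : hmap (∑ j ∈ s, φ j) i = HmapHom i ((SerreCrit.TT X).map (∑ j ∈ s, φ j)) := rfl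
  rw [h, Functor.map_sum, map_sum, AddMonoidHom.finset_sum_apply]
  rfl

variable (k : Type u) [Field k] [X.Over (Spec (CommRingCat.of k))]

/-- the dimension of the cohomology of a finite direct sum -/
theorem finrank_HH_of_decomp (T : X.Modules ⥤ X.Modules) [T.Additive] {M : X.Modules}
    {r : ℕ} (f : Fin r → X.Modules) (π : ∀ j, M ⟶ f j) (ι : ∀ j, f j ⟶ M)
    (htot : ∑ j, π j ≫ ι j = 𝟙 M) (hself : ∀ j, ι j ≫ π j = 𝟙 (f j))
    (hne : ∀ j l, j ≠ l → ι j ≫ π l = 0) (i : ℕ)
    [∀ j, Module.Finite k (Coh.HH X (T.obj (f j)) i)] :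
    Module.finrank k (Coh.HH X (T.obj M) i) =
      ∑ j, Module.finrank k (Coh.HH X (T.obj (f j)) i) := by
  let Φ : Coh.HH X (T.obj M) i →ₗ[k] (∀ j, Coh.HH X (T.obj (f j)) i) :=
    LinearMap.pi (fun j => Canon.HHlin k (T.map (π j)) i)
  let Ψ : (∀ j, Coh.HH X (T.obj (f j)) i) →ₗ[k] Coh.HH X (T.obj M) i :=
    ∑ j, (Canon.HHlin k (T.map (ι j)) i).comp (LinearMap.proj j)
  have hΨ : ∀ y, Ψ y = ∑ j, hmap (T.map (ι j)) i (y j) := fun y => by
    simp only [Ψ, LinearMap.sum_apply, LinearMap.comp_apply, LinearMap.proj_apply]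
    rfl
  have hΦ : ∀ x l, Φ x l = hmap (T.map (π l)) i x := fun x l => rfl
  have e : Coh.HH X (T.obj M) i ≃ₗ[k] (∀ j, Coh.HH X (T.obj (f j)) i) := by
    refine LinearEquiv.ofLinear Φ Ψ ?_ ?_
    · apply LinearMap.ext
      intro y
      funext l
      rw [LinearMap.comp_apply, LinearMap.id_apply, hΦ, hΨ, map_sum]
      rw [Finset.sum_eq_single l]
      · rw [← hmap_comp, ← T.map_comp, hself, T.map_id, hmap_id]
      · intro j _ hjl
        rw [← hmap_comp, ← T.map_comp, hne j l hjl, T.map_zero, hmap_zero']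
      · intro h
        exact absurd (Finset.mem_univ l) h
    · apply LinearMap.ext
      intro x
      rw [LinearMap.comp_apply, LinearMap.id_apply, hΨ]
      have h1 : ∀ j, hmap (T.map (ι j)) i (Φ x j) = hmap (T.map (π j ≫ ι j)) i x := fun j => by
        rw [hΦ, T.map_comp, hmap_comp]
      simp_rw [h1]
      rw [← hmap_sum', ← T.map_sum, htot, T.map_id, hmap_id]
  rw [e.finrank_eq, Module.finrank_pi_fintype]

/-- the dimension of the cohomology of a finite coproduct -/
theorem finrank_HH_sigma (T : X.Modules ⥤ X.Modules) [T.Additive]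
    {r : ℕ} (f : Fin r → X.Modules) (i : ℕ)
    [∀ j, Module.Finite k (Coh.HH X (T.obj (f j)) i)] :
    Module.finrank k (Coh.HH X (T.obj (∐ f)) i) =
      ∑ j, Module.finrank k (Coh.HH X (T.obj (f j)) i) := by
  have h1 : ∀ j, Sigma.ι f j = biproduct.ι f j ≫ (biproduct.isoCoproduct f).hom := fun j => by
    rw [biproduct.isoCoproduct_hom, biproduct.ι_desc]
  refine finrank_HH_of_decomp k T f
    (fun j => (biproduct.isoCoproduct f).inv ≫ biproduct.π f j) (fun j => Sigma.ι f j) ?_ ?_ ?_ i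
  · have h2 : ∑ j, ((biproduct.isoCoproduct f).inv ≫ biproduct.π f j) ≫ Sigma.ι f j =
        (biproduct.isoCoproduct f).inv ≫ (∑ j, biproduct.π f j ≫ biproduct.ι f j) ≫
          (biproduct.isoCoproduct f).hom := by
      rw [Preadditive.sum_comp, Preadditive.comp_sum]
      apply Finset.sum_congr rfl
      intro j _
      rw [h1 j]
      simp only [Category.assoc]
    rw [h2, biproduct.total, Category.id_comp, Iso.inv_hom_id]
  · intro j
    rw [h1 j, Category.assoc, Iso.hom_inv_id_assoc, biproduct.ι_π_self]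
  · intro j l hjl
    rw [h1 j, Category.assoc, Iso.hom_inv_id_assoc, biproduct.ι_π_ne f hjl]

end Decomp

end Groth.Agent.P1Split
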