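import Mathlib
import Groth.Prelude
import Groth.Agent.Lib.Kosz1_helper9
import Groth.Agent.Lib.NodalG0c_helper9
import Groth.Agent.Lib.CechShQC_helper9
import Groth.Agent.Lib.ProjFin2_helper9
import Groth.Agent.Lib.P1Split1_helper9
import Groth.Agent.Lib.CurvePtInv3_helper9

/-!
# Consequences of the Koszul relations on proper curves (helper9)
Surjectivity of multiplication maps on global sections, and the base-point-free pencil trick.
APPEND-ONLY once landed.
-/

set_option autoImplicit false
universe u
open CategoryTheory CategoryTheory.Limits AlgebraicGeometry Opposite TopologicalSpace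

namespace Kosz

open QcqsLoc QCohExtn GenLocH8 TensH8 FLFH8 CohB1 CurveAmple Groth.Agent.KosSh SDivFreeH8
  Groth.Agent.HHVan

variable {X : Scheme.{u}}

section Biprod

/-- finite biproducts of quasi-coherent modules are quasi-coherent -/
theorem isQuasicoherent_biproduct {J : Type} [Fintype J] (f : J → X.Modules)
    (h : ∀ j, (f j).IsQuasicoherent) : (⨁ f).IsQuasicoherent := by
  obtain ⟨n, ⟨ε⟩⟩ := Finite.exists_equiv_fin J
  have h1 := CechShQC.isQuasicoherent_pi_fin n (f ∘ ε.symm) (fun k => h _)
  exact CechShQC.qc_of_iso (biproduct.isoProduct f ≪≫ (Pi.reindex ε.symm f).symm) h1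

/-- vanishing of the cohomology of a finite biproduct -/
theorem subsingleton_HH_biproduct {J : Type} [Fintype J] (f : J → X.Modules) (i : ℕ)
    (h : ∀ j, Subsingleton (Coh.HH X (f j) i)) : Subsingleton (Coh.HH X (⨁ f) i) := by
  classical
  have hx : ∀ x : Coh.HH X (⨁ f) i, x = 0 := fun x => by
    have h1 : x = hmap (𝟙 (⨁ f)) i x := (hmap_id i x).symm
    rw [← biproduct.total, Groth.Agent.P1Split.hmap_sum'] at h1
    rw [h1]
    apply Finset.sum_eq_zero
    intro j _
    rw [hmap_comp, Subsingleton.elim (h := h j) (hmap (biproduct.π f j) i x) 0, map_zero]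
  exact ⟨fun x y => by rw [hx x, hx y]⟩

end Biprod

section Curve

variable (k : Type u) [Field k] (B : Scheme.{u}) [B.Over (Spec (CommRingCat.of k))]
  [IsProper (B ↘ Spec (CommRingCat.of k))]

include k in
/-- **surjectivity of the multiplication map on global sections**: for an invertible module `A`
generated by `r` sections on a proper scheme of dimension at most one, and `M` quasi-coherent with
`H¹(M) = 0`, the map `H⁰(M ⊗ A)^r ⟶ H⁰((M ⊗ A) ⊗ A)` is surjective -/
theorem sections_Psi_surjective (hdim : topologicalKrullDim B ≤ 1) {A : B.Modules}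
    (hA : PicF.IsInvertible A) {r : ℕ} (p : FlatMod.freeMod B r ⟶ A) [Epi p]
    (M : B.Modules) [M.IsQuasicoherent] (hM : Subsingleton (Coh.HH B M 1)) :
    Function.Surjective (ap (Psi A (fun i => (ιM i : Coh.structureModule B ⟶
      FlatMod.freeMod B r) ≫ p) (CohB1.tensorMod M A)) ⊤) := by
  set σ : Fin r → (Coh.structureModule B ⟶ A) :=
    fun i => (ιM i : Coh.structureModule B ⟶ FlatMod.freeMod B r) ≫ p with hσ
  have hloc : ∀ (U : B.Opens) (x : B), x ∈ U →
      ∃ (W : B.Opens) (_ : W ≤ U), x ∈ W ∧ Nonempty (LocData A σ W) :=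
    fun U x hx => exists_locData hA p hx
  haveI hAq : A.IsQuasicoherent := TensH8.isQuasicoherent_of_isInvertible hA
  haveI h1q : (CohB1.tensorMod M A).IsQuasicoherent := TensQCH8.isQuasicoherent_tensorMod M A
  haveI h2q : (CohB1.tensorMod (CohB1.tensorMod M A) A).IsQuasicoherent :=
    TensQCH8.isQuasicoherent_tensorMod _ A
  haveI : (Pw r (CohB1.tensorMod M A)).IsQuasicoherent :=
    isQuasicoherent_biproduct _ (fun _ => h1q)
  haveI : (Pw2 r M).IsQuasicoherent := isQuasicoherent_biproduct _ (fun _ => inferInstance)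
  have hex := exact_kap_Psi hA M hloc
  haveI hepi : Epi (Psi A σ (CohB1.tensorMod M A)) := epi_Psi_of_locData (CohB1.tensorMod M A) hloc
  haveI : (kernel (Psi A σ (CohB1.tensorMod M A))).IsQuasicoherent :=
    SubExt.isQuasicoherent_kernel _
  rw [ShortComplex.exact_iff_epi_kernel_lift] at hex
  haveI hex' : Epi (kernel.lift (Psi A σ (CohB1.tensorMod M A)) (kap A σ M) (kap_Psi σ hA M)) := hex
  have hK : Subsingleton (Coh.HH B (kernel (Psi A σ (CohB1.tensorMod M A))) 1) :=
    NodalG0.HH1_of_epi k B hdim
      (kernel.lift (Psi A σ (CohB1.tensorMod M A)) (kap A σ M) (kap_Psi σ hA M))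
      (subsingleton_HH_biproduct _ 1 (fun _ => hM))
  let S : ShortComplex B.Modules := ShortComplex.mk (kernel.ι (Psi A σ (CohB1.tensorMod M A)))
    (Psi A σ (CohB1.tensorMod M A)) (kernel.condition _)
  have hS : S.ShortExact :=
    ShortComplex.ShortExact.mk' (S.exact_of_f_is_kernel (kernelIsKernel _))
      (inferInstanceAs (Mono (kernel.ι (Psi A σ (CohB1.tensorMod M A))))) hepi
  exact NodalG0.sections_surjective k B S hS hK

end Curve

end Kosz
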