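import Mathlib
import Groth.Prelude
import Groth.Agent.Lib.Snap53_helper9
import Groth.Agent.Lib.PB10_helper8
import Groth.Agent.Lib.SupportCoh_helper9
import Groth.Agent.Lib.BMod2_helper6
import Groth.Agent.Lib.FormalFn3_helper2
import Groth.Agent.Lib.FLF2_helper8
import Groth.Agent.Lib.CohDev3_helper8

/-!
# Relatively nef invertible modules over a Noetherian base with `H¹(O) = 0`: global generation
(helper9)

APPEND-ONLY once landed.
-/

set_option autoImplicit false
universe u
open CategoryTheory CategoryTheory.Limits AlgebraicGeometry Opposite TopologicalSpace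

namespace Snap9

open TensorProduct

section Alg

/-- Nakayama along a surjective local homomorphism: a finite module whose base change vanishes
is zero -/
theorem subsingleton_of_isBaseChange_of_surjective {R S M N : Type*} [CommRing R] [IsLocalRing R]
    [CommRing S] [Nontrivial S] [Algebra R S] (hs : Function.Surjective (algebraMap R S))
    [AddCommGroup M] [Module R M] [Module.Finite R M] [AddCommGroup N] [Module R N] [Module S N]
    [IsScalarTower R S N] (g : M →ₗ[R] N) (hg : IsBaseChange S g) [Subsingleton N] :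
    Subsingleton M := by
  set J : Ideal R := RingHom.ker (algebraMap R S) with hJ
  haveI : Subsingleton (S ⊗[R] M) := hg.equiv.toEquiv.subsingleton
  let e1 : (R ⧸ J) ≃ₗ[R] S :=
    (Ideal.quotientKerAlgEquivOfSurjective (f := Algebra.ofId R S) hs).toLinearEquiv
  haveI : Subsingleton ((R ⧸ J) ⊗[R] M) :=
    (TensorProduct.congr e1 (LinearEquiv.refl R M)).toEquiv.subsingleton
  haveI : Subsingleton (M ⧸ (J • ⊤ : Submodule R M)) :=
    (TensorProduct.quotTensorEquivQuotSMul M J).symm.toEquiv.subsingleton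
  have htop : (J • ⊤ : Submodule R M) = ⊤ := Submodule.Quotient.subsingleton_iff.mp ‹_›
  have hJne : J ≠ ⊤ := by
    intro h
    have h1 : (1 : R) ∈ J := by rw [h]; exact Submodule.mem_top
    rw [hJ, RingHom.mem_ker, map_one] at h1
    exact one_ne_zero h1
  have hJle : J ≤ Ideal.jacobson ⊥ :=
    (IsLocalRing.le_maximalIdeal hJne).trans (IsLocalRing.maximalIdeal_le_jacobson ⊥)
  have h4 := Submodule.eq_bot_of_le_smul_of_le_jacobson_bot J
    (⊤ : Submodule R M) Module.Finite.fg_top htop.ge hJle
  refine ⟨fun a b => ?_⟩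
  have ha : a ∈ (⊤ : Submodule R M) := Submodule.mem_top
  have hb : b ∈ (⊤ : Submodule R M) := Submodule.mem_top
  rw [h4, Submodule.mem_bot] at ha hb
  rw [ha, hb]

end Alg

end Snap9

namespace Snap9

section Stalk

variable {X Z : Scheme.{u}} (ι : Z ⟶ X) [IsClosedImmersion ι]

/-- if the pullback of a coherent module to a closed subscheme vanishes, so do its stalks at the
points of the subscheme -/
theorem stalk_subsingleton_of_isZero_pullback (Q : X.Modules) [Q.IsQuasicoherent]
    [SheafOfModules.IsFiniteType (R := X.ringCatSheaf) Q]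
    (hz : IsZero ((Scheme.Modules.pullback ι).obj Q)) (z : Z) :
    Subsingleton (Q.presheaf.stalk (ι z)) := by
  letI alg : Algebra (X.presheaf.stalk (ι z)) (Z.presheaf.stalk z) :=
    (ι.stalkMap z).hom.toAlgebra
  letI : Module (X.presheaf.stalk (ι z))
      (((Scheme.Modules.pullback ι).obj Q).presheaf.stalk z) :=
    Module.compHom _ (ι.stalkMap z).hom
  haveI : IsScalarTower (X.presheaf.stalk (ι z)) (Z.presheaf.stalk z)
      (((Scheme.Modules.pullback ι).obj Q).presheaf.stalk z) :=
    IsScalarTower.of_algebraMap_smul fun _ _ => rfl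
  have hbc : IsBaseChange (Z.presheaf.stalk z) (PBH8.cStalkLin ι Q z) :=
    PBH8.isBaseChange_cStalk ι Q z
  haveI := FLFH8.finite_stalk Q (ι z)
  haveI : Subsingleton (((Scheme.Modules.pullback ι).obj Q).presheaf.stalk z) :=
    CycLenH8.subsingleton_stalk_of_isZero hz z
  have hs : Function.Surjective
      (algebraMap (X.presheaf.stalk (ι z)) (Z.presheaf.stalk z)) := ι.stalkMap_surjective z
  exact subsingleton_of_isBaseChange_of_surjective hs _ hbc

end Stalk

end Snap9

namespace Snap9

section Adj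

variable {X Z : Scheme.{u}} (ι : Z ⟶ X)

/-- if the pullback of `L` to `Z` is generated by its sections and the sections of `ι_* ι^* L`
lift to `L`, then the cokernel of any morphism through which all sections of `L` factor pulls
back to zero -/
theorem isZero_pullback_cokernel (L : X.Modules)
    (hJE : NodalG0.JointlyEpi ((Scheme.Modules.pullback ι).obj L))
    (hlift : ∀ s : Coh.structureModule X ⟶
        (Scheme.Modules.pushforward ι).obj ((Scheme.Modules.pullback ι).obj L),
      ∃ σ : Coh.structureModule X ⟶ L,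
        σ ≫ (Scheme.Modules.pullbackPushforwardAdjunction ι).unit.app L = s)
    {P : X.Modules} (ev : P ⟶ L)
    (hev : ∀ σ : Coh.structureModule X ⟶ L, ∃ τ : Coh.structureModule X ⟶ P, τ ≫ ev = σ) :
    IsZero ((Scheme.Modules.pullback ι).obj (cokernel ev)) := by
  have hzero : ∀ (M : X.Modules) (W : Z.Modules),
      (Scheme.Modules.pullbackPushforwardAdjunction ι).homEquiv M W 0 = 0 := by
    intro M W
    rw [Adjunction.homEquiv_unit, Functor.map_zero, comp_zero]
  have key : ∀ (W : Z.Modules) (g : (Scheme.Modules.pullback ι).obj (cokernel ev) ⟶ W),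
      g = 0 := by
    intro W g
    apply ((Scheme.Modules.pullbackPushforwardAdjunction ι).homEquiv _ _).injective
    rw [hzero, ← cancel_epi (cokernel.π ev), comp_zero]
    obtain ⟨h, hh⟩ : ∃ h : L ⟶ (Scheme.Modules.pushforward ι).obj W, h = cokernel.π ev ≫
        (Scheme.Modules.pullbackPushforwardAdjunction ι).homEquiv _ _ g := ⟨_, rfl⟩
    rw [← hh]
    have hkill : ∀ σ : Coh.structureModule X ⟶ L, σ ≫ h = 0 := by
      intro σ
      obtain ⟨τ, rfl⟩ := hev σ
      rw [hh, Category.assoc, ← Category.assoc ev, cokernel.condition, zero_comp, comp_zero]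
    have hsharp : ((Scheme.Modules.pullbackPushforwardAdjunction ι).homEquiv L W).symm h = 0 := by
      apply hJE
      intro τ'
      rw [← cancel_epi (PBH8.pullbackUnitIso ι).hom, comp_zero]
      apply ((Scheme.Modules.pullbackPushforwardAdjunction ι).homEquiv _ _).injective
      rw [hzero, ← Category.assoc, Adjunction.homEquiv_naturality_right]
      obtain ⟨σ, hσ⟩ := hlift ((Scheme.Modules.pullbackPushforwardAdjunction ι).homEquiv _ _
        ((PBH8.pullbackUnitIso ι).hom ≫ τ'))
      rw [← hσ, Category.assoc, ← Adjunction.homEquiv_unit, Equiv.apply_symm_apply]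
      exact hkill σ
    have h2 := congrArg ((Scheme.Modules.pullbackPushforwardAdjunction ι).homEquiv L W) hsharp
    rw [Equiv.apply_symm_apply, hzero] at h2
    exact h2
  rw [IsZero.iff_id_eq_zero]
  exact key _ _

end Adj

end Snap9

namespace Snap9

open Groth.Agent.HHVan Groth.Agent.Lib.FormalFnH2 Groth.Agent.Lib.FormalModPowH4
  Groth.Agent.Lib.FibVanH2

section GG

variable {A : Type u} [CommRing A] [IsNoetherianRing A] {X : Scheme.{u}}
  (f : X ⟶ Spec (CommRingCat.of A)) [IsProper f]

/-- the range of the fibre over a maximal ideal -/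
theorem range_fst_fibre (𝔪 : Ideal A) [h𝔪 : 𝔪.IsMaximal] :
    Set.range (pullback.fst f (Spec.map (CommRingCat.ofHom (algebraMap A (A ⧸ 𝔪))))) =
      f ⁻¹' {((⟨𝔪, h𝔪.isPrime⟩ : PrimeSpectrum A) : ↥(Spec (CommRingCat.of A)))} := by
  have hrg : Set.range (Spec.map (CommRingCat.ofHom (algebraMap A (A ⧸ 𝔪)))) =
      {((⟨𝔪, h𝔪.isPrime⟩ : PrimeSpectrum A) : ↥(Spec (CommRingCat.of A)))} := by
    have h1 := _root_.range_comap_of_surjective _ (algebraMap A (A ⧸ 𝔪))
      Ideal.Quotient.mk_surjective
    rw [Ideal.Quotient.algebraMap_eq, Ideal.mk_ker, PrimeSpectrum.zeroLocus_eq_singleton] at h1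
    exact h1
  rw [Scheme.Pullback.range_fst, hrg]

/-- sections of `ι_* ι^* L` lift to `L` when `H¹(L) = 0` -/
theorem exists_lift_unit
    (hfib : ∀ y : ↥(Spec (CommRingCat.of A)), topologicalKrullDim ↥(f.fiber y) ≤ 1)
    (L : X.Modules) (hLc : Coh.IsCoh L) (hH1 : Subsingleton (Coh.HH X L 1))
    (𝔪 : Ideal A) [h𝔪 : 𝔪.IsMaximal]
    (s : Coh.structureModule X ⟶ (Scheme.Modules.pushforward
      (pullback.fst f (Spec.map (CommRingCat.ofHom (algebraMap A (A ⧸ 𝔪)))))).obj
      ((Scheme.Modules.pullback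
        (pullback.fst f (Spec.map (CommRingCat.ofHom (algebraMap A (A ⧸ 𝔪)))))).obj L)) :
    ∃ σ : Coh.structureModule X ⟶ L,
      σ ≫ (Scheme.Modules.pullbackPushforwardAdjunction
        (pullback.fst f (Spec.map (CommRingCat.ofHom (algebraMap A (A ⧸ 𝔪)))))).unit.app L =
        s := by
  letI : X.Over (Spec (CommRingCat.of A)) := ⟨f⟩
  haveI : IsLocallyNoetherian X := LocallyOfFiniteType.isLocallyNoetherian f
  haveI := hLc.1
  letI : (pullback f (Spec.map (CommRingCat.ofHom (algebraMap A (A ⧸ 𝔪))))).Over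
      (Spec (CommRingCat.of (A ⧸ 𝔪))) := ⟨pullback.snd f _⟩
  have hsq : IsPullback (pullback.fst f (Spec.map (CommRingCat.ofHom (algebraMap A (A ⧸ 𝔪)))))
      ((pullback f (Spec.map (CommRingCat.ofHom (algebraMap A (A ⧸ 𝔪))))) ↘
        Spec (CommRingCat.of (A ⧸ 𝔪)))
      (X ↘ Spec (CommRingCat.of A))
      (Spec.map (CommRingCat.ofHom (algebraMap A (A ⧸ 𝔪)))) :=
    IsPullback.of_hasPullback f _
  obtain ⟨θ, hθ⟩ := exists_theta A (A ⧸ 𝔪) 𝔪 _ hsq Ideal.Quotient.mk_surjective
    (by rw [Ideal.Quotient.algebraMap_eq, Ideal.mk_ker]) L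
  obtain ⟨n, a, ha⟩ := Submodule.fg_iff_exists_fin_generating_family.mp
    (IsNoetherian.noetherian 𝔪)
  obtain ⟨e, he⟩ := exists_cokernel_phi_iso 𝔪 a ha L
  have hBc : Coh.IsCoh (⨁ fun _ : Fin n => L) :=
    CohDevH8.isCoh_of_iso (biproduct.isoCoproduct _) (Groth.Agent.ProjFin.isCoh_sigma_fin L hLc n)
  have hCc : Coh.IsCoh (cokernel (phi a L)) := CohKerH8.isCoh_cokernel hBc hLc _
  have hIc : Coh.IsCoh (kernel (cokernel.π (phi a L))) := CohKerH8.isCoh_kernel hLc hCc _
  have hI1 : Subsingleton (Coh.HH X (kernel (cokernel.π (phi a L))) 1) :=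
    HH1_of_epi_of_H2 (HH2_subsingleton f hfib) hBc hIc (Abelian.factorThruImage (phi a L))
      (subsingleton_HH_biproduct L 1 hH1)
  let S : ShortComplex X.Modules :=
    ShortComplex.mk (kernel.ι (cokernel.π (phi a L))) (cokernel.π (phi a L))
      (kernel.condition _)
  have hS : S.ShortExact :=
    ShortComplex.ShortExact.mk' (S.exact_of_f_is_kernel (kernelIsKernel (cokernel.π (phi a L))))
      (inferInstanceAs (Mono (kernel.ι (cokernel.π (phi a L)))))
      (inferInstanceAs (Epi (cokernel.π (phi a L))))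
  obtain ⟨σ, hσ⟩ := exists_lift_hom S hS hI1 (s ≫ θ.inv ≫ e.inv)
  refine ⟨σ, ?_⟩
  have hσ' : σ ≫ cokernel.π (phi a L) = s ≫ θ.inv ≫ e.inv := hσ
  rw [← hθ, ← he, ← Category.assoc, ← Category.assoc, hσ', Category.assoc, Category.assoc,
    Category.assoc, Iso.inv_hom_id_assoc, Iso.inv_hom_id, Category.comp_id]

/-- **global generation** -/
theorem main_gg
    (h1 : Subsingleton (Coh.HH X (Coh.structureModule X) 1))
    (hfib : ∀ y : ↥(Spec (CommRingCat.of A)), topologicalKrullDim ↥(f.fiber y) ≤ 1)
    (L : X.Modules) (hL : PicF.IsInvertible L)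
    (hnef : ∀ (K : Type u) [Field K] (i : A →+* K) (J : X.IdealSheafData)
      (t : J.subscheme ⟶ Spec (CommRingCat.of K)),
      AlgebraicGeometry.IsIntegral J.subscheme → topologicalKrullDim ↥J.subscheme = 1 →
      t ≫ Spec.map (CommRingCat.ofHom i) = J.subschemeι ≫ f →
      0 ≤ @Curv2.deg K _ J.subscheme ⟨t⟩ ((Scheme.Modules.pullback J.subschemeι).obj L) 1) :
    Curv2.IsGloballyGenerated L := by
  haveI : IsLocallyNoetherian X := LocallyOfFiniteType.isLocallyNoetherian f
  haveI : CompactSpace X := QuasiCompact.compactSpace_of_compactSpace f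
  have hH1 := main_H1 f h1 hfib L hL hnef
  have hLc := ProperFinH9.isCoh_of_isInvertible hL
  haveI := hLc.1
  have hOc := CohDevH8.isCoh_structureModule X
  haveI := hOc.1
  let ev : (∐ fun _ : (Coh.structureModule X ⟶ L) => Coh.structureModule X) ⟶ L :=
    Sigma.desc (fun t => t)
  have hev : ∀ σ : Coh.structureModule X ⟶ L,
      ∃ τ : Coh.structureModule X ⟶
        (∐ fun _ : (Coh.structureModule X ⟶ L) => Coh.structureModule X), τ ≫ ev = σ :=
    fun σ => ⟨Sigma.ι (fun _ : (Coh.structureModule X ⟶ L) => Coh.structureModule X) σ,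
      Sigma.ι_desc _ _⟩
  haveI : (∐ fun _ : (Coh.structureModule X ⟶ L) => Coh.structureModule X).IsQuasicoherent :=
    Groth.Agent.Lib.BModH6.isQuasicoherent_sigma _
  have hQc : Coh.IsCoh (cokernel ev) := isCoh_cokernel' hLc ev
  haveI := hQc.1
  haveI := hQc.2
  have hz : IsZero (cokernel ev) := by
    apply CohDevH8.isZero_of_support_eq_empty
    rw [Set.eq_empty_iff_forall_notMem]
    intro x hx
    have hcl : IsClosed (CohB1.support (cokernel ev)) := SupportCoh.isClosed_support _
    obtain ⟨p, hpx, hp⟩ := IsClosed.exists_closed_singleton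
      (isClosed_closure (s := ({x} : Set X))) ⟨x, subset_closure rfl⟩
    have hps : p ∈ CohB1.support (cokernel ev) :=
      (hcl.closure_subset_iff.mpr (Set.singleton_subset_iff.mpr hx)) hpx
    have hy : IsClosed ({f p} : Set ↥(Spec (CommRingCat.of A))) := by
      have := f.isClosedMap _ hp
      rwa [Set.image_singleton] at this
    have h𝔪 : (show PrimeSpectrum A from f p).asIdeal.IsMaximal :=
      (PrimeSpectrum.isClosed_singleton_iff_isMaximal _).mp hy
    haveI := h𝔪
    have hpr : p ∈ Set.range (pullback.fst f (Spec.map (CommRingCat.ofHom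
        (algebraMap A (A ⧸ (show PrimeSpectrum A from f p).asIdeal))))) := by
      rw [range_fst_fibre]
      rfl
    obtain ⟨z, hz⟩ := hpr
    haveI : IsClosedImmersion (Spec.map (CommRingCat.ofHom
        (algebraMap A (A ⧸ (show PrimeSpectrum A from f p).asIdeal)))) :=
      IsClosedImmersion.spec_of_surjective _ Ideal.Quotient.mk_surjective
    rw [← hz] at hps
    apply hps
    exact stalk_subsingleton_of_isZero_pullback _ (cokernel ev)
      (isZero_pullback_cokernel _ L
        (fibre_core' f h1 hfib L hL hnef (show PrimeSpectrum A from f p).asIdeal).2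
        (exists_lift_unit f hfib L hLc hH1 (show PrimeSpectrum A from f p).asIdeal) ev hev) z
  haveI : Epi ev := Preadditive.epi_of_isZero_cokernel ev hz
  apply NodalG0.gg_of_jointlyEpi
  intro C c hc
  have h2 : ev ≫ c = 0 := by
    apply Sigma.hom_ext
    intro t
    rw [← Category.assoc, Sigma.ι_desc, comp_zero]
    exact hc _
  exact (cancel_epi ev).1 (h2.trans comp_zero.symm)

/-- **S19496** -/
theorem main19496
    (h1 : Subsingleton (Coh.HH X (Coh.structureModule X) 1))
    (hfib : ∀ y : ↥(Spec (CommRingCat.of A)), topologicalKrullDim ↥(f.fiber y) ≤ 1)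
    (L : X.Modules) (hL : PicF.IsInvertible L)
    (hnef : ∀ (K : Type u) [Field K] (i : A →+* K) (J : X.IdealSheafData)
      (t : J.subscheme ⟶ Spec (CommRingCat.of K)),
      AlgebraicGeometry.IsIntegral J.subscheme → topologicalKrullDim ↥J.subscheme = 1 →
      t ≫ Spec.map (CommRingCat.ofHom i) = J.subschemeι ≫ f →
      0 ≤ @Curv2.deg K _ J.subscheme ⟨t⟩ ((Scheme.Modules.pullback J.subschemeι).obj L) 1) :
    Curv2.IsGloballyGenerated L ∧ Subsingleton (Coh.HH X L 1) :=
  ⟨main_gg f h1 hfib L hL hnef, main_H1 f h1 hfib L hL hnef⟩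

end GG

end Snap9
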