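import Mathlib
import Groth.Prelude
import Groth.Agent.Lib.Snap54_helper9
import Groth.Agent.Lib.Kosz2_helper9

/-!
# Surjectivity of multiplication maps on global sections when `H²` vanishes (helper9)

APPEND-ONLY once landed.
-/

set_option autoImplicit false
universe u
open CategoryTheory CategoryTheory.Limits AlgebraicGeometry Opposite TopologicalSpace

namespace Snap9

open Kosz QcqsLoc QCohExtn GenLocH8 TensH8 FLFH8 CohB1 CurveAmple Groth.Agent.KosSh SDivFreeH8
  Groth.Agent.HHVan

section PsiSurj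

variable {X : Scheme.{u}}

/-- finite biproducts of copies of a coherent module are coherent -/
theorem isCoh_biproduct_const [IsLocallyNoetherian X] {J : Type} [Fintype J] (M : X.Modules) (hM : Coh.IsCoh M) :
    Coh.IsCoh (⨁ (fun _ : J => M)) := by
  obtain ⟨n, ⟨ε⟩⟩ := Finite.exists_equiv_fin J
  have h1 : Coh.IsCoh (⨁ fun _ : Fin n => M) :=
    CohDevH8.isCoh_of_iso (biproduct.isoCoproduct _) (Groth.Agent.ProjFin.isCoh_sigma_fin M hM n)
  exact CohDevH8.isCoh_of_iso (biproduct.reindex ε.symm (fun _ : J => M)).symm h1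

/-- surjectivity on global sections from vanishing of `H¹` of the kernel -/
theorem sections_surjective_of_H1 (S : ShortComplex X.Modules) (hS : S.ShortExact)
    (h1 : Subsingleton (Coh.HH X S.X₁ 1)) :
    Function.Surjective (S.g.val.app (op ⊤)).hom := by
  have hs := CurveAmple.hmap_g_surjective S hS 0 h1
  intro y
  obtain ⟨x₂, hx₂⟩ := hs ((Groth.Agent.ProjDual.h0 S.X₃).symm y)
  refine ⟨Groth.Agent.ProjDual.h0 S.X₂ x₂, ?_⟩
  have h := Groth.Agent.ProjDual.h0_nat S.g x₂
  rw [hx₂, AddEquiv.apply_symm_apply] at h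
  exact h

/-- **surjectivity of the multiplication map on global sections** when `H²` vanishes on coherent
modules: for an invertible module `A` generated by the sections `σ`, and `M` coherent with
`H¹(M) = 0`, the map `H⁰(M ⊗ A)^r ⟶ H⁰((M ⊗ A) ⊗ A)` is surjective -/
theorem sections_Psi_surjective_of_H2 [IsLocallyNoetherian X]
    (hH2 : ∀ M : X.Modules, Coh.IsCoh M → Subsingleton (Coh.HH X M 2))
    {A : X.Modules} (hA : PicF.IsInvertible A) {r : ℕ}
    (σ : Fin r → (Coh.structureModule X ⟶ A))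
    (hloc : ∀ (U : X.Opens) (x : X), x ∈ U →
      ∃ (W : X.Opens) (_ : W ≤ U), x ∈ W ∧ Nonempty (LocData A σ W))
    (M : X.Modules) (hMc : Coh.IsCoh M) (hM : Subsingleton (Coh.HH X M 1)) :
    Function.Surjective (ap (Psi A σ (CohB1.tensorMod M A)) ⊤) := by
  have c1 : Coh.IsCoh (CohB1.tensorMod M A) := isCoh_tensorMod hMc hA
  have c2 : Coh.IsCoh (CohB1.tensorMod (CohB1.tensorMod M A) A) := isCoh_tensorMod c1 hA
  have c3 : Coh.IsCoh (Pw r (CohB1.tensorMod M A)) := isCoh_biproduct_const _ c1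
  have c4 : Coh.IsCoh (Pw2 r M) := isCoh_biproduct_const _ hMc
  have hex := exact_kap_Psi hA M hloc
  haveI hepi : Epi (Psi A σ (CohB1.tensorMod M A)) := epi_Psi_of_locData (CohB1.tensorMod M A) hloc
  have c5 : Coh.IsCoh (kernel (Psi A σ (CohB1.tensorMod M A))) := CohKerH8.isCoh_kernel c3 c2 _
  rw [ShortComplex.exact_iff_epi_kernel_lift] at hex
  haveI hex' : Epi (kernel.lift (Psi A σ (CohB1.tensorMod M A)) (kap A σ M) (kap_Psi σ hA M)) := hex
  have hK : Subsingleton (Coh.HH X (kernel (Psi A σ (CohB1.tensorMod M A))) 1) :=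
    HH1_of_epi_of_H2 hH2 c4 c5
      (kernel.lift (Psi A σ (CohB1.tensorMod M A)) (kap A σ M) (kap_Psi σ hA M))
      (Kosz.subsingleton_HH_biproduct _ 1 (fun _ => hM))
  let S : ShortComplex X.Modules := ShortComplex.mk (kernel.ι (Psi A σ (CohB1.tensorMod M A)))
    (Psi A σ (CohB1.tensorMod M A)) (kernel.condition _)
  have hS : S.ShortExact :=
    ShortComplex.ShortExact.mk' (S.exact_of_f_is_kernel (kernelIsKernel _))
      (inferInstanceAs (Mono (kernel.ι (Psi A σ (CohB1.tensorMod M A))))) hepi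
  exact sections_surjective_of_H1 S hS hK

end PsiSurj

end Snap9
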