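import Mathlib
import Groth.Prelude
import Groth.Agent.Lib.Snap55_helper9
import Groth.Agent.Lib.CurveAmple4_helper9
import Groth.Agent.Lib.Tens18_helper8
import Groth.Agent.Lib.ProperFin9_helper9
import Groth.Agent.Lib.ProjDual2_helper9

/-!
# Ample invertible modules over a Noetherian base with `H¹(O) = 0` and fibres of dimension `≤ 1`:
vanishing of `H¹` of all powers, global generation, finite generation of sections (helper9)

APPEND-ONLY once landed.
-/

set_option autoImplicit false
universe u
open CategoryTheory CategoryTheory.Limits AlgebraicGeometry Opposite TopologicalSpace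

namespace Snap9

open QcqsLoc QCohExtn GenLocH8 TensH8 FLFH8 CohB1

section AmplePow

variable {X : Scheme.{u}}

/-- positive tensor powers of an ample module are ample -/
theorem isAmple_tensorPow {L : X.Modules} (hL : CohB1.IsAmple L) (p : ℕ) (hp : 0 < p) :
    CohB1.IsAmple (CohB1.tensorPow L p) := by
  obtain ⟨hLi, hc, h⟩ := hL
  refine ⟨isInvertible_tensorPow hLi p, hc, fun x => ?_⟩
  obtain ⟨n, s, hxs, haff⟩ := h x
  obtain ⟨s', hs'⟩ := Frame.transfer_pow hLi (Frame.pow L (n + 1)) ((Frame.pow L p).powOf (n + 1)) p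
    hp (Nat.mul_comm p (n + 1)) s
  exact ⟨n, s', by rw [hs']; exact hxs, by rw [hs']; exact haff⟩

end AmplePow

section Rel

variable {A : Type u} [CommRing A] [IsNoetherianRing A] {X : Scheme.{u}}
  (f : X ⟶ Spec (CommRingCat.of A)) [IsProper f]

/-- an ample module is nef on the curves in the fibres -/
theorem nef_of_isAmple (L : X.Modules) (hL : CohB1.IsAmple L)
    (K : Type u) [Field K] (i : A →+* K) (J : X.IdealSheafData)
    (t : J.subscheme ⟶ Spec (CommRingCat.of K))
    (hint : AlgebraicGeometry.IsIntegral J.subscheme)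
    (hdim : topologicalKrullDim ↥J.subscheme = 1)
    (hcomp : t ≫ Spec.map (CommRingCat.ofHom i) = J.subschemeι ≫ f) :
    0 ≤ @Curv2.deg K _ J.subscheme ⟨t⟩ ((Scheme.Modules.pullback J.subschemeι).obj L) 1 := by
  letI : J.subscheme.Over (Spec (CommRingCat.of K)) := ⟨t⟩
  haveI : IsProper (J.subscheme ↘ Spec (CommRingCat.of K)) := by
    show IsProper t
    haveI : IsProper (t ≫ Spec.map (CommRingCat.ofHom i)) := by rw [hcomp]; infer_instance
    exact IsProper.of_comp t (Spec.map (CommRingCat.ofHom i))
  haveI : CompactSpace X := QuasiCompact.compactSpace_of_compactSpace f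
  haveI : CompactSpace J.subscheme := QuasiCompact.compactSpace_of_compactSpace J.subschemeι
  have hamp := TensH8.isAmple_pullback_of_isAffineHom J.subschemeι hL
  exact (CurveAmple.deg_pos_of_isAmple K J.subscheme hdim hamp.1 hamp).le

/-- `H¹` of every tensor power of an ample module vanishes -/
theorem HH1_tensorPow_of_isAmple
    (h1 : Subsingleton (Coh.HH X (Coh.structureModule X) 1))
    (hfib : ∀ y : ↥(Spec (CommRingCat.of A)), topologicalKrullDim ↥(f.fiber y) ≤ 1)
    (L : X.Modules) (hL : CohB1.IsAmple L) (n : ℕ) :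
    Subsingleton (Coh.HH X (CohB1.tensorPow L n) 1) := by
  rcases Nat.eq_zero_or_pos n with rfl | hn
  · exact h1
  · have hamp := isAmple_tensorPow hL n hn
    exact (main19496 f h1 hfib _ hamp.1
      (fun K _ i J t hint hdim hcomp => nef_of_isAmple f _ hamp K i J t hint hdim hcomp)).2

/-- an ample module is globally generated -/
theorem gg_of_isAmple
    (h1 : Subsingleton (Coh.HH X (Coh.structureModule X) 1))
    (hfib : ∀ y : ↥(Spec (CommRingCat.of A)), topologicalKrullDim ↥(f.fiber y) ≤ 1)
    (L : X.Modules) (hL : CohB1.IsAmple L) : Curv2.IsGloballyGenerated L :=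
  (main19496 f h1 hfib _ hL.1
    (fun K _ i J t hint hdim hcomp => nef_of_isAmple f _ hL K i J t hint hdim hcomp)).1

/-- the structure map to global functions -/
noncomputable abbrev cf : A →+* Γ(X, ⊤) := Coh.toGlobal f

/-- the global sections of a coherent module are finitely generated over the base ring -/
theorem exists_generators (L : X.Modules) (hLc : Coh.IsCoh L) :
    ∃ (r : ℕ) (τ : Fin r → Γ(L, ⊤)), ∀ y : Γ(L, ⊤), ∃ a : Fin r → A,
      y = ∑ j, (cf f (a j)) • τ j := by
  letI : X.Over (Spec (CommRingCat.of A)) := ⟨f⟩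
  haveI : IsProper (X ↘ Spec (CommRingCat.of A)) := ‹IsProper f›
  haveI := ProperFinH9.finite_HH_of_proper A X L hLc 0
  obtain ⟨r, s, hs⟩ := Module.Finite.exists_fin (R := A) (M := Coh.HH X L 0)
  refine ⟨r, fun j => Groth.Agent.ProjDual.h0 L (s j), fun y => ?_⟩
  have hy : (Groth.Agent.ProjDual.h0 L).symm y ∈ Submodule.span A (Set.range s) := by
    rw [hs]; trivial
  obtain ⟨c, hc⟩ := (Submodule.mem_span_range_iff_exists_fun A).mp hy
  refine ⟨c, ?_⟩
  have h2 : y = Groth.Agent.ProjDual.h0 L (∑ j, c j • s j) := by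
    rw [hc, AddEquiv.apply_symm_apply]
  rw [h2, map_sum]
  apply Finset.sum_congr rfl
  intro j _
  exact Groth.Agent.ProjDual.h0_smul L (c j) (s j)

end Rel

end Snap9
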