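import Mathlib
import Groth.Prelude
import Groth.Agent.Lib.Snap56_helper9
import Groth.Agent.Lib.Snap50_helper9
import Groth.Agent.Lib.GG3_helper8
import Groth.Agent.Lib.Tens23_helper8

/-!
# Ample invertible modules over a Noetherian base with `H¹(O) = 0` and fibres of dimension `≤ 1`:
the loci `X_t` of sections are affine (helper9)

APPEND-ONLY once landed.
-/

set_option autoImplicit false
universe u
open CategoryTheory CategoryTheory.Limits AlgebraicGeometry Opposite TopologicalSpace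

namespace Snap9

open Kosz QcqsLoc QCohExtn GenLocH8 TensH8 FLFH8 CohB1

section Cover

variable {X : Scheme.{u}}

/-- local data for the Koszul relations from a family of sections whose loci cover -/
theorem exists_locData_of_cover {A : X.Modules} {r : ℕ}
    (σ : Fin r → (Coh.structureModule X ⟶ A))
    (hcov : ∀ x : X, ∃ j, x ∈ CohB1.genLocus A (σ j)) :
    ∀ (U : X.Opens) (x : X), x ∈ U →
      ∃ (W : X.Opens) (_ : W ≤ U), x ∈ W ∧ Nonempty (LocData A σ W) := by
  classical
  intro U x hx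
  obtain ⟨j, hj⟩ := hcov x
  obtain ⟨W, hW⟩ : ∃ W : X.Opens, W = U ⊓ CohB1.genLocus A (σ j) := ⟨_, rfl⟩
  have hWU : W ≤ U := hW ▸ inf_le_left
  have hWj : W ≤ CohB1.genLocus A (σ j) := hW ▸ inf_le_right
  have he : IsGen A W (SecTwist.val (σ j) W) := isGen_val_of_le_genLocus (σ j) hWj
  have hc : ∀ i, ∃ c : Γ(X, W), SecTwist.val (σ i) W = c • SecTwist.val (σ j) W :=
    fun i => he.exists_coef _
  choose c hc using hc
  have hcj : c j = 1 := IsGen.coef_ext he ((hc j).symm.trans (one_smul _ _).symm)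
  refine ⟨W, hWU, hW ▸ ⟨hx, hj⟩, ⟨⟨SecTwist.val (σ j) W, he, c,
    fun l => if l = j then 1 else 0, fun i => hc i, ?_⟩⟩⟩
  rw [Finset.sum_eq_single j]
  · simp [hcj]
  · intro l _ hl
    simp [hl]
  · intro h
    exact absurd (Finset.mem_univ j) h

/-- an ample module has a finite cover by affine loci of sections of one positive power -/
theorem exists_uniform_affine_cover {L : X.Modules} (hL : CohB1.IsAmple L) :
    ∃ (m : ℕ) (_ : 0 < m) (r : ℕ) (σ : Fin r → (Coh.structureModule X ⟶ CohB1.tensorPow L m)),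
      (∀ j, IsAffineOpen (CohB1.genLocus _ (σ j))) ∧ ∀ x : X, ∃ j, x ∈ CohB1.genLocus _ (σ j) := by
  classical
  obtain ⟨hLi, hc, h⟩ := hL
  haveI := hc
  choose k s hxs haff using h
  obtain ⟨T, hT⟩ := isCompact_univ.elim_finite_subcover
    (fun y : X => (CohB1.genLocus _ (s y) : Set X)) (fun y => (CohB1.genLocus _ (s y)).isOpen)
    (fun x _ => Set.mem_iUnion.mpr ⟨x, hxs x⟩)
  obtain ⟨m, hm_def⟩ : ∃ m : ℕ, m = ∏ y ∈ T, (k y + 1) := ⟨_, rfl⟩
  have hm : 0 < m := by
    rw [hm_def]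
    exact Finset.prod_pos (fun y _ => Nat.succ_pos _)
  have hdvd : ∀ y ∈ T, (k y + 1) ∣ m := fun y hy => by
    rw [hm_def]
    exact Finset.dvd_prod_of_mem _ hy
  have hs' : ∀ y ∈ T, ∃ s' : Coh.structureModule X ⟶ CohB1.tensorPow L m,
      CohB1.genLocus _ s' = CohB1.genLocus _ (s y) := by
    intro y hy
    obtain ⟨q, hq⟩ := hdvd y hy
    have hq0 : 0 < q := by
      rcases Nat.eq_zero_or_pos q with h | h
      · rw [h, mul_zero] at hq
        omega
      · exact h
    exact Frame.transfer_pow hLi (Frame.pow L (k y + 1)) (Frame.pow L m) q hq0 hq (s y)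
  choose! s' hs' using hs'
  let e := T.equivFin
  refine ⟨m, hm, T.card, fun j => s' (e.symm j).1, fun j => ?_, fun x => ?_⟩
  · rw [hs' _ (e.symm j).2]
    exact haff _
  · obtain ⟨y, hyT, hxy⟩ := Set.mem_iUnion₂.mp (hT (Set.mem_univ x))
    refine ⟨e ⟨y, hyT⟩, ?_⟩
    show x ∈ CohB1.genLocus _ (s' (e.symm (e ⟨y, hyT⟩)).1)
    rw [Equiv.symm_apply_apply, hs' y hyT]
    exact hxy

end Cover

section Aff

variable {A : Type u} [CommRing A] [IsNoetherianRing A] {X : Scheme.{u}}
  (f : X ⟶ Spec (CommRingCat.of A)) [IsProper f]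

include f in
/-- vanishing of `H²` on coherent modules -/
theorem subsingleton_HH2_of_fibre_dim
    (hfib : ∀ y : ↥(Spec (CommRingCat.of A)), topologicalKrullDim ↥(f.fiber y) ≤ 1)
    (M : X.Modules) (hM : Coh.IsCoh M) : Subsingleton (Coh.HH X M 2) :=
  subsingleton_HH_of_fibre_dim f 1 hfib M hM 2 (by norm_num)

include f in
/-- **the loci of sections of an ample module are affine** -/
theorem isAffineOpen_genLocus_of_isAmple
    (h1 : Subsingleton (Coh.HH X (Coh.structureModule X) 1))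
    (hfib : ∀ y : ↥(Spec (CommRingCat.of A)), topologicalKrullDim ↥(f.fiber y) ≤ 1)
    (L : X.Modules) (hL : CohB1.IsAmple L) (t : Coh.structureModule X ⟶ L) :
    IsAffineOpen (CohB1.genLocus L t) := by
  haveI : IsLocallyNoetherian X := LocallyOfFiniteType.isLocallyNoetherian f
  have hLi := hL.1
  obtain ⟨m, hm, r, σ, haff, hcov⟩ := exists_uniform_affine_cover hL
  have hA' := isInvertible_tensorPow hLi m
  have hloc := exists_locData_of_cover σ hcov
  have hsurj := sections_Psi_surjective_of_H2 (subsingleton_HH2_of_fibre_dim f hfib) hA' σ hloc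
    (Coh.structureModule X) (CohDevH8.isCoh_structureModule X) h1
  obtain ⟨U, hU⟩ : ∃ U : X.Opens, U = CohB1.genLocus L t := ⟨_, rfl⟩
  rw [← hU]
  have he : IsGen L U (SecTwist.val t U) := isGen_val_of_le_genLocus t hU.le
  obtain ⟨τ, hτdef⟩ : ∃ τ : Γ(CohB1.tensorPow L m, U),
      τ = (Frame.pow L m).φ U (SecTwist.val t U) := ⟨_, rfl⟩
  have hτ : IsGen (CohB1.tensorPow L m) U τ := hτdef ▸ (Frame.pow L m).isGen he
  have hc : ∀ j, ∃ c : Γ(X, U), SecTwist.val (σ j) U = c • τ := fun j => hτ.exists_coef _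
  choose c hc using hc
  have hbo : ∀ j, X.basicOpen (c j) = CohB1.genLocus _ (σ j) ⊓ U := fun j =>
    (genLocus_inf_eq (σ j) hτ (c j) (hc j)).symm
  -- the target section
  obtain ⟨ε, hεdef⟩ : ∃ ε : Γ(CohB1.tensorMod (Coh.structureModule X) (CohB1.tensorPow L m), U),
      ε = SecTwist.tmul _ _ U (toM (1 : Γ(X, U))) τ := ⟨_, rfl⟩
  have hε : IsGen _ U ε := hεdef ▸ isGen_tmul (isGen_one U) hτ
  have hετ : IsGen (CohB1.tensorMod (CohB1.tensorMod (Coh.structureModule X)
      (CohB1.tensorPow L m)) (CohB1.tensorPow L m)) U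
      (SecTwist.tmul _ (CohB1.tensorPow L m) U ε τ) := isGen_tmul hε hτ
  let z0 : Coh.structureModule X ⟶ CohB1.tensorMod (Coh.structureModule X) (CohB1.tensorPow L m) :=
    SecTwist.tmulHom (𝟙 _) (SecTwist.powHom t m)
  let z : Coh.structureModule X ⟶ CohB1.tensorMod
      (CohB1.tensorMod (Coh.structureModule X) (CohB1.tensorPow L m)) (CohB1.tensorPow L m) :=
    SecTwist.tmulHom z0 (SecTwist.powHom t m)
  have hpw : SecTwist.val (SecTwist.powHom t m) U = τ := by
    rw [SecTwist.val_powHom, ← CycCov.lpow_val, hτdef]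
    rfl
  have hzU : SecTwist.val z U = SecTwist.tmul _ (CohB1.tensorPow L m) U ε τ := by
    rw [SecTwist.val_tmulHom, SecTwist.val_tmulHom, hpw, hεdef]
    rfl
  obtain ⟨w, hw⟩ := hsurj (SecTwist.val z ⊤)
  rw [Kosz.ap_Psi] at hw
  have hg : ∀ j, ∃ g : Γ(X, U), rF _ (le_top : U ≤ ⊤)
      (ap (biproduct.π (fun _ : Fin r => CohB1.tensorMod (Coh.structureModule X)
        (CohB1.tensorPow L m)) j) ⊤ w) = g • ε := fun j => hε.exists_coef _
  choose g hg using hg
  have hres : rF (CohB1.tensorMod (CohB1.tensorMod (Coh.structureModule X)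
      (CohB1.tensorPow L m)) (CohB1.tensorPow L m)) (le_top : U ≤ ⊤) (SecTwist.val z ⊤) =
      (∑ j, g j * c j) • SecTwist.tmul _ (CohB1.tensorPow L m) U ε τ := by
    rw [← hw]
    have hsum := map_sum (rF (CohB1.tensorMod (CohB1.tensorMod (Coh.structureModule X)
      (CohB1.tensorPow L m)) (CohB1.tensorPow L m)) (le_top : U ≤ ⊤))
      (fun j => SecTwist.tmul (CohB1.tensorMod (Coh.structureModule X) (CohB1.tensorPow L m))
        (CohB1.tensorPow L m) ⊤
        (ap (biproduct.π (fun _ : Fin r => CohB1.tensorMod (Coh.structureModule X)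
          (CohB1.tensorPow L m)) j) ⊤ w) (ap (σ j) ⊤ (toM (1 : Γ(X, ⊤))))) Finset.univ
    refine hsum.trans ?_
    rw [Finset.sum_smul]
    apply Finset.sum_congr rfl
    intro j _
    have h2 : rF (CohB1.tensorPow L m) (le_top : U ≤ ⊤)
        (ap (σ j) ⊤ (toM (1 : Γ(X, ⊤)))) = c j • τ := by
      rw [← hc j]
      exact rF_val (σ j) (le_top : U ≤ ⊤)
    refine (rF_tmul _ _ (le_top : U ≤ ⊤) _ _).trans ?_
    rw [hg j, h2, tmul_smul_left, tmul_smul_right, smul_smul]
    rfl
  have key : (∑ j, g j * c j) • SecTwist.tmul _ (CohB1.tensorPow L m) U ε τ =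
      (1 : Γ(X, U)) • SecTwist.tmul _ (CohB1.tensorPow L m) U ε τ := by
    rw [one_smul, ← hres, rF_val z (le_top : U ≤ ⊤), hzU]
  have hone : ∑ j, g j * c j = 1 := IsGen.coef_ext hετ key
  apply isAffineOpen_of_isAffineOpen_basicOpen U (Set.range c)
  · rw [Ideal.eq_top_iff_one, ← hone]
    exact Ideal.sum_mem _ (fun j _ => Ideal.mul_mem_left _ _ (Ideal.subset_span ⟨j, rfl⟩))
  · rintro _ ⟨j, rfl⟩
    rw [hbo j, inf_comm, hU]
    exact GGH8.isAffineOpen_inf_genLocus hLi t (haff j)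

end Aff

end Snap9
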