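import Mathlib
import Groth.Prelude
import Groth.Agent.Lib.Snap57_helper9
import Groth.Agent.Lib.Tens28_helper8
import Groth.Agent.Lib.Tens32_helper8
import Groth.Agent.Lib.RLS4_helper5

/-!
# Ample invertible modules over a Noetherian base with `H¹(O) = 0` and fibres of dimension `≤ 1`:
the ratios of a generating family of sections generate the functions on the loci `X_t` (helper9)

APPEND-ONLY once landed.
-/

set_option autoImplicit false
universe u
open CategoryTheory CategoryTheory.Limits AlgebraicGeometry Opposite TopologicalSpace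

namespace Snap9

open Kosz QcqsLoc QCohExtn GenLocH8 TensH8 FLFH8 CohB1 SerreCrit

section Ratio

variable {A : Type u} [CommRing A] [IsNoetherianRing A] {X : Scheme.{u}}
  (f : X ⟶ Spec (CommRingCat.of A)) [IsProper f]

/-- a generating family of global sections generates at every point where some section does -/
theorem cover_of_generators {L : X.Modules} (hLi : PicF.IsInvertible L)
    (hgg : Curv2.IsGloballyGenerated L) {r : ℕ} (τ : Fin r → Γ(L, ⊤))
    (hτ : ∀ y : Γ(L, ⊤), ∃ a : Fin r → A, y = ∑ j, (cf f (a j)) • τ j) (x : X) :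
    ∃ j, x ∈ CohB1.genLocus L (homOfSec L (τ j)) := by
  obtain ⟨s, hxs⟩ := GGH8.exists_hom_mem_genLocus hLi hgg x
  obtain ⟨W, -, hxW, e, he⟩ := exists_isGen hLi x
  obtain ⟨a, ha⟩ := hτ (SecTwist.val s ⊤)
  have hc : ∀ j, ∃ c : Γ(X, W), SecTwist.val (homOfSec L (τ j)) W = c • e :=
    fun j => he.exists_coef _
  choose c hc using hc
  have hs : SecTwist.val s W = (∑ j, rX (le_top : W ≤ ⊤) (cf f (a j)) * c j) • e := by
    rw [← rF_val s (le_top : W ≤ ⊤), ha]
    have hsum := map_sum (rF L (le_top : W ≤ ⊤)) (fun j => (cf f (a j)) • τ j) Finset.univ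
    refine hsum.trans ?_
    rw [Finset.sum_smul]
    apply Finset.sum_congr rfl
    intro j _
    rw [rF_smul, mul_smul, ← hc j, val_homOfSec]
  have h1 := genLocus_inf_eq s he _ hs
  have hx1 : x ∈ CohB1.genLocus L s ⊓ W := ⟨hxs, hxW⟩
  rw [h1] at hx1
  obtain ⟨j, -, hj⟩ := exists_mem_basicOpen_of_sum Finset.univ _ x hx1
  rw [Scheme.basicOpen_mul] at hj
  have h2 := genLocus_inf_eq (homOfSec L (τ j)) he _ (hc j)
  have hx2 : x ∈ CohB1.genLocus L (homOfSec L (τ j)) ⊓ W := by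
    rw [h2]
    exact hj.2
  exact ⟨j, hx2.1⟩

variable (h1 : Subsingleton (Coh.HH X (Coh.structureModule X) 1))
  (hfib : ∀ y : ↥(Spec (CommRingCat.of A)), topologicalKrullDim ↥(f.fiber y) ≤ 1)
  (L : X.Modules) (hL : CohB1.IsAmple L) {r : ℕ} (τ : Fin r → Γ(L, ⊤))
  (hτ : ∀ y : Γ(L, ⊤), ∃ a : Fin r → A, y = ∑ j, (cf f (a j)) • τ j)
  (hcov : ∀ x : X, ∃ j, x ∈ CohB1.genLocus L (homOfSec L (τ j)))
  (t : Coh.structureModule X ⟶ L) (U : X.Opens) (hU : U ≤ CohB1.genLocus L t)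
  (R' : Subring Γ(X, U))
  (hR1 : ∀ a : A, rX (le_top : U ≤ ⊤) (cf f a) ∈ R')
  (hR2 : ∀ j, ∃ ρ ∈ R', rF L (le_top : U ≤ ⊤) (τ j) = ρ • SecTwist.val t U)

include hτ hR1 hR2 in
/-- the coefficient of a global section of `L` lies in the subring -/
theorem coef_mem_one (y : Γ(L, ⊤)) :
    ∃ κ ∈ R', rF L (le_top : U ≤ ⊤) y = κ • SecTwist.val t U := by
  obtain ⟨a, ha⟩ := hτ y
  choose ρ hρ hρe using hR2
  refine ⟨∑ j, rX (le_top : U ≤ ⊤) (cf f (a j)) * ρ j,
    Subring.sum_mem _ (fun j _ => Subring.mul_mem _ (hR1 (a j)) (hρ j)), ?_⟩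
  rw [ha]
  have hsum := map_sum (rF L (le_top : U ≤ ⊤)) (fun j => (cf f (a j)) • τ j) Finset.univ
  refine hsum.trans ?_
  rw [Finset.sum_smul]
  apply Finset.sum_congr rfl
  intro j _
  rw [rF_smul, mul_smul, ← hρe j]
  rfl

include f h1 hfib hL hτ hcov hU hR1 hR2 in
/-- **the coefficients of all global sections of all powers lie in the subring** -/
theorem coef_mem (n : ℕ) : ∀ y : Γ(CohB1.tensorPow L n, ⊤),
    ∃ κ ∈ R', rF (CohB1.tensorPow L n) (le_top : U ≤ ⊤) y =
      κ • CycCov.lpow L U (SecTwist.val t U) n := by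
  haveI : IsLocallyNoetherian X := LocallyOfFiniteType.isLocallyNoetherian f
  have hLi := hL.1
  have he : IsGen L U (SecTwist.val t U) := isGen_val_of_le_genLocus t hU
  induction n using Nat.twoStepInduction with
  | zero =>
    intro (y : Γ(OO X, ⊤))
    obtain ⟨κ, hκ, hκe⟩ := coef_mem_one f L τ hτ t U R' hR1 hR2
      ((toFn y) • SecTwist.val t ⊤)
    have e1 : rF L (le_top : U ≤ ⊤) (toFn y • SecTwist.val t ⊤) =
        rX (le_top : U ≤ ⊤) (toFn y) • rF L (le_top : U ≤ ⊤) (SecTwist.val t ⊤) :=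
      rF_smul L _ _ _
    have e2 : rF L (le_top : U ≤ ⊤) (SecTwist.val t ⊤) = SecTwist.val t U := rF_val t _
    have hκe' : rX (le_top : U ≤ ⊤) (toFn y) • SecTwist.val t U = κ • SecTwist.val t U :=
      (congrArg (fun q => rX (le_top : U ≤ ⊤) (toFn y) • q) e2).symm.trans (e1.symm.trans hκe)
    have h3 : rX (le_top : U ≤ ⊤) (toFn y) = κ := IsGen.coef_ext he hκe'
    refine ⟨κ, hκ, ?_⟩
    show rF (OO X) (le_top : U ≤ ⊤) y = κ • (toM (1 : Γ(X, U)))
    have h4 : κ • (toM (1 : Γ(X, U))) = ofFn (κ * 1) := rfl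
    rw [h4, mul_one, ← h3]
    rfl
  | one =>
    intro y
    obtain ⟨y', hy'⟩ := (Frame.self L).exists_section hLi ⊤
      (fun W hW e' he' => (Frame.pow L 1).coefOf y W hW e' he')
      (fun W hW e' he' W' h => (Frame.pow L 1).coefOf_res y W hW e' he' h)
      (fun W hW e' he' u he'' => (Frame.pow L 1).coefOf_change y W hW e' he' u he'')
    obtain ⟨κ, hκ, hκe⟩ := coef_mem_one f L τ hτ t U R' hR1 hR2 y'
    have h2 : rF L (le_top : U ≤ ⊤) y' =
        (Frame.pow L 1).coefOf y U le_top (SecTwist.val t U) he • SecTwist.val t U :=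
      hy' U le_top (SecTwist.val t U) he
    have h3 : κ = (Frame.pow L 1).coefOf y U le_top (SecTwist.val t U) he :=
      IsGen.coef_ext he (hκe.symm.trans h2)
    refine ⟨κ, hκ, ?_⟩
    rw [h3]
    exact (Frame.pow L 1).coefOf_spec y U le_top (SecTwist.val t U) he
  | more n _ ih =>
    intro y
    have hloc := exists_locData_of_cover (fun j => homOfSec L (τ j)) hcov
    have hsurj := sections_Psi_surjective_of_H2 (subsingleton_HH2_of_fibre_dim f hfib) hLi
      (fun j => homOfSec L (τ j)) hloc (CohB1.tensorPow L n)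
      (ProperFinH9.isCoh_of_isInvertible (isInvertible_tensorPow hLi n))
      (HH1_tensorPow_of_isAmple f h1 hfib L hL n)
    obtain ⟨w, hw⟩ := hsurj y
    rw [Kosz.ap_Psi] at hw
    choose ρ hρ hρe using hR2
    have hκ : ∀ j, ∃ κ ∈ R', rF (CohB1.tensorPow L (n + 1)) (le_top : U ≤ ⊤)
        (ap (biproduct.π (fun _ : Fin r => CohB1.tensorMod (CohB1.tensorPow L n) L) j) ⊤ w) =
        κ • CycCov.lpow L U (SecTwist.val t U) (n + 1) := fun j => ih _
    choose κ hκ hκe using hκ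
    refine ⟨∑ j, κ j * ρ j, Subring.sum_mem _ (fun j _ => Subring.mul_mem _ (hκ j) (hρ j)), ?_⟩
    rw [← hw]
    have hsum := map_sum (rF (CohB1.tensorMod (CohB1.tensorMod (CohB1.tensorPow L n) L) L)
      (le_top : U ≤ ⊤))
      (fun j => SecTwist.tmul (CohB1.tensorMod (CohB1.tensorPow L n) L) L ⊤
        (ap (biproduct.π (fun _ : Fin r => CohB1.tensorMod (CohB1.tensorPow L n) L) j) ⊤ w)
        (ap (homOfSec L (τ j)) ⊤ (toM (1 : Γ(X, ⊤))))) Finset.univ
    refine hsum.trans ?_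
    rw [Finset.sum_smul]
    apply Finset.sum_congr rfl
    intro j _
    have h2 : rF L (le_top : U ≤ ⊤) (ap (homOfSec L (τ j)) ⊤ (toM (1 : Γ(X, ⊤)))) =
        ρ j • SecTwist.val t U := by
      rw [← hρe j]
      have h3 : ap (homOfSec L (τ j)) ⊤ (toM (1 : Γ(X, ⊤))) = rF L (le_top : (⊤ : X.Opens) ≤ ⊤) (τ j) :=
        val_homOfSec L (τ j) ⊤
      rw [h3, rF_rF]
    refine (rF_tmul _ _ (le_top : U ≤ ⊤) _ _).trans ?_
    have h5 := hκe j
    rw [h2]
    refine (congrArg (fun q => SecTwist.tmul (CohB1.tensorMod (CohB1.tensorPow L n) L) L U q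
      (ρ j • SecTwist.val t U)) h5).trans ?_
    refine (tmul_smul_left _ L U (κ j) _ _).trans ?_
    refine (congrArg (fun q => κ j • q) (tmul_smul_right _ L U (ρ j) _ _)).trans ?_
    exact smul_smul (κ j) (ρ j) _

end Ratio

end Snap9
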