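import Mathlib
import Groth.Prelude
import Groth.Agent.Lib.VAmpPn2_helper5

/-!
# Very ample (projective-space form) from sections, over an affine base `Spec A`:
the immersion into `Proj A[T_0..T_N]` (helper5)
APPEND-ONLY once landed.
-/

set_option autoImplicit false
universe u
open CategoryTheory CategoryTheory.Limits AlgebraicGeometry TopologicalSpace Opposite
open HomogeneousLocalization QcqsLoc GenLocH8 TensH8 FLFH8 QCohExtn PBH8

namespace Groth.Agent.VAmpPn

open Groth.Agent.ProjUPU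

section SurjA
variable {A : Type u} [CommRing A] {X : Scheme.{u}} (q : X ⟶ Spec (CommRingCat.of A))
  {M : X.Modules} {N : ℕ}
  (r : X ⟶ Proj (CohB1.polyGrading N A))
  (τ : (Scheme.Modules.pullback r).obj (Twist.twist (CohB1.polyGrading N A) 1) ≅ M)
  (σ : Fin (N + 1) → (Coh.structureModule X ⟶ M))
  (hτ : ∀ i, τ.hom.app ⊤ (ProjUP.pullSec r (Twist.twist (CohB1.polyGrading N A) 1)
    (sig (CohB1.polyGrading N A) (hX N i))) = SecTwist.val (σ i) ⊤)
  (hr : r ≫ CohB1.ProjSpace.toSpec N A = q)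

include hτ hr in
theorem surjective_appLE_affine (t₀ : Coh.structureModule X ⟶ M) (j : Fin (N + 1)) (hj : σ j = t₀)
    (h : CohB1.genLocus M t₀ ≤ q ⁻¹ᵁ ⊤) (C : Set Γ(X, CohB1.genLocus M t₀))
    (hC : ∀ c ∈ C, ∃ i', SecTwist.val (σ i') (CohB1.genLocus M t₀) =
      c • SecTwist.val t₀ (CohB1.genLocus M t₀))
    (hcl : ∀ b : Γ(X, CohB1.genLocus M t₀),
      b ∈ Subring.closure (Set.range (q.appLE ⊤ (CohB1.genLocus M t₀) h).hom ∪ C))
    (hUW : CohB1.genLocus M t₀ ≤ r ⁻¹ᵁ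
      Proj.basicOpen (CohB1.polyGrading N A) (MvPolynomial.X j)) :
    Function.Surjective (r.appLE (Proj.basicOpen (CohB1.polyGrading N A) (MvPolynomial.X j))
      (CohB1.genLocus M t₀) hUW).hom := by
  subst hj
  intro b
  have key : Subring.closure (Set.range (q.appLE ⊤ (CohB1.genLocus M (σ j)) h).hom ∪ C) ≤
      (r.appLE (Proj.basicOpen (CohB1.polyGrading N A) (MvPolynomial.X j))
      (CohB1.genLocus M (σ j)) hUW).hom.range := by
    rw [Subring.closure_le]
    rintro c (⟨a, rfl⟩ | hc)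
    · have hW2 : Proj.basicOpen (CohB1.polyGrading N A) (MvPolynomial.X j) ≤
          (CohB1.ProjSpace.toSpec N A) ⁻¹ᵁ ⊤ := le_top
      refine RingHom.mem_range.mpr ⟨((CohB1.ProjSpace.toSpec N A).appLE ⊤ _ hW2).hom a, ?_⟩
      have h1 := Scheme.Hom.appLE_comp_appLE r (CohB1.ProjSpace.toSpec N A) ⊤ _ _ hW2 hUW
      have h2 := appLE_of_eq hr ⊤ (CohB1.genLocus M (σ j))
        (hUW.trans ((Opens.map r.base).map (homOfLE hW2)).le) h
      exact congrArg (fun ψ => ψ.hom a) (h1.trans h2)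
    · obtain ⟨i', hi'⟩ := hC c hc
      have e1 := val_eq_smul r τ σ hτ i' j hUW
      have hc' := IsGen.coef_ext (isGen_val_of_le_genLocus (σ j) le_rfl) (hi'.symm.trans e1)
      refine RingHom.mem_range.mpr ⟨rat (CohB1.polyGrading N A) (hX N j) (hX N i'), ?_⟩
      rw [hc']
  exact RingHom.mem_range.mp (key (hcl b))

end SurjA

section MainA

/-- **Immersion into projective space over a ring from sections.** -/
theorem exists_immersion_of_sections {A : Type u} [CommRing A] {X : Scheme.{u}}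
    (q : X ⟶ Spec (CommRingCat.of A)) (M : X.Modules)
    (hM : PicF.IsInvertible M) (F : Finset (Coh.structureModule X ⟶ M))
    (hcov : ∀ x : X, ∃ t ∈ F, ∃ U : X.Opens, CohB1.genLocus M t = U ∧ x ∈ U ∧ IsAffineOpen U ∧
      ∃ h : U ≤ q ⁻¹ᵁ ⊤, ∀ b : Γ(X, U),
        b ∈ Subring.closure (Set.range (q.appLE ⊤ U h).hom ∪
          {c | ∃ t' ∈ F, SecTwist.val t' U = c • SecTwist.val t U})) :
    ∃ (N : ℕ) (r : X ⟶ Proj (CohB1.polyGrading N A)), IsImmersion r ∧
      r ≫ CohB1.ProjSpace.toSpec N A = q ∧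
      Nonempty ((Scheme.Modules.pullback r).obj (Twist.twist (CohB1.polyGrading N A) 1) ≅ M) := by
  classical
  have hcov' : ∀ x : X, ∃ t ∈ F, x ∈ CohB1.genLocus M t ∧ IsAffineOpen (CohB1.genLocus M t) ∧
      ∃ h : CohB1.genLocus M t ≤ q ⁻¹ᵁ ⊤,
        ∀ b : Γ(X, CohB1.genLocus M t),
        b ∈ Subring.closure (Set.range (q.appLE ⊤ (CohB1.genLocus M t) h).hom ∪
          {c | ∃ t' ∈ F, SecTwist.val t' (CohB1.genLocus M t) =
            c • SecTwist.val t (CohB1.genLocus M t)}) := by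
    intro x
    obtain ⟨t, ht, U, rfl, hx, haff, h, hcl⟩ := hcov x
    exact ⟨t, ht, hx, haff, h, hcl⟩
  choose t ht hxt haff hle hcl using hcov'
  -- the index set
  let J := {t' // t' ∈ insert (0 : Coh.structureModule X ⟶ M) F}
  haveI : Nonempty J := ⟨⟨0, Finset.mem_insert_self 0 F⟩⟩
  obtain ⟨N, hN⟩ : ∃ N, Fintype.card J = N + 1 :=
    Nat.exists_eq_succ_of_ne_zero Fintype.card_ne_zero
  let e : J ≃ Fin (N + 1) := Fintype.equivFinOfCardEq hN
  let σ : Fin (N + 1) → (Coh.structureModule X ⟶ M) := fun k => (e.symm k).1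
  have hσ : ∀ t' ∈ F, ∃ k, σ k = t' := fun t' ht' =>
    ⟨e ⟨t', Finset.mem_insert_of_mem ht'⟩, by simp [σ]⟩
  choose! jj hjj using hσ
  have hgen : ProjUP.GeneratedBy M (fun k => (SecTwist.val (σ k) ⊤ : ProjUP.Γm M)) := by
    apply generatedBy_of_cover σ
    intro x
    exact ⟨jj (t x), by rw [hjj _ (ht x)]; exact hxt x⟩
  obtain ⟨r, hr, τ, hτ'⟩ : ∃ (r : X ⟶ Proj (CohB1.polyGrading N A))
      (_ : r ≫ CohB1.ProjSpace.toSpec N A = q)
      (τ : (Scheme.Modules.pullback r).obj (Twist.twist (CohB1.polyGrading N A) 1) ≅ M),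
      ∀ k, τ.hom.app ⊤ (ProjUP.pullSec r (Twist.twist (CohB1.polyGrading N A) 1)
        (sig (CohB1.polyGrading N A) (hX N k))) = SecTwist.val (σ k) ⊤ :=
    Groth.Agent.S3572.result (R := A) N q M hM
      (fun k => (SecTwist.val (σ k) ⊤ : ProjUP.Γm M)) hgen
  refine ⟨N, r, ?_, hr, ⟨τ⟩⟩
  let W : X → (Proj (CohB1.polyGrading N A)).Opens := fun x =>
    Proj.basicOpen (CohB1.polyGrading N A) (MvPolynomial.X (jj (t x)))
  have hpre : ∀ x, r ⁻¹ᵁ W x = CohB1.genLocus M (t x) := by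
    intro x
    have h1 := genLocus_eq r τ σ hτ' (jj (t x))
    rw [hjj _ (ht x)] at h1
    exact h1.symm
  haveI := respectsRight_isImmersion.{u}
  apply IsZariskiLocalAtTarget.of_range_subset_iSup (P := @IsImmersion) W
  · rintro _ ⟨x, rfl⟩
    refine Opens.mem_iSup.mpr ⟨x, ?_⟩
    have : x ∈ r ⁻¹ᵁ W x := by
      rw [hpre x]
      exact hxt x
    exact this
  · intro x
    have hWaff : IsAffineOpen (W x) :=
      Proj.isAffineOpen_basicOpen (CohB1.polyGrading N A) _ (hX N (jj (t x))) one_pos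
    haveI : IsAffine (W x).toScheme := hWaff
    haveI : IsAffine (r ⁻¹ᵁ W x).toScheme := by
      rw [hpre x]
      exact haff x
    have hUW : CohB1.genLocus M (t x) ≤ r ⁻¹ᵁ W x := (hpre x).ge
    have hsurj := surjective_appLE_affine q r τ σ hτ' hr (t x) (jj (t x)) (hjj _ (ht x))
      (hle x) _ (fun c hc => by
        obtain ⟨t', ht', h⟩ := hc
        exact ⟨jj t', by rw [hjj _ ht']; exact h⟩) (hcl x) hUW
    haveI : IsClosedImmersion (r ∣_ W x) := by
      apply IsClosedImmersion.of_surjective_of_isAffine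
      have h0 : (r ∣_ W x).appTop = r.appLE ((W x).ι ''ᵁ ⊤)
          ((r ⁻¹ᵁ W x).ι ''ᵁ ((r ∣_ W x) ⁻¹ᵁ ⊤))
          (image_morphismRestrict_preimage r (W x) ⊤).le := morphismRestrict_app' r (W x) ⊤
      show Function.Surjective ((r ∣_ W x).appTop).hom
      rw [h0]
      refine (Scheme.Hom.appLE_congr r _ (Scheme.Opens.ι_image_top (W x)) ?_
        (fun φ => Function.Surjective φ.hom)).mpr hsurj
      rw [Scheme.Hom.preimage_top, Scheme.Opens.ι_image_top, hpre x]
    infer_instance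

end MainA

end Groth.Agent.VAmpPn
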