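import Mathlib
import Groth.Prelude
import Groth.Agent.Lib.Snap58_helper9
import Groth.Agent.Lib.Tens13_helper8
import Groth.Agent.Lib.VAmpPn12_helper5

/-!
# Ample implies very ample over a Noetherian base when `H¹(O) = 0` and the fibres have dimension
`≤ 1` (helper9)

APPEND-ONLY once landed.
-/

set_option autoImplicit false
universe u
open CategoryTheory CategoryTheory.Limits AlgebraicGeometry Opposite TopologicalSpace

namespace Snap9

open Kosz QcqsLoc QCohExtn GenLocH8 TensH8 FLFH8 CohB1 SerreCrit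

section Ext

variable {X : Scheme.{u}}

/-- a function on `X_t` times a power of `t` extends to a global section of a power of `L` -/
theorem exists_global_of_local [CompactSpace X] [QuasiSeparatedSpace X] {L : X.Modules}
    (hLi : PicF.IsInvertible L) (t : Coh.structureModule X ⟶ L) (U : X.Opens)
    (hU : U = CohB1.genLocus L t) (b : Γ(X, U)) :
    ∃ (N : ℕ) (y : Γ(CohB1.tensorPow L N, ⊤)),
      rF (CohB1.tensorPow L N) (le_top : U ≤ ⊤) y = b • CycCov.lpow L U (SecTwist.val t U) N := by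
  haveI := isQuasicoherent_structureModule (X := X)
  have he : IsGen L U (SecTwist.val t U) := isGen_val_of_le_genLocus t hU.le
  have hloc : HasLocus (Frame.self L) (SecTwist.val t ⊤) U := by
    intro W hW e' he'
    rw [hU]
    exact (Frame.self L).genLocus_inf t W e' he'
  obtain ⟨N0, hN0⟩ := TFrame.exists_extend hLi (OO X) (Frame.self L) (V0 := ⊤)
    (by simpa using isCompact_univ (X := X)) (SecTwist.val t ⊤) (le_top : U ≤ ⊤) hloc (ofFn b)
  obtain ⟨y, hy⟩ := hN0 N0 le_rfl
    (TFrame.cast (one_mul N0).symm (Groth.Agent.RLS.tframeOfFrame (Frame.pow L N0)))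
  refine ⟨N0, y, ?_⟩
  have h1 := hy U le_rfl (SecTwist.val t U) he
  have hc : (Frame.self L).coefOf (SecTwist.val t ⊤) U ((le_refl U).trans le_top)
      (SecTwist.val t U) he = 1 :=
    ((Frame.self L).coefOf_unique _ U _ _ he 1
      ((rF_val t _).trans (one_smul _ _).symm)).symm
  refine h1.trans ?_
  rw [hc, one_pow, one_smul, SubExt.rF_self]
  rfl

end Ext

section Core

variable {A : Type u} [CommRing A] [IsNoetherianRing A] {X : Scheme.{u}}
  (f : X ⟶ Spec (CommRingCat.of A)) [IsProper f]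

/-- **the sections criterion for very ampleness holds for an ample module** -/
theorem exists_veryAmple_sections
    (h1 : Subsingleton (Coh.HH X (Coh.structureModule X) 1))
    (hfib : ∀ y : ↥(Spec (CommRingCat.of A)), topologicalKrullDim ↥(f.fiber y) ≤ 1)
    (L : X.Modules) (hL : CohB1.IsAmple L) :
    ∃ F : Finset (Coh.structureModule X ⟶ L),
      ∀ x : X, ∃ t ∈ F, ∃ U : X.Opens, CohB1.genLocus L t = U ∧ x ∈ U ∧ IsAffineOpen U ∧
        ∃ h : U ≤ f ⁻¹ᵁ ⊤, ∀ b : Γ(X, U),
          b ∈ Subring.closure (Set.range (f.appLE ⊤ U h).hom ∪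
            {c | ∃ t' ∈ F, SecTwist.val t' U = c • SecTwist.val t U}) := by
  classical
  haveI : CompactSpace X := QuasiCompact.compactSpace_of_compactSpace f
  haveI : QuasiSeparatedSpace X := quasiSeparatedSpace_of_quasiSeparated f
  have hLi := hL.1
  obtain ⟨r, τ, hτ⟩ := exists_generators f L (ProperFinH9.isCoh_of_isInvertible hLi)
  have hgg := gg_of_isAmple f h1 hfib L hL
  have hcov := cover_of_generators f hLi hgg τ hτ
  refine ⟨Finset.univ.image (fun j => homOfSec L (τ j)), fun x => ?_⟩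
  obtain ⟨j, hj⟩ := hcov x
  obtain ⟨U, hU⟩ : ∃ U : X.Opens, U = CohB1.genLocus L (homOfSec L (τ j)) := ⟨_, rfl⟩
  refine ⟨homOfSec L (τ j), Finset.mem_image.mpr ⟨j, Finset.mem_univ _, rfl⟩, U, hU.symm,
    hU ▸ hj, hU ▸ isAffineOpen_genLocus_of_isAmple f h1 hfib L hL _, fun _ _ => trivial, fun b => ?_⟩
  obtain ⟨R', hR'⟩ : ∃ R' : Subring Γ(X, U), R' = Subring.closure
      (Set.range (f.appLE ⊤ U (fun _ _ => trivial)).hom ∪
        {c | ∃ t' ∈ Finset.univ.image (fun j => homOfSec L (τ j)),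
          SecTwist.val t' U = c • SecTwist.val (homOfSec L (τ j)) U}) := ⟨_, rfl⟩
  show b ∈ Subring.closure _
  rw [← hR']
  have hR1 : ∀ a : A, rX (le_top : U ≤ ⊤) (cf f a) ∈ R' := by
    intro a
    rw [hR']
    apply Subring.subset_closure
    left
    exact ⟨(Scheme.ΓSpecIso (CommRingCat.of A)).inv.hom a, rfl⟩
  have he : IsGen L U (SecTwist.val (homOfSec L (τ j)) U) :=
    isGen_val_of_le_genLocus _ hU.le
  have hR2 : ∀ j', ∃ ρ ∈ R', rF L (le_top : U ≤ ⊤) (τ j') =
      ρ • SecTwist.val (homOfSec L (τ j)) U := by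
    intro j'
    obtain ⟨ρ, hρ⟩ := he.exists_coef (SecTwist.val (homOfSec L (τ j')) U)
    refine ⟨ρ, ?_, ?_⟩
    · rw [hR']
      apply Subring.subset_closure
      right
      exact ⟨homOfSec L (τ j'), Finset.mem_image.mpr ⟨j', Finset.mem_univ _, rfl⟩, hρ⟩
    · exact (val_homOfSec L (τ j') U).symm.trans hρ
  obtain ⟨N, y, hy⟩ := exists_global_of_local hLi (homOfSec L (τ j)) U hU b
  obtain ⟨κ, hκ, hκe⟩ := coef_mem f h1 hfib L hL τ hτ hcov (homOfSec L (τ j)) U hU.le R' hR1 hR2 N y
  have hb : b = κ := IsGen.coef_ext (isGen_lpow he N) (hy.symm.trans hκe)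
  rw [hb]
  exact hκ

end Core

end Snap9
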