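import Mathlib
import Groth.Prelude
import Groth.Agent.Lib.Snap59_helper9

/-!
# The section ring of an ample module is generated in degree one when `H¹(O) = 0` and the fibres
have dimension `≤ 1` (helper9)

APPEND-ONLY once landed.
-/

set_option autoImplicit false
universe u
open CategoryTheory CategoryTheory.Limits AlgebraicGeometry Opposite TopologicalSpace

namespace Snap9

open Kosz QcqsLoc QCohExtn GenLocH8 TensH8 FLFH8 CohB1 SerreCrit

section Unit

variable {X : Scheme.{u}}

/-- every global section of `O ⊗ L` is `1 ⊗ b` -/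
theorem exists_tmul_one {L : X.Modules} (hLi : PicF.IsInvertible L)
    (y : Γ(CohB1.tensorMod (Coh.structureModule X) L, ⊤)) :
    ∃ y' : Γ(L, ⊤), y = SecTwist.tmul (Coh.structureModule X) L ⊤ (toM (1 : Γ(X, ⊤))) y' := by
  obtain ⟨y', hy'⟩ := (Frame.self L).exists_section hLi ⊤
    (fun W hW e' he' => (Frame.pow L 1).coefOf (M := CohB1.tensorPow L 1) y W hW e' he')
    (fun W hW e' he' W' h => (Frame.pow L 1).coefOf_res (M := CohB1.tensorPow L 1) y W hW e' he' h)
    (fun W hW e' he' u he'' =>
      (Frame.pow L 1).coefOf_change (M := CohB1.tensorPow L 1) y W hW e' he' u he'')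
  refine ⟨y', ?_⟩
  apply eq_of_cover (CohB1.tensorMod (Coh.structureModule X) L)
  intro x _
  obtain ⟨W, -, hxW, e', he'⟩ := exists_isGen hLi x
  refine ⟨W, le_top, hxW, ?_⟩
  have h1 := (Frame.pow L 1).coefOf_spec (M := CohB1.tensorPow L 1) y W le_top e' he'
  have h3 : rF L (le_top : W ≤ ⊤) y' =
      (Frame.pow L 1).coefOf (M := CohB1.tensorPow L 1) y W le_top e' he' • e' :=
    hy' W le_top e' he'
  have h4 : rF (Coh.structureModule X) (le_top : W ≤ ⊤) (toM (1 : Γ(X, ⊤))) =
      toM (1 : Γ(X, W)) := map_one (rX (le_top : W ≤ ⊤))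
  have h5 : (Frame.pow L 1).coefOf (M := CohB1.tensorPow L 1) y W le_top e' he' •
      (Frame.pow L 1).φ W e' =
      (Frame.pow L 1).coefOf (M := CohB1.tensorPow L 1) y W le_top e' he' •
        SecTwist.tmul (Coh.structureModule X) L W (toM (1 : Γ(X, W))) e' := rfl
  refine h1.trans (h5.trans ?_)
  refine (tmul_smul_right _ L W _ _ _).symm.trans ?_
  refine (tmul_congr _ L W h4.symm h3.symm).trans ?_
  exact (rF_tmul _ _ (le_top : W ≤ ⊤) _ _).symm

end Unit

section Gen

variable {A : Type u} [CommRing A] [IsNoetherianRing A] {X : Scheme.{u}}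
  (f : X ⟶ Spec (CommRingCat.of A)) [IsProper f]

include f in
/-- **the section ring of an ample module is generated in degree one** -/
theorem span_tmul_eq_top
    (h1 : Subsingleton (Coh.HH X (Coh.structureModule X) 1))
    (hfib : ∀ y : ↥(Spec (CommRingCat.of A)), topologicalKrullDim ↥(f.fiber y) ≤ 1)
    (L : X.Modules) (hL : CohB1.IsAmple L) (n : ℕ) :
    Submodule.span (X.ringCatSheaf.obj.obj (Opposite.op ⊤))
        (Set.range (fun p : (CohB1.tensorPow L n).val.obj (Opposite.op ⊤) ×
            L.val.obj (Opposite.op ⊤) =>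
          SecTwist.tmul (CohB1.tensorPow L n) L ⊤ p.1 p.2)) = ⊤ := by
  haveI : IsLocallyNoetherian X := LocallyOfFiniteType.isLocallyNoetherian f
  have hLi := hL.1
  rw [eq_top_iff]
  rintro y -
  cases n with
  | zero =>
    obtain ⟨y', hy'⟩ := exists_tmul_one hLi y
    rw [hy']
    exact Submodule.subset_span ⟨(toM (1 : Γ(X, ⊤)), y'), rfl⟩
  | succ m =>
    obtain ⟨r, τ, hτ⟩ := exists_generators f L (ProperFinH9.isCoh_of_isInvertible hLi)
    have hgg := gg_of_isAmple f h1 hfib L hL
    have hcov := cover_of_generators f hLi hgg τ hτ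
    have hloc := exists_locData_of_cover (fun j => homOfSec L (τ j)) hcov
    have hsurj := sections_Psi_surjective_of_H2 (subsingleton_HH2_of_fibre_dim f hfib) hLi
      (fun j => homOfSec L (τ j)) hloc (CohB1.tensorPow L m)
      (ProperFinH9.isCoh_of_isInvertible (isInvertible_tensorPow hLi m))
      (HH1_tensorPow_of_isAmple f h1 hfib L hL m)
    obtain ⟨w, hw⟩ := hsurj y
    rw [Kosz.ap_Psi] at hw
    rw [← hw]
    exact Submodule.sum_mem _ (fun j _ => Submodule.subset_span ⟨(_, _), rfl⟩)

end Gen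

end Snap9
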