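import Mathlib
import Groth.Prelude
import Groth.Agent.Lib.Snap60_helper9
import Groth.Agent.Lib.VAmpPn12_helper5

/-!
# Normally generated invertible modules: the ratios of a generating family of sections generate the
functions on the loci `X_t`; immersion into `P^N` from a `Fin (N+1)`-indexed family (helper9)

APPEND-ONLY once landed.
-/

set_option autoImplicit false
universe u
open CategoryTheory CategoryTheory.Limits AlgebraicGeometry Opposite TopologicalSpace

namespace Snap9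

open Kosz QcqsLoc QCohExtn GenLocH8 TensH8 FLFH8 CohB1 SerreCrit

section RatioGen

variable {A : Type u} [CommRing A] [IsNoetherianRing A] {X : Scheme.{u}}
  (f : X ⟶ Spec (CommRingCat.of A)) [IsProper f]
  (L : X.Modules) (hLi : PicF.IsInvertible L) {r : ℕ} (τ : Fin r → Γ(L, ⊤))
  (hτ : ∀ y : Γ(L, ⊤), ∃ a : Fin r → A, y = ∑ j, (cf f (a j)) • τ j)
  (hng : ∀ n : ℕ, 1 ≤ n → AddSubgroup.closure {t |
    ∃ (m : (CohB1.tensorPow L n).val.obj (op ⊤)) (s : L.val.obj (op ⊤)),
      t = SecTwist.tmul (CohB1.tensorPow L n) L ⊤ m s} = ⊤)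
  (t : Coh.structureModule X ⟶ L) (U : X.Opens) (hU : U ≤ CohB1.genLocus L t)
  (R' : Subring Γ(X, U))
  (hR1 : ∀ a : A, rX (le_top : U ≤ ⊤) (cf f a) ∈ R')
  (hR2 : ∀ j, ∃ ρ ∈ R', rF L (le_top : U ≤ ⊤) (τ j) = ρ • SecTwist.val t U)

include f hLi hτ hng hU hR1 hR2 in
/-- **the coefficients of all global sections of all powers lie in the subring** (normally
generated version) -/
theorem coef_mem_gen (n : ℕ) : ∀ y : Γ(CohB1.tensorPow L n, ⊤),
    ∃ κ ∈ R', rF (CohB1.tensorPow L n) (le_top : U ≤ ⊤) y =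
      κ • CycCov.lpow L U (SecTwist.val t U) n := by
  have he : IsGen L U (SecTwist.val t U) := isGen_val_of_le_genLocus t hU
  induction n using Nat.twoStepInduction with
  | zero =>
    intro (y : Γ(OO X, ⊤))
    obtain ⟨κ, hκ, hκe⟩ := coef_mem_one f L τ hτ t U R' hR1 hR2
      ((toFn y) • SecTwist.val t ⊤)
    have e1 : rF L (le_top : U ≤ ⊤) (toFn y • SecTwist.val t ⊤) =
        rX (le_top : U ≤ ⊤) (toFn y) • rF L (le_top : U ≤ ⊤) (SecTwist.val t ⊤) :=
      rF_smul L _ _ _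
    have e2 : rF L (le_top : U ≤ ⊤) (SecTwist.val t ⊤) = SecTwist.val t U := rF_val t _
    have hκe' : rX (le_top : U ≤ ⊤) (toFn y) • SecTwist.val t U = κ • SecTwist.val t U :=
      (congrArg (fun q => rX (le_top : U ≤ ⊤) (toFn y) • q) e2).symm.trans (e1.symm.trans hκe)
    have h3 : rX (le_top : U ≤ ⊤) (toFn y) = κ := IsGen.coef_ext he hκe'
    refine ⟨κ, hκ, ?_⟩
    show rF (OO X) (le_top : U ≤ ⊤) y = κ • (toM (1 : Γ(X, U)))
    have h4 : κ • (toM (1 : Γ(X, U))) = ofFn (κ * 1) := rfl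
    rw [h4, mul_one, ← h3]
    rfl
  | one =>
    intro y
    obtain ⟨y', hy'⟩ := (Frame.self L).exists_section hLi ⊤
      (fun W hW e' he' => (Frame.pow L 1).coefOf y W hW e' he')
      (fun W hW e' he' W' h => (Frame.pow L 1).coefOf_res y W hW e' he' h)
      (fun W hW e' he' u he'' => (Frame.pow L 1).coefOf_change y W hW e' he' u he'')
    obtain ⟨κ, hκ, hκe⟩ := coef_mem_one f L τ hτ t U R' hR1 hR2 y'
    have h2 : rF L (le_top : U ≤ ⊤) y' =
        (Frame.pow L 1).coefOf y U le_top (SecTwist.val t U) he • SecTwist.val t U :=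
      hy' U le_top (SecTwist.val t U) he
    have h3 : κ = (Frame.pow L 1).coefOf y U le_top (SecTwist.val t U) he :=
      IsGen.coef_ext he (hκe.symm.trans h2)
    refine ⟨κ, hκ, ?_⟩
    rw [h3]
    exact (Frame.pow L 1).coefOf_spec y U le_top (SecTwist.val t U) he
  | more n _ ih =>
    intro y
    have hy : y ∈ AddSubgroup.closure {t |
        ∃ (m : (CohB1.tensorPow L (n + 1)).val.obj (op ⊤)) (s : L.val.obj (op ⊤)),
          t = SecTwist.tmul (CohB1.tensorPow L (n + 1)) L ⊤ m s} := by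
      rw [hng (n + 1) (Nat.succ_le_succ (Nat.zero_le n))]
      trivial
    induction hy using AddSubgroup.closure_induction with
    | mem z hz =>
      obtain ⟨m, s, rfl⟩ := hz
      obtain ⟨κ, hκ, hκe⟩ := ih m
      obtain ⟨ρ, hρ, hρe⟩ := coef_mem_one f L τ hτ t U R' hR1 hR2 s
      refine ⟨κ * ρ, Subring.mul_mem _ hκ hρ, ?_⟩
      refine (rF_tmul _ _ (le_top : U ≤ ⊤) _ _).trans ?_
      refine (tmul_congr _ L U hκe hρe).trans ?_
      refine (tmul_smul_left _ L U κ _ _).trans ?_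
      refine (congrArg (fun q => κ • q) (tmul_smul_right _ L U ρ _ _)).trans ?_
      exact smul_smul κ ρ _
    | zero =>
      refine ⟨0, Subring.zero_mem _, ?_⟩
      rw [zero_smul]
      exact map_zero _
    | add a b _ _ ha hb =>
      obtain ⟨κ, hκ, hκe⟩ := ha
      obtain ⟨ρ, hρ, hρe⟩ := hb
      refine ⟨κ + ρ, Subring.add_mem _ hκ hρ, ?_⟩
      rw [add_smul, ← hκe, ← hρe]
      exact map_add _ _ _
    | neg a _ ha =>
      obtain ⟨κ, hκ, hκe⟩ := ha
      refine ⟨-κ, Subring.neg_mem _ hκ, ?_⟩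
      rw [neg_smul, ← hκe]
      exact map_neg _ _

end RatioGen

section FamCore

variable {A : Type u} [CommRing A] [IsNoetherianRing A] {X : Scheme.{u}}
  (f : X ⟶ Spec (CommRingCat.of A)) [IsProper f]

/-- **the sections criterion for very ampleness for a normally generated module**, for a given
generating family of sections whose loci are affine and cover -/
theorem veryAmple_family (L : X.Modules) (hLi : PicF.IsInvertible L) {r : ℕ} (τ : Fin r → Γ(L, ⊤))
    (hτ : ∀ y : Γ(L, ⊤), ∃ a : Fin r → A, y = ∑ j, (cf f (a j)) • τ j)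
    (hng : ∀ n : ℕ, 1 ≤ n → AddSubgroup.closure {t |
      ∃ (m : (CohB1.tensorPow L n).val.obj (op ⊤)) (s : L.val.obj (op ⊤)),
        t = SecTwist.tmul (CohB1.tensorPow L n) L ⊤ m s} = ⊤)
    (j : Fin r) (U : X.Opens) (hU : U = CohB1.genLocus L (homOfSec L (τ j))) (b : Γ(X, U)) :
    b ∈ Subring.closure (Set.range (f.appLE ⊤ U (fun _ _ => trivial)).hom ∪
      {c | ∃ i, SecTwist.val (homOfSec L (τ i)) U = c • SecTwist.val (homOfSec L (τ j)) U}) := by
  classical
  haveI : CompactSpace X := QuasiCompact.compactSpace_of_compactSpace f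
  haveI : QuasiSeparatedSpace X := quasiSeparatedSpace_of_quasiSeparated f
  obtain ⟨R', hR'⟩ : ∃ R' : Subring Γ(X, U), R' = Subring.closure
      (Set.range (f.appLE ⊤ U (fun _ _ => trivial)).hom ∪
        {c | ∃ i, SecTwist.val (homOfSec L (τ i)) U =
          c • SecTwist.val (homOfSec L (τ j)) U}) := ⟨_, rfl⟩
  rw [← hR']
  have hR1 : ∀ a : A, rX (le_top : U ≤ ⊤) (cf f a) ∈ R' := by
    intro a
    rw [hR']
    apply Subring.subset_closure
    left
    exact ⟨(Scheme.ΓSpecIso (CommRingCat.of A)).inv.hom a, rfl⟩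
  have he : IsGen L U (SecTwist.val (homOfSec L (τ j)) U) :=
    isGen_val_of_le_genLocus _ hU.le
  have hR2 : ∀ j', ∃ ρ ∈ R', rF L (le_top : U ≤ ⊤) (τ j') =
      ρ • SecTwist.val (homOfSec L (τ j)) U := by
    intro j'
    obtain ⟨ρ, hρ⟩ := he.exists_coef (SecTwist.val (homOfSec L (τ j')) U)
    refine ⟨ρ, ?_, ?_⟩
    · rw [hR']
      apply Subring.subset_closure
      right
      exact ⟨j', hρ⟩
    · exact (val_homOfSec L (τ j') U).symm.trans hρ
  obtain ⟨N, y, hy⟩ := exists_global_of_local hLi (homOfSec L (τ j)) U hU b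
  obtain ⟨κ, hκ, hκe⟩ := coef_mem_gen f L hLi τ hτ hng (homOfSec L (τ j)) U hU.le R' hR1 hR2 N y
  have hb : b = κ := IsGen.coef_ext (isGen_lpow he N) (hy.symm.trans hκe)
  rw [hb]
  exact hκ

end FamCore

end Snap9

namespace Groth.Agent.VAmpPn

open Groth.Agent.ProjUPU HomogeneousLocalization QcqsLoc GenLocH8 TensH8 FLFH8 QCohExtn PBH8

/-- **Immersion into `P^N` over a ring from a `Fin (N+1)`-indexed family of sections.** -/
theorem exists_immersion_of_family {A : Type u} [CommRing A] {X : Scheme.{u}}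
    (q : X ⟶ Spec (CommRingCat.of A)) (M : X.Modules)
    (hM : PicF.IsInvertible M) {N : ℕ} (σ : Fin (N + 1) → (Coh.structureModule X ⟶ M))
    (hcov : ∀ x : X, ∃ j, x ∈ CohB1.genLocus M (σ j) ∧ IsAffineOpen (CohB1.genLocus M (σ j)) ∧
      ∃ h : CohB1.genLocus M (σ j) ≤ q ⁻¹ᵁ ⊤, ∀ b : Γ(X, CohB1.genLocus M (σ j)),
        b ∈ Subring.closure (Set.range (q.appLE ⊤ (CohB1.genLocus M (σ j)) h).hom ∪
          {c | ∃ i, SecTwist.val (σ i) (CohB1.genLocus M (σ j)) =
            c • SecTwist.val (σ j) (CohB1.genLocus M (σ j))})) :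
    ∃ (r : X ⟶ Proj (CohB1.polyGrading N A)), IsImmersion r ∧
      r ≫ CohB1.ProjSpace.toSpec N A = q ∧
      Nonempty ((Scheme.Modules.pullback r).obj (Twist.twist (CohB1.polyGrading N A) 1) ≅ M) := by
  classical
  choose jj hxt haff hle hcl using hcov
  have hgen : ProjUP.GeneratedBy M (fun k => (SecTwist.val (σ k) ⊤ : ProjUP.Γm M)) := by
    apply generatedBy_of_cover σ
    intro x
    exact ⟨jj x, hxt x⟩
  obtain ⟨r, hr, τ, hτ'⟩ : ∃ (r : X ⟶ Proj (CohB1.polyGrading N A))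
      (_ : r ≫ CohB1.ProjSpace.toSpec N A = q)
      (τ : (Scheme.Modules.pullback r).obj (Twist.twist (CohB1.polyGrading N A) 1) ≅ M),
      ∀ k, τ.hom.app ⊤ (ProjUP.pullSec r (Twist.twist (CohB1.polyGrading N A) 1)
        (sig (CohB1.polyGrading N A) (hX N k))) = SecTwist.val (σ k) ⊤ :=
    Groth.Agent.S3572.result (R := A) N q M hM
      (fun k => (SecTwist.val (σ k) ⊤ : ProjUP.Γm M)) hgen
  refine ⟨r, ?_, hr, ⟨τ⟩⟩
  let W : X → (Proj (CohB1.polyGrading N A)).Opens := fun x =>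
    Proj.basicOpen (CohB1.polyGrading N A) (MvPolynomial.X (jj x))
  have hpre : ∀ x, r ⁻¹ᵁ W x = CohB1.genLocus M (σ (jj x)) := by
    intro x
    exact (genLocus_eq r τ σ hτ' (jj x)).symm
  haveI := respectsRight_isImmersion.{u}
  apply IsZariskiLocalAtTarget.of_range_subset_iSup (P := @IsImmersion) W
  · rintro _ ⟨x, rfl⟩
    refine Opens.mem_iSup.mpr ⟨x, ?_⟩
    have : x ∈ r ⁻¹ᵁ W x := by
      rw [hpre x]
      exact hxt x
    exact this
  · intro x
    have hWaff : IsAffineOpen (W x) :=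
      Proj.isAffineOpen_basicOpen (CohB1.polyGrading N A) _ (hX N (jj x)) one_pos
    haveI : IsAffine (W x).toScheme := hWaff
    haveI : IsAffine (r ⁻¹ᵁ W x).toScheme := by
      rw [hpre x]
      exact haff x
    have hUW : CohB1.genLocus M (σ (jj x)) ≤ r ⁻¹ᵁ W x := (hpre x).ge
    have hsurj := surjective_appLE_affine q r τ σ hτ' hr (σ (jj x)) (jj x) rfl
      (hle x) _ (fun c hc => hc) (hcl x) hUW
    haveI : IsClosedImmersion (r ∣_ W x) := by
      apply IsClosedImmersion.of_surjective_of_isAffine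
      have h0 : (r ∣_ W x).appTop = r.appLE ((W x).ι ''ᵁ ⊤)
          ((r ⁻¹ᵁ W x).ι ''ᵁ ((r ∣_ W x) ⁻¹ᵁ ⊤))
          (image_morphismRestrict_preimage r (W x) ⊤).le := morphismRestrict_app' r (W x) ⊤
      show Function.Surjective ((r ∣_ W x).appTop).hom
      rw [h0]
      refine (Scheme.Hom.appLE_congr r _ (Scheme.Opens.ι_image_top (W x)) ?_
        (fun φ => Function.Surjective φ.hom)).mpr hsurj
      rw [Scheme.Hom.preimage_top, Scheme.Opens.ι_image_top, hpre x]
    infer_instance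

end Groth.Agent.VAmpPn
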