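import Mathlib
import Groth.Prelude
import Groth.Agent.Lib.Snap61_helper9
import Groth.Agent.Lib.ProjSpaceProper_helper4

/-!
# A curve with `H¹(O) = 0` and an ample module with `h⁰ = d + 1` embeds in `P^d` (helper9)

APPEND-ONLY once landed.
-/

set_option autoImplicit false
universe u
open CategoryTheory CategoryTheory.Limits AlgebraicGeometry Opposite TopologicalSpace

namespace Snap9

open Kosz QcqsLoc QCohExtn GenLocH8 TensH8 FLFH8 CohB1 SerreCrit

section Span

variable (A : Type u) [CommRing A] (X : Scheme.{u}) [X.Over (Spec (CommRingCat.of A))]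

/-- a spanning family of `H⁰` gives generators of the global sections -/
theorem generators_of_span (L : X.Modules) {r : ℕ} (s : Fin r → Coh.HH X L 0)
    (hs : Submodule.span A (Set.range s) = ⊤) (y : Γ(L, ⊤)) :
    ∃ a : Fin r → A, y = ∑ j, (cf (X ↘ Spec (CommRingCat.of A)) (a j)) •
      Groth.Agent.ProjDual.h0 L (s j) := by
  have hy : (Groth.Agent.ProjDual.h0 L).symm y ∈ Submodule.span A (Set.range s) := by
    rw [hs]; trivial
  obtain ⟨c, hc⟩ := (Submodule.mem_span_range_iff_exists_fun A).mp hy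
  refine ⟨c, ?_⟩
  have h2 : y = Groth.Agent.ProjDual.h0 L (∑ j, c j • s j) := by
    rw [hc, AddEquiv.apply_symm_apply]
  rw [h2, map_sum]
  apply Finset.sum_congr rfl
  intro j _
  exact Groth.Agent.ProjDual.h0_smul L (c j) (s j)

end Span

section NG

variable {A : Type u} [CommRing A] [IsNoetherianRing A] {X : Scheme.{u}}
  (f : X ⟶ Spec (CommRingCat.of A)) [IsProper f]

include f in
/-- **an ample module is normally generated** when `H¹(O) = 0` and the fibres have dimension
`≤ 1` (additive closure form) -/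
theorem closure_tmul_eq_top
    (h1 : Subsingleton (Coh.HH X (Coh.structureModule X) 1))
    (hfib : ∀ y : ↥(Spec (CommRingCat.of A)), topologicalKrullDim ↥(f.fiber y) ≤ 1)
    (L : X.Modules) (hL : CohB1.IsAmple L) (n : ℕ) (hn : 1 ≤ n) :
    AddSubgroup.closure {t |
      ∃ (m : (CohB1.tensorPow L n).val.obj (op ⊤)) (s : L.val.obj (op ⊤)),
        t = SecTwist.tmul (CohB1.tensorPow L n) L ⊤ m s} = ⊤ := by
  haveI : IsLocallyNoetherian X := LocallyOfFiniteType.isLocallyNoetherian f
  have hLi := hL.1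
  rw [eq_top_iff]
  rintro y -
  obtain ⟨m, rfl⟩ : ∃ m, n = m + 1 := ⟨n - 1, by omega⟩
  obtain ⟨r, τ, hτ⟩ := exists_generators f L (ProperFinH9.isCoh_of_isInvertible hLi)
  have hgg := gg_of_isAmple f h1 hfib L hL
  have hcov := cover_of_generators f hLi hgg τ hτ
  have hloc := exists_locData_of_cover (fun j => homOfSec L (τ j)) hcov
  have hsurj := sections_Psi_surjective_of_H2 (subsingleton_HH2_of_fibre_dim f hfib) hLi
    (fun j => homOfSec L (τ j)) hloc (CohB1.tensorPow L m)
    (ProperFinH9.isCoh_of_isInvertible (isInvertible_tensorPow hLi m))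
    (HH1_tensorPow_of_isAmple f h1 hfib L hL m)
  obtain ⟨w, hw⟩ := hsurj y
  rw [Kosz.ap_Psi] at hw
  rw [← hw]
  exact AddSubgroup.sum_mem _ (fun j _ => AddSubgroup.subset_closure ⟨_, _, rfl⟩)

end NG

section Field

variable (k : Type u) [Field k] (X : Scheme.{u}) [X.Over (Spec (CommRingCat.of k))]
  [IsProper (X ↘ Spec (CommRingCat.of k))]

/-- **a proper one-dimensional scheme with `H¹(O) = 0` and an ample module with `h⁰ = d + 1`
embeds in `P^d`** -/
theorem main1636 (hdim : topologicalKrullDim X = 1)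
    (h1 : Subsingleton (Coh.HH X (Coh.structureModule X) 1))
    (L : X.Modules) (hA : CohB1.IsAmple L) (d : ℕ)
    (hd : Module.finrank k (Coh.HH X L 0) = d + 1) :
    ∃ i : X ⟶ CohB1.ProjSpace d k, IsClosedImmersion i ∧
      i ≫ CohB1.ProjSpace.toSpec d k = X ↘ (Spec (CommRingCat.of k)) ∧
      Nonempty ((Scheme.Modules.pullback i).obj (Twist.twistProjSpace d k 1) ≅ L) := by
  have hfib : ∀ y : ↥(Spec (CommRingCat.of k)),
      topologicalKrullDim ↥((X ↘ Spec (CommRingCat.of k)).fiber y) ≤ 1 := by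
    intro y
    rw [IsHomeomorph.topologicalKrullDim_eq ((X ↘ Spec (CommRingCat.of k)).fiberHomeo y)
      ((X ↘ Spec (CommRingCat.of k)).fiberHomeo y).isHomeomorph, ← hdim]
    exact topologicalKrullDim_subspace_le _ _
  haveI : IsNoetherianRing k := inferInstance
  have hLi := hA.1
  haveI : Module.Finite k (Coh.HH X L 0) :=
    ProperFinH9.finite_HH_of_proper k X L (ProperFinH9.isCoh_of_isInvertible hLi) 0
  let bs := Module.finBasisOfFinrankEq k (Coh.HH X L 0) hd
  obtain ⟨τ, hτdef⟩ : ∃ τ : Fin (d + 1) → Γ(L, ⊤),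
      τ = fun j => Groth.Agent.ProjDual.h0 L (bs j) := ⟨_, rfl⟩
  have hτ : ∀ y : Γ(L, ⊤), ∃ a : Fin (d + 1) → k,
      y = ∑ j, (cf (X ↘ Spec (CommRingCat.of k)) (a j)) • τ j := by
    intro y
    rw [hτdef]
    exact generators_of_span k X L (fun j => bs j) bs.span_eq y
  have hgg := gg_of_isAmple (X ↘ Spec (CommRingCat.of k)) h1 hfib L hA
  have hcov := cover_of_generators (X ↘ Spec (CommRingCat.of k)) hLi hgg τ hτ
  have hng := closure_tmul_eq_top (X ↘ Spec (CommRingCat.of k)) h1 hfib L hA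
  obtain ⟨r, hr, hcomp, ⟨e⟩⟩ := Groth.Agent.VAmpPn.exists_immersion_of_family
    (X ↘ Spec (CommRingCat.of k)) L hLi (fun j => homOfSec L (τ j)) (fun x => by
      obtain ⟨j, hj⟩ := hcov x
      exact ⟨j, hj, isAffineOpen_genLocus_of_isAmple (X ↘ Spec (CommRingCat.of k)) h1 hfib L hA _,
        fun _ _ => trivial,
        fun b => veryAmple_family (X ↘ Spec (CommRingCat.of k)) L hLi τ hτ hng j _ rfl b⟩)
  refine ⟨r, ?_, hcomp, ⟨e⟩⟩
  haveI : IsProper (CohB1.ProjSpace.toSpec d k) :=
    Groth.Agent.Lib.ProjSpaceProperH4.isProper_toSpec d k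
  haveI : IsProper (r ≫ CohB1.ProjSpace.toSpec d k) := by rw [hcomp]; infer_instance
  haveI : IsProper r := IsProper.of_comp r (CohB1.ProjSpace.toSpec d k)
  haveI : IsImmersion r := hr
  exact IsClosedImmersion.of_isPreimmersion r r.isClosedMap.isClosed_range

end Field

end Snap9
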