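import Mathlib
import Groth.Prelude
import Groth.Agent.Lib.Snap62_helper9
import Groth.Agent.Lib.RelAmpleVan_helper9

/-!
# Loci of sections of an ample module on a proper relative curve are affine (no `H¹(O) = 0`);
normally generated ample modules are globally generated and very ample (helper9)

APPEND-ONLY once landed.
-/

set_option autoImplicit false
universe u
open CategoryTheory CategoryTheory.Limits AlgebraicGeometry Opposite TopologicalSpace

namespace Snap9

open Kosz QcqsLoc QCohExtn GenLocH8 TensH8 FLFH8 CohB1 SerreCrit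

section AffGen

variable {X : Scheme.{u}}

/-- **the locus of a section of an ample module is affine**, given `H²` vanishing on coherent
modules and an auxiliary coherent module `M` with `H¹(M) = 0` carrying a section generating it on
the locus -/
theorem isAffineOpen_genLocus_of_H1 [IsLocallyNoetherian X]
    (hH2 : ∀ M : X.Modules, Coh.IsCoh M → Subsingleton (Coh.HH X M 2))
    (L : X.Modules) (hL : CohB1.IsAmple L) (t : Coh.structureModule X ⟶ L)
    (M : X.Modules) (hMc : Coh.IsCoh M) (hM1 : Subsingleton (Coh.HH X M 1))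
    (u : Coh.structureModule X ⟶ M)
    (hu : IsGen M (CohB1.genLocus L t) (SecTwist.val u (CohB1.genLocus L t))) :
    IsAffineOpen (CohB1.genLocus L t) := by
  have hLi := hL.1
  obtain ⟨m, hm, r, σ, haff, hcov⟩ := exists_uniform_affine_cover hL
  have hA' := isInvertible_tensorPow hLi m
  have hloc := exists_locData_of_cover σ hcov
  have hsurj := sections_Psi_surjective_of_H2 hH2 hA' σ hloc M hMc hM1
  obtain ⟨U, hU⟩ : ∃ U : X.Opens, U = CohB1.genLocus L t := ⟨_, rfl⟩
  rw [← hU] at hu ⊢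
  have he : IsGen L U (SecTwist.val t U) := isGen_val_of_le_genLocus t hU.le
  obtain ⟨τ, hτdef⟩ : ∃ τ : Γ(CohB1.tensorPow L m, U),
      τ = (Frame.pow L m).φ U (SecTwist.val t U) := ⟨_, rfl⟩
  have hτ : IsGen (CohB1.tensorPow L m) U τ := hτdef ▸ (Frame.pow L m).isGen he
  have hc : ∀ j, ∃ c : Γ(X, U), SecTwist.val (σ j) U = c • τ := fun j => hτ.exists_coef _
  choose c hc using hc
  have hbo : ∀ j, X.basicOpen (c j) = CohB1.genLocus _ (σ j) ⊓ U := fun j =>
    (genLocus_inf_eq (σ j) hτ (c j) (hc j)).symm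
  -- the target section
  obtain ⟨ε, hεdef⟩ : ∃ ε : Γ(CohB1.tensorMod M (CohB1.tensorPow L m), U),
      ε = SecTwist.tmul _ _ U (SecTwist.val u U) τ := ⟨_, rfl⟩
  have hε : IsGen _ U ε := hεdef ▸ isGen_tmul hu hτ
  have hετ : IsGen (CohB1.tensorMod (CohB1.tensorMod M
      (CohB1.tensorPow L m)) (CohB1.tensorPow L m)) U
      (SecTwist.tmul _ (CohB1.tensorPow L m) U ε τ) := isGen_tmul hε hτ
  let z0 : Coh.structureModule X ⟶ CohB1.tensorMod M (CohB1.tensorPow L m) :=
    SecTwist.tmulHom u (SecTwist.powHom t m)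
  let z : Coh.structureModule X ⟶ CohB1.tensorMod
      (CohB1.tensorMod M (CohB1.tensorPow L m)) (CohB1.tensorPow L m) :=
    SecTwist.tmulHom z0 (SecTwist.powHom t m)
  have hpw : SecTwist.val (SecTwist.powHom t m) U = τ := by
    rw [SecTwist.val_powHom, ← CycCov.lpow_val, hτdef]
    rfl
  have hzU : SecTwist.val z U = SecTwist.tmul _ (CohB1.tensorPow L m) U ε τ := by
    rw [SecTwist.val_tmulHom, SecTwist.val_tmulHom, hpw, hεdef]
  obtain ⟨w, hw⟩ := hsurj (SecTwist.val z ⊤)
  rw [Kosz.ap_Psi] at hw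
  have hg : ∀ j, ∃ g : Γ(X, U), rF _ (le_top : U ≤ ⊤)
      (ap (biproduct.π (fun _ : Fin r => CohB1.tensorMod M
        (CohB1.tensorPow L m)) j) ⊤ w) = g • ε := fun j => hε.exists_coef _
  choose g hg using hg
  have hres : rF (CohB1.tensorMod (CohB1.tensorMod M
      (CohB1.tensorPow L m)) (CohB1.tensorPow L m)) (le_top : U ≤ ⊤) (SecTwist.val z ⊤) =
      (∑ j, g j * c j) • SecTwist.tmul _ (CohB1.tensorPow L m) U ε τ := by
    rw [← hw]
    have hsum := map_sum (rF (CohB1.tensorMod (CohB1.tensorMod M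
      (CohB1.tensorPow L m)) (CohB1.tensorPow L m)) (le_top : U ≤ ⊤))
      (fun j => SecTwist.tmul (CohB1.tensorMod M (CohB1.tensorPow L m))
        (CohB1.tensorPow L m) ⊤
        (ap (biproduct.π (fun _ : Fin r => CohB1.tensorMod M
          (CohB1.tensorPow L m)) j) ⊤ w) (ap (σ j) ⊤ (toM (1 : Γ(X, ⊤))))) Finset.univ
    refine hsum.trans ?_
    rw [Finset.sum_smul]
    apply Finset.sum_congr rfl
    intro j _
    have h2 : rF (CohB1.tensorPow L m) (le_top : U ≤ ⊤)
        (ap (σ j) ⊤ (toM (1 : Γ(X, ⊤)))) = c j • τ := by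
      rw [← hc j]
      exact rF_val (σ j) (le_top : U ≤ ⊤)
    refine (rF_tmul _ _ (le_top : U ≤ ⊤) _ _).trans ?_
    rw [hg j, h2, tmul_smul_left, tmul_smul_right, smul_smul]
    rfl
  have key : (∑ j, g j * c j) • SecTwist.tmul _ (CohB1.tensorPow L m) U ε τ =
      (1 : Γ(X, U)) • SecTwist.tmul _ (CohB1.tensorPow L m) U ε τ := by
    rw [one_smul, ← hres, rF_val z (le_top : U ≤ ⊤), hzU]
  have hone : ∑ j, g j * c j = 1 := IsGen.coef_ext hετ key
  apply isAffineOpen_of_isAffineOpen_basicOpen U (Set.range c)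
  · rw [Ideal.eq_top_iff_one, ← hone]
    exact Ideal.sum_mem _ (fun j _ => Ideal.mul_mem_left _ _ (Ideal.subset_span ⟨j, rfl⟩))
  · rintro _ ⟨j, rfl⟩
    rw [hbo j, inf_comm, hU]
    exact GGH8.isAffineOpen_inf_genLocus hLi t (haff j)

end AffGen

section AffCurve

variable {A : Type u} [CommRing A] [IsNoetherianRing A] {X : Scheme.{u}}
  (f : X ⟶ Spec (CommRingCat.of A)) [IsProper f]

include f in
/-- **the loci of sections of an ample module on a proper scheme with fibres of dimension `≤ 1`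
over a Noetherian ring are affine** -/
theorem isAffineOpen_genLocus_of_isAmple_curve
    (hfib : ∀ y : ↥(Spec (CommRingCat.of A)), topologicalKrullDim ↥(f.fiber y) ≤ 1)
    (L : X.Modules) (hL : CohB1.IsAmple L) (t : Coh.structureModule X ⟶ L) :
    IsAffineOpen (CohB1.genLocus L t) := by
  haveI : IsLocallyNoetherian X := LocallyOfFiniteType.isLocallyNoetherian f
  have hLi := hL.1
  have hLc := ProperFinH9.isCoh_of_isInvertible hLi
  obtain ⟨n₀, hn₀⟩ := RelAmpleVanH9.serre_vanishing_ample f L hLi hL L hLc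
  have hPi := isInvertible_tensorPow hLi n₀
  have hMc : Coh.IsCoh (CohB1.tensorMod L (CohB1.tensorPow L n₀)) :=
    RelAmpleVanH9.isCoh_tensorMod hLc (ProperFinH9.isCoh_of_isInvertible hPi)
  refine isAffineOpen_genLocus_of_H1 (subsingleton_HH2_of_fibre_dim f hfib) L hL t
    (CohB1.tensorMod L (CohB1.tensorPow L n₀)) hMc (hn₀ n₀ le_rfl 1 one_pos)
    (SecTwist.tmulHom t (SecTwist.powHom t n₀)) ?_
  obtain ⟨U, hU⟩ : ∃ U : X.Opens, U = CohB1.genLocus L t := ⟨_, rfl⟩
  rw [← hU]
  have he : IsGen L U (SecTwist.val t U) := isGen_val_of_le_genLocus t hU.le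
  have hpw : SecTwist.val (SecTwist.powHom t n₀) U = (Frame.pow L n₀).φ U (SecTwist.val t U) := by
    rw [SecTwist.val_powHom, ← CycCov.lpow_val]
    rfl
  rw [SecTwist.val_tmulHom, hpw]
  exact isGen_tmul he ((Frame.pow L n₀).isGen he)

end AffCurve

section GGng

variable {X : Scheme.{u}}

/-- a point where a sum of products `m ⊗ s` generates lies in the locus of some factor `s` -/
theorem exists_section_of_mem_closure {P L : X.Modules} (hP : PicF.IsInvertible P)
    (hL : PicF.IsInvertible L) (x : X) (s₀ : Coh.structureModule X ⟶ CohB1.tensorMod P L)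
    (hy : SecTwist.val s₀ ⊤ ∈ AddSubgroup.closure {t |
      ∃ (m : P.val.obj (op ⊤)) (s : L.val.obj (op ⊤)), t = SecTwist.tmul P L ⊤ m s})
    (hx : x ∈ CohB1.genLocus (CohB1.tensorMod P L) s₀) :
    ∃ s : Γ(L, ⊤), x ∈ CohB1.genLocus L (homOfSec L s) := by
  obtain ⟨W, hxW, p, e, hp, he⟩ := exists_isGen₂ hP hL x
  have hg : IsGen (CohB1.tensorMod P L) W (SecTwist.tmul P L W p e) := isGen_tmul hp he
  have key : ∀ y : Γ(CohB1.tensorMod P L, ⊤), y ∈ AddSubgroup.closure {t |
      ∃ (m : P.val.obj (op ⊤)) (s : L.val.obj (op ⊤)), t = SecTwist.tmul P L ⊤ m s} →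
      ∀ c : Γ(X, W), rF (CohB1.tensorMod P L) (le_top : W ≤ ⊤) y = c • SecTwist.tmul P L W p e →
        x ∈ X.basicOpen c → ∃ s : Γ(L, ⊤), x ∈ CohB1.genLocus L (homOfSec L s) := by
    intro y hy
    induction hy using AddSubgroup.closure_induction with
    | mem z hz =>
      obtain ⟨m, s, rfl⟩ := hz
      intro c hc hxc
      obtain ⟨a, ha⟩ := hp.exists_coef (rF P (le_top : W ≤ ⊤) m)
      obtain ⟨b, hb⟩ := he.exists_coef (rF L (le_top : W ≤ ⊤) s)
      have h1 : rF (CohB1.tensorMod P L) (le_top : W ≤ ⊤) (SecTwist.tmul P L ⊤ m s) =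
          (a * b) • SecTwist.tmul P L W p e := by
        refine (rF_tmul _ _ (le_top : W ≤ ⊤) _ _).trans ?_
        refine (tmul_congr _ L W ha hb).trans ?_
        refine (tmul_smul_left _ L W a _ _).trans ?_
        refine (congrArg (fun q => a • q) (tmul_smul_right _ L W b _ _)).trans ?_
        exact smul_smul a b _
      have h2 : c = a * b := IsGen.coef_ext hg (hc.symm.trans h1)
      rw [h2, Scheme.basicOpen_mul] at hxc
      refine ⟨s, ?_⟩
      have h3 := genLocus_inf_eq (homOfSec L s) he b ((val_homOfSec L s W).trans hb)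
      have hx3 : x ∈ CohB1.genLocus L (homOfSec L s) ⊓ W := by
        rw [h3]
        exact hxc.2
      exact hx3.1
    | zero =>
      intro c hc hxc
      have h1 : rF (CohB1.tensorMod P L) (le_top : W ≤ ⊤) 0 =
          (0 : Γ(X, W)) • SecTwist.tmul P L W p e := by
        rw [zero_smul]
        exact map_zero _
      have h2 : c = 0 := IsGen.coef_ext hg (hc.symm.trans h1)
      rw [h2, Scheme.basicOpen_zero] at hxc
      exact absurd hxc (Set.notMem_empty x)
    | add a b _ _ ha hb =>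
      intro c hc hxc
      obtain ⟨ca, hca⟩ := hg.exists_coef (rF (CohB1.tensorMod P L) (le_top : W ≤ ⊤) a)
      obtain ⟨cb, hcb⟩ := hg.exists_coef (rF (CohB1.tensorMod P L) (le_top : W ≤ ⊤) b)
      have h1 : rF (CohB1.tensorMod P L) (le_top : W ≤ ⊤) (a + b) =
          (ca + cb) • SecTwist.tmul P L W p e :=
        (map_add (rF (CohB1.tensorMod P L) (le_top : W ≤ ⊤)) a b).trans
          ((congrArg₂ (· + ·) hca hcb).trans (add_smul ca cb _).symm)
      have h2 : c = ca + cb := IsGen.coef_ext hg (hc.symm.trans h1)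
      rw [h2] at hxc
      rcases X.basicOpen_add_le _ _ hxc with h | h
      · exact ha ca hca h
      · exact hb cb hcb h
    | neg a _ ha =>
      intro c hc hxc
      obtain ⟨ca, hca⟩ := hg.exists_coef (rF (CohB1.tensorMod P L) (le_top : W ≤ ⊤) a)
      have h1 : rF (CohB1.tensorMod P L) (le_top : W ≤ ⊤) (-a) =
          (-ca) • SecTwist.tmul P L W p e :=
        (map_neg (rF (CohB1.tensorMod P L) (le_top : W ≤ ⊤)) a).trans
          ((congrArg Neg.neg hca).trans (neg_smul ca _).symm)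
      have h2 : c = (-1) * ca := by
        rw [neg_one_mul]
        exact IsGen.coef_ext hg (hc.symm.trans h1)
      rw [h2, Scheme.basicOpen_mul] at hxc
      exact ha ca hca hxc.2
  obtain ⟨c, hc⟩ := hg.exists_coef (SecTwist.val s₀ W)
  have h3 := genLocus_inf_eq s₀ hg c hc
  have hx3 : x ∈ X.basicOpen c := by
    rw [← h3]
    exact ⟨hx, hxW⟩
  exact key _ hy c ((rF_val s₀ (le_top : W ≤ ⊤)).trans hc) hx3

/-- **a normally generated ample module is generated by its global sections** (pointwise form) -/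
theorem exists_section_of_isAmple_ng {L : X.Modules} (hL : CohB1.IsAmple L)
    (hng : ∀ n : ℕ, 1 ≤ n → AddSubgroup.closure {t |
      ∃ (m : (CohB1.tensorPow L n).val.obj (op ⊤)) (s : L.val.obj (op ⊤)),
        t = SecTwist.tmul (CohB1.tensorPow L n) L ⊤ m s} = ⊤) (x : X) :
    ∃ s : Γ(L, ⊤), x ∈ CohB1.genLocus L (homOfSec L s) := by
  obtain ⟨hLi, -, h⟩ := hL
  obtain ⟨n, s, hxs, -⟩ := h x
  refine exists_section_of_mem_closure (isInvertible_tensorPow hLi n) hLi x s ?_ hxs
  rcases Nat.eq_zero_or_pos n with rfl | hn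
  · obtain ⟨y', hy'⟩ := exists_tmul_one hLi (SecTwist.val s ⊤)
    exact AddSubgroup.subset_closure ⟨_, _, hy'⟩
  · rw [hng n hn]
    trivial

end GGng

section VA

variable {A : Type u} [CommRing A] [IsNoetherianRing A] {X : Scheme.{u}}
  (f : X ⟶ Spec (CommRingCat.of A)) [IsProper f]

/-- **a normally generated ample module on a proper scheme with fibres of dimension `≤ 1` over a
Noetherian ring satisfies the sections criterion for very ampleness** -/
theorem exists_veryAmple_sections_of_ng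
    (hfib : ∀ y : ↥(Spec (CommRingCat.of A)), topologicalKrullDim ↥(f.fiber y) ≤ 1)
    (L : X.Modules) (hL : CohB1.IsAmple L)
    (hng : ∀ n : ℕ, 1 ≤ n → AddSubgroup.closure {t |
      ∃ (m : (CohB1.tensorPow L n).val.obj (op ⊤)) (s : L.val.obj (op ⊤)),
        t = SecTwist.tmul (CohB1.tensorPow L n) L ⊤ m s} = ⊤) :
    ∃ F : Finset (Coh.structureModule X ⟶ L),
      ∀ x : X, ∃ t ∈ F, ∃ U : X.Opens, CohB1.genLocus L t = U ∧ x ∈ U ∧ IsAffineOpen U ∧
        ∃ V : (Spec (CommRingCat.of A)).Opens, IsAffineOpen V ∧ ∃ h : U ≤ f ⁻¹ᵁ V, ∀ b : Γ(X, U),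
          b ∈ Subring.closure (Set.range (f.appLE V U h).hom ∪
            {c | ∃ t' ∈ F, SecTwist.val t' U = c • SecTwist.val t U}) := by
  classical
  haveI : IsLocallyNoetherian X := LocallyOfFiniteType.isLocallyNoetherian f
  have hLi := hL.1
  obtain ⟨r, τ, hτ⟩ := exists_generators f L (ProperFinH9.isCoh_of_isInvertible hLi)
  have hcov : ∀ x : X, ∃ j, x ∈ CohB1.genLocus L (homOfSec L (τ j)) := by
    intro x
    obtain ⟨s, hxs⟩ := exists_section_of_isAmple_ng hL hng x
    obtain ⟨W, -, hxW, e, he⟩ := exists_isGen hLi x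
    obtain ⟨a, ha⟩ := hτ s
    have hc : ∀ j, ∃ c : Γ(X, W), SecTwist.val (homOfSec L (τ j)) W = c • e :=
      fun j => he.exists_coef _
    choose c hc using hc
    have hs : SecTwist.val (homOfSec L s) W = (∑ j, rX (le_top : W ≤ ⊤) (cf f (a j)) * c j) • e := by
      rw [val_homOfSec, ha]
      have hsum := map_sum (rF L (le_top : W ≤ ⊤)) (fun j => (cf f (a j)) • τ j) Finset.univ
      refine hsum.trans ?_
      rw [Finset.sum_smul]
      apply Finset.sum_congr rfl
      intro j _
      rw [rF_smul, mul_smul, ← hc j, val_homOfSec]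
    have h1 := genLocus_inf_eq (homOfSec L s) he _ hs
    have hx1 : x ∈ CohB1.genLocus L (homOfSec L s) ⊓ W := ⟨hxs, hxW⟩
    rw [h1] at hx1
    obtain ⟨j, -, hj⟩ := exists_mem_basicOpen_of_sum Finset.univ _ x hx1
    rw [Scheme.basicOpen_mul] at hj
    have h2 := genLocus_inf_eq (homOfSec L (τ j)) he _ (hc j)
    have hx2 : x ∈ CohB1.genLocus L (homOfSec L (τ j)) ⊓ W := by
      rw [h2]
      exact hj.2
    exact ⟨j, hx2.1⟩
  refine ⟨Finset.univ.image (fun j => homOfSec L (τ j)), fun x => ?_⟩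
  obtain ⟨j, hj⟩ := hcov x
  obtain ⟨U, hU⟩ : ∃ U : X.Opens, U = CohB1.genLocus L (homOfSec L (τ j)) := ⟨_, rfl⟩
  refine ⟨homOfSec L (τ j), Finset.mem_image.mpr ⟨j, Finset.mem_univ _, rfl⟩, U, hU.symm,
    hU ▸ hj, hU ▸ isAffineOpen_genLocus_of_isAmple_curve f hfib L hL _, ⊤, isAffineOpen_top _,
    fun _ _ => trivial, fun b => ?_⟩
  have h0 := veryAmple_family f L hLi τ hτ hng j U hU b
  refine Subring.closure_mono ?_ h0
  apply Set.union_subset_union_right
  rintro c ⟨i, hi⟩
  exact ⟨homOfSec L (τ i), Finset.mem_image.mpr ⟨i, Finset.mem_univ _, rfl⟩, hi⟩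

end VA

end Snap9
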