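import Mathlib
import Groth.Prelude
import Groth.Agent.Lib.VATens6_helper5
import Groth.Agent.Lib.FrameIso_helper5
import Groth.Agent.Lib.Tens9_helper8

/-!
# Tensor products and tensor powers of very ample modules  (helper5).  APPEND-ONLY once landed.
-/

set_option autoImplicit false
universe u
open CategoryTheory AlgebraicGeometry TopologicalSpace Opposite

noncomputable section

namespace Groth.Agent.VATens

open QcqsLoc QCohExtn GenLocH8 TensH8 Scheme.Modules

variable {X Y : Scheme.{u}} (q : X ⟶ Y)

/-- Very ampleness is invariant under isomorphisms of the module. -/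
theorem isRelVeryAmple_of_iso {L L' : X.Modules} (e : L ≅ L') (h : RelProj.IsRelVeryAmple q L) :
    RelProj.IsRelVeryAmple q L' := by
  obtain ⟨E, hE, 𝒮, j, hj, P, p, chart, hP, O1, lam, hO1, i, hi, hip, ⟨eL⟩⟩ := h
  exact ⟨E, hE, 𝒮, j, hj, P, p, chart, hP, O1, lam, hO1, i, hi, hip, ⟨e.symm ≪≫ eL⟩⟩

/-- **The tensor product of two very ample modules is very ample.** -/
theorem isRelVeryAmple_tensor' {L L' : X.Modules} (hL : PicF.IsInvertible L)
    (hL' : PicF.IsInvertible L') (hva : RelProj.IsRelVeryAmple q L)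
    (hva' : RelProj.IsRelVeryAmple q L') :
    RelProj.IsRelVeryAmple q (CohB1.tensorMod L L') := by
  obtain ⟨E', hE', -, σ', hσ', -, -⟩ := exists_PB_of_veryAmple q L' hva'
  haveI := hE'
  haveI := hσ'
  exact isRelVeryAmple_tensor q L L' hL hva hL' E' σ'

/-- `L ≅ L^{⊗1}`. -/
def isoTensorPowOne {L : X.Modules} (hL : PicF.IsInvertible L) : L ≅ CohB1.tensorPow L 1 :=
  Groth.Agent.FrameIso.iso hL (Frame.self L) (Frame.pow L 1)

/-- **Positive tensor powers of a very ample module are very ample.** -/
theorem isRelVeryAmple_tensorPow {L : X.Modules} (hL : PicF.IsInvertible L)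
    (hva : RelProj.IsRelVeryAmple q L) (n : ℕ) (hn : 0 < n) :
    RelProj.IsRelVeryAmple q (CohB1.tensorPow L n) := by
  induction n with
  | zero => exact absurd hn (lt_irrefl 0)
  | succ m ih =>
    rcases Nat.eq_zero_or_pos m with rfl | hm
    · exact isRelVeryAmple_of_iso q (isoTensorPowOne hL) hva
    · exact isRelVeryAmple_tensor' q (isInvertible_tensorPow hL m) hL (ih hm) hva

end Groth.Agent.VATens
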