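import Mathlib
import Groth.Prelude
import Groth.Agent.Lib.Snap63_helper9
import Groth.Agent.Lib.FinPtsGen1_helper5
import Groth.Agent.Lib.HHVan_helper9
import Groth.Agent.Lib.VATens7_helper5

/-!
# The square of a globally generated ample module with `H¹ = 0` on a proper curve is very ample
(helper9)

APPEND-ONLY once landed.
-/

set_option autoImplicit false
universe u
open CategoryTheory CategoryTheory.Limits AlgebraicGeometry Opposite TopologicalSpace

namespace Snap9

open Kosz QcqsLoc QCohExtn GenLocH8 TensH8 FLFH8 CohB1 SerreCrit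

section Pow

variable {X : Scheme.{u}}

/-- the locus of a positive power of a section is the locus of the section -/
theorem genLocus_powHom_eq {L : X.Modules} (hL : PicF.IsInvertible L)
    (s : Coh.structureModule X ⟶ L) (d : ℕ) (hd : 0 < d) :
    CohB1.genLocus _ (SecTwist.powHom s d) = CohB1.genLocus L s := by
  apply le_antisymm _ (Groth.Agent.FinPtsGen.genLocus_le_genLocus_powHom hL s d)
  intro x hx
  obtain ⟨W, -, hxW, e, he⟩ := exists_isGen hL x
  obtain ⟨a, ha⟩ := he.exists_coef (SecTwist.val s W)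
  have h1 := genLocus_inf_eq s he a ha
  have h2 := genLocus_inf_eq (SecTwist.powHom s d) ((Frame.pow L d).isGen he) (a ^ d)
    (val_powHom_eq s d ha)
  have hxd : x ∈ X.basicOpen (a ^ d) := by
    rw [← h2]
    exact ⟨hx, hxW⟩
  have hxa : x ∈ X.basicOpen a := by
    rw [Scheme.mem_basicOpen _ _ _ hxW] at hxd ⊢
    rw [map_pow] at hxd
    exact (isUnit_pow_iff hd.ne').mp hxd
  rw [← h1] at hxa
  exact hxa.1

/-- a function on `X_t` times every large power of `t` extends to a global section -/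
theorem exists_global_of_local' [CompactSpace X] [QuasiSeparatedSpace X] {L : X.Modules}
    (hLi : PicF.IsInvertible L) (t : Coh.structureModule X ⟶ L) (U : X.Opens)
    (hU : U = CohB1.genLocus L t) (b : Γ(X, U)) :
    ∃ N0 : ℕ, ∀ N : ℕ, N0 ≤ N → ∃ y : Γ(CohB1.tensorPow L N, ⊤),
      rF (CohB1.tensorPow L N) (le_top : U ≤ ⊤) y = b • CycCov.lpow L U (SecTwist.val t U) N := by
  haveI := isQuasicoherent_structureModule (X := X)
  have he : IsGen L U (SecTwist.val t U) := isGen_val_of_le_genLocus t hU.le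
  have hloc : HasLocus (Frame.self L) (SecTwist.val t ⊤) U := by
    intro W hW e' he'
    rw [hU]
    exact (Frame.self L).genLocus_inf t W e' he'
  obtain ⟨N0, hN0⟩ := TFrame.exists_extend hLi (OO X) (Frame.self L) (V0 := ⊤)
    (by simpa using isCompact_univ (X := X)) (SecTwist.val t ⊤) (le_top : U ≤ ⊤) hloc (ofFn b)
  refine ⟨N0, fun N hN => ?_⟩
  obtain ⟨y, hy⟩ := hN0 N hN
    (TFrame.cast (one_mul N).symm (Groth.Agent.RLS.tframeOfFrame (Frame.pow L N)))
  refine ⟨y, ?_⟩
  have h1 := hy U le_rfl (SecTwist.val t U) he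
  have hc : (Frame.self L).coefOf (SecTwist.val t ⊤) U ((le_refl U).trans le_top)
      (SecTwist.val t U) he = 1 :=
    ((Frame.self L).coefOf_unique _ U _ _ he 1
      ((rF_val t _).trans (one_smul _ _).symm)).symm
  refine h1.trans ?_
  rw [hc, one_pow, one_smul, SubExt.rF_self]
  rfl

end Pow

section Ratio2

variable {A : Type u} [CommRing A] [IsNoetherianRing A] {X : Scheme.{u}}
  (f : X ⟶ Spec (CommRingCat.of A)) [IsProper f]
  (L : X.Modules) (hLi : PicF.IsInvertible L) {r : ℕ} (τ : Fin r → Γ(CohB1.tensorPow L 2, ⊤))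
  (hτ : ∀ y : Γ(CohB1.tensorPow L 2, ⊤), ∃ a : Fin r → A, y = ∑ j, (cf f (a j)) • τ j)
  (hng : ∀ n : ℕ, 2 ≤ n → AddSubgroup.closure {t |
    ∃ (m : (CohB1.tensorPow L n).val.obj (op ⊤)) (s : L.val.obj (op ⊤)),
      t = SecTwist.tmul (CohB1.tensorPow L n) L ⊤ m s} = ⊤)
  (t : Coh.structureModule X ⟶ L) (U : X.Opens) (hU : U ≤ CohB1.genLocus L t)
  (R' : Subring Γ(X, U))
  (hR1 : ∀ a : A, rX (le_top : U ≤ ⊤) (cf f a) ∈ R')
  (hR2 : ∀ j, ∃ ρ ∈ R', rF (CohB1.tensorPow L 2) (le_top : U ≤ ⊤) (τ j) =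
    ρ • CycCov.lpow L U (SecTwist.val t U) 2)

include hτ hR1 hR2 in
/-- the coefficient of a global section of `L^{⊗2}` lies in the subring -/
theorem coef_mem_two (y : Γ(CohB1.tensorPow L 2, ⊤)) :
    ∃ κ ∈ R', rF (CohB1.tensorPow L 2) (le_top : U ≤ ⊤) y =
      κ • CycCov.lpow L U (SecTwist.val t U) 2 := by
  obtain ⟨a, ha⟩ := hτ y
  choose ρ hρ hρe using hR2
  refine ⟨∑ j, rX (le_top : U ≤ ⊤) (cf f (a j)) * ρ j,
    Subring.sum_mem _ (fun j _ => Subring.mul_mem _ (hR1 (a j)) (hρ j)), ?_⟩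
  rw [ha]
  have hsum := map_sum (rF (CohB1.tensorPow L 2) (le_top : U ≤ ⊤))
    (fun j => (cf f (a j)) • τ j) Finset.univ
  refine hsum.trans ?_
  rw [Finset.sum_smul]
  apply Finset.sum_congr rfl
  intro j _
  rw [rF_smul, mul_smul, ← hρe j]
  rfl

include f hτ hng hU hR1 hR2 in
/-- **the coefficients of all global sections of all even powers lie in the subring** -/
theorem coef_mem_even (m : ℕ) : ∀ y : Γ(CohB1.tensorPow L (2 * m + 2), ⊤),
    ∃ κ ∈ R', rF (CohB1.tensorPow L (2 * m + 2)) (le_top : U ≤ ⊤) y =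
      κ • CycCov.lpow L U (SecTwist.val t U) (2 * m + 2) := by
  have he : IsGen L U (SecTwist.val t U) := isGen_val_of_le_genLocus t hU
  induction m with
  | zero =>
    intro y
    exact coef_mem_two f L τ hτ t U R' hR1 hR2 y
  | succ m ih =>
    intro (y : Γ(CohB1.tensorMod (CohB1.tensorPow L (2 * m + 2 + 1)) L, ⊤))
    show ∃ κ ∈ R', rF (CohB1.tensorMod (CohB1.tensorPow L (2 * m + 2 + 1)) L) (le_top : U ≤ ⊤) y =
      κ • SecTwist.tmul (CohB1.tensorPow L (2 * m + 2 + 1)) L U
        (SecTwist.tmul (CohB1.tensorPow L (2 * m + 2)) L U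
          (CycCov.lpow L U (SecTwist.val t U) (2 * m + 2)) (SecTwist.val t U)) (SecTwist.val t U)
    have hy : y ∈ AddSubgroup.closure {z |
        ∃ (p : (CohB1.tensorPow L (2 * m + 2 + 1)).val.obj (op ⊤)) (s : L.val.obj (op ⊤)),
          z = SecTwist.tmul (CohB1.tensorPow L (2 * m + 2 + 1)) L ⊤ p s} := by
      rw [hng (2 * m + 2 + 1) (by omega)]
      trivial
    induction hy using AddSubgroup.closure_induction with
    | mem z hz =>
      obtain ⟨p', a', rfl⟩ := hz
      -- second decomposition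
      have hp' : (p' : Γ(CohB1.tensorMod (CohB1.tensorPow L (2 * m + 2)) L, ⊤)) ∈
          AddSubgroup.closure {z |
          ∃ (p : (CohB1.tensorPow L (2 * m + 2)).val.obj (op ⊤)) (s : L.val.obj (op ⊤)),
            z = SecTwist.tmul (CohB1.tensorPow L (2 * m + 2)) L ⊤ p s} := by
        rw [hng (2 * m + 2) (by omega)]
        trivial
      obtain ⟨α', hα'⟩ := he.exists_coef (rF L (le_top : U ≤ ⊤) a')
      induction hp' using AddSubgroup.closure_induction with
      | mem z hz =>
        obtain ⟨p, a, rfl⟩ := hz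
        obtain ⟨κ, hκ, hκe⟩ := ih p
        obtain ⟨α, hα⟩ := he.exists_coef (rF L (le_top : U ≤ ⊤) a)
        -- the product `a a'` as a section of `L^{⊗2}`
        obtain ⟨β, hβ, hβe⟩ := coef_mem_two f L τ hτ t U R' hR1 hR2
          (SecTwist.tmul (CohB1.tensorPow L 1) L ⊤
            (SecTwist.tmul (CohB1.tensorPow L 0) L ⊤ (toM (1 : Γ(X, ⊤))) a) a')
        have e1 : rF (CohB1.tensorPow L 2) (le_top : U ≤ ⊤)
            (SecTwist.tmul (CohB1.tensorPow L 1) L ⊤
              (SecTwist.tmul (CohB1.tensorPow L 0) L ⊤ (toM (1 : Γ(X, ⊤))) a) a') =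
            (α * α') • CycCov.lpow L U (SecTwist.val t U) 2 := by
          refine (rF_tmul _ _ (le_top : U ≤ ⊤) _ _).trans ?_
          have e2 : rF (CohB1.tensorPow L 1) (le_top : U ≤ ⊤)
              (SecTwist.tmul (CohB1.tensorPow L 0) L ⊤ (toM (1 : Γ(X, ⊤))) a) =
              α • CycCov.lpow L U (SecTwist.val t U) 1 := by
            refine (rF_tmul _ _ (le_top : U ≤ ⊤) _ _).trans ?_
            have e3 : rF (CohB1.tensorPow L 0) (le_top : U ≤ ⊤) (toM (1 : Γ(X, ⊤))) =
                toM (1 : Γ(X, U)) := map_one (rX (le_top : U ≤ ⊤))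
            refine (tmul_congr _ L U e3 hα).trans ?_
            exact tmul_smul_right _ L U α _ _
          refine (tmul_congr _ L U e2 hα').trans ?_
          refine (tmul_smul_left _ L U α _ _).trans ?_
          refine (congrArg (fun q => α • q) (tmul_smul_right _ L U α' _ _)).trans ?_
          exact smul_smul α α' _
        have hβ' : β = α * α' := IsGen.coef_ext (isGen_lpow he 2) (hβe.symm.trans e1)
        refine ⟨κ * (α * α'), Subring.mul_mem _ hκ (hβ' ▸ hβ), ?_⟩
        refine (rF_tmul _ _ (le_top : U ≤ ⊤) _ _).trans ?_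
        have e4 : rF (CohB1.tensorPow L (2 * m + 2 + 1)) (le_top : U ≤ ⊤)
            (SecTwist.tmul (CohB1.tensorPow L (2 * m + 2)) L ⊤ p a) =
            (κ * α) • SecTwist.tmul (CohB1.tensorPow L (2 * m + 2)) L U
              (CycCov.lpow L U (SecTwist.val t U) (2 * m + 2)) (SecTwist.val t U) := by
          refine (rF_tmul _ _ (le_top : U ≤ ⊤) _ _).trans ?_
          refine (tmul_congr _ L U hκe hα).trans ?_
          refine (tmul_smul_left _ L U κ _ _).trans ?_
          refine (congrArg (fun q => κ • q) (tmul_smul_right _ L U α _ _)).trans ?_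
          exact smul_smul κ α _
        refine (tmul_congr _ L U e4 hα').trans ?_
        refine (tmul_smul_left _ L U (κ * α) _ _).trans ?_
        refine (congrArg (fun q => (κ * α) • q) (tmul_smul_right _ L U α' _ _)).trans ?_
        refine (smul_smul (κ * α) α' _).trans ?_
        rw [mul_assoc]
      | zero =>
        refine ⟨0, Subring.zero_mem _, ?_⟩
        have h0 : SecTwist.tmul (CohB1.tensorPow L (2 * m + 2 + 1)) L ⊤ 0 a' = 0 := by
          have := tmul_smul_left (CohB1.tensorPow L (2 * m + 2 + 1)) L ⊤ (0 : Γ(X, ⊤)) 0 a'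
          rw [zero_smul, zero_smul] at this
          exact this
        rw [zero_smul]
        exact (congrArg (rF _ (le_top : U ≤ ⊤)) h0).trans (map_zero _)
      | add a b _ _ ha hb =>
        obtain ⟨κ, hκ, hκe⟩ := ha
        obtain ⟨ρ, hρ, hρe⟩ := hb
        refine ⟨κ + ρ, Subring.add_mem _ hκ hρ, ?_⟩
        have h0 : SecTwist.tmul (CohB1.tensorPow L (2 * m + 2 + 1)) L ⊤ (a + b) a' =
            SecTwist.tmul (CohB1.tensorPow L (2 * m + 2 + 1)) L ⊤ a a' +
            SecTwist.tmul (CohB1.tensorPow L (2 * m + 2 + 1)) L ⊤ b a' :=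
          tmul_add_left _ L ⊤ a b a'
        refine (congrArg (rF _ (le_top : U ≤ ⊤)) h0).trans ?_
        refine (map_add (rF _ (le_top : U ≤ ⊤)) _ _).trans ?_
        exact (congrArg₂ (· + ·) hκe hρe).trans (add_smul κ ρ _).symm
      | neg a _ ha =>
        obtain ⟨κ, hκ, hκe⟩ := ha
        refine ⟨-κ, Subring.neg_mem _ hκ, ?_⟩
        have h0 : SecTwist.tmul (CohB1.tensorPow L (2 * m + 2 + 1)) L ⊤ (-a) a' =
            -SecTwist.tmul (CohB1.tensorPow L (2 * m + 2 + 1)) L ⊤ a a' := by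
          have := tmul_smul_left (CohB1.tensorPow L (2 * m + 2 + 1)) L ⊤ (-1 : Γ(X, ⊤)) a a'
          rw [neg_one_smul, neg_one_smul] at this
          exact this
        refine (congrArg (rF _ (le_top : U ≤ ⊤)) h0).trans ?_
        refine (map_neg (rF _ (le_top : U ≤ ⊤)) _).trans ?_
        exact (congrArg Neg.neg hκe).trans (neg_smul κ _).symm
    | zero =>
      refine ⟨0, Subring.zero_mem _, ?_⟩
      rw [zero_smul]
      exact map_zero _
    | add a b _ _ ha hb =>
      obtain ⟨κ, hκ, hκe⟩ := ha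
      obtain ⟨ρ, hρ, hρe⟩ := hb
      refine ⟨κ + ρ, Subring.add_mem _ hκ hρ, ?_⟩
      refine (map_add (rF _ (le_top : U ≤ ⊤)) _ _).trans ?_
      exact (congrArg₂ (· + ·) hκe hρe).trans (add_smul κ ρ _).symm
    | neg a _ ha =>
      obtain ⟨κ, hκ, hκe⟩ := ha
      refine ⟨-κ, Subring.neg_mem _ hκ, ?_⟩
      refine (map_neg (rF _ (le_top : U ≤ ⊤)) _).trans ?_
      exact (congrArg Neg.neg hκe).trans (neg_smul κ _).symm

end Ratio2

section Core2

variable {A : Type u} [CommRing A] [IsNoetherianRing A] {X : Scheme.{u}}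
  (f : X ⟶ Spec (CommRingCat.of A)) [IsProper f]

/-- the ratios of a spanning family of sections of `L^{⊗2}` generate the functions on `X_s` for a
section `s` of `L`, when the section ring of `L` is generated in degrees `≤ 2` -/
theorem veryAmple_family_two (L : X.Modules) (hLi : PicF.IsInvertible L) {r : ℕ}
    (τ : Fin r → Γ(CohB1.tensorPow L 2, ⊤))
    (hτ : ∀ y : Γ(CohB1.tensorPow L 2, ⊤), ∃ a : Fin r → A, y = ∑ j, (cf f (a j)) • τ j)
    (hng : ∀ n : ℕ, 2 ≤ n → AddSubgroup.closure {t |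
      ∃ (m : (CohB1.tensorPow L n).val.obj (op ⊤)) (s : L.val.obj (op ⊤)),
        t = SecTwist.tmul (CohB1.tensorPow L n) L ⊤ m s} = ⊤)
    (s : Coh.structureModule X ⟶ L) (U : X.Opens) (hU : U = CohB1.genLocus L s) (b : Γ(X, U)) :
    b ∈ Subring.closure (Set.range (f.appLE ⊤ U (fun _ _ => trivial)).hom ∪
      {c | ∃ i, SecTwist.val (homOfSec (CohB1.tensorPow L 2) (τ i)) U =
        c • SecTwist.val (SecTwist.powHom s 2) U}) := by
  classical
  haveI : CompactSpace X := QuasiCompact.compactSpace_of_compactSpace f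
  haveI : QuasiSeparatedSpace X := quasiSeparatedSpace_of_quasiSeparated f
  have hpw : SecTwist.val (SecTwist.powHom s 2) U = CycCov.lpow L U (SecTwist.val s U) 2 := by
    rw [SecTwist.val_powHom, ← CycCov.lpow_val]
  obtain ⟨R', hR'⟩ : ∃ R' : Subring Γ(X, U), R' = Subring.closure
      (Set.range (f.appLE ⊤ U (fun _ _ => trivial)).hom ∪
        {c | ∃ i, SecTwist.val (homOfSec (CohB1.tensorPow L 2) (τ i)) U =
          c • SecTwist.val (SecTwist.powHom s 2) U}) := ⟨_, rfl⟩
  rw [← hR']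
  have hR1 : ∀ a : A, rX (le_top : U ≤ ⊤) (cf f a) ∈ R' := by
    intro a
    rw [hR']
    apply Subring.subset_closure
    left
    exact ⟨(Scheme.ΓSpecIso (CommRingCat.of A)).inv.hom a, rfl⟩
  have he : IsGen L U (SecTwist.val s U) := isGen_val_of_le_genLocus _ hU.le
  have hR2 : ∀ j, ∃ ρ ∈ R', rF (CohB1.tensorPow L 2) (le_top : U ≤ ⊤) (τ j) =
      ρ • CycCov.lpow L U (SecTwist.val s U) 2 := by
    intro j
    obtain ⟨ρ, hρ⟩ := (isGen_lpow he 2).exists_coef
      (SecTwist.val (homOfSec (CohB1.tensorPow L 2) (τ j)) U)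
    refine ⟨ρ, ?_, ?_⟩
    · rw [hR']
      apply Subring.subset_closure
      right
      exact ⟨j, hρ.trans (congrArg (fun q => ρ • q) hpw.symm)⟩
    · exact (val_homOfSec (CohB1.tensorPow L 2) (τ j) U).symm.trans hρ
  obtain ⟨N0, hN0⟩ := exists_global_of_local' hLi s U hU b
  obtain ⟨y, hy⟩ := hN0 (2 * N0 + 2) (by omega)
  obtain ⟨κ, hκ, hκe⟩ := coef_mem_even f L τ hτ hng s U hU.le R' hR1 hR2 N0 y
  have hb : b = κ := IsGen.coef_ext (isGen_lpow he (2 * N0 + 2)) (hy.symm.trans hκe)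
  rw [hb]
  exact hκ

include f in
/-- `H¹` of the positive powers of a globally generated module with `H¹ = 0` vanishes -/
theorem HH1_tensorPow_of_gg
    (hfib : ∀ y : ↥(Spec (CommRingCat.of A)), topologicalKrullDim ↥(f.fiber y) ≤ 1)
    (L : X.Modules) (hLi : PicF.IsInvertible L) {r : ℕ}
    (σ : Fin r → (Coh.structureModule X ⟶ L))
    (hcov : ∀ x : X, ∃ j, x ∈ CohB1.genLocus L (σ j))
    (h1 : Subsingleton (Coh.HH X L 1)) (n : ℕ) :
    Subsingleton (Coh.HH X (CohB1.tensorPow L (n + 1)) 1) := by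
  haveI : IsLocallyNoetherian X := LocallyOfFiniteType.isLocallyNoetherian f
  induction n with
  | zero =>
    exact Groth.Agent.HHVan.subsingleton_of_iso (Groth.Agent.VATens.isoTensorPowOne hLi) 1 h1
  | succ n ih =>
    have hloc := exists_locData_of_cover σ hcov
    have c1 : Coh.IsCoh (CohB1.tensorPow L (n + 1)) :=
      ProperFinH9.isCoh_of_isInvertible (isInvertible_tensorPow hLi (n + 1))
    have c2 : Coh.IsCoh (CohB1.tensorMod (CohB1.tensorPow L (n + 1)) L) :=
      ProperFinH9.isCoh_of_isInvertible (isInvertible_tensorPow hLi (n + 1 + 1))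
    haveI hepi : Epi (Psi L σ (CohB1.tensorPow L (n + 1))) :=
      epi_Psi_of_locData (CohB1.tensorPow L (n + 1)) hloc
    show Subsingleton (Coh.HH X (CohB1.tensorMod (CohB1.tensorPow L (n + 1)) L) 1)
    exact HH1_of_epi_of_H2 (subsingleton_HH2_of_fibre_dim f hfib)
      (isCoh_biproduct_const _ c1) c2 (Psi L σ (CohB1.tensorPow L (n + 1)))
      (Kosz.subsingleton_HH_biproduct _ 1 (fun _ => ih))

include f in
/-- the section ring of a globally generated module with `H¹ = 0` is generated in degrees `≤ 2` -/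
theorem closure_tmul_eq_top_of_gg
    (hfib : ∀ y : ↥(Spec (CommRingCat.of A)), topologicalKrullDim ↥(f.fiber y) ≤ 1)
    (L : X.Modules) (hLi : PicF.IsInvertible L) {r : ℕ}
    (σ : Fin r → (Coh.structureModule X ⟶ L))
    (hcov : ∀ x : X, ∃ j, x ∈ CohB1.genLocus L (σ j))
    (h1 : Subsingleton (Coh.HH X L 1)) (n : ℕ) (hn : 2 ≤ n) :
    AddSubgroup.closure {t |
      ∃ (m : (CohB1.tensorPow L n).val.obj (op ⊤)) (s : L.val.obj (op ⊤)),
        t = SecTwist.tmul (CohB1.tensorPow L n) L ⊤ m s} = ⊤ := by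
  haveI : IsLocallyNoetherian X := LocallyOfFiniteType.isLocallyNoetherian f
  rw [eq_top_iff]
  rintro y -
  obtain ⟨m, rfl⟩ : ∃ m, n = m + 1 + 1 := ⟨n - 2, by omega⟩
  have hloc := exists_locData_of_cover σ hcov
  have hsurj := sections_Psi_surjective_of_H2 (subsingleton_HH2_of_fibre_dim f hfib) hLi
    σ hloc (CohB1.tensorPow L (m + 1))
    (ProperFinH9.isCoh_of_isInvertible (isInvertible_tensorPow hLi (m + 1)))
    (HH1_tensorPow_of_gg f hfib L hLi σ hcov h1 m)
  obtain ⟨w, hw⟩ := hsurj y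
  rw [Kosz.ap_Psi] at hw
  rw [← hw]
  exact AddSubgroup.sum_mem _ (fun j _ => AddSubgroup.subset_closure ⟨_, _, rfl⟩)

/-- **the square of a globally generated ample module with `H¹ = 0` satisfies the sections
criterion for very ampleness** (proper over a Noetherian ring, fibres of dimension `≤ 1`) -/
theorem exists_veryAmple_sections_sq
    (hfib : ∀ y : ↥(Spec (CommRingCat.of A)), topologicalKrullDim ↥(f.fiber y) ≤ 1)
    (L : X.Modules) (hL : CohB1.IsAmple L) (hgg : Curv2.IsGloballyGenerated L)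
    (h1 : Subsingleton (Coh.HH X L 1)) :
    ∃ F : Finset (Coh.structureModule X ⟶ CohB1.tensorPow L 2),
      ∀ x : X, ∃ t ∈ F, ∃ U : X.Opens, CohB1.genLocus _ t = U ∧ x ∈ U ∧ IsAffineOpen U ∧
        ∃ h : U ≤ f ⁻¹ᵁ ⊤, ∀ b : Γ(X, U),
          b ∈ Subring.closure (Set.range (f.appLE ⊤ U h).hom ∪
            {c | ∃ t' ∈ F, SecTwist.val t' U = c • SecTwist.val t U}) := by
  classical
  haveI : IsLocallyNoetherian X := LocallyOfFiniteType.isLocallyNoetherian f
  have hLi := hL.1
  obtain ⟨r1, σ, hσ⟩ := exists_generators f L (ProperFinH9.isCoh_of_isInvertible hLi)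
  have hcov := cover_of_generators f hLi hgg σ hσ
  obtain ⟨r2, τ, hτ⟩ := exists_generators f (CohB1.tensorPow L 2)
    (ProperFinH9.isCoh_of_isInvertible (isInvertible_tensorPow hLi 2))
  have hng := closure_tmul_eq_top_of_gg f hfib L hLi (fun j => homOfSec L (σ j)) hcov h1
  refine ⟨Finset.univ.image (fun j => homOfSec (CohB1.tensorPow L 2) (τ j)) ∪
    Finset.univ.image (fun i => SecTwist.powHom (homOfSec L (σ i)) 2), fun x => ?_⟩
  obtain ⟨i, hi⟩ := hcov x
  obtain ⟨U, hU⟩ : ∃ U : X.Opens, U = CohB1.genLocus L (homOfSec L (σ i)) := ⟨_, rfl⟩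
  refine ⟨SecTwist.powHom (homOfSec L (σ i)) 2,
    Finset.mem_union_right _ (Finset.mem_image.mpr ⟨i, Finset.mem_univ _, rfl⟩), U,
    (genLocus_powHom_eq hLi _ 2 (by norm_num)).trans hU.symm,
    hU ▸ hi, hU ▸ isAffineOpen_genLocus_of_isAmple_curve f hfib L hL _,
    fun _ _ => trivial, fun b => ?_⟩
  have h0 := veryAmple_family_two f L hLi τ hτ hng (homOfSec L (σ i)) U hU b
  refine Subring.closure_mono ?_ h0
  apply Set.union_subset_union_right
  rintro c ⟨j, hj⟩
  exact ⟨homOfSec (CohB1.tensorPow L 2) (τ j),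
    Finset.mem_union_left _ (Finset.mem_image.mpr ⟨j, Finset.mem_univ _, rfl⟩), hj⟩

end Core2

section Field2

variable (k : Type u) [Field k] (X : Scheme.{u}) [X.Over (Spec (CommRingCat.of k))]
  [IsProper (X ↘ Spec (CommRingCat.of k))]

/-- **the square of a globally generated ample module with `H¹ = 0` on a proper curve is very
ample** -/
theorem main6537 (hdim : topologicalKrullDim X = 1) (L : X.Modules)
    (hgg : Curv2.IsGloballyGenerated L) (h1 : Subsingleton (Coh.HH X L 1))
    (hample : CohB1.IsAmple L) :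
    ∃ (n : ℕ) (i : X ⟶ CohB1.ProjSpace n k), IsClosedImmersion i ∧
      i ≫ CohB1.ProjSpace.toSpec n k = X ↘ (Spec (CommRingCat.of k)) ∧
      Nonempty ((Scheme.Modules.pullback i).obj (Twist.twistProjSpace n k 1) ≅
        CohB1.tensorPow L 2) := by
  have hfib : ∀ y : ↥(Spec (CommRingCat.of k)),
      topologicalKrullDim ↥((X ↘ Spec (CommRingCat.of k)).fiber y) ≤ 1 := by
    intro y
    rw [IsHomeomorph.topologicalKrullDim_eq ((X ↘ Spec (CommRingCat.of k)).fiberHomeo y)
      ((X ↘ Spec (CommRingCat.of k)).fiberHomeo y).isHomeomorph, ← hdim]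
    exact topologicalKrullDim_subspace_le _ _
  haveI : IsNoetherianRing k := inferInstance
  obtain ⟨F, hF⟩ := exists_veryAmple_sections_sq (X ↘ Spec (CommRingCat.of k)) hfib L hample hgg h1
  obtain ⟨N, r, hr, hcomp, ⟨e⟩⟩ := Groth.Agent.VAmpPn.exists_immersion_of_sections
    (X ↘ Spec (CommRingCat.of k)) (CohB1.tensorPow L 2) (isInvertible_tensorPow hample.1 2) F hF
  refine ⟨N, r, ?_, hcomp, ⟨e⟩⟩
  haveI : IsProper (CohB1.ProjSpace.toSpec N k) :=
    Groth.Agent.Lib.ProjSpaceProperH4.isProper_toSpec N k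
  haveI : IsProper (r ≫ CohB1.ProjSpace.toSpec N k) := by rw [hcomp]; infer_instance
  haveI : IsProper r := IsProper.of_comp r (CohB1.ProjSpace.toSpec N k)
  haveI : IsImmersion r := hr
  exact IsClosedImmersion.of_isPreimmersion r r.isClosedMap.isClosed_range

end Field2

end Snap9
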