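import Mathlib
import Groth.Prelude
import Groth.Agent.Lib.ProjTwAmple2_helper5
import Groth.Agent.Lib.ProjGlobal_helper9
import Groth.Agent.Lib.Snap53_helper9
import Groth.Agent.Lib.Snap64_helper9
import Groth.Agent.Lib.NegTw5_helper9
import Groth.Agent.Lib.ProjTens1_helper9
import Groth.Agent.Lib.Horrocks6_helper9

/-!
# Hyperplane sections regular for a coherent module on projective space, part 1: linear forms as
sections of `O(1)` (helper9)
APPEND-ONLY once landed.
-/

set_option autoImplicit false
universe u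
open CategoryTheory CategoryTheory.Limits AlgebraicGeometry Opposite TopologicalSpace

namespace HypReg

open QcqsLoc QCohExtn GenLocH8 TensH8 FLFH8 Groth.Agent.ProjTw

section Sec

variable (k : Type u) [Field k] (N : ℕ)

/-- the section of `O(1)` attached to a linear form -/
noncomputable def sec (h : CohB1.polyGrading N k 1) :
    Coh.structureModule (CohB1.ProjSpace N k) ⟶ Twist.twistProjSpace N k 1 :=
  secHom1 (CohB1.polyGrading N k) h.2

theorem ap_sec_one (h : CohB1.polyGrading N k 1) :
    ap (sec k N h) ⊤ (toM (1 : Γ(CohB1.ProjSpace N k, ⊤))) =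
      topSec (CohB1.polyGrading N k) 1 h.1 h.2 (by simp) := by
  have := TensH8.val_homOfSec (Twist.twist (CohB1.polyGrading N k) 1)
    (topSec (CohB1.polyGrading N k) 1 h.1 h.2 (by simp)) ⊤
  rw [SubExt.rF_self] at this
  exact this

theorem sec_add (h h' : CohB1.polyGrading N k 1) :
    sec k N (h + h') = sec k N h + sec k N h' := by
  apply Snap9.hom_ext_of_ap_one
  have e : ap (sec k N h + sec k N h') ⊤ (toM (1 : Γ(CohB1.ProjSpace N k, ⊤))) =
      ap (sec k N h) ⊤ (toM 1) + ap (sec k N h') ⊤ (toM 1) := rfl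
  rw [e, ap_sec_one, ap_sec_one, ap_sec_one]
  apply Subtype.ext
  funext x
  apply Subtype.ext
  show Localization.mk _ _ = Localization.mk _ _ + Localization.mk _ _
  rw [Localization.add_mk_self]
  rfl

theorem toGlobal_val (c : k) (x : CohB1.ProjSpace N k) :
    Groth.Agent.ProjGlobal.valO (CohB1.polyGrading N k)
      (Coh.toGlobal (CohB1.ProjSpace.toSpec N k) c) ⟨x, trivial⟩ =
      Localization.mk (MvPolynomial.C c) 1 := by
  have h1 := Groth.Agent.ProjGlobal.valO_toSpecZero (CohB1.polyGrading N k)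
    (algebraMap k (CohB1.polyGrading N k 0) c) x
  have h2 : Coh.toGlobal (CohB1.ProjSpace.toSpec N k) c =
      (Proj.toSpecZero (CohB1.polyGrading N k)).appTop.hom
        ((Scheme.ΓSpecIso (CommRingCat.of (CohB1.polyGrading N k 0))).inv.hom
          (algebraMap k (CohB1.polyGrading N k 0) c)) := by
    unfold Coh.toGlobal CohB1.ProjSpace.toSpec
    rw [Scheme.Hom.comp_appTop]
    have h3 := congr($(Scheme.ΓSpecIso_inv_naturality
      (CommRingCat.ofHom (algebraMap k (CohB1.polyGrading N k 0)))) c)
    simp only [CommRingCat.hom_comp, RingHom.coe_comp, Function.comp_apply,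
      CommRingCat.hom_ofHom] at h3 ⊢
    exact congrArg (fun t => (Proj.toSpecZero (CohB1.polyGrading N k)).appTop.hom t) h3.symm
  rw [h2]
  exact h1

theorem sec_smul (c : k) (h : CohB1.polyGrading N k 1) :
    sec k N (c • h) = c • sec k N h := by
  apply Snap9.hom_ext_of_ap_one
  have e : ap (c • sec k N h) ⊤ (toM (1 : Γ(CohB1.ProjSpace N k, ⊤))) =
      (show Γ(CohB1.ProjSpace N k, ⊤) from Coh.toGlobal (CohB1.ProjSpace.toSpec N k) c) •
        ap (sec k N h) ⊤ (toM 1) := by
    have := KLin.smul_app_apply c (sec k N h) ⊤ (toM (1 : Γ(CohB1.ProjSpace N k, ⊤)))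
    refine this.trans ?_
    congr 1
  rw [e, ap_sec_one, ap_sec_one]
  apply Subtype.ext
  funext x
  apply Subtype.ext
  refine Eq.trans ?_ (smul_valN (CohB1.polyGrading N k) 1 (op ⊤)
    (Coh.toGlobal (CohB1.ProjSpace.toSpec N k) c)
    (topSec (CohB1.polyGrading N k) 1 h.1 h.2 (by simp)) x).symm
  have hv := toGlobal_val k N c x.1
  unfold Groth.Agent.ProjGlobal.valO at hv
  erw [hv]
  show Localization.mk _ _ = Localization.mk _ _ * Localization.mk _ _
  rw [Localization.mk_mul, Localization.mk_eq_mk_iff, Localization.r_iff_exists]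
  refine ⟨1, ?_⟩
  simp only [Submonoid.coe_one, one_mul]
  show ((c • h : CohB1.polyGrading N k 1) : MvPolynomial (Fin (N + 1)) k) = _
  rw [Submodule.coe_smul, MvPolynomial.smul_eq_C_mul]

end Sec

end HypReg
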