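import Mathlib
import Groth.Prelude
import Groth.Agent.Lib.HypReg1_helper9
import Groth.Agent.Lib.PForm2_helper9

/-!
# Hyperplane sections regular for a coherent module on projective space, part 2: linearity of
`tmap`, `tauOf`, `mu` in the morphism (helper9)
APPEND-ONLY once landed.
-/

set_option autoImplicit false
universe u
open CategoryTheory CategoryTheory.Limits AlgebraicGeometry Opposite TopologicalSpace

namespace HypReg

open QcqsLoc QCohExtn GenLocH8 TensH8 FLFH8 NegTw9 Groth.Agent.TensInv

section Lin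

variable (k : Type u) [Field k] {X : Scheme.{u}} [X.Over (Spec (CommRingCat.of k))]

/-- the restriction of a scalar to an open -/
noncomputable def sc (c : k) (U : X.Opens) : Γ(X, U) :=
  X.presheaf.map (homOfLE (le_top : U ≤ ⊤)).op
    (Coh.toGlobal (X ↘ Spec (CommRingCat.of k)) c)

theorem ap_smul_hom {M M' : X.Modules} (c : k) (f : M ⟶ M') (U : X.Opens) (m : Γ(M, U)) :
    ap (c • f) U m = sc k c U • ap f U m := KLin.smul_app_apply c f U m

theorem ap_add_hom {M M' : X.Modules} (f g : M ⟶ M') (U : X.Opens) (m : Γ(M, U)) :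
    ap (f + g) U m = ap f U m + ap g U m := rfl

theorem tmap_add {K K' : X.Modules} (j j' : K ⟶ K') (M : X.Modules) :
    tmap (j + j') M = tmap j M + tmap j' M := by
  apply PFormH9.hom_ext_tmul
  intro U a m
  show ap (tmap (j + j') M) U (SecTwist.tmul K M U a m) =
    ap (tmap j M + tmap j' M) U (SecTwist.tmul K M U a m)
  rw [ap_add_hom (tmap j M) (tmap j' M), tmap_tmul, tmap_tmul, tmap_tmul, ap_add_hom j j']
  exact tmul_add_left K' M U _ _ m

theorem tmap_smul {K K' : X.Modules} (c : k) (j : K ⟶ K') (M : X.Modules) :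
    tmap (c • j) M = c • tmap j M := by
  apply PFormH9.hom_ext_tmul
  intro U a m
  show ap (tmap (c • j) M) U (SecTwist.tmul K M U a m) =
    ap (c • tmap j M) U (SecTwist.tmul K M U a m)
  rw [ap_smul_hom k c (tmap j M), tmap_tmul, tmap_tmul, ap_smul_hom k c j]
  exact tmul_smul_left K' M U _ _ m

theorem tauOf_add {P T : X.Modules} (t t' : Coh.structureModule X ⟶ P)
    (ε : CohB1.tensorMod P T ≅ Coh.structureModule X) :
    tauOf (t + t') ε = tauOf t ε + tauOf t' ε := by
  unfold tauOf
  rw [tmap_add, Preadditive.add_comp, Preadditive.comp_add]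

theorem tauOf_smul {P T : X.Modules} (c : k) (t : Coh.structureModule X ⟶ P)
    (ε : CohB1.tensorMod P T ≅ Coh.structureModule X) :
    tauOf (c • t) ε = c • tauOf t ε := by
  unfold tauOf
  rw [tmap_smul, Linear.smul_comp, Linear.comp_smul]

theorem mu_add {T : X.Modules} (τ τ' : T ⟶ Coh.structureModule X) (G : X.Modules) :
    mu (τ + τ') G = mu τ G + mu τ' G := by
  apply PFormH9.hom_ext_tmul
  intro U g a
  show ap (mu (τ + τ') G) U (SecTwist.tmul G T U g a) =
    ap (mu τ G + mu τ' G) U (SecTwist.tmul G T U g a)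
  rw [ap_add_hom (mu τ G) (mu τ' G), mu_tmul, mu_tmul, mu_tmul, ap_add_hom τ τ']
  exact add_smul _ _ _

theorem mu_smul {T : X.Modules} (c : k) (τ : T ⟶ Coh.structureModule X) (G : X.Modules) :
    mu (c • τ) G = c • mu τ G := by
  apply PFormH9.hom_ext_tmul
  intro U g a
  show ap (mu (c • τ) G) U (SecTwist.tmul G T U g a) =
    ap (c • mu τ G) U (SecTwist.tmul G T U g a)
  rw [ap_smul_hom k c (mu τ G), mu_tmul, mu_tmul, ap_smul_hom k c τ]
  exact mul_smul _ _ _

end Lin

end HypReg
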