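import Mathlib
import Groth.Prelude
import Groth.Agent.Lib.HypReg2_helper9
import Groth.Agent.Lib.ProjSpaceProper_helper4

/-!
# Hyperplane sections regular for a coherent module on projective space, part 3: multiplication
by a linear form on global sections (helper9)
APPEND-ONLY once landed.
-/

set_option autoImplicit false
universe u
open CategoryTheory CategoryTheory.Limits AlgebraicGeometry Opposite TopologicalSpace

namespace HypReg

open QcqsLoc QCohExtn GenLocH8 TensH8 FLFH8 NegTw9 Groth.Agent.TensInv Groth.Agent.ProjTens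

section Mul

variable (k : Type u) [Field k] (N : ℕ)

/-- multiplication by a linear form `h` : `Hom(O, F(-1)) → Hom(O, F)`, bilinear in `(h, σ)` -/
noncomputable def mulMap
    (ε : CohB1.tensorMod (OO N k 1) (OO N k (-1)) ≅ Coh.structureModule (CohB1.ProjSpace N k))
    (F : (CohB1.ProjSpace N k).Modules) :
    CohB1.polyGrading N k 1 →ₗ[k]
      ((Coh.structureModule (CohB1.ProjSpace N k) ⟶ CohB1.tensorMod F (OO N k (-1))) →ₗ[k]
        (Coh.structureModule (CohB1.ProjSpace N k) ⟶ F)) where
  toFun h :=
    { toFun := fun σ => σ ≫ mu (tauOf (sec k N h) ε) F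
      map_add' := fun σ σ' => Preadditive.add_comp _ _ _ _ _ _
      map_smul' := fun c σ => Linear.smul_comp _ _ _ _ _ _ }
  map_add' h h' := by
    refine LinearMap.ext (fun σ => ?_)
    show σ ≫ mu (tauOf (sec k N (h + h')) ε) F =
      σ ≫ mu (tauOf (sec k N h) ε) F + σ ≫ mu (tauOf (sec k N h') ε) F
    rw [sec_add, tauOf_add, mu_add, Preadditive.comp_add]
  map_smul' c h := by
    refine LinearMap.ext (fun σ => ?_)
    show σ ≫ mu (tauOf (sec k N (c • h)) ε) F = c • (σ ≫ mu (tauOf (sec k N h) ε) F)
    rw [sec_smul, tauOf_smul, mu_smul, Linear.comp_smul]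

theorem mulMap_apply
    (ε : CohB1.tensorMod (OO N k 1) (OO N k (-1)) ≅ Coh.structureModule (CohB1.ProjSpace N k))
    (F : (CohB1.ProjSpace N k).Modules) (h : CohB1.polyGrading N k 1)
    (σ : Coh.structureModule (CohB1.ProjSpace N k) ⟶ CohB1.tensorMod F (OO N k (-1))) :
    mulMap k N ε F h σ = σ ≫ mu (tauOf (sec k N h) ε) F := rfl

/-- the non-vanishing locus of the section attached to a linear form -/
theorem genLocus_sec (h : CohB1.polyGrading N k 1) :
    CohB1.genLocus (OO N k 1) (sec k N h) = Proj.basicOpen (CohB1.polyGrading N k) h.1 := by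
  have h1 := Groth.Agent.ProjTw.genLocus_secHom1 (CohB1.polyGrading N k) (hcov' N k) h.2
  rw [← h1]
  exact (Snap9.genLocus_powHom_eq (Groth.Agent.Horrocks.isInvertible_OO N k 1) (sec k N h) 1
    one_pos).symm

/-- multiplication by a linear form not vanishing at the associated points of `F` is
injective -/
theorem mulMap_injective
    (ε : CohB1.tensorMod (OO N k 1) (OO N k (-1)) ≅ Coh.structureModule (CohB1.ProjSpace N k))
    (F : (CohB1.ProjSpace N k).Modules) (hF : Coh.IsCoh F) (h : CohB1.polyGrading N k 1)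
    (hreg : ∀ x : CohB1.ProjSpace N k, Curv2.IsAssPoint F x →
      x ∈ Proj.basicOpen (CohB1.polyGrading N k) h.1) :
    Function.Injective (mulMap k N ε F h) := by
  haveI := Groth.Agent.Lib.ProjSpaceProperH4.isProper_toSpec N k
  haveI : IsLocallyNoetherian (CohB1.ProjSpace N k) :=
    LocallyOfFiniteType.isLocallyNoetherian (CohB1.ProjSpace.toSpec N k)
  haveI := hF.1
  haveI : Mono (mu (tauOf (sec k N h) ε) F) := by
    refine mono_mu (Groth.Agent.Horrocks.isInvertible_OO N k (-1)) _ F ?_
    intro x hx W e he hxW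
    rw [basicOpen_tauOf (Groth.Agent.Horrocks.isInvertible_OO N k 1) (sec k N h) ε he,
      genLocus_sec]
    exact ⟨hreg x hx, hxW⟩
  intro σ σ' hσ
  rw [mulMap_apply, mulMap_apply] at hσ
  exact (cancel_mono _).mp hσ

end Mul

end HypReg
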