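import Mathlib
import Groth.Prelude

/-!
# Hyperplane sections regular for a coherent module on projective space, part 4: linear algebra
and the linear forms vanishing at a non-closed point (helper9)
APPEND-ONLY once landed.
-/

set_option autoImplicit false
universe u
open CategoryTheory AlgebraicGeometry TopologicalSpace

namespace HypReg

section Abstract

/-- **the eigenvector argument**: if `A h : V → W` is injective for every `h` outside finitely
many subspaces of codimension at least two, then `dim V + 1 ≤ dim W` (when `W ≠ 0`) -/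
theorem finrank_succ_le_of_regular {k : Type*} [Field k] [IsAlgClosed k]
    {S V W : Type*} [AddCommGroup S] [Module k S] [AddCommGroup V] [Module k V]
    [AddCommGroup W] [Module k W] [Module.Finite k V] [Module.Finite k W]
    (A : S →ₗ[k] (V →ₗ[k] W)) {ι : Type*} [Finite ι] (p : ι → Submodule k S)
    (hinj : ∀ h : S, (∀ i, h ∉ p i) → Function.Injective (A h))
    (hp : ∀ i, p i ≠ ⊤)
    (hcodim : ∀ i (h : S), h ∉ p i → p i ⊔ Submodule.span k {h} ≠ ⊤)
    (hW : 1 ≤ Module.finrank k W) :
    Module.finrank k V + 1 ≤ Module.finrank k W := by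
  by_contra hlt
  obtain ⟨h, hh⟩ := Submodule.exists_forall_notMem_of_forall_ne_top p hp
  obtain ⟨h', hh'⟩ := Submodule.exists_forall_notMem_of_forall_ne_top
    (fun i => p i ⊔ Submodule.span k {h}) (fun i => hcodim i h (hh i))
  have hreg : ∀ c : k, ∀ i, h' - c • h ∉ p i := by
    intro c i hmem
    apply hh' i
    have : h' = (h' - c • h) + c • h := by abel
    rw [this]
    exact Submodule.add_mem_sup hmem
      (Submodule.smul_mem _ _ (Submodule.mem_span_singleton_self h))
  have hinjh := hinj h hh
  have hle : Module.finrank k V ≤ Module.finrank k W :=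
    LinearMap.finrank_le_finrank_of_injective hinjh
  have heq : Module.finrank k V = Module.finrank k W := by omega
  have hsurj : Function.Surjective (A h) :=
    (LinearMap.injective_iff_surjective_of_finrank_eq_finrank heq).mp hinjh
  let e := LinearEquiv.ofBijective (A h) ⟨hinjh, hsurj⟩
  let φ : Module.End k V := e.symm.toLinearMap ∘ₗ A h'
  haveI : Nontrivial V := Module.nontrivial_of_finrank_pos (R := k) (by omega)
  obtain ⟨c, hc⟩ := Module.End.exists_eigenvalue φ
  obtain ⟨v, hv⟩ := hc.exists_hasEigenvector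
  have h1 : φ v = c • v := hv.apply_eq_smul
  have h2 : A h' v = c • A h v := by
    have h3 : e (φ v) = e (c • v) := congrArg e h1
    have h4 : e (φ v) = A h' v := by
      show e (e.symm (A h' v)) = A h' v
      exact e.apply_symm_apply _
    rw [h4, map_smul] at h3
    exact h3
  have h3 : A (h' - c • h) v = 0 := by
    rw [map_sub, map_smul, LinearMap.sub_apply, LinearMap.smul_apply, h2, sub_self]
  have h4 := hinj (h' - c • h) (hreg c) (h3.trans (map_zero _).symm)
  exact hv.2 h4

end Abstract

section Alg

variable {k : Type u} [Field k] {N : ℕ}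

/-- the linear forms lying in a homogeneous prime -/
def pOf (ξ : ProjectiveSpectrum (CohB1.polyGrading N k)) :
    Submodule k (CohB1.polyGrading N k 1) where
  carrier := {h | h.1 ∈ ξ.asHomogeneousIdeal.toIdeal}
  add_mem' := fun {a b} ha hb => ξ.asHomogeneousIdeal.toIdeal.add_mem ha hb
  zero_mem' := ξ.asHomogeneousIdeal.toIdeal.zero_mem
  smul_mem' := fun c h hh => by
    show ((c • h : CohB1.polyGrading N k 1) : MvPolynomial (Fin (N + 1)) k) ∈
      ξ.asHomogeneousIdeal.toIdeal
    rw [Submodule.coe_smul, MvPolynomial.smul_eq_C_mul]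
    exact Ideal.mul_mem_left _ _ hh

theorem mem_pOf (ξ : ProjectiveSpectrum (CohB1.polyGrading N k))
    (h : CohB1.polyGrading N k 1) :
    h ∈ pOf ξ ↔ h.1 ∈ ξ.asHomogeneousIdeal.toIdeal := Iff.rfl

/-- every polynomial is a polynomial in `h` modulo the ideal generated by the linear forms of
`p`, when `p + k h` is everything -/
theorem exists_aeval_sub_mem (p : Submodule k (CohB1.polyGrading N k 1))
    (h : CohB1.polyGrading N k 1)
    (htop : p ⊔ Submodule.span k {h} = ⊤) (J : Ideal (MvPolynomial (Fin (N + 1)) k))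
    (hJ : ∀ l ∈ p, l.1 ∈ J) (f : MvPolynomial (Fin (N + 1)) k) :
    ∃ q : Polynomial k, f - Polynomial.aeval h.1 q ∈ J := by
  induction f using MvPolynomial.induction_on with
  | C a =>
    refine ⟨Polynomial.C a, ?_⟩
    rw [Polynomial.aeval_C]
    simp
  | add f g hf hg =>
    obtain ⟨q, hq⟩ := hf
    obtain ⟨q', hq'⟩ := hg
    refine ⟨q + q', ?_⟩
    rw [map_add]
    have : f + g - (Polynomial.aeval h.1 q + Polynomial.aeval h.1 q') =
        (f - Polynomial.aeval h.1 q) + (g - Polynomial.aeval h.1 q') := by ring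
    rw [this]
    exact J.add_mem hq hq'
  | mul_X f i hf =>
    obtain ⟨q, hq⟩ := hf
    have hXi : (⟨MvPolynomial.X i, MvPolynomial.isHomogeneous_X k i⟩ :
        CohB1.polyGrading N k 1) ∈ p ⊔ Submodule.span k {h} := by
      rw [htop]; trivial
    obtain ⟨l, hl, m, hm, hlm⟩ := Submodule.mem_sup.mp hXi
    obtain ⟨c, rfl⟩ := Submodule.mem_span_singleton.mp hm
    have hX : (MvPolynomial.X i : MvPolynomial (Fin (N + 1)) k) = l.1 + MvPolynomial.C c * h.1 := by
      have := congrArg Subtype.val hlm
      simp only [Submodule.coe_add, Submodule.coe_smul, MvPolynomial.smul_eq_C_mul] at this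
      exact this.symm
    refine ⟨q * (Polynomial.C c * Polynomial.X), ?_⟩
    rw [map_mul, map_mul, Polynomial.aeval_C, Polynomial.aeval_X]
    have : f * MvPolynomial.X i - Polynomial.aeval h.1 q * ((algebraMap k (MvPolynomial (Fin (N + 1)) k)) c * h.1) =
        (f - Polynomial.aeval h.1 q) * MvPolynomial.X i + Polynomial.aeval h.1 q * l.1 := by
      rw [hX]
      simp only [MvPolynomial.algebraMap_eq]
      ring
    rw [this]
    exact J.add_mem (J.mul_mem_right _ hq) (J.mul_mem_left _ (hJ l hl))

/-- a polynomial in a linear form `h ∉ η` which lies in the homogeneous prime `η` is zero -/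
theorem aeval_eq_zero_of_mem (η : ProjectiveSpectrum (CohB1.polyGrading N k))
    (h : CohB1.polyGrading N k 1) (hh : h.1 ∉ η.asHomogeneousIdeal.toIdeal)
    (q : Polynomial k) (hq : Polynomial.aeval h.1 q ∈ η.asHomogeneousIdeal.toIdeal) : q = 0 := by
  ext n
  rw [Polynomial.coeff_zero]
  have hhom := η.asHomogeneousIdeal.isHomogeneous n hq
  have hpow : ∀ i : ℕ, h.1 ^ i ∈ CohB1.polyGrading N k i := fun i => by
    simpa using SetLike.pow_mem_graded i h.2
  have hterm : ∀ i : ℕ, q.coeff i • h.1 ^ i ∈ CohB1.polyGrading N k i := fun i =>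
    Submodule.smul_mem _ _ (hpow i)
  have hdec : (DirectSum.decompose (CohB1.polyGrading N k) (Polynomial.aeval h.1 q) n :
      MvPolynomial (Fin (N + 1)) k) = q.coeff n • h.1 ^ n := by
    rw [Polynomial.aeval_eq_sum_range, DirectSum.decompose_sum, DFinsupp.finsetSum_apply,
      AddSubmonoidClass.coe_finsetSum]
    rw [Finset.sum_eq_single n]
    · exact DirectSum.decompose_of_mem_same _ (hterm n)
    · intro i _ hin
      exact DirectSum.decompose_of_mem_ne _ (hterm i) hin
    · intro hn
      have : q.coeff n = 0 := by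
        apply Polynomial.coeff_eq_zero_of_natDegree_lt
        simp only [Finset.mem_range, not_lt] at hn
        omega
      rw [this, zero_smul, DirectSum.decompose_zero]
      rfl
  rw [hdec, MvPolynomial.smul_eq_C_mul] at hhom
  rcases η.isPrime.mem_or_mem hhom with h1 | h1
  · by_contra hne
    apply η.isPrime.ne_top
    rw [Ideal.eq_top_iff_one]
    have : (1 : MvPolynomial (Fin (N + 1)) k) =
        MvPolynomial.C (q.coeff n)⁻¹ * MvPolynomial.C (q.coeff n) := by
      rw [← MvPolynomial.C_mul, inv_mul_cancel₀ hne, MvPolynomial.C_1]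
    rw [this]
    exact Ideal.mul_mem_left _ _ h1
  · exact absurd (η.isPrime.mem_of_pow_mem n h1) hh

/-- **a point of projective space at which the linear forms vanish in codimension at most one
is closed** -/
theorem isClosed_singleton_of_sup_eq_top
    (hcov : ∀ η : ProjectiveSpectrum (CohB1.polyGrading N k),
      ∃ f ∈ CohB1.polyGrading N k 1, f ∉ η.asHomogeneousIdeal.toIdeal)
    (ξ : ProjectiveSpectrum (CohB1.polyGrading N k)) (h : CohB1.polyGrading N k 1)
    (htop : pOf ξ ⊔ Submodule.span k {h} = ⊤) :
    IsClosed ({ξ} : Set (ProjectiveSpectrum (CohB1.polyGrading N k))) := by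
  rw [← closure_subset_iff_isClosed]
  intro η hη
  rw [← ProjectiveSpectrum.zeroLocus_vanishingIdeal_eq_closure,
    ProjectiveSpectrum.vanishingIdeal_singleton, ProjectiveSpectrum.mem_zeroLocus] at hη
  rw [Set.mem_singleton_iff]
  have hle : ξ.asHomogeneousIdeal.toIdeal ≤ η.asHomogeneousIdeal.toIdeal := fun x hx => hη hx
  have hhη : h.1 ∉ η.asHomogeneousIdeal.toIdeal := by
    intro hmem
    obtain ⟨f, hf, hfη⟩ := hcov η
    apply hfη
    have hf' : (⟨f, hf⟩ : CohB1.polyGrading N k 1) ∈ pOf ξ ⊔ Submodule.span k {h} := by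
      rw [htop]; trivial
    obtain ⟨l, hl, m, hm, hlm⟩ := Submodule.mem_sup.mp hf'
    obtain ⟨c, rfl⟩ := Submodule.mem_span_singleton.mp hm
    have hfe : f = l.1 + MvPolynomial.C c * h.1 := by
      have := congrArg Subtype.val hlm
      simp only [Submodule.coe_add, Submodule.coe_smul, MvPolynomial.smul_eq_C_mul] at this
      exact this.symm
    rw [hfe]
    exact Ideal.add_mem _ (hle hl) (Ideal.mul_mem_left _ _ hmem)
  have hge : η.asHomogeneousIdeal.toIdeal ≤ ξ.asHomogeneousIdeal.toIdeal := by
    intro f hf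
    obtain ⟨q, hq⟩ := exists_aeval_sub_mem (pOf ξ) h htop ξ.asHomogeneousIdeal.toIdeal
      (fun l hl => hl) f
    have h1 : Polynomial.aeval h.1 q ∈ η.asHomogeneousIdeal.toIdeal := by
      have := Ideal.sub_mem _ hf (hle hq)
      rwa [sub_sub_cancel] at this
    have hq0 := aeval_eq_zero_of_mem η h hhη q h1
    rw [hq0, map_zero, sub_zero] at hq
    exact hq
  have heq : η.asHomogeneousIdeal = ξ.asHomogeneousIdeal :=
    HomogeneousIdeal.toIdeal_injective (le_antisymm hge hle)
  exact ProjectiveSpectrum.ext heq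

end Alg

end HypReg
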