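import Mathlib

/-!
# Finite resolutions by objects with a property: splicing (helper9)
APPEND-ONLY once landed.
-/

set_option autoImplicit false
open CategoryTheory CategoryTheory.Limits

namespace Groth.Agent.SyzTw

universe v u

variable {C : Type u} [Category.{v} C] [Abelian C] (P : C → Prop)

/-- `K` has a resolution of length at most `ℓ` by objects satisfying `P` -/
def Res (ℓ : ℕ) (K : C) : Prop :=
  ∃ (D : ChainComplex C ℕ) (π : D.X 0 ⟶ K) (w : D.d 1 0 ≫ π = 0),
    (∀ i : ℕ, ℓ < i → IsZero (D.X i)) ∧ (∀ i : ℕ, P (D.X i)) ∧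
    (∀ i : ℕ, 1 ≤ i → IsZero (D.homology i)) ∧ Epi π ∧ (ShortComplex.mk (D.d 1 0) π w).Exact

variable {P}

theorem Res.mono {ℓ ℓ' : ℕ} (h : ℓ ≤ ℓ') {K : C} (hK : Res P ℓ K) : Res P ℓ' K := by
  obtain ⟨D, π, w, h1, h2, h3, h4, h5⟩ := hK
  exact ⟨D, π, w, fun i hi => h1 i (by omega), h2, h3, h4, h5⟩

/-- an object satisfying `P` resolves itself -/
theorem res_zero (hP0 : ∀ Z : C, IsZero Z → P Z) {K : C} (hK : P K) : Res P 0 K := by
  refine ⟨(ChainComplex.single₀ C).obj K, 𝟙 K, ?_, ?_, ?_, ?_, inferInstanceAs (Epi (𝟙 K)), ?_⟩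
  · have hz : IsZero (((ChainComplex.single₀ C).obj K).X 1) :=
      HomologicalComplex.isZero_single_obj_X _ _ _ _ (by omega)
    exact hz.eq_of_src _ _
  · intro i hi
    exact HomologicalComplex.isZero_single_obj_X _ _ _ _ (by omega)
  · intro i
    rcases Nat.eq_zero_or_pos i with rfl | hi
    · exact hK
    · exact hP0 _ (HomologicalComplex.isZero_single_obj_X _ _ _ _ (by omega))
  · intro i hi
    exact HomologicalComplex.isZero_single_obj_homology (c := ComplexShape.down ℕ) (j := 0) K i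
      (by omega)
  · have hz : IsZero (((ChainComplex.single₀ C).obj K).X 1) :=
      HomologicalComplex.isZero_single_obj_X _ _ _ _ (by omega)
    have h0 : ((ChainComplex.single₀ C).obj K).d 1 0 = 0 := hz.eq_of_src _ _
    rw [ShortComplex.exact_iff_mono _ h0]
    exact inferInstanceAs (Mono (𝟙 K))

/-- splicing: a resolution of the kernel and a cover by an object satisfying `P` -/
theorem res_step {ℓ : ℕ} {K' L K : C} (ι : K' ⟶ L) (φ : L ⟶ K) (hι : ι ≫ φ = 0)
    (hS : (ShortComplex.mk ι φ hι).ShortExact) (hL : P L) (hK' : Res P ℓ K') :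
    Res P (ℓ + 1) K := by
  obtain ⟨D, π, w, h1, h2, h3, h4, h5⟩ := hK'
  haveI : Mono ι := hS.mono_f
  haveI : Epi φ := hS.epi_g
  have w' : D.d 1 0 ≫ π ≫ ι = 0 := by rw [← Category.assoc, w, zero_comp]
  refine ⟨D.augment (π ≫ ι) w', φ, ?_, ?_, ?_, ?_, ‹Epi φ›, ?_⟩
  · show (π ≫ ι) ≫ φ = 0
    rw [Category.assoc, hι, comp_zero]
  · intro i hi
    obtain ⟨j, rfl⟩ : ∃ j, i = j + 1 := ⟨i - 1, by omega⟩
    exact h1 j (by omega)
  · intro i
    rcases Nat.eq_zero_or_pos i with rfl | hi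
    · exact hL
    · obtain ⟨j, rfl⟩ : ∃ j, i = j + 1 := ⟨i - 1, by omega⟩
      exact h2 j
  · intro i hi
    obtain ⟨j, rfl⟩ : ∃ j, i = j + 1 := ⟨i - 1, by omega⟩
    rw [← HomologicalComplex.exactAt_iff_isZero_homology,
      HomologicalComplex.exactAt_iff' _ (j + 2) (j + 1) j (by simp) (by simp)]
    rcases Nat.eq_zero_or_pos j with rfl | hj
    · -- exactness at degree 1: `(D.d 1 0, π ≫ ι)`
      let S₁ : ShortComplex C := ShortComplex.mk (D.d 1 0) π w
      let S₂ : ShortComplex C := (D.augment (π ≫ ι) w').sc' 2 1 0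
      let α : S₁ ⟶ S₂ :=
        { τ₁ := 𝟙 _
          τ₂ := 𝟙 _
          τ₃ := ι
          comm₁₂ := by
            show 𝟙 _ ≫ (D.augment (π ≫ ι) w').d 2 1 = D.d 1 0 ≫ 𝟙 _
            rw [Category.id_comp, Category.comp_id]
            rfl
          comm₂₃ := by
            show 𝟙 _ ≫ (D.augment (π ≫ ι) w').d 1 0 = π ≫ ι
            rw [Category.id_comp]
            rfl }
      haveI : Epi α.τ₁ := inferInstanceAs (Epi (𝟙 _))
      haveI : IsIso α.τ₂ := inferInstanceAs (IsIso (𝟙 _))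
      haveI : Mono α.τ₃ := inferInstanceAs (Mono ι)
      exact (ShortComplex.exact_iff_of_epi_of_isIso_of_mono α).mp h5
    · obtain ⟨j', rfl⟩ : ∃ j', j = j' + 1 := ⟨j - 1, by omega⟩
      have h6 := h3 (j' + 1) (by omega)
      rw [← HomologicalComplex.exactAt_iff_isZero_homology,
        HomologicalComplex.exactAt_iff' _ (j' + 2) (j' + 1) j' (by simp) (by simp)] at h6
      exact h6
  · -- exactness at degree 0: `(π ≫ ι, φ)`
    let S₁ : ShortComplex C := ShortComplex.mk (π ≫ ι) φ (by rw [Category.assoc, hι, comp_zero])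
    let S₂ : ShortComplex C := ShortComplex.mk ι φ hι
    let α : S₁ ⟶ S₂ :=
      { τ₁ := π
        τ₂ := 𝟙 _
        τ₃ := 𝟙 _
        comm₁₂ := by
          show π ≫ ι = (π ≫ ι) ≫ 𝟙 _
          rw [Category.comp_id]
        comm₂₃ := by
          show 𝟙 _ ≫ φ = φ ≫ 𝟙 _
          rw [Category.id_comp, Category.comp_id] }
    haveI : Epi α.τ₁ := inferInstanceAs (Epi π)
    haveI : IsIso α.τ₂ := inferInstanceAs (IsIso (𝟙 _))
    haveI : Mono α.τ₃ := inferInstanceAs (Mono (𝟙 _))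
    exact (ShortComplex.exact_iff_of_epi_of_isIso_of_mono α).mpr hS.exact

end Groth.Agent.SyzTw
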