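import Mathlib
import Groth.Prelude
import Groth.Agent.Lib.SyzTw1_helper9
import Groth.Agent.Lib.Horrocks8_helper9

/-!
# Resolutions by sums of twisting sheaves on `P^n_k`: covers surjective on all twisted sections
(helper9).  APPEND-ONLY once landed.
-/

set_option autoImplicit false
universe u
open CategoryTheory CategoryTheory.Limits AlgebraicGeometry TopologicalSpace Opposite Abelian

namespace Groth.Agent.SyzTw

open Groth.Agent.HHVan Groth.Agent.CMReg Groth.Agent.ProjTens Groth.Agent.TensInv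
  Groth.Agent.ExtDual Groth.Agent.ProjFin Groth.Agent.ProjInt Groth.Agent.ProjDual
  Groth.Agent.ProjCech Groth.Agent.Horrocks Groth.Agent.CMMum

variable (n : ℕ) (k : Type u) [Field k]

/-- finite direct sums of twisting sheaves -/
def IsSumTw (L : (CohB1.ProjSpace n k).Modules) : Prop :=
  ∃ (m : ℕ) (d : Fin m → ℤ), Nonempty (L ≅ ∐ fun j : Fin m => OO n k (d j))

theorem isSumTw_of_isZero (Z : (CohB1.ProjSpace n k).Modules) (hZ : IsZero Z) :
    IsSumTw n k Z := by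
  refine ⟨0, fun j => j.elim0, ⟨hZ.iso ?_⟩⟩
  rw [IsZero.iff_id_eq_zero]
  apply Sigma.hom_ext
  intro j
  exact j.elim0

theorem isSumTw_sigma_fintype {ι : Type} [Fintype ι] (a : ι → ℤ) :
    IsSumTw n k (∐ fun x : ι => OO n k (a x)) :=
  ⟨Fintype.card ι, fun j => a ((Fintype.equivFin ι).symm j),
    ⟨(Sigma.reindex (Fintype.equivFin ι).symm (fun x : ι => OO n k (a x))).symm⟩⟩

/-- a sum of twists is finite locally free, hence coherent -/
theorem isCoh_of_isSumTw {L : (CohB1.ProjSpace n k).Modules} (hL : IsSumTw n k L) :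
    Coh.IsCoh L := by
  obtain ⟨m, d, ⟨e⟩⟩ := hL
  have h1 : FlatMod.IsFinLocFreeOfRank m L :=
    isFinLocFreeOfRank_of_iso e.symm
      (isFinLocFreeOfRank_sigma _ (fun j => isInvertible_OO n k (d j)))
  exact isCoh_of_finLocFree L (FLFH8.IsFinLocFreeOfRank.isFinLocFree L h1)

/-- cohomology of the twists of a sum of twists vanishes in the middle degrees -/
theorem subsingleton_HH_mid_of_isSumTw {L : (CohB1.ProjSpace n k).Modules} (hL : IsSumTw n k L)
    (t : ℤ) (q : ℕ) (hq : 0 < q) (hqn : q < n) :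
    Subsingleton (Coh.HH (CohB1.ProjSpace n k) (CohB1.tensorMod L (OO n k t)) q) := by
  obtain ⟨m, d, ⟨e⟩⟩ := hL
  have h1 := subsingleton_HH_sum_twists n k d t q (fun j => ⟨by omega, by omega⟩)
  exact subsingleton_of_iso ((tR (OO n k t)).mapIso e.symm) q h1

/-- `H^0` of sufficiently negative twists of a sum of twists vanishes -/
theorem exists_h0_vanish_of_isSumTw (hn : 1 ≤ n) {L : (CohB1.ProjSpace n k).Modules}
    (hL : IsSumTw n k L) :
    ∃ m₀ : ℤ, ∀ t : ℤ, t ≤ m₀ →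
      Subsingleton (Coh.HH (CohB1.ProjSpace n k) (CohB1.tensorMod L (OO n k t)) 0) := by
  obtain ⟨m, d, ⟨e⟩⟩ := hL
  refine ⟨-(∑ j, |d j|) - 1, fun t ht => ?_⟩
  have h1 := subsingleton_HH_sum_twists n k d t 0 (fun j => ⟨?_, ?_⟩)
  · exact subsingleton_of_iso ((tR (OO n k t)).mapIso e.symm) 0 h1
  · rintro ⟨-, h⟩
    have h2 : |d j| ≤ ∑ j, |d j| :=
      Finset.single_le_sum (f := fun j => |d j|) (fun j _ => abs_nonneg _) (Finset.mem_univ j)
    have h3 := le_abs_self (d j)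
    omega
  · rintro ⟨h, -⟩
    omega

section Cover

variable {n k}

/-- **covers surjective on all twisted sections**: a coherent module `K` with
`H^0(K(m)) = 0` for `m ≪ 0` is a quotient `φ : L ↠ K` of a finite sum of twists such that every
`O(d) ⟶ K` lifts to `L` -/
theorem exists_cover (K : (CohB1.ProjSpace n k).Modules) (hK : Coh.IsCoh K) (m₀ : ℤ)
    (h₀ : ∀ m : ℤ, m ≤ m₀ →
      Subsingleton (Coh.HH (CohB1.ProjSpace n k) (CohB1.tensorMod K (OO n k m)) 0)) :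
    ∃ (L : (CohB1.ProjSpace n k).Modules) (φ : L ⟶ K), IsSumTw n k L ∧ Epi φ ∧
      ∀ (d : ℤ) (χ : OO n k d ⟶ K), ∃ χ' : OO n k d ⟶ L, χ' ≫ φ = χ := by
  haveI := hasExt_modules (CohB1.ProjSpace n k)
  obtain ⟨d₀, hd₀⟩ := serre_vanishing n k K hK
  have hreg0 : Reg n k K (d₀ + n) := by
    intro q hq
    by_cases hqn : q ≤ n
    · exact hd₀ _ (by omega) q hq
    · haveI := isQCoh_twistBy n k K hK.1 (d₀ + n - q)
      exact Groth.Agent.S0022.result n k _ q (by omega)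
  -- the regularity level `m₁`
  obtain ⟨s₀, hs₀⟩ : ∃ s₀ : ℕ, m₀ + 1 ≤ d₀ + n + s₀ := ⟨(m₀ + 1 - (d₀ + n)).toNat, by omega⟩
  set m₁ : ℤ := d₀ + n + s₀ with hm₁
  have hreg : ∀ s : ℕ, Reg n k K (m₁ + s) := fun s => by
    have h := propagate_all n k K (d₀ + n) hreg0 (s₀ + s)
    intro q hq
    have e : d₀ + (n : ℤ) + ((s₀ + s : ℕ) : ℤ) - q = m₁ + s - q := by
      rw [hm₁]; push_cast; ring
    rw [← e]
    exact h q hq
  -- generators in each degree
  choose b g hgen using fun d : ℤ => exists_finite_gen_hom_twist n k K hK d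
  let ι : Type := Σ d : {d : ℤ // d ∈ Finset.Ioc m₀ m₁}, Fin (b d.1)
  let φ : (∐ fun x : ι => OO n k (-(x.1.1))) ⟶ K := Sigma.desc (fun x : ι => g x.1.1 x.2)
  have hA : ∀ d : ℤ, m₀ < d → d ≤ m₁ → ∀ χ : OO n k (-d) ⟶ K,
      ∃ χ' : OO n k (-d) ⟶ ∐ fun x : ι => OO n k (-(x.1.1)), χ' ≫ φ = χ := by
    intro d hd1 hd2 χ
    obtain ⟨c, hc⟩ := hgen d χ
    have hmem : d ∈ Finset.Ioc m₀ m₁ := Finset.mem_Ioc.mpr ⟨hd1, hd2⟩
    refine ⟨∑ i, c i ≫ Sigma.ι (fun x : ι => OO n k (-(x.1.1))) ⟨⟨d, hmem⟩, i⟩, ?_⟩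
    rw [Preadditive.sum_comp, hc]
    apply Finset.sum_congr rfl
    intro i _
    rw [Category.assoc, Sigma.ι_desc]
  have hB : ∀ s : ℕ, ∀ χ : OO n k (-(m₁ + s)) ⟶ K,
      ∃ χ' : OO n k (-(m₁ + s)) ⟶ ∐ fun x : ι => OO n k (-(x.1.1)), χ' ≫ φ = χ := by
    intro s
    induction s with
    | zero =>
      intro χ
      have e : -(m₁ + ((0 : ℕ) : ℤ)) = -m₁ := by simp
      revert χ
      rw [e]
      intro χ
      exact hA m₁ (by omega) le_rfl χ
    | succ s ih =>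
      intro χ
      exact lift_step n k φ (m₁ + s) (hreg s) (-(m₁ + ((s + 1 : ℕ) : ℤ))) (-(m₁ + s))
        (by push_cast; ring) rfl ih χ
  have hlift : ∀ (d : ℤ) (χ : OO n k d ⟶ K),
      ∃ χ' : OO n k d ⟶ ∐ fun x : ι => OO n k (-(x.1.1)), χ' ≫ φ = χ := by
    intro d'
    obtain ⟨d, rfl⟩ : ∃ d, d' = -d := ⟨-d', by ring⟩
    intro χ
    rcases le_or_gt d m₀ with h1 | h1
    · exact ⟨0, by rw [zero_comp, hom_eq_zero_of_h0 n k K d (h₀ d h1) χ]⟩
    · rcases le_or_gt d m₁ with h2 | h2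
      · exact hA d h1 h2 χ
      · obtain ⟨s, rfl⟩ : ∃ s : ℕ, d = m₁ + s := ⟨(d - m₁).toNat, by omega⟩
        exact hB s χ
  refine ⟨_, φ, isSumTw_sigma_fintype n k (fun x : ι => -(x.1.1)), ?_, hlift⟩
  apply Preadditive.epi_of_cancel_zero
  intro T g' hg'
  have hr : Reg n k K m₁ := by
    have := hreg 0
    simpa using this
  apply eq_zero_of_kills n k hK m₁ hr g'
  intro ψ
  obtain ⟨ψ', rfl⟩ := hlift (-m₁) ψ
  rw [Category.assoc, hg', comp_zero]

end Cover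

end Groth.Agent.SyzTw
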