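import Mathlib
import Groth.Prelude
import Groth.Agent.Lib.SyzTw2_helper9

/-!
# Resolutions by sums of twisting sheaves on `P^n_k`: Hilbert's syzygy theorem for coherent
sheaves (helper9).  APPEND-ONLY once landed.
-/

set_option autoImplicit false
universe u
open CategoryTheory CategoryTheory.Limits AlgebraicGeometry TopologicalSpace Opposite Abelian

namespace Groth.Agent.SyzTw

open Groth.Agent.HHVan Groth.Agent.CMReg Groth.Agent.ProjTens Groth.Agent.TensInv
  Groth.Agent.ExtDual Groth.Agent.ProjFin Groth.Agent.ProjInt Groth.Agent.ProjDual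
  Groth.Agent.ProjCech Groth.Agent.Horrocks Groth.Agent.CMMum

variable (n : ℕ) (k : Type u) [Field k]

/-- every coherent module on `P^0_k` is free -/
theorem exists_iso_free_zero_of_isCoh (E : (CohB1.ProjSpace 0 k).Modules) (hE : Coh.IsCoh E) :
    ∃ s : ℕ, Nonempty (E ≅ FlatMod.freeMod (CohB1.ProjSpace 0 k) s) := by
  haveI := isAffine_projSpace_zero k
  haveI : E.IsQuasicoherent := hE.1
  haveI : SheafOfModules.IsFiniteType (R := (CohB1.ProjSpace 0 k).ringCatSheaf) E := hE.2
  haveI : Module.Finite Γ(CohB1.ProjSpace 0 k, ⊤) Γ(E, ⊤) :=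
    QCohFT.finite_of_isFiniteType E (isAffineOpen_top _)
  letI := (isField_gamma_projSpace k 0).toField
  let b := Module.finBasis Γ(CohB1.ProjSpace 0 k, ⊤) Γ(E, ⊤)
  haveI := SDivFreeH8.isIso_freeHom E b b.linearIndependent b.span_eq
  exact ⟨_, ⟨(asIso (SDivGenH8.freeHom E b)).symm⟩⟩

section Generic

variable (Q : ℕ → (CohB1.ProjSpace n k).Modules → Prop)
  (hbase : ∀ K : (CohB1.ProjSpace n k).Modules, IsSumTw n k K → Q 0 K)
  (hmono : ∀ (ℓ ℓ' : ℕ) (K : (CohB1.ProjSpace n k).Modules), ℓ ≤ ℓ' → Q ℓ K → Q ℓ' K)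
  (hstep : ∀ (ℓ : ℕ) (K' L K : (CohB1.ProjSpace n k).Modules) (ι : K' ⟶ L) (φ : L ⟶ K)
    (hι : ι ≫ φ = 0), (ShortComplex.mk ι φ hι).ShortExact → Coh.IsCoh K' → Coh.IsCoh K →
    IsSumTw n k L → Q ℓ K' → Q (ℓ + 1) K)

include hbase hstep in
/-- induction principle: a property of coherent modules which holds for sums of twists and
passes from the kernel of a cover by a sum of twists to the target holds, at level `n - j`, for
coherent modules satisfying the cohomological conditions of level `j` -/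
theorem induction_of_vanish (hn : 1 ≤ n) : ∀ (t j : ℕ), j + t = n → 1 ≤ j →
    ∀ K : (CohB1.ProjSpace n k).Modules, Coh.IsCoh K →
    (∃ m₀ : ℤ, ∀ m : ℤ, m ≤ m₀ →
      Subsingleton (Coh.HH (CohB1.ProjSpace n k) (CohB1.tensorMod K (OO n k m)) 0)) →
    (∀ (i : ℕ) (d : ℤ), 0 < i → i < j →
      Subsingleton (Coh.HH (CohB1.ProjSpace n k) (CohB1.tensorMod K (OO n k d)) i)) →
    Q t K := by
  intro t
  induction t with
  | zero =>
    intro j hj hj1 K hK h0 hmid
    obtain rfl : n = j := by omega
    obtain ⟨r, a, ⟨e⟩⟩ := (horrocks n k hn K hK).mpr ⟨h0, fun m i hi hin => hmid i m hi hin⟩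
    exact hbase K ⟨r, a, ⟨e⟩⟩
  | succ t ih =>
    rintro j hj hj1 K hK ⟨m₀, h0⟩ hmid
    haveI := hasExt_modules (CohB1.ProjSpace n k)
    obtain ⟨L, φ, hL, hφ, hlift⟩ := exists_cover K hK m₀ h0
    have hS := shortExact_kernel n k φ
    have hcohL := isCoh_of_isSumTw n k hL
    haveI hNoeth : AlgebraicGeometry.IsNoetherian (CohB1.ProjSpace n k) :=
      Groth.Agent.S2357.result (𝒜 n k)
    have hK' : Coh.IsCoh (kernel φ) := CohKerH8.isCoh_kernel (X := CohB1.ProjSpace n k) hcohL hK φ
    refine hstep t (kernel φ) L K (kernel.ι φ) φ (kernel.condition φ) hS hK' hK hL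
      (ih (j + 1) (by omega) (by omega) (kernel φ) hK' ?_ ?_)
    · obtain ⟨m₁, hm₁⟩ := exists_h0_vanish_of_isSumTw n k hn hL
      refine ⟨m₁, fun m hm => ?_⟩
      have hSt := shortExact_twist n k _ hS m
      haveI : Mono ((tR (OO n k m)).map (kernel.ι φ)) := hSt.mono_f
      exact @Function.Injective.subsingleton _ _ _
        (injective_hmap_zero_of_mono ((tR (OO n k m)).map (kernel.ι φ))) (hm₁ m hm)
    · intro i d hi hij
      have hSt := shortExact_twist n k _ hS d
      rcases Nat.lt_or_ge 1 i with h1 | h1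
      · obtain ⟨i', rfl⟩ : ∃ i', i = i' + 1 := ⟨i - 1, by omega⟩
        exact subsingleton_left _ hSt i' (hmid i' d (by omega) (by omega))
          (subsingleton_HH_mid_of_isSumTw n k hL d (i' + 1) (by omega) (by omega))
      · obtain rfl : i = 1 := by omega
        have hsurj : Function.Surjective (hmap ((tR (OO n k d)).map φ) 0) :=
          (surjective_hmap_twist_iff n k φ d).mpr (fun χ => hlift (-d) χ)
        have hinj := injective_hmap_f_of_surjective _ hSt hsurj
        exact @Function.Injective.subsingleton _ _ _ hinj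
          (subsingleton_HH_mid_of_isSumTw n k hL d 1 (by omega) (by omega))

include hbase hmono hstep in
/-- induction principle for coherent modules on `P^n_k` along resolutions by sums of twists -/
theorem induction_coh (F : (CohB1.ProjSpace n k).Modules) (hF : Coh.IsCoh F) : Q (n + 1) F := by
  rcases Nat.eq_zero_or_pos n with rfl | hn
  · obtain ⟨s, ⟨α⟩⟩ := exists_iso_free_zero_of_isCoh k F hF
    obtain ⟨e0⟩ := twist_zero 0 k
    have h1 : IsSumTw 0 k F := ⟨s, fun _ => 0, ⟨α ≪≫ Sigma.mapIso (fun _ => e0.symm)⟩⟩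
    exact hmono 0 _ F (by omega) (hbase F h1)
  · haveI := hasExt_modules (CohB1.ProjSpace n k)
    obtain ⟨d₀, hd₀⟩ := serre_vanishing n k F hF
    have hreg : Reg n k F (d₀ + n) := by
      intro q hq
      by_cases hqn : q ≤ n
      · exact hd₀ _ (by omega) q hq
      · haveI := isQCoh_twistBy n k F hF.1 (d₀ + n - q)
        exact Groth.Agent.S0022.result n k _ q (by omega)
    obtain ⟨b, φ, hφ, -⟩ := exists_epi_kernel_regular n k F hF (d₀ + n) hreg
    have hL : IsSumTw n k (∐ fun _ : Fin b => OO n k (-(d₀ + n))) :=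
      ⟨b, fun _ => -(d₀ + n), ⟨Iso.refl _⟩⟩
    have hK' : Coh.IsCoh (kernel φ) := isCoh_kernel_sigma n k F hF _ b φ
    have hS := shortExact_kernel n k φ
    have h1 : Q (n - 1) (kernel φ) := by
      refine induction_of_vanish n k Q hbase hstep hn (n - 1) 1 (by omega) le_rfl _ hK' ?_
        (fun i d hi hi1 => by omega)
      obtain ⟨m₁, hm₁⟩ := exists_h0_vanish_of_isSumTw n k hn hL
      refine ⟨m₁, fun m hm => ?_⟩
      have hSt := shortExact_twist n k _ hS m
      haveI : Mono ((tR (OO n k m)).map (kernel.ι φ)) := hSt.mono_f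
      exact @Function.Injective.subsingleton _ _ _
        (injective_hmap_zero_of_mono ((tR (OO n k m)).map (kernel.ι φ))) (hm₁ m hm)
    exact hmono _ _ F (by omega)
      (hstep (n - 1) (kernel φ) _ F (kernel.ι φ) φ (kernel.condition φ) hS hK' hF hL h1)

end Generic

/-- **Hilbert's syzygy theorem for coherent sheaves on `P^n_k`**: every coherent module has a
resolution of length at most `n + 1` by finite direct sums of twisting sheaves -/
theorem exists_resolution (F : (CohB1.ProjSpace n k).Modules) (hF : Coh.IsCoh F) :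
    Res (IsSumTw n k) (n + 1) F :=
  induction_coh n k (fun ℓ K => Res (IsSumTw n k) ℓ K)
    (fun K hK => res_zero (isSumTw_of_isZero n k) hK)
    (fun ℓ ℓ' K h hK => hK.mono h)
    (fun ℓ K' L K ι φ hι hS _ _ hL hK' => res_step ι φ hι hS hL hK') F hF

end Groth.Agent.SyzTw
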