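import Mathlib
import Groth.Prelude
import Groth.Agent.Lib.SyzTw3_helper9
import Groth.Agent.Lib.LESLin_helper9
import Groth.Agent.Lib.ProjInt_helper9

/-!
# `K₀` of coherent sheaves on projective space, I: abstract preliminaries (helper9)
APPEND-ONLY once landed.

* `alt_sum_telescope`, `eulerCharLE_additive`: additivity of the Euler characteristic on short
  exact sequences (rank–nullity along the long exact cohomology sequence).
* `K0sub`: universal property, additivity.
* `alt_sum_cochain`: an additive invariant kills the alternating sum of a bounded exact complex.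
* `sigmaSES`: the split short exact sequence `0 → f 0 → ∐ f → ∐ f ∘ succ → 0`.
-/

set_option autoImplicit false
universe w v u
open CategoryTheory CategoryTheory.Limits AlgebraicGeometry TopologicalSpace Opposite Abelian

namespace Groth.Agent.K0Proj

section Arith

theorem alt_sum_telescope (a b c r s t : ℕ → ℤ) (ha0 : a 0 = r 0)
    (ha : ∀ i, a (i + 1) = t i + r (i + 1)) (hb : ∀ i, b i = r i + s i)
    (hc : ∀ i, c i = s i + t i) (m : ℕ) :
    ∑ i ∈ Finset.range (m + 1), (-1 : ℤ) ^ i * (b i - a i - c i) = -((-1) ^ m * t m) := by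
  induction m with
  | zero =>
    rw [Finset.sum_range_one, ha0, hb, hc]
    ring
  | succ m ih =>
    rw [Finset.sum_range_succ, ih, ha, hb, hc, pow_succ]
    ring

end Arith

section Euler

open Groth.Agent.ProjFin Groth.Agent.LESLin

variable (k : Type u) [Field k] {X : Scheme.{u}} [X.Over (Spec (CommRingCat.of k))]
  (S : ShortComplex X.Modules) (hS : S.ShortExact)

include hS in
/-- additivity of the (truncated) Euler characteristic on short exact sequences -/
theorem eulerCharLE_additive (N : ℕ)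
    (h1 : ∀ i, Module.Finite k (Coh.HH X S.X₁ i)) (h2 : ∀ i, Module.Finite k (Coh.HH X S.X₂ i))
    (h3 : ∀ i, Module.Finite k (Coh.HH X S.X₃ i))
    (hv : Subsingleton (Coh.HH X S.X₁ (N + 1))) :
    FGA.eulerCharLE k X S.X₂ N = FGA.eulerCharLE k X S.X₁ N + FGA.eulerCharLE k X S.X₃ N := by
  set r : ℕ → ℤ := fun i => (Module.finrank k (LinearMap.range (Canon.HHlin k S.f i)) : ℤ) with hr
  set s : ℕ → ℤ := fun i => (Module.finrank k (LinearMap.range (Canon.HHlin k S.g i)) : ℤ) with hs
  set t : ℕ → ℤ := fun i => (Module.finrank k (LinearMap.range (δlin k S hS i)) : ℤ) with ht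
  have ha0 : (Module.finrank k (Coh.HH X S.X₁ 0) : ℤ) = r 0 := by
    rw [hr]
    simp only
    rw [LinearMap.finrank_range_of_inj (injective_HHlin_f_zero k S hS)]
  have ha : ∀ i, (Module.finrank k (Coh.HH X S.X₁ (i + 1)) : ℤ) = t i + r (i + 1) := by
    intro i
    haveI := h1 (i + 1)
    have e := LinearMap.finrank_range_add_finrank_ker (Canon.HHlin k S.f (i + 1))
    rw [← range_δlin k S hS i] at e
    rw [hr, ht]
    simp only
    omega
  have hb : ∀ i, (Module.finrank k (Coh.HH X S.X₂ i) : ℤ) = r i + s i := by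
    intro i
    haveI := h2 i
    have e := LinearMap.finrank_range_add_finrank_ker (Canon.HHlin k S.g i)
    rw [← range_HHlin_f k S hS i] at e
    rw [hr, hs]
    simp only
    omega
  have hc : ∀ i, (Module.finrank k (Coh.HH X S.X₃ i) : ℤ) = s i + t i := by
    intro i
    haveI := h3 i
    have e := LinearMap.finrank_range_add_finrank_ker (δlin k S hS i)
    rw [← range_HHlin_g k S hS i] at e
    rw [hs, ht]
    simp only
    omega
  have htN : t N = 0 := by
    rw [ht]
    simp only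
    haveI : Subsingleton (LinearMap.range (δlin k S hS N)) :=
      ⟨fun x y => Subtype.ext (Subsingleton.elim _ _)⟩
    rw [Module.finrank_zero_of_subsingleton]
    rfl
  have key := alt_sum_telescope (fun i => (Module.finrank k (Coh.HH X S.X₁ i) : ℤ))
    (fun i => (Module.finrank k (Coh.HH X S.X₂ i) : ℤ))
    (fun i => (Module.finrank k (Coh.HH X S.X₃ i) : ℤ)) r s t ha0 ha hb hc N
  rw [htN, mul_zero, neg_zero] at key
  simp only [mul_sub, Finset.sum_sub_distrib] at key
  unfold FGA.eulerCharLE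
  linarith

end Euler

section K0sub

variable {A : Type u} [Category.{v} A] [Abelian A] (P : ObjectProperty A)

lemma clSub_eq (X : A) (h : P X) :
    KZero.clSub P X = QuotientAddGroup.mk (FreeAbelianGroup.of ⟨X, h⟩) := by
  unfold KZero.clSub
  exact dif_pos h

lemma clSub_ses (S : ShortComplex A) (hS : S.ShortExact) (h₁ : P S.X₁) (h₂ : P S.X₂)
    (h₃ : P S.X₃) : KZero.clSub P S.X₂ = KZero.clSub P S.X₁ + KZero.clSub P S.X₃ := by
  rw [clSub_eq P _ h₁, clSub_eq P _ h₂, clSub_eq P _ h₃]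
  have hmem : (FreeAbelianGroup.of ⟨S.X₂, h₂⟩ - FreeAbelianGroup.of ⟨S.X₁, h₁⟩ -
      FreeAbelianGroup.of ⟨S.X₃, h₃⟩ : FreeAbelianGroup (Subtype P)) ∈ KZero.relSub P :=
    AddSubgroup.subset_closure ⟨S, h₁, h₂, h₃, hS, rfl⟩
  have h0 := (QuotientAddGroup.eq_zero_iff _).2 hmem
  rw [QuotientAddGroup.mk_sub, QuotientAddGroup.mk_sub, sub_sub, sub_eq_zero] at h0
  exact h0

/-- the universal property of `K0sub` -/
noncomputable def liftSub {G : Type*} [AddCommGroup G] (f : A → G)
    (hf : ∀ S : ShortComplex A, S.ShortExact → P S.X₁ → P S.X₂ → P S.X₃ →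
      f S.X₂ = f S.X₁ + f S.X₃) : KZero.K0sub P →+ G :=
  QuotientAddGroup.lift (KZero.relSub P) (FreeAbelianGroup.lift (fun x : Subtype P => f x.1))
    (by
      unfold KZero.relSub
      refine (AddSubgroup.closure_le _).2 ?_
      rintro x ⟨S, h₁, h₂, h₃, hS, rfl⟩
      simp only [SetLike.mem_coe, AddMonoidHom.mem_ker, map_sub, FreeAbelianGroup.lift_apply_of]
      rw [hf S hS h₁ h₂ h₃]
      abel)

lemma liftSub_clSub {G : Type*} [AddCommGroup G] (f : A → G)
    (hf : ∀ S : ShortComplex A, S.ShortExact → P S.X₁ → P S.X₂ → P S.X₃ →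
      f S.X₂ = f S.X₁ + f S.X₃) (X : A) (hX : P X) :
    liftSub P f hf (KZero.clSub P X) = f X := by
  rw [clSub_eq P X hX]
  exact (QuotientAddGroup.lift_mk _ _ _).trans (FreeAbelianGroup.lift_apply_of _ _)

/-- a subgroup of `K0sub P` containing all classes is everything -/
theorem mem_of_forall (H : AddSubgroup (KZero.K0sub P)) (h : ∀ X, P X → KZero.clSub P X ∈ H)
    (x : KZero.K0sub P) : x ∈ H := by
  obtain ⟨y, rfl⟩ := QuotientAddGroup.mk_surjective x
  refine FreeAbelianGroup.induction_on y H.zero_mem ?_ ?_ ?_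
  · rintro ⟨X, hX⟩
    rw [← clSub_eq P X hX]
    exact h X hX
  · rintro ⟨X, hX⟩ h'
    exact H.neg_mem h'
  · intro a b ha hb
    exact H.add_mem ha hb

end K0sub

section Cochain

variable {C : Type u} [Category.{v} C] [Abelian C] [HasExt.{w} C]

open Groth.Agent.CMReg

/-- an additive invariant kills the alternating sum of the terms of a bounded exact complex -/
theorem alt_sum_cochain {G : Type*} [AddCommGroup G] (P : C → Prop) (φ : C → G)
    (hker : ∀ {A B : C} (f : A ⟶ B), P A → P B → P (kernel f))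
    (hφ : ∀ S : ShortComplex C, S.ShortExact → P S.X₁ → P S.X₂ → P S.X₃ →
      φ S.X₂ = φ S.X₁ + φ S.X₃)
    (hz : ∀ Z : C, IsZero Z → φ Z = 0)
    (K : CochainComplex C ℕ) (hP : ∀ p, P (K.X p)) (hK : ∀ p, K.ExactAt p) (N : ℕ)
    (hN : ∀ p, N < p → IsZero (K.X p)) :
    ∑ p ∈ Finset.range (N + 1), (-1 : ℤ) ^ p • φ (K.X p) = 0 := by
  have hPZ : ∀ p, P (Z K p) := fun p => hker _ (hP p) (hP (p + 1))
  have h1 : ∀ p, φ (K.X p) = φ (Z K p) + φ (Z K (p + 1)) := fun p =>
    hφ _ (sesZ_shortExact K p (hK (p + 1))) (hPZ p) (hP p) (hPZ (p + 1))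
  have hz0 : φ (Z K 0) = 0 := by
    have hmono : Mono (K.d 0 1) := by
      have hex := (K.exactAt_iff' 0 0 1 (by simp) (by simp)).mp (hK 0)
      exact (ShortComplex.exact_iff_mono _ (K.shape 0 0 (by simp))).mp hex
    exact hz _ (isZero_kernel_of_mono (K.d 0 1))
  have hzN : φ (Z K (N + 1)) = 0 :=
    hz _ (IsZero.of_mono (kernel.ι (K.d (N + 1) (N + 1 + 1))) (hN (N + 1) (by omega)))
  have claim : ∀ m : ℕ, ∑ p ∈ Finset.range (m + 1), (-1 : ℤ) ^ p • φ (K.X p) =
      φ (Z K 0) + (-1 : ℤ) ^ m • φ (Z K (m + 1)) := by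
    intro m
    induction m with
    | zero =>
      rw [Finset.sum_range_one, h1 0]
      simp
    | succ m ih =>
      rw [Finset.sum_range_succ, ih, h1 (m + 1), pow_succ, smul_add, mul_neg_one, neg_smul]
      abel
  rw [claim N, hz0, hzN, smul_zero, add_zero]

end Cochain

section Sigma

variable {C : Type u} [Category.{v} C] [Abelian C]

/-- the projection `∐ f ⟶ ∐ f ∘ succ` killing the first summand -/
noncomputable def sigmaTail {m : ℕ} (f : Fin (m + 1) → C) :
    (∐ f) ⟶ ∐ fun j : Fin m => f j.succ :=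
  Sigma.desc (fun j => Fin.cases (0 : f 0 ⟶ ∐ fun j : Fin m => f j.succ)
    (fun j' => Sigma.ι (fun j : Fin m => f j.succ) j') j)

@[reassoc]
lemma ι_zero_sigmaTail {m : ℕ} (f : Fin (m + 1) → C) : Sigma.ι f 0 ≫ sigmaTail f = 0 := by
  unfold sigmaTail
  rw [Sigma.ι_desc]
  rfl

@[reassoc]
lemma ι_succ_sigmaTail {m : ℕ} (f : Fin (m + 1) → C) (j : Fin m) :
    Sigma.ι f j.succ ≫ sigmaTail f = Sigma.ι (fun j : Fin m => f j.succ) j := by
  unfold sigmaTail
  rw [Sigma.ι_desc]
  rfl

/-- the split short exact sequence `0 → f 0 → ∐ f → ∐ f ∘ succ → 0` -/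
theorem sigmaSES {m : ℕ} (f : Fin (m + 1) → C) :
    (ShortComplex.mk (Sigma.ι f 0) (sigmaTail f) (ι_zero_sigmaTail f)).ShortExact := by
  let r : (∐ f) ⟶ f 0 :=
    Sigma.desc (fun j => Fin.cases (𝟙 (f 0)) (fun j' => (0 : f j'.succ ⟶ f 0)) j)
  let s : (∐ fun j : Fin m => f j.succ) ⟶ ∐ f := Sigma.desc (fun j' => Sigma.ι f j'.succ)
  have hr0 : Sigma.ι f 0 ≫ r = 𝟙 _ := by
    simp only [r]
    rw [Sigma.ι_desc]
    rfl
  have hrs : ∀ j : Fin m, Sigma.ι f j.succ ≫ r = 0 := fun j => by
    simp only [r]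
    rw [Sigma.ι_desc]
    rfl
  refine ShortComplex.Splitting.shortExact
    (S := ShortComplex.mk (Sigma.ι f 0) (sigmaTail f) (ι_zero_sigmaTail f))
    { r := r
      s := s
      f_r := hr0
      s_g := ?_
      id := ?_ }
  · apply Sigma.hom_ext
    intro j
    simp only [s]
    rw [Sigma.ι_desc_assoc, ι_succ_sigmaTail, Category.comp_id]
  · apply Sigma.hom_ext
    intro j
    rw [Preadditive.comp_add, Category.comp_id]
    refine Fin.cases ?_ (fun j' => ?_) j
    · rw [reassoc_of% hr0, ι_zero_sigmaTail_assoc, zero_comp, add_zero]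
    · rw [reassoc_of% (hrs j'), zero_comp, zero_add, ι_succ_sigmaTail_assoc]
      simp only [s]
      rw [Sigma.ι_desc]

end Sigma

end Groth.Agent.K0Proj
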