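import Mathlib
import Groth.Prelude
import Groth.Agent.Lib.K0Proj1_helper9

/-!
# `K₀` of coherent sheaves on projective space, II: `K₀(Coh P^n_k)` is free on
`[O], [O(-1)], …, [O(-n)]` (helper9).  APPEND-ONLY once landed.

Surjectivity: the Koszul relations put every `[O(d)]` in the subgroup `H` generated by the
`[O(-i)]`, `0 ≤ i ≤ n`; every coherent sheaf has a finite resolution by finite sums of twists
(`SyzTw.induction_coh`).  Injectivity: the additive functions `F ↦ χ(F(t))`, `0 ≤ t ≤ n`, have a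
unitriangular matrix of values `binom(t - i + n, n)` on the generators.
-/

set_option autoImplicit false
universe u
open CategoryTheory CategoryTheory.Limits AlgebraicGeometry TopologicalSpace Opposite Abelian

namespace Groth.Agent.K0Proj

open Groth.Agent.HHVan Groth.Agent.CMReg Groth.Agent.ProjTens Groth.Agent.TensInv
  Groth.Agent.ExtDual Groth.Agent.ProjFin Groth.Agent.ProjInt Groth.Agent.ProjDual
  Groth.Agent.ProjCech Groth.Agent.Horrocks Groth.Agent.CMMum Groth.Agent.SyzTw

variable (n : ℕ) (k : Type u) [Field k]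

/-- the property of being coherent, on `P^n_k` -/
abbrev PC : ObjectProperty (CohB1.ProjSpace n k).Modules := fun M => Coh.IsCoh M

/-- the class of a module in `K₀(Coh P^n_k)` -/
noncomputable abbrev cc (M : (CohB1.ProjSpace n k).Modules) : KZero.K0sub (PC n k) :=
  KZero.clSub (PC n k) M

theorem isNoeth : AlgebraicGeometry.IsNoetherian (CohB1.ProjSpace n k) :=
  Groth.Agent.S2357.result (𝒜 n k)

variable {n k}

theorem cc_ses (S : ShortComplex (CohB1.ProjSpace n k).Modules) (hS : S.ShortExact)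
    (h1 : Coh.IsCoh S.X₁) (h2 : Coh.IsCoh S.X₂) (h3 : Coh.IsCoh S.X₃) :
    cc n k S.X₂ = cc n k S.X₁ + cc n k S.X₃ :=
  clSub_ses (PC n k) S hS h1 h2 h3

theorem cc_isZero {Z : (CohB1.ProjSpace n k).Modules} (hZ : IsZero Z) : cc n k Z = 0 := by
  haveI := isNoeth n k
  have hc : Coh.IsCoh Z := CohDevH8.isCoh_of_isZero hZ
  let S : ShortComplex (CohB1.ProjSpace n k).Modules :=
    ShortComplex.mk (0 : Z ⟶ Z) (0 : Z ⟶ Z) zero_comp
  have hS : S.ShortExact := by
    haveI : Mono S.f := ⟨fun _ _ _ => hZ.eq_of_tgt _ _⟩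
    haveI : Epi S.g := ⟨fun _ _ _ => hZ.eq_of_src _ _⟩
    exact ShortComplex.ShortExact.mk (ShortComplex.exact_of_isZero_X₂ S hZ)
  have h : cc n k Z = cc n k Z + cc n k Z := cc_ses S hS hc hc hc
  exact add_eq_left.mp h.symm

theorem cc_iso {M N : (CohB1.ProjSpace n k).Modules} (e : M ≅ N) (hN : Coh.IsCoh N) :
    cc n k M = cc n k N := by
  haveI := isNoeth n k
  have hM : Coh.IsCoh M := CohDevH8.isCoh_of_iso e hN
  let S : ShortComplex (CohB1.ProjSpace n k).Modules :=
    ShortComplex.mk (kernel.ι e.hom) e.hom (kernel.condition _)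
  have hS : S.ShortExact := ShortComplex.ShortExact.mk' (ShortComplex.exact_kernel _)
    (inferInstanceAs (Mono (kernel.ι e.hom))) (inferInstanceAs (Epi e.hom))
  have hK : Coh.IsCoh (kernel e.hom) := CohKerH8.isCoh_kernel hM hN _
  have h : cc n k M = cc n k (kernel e.hom) + cc n k N := cc_ses S hS hK hM hN
  rw [h, cc_isZero (isZero_kernel_of_mono e.hom), zero_add]

/-! ### Twisted Euler characteristics -/

variable (n k)

/-- the additive function `F ↦ χ(F(t))` on `K₀(Coh P^n_k)` -/
noncomputable def chiTw (t : ℤ) : KZero.K0sub (PC n k) →+ ℤ :=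
  liftSub (PC n k)
    (fun M => FGA.eulerCharLE k (CohB1.ProjSpace n k) ((tR (OO n k t)).obj M) n) (by
      intro S hS h1 h2 h3
      have hSt := shortExact_twist n k S hS t
      haveI : Coh.IsQCoh (CohB1.tensorMod S.X₁ (OO n k t)) := isQCoh_twistBy n k S.X₁ h1.1 t
      exact eulerCharLE_additive k (S.map (tR (OO n k t))) hSt n
        (fun i => finite_HH k n _ (Groth.Agent.RegZero.isCoh_twistBy n k _ h1 t) i)
        (fun i => finite_HH k n _ (Groth.Agent.RegZero.isCoh_twistBy n k _ h2 t) i)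
        (fun i => finite_HH k n _ (Groth.Agent.RegZero.isCoh_twistBy n k _ h3 t) i)
        (Groth.Agent.S0022.result n k (CohB1.tensorMod S.X₁ (OO n k t)) (n + 1) (by omega)))

theorem chiTw_cc (t : ℤ) (M : (CohB1.ProjSpace n k).Modules) (hM : Coh.IsCoh M) :
    chiTw n k t (cc n k M) =
      FGA.eulerCharLE k (CohB1.ProjSpace n k) (CohB1.tensorMod M (OO n k t)) n :=
  liftSub_clSub (PC n k) _ _ M hM

theorem chiTw_twist (t d : ℤ) (h : 0 < n ∨ d + t = 0) :
    chiTw n k t (cc n k (OO n k d)) = Ring.choose (d + t + n) n := by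
  rw [chiTw_cc n k t _ (isCoh_OO n k d)]
  obtain ⟨e⟩ := twist_add' n k d t (d + t) rfl
  rw [eulerCharLE_of_iso k e n]
  rcases h with h | h
  · exact eulerCharLE_twist k n h (d + t)
  · rcases Nat.eq_zero_or_pos n with rfl | hn
    · rw [h]
      unfold FGA.eulerCharLE
      rw [Finset.sum_range_one]
      have h1 : Module.finrank k (Coh.HH (CohB1.ProjSpace 0 k) (OO 0 k 0) 0) = 1 :=
        Groth.Agent.ProjEuler.finrank_HH_zero k 0 0
      rw [h1]
      simp
    · exact eulerCharLE_twist k n hn (d + t)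

/-- the generators `[O(-i)]`, `0 ≤ i ≤ n` -/
noncomputable abbrev gen (i : Fin (n + 1)) : KZero.K0sub (PC n k) :=
  cc n k (OO n k (-((i : ℕ) : ℤ)))

/-- **injectivity** -/
theorem injective_comb :
    Function.Injective (fun a : Fin (n + 1) → ℤ => ∑ i : Fin (n + 1), a i • gen n k i) := by
  intro a b hab
  have h1 : ∀ t : ℕ, t ≤ n →
      ∑ i : Fin (n + 1), (a i - b i) * Ring.choose ((t : ℤ) - ((i : ℕ) : ℤ) + n) n = 0 := by
    intro t ht
    have h2 := congrArg (chiTw n k (t : ℤ)) hab
    simp only [map_sum, map_zsmul, smul_eq_mul] at h2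
    have h3 : ∀ i : Fin (n + 1), chiTw n k (t : ℤ) (gen n k i) =
        Ring.choose ((t : ℤ) - ((i : ℕ) : ℤ) + n) n := by
      intro i
      rw [chiTw_twist n k t _ (by have := i.isLt; omega)]
      congr 1
      ring
    simp only [h3] at h2
    simp only [sub_mul, Finset.sum_sub_distrib]
    rw [h2, sub_self]
  have h2 : ∀ t : ℕ, ∀ ht : t < n + 1, a ⟨t, ht⟩ - b ⟨t, ht⟩ = 0 := by
    intro t
    induction t using Nat.strong_induction_on with
    | _ t ih =>
      intro ht
      have e := h1 t (by omega)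
      rw [Finset.sum_eq_single (⟨t, ht⟩ : Fin (n + 1))] at e
      · have h4 : Ring.choose ((t : ℤ) - (((⟨t, ht⟩ : Fin (n + 1)) : ℕ) : ℤ) + n) n = 1 := by
          have : (t : ℤ) - (((⟨t, ht⟩ : Fin (n + 1)) : ℕ) : ℤ) + n = ((n : ℕ) : ℤ) := by
            simp
          rw [this, Ring.choose_natCast, Nat.choose_self]
          simp
        rw [h4, mul_one] at e
        exact e
      · intro i _ hi
        rcases lt_or_gt_of_ne (Fin.val_ne_of_ne hi) with h | h
        · have := ih i.val h i.isLt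
          rw [Fin.eta] at this
          rw [this, zero_mul]
        · have h5 : (t : ℤ) - ((i : ℕ) : ℤ) + n = ((t + n - (i : ℕ) : ℕ) : ℤ) := by
            have := i.isLt
            omega
          have h6 : t + n - (i : ℕ) < n := by
            have : t < (i : ℕ) := h
            omega
          rw [h5, Ring.choose_natCast, Nat.choose_eq_zero_of_lt h6]
          simp
      · intro h
        exact absurd (Finset.mem_univ _) h
  funext i
  have := h2 i.val i.isLt
  rw [Fin.eta] at this
  exact sub_eq_zero.mp this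

/-! ### Surjectivity -/

/-- the subgroup generated by `[O], [O(-1)], …, [O(-n)]` -/
noncomputable def HH0 : AddSubgroup (KZero.K0sub (PC n k)) :=
  (Submodule.span ℤ (Set.range (gen n k))).toAddSubgroup

theorem mem_HH0_iff (x : KZero.K0sub (PC n k)) :
    x ∈ HH0 n k ↔ ∃ a : Fin (n + 1) → ℤ, ∑ i, a i • gen n k i = x := by
  unfold HH0
  rw [Submodule.mem_toAddSubgroup, Submodule.mem_span_range_iff_exists_fun]

theorem gen_mem (i : Fin (n + 1)) : gen n k i ∈ HH0 n k :=
  Submodule.subset_span ⟨i, rfl⟩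

theorem isZero_sigma_fin_zero' {C : Type*} [Category C] [HasZeroMorphisms C]
    (f : Fin 0 → C) [HasCoproduct f] : IsZero (∐ f) := by
  rw [IsZero.iff_id_eq_zero]
  apply Sigma.hom_ext
  intro j
  exact j.elim0

/-- the class of a finite sum of twists -/
theorem cc_sigma : ∀ (m : ℕ) (d : Fin m → ℤ),
    cc n k (∐ fun j : Fin m => OO n k (d j)) = ∑ j : Fin m, cc n k (OO n k (d j)) := by
  intro m
  induction m with
  | zero =>
    intro d
    rw [cc_isZero (isZero_sigma_fin_zero' _)]
    simp
  | succ m ih =>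
    intro d
    have hS := sigmaSES (fun j : Fin (m + 1) => OO n k (d j))
    have h1 := cc_ses _ hS (isCoh_OO n k (d 0))
      (isCoh_of_isSumTw n k ⟨m + 1, d, ⟨Iso.refl _⟩⟩)
      (isCoh_of_isSumTw n k ⟨m, fun j => d j.succ, ⟨Iso.refl _⟩⟩)
    have h2 := ih (fun j => d j.succ)
    rw [Fin.sum_univ_succ]
    exact h1.trans (congrArg (fun x => cc n k (OO n k (d 0)) + x) h2)

/-- the Koszul relation in `K₀` -/
theorem koszul_rel (a : ℤ) :
    ∑ p ∈ Finset.range (n + 1 + 1),
      (-1 : ℤ) ^ p • ((n + 1).choose p • cc n k (OO n k (a + p))) = 0 := by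
  haveI := hasExt_modules (CohB1.ProjSpace n k)
  haveI := isNoeth n k
  have hX : ∀ p, Coh.IsCoh ((KP n k a).X p) := fun p =>
    isCoh_of_isSumTw n k ⟨_, _, ⟨KPIso n k a p⟩⟩
  have h1 := alt_sum_cochain (PC n k) (cc n k)
    (fun f hA hB => CohKerH8.isCoh_kernel hA hB f)
    (fun S hS h1 h2 h3 => cc_ses S hS h1 h2 h3)
    (fun Z hZ => cc_isZero hZ) (KP n k a) hX (KP_exactAt n k a) (n + 1)
    (fun p hp => isZero_KP n k a p hp)
  rw [← h1]
  apply Finset.sum_congr rfl
  intro p _
  congr 1
  rw [cc_iso (KPIso n k a p) (isCoh_of_isSumTw n k ⟨_, _, ⟨Iso.refl _⟩⟩), cc_sigma]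
  rw [Finset.sum_const, Finset.card_univ, Fintype.card_fin]

theorem neg_one_pow_smul_mem {G : Type*} [AddCommGroup G] (H : AddSubgroup G) (p : ℕ) (x : G)
    (h : (-1 : ℤ) ^ p • x ∈ H) : x ∈ H := by
  have h1 := H.zsmul_mem h ((-1 : ℤ) ^ p)
  rw [smul_smul, ← pow_add, ← two_mul, pow_mul] at h1
  simpa using h1

/-- every twist lies in the subgroup generated by `[O], …, [O(-n)]` -/
theorem cc_twist_mem (d : ℤ) : cc n k (OO n k d) ∈ HH0 n k := by
  have claim : ∀ m : ℕ, ∀ d : ℤ, -(n : ℤ) - m ≤ d → d ≤ m → cc n k (OO n k d) ∈ HH0 n k := by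
    intro m
    induction m with
    | zero =>
      intro d h1 h2
      obtain ⟨i, hi⟩ : ∃ i : ℕ, d = -(i : ℤ) := ⟨(-d).toNat, by omega⟩
      have hin : i < n + 1 := by omega
      have := gen_mem n k ⟨i, hin⟩
      rw [hi]
      exact this
    | succ m ih =>
      intro d h1 h2
      by_cases hd1 : d = m + 1
      · -- use the Koszul relation with `a = d - (n + 1)`
        have hrel := koszul_rel n k (d - (n + 1))
        rw [Finset.sum_range_succ] at hrel
        have e1 : (d - ((n : ℤ) + 1) + ((n + 1 : ℕ) : ℤ)) = d := by push_cast; ring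
        rw [Nat.choose_self, one_smul, e1] at hrel
        have h3 : (-1 : ℤ) ^ (n + 1) • cc n k (OO n k d) =
            -∑ p ∈ Finset.range (n + 1),
              (-1 : ℤ) ^ p • ((n + 1).choose p • cc n k (OO n k (d - (n + 1) + p))) :=
          eq_neg_of_add_eq_zero_right hrel
        apply neg_one_pow_smul_mem (HH0 n k) (n + 1)
        rw [h3]
        refine (HH0 n k).neg_mem ((HH0 n k).sum_mem (fun p hp => ?_))
        have hp' := Finset.mem_range.mp hp
        exact (HH0 n k).zsmul_mem ((HH0 n k).nsmul_mem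
          (ih _ (by push_cast at h1 ⊢; omega) (by omega)) _) _
      · by_cases hd2 : d = -(n : ℤ) - (m + 1)
        · have hrel := koszul_rel n k d
          rw [Finset.sum_range_succ'] at hrel
          simp only [pow_zero, Nat.choose_zero_right, one_smul, Nat.cast_zero, add_zero] at hrel
          have h3 : cc n k (OO n k d) =
              -∑ p ∈ Finset.range (n + 1), (-1 : ℤ) ^ (p + 1) •
                ((n + 1).choose (p + 1) • cc n k (OO n k (d + ((p + 1 : ℕ) : ℤ)))) :=
            eq_neg_of_add_eq_zero_right hrel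
          rw [h3]
          refine (HH0 n k).neg_mem ((HH0 n k).sum_mem (fun p hp => ?_))
          have hp' := Finset.mem_range.mp hp
          exact (HH0 n k).zsmul_mem ((HH0 n k).nsmul_mem
            (ih _ (by push_cast at h1 ⊢; omega) (by push_cast; omega)) _) _
        · exact ih d (by push_cast at h1; omega) (by push_cast at h2; omega)
  exact claim (d.natAbs) d (by omega) (by omega)

/-- the class of every coherent module lies in the subgroup generated by `[O], …, [O(-n)]` -/
theorem cc_mem (F : (CohB1.ProjSpace n k).Modules) (hF : Coh.IsCoh F) : cc n k F ∈ HH0 n k := by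
  have hsum : ∀ L : (CohB1.ProjSpace n k).Modules, IsSumTw n k L → cc n k L ∈ HH0 n k := by
    rintro L ⟨m, d, ⟨e⟩⟩
    rw [cc_iso e (isCoh_of_isSumTw n k ⟨m, d, ⟨Iso.refl _⟩⟩), cc_sigma]
    exact (HH0 n k).sum_mem (fun j _ => cc_twist_mem n k (d j))
  refine induction_coh n k (fun _ K => cc n k K ∈ HH0 n k) hsum (fun _ _ _ _ h => h) ?_ F hF
  intro ℓ K' L K ι φ hι hS hK' hK hL hmem
  have h1 : cc n k L = cc n k K' + cc n k K :=
    cc_ses _ hS hK' (isCoh_of_isSumTw n k hL) hK
  have h2 : cc n k K = cc n k L - cc n k K' := by rw [h1]; abel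
  rw [h2]
  exact (HH0 n k).sub_mem (hsum L hL) hmem

/-- **`K₀(Coh P^n_k)` is free on `[O], [O(-1)], …, [O(-n)]`** -/
theorem bijective_comb :
    Function.Bijective (fun a : Fin (n + 1) → ℤ => ∑ i : Fin (n + 1), a i • gen n k i) := by
  refine ⟨injective_comb n k, fun x => ?_⟩
  exact (mem_HH0_iff n k x).mp (mem_of_forall (PC n k) (HH0 n k) (fun F hF => cc_mem n k F hF) x)

end Groth.Agent.K0Proj
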