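import Mathlib
import Groth.Prelude
import Groth.Agent.Lib.HypReg3_helper9
import Groth.Agent.Lib.HypReg4_helper9
import Groth.Agent.Lib.K0Proj2_helper9
import Groth.Agent.Lib.HypConn2_helper9

/-!
# Hyperplane sections regular for a coherent module on projective space, part 5:
`h⁰(F(-1)) ≤ h⁰(F) - 1` (helper9)
**S5638**, **S5639**.
APPEND-ONLY once landed.
-/

set_option autoImplicit false
universe u
open CategoryTheory CategoryTheory.Limits AlgebraicGeometry Opposite TopologicalSpace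

namespace HypReg

open QcqsLoc QCohExtn GenLocH8 TensH8 FLFH8 NegTw9 Groth.Agent.TensInv Groth.Agent.ProjTens

section Main

variable (k : Type u) [Field k] [IsAlgClosed k] (N : ℕ)

/-- **S5638** -/
theorem main5638 (F : (CohB1.ProjSpace N k).Modules) (hF : Coh.IsCoh F)
    (hass : ∀ x : ↥(CohB1.ProjSpace N k), Curv2.IsAssPoint F x →
      ¬ IsClosed ({x} : Set ↥(CohB1.ProjSpace N k)))
    (h0 : 1 ≤ Module.finrank k (Coh.HH (CohB1.ProjSpace N k) F 0)) :
    Module.finrank k (Coh.HH (CohB1.ProjSpace N k)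
        (CohB1.tensorMod F (Twist.twistProjSpace N k (-1))) 0) + 1 ≤
      Module.finrank k (Coh.HH (CohB1.ProjSpace N k) F 0) := by
  haveI : IsProper (CohB1.ProjSpace N k ↘ Spec (CommRingCat.of k)) :=
    Groth.Agent.Lib.ProjSpaceProperH4.isProper_toSpec N k
  haveI : IsNoetherian (CohB1.ProjSpace N k) := Groth.Agent.K0Proj.isNoeth N k
  obtain ⟨ε⟩ := twist_inv N k 1 (-1) (by norm_num)
  have hFt : Coh.IsCoh (CohB1.tensorMod F (OO N k (-1))) :=
    Snap9.isCoh_tensorMod hF (Groth.Agent.Horrocks.isInvertible_OO N k (-1))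
  haveI := ProperFinH9.finite_HH_of_proper k (CohB1.ProjSpace N k) _ hF 0
  haveI := ProperFinH9.finite_HH_of_proper k (CohB1.ProjSpace N k) _ hFt 0
  haveI : Module.Finite k (Coh.structureModule (CohB1.ProjSpace N k) ⟶ F) :=
    Module.Finite.equiv (CurveIdeal.thetaEquiv k F).symm
  haveI : Module.Finite k (Coh.structureModule (CohB1.ProjSpace N k) ⟶
      CohB1.tensorMod F (OO N k (-1))) :=
    Module.Finite.equiv (CurveIdeal.thetaEquiv k _).symm
  have hfin := finite_assPoints F hF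
  haveI : Finite {x : ↥(CohB1.ProjSpace N k) // Curv2.IsAssPoint F x} := hfin.to_subtype
  have hcov : ∀ η : ProjectiveSpectrum (CohB1.polyGrading N k),
      ∃ f ∈ CohB1.polyGrading N k 1, f ∉ η.asHomogeneousIdeal.toIdeal := by
    intro η
    obtain ⟨f, hf, hη⟩ := hcov' N k η
    exact ⟨f, hf, (Proj.mem_basicOpen _ f η).mp hη⟩
  have key := finrank_succ_le_of_regular (mulMap k N ε F)
    (fun i : {x : ↥(CohB1.ProjSpace N k) // Curv2.IsAssPoint F x} =>
      pOf (k := k) (N := N) i.1) ?_ ?_ ?_ ?_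
  · rw [← (CurveIdeal.thetaEquiv k F).finrank_eq, ← (CurveIdeal.thetaEquiv k _).finrank_eq]
    exact key
  · intro h hh
    refine mulMap_injective k N ε F hF h ?_
    intro x hx
    exact (Proj.mem_basicOpen _ h.1 x).mpr (hh ⟨x, hx⟩)
  · intro i htop
    obtain ⟨f, hf, hη⟩ := hcov i.1
    apply hη
    have : (⟨f, hf⟩ : CohB1.polyGrading N k 1) ∈ pOf (k := k) (N := N) i.1 := by
      rw [htop]; trivial
    exact this
  · intro i h _ htop
    exact hass i.1 i.2 (isClosed_singleton_of_sup_eq_top hcov i.1 h htop)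
  · rw [(CurveIdeal.thetaEquiv k F).finrank_eq]
    exact h0

/-- `h⁰(F(-1)) ≤ h⁰(F)` -/
theorem finrank_twist_le (F : (CohB1.ProjSpace N k).Modules) (hF : Coh.IsCoh F) :
    Module.finrank k (Coh.HH (CohB1.ProjSpace N k)
        (CohB1.tensorMod F (Twist.twistProjSpace N k (-1))) 0) ≤
      Module.finrank k (Coh.HH (CohB1.ProjSpace N k) F 0) := by
  haveI : IsProper (CohB1.ProjSpace N k ↘ Spec (CommRingCat.of k)) :=
    Groth.Agent.Lib.ProjSpaceProperH4.isProper_toSpec N k
  haveI : IsNoetherian (CohB1.ProjSpace N k) := Groth.Agent.K0Proj.isNoeth N k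
  obtain ⟨ε⟩ := twist_inv N k 1 (-1) (by norm_num)
  have hFt : Coh.IsCoh (CohB1.tensorMod F (OO N k (-1))) :=
    Snap9.isCoh_tensorMod hF (Groth.Agent.Horrocks.isInvertible_OO N k (-1))
  haveI := ProperFinH9.finite_HH_of_proper k (CohB1.ProjSpace N k) _ hF 0
  haveI := ProperFinH9.finite_HH_of_proper k (CohB1.ProjSpace N k) _ hFt 0
  haveI : Module.Finite k (Coh.structureModule (CohB1.ProjSpace N k) ⟶ F) :=
    Module.Finite.equiv (CurveIdeal.thetaEquiv k F).symm
  have hfin := finite_assPoints F hF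
  haveI : Finite {x : ↥(CohB1.ProjSpace N k) // Curv2.IsAssPoint F x} := hfin.to_subtype
  obtain ⟨h, hh⟩ := Submodule.exists_forall_notMem_of_forall_ne_top
    (fun i : {x : ↥(CohB1.ProjSpace N k) // Curv2.IsAssPoint F x} =>
      pOf (k := k) (N := N) i.1) (by
      intro i htop
      obtain ⟨f, hf, hη⟩ := hcov' N k i.1
      apply (Proj.mem_basicOpen _ f i.1).mp hη
      have : (⟨f, hf⟩ : CohB1.polyGrading N k 1) ∈ pOf (k := k) (N := N) i.1 := by
        rw [htop]; trivial
      exact this)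
  have hinj := mulMap_injective k N ε F hF h (fun x hx =>
    (Proj.mem_basicOpen _ h.1 x).mpr (hh ⟨x, hx⟩))
  rw [← (CurveIdeal.thetaEquiv k F).finrank_eq, ← (CurveIdeal.thetaEquiv k _).finrank_eq]
  exact LinearMap.finrank_le_finrank_of_injective hinj

/-- `h⁰(F(-j)) ≤ h⁰(F) - j` -/
theorem finrank_twist_neg_le (F : (CohB1.ProjSpace N k).Modules) (hF : Coh.IsCoh F)
    (hass : ∀ x : ↥(CohB1.ProjSpace N k), Curv2.IsAssPoint F x →
      ¬ IsClosed ({x} : Set ↥(CohB1.ProjSpace N k))) (j : ℕ) :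
    Module.finrank k (Coh.HH (CohB1.ProjSpace N k)
        (CohB1.tensorMod F (Twist.twistProjSpace N k (-(j : ℤ)))) 0) ≤
      Module.finrank k (Coh.HH (CohB1.ProjSpace N k) F 0) - j := by
  haveI : IsNoetherian (CohB1.ProjSpace N k) := Groth.Agent.K0Proj.isNoeth N k
  haveI := hF.1
  induction j with
  | zero =>
    obtain ⟨e0⟩ := twist_zero N k
    have e : CohB1.tensorMod F (Twist.twistProjSpace N k (-((0 : ℕ) : ℤ))) ≅ F :=
      mapL F e0 ≪≫ rightUnit F
    rw [(Groth.Agent.HypConn.hhEquivOfIso (A := k) e 0).finrank_eq]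
    exact le_rfl
  | succ j ih =>
    have hGc : Coh.IsCoh (CohB1.tensorMod F (Twist.twistProjSpace N k (-(j : ℤ)))) :=
      Snap9.isCoh_tensorMod hF (Groth.Agent.Horrocks.isInvertible_OO N k _)
    have hGass : ∀ x : ↥(CohB1.ProjSpace N k),
        Curv2.IsAssPoint (CohB1.tensorMod F (Twist.twistProjSpace N k (-(j : ℤ)))) x →
        ¬ IsClosed ({x} : Set ↥(CohB1.ProjSpace N k)) := fun x hx =>
      hass x ((isAssPoint_tensorMod_iff F (Groth.Agent.Horrocks.isInvertible_OO N k _) x).mp hx)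
    obtain ⟨e⟩ := twist_twist N k F (-(j : ℤ)) (-1) (-((j + 1 : ℕ) : ℤ)) (by push_cast; ring)
    have key : Module.finrank k (Coh.HH (CohB1.ProjSpace N k)
        (CohB1.tensorMod (CohB1.tensorMod F (Twist.twistProjSpace N k (-(j : ℤ))))
          (Twist.twistProjSpace N k (-1))) 0) =
        Module.finrank k (Coh.HH (CohB1.ProjSpace N k)
          (CohB1.tensorMod F (Twist.twistProjSpace N k (-((j + 1 : ℕ) : ℤ)))) 0) :=
      (Groth.Agent.HypConn.hhEquivOfIso (A := k) e 0).finrank_eq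
    rw [← key]
    by_cases h1 : 1 ≤ Module.finrank k (Coh.HH (CohB1.ProjSpace N k)
        (CohB1.tensorMod F (Twist.twistProjSpace N k (-(j : ℤ)))) 0)
    · have := main5638 k N _ hGc hGass h1
      omega
    · have := finrank_twist_le k N _ hGc
      omega

/-- **S5639** -/
theorem main5639 (F : (CohB1.ProjSpace N k).Modules) (hF : Coh.IsCoh F)
    (hass : ∀ x : ↥(CohB1.ProjSpace N k), Curv2.IsAssPoint F x →
      ¬ IsClosed ({x} : Set ↥(CohB1.ProjSpace N k)))
    (n : ℕ) (hn : Module.finrank k (Coh.HH (CohB1.ProjSpace N k) F 0) ≤ n) :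
    Subsingleton (Coh.HH (CohB1.ProjSpace N k)
      (CohB1.tensorMod F (Twist.twistProjSpace N k (-(n : ℤ)))) 0) := by
  haveI : IsProper (CohB1.ProjSpace N k ↘ Spec (CommRingCat.of k)) :=
    Groth.Agent.Lib.ProjSpaceProperH4.isProper_toSpec N k
  haveI : IsNoetherian (CohB1.ProjSpace N k) := Groth.Agent.K0Proj.isNoeth N k
  have hFt : Coh.IsCoh (CohB1.tensorMod F (OO N k (-(n : ℤ)))) :=
    Snap9.isCoh_tensorMod hF (Groth.Agent.Horrocks.isInvertible_OO N k _)
  haveI := ProperFinH9.finite_HH_of_proper k (CohB1.ProjSpace N k) _ hFt 0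
  have h := finrank_twist_neg_le k N F hF hass n
  have h0 : Module.finrank k (Coh.HH (CohB1.ProjSpace N k)
      (CohB1.tensorMod F (Twist.twistProjSpace N k (-(n : ℤ)))) 0) = 0 := by omega
  exact Module.finrank_zero_iff.mp h0

end Main

end HypReg
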