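import Mathlib
import Groth.Prelude
import Groth.Agent.Lib.HypReg5_helper9
import Groth.Agent.Lib.Horseshoe0_helper9
import Groth.Agent.Lib.RegGG_helper9

/-!
# Mumford's uniform bound on the regularity of kernels, part 1: the restriction sequences of a
general hyperplane (helper9)

For coherent modules on `P^N_k`, `k` infinite, a linear form avoiding the associated points acts
injectively; the snake lemma for the multiplication by such a form.  No geometry of the hyperplane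
is used: the "restriction" of `G` is the cokernel of `G(-1) ⟶ G`.
APPEND-ONLY once landed.  Towards S1643.
-/

set_option autoImplicit false
universe u v
open CategoryTheory CategoryTheory.Limits AlgebraicGeometry Opposite TopologicalSpace

namespace Groth.Agent.MumReg

open QcqsLoc QCohExtn GenLocH8 TensH8 FLFH8 NegTw9 Groth.Agent.TensInv Groth.Agent.ProjTens HypReg

section Nat

variable {X : Scheme.{u}}

/-- naturality of `mu τ` -/
theorem mu_naturality {T : X.Modules} (τ : T ⟶ Coh.structureModule X) {G G' : X.Modules}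
    (f : G ⟶ G') : (tR T).map f ≫ mu τ G' = mu τ G ≫ f := by
  apply PFormH9.hom_ext_tmul
  intro U g a
  show ap (mu τ G') U (ap ((tR T).map f) U (SecTwist.tmul G T U g a)) =
    ap f U (ap (mu τ G) U (SecTwist.tmul G T U g a))
  rw [RegGGH9.tR_map_tmul', mu_tmul, mu_tmul, ap_smul]

end Nat

section Snake

variable {C : Type u} [Category.{v} C] [Abelian C]

/-- the snake lemma for an injective endomorphism of a short exact sequence -/
theorem snake {S J : ShortComplex C} (η : S ⟶ J) (hS : S.ShortExact) (hJ : J.ShortExact)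
    (h₂ : Mono η.τ₂) (h₃ : Mono η.τ₃) :
    ∃ (Q : ShortComplex C) (p : J ⟶ Q), Q.ShortExact ∧ Mono η.τ₁ ∧
      (∃ w, (ShortComplex.mk η.τ₁ p.τ₁ w).ShortExact) ∧
      (∃ w, (ShortComplex.mk η.τ₂ p.τ₂ w).ShortExact) ∧
      (∃ w, (ShortComplex.mk η.τ₃ p.τ₃ w).ShortExact) := by
  haveI := hS.epi_g
  haveI := hS.mono_f
  haveI := hJ.mono_f
  haveI := hJ.epi_g
  have h₁ : Mono η.τ₁ := by
    haveI : Mono (η.τ₁ ≫ J.f) := by
      rw [η.comm₁₂]
      exact mono_comp _ _
    exact mono_of_mono η.τ₁ J.f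
  let I : ShortComplex.SnakeInput C :=
    { L₀ := kernel η
      L₁ := S
      L₂ := J
      L₃ := cokernel η
      v₀₁ := kernel.ι η
      v₁₂ := η
      v₂₃ := cokernel.π η
      w₀₂ := kernel.condition η
      w₁₃ := cokernel.condition η
      h₀ := kernelIsKernel η
      h₃ := cokernelIsCokernel η
      L₁_exact := hS.exact
      epi_L₁_g := hS.epi_g
      L₂_exact := hJ.exact
      mono_L₂_f := hJ.mono_f }
  refine ⟨cokernel η, cokernel.π η, Groth.Agent.Lib.Horseshoe0.shortExact_cokernel η hS hJ h₃, h₁, ?_, ?_, ?_⟩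
  · refine ⟨I.w₁₃_τ₁, ?_⟩
    haveI : Epi (cokernel.π η).τ₁ := I.epi_v₂₃_τ₁
    exact { exact := ShortComplex.exact_of_g_is_cokernel _ I.h₃τ₁, mono_f := h₁,
            epi_g := inferInstanceAs (Epi (cokernel.π η).τ₁) }
  · refine ⟨I.w₁₃_τ₂, ?_⟩
    haveI : Epi (cokernel.π η).τ₂ := I.epi_v₂₃_τ₂
    exact { exact := ShortComplex.exact_of_g_is_cokernel _ I.h₃τ₂, mono_f := h₂,
            epi_g := inferInstanceAs (Epi (cokernel.π η).τ₂) }
  · refine ⟨I.w₁₃_τ₃, ?_⟩
    haveI : Epi (cokernel.π η).τ₃ := I.epi_v₂₃_τ₃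
    exact { exact := ShortComplex.exact_of_g_is_cokernel _ I.h₃τ₃, mono_f := h₃,
            epi_g := inferInstanceAs (Epi (cokernel.π η).τ₃) }

end Snake

section Tau

variable (k : Type u) [Field k] [Infinite k] (N : ℕ)

/-- a linear form acting injectively on two given coherent modules -/
theorem exists_tau (A F : (CohB1.ProjSpace N k).Modules) (hA : Coh.IsCoh A) (hF : Coh.IsCoh F) :
    ∃ τ : OO N k (-1) ⟶ Coh.structureModule (CohB1.ProjSpace N k),
      Mono (mu τ A) ∧ Mono (mu τ F) := by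
  haveI := Groth.Agent.Lib.ProjSpaceProperH4.isProper_toSpec N k
  haveI : IsNoetherian (CohB1.ProjSpace N k) := Groth.Agent.K0Proj.isNoeth N k
  haveI : IsLocallyNoetherian (CohB1.ProjSpace N k) :=
    LocallyOfFiniteType.isLocallyNoetherian (CohB1.ProjSpace.toSpec N k)
  obtain ⟨ε⟩ := twist_inv N k 1 (-1) (by norm_num)
  have hfin : ({x : ↥(CohB1.ProjSpace N k) | Curv2.IsAssPoint A x} ∪
      {x : ↥(CohB1.ProjSpace N k) | Curv2.IsAssPoint F x}).Finite :=
    (finite_assPoints A hA).union (finite_assPoints F hF)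
  haveI : Finite ↥({x : ↥(CohB1.ProjSpace N k) | Curv2.IsAssPoint A x} ∪
      {x : ↥(CohB1.ProjSpace N k) | Curv2.IsAssPoint F x}) := hfin.to_subtype
  have hcov : ∀ η : ProjectiveSpectrum (CohB1.polyGrading N k),
      ∃ f ∈ CohB1.polyGrading N k 1, f ∉ η.asHomogeneousIdeal.toIdeal := by
    intro η
    obtain ⟨f, hf, hη⟩ := hcov' N k η
    exact ⟨f, hf, (Proj.mem_basicOpen _ f η).mp hη⟩
  obtain ⟨h, hh⟩ := Submodule.exists_forall_notMem_of_forall_ne_top (K := k)
    (M := CohB1.polyGrading N k 1)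
    (fun i : ↥({x : ↥(CohB1.ProjSpace N k) | Curv2.IsAssPoint A x} ∪
      {x : ↥(CohB1.ProjSpace N k) | Curv2.IsAssPoint F x}) => pOf (k := k) (N := N) i.1)
    (fun i htop => by
      obtain ⟨f, hf, hη⟩ := hcov i.1
      apply hη
      have : (⟨f, hf⟩ : CohB1.polyGrading N k 1) ∈ pOf (k := k) (N := N) i.1 := by
        rw [htop]; trivial
      exact this)
  have key : ∀ G : (CohB1.ProjSpace N k).Modules, Coh.IsCoh G →
      (∀ x, Curv2.IsAssPoint G x → x ∈ ({x : ↥(CohB1.ProjSpace N k) | Curv2.IsAssPoint A x} ∪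
        {x : ↥(CohB1.ProjSpace N k) | Curv2.IsAssPoint F x})) →
      Mono (mu (tauOf (sec k N h) ε) G) := by
    intro G hG hsub
    haveI := hG.1
    refine mono_mu (Groth.Agent.Horrocks.isInvertible_OO N k (-1)) _ G ?_
    intro x hx W e he hxW
    rw [basicOpen_tauOf (Groth.Agent.Horrocks.isInvertible_OO N k 1) (sec k N h) ε he,
      genLocus_sec]
    exact ⟨(Proj.mem_basicOpen _ h.1 x).mpr (hh ⟨x, hsub x hx⟩), hxW⟩
  exact ⟨tauOf (sec k N h) ε, key A hA (fun x hx => Or.inl hx), key F hF (fun x hx => Or.inr hx)⟩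

/-- **the restriction sequences**: for a short exact sequence `0 → K → A → F → 0` of coherent
modules, there are a monomorphism `ι : K(-1) ⟶ K` and a short exact sequence
`0 → K₁ → A₁ → F₁ → 0` together with short exact sequences `0 → G(-1) → G → G₁ → 0` for
`G = K, A, F`. -/
theorem exists_restriction (S : ShortComplex (CohB1.ProjSpace N k).Modules) (hS : S.ShortExact)
    (hA : Coh.IsCoh S.X₂) (hF : Coh.IsCoh S.X₃) :
    ∃ (Q : ShortComplex (CohB1.ProjSpace N k).Modules)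
      (ι₁ : CohB1.tensorMod S.X₁ (OO N k (-1)) ⟶ S.X₁)
      (ι₂ : CohB1.tensorMod S.X₂ (OO N k (-1)) ⟶ S.X₂)
      (ι₃ : CohB1.tensorMod S.X₃ (OO N k (-1)) ⟶ S.X₃)
      (p₁ : S.X₁ ⟶ Q.X₁) (p₂ : S.X₂ ⟶ Q.X₂) (p₃ : S.X₃ ⟶ Q.X₃),
      Q.ShortExact ∧ Mono ι₁ ∧
      (∃ w, (ShortComplex.mk ι₁ p₁ w).ShortExact) ∧
      (∃ w, (ShortComplex.mk ι₂ p₂ w).ShortExact) ∧
      (∃ w, (ShortComplex.mk ι₃ p₃ w).ShortExact) := by
  obtain ⟨τ, hτA, hτF⟩ := exists_tau k N S.X₂ S.X₃ hA hF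
  have hST : (S.map (tR (OO N k (-1)))).ShortExact :=
    shortExact_tR (twist_inv N k (-1) 1 (by norm_num)) S hS
  let η : S.map (tR (OO N k (-1))) ⟶ S :=
    ShortComplex.homMk (mu τ S.X₁) (mu τ S.X₂) (mu τ S.X₃)
      (mu_naturality τ S.f).symm (mu_naturality τ S.g).symm
  obtain ⟨Q, p, hQ, h₁, e₁, e₂, e₃⟩ := snake η hST hS hτA hτF
  exact ⟨Q, mu τ S.X₁, mu τ S.X₂, mu τ S.X₃, p.τ₁, p.τ₂, p.τ₃, hQ, h₁, e₁, e₂, e₃⟩

end Tau

end Groth.Agent.MumReg
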