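import Mathlib
import Groth.Prelude
import Groth.Agent.Lib.MumReg1_helper9
import Groth.Agent.Lib.EulerField_helper9
import Groth.Agent.Lib.GaetaP2b_helper9
import Groth.Agent.Lib.CurveTens4_helper9
import Groth.Agent.Lib.RegZero_helper9
import Groth.Agent.Lib.HHVan_helper9
import Groth.Agent.S0022

/-!
# Mumford's uniform bound on the regularity of kernels, part 2: Hilbert polynomials and vanishing
along the restriction sequences (helper9)
APPEND-ONLY once landed.  Towards S1643.
-/

set_option autoImplicit false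
universe u
open CategoryTheory CategoryTheory.Limits AlgebraicGeometry Opposite TopologicalSpace Polynomial

namespace Groth.Agent.MumReg

open Groth.Agent.TensInv Groth.Agent.ProjTens

section Poly

/-- the backward difference `P(t) - P(t - 1)` -/
noncomputable def diff (P : ℚ[X]) : ℚ[X] := P - P.comp (X - C 1)

theorem eval_diff (P : ℚ[X]) (t : ℚ) : (diff P).eval t = P.eval t - P.eval (t - 1) := by
  unfold diff
  rw [eval_sub, eval_comp, eval_sub, eval_X, eval_C]

theorem degree_diff_lt (P : ℚ[X]) (d : ℕ) (h : P.degree < ((d + 1 : ℕ) : WithBot ℕ)) :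
    (diff P).degree < (d : WithBot ℕ) := by
  by_cases hP : P = 0
  · subst hP
    have : diff (0 : ℚ[X]) = 0 := by unfold diff; simp
    rw [this, degree_zero]
    exact WithBot.bot_lt_coe _
  · have hq : (X - C (1 : ℚ)).natDegree ≠ 0 := by rw [natDegree_X_sub_C]; exact one_ne_zero
    have hlc : (P.comp (X - C 1)).leadingCoeff = P.leadingCoeff := by
      rw [leadingCoeff_comp hq, leadingCoeff_X_sub_C, one_pow, mul_one]
    have hne : P.comp (X - C 1) ≠ 0 := by
      intro h0
      rw [h0, leadingCoeff_zero] at hlc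
      exact hP (leadingCoeff_eq_zero.mp hlc.symm)
    have hdeg : P.degree = (P.comp (X - C 1)).degree := by
      rw [degree_eq_natDegree hP, degree_eq_natDegree hne, natDegree_comp, natDegree_X_sub_C,
        mul_one]
    have h1 : (diff P).degree < P.degree := degree_sub_lt hdeg hP hlc.symm
    have h2 : P.degree ≤ (d : WithBot ℕ) := by
      rw [degree_eq_natDegree hP] at h ⊢
      exact_mod_cast Nat.lt_succ_iff.mp (by exact_mod_cast h)
    exact lt_of_lt_of_le h1 h2

end Poly

variable (k : Type u) [Field k] (N : ℕ)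

/-- vanishing of the higher cohomology of the twists `A(t)`, `t ≥ t₀` -/
def Van (A : (CohB1.ProjSpace N k).Modules) (t₀ : ℤ) : Prop :=
  ∀ i : ℕ, 1 ≤ i → ∀ t : ℤ, t₀ ≤ t →
    Subsingleton (Coh.HH (CohB1.ProjSpace N k) (CohB1.tensorMod A (OO N k t)) i)

/-- `P` is the Hilbert polynomial of `A` -/
def Hilb (A : (CohB1.ProjSpace N k).Modules) (P : ℚ[X]) : Prop :=
  ∀ t : ℤ, (Curv2.euler k (CohB1.ProjSpace N k) (CohB1.tensorMod A (OO N k t)) : ℚ) =
    P.eval (t : ℚ)

variable {k N}

theorem Van.mono {A : (CohB1.ProjSpace N k).Modules} {t₀ t₁ : ℤ} (h : Van k N A t₀)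
    (h01 : t₀ ≤ t₁) : Van k N A t₁ := fun i hi t ht => h i hi t (h01.trans ht)

theorem Van.of_iso {A B : (CohB1.ProjSpace N k).Modules} (e : A ≅ B) {t₀ : ℤ} (h : Van k N A t₀) :
    Van k N B t₀ := fun i hi t ht =>
  Groth.Agent.HHVan.subsingleton_of_iso (mapR e _) i (h i hi t ht)

theorem Hilb.of_iso {A B : (CohB1.ProjSpace N k).Modules} (e : A ≅ B) {P : ℚ[X]}
    (h : Hilb k N A P) : Hilb k N B P := fun t => by
  rw [← h t, CurveTens.euler_of_iso k _ (mapR e (OO N k t))]

section Ses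

variable {G G₁ : (CohB1.ProjSpace N k).Modules}
  (ι : CohB1.tensorMod G (OO N k (-1)) ⟶ G) (p : G ⟶ G₁) (w : ι ≫ p = 0)
  (hS : (ShortComplex.mk ι p w).ShortExact)

include hS in
theorem van_restrict {t₀ : ℤ} (hV : Van k N G t₀) : Van k N G₁ (t₀ + 1) := by
  intro i hi t ht
  have hS' := shortExact_twist N k _ hS t
  obtain ⟨e⟩ := twist_twist N k G (-1) t (t - 1) (by omega)
  refine Groth.Agent.HHVan.subsingleton_right _ hS' i ?_ ?_
  · exact hV i hi t (by omega)
  · exact Groth.Agent.HHVan.subsingleton_of_iso e.symm (i + 1) (hV (i + 1) (by omega) (t - 1)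
      (by omega))

include hS in
theorem hilb_restrict (hG : Coh.IsCoh G) (hG₁ : Coh.IsCoh G₁) {P : ℚ[X]} (hH : Hilb k N G P) :
    Hilb k N G₁ (diff P) := by
  haveI : IsProper (CohB1.ProjSpace N k ↘ Spec (CommRingCat.of k)) :=
    Groth.Agent.Lib.ProjSpaceProperH4.isProper_toSpec N k
  intro t
  have hS' := shortExact_twist N k _ hS t
  obtain ⟨e⟩ := twist_twist N k G (-1) t (t - 1) (by omega)
  have h1 := EulerField.euler_additive k (CohB1.ProjSpace N k) _ hS'
    (Groth.Agent.RegZero.isCoh_twistBy N k _ (Groth.Agent.RegZero.isCoh_twistBy N k G hG (-1)) t)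
    (Groth.Agent.RegZero.isCoh_twistBy N k G hG t)
    (Groth.Agent.RegZero.isCoh_twistBy N k G₁ hG₁ t)
  have h2 : Curv2.euler k (CohB1.ProjSpace N k)
      (CohB1.tensorMod (CohB1.tensorMod G (OO N k (-1))) (OO N k t)) =
      Curv2.euler k (CohB1.ProjSpace N k) (CohB1.tensorMod G (OO N k (t - 1))) :=
    CurveTens.euler_of_iso k _ e
  have h1' : Curv2.euler k (CohB1.ProjSpace N k) (CohB1.tensorMod G (OO N k t)) =
      Curv2.euler k (CohB1.ProjSpace N k)
        (CohB1.tensorMod (CohB1.tensorMod G (OO N k (-1))) (OO N k t)) +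
      Curv2.euler k (CohB1.ProjSpace N k) (CohB1.tensorMod G₁ (OO N k t)) := h1
  rw [h2] at h1'
  rw [eval_diff, ← hH t]
  have h3 := hH (t - 1)
  push_cast at h3
  rw [← h3, h1']
  push_cast
  ring

end Ses

/-- a coherent module with vanishing Hilbert polynomial and eventually vanishing higher
cohomology is zero -/
theorem isZero_of_hilb_zero (A : (CohB1.ProjSpace N k).Modules) (hA : Coh.IsCoh A) (t₀ : ℤ)
    (hV : Van k N A t₀) (hH : Hilb k N A 0) : IsZero A := by
  haveI : IsProper (CohB1.ProjSpace N k ↘ Spec (CommRingCat.of k)) :=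
    Groth.Agent.Lib.ProjSpaceProperH4.isProper_toSpec N k
  haveI := hA.1
  have hreg : ∀ q : ℕ, 1 ≤ q → Subsingleton (Coh.HH (CohB1.ProjSpace N k)
      (CohB1.tensorMod A (OO N k ((t₀ + N + 1) - q))) q) := by
    intro q hq
    by_cases hqN : q ≤ N
    · exact hV q hq _ (by omega)
    · haveI : Coh.IsQCoh (CohB1.tensorMod A (OO N k ((t₀ + N + 1) - q))) :=
        isQCoh_twistBy N k A hA.1 _
      exact Groth.Agent.S0022.result N k _ q (by omega)
  haveI hepi : Epi (Sigma.desc (fun φ : OO N k (-(t₀ + N + 1)) ⟶ A => φ)) :=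
    RegGGH9.epi_sigma_desc_qcoh N k (t₀ + N + 1) hreg
  -- `H⁰(A(m)) = 0`
  have hAm := Groth.Agent.RegZero.isCoh_twistBy N k A hA (t₀ + N + 1)
  have h0 : Module.finrank k (Coh.HH (CohB1.ProjSpace N k)
      (CohB1.tensorMod A (OO N k (t₀ + N + 1))) 0) = 0 := by
    have h1 := EulerField.euler_eq_sum k (CohB1.ProjSpace N k) 0
      (CohB1.tensorMod A (OO N k (t₀ + N + 1))) (fun p hp => hV p hp _ (by omega))
    have h2 := hH (t₀ + N + 1)
    rw [eval_zero, h1] at h2
    simp at h2
    exact h2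
  haveI := Groth.Agent.ExtDual.finite_HH k N _ hAm 0
  haveI : Subsingleton (Coh.HH (CohB1.ProjSpace N k)
      (CohB1.tensorMod A (OO N k (t₀ + N + 1))) 0) := Module.finrank_zero_iff.mp h0
  obtain ⟨E⟩ := Groth.Agent.Gaeta.nonempty_homEquiv N k (-(t₀ + N + 1)) A
  rw [neg_neg] at E
  haveI : Subsingleton (OO N k (-(t₀ + N + 1)) ⟶ A) := E.toEquiv.subsingleton
  have hz : Sigma.desc (fun φ : OO N k (-(t₀ + N + 1)) ⟶ A => φ) = 0 := by
    apply Sigma.hom_ext
    intro φ
    rw [Sigma.ι_desc, Limits.comp_zero]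
    exact Subsingleton.elim _ _
  exact IsZero.of_epi_eq_zero _ hz

end Groth.Agent.MumReg
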