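import Mathlib
import Groth.Prelude
import Groth.Agent.Lib.MumReg2_helper9
import Groth.Agent.Lib.CMClosed1_helper9
import Groth.Agent.Lib.CohKer_helper8
import Groth.Agent.Lib.CurveDegAdd1_helper9
import Groth.Agent.S11296

/-!
# Mumford's uniform bound on the regularity of kernels, part 3: the induction (helper9)

For coherent `A` on `P^N_k` with Hilbert polynomial `P_A` and `H^i(A(t)) = 0` for `i ≥ 1`,
`t ≥ t₀`: the kernel of any epimorphism `A ⟶ F` onto a coherent module with Hilbert polynomial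
`P` is `m`-regular, `m` depending only on `N, t₀, P_A, P`.
APPEND-ONLY once landed.  Towards S1643.
-/

set_option autoImplicit false
universe u
open CategoryTheory CategoryTheory.Limits AlgebraicGeometry Opposite TopologicalSpace Polynomial

namespace Groth.Agent.MumReg

open Groth.Agent.TensInv Groth.Agent.ProjTens

theorem isMRegular_of_iso {k : Type u} [Field k] {N : ℕ} {A B : (CohB1.ProjSpace N k).Modules}
    (e : A ≅ B) {m : ℤ} (h : Curv2.IsMRegular k N A m) : Curv2.IsMRegular k N B m :=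
  fun i hi hiN => Groth.Agent.HHVan.subsingleton_of_iso (mapR e _) i (h i hi hiN)

theorem isMRegular_of_isZero {k : Type u} [Field k] {N : ℕ} {A : (CohB1.ProjSpace N k).Modules}
    (hA : IsZero A) (m : ℤ) : Curv2.IsMRegular k N A m := fun i _ _ =>
  CurveDegAdd.HH_subsingleton_of_isZero _ ((tR (OO N k (m - i))).map_isZero hA) i

/-- the bound `h¹(K(t)) ≤ h⁰(F(t)) = P(t)` -/
theorem finrank_H1_le {k : Type u} [Field k] {N : ℕ}
    (S : ShortComplex (CohB1.ProjSpace N k).Modules) (hS : S.ShortExact)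
    (hF : Coh.IsCoh S.X₃) (P : ℚ[X]) (hH : Hilb k N S.X₃ P) (t : ℤ)
    (hA : ∀ i : ℕ, 1 ≤ i → Subsingleton (Coh.HH (CohB1.ProjSpace N k)
      (CohB1.tensorMod S.X₂ (OO N k t)) i))
    (hK : ∀ i : ℕ, 2 ≤ i → Subsingleton (Coh.HH (CohB1.ProjSpace N k)
      (CohB1.tensorMod S.X₁ (OO N k t)) i)) :
    Module.finrank k (Coh.HH (CohB1.ProjSpace N k) (CohB1.tensorMod S.X₁ (OO N k t)) 1) ≤
      ⌈P.eval (t : ℚ)⌉.toNat := by
  haveI : IsProper (CohB1.ProjSpace N k ↘ Spec (CommRingCat.of k)) :=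
    Groth.Agent.Lib.ProjSpaceProperH4.isProper_toSpec N k
  have hS' := shortExact_twist N k S hS t
  have hFt := Groth.Agent.RegZero.isCoh_twistBy N k S.X₃ hF t
  haveI : Module.Finite k (Coh.HH (CohB1.ProjSpace N k)
      (S.map (tR (OO N k t))).X₃ 0) := Groth.Agent.ExtDual.finite_HH k N _ hFt 0
  -- `χ(F(t)) = h⁰(F(t))`
  have hvan : ∀ p : ℕ, 0 < p → Subsingleton (Coh.HH (CohB1.ProjSpace N k)
      (CohB1.tensorMod S.X₃ (OO N k t)) p) := fun p hp =>
    Groth.Agent.HHVan.subsingleton_right _ hS' p (hA p hp) (hK (p + 1) (by omega))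
  have h1 := EulerField.euler_eq_sum k (CohB1.ProjSpace N k) 0
    (CohB1.tensorMod S.X₃ (OO N k t)) hvan
  have h2 := hH t
  rw [h1] at h2
  simp at h2
  have h3 : ⌈P.eval (t : ℚ)⌉.toNat = Module.finrank k (Coh.HH (CohB1.ProjSpace N k)
      (CohB1.tensorMod S.X₃ (OO N k t)) 0) := by
    rw [← h2, Int.ceil_natCast, Int.toNat_natCast]
  rw [h3]
  -- the connecting map is surjective
  have hsurj : LinearMap.range (Groth.Agent.ProjFin.δlin k _ hS' 0) = ⊤ := by
    rw [ProperFinH9.range_δlin k _ hS' 0, LinearMap.ker_eq_top]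
    apply LinearMap.ext
    intro x
    have hsub : Subsingleton (Coh.HH (CohB1.ProjSpace N k)
        (S.map (tR (OO N k t))).X₂ (0 + 1)) := hA 1 le_rfl
    exact Subsingleton.elim (h := hsub) _ _
  have h4 := LinearMap.finrank_range_le (Groth.Agent.ProjFin.δlin k _ hS' 0)
  rw [hsurj, finrank_top] at h4
  exact h4

/-- **Mumford's theorem** for quotients of a fixed family of coherent modules -/
theorem main (N : ℕ) : ∀ (d : ℕ) (t₀ : ℤ) (PA P : ℚ[X]), PA.degree < (d : WithBot ℕ) →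
    ∃ m : ℤ, t₀ < m ∧ ∀ (k : Type u) [Field k] [IsAlgClosed k]
      (A F : (CohB1.ProjSpace N k).Modules) (φ : A ⟶ F), Coh.IsCoh A → Coh.IsCoh F → Epi φ →
      Van k N A t₀ → Hilb k N A PA → Hilb k N F P → Curv2.IsMRegular k N (kernel φ) m := by
  intro d
  induction d with
  | zero =>
    intro t₀ PA P hdeg
    have hPA : PA = 0 := by
      rw [← degree_eq_bot]
      exact Nat.WithBot.lt_zero_iff.mp (by exact_mod_cast hdeg)
    subst hPA
    refine ⟨t₀ + 1, by omega, ?_⟩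
    intro k _ _ A F φ hA _ _ hV hHA _
    have hA0 := isZero_of_hilb_zero A hA t₀ hV hHA
    exact isMRegular_of_isZero (IsZero.of_mono (kernel.ι φ) hA0) _
  | succ d ih =>
    intro t₀ PA P hdeg
    obtain ⟨m₁, hm₁, H⟩ := ih (t₀ + 1) (diff PA) (diff P) (degree_diff_lt PA d hdeg)
    refine ⟨m₁ + (⌈P.eval (((m₁ - 1 : ℤ)) : ℚ)⌉.toNat : ℤ), by omega, ?_⟩
    intro k _ _ A F φ hA hF hφ hV hHA hHF
    haveI : IsProper (CohB1.ProjSpace N k ↘ Spec (CommRingCat.of k)) :=
      Groth.Agent.Lib.ProjSpaceProperH4.isProper_toSpec N k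
    haveI := Groth.Agent.Lib.ProjSpaceProperH4.isProper_toSpec N k
    haveI : IsLocallyNoetherian (CohB1.ProjSpace N k) :=
      LocallyOfFiniteType.isLocallyNoetherian (CohB1.ProjSpace.toSpec N k)
    have hK : Coh.IsCoh (kernel φ) := CohKerH8.isCoh_kernel hA hF φ
    let S : ShortComplex (CohB1.ProjSpace N k).Modules :=
      ShortComplex.mk (kernel.ι φ) φ (kernel.condition φ)
    have hS : S.ShortExact :=
      { exact := ShortComplex.exact_kernel φ, mono_f := inferInstanceAs (Mono (kernel.ι φ)),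
        epi_g := hφ }
    obtain ⟨Q, ι₁, ι₂, ι₃, p₁, p₂, p₃, hQ, hι₁, ⟨w₁, e₁⟩, ⟨w₂, e₂⟩, ⟨w₃, e₃⟩⟩ :=
      exists_restriction k N S hS hA hF
    haveI := hι₁
    -- coherence of the restrictions
    have hc₂ : Coh.IsCoh Q.X₂ := by
      haveI := e₂.epi_g
      exact CohDevH8.isCoh_of_iso
        (IsColimit.coconePointUniqueUpToIso (cokernelIsCokernel ι₂) e₂.exact.gIsCokernel).symm
        (CohKerH8.isCoh_cokernel (Groth.Agent.RegZero.isCoh_twistBy N k A hA (-1)) hA ι₂)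
    have hc₃ : Coh.IsCoh Q.X₃ := by
      haveI := e₃.epi_g
      exact CohDevH8.isCoh_of_iso
        (IsColimit.coconePointUniqueUpToIso (cokernelIsCokernel ι₃) e₃.exact.gIsCokernel).symm
        (CohKerH8.isCoh_cokernel (Groth.Agent.RegZero.isCoh_twistBy N k F hF (-1)) hF ι₃)
    -- the induction hypothesis for the restrictions
    haveI := hQ.epi_g
    haveI := hQ.mono_f
    have hreg₁ : Curv2.IsMRegular k N (kernel Q.g) m₁ :=
      H k Q.X₂ Q.X₃ Q.g hc₂ hc₃ hQ.epi_g (van_restrict ι₂ p₂ w₂ e₂ hV)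
        (hilb_restrict ι₂ p₂ w₂ e₂ hA hc₂ hHA) (hilb_restrict ι₃ p₃ w₃ e₃ hF hc₃ hHF)
    have eK : kernel Q.g ≅ cokernel ι₁ := by
      haveI := e₁.epi_g
      exact (IsLimit.conePointUniqueUpToIso hQ.fIsKernel (kernelIsKernel Q.g)).symm ≪≫
        (IsColimit.coconePointUniqueUpToIso (cokernelIsCokernel ι₁) e₁.exact.gIsCokernel).symm
    have hreg₁' : Curv2.IsMRegular k N (cokernel ι₁) m₁ := isMRegular_of_iso eK hreg₁
    obtain ⟨r1, -, -, r4⟩ := Groth.Agent.S11296.result k N (kernel φ) hK ι₁ m₁ hreg₁'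
    -- the bound on `h¹`
    have hb := finrank_H1_le S hS hF P hHF (m₁ - 1)
      (fun i hi => hV i hi (m₁ - 1) (by omega))
      (fun i hi => r1 i (m₁ - 1) hi (by omega))
    have hb' : Module.finrank k (Coh.HH (CohB1.ProjSpace N k)
        (CohB1.tensorMod (kernel φ) (Twist.twistProjSpace N k (m₁ - 1))) 1) ≤
        ⌈P.eval (((m₁ - 1 : ℤ)) : ℚ)⌉.toNat := hb
    have h5 := CMClosed.isMRegular_add k N hK _ r4
      (⌈P.eval (((m₁ - 1 : ℤ)) : ℚ)⌉.toNat - Module.finrank k (Coh.HH (CohB1.ProjSpace N k)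
        (CohB1.tensorMod (kernel φ) (Twist.twistProjSpace N k (m₁ - 1))) 1))
    rw [Nat.cast_sub hb'] at h5
    have e : m₁ + (Module.finrank k (Coh.HH (CohB1.ProjSpace N k)
        (CohB1.tensorMod (kernel φ) (Twist.twistProjSpace N k (m₁ - 1))) 1) : ℤ) +
        ((⌈P.eval (((m₁ - 1 : ℤ)) : ℚ)⌉.toNat : ℤ) - (Module.finrank k (Coh.HH (CohB1.ProjSpace N k)
        (CohB1.tensorMod (kernel φ) (Twist.twistProjSpace N k (m₁ - 1))) 1) : ℤ)) =
        m₁ + (⌈P.eval (((m₁ - 1 : ℤ)) : ℚ)⌉.toNat : ℤ) := by ring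
    rw [e] at h5
    exact h5

end Groth.Agent.MumReg
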