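import Mathlib
import Groth.Prelude
import Groth.Agent.Lib.MumReg3_helper9
import Groth.Agent.Lib.DegPull1_helper9
import Groth.Agent.Lib.P1Split1_helper9
import Groth.Agent.Lib.ProjEuler_helper9
import Groth.Agent.Lib.EulerBC2_helper9
import Groth.Agent.Lib.ProjBCn_helper5
import Groth.Agent.Lib.ProjPullTw_helper9
import Groth.Agent.Lib.PullTensIso3_helper3
import Groth.Agent.Lib.StalkSky2_lead
import Groth.Agent.Lib.ConsMod1_helper2
import Groth.Agent.S0844

/-!
# Mumford's uniform bound on the regularity of kernels, part 4: free modules and extension of the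
base field (helper9)
**S1643**.
APPEND-ONLY once landed.
-/

set_option autoImplicit false
universe u
open CategoryTheory CategoryTheory.Limits AlgebraicGeometry Opposite TopologicalSpace Polynomial

namespace Groth.Agent.MumReg

open Groth.Agent.TensInv Groth.Agent.ProjTens

section HilbO

/-- the Hilbert polynomial of the structure sheaf of `P^N` -/
noncomputable def hilbO (N : ℕ) : ℚ[X] :=
  C ((N.factorial : ℚ)⁻¹) * (descPochhammer ℚ N).comp (X + C (N : ℚ))

theorem eval_hilbO (N : ℕ) (t : ℤ) :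
    (hilbO N).eval (t : ℚ) = ((Ring.choose (t + N) N : ℤ) : ℚ) := by
  unfold hilbO
  rw [eval_mul, eval_C, eval_comp, eval_add, eval_X, eval_C]
  have h1 : (descPochhammer ℚ N).eval ((t : ℚ) + (N : ℚ)) =
      (((descPochhammer ℤ N).eval (t + N) : ℤ) : ℚ) := by
    rw [← descPochhammer_map (Int.castRingHom ℚ) N]
    have := eval_intCast_map (Int.castRingHom ℚ) (descPochhammer ℤ N) (t + N)
    push_cast at this
    exact this
  have h2 : (descPochhammer ℤ N).eval (t + N) = N.factorial • Ring.choose (t + (N : ℤ)) N := by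
    rw [← Ring.descPochhammer_eq_factorial_smul_choose, Polynomial.eval_eq_smeval]
  rw [h1, h2]
  have hN : (N.factorial : ℚ) ≠ 0 := by exact_mod_cast N.factorial_ne_zero
  rw [nsmul_eq_mul]
  push_cast
  field_simp

theorem degree_hilbO_le (N : ℕ) : (hilbO N).degree ≤ (N : WithBot ℕ) := by
  unfold hilbO
  refine degree_le_of_natDegree_le ?_
  refine (natDegree_C_mul_le _ _).trans ?_
  refine natDegree_comp_le.trans ?_
  rw [descPochhammer_natDegree]
  have : (X + C (N : ℚ)).natDegree ≤ 1 := by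
    rw [natDegree_X_add_C]
  calc N * (X + C (N : ℚ)).natDegree ≤ N * 1 := Nat.mul_le_mul_left N this
    _ = N := mul_one N

end HilbO

section Free

variable (k : Type u) [Field k] (N : ℕ)

theorem euler_OO (hN : 0 < N) (t : ℤ) :
    Curv2.euler k (CohB1.ProjSpace N k) (OO N k t) = Ring.choose (t + N) N := by
  haveI : IsProper (CohB1.ProjSpace N k ↘ Spec (CommRingCat.of k)) :=
    Groth.Agent.Lib.ProjSpaceProperH4.isProper_toSpec N k
  rw [EulerField.euler_eq_sum k _ N (OO N k t)
    (fun p hp => Groth.Agent.S0844.result k N t p (by omega) (by omega))]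
  exact Groth.Agent.ProjEuler.euler k N hN t

theorem hilb_freeMod (hN : 0 < N) (r : ℕ) :
    Hilb k N (FlatMod.freeMod (CohB1.ProjSpace N k) r) (C (r : ℚ) * hilbO N) := by
  haveI : IsProper (CohB1.ProjSpace N k ↘ Spec (CommRingCat.of k)) :=
    Groth.Agent.Lib.ProjSpaceProperH4.isProper_toSpec N k
  intro t
  have h1 := DegPull.euler_freeMod k (CohB1.ProjSpace N k) (tR (OO N k t))
    (fun S hS => shortExact_twist N k S hS t)
    (fun A hA => Groth.Agent.RegZero.isCoh_twistBy N k A hA t) r
  have h2 : Curv2.euler k (CohB1.ProjSpace N k)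
      ((tR (OO N k t)).obj (Coh.structureModule (CohB1.ProjSpace N k))) =
      Curv2.euler k (CohB1.ProjSpace N k) (OO N k t) :=
    CurveTens.euler_of_iso k _ (Groth.Agent.CMMul.unitorL (OO N k t))
  have h1' : Curv2.euler k (CohB1.ProjSpace N k)
      (CohB1.tensorMod (FlatMod.freeMod (CohB1.ProjSpace N k) r) (OO N k t)) =
      r * Curv2.euler k (CohB1.ProjSpace N k)
        ((tR (OO N k t)).obj (Coh.structureModule (CohB1.ProjSpace N k))) := h1
  rw [h1', h2, euler_OO k N hN t, eval_mul, eval_C, eval_hilbO]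
  push_cast
  rfl

theorem van_freeMod (r : ℕ) : Van k N (FlatMod.freeMod (CohB1.ProjSpace N k) r) 0 := by
  haveI : IsProper (CohB1.ProjSpace N k ↘ Spec (CommRingCat.of k)) :=
    Groth.Agent.Lib.ProjSpaceProperH4.isProper_toSpec N k
  haveI := Groth.Agent.Lib.ProjSpaceProperH4.isProper_toSpec N k
  haveI : IsLocallyNoetherian (CohB1.ProjSpace N k) :=
    LocallyOfFiniteType.isLocallyNoetherian (CohB1.ProjSpace.toSpec N k)
  intro i hi t ht
  have hO : Subsingleton (Coh.HH (CohB1.ProjSpace N k)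
      ((tR (OO N k t)).obj (Coh.structureModule (CohB1.ProjSpace N k))) i) :=
    Groth.Agent.HHVan.subsingleton_of_iso (Groth.Agent.CMMul.unitorL (OO N k t)).symm i
      (Groth.Agent.S0844.result k N t i (by omega) (by omega))
  have hcO := Groth.Agent.RegZero.isCoh_twistBy N k _
    (CohDevH8.isCoh_structureModule (CohB1.ProjSpace N k)) t
  haveI : ∀ j : Fin r, Module.Finite k (Coh.HH (CohB1.ProjSpace N k)
      ((tR (OO N k t)).obj ((fun _ : Fin r => Coh.structureModule (CohB1.ProjSpace N k)) j)) i) :=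
    fun j => Groth.Agent.ExtDual.finite_HH k N _ hcO i
  have h1 := Groth.Agent.P1Split.finrank_HH_sigma k (tR (OO N k t))
    (fun _ : Fin r => Coh.structureModule (CohB1.ProjSpace N k)) i
  have h2 : ∀ j : Fin r, Module.finrank k (Coh.HH (CohB1.ProjSpace N k)
      ((tR (OO N k t)).obj ((fun _ : Fin r => Coh.structureModule (CohB1.ProjSpace N k)) j)) i) =
      0 := fun j => by
    haveI := hO
    exact Module.finrank_zero_of_subsingleton
  rw [Finset.sum_eq_zero (fun j _ => h2 j)] at h1
  have hcF := Groth.Agent.RegZero.isCoh_twistBy N k _ (DegPull.isCoh_freeMod (X := CohB1.ProjSpace N k) r) t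
  haveI : Module.Finite k (Coh.HH (CohB1.ProjSpace N k)
      ((tR (OO N k t)).obj (∐ fun _ : Fin r => Coh.structureModule (CohB1.ProjSpace N k))) i) :=
    Groth.Agent.ExtDual.finite_HH k N _ hcF i
  show Subsingleton (Coh.HH (CohB1.ProjSpace N k)
    ((tR (OO N k t)).obj (∐ fun _ : Fin r => Coh.structureModule (CohB1.ProjSpace N k))) i)
  exact Module.finrank_zero_iff.mp h1

end Free

section BC

variable (k : Type u) [Field k] (K : Type u) [Field K] [Algebra k K] (N : ℕ)

theorem flat_projMap : Flat (Groth.Agent.ProjBCn.projMap N k K) := by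
  haveI : Flat (Spec.map (CommRingCat.ofHom (algebraMap k K))) :=
    Flat.SpecMap_iff.mpr (RingHom.flat_algebraMap_iff.mpr inferInstance)
  exact MorphismProperty.of_isPullback (P := @Flat)
    (Groth.Agent.ProjBCn.isPullback_projMap N k K).flip inferInstance

/-- `g^*(G(t)) ≅ (g^* G)(t)` -/
theorem nonempty_pullTwist (G : (CohB1.ProjSpace N k).Modules) (t : ℤ) :
    Nonempty ((Scheme.Modules.pullback (Groth.Agent.ProjBCn.projMap N k K)).obj
        (CohB1.tensorMod G (OO N k t)) ≅
      CohB1.tensorMod ((Scheme.Modules.pullback (Groth.Agent.ProjBCn.projMap N k K)).obj G)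
        (OO N K t)) := by
  obtain ⟨e⟩ := ProjPullTwH9.nonempty_pullback_twist_iso (Groth.Agent.ProjBCn.polyMap N k K)
    (Groth.Agent.ProjBCn.polyMap_irr N k K) (hcov' N k) t
  exact ⟨Groth.Agent.Lib.PullTensIsoH3.pullTensIso (Groth.Agent.ProjBCn.projMap N k K) G
    (OO N k t) ≪≫ mapL _ e⟩

theorem finrank_pull (G : (CohB1.ProjSpace N k).Modules) (hG : Coh.IsQCoh G) (t : ℤ) (i : ℕ) :
    Module.finrank K (Coh.HH (CohB1.ProjSpace N K)
      (CohB1.tensorMod ((Scheme.Modules.pullback (Groth.Agent.ProjBCn.projMap N k K)).obj G)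
        (OO N K t)) i) =
    Module.finrank k (Coh.HH (CohB1.ProjSpace N k) (CohB1.tensorMod G (OO N k t)) i) := by
  haveI : CompactSpace (CohB1.ProjSpace N k) := RegGGH9.compactSpace_Pn N k
  haveI : QuasiSeparatedSpace (CohB1.ProjSpace N k) := RegGGH9.quasiSeparatedSpace_Pn N k
  haveI : Coh.IsQCoh (CohB1.tensorMod G (OO N k t)) := isQCoh_twistBy N k G hG t
  obtain ⟨e⟩ := nonempty_pullTwist k K N G t
  rw [← (Groth.Agent.HypConn.hhEquivOfIso (A := K) e i).finrank_eq]
  exact Groth.Agent.EulerBC.finrank_HH_pullback (Groth.Agent.ProjBCn.projMap N k K)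
    (Groth.Agent.ProjBCn.isPullback_projMap N k K) (CohB1.tensorMod G (OO N k t)) i

theorem hilb_pull (G : (CohB1.ProjSpace N k).Modules) (hG : Coh.IsQCoh G) (P : ℚ[X])
    (h : Hilb k N G P) :
    Hilb K N ((Scheme.Modules.pullback (Groth.Agent.ProjBCn.projMap N k K)).obj G) P := by
  intro t
  rw [← h t]
  congr 1
  unfold Curv2.euler
  exact finsum_congr (fun i => by rw [finrank_pull k K N G hG t i])

theorem isMRegular_of_pull (G : (CohB1.ProjSpace N k).Modules) (hG : Coh.IsCoh G) (m : ℤ)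
    (h : Curv2.IsMRegular K N
      ((Scheme.Modules.pullback (Groth.Agent.ProjBCn.projMap N k K)).obj G) m) :
    Curv2.IsMRegular k N G m := by
  intro i hi hiN
  haveI := h i hi hiN
  have h1 := finrank_pull k K N G hG.1 (m - i) i
  rw [Module.finrank_zero_of_subsingleton] at h1
  haveI := Groth.Agent.ExtDual.finite_HH k N _ (Groth.Agent.RegZero.isCoh_twistBy N k G hG (m - i)) i
  exact Module.finrank_zero_iff.mp h1.symm

/-- `g^*(O^r) ≅ O^r` -/
noncomputable def pullFree (r : ℕ) :
    (Scheme.Modules.pullback (Groth.Agent.ProjBCn.projMap N k K)).obj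
      (FlatMod.freeMod (CohB1.ProjSpace N k) r) ≅ FlatMod.freeMod (CohB1.ProjSpace N K) r :=
  PreservesCoproduct.iso (Scheme.Modules.pullback (Groth.Agent.ProjBCn.projMap N k K))
      (fun _ : Fin r => Coh.structureModule (CohB1.ProjSpace N k)) ≪≫
    Sigma.mapIso (fun _ => PBH8.pullbackUnitIso (Groth.Agent.ProjBCn.projMap N k K))

end BC

/-- **S1643** -/
theorem main1643 (n r : ℕ) (P : ℚ[X]) :
    ∃ m : ℤ, ∀ (k : Type u) [Field k] (F : (CohB1.ProjSpace n k).Modules)
      (φ : FlatMod.freeMod (CohB1.ProjSpace n k) r ⟶ F), Coh.IsCoh F → Epi φ →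
      (∀ t : ℤ, (Curv2.euler k (CohB1.ProjSpace n k)
        (CohB1.tensorMod F (Twist.twistProjSpace n k t)) : ℚ) = P.eval (t : ℚ)) →
      Curv2.IsMRegular k n (kernel φ) m := by
  rcases Nat.eq_zero_or_pos n with rfl | hn
  · exact ⟨0, fun k _ F φ _ _ _ i h1 h2 => by omega⟩
  have hdeg : (C (r : ℚ) * hilbO n).degree < ((n + 1 : ℕ) : WithBot ℕ) := by
    have h1 : (C (r : ℚ) * hilbO n).degree ≤ (n : WithBot ℕ) := by
      refine degree_le_of_natDegree_le ((natDegree_C_mul_le _ _).trans ?_)
      exact natDegree_le_of_degree_le (degree_hilbO_le n)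
    refine lt_of_le_of_lt h1 ?_
    exact_mod_cast Nat.lt_succ_self n
  obtain ⟨m, -, H⟩ := main n (n + 1) 0 (C (r : ℚ) * hilbO n) P hdeg
  refine ⟨m, ?_⟩
  intro k _ F φ hF hφ hP
  haveI := Groth.Agent.Lib.ProjSpaceProperH4.isProper_toSpec n k
  haveI : IsLocallyNoetherian (CohB1.ProjSpace n k) :=
    LocallyOfFiniteType.isLocallyNoetherian (CohB1.ProjSpace.toSpec n k)
  haveI := Groth.Agent.Lib.ProjSpaceProperH4.isProper_toSpec n (AlgebraicClosure k)
  haveI : IsLocallyNoetherian (CohB1.ProjSpace n (AlgebraicClosure k)) :=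
    LocallyOfFiniteType.isLocallyNoetherian (CohB1.ProjSpace.toSpec n (AlgebraicClosure k))
  haveI := flat_projMap k (AlgebraicClosure k) n
  haveI := Groth.Agent.Lib.StalkSkyL.preservesFiniteLimits_pullback_of_flat
    (Groth.Agent.ProjBCn.projMap n k (AlgebraicClosure k))
  have hFr := DegPull.isCoh_freeMod (X := CohB1.ProjSpace n k) r
  have hK : Coh.IsCoh (kernel φ) := CohKerH8.isCoh_kernel hFr hF φ
  apply isMRegular_of_pull k (AlgebraicClosure k) n (kernel φ) hK m
  let φ' : FlatMod.freeMod (CohB1.ProjSpace n (AlgebraicClosure k)) r ⟶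
      (Scheme.Modules.pullback (Groth.Agent.ProjBCn.projMap n k (AlgebraicClosure k))).obj F :=
    (pullFree k (AlgebraicClosure k) n r).inv ≫
      (Scheme.Modules.pullback (Groth.Agent.ProjBCn.projMap n k (AlgebraicClosure k))).map φ
  haveI : Epi ((Scheme.Modules.pullback
      (Groth.Agent.ProjBCn.projMap n k (AlgebraicClosure k))).map φ) := inferInstance
  have hφ' : Epi φ' := epi_comp _ _
  have key := H (AlgebraicClosure k) _ _ φ'
    (DegPull.isCoh_freeMod (X := CohB1.ProjSpace n (AlgebraicClosure k)) r)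
    (Groth.Agent.Lib.ConsModH2.isCoh_pullback _ F hF) hφ'
    (van_freeMod (AlgebraicClosure k) n r) (hilb_freeMod (AlgebraicClosure k) n hn r)
    (hilb_pull k (AlgebraicClosure k) n F hF.1 P hP)
  have e : kernel φ' ≅ (Scheme.Modules.pullback
      (Groth.Agent.ProjBCn.projMap n k (AlgebraicClosure k))).obj (kernel φ) :=
    kernelIsIsoComp _ _ ≪≫ (PreservesKernel.iso _ φ).symm
  exact isMRegular_of_iso e key

end Groth.Agent.MumReg
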