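import Mathlib
import Groth.Prelude.Def_W4bk5brsh7111920
import Groth.Agent.S11666

set_option autoImplicit false
universe u
open PrimeSpectrum TopologicalSpace

namespace Groth.Agent.Lib.ConnDim

theorem lt_of_add_one_le (x y : WithBot ℕ∞) (h : x + 1 ≤ y) (hx : x < ⊤) (hy : ⊥ < y) :
    x < y := by
  induction x with
  | bot => exact hy
  | coe n =>
    have hn : n ≠ ⊤ := by
      rintro rfl
      exact lt_irrefl _ hx
    refine lt_of_lt_of_le ?_ h
    have h1 : n < n + 1 := (ENat.lt_add_one_iff hn).mpr le_rfl
    exact_mod_cast h1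

theorem dim_add_one_le {T : Type*} [TopologicalSpace T] (Y Z : Set T) (hYZ : Y ⊆ Z)
    (hne : Y ≠ Z) (hY : IsClosed Y) (hZ : IsIrreducible Z) :
    topologicalKrullDim ↥Y + 1 ≤ topologicalKrullDim ↥Z := by
  classical
  unfold topologicalKrullDim
  by_cases hemp : IsEmpty (IrreducibleCloseds ↥Y)
  · rw [Order.krullDim_eq_bot, WithBot.bot_add]; exact bot_le
  · rw [not_isEmpty_iff] at hemp
    rw [← Order.krullDim_WithTop]
    haveI : IrreducibleSpace ↥Z := Subtype.irreducibleSpace hZ
    let topZ : IrreducibleCloseds ↥Z :=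
      ⟨Set.univ, IrreducibleSpace.isIrreducible_univ _, isClosed_univ⟩
    let g : WithTop (IrreducibleCloseds ↥Y) → IrreducibleCloseds ↥Z :=
      fun a => WithTop.recTopCoe topZ
        (fun C => IrreducibleCloseds.map (Set.inclusion hYZ) (continuous_inclusion hYZ) C) a
    apply Order.krullDim_le_of_strictMono g
    intro a b hab
    obtain ⟨z, hzZ, hzY⟩ : ∃ z, z ∈ Z ∧ z ∉ Y := by
      by_contra hcon
      push_neg at hcon
      exact hne (Set.Subset.antisymm hYZ hcon)
    cases a with
    | top => exact absurd hab not_top_lt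
    | coe a =>
      cases b with
      | top =>
        show IrreducibleCloseds.map (Set.inclusion hYZ) (continuous_inclusion hYZ) a < topZ
        refine lt_of_le_of_ne ?_ ?_
        · intro x _; exact Set.mem_univ x
        · intro heq
          have hz : (⟨z, hzZ⟩ : ↥Z) ∈ (topZ : Set ↥Z) := Set.mem_univ _
          rw [← heq] at hz
          have hcl : IsClosed {w : ↥Z | (w : T) ∈ Y} := hY.preimage continuous_subtype_val
          have hsub : (Set.inclusion hYZ) '' (a : Set ↥Y) ⊆ {w : ↥Z | (w : T) ∈ Y} := by
            rintro _ ⟨y, _, rfl⟩; exact y.2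
          exact hzY (closure_minimal hsub hcl
            (show (⟨z, hzZ⟩ : ↥Z) ∈ closure ((Set.inclusion hYZ) '' (a : Set ↥Y)) from hz))
      | coe b =>
        show IrreducibleCloseds.map (Set.inclusion hYZ) (continuous_inclusion hYZ) a <
          IrreducibleCloseds.map (Set.inclusion hYZ) (continuous_inclusion hYZ) b
        exact IrreducibleCloseds.map_strictMono_of_isInducing
          (Topology.IsEmbedding.inclusion hYZ).isInducing (WithTop.coe_lt_coe.mp hab)

theorem main67 (T : Type u) [TopologicalSpace T] [NoetherianSpace T] [Nonempty T]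
    (hfin : topologicalKrullDim T < ⊤) :
    LocCoh.connDim T ≤ LocCoh.subdim T ∧
      (LocCoh.connDim T = LocCoh.subdim T ↔ IrreducibleSpace T) := by
  have hform := Groth.Agent.S11666.result T
  have hle : ∀ Z ∈ irreducibleComponents T, LocCoh.connDim T ≤ topologicalKrullDim ↥Z := by
    intro Z hZ
    rw [hform]
    refine iInf_le_of_le {Z} (iInf_le_of_le (irreducibleComponents T) (iInf_le_of_le
      ⟨Set.singleton_subset_iff.mpr hZ, subset_rfl, Set.singleton_nonempty _, ⟨Z, hZ⟩,
        Set.union_eq_self_of_subset_left (Set.singleton_subset_iff.mpr hZ)⟩ ?_))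
    rw [Set.sUnion_singleton, sUnion_irreducibleComponents, Set.inter_univ]
  constructor
  · unfold LocCoh.subdim
    exact le_iInf fun Z => le_iInf fun hZ => hle Z hZ
  · constructor
    · intro heq
      by_contra hirr
      have hCfin : (irreducibleComponents T).Finite :=
        NoetherianSpace.finite_irreducibleComponents
      have hCne : (irreducibleComponents T).Nonempty := by
        obtain ⟨x⟩ := ‹Nonempty T›
        exact ⟨irreducibleComponent x, irreducibleComponent_mem_irreducibleComponents x⟩
      obtain ⟨Z0, hZ0, hZ0min⟩ := Set.exists_min_image (irreducibleComponents T)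
        (fun Z => topologicalKrullDim ↥Z) hCfin hCne
      have hsub : LocCoh.subdim T = topologicalKrullDim ↥Z0 := by
        unfold LocCoh.subdim
        apply le_antisymm
        · exact iInf_le_of_le Z0 (iInf_le _ hZ0)
        · exact le_iInf fun Z => le_iInf fun hZ => hZ0min Z hZ
      have hBne : (irreducibleComponents T \ {Z0}).Nonempty := by
        by_contra hBe
        rw [Set.not_nonempty_iff_eq_empty] at hBe
        apply hirr
        have hsub1 : irreducibleComponents T ⊆ {Z0} := Set.sdiff_eq_empty.mp hBe
        have huniv : Z0 = Set.univ := by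
          rw [← sUnion_irreducibleComponents (X := T)]
          apply Set.Subset.antisymm
          · exact Set.subset_sUnion_of_mem hZ0
          · apply Set.sUnion_subset
            intro Z hZ
            rw [Set.mem_singleton_iff.mp (hsub1 hZ)]
        rw [irreducibleSpace_def]
        have h1 := hZ0.1
        rw [huniv] at h1
        exact h1
      have hBfin : (irreducibleComponents T \ {Z0}).Finite := hCfin.subset Set.sdiff_subset
      have hBclosed : IsClosed (⋃₀ (irreducibleComponents T \ {Z0})) := by
        rw [Set.sUnion_eq_biUnion]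
        exact hBfin.isClosed_biUnion fun W hW => isClosed_of_mem_irreducibleComponents W hW.1
      have hZ0closed : IsClosed Z0 := isClosed_of_mem_irreducibleComponents Z0 hZ0
      have hYne : Z0 ∩ ⋃₀ (irreducibleComponents T \ {Z0}) ≠ Z0 := by
        intro hY
        have hsubU : Z0 ⊆ ⋃₀ (hBfin.toFinset : Set (Set T)) := by
          rw [Set.Finite.coe_toFinset]; exact Set.inter_eq_left.mp hY
        obtain ⟨Z', hZ'B, hZ0Z'⟩ := (isIrreducible_iff_sUnion_isClosed.mp hZ0.1) hBfin.toFinset
          (fun z hz => isClosed_of_mem_irreducibleComponents z ((hBfin.mem_toFinset.mp hz).1))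
          hsubU
        rw [Set.Finite.mem_toFinset] at hZ'B
        have hle' : Z' ≤ Z0 := hZ0.2 hZ'B.1.1 hZ0Z'
        exact hZ'B.2 (Set.mem_singleton_iff.mpr (Set.Subset.antisymm hle' hZ0Z'))
      have hdim := dim_add_one_le (Z0 ∩ ⋃₀ (irreducibleComponents T \ {Z0})) Z0
        Set.inter_subset_left hYne (hZ0closed.inter hBclosed) hZ0.1
      have hconn : LocCoh.connDim T ≤
          topologicalKrullDim ↥(Z0 ∩ ⋃₀ (irreducibleComponents T \ {Z0})) := by
        rw [hform]
        refine iInf_le_of_le {Z0} (iInf_le_of_le (irreducibleComponents T \ {Z0}) (iInf_le_of_le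
          ⟨Set.singleton_subset_iff.mpr hZ0, Set.sdiff_subset, Set.singleton_nonempty _, hBne,
            ?_⟩ ?_))
        · rw [Set.union_sdiff_self]
          exact Set.union_eq_self_of_subset_left (Set.singleton_subset_iff.mpr hZ0)
        · rw [Set.sUnion_singleton]
      have hYfin : topologicalKrullDim ↥(Z0 ∩ ⋃₀ (irreducibleComponents T \ {Z0})) < ⊤ :=
        lt_of_le_of_lt (topologicalKrullDim_subspace_le T _) hfin
      have hZ0pos : ⊥ < topologicalKrullDim ↥Z0 := by
        haveI : IrreducibleSpace ↥Z0 := Subtype.irreducibleSpace hZ0.1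
        haveI : Nonempty (IrreducibleCloseds ↥Z0) :=
          ⟨⟨Set.univ, IrreducibleSpace.isIrreducible_univ _, isClosed_univ⟩⟩
        have h0 : (0 : WithBot ℕ∞) ≤ topologicalKrullDim ↥Z0 := Order.krullDim_nonneg
        exact lt_of_lt_of_le (WithBot.bot_lt_coe (0 : ℕ∞)) h0
      have hlt := lt_of_add_one_le _ _ hdim hYfin hZ0pos
      rw [← hsub, ← heq] at hlt
      exact absurd hconn (not_le.mpr hlt)
    · intro hirr
      have hC : irreducibleComponents T = {Set.univ} := irreducibleComponents_eq_singleton
      have hsubdim : LocCoh.subdim T = topologicalKrullDim ↥(Set.univ : Set T) := by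
        unfold LocCoh.subdim
        rw [hC]
        simp only [Set.mem_singleton_iff, iInf_iInf_eq_left]
      rw [hsubdim, hform]
      apply le_antisymm
      · refine iInf_le_of_le {Set.univ} (iInf_le_of_le {Set.univ} (iInf_le_of_le
          ⟨by rw [hC], by rw [hC], Set.singleton_nonempty _, Set.singleton_nonempty _,
            by rw [hC, Set.union_self]⟩ ?_))
        rw [Set.sUnion_singleton, Set.inter_self]
      · refine le_iInf fun A => le_iInf fun B => le_iInf fun h => ?_
        obtain ⟨hA, hB, hAne, hBne, -⟩ := h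
        rw [hC] at hA hB
        rw [(Set.Nonempty.subset_singleton_iff hAne).mp hA,
          (Set.Nonempty.subset_singleton_iff hBne).mp hB, Set.sUnion_singleton, Set.inter_self]

theorem dim_zeroLocus {R : Type u} [CommRing R] (I : Ideal R) :
    topologicalKrullDim ↥(zeroLocus (I : Set R)) = ringKrullDim (R ⧸ I) := by
  have hsurj : Function.Surjective (Ideal.Quotient.mk I) := Ideal.Quotient.mk_surjective
  have hemb := PrimeSpectrum.isClosedEmbedding_comap_of_surjective _ _ hsurj
  have hrange : Set.range (PrimeSpectrum.comap (Ideal.Quotient.mk I)) =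
      zeroLocus (I : Set R) := by
    rw [range_comap_of_surjective _ _ hsurj, Ideal.mk_ker]
  rw [← PrimeSpectrum.topologicalKrullDim_eq_ringKrullDim, ← hrange]
  exact (IsHomeomorph.topologicalKrullDim_eq _
    hemb.isEmbedding.toHomeomorph.isHomeomorph).symm

theorem connDim_eq {R : Type u} [CommRing R] [IsNoetherianRing R] [IsLocalRing R]
    (p q : Ideal R) (hmin : minimalPrimes R = {p, q}) :
    LocCoh.connDim (PrimeSpectrum R) =
      topologicalKrullDim ↥(zeroLocus ((p ⊔ q : Ideal R) : Set R)) := by
  have hcomp : irreducibleComponents (PrimeSpectrum R) =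
      {zeroLocus (p : Set R), zeroLocus (q : Set R)} := by
    rw [← PrimeSpectrum.zeroLocus_minimalPrimes (R := R), hmin, Set.image_pair]
    rfl
  rw [Groth.Agent.S11666.result (PrimeSpectrum R)]
  apply le_antisymm
  · refine iInf_le_of_le {zeroLocus (p : Set R)} (iInf_le_of_le {zeroLocus (q : Set R)}
      (iInf_le_of_le ⟨?_, ?_, Set.singleton_nonempty _, Set.singleton_nonempty _, ?_⟩ ?_))
    · rw [hcomp]; intro x hx; rw [Set.mem_singleton_iff] at hx; rw [hx]
      exact Set.mem_insert _ _
    · rw [hcomp]; intro x hx; rw [Set.mem_singleton_iff] at hx; rw [hx]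
      exact Set.mem_insert_of_mem _ (Set.mem_singleton _)
    · rw [hcomp, Set.singleton_union]
    · rw [Set.sUnion_singleton, Set.sUnion_singleton, ← zeroLocus_sup]
  · refine le_iInf fun A => le_iInf fun B => le_iInf fun h => ?_
    obtain ⟨hA, hB, hAne, hBne, -⟩ := h
    have key : ∀ C : Set (Set (PrimeSpectrum R)), C ⊆ irreducibleComponents (PrimeSpectrum R) →
        C.Nonempty → zeroLocus ((p ⊔ q : Ideal R) : Set R) ⊆ ⋃₀ C := by
      intro C hC hCne x hx
      obtain ⟨c, hc⟩ := hCne
      have hc' := hC hc
      rw [hcomp] at hc'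
      rw [zeroLocus_sup] at hx
      rcases hc' with h1 | h1
      · exact ⟨c, hc, by rw [h1]; exact hx.1⟩
      · rw [Set.mem_singleton_iff] at h1
        exact ⟨c, hc, by rw [h1]; exact hx.2⟩
    have hsub : zeroLocus ((p ⊔ q : Ideal R) : Set R) ⊆ ⋃₀ A ∩ ⋃₀ B :=
      Set.subset_inter (key A hA hAne) (key B hB hBne)
    exact (Topology.IsEmbedding.inclusion hsub).isInducing.topologicalKrullDim_le

theorem main80 (R : Type u) [CommRing R] [IsNoetherianRing R] [IsLocalRing R] (p q : Ideal R)
    (hmin : minimalPrimes R = {p, q}) :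
    LocCoh.connDim (PrimeSpectrum R) = 0 ↔ ringKrullDim (R ⧸ (p ⊔ q)) = 0 := by
  rw [connDim_eq p q hmin, dim_zeroLocus]

end Groth.Agent.Lib.ConnDim
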