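import Mathlib
import Groth.Prelude
import Groth.Agent.Lib.Snap54_helper9

/-!
# Relatively nef invertible modules over a Noetherian base with `H¹(O) = 0`, nefness tested only
over the residue fields of maximal ideals (helper9)

The chain of `Snap51`/`Snap53`/`Snap54` again, with the nefness hypothesis restricted to the fields
`A ⧸ 𝔪`, `𝔪` maximal.

APPEND-ONLY once landed.
-/

set_option autoImplicit false
universe u
open CategoryTheory CategoryTheory.Limits AlgebraicGeometry Opposite TopologicalSpace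

namespace Snap9

open Groth.Agent.HHVan Groth.Agent.ProjDual Groth.Agent.Lib.FormalFnH2
  Groth.Agent.Lib.FormalModPowH4 Groth.Agent.Lib.FibVanH2 QcqsLoc QCohExtn GenLocH8 TensH8 FLFH8

section NefR

variable {A : Type u} [CommRing A] {X : Scheme.{u}} (f : X ⟶ Spec (CommRingCat.of A)) [IsProper f]

/-- relative nefness restricts to nefness on the fibre over a maximal ideal -/
theorem nef_fibre_r (L : X.Modules) (hL : PicF.IsInvertible L)
    (K : Type u) [Field K] (i : A →+* K)
    (hnef : ∀ (J : X.IdealSheafData)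
      (t : J.subscheme ⟶ Spec (CommRingCat.of K)),
      AlgebraicGeometry.IsIntegral J.subscheme → topologicalKrullDim ↥J.subscheme = 1 →
      t ≫ Spec.map (CommRingCat.ofHom i) = J.subschemeι ≫ f →
      0 ≤ @Curv2.deg K _ J.subscheme ⟨t⟩ ((Scheme.Modules.pullback J.subschemeι).obj L) 1)
    (hi : Function.Surjective i)
    (g : Spec (CommRingCat.of K) ⟶ Spec (CommRingCat.of A))
    (hg : g = Spec.map (CommRingCat.ofHom i))
    (J' : (pullback f g).IdealSheafData)
    (hint : IsIntegral J'.subscheme) (hdim : topologicalKrullDim J'.subscheme = 1) :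
    0 ≤ @Curv2.deg K _ J'.subscheme ⟨J'.subschemeι ≫ pullback.snd f g⟩
      ((Scheme.Modules.pullback J'.subschemeι).obj
        ((Scheme.Modules.pullback (pullback.fst f g)).obj L)) 1 := by
  haveI := hint
  haveI : IsClosedImmersion g := by
    rw [hg]; exact IsClosedImmersion.spec_of_surjective _ hi
  haveI : IsClosedImmersion (pullback.fst f g) := inferInstance
  haveI : IsProper (pullback.snd f g) := inferInstance
  obtain ⟨c, hc⟩ : ∃ c : J'.subscheme ⟶ X, c = J'.subschemeι ≫ pullback.fst f g := ⟨_, rfl⟩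
  haveI : IsClosedImmersion c := by rw [hc]; infer_instance
  obtain ⟨J, hJ⟩ : ∃ J : X.IdealSheafData, J = c.ker := ⟨_, rfl⟩
  obtain ⟨τ, hτ⟩ : ∃ τ : J'.subscheme ⟶ J.subscheme, IsIso τ ∧ τ ≫ J.subschemeι = c := by
    subst hJ
    exact ⟨c.toImage, inferInstance, c.toImage_imageι⟩
  obtain ⟨hτiso, hcι⟩ := hτ
  haveI := hτiso
  let t : J.subscheme ⟶ Spec (CommRingCat.of K) := inv τ ≫ J'.subschemeι ≫ pullback.snd f g
  haveI : Nonempty J'.subscheme := inferInstance
  haveI : Nonempty J.subscheme := ⟨τ (Classical.arbitrary _)⟩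
  have hintJ : IsIntegral J.subscheme := isIntegral_of_isOpenImmersion (inv τ)
  have hdimJ : topologicalKrullDim J.subscheme = 1 := by
    rw [← hdim]
    exact (IsHomeomorph.topologicalKrullDim_eq _ τ.homeomorph.isHomeomorph).symm
  have hcompat : t ≫ Spec.map (CommRingCat.ofHom i) = J.subschemeι ≫ f := by
    rw [← hg]
    show (inv τ ≫ J'.subschemeι ≫ pullback.snd f g) ≫ g = J.subschemeι ≫ f
    have h1 : J'.subschemeι ≫ pullback.snd f g ≫ g = c ≫ f := by
      rw [← pullback.condition, hc, Category.assoc]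
    rw [Category.assoc, Category.assoc, h1, ← hcι, Category.assoc, IsIso.inv_hom_id_assoc]
  have h0 := hnef J t hintJ hdimJ hcompat
  letI : J.subscheme.Over (Spec (CommRingCat.of K)) := ⟨t⟩
  letI : J'.subscheme.Over (Spec (CommRingCat.of K)) := ⟨J'.subschemeι ≫ pullback.snd f g⟩
  haveI : IsProper (J'.subscheme ↘ Spec (CommRingCat.of K)) :=
    inferInstanceAs (IsProper (J'.subschemeι ≫ pullback.snd f g))
  haveI : IsProper (J.subscheme ↘ Spec (CommRingCat.of K)) :=
    inferInstanceAs (IsProper (inv τ ≫ J'.subschemeι ≫ pullback.snd f g))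
  have hf : τ ≫ (J.subscheme ↘ Spec (CommRingCat.of K)) =
      J'.subscheme ↘ Spec (CommRingCat.of K) := by
    show τ ≫ inv τ ≫ J'.subschemeι ≫ pullback.snd f g = J'.subschemeι ≫ pullback.snd f g
    rw [IsIso.hom_inv_id_assoc]
  have hd1 : Dense (((⊤ : J.subscheme.Opens) : J.subscheme.Opens) : Set J.subscheme) := by
    simp
  have hd2 : Dense (SetLike.coe (τ ⁻¹ᵁ (⊤ : J.subscheme.Opens))) := by
    simp
  have hdimJ' : topologicalKrullDim J.subscheme ≤ 1 := hdimJ.le
  have h1 := BirCurve.deg_pullback K hdimJ' τ hf ⊤ hd1 hd2 inferInstance 1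
    ((Scheme.Modules.pullback J.subschemeι).obj L)
    (FLFH8.finLocFreeOfRank_one_of_isInvertible (TensH8.isInvertible_pullback J.subschemeι hL))
  have e2 : (Scheme.Modules.pullback τ).obj
        ((Scheme.Modules.pullback J.subschemeι).obj L) ≅
      (Scheme.Modules.pullback J'.subschemeι).obj
        ((Scheme.Modules.pullback (pullback.fst f g)).obj L) :=
    (Scheme.Modules.pullbackComp τ J.subschemeι).app L ≪≫
      eqToIso (congrArg (fun φ => (Scheme.Modules.pullback φ).obj L) (hcι.trans hc)) ≪≫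
      ((Scheme.Modules.pullbackComp J'.subschemeι (pullback.fst f g)).app L).symm
  rw [← CurveTens.deg_of_iso K _ e2 1, h1]
  exact h0


/-- on the fibre over a maximal ideal the pullback of a relatively nef module has no `H¹` and is
generated by its sections, provided `H¹` of the structure sheaf of the fibre vanishes -/
theorem fibre_core_r
    (hfib : ∀ y : ↥(Spec (CommRingCat.of A)), topologicalKrullDim ↥(f.fiber y) ≤ 1)
    (L : X.Modules) (hL : PicF.IsInvertible L)
    (hnef : ∀ (𝔪 : Ideal A) [h𝔪 : 𝔪.IsMaximal] (J : X.IdealSheafData)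
      (t : J.subscheme ⟶ Spec (CommRingCat.of (A ⧸ 𝔪))),
      AlgebraicGeometry.IsIntegral J.subscheme → topologicalKrullDim ↥J.subscheme = 1 →
      t ≫ Spec.map (CommRingCat.ofHom (algebraMap A (A ⧸ 𝔪))) = J.subschemeι ≫ f →
      0 ≤ @Curv2.deg (A ⧸ 𝔪) (Ideal.Quotient.field 𝔪) J.subscheme ⟨t⟩
        ((Scheme.Modules.pullback J.subschemeι).obj L) 1)
    (𝔪 : Ideal A) [h𝔪 : 𝔪.IsMaximal]
    (hO : Subsingleton (Coh.HH
      (pullback f (Spec.map (CommRingCat.ofHom (algebraMap A (A ⧸ 𝔪)))))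
      (Coh.structureModule _) 1)) :
    Subsingleton (Coh.HH (pullback f (Spec.map (CommRingCat.ofHom (algebraMap A (A ⧸ 𝔪)))))
      ((Scheme.Modules.pullback
        (pullback.fst f (Spec.map (CommRingCat.ofHom (algebraMap A (A ⧸ 𝔪)))))).obj L) 1) ∧
    NodalG0.JointlyEpi ((Scheme.Modules.pullback
        (pullback.fst f (Spec.map (CommRingCat.ofHom (algebraMap A (A ⧸ 𝔪)))))).obj L) := by
  letI : Field (A ⧸ 𝔪) := Ideal.Quotient.field 𝔪
  letI : (pullback f (Spec.map (CommRingCat.ofHom (algebraMap A (A ⧸ 𝔪))))).Over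
      (Spec (CommRingCat.of (A ⧸ 𝔪))) := ⟨pullback.snd f _⟩
  haveI : IsProper ((pullback f (Spec.map (CommRingCat.ofHom (algebraMap A (A ⧸ 𝔪))))) ↘
      Spec (CommRingCat.of (A ⧸ 𝔪))) :=
    inferInstanceAs (IsProper (pullback.snd f _))
  have hdim : topologicalKrullDim
      ↥(pullback f (Spec.map (CommRingCat.ofHom (algebraMap A (A ⧸ 𝔪))))) ≤ 1 :=
    dim_fibre_le f 𝔪 1 (fun y => by simpa using hfib y)
  have hN := TensH8.isInvertible_pullback
    (pullback.fst f (Spec.map (CommRingCat.ofHom (algebraMap A (A ⧸ 𝔪))))) hL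
  have hnefZ := fun J' hint hd => nef_fibre_r f L hL (A ⧸ 𝔪) (algebraMap A (A ⧸ 𝔪))
    (fun J t h1 h2 h3 => hnef 𝔪 J t h1 h2 h3)
    Ideal.Quotient.mk_surjective _ rfl J' hint hd
  exact rat_core (A ⧸ 𝔪) _ hdim hO _ hN
    (fun ξ hξ => css_nonpos_of_deg_nonneg (A ⧸ 𝔪) _ _ hN hnefZ ξ hξ) _ _
    (ProperFinH9.isCoh_of_isInvertible hN) (𝟙 _) inferInstance rfl


end NefR

section MainR

variable {A : Type u} [CommRing A] [IsNoetherianRing A] {X : Scheme.{u}}
  (f : X ⟶ Spec (CommRingCat.of A)) [IsProper f]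

/-- the fibre over a maximal ideal: no `H¹` and generation by sections for the pullback of `L` -/
theorem fibre_core_r'
    (h1 : Subsingleton (Coh.HH X (Coh.structureModule X) 1))
    (hfib : ∀ y : ↥(Spec (CommRingCat.of A)), topologicalKrullDim ↥(f.fiber y) ≤ 1)
    (L : X.Modules) (hL : PicF.IsInvertible L)
    (hnef : ∀ (𝔪 : Ideal A) [h𝔪 : 𝔪.IsMaximal] (J : X.IdealSheafData)
      (t : J.subscheme ⟶ Spec (CommRingCat.of (A ⧸ 𝔪))),
      AlgebraicGeometry.IsIntegral J.subscheme → topologicalKrullDim ↥J.subscheme = 1 →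
      t ≫ Spec.map (CommRingCat.ofHom (algebraMap A (A ⧸ 𝔪))) = J.subschemeι ≫ f →
      0 ≤ @Curv2.deg (A ⧸ 𝔪) (Ideal.Quotient.field 𝔪) J.subscheme ⟨t⟩
        ((Scheme.Modules.pullback J.subschemeι).obj L) 1)
    (𝔪 : Ideal A) [h𝔪 : 𝔪.IsMaximal] :
    Subsingleton (Coh.HH (pullback f (Spec.map (CommRingCat.ofHom (algebraMap A (A ⧸ 𝔪)))))
      ((Scheme.Modules.pullback
        (pullback.fst f (Spec.map (CommRingCat.ofHom (algebraMap A (A ⧸ 𝔪)))))).obj L) 1) ∧
    NodalG0.JointlyEpi ((Scheme.Modules.pullback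
        (pullback.fst f (Spec.map (CommRingCat.ofHom (algebraMap A (A ⧸ 𝔪)))))).obj L) := by
  letI : X.Over (Spec (CommRingCat.of A)) := ⟨f⟩
  haveI : IsLocallyNoetherian X := LocallyOfFiniteType.isLocallyNoetherian f
  letI : (pullback f (Spec.map (CommRingCat.ofHom (algebraMap A (A ⧸ 𝔪))))).Over
      (Spec (CommRingCat.of (A ⧸ 𝔪))) := ⟨pullback.snd f _⟩
  have hsq : IsPullback (pullback.fst f (Spec.map (CommRingCat.ofHom (algebraMap A (A ⧸ 𝔪)))))
      ((pullback f (Spec.map (CommRingCat.ofHom (algebraMap A (A ⧸ 𝔪))))) ↘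
        Spec (CommRingCat.of (A ⧸ 𝔪)))
      (X ↘ Spec (CommRingCat.of A))
      (Spec.map (CommRingCat.ofHom (algebraMap A (A ⧸ 𝔪)))) :=
    IsPullback.of_hasPullback f _
  have hOc := CohDevH8.isCoh_structureModule X
  haveI := hOc.1
  have h2 := HH1_modPow_of_HH1 f hfib 𝔪 _ hOc h1
  have h3 := subsingleton_HH_fibre_of_modPow_one A (A ⧸ 𝔪) 𝔪 _ hsq
    Ideal.Quotient.mk_surjective (by rw [Ideal.Quotient.algebraMap_eq, Ideal.mk_ker])
    (Coh.structureModule X) 1 h2
  have hO : Subsingleton (Coh.HH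
      (pullback f (Spec.map (CommRingCat.ofHom (algebraMap A (A ⧸ 𝔪)))))
      (Coh.structureModule _) 1) :=
    subsingleton_of_iso (PBH8.pullbackUnitIso _) 1 h3
  exact fibre_core_r f hfib L hL hnef 𝔪 hO

/-- **vanishing of `H¹`** -/
theorem main_H1_r
    (h1 : Subsingleton (Coh.HH X (Coh.structureModule X) 1))
    (hfib : ∀ y : ↥(Spec (CommRingCat.of A)), topologicalKrullDim ↥(f.fiber y) ≤ 1)
    (L : X.Modules) (hL : PicF.IsInvertible L)
    (hnef : ∀ (𝔪 : Ideal A) [h𝔪 : 𝔪.IsMaximal] (J : X.IdealSheafData)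
      (t : J.subscheme ⟶ Spec (CommRingCat.of (A ⧸ 𝔪))),
      AlgebraicGeometry.IsIntegral J.subscheme → topologicalKrullDim ↥J.subscheme = 1 →
      t ≫ Spec.map (CommRingCat.ofHom (algebraMap A (A ⧸ 𝔪))) = J.subschemeι ≫ f →
      0 ≤ @Curv2.deg (A ⧸ 𝔪) (Ideal.Quotient.field 𝔪) J.subscheme ⟨t⟩
        ((Scheme.Modules.pullback J.subschemeι).obj L) 1) :
    Subsingleton (Coh.HH X L 1) := by
  letI : X.Over (Spec (CommRingCat.of A)) := ⟨f⟩
  haveI : IsProper (X ↘ Spec (CommRingCat.of A)) := ‹IsProper f›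
  haveI : IsLocallyNoetherian X := LocallyOfFiniteType.isLocallyNoetherian f
  have hLc := ProperFinH9.isCoh_of_isInvertible hL
  haveI := hLc.1
  haveI := ProperFinH9.finite_HH_of_proper A X L hLc 1
  apply subsingleton_of_forall_maximal (A := A)
  intro 𝔪 h𝔪
  haveI := h𝔪
  obtain ⟨n, a, ha⟩ := Submodule.fg_iff_exists_fin_generating_family.mp
    (IsNoetherian.noetherian 𝔪)
  apply HH1_le_smul_top (HH2_subsingleton f hfib) 𝔪 a ha L hLc
  letI : (pullback f (Spec.map (CommRingCat.ofHom (algebraMap A (A ⧸ 𝔪))))).Over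
      (Spec (CommRingCat.of (A ⧸ 𝔪))) := ⟨pullback.snd f _⟩
  have hsq : IsPullback (pullback.fst f (Spec.map (CommRingCat.ofHom (algebraMap A (A ⧸ 𝔪)))))
      ((pullback f (Spec.map (CommRingCat.ofHom (algebraMap A (A ⧸ 𝔪))))) ↘
        Spec (CommRingCat.of (A ⧸ 𝔪)))
      (X ↘ Spec (CommRingCat.of A))
      (Spec.map (CommRingCat.ofHom (algebraMap A (A ⧸ 𝔪)))) :=
    IsPullback.of_hasPullback f _
  exact subsingleton_HH_modPow_one_of_fibre A (A ⧸ 𝔪) 𝔪 _ hsq
    Ideal.Quotient.mk_surjective (by rw [Ideal.Quotient.algebraMap_eq, Ideal.mk_ker]) L 1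
    (fibre_core_r' f h1 hfib L hL hnef 𝔪).1

/-- **global generation** -/
theorem main_gg_r
    (h1 : Subsingleton (Coh.HH X (Coh.structureModule X) 1))
    (hfib : ∀ y : ↥(Spec (CommRingCat.of A)), topologicalKrullDim ↥(f.fiber y) ≤ 1)
    (L : X.Modules) (hL : PicF.IsInvertible L)
    (hnef : ∀ (𝔪 : Ideal A) [h𝔪 : 𝔪.IsMaximal] (J : X.IdealSheafData)
      (t : J.subscheme ⟶ Spec (CommRingCat.of (A ⧸ 𝔪))),
      AlgebraicGeometry.IsIntegral J.subscheme → topologicalKrullDim ↥J.subscheme = 1 →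
      t ≫ Spec.map (CommRingCat.ofHom (algebraMap A (A ⧸ 𝔪))) = J.subschemeι ≫ f →
      0 ≤ @Curv2.deg (A ⧸ 𝔪) (Ideal.Quotient.field 𝔪) J.subscheme ⟨t⟩
        ((Scheme.Modules.pullback J.subschemeι).obj L) 1) :
    Curv2.IsGloballyGenerated L := by
  haveI : IsLocallyNoetherian X := LocallyOfFiniteType.isLocallyNoetherian f
  haveI : CompactSpace X := QuasiCompact.compactSpace_of_compactSpace f
  have hH1 := main_H1_r f h1 hfib L hL hnef
  have hLc := ProperFinH9.isCoh_of_isInvertible hL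
  haveI := hLc.1
  have hOc := CohDevH8.isCoh_structureModule X
  haveI := hOc.1
  let ev : (∐ fun _ : (Coh.structureModule X ⟶ L) => Coh.structureModule X) ⟶ L :=
    Sigma.desc (fun t => t)
  have hev : ∀ σ : Coh.structureModule X ⟶ L,
      ∃ τ : Coh.structureModule X ⟶
        (∐ fun _ : (Coh.structureModule X ⟶ L) => Coh.structureModule X), τ ≫ ev = σ :=
    fun σ => ⟨Sigma.ι (fun _ : (Coh.structureModule X ⟶ L) => Coh.structureModule X) σ,
      Sigma.ι_desc _ _⟩
  haveI : (∐ fun _ : (Coh.structureModule X ⟶ L) => Coh.structureModule X).IsQuasicoherent :=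
    Groth.Agent.Lib.BModH6.isQuasicoherent_sigma _
  have hQc : Coh.IsCoh (cokernel ev) := isCoh_cokernel' hLc ev
  haveI := hQc.1
  haveI := hQc.2
  have hz : IsZero (cokernel ev) := by
    apply CohDevH8.isZero_of_support_eq_empty
    rw [Set.eq_empty_iff_forall_notMem]
    intro x hx
    have hcl : IsClosed (CohB1.support (cokernel ev)) := SupportCoh.isClosed_support _
    obtain ⟨p, hpx, hp⟩ := IsClosed.exists_closed_singleton
      (isClosed_closure (s := ({x} : Set X))) ⟨x, subset_closure rfl⟩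
    have hps : p ∈ CohB1.support (cokernel ev) :=
      (hcl.closure_subset_iff.mpr (Set.singleton_subset_iff.mpr hx)) hpx
    have hy : IsClosed ({f p} : Set ↥(Spec (CommRingCat.of A))) := by
      have := f.isClosedMap _ hp
      rwa [Set.image_singleton] at this
    have h𝔪 : (show PrimeSpectrum A from f p).asIdeal.IsMaximal :=
      (PrimeSpectrum.isClosed_singleton_iff_isMaximal _).mp hy
    haveI := h𝔪
    have hpr : p ∈ Set.range (pullback.fst f (Spec.map (CommRingCat.ofHom
        (algebraMap A (A ⧸ (show PrimeSpectrum A from f p).asIdeal))))) := by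
      rw [range_fst_fibre]
      rfl
    obtain ⟨z, hz⟩ := hpr
    haveI : IsClosedImmersion (Spec.map (CommRingCat.ofHom
        (algebraMap A (A ⧸ (show PrimeSpectrum A from f p).asIdeal)))) :=
      IsClosedImmersion.spec_of_surjective _ Ideal.Quotient.mk_surjective
    rw [← hz] at hps
    apply hps
    exact stalk_subsingleton_of_isZero_pullback _ (cokernel ev)
      (isZero_pullback_cokernel _ L
        (fibre_core_r' f h1 hfib L hL hnef (show PrimeSpectrum A from f p).asIdeal).2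
        (exists_lift_unit f hfib L hLc hH1 (show PrimeSpectrum A from f p).asIdeal) ev hev) z
  haveI : Epi ev := Preadditive.epi_of_isZero_cokernel ev hz
  apply NodalG0.gg_of_jointlyEpi
  intro C c hc
  have h2 : ev ≫ c = 0 := by
    apply Sigma.hom_ext
    intro t
    rw [← Category.assoc, Sigma.ι_desc, comp_zero]
    exact hc _
  exact (cancel_epi ev).1 (h2.trans comp_zero.symm)


/-- **S19496**, with nefness tested over the residue fields of the maximal ideals only -/
theorem main_r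
    (h1 : Subsingleton (Coh.HH X (Coh.structureModule X) 1))
    (hfib : ∀ y : ↥(Spec (CommRingCat.of A)), topologicalKrullDim ↥(f.fiber y) ≤ 1)
    (L : X.Modules) (hL : PicF.IsInvertible L)
    (hnef : ∀ (𝔪 : Ideal A) [h𝔪 : 𝔪.IsMaximal] (J : X.IdealSheafData)
      (t : J.subscheme ⟶ Spec (CommRingCat.of (A ⧸ 𝔪))),
      AlgebraicGeometry.IsIntegral J.subscheme → topologicalKrullDim ↥J.subscheme = 1 →
      t ≫ Spec.map (CommRingCat.ofHom (algebraMap A (A ⧸ 𝔪))) = J.subschemeι ≫ f →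
      0 ≤ @Curv2.deg (A ⧸ 𝔪) (Ideal.Quotient.field 𝔪) J.subscheme ⟨t⟩
        ((Scheme.Modules.pullback J.subschemeι).obj L) 1) :
    Curv2.IsGloballyGenerated L ∧ Subsingleton (Coh.HH X L 1) :=
  ⟨main_gg_r f h1 hfib L hL hnef, main_H1_r f h1 hfib L hL hnef⟩

end MainR

end Snap9
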