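import Mathlib
import Groth.Prelude
import Groth.Agent.Lib.Snap66_helper9
import Groth.Agent.Lib.ConnDim_lead
import Groth.Agent.Lib.ProjSpaceProper_helper4
import Groth.Agent.Lib.CurveRR1_helper9
import Groth.Agent.Lib.EulerField_helper9

/-!
# Effective vertical divisors `Z` on an arithmetic surface with `H¹(Z, O_Z) = 0` (helper9)

An invertible module on `Z` with non-negative degree on every vertical prime divisor contained in
`Z` has no `H¹` and is generated by its sections.

APPEND-ONLY once landed.
-/

set_option autoImplicit false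
universe u
open CategoryTheory CategoryTheory.Limits AlgebraicGeometry Opposite TopologicalSpace

namespace Snap9

section Deg

variable (k : Type u) [Field k] (Y : Scheme.{u}) [Y.Over (Spec (CommRingCat.of k))]
  [IsIntegral Y] [IsProper (Y ↘ Spec (CommRingCat.of k))]

/-- the two degrees on an integral proper curve agree -/
theorem curveDeg_eq_deg (hdim : topologicalKrullDim Y ≤ 1) (M : Y.Modules) [M.IsQuasicoherent] :
    ArSurf.curveDeg k Y M = Curv2.deg k Y M 1 := by
  haveI : IsLocallyNoetherian Y :=
    LocallyOfFiniteType.isLocallyNoetherian (Y ↘ Spec (CommRingCat.of k))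
  haveI := (CohDevH8.isCoh_structureModule Y).1
  unfold ArSurf.curveDeg Curv2.deg
  rw [EulerField.euler_eq_sum k Y 1 M (fun p hp => CurveRR.HH_subsingleton k Y hdim M p hp),
    EulerField.euler_eq_sum k Y 1 (Coh.structureModule Y)
      (fun p hp => CurveRR.HH_subsingleton k Y hdim _ p hp)]
  unfold FGA.eulerCharLE
  push_cast
  ring

end Deg

section Dim

/-- a proper closed subset of an irreducible space of dimension two has dimension at most one -/
theorem dim_le_one_of_closed_ne_univ {T : Type*} [TopologicalSpace T] [IrreducibleSpace T]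
    (hT : topologicalKrullDim T = 2) (Y : Set T) (hY : IsClosed Y) (hne : Y ≠ Set.univ) :
    topologicalKrullDim ↥Y ≤ 1 := by
  have h1 := Groth.Agent.Lib.ConnDim.dim_add_one_le Y Set.univ (Set.subset_univ _) hne hY
    (IrreducibleSpace.isIrreducible_univ T)
  have h2 : topologicalKrullDim ↥(Set.univ : Set T) = 2 := by
    rw [← hT]
    exact IsHomeomorph.topologicalKrullDim_eq _ (Homeomorph.Set.univ T).isHomeomorph
  rw [h2] at h1
  generalize topologicalKrullDim ↥Y = d at h1
  induction d using WithBot.recBotCoe with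
  | bot => exact bot_le
  | coe n =>
    induction n using ENat.recTopCoe with
    | top =>
      exfalso
      have : ((⊤ : ℕ∞) : WithBot ℕ∞) + 1 = ((⊤ : ℕ∞) : WithBot ℕ∞) := by
        rw [← WithBot.coe_one, ← WithBot.coe_add, top_add]
      rw [this] at h1
      have h3 : ((⊤ : ℕ∞) : WithBot ℕ∞) ≤ ((2 : ℕ∞) : WithBot ℕ∞) := h1
      rw [WithBot.coe_le_coe] at h3
      exact absurd h3 (by simp)
    | coe m =>
      have h3 : (((m + 1 : ℕ) : ℕ∞) : WithBot ℕ∞) ≤ (((2 : ℕ) : ℕ∞) : WithBot ℕ∞) := by
        convert h1 using 1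
        · push_cast; rfl
        · rfl
      rw [WithBot.coe_le_coe, Nat.cast_le] at h3
      have h4 : m ≤ 1 := by omega
      show (((m : ℕ) : ℕ∞) : WithBot ℕ∞) ≤ (((1 : ℕ) : ℕ∞) : WithBot ℕ∞)
      rw [WithBot.coe_le_coe, Nat.cast_le]
      exact h4

end Dim

section ArS

variable (R : Type u) [CommRing R] [IsDomain R] [IsDiscreteValuationRing R]

/-- a nonempty flat scheme over a discrete valuation ring has a point outside the closed fibre -/
theorem exists_not_mem_specialFibreSet (X : Over (Spec (CommRingCat.of R))) [Flat X.hom]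
    [Nonempty X.left] : ∃ x : X.left, x ∉ Models.specialFibreSet R X := by
  obtain ⟨x⟩ := ‹Nonempty X.left›
  have hgen : GeneralizingMap X.hom.base := Flat.generalizingMap X.hom
  let η : PrimeSpectrum R := ⟨⊥, Ideal.isPrime_bot⟩
  have hspec : η ⤳ X.hom.base x := by
    rw [← PrimeSpectrum.le_iff_specializes]
    show (⊥ : Ideal R) ≤ _
    exact bot_le
  obtain ⟨x', -, hη⟩ := hgen hspec
  refine ⟨x', ?_⟩
  intro hmem
  have h1 : X.hom.base x' = IsLocalRing.closedPoint R := hmem
  have h2 : η = IsLocalRing.closedPoint R := hη.symm.trans h1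
  have h3 := congrArg PrimeSpectrum.asIdeal h2
  exact IsDiscreteValuationRing.not_a_field R h3.symm

/-- **S7908** -/
theorem main7908
    (X : Over (Spec (CommRingCat.of R))) (hX : ArSurf.IsArithSurface R X)
    (Z : Scheme.{u}) (z : Z ⟶ X.left) [IsClosedImmersion z]
    (hvert : Set.range z.base ⊆ Models.specialFibreSet R X)
    (hH1 : Subsingleton (Coh.HH Z (Coh.structureModule Z) 1))
    (L : Z.Modules) (hL : PicF.IsInvertible L)
    (hdeg : ∀ (Γ : ArSurf.VertComp R X) (g : Γ.curve.left ⟶ Z), g ≫ z = Γ.ι →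
      0 ≤ ArSurf.curveDeg (IsLocalRing.ResidueField R) Γ.curve.left
        ((Scheme.Modules.pullback g).obj L)) :
    Subsingleton (Coh.HH Z L 1) ∧ Curv2.IsGloballyGenerated L := by
  obtain ⟨-, hint, hdim2, hflat, n, i, hi, hcomp⟩ := hX
  haveI := hint
  haveI := hflat
  haveI := hi
  haveI : IsProper (CohB1.ProjSpaceOver.toBase n (Spec (CommRingCat.of R))) :=
    Groth.Agent.Lib.ProjSpaceProperH4.isProper_toBase n _
  haveI : IsProper X.hom := by rw [← hcomp]; infer_instance
  haveI : IsProper (z ≫ X.hom) := inferInstance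
  have hne : Set.range z.base ≠ Set.univ := by
    obtain ⟨x, hx⟩ := exists_not_mem_specialFibreSet R X
    intro h
    exact hx (hvert (h ▸ Set.mem_univ x))
  have hdimr := dim_le_one_of_closed_ne_univ hdim2 (Set.range z.base)
    z.isClosedEmbedding.isClosed_range hne
  have hdimZ : topologicalKrullDim Z ≤ 1 := by
    rw [IsHomeomorph.topologicalKrullDim_eq _ (z.isEmbedding.toHomeomorph).isHomeomorph]
    exact hdimr
  have hfib : ∀ y, topologicalKrullDim ↥((z ≫ X.hom).fiber y) ≤ 1 := fun y =>
    (((z ≫ X.hom).fiberι y).isEmbedding.isInducing.topologicalKrullDim_le).trans hdimZ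
  have key := main_r (z ≫ X.hom) hH1 hfib L hL ?_
  · exact ⟨key.2, key.1⟩
  intro 𝔪 h𝔪 J t hintJ hdimJ hcompat
  obtain rfl : 𝔪 = IsLocalRing.maximalIdeal R := IsLocalRing.eq_maximalIdeal h𝔪
  haveI := hintJ
  let Γ : ArSurf.VertComp R X :=
    { curve := Over.mk t
      ι := J.subschemeι ≫ z
      isClosedImmersion := inferInstance
      isIntegral := hintJ
      dim_eq := hdimJ
      w := by rw [Category.assoc]; exact hcompat.symm }
  have h0 := hdeg Γ J.subschemeι rfl
  letI : Field (R ⧸ IsLocalRing.maximalIdeal R) :=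
    Ideal.Quotient.field (IsLocalRing.maximalIdeal R)
  letI : J.subscheme.Over (Spec (CommRingCat.of (R ⧸ IsLocalRing.maximalIdeal R))) := ⟨t⟩
  haveI : IsClosedImmersion (Spec.map (CommRingCat.ofHom
      (algebraMap R (R ⧸ IsLocalRing.maximalIdeal R)))) :=
    IsClosedImmersion.spec_of_surjective _ Ideal.Quotient.mk_surjective
  haveI : IsProper (t ≫ Spec.map (CommRingCat.ofHom
      (algebraMap R (R ⧸ IsLocalRing.maximalIdeal R)))) := by
    rw [hcompat]; infer_instance
  haveI : IsProper (J.subscheme ↘ Spec (CommRingCat.of (R ⧸ IsLocalRing.maximalIdeal R))) :=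
    IsProper.of_comp t (Spec.map (CommRingCat.ofHom
      (algebraMap R (R ⧸ IsLocalRing.maximalIdeal R))))
  haveI : IsLocallyNoetherian Z := LocallyOfFiniteType.isLocallyNoetherian (z ≫ X.hom)
  haveI : IsLocallyNoetherian J.subscheme :=
    LocallyOfFiniteType.isLocallyNoetherian
      (J.subscheme ↘ Spec (CommRingCat.of (R ⧸ IsLocalRing.maximalIdeal R)))
  haveI := (ProperFinH9.isCoh_of_isInvertible
    (TensH8.isInvertible_pullback J.subschemeι hL)).1
  have h1 := curveDeg_eq_deg (R ⧸ IsLocalRing.maximalIdeal R) J.subscheme hdimJ.le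
    ((Scheme.Modules.pullback J.subschemeι).obj L)
  exact h0.trans_eq h1

end ArS

end Snap9
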