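import Mathlib
import Groth.Prelude
import Groth.Agent.Lib.Snap67_helper9
import Groth.Agent.Lib.Snap12_helper9
import Groth.Agent.Lib.InvTens2_helper8
import Groth.Agent.Lib.Tens14_helper8
import Groth.Agent.Lib.GenLoc2_helper8
import Groth.Agent.Lib.NefTriv_helper9
import Groth.Agent.Lib.CurveTens4_helper9

/-!
# The canonical section of `O(D)` and intersection numbers `D · Γ` on arithmetic surfaces (helper9)

APPEND-ONLY once landed.
-/

set_option autoImplicit false
universe u
open CategoryTheory CategoryTheory.Limits AlgebraicGeometry Opposite TopologicalSpace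
open TensorProduct MonoidalCategory

namespace Snap9

open QcqsLoc QCohExtn SerreCrit GenLocH8 TensH8 Groth.Agent.TensInv FLFH8

section CanSec

variable {X : Scheme.{u}}

/-- the canonical section of `L = O(D)`, for `L ⊗ I_D ≅ O` -/
noncomputable def canSec (D : X.IdealSheafData) {L : X.Modules}
    (e : CohB1.tensorMod L (ClSub.idealMod D) ≅ Coh.structureModule X) :
    Coh.structureModule X ⟶ L :=
  e.inv ≫ (tL L).map (ClSub.idealModι D) ≫ (unitorR L).hom

/-- a section of the ideal module does not generate at points of the support -/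
theorem not_mem_basicOpen_idealModι (D : X.IdealSheafData) {W : X.Opens}
    (t : Γ(ClSub.idealMod D, W)) {x : X} (hx : x ∈ D.support) :
    x ∉ X.basicOpen (ofM (ap (ClSub.idealModι D) W t)) := by
  intro hxb
  have hxW : x ∈ W := X.basicOpen_le _ hxb
  obtain ⟨_, ⟨W', hW' : IsAffineOpen W', rfl⟩, hxW', hle⟩ :=
    X.isBasis_affineOpens.exists_subset_of_mem_open hxW W.isOpen
  have hle' : W' ≤ W := hle
  have h1 := idealModι_mem D hW' (rF (ClSub.idealMod D) hle' t)
  rw [idealModι_rF] at h1
  have h2 := (Scheme.IdealSheafData.mem_support_iff_of_mem (I := D) (U := ⟨W', hW'⟩) hxW').mp hx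
  rw [Scheme.mem_zeroLocus_iff] at h2
  have h3 := h2 _ h1
  apply h3
  rw [basicOpen_rX]
  exact ⟨hxW', hxb⟩

/-- the canonical section of `O(D)` generates exactly away from `D` -/
theorem mem_genLocus_canSec_iff (D : X.IdealSheafData) (hD : BlowUp.IsEffCartierIdeal D)
    {L : X.Modules} (e : CohB1.tensorMod L (ClSub.idealMod D) ≅ Coh.structureModule X) (x : X) :
    x ∈ CohB1.genLocus L (canSec D e) ↔ x ∉ D.support := by
  have hLi : PicF.IsInvertible L := InvTensH8.isInvertible_of_tensor_iso e
  have hIi : PicF.IsInvertible (ClSub.idealMod D) := isInvertible_idealMod_of_isEffCartierIdeal D hD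
  obtain ⟨W, hxW, ℓ, e₀, hℓ, he₀⟩ := exists_isGen₂ hLi hIi x
  obtain ⟨w, hw⟩ : ∃ w : Γ(CohB1.tensorMod L (ClSub.idealMod D), W),
      w = SecTwist.tmul L (ClSub.idealMod D) W ℓ e₀ := ⟨_, rfl⟩
  have hwg : IsGen (CohB1.tensorMod L (ClSub.idealMod D)) W w := by
    rw [hw]; exact isGen_tmul hℓ he₀
  have hg := isGen_of_iso e hwg
  obtain ⟨g, hg'⟩ : ∃ g : Γ(Coh.structureModule X, W), g = ap e.hom W w := ⟨_, rfl⟩
  rw [← hg'] at hg
  obtain ⟨a, ha⟩ : ∃ a : Γ(X, W), a = ofM (ap (ClSub.idealModι D) W e₀) := ⟨_, rfl⟩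
  -- `g` is a unit
  obtain ⟨d, hd⟩ := (hg W le_rfl).1 (toM 1)
  have hd' : (toM (1 : Γ(X, W)) : Γ(Coh.structureModule X, W)) = d • g := by
    rw [hd]; congr 1; exact SubExt.rF_self _ le_rfl g
  have hdc : d * ofM g = 1 := (congrArg ofM hd').symm
  -- the value of the section
  have hσg : ap (canSec D e) W g = a • ℓ := by
    have h1 : ap (canSec D e) W g = ap (unitorR L).hom W
        (ap ((tL L).map (ClSub.idealModι D)) W (ap e.inv W g)) := rfl
    rw [h1, hg', ap_inv_hom e W w, hw, ap_tL_map_tmul]
    have h2 : ap (ClSub.idealModι D) W e₀ = toM a := by rw [ha]; rfl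
    rw [h2]
    exact unitorR_tmul' L W ℓ a
  have hval : SecTwist.val (canSec D e) W = (d * a) • ℓ := by
    have h1 : SecTwist.val (canSec D e) W = ap (canSec D e) W (toM 1) := rfl
    rw [h1, hd', ap_smul, hσg, mul_smul]
  have h3 := genLocus_inf_eq (canSec D e) hℓ (d * a) hval
  have hdu : IsUnit d := IsUnit.of_mul_eq_one _ hdc
  have h4 : X.basicOpen (d * a) = X.basicOpen a := by
    rw [Scheme.basicOpen_mul, Scheme.basicOpen_of_isUnit X hdu]
    exact inf_eq_right.mpr (X.basicOpen_le a)
  rw [h4] at h3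
  constructor
  · intro hx hxs
    have h5 : x ∈ CohB1.genLocus L (canSec D e) ⊓ W := ⟨hx, hxW⟩
    rw [h3, ha] at h5
    exact not_mem_basicOpen_idealModι D e₀ hxs h5
  · intro hx
    have h5 : x ∈ X.basicOpen a := by
      rw [ha]
      exact mem_basicOpen_idealModι D he₀ hxW hx
    rw [← h3] at h5
    exact h5.1

end CanSec

section Inter

variable (k : Type u) [Field k] {X : Scheme.{u}} (C : Scheme.{u})
  [C.Over (Spec (CommRingCat.of k))] [IsIntegral C] [IsProper (C ↘ Spec (CommRingCat.of k))]

/-- the degree of `O(D)` on an integral proper curve `C` not contained in the effective Cartier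
divisor `D` is non-negative, and vanishes exactly when `C` and `D` are disjoint -/
theorem deg_pullback_effCartier (hdim : topologicalKrullDim C = 1) (ι : C ⟶ X)
    (D : X.IdealSheafData) (hD : BlowUp.IsEffCartierIdeal D)
    (hξ : ι.base (genericPoint C) ∉ (D.support : Set X))
    (L : X.Modules) (hL : ClSub.IsInverseOf L (ClSub.idealMod D)) :
    0 ≤ Curv2.deg k C ((Scheme.Modules.pullback ι).obj L) 1 ∧
      (Curv2.deg k C ((Scheme.Modules.pullback ι).obj L) 1 = 0 ↔
        Disjoint (Set.range ι.base) (D.support : Set X)) := by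
  obtain ⟨e⟩ := hL
  have hLi : PicF.IsInvertible L := InvTensH8.isInvertible_of_tensor_iso e
  have hL' : PicF.IsInvertible ((Scheme.Modules.pullback ι).obj L) :=
    TensH8.isInvertible_pullback ι hLi
  obtain ⟨e', -⟩ : ∃ e' : Coh.structureModule C ≅
      (Scheme.Modules.pullback ι).obj (Coh.structureModule X), True :=
    ⟨(PBH8.pullbackUnitIso ι).symm, trivial⟩
  obtain ⟨s, hs⟩ : ∃ s : Coh.structureModule C ⟶ (Scheme.Modules.pullback ι).obj L,
      s = e'.hom ≫ (Scheme.Modules.pullback ι).map (canSec D e) := ⟨_, rfl⟩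
  have hgl : CohB1.genLocus ((Scheme.Modules.pullback ι).obj L) s =
      ι ⁻¹ᵁ CohB1.genLocus L (canSec D e) := by
    rw [hs]; exact genLocus_pullback ι L hLi (canSec D e) e'
  have hmem : ∀ x : C, x ∈ CohB1.genLocus ((Scheme.Modules.pullback ι).obj L) s ↔
      ι.base x ∉ (D.support : Set X) := by
    intro x
    rw [hgl]
    exact mem_genLocus_canSec_iff D hD e (ι.base x)
  have hs0 : s ≠ 0 := by
    intro h0
    have h1 := (hmem (genericPoint C)).mpr hξ
    rw [h0, NefTriv.genLocus_zero] at h1
    exact h1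
  refine ⟨CurveDeg.deg_nonneg_of_section k C hdim hL' s hs0, ?_⟩
  constructor
  · intro h0
    haveI := CurveDeg.isIso_of_deg_nonpos k C hdim hL' s hs0 h0.le
    have htop := NefTriv.genLocus_eq_top_of_isIso s
    rw [Set.disjoint_left]
    rintro _ ⟨x, rfl⟩
    rw [← hmem x, htop]
    trivial
  · intro hdis
    have htop : CohB1.genLocus ((Scheme.Modules.pullback ι).obj L) s = ⊤ := by
      ext x
      simp only [Opens.coe_top, Set.mem_univ, iff_true]
      exact (hmem x).mpr (Set.disjoint_left.mp hdis ⟨x, rfl⟩)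
    haveI := NefTriv.isIso_of_genLocus_eq_top s htop
    rw [← CurveTens.deg_of_iso k C (asIso s) 1]
    exact CurveDeg.deg_structureModule k C

end Inter

section ArS

variable (R : Type u) [CommRing R] [IsDomain R] [IsDiscreteValuationRing R]

/-- a vertical prime divisor of a proper `R`-scheme is proper over the residue field -/
theorem isProper_vertComp (X : Over (Spec (CommRingCat.of R))) [IsProper X.hom]
    (Γ : ArSurf.VertComp R X) : IsProper Γ.curve.hom := by
  haveI : IsClosedImmersion (Spec.map (CommRingCat.ofHom (IsLocalRing.residue R))) :=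
    IsClosedImmersion.spec_of_surjective _ Ideal.Quotient.mk_surjective
  haveI : IsProper (Γ.curve.hom ≫ Spec.map (CommRingCat.ofHom (IsLocalRing.residue R))) := by
    rw [← Γ.w]; infer_instance
  exact IsProper.of_comp Γ.curve.hom (Spec.map (CommRingCat.ofHom (IsLocalRing.residue R)))

/-- an arithmetic surface is proper over the base -/
theorem isProper_of_isArithSurface (X : Over (Spec (CommRingCat.of R)))
    (hX : ArSurf.IsArithSurface R X) : IsProper X.hom := by
  obtain ⟨-, -, -, -, n, i, hi, hcomp⟩ := hX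
  haveI := hi
  haveI : IsProper (CohB1.ProjSpaceOver.toBase n (Spec (CommRingCat.of R))) :=
    Groth.Agent.Lib.ProjSpaceProperH4.isProper_toBase n _
  rw [← hcomp]; infer_instance

/-- the intersection number as a `Curv2` degree -/
theorem inter_eq_deg (X : Over (Spec (CommRingCat.of R))) [IsProper X.hom]
    (Γ : ArSurf.VertComp R X) (L : X.left.Modules) (hL : PicF.IsInvertible L) :
    haveI : IsProper (Γ.curve.left ↘ Spec (CommRingCat.of (IsLocalRing.ResidueField R))) :=
      isProper_vertComp R X Γ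
    ArSurf.inter R X L Γ = Curv2.deg (IsLocalRing.ResidueField R) Γ.curve.left
      ((Scheme.Modules.pullback Γ.ι).obj L) 1 := by
  haveI : IsProper (Γ.curve.left ↘ Spec (CommRingCat.of (IsLocalRing.ResidueField R))) :=
    isProper_vertComp R X Γ
  haveI : IsLocallyNoetherian Γ.curve.left :=
    LocallyOfFiniteType.isLocallyNoetherian
      (Γ.curve.left ↘ Spec (CommRingCat.of (IsLocalRing.ResidueField R)))
  haveI := (ProperFinH9.isCoh_of_isInvertible (TensH8.isInvertible_pullback Γ.ι hL)).1
  exact curveDeg_eq_deg (IsLocalRing.ResidueField R) Γ.curve.left Γ.dim_eq.le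
    ((Scheme.Modules.pullback Γ.ι).obj L)

/-- **S8728** -/
theorem main8728 (X : Over (Spec (CommRingCat.of R))) (hX : ArSurf.IsArithSurface R X)
    (Γ : ArSurf.VertComp R X)
    (I : X.left.IdealSheafData) (hI : FGA.IsEffCartier I)
    (hΓ : Γ.ι.base (genericPoint ↥Γ.curve.left) ∉ (I.support : Set ↥X.left))
    (L : X.left.Modules) (hL : ClSub.IsInverseOf L (ClSub.idealMod I)) :
    0 ≤ ArSurf.inter R X L Γ ∧
      (ArSurf.inter R X L Γ = 0 ↔ Disjoint (Set.range Γ.ι.base) (I.support : Set ↥X.left)) := by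
  haveI := isProper_of_isArithSurface R X hX
  haveI : IsProper (Γ.curve.left ↘ Spec (CommRingCat.of (IsLocalRing.ResidueField R))) :=
    isProper_vertComp R X Γ
  have hLi : PicF.IsInvertible L := by
    obtain ⟨e⟩ := hL
    exact InvTensH8.isInvertible_of_tensor_iso e
  rw [inter_eq_deg R X Γ L hLi]
  exact deg_pullback_effCartier (IsLocalRing.ResidueField R) Γ.curve.left Γ.dim_eq Γ.ι I
    (fun x => hI x) hΓ L hL

end ArS

end Snap9
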