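import Mathlib
import Groth.Prelude
import Groth.Agent.Lib.Snap68_helper9
import Groth.Agent.Lib.InvTensP1_helper5

/-!
# Self-intersection of a vertical prime divisor and the conormal sheaf (helper9)

APPEND-ONLY once landed.
-/

set_option autoImplicit false
universe u
open CategoryTheory CategoryTheory.Limits AlgebraicGeometry Opposite TopologicalSpace
open TensorProduct MonoidalCategory

namespace Snap9

open QcqsLoc QCohExtn SerreCrit GenLocH8 TensH8 Groth.Agent.TensInv FLFH8

section Inv

variable (k : Type u) [Field k] {X : Scheme.{u}} (C : Scheme.{u})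
  [C.Over (Spec (CommRingCat.of k))] [IsIntegral C] [IsProper (C ↘ Spec (CommRingCat.of k))]

/-- degrees of the pullbacks of mutually inverse modules to an integral proper curve add up to
zero -/
theorem deg_pullback_inverse (hdim : topologicalKrullDim C ≤ 1) (ι : C ⟶ X)
    (L M : X.Modules) (hLM : ClSub.IsInverseOf L M) :
    Curv2.deg k C ((Scheme.Modules.pullback ι).obj L) 1 +
      Curv2.deg k C ((Scheme.Modules.pullback ι).obj M) 1 = 0 := by
  obtain ⟨e⟩ := hLM
  have hLi : PicF.IsInvertible L := InvTensH8.isInvertible_of_tensor_iso e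
  have hMi : PicF.IsInvertible M := InvTensH8.isInvertible_of_tensor_iso (comm M L ≪≫ e)
  have hL' := TensH8.isInvertible_pullback ι hLi
  have hM' := TensH8.isInvertible_pullback ι hMi
  have iso : CohB1.tensorMod ((Scheme.Modules.pullback ι).obj L)
      ((Scheme.Modules.pullback ι).obj M) ≅ Coh.structureModule C :=
    Groth.Agent.InvTensP.pullbackTensorIso ι hLi hMi ≪≫
      (Scheme.Modules.pullback ι).mapIso e ≪≫ PBH8.pullbackUnitIso ι
  rw [← CurveTens.deg_tensorMod k C hdim hL' hM', CurveTens.deg_of_iso k C iso 1]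
  exact CurveDeg.deg_structureModule k C

end Inv

section ArS

variable (R : Type u) [CommRing R] [IsDomain R] [IsDiscreteValuationRing R]

/-- **S8729** -/
theorem main8729 (X : Over (Spec (CommRingCat.of R))) (hX : ArSurf.IsArithSurface R X)
    (Γ : ArSurf.VertComp R X)
    (L : X.left.Modules) (hL : ClSub.IsInverseOf L (ClSub.idealMod Γ.ι.ker)) :
    ArSurf.inter R X L Γ =
      - ArSurf.curveDeg (IsLocalRing.ResidueField R) Γ.curve.left (Omega.conormal Γ.ι) := by
  haveI := isProper_of_isArithSurface R X hX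
  haveI : IsProper (Γ.curve.left ↘ Spec (CommRingCat.of (IsLocalRing.ResidueField R))) :=
    isProper_vertComp R X Γ
  have hLi : PicF.IsInvertible L := by
    obtain ⟨e⟩ := hL
    exact InvTensH8.isInvertible_of_tensor_iso e
  have hIi : PicF.IsInvertible (ClSub.idealMod Γ.ι.ker) := by
    obtain ⟨e⟩ := hL
    exact InvTensH8.isInvertible_of_tensor_iso (comm _ _ ≪≫ e)
  haveI : IsLocallyNoetherian Γ.curve.left :=
    LocallyOfFiniteType.isLocallyNoetherian
      (Γ.curve.left ↘ Spec (CommRingCat.of (IsLocalRing.ResidueField R)))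
  haveI : ((Scheme.Modules.pullback Γ.ι).obj (ClSub.idealMod Γ.ι.ker)).IsQuasicoherent :=
    (ProperFinH9.isCoh_of_isInvertible (TensH8.isInvertible_pullback Γ.ι hIi)).1
  have h1 := deg_pullback_inverse (IsLocalRing.ResidueField R) Γ.curve.left Γ.dim_eq.le Γ.ι
    L _ hL
  have h2 : ArSurf.curveDeg (IsLocalRing.ResidueField R) Γ.curve.left (Omega.conormal Γ.ι) =
      Curv2.deg (IsLocalRing.ResidueField R) Γ.curve.left
        ((Scheme.Modules.pullback Γ.ι).obj (ClSub.idealMod Γ.ι.ker)) 1 :=
    curveDeg_eq_deg (IsLocalRing.ResidueField R) Γ.curve.left Γ.dim_eq.le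
      ((Scheme.Modules.pullback Γ.ι).obj (ClSub.idealMod Γ.ι.ker))
  rw [inter_eq_deg R X Γ L hLi, h2]
  linarith

end ArS

end Snap9
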