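import Mathlib
import Groth.Prelude
import Groth.Agent.Lib.Snap69_helper9

/-!
# Intersection numbers of distinct components of the closed fibre of a regular proper model
(helper9)

APPEND-ONLY once landed.
-/

set_option autoImplicit false
universe u
open CategoryTheory CategoryTheory.Limits AlgebraicGeometry Opposite TopologicalSpace
open TensorProduct MonoidalCategory

namespace Snap9

open QcqsLoc QCohExtn SerreCrit GenLocH8 TensH8 Groth.Agent.TensInv FLFH8

section ArS

variable (R : Type u) [CommRing R] [IsDomain R] [IsDiscreteValuationRing R]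

/-- the support of the ideal of a vertical prime divisor is its range -/
theorem support_ker_vertComp (X : Over (Spec (CommRingCat.of R))) (Γ : ArSurf.VertComp R X) :
    (Γ.ι.ker.support : Set X.left) = Set.range Γ.ι.base := by
  rw [Scheme.Hom.support_ker]
  exact Γ.ι.isClosedEmbedding.isClosed_range.closure_eq

/-- the range of a vertical prime divisor is the closure of the image of its generic point -/
theorem range_vertComp_eq_closure (X : Over (Spec (CommRingCat.of R))) (Γ : ArSurf.VertComp R X) :
    Set.range Γ.ι.base = closure {Γ.ι.base (genericPoint Γ.curve.left)} := by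
  have h1 : closure ({genericPoint Γ.curve.left} : Set Γ.curve.left) = Set.univ :=
    genericPoint_spec Γ.curve.left
  have h2 := Γ.ι.isClosedEmbedding.closure_image_eq ({genericPoint Γ.curve.left} : Set _)
  rw [h1, Set.image_univ, Set.image_singleton] at h2
  exact h2.symm

/-- a vertical prime divisor lies in the closed fibre -/
theorem range_vertComp_subset (X : Over (Spec (CommRingCat.of R))) (Γ : ArSurf.VertComp R X) :
    Set.range Γ.ι.base ⊆ Models.specialFibreSet R X := by
  rintro _ ⟨x, rfl⟩
  show X.hom.base (Γ.ι.base x) ∈ ({IsLocalRing.closedPoint R} : Set _)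
  have h1 : X.hom.base (Γ.ι.base x) = (Γ.ι ≫ X.hom).base x := rfl
  rw [h1, Γ.w]
  show (Spec.map (CommRingCat.ofHom (IsLocalRing.residue R))).base (Γ.curve.hom.base x) = _
  have h2 : ∀ y : Spec (CommRingCat.of (IsLocalRing.ResidueField R)),
      (Spec.map (CommRingCat.ofHom (IsLocalRing.residue R))).base y =
        IsLocalRing.closedPoint R := by
    intro y
    apply PrimeSpectrum.ext
    show Ideal.comap (IsLocalRing.residue R) y.asIdeal = IsLocalRing.maximalIdeal R
    have h3 : y.asIdeal = ⊥ := by
      haveI := y.isPrime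
      exact (Ideal.eq_bot_or_top y.asIdeal).resolve_right y.isPrime.ne_top
    rw [h3]
    exact IsLocalRing.ker_residue
  exact h2 _

/-- the generic point of a component of the closed fibre does not lie on another component -/
theorem genericPoint_notMem_of_ne (X : Over (Spec (CommRingCat.of R))) {n : ℕ}
    (Γ : Fin n → ArSurf.VertComp R X) (hΓ : Models.IsComponentList R X Γ) {i j : Fin n}
    (hij : i ≠ j) :
    (Γ i).ι.base (genericPoint (Γ i).curve.left) ∉ Set.range (Γ j).ι.base := by
  intro hmem
  apply hij
  apply hΓ.1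
  show Set.range (Γ i).ι.base = Set.range (Γ j).ι.base
  have hsub : Set.range (Γ i).ι.base ⊆ Set.range (Γ j).ι.base := by
    rw [range_vertComp_eq_closure R X (Γ i)]
    exact (Γ j).ι.isClosedEmbedding.isClosed_range.closure_subset_iff.mpr
      (Set.singleton_subset_iff.mpr hmem)
  have hi : Set.range (Γ i).ι.base ∈ Models.fibreComponents R X := by
    rw [← hΓ.2]; exact ⟨i, rfl⟩
  have hj : IsIrreducible (Set.range (Γ j).ι.base) := by
    rw [← Set.image_univ]
    exact (IrreducibleSpace.isIrreducible_univ _).image _ (Γ j).ι.continuous.continuousOn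
  exact Set.Subset.antisymm hsub
    (hi.2 ⟨hj, range_vertComp_subset R X (Γ j)⟩ hsub)

/-- **S3317** -/
theorem main3317 (X : Scheme.{u}) (p : X ⟶ Spec (CommRingCat.of R)) [IsProper p]
    {n : ℕ} (Γ : Fin n → ArSurf.VertComp R (Over.mk p))
    (hΓ : Models.IsComponentList R (Over.mk p) Γ)
    (L : Fin n → X.Modules)
    (hL : ∀ i, ClSub.IsInverseOf (L i) (ClSub.idealMod (Γ i).ι.ker)) (i j : Fin n)
    (hij : i ≠ j) :
    0 ≤ ArSurf.inter R (Over.mk p) (L j) (Γ i) ∧
      (ArSurf.inter R (Over.mk p) (L j) (Γ i) = 0 ↔
        Disjoint (Set.range ((Γ i).ι.base : (Γ i).curve.left → X))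
          (Set.range ((Γ j).ι.base : (Γ j).curve.left → X))) := by
  haveI : IsProper (Over.mk p).hom := ‹IsProper p›
  haveI : IsProper ((Γ i).curve.left ↘ Spec (CommRingCat.of (IsLocalRing.ResidueField R))) :=
    isProper_vertComp R (Over.mk p) (Γ i)
  have hLi : PicF.IsInvertible (L j) := by
    obtain ⟨e⟩ := hL j
    exact InvTensH8.isInvertible_of_tensor_iso e
  have hIi : PicF.IsInvertible (ClSub.idealMod (Γ j).ι.ker) := by
    obtain ⟨e⟩ := hL j
    exact InvTensH8.isInvertible_of_tensor_iso (comm _ _ ≪≫ e)
  have hD : BlowUp.IsEffCartierIdeal (Γ j).ι.ker :=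
    isEffCartierIdeal_of_isInvertible_idealMod _ hIi
  have hsupp := support_ker_vertComp R (Over.mk p) (Γ j)
  have hξ : (Γ i).ι.base (genericPoint (Γ i).curve.left) ∉
      ((Γ j).ι.ker.support : Set (Over.mk p).left) := by
    rw [hsupp]
    exact genericPoint_notMem_of_ne R (Over.mk p) Γ hΓ hij
  rw [inter_eq_deg R (Over.mk p) (Γ i) (L j) hLi]
  have key := deg_pullback_effCartier (IsLocalRing.ResidueField R) (Γ i).curve.left
    (Γ i).dim_eq (Γ i).ι (Γ j).ι.ker hD hξ (L j) (hL j)
  rw [hsupp] at key
  exact key

end ArS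

end Snap9
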