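import Mathlib
import Groth.Prelude
import Groth.Agent.Lib.Snap70_helper9
import Groth.Agent.Lib.ConormSeq1_helper4
import Groth.Agent.Lib.ClPush1_helper8
import Groth.Agent.Lib.PushEdgeNat_helper9
import Groth.Agent.Lib.HypSurf_helper9
import Groth.Agent.Lib.ThickSq1_helper2

/-!
# The intersection number of an effective Cartier divisor with a vertical prime divisor as the
length of the scheme-theoretic intersection (helper9)

APPEND-ONLY once landed.
-/

set_option autoImplicit false
universe u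
open CategoryTheory CategoryTheory.Limits AlgebraicGeometry Opposite TopologicalSpace
open TensorProduct MonoidalCategory

namespace Snap9

open QcqsLoc QCohExtn SerreCrit GenLocH8 TensH8 Groth.Agent.TensInv FLFH8

section ClImm

variable {Z X : Scheme.{u}} (i : Z ⟶ X)

theorem affine_basis (O : X.Opens) (x : X) (hx : x ∈ O) :
    ∃ W : X.Opens, IsAffineOpen W ∧ x ∈ W ∧ W ≤ O := by
  obtain ⟨_, ⟨W, hW : IsAffineOpen W, rfl⟩, hxW, hle⟩ :=
    X.isBasis_affineOpens.exists_subset_of_mem_open hx O.isOpen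
  exact ⟨W, hW, hxW, hle⟩

theorem ap_unitToPush (W : X.Opens) (a : Γ(X, W)) :
    ap (ClSub.unitToPush i) W (ofFn a) = (i.app W).hom a := rfl

variable [IsClosedImmersion i]

/-- the ideal of `i` maps to zero in `i_* O_Z` -/
theorem idealModι_unitToPush : ClSub.idealModι i.ker ≫ ClSub.unitToPush i = 0 := by
  refine Groth.Agent.Lib.ConormSeqH4.hom_eq_zero_of_basis IsAffineOpen affine_basis _ ?_
  intro W hW s
  have h1 := TensH8.idealModι_mem i.ker hW s
  rw [Scheme.Hom.ker_apply, RingHom.mem_ker] at h1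
  exact h1

/-- `unitToPush` of a closed immersion is an epimorphism -/
theorem epi_unitToPush : Epi (ClSub.unitToPush i) := by
  apply TensH8.epi_of_locally_surjective
  intro U m x hx
  obtain ⟨W, hW, hxW, hle⟩ := affine_basis U x hx
  refine ⟨W, hle, hxW, ?_⟩
  obtain ⟨z, hz⟩ := i.app_surjective W hW (rF ((Scheme.Modules.pushforward i).obj
    (Coh.structureModule Z)) hle m)
  exact ⟨z, hz⟩

/-- the sequence `0 → I_Z → O_X → i_* O_Z → 0` of a closed immersion -/
noncomputable def sesCl : ShortComplex X.Modules :=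
  ShortComplex.mk (ClSub.idealModι i.ker) (ClSub.unitToPush i) (idealModι_unitToPush i)

theorem sesCl_shortExact : (sesCl i).ShortExact := by
  haveI : Mono (sesCl i).f := inferInstanceAs (Mono (kernel.ι (ClSub.toSubscheme i.ker)))
  haveI : Epi (sesCl i).g := epi_unitToPush i
  refine ShortComplex.ShortExact.mk ?_
  refine Groth.Agent.Lib.ConormSeqH4.exact_of_basis IsAffineOpen affine_basis _ _ _ ?_
  intro W hW m hm
  have h1 : toFn m ∈ i.ker.ideal ⟨W, hW⟩ := by
    rw [Scheme.Hom.ker_apply, RingHom.mem_ker]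
    exact hm
  obtain ⟨t, ht⟩ := TensH8.exists_idealMod_section i.ker hW (toFn m) h1
  exact ⟨t, ht⟩

end ClImm

section Inter

variable {X : Scheme.{u}}

theorem idealModι_toSubscheme_of_le {K K' : X.IdealSheafData} (h : K ≤ K') :
    ClSub.idealModι K ≫ ClSub.toSubscheme K' = 0 := by
  refine Groth.Agent.Lib.ConormSeqH4.hom_eq_zero_of_basis IsAffineOpen affine_basis _ ?_
  intro W hW s
  have h1 := TensH8.idealModι_mem K hW s
  have h2 : toFn (ap (ClSub.idealModι K) W s) ∈ K'.ideal ⟨W, hW⟩ := h ⟨W, hW⟩ h1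
  rw [← K'.ker_subschemeι_app ⟨W, hW⟩, RingHom.mem_ker] at h2
  exact h2

variable {Z : Scheme.{u}} (i : Z ⟶ X) [IsClosedImmersion i] (D : X.IdealSheafData)

/-- `i_* O_Z ⟶ O_X / (D + I_Z)` -/
noncomputable def toInter :
    (Scheme.Modules.pushforward i).obj (Coh.structureModule Z) ⟶ ClSub.quotMod (D ⊔ i.ker) :=
  (sesCl_shortExact i).gIsCokernel.desc (CokernelCofork.ofπ (ClSub.toSubscheme (D ⊔ i.ker))
    (idealModι_toSubscheme_of_le le_sup_right))

theorem unitToPush_toInter :
    ClSub.unitToPush i ≫ toInter i D = ClSub.toSubscheme (D ⊔ i.ker) :=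
  (sesCl_shortExact i).gIsCokernel.fac _ WalkingParallelPair.one

theorem epi_toInter : Epi (toInter i D) := by
  haveI : Epi (ClSub.unitToPush i ≫ toInter i D) := by
    rw [unitToPush_toInter]
    exact Groth.Agent.HypSurf.epi_toSubscheme _
  exact epi_of_epi (ClSub.unitToPush i) (toInter i D)

/-- `I_D ⟶ O_X ⟶ i_* O_Z` -/
noncomputable def idealToPush :
    ClSub.idealMod D ⟶ (Scheme.Modules.pushforward i).obj (Coh.structureModule Z) :=
  ClSub.idealModι D ≫ ClSub.unitToPush i

theorem idealToPush_toInter : idealToPush i D ≫ toInter i D = 0 := by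
  rw [idealToPush, Category.assoc, unitToPush_toInter]
  exact idealModι_toSubscheme_of_le le_sup_left

theorem exact_inter :
    (ShortComplex.mk (idealToPush i D) (toInter i D) (idealToPush_toInter i D)).Exact := by
  refine Groth.Agent.Lib.ConormSeqH4.exact_of_basis IsAffineOpen affine_basis _ _ _ ?_
  intro W hW m hm
  obtain ⟨a, ha⟩ := i.app_surjective W hW m
  have h1 : ap (ClSub.toSubscheme (D ⊔ i.ker)) W (ofFn a) = 0 := by
    rw [← unitToPush_toInter i D]
    show ap (toInter i D) W (ap (ClSub.unitToPush i) W (ofFn a)) = 0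
    rw [ap_unitToPush, ha]
    exact hm
  have h2 : a ∈ (D ⊔ i.ker).ideal ⟨W, hW⟩ := by
    rw [← (D ⊔ i.ker).ker_subschemeι_app ⟨W, hW⟩, RingHom.mem_ker]
    exact h1
  rw [Scheme.IdealSheafData.ideal_sup] at h2
  obtain ⟨d, hd, c, hc, hdc⟩ := Submodule.mem_sup.mp h2
  rw [Scheme.Hom.ker_apply, RingHom.mem_ker] at hc
  obtain ⟨t, ht⟩ := TensH8.exists_idealMod_section D hW d hd
  refine ⟨t, ?_⟩
  show ap (ClSub.unitToPush i) W (ap (ClSub.idealModι D) W t) = m
  have h3 : ap (ClSub.idealModι D) W t = ofFn d := ht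
  rw [h3, ap_unitToPush, ← ha, ← hdc, map_add, hc, add_zero]

/-- `coker (I_D ⟶ i_* O_Z) ≅ O_X / (D + I_Z)` -/
noncomputable def cokerIdealToPushIso : cokernel (idealToPush i D) ≅ ClSub.quotMod (D ⊔ i.ker) :=
  haveI := epi_toInter i D
  IsColimit.coconePointUniqueUpToIso (colimit.isColimit _) (exact_inter i D).gIsCokernel

end Inter

section UnitEpi

theorem surjective_of_isBaseChange {A B : Type u} [CommRing A] [CommRing B] [Algebra A B]
    {M N : Type u} [AddCommGroup M] [Module A M] [AddCommGroup N] [Module A N] [Module B N]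
    [IsScalarTower A B N] (hsurj : Function.Surjective (algebraMap A B))
    (f : M →ₗ[A] N) (hf : IsBaseChange B f) : Function.Surjective f := by
  intro n
  induction n using hf.inductionOn with
  | zero => exact ⟨0, map_zero _⟩
  | tmul m => exact ⟨m, rfl⟩
  | smul b n ih =>
    obtain ⟨m, rfl⟩ := ih
    obtain ⟨a, rfl⟩ := hsurj b
    exact ⟨a • m, by rw [map_smul, algebraMap_smul]⟩
  | add n₁ n₂ h₁ h₂ =>
    obtain ⟨m₁, rfl⟩ := h₁
    obtain ⟨m₂, rfl⟩ := h₂
    exact ⟨m₁ + m₂, map_add _ _ _⟩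

open PBH8

variable {Z X : Scheme.{u}} (i : Z ⟶ X) [IsClosedImmersion i] (F : X.Modules) [F.IsQuasicoherent]

theorem unit_app_surjective {V : X.Opens} (hV : IsAffineOpen V) :
    Function.Surjective
      (((Scheme.Modules.pullbackPushforwardAdjunction i).unit.app F).app V) := by
  have hU : IsAffineOpen (i ⁻¹ᵁ V) := hV.preimage i
  letI := (i.appLE V (i ⁻¹ᵁ V) (le_refl _)).hom.toAlgebra
  letI : Module Γ(X, V) Γ((Scheme.Modules.pullback i).obj F, i ⁻¹ᵁ V) :=
    Module.compHom _ (i.appLE V (i ⁻¹ᵁ V) (le_refl _)).hom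
  haveI : IsScalarTower Γ(X, V) Γ(Z, i ⁻¹ᵁ V) Γ((Scheme.Modules.pullback i).obj F, i ⁻¹ᵁ V) :=
    IsScalarTower.of_algebraMap_smul fun _ _ => rfl
  have bc := isBaseChange_cUV i F (le_refl (i ⁻¹ᵁ V)) hU hV
  have happ : i.appLE V (i ⁻¹ᵁ V) (le_refl _) = i.app V := i.appLE_eq_app
  have hsurj : Function.Surjective (algebraMap Γ(X, V) Γ(Z, i ⁻¹ᵁ V)) := by
    show Function.Surjective (i.appLE V (i ⁻¹ᵁ V) (le_refl _)).hom
    rw [happ]
    exact i.app_surjective V hV
  have hb := surjective_of_isBaseChange hsurj (cUVLin i F (le_refl (i ⁻¹ᵁ V))) bc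
  have heq : ⇑(cUVLin i F (le_refl (i ⁻¹ᵁ V))) =
      ⇑(((Scheme.Modules.pullbackPushforwardAdjunction i).unit.app F).app V) := by
    funext x
    exact ClPushH8.cUV_self i F V x
  rw [← heq]
  exact hb

theorem epi_unit : Epi ((Scheme.Modules.pullbackPushforwardAdjunction i).unit.app F) :=
  Groth.Agent.Lib.OmegaCompat2H4.epi_of_surjective_basis _ IsAffineOpen affine_basis
    (fun _ hW => unit_app_surjective i F hW)

end UnitEpi

section Assemble

variable {Z X : Scheme.{u}} (i : Z ⟶ X) [IsClosedImmersion i] (D : X.IdealSheafData)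

/-- the restriction `i^* I_D ⟶ O_Z` of the inclusion of the ideal -/
noncomputable def idealRes :
    (Scheme.Modules.pullback i).obj (ClSub.idealMod D) ⟶ Coh.structureModule Z :=
  ((Scheme.Modules.pullbackPushforwardAdjunction i).homEquiv _ _).symm (idealToPush i D)

theorem unit_push_idealRes :
    (Scheme.Modules.pullbackPushforwardAdjunction i).unit.app (ClSub.idealMod D) ≫
      (Scheme.Modules.pushforward i).map (idealRes i D) = idealToPush i D := by
  have h1 := Equiv.apply_symm_apply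
    ((Scheme.Modules.pullbackPushforwardAdjunction i).homEquiv (ClSub.idealMod D)
      (Coh.structureModule Z)) (idealToPush i D)
  rw [Adjunction.homEquiv_unit] at h1
  exact h1

/-- `i_* (O_Z / I_D O_Z) ≅ O_X / (D + I_Z)` -/
noncomputable def pushCokerIdealResIso [(ClSub.idealMod D).IsQuasicoherent] :
    (Scheme.Modules.pushforward i).obj (cokernel (idealRes i D)) ≅ ClSub.quotMod (D ⊔ i.ker) :=
  haveI := epi_unit i (ClSub.idealMod D)
  PreservesCokernel.iso (Scheme.Modules.pushforward i) (idealRes i D) ≪≫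
    (cokernelEpiComp ((Scheme.Modules.pullbackPushforwardAdjunction i).unit.app (ClSub.idealMod D))
      ((Scheme.Modules.pushforward i).map (idealRes i D))).symm ≪≫
    cokernelIsoOfEq (unit_push_idealRes i D) ≪≫ cokerIdealToPushIso i D

/-- the restricted ideal is nonzero if some point of `Z` lies outside the support of `D` -/
theorem idealRes_ne_zero (z : Z) (hz : i.base z ∉ (D.support : Set X)) : idealRes i D ≠ 0 := by
  intro h0
  have h1 : idealToPush i D = 0 := by
    rw [← unit_push_idealRes i D, h0, Functor.map_zero, comp_zero]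
  obtain ⟨W, hW, hxW, -⟩ := affine_basis (⊤ : X.Opens) (i.base z) trivial
  have h2 : i.base z ∉ X.zeroLocus (U := W) (D.ideal ⟨W, hW⟩) := fun h =>
    hz ((Scheme.IdealSheafData.mem_support_iff_of_mem (I := D) (U := ⟨W, hW⟩) hxW).mpr h)
  rw [Scheme.mem_zeroLocus_iff] at h2
  push Not at h2
  obtain ⟨f, hf, hzf⟩ := h2
  obtain ⟨t, ht⟩ := TensH8.exists_idealMod_section D hW f hf
  have h3 : ap (idealToPush i D) W t = (i.app W).hom f := by
    show ap (ClSub.unitToPush i) W (ap (ClSub.idealModι D) W t) = _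
    have h4 : ap (ClSub.idealModι D) W t = ofFn f := ht
    rw [h4, ap_unitToPush]
  have h5 : (i.app W).hom f = 0 := by
    rw [← h3, h1]
    rfl
  have h6 : z ∈ i ⁻¹ᵁ X.basicOpen f := hzf
  rw [Scheme.preimage_basicOpen] at h6
  have h7 : (i.app W) f = 0 := h5
  rw [h7, Scheme.basicOpen_zero] at h6
  exact h6

end Assemble

section Coho

variable {A k : Type u} [CommRing A] [Field k] (φ : A →+* k) (hφ : Function.Surjective φ)
  {Z X : Scheme.{u}} [X.Over (Spec (CommRingCat.of A))] [Z.Over (Spec (CommRingCat.of k))]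
  (i : Z ⟶ X) [IsAffineHom i]
  (hi : i ≫ (X ↘ Spec (CommRingCat.of A)) =
    (Z ↘ Spec (CommRingCat.of k)) ≫ Spec.map (CommRingCat.ofHom φ))

include hφ hi in
/-- the dimension over the residue field of the cohomology on the closed fibre is the length
of the cohomology of the direct image -/
theorem finrank_eq_length_push (G : Z.Modules) [G.IsQuasicoherent] (p : ℕ)
    [Module.Finite k (Coh.HH Z G p)] :
    Module.length A (Coh.HH X ((Scheme.Modules.pushforward i).obj G) p) =
      (Module.finrank k (Coh.HH Z G p) : ℕ∞) := by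
  letI instA : Z.Over (Spec (CommRingCat.of A)) :=
    ⟨(Z ↘ Spec (CommRingCat.of k)) ≫ Spec.map (CommRingCat.ofHom φ)⟩
  have hf : i ≫ (X ↘ Spec (CommRingCat.of A)) = (Z ↘ Spec (CommRingCat.of A)) := hi
  rw [(Groth.Agent.PushEdgeNat.pushEdgeEquiv i hf G p).length_eq]
  letI := φ.toAlgebra
  haveI : IsScalarTower A k (Coh.HH Z G p) := by
    refine IsScalarTower.of_algebraMap_smul (fun a m => ?_)
    show Coh.toGlobal (Z ↘ Spec (CommRingCat.of k)) (φ a) • m =
      Coh.toGlobal ((Z ↘ Spec (CommRingCat.of k)) ≫ Spec.map (CommRingCat.ofHom φ)) a • m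
    rw [Groth.Agent.Lib.ThickH2.toGlobal_of_comp]
  rw [Module.length_eq_of_surjective (S := A) (R := k) (M := Coh.HH Z G p) hφ]
  exact Module.length_eq_finrank k _

end Coho

section Main

variable (R : Type u) [CommRing R] [IsDomain R] [IsDiscreteValuationRing R]

/-- the intersection number of an effective Cartier divisor with a vertical prime divisor not
contained in it is the length of the scheme-theoretic intersection -/
theorem inter_eq_lengthH (X : Over (Spec (CommRingCat.of R))) [IsProper X.hom]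
    (Γ : ArSurf.VertComp R X) (D : X.left.IdealSheafData) (hD : BlowUp.IsEffCartierIdeal D)
    (hΓD : Γ.ι.base (genericPoint Γ.curve.left) ∉ (D.support : Set X.left))
    (L : X.left.Modules) (hL : ClSub.IsInverseOf L (ClSub.idealMod D)) :
    ArSurf.inter R X L Γ = (Models.lengthH R X (ClSub.quotMod (D ⊔ Γ.ι.ker)) 0 : ℤ) := by
  haveI : IsProper (Γ.curve.left ↘ Spec (CommRingCat.of (IsLocalRing.ResidueField R))) :=
    isProper_vertComp R X Γ
  haveI : IsLocallyNoetherian Γ.curve.left :=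
    LocallyOfFiniteType.isLocallyNoetherian
      (Γ.curve.left ↘ Spec (CommRingCat.of (IsLocalRing.ResidueField R)))
  have hLi : PicF.IsInvertible L := by
    obtain ⟨e⟩ := hL
    exact InvTensH8.isInvertible_of_tensor_iso e
  have hIi : PicF.IsInvertible (ClSub.idealMod D) :=
    TensH8.isInvertible_idealMod_of_isEffCartierIdeal D hD
  haveI : (ClSub.idealMod D).IsQuasicoherent := (ProperFinH9.isCoh_of_isInvertible hIi).1
  have hN : PicF.IsInvertible ((Scheme.Modules.pullback Γ.ι).obj (ClSub.idealMod D)) :=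
    TensH8.isInvertible_pullback Γ.ι hIi
  have hO : PicF.IsInvertible (Coh.structureModule Γ.curve.left) :=
    TensH8.isInvertible_structureModule
  rw [inter_eq_deg R X Γ L hLi]
  have h1 := deg_pullback_inverse (IsLocalRing.ResidueField R) Γ.curve.left Γ.dim_eq.le Γ.ι L
    (ClSub.idealMod D) hL
  have h2 := CurveDeg.euler_eq_add (IsLocalRing.ResidueField R) Γ.curve.left Γ.dim_eq.le hN hO
    (idealRes Γ.ι D) (idealRes_ne_zero Γ.ι D _ hΓD)
  have h3 : Curv2.deg (IsLocalRing.ResidueField R) Γ.curve.left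
      ((Scheme.Modules.pullback Γ.ι).obj (ClSub.idealMod D)) 1 =
      Curv2.euler (IsLocalRing.ResidueField R) Γ.curve.left
        ((Scheme.Modules.pullback Γ.ι).obj (ClSub.idealMod D)) -
      Curv2.euler (IsLocalRing.ResidueField R) Γ.curve.left
        (Coh.structureModule Γ.curve.left) := by
    unfold Curv2.deg
    simp
  have hQc : Coh.IsCoh (cokernel (idealRes Γ.ι D)) :=
    CohKerH8.isCoh_cokernel (ProperFinH9.isCoh_of_isInvertible hN)
      (ProperFinH9.isCoh_of_isInvertible hO) _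
  haveI := hQc.1
  haveI := ProperFinH9.finite_HH_of_proper (IsLocalRing.ResidueField R) Γ.curve.left _ hQc 0
  have h4 := finrank_eq_length_push (IsLocalRing.residue R) Ideal.Quotient.mk_surjective Γ.ι Γ.w
    (cokernel (idealRes Γ.ι D)) 0
  have h5 := (Groth.Agent.HypConn.hhEquivOfIso (A := R) (pushCokerIdealResIso Γ.ι D) 0).length_eq
  have h6 : Models.lengthH R X (ClSub.quotMod (D ⊔ Γ.ι.ker)) 0 =
      Module.finrank (IsLocalRing.ResidueField R)
        (Coh.HH Γ.curve.left (cokernel (idealRes Γ.ι D)) 0) := by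
    unfold Models.lengthH
    rw [← h5, h4]
    rfl
  rw [h6]
  linarith

/-- **S7926** -/
theorem main7926 (X : Over (Spec (CommRingCat.of R))) (hX : ArSurf.IsArithSurface R X)
    (Γ : ArSurf.VertComp R X)
    (D : X.left.IdealSheafData) (hD : FGA.IsEffCartier D)
    (hΓD : Γ.ι.base (genericPoint Γ.curve.left) ∉ (D.support : Set X.left))
    (L : X.left.Modules) (hL : ClSub.IsInverseOf L (ClSub.idealMod D)) :
    ArSurf.inter R X L Γ = (Models.lengthH R X (ClSub.quotMod (D ⊔ Γ.ι.ker)) 0 : ℤ) := by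
  haveI := isProper_of_isArithSurface R X hX
  exact inter_eq_lengthH R X Γ D (fun x => hD x) hΓD L hL

/-- the generic point of a vertical prime divisor does not lie on a different one -/
theorem genericPoint_notMem_range_of_ne (X : Over (Spec (CommRingCat.of R)))
    (Γ₁ Γ₂ : ArSurf.VertComp R X) (hne : Set.range Γ₁.ι.base ≠ Set.range Γ₂.ι.base) :
    Γ₁.ι.base (genericPoint Γ₁.curve.left) ∉ Set.range Γ₂.ι.base := by
  intro hmem
  have hsub : Set.range Γ₁.ι.base ⊆ Set.range Γ₂.ι.base := by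
    rw [range_vertComp_eq_closure R X Γ₁]
    exact Γ₂.ι.isClosedEmbedding.isClosed_range.closure_subset_iff.mpr
      (Set.singleton_subset_iff.mpr hmem)
  have hj : IsIrreducible (Set.range Γ₂.ι.base) := by
    rw [← Set.image_univ]
    exact (IrreducibleSpace.isIrreducible_univ _).image _ Γ₂.ι.continuous.continuousOn
  have h1 := Groth.Agent.Lib.ConnDim.dim_add_one_le _ _ hsub hne
    Γ₁.ι.isClosedEmbedding.isClosed_range hj
  have hd : ∀ Γ : ArSurf.VertComp R X, topologicalKrullDim ↥(Set.range Γ.ι.base) = 1 := by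
    intro Γ
    rw [← Γ.dim_eq]
    exact (IsHomeomorph.topologicalKrullDim_eq _
      (Γ.ι.isClosedEmbedding.toIsEmbedding.toHomeomorph).isHomeomorph).symm
  rw [hd, hd] at h1
  have h2 : ((1 : ℕ∞) : WithBot ℕ∞) + ((1 : ℕ∞) : WithBot ℕ∞) ≤ ((1 : ℕ∞) : WithBot ℕ∞) := h1
  rw [← WithBot.coe_add, WithBot.coe_le_coe] at h2
  exact absurd h2 (by decide)

/-- symmetry of the intersection number of two vertical prime divisors with invertible ideals -/
theorem inter_symm (X : Over (Spec (CommRingCat.of R))) [IsProper X.hom]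
    (Γ₁ Γ₂ : ArSurf.VertComp R X)
    (hne : Set.range Γ₁.ι.base ≠ Set.range Γ₂.ι.base)
    (L₁ L₂ : X.left.Modules) (h₁ : ClSub.IsInverseOf L₁ (ClSub.idealMod Γ₁.ι.ker))
    (h₂ : ClSub.IsInverseOf L₂ (ClSub.idealMod Γ₂.ι.ker)) :
    ArSurf.inter R X L₂ Γ₁ = ArSurf.inter R X L₁ Γ₂ := by
  have hI : ∀ (Γ : ArSurf.VertComp R X) (L : X.left.Modules),
      ClSub.IsInverseOf L (ClSub.idealMod Γ.ι.ker) → BlowUp.IsEffCartierIdeal Γ.ι.ker := by
    intro Γ L h
    obtain ⟨e⟩ := h
    exact isEffCartierIdeal_of_isInvertible_idealMod _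
      (InvTensH8.isInvertible_of_tensor_iso (comm _ _ ≪≫ e))
  have hξ₁ : Γ₁.ι.base (genericPoint Γ₁.curve.left) ∉ (Γ₂.ι.ker.support : Set X.left) := by
    rw [support_ker_vertComp R X Γ₂]
    exact genericPoint_notMem_range_of_ne R X Γ₁ Γ₂ hne
  have hξ₂ : Γ₂.ι.base (genericPoint Γ₂.curve.left) ∉ (Γ₁.ι.ker.support : Set X.left) := by
    rw [support_ker_vertComp R X Γ₁]
    exact genericPoint_notMem_range_of_ne R X Γ₂ Γ₁ hne.symm
  rw [inter_eq_lengthH R X Γ₁ Γ₂.ι.ker (hI Γ₂ L₂ h₂) hξ₁ L₂ h₂,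
    inter_eq_lengthH R X Γ₂ Γ₁.ι.ker (hI Γ₁ L₁ h₁) hξ₂ L₁ h₁, sup_comm]

/-- **S8730** -/
theorem main8730 (X : Over (Spec (CommRingCat.of R))) (hX : ArSurf.IsArithSurface R X)
    (Γ₁ Γ₂ : ArSurf.VertComp R X)
    (hne : Set.range Γ₁.ι.base ≠ Set.range Γ₂.ι.base)
    (L₁ L₂ : X.left.Modules) (h₁ : ClSub.IsInverseOf L₁ (ClSub.idealMod Γ₁.ι.ker))
    (h₂ : ClSub.IsInverseOf L₂ (ClSub.idealMod Γ₂.ι.ker)) :
    ArSurf.inter R X L₂ Γ₁ = ArSurf.inter R X L₁ Γ₂ := by
  haveI := isProper_of_isArithSurface R X hX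
  exact inter_symm R X Γ₁ Γ₂ hne L₁ L₂ h₁ h₂

/-- **S3316** -/
theorem main3316 (X : Scheme.{u}) (p : X ⟶ Spec (CommRingCat.of R)) [IsProper p]
    {n : ℕ} (Γ : Fin n → ArSurf.VertComp R (Over.mk p))
    (hΓ : Models.IsComponentList R (Over.mk p) Γ)
    (L : Fin n → X.Modules)
    (hL : ∀ i, ClSub.IsInverseOf (L i) (ClSub.idealMod (Γ i).ι.ker)) (i j : Fin n) :
    ArSurf.inter R (Over.mk p) (L j) (Γ i) = ArSurf.inter R (Over.mk p) (L i) (Γ j) := by
  haveI : IsProper (Over.mk p).hom := ‹IsProper p›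
  by_cases hij : i = j
  · subst hij; rfl
  · exact inter_symm R (Over.mk p) (Γ i) (Γ j) (fun h => hij (hΓ.1 h)) (L i) (L j) (hL i) (hL j)

end Main

end Snap9
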