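import Mathlib
import Groth.Prelude
import Groth.Agent.Lib.Snap2_helper9
import Groth.Agent.S2420

/-!
# Snapper vanishing for an abstract additive Euler characteristic (helper9)

`Snap9.altSumG_eq_zero`: on a Noetherian scheme, for a function `χ` on modules which is invariant
under isomorphism, additive in short exact sequences of coherent modules and zero on modules with
empty support, the alternating sums `Σ_I (-1)^{|I|} χ(G ⊗ ⊗_{i ∈ I} M_i)` vanish once the support
of the coherent `G` has dimension `<` the number of invertible modules `M_i`.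
(Same proof as `Snap9.altSum_eq_zero`, which is the case of `χ` over a field.)

APPEND-ONLY once landed.
-/

set_option autoImplicit false
universe u
open CategoryTheory CategoryTheory.Limits AlgebraicGeometry Opposite TopologicalSpace

namespace Snap9

open Groth.Agent.Lib.GVanH2 Groth.Agent.TensInv QcqsLoc

section Abstract

variable {X : Scheme.{u}} (χ : X.Modules → ℤ)

/-- `χ` behaves like an Euler characteristic on coherent modules -/
structure IsEulerLike : Prop where
  iso : ∀ {A B : X.Modules}, (A ≅ B) → χ A = χ B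
  add : ∀ (S : ShortComplex X.Modules), S.ShortExact → Coh.IsCoh S.X₁ → Coh.IsCoh S.X₂ →
    Coh.IsCoh S.X₃ → χ S.X₂ = χ S.X₁ + χ S.X₃
  zero : ∀ (G : X.Modules), Coh.IsCoh G → ∀ T : Closeds X, CohB1.support G ⊆ (T : Set X) →
    dimC (X := X.toTopCat) T < ((0 : ℕ) : WithBot ℕ∞) → χ G = 0

/-- the alternating sum `Σ_{I ⊆ l} (-1)^{|I|} χ(G ⊗ ⊗_{M ∈ I} M)` -/
noncomputable def altSumG : List X.Modules → X.Modules → ℤ
  | [], G => χ G
  | M :: l, G => altSumG l G - altSumG l (CohB1.tensorMod G M)

@[simp] theorem altSumG_nil (G : X.Modules) : altSumG χ [] G = χ G := rfl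

@[simp] theorem altSumG_cons (M : X.Modules) (l : List X.Modules) (G : X.Modules) :
    altSumG χ (M :: l) G = altSumG χ l G - altSumG χ l (CohB1.tensorMod G M) := rfl

variable (hχ : IsEulerLike χ)

include hχ

theorem altSumG_of_iso (l : List X.Modules) {A B : X.Modules} (e : A ≅ B) :
    altSumG χ l A = altSumG χ l B := by
  induction l generalizing A B with
  | nil => exact hχ.iso e
  | cons M l ih =>
    rw [altSumG_cons, altSumG_cons, ih e, ih (mapR e M)]

/-- additivity of the alternating sums in short exact sequences of coherent modules -/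
theorem altSumG_additive [IsLocallyNoetherian X] (l : List X.Modules)
    (hl : ∀ M ∈ l, PicF.IsInvertible M)
    (S : ShortComplex X.Modules) (hS : S.ShortExact)
    (h₁ : Coh.IsCoh S.X₁) (h₂ : Coh.IsCoh S.X₂) (h₃ : Coh.IsCoh S.X₃) :
    altSumG χ l S.X₂ = altSumG χ l S.X₁ + altSumG χ l S.X₃ := by
  induction l generalizing S with
  | nil => exact hχ.add S hS h₁ h₂ h₃
  | cons M l ih =>
    have hM : PicF.IsInvertible M := hl M (List.mem_cons_self)
    have hl' : ∀ N ∈ l, PicF.IsInvertible N := fun N hN => hl N (List.mem_cons_of_mem _ hN)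
    have e1 := ih hl' S hS h₁ h₂ h₃
    have e2 := ih hl' (S.map (tR M)) (CurveTens.shortExact_tR hM S hS)
      (isCoh_tensorMod h₁ hM) (isCoh_tensorMod h₂ hM) (isCoh_tensorMod h₃ hM)
    have e2' : altSumG χ l (CohB1.tensorMod S.X₂ M) =
        altSumG χ l (CohB1.tensorMod S.X₁ M) + altSumG χ l (CohB1.tensorMod S.X₃ M) := e2
    rw [altSumG_cons, altSumG_cons, altSumG_cons, e1, e2']
    ring

variable [IsNoetherian X]

theorem exists_common_sub_pushG {Z : Scheme.{u}} (i : Z ⟶ X) [IsClosedImmersion i] [IsIntegral Z]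
    {M : X.Modules} (hM : PicF.IsInvertible M) :
    ∃ (F' Q₁ Q₂ : X.Modules) (T : Closeds X), Coh.IsCoh F' ∧ Coh.IsCoh Q₁ ∧ Coh.IsCoh Q₂ ∧
      (T : Set X) ⊆ Set.range i ∧ (T : Set X) ≠ Set.range i ∧
      CohB1.support Q₁ ⊆ (T : Set X) ∧ CohB1.support Q₂ ⊆ (T : Set X) ∧
      ∀ (l : List X.Modules), (∀ N ∈ l, PicF.IsInvertible N) →
        altSumG χ l ((Scheme.Modules.pushforward i).obj (Coh.structureModule Z)) =
          altSumG χ l F' + altSumG χ l Q₁ ∧
        altSumG χ l (CohB1.tensorMod
            ((Scheme.Modules.pushforward i).obj (Coh.structureModule Z)) M) =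
          altSumG χ l F' + altSumG χ l Q₂ := by
  haveI : IsLocallyNoetherian Z := LocallyOfFiniteType.isLocallyNoetherian i
  haveI : CompactSpace Z := QuasiCompact.compactSpace_of_compactSpace i
  haveI : IsNoetherian Z := {}
  have hMZ := TensH8.isInvertible_pullback i hM
  obtain ⟨F', q₁, q₂, U, hm₁, hm₂, hFc, hU, hs₁, hs₂⟩ :=
    CurveTens.exists_common_sub (X := Z) hMZ
  have hOc := CohDevH8.isCoh_structureModule Z
  have hMc := ProperFinH9.isCoh_of_isInvertible hMZ
  have hC₁ := CohKerH8.isCoh_cokernel hFc hOc q₁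
  have hC₂ := CohKerH8.isCoh_cokernel hFc hMc q₂
  let T : Closeds X :=
    ⟨i '' (U : Set Z)ᶜ, i.isClosedEmbedding.isClosedMap _ U.isOpen.isClosed_compl⟩
  have hE' : FlatMod.IsFinLocFree M :=
    FLFH8.IsFinLocFreeOfRank.isFinLocFree _ (FLFH8.finLocFreeOfRank_one_of_isInvertible hM)
  let φ : (Scheme.Modules.pushforward i).obj ((Scheme.Modules.pullback i).obj M) ≅
      CohB1.tensorMod ((Scheme.Modules.pushforward i).obj (Coh.structureModule Z)) M :=
    (Scheme.Modules.pushforward i).mapIso (rightUnit ((Scheme.Modules.pullback i).obj M)).symm ≪≫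
      ((PFormH9.projIso i M hE').app (Coh.structureModule Z)).symm ≪≫
      comm M ((Scheme.Modules.pushforward i).obj (Coh.structureModule Z))
  refine ⟨(Scheme.Modules.pushforward i).obj F', (Scheme.Modules.pushforward i).obj (cokernel q₁),
    (Scheme.Modules.pushforward i).obj (cokernel q₂), T,
    CohDevH8.isCoh_pushforward_of_isFinite i hFc, CohDevH8.isCoh_pushforward_of_isFinite i hC₁,
    CohDevH8.isCoh_pushforward_of_isFinite i hC₂, ?_, ?_, ?_, ?_, ?_⟩
  · rintro _ ⟨z, -, rfl⟩
    exact ⟨z, rfl⟩
  · intro h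
    obtain ⟨z, hz⟩ := hU
    have h1 : i z ∈ (T : Set X) := by
      rw [h]
      exact ⟨z, rfl⟩
    obtain ⟨z', hz', hzz'⟩ := h1
    rw [i.isClosedEmbedding.injective hzz'] at hz'
    exact hz' hz
  · exact (support_pushforward_subset i _).trans (Set.image_mono hs₁)
  · exact (support_pushforward_subset i _).trans (Set.image_mono hs₂)
  · intro l hl
    haveI := hm₁
    haveI := hm₂
    constructor
    · exact altSumG_additive χ hχ l hl _ (shortExact_push i _ (shortExact_cokernel q₁))
        (CohDevH8.isCoh_pushforward_of_isFinite i hFc)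
        (CohDevH8.isCoh_pushforward_of_isFinite i hOc)
        (CohDevH8.isCoh_pushforward_of_isFinite i hC₁)
    · rw [← altSumG_of_iso χ hχ l φ]
      exact altSumG_additive χ hχ l hl _ (shortExact_push i _ (shortExact_cokernel q₂))
        (CohDevH8.isCoh_pushforward_of_isFinite i hFc)
        (CohDevH8.isCoh_pushforward_of_isFinite i hMc)
        (CohDevH8.isCoh_pushforward_of_isFinite i hC₂)


/-- **Vanishing of the alternating sums above the dimension of the support.** -/
theorem altSumG_eq_zero (l : List X.Modules) (hl : ∀ M ∈ l, PicF.IsInvertible M) :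
    ∀ (G : X.Modules), Coh.IsCoh G → ∀ T : Closeds X, CohB1.support G ⊆ (T : Set X) →
      dimC (X := X.toTopCat) T < (l.length : WithBot ℕ∞) → altSumG χ l G = 0 := by
  induction l with
  | nil =>
    intro G hG T hsupp hdim
    exact hχ.zero G hG T hsupp hdim
  | cons M l ih =>
    intro G hG T hsupp hdim
    have hM : PicF.IsInvertible M := hl M List.mem_cons_self
    have hl' : ∀ N ∈ l, PicF.IsInvertible N := fun N hN => hl N (List.mem_cons_of_mem _ hN)
    have ih' := ih hl'
    have hMq : M.IsQuasicoherent := (ProperFinH9.isCoh_of_isInvertible hM).1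
    rw [altSumG_cons, sub_eq_zero]
    rw [List.length_cons] at hdim
    by_cases hX : Nonempty X
    · have key : ∀ G : X.Modules, Coh.IsCoh G → ∀ T : Closeds X, CohB1.support G ⊆ (T : Set X) →
          dimC (X := X.toTopCat) T < ((l.length + 1 : ℕ) : WithBot ℕ∞) →
          altSumG χ l G = altSumG χ l (CohB1.tensorMod G M) := by
        intro G hG
        haveI := hX
        refine Groth.Agent.S0027.result X (fun G => ∀ T : Closeds X,
          CohB1.support G ⊆ (T : Set X) →
          dimC (X := X.toTopCat) T < ((l.length + 1 : ℕ) : WithBot ℕ∞) →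
          altSumG χ l G = altSumG χ l (CohB1.tensorMod G M)) ?_ ?_ ?_ G hG
        · rintro A B ⟨e⟩ hA T hT hd
          have h1 := hA T ((CohDevH8.support_subset_of_mono e.hom).trans hT) hd
          rw [← altSumG_of_iso χ hχ l e, ← altSumG_of_iso χ hχ l (mapR e M)]
          exact h1
        · intro S hS c₁ c₂ c₃ p₁ p₃ T hT hd
          haveI := hS.mono_f
          haveI := hS.epi_g
          haveI := c₂.1
          haveI := c₃.1
          have s₁ : CohB1.support S.X₁ ⊆ (T : Set X) :=
            (CohDevH8.support_subset_of_mono S.f).trans hT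
          have s₃ : CohB1.support S.X₃ ⊆ (T : Set X) :=
            (CohDevH8.support_subset_of_epi S.g).trans hT
          have e1 := altSumG_additive χ hχ l hl' S hS c₁ c₂ c₃
          have e2 := altSumG_additive χ hχ l hl' (S.map (tR M)) (CurveTens.shortExact_tR hM S hS)
            (isCoh_tensorMod c₁ hM) (isCoh_tensorMod c₂ hM) (isCoh_tensorMod c₃ hM)
          have e2' : altSumG χ l (CohB1.tensorMod S.X₂ M) =
            altSumG χ l (CohB1.tensorMod S.X₁ M) + altSumG χ l (CohB1.tensorMod S.X₃ M) := e2
          rw [e1, e2', p₁ T s₁ hd, p₃ T s₃ hd]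
        · intro Z i hi hZ I ι hι hI T hT hd
          haveI := hi
          haveI := hZ
          haveI := hι
          haveI : IsLocallyNoetherian Z := LocallyOfFiniteType.isLocallyNoetherian i
          haveI : CompactSpace Z := QuasiCompact.compactSpace_of_compactSpace i
          haveI : IsNoetherian Z := {}
          have hOc := CohDevH8.isCoh_structureModule Z
          have hIc : Coh.IsCoh I := CohDevH8.isCoh_of_mono ι hI hOc
          have hpI : Coh.IsCoh ((Scheme.Modules.pushforward i).obj I) :=
            CohDevH8.isCoh_pushforward_of_isFinite i hIc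
          have hpO : Coh.IsCoh ((Scheme.Modules.pushforward i).obj (Coh.structureModule Z)) :=
            CohDevH8.isCoh_pushforward_of_isFinite i hOc
          haveI := hpI.1
          show altSumG χ l ((Scheme.Modules.pushforward i).obj I) =
            altSumG χ l (CohB1.tensorMod ((Scheme.Modules.pushforward i).obj I) M)
          rcases ideal_case i I ι hI with h0 | ⟨T₀, hT₀r, hT₀ne, hsQ, hη⟩
          · have hs : CohB1.support ((Scheme.Modules.pushforward i).obj I) ⊆
                ((⊥ : Closeds X) : Set X) := by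
              refine (support_pushforward_subset i I).trans ?_
              rw [h0, Set.image_empty]
              exact fun _ h => h
            have hs' : CohB1.support (CohB1.tensorMod ((Scheme.Modules.pushforward i).obj I) M) ⊆
                ((⊥ : Closeds X) : Set X) :=
              (NodalG0.support_tensorMod_subset_left _ _).trans hs
            rw [ih' _ hpI ⊥ hs (dimC_bot_lt X _),
              ih' _ (isCoh_tensorMod hpI hM) ⊥ hs' (dimC_bot_lt X _)]
          · let R : Closeds X := ⟨Set.range i, i.isClosedEmbedding.isClosed_range⟩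
            have hRirr : IsIrreducible (R : Set X) := by
              have h1 := (IrreducibleSpace.isIrreducible_univ Z).image i i.continuous.continuousOn
              rwa [Set.image_univ] at h1
            have hRT : R ≤ T := by
              rintro _ ⟨z, rfl⟩
              have h1 : i (genericPoint Z) ⤳ i z :=
                (genericPoint_specializes z).map i.continuous
              exact h1.mem_closed T.isClosed (hT hη)
            have hdR : dimC (X := X.toTopCat) R < ((l.length + 1 : ℕ) : WithBot ℕ∞) :=
              lt_of_le_of_lt (dimC_mono (X := X.toTopCat) hRT) hd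
            have hlt : ∀ T' : Closeds X, (T' : Set X) ⊆ Set.range i → (T' : Set X) ≠ Set.range i →
                dimC (X := X.toTopCat) T' < (l.length : WithBot ℕ∞) := by
              intro T' h1 h2
              have hlt' : T' < R :=
                lt_of_le_of_ne h1 (fun h => h2 (congrArg (fun c : Closeds X => (c : Set X)) h))
              exact dimC_lt_of_lt (X := X.toTopCat) hRirr hlt' l.length hdR
            have hdT₀ := hlt T₀ hT₀r hT₀ne
            have hQc : Coh.IsCoh ((Scheme.Modules.pushforward i).obj (cokernel ι)) :=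
              CohDevH8.isCoh_pushforward_of_isFinite i (CohKerH8.isCoh_cokernel hIc hOc ι)
            haveI := hQc.1
            have hS := shortExact_push i _ (shortExact_cokernel ι)
            have a1 := altSumG_additive χ hχ l hl' _ hS hpI hpO hQc
            have a2 := altSumG_additive χ hχ l hl' _ (CurveTens.shortExact_tR hM _ hS)
              (isCoh_tensorMod hpI hM) (isCoh_tensorMod hpO hM) (isCoh_tensorMod hQc hM)
            have a1' : altSumG χ l ((Scheme.Modules.pushforward i).obj (Coh.structureModule Z)) =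
              altSumG χ l ((Scheme.Modules.pushforward i).obj I) +
                altSumG χ l ((Scheme.Modules.pushforward i).obj (cokernel ι)) := a1
            have a2' : altSumG χ l (CohB1.tensorMod
                ((Scheme.Modules.pushforward i).obj (Coh.structureModule Z)) M) =
              altSumG χ l (CohB1.tensorMod ((Scheme.Modules.pushforward i).obj I) M) +
                altSumG χ l (CohB1.tensorMod
                  ((Scheme.Modules.pushforward i).obj (cokernel ι)) M) := a2
            have q1 := ih' _ hQc T₀ hsQ hdT₀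
            have q2 := ih' _ (isCoh_tensorMod hQc hM) T₀
              ((NodalG0.support_tensorMod_subset_left _ _).trans hsQ) hdT₀
            obtain ⟨F', Q₁, Q₂, T₁, hF', hQ₁, hQ₂, hT₁r, hT₁ne, hs₁, hs₂, hA⟩ :=
              exists_common_sub_pushG χ hχ i hM
            have hdT₁ := hlt T₁ hT₁r hT₁ne
            obtain ⟨b1, b2⟩ := hA l hl'
            have r1 := ih' Q₁ hQ₁ T₁ hs₁ hdT₁
            have r2 := ih' Q₂ hQ₂ T₁ hs₂ hdT₁
            linarith
      exact key G hG T hsupp hdim
    · have hE : IsEmpty X := not_nonempty_iff.mp hX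
      have h1 := ih' G hG ⊥ (fun x _ => (hE.false x).elim) (dimC_bot_lt X _)
      have h2 := ih' (CohB1.tensorMod G M) (isCoh_tensorMod hG hM) ⊥
        (fun x _ => (hE.false x).elim) (dimC_bot_lt X _)
      rw [h1, h2]


end Abstract

section Len

variable (A : Type u) [CommRing A] (X : Scheme.{u}) [X.Over (Spec (CommRingCat.of A))]

/-- the Euler characteristic with lengths over the base ring -/
noncomputable def eulerLen (F : X.Modules) : ℤ :=
  ∑ᶠ i : ℕ, (-1 : ℤ) ^ i * ((Module.length A (Coh.HH X F i)).toNat : ℤ)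

theorem eulerLen_eq_sum (N : ℕ) (F : X.Modules)
    (hN : ∀ p : ℕ, N < p → Subsingleton (Coh.HH X F p)) :
    eulerLen A X F =
      ∑ i ∈ Finset.range (N + 1), (-1 : ℤ) ^ i * ((Module.length A (Coh.HH X F i)).toNat : ℤ) := by
  unfold eulerLen
  apply finsum_eq_sum_of_support_subset
  intro i hi
  rw [Finset.coe_range, Set.mem_Iio]
  by_contra h
  haveI := hN i (by omega)
  apply hi
  show (-1 : ℤ) ^ i * ((Module.length A (Coh.HH X F i)).toNat : ℤ) = 0
  rw [Module.length_eq_zero]
  simp

variable [IsArtinianRing A] [IsProper (X ↘ Spec (CommRingCat.of A))]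

include A in
theorem isNoetherian_of_proper_artinian : IsNoetherian X := by
  haveI : IsLocallyNoetherian X :=
    LocallyOfFiniteType.isLocallyNoetherian (X ↘ Spec (CommRingCat.of A))
  haveI : CompactSpace X :=
    QuasiCompact.compactSpace_of_compactSpace (X ↘ Spec (CommRingCat.of A))
  exact {}

theorem isEulerLike_eulerLen : IsEulerLike (eulerLen A X) := by
  haveI : IsNoetherian X := isNoetherian_of_proper_artinian A X
  haveI : QuasiSeparatedSpace X :=
    quasiSeparatedSpace_of_quasiSeparated (X ↘ Spec (CommRingCat.of A))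
  refine ⟨?_, ?_, ?_⟩
  · intro F G e
    unfold eulerLen
    congr 1
    funext i
    rw [(Groth.Agent.HypConn.hhEquivOfIso (A := A) e i).length_eq]
  · intro S hS h₁ h₂ h₃
    obtain ⟨N, hN⟩ := AffVanish.exists_bound_HH X
    have hb : ∀ (M : X.Modules), M.IsQuasicoherent → ∀ p : ℕ, N < p →
        Subsingleton (Coh.HH X M p) := fun M hM p hp => hN M hM p hp.le
    rw [eulerLen_eq_sum A X N S.X₁ (hb _ h₁.1), eulerLen_eq_sum A X N S.X₂ (hb _ h₂.1),
      eulerLen_eq_sum A X N S.X₃ (hb _ h₃.1)]
    exact Groth.Agent.S2420.result A X S hS h₁ h₂ h₃ N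
      (fun i hi => ⟨hb _ h₁.1 i hi, hb _ h₂.1 i hi, hb _ h₃.1 i hi⟩)
  · intro G hG T hs hd
    unfold eulerLen
    apply finsum_eq_zero_of_forall_eq_zero
    intro p
    haveI := subsingleton_HH_of_dimC 0 T hd G hs p (Nat.zero_le p)
    rw [Module.length_eq_zero]
    simp

end Len

section Curve

variable (A : Type u) [CommRing A] [IsArtinianRing A] (X : Scheme.{u})
  [X.Over (Spec (CommRingCat.of A))] [IsProper (X ↘ Spec (CommRingCat.of A))]

theorem dimC_top_lt_two (hdim : topologicalKrullDim X ≤ 1) :
    dimC (X := X.toTopCat) (⊤ : Closeds X) < ((2 : ℕ) : WithBot ℕ∞) := by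
  have h1 : dimC (X := X.toTopCat) (⊤ : Closeds X) ≤ ((1 : ℕ) : WithBot ℕ∞) :=
    (dimC_top_le (X := X.toTopCat)).trans hdim
  refine lt_of_le_of_lt h1 ?_
  exact_mod_cast Nat.lt_succ_self 1

/-- on a curve the Euler characteristic is `length H⁰ - length H¹` -/
theorem eulerLen_eq_sub (hdim : topologicalKrullDim X ≤ 1) (F : X.Modules) :
    eulerLen A X F = ((Module.length A (Coh.HH X F 0)).toNat : ℤ) -
      ((Module.length A (Coh.HH X F 1)).toNat : ℤ) := by
  haveI : IsNoetherian X := isNoetherian_of_proper_artinian A X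
  rw [eulerLen_eq_sum A X 1 F (fun p hp =>
    subsingleton_HH_of_dimC 2 ⊤ (dimC_top_lt_two X hdim) F (fun _ _ => trivial) p hp)]
  rw [Finset.sum_range_succ, Finset.sum_range_one, pow_zero, pow_one, one_mul]
  ring

/-- bilinearity of the Euler characteristic in twists by invertible modules on a curve -/
theorem eulerLen_tensor_tensor (hdim : topologicalKrullDim X ≤ 1) (G : X.Modules)
    (hG : Coh.IsCoh G) {M₁ M₂ : X.Modules} (h₁ : PicF.IsInvertible M₁)
    (h₂ : PicF.IsInvertible M₂) :
    eulerLen A X (CohB1.tensorMod (CohB1.tensorMod G M₁) M₂) =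
      eulerLen A X (CohB1.tensorMod G M₁) + eulerLen A X (CohB1.tensorMod G M₂) -
        eulerLen A X G := by
  haveI : IsNoetherian X := isNoetherian_of_proper_artinian A X
  have hl : ∀ M ∈ [M₁, M₂], PicF.IsInvertible M := by
    intro M hM
    simp only [List.mem_cons, List.not_mem_nil, or_false] at hM
    rcases hM with rfl | rfl
    · exact h₁
    · exact h₂
  have h := altSumG_eq_zero (eulerLen A X) (isEulerLike_eulerLen A X) [M₁, M₂] hl G hG ⊤
    (fun _ _ => trivial) (dimC_top_lt_two X hdim)
  simp only [altSumG_cons, altSumG_nil] at h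
  linarith

/-- the degree with lengths -/
noncomputable def dLen (M : X.Modules) : ℤ := eulerLen A X M - eulerLen A X (Coh.structureModule X)

theorem dLen_of_iso {M N : X.Modules} (e : M ≅ N) : dLen A X M = dLen A X N := by
  unfold dLen
  rw [(isEulerLike_eulerLen A X).iso e]

theorem dLen_structureModule : dLen A X (Coh.structureModule X) = 0 := sub_self _

theorem dLen_tensorMod (hdim : topologicalKrullDim X ≤ 1) {M₁ M₂ : X.Modules}
    (h₁ : PicF.IsInvertible M₁) (h₂ : PicF.IsInvertible M₂) :
    dLen A X (CohB1.tensorMod M₁ M₂) = dLen A X M₁ + dLen A X M₂ := by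
  haveI : IsNoetherian X := isNoetherian_of_proper_artinian A X
  have h := eulerLen_tensor_tensor A X hdim (Coh.structureModule X)
    (CohDevH8.isCoh_structureModule X) h₁ h₂
  have hχ := isEulerLike_eulerLen A X
  rw [hχ.iso (mapR (Groth.Agent.CMMul.unitorL M₁) M₂), hχ.iso (Groth.Agent.CMMul.unitorL M₁),
    hχ.iso (Groth.Agent.CMMul.unitorL M₂)] at h
  unfold dLen
  linarith

theorem dLen_tensorPow (hdim : topologicalKrullDim X ≤ 1) {L : X.Modules}
    (hL : PicF.IsInvertible L) (n : ℕ) :
    dLen A X (CohB1.tensorPow L n) = n * dLen A X L := by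
  induction n with
  | zero =>
    rw [Nat.cast_zero, zero_mul]
    exact dLen_structureModule A X
  | succ n ih =>
    have h : CohB1.tensorPow L (n + 1) = CohB1.tensorMod (CohB1.tensorPow L n) L := rfl
    rw [h, dLen_tensorMod A X hdim (TensH8.isInvertible_tensorPow hL n) hL, ih]
    push_cast
    ring

theorem isInvertible_tensorList (l : List X.Modules) (hl : ∀ M ∈ l, PicF.IsInvertible M) :
    PicF.IsInvertible (FGA.tensorList l) := by
  induction l with
  | nil => exact TensH8.isInvertible_structureModule
  | cons M l ih =>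
    exact TensH8.isInvertible_tensorMod (hl M List.mem_cons_self)
      (ih (fun N hN => hl N (List.mem_cons_of_mem _ hN)))

theorem dLen_tensorList (hdim : topologicalKrullDim X ≤ 1) (l : List X.Modules)
    (hl : ∀ M ∈ l, PicF.IsInvertible M) :
    dLen A X (FGA.tensorList l) = (l.map (dLen A X)).sum := by
  induction l with
  | nil => exact dLen_structureModule A X
  | cons M l ih =>
    have hl' : ∀ N ∈ l, PicF.IsInvertible N := fun N hN => hl N (List.mem_cons_of_mem _ hN)
    have h : FGA.tensorList (M :: l) = CohB1.tensorMod M (FGA.tensorList l) := rfl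
    rw [h, dLen_tensorMod A X hdim (hl M List.mem_cons_self) (isInvertible_tensorList X l hl'),
      ih hl', List.map_cons, List.sum_cons]

theorem isInvertible_multiTwist {r : ℕ} (L : Fin r → X.Modules)
    (hL : ∀ i, PicF.IsInvertible (L i)) (n : Fin r → ℕ) :
    PicF.IsInvertible (FGA.multiTwist L n) := by
  apply isInvertible_tensorList
  intro M hM
  obtain ⟨i, -, rfl⟩ := List.mem_map.mp hM
  exact TensH8.isInvertible_tensorPow (hL i) (n i)

theorem dLen_multiTwist (hdim : topologicalKrullDim X ≤ 1) {r : ℕ} (L : Fin r → X.Modules)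
    (hL : ∀ i, PicF.IsInvertible (L i)) (n : Fin r → ℕ) :
    dLen A X (FGA.multiTwist L n) = ∑ i, (n i : ℤ) * dLen A X (L i) := by
  unfold FGA.multiTwist
  rw [dLen_tensorList A X hdim]
  · rw [List.map_map]
    have h : (dLen A X ∘ fun i => CohB1.tensorPow (L i) (n i)) =
        fun i => (n i : ℤ) * dLen A X (L i) := by
      funext i
      exact dLen_tensorPow A X hdim (hL i) (n i)
    rw [h]
    exact (List.sum_ofFn (f := fun i => (n i : ℤ) * dLen A X (L i))).symm ▸ by
      rw [List.ofFn_eq_map]
  · intro M hM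
    obtain ⟨i, -, rfl⟩ := List.mem_map.mp hM
    exact TensH8.isInvertible_tensorPow (hL i) (n i)

/-- **S12650** -/
theorem main12650 (hdim : topologicalKrullDim X ≤ 1) (r : ℕ) (L L' : Fin r → X.Modules)
    (hL : ∀ i, PicF.IsInvertible (L i)) (hL' : ∀ i, ClSub.IsInverseOf (L' i) (L i)) :
    ∃ (a : Fin r → ℤ) (c : ℤ), ∀ n : Fin r → ℤ,
      ((Module.length A (Coh.HH X (CohB1.tensorMod (FGA.multiTwist L (fun i => (n i).toNat))
            (FGA.multiTwist L' (fun i => (-(n i)).toNat))) 0)).toNat : ℤ) -
        ((Module.length A (Coh.HH X (CohB1.tensorMod (FGA.multiTwist L (fun i => (n i).toNat))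
            (FGA.multiTwist L' (fun i => (-(n i)).toNat))) 1)).toNat : ℤ)
        = (Finset.univ.sum fun i => a i * n i) + c := by
  refine ⟨fun i => dLen A X (L i), eulerLen A X (Coh.structureModule X), fun n => ?_⟩
  rw [← eulerLen_eq_sub A X hdim]
  have hL'i : ∀ i, PicF.IsInvertible (L' i) := by
    intro i
    obtain ⟨e⟩ := hL' i
    exact InvTensH8.isInvertible_of_tensor_iso e
  have hd' : ∀ i, dLen A X (L' i) = - dLen A X (L i) := by
    intro i
    obtain ⟨e⟩ := hL' i
    have h1 := dLen_tensorMod A X hdim (hL'i i) (hL i)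
    rw [dLen_of_iso A X e, dLen_structureModule] at h1
    linarith
  have h1 := dLen_tensorMod A X hdim
    (isInvertible_multiTwist X L hL (fun i => (n i).toNat))
    (isInvertible_multiTwist X L' hL'i (fun i => (-(n i)).toNat))
  rw [dLen_multiTwist A X hdim L hL, dLen_multiTwist A X hdim L' hL'i] at h1
  have h2 : eulerLen A X (CohB1.tensorMod (FGA.multiTwist L (fun i => (n i).toNat))
      (FGA.multiTwist L' (fun i => (-(n i)).toNat))) =
      dLen A X (CohB1.tensorMod (FGA.multiTwist L (fun i => (n i).toNat))
        (FGA.multiTwist L' (fun i => (-(n i)).toNat))) +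
      eulerLen A X (Coh.structureModule X) := by
    unfold dLen
    ring
  rw [h2, h1, ← Finset.sum_add_distrib]
  congr 1
  apply Finset.sum_congr rfl
  intro i _
  rw [hd' i]
  have h3 : ((n i).toNat : ℤ) - ((-(n i)).toNat : ℤ) = n i := Int.toNat_sub_toNat_neg (n i)
  have h4 : ((n i).toNat : ℤ) * dLen A X (L i) + ((-(n i)).toNat : ℤ) * -dLen A X (L i) =
      (((n i).toNat : ℤ) - ((-(n i)).toNat : ℤ)) * dLen A X (L i) := by ring
  rw [h4, h3]
  ring

/-- **S12651** -/
theorem main12651 (hdim : topologicalKrullDim X ≤ 1) (x : X) (hx : IsClosed ({x} : Set X))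
    (L : X.Modules)
    (hL : ClSub.IsInverseOf L (ClSub.idealMod
      (Scheme.IdealSheafData.vanishingIdeal (⟨{x}, hx⟩ : TopologicalSpace.Closeds X)))) :
    ((Module.length A (Coh.HH X L 0)).toNat : ℤ) - ((Module.length A (Coh.HH X L 1)).toNat : ℤ)
      - (((Module.length A (Coh.HH X (Coh.structureModule X) 0)).toNat : ℤ)
          - ((Module.length A (Coh.HH X (Coh.structureModule X) 1)).toNat : ℤ))
      = ((Module.length A (Coh.HH X (ClSub.quotMod
            (Scheme.IdealSheafData.vanishingIdeal
              (⟨{x}, hx⟩ : TopologicalSpace.Closeds X))) 0)).toNat : ℤ) := by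
  haveI : IsNoetherian X := isNoetherian_of_proper_artinian A X
  obtain ⟨I, hI⟩ : ∃ I : X.IdealSheafData,
      I = Scheme.IdealSheafData.vanishingIdeal (⟨{x}, hx⟩ : TopologicalSpace.Closeds X) :=
    ⟨_, rfl⟩
  rw [← hI] at hL ⊢
  rw [← eulerLen_eq_sub A X hdim, ← eulerLen_eq_sub A X hdim]
  obtain ⟨e⟩ := hL
  have hLi : PicF.IsInvertible L := InvTensH8.isInvertible_of_tensor_iso e
  have hIi : PicF.IsInvertible (ClSub.idealMod I) :=
    InvTensH8.isInvertible_of_tensor_iso (comm _ _ ≪≫ e)
  have h1 := dLen_tensorMod A X hdim hLi hIi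
  rw [dLen_of_iso A X e, dLen_structureModule] at h1
  have hOc := CohDevH8.isCoh_structureModule X
  have hQc : Coh.IsCoh (ClSub.quotMod I) :=
    CohDevH8.isCoh_pushforward_of_isFinite I.subschemeι
      (CohDevH8.isCoh_structureModule I.subscheme)
  have h2 := (isEulerLike_eulerLen A X).add (Groth.Agent.HypSurf.ses I)
    (Groth.Agent.HypSurf.ses_shortExact I) (ProperFinH9.isCoh_of_isInvertible hIi) hOc hQc
  have h2' : eulerLen A X (Coh.structureModule X) =
      eulerLen A X (ClSub.idealMod I) + eulerLen A X (ClSub.quotMod I) := h2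
  have hsupp : ∀ y ∈ CohB1.support (ClSub.quotMod I), IsClosed ({y} : Set X) := by
    intro y hy
    have h3 := CurveIdeal.support_quotMod_subset I (Iso.refl _) hy
    rw [hI, Scheme.IdealSheafData.coe_support_vanishingIdeal] at h3
    rw [Set.mem_singleton_iff.mp h3]
    exact hx
  haveI := ZeroDimAcyc.HH_subsingleton_of_zero_dim X (ClSub.quotMod I) hQc hsupp 1 Nat.one_pos
  have h4 := eulerLen_eq_sub A X hdim (ClSub.quotMod I)
  rw [Module.length_eq_zero (R := A) (M := Coh.HH X (ClSub.quotMod I) 1)] at h4
  simp only [ENat.toNat_zero, Nat.cast_zero, sub_zero] at h4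
  rw [← h4]
  unfold dLen at h1
  linarith

end Curve

end Snap9
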