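import Mathlib
import Groth.Prelude
import Groth.Agent.Lib.Snap73_helper9
import Groth.Agent.Lib.ProjDim_helper4
import Groth.Agent.Lib.ProjSpaceProper_helper4
import Groth.Agent.Lib.HilbExist1_helper9
import Groth.Agent.Lib.ClImmTw1_helper9
import Groth.Agent.Lib.InvTensP1_helper5

/-!
# The Hilbert polynomial with lengths over an Artinian ring (helper9)

For a closed subscheme `X` of `P^r_A`, `A` Artinian, and a coherent `F`, the Euler characteristic
(with lengths over `A`) of `F(n)` is a rational polynomial in `n`. Application: S2426.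

APPEND-ONLY once landed.
-/

set_option autoImplicit false
universe u
open CategoryTheory CategoryTheory.Limits AlgebraicGeometry Opposite TopologicalSpace

namespace Snap9

open Groth.Agent.Lib.GVanH2 Groth.Agent.TensInv QcqsLoc

section Diff

/-- the forward difference `f(n) - f(n+1)` -/
def fdiff (f : ℤ → ℤ) : ℤ → ℤ := fun n => f n - f (n + 1)

open Polynomial in
/-- a function on the integers with vanishing iterated difference is a rational polynomial -/
theorem exists_poly_of_iterate_fdiff_eq_zero (d : ℕ) :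
    ∀ f : ℤ → ℤ, (∀ n, (fdiff^[d] f) n = 0) → ∃ P : ℚ[X], ∀ n : ℤ, (f n : ℚ) = P.eval (n : ℚ) := by
  induction d with
  | zero =>
    intro f hf
    refine ⟨0, fun n => ?_⟩
    have := hf n
    rw [Function.iterate_zero, id] at this
    rw [this]
    simp
  | succ d ih =>
    intro f hf
    obtain ⟨Q, hQ⟩ := ih (fdiff f) (fun n => by
      have := hf n
      rwa [Function.iterate_succ_apply] at this)
    obtain ⟨Q₁, hQ₁⟩ := Groth.Agent.HilbExist9.exists_antidiff (-(taylor (-(1 : ℚ)) Q))
    have hstep : ∀ x : ℚ, Q₁.eval x - Q₁.eval (x + 1) = Q.eval x := by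
      intro x
      have h1 := congrArg (fun p => p.eval (x + 1)) hQ₁
      simp only [eval_sub, taylor_eval, eval_neg] at h1
      have h2 : x + 1 + -1 = x := by ring
      rw [h2] at h1
      linarith
    have hconst : ∀ n : ℤ, (f n : ℚ) - Q₁.eval (n : ℚ) = (f 0 : ℚ) - Q₁.eval ((0 : ℤ) : ℚ) := by
      have hs : ∀ n : ℤ, (f n : ℚ) - Q₁.eval (n : ℚ) =
          (f (n + 1) : ℚ) - Q₁.eval ((n + 1 : ℤ) : ℚ) := by
        intro n
        have h1 := hQ n
        have h2 := hstep (n : ℚ)
        have h3 : ((fdiff f n : ℤ) : ℚ) = (f n : ℚ) - (f (n + 1) : ℚ) := by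
          unfold fdiff
          push_cast
          ring
        rw [h3] at h1
        push_cast
        linarith
      intro n
      induction n using Int.induction_on with
      | zero => rfl
      | succ m ihm => rw [← ihm]; exact (hs m).symm
      | pred m ihm =>
        rw [← ihm]
        have := hs (-(m : ℤ) - 1)
        rw [sub_add_cancel] at this
        exact this
    refine ⟨Q₁ + C ((f 0 : ℚ) - Q₁.eval ((0 : ℤ) : ℚ)), fun n => ?_⟩
    rw [eval_add, eval_C]
    linarith [hconst n]

end Diff

section ProjA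

variable (A : Type u) [CommRing A] [IsArtinianRing A] (r : ℕ)

theorem dim_chart_le (i : Fin (r + 1)) :
    topologicalKrullDim ↥((Proj.basicOpen (CohB1.polyGrading r A) (MvPolynomial.X i) :
      (Proj (CohB1.polyGrading r A)).Opens) : Set (Proj (CohB1.polyGrading r A))) ≤
      (r : WithBot ℕ∞) := by
  have hXi : (MvPolynomial.X i : MvPolynomial (Fin (r + 1)) A) ∈ CohB1.polyGrading r A 1 :=
    MvPolynomial.isHomogeneous_X A i
  have h1 : topologicalKrullDim ↥((Proj.basicOpen (CohB1.polyGrading r A) (MvPolynomial.X i) :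
      (Proj (CohB1.polyGrading r A)).Opens) : Set (Proj (CohB1.polyGrading r A))) =
      topologicalKrullDim (PrimeSpectrum (HomogeneousLocalization.Away (CohB1.polyGrading r A)
        (MvPolynomial.X i))) :=
    IsHomeomorph.topologicalKrullDim_eq _ (Scheme.homeoOfIso
      (Proj.basicOpenIsoSpec (CohB1.polyGrading r A) (MvPolynomial.X i) hXi one_pos)).isHomeomorph
  have hc : Nat.card {j : Fin (r + 1) // j ≠ i} = r := by
    rw [Nat.card_congr (finSuccAboveEquiv i).symm, Nat.card_eq_fintype_card, Fintype.card_fin]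
  rw [h1, PrimeSpectrum.topologicalKrullDim_eq_ringKrullDim,
    ringKrullDim_eq_of_ringEquiv
      (RingEquiv.ofBijective (Groth.Agent.Lib.DehomH4.Φ r A i) (Groth.Agent.Lib.DehomH4.bij r A i)).symm,
    MvPolynomial.ringKrullDim_of_isNoetherianRing, hc]
  have h0 : ringKrullDim A ≤ ((0 : ℕ) : WithBot ℕ∞) := Ring.krullDimLE_iff.mp inferInstance
  calc ringKrullDim A + (r : WithBot ℕ∞) ≤ ((0 : ℕ) : WithBot ℕ∞) + (r : WithBot ℕ∞) :=
        add_le_add_left h0 _
    _ = (r : WithBot ℕ∞) := by rw [Nat.cast_zero, zero_add]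

theorem dim_projSpace_le : topologicalKrullDim ↥(CohB1.ProjSpace r A) ≤ (r : WithBot ℕ∞) := by
  have hcov := Groth.Agent.Lib.DehomH4.cover r A
  have hU : ⋃ i : Fin (r + 1), ((Proj.basicOpen (CohB1.polyGrading r A) (MvPolynomial.X i) :
      (Proj (CohB1.polyGrading r A)).Opens) : Set (Proj (CohB1.polyGrading r A))) = Set.univ := by
    rw [← TopologicalSpace.Opens.coe_iSup, hcov, TopologicalSpace.Opens.coe_top]
  show topologicalKrullDim ↥(Proj (CohB1.polyGrading r A)) ≤ _
  rw [Groth.Agent.TopDimLead.dim_eq_iSup_of_open_cover _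
    (fun i => (Proj.basicOpen (CohB1.polyGrading r A) (MvPolynomial.X i)).isOpen) hU]
  exact iSup_le (fun i => dim_chart_le A r i)

end ProjA

section Repl

variable {X : Scheme.{u}} (χ : X.Modules → ℤ) (hχ : IsEulerLike χ)

include hχ in
/-- the alternating sum over `d` copies of `M` is the `d`-th iterated difference -/
theorem altSumG_replicate (M : X.Modules) (tw : ℤ → X.Modules)
    (htw : ∀ n, Nonempty (CohB1.tensorMod (tw n) M ≅ tw (n + 1))) (d : ℕ) :
    ∀ n : ℤ, altSumG χ (List.replicate d M) (tw n) = (fdiff^[d] (fun m => χ (tw m))) n := by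
  induction d with
  | zero => intro n; rfl
  | succ d ih =>
    intro n
    obtain ⟨e⟩ := htw n
    rw [List.replicate_succ, altSumG_cons, altSumG_of_iso χ hχ _ e, ih n, ih (n + 1),
      Function.iterate_succ_apply']
    rfl

end Repl

section Hilb

variable (A : Type u) [CommRing A] [IsArtinianRing A] (r : ℕ) (X : Scheme.{u})
  [X.Over (Spec (CommRingCat.of A))]
  (i : X ⟶ CohB1.ProjSpace r A) [IsClosedImmersion i]
  (hi : i ≫ CohB1.ProjSpace.toSpec r A = X ↘ Spec (CommRingCat.of A))

include hi in
theorem isProper_of_closed_projSpace : IsProper (X ↘ Spec (CommRingCat.of A)) := by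
  haveI := Groth.Agent.Lib.ProjSpaceProperH4.isProper_toSpec r A
  rw [← hi]
  infer_instance

omit [X.Over (Spec (CommRingCat.of A))] in
include A i in
theorem dim_le_of_closed_projSpace : topologicalKrullDim X ≤ (r : WithBot ℕ∞) :=
  (Topology.IsInducing.topologicalKrullDim_le i.isClosedEmbedding.isInducing).trans
    (dim_projSpace_le A r)

omit [X.Over (Spec (CommRingCat.of A))] [IsArtinianRing A] [IsClosedImmersion i] in
theorem isInvertible_pullback_twist (n : ℤ) :
    PicF.IsInvertible ((Scheme.Modules.pullback i).obj (Twist.twistProjSpace r A n)) :=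
  TensH8.isInvertible_pullback i
    (Groth.Agent.ProjTw.isInvertible_twist (CohB1.polyGrading r A)
      (Groth.Agent.ProjTens.hcov' r A) n)

omit [X.Over (Spec (CommRingCat.of A))] [IsArtinianRing A] [IsClosedImmersion i] in
theorem nonempty_tw_succ_iso (F : X.Modules) (n : ℤ) :
    Nonempty (CohB1.tensorMod
      (CohB1.tensorMod F ((Scheme.Modules.pullback i).obj (Twist.twistProjSpace r A n)))
      ((Scheme.Modules.pullback i).obj (Twist.twistProjSpace r A 1)) ≅
      CohB1.tensorMod F ((Scheme.Modules.pullback i).obj (Twist.twistProjSpace r A (n + 1)))) := by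
  obtain ⟨e⟩ := Groth.Agent.ProjTens.twist_add r A n 1
  have hn := Groth.Agent.ProjTw.isInvertible_twist (CohB1.polyGrading r A)
      (Groth.Agent.ProjTens.hcov' r A) n
  have h1 := Groth.Agent.ProjTw.isInvertible_twist (CohB1.polyGrading r A)
      (Groth.Agent.ProjTens.hcov' r A) 1
  exact ⟨assoc F _ _ ≪≫ mapL F (Groth.Agent.InvTensP.pullbackTensorIso i hn h1 ≪≫
    (Scheme.Modules.pullback i).mapIso e)⟩

include hi in
/-- **S2426** (without the local hypothesis) -/
theorem main2426 (F : X.Modules) (hF : Coh.IsCoh F) :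
    ∃ P : Polynomial ℚ, ∀ n : ℤ,
      ((Finset.range (r + 1)).sum fun j => (-1 : ℚ) ^ j *
        ((Module.length A (Coh.HH X (CohB1.tensorMod F
          ((Scheme.Modules.pullback i).obj (Twist.twistProjSpace r A n))) j)).toNat : ℚ)) =
      P.eval (n : ℚ) := by
  haveI := isProper_of_closed_projSpace A r X i hi
  haveI : IsNoetherian X := isNoetherian_of_proper_artinian A X
  have hdim := dim_le_of_closed_projSpace A r X i
  have hdimC : dimC (X := X.toTopCat) (⊤ : Closeds X) < ((r + 1 : ℕ) : WithBot ℕ∞) := by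
    have h1 : dimC (X := X.toTopCat) (⊤ : Closeds X) ≤ ((r : ℕ) : WithBot ℕ∞) :=
      (dimC_top_le (X := X.toTopCat)).trans hdim
    refine lt_of_le_of_lt h1 ?_
    exact_mod_cast Nat.lt_succ_self r
  have hχ := isEulerLike_eulerLen A X
  obtain ⟨M, hM⟩ : ∃ M : X.Modules,
      M = (Scheme.Modules.pullback i).obj (Twist.twistProjSpace r A 1) := ⟨_, rfl⟩
  have hMi : PicF.IsInvertible M := hM ▸ isInvertible_pullback_twist A r X i 1
  obtain ⟨tw, htw⟩ : ∃ tw : ℤ → X.Modules, tw = fun n => CohB1.tensorMod F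
      ((Scheme.Modules.pullback i).obj (Twist.twistProjSpace r A n)) := ⟨_, rfl⟩
  have htwc : ∀ n, Coh.IsCoh (tw n) := by
    intro n
    rw [htw]
    exact isCoh_tensorMod hF (isInvertible_pullback_twist A r X i n)
  have hstep : ∀ n, Nonempty (CohB1.tensorMod (tw n) M ≅ tw (n + 1)) := by
    intro n
    rw [htw, hM]
    exact nonempty_tw_succ_iso A r X i F n
  have hzero : ∀ n, (fdiff^[r + 1] (fun m => eulerLen A X (tw m))) n = 0 := by
    intro n
    rw [← altSumG_replicate (eulerLen A X) hχ M tw hstep (r + 1) n]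
    refine altSumG_eq_zero (eulerLen A X) hχ (List.replicate (r + 1) M) ?_ (tw n) (htwc n) ⊤
      (fun _ _ => trivial) ?_
    · intro N hN
      rw [List.eq_of_mem_replicate hN]
      exact hMi
    · rw [List.length_replicate]
      exact hdimC
  obtain ⟨P, hP⟩ := exists_poly_of_iterate_fdiff_eq_zero (r + 1) _ hzero
  refine ⟨P, fun n => ?_⟩
  rw [← hP n]
  have h1 := eulerLen_eq_sum A X r (tw n) (fun p hp =>
    subsingleton_HH_of_dimC (r + 1) ⊤ hdimC (tw n) (fun _ _ => trivial) p hp)
  have h2 : tw n = CohB1.tensorMod F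
      ((Scheme.Modules.pullback i).obj (Twist.twistProjSpace r A n)) := by rw [htw]
  rw [← h2]
  show _ = ((eulerLen A X (tw n) : ℤ) : ℚ)
  rw [h1]
  push_cast
  rfl

end Hilb

end Snap9
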