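import Mathlib
import Groth.Prelude
import Groth.Agent.Lib.MumReg4_helper9
import Groth.Agent.Lib.Snap72_helper9
import Groth.Agent.Lib.TensPowApi_helper9
import Groth.Agent.Lib.DegPull5_helper9
import Groth.Agent.Lib.ProjTwPow_helper5
import Groth.Agent.Lib.Snap74_helper9
import Groth.Agent.S1647

/-!
# Uniform vanishing and global generation for quotients of `O_X^N` with a fixed Hilbert
polynomial on a projective scheme (helper9)
**S18841**, deduced from Mumford's theorem (S1643) on the ambient projective space.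
APPEND-ONLY once landed.
-/

set_option autoImplicit false
universe u v
open CategoryTheory CategoryTheory.Limits AlgebraicGeometry Opposite TopologicalSpace Polynomial

namespace Groth.Agent.MumReg

open Groth.Agent.TensInv Groth.Agent.ProjTens

section KerComp

variable {C : Type u} [Category.{v} C] [Abelian C] {A B D : C} (a : A ⟶ B) (b : B ⟶ D)

/-- `ker a ⟶ ker (a ≫ b)` -/
noncomputable def kerCompF : kernel a ⟶ kernel (a ≫ b) :=
  kernel.lift (a ≫ b) (kernel.ι a) (by rw [← Category.assoc, kernel.condition, Limits.zero_comp])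

/-- `ker (a ≫ b) ⟶ ker b` -/
noncomputable def kerCompG : kernel (a ≫ b) ⟶ kernel b :=
  kernel.lift b (kernel.ι (a ≫ b) ≫ a) (by rw [Category.assoc, kernel.condition])

@[reassoc]
theorem kerCompF_ι : kerCompF a b ≫ kernel.ι (a ≫ b) = kernel.ι a := kernel.lift_ι _ _ _

@[reassoc]
theorem kerCompG_ι : kerCompG a b ≫ kernel.ι b = kernel.ι (a ≫ b) ≫ a := kernel.lift_ι _ _ _

theorem kerCompF_G : kerCompF a b ≫ kerCompG a b = 0 := by
  rw [← cancel_mono (kernel.ι b), Category.assoc, kerCompG_ι, kerCompF_ι_assoc, kernel.condition,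
    Limits.zero_comp]

/-- `0 → ker a → ker (a ≫ b) → ker b → 0` for an epimorphism `a` -/
theorem kerComp_shortExact [Epi a] :
    (ShortComplex.mk (kerCompF a b) (kerCompG a b) (kerCompF_G a b)).ShortExact := by
  haveI : Mono (kerCompF a b) := mono_of_mono_fac (kerCompF_ι a b)
  have hpb : IsPullback (kernel.ι (a ≫ b)) (kerCompG a b) a (kernel.ι b) := by
    refine ⟨⟨(kerCompG_ι a b).symm⟩, ⟨PullbackCone.IsLimit.mk _
      (fun s => kernel.lift (a ≫ b) s.fst (by
        rw [← Category.assoc, s.condition, Category.assoc, kernel.condition, Limits.comp_zero]))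
      (fun s => kernel.lift_ι _ _ _) (fun s => ?_) (fun s m h₁ _ => ?_)⟩⟩
    · rw [← cancel_mono (kernel.ι b), Category.assoc, kerCompG_ι, kernel.lift_ι_assoc,
        s.condition]
    · rw [← cancel_mono (kernel.ι (a ≫ b)), kernel.lift_ι]
      exact h₁
  haveI : Epi (kerCompG a b) := Abelian.epi_snd_of_isLimit a (kernel.ι b) hpb.isLimit
  refine ShortComplex.ShortExact.mk ?_
  refine ShortComplex.exact_of_f_is_kernel _ ?_
  refine KernelFork.IsLimit.ofι _ _
    (fun {T} x hx => kernel.lift a (x ≫ kernel.ι (a ≫ b)) (by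
      rw [Category.assoc, ← kerCompG_ι, ← Category.assoc, hx, Limits.zero_comp]))
    (fun {T} x hx => ?_) (fun {T} x hx m hm => ?_)
  · rw [← cancel_mono (kernel.ι (a ≫ b)), Category.assoc, kerCompF_ι, kernel.lift_ι]
  · rw [← cancel_mono (kernel.ι a), kernel.lift_ι, ← kerCompF_ι a b, ← Category.assoc]
    exact congrArg (fun z => z ≫ kernel.ι (a ≫ b)) hm

end KerComp

section Reg

variable {k : Type u} [Field k] {n : ℕ}

/-- an `m`-regular coherent module has no higher cohomology in twists `≥ m - 1` -/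
theorem van_of_regular {K : (CohB1.ProjSpace n k).Modules} (hK : Coh.IsCoh K) {m : ℤ}
    (h : Curv2.IsMRegular k n K m) : Van k n K (m - 1) := by
  intro i hi t ht
  by_cases hin : i ≤ n
  · have h1 := CMClosed.isMRegular_add k n hK m h (t + i - m).toNat i hi hin
    have e : m + ((t + i - m).toNat : ℤ) - i = t := by
      rw [Int.toNat_of_nonneg (by omega)]
      ring
    rw [e] at h1
    exact h1
  · haveI : Coh.IsQCoh (CohB1.tensorMod K (OO n k t)) := isQCoh_twistBy n k K hK.1 t
    exact Groth.Agent.S0022.result n k _ i (by omega)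

/-- an `m`-regular coherent module is `m'`-regular for `m' ≥ m` -/
theorem isMRegular_of_le {K : (CohB1.ProjSpace n k).Modules} (hK : Coh.IsCoh K) {m m' : ℤ}
    (h : Curv2.IsMRegular k n K m) (hmm : m ≤ m') : Curv2.IsMRegular k n K m' := by
  have h1 := CMClosed.isMRegular_add k n hK m h (m' - m).toNat
  have e : m + ((m' - m).toNat : ℤ) = m' := by
    rw [Int.toNat_of_nonneg (by omega)]
    ring
  rw [e] at h1
  exact h1

end Reg

section Closed

variable (k : Type u) [Field k] (n : ℕ) {X : Scheme.{u}} (ι : X ⟶ CohB1.ProjSpace n k)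
  [IsClosedImmersion ι]

/-- `M ⊗ L^{⊗ l} ≅ M ⊗ ι^* O(l)` for `L ≅ ι^* O(1)` -/
theorem nonempty_twistIso {L : X.Modules}
    (hL : Nonempty (L ≅ (Scheme.Modules.pullback ι).obj (Twist.twistProjSpace n k 1)))
    (M : X.Modules) (l : ℕ) :
    Nonempty (ShStab.twist X L M l ≅ Pic13.twistOn k ι M (l : ℤ)) := by
  obtain ⟨e⟩ := hL
  obtain ⟨e₁⟩ := TensPowH9.tensorPow_congr e l
  obtain ⟨e₂⟩ := DegPull.nonempty_pullback_tensorPow_iso ι
    (Groth.Agent.Horrocks.isInvertible_OO n k 1) l
  obtain ⟨e₃⟩ := Groth.Agent.ProjTw.tensorPow_iso (CohB1.polyGrading n k) (hcov' n k) l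
  exact ⟨mapL M (e₁ ≪≫ e₂.symm ≪≫ (Scheme.Modules.pullback ι).mapIso e₃)⟩

variable [X.Over (Spec (CommRingCat.of k))]
  (hι : ι ≫ CohB1.ProjSpace.toSpec n k = X ↘ Spec (CommRingCat.of k))

include hι in
/-- the Euler characteristic of `(ι_* F)(t)` is that of `F ⊗ ι^* O(t)` -/
theorem euler_push (F : X.Modules) [F.IsQuasicoherent] (t : ℤ) :
    Curv2.euler k (CohB1.ProjSpace n k)
      (CohB1.tensorMod ((Scheme.Modules.pushforward ι).obj F) (OO n k t)) =
    Curv2.euler k X (Pic13.twistOn k ι F t) := by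
  unfold Curv2.euler
  exact finsum_congr (fun i => by rw [CMClosed.finrank_eq k n ι hι F t i])

include hι in
/-- the Hilbert polynomial of `ι_* F` -/
theorem hilb_push [IsProper (X ↘ Spec (CommRingCat.of k))] {L : X.Modules}
    (hL : Nonempty (L ≅ (Scheme.Modules.pullback ι).obj (Twist.twistProjSpace n k 1)))
    (F : X.Modules) (hF : Coh.IsCoh F) (P : ℚ[X]) (hP : ShStab.IsHilbPoly k X L F P) :
    Hilb k n ((Scheme.Modules.pushforward ι).obj F) P := by
  haveI := hF.1
  haveI : IsLocallyNoetherian X :=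
    LocallyOfFiniteType.isLocallyNoetherian (X ↘ Spec (CommRingCat.of k))
  obtain ⟨P', hP'⟩ := Snap9.main2426 k n X ι hι F hF
  have hcoh : ∀ t : ℤ, Coh.IsCoh (Pic13.twistOn k ι F t) := fun t =>
    Snap9.isCoh_tensorMod hF (Snap9.isInvertible_pullback_twist k n X ι t)
  have h1 : ∀ t : ℤ, (Curv2.euler k X (Pic13.twistOn k ι F t) : ℚ) = P'.eval (t : ℚ) := by
    intro t
    rw [← hP' t, EulerField.euler_eq_sum k X n (Pic13.twistOn k ι F t) (fun p hp => by
      rw [CMClosed.subsingleton_iff k n ι F t p]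
      haveI : Coh.IsQCoh (CohB1.tensorMod ((Scheme.Modules.pushforward ι).obj F) (OO n k t)) :=
        isQCoh_twistBy n k _ (CMClosed.isCoh_push k n ι hF).1 t
      exact Groth.Agent.S0022.result n k _ p hp)]
    push_cast
    refine Finset.sum_congr rfl (fun j _ => ?_)
    have h2 := EulerField.finrank_eq_length k X _ (hcoh t) j
    have h3 : ((Module.finrank k (Coh.HH X (Pic13.twistOn k ι F t) j) : ℤ) : ℚ) =
        (((Module.length k (Coh.HH X (Pic13.twistOn k ι F t) j)).toNat : ℤ) : ℚ) := by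
      rw [h2]
    push_cast at h3
    rw [h3]
    rfl
  have h2 : P' = P := by
    apply Polynomial.eq_of_infinite_eval_eq
    refine Set.infinite_of_injective_forall_mem (f := fun l : ℕ => (l : ℚ)) Nat.cast_injective ?_
    intro l
    show P'.eval (l : ℚ) = P.eval (l : ℚ)
    obtain ⟨e⟩ := nonempty_twistIso k n ι hL F l
    have h3 := h1 (l : ℤ)
    push_cast at h3
    rw [← h3, ← hP l, CurveTens.euler_of_iso k X e]
  intro t
  rw [euler_push k n ι hι F t, h1 t, h2]

end Closed

end Groth.Agent.MumReg
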