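import Mathlib
import Groth.Prelude
import Groth.Agent.Lib.MumReg5_helper9

/-!
# Uniform vanishing and global generation for quotients of `O_X^N` with a fixed Hilbert
polynomial on a projective scheme, part 2 (helper9)
**S18841**.
APPEND-ONLY once landed.
-/

set_option autoImplicit false
universe u
open CategoryTheory CategoryTheory.Limits AlgebraicGeometry Opposite TopologicalSpace Polynomial

namespace Groth.Agent.MumReg

open Groth.Agent.TensInv Groth.Agent.ProjTens

/-- `f^*(O^r) ≅ O^r` -/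
noncomputable def pullFreeGen {Y Z : Scheme.{u}} (f : Y ⟶ Z) (r : ℕ) :
    (Scheme.Modules.pullback f).obj (FlatMod.freeMod Z r) ≅ FlatMod.freeMod Y r :=
  PreservesCoproduct.iso (Scheme.Modules.pullback f)
      (fun _ : Fin r => Coh.structureModule Z) ≪≫
    Sigma.mapIso (fun _ => PBH8.pullbackUnitIso f)

/-- **S18841** -/
theorem main18841 (k : Type u) [Field k] (X : Scheme.{u}) [X.Over (Spec (CommRingCat.of k))]
    [IsProper (X ↘ Spec (CommRingCat.of k))] (n : ℕ) (ι : X ⟶ CohB1.ProjSpace n k)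
    [IsClosedImmersion ι] (hι : ι ≫ CohB1.ProjSpace.toSpec n k = X ↘ Spec (CommRingCat.of k))
    (L : X.Modules)
    (hL : Nonempty (L ≅ (Scheme.Modules.pullback ι).obj (Twist.twistProjSpace n k 1)))
    (N : ℕ) (P : ℚ[X]) :
    ∃ l₀ : ℕ, ∀ (F : X.Modules) (q : FlatMod.freeMod X N ⟶ F),
      Coh.IsCoh F → Epi q → ShStab.IsHilbPoly k X L F P →
        ∀ l : ℕ, l₀ ≤ l →
          (∀ i : ℕ, 0 < i → Subsingleton (Coh.HH X (ShStab.twist X L F l) i)) ∧
          (∀ i : ℕ, 0 < i → Subsingleton (Coh.HH X (ShStab.twist X L (kernel q) l) i)) ∧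
          Curv2.IsGloballyGenerated (ShStab.twist X L (kernel q) l) := by
  haveI : IsLocallyNoetherian X :=
    LocallyOfFiniteType.isLocallyNoetherian (X ↘ Spec (CommRingCat.of k))
  haveI := Groth.Agent.Lib.ProjSpaceProperH4.isProper_toSpec n k
  haveI : IsLocallyNoetherian (CohB1.ProjSpace n k) :=
    LocallyOfFiniteType.isLocallyNoetherian (CohB1.ProjSpace.toSpec n k)
  obtain ⟨m, Hm⟩ := main1643 n N P
  have hFPc : Coh.IsCoh (FlatMod.freeMod (CohB1.ProjSpace n k) N) :=
    DegPull.isCoh_freeMod (X := CohB1.ProjSpace n k) N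
  haveI := hFPc.1
  obtain ⟨u, hu⟩ : ∃ u : FlatMod.freeMod (CohB1.ProjSpace n k) N ⟶
      (Scheme.Modules.pushforward ι).obj ((Scheme.Modules.pullback ι).obj
        (FlatMod.freeMod (CohB1.ProjSpace n k) N)),
      u = (Scheme.Modules.pullbackPushforwardAdjunction ι).unit.app _ := ⟨_, rfl⟩
  haveI : Epi u := hu ▸ Snap9.epi_unit ι (FlatMod.freeMod (CohB1.ProjSpace n k) N)
  have hUc : Coh.IsCoh (kernel u) := CohKerH8.isCoh_kernel hFPc
    (CMClosed.isCoh_push k n ι (Groth.Agent.Lib.ConsModH2.isCoh_pullback ι _ hFPc)) u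
  obtain ⟨d₀, hd₀⟩ := serre_vanishing n k (kernel u) hUc
  refine ⟨(max m d₀).toNat, ?_⟩
  intro F q hF hq hP l hl
  have hlm : m ≤ (l : ℤ) := by
    have := Int.self_le_toNat (max m d₀)
    have h2 : ((max m d₀).toNat : ℤ) ≤ (l : ℤ) := by exact_mod_cast hl
    exact (le_max_left m d₀).trans (this.trans h2)
  have hld : d₀ ≤ (l : ℤ) := by
    have := Int.self_le_toNat (max m d₀)
    have h2 : ((max m d₀).toNat : ℤ) ≤ (l : ℤ) := by exact_mod_cast hl
    exact (le_max_right m d₀).trans (this.trans h2)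
  have hFXc : Coh.IsCoh (FlatMod.freeMod X N) := DegPull.isCoh_freeMod (X := X) N
  have hGc : Coh.IsCoh (kernel q) := CohKerH8.isCoh_kernel hFXc hF q
  haveI := hF.1
  haveI := hGc.1
  obtain ⟨q', hq'⟩ : ∃ q' : (Scheme.Modules.pullback ι).obj
      (FlatMod.freeMod (CohB1.ProjSpace n k) N) ⟶ F,
      q' = (pullFreeGen ι N).hom ≫ q := ⟨_, rfl⟩
  haveI : Epi q' := hq' ▸ epi_comp _ _
  haveI : Epi ((Scheme.Modules.pushforward ι).map q') := inferInstance
  have hφ : Epi (u ≫ (Scheme.Modules.pushforward ι).map q') := epi_comp _ _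
  have hFc := CMClosed.isCoh_push k n ι hF
  have hH := hilb_push k n ι hι hL F hF P hP
  have hreg := Hm k _ (u ≫ (Scheme.Modules.pushforward ι).map q') hFc hφ hH
  have hKc : Coh.IsCoh (kernel (u ≫ (Scheme.Modules.pushforward ι).map q')) :=
    CohKerH8.isCoh_kernel hFPc hFc _
  have hvanK := van_of_regular hKc hreg
  have hses := kerComp_shortExact u ((Scheme.Modules.pushforward ι).map q')
  have eG : kernel ((Scheme.Modules.pushforward ι).map q') ≅
      (Scheme.Modules.pushforward ι).obj (kernel q) :=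
    (PreservesKernel.iso (Scheme.Modules.pushforward ι) q').symm ≪≫
      (Scheme.Modules.pushforward ι).mapIso
        (hq' ▸ kernelIsIsoComp (pullFreeGen ι N).hom q)
  have hses' := shortExact_twist n k _ hses l
  refine ⟨fun i hi => ?_, fun i hi => ?_, ?_⟩
  · obtain ⟨eF⟩ := nonempty_twistIso k n ι hL F l
    refine Groth.Agent.HHVan.subsingleton_of_iso eF.symm i ?_
    rw [CMClosed.subsingleton_iff k n ι F l i]
    have hS1 : (ShortComplex.mk (kernel.ι (u ≫ (Scheme.Modules.pushforward ι).map q'))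
        (u ≫ (Scheme.Modules.pushforward ι).map q') (kernel.condition _)).ShortExact :=
      { exact := ShortComplex.exact_kernel _, mono_f := inferInstanceAs (Mono (kernel.ι _)),
        epi_g := hφ }
    have hS1' := shortExact_twist n k _ hS1 l
    exact Groth.Agent.HHVan.subsingleton_right _ hS1' i
      (van_freeMod k n N i hi l (by omega)) (hvanK (i + 1) (by omega) l (by omega))
  · obtain ⟨eG'⟩ := nonempty_twistIso k n ι hL (kernel q) l
    refine Groth.Agent.HHVan.subsingleton_of_iso eG'.symm i ?_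
    rw [CMClosed.subsingleton_iff k n ι (kernel q) l i]
    refine Groth.Agent.HHVan.subsingleton_of_iso (mapR eG _) i ?_
    exact Groth.Agent.HHVan.subsingleton_right _ hses' i (hvanK i hi l (by omega))
      (hd₀ l hld (i + 1) (by omega))
  · obtain ⟨eG'⟩ := nonempty_twistIso k n ι hL (kernel q) l
    refine CMClosed.gg_of_iso eG'.symm ?_
    haveI : (Pic13.twistOn k ι (kernel q) l).IsQuasicoherent :=
      CMClosed.isQuasicoherent_twistOn k n ι (kernel q) l
    apply CMClosed.gg_of_push k n ι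
    refine CMClosed.gg_of_iso (CMClosed.pushTwist k n ι (kernel q) l).symm ?_
    refine CMClosed.gg_of_iso (mapR eG _) ?_
    obtain ⟨I, p, hp⟩ := Groth.Agent.S1647.result k n _ hKc l (isMRegular_of_le hKc hreg hlm)
    exact ⟨I, p ≫ (tR (OO n k l)).map (kerCompG u ((Scheme.Modules.pushforward ι).map q')),
      epi_comp' hp hses'.epi_g⟩

end Groth.Agent.MumReg
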