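import Mathlib
import Groth.Prelude
import Groth.Agent.Lib.BddFam2_helper9
import Groth.Agent.Lib.MumReg6_helper9
import Groth.Agent.Lib.ProperFin2_helper9

/-!
# Bounded families, part 3: regular modules with given Hilbert polynomials on `P^n` (helper9)

Every coherent `m`-regular module on `P^n_k` with Hilbert polynomial in a finite set `S` is the
cokernel of a morphism `∐_{N₂} O(-m₁) ⟶ ∐_{N₁} O(-m)` with `N₁, N₂, m₁` depending only on `m, S`.
APPEND-ONLY once landed.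
-/

set_option autoImplicit false
universe u
open CategoryTheory CategoryTheory.Limits AlgebraicGeometry Opposite TopologicalSpace Polynomial

namespace BddFam

open Groth.Agent.MumReg Groth.Agent.ProjTens Groth.Agent.TensInv Groth.Agent.ProjCech

section Pn

variable (k : Type u) [Field k] (n : ℕ)

/-- `∐_{N} O(a)` -/
noncomputable abbrev sumO (N : ℕ) (a : ℤ) : (CohB1.ProjSpace n k).Modules :=
  ∐ fun _ : Fin N => OO n k a

theorem isCoh_OO (a : ℤ) : Coh.IsCoh (OO n k a) :=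
  ⟨Groth.Agent.ProjTw.isQuasicoherent_twist (𝒜 n k) _,
    Groth.Agent.ProjTw.isFiniteType_twist (𝒜 n k) (hcov' n k) _⟩

theorem isCoh_sumO (N : ℕ) (a : ℤ) : Coh.IsCoh (sumO k n N a) := by
  haveI := Groth.Agent.Lib.ProjSpaceProperH4.isProper_toSpec n k
  haveI : IsLocallyNoetherian (CohB1.ProjSpace n k) :=
    LocallyOfFiniteType.isLocallyNoetherian (CohB1.ProjSpace.toSpec n k)
  exact Groth.Agent.ProjFin.isCoh_sigma_fin _ (isCoh_OO k n a) N

theorem van_sumO (N : ℕ) (a : ℤ) : Van k n (sumO k n N a) (-a) := by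
  intro i hi t ht
  exact ProperFinH9.subsingleton_HH_sigma_twist (n := n) (R := k) a t N i hi (by omega)

/-- `O^N ⊗ O(a) ≅ ∐_N O(a)` -/
theorem nonempty_sumIso (N : ℕ) (a : ℤ) :
    Nonempty (CohB1.tensorMod (FlatMod.freeMod (CohB1.ProjSpace n k) N) (OO n k a) ≅
      sumO k n N a) := by
  haveI := isEquivalence_tR_twist n k a
  have e := PreservesCoproduct.iso (tR (OO n k a))
    (fun _ : Fin N => Coh.structureModule (CohB1.ProjSpace n k))
  have e' : (∐ fun _ : Fin N => (tR (OO n k a)).obj (Coh.structureModule (CohB1.ProjSpace n k))) ≅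
      ∐ fun _ : Fin N => OO n k a :=
    Sigma.mapIso (fun _ => Groth.Agent.CMMul.unitorL (OO n k a))
  exact ⟨e ≪≫ e'⟩

variable {k n}

theorem hilb_twist {A : (CohB1.ProjSpace n k).Modules} {P : ℚ[X]} (h : Hilb k n A P) (a : ℤ) :
    Hilb k n (CohB1.tensorMod A (OO n k a)) (P.comp (X + C (a : ℚ))) := by
  intro t
  obtain ⟨e⟩ := twist_twist n k A a t (a + t) rfl
  rw [CurveTens.euler_of_iso k _ e, h (a + t)]
  simp [add_comm]

variable (k n)

theorem hilb_sumO (hn : 0 < n) (N : ℕ) (a : ℤ) :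
    Hilb k n (sumO k n N a) ((C (N : ℚ) * hilbO n).comp (X + C (a : ℚ))) := by
  obtain ⟨e⟩ := nonempty_sumIso k n N a
  exact Hilb.of_iso e (hilb_twist (hilb_freeMod k n hn N) a)

theorem degree_hilb_sumO (N : ℕ) (a : ℤ) :
    ((C (N : ℚ) * hilbO n).comp (X + C (a : ℚ))).degree < ((n + 1 : ℕ) : WithBot ℕ) := by
  have h1 : ((C (N : ℚ) * hilbO n).comp (X + C (a : ℚ))).natDegree ≤ n := by
    refine (natDegree_comp_le).trans ?_
    have h2 : (X + C (a : ℚ)).natDegree ≤ 1 := natDegree_X_add_C _ |>.le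
    have h3 : (C (N : ℚ) * hilbO n).natDegree ≤ n :=
      (natDegree_C_mul_le _ _).trans (natDegree_le_of_degree_le (degree_hilbO_le n))
    calc (C (N : ℚ) * hilbO n).natDegree * (X + C (a : ℚ)).natDegree ≤ n * 1 :=
          Nat.mul_le_mul h3 h2
      _ = n := Nat.mul_one n
  refine lt_of_le_of_lt degree_le_natDegree ?_
  exact_mod_cast Nat.lt_succ_of_le h1

/-- `Hom(O(-m), G)` and `H⁰(G(m))` have the same dimension -/
theorem finrank_hom_eq (G : (CohB1.ProjSpace n k).Modules) (m : ℤ) :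
    Module.finrank k (OO n k (-m) ⟶ G) =
      Module.finrank k (Coh.HH (CohB1.ProjSpace n k) (CohB1.tensorMod G (OO n k m)) 0) := by
  have h := Groth.Agent.Gaeta.nonempty_homEquiv n k (-m) G
  rw [neg_neg] at h
  obtain ⟨e⟩ := h
  exact e.finrank_eq

variable {k n}

/-- `h⁰(G(m)) = P(m)` for an `m`-regular module with Hilbert polynomial `P` -/
theorem finrank_H0_eq {G : (CohB1.ProjSpace n k).Modules} (hG : Coh.IsCoh G) {m : ℤ}
    (hreg : Curv2.IsMRegular k n G m) {P : ℚ[X]} (hP : Hilb k n G P) :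
    (Module.finrank k (Coh.HH (CohB1.ProjSpace n k) (CohB1.tensorMod G (OO n k m)) 0) : ℚ) =
      P.eval (m : ℚ) := by
  haveI := Groth.Agent.Lib.ProjSpaceProperH4.isProper_toSpec n k
  haveI : IsProper (CohB1.ProjSpace n k ↘ Spec (CommRingCat.of k)) :=
    Groth.Agent.Lib.ProjSpaceProperH4.isProper_toSpec n k
  have hV := van_of_regular hG hreg
  have h1 := EulerField.euler_eq_sum k (CohB1.ProjSpace n k) 0
    (CohB1.tensorMod G (OO n k m)) (fun p hp => hV p (by omega) m (by omega))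
  rw [← hP m, h1]
  simp

/-- the extension of the regularity condition to all `q ≥ 1` -/
theorem regular_all {G : (CohB1.ProjSpace n k).Modules} (hG : Coh.IsCoh G) {m : ℤ}
    (hreg : Curv2.IsMRegular k n G m) (q : ℕ) (hq : 1 ≤ q) :
    Subsingleton (Coh.HH (CohB1.ProjSpace n k) (CohB1.tensorMod G (OO n k (m - q))) q) := by
  by_cases hqn : q ≤ n
  · exact hreg q hq hqn
  · haveI := Groth.Agent.ProjTens.isQCoh_twistBy n k G hG.1 (m - q)
    exact Groth.Agent.S0022.result n k _ q (by omega)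

/-- a spanning family of `Hom(O(-m), G)`, `G` being `m`-regular, defines an epimorphism -/
theorem epi_desc_of_span {G : (CohB1.ProjSpace n k).Modules} (hG : Coh.IsCoh G) {m : ℤ}
    (hreg : Curv2.IsMRegular k n G m) {N : ℕ} (φ : Fin N → (OO n k (-m) ⟶ G))
    (hφ : Submodule.span k (Set.range φ) = ⊤) : Epi (Sigma.desc φ) := by
  haveI := hG.1
  have hbig := RegGGH9.epi_sigma_desc_qcoh n k (F := G) m (regular_all hG hreg)
  apply Preadditive.epi_of_cancel_zero
  intro T g hg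
  have h1 : ∀ j, φ j ≫ g = 0 := fun j => by
    have h2 : Sigma.ι (fun _ : Fin N => OO n k (-m)) j ≫ Sigma.desc φ = φ j := Sigma.ι_desc _ _
    rw [← h2, Category.assoc, hg, Limits.comp_zero]
  have h3 : ∀ ψ : OO n k (-m) ⟶ G, ψ ≫ g = 0 := by
    intro ψ
    have hψ : ψ ∈ Submodule.span k (Set.range φ) := by
      rw [hφ]
      exact Submodule.mem_top
    induction hψ using Submodule.span_induction with
    | mem x hx =>
      obtain ⟨j, rfl⟩ := hx
      exact h1 j
    | zero => exact zero_comp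
    | add x y _ _ hx hy => rw [Preadditive.add_comp, hx, hy, add_zero]
    | smul a x _ hx => rw [Linear.smul_comp, hx, smul_zero]
  rw [← cancel_epi (Sigma.desc (fun ψ : OO n k (-m) ⟶ G => ψ)), Limits.comp_zero]
  apply Sigma.hom_ext
  intro ψ
  rw [Sigma.ι_desc_assoc, Limits.comp_zero]
  exact h3 ψ

end Pn

section Present

variable (k : Type u) [Field k] [IsAlgClosed k] (n : ℕ)

/-- uniform regularity of the kernels of the epimorphisms `∐ O(-m) ⟶ G` -/
theorem exists_kernel_regularity (m : ℤ) (N₁ : ℕ) (S : Finset ℚ[X]) :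
    ∃ m₁ : ℤ, ∀ (G : (CohB1.ProjSpace n k).Modules) (p : sumO k n N₁ (-m) ⟶ G), Coh.IsCoh G →
      Epi p → (∃ P ∈ S, Hilb k n G P) → Curv2.IsMRegular k n (kernel p) m₁ := by
  rcases Nat.eq_zero_or_pos n with rfl | hn
  · exact ⟨m, fun G p _ _ _ i h1 h2 => by omega⟩
  have hdeg := degree_hilb_sumO n N₁ (-m)
  choose f hf using fun P : ℚ[X] =>
    main.{u} n (n + 1) m ((C (N₁ : ℚ) * hilbO n).comp (X + C ((-m : ℤ) : ℚ))) P hdeg
  refine ⟨((S.sup (fun P => (f P).toNat) : ℕ) : ℤ), ?_⟩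
  rintro G p hG hp ⟨P, hPS, hP⟩
  have hA := isCoh_sumO k n N₁ (-m)
  haveI := Groth.Agent.Lib.ProjSpaceProperH4.isProper_toSpec n k
  haveI : IsLocallyNoetherian (CohB1.ProjSpace n k) :=
    LocallyOfFiniteType.isLocallyNoetherian (CohB1.ProjSpace.toSpec n k)
  have hK := CohKerH8.isCoh_kernel hA hG p
  have hV : Van k n (sumO k n N₁ (-m)) m := by
    have h := van_sumO k n N₁ (-m)
    rwa [neg_neg] at h
  have h1 := (hf P).2 k _ _ p hA hG hp hV (hilb_sumO k n hn N₁ (-m)) hP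
  refine isMRegular_of_le hK h1 ?_
  have h2 : (f P).toNat ≤ S.sup (fun P => (f P).toNat) :=
    Finset.le_sup (f := fun P => (f P).toNat) hPS
  have h3 := Int.self_le_toNat (f P)
  omega

/-- **the shape of the presentation**: `m`-regular coherent modules with Hilbert polynomial in `S`
are cokernels of morphisms between two fixed sums of twists -/
theorem exists_presentation_shape (m : ℤ) (S : Finset ℚ[X]) :
    ∃ (N₁ N₂ : ℕ) (m₁ : ℤ), ∀ G : (CohB1.ProjSpace n k).Modules, Coh.IsCoh G →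
      Curv2.IsMRegular k n G m → (∃ P ∈ S, Hilb k n G P) →
      ∃ u : sumO k n N₂ (-m₁) ⟶ sumO k n N₁ (-m), Nonempty (cokernel u ≅ G) := by
  haveI := Groth.Agent.Lib.ProjSpaceProperH4.isProper_toSpec n k
  haveI : IsLocallyNoetherian (CohB1.ProjSpace n k) :=
    LocallyOfFiniteType.isLocallyNoetherian (CohB1.ProjSpace.toSpec n k)
  obtain ⟨m₁, hm₁⟩ := exists_kernel_regularity k n m
    (S.sup (fun P => ⌈P.eval (m : ℚ)⌉.toNat)) S
  have hA := isCoh_sumO k n (S.sup (fun P => ⌈P.eval (m : ℚ)⌉.toNat)) (-m)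
  haveI : Module.Finite k (OO n k (-m₁) ⟶ sumO k n (S.sup (fun P => ⌈P.eval (m : ℚ)⌉.toNat)) (-m)) :=
    Groth.Agent.Gaeta.finite_hom n k (-m₁) (Iso.refl _) _ hA
  refine ⟨S.sup (fun P => ⌈P.eval (m : ℚ)⌉.toNat),
    Module.finrank k (OO n k (-m₁) ⟶ sumO k n (S.sup (fun P => ⌈P.eval (m : ℚ)⌉.toNat)) (-m)),
    m₁, ?_⟩
  rintro G hG hreg ⟨P, hPS, hP⟩
  haveI : Module.Finite k (OO n k (-m) ⟶ G) :=
    Groth.Agent.Gaeta.finite_hom n k (-m) (Iso.refl _) G hG
  have hN : Module.finrank k (OO n k (-m) ⟶ G) ≤ S.sup (fun P => ⌈P.eval (m : ℚ)⌉.toNat) := by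
    have h1 := finrank_H0_eq hG hreg hP
    rw [← finrank_hom_eq k n G m] at h1
    have h2 : ⌈P.eval (m : ℚ)⌉.toNat ≤ S.sup (fun P => ⌈P.eval (m : ℚ)⌉.toNat) :=
      Finset.le_sup (f := fun P => ⌈P.eval (m : ℚ)⌉.toNat) hPS
    have h3 : ⌈P.eval (m : ℚ)⌉ = (Module.finrank k (OO n k (-m) ⟶ G) : ℤ) := by
      rw [← h1]
      exact Int.ceil_natCast _
    rw [h3, Int.toNat_natCast] at h2
    exact h2
  obtain ⟨φ, hφ⟩ := exists_spanning_fin k _ _ hN
  have hp : Epi (Sigma.desc φ) := epi_desc_of_span hG hreg φ hφ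
  have hKreg := hm₁ G (Sigma.desc φ) hG hp ⟨P, hPS, hP⟩
  have hK : Coh.IsCoh (kernel (Sigma.desc φ)) := CohKerH8.isCoh_kernel hA hG _
  haveI : Module.Finite k (OO n k (-m₁) ⟶ kernel (Sigma.desc φ)) :=
    Groth.Agent.Gaeta.finite_hom n k (-m₁) (Iso.refl _) _ hK
  have hN₂ : Module.finrank k (OO n k (-m₁) ⟶ kernel (Sigma.desc φ)) ≤
      Module.finrank k (OO n k (-m₁) ⟶
        sumO k n (S.sup (fun P => ⌈P.eval (m : ℚ)⌉.toNat)) (-m)) :=
    LinearMap.finrank_le_finrank_of_injective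
      (f := Linear.rightComp k (OO n k (-m₁)) (kernel.ι (Sigma.desc φ)))
      (fun a b hab => (cancel_mono (kernel.ι (Sigma.desc φ))).mp hab)
  obtain ⟨ψ, hψ⟩ := exists_spanning_fin k _ _ hN₂
  have hq : Epi (Sigma.desc ψ) := epi_desc_of_span hK hKreg ψ hψ
  refine ⟨Sigma.desc ψ ≫ kernel.ι (Sigma.desc φ), ⟨?_⟩⟩
  haveI := hq
  haveI := hp
  exact cokernelEpiComp (Sigma.desc ψ) (kernel.ι (Sigma.desc φ)) ≪≫
    IsColimit.coconePointUniqueUpToIso (cokernelIsCokernel (kernel.ι (Sigma.desc φ)))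
      (Abelian.epiIsCokernelOfKernel (KernelFork.ofι (kernel.ι (Sigma.desc φ))
        (kernel.condition (Sigma.desc φ))) (kernelIsKernel (Sigma.desc φ)))

/-- **presentation data** for the family of `m`-regular coherent modules on `P^n_k` with Hilbert
polynomial in `S` -/
theorem exists_presentation (m : ℤ) (S : Finset ℚ[X]) :
    ∃ (A' A : (CohB1.ProjSpace n k).Modules), Coh.IsCoh A' ∧ Coh.IsCoh A ∧
      ∃ (M : ℕ) (u : Fin M → (A' ⟶ A)),
        ∀ G : (CohB1.ProjSpace n k).Modules, Coh.IsCoh G → Curv2.IsMRegular k n G m →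
          (∃ P ∈ S, Hilb k n G P) →
          ∃ a : Fin M → k, Nonempty (cokernel (∑ j, a j • u j) ≅ G) := by
  obtain ⟨N₁, N₂, m₁, H⟩ := exists_presentation_shape k n m S
  have hA' := isCoh_sumO k n N₂ (-m₁)
  have hA := isCoh_sumO k n N₁ (-m)
  haveI : Module.Finite k (sumO k n N₂ (-m₁) ⟶ sumO k n N₁ (-m)) :=
    finite_hom_sigma k (fun _ : Fin N₂ => OO n k (-m₁)) (sumO k n N₁ (-m))
      (fun _ => Groth.Agent.Gaeta.finite_hom n k (-m₁) (Iso.refl _) _ hA)
  obtain ⟨M, s, hs⟩ := Module.Finite.exists_fin (R := k)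
    (M := (sumO k n N₂ (-m₁) ⟶ sumO k n N₁ (-m)))
  refine ⟨_, _, hA', hA, M, s, ?_⟩
  intro G hG hreg hS
  obtain ⟨u, ⟨e⟩⟩ := H G hG hreg hS
  have hu : u ∈ Submodule.span k (Set.range s) := by
    rw [hs]
    exact Submodule.mem_top
  obtain ⟨a, ha⟩ := (Submodule.mem_span_range_iff_exists_fun k).mp hu
  exact ⟨a, ⟨eqToIso (by rw [ha]) ≪≫ e⟩⟩

end Present

end BddFam
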