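import Mathlib
import Groth.Prelude
import Groth.Agent.Lib.BddFam3_helper9

/-!
# Bounded families, part 4: the two boundedness theorems (helper9)

* `main4285`: `m`-regular coherent modules with given Hilbert polynomial on a closed subscheme of
  `P^n_k` form a bounded family;
* `main5699`: the coherent quotients of a fixed coherent module on `P^n_k` with Hilbert function in a
  finite set form a bounded family.
APPEND-ONLY once landed.
-/

set_option autoImplicit false
universe u
open CategoryTheory CategoryTheory.Limits AlgebraicGeometry Opposite TopologicalSpace Polynomial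

namespace BddFam

open Groth.Agent.MumReg Groth.Agent.ProjTens Groth.Agent.TensInv Groth.Agent.ProjCech

section Closed

variable (k : Type u) [Field k] [IsAlgClosed k] (n : ℕ) (X : Scheme.{u})
  [X.Over (Spec (CommRingCat.of k))]
  (i : X ⟶ CohB1.ProjSpace n k) [IsClosedImmersion i]
  (hi : i ≫ CohB1.ProjSpace.toSpec n k = X ↘ Spec (CommRingCat.of k))

include hi in
/-- **S4285** -/
theorem main4285 (m : ℤ) (φ : Polynomial ℚ) :
    Pic13.IsBounded k X (fun F : X.Modules => Coh.IsCoh F ∧ Pic13.IsMRegular k i F m ∧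
      ∀ d : ℤ, (FGA.eulerCharLE k X (Pic13.twistOn k i F d) n : ℚ) = φ.eval (d : ℚ)) := by
  obtain ⟨A', A, hA', hA, M, u, H⟩ := exists_presentation k n m {φ}
  refine isBounded_of_pullback_cokernels k i hi hA' hA u _ ?_
  rintro F ⟨hF, hreg, hφ⟩
  haveI := hF.1
  haveI := Snap9.isProper_of_closed_projSpace k n X i hi
  have hdim := Snap9.dim_le_of_closed_projSpace k n X i
  have hG := CMClosed.isCoh_push k n i hF
  have hGreg := CMClosed.isMRegular_push k n i hF m hreg
  have hH : Hilb k n ((Scheme.Modules.pushforward i).obj F) φ := by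
    intro t
    rw [euler_push k n i hi F t, Snap9.euler_eq_eulerCharLE k X n hdim]
    exact hφ t
  obtain ⟨a, ⟨e⟩⟩ := H _ hG hGreg ⟨φ, Finset.mem_singleton_self φ, hH⟩
  haveI := Groth.Agent.Lib.ThickH2.isIso_counit i F
  exact ⟨a, ⟨(Scheme.Modules.pullback i).mapIso e ≪≫
    asIso ((Scheme.Modules.pullbackPushforwardAdjunction i).counit.app F)⟩⟩

end Closed

section Quot

variable (k : Type u) [Field k] (n : ℕ)

/-- the Euler characteristic on `P^n_k` is the alternating sum in degrees `≤ n` -/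
theorem euler_eq_eulerCharLE_Pn (M : (CohB1.ProjSpace n k).Modules) :
    Curv2.euler k (CohB1.ProjSpace n k) M = FGA.eulerCharLE k (CohB1.ProjSpace n k) M n := by
  haveI : IsProper (CohB1.ProjSpace n k ↘ Spec (CommRingCat.of k)) :=
    Groth.Agent.Lib.ProjSpaceProperH4.isProper_toSpec n k
  exact Snap9.euler_eq_eulerCharLE k (CohB1.ProjSpace n k) n (Snap9.dim_projSpace_le k n) M

/-- every coherent module on `P^n_k` has a Hilbert polynomial -/
theorem exists_hilb (F : (CohB1.ProjSpace n k).Modules) (hF : Coh.IsCoh F) :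
    ∃ P : ℚ[X], Hilb k n F P := by
  haveI : IsProper (CohB1.ProjSpace n k ↘ Spec (CommRingCat.of k)) :=
    Groth.Agent.Lib.ProjSpaceProperH4.isProper_toSpec n k
  haveI := Groth.Agent.Lib.ProjSpaceProperH4.isProper_toSpec n k
  haveI : IsLocallyNoetherian (CohB1.ProjSpace n k) :=
    LocallyOfFiniteType.isLocallyNoetherian (CohB1.ProjSpace.toSpec n k)
  have hι : 𝟙 (CohB1.ProjSpace n k) ≫ CohB1.ProjSpace.toSpec n k =
      (CohB1.ProjSpace n k ↘ Spec (CommRingCat.of k)) := Category.id_comp _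
  obtain ⟨P', hP'⟩ := Snap9.main2426 k n (CohB1.ProjSpace n k) (𝟙 _) hι F hF
  refine ⟨P', fun t => ?_⟩
  let e : Pic13.twistOn k (𝟙 (CohB1.ProjSpace n k)) F t ≅ CohB1.tensorMod F (OO n k t) :=
    mapL F ((Scheme.Modules.pullbackId (CohB1.ProjSpace n k)).app (Twist.twistProjSpace n k t))
  have hcoh : Coh.IsCoh (Pic13.twistOn k (𝟙 (CohB1.ProjSpace n k)) F t) :=
    Snap9.isCoh_tensorMod hF (Snap9.isInvertible_pullback_twist k n _ (𝟙 _) t)
  rw [← hP' t, ← CurveTens.euler_of_iso k _ e,
    Snap9.euler_eq_eulerCharLE k (CohB1.ProjSpace n k) n (Snap9.dim_projSpace_le k n)]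
  unfold FGA.eulerCharLE
  push_cast
  refine Finset.sum_congr rfl (fun j _ => ?_)
  have h2 := EulerField.finrank_eq_length k (CohB1.ProjSpace n k) _ hcoh j
  have h3 : ((Module.finrank k (Coh.HH (CohB1.ProjSpace n k)
      (Pic13.twistOn k (𝟙 (CohB1.ProjSpace n k)) F t) j) : ℤ) : ℚ) =
      (((Module.length k (Coh.HH (CohB1.ProjSpace n k)
        (Pic13.twistOn k (𝟙 (CohB1.ProjSpace n k)) F t) j)).toNat : ℤ) : ℚ) := by
    rw [h2]
  push_cast at h3
  rw [h3]
  rfl

variable [IsAlgClosed k]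

/-- **S5699** -/
theorem main5699 (E : (CohB1.ProjSpace n k).Modules) (hE : Coh.IsCoh E) (Φ : Set (ℤ → ℤ))
    (hΦ : Φ.Finite) :
    Pic13.IsBounded k (CohB1.ProjSpace n k) (fun F =>
      Coh.IsCoh F ∧ (∃ p : E ⟶ F, Epi p) ∧
        (fun r : ℤ => FGA.eulerCharLE k (CohB1.ProjSpace n k)
          (CohB1.tensorMod F (Twist.twistProjSpace n k r)) n) ∈ Φ) := by
  classical
  haveI := Groth.Agent.Lib.ProjSpaceProperH4.isProper_toSpec n k
  haveI : IsLocallyNoetherian (CohB1.ProjSpace n k) :=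
    LocallyOfFiniteType.isLocallyNoetherian (CohB1.ProjSpace.toSpec n k)
  -- the polynomials attached to the functions in `Φ`
  let pol : (ℤ → ℤ) → ℚ[X] := fun h =>
    if hh : ∃ P : ℚ[X], ∀ r : ℤ, (h r : ℚ) = P.eval (r : ℚ) then hh.choose else 0
  have hpol : ∀ (h : ℤ → ℤ) (P : ℚ[X]), (∀ r : ℤ, (h r : ℚ) = P.eval (r : ℚ)) →
      ∀ r : ℤ, (h r : ℚ) = (pol h).eval (r : ℚ) := by
    intro h P hP
    have hh : ∃ P : ℚ[X], ∀ r : ℤ, (h r : ℚ) = P.eval (r : ℚ) := ⟨P, hP⟩
    have : pol h = hh.choose := dif_pos hh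
    rw [this]
    exact hh.choose_spec
  -- the module `E`
  obtain ⟨tE, htE⟩ := serre_vanishing n k E hE
  have hVE : Van k n E tE := fun i hi t ht => htE t ht i hi
  obtain ⟨PE, hPE⟩ := exists_hilb k n E hE
  have hdeg : PE.degree < ((PE.natDegree + 1 : ℕ) : WithBot ℕ) :=
    lt_of_le_of_lt degree_le_natDegree (by exact_mod_cast Nat.lt_succ_self _)
  choose f hf using fun P : ℚ[X] => main.{u} n (PE.natDegree + 1) tE PE P hdeg
  obtain ⟨A', A, hA', hA, M, u, H⟩ := exists_presentation k n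
    (max (tE + n) (((hΦ.toFinset.image pol).sup (fun P => (f P).toNat) : ℕ) : ℤ))
    (hΦ.toFinset.image pol)
  refine isBounded_of_cokernels k _ hA' hA u _ ?_
  rintro F ⟨hF, ⟨p, hp⟩, hΦF⟩
  obtain ⟨PF, hPF⟩ := exists_hilb k n F hF
  have hfun : ∀ r : ℤ, ((FGA.eulerCharLE k (CohB1.ProjSpace n k)
      (CohB1.tensorMod F (Twist.twistProjSpace n k r)) n : ℤ) : ℚ) = PF.eval (r : ℚ) := by
    intro r
    rw [← hPF r, euler_eq_eulerCharLE_Pn]
  have hHF : Hilb k n F (pol (fun r : ℤ => FGA.eulerCharLE k (CohB1.ProjSpace n k)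
      (CohB1.tensorMod F (Twist.twistProjSpace n k r)) n)) := by
    intro t
    rw [euler_eq_eulerCharLE_Pn]
    exact hpol _ PF hfun t
  have hmem : pol (fun r : ℤ => FGA.eulerCharLE k (CohB1.ProjSpace n k)
      (CohB1.tensorMod F (Twist.twistProjSpace n k r)) n) ∈ hΦ.toFinset.image pol :=
    Finset.mem_image_of_mem _ (hΦ.mem_toFinset.mpr hΦF)
  -- regularity of the kernel
  have hK := CohKerH8.isCoh_kernel hE hF p
  have hKreg := (hf _).2 k E F p hE hF hp hVE hPE hHF
  have hle : (f (pol (fun r : ℤ => FGA.eulerCharLE k (CohB1.ProjSpace n k)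
      (CohB1.tensorMod F (Twist.twistProjSpace n k r)) n))).toNat ≤
      (hΦ.toFinset.image pol).sup (fun P => (f P).toNat) :=
    Finset.le_sup (f := fun P => (f P).toNat) hmem
  have hKreg' : Curv2.IsMRegular k n (kernel p)
      (max (tE + n) (((hΦ.toFinset.image pol).sup (fun P => (f P).toNat) : ℕ) : ℤ) + 1) := by
    refine isMRegular_of_le hK hKreg ?_
    have h3 := Int.self_le_toNat (f (pol (fun r : ℤ => FGA.eulerCharLE k (CohB1.ProjSpace n k)
      (CohB1.tensorMod F (Twist.twistProjSpace n k r)) n)))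
    have h4 := le_max_right (tE + n)
      (((hΦ.toFinset.image pol).sup (fun P => (f P).toNat) : ℕ) : ℤ)
    omega
  -- regularity of `F`
  have hSE : (ShortComplex.mk (kernel.ι p) p (kernel.condition p)).ShortExact :=
    { exact := ShortComplex.exact_of_f_is_kernel _ (kernelIsKernel p)
      mono_f := inferInstanceAs (Mono (kernel.ι p))
      epi_g := hp }
  have hFreg : Curv2.IsMRegular k n F
      (max (tE + n) (((hΦ.toFinset.image pol).sup (fun P => (f P).toNat) : ℕ) : ℤ)) := by
    intro i hi hin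
    have hS := shortExact_twist n k _ hSE
      (max (tE + n) (((hΦ.toFinset.image pol).sup (fun P => (f P).toNat) : ℕ) : ℤ) - i)
    refine Groth.Agent.HHVan.subsingleton_right _ hS i ?_ ?_
    · refine hVE i hi _ ?_
      have h4 := le_max_left (tE + n)
        (((hΦ.toFinset.image pol).sup (fun P => (f P).toNat) : ℕ) : ℤ)
      omega
    · have h5 := regular_all hK hKreg' (i + 1) (by omega)
      have e : max (tE + n) (((hΦ.toFinset.image pol).sup (fun P => (f P).toNat) : ℕ) : ℤ) + 1 -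
          ((i + 1 : ℕ) : ℤ) =
          max (tE + n) (((hΦ.toFinset.image pol).sup (fun P => (f P).toNat) : ℕ) : ℤ) - i := by
        push_cast
        ring
      rw [e] at h5
      exact h5
  exact H F hF hFreg ⟨_, hmem, hHF⟩

end Quot

end BddFam
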