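import Mathlib

/-!
# Sections inject along flat surjective morphisms (helper6)
-/

set_option autoImplicit false

namespace Groth.Agent.Lib.FlatInj

open AlgebraicGeometry CategoryTheory TopologicalSpace

universe u

theorem stalkMap_injective_of_flat {X Y : Scheme.{u}} (g : X ⟶ Y) [Flat g] (x : X) :
    Function.Injective (g.stalkMap x) := by
  algebraize [(g.stalkMap x).hom]
  have : Module.FaithfullyFlat (Y.presheaf.stalk (g x)) (X.presheaf.stalk x) :=
    @Module.FaithfullyFlat.of_flat_of_isLocalHom _ _ _ _ _ _ _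
      (Flat.stalkMap g x) (g.toLRSHom.prop x)
  exact ‹RingHom.FaithfullyFlat _›.injective

theorem app_eq_zero_of_flat_of_surjective {X Y : Scheme.{u}} (g : X ⟶ Y) [Flat g] [Surjective g]
    (V : Y.Opens) (t : Γ(Y, V)) (ht : g.app V t = 0) : t = 0 := by
  apply TopCat.Presheaf.section_ext Y.sheaf V t 0
  intro y hy
  obtain ⟨x, rfl⟩ := ‹Surjective g›.surj y
  change Y.presheaf.germ V (g x) hy t = Y.presheaf.germ V (g x) hy 0
  rw [map_zero]
  apply stalkMap_injective_of_flat g x
  rw [map_zero, Scheme.Hom.germ_stalkMap_apply, ht, map_zero]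

end Groth.Agent.Lib.FlatInj
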