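import Groth.Agent.Lib.BddFib_helper6
import Groth.Agent.Lib.FlatInj_helper6

set_option autoImplicit false
universe u
open CategoryTheory CategoryTheory.Limits AlgebraicGeometry TensorProduct

namespace Groth.Agent.Lib.BddFib2_helper6

open BddFib Groth.Agent.Lib.BddFib_helper6

variable {K : CommRingCat.{u}}

theorem eq_isoSpec_comp {T : Scheme.{u}} [IsAffine T] (p : T ⟶ Spec K) :
    p = T.isoSpec.hom ≫ Spec.map (strHom K p) := by
  rw [strHom, Spec.map_comp, ← Category.assoc, Scheme.isoSpec_hom_naturality,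
    Scheme.isoSpec_Spec_hom, Category.assoc, ← Spec.map_comp, Iso.inv_hom_id, Spec.map_id,
    Category.comp_id]

theorem finiteOfDegLE_of_finrank (hK : IsField K) {T : Scheme.{u}} (p : T ⟶ Spec K)
    [IsFinite p] [Flat p] (x : Spec K) (d : ℕ) (hd : p.finrank x = d) :
    FiniteOfDegLE K p d := by
  letI := hK.toField
  haveI : IsAffine T := isAffine_of_isAffineHom p
  have hp := eq_isoSpec_comp p
  haveI h1 : IsFinite (Spec.map (strHom K p)) := by
    have : IsFinite (T.isoSpec.hom ≫ Spec.map (strHom K p)) := by rw [← hp]; infer_instance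
    exact (MorphismProperty.cancel_left_of_respectsIso @IsFinite _ _).mp this
  haveI h2 : Flat (Spec.map (strHom K p)) := by
    have : Flat (T.isoSpec.hom ≫ Spec.map (strHom K p)) := by rw [← hp]; infer_instance
    exact (MorphismProperty.cancel_left_of_respectsIso @Flat _ _).mp this
  have h1' := (IsFinite.SpecMap_iff _).mp h1
  have h2' := Flat.SpecMap_iff.mp h2
  have h3 : p.finrank x = (strHom K p).hom.finrank x := by
    conv_lhs => rw [hp]
    rw [Scheme.Hom.finrank_comp_left_of_isIso, Scheme.Hom.finrank_SpecMap_eq_finrank h1' h2']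
  rw [finiteOfDegLE_iff]
  refine ⟨inferInstance, h1', ?_⟩
  letI := (strHom K p).hom.toAlgebra
  have h4 : (strHom K p).hom.finrank x = Module.finrank K Γ(T, ⊤) := by
    show Module.rankAtStalk Γ(T, ⊤) x = _
    rw [Module.rankAtStalk_eq_finrank_of_free]
    rfl
  show Module.finrank K Γ(T, ⊤) ≤ d
  rw [← h4, ← h3, hd]

theorem RkLE.of_injective {k A A' : Type u} [Field k] [CommRing A] [CommRing A'] {a : k →+* A}
    {a' : k →+* A'} (ψ : A' →+* A) (hψ : Function.Injective ψ) (h : ∀ x, ψ (a' x) = a x)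
    {n : ℕ} (H : RkLE a n) : RkLE a' n := by
  letI := a.toAlgebra
  letI := a'.toAlgebra
  let l : A' →ₗ[k] A :=
    { ψ.toAddMonoidHom with
      map_smul' := fun c x => by
        show ψ (a' c * x) = a c * ψ x
        rw [map_mul, h] }
  obtain ⟨h1, h2⟩ := H
  haveI := h1
  have hl : Function.Injective l := hψ
  exact ⟨Module.Finite.of_injective l hl,
    (LinearMap.finrank_le_finrank_of_injective (f := l) hl).trans h2⟩

theorem finiteOfDegLE_of_flat_surjective (hK : IsField K) {T S : Scheme.{u}} (p : T ⟶ Spec K)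
    (s : S ⟶ Spec K) (r : T ⟶ S) [Flat r] [Surjective r] (hr : r ≫ s = p) (n : ℕ)
    (H : FiniteOfDegLE K p n) : FiniteOfDegLE K s n := by
  letI := hK.toField
  rw [finiteOfDegLE_iff] at H ⊢
  obtain ⟨hA, hR⟩ := H
  obtain ⟨h1, h2⟩ := finite_discrete_of_rkLE (L := K) (strHom K p).hom n hR
  have hemb := T.isoSpec.hom.isOpenEmbedding
  haveI : Finite (Spec Γ(T, ⊤)) := h1
  haveI : DiscreteTopology (Spec Γ(T, ⊤)) := h2
  haveI : Finite T := Finite.of_injective _ hemb.injective
  haveI : DiscreteTopology T := hemb.isEmbedding.discreteTopology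
  haveI : QuasiCompact r := ⟨fun U _ _ => (Set.toFinite _).isCompact⟩
  have hq := Flat.isQuotientMap_of_surjective r
  haveI : Finite S := Finite.of_surjective _ r.surjective
  haveI : DiscreteTopology S :=
    discreteTopology_iff_isOpen_singleton.mpr
      (fun x => hq.isOpen_preimage.mp (isOpen_discrete _))
  refine ⟨inferInstance, ?_⟩
  refine RkLE.of_injective (k := K) r.appTop.hom ?_ ?_ hR
  · rw [injective_iff_map_eq_zero]
    intro t ht
    exact Groth.Agent.Lib.FlatInj.app_eq_zero_of_flat_of_surjective r ⊤ t ht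
  · intro x
    subst hr
    show (r.appTop.hom) ((strHom K s).hom x) = (strHom K (r ≫ s)).hom x
    rw [strHom, strHom, Scheme.Hom.comp_appTop]
    rfl

end Groth.Agent.Lib.BddFib2_helper6
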