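import Mathlib
import Groth.Agent.Lib.BddFib_helper6
set_option autoImplicit false
universe u

namespace Groth.Agent.Lib.BddFib_helper6

open CategoryTheory CategoryTheory.Limits AlgebraicGeometry

/-- An étale algebra over an algebraically closed field has rank at most the number of its primes. -/
theorem finrank_le_card_primeSpectrum_of_etale (k A : Type u) [Field k] [IsAlgClosed k]
    [CommRing A] [Algebra k A] [Algebra.Etale k A] [Finite (PrimeSpectrum A)] :
    Module.finrank k A ≤ Nat.card (PrimeSpectrum A) := by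
  classical
  obtain ⟨I, hI, Ai, hAf, hAa, e, H⟩ :=
    (Algebra.Etale.iff_exists_algEquiv_prod (K := k) (A := A)).mp inferInstance
  letI := Fintype.ofFinite I
  haveI : ∀ i, Module.Finite k (Ai i) := fun i => (H i).1
  have h1 : ∀ i, Module.finrank k (Ai i) = 1 := by
    intro i
    haveI : Algebra.IsIntegral k (Ai i) := Algebra.IsIntegral.of_finite k (Ai i)
    have hbij := IsAlgClosed.algebraMap_bijective_of_isIntegral (k := k) (K := Ai i)
    exact ((LinearEquiv.ofBijective (Algebra.linearMap k (Ai i)) hbij).finrank_eq).symm.trans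
      (Module.finrank_self k)
  have h2 : Module.finrank k A = Nat.card I := by
    rw [e.toLinearEquiv.finrank_eq, Module.finrank_pi_fintype]
    simp [h1, Nat.card_eq_fintype_card]
  rw [h2]
  let F : I → PrimeSpectrum A := fun i =>
    PrimeSpectrum.comap (e : A →+* Π i, Ai i)
      (PrimeSpectrum.sigmaToPi Ai ⟨i, ⟨⊥, Ideal.bot_prime⟩⟩)
  have hF : Function.Injective F := by
    intro i i' hii'
    have h3 := PrimeSpectrum.comap_injective_of_surjective (e : A →+* Π i, Ai i) e.surjective hii'
    have h4 := PrimeSpectrum.sigmaToPi_injective Ai h3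
    exact congrArg Sigma.fst h4
  exact Nat.card_le_card_of_injective F hF

theorem finiteOfDegLE_of_etale_of_isAlgClosed (k : Type u) [Field k] [IsAlgClosed k]
    {T : Scheme.{u}} (p : T ⟶ Spec (CommRingCat.of k)) [Etale p] [IsAffine T] [Finite T] (n : ℕ)
    (hn : Nat.card T ≤ n) : BddFib.FiniteOfDegLE (CommRingCat.of k) p n := by
  rw [finiteOfDegLE_iff]
  refine ⟨inferInstance, ?_⟩
  have hp : RingHom.Etale p.appTop.hom := HasRingHomProperty.appTop (P := @Etale) p inferInstance
  have hs : RingHom.Etale (strHom (CommRingCat.of k) p).hom := by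
    have := (RingHom.Etale.respectsIso).2 p.appTop.hom
      (Scheme.ΓSpecIso (CommRingCat.of k)).symm.commRingCatIsoToRingEquiv hp
    exact this
  letI := (strHom (CommRingCat.of k) p).hom.toAlgebra
  haveI : Algebra.Etale k Γ(T, ⊤) := hs
  haveI : Module.Finite k Γ(T, ⊤) := Algebra.FormallyUnramified.finite_of_free k _
  let e : T ≃ PrimeSpectrum Γ(T, ⊤) := T.isoSpec.hom.homeomorph.toEquiv
  haveI : Finite (PrimeSpectrum Γ(T, ⊤)) := Finite.of_equiv _ e
  refine ⟨‹_›, ?_⟩
  calc Module.finrank k Γ(T, ⊤) ≤ Nat.card (PrimeSpectrum Γ(T, ⊤)) :=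
        finrank_le_card_primeSpectrum_of_etale k _
    _ = Nat.card T := (Nat.card_congr e).symm
    _ ≤ n := hn

end Groth.Agent.Lib.BddFib_helper6
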