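import Groth.Agent.Lib.BddFib2_helper6

set_option autoImplicit false
universe u
open CategoryTheory CategoryTheory.Limits AlgebraicGeometry TensorProduct

namespace Groth.Agent.Lib.BddFib5_helper6

open BddFib Groth.Agent.Lib.BddFib_helper6 Groth.Agent.Lib.BddFib2_helper6

theorem sum_finrank_quotient_le (k B : Type u) [Field k] [CommRing B] [Algebra k B]
    [Module.Finite k B] [Fintype (PrimeSpectrum B)] :
    ∑ p : PrimeSpectrum B, Module.finrank k (B ⧸ p.asIdeal) ≤ Module.finrank k B := by
  classical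
  haveI : IsArtinianRing B := IsArtinianRing.of_finite k B
  let I : PrimeSpectrum B → Ideal B := fun p => p.asIdeal
  have hcop : Pairwise (Function.onFun IsCoprime I) := by
    intro p q hpq
    haveI := p.isPrime
    haveI := q.isPrime
    exact Ideal.isCoprime_iff_sup_eq.mpr (Ideal.IsMaximal.coprime_of_ne
      (IsArtinianRing.isMaximal_of_isPrime p.asIdeal)
      (IsArtinianRing.isMaximal_of_isPrime q.asIdeal) (fun h => hpq (PrimeSpectrum.ext h)))
  have hsurj := Ideal.quotientInfToPiQuotient_surj hcop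
  let F : B →ₗ[k] (∀ p, B ⧸ I p) :=
    LinearMap.pi (fun p => (Ideal.Quotient.mkₐ k (I p)).toLinearMap)
  have hF : Function.Surjective F := by
    intro y
    obtain ⟨x, hx⟩ := hsurj y
    obtain ⟨b, rfl⟩ := Ideal.Quotient.mk_surjective x
    refine ⟨b, ?_⟩
    rw [← hx]
    rfl
  have h1 : Module.finrank k (∀ p, B ⧸ I p) ≤ Module.finrank k B :=
    LinearMap.finrank_le_finrank_of_surjective hF
  rw [Module.finrank_pi_fintype] at h1
  exact h1

theorem residueDegree_comp_of_isIso {T S Y : Scheme.{u}} (e : T ⟶ S) [IsIso e] (q : S ⟶ Y)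
    (x : T) : (e ≫ q).residueDegree x = q.residueDegree (e x) := by
  letI a1 : Algebra (Y.residueField (q (e x))) (S.residueField (e x)) :=
    (q.residueFieldMap (e x)).hom.toAlgebra
  letI a2 : Algebra (Y.residueField ((e ≫ q) x)) (T.residueField x) :=
    ((e ≫ q).residueFieldMap x).hom.toAlgebra
  symm
  let i : Y.residueField (q (e x)) ≃+* Y.residueField ((e ≫ q) x) := RingEquiv.refl _
  refine @Algebra.finrank_eq_of_equiv_equiv _ _ _ _ a1 _ _ _ _ a2 i
    (asIso (e.residueFieldMap x)).commRingCatIsoToRingEquiv ?_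
  ext z
  show ((e ≫ q).residueFieldMap x).hom z = (e.residueFieldMap x).hom ((q.residueFieldMap (e x)).hom z)
  rw [Scheme.residueFieldMap_comp]
  rfl

theorem evalSpec_eq (R : CommRingCat.{u}) (y : Spec R) (w : R) :
    ((Scheme.ΓSpecIso R).inv ≫ (Spec R).Γevaluation y).hom w =
      (Scheme.Spec.residueFieldIso R y).inv.hom (algebraMap R y.asIdeal.ResidueField w) := by
  have h := Scheme.Spec.algebraMap_residueFieldIso_inv R y
  have h2 := congrArg (fun t => t.hom w) h
  exact h2.symm

theorem evalSpec_surjective (R : CommRingCat.{u}) (y : Spec R) [y.asIdeal.IsMaximal] :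
    Function.Surjective ((Scheme.ΓSpecIso R).inv ≫ (Spec R).Γevaluation y).hom := by
  intro z
  obtain ⟨w, hw⟩ := Ideal.algebraMap_residueField_surjective y.asIdeal
    ((Scheme.Spec.residueFieldIso R y).hom.hom z)
  refine ⟨w, ?_⟩
  rw [evalSpec_eq, hw]
  have := congrArg (fun t => t.hom z) (Scheme.Spec.residueFieldIso R y).hom_inv_id
  exact this

theorem evalSpec_eq_zero (R : CommRingCat.{u}) (y : Spec R) (w : R) (hw : w ∈ y.asIdeal) :
    ((Scheme.ΓSpecIso R).inv ≫ (Spec R).Γevaluation y).hom w = 0 := by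
  rw [evalSpec_eq, Ideal.algebraMap_residueField_eq_zero.mpr hw, map_zero]

theorem residueDegree_SpecMap_le (k : Type u) [Field k] (B : CommRingCat.{u})
    (φ : CommRingCat.of k ⟶ B) (y : Spec B)
    (hfin : letI := φ.hom.toAlgebra; Module.Finite k B) :
    (Spec.map φ).residueDegree y ≤
      (letI := φ.hom.toAlgebra; Module.finrank k (B ⧸ y.asIdeal)) := by
  letI := φ.hom.toAlgebra
  haveI := hfin
  haveI : IsArtinianRing B := IsArtinianRing.of_finite k B
  haveI := y.isPrime
  haveI : y.asIdeal.IsMaximal := IsArtinianRing.isMaximal_of_isPrime y.asIdeal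
  let q := Spec.map φ
  let ψ : B →+* (Spec B).residueField y :=
    ((Scheme.ΓSpecIso B).inv ≫ (Spec B).Γevaluation y).hom
  have hψ : Function.Surjective ψ := evalSpec_surjective B y
  have hψ0 : ∀ b ∈ y.asIdeal, ψ b = 0 := fun b hb => evalSpec_eq_zero B y b hb
  haveI := (q y).isPrime
  haveI : (q y).asIdeal.IsMaximal := IsArtinianRing.isMaximal_of_isPrime (q y).asIdeal
  let ι : k →+* (Spec (CommRingCat.of k)).residueField (q y) :=
    ((Scheme.ΓSpecIso (CommRingCat.of k)).inv ≫ (Spec (CommRingCat.of k)).Γevaluation (q y)).hom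
  have hι : Function.Bijective ι :=
    ⟨ι.injective, evalSpec_surjective (CommRingCat.of k) (q y)⟩
  have hcompat : ((q.residueFieldMap y).hom).comp ι = ψ.comp φ.hom := by
    have h1 := Scheme.Γevaluation_naturality q y
    have h2 := Scheme.ΓSpecIso_inv_naturality φ
    have h3 : (Scheme.ΓSpecIso (CommRingCat.of k)).inv ≫
        (Spec (CommRingCat.of k)).Γevaluation (q y) ≫ q.residueFieldMap y =
        φ ≫ (Scheme.ΓSpecIso B).inv ≫ (Spec B).Γevaluation y := by
      rw [h1, ← Category.assoc, ← Category.assoc, h2]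
    ext c
    exact congrArg (fun t => t.hom c) h3
  -- Step a
  letI a0 : Algebra ((Spec (CommRingCat.of k)).residueField (q y)) ((Spec B).residueField y) :=
    (q.residueFieldMap y).hom.toAlgebra
  letI a1 : Algebra k ((Spec B).residueField y) := (ψ.comp φ.hom).toAlgebra
  have ha : Module.finrank k ((Spec B).residueField y) = (Spec.map φ).residueDegree y := by
    refine Algebra.finrank_eq_of_equiv_equiv (RingEquiv.ofBijective ι hι) (RingEquiv.refl _) ?_
    ext c
    exact congrArg (fun t => t c) hcompat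
  rw [← ha]
  -- Step b
  let L : (B ⧸ y.asIdeal) →ₗ[k] ((Spec B).residueField y) :=
    { toFun := Ideal.Quotient.lift y.asIdeal ψ hψ0
      map_add' := map_add _
      map_smul' := by
        intro c x
        obtain ⟨b, rfl⟩ := Ideal.Quotient.mk_surjective x
        rw [Algebra.smul_def, Algebra.smul_def]
        show Ideal.Quotient.lift y.asIdeal ψ hψ0
            (Ideal.Quotient.mk y.asIdeal (φ.hom c) * Ideal.Quotient.mk y.asIdeal b) =
          (ψ.comp φ.hom) c * Ideal.Quotient.lift y.asIdeal ψ hψ0 (Ideal.Quotient.mk _ b)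
        rw [map_mul]
        rfl }
  have hL : Function.Surjective L := by
    intro z
    obtain ⟨b, rfl⟩ := hψ z
    exact ⟨Ideal.Quotient.mk _ b, rfl⟩
  exact LinearMap.finrank_le_finrank_of_surjective hL

theorem finsum_residueDegree_le_aux (k : Type u) [Field k] (B : CommRingCat.{u})
    (φ : CommRingCat.of k ⟶ B) {T : Scheme.{u}} (e : T ⟶ Spec B) [IsIso e] (n : ℕ)
    (hR : RkLE φ.hom n) :
    Finite T ∧ ∑ᶠ x : T, (e ≫ Spec.map φ).residueDegree x ≤ n := by
  classical
  letI := φ.hom.toAlgebra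
  haveI : Module.Finite k B := hR.1
  haveI : Finite (PrimeSpectrum B) := (finite_discrete_of_rkLE φ.hom n hR).1
  haveI : Finite (Spec B) := inferInstanceAs (Finite (PrimeSpectrum B))
  let E : T ≃ Spec B := (Scheme.Hom.homeomorph e).toEquiv
  haveI : Finite T := Finite.of_equiv _ E.symm
  refine ⟨inferInstance, ?_⟩
  have h1 : ∀ x : T, (e ≫ Spec.map φ).residueDegree x = (Spec.map φ).residueDegree (E x) :=
    fun x => residueDegree_comp_of_isIso e (Spec.map φ) x
  simp only [h1]
  rw [finsum_comp_equiv E (f := fun y => (Spec.map φ).residueDegree y)]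
  letI : Fintype (PrimeSpectrum B) := Fintype.ofFinite _
  letI : Fintype (Spec B) := inferInstanceAs (Fintype (PrimeSpectrum B))
  rw [finsum_eq_sum_of_fintype]
  calc ∑ y : Spec B, (Spec.map φ).residueDegree y
      ≤ ∑ y : PrimeSpectrum B, Module.finrank k (B ⧸ y.asIdeal) :=
        Finset.sum_le_sum (fun y _ => residueDegree_SpecMap_le k B φ y hR.1)
    _ ≤ Module.finrank k B := sum_finrank_quotient_le k B
    _ ≤ n := hR.2

theorem finsum_residueDegree_le (k : Type u) [Field k] {T : Scheme.{u}}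
    (p : T ⟶ Spec (CommRingCat.of k)) (n : ℕ) (H : FiniteOfDegLE (CommRingCat.of k) p n) :
    Finite T ∧ ∑ᶠ x : T, p.residueDegree x ≤ n := by
  rw [finiteOfDegLE_iff] at H
  obtain ⟨hA, hR⟩ := H
  have := finsum_residueDegree_le_aux k Γ(T, ⊤) (strHom (CommRingCat.of k) p) T.isoSpec.hom n hR
  rwa [← eq_isoSpec_comp p] at this

end Groth.Agent.Lib.BddFib5_helper6
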