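import Mathlib

/-!
# Unbounded finite subgroups of `Aˣ / Kˣ` from a purely inseparable element (helper3)
-/

set_option autoImplicit false
universe u v
open Polynomial

namespace Groth.Agent.Lib.BddFinUnitsH3

section

variable (K : Type u) [Field K] (p : ℕ) [Fact p.Prime] [CharP K p]
  (A : Type v) [DivisionRing A] [Algebra K A]
  (w : A) (hw : w ^ p ∈ (algebraMap K A).range) (hwK : w ∉ (algebraMap K A).range)

include hwK in
theorem lin_indep (a b : K) (h : algebraMap K A a + b • w = 0) : a = 0 ∧ b = 0 := by
  have hb : b = 0 := by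
    by_contra hb
    apply hwK
    refine ⟨-(b⁻¹ * a), ?_⟩
    have h1 : b • w = - algebraMap K A a := by
      rw [eq_neg_iff_add_eq_zero, add_comm]; exact h
    have h2 : w = b⁻¹ • (b • w) := by
      rw [smul_smul, inv_mul_cancel₀ hb, one_smul]
    rw [h2, h1, map_neg, map_mul, smul_neg, Algebra.smul_def]
  refine ⟨?_, hb⟩
  rw [hb, zero_smul, add_zero] at h
  exact (map_eq_zero (algebraMap K A)).mp h

include hw hwK in
theorem infinite_K : Infinite K := by
  by_contra hfin
  rw [not_infinite_iff_finite] at hfin
  haveI : Fintype K := Fintype.ofFinite K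
  obtain ⟨k, hk⟩ := hw
  haveI : PerfectRing K p := PerfectRing.ofFiniteOfIsReduced p K
  obtain ⟨c, hc⟩ := surjective_frobenius K p k
  rw [frobenius_def] at hc
  haveI : CharP A p := charP_of_injective_algebraMap (algebraMap K A).injective p
  have hcomm : Commute w (algebraMap K A c) := (Algebra.commutes c w).symm
  have h1 : (w - algebraMap K A c) ^ p = 0 := by
    rw [sub_pow_char_of_commute p hcomm, ← hk, ← hc, map_pow, sub_self]
  have h2 : w - algebraMap K A c = 0 := pow_eq_zero_iff (Fact.out : p.Prime).ne_zero |>.mp h1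
  exact hwK ⟨c, (sub_eq_zero.mp h2).symm⟩

include hw hwK in
theorem main (N : ℕ) :
    ∃ H : Subgroup Aˣ, (Units.map (algebraMap K A : K →* A)).range ≤ H ∧
      N < ((Units.map (algebraMap K A : K →* A)).range).relIndex H := by
  classical
  haveI : CharP A p := charP_of_injective_algebraMap (algebraMap K A).injective p
  haveI := infinite_K K p A w hw hwK
  set Z : Subgroup Aˣ := (Units.map (algebraMap K A : K →* A)).range with hZ
  have hZmem : ∀ x : Aˣ, x ∈ Z ↔ ∃ k : K, algebraMap K A k = (x : A) := by
    intro x
    constructor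
    · rintro ⟨k, rfl⟩
      exact ⟨(k : K), rfl⟩
    · rintro ⟨k, hk⟩
      have hk0 : k ≠ 0 := by
        rintro rfl
        rw [map_zero] at hk
        exact x.ne_zero hk.symm
      refine ⟨Units.mk0 k hk0, ?_⟩
      ext
      exact hk
  haveI hZn : Z.Normal := by
    constructor
    intro n hn g
    obtain ⟨k, hk⟩ := (hZmem n).mp hn
    have : g * n * g⁻¹ = n := by
      ext
      push_cast
      rw [← hk, ← Algebra.commutes k (g : A), mul_assoc, mul_inv_cancel₀ g.ne_zero, mul_one]
    rw [this]
    exact hn
  set π : Aˣ →* Aˣ ⧸ Z := QuotientGroup.mk' Z with hπ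
  have hπker : π.ker = Z := QuotientGroup.ker_mk' Z
  have hπsurj : Function.Surjective π := QuotientGroup.mk'_surjective Z
  -- the elements
  let c : Fin (N + 1) → K := fun i => Infinite.natEmbedding K i
  have hcinj : Function.Injective c := fun i j h =>
    Fin.ext ((Infinite.natEmbedding K).injective h)
  have hne : ∀ i, (1 : A) + c i • w ≠ 0 := by
    intro i h
    have h' : algebraMap K A 1 + c i • w = 0 := by rwa [map_one]
    exact one_ne_zero (lin_indep K A w hwK 1 (c i) h').1
  let u : Fin (N + 1) → Aˣ := fun i => Units.mk0 _ (hne i)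
  have hu : ∀ i, ((u i : Aˣ) : A) = 1 + c i • w := fun i => rfl
  have hucomm : ∀ i j, u i * u j = u j * u i := by
    intro i j
    ext
    push_cast
    rw [hu, hu]
    have h1 : Commute (c i • w) (c j • w) := ((Commute.refl w).smul_left (c i)).smul_right (c j)
    have h2 : Commute (1 + c i • w) (1 + c j • w) :=
      (Commute.one_left _).add_left ((Commute.one_right _).add_right h1)
    exact h2.eq
  have hupow : ∀ i, (u i) ^ p ∈ Z := by
    intro i
    obtain ⟨k, hk⟩ := hw
    rw [hZmem]
    refine ⟨1 + (c i) ^ p * k, ?_⟩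
    rw [Units.val_pow_eq_pow_val, hu, add_pow_char_of_commute p (Commute.one_left _), one_pow,
      _root_.smul_pow, ← hk, map_add, map_one, map_mul, map_pow, Algebra.smul_def, map_pow]
  have hπu_inj : Function.Injective (fun i => π (u i)) := by
    intro i j hij
    have h1 : (u i)⁻¹ * u j ∈ Z := by
      rw [← hπker, MonoidHom.mem_ker, map_mul, map_inv]
      simp only at hij
      rw [hij, inv_mul_cancel]
    obtain ⟨k, hk⟩ := (hZmem _).mp h1
    have h2 : ((u j : Aˣ) : A) = (u i : A) * algebraMap K A k := by
      rw [hk]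
      push_cast
      rw [← mul_assoc, mul_inv_cancel₀ (u i).ne_zero, one_mul]
    have h2' : (1 : A) + c j • w = algebraMap K A k + (c i * k) • w := by
      rw [← hu j, h2, hu i, add_mul, one_mul, smul_mul_assoc, ← Algebra.commutes k w,
        ← Algebra.smul_def, smul_smul]
    have h3 : algebraMap K A (1 - k) + (c j - c i * k) • w = 0 := by
      rw [map_sub, map_one, sub_smul]
      have : (1 - algebraMap K A k) + (c j • w - (c i * k) • w)
          = (1 + c j • w) - (algebraMap K A k + (c i * k) • w) := by abel
      rw [this, h2', sub_self]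
    obtain ⟨h4, h5⟩ := lin_indep K A w hwK _ _ h3
    have hk1 : k = 1 := (sub_eq_zero.mp h4).symm
    rw [hk1, mul_one, sub_eq_zero] at h5
    exact (hcinj h5).symm
  -- the subgroup of the quotient
  set T : Set (Aˣ ⧸ Z) := Set.range fun i => π (u i) with hT
  have hTcomm : ∀ x ∈ T, ∀ y ∈ T, x * y = y * x := by
    rintro _ ⟨i, rfl⟩ _ ⟨j, rfl⟩
    simp only
    rw [← map_mul, ← map_mul, hucomm]
  set S : Subgroup (Aˣ ⧸ Z) := Subgroup.closure T with hS
  haveI hScomm : IsMulCommutative S := Subgroup.isMulCommutative_closure hTcomm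
  have hSpow : ∀ x ∈ S, x ^ p = 1 := by
    intro x hx
    induction hx using Subgroup.closure_induction with
    | mem x hx =>
      obtain ⟨i, rfl⟩ := hx
      simp only
      rw [← map_pow, ← MonoidHom.mem_ker, hπker]
      exact hupow i
    | one => exact one_pow _
    | mul x y hx hy ihx ihy =>
      have hc : Commute x y := by
        have := hScomm.is_comm.comm (⟨x, hx⟩ : S) ⟨y, hy⟩
        exact congrArg Subtype.val this
      rw [hc.mul_pow, ihx, ihy, one_mul]
    | inv x hx ihx => rw [inv_pow, ihx, inv_one]
  haveI : Group.FG S := (Group.fg_iff_subgroup_fg S).mpr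
    ⟨Finset.univ.image (fun i => π (u i)), by rw [hS, hT]; simp⟩
  have htors : IsMulTorsion S := by
    intro g
    rw [isOfFinOrder_iff_pow_eq_one]
    refine ⟨p, (Fact.out : p.Prime).pos, ?_⟩
    ext
    push_cast
    exact hSpow g.1 g.2
  letI : CommGroup S := { (inferInstance : Group S) with mul_comm := hScomm.is_comm.comm }
  haveI : Finite S := CommGroup.finite_of_fg_isMulTorsion _ htors
  have hcard : N + 1 ≤ Nat.card S := by
    let ι : Fin (N + 1) → S := fun i => ⟨π (u i), Subgroup.subset_closure ⟨i, rfl⟩⟩
    have hι : Function.Injective ι := by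
      intro i j hij
      exact hπu_inj (congrArg Subtype.val hij)
    have := Nat.card_le_card_of_injective ι hι
    rwa [Nat.card_fin] at this
  refine ⟨S.comap π, ?_, ?_⟩
  · exact hπker.symm.le.trans (MonoidHom.ker_le_comap π S)
  · have h1 : ((⊥ : Subgroup (Aˣ ⧸ Z)).comap π).relIndex (S.comap π) = Nat.card S := by
      rw [Subgroup.relIndex_comap, Subgroup.map_comap_eq_self_of_surjective hπsurj,
        Subgroup.relIndex_bot_left]
    rw [MonoidHom.comap_bot, hπker] at h1
    rw [h1]
    omega

end

end Groth.Agent.Lib.BddFinUnitsH3
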