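import Mathlib
import Groth.Prelude
import Groth.Agent.Lib.HomVan3_lead
import Groth.Agent.Lib.RpushQC3_lead
import Groth.Agent.Lib.RDerTri_helper3
import Groth.Agent.Lib.MVPush3_lead

/-!
# The right adjoint of `Rf_*` on `D_QCoh` is bounded below (helper3; S1767)

* `exists_bound`: for `f` qcqs with quasi-compact target there is `N` with
  `Rf_* (D_QCoh^{≤ n}) ⊆ D^{≤ n + N - 1}`.
* `main1767`.
-/

set_option autoImplicit false
set_option linter.all false
set_option maxHeartbeats 1600000
set_option backward.isDefEq.respectTransparency false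
set_option backward.isDefEq.respectTransparency.types false
set_option backward.defeqAttrib.useBackward true

universe u
open CategoryTheory CategoryTheory.Limits AlgebraicGeometry Opposite TopologicalSpace
open DerivedCategory CategoryTheory.Pretriangulated

attribute [local instance] HasDerivedCategory.standard

namespace Groth.Agent.Lib.RAdjBdH3

open Groth.Agent.Lib.HomVanL Groth.Agent.Lib.RpushQCL

noncomputable section

variable {X Y : Scheme.{u}} (f : X ⟶ Y)

/-- `Rf_*` has bounded cohomological amplitude on `D_QCoh` -/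
theorem exists_bound [QuasiCompact f] [QuasiSeparated f] [CompactSpace Y] [DCoh.HasRpush f] :
    ∃ N : ℕ, ∀ (E : DCoh.D X) (n : ℤ), DCoh.IsQCohD E → E.IsLE n →
      ((DCoh.Rpush f).obj E).IsLE (n + N - 1) := by
  haveI := Groth.Agent.Lib.MVPushL.grothendieck_modules X
  obtain ⟨N₀, hN₀⟩ := main0999 f
  refine ⟨N₀.toNat, fun E n hE hn => ?_⟩
  rw [DerivedCategory.isLE_iff]
  intro i hi
  haveI := hn
  have h1 : (E⟦n⟧).IsLE 0 := TStructure.t.isLE_shift E n n 0 (by omega)
  have h2 : DCoh.IsQCohD (E⟦n⟧) := isQCohD_shift E hE n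
  have h3 := hN₀ (E⟦n⟧) h2 h1 (i - n) (by have := Int.self_le_toNat N₀; omega)
  obtain ⟨e⟩ := Groth.Agent.Lib.RDerTriH3.nonempty_shift_iso (Scheme.Modules.pushforward f) E n
  have h4 : IsZero (DCoh.HD (((DCoh.Rpush f).obj E)⟦n⟧) (i - n)) :=
    IsZero.of_iso h3 ((homologyFunctor Y.Modules (i - n)).mapIso e.symm)
  exact IsZero.of_iso h4
    (((homologyFunctor Y.Modules 0).shiftIso n (i - n) i (by omega)).app
      ((DCoh.Rpush f).obj E)).symm

/-- **S1767** -/
theorem main1767 (X Y : Scheme.{u}) [CompactSpace X] [QuasiSeparatedSpace X] [CompactSpace Y]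
    [QuasiSeparatedSpace Y] (f : X ⟶ Y) [DCoh.HasRpush f]
    (h : ∀ K : DCoh.D X, DCoh.IsQCohD K → DCoh.IsQCohD ((DCoh.Rpush f).obj K))
    (a : DCoh.DQCoh Y ⥤ DCoh.DQCoh X)
    (adj : (ObjectProperty.lift DCoh.IsQCohD (ObjectProperty.ι DCoh.IsQCohD ⋙ DCoh.Rpush f)
      (fun K => h K.obj K.property)) ⊣ a) :
    ∃ N : ℕ, ∀ (K : DCoh.DQCoh Y) (c : ℤ), (∀ i : ℤ, i ≤ c → IsZero (DCoh.HD K.obj i)) →
      ∀ i : ℤ, i ≤ c - N → IsZero (DCoh.HD (a.obj K).obj i) := by
  haveI : QuasiCompact f := inferInstance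
  haveI : QuasiSeparated f := inferInstance
  obtain ⟨N, hN⟩ := exists_bound f
  refine ⟨N, fun K c hK i hi => ?_⟩
  let A : DCoh.D X := (a.obj K).obj
  have hA : DCoh.IsQCohD A := (a.obj K).property
  let n : ℤ := c - N
  let T : DCoh.D X := ((tX X).truncLE n).obj A
  let ι : T ⟶ A := ((tX X).truncLEι n).app A
  have hT : DCoh.IsQCohD T := isQCohD_truncLE A hA n
  haveI hTle : T.IsLE n := by dsimp only [T]; infer_instance
  have hRle : ((DCoh.Rpush f).obj T).IsLE (c - 1) := by
    have := hN T n hT hTle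
    rwa [show n + (N : ℤ) - 1 = c - 1 by dsimp only [n]; ring] at this
  have hKge : K.obj.IsGE (c + 1) := by
    rw [DerivedCategory.isGE_iff]
    exact fun j hj => hK j (by omega)
  -- all maps `Rf_* T ⟶ K` vanish
  have hzero : ∀ φ : (DCoh.Rpush f).obj T ⟶ K.obj, φ = 0 := fun φ => by
    exact TStructure.t.zero_of_isLE_of_isGE φ (c - 1) (c + 1) (by omega) hRle hKge
  let T' : DCoh.DQCoh X := ⟨T, hT⟩
  let ι' : T' ⟶ a.obj K := ObjectProperty.homMk ι
  let ι₀ : T' ⟶ a.obj K := ObjectProperty.homMk 0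
  have heq : ι' = ι₀ := by
    apply (adj.homEquiv T' K).symm.injective
    apply ObjectProperty.hom_ext
    exact (hzero _).trans (hzero _).symm
  have hι : ι = 0 := congrArg (fun g => g.hom) heq
  haveI : IsIso ((homologyFunctor X.Modules i).map ι) :=
    Groth.Agent.Lib.TruncSect_helper7.isIso_homology_truncLTι A (n + 1) i (by dsimp only [n]; omega)
  have hz : (homologyFunctor X.Modules i).map ι = 0 := by
    rw [hι, Functor.map_zero]
  rw [IsZero.iff_id_eq_zero]
  exact (IsIso.inv_hom_id ((homologyFunctor X.Modules i).map ι)).symm.trans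
    ((congrArg (fun t => inv ((homologyFunctor X.Modules i).map ι) ≫ t) hz).trans comp_zero)

end

end Groth.Agent.Lib.RAdjBdH3
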