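import Mathlib
import Groth.Prelude
import Groth.Agent.Lib.Kosz2_lead

/-!
# The Koszul object on `Spec A` and `Rj_*` from the punctured open (lead; S1044 S1045 S1095 S1096)

APPEND-ONLY once landed.
-/

set_option autoImplicit false
set_option linter.all false
set_option maxHeartbeats 1600000
set_option backward.isDefEq.respectTransparency false
set_option backward.isDefEq.respectTransparency.types false
set_option backward.defeqAttrib.useBackward true

universe u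
open CategoryTheory CategoryTheory.Limits AlgebraicGeometry Opposite TopologicalSpace
open DerivedCategory CategoryTheory.Pretriangulated
attribute [local instance] HasDerivedCategory.standard

namespace Groth.Agent.Lib.KoszL

open Groth.Agent.Lib Groth.Agent.Lib.HomVanL Groth.Agent.Lib.DCohLocLead Groth.Agent.Lib.PerfLocL
open Groth.Agent.Lib.StalkSkyL Groth.Agent.Lib.MVPushL

noncomputable section

section Core

variable (A : Type u) [CommRing A] (fs : List A)
  [PreservesFiniteLimits (tilde.functor (CommRingCat.of A))]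

/-- the Koszul object on `Spec A` -/
abbrev KX : DCoh.D (Spec (CommRingCat.of A)) :=
  (DCoh.tildeD (CommRingCat.of A)).obj (Kz fs)

theorem exists_tildeD_iso (L : DCoh.D (Spec (CommRingCat.of A))) (hL : DCoh.IsQCohD L) :
    ∃ N : DerivedCategory (ModuleCat.{u} A),
      Nonempty ((DCoh.tildeD (CommRingCat.of A)).obj N ≅ L) :=
  ((DSectX.main0997 (CommRingCat.of A)).2.2 L).1 hL

theorem noHom_tildeD_iff (P N : DerivedCategory (ModuleCat.{u} A)) (m : ℤ) :
    NoHom (((DCoh.tildeD (CommRingCat.of A)).obj P)⟦m⟧)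
      ((DCoh.tildeD (CommRingCat.of A)).obj N) ↔ NoHom (P⟦m⟧) N := by
  obtain ⟨hfull, hfaith, -⟩ := DSectX.main0997 (CommRingCat.of A)
  haveI := hfull
  haveI := hfaith
  let θ : (DCoh.tildeD (CommRingCat.of A)).obj (P⟦m⟧) ≅
      ((DCoh.tildeD (CommRingCat.of A)).obj P)⟦m⟧ :=
    ((DCoh.tildeD (CommRingCat.of A)).commShiftIso m).app P
  constructor
  · intro h φ
    apply (DCoh.tildeD (CommRingCat.of A)).map_injective
    rw [Functor.map_zero]
    exact (h.of_iso_left θ.symm) _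
  · intro h
    refine NoHom.of_iso_left ?_ θ
    intro φ
    obtain ⟨ψ, rfl⟩ := (DCoh.tildeD (CommRingCat.of A)).map_surjective φ
    rw [h ψ, Functor.map_zero]

theorem isZero_DD_KX : IsZero ((DD (UA A fs).ι).obj (KX A fs)) := by
  apply isZero_of_forall_isZero_homology
  intro i
  obtain ⟨e1⟩ := nonempty_HD_restrict_iso (UA A fs).ι (KX A fs) i
  obtain ⟨e2⟩ := nonempty_homology_mapExact_iso (tilde.functor (CommRingCat.of A)) (Kz fs) i
  refine IsZero.of_iso ?_ e1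
  refine IsZero.of_iso ?_ ((Scheme.Modules.restrictFunctor (UA A fs).ι).mapIso e2)
  exact isZero_restrict_of_HTm A fs _ (fun f hf => HT_Kz fs f hf i)

theorem vr_KX : VR (KX A fs) (-(fs.length : ℤ)) 0 := by
  intro m K' hc L hL hz
  obtain ⟨c⟩ := hc
  refine NoHom.of_iso_left ?_ c.symm
  obtain ⟨N, ⟨e⟩⟩ := exists_tildeD_iso A L hL
  refine NoHom.of_iso_right ?_ e
  rw [noHom_tildeD_iff]
  apply noHom_Kz_shift
  intro i h1 h2
  obtain ⟨c2⟩ := nonempty_homology_mapExact_iso (tilde.functor (CommRingCat.of A)) N i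
  apply HomVanL.isZero_of_isZero_tilde (CommRingCat.of A)
  exact ((hz i (by omega) (by omega)).of_iso ((homologyFunctor _ i).mapIso e)).of_iso c2.symm

/-- a quasi-coherent object vanishing on `U` whose maps from `K[m]` vanish has `H^{-m} = 0` -/
theorem isZero_HD_of_noHom_KX (C' : DCoh.D (Spec (CommRingCat.of A))) (hC : DCoh.IsQCohD C')
    (hz : IsZero ((DD (UA A fs).ι).obj C')) (m i : ℤ) (hi : m + i = 0)
    (h : NoHom ((KX A fs)⟦m⟧) C') : IsZero (DCoh.HD C' i) := by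
  obtain ⟨N, ⟨e⟩⟩ := exists_tildeD_iso A C' hC
  have hN : ∀ f ∈ fs, ∀ i : ℤ, HT f N i := by
    intro f hf i
    obtain ⟨e1⟩ := nonempty_HD_restrict_iso (UA A fs).ι C' i
    obtain ⟨e2⟩ := nonempty_homology_mapExact_iso (tilde.functor (CommRingCat.of A)) N i
    refine HTm_of_isZero_restrict A fs _ ?_ f hf
    have h1 : IsZero ((Scheme.Modules.restrictFunctor (UA A fs).ι).obj (DCoh.HD C' i)) :=
      ((homologyFunctor _ i).map_isZero hz).of_iso e1.symm
    exact h1.of_iso ((Scheme.Modules.restrictFunctor (UA A fs).ι).mapIso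
      (e2.symm ≪≫ (homologyFunctor _ i).mapIso e))
  have h1 : NoHom ((Kz fs)⟦m⟧) N := (noHom_tildeD_iff A (Kz fs) N m).1 (h.of_iso_right e.symm)
  have h2 := isZero_H_of_noHom_Kz_shift fs N hN m i hi h1
  obtain ⟨e2⟩ := nonempty_homology_mapExact_iso (tilde.functor (CommRingCat.of A)) N i
  have h3 : IsZero ((tilde.functor (CommRingCat.of A)).obj
      ((homologyFunctor (ModuleCat.{u} A) i).obj N)) :=
    (tilde.functor (CommRingCat.of A)).map_isZero h2
  exact (h3.of_iso e2).of_iso ((homologyFunctor _ i).mapIso e.symm)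

variable [DCoh.HasRpush (UA A fs).ι]

theorem noHom_KX_Rpush (adj : DD (UA A fs).ι ⊣ DCoh.Rpush (UA A fs).ι) (n : ℤ)
    (M : DCoh.D ((UA A fs : (Spec (CommRingCat.of A)).Opens) : Scheme.{u})) :
    NoHom ((KX A fs)⟦n⟧) ((DCoh.Rpush (UA A fs).ι).obj M) := by
  apply NoHom.of_adj adj
  apply NoHom.of_isZero_left
  exact IsZero.of_iso ((shiftFunctor _ n).map_isZero (isZero_DD_KX A fs))
    (((DD (UA A fs).ι).commShiftIso n).app (KX A fs))

theorem isQCohD_Rpush_DD (E : DCoh.D (Spec (CommRingCat.of A))) (hE : DCoh.IsQCohD E) :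
    DCoh.IsQCohD ((DCoh.Rpush (UA A fs).ι).obj ((DD (UA A fs).ι).obj E)) :=
  RpushQCL.main0998 (UA A fs).ι _ (LpullQCL.isQCohD_restrictD (UA A fs).ι E hE)

/-- the cone of the unit restricts to zero on `U` -/
theorem isZero_DD_cone (adj : DD (UA A fs).ι ⊣ DCoh.Rpush (UA A fs).ι)
    (E : DCoh.D (Spec (CommRingCat.of A))) {C' : DCoh.D (Spec (CommRingCat.of A))}
    (b : (DCoh.Rpush (UA A fs).ι).obj ((DD (UA A fs).ι).obj E) ⟶ C') (c : C' ⟶ E⟦(1 : ℤ)⟧)
    (hT : Triangle.mk (adj.unit.app E) b c ∈ distTriang _) :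
    IsZero ((DD (UA A fs).ι).obj C') := by
  obtain ⟨κ⟩ := nonempty_Rpush_comp_DD_iso_id (UA A fs).ι
  haveI : IsIso adj.counit := adj.isIso_counit_of_iso κ
  obtain ⟨η, hη⟩ : ∃ η : E ⟶ (DCoh.Rpush (UA A fs).ι).obj ((DD (UA A fs).ι).obj E),
      η = adj.unit.app E := ⟨_, rfl⟩
  obtain ⟨ε, hε⟩ : ∃ ε : (DD (UA A fs).ι).obj ((DCoh.Rpush (UA A fs).ι).obj
      ((DD (UA A fs).ι).obj E)) ⟶ (DD (UA A fs).ι).obj E,
      ε = adj.counit.app ((DD (UA A fs).ι).obj E) := ⟨_, rfl⟩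
  haveI : IsIso ε := by
    rw [hε]
    exact NatIso.isIso_app_of_isIso adj.counit _
  have hh : (DD (UA A fs).ι).map η ≫ ε = 𝟙 ((DD (UA A fs).ι).obj E) := by
    rw [hη, hε]
    exact adj.left_triangle_components E
  have h2 : IsIso ((DD (UA A fs).ι).map η) := IsIso.of_isIso_fac_right hh
  rw [hη] at h2
  have hT' := (DD (UA A fs).ι).map_distinguished _ hT
  exact (Triangle.isZero₃_iff_isIso₁ _ hT').2 h2

theorem isZero_HD_cone (adj : DD (UA A fs).ι ⊣ DCoh.Rpush (UA A fs).ι)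
    (E : DCoh.D (Spec (CommRingCat.of A))) (hE : DCoh.IsQCohD E)
    {C' : DCoh.D (Spec (CommRingCat.of A))}
    (b : (DCoh.Rpush (UA A fs).ι).obj ((DD (UA A fs).ι).obj E) ⟶ C') (c : C' ⟶ E⟦(1 : ℤ)⟧)
    (hT : Triangle.mk (adj.unit.app E) b c ∈ distTriang _) (n i : ℤ) (hi : i + 1 = n)
    (h : NoHom ((KX A fs)⟦-n⟧) E) : IsZero (DCoh.HD C' i) := by
  have hR := isQCohD_Rpush_DD A fs E hE
  have hC : DCoh.IsQCohD C' := RpushQCL.isQCohD_obj₃ _ hT hE hR
  have hz := isZero_DD_cone A fs adj E b c hT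
  refine isZero_HD_of_noHom_KX A fs C' hC hz (-i) i (by omega) ?_
  have h3' : NoHom (((KX A fs)⟦-n⟧)⟦(1 : ℤ)⟧)
      ((DCoh.Rpush (UA A fs).ι).obj ((DD (UA A fs).ι).obj E)) :=
    (noHom_KX_Rpush A fs adj (-i) _).of_iso_left
      ((shiftFunctorAdd' _ (-n) 1 (-i) (by omega)).app (KX A fs))
  have h3 : NoHom ((KX A fs)⟦-n⟧)
      (((DCoh.Rpush (UA A fs).ι).obj ((DD (UA A fs).ι).obj E))⟦(-1 : ℤ)⟧) :=
    NoHom.shift_right (-1) 1 (by omega) h3'
  have h4 : NoHom ((KX A fs)⟦-n⟧) (C'⟦(-1 : ℤ)⟧) :=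
    NoHom.of_triangle_inv (Triangle.mk (adj.unit.app E) b c).invRotate
      (inv_rot_of_distTriang _ hT) h h3
  have h5 : NoHom (((KX A fs)⟦-n⟧)⟦(1 : ℤ)⟧) C' := NoHom.shift_left' 1 (-1) (by omega) h4
  exact h5.of_iso_left ((shiftFunctorAdd' _ (-n) 1 (-i) (by omega)).app (KX A fs)).symm

theorem isIso_homology_unit (adj : DD (UA A fs).ι ⊣ DCoh.Rpush (UA A fs).ι)
    (E : DCoh.D (Spec (CommRingCat.of A))) (hE : DCoh.IsQCohD E) (k : ℤ)
    (h1 : NoHom ((KX A fs)⟦-k⟧) E) (h2 : NoHom ((KX A fs)⟦-(k + 1)⟧) E) :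
    IsIso ((homologyFunctor (Spec (CommRingCat.of A)).Modules k).map (adj.unit.app E)) := by
  obtain ⟨C', b, c, hT⟩ := distinguished_cocone_triangle (adj.unit.app E)
  have hz1 : IsZero (DCoh.HD C' (k - 1)) :=
    isZero_HD_cone A fs adj E hE b c hT k (k - 1) (by omega) h1
  have hz2 : IsZero (DCoh.HD C' k) :=
    isZero_HD_cone A fs adj E hE b c hT (k + 1) k rfl h2
  haveI : Epi ((homologyFunctor (Spec (CommRingCat.of A)).Modules k).map (adj.unit.app E)) :=
    (HomologySequence.epi_homologyMap_mor₁_iff (Triangle.mk (adj.unit.app E) b c) hT k).2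
      (hz2.eq_of_tgt _ _)
  haveI : Mono ((homologyFunctor (Spec (CommRingCat.of A)).Modules k).map (adj.unit.app E)) :=
    (HomologySequence.mono_homologyMap_mor₁_iff (Triangle.mk (adj.unit.app E) b c) hT
      (k - 1) k (by omega)).2 (hz1.eq_of_src _ _)
  exact isIso_of_mono_of_epi _

theorem part2_LE (adj : DD (UA A fs).ι ⊣ DCoh.Rpush (UA A fs).ι)
    (E : DCoh.D (Spec (CommRingCat.of A))) (hE : DCoh.IsQCohD E) (a : ℤ)
    (h : IsIso (((tX (Spec (CommRingCat.of A))).truncLE (a - 1)).map (adj.unit.app E)))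
    (n : ℤ) (hn : n ≤ a - 1) : NoHom ((KX A fs)⟦-n⟧) E := by
  have hR := isQCohD_Rpush_DD A fs E hE
  have hTR : ((tX (Spec (CommRingCat.of A))).triangleLEGE (a - 1) a (by omega)).obj
      ((DCoh.Rpush (UA A fs).ι).obj ((DD (UA A fs).ι).obj E)) ∈ distTriang _ :=
    (tX _).triangleLEGE_distinguished (a - 1) a (by omega) _
  have hTE : ((tX (Spec (CommRingCat.of A))).triangleLEGE (a - 1) a (by omega)).obj E ∈
      distTriang _ := (tX _).triangleLEGE_distinguished (a - 1) a (by omega) _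
  have hG := isQCohD_truncGE _ hR a
  have h2 : NoHom ((KX A fs)⟦-n⟧)
      ((DCoh.Rpush (UA A fs).ι).obj ((DD (UA A fs).ι).obj E)) := noHom_KX_Rpush A fs adj (-n) _
  have h3 : NoHom ((KX A fs)⟦-n⟧) ((((tX (Spec (CommRingCat.of A))).truncGE a).obj
      ((DCoh.Rpush (UA A fs).ι).obj ((DD (UA A fs).ι).obj E)))⟦(-1 : ℤ)⟧) := by
    refine (vr_KX A fs).noHom_shift (-n) _ (isQCohD_shift _ hG (-1)) (fun j hj1 hj2 => ?_)
    exact isZero_HD_shift _ (-1) j
      (DerivedCategory.isZero_of_isGE (((tX (Spec (CommRingCat.of A))).truncGE a).obj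
        ((DCoh.Rpush (UA A fs).ι).obj ((DD (UA A fs).ι).obj E))) a (-1 + j) (by omega))
  have h4 : NoHom ((KX A fs)⟦-n⟧) (((tX (Spec (CommRingCat.of A))).truncLE (a - 1)).obj
      ((DCoh.Rpush (UA A fs).ι).obj ((DD (UA A fs).ι).obj E))) :=
    NoHom.of_triangle_inv (((tX (Spec (CommRingCat.of A))).triangleLEGE (a - 1) a (by omega)).obj
      ((DCoh.Rpush (UA A fs).ι).obj ((DD (UA A fs).ι).obj E))) hTR h2 h3
  haveI := h
  have h5 : NoHom ((KX A fs)⟦-n⟧) (((tX (Spec (CommRingCat.of A))).truncLE (a - 1)).obj E) :=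
    h4.of_iso_right
      (asIso (((tX (Spec (CommRingCat.of A))).truncLE (a - 1)).map (adj.unit.app E))).symm
  have h6 : NoHom ((KX A fs)⟦-n⟧) (((tX (Spec (CommRingCat.of A))).truncGE a).obj E) :=
    (vr_KX A fs).noHom_shift (-n) _ (isQCohD_truncGE E hE a) (fun j hj1 hj2 =>
      DerivedCategory.isZero_of_isGE (((tX (Spec (CommRingCat.of A))).truncGE a).obj E) a j
        (by omega))
  exact NoHom.ext_right (((tX (Spec (CommRingCat.of A))).triangleLEGE (a - 1) a (by omega)).obj E)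
    hTE h5 h6

theorem part2_GE (adj : DD (UA A fs).ι ⊣ DCoh.Rpush (UA A fs).ι)
    (E : DCoh.D (Spec (CommRingCat.of A))) (hE : DCoh.IsQCohD E) (a : ℤ)
    (h : IsIso (((tX (Spec (CommRingCat.of A))).truncGE a).map (adj.unit.app E)))
    (n : ℤ) (hn : a + (fs.length : ℤ) ≤ n) : NoHom ((KX A fs)⟦-n⟧) E := by
  have hR := isQCohD_Rpush_DD A fs E hE
  have hTR : ((tX (Spec (CommRingCat.of A))).triangleLEGE (a - 1) a (by omega)).obj
      ((DCoh.Rpush (UA A fs).ι).obj ((DD (UA A fs).ι).obj E)) ∈ distTriang _ :=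
    (tX _).triangleLEGE_distinguished (a - 1) a (by omega) _
  have hTE : ((tX (Spec (CommRingCat.of A))).triangleLEGE (a - 1) a (by omega)).obj E ∈
      distTriang _ := (tX _).triangleLEGE_distinguished (a - 1) a (by omega) _
  have hL := isQCohD_truncLE _ hR (a - 1)
  have h2 : NoHom ((KX A fs)⟦-n⟧)
      ((DCoh.Rpush (UA A fs).ι).obj ((DD (UA A fs).ι).obj E)) := noHom_KX_Rpush A fs adj (-n) _
  have h3 : NoHom ((KX A fs)⟦-n⟧) ((((tX (Spec (CommRingCat.of A))).truncLE (a - 1)).obj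
      ((DCoh.Rpush (UA A fs).ι).obj ((DD (UA A fs).ι).obj E)))⟦(1 : ℤ)⟧) := by
    refine (vr_KX A fs).noHom_shift (-n) _ (isQCohD_shift _ hL 1) (fun j hj1 hj2 => ?_)
    exact isZero_HD_shift _ 1 j
      (DerivedCategory.isZero_of_isLE (((tX (Spec (CommRingCat.of A))).truncLE (a - 1)).obj
        ((DCoh.Rpush (UA A fs).ι).obj ((DD (UA A fs).ι).obj E))) (a - 1) (1 + j) (by omega))
  have h4 : NoHom ((KX A fs)⟦-n⟧) (((tX (Spec (CommRingCat.of A))).truncGE a).obj
      ((DCoh.Rpush (UA A fs).ι).obj ((DD (UA A fs).ι).obj E))) :=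
    NoHom.ext_right (((tX (Spec (CommRingCat.of A))).triangleLEGE (a - 1) a (by omega)).obj
      ((DCoh.Rpush (UA A fs).ι).obj ((DD (UA A fs).ι).obj E))).rotate
      (rot_of_distTriang _ hTR) h2 h3
  haveI := h
  have h5 : NoHom ((KX A fs)⟦-n⟧) (((tX (Spec (CommRingCat.of A))).truncGE a).obj E) :=
    h4.of_iso_right
      (asIso (((tX (Spec (CommRingCat.of A))).truncGE a).map (adj.unit.app E))).symm
  have h6 : NoHom ((KX A fs)⟦-n⟧) (((tX (Spec (CommRingCat.of A))).truncLE (a - 1)).obj E) :=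
    (vr_KX A fs).noHom_shift (-n) _ (isQCohD_truncLE E hE (a - 1)) (fun j hj1 hj2 =>
      DerivedCategory.isZero_of_isLE (((tX (Spec (CommRingCat.of A))).truncLE (a - 1)).obj E)
        (a - 1) j (by omega))
  exact NoHom.ext_right (((tX (Spec (CommRingCat.of A))).triangleLEGE (a - 1) a (by omega)).obj E)
    hTE h6 h5

/-- **S1044** -/
theorem main1044 (E : DCoh.D (Spec (CommRingCat.of A))) (hE : DCoh.IsQCohD E) :
    (∃ M : DCoh.D ((UA A fs : (Spec (CommRingCat.of A)).Opens) : Scheme.{u}), DCoh.IsQCohD M ∧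
        Nonempty (E ≅ (DCoh.Rpush (UA A fs).ι).obj M)) ↔
    ∀ (n : ℤ) (φ : (KX A fs)⟦n⟧ ⟶ E), φ = 0 := by
  obtain ⟨adj⟩ := nonempty_adj_DD (UA A fs).ι
  constructor
  · rintro ⟨M, -, ⟨e⟩⟩ n
    exact (noHom_KX_Rpush A fs adj n M).of_iso_right e.symm
  · intro h
    refine ⟨(DD (UA A fs).ι).obj E, LpullQCL.isQCohD_restrictD (UA A fs).ι E hE, ?_⟩
    haveI : IsIso (adj.unit.app E) := by
      rw [DerivedCategory.isIso_iff]
      intro k
      exact isIso_homology_unit A fs adj E hE k (h (-k)) (h (-(k + 1)))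
    exact ⟨asIso (adj.unit.app E)⟩

/-- **S1095** -/
theorem main1095 (adj : DD (UA A fs).ι ⊣ DCoh.Rpush (UA A fs).ι)
    (E : DCoh.D (Spec (CommRingCat.of A))) (hE : DCoh.IsQCohD E) (a : ℤ) :
    ((∀ n : ℤ, n ≤ a → ∀ φ : (KX A fs)⟦-n⟧ ⟶ E, φ = 0) →
      IsIso (((tX (Spec (CommRingCat.of A))).truncLE (a - 1)).map (adj.unit.app E))) ∧
    (IsIso (((tX (Spec (CommRingCat.of A))).truncLE (a - 1)).map (adj.unit.app E)) →
      ∀ n : ℤ, n ≤ a - 1 → ∀ φ : (KX A fs)⟦-n⟧ ⟶ E, φ = 0) := by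
  constructor
  · intro h
    apply isIso_truncLE_map
    intro k hk
    exact isIso_homology_unit A fs adj E hE k (h k (by omega)) (h (k + 1) (by omega))
  · intro h n hn
    exact part2_LE A fs adj E hE a h n hn

/-- **S1096** -/
theorem main1096 (adj : DD (UA A fs).ι ⊣ DCoh.Rpush (UA A fs).ι)
    (E : DCoh.D (Spec (CommRingCat.of A))) (hE : DCoh.IsQCohD E) (a : ℤ) :
    ((∀ n : ℤ, a ≤ n → ∀ φ : (KX A fs)⟦-n⟧ ⟶ E, φ = 0) →
      IsIso (((tX (Spec (CommRingCat.of A))).truncGE a).map (adj.unit.app E))) ∧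
    (IsIso (((tX (Spec (CommRingCat.of A))).truncGE a).map (adj.unit.app E)) →
      ∀ n : ℤ, a + (fs.length : ℤ) ≤ n → ∀ φ : (KX A fs)⟦-n⟧ ⟶ E, φ = 0) := by
  constructor
  · intro h
    apply isIso_truncGE_map
    intro k hk
    exact isIso_homology_unit A fs adj E hE k (h k (by omega)) (h (k + 1) (by omega))
  · intro h n hn
    exact part2_GE A fs adj E hE a h n hn

end Core

section Factor

variable (A : Type u) [CommRing A] (fs : List A)
  [PreservesFiniteLimits (tilde.functor (CommRingCat.of A))]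

/-- **S1045** -/
theorem main1045 (E : DCoh.D (Spec (CommRingCat.of A))) (hE : DCoh.IsQCohD E)
    (hU : ∀ i : ℤ, -(fs.length : ℤ) < i → i ≤ 0 →
      IsZero ((DCoh.HD E i).restrict (UA A fs).ι))
    (s : DCoh.inD (Spec (CommRingCat.of A)) (Coh.structureModule (Spec (CommRingCat.of A))) ⟶ E) :
    ∃ (e : ℕ) (ψ : KX A (fs.map (fun a => a ^ e)) ⟶ E)
      (t : DCoh.inD (Spec (CommRingCat.of A)) (Coh.structureModule (Spec (CommRingCat.of A))) ⟶
        KX A (fs.map (fun a => a ^ e))), t ≫ ψ = s := by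
  obtain ⟨hfull, hfaith, -⟩ := DSectX.main0997 (CommRingCat.of A)
  haveI := hfull
  obtain ⟨N, ⟨e⟩⟩ := exists_tildeD_iso A E hE
  have hN : ∀ f ∈ fs, ∀ i : ℤ, -(fs.length : ℤ) < i → i ≤ 0 → HT f N i := by
    intro f hf i h1 h2
    obtain ⟨c2⟩ := nonempty_homology_mapExact_iso (tilde.functor (CommRingCat.of A)) N i
    refine HTm_of_isZero_restrict A fs _ ?_ f hf
    exact (hU i h1 h2).of_iso ((Scheme.Modules.restrictFunctor (UA A fs).ι).mapIso
      (c2.symm ≪≫ (homologyFunctor _ i).mapIso e))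
  let c : DCoh.inD (Spec (CommRingCat.of A)) (Coh.structureModule (Spec (CommRingCat.of A))) ≅
      (DCoh.tildeD (CommRingCat.of A)).obj (SA A) :=
    (((tilde.functor (CommRingCat.of A)).mapDerivedCategorySingleFunctor 0).app
      (ModuleCat.of A A)).symm
  obtain ⟨s', hs'⟩ := (DCoh.tildeD (CommRingCat.of A)).map_surjective (c.inv ≫ s ≫ e.inv)
  obtain ⟨k, ψ', hψ'⟩ := exists_factor fs N hN s'
  refine ⟨k, (DCoh.tildeD (CommRingCat.of A)).map ψ' ≫ e.hom,
    c.hom ≫ (DCoh.tildeD (CommRingCat.of A)).map (tK (fs.map (fun a => a ^ k))), ?_⟩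
  have h1 : (DCoh.tildeD (CommRingCat.of A)).map (tK (fs.map (fun a => a ^ k))) ≫
      (DCoh.tildeD (CommRingCat.of A)).map ψ' = c.inv ≫ s ≫ e.inv := by
    rw [← CategoryTheory.Functor.map_comp, hψ', hs']
  calc (c.hom ≫ (DCoh.tildeD (CommRingCat.of A)).map (tK (fs.map (fun a => a ^ k)))) ≫
        ((DCoh.tildeD (CommRingCat.of A)).map ψ' ≫ e.hom)
      = c.hom ≫ ((DCoh.tildeD (CommRingCat.of A)).map (tK (fs.map (fun a => a ^ k))) ≫
          (DCoh.tildeD (CommRingCat.of A)).map ψ') ≫ e.hom := by simp only [Category.assoc]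
    _ = c.hom ≫ (c.inv ≫ s ≫ e.inv) ≫ e.hom := by rw [h1]
    _ = s := by simp

end Factor


end

end Groth.Agent.Lib.KoszL
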