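import Mathlib
import Groth.Prelude
import Groth.Agent.Lib.TTGlue3_lead

/-!
# Thomason–Trobaugh: extending perfect complexes with supports and maps, qcqs case (lead; S1098)

* `main1098_aux`: induction on the number of affine opens needed;
* `main1098`.
-/

set_option autoImplicit false
set_option linter.all false
set_option maxHeartbeats 1600000
set_option backward.isDefEq.respectTransparency false
set_option backward.isDefEq.respectTransparency.types false
set_option backward.defeqAttrib.useBackward true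

universe u

open CategoryTheory CategoryTheory.Limits AlgebraicGeometry TopologicalSpace Opposite
open DerivedCategory CategoryTheory.Pretriangulated

attribute [local instance] HasDerivedCategory.standard

namespace Groth.Agent.Lib.TTGlueL

open Groth.Agent.Lib Groth.Agent.Lib.DCohLocLead Groth.Agent.Lib.PerfLocL
open Groth.Agent.Lib.HomVanL Groth.Agent.Lib.CompQL Groth.Agent.Lib.SerreHomL
open Groth.Agent.Lib.TTLiftL Groth.Agent.Lib.TTApxL Groth.Agent.Lib.TTSuppL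

noncomputable section

attribute [local instance] rpushI lpullI

theorem main1098_aux (n : ℕ) : ∀ (X : Scheme.{u}) [CompactSpace X] [QuasiSeparatedSpace X]
    (U₀ : Scheme.{u}) (j : U₀ ⟶ X) [IsOpenImmersion j] [CompactSpace U₀]
    (Vs : Fin n → X.Opens) (hVs : ∀ i, IsAffineOpen (Vs i))
    (hcov : ∀ x : X, x ∈ Set.range j ∨ ∃ i, x ∈ Vs i)
    (Tc : X.Opens) (hTc : IsCompact (Tc : Set X))
    (E : DCoh.D X) (hE : DCoh.IsQCohD E)
    (P : DCoh.D U₀) (hP : DCoh.IsPerfect P) (hPz : IsZero ((DD (j ⁻¹ᵁ Tc).ι).obj P))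
    (α : P ⟶ (DD j).obj E),
    ∃ (R : DCoh.D X) (β : R ⟶ E) (i : P ⟶ (DD j).obj R) (p : (DD j).obj R ⟶ P),
      DCoh.IsPerfect R ∧ IsZero ((DD Tc.ι).obj R) ∧ i ≫ p = 𝟙 P ∧ i ≫ (DD j).map β = α := by
  induction n with
  | zero =>
    intro X _ _ U₀ j _ _ Vs hVs hcov Tc hTc E hE P hP hPz α
    exact two_opens X j ⊥ (isAffineOpen_bot X)
      (fun x => (hcov x).imp id (fun ⟨i, _⟩ => i.elim0)) Tc hTc E hE P hP hPz α
  | succ n ih =>
    intro X _ _ U₀ j _ _ Vs hVs hcov Tc hTc E hE P hP hPz α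
    have hjc : IsCompact ((j.opensRange : X.Opens) : Set X) := by
      rw [Scheme.Hom.coe_opensRange]
      exact isCompact_range j.continuous
    obtain ⟨X', hX'⟩ : ∃ X' : X.Opens, X' = j.opensRange ⊔ Vs 0 := ⟨_, rfl⟩
    have hX'c : IsCompact (X' : Set X) := by
      rw [hX', Opens.coe_sup]
      exact hjc.union (hVs 0).isCompact
    haveI : CompactSpace (X' : Scheme.{u}) := isCompact_iff_compactSpace.mp hX'c
    haveI : QuasiSeparatedSpace (X' : Scheme.{u}) :=
      QuasiSeparatedSpace.of_isOpenEmbedding X'.ι.isOpenEmbedding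
    have hjX' : Set.range j ⊆ Set.range X'.ι := by
      rw [Scheme.Opens.range_ι, hX', Opens.coe_sup, Scheme.Hom.coe_opensRange]
      exact Set.subset_union_left
    have hV0 : Vs 0 ≤ X' := by
      rw [hX']
      exact le_sup_right
    obtain ⟨j', hj', hfac⟩ := exists_lift X'.ι j hjX'
    haveI := hj'
    have hpt : ∀ y : U₀, X'.ι (j' y) = j y := by
      intro y
      have h4 := congrArg (fun f : U₀ ⟶ X => f y) hfac
      simpa only [Scheme.Hom.comp_apply] using h4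
    have hV' : IsAffineOpen (X'.ι ⁻¹ᵁ Vs 0) := by
      refine (Scheme.Hom.isAffineOpen_iff_of_isOpenImmersion X'.ι).1 ?_
      rw [image_preimage_of_le hV0]
      exact hVs 0
    have hmem : ∀ x : X, x ∈ (X' : Set X) → x ∈ Set.range j ∨ x ∈ (Vs 0 : Set X) := by
      intro x hx
      rw [hX', Opens.coe_sup, Scheme.Hom.coe_opensRange] at hx
      exact hx
    have hcov' : ∀ x' : (X' : Scheme.{u}), x' ∈ Set.range j' ∨ x' ∈ X'.ι ⁻¹ᵁ Vs 0 := by
      intro x'
      rcases hmem x'.1 x'.2 with ⟨y, hy⟩ | hx'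
      · left
        refine ⟨y, ?_⟩
        apply Subtype.ext
        exact (hpt y).trans hy
      · right
        exact hx'
    have hTc' : IsCompact ((X'.ι ⁻¹ᵁ Tc : (X' : Scheme.{u}).Opens) : Set (X' : Scheme.{u})) :=
      QuasiCompact.isCompact_preimage (f := X'.ι) _ Tc.isOpen hTc
    obtain ⟨can⟩ := nonempty_DD_natIso_of_comp j' X'.ι j hfac
    have hPz' : IsZero ((DD (j' ⁻¹ᵁ (X'.ι ⁻¹ᵁ Tc)).ι).obj P) := by
      refine isZero_DD_of_range_le (j ⁻¹ᵁ Tc).ι (j' ⁻¹ᵁ (X'.ι ⁻¹ᵁ Tc)).ι ?_ P hPz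
      rw [Scheme.Opens.range_ι, Scheme.Opens.range_ι]
      intro y hy
      have h1 : X'.ι (j' y) ∈ Tc := hy
      rw [hpt] at h1
      exact h1
    obtain ⟨dE, hdE⟩ : ∃ dE : (DD j).obj E ⟶ (DD j').obj ((DD X'.ι).obj E),
        dE = can.hom.app E := ⟨_, rfl⟩
    obtain ⟨cE, hcE⟩ : ∃ cE : (DD j').obj ((DD X'.ι).obj E) ⟶ (DD j).obj E,
        cE = can.inv.app E := ⟨_, rfl⟩
    have h4 : dE ≫ cE = 𝟙 _ := by
      rw [hdE, hcE]
      exact Iso.hom_inv_id_app can E
    obtain ⟨R', β', i', p', hR', hR'z, hip', hiβ'⟩ :=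
      two_opens (X' : Scheme.{u}) j' (X'.ι ⁻¹ᵁ Vs 0) hV' hcov' (X'.ι ⁻¹ᵁ Tc) hTc'
        ((DD X'.ι).obj E) (LpullQCL.isQCohD_restrictD X'.ι E hE) P hP hPz'
        (α ≫ dE)
    have hcov'' : ∀ x : X, x ∈ Set.range X'.ι ∨ ∃ i : Fin n, x ∈ Vs i.succ := by
      intro x
      rcases hcov x with hxj | ⟨i, hi⟩
      · exact Or.inl (hjX' hxj)
      · revert hi
        refine Fin.cases ?_ ?_ i
        · intro hi
          left
          rw [Scheme.Opens.range_ι]
          exact hV0 hi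
        · intro k hk
          exact Or.inr ⟨k, hk⟩
    obtain ⟨R, β, i'', p'', hR, hRz, hip'', hiβ''⟩ :=
      ih X (X' : Scheme.{u}) X'.ι (fun i => Vs i.succ) (fun i => hVs _) hcov'' Tc hTc E hE
        R' hR' hR'z β'
    obtain ⟨cR, hcR⟩ : ∃ cR : (DD j').obj ((DD X'.ι).obj R) ⟶ (DD j).obj R,
        cR = can.inv.app R := ⟨_, rfl⟩
    obtain ⟨dR, hdR⟩ : ∃ dR : (DD j).obj R ⟶ (DD j').obj ((DD X'.ι).obj R),
        dR = can.hom.app R := ⟨_, rfl⟩
    have h3 : cR ≫ dR = 𝟙 _ := by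
      rw [hcR, hdR]
      exact Iso.inv_hom_id_app can R
    have hnat : cR ≫ (DD j).map β = (DD j').map ((DD X'.ι).map β) ≫ cE := by
      rw [hcR, hcE]
      exact (can.inv.naturality β).symm
    have h1 : (DD j').map i'' ≫ (DD j').map p'' = 𝟙 _ := by
      rw [← CategoryTheory.Functor.map_comp, hip'', CategoryTheory.Functor.map_id]
    have h2 : (DD j').map i'' ≫ (DD j').map ((DD X'.ι).map β) = (DD j').map β' := by
      rw [← CategoryTheory.Functor.map_comp, hiβ'']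
    refine ⟨R, β, i' ≫ (DD j').map i'' ≫ cR, dR ≫ (DD j').map p'' ≫ p', hR, hRz, ?_, ?_⟩
    · calc (i' ≫ (DD j').map i'' ≫ cR) ≫ dR ≫ (DD j').map p'' ≫ p'
          = i' ≫ (DD j').map i'' ≫ (cR ≫ dR) ≫ (DD j').map p'' ≫ p' := by
            simp only [Category.assoc]
        _ = i' ≫ ((DD j').map i'' ≫ (DD j').map p'') ≫ p' := by
            rw [h3, Category.id_comp, Category.assoc]
        _ = 𝟙 P := by rw [h1, Category.id_comp, hip']
    · calc (i' ≫ (DD j').map i'' ≫ cR) ≫ (DD j).map β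
          = i' ≫ (DD j').map i'' ≫ (cR ≫ (DD j).map β) := by
            simp only [Category.assoc]
        _ = i' ≫ ((DD j').map i'' ≫ (DD j').map ((DD X'.ι).map β)) ≫ cE := by
            rw [hnat, Category.assoc]
        _ = (i' ≫ (DD j').map β') ≫ cE := by rw [h2, Category.assoc]
        _ = α := by rw [hiβ', Category.assoc, h4, Category.comp_id]

/-- **S1098** -/
theorem main1098 (X : Scheme.{u}) [CompactSpace X] [QuasiSeparatedSpace X]
    (U : X.Opens) (hU : IsCompact (U : Set X)) (T : Set X) (hT : IsClosed T)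
    (hTc : IsCompact Tᶜ) (E : DCoh.D X) (hE : DCoh.IsQCohD E)
    (P : DCoh.D (U : Scheme.{u})) (hP : DCoh.IsPerfect P)
    (hPT : ∀ k : ℤ, CohB1.support (DCoh.HD P k) ⊆ {x : ↥(U : Scheme.{u}) | U.ι.base x ∈ T})
    (α : P ⟶ (DCoh.restrictD U.ι).obj E) :
    ∃ (R : DCoh.D X) (β : R ⟶ E) (i : P ⟶ (DCoh.restrictD U.ι).obj R)
      (p : (DCoh.restrictD U.ι).obj R ⟶ P),
      DCoh.IsPerfect R ∧ (∀ k : ℤ, CohB1.support (DCoh.HD R k) ⊆ T) ∧ i ≫ p = 𝟙 P ∧
        i ≫ (DCoh.restrictD U.ι).map β = α := by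
  haveI : CompactSpace (U : Scheme.{u}) := isCompact_iff_compactSpace.mp hU
  obtain ⟨Tc, hTcdef⟩ : ∃ Tc : X.Opens, (Tc : Set X) = Tᶜ := ⟨⟨Tᶜ, hT.isOpen_compl⟩, rfl⟩
  have hTc' : IsCompact (Tc : Set X) := by
    rw [hTcdef]
    exact hTc
  have hPz : IsZero ((DD (U.ι ⁻¹ᵁ Tc).ι).obj P) := by
    apply MVPushL.isZero_restrictD_of_support
    intro k x hx hxs
    have h1 : U.ι.base x ∈ T := hPT k hxs
    have h2 : U.ι.base x ∈ (Tc : Set X) := hx
    rw [hTcdef] at h2
    exact h2 h1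
  -- a finite affine cover
  have hcovA : (Set.univ : Set X) ⊆ ⋃ V : X.affineOpens, ((V.1 : X.Opens) : Set X) := by
    intro x _
    have h1 : x ∈ ((⨆ V : X.affineOpens, V.1 : X.Opens) : Set X) := by
      rw [iSup_affineOpens_eq_top]
      trivial
    simpa using h1
  obtain ⟨t, ht⟩ := isCompact_univ.elim_finite_subcover
    (fun V : X.affineOpens => ((V.1 : X.Opens) : Set X)) (fun V => V.1.isOpen) hcovA
  have hcov : ∀ x : X, x ∈ Set.range U.ι ∨ ∃ i : Fin t.toList.length, x ∈ (t.toList.get i).1 := by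
    intro x
    right
    obtain ⟨V, hV, hxV⟩ := Set.mem_iUnion₂.1 (ht (Set.mem_univ x))
    obtain ⟨n, hn⟩ := List.mem_iff_get.1 (Finset.mem_toList.2 hV)
    exact ⟨n, by rw [hn]; exact hxV⟩
  obtain ⟨R, β, i, p, hR, hRz, hip, hiβ⟩ := main1098_aux t.toList.length X (U : Scheme.{u}) U.ι
    (fun i => (t.toList.get i).1) (fun i => (t.toList.get i).2) hcov Tc hTc' E hE P hP hPz α
  refine ⟨R, β, i, p, hR, ?_, hip, hiβ⟩
  intro k
  refine support_subset_of_isZero T R (fun x hx => ⟨Tc, ?_, hRz⟩) k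
  show x ∈ (Tc : Set X)
  rw [hTcdef]
  exact hx

end

end Groth.Agent.Lib.TTGlueL
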