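import Mathlib
import Groth.Prelude
import Groth.Agent.Lib.TTGlue4_lead
import Groth.Agent.Lib.Kosz3_lead
import Groth.Agent.Lib.ApproxOpen_lead

/-!
# Perfect generators: the affine Koszul step (lead)

* `isZero_of_noHom_T0`: on an affine scheme, `O` detects objects of `D_QCoh`;
* `affine_koszul`: on an affine scheme `Y`, for `f₁, …, f_r ∈ Γ(Y, O)` there is a perfect `K`
  vanishing on all `D(fᵢ)` and detecting the objects of `D_QCoh(Y)` vanishing on all `D(fᵢ)`;
* `isZero_DD_extZeroD`, `isZero_DD_Rpush`, `isZero_of_cover_two`, `isZero_DD_biprod`.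
-/

set_option autoImplicit false
set_option linter.all false
set_option maxHeartbeats 1600000
set_option backward.isDefEq.respectTransparency false
set_option backward.isDefEq.respectTransparency.types false
set_option backward.defeqAttrib.useBackward true

universe u

open CategoryTheory CategoryTheory.Limits AlgebraicGeometry TopologicalSpace Opposite
open DerivedCategory CategoryTheory.Pretriangulated

attribute [local instance] HasDerivedCategory.standard

namespace Groth.Agent.Lib.TTGenL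

open Groth.Agent.Lib Groth.Agent.Lib.DCohLocLead Groth.Agent.Lib.PerfLocL
open Groth.Agent.Lib.HomVanL Groth.Agent.Lib.CompQL Groth.Agent.Lib.SerreHomL
open Groth.Agent.Lib.TTLiftL Groth.Agent.Lib.TTApxL Groth.Agent.Lib.TTSuppL
open Groth.Agent.Lib.TTGlueL

noncomputable section

attribute [local instance] rpushI lpullI

theorem isZero_DD_shift {Y X : Scheme.{u}} (j : Y ⟶ X) [IsOpenImmersion j] (N : DCoh.D X)
    (hz : IsZero ((DD j).obj N)) (m : ℤ) : IsZero ((DD j).obj (N⟦m⟧)) :=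
  IsZero.of_iso ((shiftFunctor _ m).map_isZero hz) (((DD j).commShiftIso m).app N)

theorem isZero_of_noHom_T0 (Y : Scheme.{u}) [IsAffine Y] (N : DCoh.D Y) (hN : DCoh.IsQCohD N)
    (h : ∀ m : ℤ, NoHom (T0 Y) (N⟦m⟧)) : IsZero N := by
  apply MVPushL.isZero_of_forall_isZero_homology
  intro k
  haveI : (DCoh.HD N k).IsQuasicoherent := hN k
  apply Groth.Agent.CoprodQP.isZero_of_sections
  intro W s
  refine sections_eq_zero_of_affine (DCoh.HD N k) (isAffineOpen_top Y) ?_ W le_top s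
  intro m
  obtain ⟨φ, u, hu⟩ := exists_map_of_section Y N hN k m
  have hφ : φ = 0 := KoszL.NoHom.shift_left' (-k) k (by omega) (h k) φ
  rw [← hu, hφ, Functor.map_zero]
  rfl

theorem koszul_aux (Y : Scheme.{u}) [IsAffine Y] (fs : List (Coh.Γtop Y)) :
    ∃ K : DCoh.D Y, DCoh.IsPerfect K ∧ (∀ f ∈ fs, IsZero ((DD (Y.basicOpen f).ι).obj K)) ∧
      ∀ N : DCoh.D Y, DCoh.IsQCohD N → (∀ f ∈ fs, IsZero ((DD (Y.basicOpen f).ι).obj N)) →
        (∀ m : ℤ, NoHom K (N⟦m⟧)) → ∀ m : ℤ, NoHom (T0 Y) (N⟦m⟧) := by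
  induction fs with
  | nil =>
    exact ⟨T0 Y, isPerfect_T0 Y, fun f hf => absurd hf List.not_mem_nil, fun N _ _ h => h⟩
  | cons f l ih =>
    obtain ⟨Kl, hKl, hKlz, hKlgen⟩ := ih
    obtain ⟨K, q, w, hT⟩ := distinguished_cocone_triangle ((mulD f).app Kl)
    refine ⟨K, isPerfect_obj₃ _ hT hKl hKl, ?_, ?_⟩
    · intro g hg
      have hT' := (DD (Y.basicOpen g).ι).map_distinguished _ hT
      refine (Triangle.isZero₃_iff_isIso₁ _ hT').2 ?_
      show IsIso ((DD (Y.basicOpen g).ι).map ((mulD f).app Kl))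
      rcases List.mem_cons.1 hg with rfl | hg'
      · rw [DD_map_mulD]
        exact isIso_mulD_of_isUnit _ (isUnit_ι_appTop g) _
      · exact ⟨0, (hKlz g hg').eq_of_src _ _, (hKlz g hg').eq_of_src _ _⟩
    · intro N hN hNz hKN
      refine hKlgen N hN (fun g hg => hNz g (List.mem_cons_of_mem _ hg)) ?_
      intro m φ
      have hN' : DCoh.IsQCohD (N⟦m⟧) := isQCohD_shift N hN m
      have hz' : IsZero ((DD (Y.basicOpen f).ι).obj (N⟦m⟧)) :=
        isZero_DD_shift _ N (hNz f List.mem_cons_self) m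
      have h := hc_of_isPerfect (𝒮 := torsClass) f Kl hKl (N⟦m⟧) hN'
        (hyp_tors_of_restrict _ hN' f hz')
      obtain ⟨k, hk⟩ := h φ
      have hk2 : φ ≫ (mulD (f ^ k)).app (N⟦m⟧) = 0 := (iterate_rightComp f φ k).symm.trans hk
      have key : ∀ k : ℕ, ∀ ψ : Kl ⟶ N⟦m⟧, ψ ≫ (mulD (f ^ k)).app (N⟦m⟧) = 0 → ψ = 0 := by
        intro k
        induction k with
        | zero =>
          intro ψ hψ
          rw [pow_zero, mulD_one_app, Category.comp_id] at hψ
          exact hψ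
        | succ k ihk =>
          intro ψ hψ
          rw [pow_succ', mulD_mul_app, ← Category.assoc] at hψ
          have h1 : ψ ≫ (mulD f).app (N⟦m⟧) = 0 := ihk _ hψ
          have h2 : (mulD f).app Kl ≫ ψ = 0 := by
            rw [← mulD_comm]
            exact h1
          obtain ⟨ψ', hψ'⟩ := Triangle.yoneda_exact₂ _ hT ψ h2
          rw [hψ', hKN m ψ', comp_zero]
      exact key k φ hk2

/-- the Koszul object on an affine scheme -/
theorem affine_koszul (Y : Scheme.{u}) [IsAffine Y] (fs : List (Coh.Γtop Y)) :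
    ∃ K : DCoh.D Y, DCoh.IsPerfect K ∧ (∀ f ∈ fs, IsZero ((DD (Y.basicOpen f).ι).obj K)) ∧
      ∀ N : DCoh.D Y, DCoh.IsQCohD N → (∀ f ∈ fs, IsZero ((DD (Y.basicOpen f).ι).obj N)) →
        (∀ m : ℤ, NoHom K (N⟦m⟧)) → IsZero N := by
  obtain ⟨K, hK, hKz, hgen⟩ := koszul_aux Y fs
  exact ⟨K, hK, hKz, fun N hN hNz hKN => isZero_of_noHom_T0 Y N hN (hgen N hN hNz hKN)⟩

/-! ### Vanishing of restrictions of extensions -/

theorem isZero_DD_extZeroD {X : Scheme.{u}} (V S : X.Opens) (K : DCoh.D (V : Scheme.{u}))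
    (hz : IsZero ((DD (V.ι ⁻¹ᵁ S).ι).obj K)) :
    IsZero ((DD S.ι).obj ((CxOX.extZeroD V.ι).obj K)) := by
  apply MVPushL.isZero_restrictD_of_support
  intro i x hx hxs
  obtain ⟨e3⟩ := MVPushL.nonempty_HD_extZeroD_iso V K i
  rw [MVPushL.support_eq_of_iso e3] at hxs
  obtain ⟨y, hy, rfl⟩ := MVPushL.support_extZero_subset V _ hxs
  exact hy (RGammaZL.stalks_of_isZero_restrictD (V.ι ⁻¹ᵁ S).ι K hz i ⟨y, hx⟩)

theorem isZero_DD_Rpush {Y X : Scheme.{u}} (f : Y ⟶ X) (S : X.Opens) (K : DCoh.D Y)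
    (hz : IsZero ((DD (f ⁻¹ᵁ S).ι).obj K)) :
    IsZero ((DD S.ι).obj ((DCoh.Rpush f).obj K)) := by
  obtain ⟨e⟩ := BCOpenL.main6508 f S
  exact (BCOpenL.isZero_Rpush_of_isZero (f ∣_ S) _ hz).of_iso (e.app K)

theorem isZero_of_cover_two {X U₀ : Scheme.{u}} (j : U₀ ⟶ X) [IsOpenImmersion j] (V : X.Opens)
    (hcov : ∀ x : X, x ∈ Set.range j ∨ x ∈ V) (N : DCoh.D X)
    (h1 : IsZero ((DD j).obj N)) (h2 : IsZero ((DD V.ι).obj N)) : IsZero N := by
  have h1' : IsZero ((DD j.opensRange.ι).obj N) := by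
    refine isZero_DD_of_range_le j j.opensRange.ι ?_ N h1
    rw [Scheme.Opens.range_ι, Scheme.Hom.coe_opensRange]
  apply MVPushL.isZero_of_forall_isZero_homology
  intro k
  refine isZero_of_isZero_restrict (DCoh.HD N k)
    (fun b : Bool => if b then j.opensRange else V) ?_ ?_
  · intro x
    rcases hcov x with hx | hx
    · refine ⟨true, ?_⟩
      show x ∈ (j.opensRange : Set X)
      rw [Scheme.Hom.coe_opensRange]
      exact hx
    · exact ⟨false, hx⟩
  · intro b
    cases b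
    · exact isZero_HD_restrict N V h2 k
    · exact isZero_HD_restrict N j.opensRange h1' k

theorem isZero_DD_biprod {Y X : Scheme.{u}} (l : Y ⟶ X) [IsOpenImmersion l] (A B : DCoh.D X)
    (hA : IsZero ((DD l).obj A)) (hB : IsZero ((DD l).obj B)) :
    IsZero ((DD l).obj (A ⊞ B)) := by
  haveI := preservesBinaryBiproducts_of_preservesBiproducts (DD l)
  refine IsZero.of_iso ?_ ((DD l).mapBiprod A B)
  rw [IsZero.iff_id_eq_zero, ← biprod.total, hA.eq_of_tgt biprod.fst 0,
    hB.eq_of_tgt biprod.snd 0, zero_comp, zero_comp, add_zero]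

end

end Groth.Agent.Lib.TTGenL
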