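import Mathlib
import Groth.Prelude
import Groth.Agent.Lib.TTGen1_lead

/-!
# Perfect generators of `D_QCoh` with supports (lead; S1008, S1074)

* `GenN Tc P`: `P` detects the objects of `D_QCoh` vanishing on the open `Tc`;
* `gen_two_opens`: the case `X = j(U₀) ∪ V`, `V` affine;
* `gen_aux`: induction on the number of affine opens;
* `exists_generator`, `main1008`, `main1074`.
-/

set_option autoImplicit false
set_option linter.all false
set_option maxHeartbeats 1600000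
set_option backward.isDefEq.respectTransparency false
set_option backward.isDefEq.respectTransparency.types false
set_option backward.defeqAttrib.useBackward true

universe u

open CategoryTheory CategoryTheory.Limits AlgebraicGeometry TopologicalSpace Opposite
open DerivedCategory CategoryTheory.Pretriangulated

attribute [local instance] HasDerivedCategory.standard

namespace Groth.Agent.Lib.TTGenL

open Groth.Agent.Lib Groth.Agent.Lib.DCohLocLead Groth.Agent.Lib.PerfLocL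
open Groth.Agent.Lib.HomVanL Groth.Agent.Lib.CompQL Groth.Agent.Lib.SerreHomL
open Groth.Agent.Lib.TTLiftL Groth.Agent.Lib.TTApxL Groth.Agent.Lib.TTSuppL
open Groth.Agent.Lib.TTGlueL

noncomputable section

attribute [local instance] rpushI lpullI

/-- `P` detects the objects of `D_QCoh` vanishing on `Tc` -/
def GenN {Y : Scheme.{u}} (Tc : Y.Opens) (P : DCoh.D Y) : Prop :=
  ∀ E : DCoh.D Y, DCoh.IsQCohD E → IsZero ((DD Tc.ι).obj E) → (∀ m : ℤ, NoHom P (E⟦m⟧)) →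
    IsZero E

theorem isZero_DD_preimage {Y X : Scheme.{u}} (j : Y ⟶ X) [IsOpenImmersion j] (Tc : X.Opens)
    (E : DCoh.D X) (hEz : IsZero ((DD Tc.ι).obj E)) :
    IsZero ((DD (j ⁻¹ᵁ Tc).ι).obj ((DD j).obj E)) := by
  obtain ⟨c1⟩ := nonempty_DD_comp_iso (j ⁻¹ᵁ Tc).ι j E
  refine (isZero_DD_of_range_le Tc.ι ((j ⁻¹ᵁ Tc).ι ≫ j) ?_ E hEz).of_iso c1.symm
  rintro _ ⟨y, rfl⟩
  rw [Scheme.Opens.range_ι]
  exact y.2

theorem gen_two_opens (X : Scheme.{u}) [CompactSpace X] [QuasiSeparatedSpace X]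
    {U₀ : Scheme.{u}} (j : U₀ ⟶ X) [IsOpenImmersion j] [CompactSpace U₀]
    (V : X.Opens) (hV : IsAffineOpen V) (hcov : ∀ x : X, x ∈ Set.range j ∨ x ∈ V)
    (Tc : X.Opens) (hTc : IsCompact (Tc : Set X))
    (P₀ : DCoh.D U₀) (hP₀ : DCoh.IsPerfect P₀) (hP₀z : IsZero ((DD (j ⁻¹ᵁ Tc).ι).obj P₀))
    (hgen : GenN (j ⁻¹ᵁ Tc) P₀) :
    ∃ G : DCoh.D X, DCoh.IsPerfect G ∧ IsZero ((DD Tc.ι).obj G) ∧ GenN Tc G := by
  haveI : IsAffine (V : Scheme.{u}) := hV
  -- (1) the extension `Q'` of `P₀ ⊕ P₀[1]`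
  obtain ⟨Q', -, i, p, hQ', hQ'z, hip, -⟩ := two_opens X j V hV hcov Tc hTc (T0 X)
    (isQCohD_of_isPerfect _ (isPerfect_T0 X)) P₀ hP₀ hP₀z 0
  -- (2) the opens of `V`
  have hjc : IsCompact ((j.opensRange : X.Opens) : Set X) := by
    rw [Scheme.Hom.coe_opensRange]
    exact isCompact_range j.continuous
  obtain ⟨O, hO⟩ : ∃ O : (V : Scheme.{u}).Opens, O = V.ι ⁻¹ᵁ j.opensRange := ⟨_, rfl⟩
  have hOc : IsCompact (O : Set (V : Scheme.{u})) := by
    rw [hO]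
    exact QuasiCompact.isCompact_preimage (f := V.ι) _ j.opensRange.isOpen hjc
  have hOrange : Set.range (O.ι ≫ V.ι) ⊆ Set.range j := by
    rw [hO]
    rintro _ ⟨y, rfl⟩
    have h1 : V.ι y.1 ∈ j.opensRange := y.2
    exact h1
  obtain ⟨s, hs, hOs⟩ :=
    isCompact_and_isOpen_iff_finite_and_eq_biUnion_basicOpen.1 ⟨hOc, O.isOpen⟩
  have hle : ∀ f ∈ s, (V : Scheme.{u}).basicOpen f ≤ O := by
    intro f hf x hx
    show x ∈ (O : Set (V : Scheme.{u}))
    rw [hOs]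
    exact Set.mem_biUnion hf hx
  have hcovO : ∀ x ∈ O, ∃ f : s, x ∈ (V : Scheme.{u}).basicOpen f.1 := by
    intro x hx
    have hx' : x ∈ (O : Set (V : Scheme.{u})) := hx
    rw [hOs] at hx'
    obtain ⟨f, hf, hxf⟩ := Set.mem_iUnion₂.1 hx'
    exact ⟨⟨f, hf⟩, hxf⟩
  obtain ⟨TV, hTV⟩ : ∃ TV : (V : Scheme.{u}).Opens, TV = V.ι ⁻¹ᵁ Tc := ⟨_, rfl⟩
  have hTVc : IsCompact (TV : Set (V : Scheme.{u})) := by
    rw [hTV]
    exact QuasiCompact.isCompact_preimage (f := V.ι) _ Tc.isOpen hTc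
  have hTVrange : Set.range (TV.ι ≫ V.ι) ⊆ Set.range Tc.ι := by
    rw [hTV]
    rintro _ ⟨y, rfl⟩
    rw [Scheme.Opens.range_ι]
    exact y.2
  obtain ⟨gs, hgs, hTgs⟩ :=
    isCompact_and_isOpen_iff_finite_and_eq_biUnion_basicOpen.1 ⟨hTVc, TV.isOpen⟩
  have hleT : ∀ g ∈ gs, (V : Scheme.{u}).basicOpen g ≤ TV := by
    intro f hf x hx
    show x ∈ (TV : Set (V : Scheme.{u}))
    rw [hTgs]
    exact Set.mem_biUnion hf hx
  have hcovT : ∀ x ∈ TV, ∃ g : gs, x ∈ (V : Scheme.{u}).basicOpen g.1 := by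
    intro x hx
    have hx' : x ∈ (TV : Set (V : Scheme.{u})) := hx
    rw [hTgs] at hx'
    obtain ⟨f, hf, hxf⟩ := Set.mem_iUnion₂.1 hx'
    exact ⟨⟨f, hf⟩, hxf⟩
  -- (3) the Koszul object
  obtain ⟨KV, hKV, hKVz, hKVgen⟩ :=
    affine_koszul (V : Scheme.{u}) (hs.toFinset.toList ++ hgs.toFinset.toList)
  have hKVO : IsZero ((DD O.ι).obj KV) :=
    isZero_DD_of_cover KV O (fun f : s => (V : Scheme.{u}).basicOpen f.1) hcovO
      (fun f => hKVz f.1 (List.mem_append_left _ (by simpa using f.2)))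
  have hKVT : IsZero ((DD TV.ι).obj KV) :=
    isZero_DD_of_cover KV TV (fun g : gs => (V : Scheme.{u}).basicOpen g.1) hcovT
      (fun g => hKVz g.1 (List.mem_append_right _ (by simpa using g.2)))
  obtain ⟨K', hK'⟩ : ∃ K' : DCoh.D X, K' = (CxOX.extZeroD V.ι).obj KV := ⟨_, rfl⟩
  obtain ⟨eK'⟩ : Nonempty ((DD V.ι).obj K' ≅ KV) := by
    rw [hK']
    exact MVPushL.nonempty_restrictD_extZeroD_iso V KV
  have hK'j : IsZero ((DD j).obj K') := by
    rw [hK']
    refine isZero_DD_of_range_le j.opensRange.ι j ?_ _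
      (isZero_DD_extZeroD V j.opensRange KV ?_)
    · rw [Scheme.Opens.range_ι, Scheme.Hom.coe_opensRange]
    · rw [← hO]
      exact hKVO
  have hK'T : IsZero ((DD Tc.ι).obj K') := by
    rw [hK']
    refine isZero_DD_extZeroD V Tc KV ?_
    rw [← hTV]
    exact hKVT
  have hK'p : DCoh.IsPerfect K' := by
    apply isPerfect_of_cover
    intro x
    rcases hcov x with ⟨y, hy⟩ | hx
    · exact ⟨U₀, j, inferInstance, ⟨y, hy⟩, isPerfect_of_isZero hK'j⟩
    · exact ⟨_, V.ι, inferInstance, ⟨⟨x, hx⟩, rfl⟩, isPerfect_of_iso eK'.symm hKV⟩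
  have adjS : CxOX.extZeroD V.ι ⊣ DD V.ι := ApproxOpenL.adjShriek V
  -- (4) the generator
  refine ⟨Q' ⊞ K', isPerfect_biprod hQ' hK'p, isZero_DD_biprod _ _ _ hQ'z hK'T, ?_⟩
  obtain ⟨adj⟩ := nonempty_adj_DD j
  have key : ∀ E : DCoh.D X, DCoh.IsQCohD E → IsZero ((DD Tc.ι).obj E) →
      (∀ m : ℤ, NoHom (Q' ⊞ K') (E⟦m⟧)) →
        IsIso (adj.unit.app E) ∧ NoHom P₀ ((DD j).obj E) := by
    intro E hE hEz hGE
    have hQE : ∀ m : ℤ, NoHom Q' (E⟦m⟧) := by
      intro m φ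
      have h0 := hGE m ((biprod.fst : Q' ⊞ K' ⟶ Q') ≫ φ)
      have h1 : φ = (biprod.inl : Q' ⟶ Q' ⊞ K') ≫ (biprod.fst : Q' ⊞ K' ⟶ Q') ≫ φ := by simp
      rw [h1, h0, comp_zero]
    have hKE : ∀ m : ℤ, NoHom K' (E⟦m⟧) := by
      intro m φ
      have h0 := hGE m ((biprod.snd : Q' ⊞ K' ⟶ K') ≫ φ)
      have h1 : φ = (biprod.inr : K' ⟶ Q' ⊞ K') ≫ (biprod.snd : Q' ⊞ K' ⟶ K') ≫ φ := by simp
      rw [h1, h0, comp_zero]
    obtain ⟨N, δ, c, hT⟩ := distinguished_cocone_triangle (adj.unit.app E)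
    have hNz : IsZero ((DD j).obj N) := RGammaZL.isZero_restrictD_cone_unit j adj E δ c hT
    have hEj : DCoh.IsQCohD ((DD j).obj E) := LpullQCL.isQCohD_restrictD j E hE
    have hRq : DCoh.IsQCohD ((DCoh.Rpush j).obj ((DD j).obj E)) := RpushQCL.main0998 j _ hEj
    have hN : DCoh.IsQCohD N := RpushQCL.isQCohD_obj₃ _ hT hE hRq
    have hRT : IsZero ((DD Tc.ι).obj ((DCoh.Rpush j).obj ((DD j).obj E))) :=
      isZero_DD_Rpush j Tc _ (isZero_DD_preimage j Tc E hEz)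
    have hNT : IsZero ((DD Tc.ι).obj N) := by
      have hT' := (DD Tc.ι).map_distinguished _ hT
      refine (Triangle.isZero₃_iff_isIso₁ _ hT').2 ?_
      show IsIso ((DD Tc.ι).map (adj.unit.app E))
      exact ⟨0, hEz.eq_of_src _ _, hRT.eq_of_src _ _⟩
    have hK'N : ∀ m : ℤ, NoHom K' (N⟦m⟧) := by
      intro m
      have hTm := rot_of_distTriang _ (Triangle.shift_distinguished _ hT m)
      refine NoHom.ext_right _ hTm ?_ ?_
      · show NoHom K' (((DCoh.Rpush j).obj ((DD j).obj E))⟦m⟧)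
        refine NoHom.shift_right m (-m) (by omega) ?_
        refine NoHom.of_adj adj ?_
        exact NoHom.of_isZero_left (isZero_DD_shift j K' hK'j (-m))
      · show NoHom K' ((E⟦m⟧)⟦(1 : ℤ)⟧)
        exact (hKE (m + 1)).of_iso_right ((shiftFunctorAdd' (DCoh.D X) m 1 (m + 1) rfl).app E)
    have hNV : DCoh.IsQCohD ((DD V.ι).obj N) := LpullQCL.isQCohD_restrictD V.ι N hN
    have hNVO : IsZero ((DD O.ι).obj ((DD V.ι).obj N)) := by
      obtain ⟨c1⟩ := nonempty_DD_comp_iso O.ι V.ι N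
      exact (isZero_DD_of_range_le j (O.ι ≫ V.ι) hOrange N hNz).of_iso c1.symm
    have hNVT : IsZero ((DD TV.ι).obj ((DD V.ι).obj N)) := by
      obtain ⟨c1⟩ := nonempty_DD_comp_iso TV.ι V.ι N
      exact (isZero_DD_of_range_le Tc.ι (TV.ι ≫ V.ι) hTVrange N hNT).of_iso c1.symm
    have hNVz : IsZero ((DD V.ι).obj N) := by
      refine hKVgen _ hNV ?_ ?_
      · intro f hf
        rcases List.mem_append.1 hf with hf' | hf'
        · exact isZero_DD_of_le (hle f (by simpa using hf')) _ hNVO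
        · exact isZero_DD_of_le (hleT f (by simpa using hf')) _ hNVT
      · intro m
        have h1 : NoHom KV ((DD V.ι).obj (N⟦m⟧)) := by
          refine NoHom.of_adj adjS ?_
          rw [← hK']
          exact hK'N m
        exact h1.of_iso_right (((DD V.ι).commShiftIso m).app N)
    have hNzero : IsZero N := isZero_of_cover_two j V hcov N hNz hNVz
    have hη : IsIso (adj.unit.app E) := (Triangle.isZero₃_iff_isIso₁ _ hT).1 hNzero
    refine ⟨hη, ?_⟩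
    intro ψ
    haveI := hη
    have hQE0 : NoHom Q' E := (hQE 0).of_iso_right ((shiftFunctorZero (DCoh.D X) ℤ).app E)
    have h2 : NoHom Q' ((DCoh.Rpush j).obj ((DD j).obj E)) :=
      hQE0.of_iso_right (asIso (adj.unit.app E))
    have h3 : NoHom ((DD j).obj Q') ((DD j).obj E) := NoHom.of_adj' adj h2
    have h4 : p ≫ ψ = 0 := h3 _
    calc ψ = (i ≫ p) ≫ ψ := by rw [hip, Category.id_comp]
      _ = 0 := by rw [Category.assoc, h4, comp_zero]
  intro E hE hEz hGE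
  have hE0 : IsZero ((DD j).obj E) := by
    refine hgen _ (LpullQCL.isQCohD_restrictD j E hE) (isZero_DD_preimage j Tc E hEz) ?_
    intro m
    have hm := (key (E⟦m⟧) (isQCohD_shift E hE m) (isZero_DD_shift Tc.ι E hEz m) (by
      intro m'
      exact (hGE (m + m')).of_iso_right
        ((shiftFunctorAdd' (DCoh.D X) m m' (m + m') rfl).app E))).2
    exact hm.of_iso_right (((DD j).commShiftIso m).app E)
  haveI := (key E hE hEz hGE).1
  exact (BCOpenL.isZero_Rpush_of_isZero j _ hE0).of_iso (asIso (adj.unit.app E))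

theorem gen_aux (n : ℕ) : ∀ (X : Scheme.{u}) [CompactSpace X] [QuasiSeparatedSpace X]
    (U₀ : Scheme.{u}) (j : U₀ ⟶ X) [IsOpenImmersion j] [CompactSpace U₀]
    (Vs : Fin n → X.Opens) (hVs : ∀ i, IsAffineOpen (Vs i))
    (hcov : ∀ x : X, x ∈ Set.range j ∨ ∃ i, x ∈ Vs i)
    (Tc : X.Opens) (hTc : IsCompact (Tc : Set X))
    (P₀ : DCoh.D U₀) (hP₀ : DCoh.IsPerfect P₀) (hP₀z : IsZero ((DD (j ⁻¹ᵁ Tc).ι).obj P₀))
    (hgen : GenN (j ⁻¹ᵁ Tc) P₀),
    ∃ G : DCoh.D X, DCoh.IsPerfect G ∧ IsZero ((DD Tc.ι).obj G) ∧ GenN Tc G := by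
  induction n with
  | zero =>
    intro X _ _ U₀ j _ _ Vs hVs hcov Tc hTc P₀ hP₀ hP₀z hgen
    exact gen_two_opens X j ⊥ (isAffineOpen_bot X)
      (fun x => (hcov x).imp id (fun ⟨i, _⟩ => i.elim0)) Tc hTc P₀ hP₀ hP₀z hgen
  | succ n ih =>
    intro X _ _ U₀ j _ _ Vs hVs hcov Tc hTc P₀ hP₀ hP₀z hgen
    have hjc : IsCompact ((j.opensRange : X.Opens) : Set X) := by
      rw [Scheme.Hom.coe_opensRange]
      exact isCompact_range j.continuous
    obtain ⟨X', hX'⟩ : ∃ X' : X.Opens, X' = j.opensRange ⊔ Vs 0 := ⟨_, rfl⟩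
    have hX'c : IsCompact (X' : Set X) := by
      rw [hX', Opens.coe_sup]
      exact hjc.union (hVs 0).isCompact
    haveI : CompactSpace (X' : Scheme.{u}) := isCompact_iff_compactSpace.mp hX'c
    haveI : QuasiSeparatedSpace (X' : Scheme.{u}) :=
      QuasiSeparatedSpace.of_isOpenEmbedding X'.ι.isOpenEmbedding
    have hjX' : Set.range j ⊆ Set.range X'.ι := by
      rw [Scheme.Opens.range_ι, hX', Opens.coe_sup, Scheme.Hom.coe_opensRange]
      exact Set.subset_union_left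
    have hV0 : Vs 0 ≤ X' := by
      rw [hX']
      exact le_sup_right
    obtain ⟨j', hj', hfac⟩ := exists_lift X'.ι j hjX'
    haveI := hj'
    have hpt : ∀ y : U₀, X'.ι (j' y) = j y := by
      intro y
      have h4 := congrArg (fun f : U₀ ⟶ X => f y) hfac
      simpa only [Scheme.Hom.comp_apply] using h4
    have hV' : IsAffineOpen (X'.ι ⁻¹ᵁ Vs 0) := by
      refine (Scheme.Hom.isAffineOpen_iff_of_isOpenImmersion X'.ι).1 ?_
      rw [image_preimage_of_le hV0]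
      exact hVs 0
    have hmem : ∀ x : X, x ∈ (X' : Set X) → x ∈ Set.range j ∨ x ∈ (Vs 0 : Set X) := by
      intro x hx
      rw [hX', Opens.coe_sup, Scheme.Hom.coe_opensRange] at hx
      exact hx
    have hcov' : ∀ x' : (X' : Scheme.{u}), x' ∈ Set.range j' ∨ x' ∈ X'.ι ⁻¹ᵁ Vs 0 := by
      intro x'
      rcases hmem x'.1 x'.2 with ⟨y, hy⟩ | hx'
      · left
        refine ⟨y, ?_⟩
        apply Subtype.ext
        exact (hpt y).trans hy
      · right
        exact hx'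
    have hTc' : IsCompact ((X'.ι ⁻¹ᵁ Tc : (X' : Scheme.{u}).Opens) : Set (X' : Scheme.{u})) :=
      QuasiCompact.isCompact_preimage (f := X'.ι) _ Tc.isOpen hTc
    have hop : j' ⁻¹ᵁ (X'.ι ⁻¹ᵁ Tc) = j ⁻¹ᵁ Tc := by
      ext y
      show X'.ι (j' y) ∈ Tc ↔ j y ∈ Tc
      rw [hpt]
    obtain ⟨G', hG', hG'z, hG'gen⟩ :=
      gen_two_opens (X' : Scheme.{u}) j' (X'.ι ⁻¹ᵁ Vs 0) hV' hcov' (X'.ι ⁻¹ᵁ Tc) hTc'
        P₀ hP₀ (by rw [hop]; exact hP₀z) (by rw [hop]; exact hgen)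
    have hcov'' : ∀ x : X, x ∈ Set.range X'.ι ∨ ∃ i : Fin n, x ∈ Vs i.succ := by
      intro x
      rcases hcov x with hxj | ⟨i, hi⟩
      · exact Or.inl (hjX' hxj)
      · revert hi
        refine Fin.cases ?_ ?_ i
        · intro hi
          left
          rw [Scheme.Opens.range_ι]
          exact hV0 hi
        · intro k hk
          exact Or.inr ⟨k, hk⟩
    exact ih X (X' : Scheme.{u}) X'.ι (fun i => Vs i.succ) (fun i => hVs _) hcov'' Tc hTc
      G' hG' hG'z hG'gen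

theorem isZero_of_isEmpty (Y : Scheme.{u}) [IsEmpty Y] (E : DCoh.D Y) : IsZero E := by
  apply MVPushL.isZero_of_forall_isZero_homology
  intro k
  refine isZero_of_isZero_restrict (DCoh.HD E k) (fun e : Empty => e.elim) ?_
    (fun e => e.elim)
  intro x
  exact isEmptyElim x

theorem exists_generator (X : Scheme.{u}) [CompactSpace X] [QuasiSeparatedSpace X]
    (Tc : X.Opens) (hTc : IsCompact (Tc : Set X)) :
    ∃ G : DCoh.D X, DCoh.IsPerfect G ∧ IsZero ((DD Tc.ι).obj G) ∧ GenN Tc G := by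
  haveI : CompactSpace ((⊥ : X.Opens) : Scheme.{u}) :=
    isCompact_iff_compactSpace.mp (by simp)
  haveI : IsEmpty ((⊥ : X.Opens) : Scheme.{u}) := ⟨fun x => x.2⟩
  haveI : IsEmpty (((⊥ : X.Opens).ι ⁻¹ᵁ Tc : ((⊥ : X.Opens) : Scheme.{u}).Opens) : Scheme.{u}) :=
    ⟨fun y => (y.1 : ((⊥ : X.Opens) : Scheme.{u})).2⟩
  have hcovA : (Set.univ : Set X) ⊆ ⋃ V : X.affineOpens, ((V.1 : X.Opens) : Set X) := by
    intro x _
    have h1 : x ∈ ((⨆ V : X.affineOpens, V.1 : X.Opens) : Set X) := by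
      rw [iSup_affineOpens_eq_top]
      trivial
    simpa using h1
  obtain ⟨t, ht⟩ := isCompact_univ.elim_finite_subcover
    (fun V : X.affineOpens => ((V.1 : X.Opens) : Set X)) (fun V => V.1.isOpen) hcovA
  have hcov : ∀ x : X, x ∈ Set.range (⊥ : X.Opens).ι ∨
      ∃ i : Fin t.toList.length, x ∈ (t.toList.get i).1 := by
    intro x
    right
    obtain ⟨V, hV, hxV⟩ := Set.mem_iUnion₂.1 (ht (Set.mem_univ x))
    obtain ⟨n, hn⟩ := List.mem_iff_get.1 (Finset.mem_toList.2 hV)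
    exact ⟨n, by rw [hn]; exact hxV⟩
  exact gen_aux t.toList.length X _ (⊥ : X.Opens).ι
    (fun i => (t.toList.get i).1) (fun i => (t.toList.get i).2) hcov Tc hTc
    (T0 _) (isPerfect_T0 _) (isZero_of_isEmpty _ _) (fun E _ _ _ => isZero_of_isEmpty _ E)

theorem isZero_DD_bot {X : Scheme.{u}} (E : DCoh.D X) :
    IsZero ((DD (⊥ : X.Opens).ι).obj E) :=
  isZero_DD_of_cover E ⊥ (fun e : Empty => e.elim) (fun x hx => False.elim hx) (fun e => e.elim)

/-- **S1008** -/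
theorem main1008 (X : Scheme.{u}) [CompactSpace X] [QuasiSeparatedSpace X] :
    ∃ P : DCoh.D X, DCoh.IsPerfect P ∧ ∀ E : DCoh.D X, DCoh.IsQCohD E →
      (IsZero E ↔ ∀ (n : ℤ) (φ : P⟦n⟧ ⟶ E), φ = 0) := by
  obtain ⟨G, hG, -, hgen⟩ := exists_generator X ⊥ (by simp)
  refine ⟨G, hG, fun E hE => ⟨fun h n φ => h.eq_of_tgt _ _, fun h => ?_⟩⟩
  refine hgen E hE (isZero_DD_bot E) ?_
  intro m
  exact NoHom.shift_right m (-m) (by omega) (h (-m))

/-- **S1074** -/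
theorem main1074 (X : Scheme.{u}) [CompactSpace X] [QuasiSeparatedSpace X]
    (T : Set X) (hT : IsClosed T) (hTc : IsCompact Tᶜ) :
    ∃ P : DCoh.D X, DCoh.IsPerfect P ∧ DCoh.IsQCohD P ∧
      (∀ i : ℤ, CohB1.support (DCoh.HD P i) ⊆ T) ∧
      ∀ E : DCoh.D X, DCoh.IsQCohD E → (∀ i : ℤ, CohB1.support (DCoh.HD E i) ⊆ T) →
        (IsZero E ↔ ∀ (n : ℤ) (φ : P⟦n⟧ ⟶ E), φ = 0) := by
  obtain ⟨Tc, hTcdef⟩ : ∃ Tc : X.Opens, (Tc : Set X) = Tᶜ := ⟨⟨Tᶜ, hT.isOpen_compl⟩, rfl⟩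
  have hTc' : IsCompact (Tc : Set X) := by
    rw [hTcdef]
    exact hTc
  have hmemTc : ∀ x : X, x ∉ T → x ∈ Tc := by
    intro x hx
    show x ∈ (Tc : Set X)
    rw [hTcdef]
    exact hx
  have hnotT : ∀ x : X, x ∈ Tc → x ∉ T := by
    intro x hx
    have h2 : x ∈ (Tc : Set X) := hx
    rw [hTcdef] at h2
    exact h2
  obtain ⟨G, hG, hGz, hgen⟩ := exists_generator X Tc hTc'
  refine ⟨G, hG, isQCohD_of_isPerfect G hG,
    fun i => support_subset_of_isZero T G (fun x hx => ⟨Tc, hmemTc x hx, hGz⟩) i,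
    fun E hE hET => ⟨fun h n φ => h.eq_of_tgt _ _, fun h => ?_⟩⟩
  have hEz : IsZero ((DD Tc.ι).obj E) := by
    apply MVPushL.isZero_restrictD_of_support
    intro i x hx hxs
    exact hnotT x hx (hET i hxs)
  refine hgen E hE hEz ?_
  intro m
  exact NoHom.shift_right m (-m) (by omega) (h (-m))

end

end Groth.Agent.Lib.TTGenL
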