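import Mathlib
import Groth.Prelude
import Groth.Agent.Lib.TTGen2_lead
import Groth.Agent.Lib.RAdjBd_helper3
import Groth.Agent.Lib.RDerGE_helper7

/-!
# Boundedness of objects of `D_QCoh` is detected by perfect objects (lead; towards S1020, S1021)

* `Ev up S`: the property `S` holds eventually (for large `m` if `up`, for small `m` otherwise);
* `koszul_pt`: pointwise version of `TTGenL.koszul_aux`;
* `BdP up Y`: if `Hom(P, E[m]) = 0` eventually for every perfect `P`, then `H^m(E) = 0`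
  eventually;
* `bd_two_opens`, `bd_aux`, `bd_main`: `BdP up X` for every quasi-compact quasi-separated `X`.
-/

set_option autoImplicit false
set_option linter.all false
set_option maxHeartbeats 1600000
set_option backward.isDefEq.respectTransparency false
set_option backward.isDefEq.respectTransparency.types false
set_option backward.defeqAttrib.useBackward true

universe u

open CategoryTheory CategoryTheory.Limits AlgebraicGeometry TopologicalSpace Opposite
open DerivedCategory CategoryTheory.Pretriangulated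

attribute [local instance] HasDerivedCategory.standard

namespace Groth.Agent.Lib.BddGenL

open Groth.Agent.Lib Groth.Agent.Lib.DCohLocLead Groth.Agent.Lib.PerfLocL
open Groth.Agent.Lib.HomVanL Groth.Agent.Lib.CompQL Groth.Agent.Lib.SerreHomL
open Groth.Agent.Lib.TTLiftL Groth.Agent.Lib.TTApxL Groth.Agent.Lib.TTSuppL
open Groth.Agent.Lib.TTGlueL Groth.Agent.Lib.TTGenL

noncomputable section

attribute [local instance] rpushI lpullI

/-! ### eventual properties -/

/-- `m` lies beyond `n₀` in the direction `up` -/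
def Beyond : Bool → ℤ → ℤ → Prop
  | true, n₀, m => n₀ ≤ m
  | false, n₀, m => m ≤ n₀

/-- `S` holds eventually in the direction `up` -/
def Ev (up : Bool) (S : ℤ → Prop) : Prop := ∃ n₀ : ℤ, ∀ m : ℤ, Beyond up n₀ m → S m

theorem Ev.mono {up : Bool} {S S' : ℤ → Prop} (h : Ev up S) (hSS' : ∀ m, S m → S' m) :
    Ev up S' := by
  obtain ⟨n₀, hn₀⟩ := h
  exact ⟨n₀, fun m hm => hSS' m (hn₀ m hm)⟩

theorem Ev.and {up : Bool} {S S' : ℤ → Prop} (h : Ev up S) (h' : Ev up S') :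
    Ev up (fun m => S m ∧ S' m) := by
  obtain ⟨n₀, hn₀⟩ := h
  obtain ⟨n₁, hn₁⟩ := h'
  cases up
  · refine ⟨min n₀ n₁, fun m hm => ?_⟩
    have hm' : m ≤ min n₀ n₁ := hm
    exact ⟨hn₀ m (show m ≤ n₀ from le_trans hm' (min_le_left _ _)),
      hn₁ m (show m ≤ n₁ from le_trans hm' (min_le_right _ _))⟩
  · refine ⟨max n₀ n₁, fun m hm => ?_⟩
    have hm' : max n₀ n₁ ≤ m := hm
    exact ⟨hn₀ m (show n₀ ≤ m from le_trans (le_max_left _ _) hm'),
      hn₁ m (show n₁ ≤ m from le_trans (le_max_right _ _) hm')⟩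

theorem Ev.shift {up : Bool} {S : ℤ → Prop} (h : Ev up S) (c : ℤ) :
    Ev up (fun m => S (m + c)) := by
  obtain ⟨n₀, hn₀⟩ := h
  cases up
  · refine ⟨n₀ - c, fun m hm => hn₀ _ ?_⟩
    have hm' : m ≤ n₀ - c := hm
    show m + c ≤ n₀
    omega
  · refine ⟨n₀ - c, fun m hm => hn₀ _ ?_⟩
    have hm' : n₀ - c ≤ m := hm
    show n₀ ≤ m + c
    omega

theorem Ev.interval {up : Bool} {S : ℤ → Prop} (h : Ev up S) (a b : ℤ) :
    Ev up (fun m => ∀ i, a + m ≤ i → i ≤ b + m → S i) := by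
  obtain ⟨n₀, hn₀⟩ := h
  cases up
  · refine ⟨n₀ - b, fun m hm i _ hi => hn₀ i ?_⟩
    have hm' : m ≤ n₀ - b := hm
    show i ≤ n₀
    omega
  · refine ⟨n₀ - a, fun m hm i hi _ => hn₀ i ?_⟩
    have hm' : n₀ - a ≤ m := hm
    show n₀ ≤ i
    omega

/-! ### the pointwise Koszul step -/

theorem isZero_HD_of_noHom_T0 (Y : Scheme.{u}) [IsAffine Y] (N : DCoh.D Y)
    (hN : DCoh.IsQCohD N) (k : ℤ) (h : NoHom (T0 Y) (N⟦k⟧)) : IsZero (DCoh.HD N k) := by
  haveI : (DCoh.HD N k).IsQuasicoherent := hN k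
  apply Groth.Agent.CoprodQP.isZero_of_sections
  intro W s
  refine sections_eq_zero_of_affine (DCoh.HD N k) (isAffineOpen_top Y) ?_ W le_top s
  intro m
  obtain ⟨φ, u, hu⟩ := exists_map_of_section Y N hN k m
  have hφ : φ = 0 := KoszL.NoHom.shift_left' (-k) k (by omega) h φ
  rw [← hu, hφ, Functor.map_zero]
  rfl

theorem koszul_pt (Y : Scheme.{u}) [IsAffine Y] (fs : List (Coh.Γtop Y)) :
    ∃ K : DCoh.D Y, DCoh.IsPerfect K ∧ (∀ f ∈ fs, IsZero ((DD (Y.basicOpen f).ι).obj K)) ∧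
      ∀ N : DCoh.D Y, DCoh.IsQCohD N → (∀ f ∈ fs, IsZero ((DD (Y.basicOpen f).ι).obj N)) →
        ∀ m : ℤ, NoHom K (N⟦m⟧) → NoHom (T0 Y) (N⟦m⟧) := by
  induction fs with
  | nil =>
    exact ⟨T0 Y, isPerfect_T0 Y, fun f hf => absurd hf List.not_mem_nil, fun N _ _ m h => h⟩
  | cons f l ih =>
    obtain ⟨Kl, hKl, hKlz, hKlgen⟩ := ih
    obtain ⟨K, q, w, hT⟩ := distinguished_cocone_triangle ((mulD f).app Kl)
    refine ⟨K, isPerfect_obj₃ _ hT hKl hKl, ?_, ?_⟩
    · intro g hg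
      have hT' := (DD (Y.basicOpen g).ι).map_distinguished _ hT
      refine (Triangle.isZero₃_iff_isIso₁ _ hT').2 ?_
      show IsIso ((DD (Y.basicOpen g).ι).map ((mulD f).app Kl))
      rcases List.mem_cons.1 hg with rfl | hg'
      · rw [DD_map_mulD]
        exact isIso_mulD_of_isUnit _ (isUnit_ι_appTop g) _
      · exact ⟨0, (hKlz g hg').eq_of_src _ _, (hKlz g hg').eq_of_src _ _⟩
    · intro N hN hNz m hKN
      refine hKlgen N hN (fun g hg => hNz g (List.mem_cons_of_mem _ hg)) m ?_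
      intro φ
      have hN' : DCoh.IsQCohD (N⟦m⟧) := isQCohD_shift N hN m
      have hz' : IsZero ((DD (Y.basicOpen f).ι).obj (N⟦m⟧)) :=
        isZero_DD_shift _ N (hNz f List.mem_cons_self) m
      have h := hc_of_isPerfect (𝒮 := torsClass) f Kl hKl (N⟦m⟧) hN'
        (hyp_tors_of_restrict _ hN' f hz')
      obtain ⟨k, hk⟩ := h φ
      have hk2 : φ ≫ (mulD (f ^ k)).app (N⟦m⟧) = 0 := (iterate_rightComp f φ k).symm.trans hk
      have key : ∀ k : ℕ, ∀ ψ : Kl ⟶ N⟦m⟧, ψ ≫ (mulD (f ^ k)).app (N⟦m⟧) = 0 → ψ = 0 := by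
        intro k
        induction k with
        | zero =>
          intro ψ hψ
          rw [pow_zero, mulD_one_app, Category.comp_id] at hψ
          exact hψ
        | succ k ihk =>
          intro ψ hψ
          rw [pow_succ', mulD_mul_app, ← Category.assoc] at hψ
          have h1 : ψ ≫ (mulD f).app (N⟦m⟧) = 0 := ihk _ hψ
          have h2 : (mulD f).app Kl ≫ ψ = 0 := by
            rw [← mulD_comm]
            exact h1
          obtain ⟨ψ', hψ'⟩ := Triangle.yoneda_exact₂ _ hT ψ h2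
          rw [hψ', hKN ψ', comp_zero]
      exact key k φ hk2

/-! ### gluing the vanishing of one cohomology sheaf -/

theorem isZero_HD_of_cover_two {X U₀ : Scheme.{u}} (j : U₀ ⟶ X) [IsOpenImmersion j]
    (V : X.Opens) (hcov : ∀ x : X, x ∈ Set.range j ∨ x ∈ V) (N : DCoh.D X) (k : ℤ)
    (h1 : IsZero ((DD j).obj N)) (h2 : IsZero (DCoh.HD ((DD V.ι).obj N) k)) :
    IsZero (DCoh.HD N k) := by
  have h1' : IsZero ((DD j.opensRange.ι).obj N) := by
    refine isZero_DD_of_range_le j j.opensRange.ι ?_ N h1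
    rw [Scheme.Opens.range_ι, Scheme.Hom.coe_opensRange]
  have h2' : IsZero ((Scheme.Modules.restrictFunctor V.ι).obj (DCoh.HD N k)) := by
    obtain ⟨e⟩ := nonempty_HD_restrict_iso V.ι N k
    exact h2.of_iso e.symm
  refine isZero_of_isZero_restrict (DCoh.HD N k)
    (fun b : Bool => if b then j.opensRange else V) ?_ ?_
  · intro x
    rcases hcov x with hx | hx
    · refine ⟨true, ?_⟩
      show x ∈ (j.opensRange : Set X)
      rw [Scheme.Hom.coe_opensRange]
      exact hx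
    · exact ⟨false, hx⟩
  · intro b
    cases b
    · exact h2'
    · exact isZero_HD_restrict N j.opensRange h1' k

/-! ### bounds for `Rf_*` -/

theorem ev_Rpush (up : Bool) {Y X : Scheme.{u}} (f : Y ⟶ X) [QuasiCompact f] [QuasiSeparated f]
    [CompactSpace X] (F : DCoh.D Y) (hF : DCoh.IsQCohD F)
    (h : Ev up (fun m => IsZero (DCoh.HD F m))) :
    Ev up (fun m => IsZero (DCoh.HD ((DCoh.Rpush f).obj F) m)) := by
  obtain ⟨n₀, hn₀⟩ := h
  cases up
  · haveI := MVPushL.grothendieck_modules Y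
    haveI : F.IsGE (n₀ + 1) := by
      rw [DerivedCategory.isGE_iff]
      intro i hi
      exact hn₀ i (show i ≤ n₀ by omega)
    haveI : ((DCoh.Rpush f).obj F).IsGE (n₀ + 1) :=
      Groth.Agent.Lib.RDerGE.isGE (Scheme.Modules.pushforward f) F (n₀ + 1)
    refine ⟨n₀, fun m hm => ?_⟩
    have hm' : m ≤ n₀ := hm
    exact DerivedCategory.isZero_of_isGE _ (n₀ + 1) m (by omega)
  · obtain ⟨N, hN⟩ := RAdjBdH3.exists_bound f
    haveI : F.IsLE (n₀ - 1) := by
      rw [DerivedCategory.isLE_iff]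
      intro i hi
      exact hn₀ i (show n₀ ≤ i by omega)
    haveI := hN F (n₀ - 1) hF inferInstance
    refine ⟨n₀ + N, fun m hm => ?_⟩
    have hm' : n₀ + N ≤ m := hm
    exact DerivedCategory.isZero_of_isLE _ (n₀ - 1 + N - 1) m (by omega)

/-! ### the main induction -/

/-- boundedness of objects of `D_QCoh(Y)` is detected by the perfect objects -/
def BdP (up : Bool) (Y : Scheme.{u}) : Prop :=
  ∀ E : DCoh.D Y, DCoh.IsQCohD E →
    (∀ P : DCoh.D Y, DCoh.IsPerfect P → Ev up (fun m => NoHom P (E⟦m⟧))) →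
    Ev up (fun m => IsZero (DCoh.HD E m))

theorem bd_two_opens (up : Bool) (X : Scheme.{u}) [CompactSpace X] [QuasiSeparatedSpace X]
    {U₀ : Scheme.{u}} (j : U₀ ⟶ X) [IsOpenImmersion j] [CompactSpace U₀]
    (V : X.Opens) (hV : IsAffineOpen V) (hcov : ∀ x : X, x ∈ Set.range j ∨ x ∈ V)
    (hU₀ : BdP up U₀) : BdP up X := by
  haveI : IsAffine (V : Scheme.{u}) := hV
  have hjc : IsCompact ((j.opensRange : X.Opens) : Set X) := by
    rw [Scheme.Hom.coe_opensRange]
    exact isCompact_range j.continuous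
  obtain ⟨O, hO⟩ : ∃ O : (V : Scheme.{u}).Opens, O = V.ι ⁻¹ᵁ j.opensRange := ⟨_, rfl⟩
  have hOc : IsCompact (O : Set (V : Scheme.{u})) := by
    rw [hO]
    exact QuasiCompact.isCompact_preimage (f := V.ι) _ j.opensRange.isOpen hjc
  have hOrange : Set.range (O.ι ≫ V.ι) ⊆ Set.range j := by
    rw [hO]
    rintro _ ⟨y, rfl⟩
    have h1 : V.ι y.1 ∈ j.opensRange := y.2
    exact h1
  obtain ⟨s, hs, hOs⟩ :=
    isCompact_and_isOpen_iff_finite_and_eq_biUnion_basicOpen.1 ⟨hOc, O.isOpen⟩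
  have hle : ∀ f ∈ s, (V : Scheme.{u}).basicOpen f ≤ O := by
    intro f hf x hx
    show x ∈ (O : Set (V : Scheme.{u}))
    rw [hOs]
    exact Set.mem_biUnion hf hx
  have hcovO : ∀ x ∈ O, ∃ f : s, x ∈ (V : Scheme.{u}).basicOpen f.1 := by
    intro x hx
    have hx' : x ∈ (O : Set (V : Scheme.{u})) := hx
    rw [hOs] at hx'
    obtain ⟨f, hf, hxf⟩ := Set.mem_iUnion₂.1 hx'
    exact ⟨⟨f, hf⟩, hxf⟩
  obtain ⟨KV, hKV, hKVz, hKVgen⟩ := koszul_pt (V : Scheme.{u}) hs.toFinset.toList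
  have hKVO : IsZero ((DD O.ι).obj KV) :=
    isZero_DD_of_cover KV O (fun f : s => (V : Scheme.{u}).basicOpen f.1) hcovO
      (fun f => hKVz f.1 (by simpa using f.2))
  obtain ⟨K', hK'⟩ : ∃ K' : DCoh.D X, K' = (CxOX.extZeroD V.ι).obj KV := ⟨_, rfl⟩
  obtain ⟨eK'⟩ : Nonempty ((DD V.ι).obj K' ≅ KV) := by
    rw [hK']
    exact MVPushL.nonempty_restrictD_extZeroD_iso V KV
  have hK'j : IsZero ((DD j).obj K') := by
    rw [hK']
    refine isZero_DD_of_range_le j.opensRange.ι j ?_ _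
      (isZero_DD_extZeroD V j.opensRange KV ?_)
    · rw [Scheme.Opens.range_ι, Scheme.Hom.coe_opensRange]
    · rw [← hO]
      exact hKVO
  have hK'p : DCoh.IsPerfect K' := by
    apply isPerfect_of_cover
    intro x
    rcases hcov x with ⟨y, hy⟩ | hx
    · exact ⟨U₀, j, inferInstance, ⟨y, hy⟩, isPerfect_of_isZero hK'j⟩
    · exact ⟨_, V.ι, inferInstance, ⟨⟨x, hx⟩, rfl⟩, isPerfect_of_iso eK'.symm hKV⟩
  have adjS : CxOX.extZeroD V.ι ⊣ DD V.ι := ApproxOpenL.adjShriek V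
  obtain ⟨adj⟩ := nonempty_adj_DD j
  intro E hE H
  obtain ⟨N, δ, c, hT⟩ := distinguished_cocone_triangle (adj.unit.app E)
  have hNz : IsZero ((DD j).obj N) := RGammaZL.isZero_restrictD_cone_unit j adj E δ c hT
  have hEj : DCoh.IsQCohD ((DD j).obj E) := LpullQCL.isQCohD_restrictD j E hE
  have hRq : DCoh.IsQCohD ((DCoh.Rpush j).obj ((DD j).obj E)) := RpushQCL.main0998 j _ hEj
  have hN : DCoh.IsQCohD N := RpushQCL.isQCohD_obj₃ _ hT hE hRq
  -- Step 1: `N` is bounded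
  have hK'N : ∀ m : ℤ, NoHom K' (E⟦m + 1⟧) → NoHom K' (N⟦m⟧) := by
    intro m hm
    have hTm := rot_of_distTriang _ (Triangle.shift_distinguished _ hT m)
    refine NoHom.ext_right _ hTm ?_ ?_
    · show NoHom K' (((DCoh.Rpush j).obj ((DD j).obj E))⟦m⟧)
      refine NoHom.shift_right m (-m) (by omega) ?_
      refine NoHom.of_adj adj ?_
      exact NoHom.of_isZero_left (isZero_DD_shift j K' hK'j (-m))
    · show NoHom K' ((E⟦m⟧)⟦(1 : ℤ)⟧)
      exact hm.of_iso_right ((shiftFunctorAdd' (DCoh.D X) m 1 (m + 1) rfl).app E)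
  have hNV : DCoh.IsQCohD ((DD V.ι).obj N) := LpullQCL.isQCohD_restrictD V.ι N hN
  have hNVO : IsZero ((DD O.ι).obj ((DD V.ι).obj N)) := by
    obtain ⟨c1⟩ := nonempty_DD_comp_iso O.ι V.ι N
    exact (isZero_DD_of_range_le j (O.ι ≫ V.ι) hOrange N hNz).of_iso c1.symm
  have hNHD : ∀ m : ℤ, NoHom K' (N⟦m⟧) → IsZero (DCoh.HD N m) := by
    intro m hm
    have h1 : NoHom KV ((DD V.ι).obj (N⟦m⟧)) := by
      refine NoHom.of_adj adjS ?_
      rw [← hK']
      exact hm
    have h2 : NoHom KV (((DD V.ι).obj N)⟦m⟧) :=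
      h1.of_iso_right (((DD V.ι).commShiftIso m).app N)
    have h3 : NoHom (T0 (V : Scheme.{u})) (((DD V.ι).obj N)⟦m⟧) :=
      hKVgen _ hNV (fun f hf => isZero_DD_of_le (hle f (by simpa using hf)) _ hNVO) m h2
    have h4 : IsZero (DCoh.HD ((DD V.ι).obj N) m) := isZero_HD_of_noHom_T0 _ _ hNV m h3
    exact isZero_HD_of_cover_two j V hcov N m hNz h4
  have hNbd : Ev up (fun m => IsZero (DCoh.HD N m)) :=
    ((H K' hK'p).shift 1).mono (fun m hm => hNHD m (hK'N m hm))
  -- Step 2: the restriction of `E` to `U₀` satisfies the hypothesis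
  have hU : ∀ P₀ : DCoh.D U₀, DCoh.IsPerfect P₀ →
      Ev up (fun m => NoHom P₀ (((DD j).obj E)⟦m⟧)) := by
    intro P₀ hP₀
    have hbot : IsZero ((DD (j ⁻¹ᵁ (⊥ : X.Opens)).ι).obj P₀) :=
      isZero_DD_of_cover P₀ _ (fun e : Empty => e.elim) (fun x hx => False.elim hx)
        (fun e => e.elim)
    obtain ⟨Q', -, i, p, hQ', -, hip, -⟩ := two_opens X j V hV hcov ⊥ (by simp) (T0 X)
      (isQCohD_of_isPerfect _ (isPerfect_T0 X)) P₀ hP₀ hbot 0
    obtain ⟨a, b, hVR⟩ := exists_VR Q' hQ'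
    refine ((H Q' hQ').and (hNbd.interval a b)).mono (fun m hm => ?_)
    obtain ⟨hm1, hm2⟩ := hm
    have hA : NoHom (Q'⟦-m⟧) E := KoszL.NoHom.shift_left' (-m) m (by omega) hm1
    have hB : NoHom (Q'⟦-m⟧) N :=
      hVR.noHom_shift (-m) N hN (fun i h1 h2 => hm2 i (by omega) (by omega))
    have hC : NoHom (Q'⟦-m⟧) ((DCoh.Rpush j).obj ((DD j).obj E)) :=
      NoHom.ext_right _ hT hA hB
    have hD : NoHom ((DD j).obj (Q'⟦-m⟧)) ((DD j).obj E) := NoHom.of_adj' adj hC
    have hE' : NoHom (((DD j).obj Q')⟦-m⟧) ((DD j).obj E) :=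
      hD.of_iso_left (((DD j).commShiftIso (-m)).app Q')
    have hF : NoHom ((DD j).obj Q') (((DD j).obj E)⟦m⟧) :=
      NoHom.shift_right m (-m) (by omega) hE'
    intro ψ
    have h4 : p ≫ ψ = 0 := hF _
    calc ψ = (i ≫ p) ≫ ψ := by rw [hip, Category.id_comp]
      _ = 0 := by rw [Category.assoc, h4, comp_zero]
  have hUbd : Ev up (fun m => IsZero (DCoh.HD ((DD j).obj E) m)) := hU₀ _ hEj hU
  -- Step 3: `Rj_*` of the restriction is bounded
  have hRbd : Ev up (fun m => IsZero (DCoh.HD ((DCoh.Rpush j).obj ((DD j).obj E)) m)) :=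
    ev_Rpush up j _ hEj hUbd
  -- Step 4: conclusion
  have hfin : ∀ m : ℤ, IsZero (DCoh.HD N (m - 1)) →
      IsZero (DCoh.HD ((DCoh.Rpush j).obj ((DD j).obj E)) m) → IsZero (DCoh.HD E m) := by
    intro m h1 h2
    have hex := DerivedCategory.HomologySequence.exact₁ _ hT (m - 1) m (by omega)
    exact hex.isZero_of_both_isZero h1 h2
  exact ((hNbd.shift (-1)).and hRbd).mono (fun m hm => hfin m hm.1 hm.2)

theorem bd_aux (up : Bool) (n : ℕ) : ∀ (X : Scheme.{u}) [CompactSpace X] [QuasiSeparatedSpace X]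
    (U₀ : Scheme.{u}) (j : U₀ ⟶ X) [IsOpenImmersion j] [CompactSpace U₀]
    (Vs : Fin n → X.Opens) (hVs : ∀ i, IsAffineOpen (Vs i))
    (hcov : ∀ x : X, x ∈ Set.range j ∨ ∃ i, x ∈ Vs i)
    (hU₀ : BdP up U₀), BdP up X := by
  induction n with
  | zero =>
    intro X _ _ U₀ j _ _ Vs hVs hcov hU₀
    exact bd_two_opens up X j ⊥ (isAffineOpen_bot X)
      (fun x => (hcov x).imp id (fun ⟨i, _⟩ => i.elim0)) hU₀
  | succ n ih =>
    intro X _ _ U₀ j _ _ Vs hVs hcov hU₀
    have hjc : IsCompact ((j.opensRange : X.Opens) : Set X) := by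
      rw [Scheme.Hom.coe_opensRange]
      exact isCompact_range j.continuous
    obtain ⟨X', hX'⟩ : ∃ X' : X.Opens, X' = j.opensRange ⊔ Vs 0 := ⟨_, rfl⟩
    have hX'c : IsCompact (X' : Set X) := by
      rw [hX', Opens.coe_sup]
      exact hjc.union (hVs 0).isCompact
    haveI : CompactSpace (X' : Scheme.{u}) := isCompact_iff_compactSpace.mp hX'c
    haveI : QuasiSeparatedSpace (X' : Scheme.{u}) :=
      QuasiSeparatedSpace.of_isOpenEmbedding X'.ι.isOpenEmbedding
    have hjX' : Set.range j ⊆ Set.range X'.ι := by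
      rw [Scheme.Opens.range_ι, hX', Opens.coe_sup, Scheme.Hom.coe_opensRange]
      exact Set.subset_union_left
    have hV0 : Vs 0 ≤ X' := by
      rw [hX']
      exact le_sup_right
    obtain ⟨j', hj', hfac⟩ := exists_lift X'.ι j hjX'
    haveI := hj'
    have hpt : ∀ y : U₀, X'.ι (j' y) = j y := by
      intro y
      have h4 := congrArg (fun f : U₀ ⟶ X => f y) hfac
      simpa only [Scheme.Hom.comp_apply] using h4
    have hV' : IsAffineOpen (X'.ι ⁻¹ᵁ Vs 0) := by
      refine (Scheme.Hom.isAffineOpen_iff_of_isOpenImmersion X'.ι).1 ?_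
      rw [image_preimage_of_le hV0]
      exact hVs 0
    have hmem : ∀ x : X, x ∈ (X' : Set X) → x ∈ Set.range j ∨ x ∈ (Vs 0 : Set X) := by
      intro x hx
      rw [hX', Opens.coe_sup, Scheme.Hom.coe_opensRange] at hx
      exact hx
    have hcov' : ∀ x' : (X' : Scheme.{u}), x' ∈ Set.range j' ∨ x' ∈ X'.ι ⁻¹ᵁ Vs 0 := by
      intro x'
      rcases hmem x'.1 x'.2 with ⟨y, hy⟩ | hx'
      · left
        refine ⟨y, ?_⟩
        apply Subtype.ext
        exact (hpt y).trans hy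
      · right
        exact hx'
    have h' : BdP up (X' : Scheme.{u}) :=
      bd_two_opens up (X' : Scheme.{u}) j' (X'.ι ⁻¹ᵁ Vs 0) hV' hcov' hU₀
    have hcov'' : ∀ x : X, x ∈ Set.range X'.ι ∨ ∃ i : Fin n, x ∈ Vs i.succ := by
      intro x
      rcases hcov x with hxj | ⟨i, hi⟩
      · exact Or.inl (hjX' hxj)
      · revert hi
        refine Fin.cases ?_ ?_ i
        · intro hi
          left
          rw [Scheme.Opens.range_ι]
          exact hV0 hi
        · intro k hk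
          exact Or.inr ⟨k, hk⟩
    exact ih X (X' : Scheme.{u}) X'.ι (fun i => Vs i.succ) (fun i => hVs _) hcov'' h'

theorem bd_main (up : Bool) (X : Scheme.{u}) [CompactSpace X] [QuasiSeparatedSpace X] :
    BdP up X := by
  haveI : CompactSpace ((⊥ : X.Opens) : Scheme.{u}) :=
    isCompact_iff_compactSpace.mp (by simp)
  haveI : IsEmpty ((⊥ : X.Opens) : Scheme.{u}) := ⟨fun x => x.2⟩
  have hcovA : (Set.univ : Set X) ⊆ ⋃ V : X.affineOpens, ((V.1 : X.Opens) : Set X) := by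
    intro x _
    have h1 : x ∈ ((⨆ V : X.affineOpens, V.1 : X.Opens) : Set X) := by
      rw [iSup_affineOpens_eq_top]
      trivial
    simpa using h1
  obtain ⟨t, ht⟩ := isCompact_univ.elim_finite_subcover
    (fun V : X.affineOpens => ((V.1 : X.Opens) : Set X)) (fun V => V.1.isOpen) hcovA
  have hcov : ∀ x : X, x ∈ Set.range (⊥ : X.Opens).ι ∨
      ∃ i : Fin t.toList.length, x ∈ (t.toList.get i).1 := by
    intro x
    right
    obtain ⟨V, hV, hxV⟩ := Set.mem_iUnion₂.1 (ht (Set.mem_univ x))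
    obtain ⟨n, hn⟩ := List.mem_iff_get.1 (Finset.mem_toList.2 hV)
    exact ⟨n, by rw [hn]; exact hxV⟩
  exact bd_aux up t.toList.length X _ (⊥ : X.Opens).ι
    (fun i => (t.toList.get i).1) (fun i => (t.toList.get i).2) hcov
    (fun E _ _ => ⟨0, fun m _ => (homologyFunctor _ m).map_isZero (isZero_of_isEmpty _ E)⟩)

end

end Groth.Agent.Lib.BddGenL
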