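import Mathlib
import Groth.Prelude.Def_DerLim
import Groth.Prelude.Def_CohDer
import Groth.Agent.Lib.CompactHocolim_helper9

/-!
# Cell towers for cohomological functors on a triangulated category with coproducts (helper9)

Given a cohomological functor `H : Dᵒᵖ ⥤ Ab` turning coproducts into products and a family `E`,
we build a tower `K 0 ⟶ K 1 ⟶ ⋯` of "cell attachments" together with compatible classes
`hh n ∈ H (K n)`, its homotopy colimit `L` and a class `h ∈ H L`, such that `g ↦ H(g) h` is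
surjective on maps from shifts of the `E i`, and injective on those shifts which are compact.
-/

open CategoryTheory CategoryTheory.Limits Pretriangulated Opposite
open CategoryTheory.Pretriangulated.Opposite

namespace CellTower

universe w v u

variable {D : Type u} [Category.{v} D]

section Products

variable (H : Dᵒᵖ ⥤ AddCommGrpCat.{v}) {κ : Type w} (X : κ → D) [HasCoproduct X]

/-- the opposite of the coproduct cofan is a product fan -/
noncomputable def isLimitFanOp :
    IsLimit (Fan.mk (op (∐ X)) (fun k => (Sigma.ι X k).op)) :=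
  Fan.IsLimit.mk _ (fun s => (Sigma.desc (fun k => (s.proj k).unop)).op)
    (fun s k => by
      change (Sigma.desc fun k => (s.proj k).unop).op ≫ (Sigma.ι X k).op = s.proj k
      rw [← op_comp, Sigma.ι_desc, Quiver.Hom.op_unop])
    (fun s m hm => by
      apply Quiver.Hom.unop_inj
      apply Sigma.hom_ext
      intro k
      rw [Quiver.Hom.unop_op, Sigma.ι_desc, ← hm k]
      rfl)

variable [PreservesLimitsOfShape (Discrete κ) H]

/-- sections of `H` over a coproduct are determined by their restrictions -/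
lemma H_ext (x y : H.obj (op (∐ X)))
    (h : ∀ k, H.map (Sigma.ι X k).op x = H.map (Sigma.ι X k).op y) : x = y := by
  have hl := isLimitOfPreserves (H ⋙ forget AddCommGrpCat.{v}) (isLimitFanOp X)
  apply (Types.isLimitEquivSections hl).injective
  apply Subtype.ext
  funext j
  exact h j.as

/-- sections of `H` over a coproduct can be glued from arbitrary sections on the summands -/
lemma H_glue (a : ∀ k, H.obj (op (X k))) :
    ∃ x : H.obj (op (∐ X)), ∀ k, H.map (Sigma.ι X k).op x = a k := by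
  have hl := isLimitOfPreserves (H ⋙ forget AddCommGrpCat.{v}) (isLimitFanOp X)
  let s : (Discrete.functor (fun k => op (X k)) ⋙ H ⋙ forget AddCommGrpCat.{v}).sections :=
    ⟨fun j => a j.as, by
      rintro ⟨j⟩ ⟨j'⟩ f
      obtain rfl : j = j' := Discrete.eq_of_hom f
      have : f = 𝟙 _ := Subsingleton.elim _ _
      subst this
      simp⟩
  refine ⟨(Types.isLimitEquivSections hl).symm s, fun k => ?_⟩
  exact Types.isLimitEquivSections_symm_apply hl s ⟨k⟩

end Products

variable [Preadditive D] [HasZeroObject D] [HasShift D ℤ] [∀ n : ℤ, (shiftFunctor D n).Additive]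
  [Pretriangulated D]

section Exact

variable (H : Dᵒᵖ ⥤ AddCommGrpCat.{v}) [H.IsHomological]

/-- exactness of `H` on a distinguished triangle, in elementwise form -/
lemma H_exact (T : Triangle D) (hT : T ∈ distTriang D) (x : H.obj (op T.obj₂))
    (hx : H.map T.mor₁.op x = 0) : ∃ y : H.obj (op T.obj₃), H.map T.mor₂.op y = x := by
  have h1 := H.map_distinguished_exact _ (op_distinguished T hT)
  rw [ShortComplex.ab_exact_iff] at h1
  obtain ⟨y, hy⟩ := h1 x hx
  exact ⟨y, hy⟩

lemma H_map_comp {X Y Z : D} (f : X ⟶ Y) (g : Y ⟶ Z) (x : H.obj (op Z)) :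
    H.map (f ≫ g).op x = H.map f.op (H.map g.op x) := by
  rw [op_comp, Functor.map_comp]
  rfl

lemma H_map_sub {X Y : D} (f g : X ⟶ Y) (x : H.obj (op Y)) :
    H.map (f - g).op x = H.map f.op x - H.map g.op x := by
  rw [op_sub, Functor.map_sub]
  rfl

lemma H_map_zero {X Y : D} (x : H.obj (op Y)) :
    H.map (0 : X ⟶ Y).op x = 0 := by
  rw [op_zero, Functor.map_zero]
  rfl

end Exact

section Hocolim

variable (H : Dᵒᵖ ⥤ AddCommGrpCat.{v}) [H.IsHomological]
  [HasColimitsOfShape (Discrete ℕ) D] [PreservesLimitsOfShape (Discrete ℕ) H]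
  (K : ℕ → D) (f : ∀ n, K n ⟶ K (n + 1))

lemma ι_one_sub_shift (n : ℕ) :
    Sigma.ι K n ≫ (𝟙 (∐ K) - DerLim.shiftMap K f) = Sigma.ι K n - f n ≫ Sigma.ι K (n + 1) := by
  unfold DerLim.shiftMap
  rw [Preadditive.comp_sub, Category.comp_id, Sigma.ι_desc]

omit [HasColimitsOfShape (Discrete ℕ) D] in
lemma isHocolim_w [HasCoproduct K] {L : D} {i : ∀ n, K n ⟶ L} (hL : DerLim.IsHocolim K f L i)
    (n : ℕ) : f n ≫ i (n + 1) = i n := by
  obtain ⟨c, hT⟩ := hL
  have z : (𝟙 (∐ K) - DerLim.shiftMap K f) ≫ Sigma.desc i = 0 := comp_distTriang_mor_zero₁₂ _ hT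
  have z' := congrArg (fun x => Sigma.ι K n ≫ x) z
  simp only [comp_zero] at z'
  unfold DerLim.shiftMap at z'
  rw [← Category.assoc, Preadditive.comp_sub, Category.comp_id, Sigma.ι_desc,
    Preadditive.sub_comp, Sigma.ι_desc, Category.assoc, Sigma.ι_desc, sub_eq_zero] at z'
  exact z'.symm

theorem exists_hocolim (hh : ∀ n, H.obj (op (K n)))
    (hf : ∀ n, H.map (f n).op (hh (n + 1)) = hh n) :
    ∃ (L : D) (i : ∀ n, K n ⟶ L) (h : H.obj (op L)),
      DerLim.IsHocolim K f L i ∧ ∀ n, H.map (i n).op h = hh n := by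
  obtain ⟨L, p, c, hT⟩ := distinguished_cocone_triangle (𝟙 (∐ K) - DerLim.shiftMap K f)
  obtain ⟨hK, hhK⟩ := H_glue H K hh
  have h0 : H.map (𝟙 (∐ K) - DerLim.shiftMap K f).op hK = 0 := by
    apply H_ext H K
    intro n
    rw [← H_map_comp, ι_one_sub_shift, H_map_sub, hhK n, H_map_comp, hhK (n + 1), hf n, sub_self,
      map_zero]
  obtain ⟨h, hh'⟩ := H_exact H _ hT hK h0
  have hp : Sigma.desc (fun n => Sigma.ι K n ≫ p) = p := by
    apply Sigma.hom_ext
    intro n
    rw [Sigma.ι_desc]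
  refine ⟨L, fun n => Sigma.ι K n ≫ p, h, ⟨c, ?_⟩, fun n => ?_⟩
  · rw [hp]
    exact hT
  · rw [H_map_comp]
    have : H.map p.op h = hK := hh'
    rw [this, hhK]

end Hocolim

section Tower

variable [HasCoproducts.{v} D] {ι : Type v} (E : ι → D)
  (H : Dᵒᵖ ⥤ AddCommGrpCat.{v}) [H.IsHomological]
  [∀ κ : Type v, PreservesLimitsOfShape (Discrete κ) H]

/-- a stage of the tower: an object with a class -/
structure Stage where
  /-- the object -/
  X : D
  /-- the class -/
  h : H.obj (op X)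

variable {H}

/-- index set of the cells attached to a stage: maps from shifted generators killing the class -/
abbrev Stage.κ (S : Stage H) : Type v :=
  Σ (i : ι) (m : ℤ), {g : (shiftFunctor D m).obj (E i) ⟶ S.X // H.map g.op S.h = 0}

/-- the cells -/
abbrev Stage.cell (S : Stage H) (k : S.κ E) : D := (shiftFunctor D k.2.1).obj (E k.1)

/-- the attaching maps -/
abbrev Stage.att (S : Stage H) (k : S.κ E) : S.cell E k ⟶ S.X := k.2.2.1

/-- the sum of the cells -/
noncomputable abbrev Stage.Y (S : Stage H) : D := ∐ (S.cell E)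

/-- the total attaching map -/
noncomputable def Stage.y (S : Stage H) : S.Y E ⟶ S.X := Sigma.desc (S.att E)

lemma Stage.ι_y (S : Stage H) (k : S.κ E) : Sigma.ι (S.cell E) k ≫ S.y E = S.att E k :=
  Sigma.ι_desc _ _

lemma Stage.H_y (S : Stage H) : H.map (S.y E).op S.h = 0 := by
  apply H_ext H (S.cell E)
  intro k
  rw [← H_map_comp]
  have h1 : H.map (Sigma.ι (S.cell E) k ≫ S.y E).op S.h = 0 := by
    rw [S.ι_y E k]
    exact k.2.2.2
  rw [map_zero]
  exact h1

lemma Stage.exists_next (S : Stage H) :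
    ∃ (X' : D) (t : S.X ⟶ X') (z : X' ⟶ (shiftFunctor D (1 : ℤ)).obj (S.Y E))
      (h' : H.obj (op X')), Triangle.mk (S.y E) t z ∈ distTriang D ∧ H.map t.op h' = S.h := by
  obtain ⟨X', t, z, hT⟩ := distinguished_cocone_triangle (S.y E)
  obtain ⟨h', hh'⟩ := H_exact H _ hT S.h (S.H_y E)
  exact ⟨X', t, z, h', hT, hh'⟩

/-- the next stage -/
noncomputable def Stage.next (S : Stage H) : Stage H :=
  ⟨(S.exists_next E).choose, (S.exists_next E).choose_spec.choose_spec.choose_spec.choose⟩

/-- the transition map -/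
noncomputable def Stage.t (S : Stage H) : S.X ⟶ (S.next E).X :=
  (S.exists_next E).choose_spec.choose

/-- the connecting map -/
noncomputable def Stage.z (S : Stage H) :
    (S.next E).X ⟶ (shiftFunctor D (1 : ℤ)).obj (S.Y E) :=
  (S.exists_next E).choose_spec.choose_spec.choose

lemma Stage.dist (S : Stage H) : Triangle.mk (S.y E) (S.t E) (S.z E) ∈ distTriang D :=
  (S.exists_next E).choose_spec.choose_spec.choose_spec.choose_spec.1

lemma Stage.H_t (S : Stage H) : H.map (S.t E).op (S.next E).h = S.h :=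
  (S.exists_next E).choose_spec.choose_spec.choose_spec.choose_spec.2

lemma Stage.kill (S : Stage H) (i : ι) (m : ℤ) (g : (shiftFunctor D m).obj (E i) ⟶ S.X)
    (hg : H.map g.op S.h = 0) : g ≫ S.t E = 0 := by
  have h1 : g = Sigma.ι (S.cell E) ⟨i, m, g, hg⟩ ≫ S.y E := (S.ι_y E ⟨i, m, g, hg⟩).symm
  have h2 : S.y E ≫ S.t E = 0 := comp_distTriang_mor_zero₁₂ _ (S.dist E)
  rw [h1, Category.assoc, h2, comp_zero]

variable (H)

/-- index set of the initial cells -/
abbrev κ₀ : Type v := Σ (i : ι) (m : ℤ), H.obj (op ((shiftFunctor D m).obj (E i)))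

/-- the initial cells -/
abbrev cell₀ (k : κ₀ E H) : D := (shiftFunctor D k.2.1).obj (E k.1)

/-- the initial stage -/
noncomputable def stage₀ : Stage H :=
  ⟨∐ cell₀ E H, (H_glue H (cell₀ E H) (fun k => k.2.2)).choose⟩

lemma stage₀_h (k : κ₀ E H) : H.map (Sigma.ι (cell₀ E H) k).op (stage₀ E H).h = k.2.2 :=
  (H_glue H (cell₀ E H) (fun k => k.2.2)).choose_spec k

/-- the stages -/
noncomputable def stage : ℕ → Stage H
  | 0 => stage₀ E H
  | n + 1 => (stage n).next E

/-- the objects of the tower -/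
noncomputable def K (n : ℕ) : D := (stage E H n).X

/-- the transition maps of the tower -/
noncomputable def f (n : ℕ) : K E H n ⟶ K E H (n + 1) := (stage E H n).t E

/-- the classes -/
noncomputable def hh (n : ℕ) : H.obj (op (K E H n)) := (stage E H n).h

lemma H_f (n : ℕ) : H.map (f E H n).op (hh E H (n + 1)) = hh E H n := (stage E H n).H_t E

/-- inclusion of an initial cell -/
noncomputable def ι₀ (k : κ₀ E H) : cell₀ E H k ⟶ K E H 0 := Sigma.ι (cell₀ E H) k

lemma hh_zero (k : κ₀ E H) : H.map (ι₀ E H k).op (hh E H 0) = k.2.2 := stage₀_h E H k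

lemma kill (n : ℕ) (i : ι) (m : ℤ) (g : (shiftFunctor D m).obj (E i) ⟶ K E H n)
    (hg : H.map g.op (hh E H n) = 0) : g ≫ f E H n = 0 := (stage E H n).kill E i m g hg

end Tower

section Main

variable [HasCoproducts.{v} D] [HasColimitsOfShape (Discrete ℕ) D] {ι : Type v} (E : ι → D)
  (H : Dᵒᵖ ⥤ AddCommGrpCat.{v}) [H.IsHomological]
  [∀ κ : Type v, PreservesLimitsOfShape (Discrete κ) H]

/-- the cell tower of a cohomological functor -/
theorem tower :
    ∃ (K : ℕ → D) (f : ∀ n, K n ⟶ K (n + 1)) (L : D) (i : ∀ n, K n ⟶ L) (h : H.obj (op L)),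
      DerLim.IsHocolim K f L i ∧
      (∃ (κ : Type v) (a : κ → ι) (m : κ → ℤ),
        Nonempty (K 0 ≅ ∐ (fun k => (shiftFunctor D (m k)).obj (E (a k))))) ∧
      (∀ n, ∃ (κ : Type v) (a : κ → ι) (m : κ → ℤ)
        (y : (∐ fun k => (shiftFunctor D (m k)).obj (E (a k))) ⟶ K n)
        (z : K (n + 1) ⟶
          (shiftFunctor D (1 : ℤ)).obj (∐ fun k => (shiftFunctor D (m k)).obj (E (a k)))),
        Triangle.mk y (f n) z ∈ distTriang D) ∧
      (∀ (i₀ : ι) (m : ℤ) (a : H.obj (op ((shiftFunctor D m).obj (E i₀)))),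
        ∃ g : (shiftFunctor D m).obj (E i₀) ⟶ L, H.map g.op h = a) ∧
      (∀ (i₀ : ι) (m : ℤ) (g : (shiftFunctor D m).obj (E i₀) ⟶ L),
        CompactH9.PresCoprod ((shiftFunctor D m).obj (E i₀)) → H.map g.op h = 0 → g = 0) := by
  haveI : PreservesLimitsOfShape (Discrete ℕ) H :=
    preservesLimitsOfShape_of_equiv (Discrete.equivalence Equiv.ulift.{v}) H
  obtain ⟨L, i, h, hL, hi⟩ := exists_hocolim H (K E H) (f E H) (hh E H) (H_f E H)
  refine ⟨K E H, f E H, L, i, h, hL, ⟨κ₀ E H, fun k => k.1, fun k => k.2.1, ⟨Iso.refl _⟩⟩,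
    fun n => ⟨(stage E H n).κ E, fun k => k.1, fun k => k.2.1, (stage E H n).y E,
      (stage E H n).z E, (stage E H n).dist E⟩, ?_, ?_⟩
  · intro i₀ m a
    refine ⟨ι₀ E H ⟨i₀, m, a⟩ ≫ i 0, ?_⟩
    rw [H_map_comp, hi 0]
    exact hh_zero E H ⟨i₀, m, a⟩
  · intro i₀ m g hC hg
    obtain ⟨n, g', rfl⟩ := CompactH9.factor_of_presCoprod hC _ _ L i hL g
    have h1 : H.map g'.op (hh E H n) = 0 := by
      rw [← hi n, ← H_map_comp]
      exact hg
    have h2 := kill E H n i₀ m g' h1
    rw [← isHocolim_w _ _ hL n, ← Category.assoc, h2, zero_comp]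

end Main

end CellTower
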