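import Mathlib
import Groth.Prelude.Def_DerLim
import Groth.Prelude.Def_CohDer
import Groth.Agent.Lib.CellTower_helper9
import Groth.Agent.S7881

/-!
# Every object of a compactly generated triangulated category is a homotopy colimit of cells
(helper9)
-/

open CategoryTheory CategoryTheory.Limits Pretriangulated

namespace CellPres

universe v u

variable {D : Type u} [Category.{v} D] [Preadditive D] [HasZeroObject D] [HasShift D ℤ]
  [∀ n : ℤ, (shiftFunctor D n).Additive] [Pretriangulated D]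

/-- transporting a homotopy colimit along an isomorphism -/
lemma isHocolim_of_iso (K : ℕ → D) (f : ∀ n, K n ⟶ K (n + 1)) [HasCoproduct K] {L X : D}
    (i : ∀ n, K n ⟶ L) (hL : DerLim.IsHocolim K f L i) (φ : L ⟶ X) [IsIso φ] :
    DerLim.IsHocolim K f X (fun n => i n ≫ φ) := by
  obtain ⟨c, hT⟩ := hL
  refine ⟨inv φ ≫ c, ?_⟩
  have c1 : (𝟙 (∐ K) - DerLim.shiftMap K f) ≫ (Iso.refl (∐ K)).hom =
      (Iso.refl (∐ K)).hom ≫ (𝟙 (∐ K) - DerLim.shiftMap K f) := by
    rw [Iso.refl_hom, Category.comp_id, Category.id_comp]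
  let e3 : L ≅ X := asIso φ
  have c2 : Sigma.desc i ≫ e3.hom =
      (Iso.refl (∐ K)).hom ≫ Sigma.desc (fun n => i n ≫ φ) := by
    apply Sigma.hom_ext
    intro n
    rw [Iso.refl_hom, Category.id_comp, Sigma.ι_desc, ← Category.assoc, Sigma.ι_desc]
    rfl
  have c3 : c ≫ (shiftFunctor D (1 : ℤ)).map (Iso.refl (∐ K)).hom =
      e3.hom ≫ inv φ ≫ c := by
    rw [Iso.refl_hom, CategoryTheory.Functor.map_id, Category.comp_id, asIso_hom,
      IsIso.hom_inv_id_assoc]
  exact isomorphic_distinguished _ hT _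
    (Triangle.isoMk (Triangle.mk (𝟙 (∐ K) - DerLim.shiftMap K f) (Sigma.desc i) c)
      (Triangle.mk (𝟙 (∐ K) - DerLim.shiftMap K f) (Sigma.desc (fun n => i n ≫ φ)) (inv φ ≫ c))
      (Iso.refl _) (Iso.refl _) e3 c1 c2 c3).symm

variable [HasCoproducts.{v} D] [HasColimitsOfShape (Discrete ℕ) D]

theorem exists_presentation {ι : Type v} (E : ι → D) (hc : ∀ i, CohDer.IsCompactObject (E i))
    (hg : CohDer.Generates E) (X : D) :
    ∃ (K : ℕ → D) (f : ∀ n, K n ⟶ K (n + 1)) (i : ∀ n, K n ⟶ X),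
      DerLim.IsHocolim K f X i ∧
      (∃ (κ : Type v) (a : κ → ι) (m : κ → ℤ),
        Nonempty (K 0 ≅ ∐ (fun k => (shiftFunctor D (m k)).obj (E (a k))))) ∧
      ∀ n, ∃ (κ : Type v) (a : κ → ι) (m : κ → ℤ)
        (y : (∐ fun k => (shiftFunctor D (m k)).obj (E (a k))) ⟶ K n)
        (z : K (n + 1) ⟶
          (shiftFunctor D (1 : ℤ)).obj (∐ fun k => (shiftFunctor D (m k)).obj (E (a k)))),
        Triangle.mk y (f n) z ∈ distTriang D := by
  obtain ⟨K, f, L, i, h, hL, h0, hstep, hsurj, hinj⟩ :=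
    CellTower.tower E (preadditiveYoneda.obj X)
  let φ : L ⟶ X := h
  have hbij : ∀ (i₀ : ι) (m : ℤ),
      Function.Bijective (fun g : (shiftFunctor D m).obj (E i₀) ⟶ L => g ≫ φ) := by
    intro i₀ m
    constructor
    · intro g₁ g₂ h12
      have h3 : (g₁ - g₂) ≫ φ = 0 := by
        rw [Preadditive.sub_comp]
        exact sub_eq_zero.2 h12
      have h4 := hinj i₀ m (g₁ - g₂)
        (CompactH9.presCoprod_shift (CompactH9.presCoprod_of_isCompactObject (hc i₀)) m) h3
      exact sub_eq_zero.1 h4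
    · intro a
      obtain ⟨g, hg'⟩ := hsurj i₀ m a
      exact ⟨g, hg'⟩
  have hiso : IsIso φ := by
    refine (Groth.Agent.S7881.result E hg φ).2 (fun i₀ n => ?_)
    let adj := (shiftEquiv D n).symm.toAdjunction
    have e1 : (fun g : E i₀ ⟶ (shiftFunctor D n).obj L => g ≫ (shiftFunctor D n).map φ) =
        fun g => adj.homEquiv (E i₀) X ((adj.homEquiv (E i₀) L).symm g ≫ φ) := by
      funext g
      rw [adj.homEquiv_naturality_right, Equiv.apply_symm_apply]
      rfl
    rw [e1]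
    exact (adj.homEquiv (E i₀) X).bijective.comp
      ((hbij i₀ (-n)).comp (adj.homEquiv (E i₀) L).symm.bijective)
  exact ⟨K, f, fun n => i n ≫ φ, isHocolim_of_iso K f i hL φ, h0, hstep⟩

end CellPres
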