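import Mathlib
import Groth.Prelude.Def_DerLim
import Groth.Prelude.Def_CohDer
import Groth.Agent.Lib.CellPres_helper9

/-!
# Brown representability for compactly generated triangulated categories (helper9)
-/

open CategoryTheory CategoryTheory.Limits Pretriangulated Opposite
open CategoryTheory.Pretriangulated.Opposite

namespace BrownRep

open CellTower

universe w v u

variable {D : Type u} [Category.{v} D] [Preadditive D] [HasZeroObject D] [HasShift D ℤ]
  [∀ n : ℤ, (shiftFunctor D n).Additive] [Pretriangulated D]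
  (H : Dᵒᵖ ⥤ AddCommGrpCat.{v}) [H.IsHomological] {L : D} (h : H.obj (op L))

/-- the Yoneda map attached to a class `h ∈ H(L)` -/
def η (Z : D) (g : Z ⟶ L) : H.obj (op Z) := H.map g.op h

lemma η_comp {Z Z' : D} (a : Z ⟶ Z') (g : Z' ⟶ L) :
    η H h Z (a ≫ g) = H.map a.op (η H h Z' g) := H_map_comp H a g h

lemma η_sub {Z : D} (g₁ g₂ : Z ⟶ L) : η H h Z (g₁ - g₂) = η H h Z g₁ - η H h Z g₂ :=
  H_map_sub H g₁ g₂ h

lemma η_zero (Z : D) : η H h Z 0 = 0 := H_map_zero H h

lemma η_add {Z : D} (g₁ g₂ : Z ⟶ L) : η H h Z (g₁ + g₂) = η H h Z g₁ + η H h Z g₂ := by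
  unfold η
  rw [op_add, Functor.map_add]
  rfl

lemma η_neg {Z : D} (g : Z ⟶ L) : η H h Z (-g) = -η H h Z g := by
  unfold η
  rw [op_neg, Functor.map_neg]
  rfl

omit [H.IsHomological] in
lemma H_map_id {Z : D} (x : H.obj (op Z)) : H.map (𝟙 Z).op x = x := by
  rw [op_id, CategoryTheory.Functor.map_id]
  rfl

lemma η_injective_of_ker {Z : D} (hk : ∀ g : Z ⟶ L, η H h Z g = 0 → g = 0) :
    Function.Injective (η H h Z) := by
  intro g₁ g₂ h12
  have := hk (g₁ - g₂) (by rw [η_sub, h12, sub_self])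
  exact sub_eq_zero.1 this

/-- `η` is bijective at `Z` -/
def Q (Z : D) : Prop := Function.Bijective (η H h Z)

/-- `η` is bijective at all shifts of `Z` -/
def P (Z : D) : Prop := ∀ m : ℤ, Q H h ((shiftFunctor D m).obj Z)

lemma Q_of_iso {Z Z' : D} (e : Z ≅ Z') (hZ : Q H h Z) : Q H h Z' := by
  constructor
  · intro g₁ g₂ h12
    have h1 : η H h Z (e.hom ≫ g₁) = η H h Z (e.hom ≫ g₂) := by
      rw [η_comp, η_comp, h12]
    exact (cancel_epi e.hom).1 (hZ.1 h1)
  · intro x
    obtain ⟨g, hg⟩ := hZ.2 (H.map e.hom.op x)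
    refine ⟨e.inv ≫ g, ?_⟩
    rw [η_comp, hg, ← H_map_comp, e.inv_hom_id, H_map_id]

lemma P_of_iso {Z Z' : D} (e : Z ≅ Z') (hZ : P H h Z) : P H h Z' :=
  fun m => Q_of_iso H h ((shiftFunctor D m).mapIso e) (hZ m)

lemma P_shift {Z : D} (hZ : P H h Z) (n : ℤ) : P H h ((shiftFunctor D n).obj Z) := by
  intro m
  exact Q_of_iso H h ((shiftFunctorAdd' D n m (n + m) rfl).app Z) (hZ (n + m))

section Coprod

variable {κ : Type w} (Z : κ → D) [HasCoproduct Z] [PreservesLimitsOfShape (Discrete κ) H]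

omit [HasZeroObject D] [HasShift D ℤ] [∀ n : ℤ, (shiftFunctor D n).Additive]
  [Pretriangulated D] [H.IsHomological] in
lemma Q_coprod' (η' : ∀ Z : D, (Z ⟶ L) → H.obj (op Z))
    (hη : ∀ {Z Z' : D} (a : Z ⟶ Z') (g : Z' ⟶ L), η' Z (a ≫ g) = H.map a.op (η' Z' g))
    (hZ : ∀ k, Function.Bijective (η' (Z k))) : Function.Bijective (η' (∐ Z)) := by
  constructor
  · intro g₁ g₂ h12
    apply Sigma.hom_ext
    intro k
    apply (hZ k).1
    rw [hη, hη, h12]
  · intro x
    choose g hg using fun k => (hZ k).2 (H.map (Sigma.ι Z k).op x)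
    refine ⟨Sigma.desc g, ?_⟩
    apply H_ext H Z
    intro k
    rw [← hη, Sigma.ι_desc, hg]

lemma Q_coprod (hZ : ∀ k, Q H h (Z k)) : Q H h (∐ Z) :=
  Q_coprod' H Z (η H h) (fun a g => η_comp H h a g) hZ

lemma P_coprod [∀ m : ℤ, HasCoproduct (fun k => (shiftFunctor D m).obj (Z k))]
    (hZ : ∀ k, P H h (Z k)) : P H h (∐ Z) := by
  intro m
  exact Q_of_iso H h (PreservesCoproduct.iso (shiftFunctor D m) Z).symm
    (Q_coprod H h (fun k => (shiftFunctor D m).obj (Z k)) (fun k => hZ k m))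

end Coprod

section Five

/-- the five lemma for `η` along a distinguished triangle -/
lemma Q_triangle (T : Triangle D) (hT : T ∈ distTriang D)
    (h1 : Q H h T.obj₁) (h2 : Q H h T.obj₂)
    (h1' : Q H h ((shiftFunctor D (1 : ℤ)).obj T.obj₁))
    (h2' : Q H h ((shiftFunctor D (1 : ℤ)).obj T.obj₂)) : Q H h T.obj₃ := by
  constructor
  · apply η_injective_of_ker
    intro g hg
    -- step 1
    have s1 : T.mor₂ ≫ g = 0 := by
      apply h2.1
      rw [η_comp, hg, map_zero, η_zero]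
    obtain ⟨g', rfl⟩ := Triangle.yoneda_exact₃ T hT g s1
    -- step 3
    have s3 : H.map T.mor₃.op (η H h _ g') = 0 := by
      rw [← η_comp]
      exact hg
    obtain ⟨b', hb'⟩ := H_exact H _ (rot_of_distTriang _ (rot_of_distTriang _ hT)) (η H h _ g') s3
    obtain ⟨β, rfl⟩ := h2'.2 b'
    have s6 : g' = (-(shiftFunctor D (1 : ℤ)).map T.mor₁) ≫ β := by
      apply h1'.1
      rw [η_comp]
      exact hb'.symm
    rw [s6, Preadditive.neg_comp, Preadditive.comp_neg, ← Category.assoc,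
      comp_distTriang_mor_zero₃₁ T hT, zero_comp, neg_zero]
  · intro c
    obtain ⟨β, hβ⟩ := h2.2 (H.map T.mor₂.op c)
    have s2 : T.mor₁ ≫ β = 0 := by
      apply h1.1
      rw [η_comp, hβ, η_zero, ← H_map_comp, comp_distTriang_mor_zero₁₂ T hT, H_map_zero]
    obtain ⟨γ, rfl⟩ := Triangle.yoneda_exact₂ T hT β s2
    have s4 : H.map T.mor₂.op (c - η H h _ γ) = 0 := by
      rw [map_sub, ← η_comp, hβ, sub_self]
    obtain ⟨a', ha'⟩ := H_exact H _ (rot_of_distTriang _ hT) (c - η H h _ γ) s4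
    obtain ⟨α, rfl⟩ := h1'.2 a'
    refine ⟨γ + T.mor₃ ≫ α, ?_⟩
    rw [η_add, η_comp]
    have : H.map T.mor₃.op (η H h _ α) = c - η H h _ γ := ha'
    rw [this]
    abel

lemma P_triangle (T : Triangle D) (hT : T ∈ distTriang D)
    (h1 : P H h T.obj₁) (h2 : P H h T.obj₂) : P H h T.obj₃ := by
  intro m
  exact Q_triangle H h _ (Triangle.shift_distinguished T hT m) (h1 m) (h2 m)
    (P_shift H h h1 m 1) (P_shift H h h2 m 1)

end Five

section Main

variable [HasCoproducts.{v} D] [∀ κ : Type v, PreservesLimitsOfShape (Discrete κ) H]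

theorem representable {ι : Type v} (E : ι → D) (hc : ∀ i, CohDer.IsCompactObject (E i))
    (hg : CohDer.Generates E) : (H ⋙ forget AddCommGrpCat.{v}).IsRepresentable := by
  haveI : HasColimitsOfShape (Discrete ℕ) D :=
    hasColimitsOfShape_of_equivalence (Discrete.equivalence Equiv.ulift.{v})
  haveI : PreservesLimitsOfShape (Discrete ℕ) H :=
    preservesLimitsOfShape_of_equiv (Discrete.equivalence Equiv.ulift.{v}) H
  obtain ⟨K, f, L, i, h, hL, h0, hstep, hsurj, hinj⟩ := CellTower.tower E H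
  -- generators
  have hQE : ∀ i₀ m, Q H h ((shiftFunctor D m).obj (E i₀)) := fun i₀ m =>
    ⟨η_injective_of_ker H h (fun g hg => hinj i₀ m g
      (CompactH9.presCoprod_shift (CompactH9.presCoprod_of_isCompactObject (hc i₀)) m) hg),
      fun a => hsurj i₀ m a⟩
  have hPE : ∀ i₀ m, P H h ((shiftFunctor D m).obj (E i₀)) := fun i₀ m m' =>
    Q_of_iso H h ((shiftFunctorAdd' D m m' (m + m') rfl).app (E i₀)) (hQE i₀ (m + m'))
  have hPcell : ∀ (κ : Type v) (a : κ → ι) (m : κ → ℤ),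
      P H h (∐ fun k => (shiftFunctor D (m k)).obj (E (a k))) :=
    fun κ a m => P_coprod H h _ (fun k => hPE (a k) (m k))
  have hall : ∀ Y : D, P H h Y := by
    intro Y
    obtain ⟨K', f', i', hY, ⟨κ, a, m, ⟨e0⟩⟩, hstep'⟩ := CellPres.exists_presentation E hc hg Y
    have hK : ∀ n, P H h (K' n) := by
      intro n
      induction n with
      | zero => exact P_of_iso H h e0.symm (hPcell κ a m)
      | succ n ih =>
        obtain ⟨κ', a', m', y, z, hT⟩ := hstep' n
        exact P_triangle H h _ hT (hPcell κ' a' m') ih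
    obtain ⟨c, hT⟩ := hY
    exact P_triangle H h _ hT (P_coprod H h K' hK) (P_coprod H h K' hK)
  -- representability
  have hbij : ∀ Y, Function.Bijective (η H h Y) :=
    fun Y => Q_of_iso H h ((shiftFunctorZero D ℤ).app Y) (hall Y 0)
  exact Functor.RepresentableBy.isRepresentable (Y := L)
    { homEquiv := fun {Y} => Equiv.ofBijective (η H h Y) (hbij Y)
      homEquiv_comp := fun {Y Y'} a g => η_comp H h a g }

end Main

end BrownRep
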