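import Mathlib
import Groth.Prelude.Def_DerLim
import Groth.Prelude.Def_CohDer
import Groth.Agent.Lib.Brown_helper9

/-!
# Brown representability with a separate universe of indices (lead)

Universe-generalised version of helper9's `CellTower`, `CellPres` and `BrownRep`: the category `D`
has morphisms in `Type v`, coproducts indexed by types in `Type w`, and is locally `w`-small.
The cohomological functor takes values in `AddCommGrpCat.{v}` but has `w`-small values.
Compactness of the generators is only needed with respect to countable coproducts.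
-/

set_option autoImplicit false
set_option linter.all false
set_option maxHeartbeats 1600000

open CategoryTheory CategoryTheory.Limits Pretriangulated Opposite
open CategoryTheory.Pretriangulated.Opposite

namespace Groth.Agent.Lib.BrownWL

universe w v u

variable {D : Type u} [Category.{v} D] [Preadditive D] [HasZeroObject D] [HasShift D ℤ]
  [∀ n : ℤ, (shiftFunctor D n).Additive] [Pretriangulated D]

/-- `Hom(C, -)` preserves countable coproducts -/
def PresNat (C : D) : Prop :=
  PreservesColimitsOfShape (Discrete ℕ) (preadditiveCoyoneda.obj (op C))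

theorem presNat_shift {C : D} (h : PresNat C) (m : ℤ) :
    PresNat ((shiftFunctor D m).obj C) := by
  haveI : PreservesColimitsOfShape (Discrete ℕ) (preadditiveCoyoneda.obj (op C)) := h
  exact preservesColimitsOfShape_of_natIso (CompactH9.coyonedaShiftIso C m)

theorem factor_of_presNat [HasColimitsOfShape (Discrete ℕ) D] {C : D} (hC : PresNat C)
    (K : ℕ → D) (f : ∀ n, K n ⟶ K (n + 1))
    (L : D) (i : ∀ n, K n ⟶ L) (hL : DerLim.IsHocolim K f L i) (g : C ⟶ L) :
    ∃ (n : ℕ) (g' : C ⟶ K n), g = g' ≫ i n := by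
  haveI : PreservesColimitsOfShape (Discrete ℕ) (preadditiveCoyoneda.obj (op C)) := hC
  obtain ⟨e, he⟩ := HocolimHomological.exists_iso (preadditiveCoyoneda.obj (op C)) K f L i hL
  haveI : PreservesFilteredColimitsOfSize.{0, 0} (forget AddCommGrpCat.{v}) :=
    preservesFilteredColimitsOfSize_shrink.{0, v, 0, v} _
  obtain ⟨n, y, hy⟩ := Concrete.colimit_exists_rep _ (e.inv.hom g)
  refine ⟨n, y, ?_⟩
  have h1 := congrArg (fun φ => φ.hom y) (he n)
  simp only [AddCommGrpCat.hom_comp, AddMonoidHom.coe_comp, Function.comp_apply] at h1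
  have h2 : e.hom.hom (e.inv.hom g) = g := by
    have h3 : (e.inv ≫ e.hom).hom g = g := by
      rw [e.inv_hom_id]
      rfl
    exact h3
  rw [← h2, ← hy]
  exact h1

theorem preservesProducts_preadditiveYoneda [UnivLE.{w, v}] (X : D) (κ : Type w) :
    PreservesLimitsOfShape (Discrete κ) (preadditiveYoneda.obj X) := by
  haveI : Small.{v} κ := UnivLE.small κ
  haveI : Small.{v} (Discrete κ) := small_map discreteEquiv
  haveI : PreservesLimitsOfShape (Discrete κ)
      (preadditiveYoneda.obj X ⋙ forget AddCommGrpCat.{v}) :=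
    (inferInstance : PreservesLimitsOfShape (Discrete κ) (yoneda.obj X))
  haveI : ReflectsLimitsOfShape (Discrete κ) (forget AddCommGrpCat.{v}) :=
    reflectsLimitsOfShape_of_reflectsIsomorphisms
  exact preservesLimitsOfShape_of_reflects_of_preserves _ (forget AddCommGrpCat.{v})

/-- isomorphisms are detected by a generating family (copy of helper9's S7881, any index universe) -/
theorem isIso_of_bijective {ι : Type*} (S : ι → D) (hS : CohDer.Generates S) {X Y : D} (f : X ⟶ Y)
    (H : ∀ (i : ι) (n : ℤ), Function.Bijective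
      (fun g : S i ⟶ (shiftFunctor D n).obj X => g ≫ (shiftFunctor D n).map f)) : IsIso f := by
  obtain ⟨Z, g, h, hT⟩ := distinguished_cocone_triangle f
  refine (Triangle.isZero₃_iff_isIso₁ _ hT).1 ?_
  show IsZero Z
  apply hS
  intro i n u
  have hT' : Triangle.mk (n.negOnePow • (shiftFunctor D n).map f)
      (n.negOnePow • (shiftFunctor D n).map g)
      (n.negOnePow • (shiftFunctor D n).map h ≫ (shiftFunctorComm D 1 n).hom.app X) ∈
      distTriang D := Triangle.shift_distinguished _ hT n
  -- Step A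
  have hA : u ≫ (n.negOnePow • (shiftFunctor D n).map h ≫
      (shiftFunctorComm D 1 n).hom.app X) = 0 := by
    have h1 : (u ≫ (n.negOnePow • (shiftFunctor D n).map h ≫
        (shiftFunctorComm D 1 n).hom.app X)) ≫
        (shiftFunctor D (1 : ℤ)).map (n.negOnePow • (shiftFunctor D n).map f) = 0 := by
      rw [Category.assoc]
      have : (n.negOnePow • (shiftFunctor D n).map h ≫ (shiftFunctorComm D 1 n).hom.app X) ≫
          (shiftFunctor D (1 : ℤ)).map (n.negOnePow • (shiftFunctor D n).map f) = 0 :=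
        comp_distTriang_mor_zero₃₁ _ hT'
      rw [this, comp_zero]
    generalize u ≫ (n.negOnePow • (shiftFunctor D n).map h ≫
        (shiftFunctorComm D 1 n).hom.app X) = v at h1 ⊢
    rw [Functor.map_units_smul, Linear.comp_units_smul] at h1
    have h3 : v ≫ (shiftFunctor D (1 : ℤ)).map ((shiftFunctor D n).map f) = 0 := by
      have := congrArg (fun x => n.negOnePow⁻¹ • x) h1
      simpa [smul_smul] using this
    let e := shiftFunctorAdd' D n 1 (n + 1) rfl
    have h4 : (v ≫ e.inv.app X) ≫ (shiftFunctor D (n + 1)).map f = 0 := by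
      have nat := e.inv.naturality f
      dsimp at nat
      rw [Category.assoc, ← nat, reassoc_of% h3, zero_comp]
    have h5 : v ≫ e.inv.app X = 0 :=
      (H i (n + 1)).1 (by simpa using h4)
    rw [← cancel_mono (e.inv.app X), h5, zero_comp]
  -- Step B
  obtain ⟨v, hv⟩ : ∃ v : S i ⟶ (shiftFunctor D n).obj Y,
      u = v ≫ (n.negOnePow • (shiftFunctor D n).map g) :=
    Triangle.coyoneda_exact₃ _ hT' u hA
  rw [Linear.comp_units_smul, ← Linear.units_smul_comp] at hv
  -- Step C
  obtain ⟨w, hw⟩ := (H i n).2 (n.negOnePow • v)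
  dsimp at hw
  have hfg : f ≫ g = 0 := comp_distTriang_mor_zero₁₂ _ hT
  rw [hv, ← hw, Category.assoc, ← Functor.map_comp, hfg, Functor.map_zero, comp_zero]

section Tower

variable [HasCoproducts.{w} D] [LocallySmall.{w} D] {ι : Type w} (E : ι → D)
  (H : Dᵒᵖ ⥤ AddCommGrpCat.{v}) [H.IsHomological]
  [∀ κ : Type w, PreservesLimitsOfShape (Discrete κ) H]

/-- a stage of the tower: an object with a class -/
structure Stage where
  /-- the object -/
  X : D
  /-- the class -/
  h : H.obj (op X)

variable {H}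

/-- (large) index set of the cells attached to a stage -/
abbrev Stage.κ' (S : Stage H) :=
  Σ (i : ι) (m : ℤ), {g : (shiftFunctor D m).obj (E i) ⟶ S.X // H.map g.op S.h = 0}

instance Stage.small_κ' (S : Stage H) : Small.{w} (S.κ' E) := by
  dsimp only [Stage.κ']
  infer_instance

/-- small index set of the cells attached to a stage -/
abbrev Stage.κ (S : Stage H) : Type w := Shrink.{w} (S.κ' E)

/-- decoding an index -/
noncomputable abbrev Stage.dec (S : Stage H) (k : S.κ E) : S.κ' E :=
  (equivShrink (S.κ' E)).symm k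

/-- the cells -/
noncomputable abbrev Stage.cell (S : Stage H) (k : S.κ E) : D :=
  (shiftFunctor D (S.dec E k).2.1).obj (E (S.dec E k).1)

/-- the attaching maps -/
noncomputable abbrev Stage.att (S : Stage H) (k : S.κ E) : S.cell E k ⟶ S.X := (S.dec E k).2.2.1

/-- the sum of the cells -/
noncomputable abbrev Stage.Y (S : Stage H) : D := ∐ (S.cell E)

/-- the total attaching map -/
noncomputable def Stage.y (S : Stage H) : S.Y E ⟶ S.X := Sigma.desc (S.att E)

lemma Stage.ι_y (S : Stage H) (k : S.κ E) : Sigma.ι (S.cell E) k ≫ S.y E = S.att E k :=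
  Sigma.ι_desc _ _

lemma Stage.H_y (S : Stage H) : H.map (S.y E).op S.h = 0 := by
  apply CellTower.H_ext H (S.cell E)
  intro k
  rw [← CellTower.H_map_comp]
  have h1 : H.map (Sigma.ι (S.cell E) k ≫ S.y E).op S.h = 0 := by
    rw [S.ι_y E k]
    exact (S.dec E k).2.2.2
  rw [map_zero]
  exact h1

lemma Stage.exists_next (S : Stage H) :
    ∃ (X' : D) (t : S.X ⟶ X') (z : X' ⟶ (shiftFunctor D (1 : ℤ)).obj (S.Y E))
      (h' : H.obj (op X')), Triangle.mk (S.y E) t z ∈ distTriang D ∧ H.map t.op h' = S.h := by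
  obtain ⟨X', t, z, hT⟩ := distinguished_cocone_triangle (S.y E)
  obtain ⟨h', hh'⟩ := CellTower.H_exact H _ hT S.h (S.H_y E)
  exact ⟨X', t, z, h', hT, hh'⟩

/-- the next stage -/
noncomputable def Stage.next (S : Stage H) : Stage H :=
  ⟨(S.exists_next E).choose, (S.exists_next E).choose_spec.choose_spec.choose_spec.choose⟩

/-- the transition map -/
noncomputable def Stage.t (S : Stage H) : S.X ⟶ (S.next E).X :=
  (S.exists_next E).choose_spec.choose

/-- the connecting map -/
noncomputable def Stage.z (S : Stage H) :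
    (S.next E).X ⟶ (shiftFunctor D (1 : ℤ)).obj (S.Y E) :=
  (S.exists_next E).choose_spec.choose_spec.choose

lemma Stage.dist (S : Stage H) : Triangle.mk (S.y E) (S.t E) (S.z E) ∈ distTriang D :=
  (S.exists_next E).choose_spec.choose_spec.choose_spec.choose_spec.1

lemma Stage.H_t (S : Stage H) : H.map (S.t E).op (S.next E).h = S.h :=
  (S.exists_next E).choose_spec.choose_spec.choose_spec.choose_spec.2

lemma Stage.kill' (S : Stage H) (x : S.κ' E) : x.2.2.1 ≫ S.t E = 0 := by
  obtain ⟨k, rfl⟩ := (equivShrink (S.κ' E)).symm.surjective x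
  have h2 : S.y E ≫ S.t E = 0 := comp_distTriang_mor_zero₁₂ _ (S.dist E)
  have h3 : S.att E k ≫ S.t E = 0 := by
    rw [← S.ι_y E k, Category.assoc, h2, comp_zero]
  exact h3

lemma Stage.kill (S : Stage H) (i : ι) (m : ℤ) (g : (shiftFunctor D m).obj (E i) ⟶ S.X)
    (hg : H.map g.op S.h = 0) : g ≫ S.t E = 0 :=
  S.kill' E ⟨i, m, g, hg⟩

variable (H)
variable [hs : ∀ Z : Dᵒᵖ, Small.{w} (H.obj Z)]

/-- (large) index set of the initial cells -/
abbrev κ₀' := Σ (i : ι) (m : ℤ), H.obj (op ((shiftFunctor D m).obj (E i)))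

instance small_κ₀' : Small.{w} (κ₀' E H) := by
  dsimp only [κ₀']
  infer_instance

/-- small index set of the initial cells -/
abbrev κ₀ : Type w := Shrink.{w} (κ₀' E H)

/-- decoding -/
noncomputable abbrev dec₀ (k : κ₀ E H) : κ₀' E H := (equivShrink (κ₀' E H)).symm k

/-- the initial cells -/
noncomputable abbrev cell₀ (k : κ₀ E H) : D :=
  (shiftFunctor D (dec₀ E H k).2.1).obj (E (dec₀ E H k).1)

/-- the initial stage -/
noncomputable def stage₀ : Stage H :=
  ⟨∐ cell₀ E H, (CellTower.H_glue H (cell₀ E H) (fun k => (dec₀ E H k).2.2)).choose⟩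

lemma stage₀_h (k : κ₀ E H) :
    H.map (Sigma.ι (cell₀ E H) k).op (stage₀ E H).h = (dec₀ E H k).2.2 :=
  (CellTower.H_glue H (cell₀ E H) (fun k => (dec₀ E H k).2.2)).choose_spec k

/-- the stages -/
noncomputable def stage : ℕ → Stage H
  | 0 => stage₀ E H
  | n + 1 => (stage n).next E

/-- the objects of the tower -/
noncomputable def tK (n : ℕ) : D := (stage E H n).X

/-- the transition maps of the tower -/
noncomputable def tf (n : ℕ) : tK E H n ⟶ tK E H (n + 1) := (stage E H n).t E

/-- the classes -/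
noncomputable def thh (n : ℕ) : H.obj (op (tK E H n)) := (stage E H n).h

lemma H_tf (n : ℕ) : H.map (tf E H n).op (thh E H (n + 1)) = thh E H n := (stage E H n).H_t E

/-- inclusion of an initial cell -/
noncomputable def ι₀ (k : κ₀ E H) : cell₀ E H k ⟶ tK E H 0 := Sigma.ι (cell₀ E H) k

lemma thh_zero (k : κ₀ E H) : H.map (ι₀ E H k).op (thh E H 0) = (dec₀ E H k).2.2 :=
  stage₀_h E H k

lemma tkill (n : ℕ) (i : ι) (m : ℤ) (g : (shiftFunctor D m).obj (E i) ⟶ tK E H n)
    (hg : H.map g.op (thh E H n) = 0) : g ≫ tf E H n = 0 := (stage E H n).kill E i m g hg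

/-- the cell tower of a cohomological functor -/
theorem tower [HasColimitsOfShape (Discrete ℕ) D] :
    ∃ (K : ℕ → D) (f : ∀ n, K n ⟶ K (n + 1)) (L : D) (i : ∀ n, K n ⟶ L) (h : H.obj (op L)),
      DerLim.IsHocolim K f L i ∧
      (∃ (κ : Type w) (a : κ → ι) (m : κ → ℤ),
        Nonempty (K 0 ≅ ∐ (fun k => (shiftFunctor D (m k)).obj (E (a k))))) ∧
      (∀ n, ∃ (κ : Type w) (a : κ → ι) (m : κ → ℤ)
        (y : (∐ fun k => (shiftFunctor D (m k)).obj (E (a k))) ⟶ K n)
        (z : K (n + 1) ⟶
          (shiftFunctor D (1 : ℤ)).obj (∐ fun k => (shiftFunctor D (m k)).obj (E (a k)))),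
        Triangle.mk y (f n) z ∈ distTriang D) ∧
      (∀ (i₀ : ι) (m : ℤ) (a : H.obj (op ((shiftFunctor D m).obj (E i₀)))),
        ∃ g : (shiftFunctor D m).obj (E i₀) ⟶ L, H.map g.op h = a) ∧
      (∀ (i₀ : ι) (m : ℤ) (g : (shiftFunctor D m).obj (E i₀) ⟶ L),
        PresNat ((shiftFunctor D m).obj (E i₀)) → H.map g.op h = 0 → g = 0) := by
  haveI : PreservesLimitsOfShape (Discrete ℕ) H :=
    preservesLimitsOfShape_of_equiv (Discrete.equivalence Equiv.ulift.{w}) H
  obtain ⟨L, i, h, hL, hi⟩ :=
    CellTower.exists_hocolim H (tK E H) (tf E H) (thh E H) (H_tf E H)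
  refine ⟨tK E H, tf E H, L, i, h, hL,
    ⟨κ₀ E H, fun k => (dec₀ E H k).1, fun k => (dec₀ E H k).2.1, ⟨Iso.refl _⟩⟩,
    fun n => ⟨(stage E H n).κ E, fun k => ((stage E H n).dec E k).1,
      fun k => ((stage E H n).dec E k).2.1, (stage E H n).y E,
      (stage E H n).z E, (stage E H n).dist E⟩, ?_, ?_⟩
  · intro i₀ m a
    have key : ∀ x : κ₀' E H, ∃ g : (shiftFunctor D x.2.1).obj (E x.1) ⟶ L,
        H.map g.op h = x.2.2 := by
      intro x
      obtain ⟨k, rfl⟩ := (equivShrink (κ₀' E H)).symm.surjective x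
      refine ⟨ι₀ E H k ≫ i 0, ?_⟩
      rw [CellTower.H_map_comp, hi 0]
      exact thh_zero E H k
    exact key ⟨i₀, m, a⟩
  · intro i₀ m g hC hg
    obtain ⟨n, g', rfl⟩ := factor_of_presNat hC _ _ L i hL g
    have h1 : H.map g'.op (thh E H n) = 0 := by
      rw [← hi n, ← CellTower.H_map_comp]
      exact hg
    have h2 := tkill E H n i₀ m g' h1
    rw [← CellTower.isHocolim_w _ _ hL n, ← Category.assoc, h2, zero_comp]

end Tower

section Pres

variable [HasCoproducts.{w} D] [LocallySmall.{w} D] [HasColimitsOfShape (Discrete ℕ) D]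
  [UnivLE.{w, v}] {ι : Type w} (E : ι → D)

theorem exists_presentation (hc : ∀ i, PresNat (E i)) (hg : CohDer.Generates E) (X : D) :
    ∃ (K : ℕ → D) (f : ∀ n, K n ⟶ K (n + 1)) (i : ∀ n, K n ⟶ X),
      DerLim.IsHocolim K f X i ∧
      (∃ (κ : Type w) (a : κ → ι) (m : κ → ℤ),
        Nonempty (K 0 ≅ ∐ (fun k => (shiftFunctor D (m k)).obj (E (a k))))) ∧
      ∀ n, ∃ (κ : Type w) (a : κ → ι) (m : κ → ℤ)
        (y : (∐ fun k => (shiftFunctor D (m k)).obj (E (a k))) ⟶ K n)
        (z : K (n + 1) ⟶
          (shiftFunctor D (1 : ℤ)).obj (∐ fun k => (shiftFunctor D (m k)).obj (E (a k)))),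
        Triangle.mk y (f n) z ∈ distTriang D := by
  haveI : ∀ Z : Dᵒᵖ, Small.{w} ((preadditiveYoneda.obj X).obj Z) := fun Z => by
    show Small.{w} (Z.unop ⟶ X)
    infer_instance
  haveI : ∀ κ : Type w, PreservesLimitsOfShape (Discrete κ) (preadditiveYoneda.obj X) :=
    fun κ => preservesProducts_preadditiveYoneda X κ
  obtain ⟨K, f, L, i, h, hL, h0, hstep, hsurj, hinj⟩ := tower E (preadditiveYoneda.obj X)
  let φ : L ⟶ X := h
  have hbij : ∀ (i₀ : ι) (m : ℤ),
      Function.Bijective (fun g : (shiftFunctor D m).obj (E i₀) ⟶ L => g ≫ φ) := by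
    intro i₀ m
    constructor
    · intro g₁ g₂ h12
      have h3 : (g₁ - g₂) ≫ φ = 0 := by
        rw [Preadditive.sub_comp]
        exact sub_eq_zero.2 h12
      have h4 := hinj i₀ m (g₁ - g₂) (presNat_shift (hc i₀) m) h3
      exact sub_eq_zero.1 h4
    · intro a
      obtain ⟨g, hg'⟩ := hsurj i₀ m a
      exact ⟨g, hg'⟩
  have hiso : IsIso φ := by
    refine isIso_of_bijective E hg φ (fun i₀ n => ?_)
    let adj := (shiftEquiv D n).symm.toAdjunction
    have e1 : (fun g : E i₀ ⟶ (shiftFunctor D n).obj L => g ≫ (shiftFunctor D n).map φ) =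
        fun g => adj.homEquiv (E i₀) X ((adj.homEquiv (E i₀) L).symm g ≫ φ) := by
      funext g
      show g ≫ (shiftFunctor D n).map φ =
        adj.homEquiv (E i₀) X ((adj.homEquiv (E i₀) L).symm g ≫ φ)
      have h1 := adj.homEquiv_naturality_right ((adj.homEquiv (E i₀) L).symm g) φ
      have h2 : adj.homEquiv (E i₀) L ((adj.homEquiv (E i₀) L).symm g) = g :=
        Equiv.apply_symm_apply _ g
      rw [h1, h2]
      rfl
    rw [e1]
    exact (adj.homEquiv (E i₀) X).bijective.comp
      ((hbij i₀ (-n)).comp (adj.homEquiv (E i₀) L).symm.bijective)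
  exact ⟨K, f, fun n => i n ≫ φ, CellPres.isHocolim_of_iso K f i hL φ, h0, hstep⟩

end Pres

section Main

open BrownRep

variable [HasCoproducts.{w} D] [LocallySmall.{w} D] [UnivLE.{w, v}] {ι : Type w} (E : ι → D)

/-- **Brown representability**, index universe `w`. -/
theorem representable (hc : ∀ i, PresNat (E i)) (hg : CohDer.Generates E)
    (H : Dᵒᵖ ⥤ AddCommGrpCat.{v}) [H.IsHomological]
    [∀ κ : Type w, PreservesLimitsOfShape (Discrete κ) H]
    [∀ Z : Dᵒᵖ, Small.{w} (H.obj Z)] :
    (H ⋙ forget AddCommGrpCat.{v}).IsRepresentable := by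
  haveI : HasColimitsOfShape (Discrete ℕ) D :=
    hasColimitsOfShape_of_equivalence (Discrete.equivalence Equiv.ulift.{w})
  haveI : PreservesLimitsOfShape (Discrete ℕ) H :=
    preservesLimitsOfShape_of_equiv (Discrete.equivalence Equiv.ulift.{w}) H
  obtain ⟨K, f, L, i, h, hL, h0, hstep, hsurj, hinj⟩ := tower E H
  -- generators
  have hQE : ∀ i₀ m, Q H h ((shiftFunctor D m).obj (E i₀)) := fun i₀ m =>
    ⟨η_injective_of_ker H h (fun g hg => hinj i₀ m g (presNat_shift (hc i₀) m) hg),
      fun a => hsurj i₀ m a⟩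
  have hPE : ∀ i₀ m, P H h ((shiftFunctor D m).obj (E i₀)) := fun i₀ m m' =>
    Q_of_iso H h ((shiftFunctorAdd' D m m' (m + m') rfl).app (E i₀)) (hQE i₀ (m + m'))
  have hPcell : ∀ (κ : Type w) (a : κ → ι) (m : κ → ℤ),
      P H h (∐ fun k => (shiftFunctor D (m k)).obj (E (a k))) :=
    fun κ a m => P_coprod H h _ (fun k => hPE (a k) (m k))
  have hall : ∀ Y : D, P H h Y := by
    intro Y
    obtain ⟨K', f', i', hY, ⟨κ, a, m, ⟨e0⟩⟩, hstep'⟩ := exists_presentation E hc hg Y
    have hK : ∀ n, P H h (K' n) := by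
      intro n
      induction n with
      | zero => exact P_of_iso H h e0.symm (hPcell κ a m)
      | succ n ih =>
        obtain ⟨κ', a', m', y, z, hT⟩ := hstep' n
        exact P_triangle H h _ hT (hPcell κ' a' m') ih
    obtain ⟨c, hT⟩ := hY
    exact P_triangle H h _ hT (P_coprod H h K' hK) (P_coprod H h K' hK)
  -- representability
  have hbij : ∀ Y, Function.Bijective (η H h Y) :=
    fun Y => Q_of_iso H h ((shiftFunctorZero D ℤ).app Y) (hall Y 0)
  exact Functor.RepresentableBy.isRepresentable (Y := L)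
    { homEquiv := fun {Y} => Equiv.ofBijective (η H h Y) (hbij Y)
      homEquiv_comp := fun {Y Y'} a g => η_comp H h a g }

universe u'

/-- **Adjoint functor theorem** for a functor out of a compactly generated triangulated category
(index universe `w`): we only need that `Hom(F -, Y')` is homological and turns coproducts into
products. -/
theorem isLeftAdjoint {D' : Type u'} [Category.{v} D'] [Preadditive D'] [LocallySmall.{w} D']
    (F : D ⥤ D') [F.Additive]
    (hc : ∀ i, PresNat (E i)) (hg : CohDer.Generates E)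
    (hH : ∀ Y' : D', (F.op ⋙ preadditiveYoneda.obj Y').IsHomological)
    (hP : ∀ (Y' : D') (κ : Type w),
      PreservesLimitsOfShape (Discrete κ) (F.op ⋙ preadditiveYoneda.obj Y')) :
    F.IsLeftAdjoint := by
  apply Functor.isLeftAdjoint_of_rightAdjointObjIsDefined_eq_top
  ext Y'
  simp only [Pi.top_apply, Prop.top_eq_true, iff_true]
  rw [Functor.rightAdjointObjIsDefined_iff]
  haveI := hH Y'
  haveI := hP Y'
  haveI : ∀ Z : Dᵒᵖ, Small.{w} ((F.op ⋙ preadditiveYoneda.obj Y').obj Z) := fun Z => by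
    show Small.{w} (F.obj Z.unop ⟶ Y')
    infer_instance
  have h := representable E hc hg (F.op ⋙ preadditiveYoneda.obj Y')
  exact h

end Main

end Groth.Agent.Lib.BrownWL
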