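import Mathlib
import Groth.Agent.Lib.KInjGen8_helper7

/-!
# The derived category of a Grothendieck abelian category is locally small (helper7)

Consequently there is a `HasDerivedCategory.{v} A` instance with morphisms in the universe of
the morphisms of `A`.
-/

set_option autoImplicit false
universe v u
open CategoryTheory Limits

namespace Groth.Agent.Lib.DerSmall

variable (A : Type u) [Category.{v} A] [Abelian A] [IsGrothendieckAbelian.{v} A]

attribute [local instance] HasDerivedCategory.standard in
theorem locallySmall_standard : LocallySmall.{v} (DerivedCategory A) where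
  hom_small X Y := by
    let X' : CochainComplex A ℤ := DerivedCategory.Q.objPreimage X
    let eX : DerivedCategory.Q.obj X' ≅ X := DerivedCategory.Q.objObjPreimageIso X
    obtain ⟨I, hI, _, ⟨eY⟩⟩ := KInjGen8.exists_kInjective_rep Y
    haveI := hI
    let c := DerivedCategory.quotientCompQhIso A
    let φ : ((HomotopyCategory.quotient A (ComplexShape.up ℤ)).obj X' ⟶
        (HomotopyCategory.quotient A (ComplexShape.up ℤ)).obj I) → (X ⟶ Y) := fun g =>
      eX.inv ≫ c.inv.app X' ≫ DerivedCategory.Qh.map g ≫ c.hom.app I ≫ eY.hom
    have hφ : Function.Surjective φ := by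
      intro a
      obtain ⟨g, hg⟩ := (CochainComplex.IsKInjective.Qh_map_bijective
        ((HomotopyCategory.quotient A (ComplexShape.up ℤ)).obj X') I).2
        (c.hom.app X' ≫ eX.hom ≫ a ≫ eY.inv ≫ c.inv.app I)
      refine ⟨g, ?_⟩
      simp [φ, hg]
    exact small_of_surjective hφ

set_option warn.classDefReducibility false in
/-- a derived category with small morphism types -/
noncomputable def hasDerivedCategorySmall : HasDerivedCategory.{v} A := by
  letI := HasDerivedCategory.standard A
  haveI := locallySmall_standard A
  exact MorphismProperty.hasLocalizationOfLocallySmall'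
    (HomologicalComplex.quasiIso A (ComplexShape.up ℤ)) (DerivedCategory.Q (C := A))

end Groth.Agent.Lib.DerSmall
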