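import Mathlib
import Groth.Prelude
import Groth.Agent.Lib.TTGen2_lead
import Groth.Agent.Lib.BrownW1_lead
import Groth.Agent.Lib.CptPerf1_lead
import Groth.Agent.Lib.QCohSigma1_lead
import Groth.Agent.Lib.DerSmall_helper7

/-!
# `D_QCoh(X)` is a compactly generated triangulated category with coproducts (lead)

* `IsQCohD` is a triangulated subcategory of `D(O_X)`, closed under `u`-small coproducts;
* `D(O_X)` and `D_QCoh(X)` are locally `u`-small;
* the perfect generator of S1008 is a compact generator of `D_QCoh(X)`;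
* **S7239**: the inclusion `D_QCoh(X) ⥤ D(O_X)` has a right adjoint (Brown representability).
-/

set_option autoImplicit false
set_option linter.all false
set_option maxHeartbeats 1600000
set_option backward.isDefEq.respectTransparency false
set_option backward.isDefEq.respectTransparency.types false
set_option backward.defeqAttrib.useBackward true

universe u

open CategoryTheory CategoryTheory.Limits AlgebraicGeometry TopologicalSpace Opposite
open DerivedCategory CategoryTheory.Pretriangulated
open CategoryTheory.Pretriangulated.Opposite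

attribute [local instance] HasDerivedCategory.standard

namespace Groth.Agent.Lib.BrownQCL

open Groth.Agent.Lib Groth.Agent.Lib.DCohLocLead Groth.Agent.Lib.PerfLocL
open Groth.Agent.Lib.HomVanL Groth.Agent.Lib.CompQL Groth.Agent.Lib.SerreHomL
open Groth.Agent.Lib.TTLiftL Groth.Agent.Lib.TTApxL Groth.Agent.Lib.TTSuppL
open Groth.Agent.Lib.TTGlueL Groth.Agent.Lib.TTGenL

attribute [local instance] rpushI lpullI

/-! ### generic lemmas -/

section Generic

universe v' u' w'

variable {A : Type u'} [Category.{v'} A] [Preadditive A]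

section Cofan

variable {C : A} {κ : Type w'} (X : κ → A)
  [HasCoproduct X] (hb : Function.Bijective (PerfAux.homSumToHomCoprod C X))

/-- the bijection -/
noncomputable def eqv : DirectSum κ (fun i => C ⟶ X i) ≃+ (C ⟶ ∐ X) :=
  AddEquiv.ofBijective (PerfAux.homSumToHomCoprod C X) hb

open scoped Classical in
lemma eqv_of (k : κ) (g : C ⟶ X k) :
    eqv X hb (DirectSum.of (fun i => C ⟶ X i) k g) = g ≫ Sigma.ι X k :=
  CptPerfL.homSum_of' C X k g

open scoped Classical in
lemma eqv_symm_comp (k : κ) (g : C ⟶ X k) :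
    (eqv X hb).symm (g ≫ Sigma.ι X k) = DirectSum.of (fun i => C ⟶ X i) k g := by
  rw [AddEquiv.symm_apply_eq]
  exact (eqv_of X hb k g).symm

open scoped Classical in
/-- the map out of `Hom(C, ∐ X)` induced by maps out of the `Hom(C, X k)` -/
noncomputable def dsc {M : Type*} [AddCommMonoid M] (φ : ∀ k, (C ⟶ X k) →+ M) : (C ⟶ ∐ X) →+ M :=
  (DirectSum.toAddMonoid φ).comp (eqv X hb).symm.toAddMonoidHom

lemma dsc_comp {M : Type*} [AddCommMonoid M] (φ : ∀ k, (C ⟶ X k) →+ M) (k : κ) (g : C ⟶ X k) :
    dsc X hb φ (g ≫ Sigma.ι X k) = φ k g := by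
  classical
  unfold dsc
  simp only [AddMonoidHom.coe_comp, Function.comp_apply, AddEquiv.coe_toAddMonoidHom]
  rw [eqv_symm_comp]
  exact DirectSum.toAddMonoid_of _ _ _

lemma dsc_uniq {M : Type*} [AddCommMonoid M] (φ : ∀ k, (C ⟶ X k) →+ M) (ψ : (C ⟶ ∐ X) →+ M)
    (h : ∀ k (g : C ⟶ X k), ψ (g ≫ Sigma.ι X k) = φ k g) : ψ = dsc X hb φ := by
  classical
  have h1 : ψ.comp (eqv X hb).toAddMonoidHom =
      (dsc X hb φ).comp (eqv X hb).toAddMonoidHom := by
    apply DirectSum.addHom_ext
    intro k g
    simp only [AddMonoidHom.coe_comp, Function.comp_apply, AddEquiv.coe_toAddMonoidHom]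
    rw [eqv_of, h, dsc_comp]
  ext x
  obtain ⟨y, rfl⟩ := (eqv X hb).surjective x
  exact DFunLike.congr_fun h1 y

/-- the cofan `Hom(C, X k) ⟶ Hom(C, ∐ X)` is a colimit when `⊕ Hom(C, X k) ≃ Hom(C, ∐ X)` -/
noncomputable def isColimitCofan :
    IsColimit (Cofan.mk ((preadditiveCoyoneda.obj (op C)).obj (∐ X))
      (fun j => (preadditiveCoyoneda.obj (op C)).map (Sigma.ι X j))) :=
  Cofan.IsColimit.mk _
    (fun t => AddCommGrpCat.ofHom (dsc X hb (fun j => (t.inj j).hom)))
    (fun t j => by
      ext g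
      exact dsc_comp X hb (fun j => (t.inj j).hom) j g)
    (fun t m hm => by
      apply AddCommGrpCat.hom_ext
      exact dsc_uniq X hb (fun j => (t.inj j).hom) m.hom
        (fun k g => congrArg (fun φ => φ.hom g) (hm k)))

end Cofan

/-- an object all of whose maps to coproducts of shape `κ` have finite support is compact for
such coproducts -/
theorem preserves_of_fix (C : A) {κ : Type w'} [HasColimitsOfShape (Discrete κ) A]
    (h : ∀ (Z : κ → A) (φ : C ⟶ ∐ Z),
      ∃ s : Finset κ, φ ≫ QcSect.e (coproductIsCoproduct Z) s = φ) :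
    PreservesColimitsOfShape (Discrete κ) (preadditiveCoyoneda.obj (op C)) := by
  constructor
  intro K
  have e : K ≅ Discrete.functor (K.obj ∘ Discrete.mk) := Discrete.natIsoFunctor
  haveI : PreservesColimit (Discrete.functor (K.obj ∘ Discrete.mk))
      (preadditiveCoyoneda.obj (op C)) :=
    preservesColimit_of_preserves_colimit_cocone (coproductIsCoproduct _)
      ((isColimitMapCoconeCofanMkEquiv _ _ _).symm
        (isColimitCofan _ (CptPerfL.bijective_of_fix _ (h _))))
  exact preservesColimit_of_iso_diagram _ e.symm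

variable {B : Type*} [Category B] [Preadditive B] (F : A ⥤ B) [F.Additive]

theorem map_π {κ : Type*} {Z : κ → A} {P : A} {inj : ∀ l, Z l ⟶ P}
    (hc : IsColimit (Cofan.mk P inj))
    (hc' : IsColimit (Cofan.mk (F.obj P) (fun l => F.map (inj l)))) (l : κ) :
    F.map (QcSect.π hc l) = QcSect.π hc' l := by
  classical
  apply Cofan.IsColimit.hom_ext hc'
  intro k
  show F.map (inj k) ≫ F.map (QcSect.π hc l) = F.map (inj k) ≫ QcSect.π hc' l
  by_cases hkl : k = l
  · subst hkl
    rw [← F.map_comp, QcSect.inj_π_self hc k, QcSect.inj_π_self hc' k, F.map_id]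
  · rw [← F.map_comp, QcSect.inj_π_ne hc hkl, QcSect.inj_π_ne hc' hkl, F.map_zero]

theorem map_e {κ : Type*} {Z : κ → A} {P : A} {inj : ∀ l, Z l ⟶ P}
    (hc : IsColimit (Cofan.mk P inj))
    (hc' : IsColimit (Cofan.mk (F.obj P) (fun l => F.map (inj l)))) (T : Finset κ) :
    F.map (QcSect.e hc T) = QcSect.e hc' T := by
  unfold QcSect.e
  rw [F.map_sum]
  refine Finset.sum_congr rfl (fun l _ => ?_)
  rw [F.map_comp, map_π F hc hc' l]

end Generic

/-! ### `IsQCohD` is a triangulated subcategory -/

section Tri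

variable (X : Scheme.{u})

instance isClosedUnderIso : (DCoh.IsQCohD (X := X)).IsClosedUnderIsomorphisms where
  of_iso e h := fun i => (SheafOfModules.isQuasicoherent X.ringCatSheaf).prop_of_iso
    ((DerivedCategory.homologyFunctor X.Modules i).mapIso e) (h i)

instance stableShift : (DCoh.IsQCohD (X := X)).IsStableUnderShift ℤ where
  isStableUnderShiftBy n := ⟨fun K hK => HomVanL.isQCohD_shift K hK n⟩

instance closed₃ : (DCoh.IsQCohD (X := X)).IsTriangulatedClosed₃ :=
  ObjectProperty.IsTriangulatedClosed₃.mk' (fun T hT h₁ h₂ => RpushQCL.isQCohD_obj₃ T hT h₁ h₂)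

instance containsZero : (DCoh.IsQCohD (X := X)).ContainsZero where
  exists_zero := by
    obtain ⟨Z, hZ⟩ := (HasZeroObject.zero : ∃ Z : DCoh.D X, IsZero Z)
    exact ⟨Z, hZ, isQCohD_of_isPerfect _ (TTApxL.isPerfect_of_isZero hZ)⟩

instance closed₂ : (DCoh.IsQCohD (X := X)).IsTriangulatedClosed₂ :=
  ObjectProperty.IsTriangulatedClosed₂.of_isTriangulatedClosed₃

instance isTriangulated : (DCoh.IsQCohD (X := X)).IsTriangulated where

/-! ### coproducts -/

instance hasCoprodD (κ : Type u) : HasColimitsOfShape (Discrete κ) (DCoh.D X) :=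
  ⟨fun F => by
    haveI : HasColimit (Discrete.functor (F.obj ∘ Discrete.mk)) := CompQL.hasCoproduct_D X _
    exact hasColimit_of_iso Discrete.natIsoFunctor⟩

instance closedCoprod (κ : Type u) :
    (DCoh.IsQCohD (X := X)).IsClosedUnderColimitsOfShape (Discrete κ) where
  colimitsOfShape_le := by
    rintro Z ⟨p⟩
    have hc : IsColimit (Cofan.mk Z (fun k : κ => p.ι.app ⟨k⟩)) :=
      mkCofanColimit _
        (fun s => p.isColimit.desc (Cocone.mk s.pt (Discrete.natTrans (fun i => s.inj i.as))))
        (fun s j => p.isColimit.fac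
          (Cocone.mk s.pt (Discrete.natTrans (fun i => s.inj i.as))) ⟨j⟩)
        (fun s m hm => p.isColimit.uniq
          (Cocone.mk s.pt (Discrete.natTrans (fun i => s.inj i.as))) m (fun ⟨j⟩ => hm j))
    exact CompQL.isQCohD_of_cofan (fun k : κ => p.diag.obj ⟨k⟩)
      (fun k => p.prop_diag_obj ⟨k⟩) hc

instance hasCoproductsQ : HasCoproducts.{u} (DCoh.DQCoh X) := fun κ => inferInstance

instance preservesCoprodι (κ : Type u) :
    PreservesColimitsOfShape (Discrete κ) (ObjectProperty.ι (DCoh.IsQCohD (X := X))) :=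
  inferInstance

/-! ### local smallness -/

instance locallySmallD : LocallySmall.{u} (DCoh.D X) := by
  haveI := MVPushL.grothendieck_modules X
  exact DerSmall.locallySmall_standard X.Modules

instance locallySmallQ : LocallySmall.{u} (DCoh.DQCoh X) := inferInstance

end Tri

/-! ### products and `Hom(F -, Y')` -/

section Prod

universe w v u₁ u₂

variable {D : Type u₁} [Category.{v} D] {D' : Type u₂} [Category.{v} D'] [Preadditive D']
  [HasZeroObject D'] [HasShift D' ℤ] [∀ n : ℤ, (shiftFunctor D' n).Additive] [Pretriangulated D']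

theorem preservesProducts_comp (F : D ⥤ D') (κ : Type w) [UnivLE.{w, v}]
    [PreservesColimitsOfShape (Discrete κ) F] (Y' : D') :
    PreservesLimitsOfShape (Discrete κ) (F.op ⋙ preadditiveYoneda.obj Y') := by
  haveI : PreservesColimitsOfShape (Discrete κ)ᵒᵖ F :=
    preservesColimitsOfShape_of_equiv (Discrete.opposite κ).symm F
  haveI : PreservesLimitsOfShape (Discrete κ) F.op := preservesLimitsOfShape_op (Discrete κ) F
  haveI := BrownWL.preservesProducts_preadditiveYoneda Y' κ
  infer_instance

end Prod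

/-! ### the compact generator -/

section Gen

variable (X : Scheme.{u}) [CompactSpace X] [QuasiSeparatedSpace X]

theorem fix_of_cq (G : DCoh.DQCoh X) (hG : CQ G.obj) (κ : Type u) (Z : κ → DCoh.DQCoh X)
    (φ : G ⟶ ∐ Z) : ∃ s : Finset κ, φ ≫ QcSect.e (coproductIsCoproduct Z) s = φ := by
  let ιQ := ObjectProperty.ι (DCoh.IsQCohD (X := X))
  have hcD : IsColimit (Cofan.mk (ιQ.obj (∐ Z)) (fun k => ιQ.map (Sigma.ι Z k))) :=
    (isColimitMapCoconeCofanMkEquiv ιQ Z (Sigma.ι Z))
      (isColimitOfPreserves ιQ (coproductIsCoproduct Z))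
  obtain ⟨s, hs⟩ := hG κ (fun k => (Z k).obj) (fun k => (Z k).property) _ _ hcD (ιQ.map φ)
  refine ⟨s, ?_⟩
  apply ιQ.map_injective
  rw [ιQ.map_comp, map_e ιQ (coproductIsCoproduct Z) hcD s]
  exact hs

theorem exists_compact_generator : ∃ G : DCoh.DQCoh X,
    BrownWL.PresNat G ∧ CohDer.Generates (fun _ : PUnit.{u + 1} => G) := by
  obtain ⟨G, hG, -, hgen⟩ := TTGenL.exists_generator X ⊥ (by simp)
  have hq : DCoh.IsQCohD G := isQCohD_of_isPerfect G hG
  let ιQ := ObjectProperty.ι (DCoh.IsQCohD (X := X))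
  refine ⟨⟨G, hq⟩, ?_, ?_⟩
  · have hcq : CQ G := CptPerfL.cq_of_isPerfect G hG
    haveI : PreservesColimitsOfShape (Discrete (ULift.{u} ℕ))
        (preadditiveCoyoneda.obj (op (⟨G, hq⟩ : DCoh.DQCoh X))) :=
      preserves_of_fix _ (fun Z φ => fix_of_cq X ⟨G, hq⟩ hcq _ Z φ)
    show PreservesColimitsOfShape (Discrete ℕ) _
    exact preservesColimitsOfShape_of_equiv (Discrete.equivalence Equiv.ulift.{u}) _
  · intro K hK
    have hz : IsZero K.obj := by
      refine hgen K.obj K.property (TTGenL.isZero_DD_bot K.obj) (fun m => ?_)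
      intro f
      let c := (ιQ.commShiftIso m).app K
      have h1 := hK PUnit.unit m (ιQ.preimage (f ≫ c.inv))
      have h2 : f ≫ c.inv = 0 := by
        have h3 := congrArg (fun g => ιQ.map g) h1
        simp only [Functor.map_preimage, Functor.map_zero] at h3
        exact h3
      have h4 : f = (f ≫ c.inv) ≫ c.hom := by
        rw [Category.assoc, c.inv_hom_id]
        exact (Category.comp_id f).symm
      rw [h4, h2, zero_comp]
    rw [IsZero.iff_id_eq_zero]
    apply ιQ.map_injective
    rw [CategoryTheory.Functor.map_id, Functor.map_zero]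
    exact hz.eq_of_src _ _

/-- **S7239** -/
theorem main7239 : (ObjectProperty.ι (DCoh.IsQCohD (X := X))).IsLeftAdjoint := by
  obtain ⟨G, hc, hg⟩ := exists_compact_generator X
  exact BrownWL.isLeftAdjoint (fun _ : PUnit.{u + 1} => G)
    (ObjectProperty.ι (DCoh.IsQCohD (X := X))) (fun _ => hc) hg
    (fun Y' => inferInstance) (fun Y' κ => preservesProducts_comp _ κ Y')

end Gen

end Groth.Agent.Lib.BrownQCL
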