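import Mathlib
import Groth.Prelude.Def_DerLim
import Groth.Prelude.Def_CohDer
import Groth.Agent.Lib.BrownW1_lead
import Groth.Agent.Lib.FinFactor_helper9

/-!
# Compact objects lie in every thick subcategory containing the generators (lead)

Universe-generalised version (coproducts indexed by `Type w`, morphisms in `Type v`) of helper9's
`FinFactor`, `EnvFactor` and `CompactGen.compact_mem_envelope`; the code is adapted from those
files, with the finite envelopes replaced by an arbitrary triangulated object property `Q`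
containing the generators.
-/

set_option autoImplicit false
set_option linter.all false
set_option maxHeartbeats 1600000
set_option backward.isDefEq.respectTransparency.types false

open CategoryTheory CategoryTheory.Limits Pretriangulated Opposite

namespace Groth.Agent.Lib.NeemanWL

open FinFactor

universe w' w v u

variable {D : Type u} [Category.{v} D] [Preadditive D]

/-- every map from `C` to a `w`-small coproduct factors through a finite subcoproduct -/
def FFw [HasCoproducts.{w} D] (C : D) : Prop :=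
  ∀ (κ : Type w) (X : κ → D) (g : C ⟶ ∐ X), FinSupp g

section L2

variable [HasCoproducts.{w} D] [HasShift D ℤ] [∀ n : ℤ, (shiftFunctor D n).Additive]

lemma e_shift {κ : Type w} (X : κ → D) (n : ℤ) (s : Set κ) :
    e (fun k => (shiftFunctor D n).obj (X k)) s ≫
        (PreservesCoproduct.iso (shiftFunctor D n) X).inv =
      (PreservesCoproduct.iso (shiftFunctor D n) X).inv ≫ (shiftFunctor D n).map (e X s) := by
  apply Sigma.hom_ext
  intro k
  have h1 : Sigma.ι (fun k => (shiftFunctor D n).obj (X k)) k ≫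
      (PreservesCoproduct.iso (shiftFunctor D n) X).inv =
      (shiftFunctor D n).map (Sigma.ι X k) := ι_comp_sigmaComparison (shiftFunctor D n) X k
  by_cases hk : k ∈ s
  · rw [← Category.assoc, ι_e_of_mem _ hk, h1, ← Category.assoc, h1, ← Functor.map_comp,
      ι_e_of_mem _ hk]
  · rw [← Category.assoc, ι_e_of_not_mem _ hk, zero_comp, ← Category.assoc, h1,
      ← Functor.map_comp, ι_e_of_not_mem _ hk, Functor.map_zero]

theorem ffw_shift {C : D} (hC : FFw C) (m : ℤ) : FFw ((shiftFunctor D m).obj C) := by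
  intro κ X g
  let adj : shiftFunctor D m ⊣ shiftFunctor D (-m) := (shiftEquiv D m).toAdjunction
  let σ := PreservesCoproduct.iso (shiftFunctor D (-m)) X
  obtain ⟨s, hs⟩ := hC κ (fun k => (shiftFunctor D (-m)).obj (X k))
    (adj.homEquiv C (∐ X) g ≫ σ.hom)
  refine ⟨s, ?_⟩
  apply (adj.homEquiv C (∐ X)).injective
  rw [adj.homEquiv_naturality_right]
  have h2 : adj.homEquiv C (∐ X) g ≫ (shiftFunctor D (-m)).map (e X (s : Set κ)) =
      ((adj.homEquiv C (∐ X) g ≫ σ.hom) ≫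
        e (fun k => (shiftFunctor D (-m)).obj (X k)) (s : Set κ)) ≫ σ.inv := by
    rw [Category.assoc, Category.assoc, e_shift, σ.hom_inv_id_assoc]
  have h3 : adj.homEquiv C (∐ X) g ≫ (shiftFunctor D (-m)).map (e X (s : Set κ)) =
      adj.homEquiv C (∐ X) g := by
    rw [h2, hs, Category.assoc, σ.hom_inv_id, Category.comp_id]
  exact h3

end L2

section L3

variable [HasCoproducts.{w} D] [HasZeroObject D] [HasShift D ℤ]
  [∀ n : ℤ, (shiftFunctor D n).Additive] [Pretriangulated D]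

/-- `FFw` passes to the third vertex of a distinguished triangle -/
theorem ffw_triangle (T : Triangle D) (hT : T ∈ distTriang D) (h2 : FFw T.obj₂)
    (h1 : FFw ((shiftFunctor D (1 : ℤ)).obj T.obj₁)) : FFw T.obj₃ := by
  classical
  intro κ X g
  obtain ⟨s₁, hs₁⟩ := h2 κ X (T.mor₂ ≫ g)
  have z : T.mor₂ ≫ (g - g ≫ e X (s₁ : Set κ)) = 0 := by
    rw [Preadditive.comp_sub, ← Category.assoc, hs₁, sub_self]
  obtain ⟨g'', hg''⟩ := Triangle.yoneda_exact₃ T hT _ z
  have hf : FinSupp (g - g ≫ e X (s₁ : Set κ)) := by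
    rw [hg'']
    exact finSupp_precomp _ (h1 κ X g'')
  have hf2 : FinSupp (g ≫ e X (s₁ : Set κ)) :=
    ⟨s₁, by rw [Category.assoc, e_comp_of_subset X (Set.Subset.refl _)]⟩
  have := finSupp_add hf hf2
  rwa [sub_add_cancel] at this

/-- `FFw` passes to the first vertex of a distinguished triangle -/
theorem ffw_triangle₁ (T : Triangle D) (hT : T ∈ distTriang D) (h2 : FFw T.obj₂)
    (h3 : FFw T.obj₃) : FFw T.obj₁ := by
  have hT' := inv_rot_of_distTriang _ (inv_rot_of_distTriang _ hT)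
  refine ffw_triangle _ hT' ?_ ?_
  · exact ffw_shift h3 (-1)
  · exact ffw_shift (ffw_shift h2 (-1)) 1

end L3

section L4

variable [HasCoproducts.{w} D]

theorem ffw_finite_coprod {J : Type w'} [Finite J] (Z : J → D) [HasCoproduct Z]
    (hZ : ∀ j, FFw (Z j)) : FFw (∐ Z) := by
  classical
  haveI := Fintype.ofFinite J
  intro κ X g
  choose s hs using fun j => hZ j κ X (Sigma.ι Z j ≫ g)
  refine ⟨Finset.univ.biUnion s, ?_⟩
  apply Sigma.hom_ext
  intro j
  rw [← Category.assoc]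
  refine supp_mono ?_ (hs j)
  intro k hk
  simp only [Finset.coe_biUnion, Finset.coe_univ, Set.mem_univ, Set.iUnion_true, Set.mem_iUnion,
    Finset.mem_coe]
  exact ⟨j, hk⟩

end L4

section Main

variable [HasZeroObject D] [HasShift D ℤ] [∀ n : ℤ, (shiftFunctor D n).Additive]
  [Pretriangulated D] [IsTriangulated D] [HasCoproducts.{w} D]
  {ι : Type w} (E : ι → D) (hc : ∀ i, FFw (E i))
  (Q : ObjectProperty D) [Q.IsTriangulated] [Q.IsClosedUnderIsomorphisms] (hQ : ∀ i, Q (E i))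

lemma q_finite_coprod {J : Type w'} [Finite J] (Z : J → D) [HasCoproduct Z]
    (hZ : ∀ j, Q (Z j)) : Q (∐ Z) := by
  haveI : HasBiproduct Z := HasBiproductsOfShape.has_biproduct Z
  have h1 : Q (⨁ Z) := Q.prop_of_isLimit_fan (biproduct.isLimit Z) hZ
  exact Q.prop_of_iso (biproduct.isoCoproduct Z) h1

lemma q_biprod {A B : D} (hA : Q A) (hB : Q B) : Q (A ⊞ B) :=
  Q.ext_of_isTriangulatedClosed₂ _ (binaryBiproductTriangle_distinguished A B) hA hB

include hc hQ

/-- the finite subsums of cells are `FFw` and lie in `Q` -/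
lemma sub_cells {κ : Type w} (a : κ → ι) (m : κ → ℤ) (t : Finset κ) :
    FFw (sub (fun k => (shiftFunctor D (m k)).obj (E (a k))) t) ∧
      Q (sub (fun k => (shiftFunctor D (m k)).obj (E (a k))) t) := by
  constructor
  · exact ffw_finite_coprod _ (fun k => ffw_shift (hc _) _)
  · exact q_finite_coprod Q _ (fun k => Q.le_shift _ _ (hQ _))

/-- base case -/
lemma base {κ : Type w} (a : κ → ι) (m : κ → ℤ) {C : D} (hC : FFw C)
    (φ : C ⟶ ∐ (fun k => (shiftFunctor D (m k)).obj (E (a k)))) :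
    ∃ (E' : D) (g : C ⟶ E')
      (h : E' ⟶ ∐ (fun k => (shiftFunctor D (m k)).obj (E (a k)))),
      Q E' ∧ g ≫ h = φ := by
  classical
  obtain ⟨t, ht⟩ := hC κ _ φ
  refine ⟨sub _ t, φ ≫ subπ _ t, subι _ t, (sub_cells E hc Q hQ a m t).2, ?_⟩
  rw [Category.assoc, subπ_subι, ht]

/-- inductive step -/
lemma step {κ : Type w} (a : κ → ι) (m : κ → ℤ) {Kn Kn1 : D}
    (y : (∐ fun k => (shiftFunctor D (m k)).obj (E (a k))) ⟶ Kn) (fn : Kn ⟶ Kn1)
    (z : Kn1 ⟶ (shiftFunctor D (1 : ℤ)).obj (∐ fun k => (shiftFunctor D (m k)).obj (E (a k))))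
    (hT : Triangle.mk y fn z ∈ distTriang D)
    (IH : ∀ (C : D), FFw C → ∀ φ : C ⟶ Kn, ∃ (E' : D) (g : C ⟶ E') (h : E' ⟶ Kn),
      Q E' ∧ g ≫ h = φ)
    {C : D} (hC : FFw C) (φ : C ⟶ Kn1) :
    ∃ (E' : D) (g : C ⟶ E') (h : E' ⟶ Kn1), Q E' ∧ g ≫ h = φ := by
  classical
  let X : κ → D := fun k => (shiftFunctor D (m k)).obj (E (a k))
  let σ := PreservesCoproduct.iso (shiftFunctor D (1 : ℤ)) X
  obtain ⟨t, ht⟩ := hC κ (fun k => (shiftFunctor D (1 : ℤ)).obj (X k)) (φ ≫ z ≫ σ.hom)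
  let Y' : D := sub X t
  let j : Y' ⟶ ∐ X := subι X t
  let r : ∐ X ⟶ Y' := subπ X t
  have hrj : r ≫ j = e X (t : Set κ) := subπ_subι X t
  have h1 : φ ≫ z ≫ (shiftFunctor D (1 : ℤ)).map (r ≫ j) = φ ≫ z := by
    have h2 : (shiftFunctor D (1 : ℤ)).map (e X (t : Set κ)) =
        σ.hom ≫ e (fun k => (shiftFunctor D (1 : ℤ)).obj (X k)) (t : Set κ) ≫ σ.inv := by
      rw [e_shift, σ.hom_inv_id_assoc]
    rw [hrj, h2]
    have h3 := congrArg (fun x => x ≫ σ.inv) ht
    simp only [Category.assoc, σ.hom_inv_id] at h3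
    rw [Category.comp_id] at h3
    exact h3
  let ψ : C ⟶ (shiftFunctor D (1 : ℤ)).obj Y' := φ ≫ z ≫ (shiftFunctor D (1 : ℤ)).map r
  have hψ : ψ ≫ (shiftFunctor D (1 : ℤ)).map j = φ ≫ z := by
    dsimp only [ψ]
    rw [Category.assoc, Category.assoc, ← Functor.map_comp]
    exact h1
  obtain ⟨C'', α, β, hT₁⟩ := distinguished_cocone_triangle₁ ψ
  have hY' := sub_cells E hc Q hQ a m t
  have hC'' : FFw C'' := ffw_triangle₁ _ hT₁ hC (ffw_shift hY'.1 1)
  obtain ⟨θ, hθ₁, hθ₂⟩ : ∃ θ : C'' ⟶ Kn, α ≫ φ = θ ≫ fn ∧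
      β ≫ (shiftFunctor D (1 : ℤ)).map θ =
        (shiftFunctor D (1 : ℤ)).map j ≫ (-(shiftFunctor D (1 : ℤ)).map y) :=
    complete_distinguished_triangle_morphism₁ _ _ hT₁
      (rot_of_distTriang _ hT) φ ((shiftFunctor D (1 : ℤ)).map j) hψ
  obtain ⟨E'', g'', h'', hE'', hθ⟩ := IH C'' hC'' θ
  obtain ⟨E', p, q, hT₃⟩ := distinguished_cocone_triangle₂ (β ≫ (shiftFunctor D (1 : ℤ)).map g'')
  obtain ⟨γ, hγ₁, hγ₂⟩ : ∃ γ : C ⟶ E', α ≫ γ = g'' ≫ p ∧ ψ ≫ 𝟙 _ = γ ≫ q :=
    complete_distinguished_triangle_morphism₂ _ _ hT₁ hT₃ g'' (𝟙 _)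
      (Category.id_comp _).symm
  have comm : (β ≫ (shiftFunctor D (1 : ℤ)).map g'') ≫ (shiftFunctor D (1 : ℤ)).map h'' =
      (shiftFunctor D (1 : ℤ)).map j ≫ (-(shiftFunctor D (1 : ℤ)).map y) := by
    rw [Category.assoc, ← Functor.map_comp, hθ]
    exact hθ₂
  obtain ⟨ρ, hρ₁, hρ₂⟩ : ∃ ρ : E' ⟶ Kn1, p ≫ ρ = h'' ≫ fn ∧
      q ≫ (shiftFunctor D (1 : ℤ)).map j = ρ ≫ z :=
    complete_distinguished_triangle_morphism₂ _ _ hT₃
      (rot_of_distTriang _ hT) h'' ((shiftFunctor D (1 : ℤ)).map j) comm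
  have hδ : α ≫ (φ - γ ≫ ρ) = 0 := by
    rw [Preadditive.comp_sub, hθ₁, ← Category.assoc, hγ₁, Category.assoc, hρ₁, ← Category.assoc,
      hθ, sub_self]
  obtain ⟨ψ', hψ'⟩ := Triangle.yoneda_exact₂ _ hT₁ (φ - γ ≫ ρ) hδ
  have hψ'' : φ - γ ≫ ρ = ψ ≫ ψ' := hψ'
  have hY's : Q ((shiftFunctor D (1 : ℤ)).obj Y') := Q.le_shift 1 _ hY'.2
  have hE's : Q E' := Q.ext_of_isTriangulatedClosed₂ _ hT₃ hE'' hY's
  refine ⟨E' ⊞ (shiftFunctor D (1 : ℤ)).obj Y', biprod.lift γ ψ, biprod.desc ρ ψ',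
    q_biprod Q hE's hY's, ?_⟩
  rw [biprod.lift_desc, ← hψ'']
  abel

theorem factor (K : ℕ → D) (f : ∀ n, K n ⟶ K (n + 1))
    (h0 : ∃ (κ : Type w) (a : κ → ι) (m : κ → ℤ),
      Nonempty (K 0 ≅ ∐ (fun k => (shiftFunctor D (m k)).obj (E (a k)))))
    (hstep : ∀ n, ∃ (κ : Type w) (a : κ → ι) (m : κ → ℤ)
      (y : (∐ fun k => (shiftFunctor D (m k)).obj (E (a k))) ⟶ K n)
      (z : K (n + 1) ⟶
        (shiftFunctor D (1 : ℤ)).obj (∐ fun k => (shiftFunctor D (m k)).obj (E (a k)))),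
      Triangle.mk y (f n) z ∈ distTriang D) (n : ℕ) :
    ∀ (C : D), FFw C → ∀ φ : C ⟶ K n, ∃ (E' : D) (g : C ⟶ E') (h : E' ⟶ K n),
      Q E' ∧ g ≫ h = φ := by
  induction n with
  | zero =>
    intro C hC φ
    obtain ⟨κ, a, m, ⟨e0⟩⟩ := h0
    obtain ⟨E', g, h, hE', hgh⟩ := base E hc Q hQ a m hC (φ ≫ e0.hom)
    refine ⟨E', g, h ≫ e0.inv, hE', ?_⟩
    rw [← Category.assoc, hgh, Category.assoc, e0.hom_inv_id, Category.comp_id]
  | succ n ih =>
    intro C hC φ
    obtain ⟨κ, a, m, y, z, hT⟩ := hstep n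
    exact step E hc Q hQ a m y (f n) z hT ih hC φ

/-- **Neeman**: a compact object lies in every thick subcategory containing the generators. -/
theorem mem_of_compact [LocallySmall.{w} D] [UnivLE.{w, v}] [Q.IsStableUnderRetracts]
    (hcN : ∀ i, BrownWL.PresNat (E i)) (hg : CohDer.Generates E)
    (X : D) (hXN : BrownWL.PresNat X) (hXf : FFw X) : Q X := by
  haveI : HasColimitsOfShape (Discrete ℕ) D :=
    hasColimitsOfShape_of_equivalence (Discrete.equivalence Equiv.ulift.{w})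
  obtain ⟨K, f, i, hL, h0, hstep⟩ := BrownWL.exists_presentation E hcN hg X
  obtain ⟨n, g', hg'⟩ := BrownWL.factor_of_presNat hXN K f X i hL (𝟙 X)
  obtain ⟨E', g, h, hE', hgh⟩ := factor E hc Q hQ K f h0 hstep n X hXf g'
  have r : Retract X E' :=
    { i := g
      r := h ≫ i n
      retract := by rw [← Category.assoc, hgh, ← hg'] }
  exact Q.prop_of_retract r hE'

end Main

end Groth.Agent.Lib.NeemanWL
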