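import Mathlib
import Groth.Prelude
import Groth.Agent.Lib.BddGen1_lead
import Groth.Agent.Lib.NeemanW_lead
import Groth.Agent.Lib.BrownQC1_lead

/-!
# Boundedness is detected by a perfect generator (lead; S1020, S1021)

* `ev_of_generator`: eventual vanishing of `Hom(G, E[m])` for a perfect generator `G` implies the
  same for every perfect object (Neeman: perfect objects lie in the thick closure of `G`);
* `main1020`, `main1021`.
-/

set_option autoImplicit false
set_option linter.all false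
set_option maxHeartbeats 1600000
set_option backward.isDefEq.respectTransparency false
set_option backward.isDefEq.respectTransparency.types false
set_option backward.defeqAttrib.useBackward true

universe u

open CategoryTheory CategoryTheory.Limits AlgebraicGeometry TopologicalSpace Opposite
open DerivedCategory CategoryTheory.Pretriangulated

attribute [local instance] HasDerivedCategory.standard

namespace Groth.Agent.Lib.BddGenL

open Groth.Agent.Lib Groth.Agent.Lib.DCohLocLead Groth.Agent.Lib.PerfLocL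
open Groth.Agent.Lib.HomVanL Groth.Agent.Lib.CompQL Groth.Agent.Lib.SerreHomL
open Groth.Agent.Lib.TTLiftL Groth.Agent.Lib.TTApxL Groth.Agent.Lib.TTSuppL
open Groth.Agent.Lib.TTGlueL Groth.Agent.Lib.TTGenL Groth.Agent.Lib.BrownQCL
open Groth.Agent.Lib.NeemanWL

noncomputable section

attribute [local instance] rpushI lpullI

/-- `QcSect.e` and `FinFactor.e` agree -/
theorem qcSect_e_eq {A : Type*} [Category A] [Preadditive A] {κ : Type*} (Z : κ → A)
    [HasCoproduct Z] (s : Finset κ) :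
    QcSect.e (coproductIsCoproduct Z) s = FinFactor.e Z (s : Set κ) := by
  classical
  apply Sigma.hom_ext
  intro k
  by_cases hk : k ∈ s
  · rw [FinFactor.ι_e_of_mem Z (Finset.mem_coe.2 hk)]
    exact QcSect.inj_e_mem (coproductIsCoproduct Z) hk
  · rw [FinFactor.ι_e_of_not_mem Z (fun h => hk (Finset.mem_coe.1 h))]
    unfold QcSect.e
    rw [Preadditive.comp_sum]
    refine Finset.sum_eq_zero (fun l hl => ?_)
    have hkl : k ≠ l := fun h => hk (h ▸ hl)
    rw [← Category.assoc, QcSect.inj_π_ne (coproductIsCoproduct Z) hkl, zero_comp]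

variable (X : Scheme.{u}) [CompactSpace X] [QuasiSeparatedSpace X]

theorem ffw_of_isPerfect (P : DCoh.D X) (hP : DCoh.IsPerfect P) :
    FFw (⟨P, isQCohD_of_isPerfect P hP⟩ : DCoh.DQCoh X) := by
  intro κ Z g
  obtain ⟨s, hs⟩ := fix_of_cq X ⟨P, isQCohD_of_isPerfect P hP⟩
    (CptPerfL.cq_of_isPerfect P hP) κ Z g
  refine ⟨s, ?_⟩
  rw [← qcSect_e_eq]
  exact hs

theorem presNat_of_isPerfect (P : DCoh.D X) (hP : DCoh.IsPerfect P) :
    BrownWL.PresNat (⟨P, isQCohD_of_isPerfect P hP⟩ : DCoh.DQCoh X) := by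
  have hq := isQCohD_of_isPerfect P hP
  have hcq : CQ P := CptPerfL.cq_of_isPerfect P hP
  haveI : PreservesColimitsOfShape (Discrete (ULift.{u} ℕ))
      (preadditiveCoyoneda.obj (op (⟨P, hq⟩ : DCoh.DQCoh X))) :=
    preserves_of_fix _ (fun Z φ => fix_of_cq X ⟨P, hq⟩ hcq _ Z φ)
  show PreservesColimitsOfShape (Discrete ℕ) _
  exact preservesColimitsOfShape_of_equiv (Discrete.equivalence Equiv.ulift.{u}) _

theorem generates_of_hgen (G : DCoh.D X) (hq : DCoh.IsQCohD G)
    (hgen : ∀ E : DCoh.D X, DCoh.IsQCohD E → (∀ (n : ℤ) (φ : G⟦n⟧ ⟶ E), φ = 0) → IsZero E) :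
    CohDer.Generates (fun _ : PUnit.{u + 1} => (⟨G, hq⟩ : DCoh.DQCoh X)) := by
  let ιQ := ObjectProperty.ι (DCoh.IsQCohD (X := X))
  intro K hK
  have hz : IsZero K.obj := by
    refine hgen K.obj K.property (fun n φ => ?_)
    have hN : NoHom G ((K.obj)⟦-n⟧) := by
      intro f
      let c := (ιQ.commShiftIso (-n)).app K
      have h1 := hK PUnit.unit (-n) (ιQ.preimage (f ≫ c.inv))
      have h2 : f ≫ c.inv = 0 := by
        have h3 := congrArg (fun g => ιQ.map g) h1
        simp only [Functor.map_preimage, Functor.map_zero] at h3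
        exact h3
      have h4 : f = (f ≫ c.inv) ≫ c.hom := by
        rw [Category.assoc, c.inv_hom_id]
        exact (Category.comp_id f).symm
      rw [h4, h2, zero_comp]
    exact KoszL.NoHom.shift_left' n (-n) (by omega) hN φ
  rw [IsZero.iff_id_eq_zero]
  apply ιQ.map_injective
  rw [CategoryTheory.Functor.map_id, Functor.map_zero]
  exact hz.eq_of_src _ _

/-- the objects of `D_QCoh` with eventually no maps to the shifts of `E` -/
def QE (up : Bool) (E : DCoh.D X) : ObjectProperty (DCoh.DQCoh X) :=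
  fun Z => Ev up (fun m => NoHom Z.obj (E⟦m⟧))

variable (up : Bool) (E : DCoh.D X)

instance qe_iso : (QE X up E).IsClosedUnderIsomorphisms where
  of_iso e h := h.mono (fun m hm =>
    hm.of_iso_left ((ObjectProperty.ι (DCoh.IsQCohD (X := X))).mapIso e))

instance qe_zero : (QE X up E).ContainsZero where
  exists_zero := by
    obtain ⟨Z, hZ⟩ := (HasZeroObject.zero : ∃ Z : DCoh.D X, IsZero Z)
    let Z' : DCoh.DQCoh X := ⟨Z, isQCohD_of_isPerfect _ (TTApxL.isPerfect_of_isZero hZ)⟩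
    have hZ' : IsZero Z' := by
      rw [IsZero.iff_id_eq_zero]
      apply (ObjectProperty.ι (DCoh.IsQCohD (X := X))).map_injective
      rw [CategoryTheory.Functor.map_id, Functor.map_zero]
      exact hZ.eq_of_src _ _
    exact ⟨Z', hZ', ⟨0, fun m _ => NoHom.of_isZero_left hZ⟩⟩

instance qe_shift : (QE X up E).IsStableUnderShift ℤ where
  isStableUnderShiftBy n := ⟨fun K hK => by
    have hK' : Ev up (fun m => NoHom K.obj (E⟦m⟧)) := hK
    refine (hK'.shift (-n)).mono (fun m hm => ?_)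
    have h1 : NoHom K.obj ((E⟦m⟧)⟦-n⟧) :=
      hm.of_iso_right ((shiftFunctorAdd' (DCoh.D X) m (-n) (m + -n) rfl).app E)
    have h2 : NoHom ((K.obj)⟦n⟧) (E⟦m⟧) := KoszL.NoHom.shift_left' n (-n) (by omega) h1
    exact h2.of_iso_left
      (((ObjectProperty.ι (DCoh.IsQCohD (X := X))).commShiftIso n).app K).symm⟩

instance qe_closed₂ : (QE X up E).IsTriangulatedClosed₂ :=
  ObjectProperty.IsTriangulatedClosed₂.mk' (fun T hT h₁ h₃ => by
    have h₁' : Ev up (fun m => NoHom T.obj₁.obj (E⟦m⟧)) := h₁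
    have h₃' : Ev up (fun m => NoHom T.obj₃.obj (E⟦m⟧)) := h₃
    refine (h₁'.and h₃').mono (fun m hm => ?_)
    exact NoHom.ext_left ((ObjectProperty.ι (DCoh.IsQCohD (X := X))).mapTriangle.obj T)
      ((ObjectProperty.ι (DCoh.IsQCohD (X := X))).map_distinguished T hT) hm.1 hm.2)

instance qe_tri : (QE X up E).IsTriangulated where

instance qe_retract : (QE X up E).IsStableUnderRetracts where
  of_retract {Z Z'} r h := by
    let ιQ := ObjectProperty.ι (DCoh.IsQCohD (X := X))
    have h' : Ev up (fun m => NoHom Z'.obj (E⟦m⟧)) := h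
    refine h'.mono (fun m hm => ?_)
    intro φ
    have h0 : ιQ.map r.r ≫ φ = 0 := hm _
    have h1 : ιQ.map r.i ≫ ιQ.map r.r = 𝟙 _ := by
      rw [← Functor.map_comp, r.retract, CategoryTheory.Functor.map_id]
    calc φ = (ιQ.map r.i ≫ ιQ.map r.r) ≫ φ := by rw [h1, Category.id_comp]
      _ = 0 := by rw [Category.assoc, h0, comp_zero]

/-- eventual vanishing for a perfect generator implies eventual vanishing for all perfect
objects -/
theorem ev_of_generator (G : DCoh.D X) (hG : DCoh.IsPerfect G)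
    (hgen : ∀ E : DCoh.D X, DCoh.IsQCohD E → (∀ (n : ℤ) (φ : G⟦n⟧ ⟶ E), φ = 0) → IsZero E)
    (h : Ev up (fun m => NoHom G (E⟦m⟧))) (P : DCoh.D X) (hP : DCoh.IsPerfect P) :
    Ev up (fun m => NoHom P (E⟦m⟧)) := by
  have hq := isQCohD_of_isPerfect G hG
  exact NeemanWL.mem_of_compact (fun _ : PUnit.{u + 1} => (⟨G, hq⟩ : DCoh.DQCoh X))
    (fun _ => ffw_of_isPerfect X G hG) (QE X up E) (fun _ => h)
    (fun _ => presNat_of_isPerfect X G hG) (generates_of_hgen X G hq hgen)
    ⟨P, isQCohD_of_isPerfect P hP⟩ (presNat_of_isPerfect X P hP) (ffw_of_isPerfect X P hP)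

/-- **S1020** -/
theorem main1020 (G : DCoh.D X) (hG : DCoh.IsPerfect G)
    (hgen : ∀ E : DCoh.D X, DCoh.IsQCohD E → (∀ (n : ℤ) (φ : G⟦n⟧ ⟶ E), φ = 0) → IsZero E)
    (E : DCoh.D X) (hE : DCoh.IsQCohD E) :
    (∃ a : ℤ, E.IsGE a) ↔ ∃ N : ℤ, ∀ i : ℤ, i ≤ N → ∀ φ : G⟦-i⟧ ⟶ E, φ = 0 := by
  constructor
  · rintro ⟨a, ha⟩
    haveI := ha
    obtain ⟨a', c, hVR⟩ := exists_VR G hG
    refine ⟨a - c - 1, fun i hi => ?_⟩
    exact hVR.noHom_shift (-i) E hE
      (fun j h1 h2 => DerivedCategory.isZero_of_isGE E a j (by omega))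
  · rintro ⟨N, hN⟩
    have h1 : Ev false (fun m => NoHom G (E⟦m⟧)) :=
      ⟨N, fun m hm => NoHom.shift_right m (-m) (by omega) (hN m hm)⟩
    obtain ⟨n₀, hn₀⟩ := bd_main false X E hE
      (fun P hP => ev_of_generator X false E G hG hgen h1 P hP)
    refine ⟨n₀ + 1, ?_⟩
    rw [DerivedCategory.isGE_iff]
    intro i hi
    exact hn₀ i (show i ≤ n₀ by omega)

/-- **S1021** -/
theorem main1021 (G : DCoh.D X) (hG : DCoh.IsPerfect G)
    (hgen : ∀ E : DCoh.D X, DCoh.IsQCohD E → (∀ (n : ℤ) (φ : G⟦n⟧ ⟶ E), φ = 0) → IsZero E)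
    (E : DCoh.D X) (hE : DCoh.IsQCohD E) :
    (∃ b : ℤ, E.IsLE b) ↔ ∃ N : ℤ, ∀ i : ℤ, N ≤ i → ∀ φ : G⟦-i⟧ ⟶ E, φ = 0 := by
  constructor
  · rintro ⟨b, hb⟩
    haveI := hb
    obtain ⟨a, c, hVR⟩ := exists_VR G hG
    refine ⟨b - a + 1, fun i hi => ?_⟩
    exact hVR.noHom_shift (-i) E hE
      (fun j h1 h2 => DerivedCategory.isZero_of_isLE E b j (by omega))
  · rintro ⟨N, hN⟩
    have h1 : Ev true (fun m => NoHom G (E⟦m⟧)) :=
      ⟨N, fun m hm => NoHom.shift_right m (-m) (by omega) (hN m hm)⟩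
    obtain ⟨n₀, hn₀⟩ := bd_main true X E hE
      (fun P hP => ev_of_generator X true E G hG hgen h1 P hP)
    refine ⟨n₀ - 1, ?_⟩
    rw [DerivedCategory.isLE_iff]
    intro i hi
    exact hn₀ i (show n₀ ≤ i by omega)

end

end Groth.Agent.Lib.BddGenL
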