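import Mathlib
import Groth.Prelude
import Groth.Agent.Lib.BddBC1_helper9
import Groth.Agent.Lib.FibAmp5_helper2
import Groth.Agent.Lib.GenFlatSch_helper8
import Groth.Agent.Lib.CohDev6_helper8
import Groth.Agent.Lib.SchImage_helper9

/-!
# Finiteness of the set of Hilbert functions in a bounded family, part 1 (helper9)

* `finite_range_of_generic_const`: Noetherian induction — a function on "points over a Noetherian
  space" which is generically constant on every irreducible closed subset takes finitely many values.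
* `euler_fibre_const_of_flat`, `euler_fibre_twist_const_of_flat`: in a flat coherent family over a
  connected `k`-scheme locally of finite type the Euler characteristic of the fibres at rational
  points (and of their twists by an invertible module on `X`) is constant.
APPEND-ONLY once landed.
-/

set_option autoImplicit false
universe u
open AlgebraicGeometry CategoryTheory CategoryTheory.Limits TopologicalSpace

namespace BddHilb

open BddBC FibPt Groth.Agent.TensInv

section Topology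

/-- Noetherian induction: generic constancy on irreducible closed subsets implies finiteness of
the set of values -/
theorem finite_range_of_generic_const {T β P : Type*} [TopologicalSpace T] [NoetherianSpace T]
    (loc : P → T) (v : P → β)
    (H : ∀ Z : Set T, IsClosed Z → IsIrreducible Z → ∃ U : Set T, IsOpen U ∧ (Z ∩ U).Nonempty ∧
      ∀ p p' : P, loc p ∈ Z ∩ U → loc p' ∈ Z ∩ U → v p = v p') :
    (Set.range v).Finite := by
  have key : ∀ Z : Closeds T, (v '' {p | loc p ∈ (Z : Set T)}).Finite := by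
    intro Z
    apply wellFounded_lt.induction Z; clear Z
    intro Z IH
    rcases eq_or_ne Z ⊥ with rfl | h₀
    · simp
    · by_cases h₁ : IsPreirreducible (Z : Set T)
      · have hirr : IsIrreducible (Z : Set T) := ⟨Closeds.coe_nonempty.2 h₀, h₁⟩
        obtain ⟨U, hU, hne, hconst⟩ := H Z Z.isClosed hirr
        let Z' : Closeds T := ⟨(Z : Set T) ∩ Uᶜ, Z.isClosed.inter hU.isClosed_compl⟩
        have hle : Z' ≤ Z := fun x hx => hx.1
        have hlt : Z' < Z := by
          refine lt_of_le_of_ne hle (fun heq => ?_)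
          obtain ⟨x, hxZ, hxU⟩ := hne
          have hx' : x ∈ (Z' : Set T) := by rw [heq]; exact hxZ
          exact hx'.2 hxU
        by_cases hp : ∃ p₀, loc p₀ ∈ (Z : Set T) ∩ U
        · obtain ⟨p₀, hp₀⟩ := hp
          refine ((IH Z' hlt).union (Set.finite_singleton (v p₀))).subset ?_
          rintro _ ⟨p, hp, rfl⟩
          by_cases hpU : loc p ∈ U
          · right
            exact hconst p p₀ ⟨hp, hpU⟩ hp₀
          · left
            exact ⟨p, ⟨hp, hpU⟩, rfl⟩
        · refine (IH Z' hlt).subset ?_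
          rintro _ ⟨p, hp', rfl⟩
          exact ⟨p, ⟨hp', fun hpU => hp ⟨p, hp', hpU⟩⟩, rfl⟩
      · simp only [isPreirreducible_iff_isClosed_union_isClosed, not_forall, not_or] at h₁
        obtain ⟨z₁, z₂, hz₁, hz₂, h, hz₁', hz₂'⟩ := h₁
        lift z₁ to Closeds T using hz₁
        lift z₂ to Closeds T using hz₂
        have f1 := IH (Z ⊓ z₁) (inf_lt_left.2 hz₁')
        have f2 := IH (Z ⊓ z₂) (inf_lt_left.2 hz₂')
        refine (f1.union f2).subset ?_
        rintro _ ⟨p, hp, rfl⟩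
        rcases h hp with h' | h'
        · left
          exact ⟨p, ⟨hp, h'⟩, rfl⟩
        · right
          exact ⟨p, ⟨hp, h'⟩, rfl⟩
  have h := key ⊤
  have e : v '' {p | loc p ∈ ((⊤ : Closeds T) : Set T)} = Set.range v := by
    ext b
    constructor
    · rintro ⟨p, -, rfl⟩
      exact ⟨p, rfl⟩
    · rintro ⟨p, rfl⟩
      exact ⟨p, trivial, rfl⟩
  rw [e] at h
  exact h

end Topology

section Const

variable (k : Type u) [Field k] (X : Scheme.{u}) [X.Over (Spec (CommRingCat.of k))]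
  [IsProper (X ↘ Spec (CommRingCat.of k))]
  {T : Scheme.{u}} (q : T ⟶ Spec (CommRingCat.of k)) [LocallyOfFiniteType q]

/-- in a flat coherent family over a connected base, the Euler characteristic of the fibres at
rational points is constant -/
theorem euler_fibre_const_of_flat [ConnectedSpace T] (𝓖 : (Pic13.prodK k X q).Modules)
    (h𝓖 : Coh.IsCoh 𝓖)
    (hflat : FlatMod.IsFlatOver (pullback.snd (X ↘ Spec (CommRingCat.of k)) q) 𝓖)
    (t t₀ : Spec (CommRingCat.of k) ⟶ T) (ht : t ≫ q = 𝟙 _) (ht₀ : t₀ ≫ q = 𝟙 _) :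
    Curv2.euler k X (Pic13.fibreMod k X q t ht 𝓖) =
      Curv2.euler k X (Pic13.fibreMod k X q t₀ ht₀ 𝓖) := by
  haveI : IsLocallyNoetherian (Spec (CommRingCat.of k)) := inferInstance
  haveI : IsLocallyNoetherian X :=
    LocallyOfFiniteType.isLocallyNoetherian (X ↘ Spec (CommRingCat.of k))
  haveI : LocallyOfFinitePresentation (X ↘ Spec (CommRingCat.of k)) := by
    rw [HasRingHomProperty.iff_appLE (P := @LocallyOfFinitePresentation)]
    intro U V e
    have h1 := HasRingHomProperty.appLE (P := @LocallyOfFiniteType)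
      (X ↘ Spec (CommRingCat.of k)) inferInstance U V e
    haveI : IsNoetherianRing Γ(Spec (CommRingCat.of k), U.1) :=
      IsLocallyNoetherian.component_noetherian U
    exact RingHom.FinitePresentation.of_finiteType.1 h1
  set f : Pic13.prodK k X q ⟶ T := pullback.snd (X ↘ Spec (CommRingCat.of k)) q with hf
  haveI : IsLocallyNoetherian T := LocallyOfFiniteType.isLocallyNoetherian q
  haveI : IsLocallyNoetherian (Pic13.prodK k X q) := LocallyOfFiniteType.isLocallyNoetherian f
  haveI := h𝓖.1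
  haveI := h𝓖.2
  have hFP : CohB1.IsFP 𝓖 := FLFH8.isFinitePresentation_of_isCoh _
  have hlc := Groth.Agent.S1026.result f 𝓖 hFP hflat
  have hconst := hlc.apply_eq_of_preconnectedSpace (ptOf t) (ptOf t₀)
  have key : ∀ (t : Spec (CommRingCat.of k) ⟶ T) (ht : t ≫ q = 𝟙 _),
      PerfAux.eulerChar f 𝓖 (ptOf t) = Curv2.euler k X (Pic13.fibreMod k X q t ht 𝓖) := by
    intro t ht
    unfold PerfAux.eulerChar Curv2.euler
    refine finsum_congr (fun i => ?_)
    rw [betti_eq_finrank f q t ht (Pic13.sliceAt k X q t ht) (X ↘ Spec (CommRingCat.of k))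
      (isPullback_sliceAt k X q t ht) 𝓖 i]
    rfl
  rw [← key t ht, ← key t₀ ht₀]
  exact hconst

/-- the same for the twists of the fibres by an invertible module on `X` -/
theorem euler_fibre_twist_const_of_flat [ConnectedSpace T] (𝓖 : (Pic13.prodK k X q).Modules)
    (h𝓖 : Coh.IsCoh 𝓖)
    (hflat : FlatMod.IsFlatOver (pullback.snd (X ↘ Spec (CommRingCat.of k)) q) 𝓖)
    (M : X.Modules) (hM : PicF.IsInvertible M)
    (t t₀ : Spec (CommRingCat.of k) ⟶ T) (ht : t ≫ q = 𝟙 _) (ht₀ : t₀ ≫ q = 𝟙 _) :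
    Curv2.euler k X (CohB1.tensorMod (Pic13.fibreMod k X q t ht 𝓖) M) =
      Curv2.euler k X (CohB1.tensorMod (Pic13.fibreMod k X q t₀ ht₀ 𝓖) M) := by
  haveI : IsLocallyNoetherian X :=
    LocallyOfFiniteType.isLocallyNoetherian (X ↘ Spec (CommRingCat.of k))
  set f : Pic13.prodK k X q ⟶ T := pullback.snd (X ↘ Spec (CommRingCat.of k)) q with hf
  set pr : Pic13.prodK k X q ⟶ X := pullback.fst (X ↘ Spec (CommRingCat.of k)) q with hpr
  haveI : IsLocallyNoetherian T := LocallyOfFiniteType.isLocallyNoetherian q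
  haveI : IsLocallyNoetherian (Pic13.prodK k X q) := LocallyOfFiniteType.isLocallyNoetherian f
  have hMY : PicF.IsInvertible ((Scheme.Modules.pullback pr).obj M) :=
    TensH8.isInvertible_pullback pr hM
  have hcoh : Coh.IsCoh (CohB1.tensorMod 𝓖 ((Scheme.Modules.pullback pr).obj M)) :=
    Snap9.isCoh_tensorMod h𝓖 hMY
  have hflat2 : FlatMod.IsFlatOver f
      (CohB1.tensorMod ((Scheme.Modules.pullback pr).obj M) 𝓖) :=
    Groth.Agent.Lib.RelPerfTensH3.isFlatOver_tensor f _ _
      (TensH8.isFinLocFree_of_isInvertible hMY) hflat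
  have hflat' : FlatMod.IsFlatOver f
      (CohB1.tensorMod 𝓖 ((Scheme.Modules.pullback pr).obj M)) :=
    Groth.Agent.Lib.RelPerfTensH3.isFlatOver_of_iso f (comm _ _) hflat2
  have key : ∀ (t : Spec (CommRingCat.of k) ⟶ T) (ht : t ≫ q = 𝟙 _),
      Nonempty (Pic13.fibreMod k X q t ht
        (CohB1.tensorMod 𝓖 ((Scheme.Modules.pullback pr).obj M)) ≅
        CohB1.tensorMod (Pic13.fibreMod k X q t ht 𝓖) M) := by
    intro t ht
    unfold Pic13.fibreMod
    obtain ⟨e1⟩ := Groth.Agent.Lib.FibAmpH2.nonempty_pullback_tensor_iso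
      (Pic13.sliceAt k X q t ht) 𝓖 hMY
    let e2 : (Scheme.Modules.pullback (Pic13.sliceAt k X q t ht)).obj
        ((Scheme.Modules.pullback pr).obj M) ≅ M :=
      (Scheme.Modules.pullbackComp (Pic13.sliceAt k X q t ht) pr).app _ ≪≫
        (Scheme.Modules.pullbackCongr (sliceAt_fst k X q t ht)).app _ ≪≫
        (Scheme.Modules.pullbackId X).app _
    exact ⟨e1 ≪≫ mapL _ e2⟩
  obtain ⟨ε⟩ := key t ht
  obtain ⟨ε₀⟩ := key t₀ ht₀
  rw [← CurveTens.euler_of_iso k X ε, ← CurveTens.euler_of_iso k X ε₀]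
  exact euler_fibre_const_of_flat k X q _ hcoh hflat' t t₀ ht ht₀

end Const

section Generic

variable (k : Type u) [Field k] (X : Scheme.{u}) [X.Over (Spec (CommRingCat.of k))]
  [IsProper (X ↘ Spec (CommRingCat.of k))]
  {T : Scheme.{u}} (q : T ⟶ Spec (CommRingCat.of k)) [LocallyOfFiniteType q]

theorem irreducibleSpace_of_isEmbedding {Y X' : Type*} [TopologicalSpace Y] [TopologicalSpace X']
    (f : Y → X') (hf : Topology.IsEmbedding f) (h : IsIrreducible (Set.range f)) :
    IrreducibleSpace Y := by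
  have := Subtype.irreducibleSpace h
  exact (hf.toHomeomorph.irreducibleSpace_iff).mpr this

/-- generic constancy of the Hilbert functions of the fibres on an irreducible closed subset of
the base -/
theorem exists_open_const {I : Type*} (M : I → X.Modules) (hM : ∀ d, PicF.IsInvertible (M d))
    (𝓕 : (Pic13.prodK k X q).Modules) (h𝓕 : Coh.IsCoh 𝓕) (Z : Set T) (hZ : IsClosed Z)
    (hirr : IsIrreducible Z) :
    ∃ U : Set T, IsOpen U ∧ (Z ∩ U).Nonempty ∧
      ∀ (t t' : Spec (CommRingCat.of k) ⟶ T) (ht : t ≫ q = 𝟙 _) (ht' : t' ≫ q = 𝟙 _),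
        t.base (IsLocalRing.closedPoint k) ∈ Z ∩ U → t'.base (IsLocalRing.closedPoint k) ∈ Z ∩ U →
        ∀ d, Curv2.euler k X (CohB1.tensorMod (Pic13.fibreMod k X q t ht 𝓕) (M d)) =
          Curv2.euler k X (CohB1.tensorMod (Pic13.fibreMod k X q t' ht' 𝓕) (M d)) := by
  haveI : IsLocallyNoetherian T := LocallyOfFiniteType.isLocallyNoetherian q
  obtain ⟨𝓘, h𝓘⟩ : ∃ 𝓘 : T.IdealSheafData, 𝓘 = Scheme.IdealSheafData.vanishingIdeal ⟨Z, hZ⟩ :=
    ⟨_, rfl⟩
  have hsupp : (𝓘.support : Set T) = Z := by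
    rw [h𝓘]
    exact Scheme.IdealSheafData.coe_support_vanishingIdeal _
  have hrange : Set.range 𝓘.subschemeι = Z := by
    rw [Scheme.IdealSheafData.range_subschemeι, hsupp]
  haveI : IsReduced 𝓘.subscheme := by
    rw [h𝓘]
    exact CohDevH8.isReduced_subscheme_vanishingIdeal _
  haveI : IrreducibleSpace 𝓘.subscheme :=
    irreducibleSpace_of_isEmbedding 𝓘.subschemeι 𝓘.subschemeι.isEmbedding (by rw [hrange]; exact hirr)
  haveI : IsIntegral 𝓘.subscheme := isIntegral_of_irreducibleSpace_of_isReduced _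
  set j : 𝓘.subscheme ⟶ T := 𝓘.subschemeι with hj
  set qW : 𝓘.subscheme ⟶ Spec (CommRingCat.of k) := j ≫ q with hqW
  haveI : IsLocallyNoetherian 𝓘.subscheme := LocallyOfFiniteType.isLocallyNoetherian qW
  set 𝓕W := (Scheme.Modules.pullback (bcMap k X q qW j rfl)).obj 𝓕 with h𝓕W
  have h𝓕Wc : Coh.IsCoh 𝓕W := Groth.Agent.Lib.ConsModH2.isCoh_pullback _ 𝓕 h𝓕
  haveI := h𝓕Wc.1
  haveI := h𝓕Wc.2
  obtain ⟨UW, hUWne, hUWflat⟩ := GenFlatSchH8.generic_flat
    (pullback.snd (X ↘ Spec (CommRingCat.of k)) qW) 𝓕W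
  obtain ⟨U, hUopen, hUeq⟩ := j.isEmbedding.isInducing.isOpen_iff.mp UW.isOpen
  refine ⟨U, hUopen, ?_, ?_⟩
  · obtain ⟨w, hw⟩ := hUWne
    refine ⟨j w, ?_, ?_⟩
    · rw [← hrange]
      exact ⟨w, rfl⟩
    · have : w ∈ j ⁻¹' U := by rw [hUeq]; exact hw
      exact this
  -- the family over `UW`
  haveI : Nonempty ↥(UW : Scheme.{u}) := by
    obtain ⟨w, hw⟩ := hUWne
    exact ⟨⟨w, hw⟩⟩
  haveI : IsIntegral (UW : Scheme.{u}) := isIntegral_of_isOpenImmersion UW.ι
  haveI : IrreducibleSpace ↥(UW : Scheme.{u}) := inferInstance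
  haveI : ConnectedSpace ↥(UW : Scheme.{u}) := inferInstance
  set qU : (UW : Scheme.{u}) ⟶ Spec (CommRingCat.of k) := UW.ι ≫ qW with hqU
  set 𝓕U := (Scheme.Modules.pullback (bcMap k X qW qU UW.ι rfl)).obj 𝓕W with h𝓕U
  have h𝓕Uc : Coh.IsCoh 𝓕U := Groth.Agent.Lib.ConsModH2.isCoh_pullback _ 𝓕W h𝓕Wc
  have hflatU : FlatMod.IsFlatOver (pullback.snd (X ↘ Spec (CommRingCat.of k)) qU) 𝓕U := by
    intro z
    refine FlatBC2H8.isFlatOverAt_pullback (isPullback_bcMap k X qW qU UW.ι rfl) 𝓕W z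
      (hUWflat _ ?_)
    have h1 : (pullback.snd (X ↘ Spec (CommRingCat.of k)) qW).base
        ((bcMap k X qW qU UW.ι rfl).base z) =
        UW.ι.base ((pullback.snd (X ↘ Spec (CommRingCat.of k)) qU).base z) := by
      rw [← Scheme.Hom.comp_apply, ← Scheme.Hom.comp_apply, bcMap_snd]
    rw [h1]
    exact ((pullback.snd (X ↘ Spec (CommRingCat.of k)) qU).base z).2
  -- lifting rational points
  have hlift : ∀ (t : Spec (CommRingCat.of k) ⟶ T) (ht : t ≫ q = 𝟙 _),
      t.base (IsLocalRing.closedPoint k) ∈ Z ∩ U →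
      ∃ (tU : Spec (CommRingCat.of k) ⟶ (UW : Scheme.{u})) (htU : tU ≫ qU = 𝟙 _),
        Nonempty (Pic13.fibreMod k X qU tU htU 𝓕U ≅ Pic13.fibreMod k X q t ht 𝓕) := by
    intro t ht hloc
    have hpt : ∀ y : Spec (CommRingCat.of k), y = IsLocalRing.closedPoint k :=
      fun y => Subsingleton.elim _ _
    have hle : j.ker ≤ t.ker := by
      rw [hj, Scheme.IdealSheafData.ker_subschemeι, h𝓘,
        Groth.Agent.Lib.SchImage_helper9.ker_eq_vanishingIdeal t]
      apply Scheme.IdealSheafData.vanishingIdeal_antimono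
      intro z hz
      refine (hZ.closure_subset_iff.mpr ?_) hz
      rintro _ ⟨y, rfl⟩
      rw [hpt y]
      exact hloc.1
    let tW : Spec (CommRingCat.of k) ⟶ 𝓘.subscheme := IsClosedImmersion.lift j t hle
    have htW : tW ≫ j = t := IsClosedImmersion.lift_fac _ _ _
    have hrangeW : Set.range tW.base ⊆ Set.range UW.ι.base := by
      rintro _ ⟨y, rfl⟩
      rw [Scheme.Opens.range_ι, hpt y]
      have h1 : j.base (tW.base (IsLocalRing.closedPoint k)) ∈ U := by
        rw [← Scheme.Hom.comp_apply, htW]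
        exact hloc.2
      have h2 : tW.base (IsLocalRing.closedPoint k) ∈ j ⁻¹' U := h1
      rw [hUeq] at h2
      exact h2
    let tU : Spec (CommRingCat.of k) ⟶ (UW : Scheme.{u}) := IsOpenImmersion.lift UW.ι tW hrangeW
    have htU' : tU ≫ UW.ι = tW := IsOpenImmersion.lift_fac _ _ _
    have htWq : tW ≫ qW = 𝟙 _ := by rw [hqW, ← Category.assoc, htW, ht]
    have htU : tU ≫ qU = 𝟙 _ := by rw [hqU, ← Category.assoc, htU', htWq]
    obtain ⟨e₁⟩ := nonempty_fibreMod_bc k X qW qU UW.ι rfl 𝓕W tU htU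
    obtain ⟨e₂⟩ := nonempty_fibreMod_congr k X qW 𝓕W htU'
      (by rw [Category.assoc]; exact htU) htWq
    obtain ⟨e₃⟩ := nonempty_fibreMod_bc k X q qW j rfl 𝓕 tW htWq
    obtain ⟨e₄⟩ := nonempty_fibreMod_congr k X q 𝓕 htW
      (by rw [Category.assoc]; exact htWq) ht
    exact ⟨tU, htU, ⟨e₁ ≪≫ e₂ ≪≫ e₃ ≪≫ e₄⟩⟩
  intro t t' ht ht' hloc hloc' d
  obtain ⟨tU, htU, ⟨e⟩⟩ := hlift t ht hloc
  obtain ⟨tU', htU', ⟨e'⟩⟩ := hlift t' ht' hloc'
  rw [← CurveTens.euler_of_iso k X (mapR e (M d)), ← CurveTens.euler_of_iso k X (mapR e' (M d))]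
  exact euler_fibre_twist_const_of_flat k X qU 𝓕U h𝓕Uc hflatU (M d) (hM d) tU tU' htU htU'

end Generic

section Finite

variable (k : Type u) [Field k] (X : Scheme.{u}) [X.Over (Spec (CommRingCat.of k))]
  [IsProper (X ↘ Spec (CommRingCat.of k))]
  {T : Scheme.{u}} (q : T ⟶ Spec (CommRingCat.of k)) [LocallyOfFiniteType q] [QuasiCompact q]

/-- **finiteness of the set of Hilbert functions** of the fibres at rational points of a coherent
family over a `k`-scheme of finite type -/
theorem finite_hilbFun {I : Type*} (M : I → X.Modules) (hM : ∀ d, PicF.IsInvertible (M d))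
    (𝓕 : (Pic13.prodK k X q).Modules) (h𝓕 : Coh.IsCoh 𝓕) :
    (Set.range (fun p : {t : Spec (CommRingCat.of k) ⟶ T // t ≫ q = 𝟙 _} => fun d : I =>
      Curv2.euler k X (CohB1.tensorMod (Pic13.fibreMod k X q p.1 p.2 𝓕) (M d)))).Finite := by
  haveI : IsLocallyNoetherian T := LocallyOfFiniteType.isLocallyNoetherian q
  haveI : CompactSpace T := QuasiCompact.compactSpace_of_compactSpace q
  haveI : IsNoetherian T := {}
  haveI : NoetherianSpace T := inferInstance
  refine finite_range_of_generic_const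
    (fun p : {t : Spec (CommRingCat.of k) ⟶ T // t ≫ q = 𝟙 _} =>
      p.1.base (IsLocalRing.closedPoint k)) _ ?_
  intro Z hZ hirr
  obtain ⟨U, hU, hne, hconst⟩ := exists_open_const k X q M hM 𝓕 h𝓕 Z hZ hirr
  refine ⟨U, hU, hne, ?_⟩
  intro p p' hp hp'
  funext d
  exact hconst p.1 p'.1 p.2 p'.2 hp hp' d

end Finite

end BddHilb
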