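import Mathlib
import Groth.Prelude
import Groth.Agent.Lib.SubExt_helper9
import Groth.Agent.Lib.FCompl1_helper8
import Groth.Agent.Lib.CechShQC_helper9

/-!
# Finite limits and colimits of quasi-coherent modules (helper3)

* `isQuasicoherent_of_isLimit`, `isQuasicoherent_of_isColimit`: a finite limit / colimit (in
  `X.Modules`) of quasi-coherent modules is quasi-coherent.
* the inclusion `(QCohCat.isQCoh X).ι : QCoh X ⥤ X.Modules` preserves finite limits and finite
  colimits.
-/

set_option autoImplicit false
set_option linter.all false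
set_option maxHeartbeats 1600000

universe u
open CategoryTheory CategoryTheory.Limits AlgebraicGeometry Opposite TopologicalSpace

namespace Groth.Agent.Lib.QCohFinLimH3

variable {X : Scheme.{u}}

theorem qc_of_iso {M N : X.Modules} (α : M ≅ N) (h : N.IsQuasicoherent) : M.IsQuasicoherent :=
  (SheafOfModules.isQuasicoherent X.ringCatSheaf).prop_of_iso α.symm h

/-- finite products of quasi-coherent modules are quasi-coherent (any index universe) -/
theorem isQuasicoherent_pi' {J : Type} [Finite J] (f : J → X.Modules)
    (h : ∀ k, (f k).IsQuasicoherent) : (∏ᶜ f).IsQuasicoherent := by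
  obtain ⟨n, ⟨ε⟩⟩ := Finite.exists_equiv_fin J
  have h1 := CechShQC.isQuasicoherent_pi_fin n (f ∘ ε.symm) (fun k => h _)
  exact qc_of_iso (Pi.reindex ε.symm f).symm h1

/-- finite coproducts of quasi-coherent modules are quasi-coherent -/
theorem isQuasicoherent_sigma' {J : Type} [Finite J] (f : J → X.Modules)
    (h : ∀ k, (f k).IsQuasicoherent) : (∐ f).IsQuasicoherent := by
  haveI := Fintype.ofFinite J
  exact qc_of_iso ((biproduct.isoCoproduct f).symm ≪≫ biproduct.isoProduct f)
    (isQuasicoherent_pi' f h)

/-- equalizers of quasi-coherent modules are quasi-coherent -/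
theorem isQuasicoherent_equalizer {M N : X.Modules} (hM : M.IsQuasicoherent)
    (hN : N.IsQuasicoherent) (s t : M ⟶ N) : (equalizer s t).IsQuasicoherent := by
  haveI := hM
  haveI := hN
  have h1 : (kernel (s - t)).IsQuasicoherent := SubExt.isQuasicoherent_kernel (s - t)
  have hl : IsLimit (Preadditive.kernelForkOfFork (limit.cone (parallelPair s t))) :=
    Preadditive.isLimitKernelForkOfFork (limit.isLimit (parallelPair s t))
  let e : equalizer s t ≅ kernel (s - t) :=
    IsLimit.conePointUniqueUpToIso hl (limit.isLimit (parallelPair (s - t) 0))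
  exact qc_of_iso e h1

/-- coequalizers of quasi-coherent modules are quasi-coherent -/
theorem isQuasicoherent_coequalizer {M N : X.Modules} (hM : M.IsQuasicoherent)
    (hN : N.IsQuasicoherent) (s t : M ⟶ N) : (coequalizer s t).IsQuasicoherent := by
  haveI := hM
  haveI := hN
  have h1 : (cokernel (s - t)).IsQuasicoherent := FComplH8.isQuasicoherent_cokernel (s - t)
  have hl : IsColimit (Preadditive.cokernelCoforkOfCofork (colimit.cocone (parallelPair s t))) :=
    Preadditive.isColimitCokernelCoforkOfCofork (colimit.isColimit (parallelPair s t))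
  let e : coequalizer s t ≅ cokernel (s - t) :=
    IsColimit.coconePointUniqueUpToIso hl (colimit.isColimit (parallelPair (s - t) 0))
  exact qc_of_iso e h1

/-- **finite limits of quasi-coherent modules are quasi-coherent** -/
theorem isQuasicoherent_of_isLimit {J : Type} [SmallCategory J] [FinCategory J]
    {K : J ⥤ X.Modules} (c : Cone K) (hc : IsLimit c) (h : ∀ j, (K.obj j).IsQuasicoherent) :
    c.pt.IsQuasicoherent := by
  let L := limitConeOfEqualizerAndProduct K
  have h1 : (∏ᶜ K.obj).IsQuasicoherent := isQuasicoherent_pi' K.obj h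
  have h2 : (∏ᶜ fun f : Σ p : J × J, p.1 ⟶ p.2 => K.obj f.1.2).IsQuasicoherent :=
    isQuasicoherent_pi' _ (fun f => h _)
  have h3 : L.cone.pt.IsQuasicoherent := isQuasicoherent_equalizer h1 h2 _ _
  exact qc_of_iso (IsLimit.conePointUniqueUpToIso hc L.isLimit) h3

/-- **finite colimits of quasi-coherent modules are quasi-coherent** -/
theorem isQuasicoherent_of_isColimit {J : Type} [SmallCategory J] [FinCategory J]
    {K : J ⥤ X.Modules} (c : Cocone K) (hc : IsColimit c)
    (h : ∀ j, (K.obj j).IsQuasicoherent) : c.pt.IsQuasicoherent := by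
  let L := colimitCoconeOfCoequalizerAndCoproduct K
  have h1 : (∐ K.obj).IsQuasicoherent := isQuasicoherent_sigma' K.obj h
  have h2 : (∐ fun f : Σ p : J × J, p.1 ⟶ p.2 => K.obj f.1.1).IsQuasicoherent :=
    isQuasicoherent_sigma' _ (fun f => h _)
  have h3 : L.cocone.pt.IsQuasicoherent := isQuasicoherent_coequalizer h2 h1 _ _
  exact qc_of_iso (IsColimit.coconePointUniqueUpToIso hc L.isColimit) h3

instance closedUnderLimits (J : Type) [SmallCategory J] [FinCategory J] :
    (QCohCat.isQCoh X).IsClosedUnderLimitsOfShape J where
  limitsOfShape_le := by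
    rintro M ⟨p⟩
    exact isQuasicoherent_of_isLimit (Cone.mk M p.π) p.isLimit p.prop_diag_obj

instance closedUnderColimits (J : Type) [SmallCategory J] [FinCategory J] :
    (QCohCat.isQCoh X).IsClosedUnderColimitsOfShape J where
  colimitsOfShape_le := by
    rintro M ⟨p⟩
    exact isQuasicoherent_of_isColimit (Cocone.mk M p.ι) p.isColimit p.prop_diag_obj

instance preservesFiniteLimits_ι : PreservesFiniteLimits (QCohCat.isQCoh X).ι where
  preservesFiniteLimits J _ _ := inferInstance

instance preservesFiniteColimits_ι : PreservesFiniteColimits (QCohCat.isQCoh X).ι where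
  preservesFiniteColimits J _ _ := inferInstance

end Groth.Agent.Lib.QCohFinLimH3
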