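import Mathlib
import Groth.Prelude
import Groth.Agent.Lib.QCohFinLim_helper3
import Groth.Agent.Lib.FinPushPC2_helper3

/-!
# `QCoh(X)` is an abelian category (helper3)

The full subcategory `QCohCat.QCoh X` of quasi-coherent modules is closed under kernels, cokernels
and finite products in `X.Modules`, hence abelian (Mathlib's `Abelian P.FullSubcategory`), and its
inclusion is exact.
-/

set_option autoImplicit false
set_option linter.all false
set_option maxHeartbeats 1600000

universe u
open CategoryTheory CategoryTheory.Limits AlgebraicGeometry Opposite TopologicalSpace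

namespace Groth.Agent.Lib.QCohFinLimH3

variable {X : Scheme.{u}}

instance isClosedUnderIsomorphisms_isQCoh : (QCohCat.isQCoh X).IsClosedUnderIsomorphisms where
  of_iso e h := qc_of_iso e.symm h

instance containsZero_isQCoh : (QCohCat.isQCoh X).ContainsZero where
  exists_zero := by
    obtain ⟨Z, hZ⟩ := HasZeroObject.zero (C := X.Modules)
    exact ⟨Z, hZ, Groth.Agent.Lib.FinPushPCH3.isQuasicoherent_of_isZero hZ⟩

instance isClosedUnderKernels_isQCoh : (QCohCat.isQCoh X).IsClosedUnderKernels where
  kernels_le := by
    rintro _ ⟨f, k, hk, hf⟩
    refine isQuasicoherent_of_isLimit k hk (fun j => ?_)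
    cases j
    · exact hf.1
    · exact hf.2

instance isClosedUnderCokernels_isQCoh : (QCohCat.isQCoh X).IsClosedUnderCokernels where
  cokernels_le := by
    rintro _ ⟨f, k, hk, hf⟩
    refine isQuasicoherent_of_isColimit k hk (fun j => ?_)
    cases j
    · exact hf.1
    · exact hf.2

instance isClosedUnderFiniteProducts_isQCoh : (QCohCat.isQCoh X).IsClosedUnderFiniteProducts where
  isClosedUnderLimitsOfShape J _ := by
    haveI := Fintype.ofFinite J
    infer_instance

noncomputable instance abelianQCoh : Abelian (QCohCat.QCoh X) :=
  inferInstanceAs (Abelian (QCohCat.isQCoh X).FullSubcategory)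

end Groth.Agent.Lib.QCohFinLimH3
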