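import Mathlib
import Groth.Prelude
import Groth.Agent.Lib.QCohAb_helper3
import Groth.Agent.Lib.BMod1_helper6
import Groth.Agent.Lib.SubExt3_helper9
import Groth.Agent.Lib.DSect3_lead
import Groth.Agent.Lib.BasisHom_helper7
import Groth.Agent.Lib.QCohFT_helper9
import Groth.Agent.Lib.QcqsLoc_helper9
import Groth.Agent.Lib.QCohExtn_helper9

/-!
# `QCoh(X)` for a qcqs scheme: cocomplete, small separating family, SAFT (lead)

* `QCoh(X)` is closed under small coproducts in `X.Modules`, hence cocomplete.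
* On a qcqs scheme, the quasi-coherent quotients of finite coproducts `⨁ j_! O_{U_i}` form a small
  separating family of `QCoh(X)` (every quasi-coherent module is the union of its quasi-coherent
  submodules of finite type, EGA I 9.4.9).
* Hence `QCoh(X)` is well-powered and well-copowered and the special adjoint functor theorem applies.
-/

set_option autoImplicit false
set_option linter.all false
set_option maxHeartbeats 1600000
set_option backward.isDefEq.respectTransparency false
set_option backward.isDefEq.respectTransparency.types false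
set_option backward.defeqAttrib.useBackward true

universe u u'

open CategoryTheory CategoryTheory.Limits AlgebraicGeometry Opposite TopologicalSpace
open QcqsLoc QCohExtn

namespace Groth.Agent.Lib.QCohGenL

open Groth.Agent.Lib.DSectX Groth.Agent.Lib.QCohFinLimH3

variable {X : Scheme.{u}}

/-! ## cocompleteness -/

instance closedUnderCoproducts (J : Type u) :
    (QCohCat.isQCoh X).IsClosedUnderColimitsOfShape (Discrete J) where
  colimitsOfShape_le := by
    rintro M ⟨p⟩
    haveI : ∀ j : J, (p.diag.obj ⟨j⟩).IsQuasicoherent := fun j => p.prop_diag_obj ⟨j⟩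
    have h1 : (∐ fun j : J => p.diag.obj ⟨j⟩).IsQuasicoherent :=
      Groth.Agent.Lib.BModH6.isQuasicoherent_sigma _
    have e1 : M ≅ colimit p.diag :=
      IsColimit.coconePointUniqueUpToIso p.isColimit (colimit.isColimit p.diag)
    have e2 : colimit p.diag ≅ ∐ fun j : J => p.diag.obj ⟨j⟩ :=
      HasColimit.isoOfNatIso Discrete.natIsoFunctor
    exact qc_of_iso (e1 ≪≫ e2) h1

instance hasCoproducts_qcoh : HasCoproducts.{u} (QCohCat.QCoh X) := fun J => by
  show HasColimitsOfShape (Discrete J) (QCohCat.isQCoh X).FullSubcategory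
  infer_instance

instance hasColimits_qcoh : HasColimits (QCohCat.QCoh X) :=
  has_colimits_of_hasCoequalizers_and_coproducts

/-! ## generators of a quasi-coherent module of finite type -/

theorem rF_refl' (F : X.Modules) {V : X.Opens} (s : Γ(F, V)) : rF F (le_refl V) s = s := by
  have h : (homOfLE (le_refl V)).op = 𝟙 (op V) := rfl
  show (F.presheaf.map (homOfLE (le_refl V)).op).hom s = s
  rw [h, F.presheaf.map_id]
  rfl

theorem evX_comp' (U : X.Opens) {N N' : X.Modules} (g : (PX X).obj U ⟶ N) (k : N ⟶ N') :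
    (evX X U N' (g ≫ k) : Γ(N', U)) = ap k U (evX X U N g : Γ(N, U)) :=
  evX_comp X U g k

theorem exists_gens [CompactSpace X] (E : X.Modules) [E.IsQuasicoherent]
    [SheafOfModules.IsFiniteType (R := X.ringCatSheaf) E] :
    ∃ (n : ℕ) (L : Fin n → X.Opens) (t : ∀ i, Γ(E, L i)),
      ∀ x : X, ∃ V : X.Opens, IsAffineOpen V ∧ x ∈ V ∧
        Submodule.span Γ(X, V)
          {s : Γ(E, V) | ∃ (i : Fin n) (h : V ≤ L i), s = rF E h (t i)} = ⊤ := by
  have hc : IsCompact ((⊤ : X.Opens) : Set X) := by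
    rw [Opens.coe_top]; exact isCompact_univ
  obtain ⟨S, hS, hcov⟩ := isCompact_iff_finite_and_eq_biUnion_affineOpens.mp hc
  haveI : Finite S := hS.to_subtype
  have hfin : ∀ W : S, ∃ T : Finset Γ(E, W.1.1),
      Submodule.span Γ(X, W.1.1) (T : Set Γ(E, W.1.1)) = ⊤ := by
    intro W
    haveI := QCohFT.finite_of_isFiniteType E W.1.2
    obtain ⟨T, hT⟩ := (Module.Finite.fg_top : (⊤ : Submodule Γ(X, W.1.1) Γ(E, W.1.1)).FG)
    exact ⟨T, hT⟩
  choose T hT using hfin
  let I := Σ W : S, {s : Γ(E, W.1.1) // s ∈ T W}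
  haveI : Finite I := inferInstance
  let e : I ≃ Fin (Nat.card I) := Finite.equivFin I
  refine ⟨Nat.card I, fun i => (e.symm i).1.1.1, fun i => (e.symm i).2.1, fun x => ?_⟩
  have hx : x ∈ (⊤ : X.Opens) := trivial
  rw [hcov] at hx
  obtain ⟨W, hxW'⟩ := Opens.mem_iSup.mp hx
  obtain ⟨hW, hxW⟩ := Opens.mem_iSup.mp hxW'
  refine ⟨W.1, W.2, hxW, ?_⟩
  rw [eq_top_iff, ← hT ⟨W, hW⟩]
  apply Submodule.span_mono
  intro s hs
  have key : ∀ idx : I, ∃ (i : Fin (Nat.card I)) (h : idx.1.1.1 ≤ (e.symm i).1.1.1),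
      idx.2.1 = rF E h ((e.symm i).2.1) := by
    intro idx
    obtain ⟨i, rfl⟩ : ∃ i, e.symm i = idx := ⟨e idx, e.symm_apply_apply idx⟩
    exact ⟨i, le_rfl, (rF_refl' E _).symm⟩
  exact key ⟨⟨W, hW⟩, ⟨s, Finset.mem_coe.mp hs⟩⟩

theorem epi_of_gens (E : X.Modules) [E.IsQuasicoherent] {n : ℕ} (L : Fin n → X.Opens)
    (t : ∀ i, Γ(E, L i))
    (hgen : ∀ x : X, ∃ V : X.Opens, IsAffineOpen V ∧ x ∈ V ∧
        Submodule.span Γ(X, V)
          {s : Γ(E, V) | ∃ (i : Fin n) (h : V ≤ L i), s = rF E h (t i)} = ⊤) :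
    Epi (Sigma.desc (fun i => (evX X (L i) E).symm (t i)) :
      (∐ fun i => (PX X).obj (L i)) ⟶ E) := by
  have hπ : ∀ i, Sigma.ι (fun i => (PX X).obj (L i)) i ≫
      Sigma.desc (fun i => (evX X (L i) E).symm (t i)) = (evX X (L i) E).symm (t i) :=
    fun i => Sigma.ι_desc _ i
  apply Preadditive.epi_of_cancel_zero
  intro Z ψ hψ
  have h1 : ∀ i, ap ψ (L i) (t i) = 0 := by
    intro i
    have h2 : (evX X (L i) E).symm (t i) ≫ ψ = 0 := by
      rw [← hπ i, Category.assoc, hψ, comp_zero]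
    have h3 := evX_comp' (L i) ((evX X (L i) E).symm (t i)) ψ
    rw [h2, map_zero, AddEquiv.apply_symm_apply] at h3
    exact h3.symm
  have h4 : ∀ (V : X.Opens), Submodule.span Γ(X, V)
      {s : Γ(E, V) | ∃ (i : Fin n) (h : V ≤ L i), s = rF E h (t i)} = ⊤ →
      ∀ s : Γ(E, V), ap ψ V s = 0 := by
    intro V hV s
    have hs : s ∈ Submodule.span Γ(X, V)
        {s : Γ(E, V) | ∃ (i : Fin n) (h : V ≤ L i), s = rF E h (t i)} := by
      rw [hV]; exact Submodule.mem_top
    refine Submodule.span_induction (p := fun x _ => ap ψ V x = 0) ?_ ?_ ?_ ?_ hs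
    · intro s' hs'
      obtain ⟨i, h, rfl⟩ := hs'
      rw [ap_rF, h1, map_zero]
    · exact map_zero _
    · intro a b _ _ ha hb
      rw [map_add, ha, hb, add_zero]
    · intro r a _ ha
      rw [ap_smul, ha, smul_zero]
  have h5 : ∀ (V : X.Opens), IsAffineOpen V → (∀ s : Γ(E, V), ap ψ V s = 0) →
      ∀ (a : Γ(X, V)) (t' : Γ(E, X.basicOpen a)), ap ψ (X.basicOpen a) t' = 0 := by
    intro V hV h0 a t'
    obtain ⟨m, s, hs⟩ := exists_pow_smul_extends (F := E) (a := a) hV.isCompact hV.isQuasiSeparated t'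
    have h6 : rX (X.basicOpen_le a) a ^ m • ap ψ (X.basicOpen a) t' = 0 := by
      rw [← ap_smul, ← hs, ap_rF, h0, map_zero]
    have hu : IsUnit (rX (X.basicOpen_le a) a) := RingedSpace.isUnit_res_basicOpen _ a
    exact (hu.pow m).smul_eq_zero.mp h6
  let B : Set X.Opens := {W | ∃ (V : X.Opens) (a : Γ(X, V)), IsAffineOpen V ∧
    (∀ s : Γ(E, V), ap ψ V s = 0) ∧ W = X.basicOpen a}
  have hB : Opens.IsBasis B := by
    rw [Opens.isBasis_iff_nbhd]
    intro O x hx
    obtain ⟨V, hV, hxV, hspan⟩ := hgen x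
    obtain ⟨a, ha1, ha2⟩ := hV.exists_basicOpen_le ⟨x, hx⟩ hxV
    exact ⟨X.basicOpen a, ⟨V, a, hV, h4 V hspan, rfl⟩, ha2, ha1⟩
  apply Groth.Agent.Lib.BasisHomH7.hom_ext_basis hB
  rintro W ⟨V, a, hV, h0, rfl⟩ x
  rw [h5 V hV h0 a x]
  rfl

/-! ## the separating family -/

/-- index type: a finite family of opens and a subobject of `⨁ j_! O_{U_i}` with quasi-coherent
quotient -/
def Idx (X : Scheme.{u}) : Type (u + 1) :=
  Σ (p : Σ n : ℕ, Fin n → X.Opens),
    {Q : Subobject (∐ fun i => (PX X).obj (p.2 i)) // (cokernel Q.arrow).IsQuasicoherent}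

instance small_Idx : Small.{u} (Idx X) := by
  have hG : IsGrothendieckAbelian.{u} X.Modules :=
    Groth.Agent.Lib.FunctorialInjective.isGrothendieckAbelian_sheafOfModules
      (Opens.grothendieckTopology X) X.ringCatSheaf
  haveI := hG
  unfold Idx
  infer_instance

/-- the separating family -/
noncomputable def G (idx : Idx X) : QCohCat.QCoh X := ⟨cokernel idx.2.1.arrow, idx.2.2⟩

theorem isSeparating [CompactSpace X] [QuasiSeparatedSpace X] :
    (ObjectProperty.ofObj (G (X := X))).IsSeparating := by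
  intro M N f g H
  apply ObjectProperty.hom_ext
  apply Groth.Agent.Lib.BasisHomH7.hom_ext_basis (X.isBasis_affineOpens)
  intro U hU s
  haveI : M.obj.IsQuasicoherent := M.property
  obtain ⟨E, i, hi, hE, hft, g₀, hg₀⟩ := SubExt.exists_ft_sub_section M.obj hU s
  haveI := hE
  haveI := hft
  obtain ⟨n, L, t, hgen⟩ := exists_gens E
  haveI hepi := epi_of_gens E L t hgen
  obtain ⟨π, hπ⟩ : ∃ π : (∐ fun i => (PX X).obj (L i)) ⟶ E, Epi π := ⟨_, hepi⟩
  haveI := hπ
  let Q := kernelSubobject π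
  have hlim : IsLimit (KernelFork.ofι Q.arrow (kernelSubobject_arrow_comp π)) :=
    kernel.isoKernel π Q.arrow (kernelSubobjectIso π) (kernelSubobject_arrow π)
  have hcolim := Abelian.epiIsCokernelOfKernel _ hlim
  let e : cokernel Q.arrow ≅ E :=
    IsColimit.coconePointUniqueUpToIso (cokernelIsCokernel Q.arrow) hcolim
  have hq : (cokernel Q.arrow).IsQuasicoherent := qc_of_iso e hE
  let idx : Idx X := ⟨⟨n, L⟩, ⟨Q, hq⟩⟩
  have hH := H (G idx) (ObjectProperty.ofObj_apply _ idx) (ObjectProperty.homMk (e.hom ≫ i))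
  have hH' : (e.hom ≫ i) ≫ f.hom = (e.hom ≫ i) ≫ g.hom := congrArg (fun k => k.hom) hH
  have hH'' : i ≫ f.hom = i ≫ g.hom := by
    rw [Category.assoc, Category.assoc] at hH'
    exact (cancel_epi e.hom).mp hH'
  rw [← hg₀]
  exact congrArg (fun k => ap k U g₀) hH''

theorem wellPowered_qcoh [CompactSpace X] [QuasiSeparatedSpace X] :
    WellPowered.{u} (QCohCat.QCoh X) :=
  wellPowered_of_isDetecting (isSeparating (X := X)).isDetecting

theorem main (X : Scheme.{u}) [CompactSpace X] [QuasiSeparatedSpace X]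
    {A : Type u'} [Category.{u} A] (F : QCohCat.QCoh X ⥤ A)
    [PreservesColimitsOfSize.{u, u} F] : F.IsLeftAdjoint := by
  haveI := wellPowered_qcoh (X := X)
  haveI : WellPowered.{u} (QCohCat.QCoh X)ᵒᵖ := Abelian.wellPowered_opposite
  exact isLeftAdjoint_of_preservesColimits_of_isSeparating (isSeparating (X := X)) F

end Groth.Agent.Lib.QCohGenL
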