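import Mathlib
import Groth.Prelude
import Groth.Agent.Lib.QCohGen1_lead
import Groth.Agent.Lib.GG1_helper8
import Groth.Agent.Lib.GlobGen_helper9
import Groth.Agent.Lib.BasisHom_helper7

/-!
# Finitely many global sections suffice (helper9)

A globally generated quasi-coherent module of finite type on a quasi-compact scheme is a quotient
of a free module of finite rank.
APPEND-ONLY once landed.
-/

set_option autoImplicit false
universe u
open CategoryTheory CategoryTheory.Limits AlgebraicGeometry Opposite TopologicalSpace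
open QcqsLoc QCohExtn

namespace GGFin

variable {X : Scheme.{u}}

/-- membership in the span of finitely many of the generating sections -/
theorem exists_finset_of_mem_spanAt (H : X.Modules) {ι : Type u} (g : ι → Γ(H, ⊤)) {W : X.Opens}
    {s : Γ(H, W)} (hs : s ∈ GGH8.spanAt H g W) :
    ∃ J : Finset ι, s ∈ Submodule.span Γ(X, W)
      ((fun a => rF H (le_top : W ≤ ⊤) (g a)) '' (J : Set ι)) := by
  classical
  unfold GGH8.spanAt at hs
  obtain ⟨T, hT, hsT⟩ := Submodule.mem_span_finite_of_mem_span hs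
  choose a ha using fun y : T => hT y.2
  refine ⟨T.attach.image a, ?_⟩
  refine Submodule.span_mono ?_ hsT
  intro y hy
  refine ⟨a ⟨y, hy⟩, ?_, ha ⟨y, hy⟩⟩
  rw [Finset.coe_image]
  exact ⟨⟨y, hy⟩, by simp, rfl⟩

/-- a morphism killing the generating sections `g a`, `a ∈ J`, kills the span of their
restrictions -/
theorem ap_eq_zero_of_mem_span {H Z : X.Modules} (ψ : H ⟶ Z) {ι : Type u} (g : ι → Γ(H, ⊤))
    (J : Set ι) (h0 : ∀ a ∈ J, ap ψ ⊤ (g a) = 0) {W : X.Opens} {s : Γ(H, W)}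
    (hs : s ∈ Submodule.span Γ(X, W) ((fun a => rF H (le_top : W ≤ ⊤) (g a)) '' J)) :
    ap ψ W s = 0 := by
  refine Submodule.span_induction (p := fun x _ => ap ψ W x = 0) ?_ ?_ ?_ ?_ hs
  · rintro _ ⟨a, ha, rfl⟩
    show ap ψ W (rF H le_top (g a)) = 0
    rw [ap_rF, h0 a ha, map_zero]
  · exact map_zero _
  · intro a b _ _ ha hb
    rw [map_add, ha, hb, add_zero]
  · intro r a _ ha
    rw [ap_smul, ha, smul_zero]

/-- **finite extraction**: on a quasi-compact scheme, finitely many of a family of global sections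
locally spanning a quasi-coherent module of finite type already "generate" it -/
theorem exists_finset_gens [CompactSpace X] (E : X.Modules) [E.IsQuasicoherent]
    [SheafOfModules.IsFiniteType (R := X.ringCatSheaf) E] {ι : Type u} (g : ι → Γ(E, ⊤))
    (hg : ∀ (W : X.Opens) (s : Γ(E, W)), GGH8.LocSpan E g W s) :
    ∃ J : Finset ι, ∀ (Z : X.Modules) (ψ : E ⟶ Z), (∀ a ∈ J, ap ψ ⊤ (g a) = 0) → ψ = 0 := by
  classical
  obtain ⟨n, L, t, hgen⟩ := Groth.Agent.Lib.QCohGenL.exists_gens E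
  -- local data at each point
  have hloc : ∀ x : X, ∃ (V W : X.Opens) (J : Finset ι), IsAffineOpen V ∧ x ∈ W ∧ W ≤ V ∧
      Submodule.span Γ(X, V)
        {s : Γ(E, V) | ∃ (i : Fin n) (h : V ≤ L i), s = rF E h (t i)} = ⊤ ∧
      ∀ (i : Fin n) (_ : V ≤ L i), ∃ (W₀ : X.Opens) (h₀ : W₀ ≤ L i), W ≤ W₀ ∧
        rF E h₀ (t i) ∈ Submodule.span Γ(X, W₀)
          ((fun a => rF E (le_top : W₀ ≤ ⊤) (g a)) '' (J : Set ι)) := by
    intro x
    obtain ⟨V, hV, hxV, hspan⟩ := hgen x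
    have h1 : ∀ i : Fin n, ∃ (W₀ : X.Opens) (J' : Finset ι), x ∈ W₀ ∧
        ∀ _ : V ≤ L i, ∃ h₀ : W₀ ≤ L i, rF E h₀ (t i) ∈ Submodule.span Γ(X, W₀)
          ((fun a => rF E (le_top : W₀ ≤ ⊤) (g a)) '' (J' : Set ι)) := by
      intro i
      by_cases h : V ≤ L i
      · obtain ⟨W₀, h₀, hxW₀, hmem⟩ := hg (L i) (t i) x (h hxV)
        obtain ⟨J', hJ'⟩ := exists_finset_of_mem_spanAt E g hmem
        exact ⟨W₀, J', hxW₀, fun _ => ⟨h₀, hJ'⟩⟩
      · exact ⟨⊤, ∅, trivial, fun h' => absurd h' h⟩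
    choose W₀ J' hx₀ hmem using h1
    refine ⟨V, V ⊓ ⨅ i, W₀ i, Finset.univ.biUnion J', hV, ⟨hxV, ?_⟩, inf_le_left, hspan, ?_⟩
    · show x ∈ ((⨅ i, W₀ i : X.Opens) : Set X)
      rw [Opens.coe_iInf]
      exact Set.mem_iInter.mpr (fun i => hx₀ i)
    · intro i h
      obtain ⟨h₀, hm⟩ := hmem i h
      refine ⟨W₀ i, h₀, inf_le_right.trans (iInf_le _ i), ?_⟩
      refine Submodule.span_mono (Set.image_mono ?_) hm
      intro a ha
      simp only [Finset.coe_biUnion, Finset.coe_univ, Set.mem_univ, Set.iUnion_true,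
        Set.mem_iUnion]
      exact ⟨i, ha⟩
  choose V W J hV hxW hWV hspan hmem using hloc
  -- a finite subcover
  obtain ⟨S, hS⟩ := isCompact_univ.elim_finite_subcover (fun x : X => ((W x : X.Opens) : Set X))
    (fun x => (W x).isOpen) (fun x _ => Set.mem_iUnion.mpr ⟨x, hxW x⟩)
  refine ⟨S.biUnion J, ?_⟩
  intro Z ψ h0
  -- `ψ` kills the restrictions of the `t i` to small opens
  have hkill : ∀ x ∈ S, ∀ (i : Fin n) (h : V x ≤ L i) (O : X.Opens) (hO : O ≤ W x),
      ap ψ O (rF E ((hO.trans (hWV x)).trans h) (t i)) = 0 := by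
    intro x hxS i h O hO
    obtain ⟨W₀, h₀, hWW₀, hm⟩ := hmem x i h
    have h1 : ap ψ W₀ (rF E h₀ (t i)) = 0 := by
      refine ap_eq_zero_of_mem_span ψ g (J x : Set ι) (fun a ha => h0 a ?_) hm
      exact Finset.mem_biUnion.mpr ⟨x, hxS, ha⟩
    have h2 : rF E ((hO.trans (hWV x)).trans h) (t i) = rF E (hO.trans hWW₀) (rF E h₀ (t i)) :=
      (rF_rF E _ _ _).symm
    rw [h2, ap_rF, h1, map_zero]
  let B : Set X.Opens := {O | ∃ x ∈ S, ∃ a' : Γ(X, V x), O = X.basicOpen a' ∧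
    X.basicOpen a' ≤ W x}
  have hB : Opens.IsBasis B := by
    rw [Opens.isBasis_iff_nbhd]
    intro O y hy
    obtain ⟨x, hx⟩ := Set.mem_iUnion.mp (hS (Set.mem_univ y))
    obtain ⟨hxS, hyW⟩ := Set.mem_iUnion.mp hx
    obtain ⟨a', ha1, ha2⟩ := (hV x).exists_basicOpen_le
      (⟨y, ⟨hy, hyW⟩⟩ : (O ⊓ W x : X.Opens)) (hWV x hyW)
    exact ⟨X.basicOpen a', ⟨x, hxS, a', rfl, ha1.trans inf_le_right⟩, ha2, ha1.trans inf_le_left⟩
  apply Groth.Agent.Lib.BasisHomH7.hom_ext_basis hB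
  rintro O ⟨x, hxS, a', rfl, hOW⟩ s'
  obtain ⟨m, s, hs⟩ := exists_pow_smul_extends (F := E) (a := a') (hV x).isCompact
    (hV x).isQuasiSeparated s'
  have h3 : ∀ s : Γ(E, V x), ap ψ (X.basicOpen a') (rF E (X.basicOpen_le a') s) = 0 := by
    intro s
    have hs' : s ∈ Submodule.span Γ(X, V x)
        {s : Γ(E, V x) | ∃ (i : Fin n) (h : V x ≤ L i), s = rF E h (t i)} := by
      rw [hspan x]; exact Submodule.mem_top
    refine Submodule.span_induction
      (p := fun y _ => ap ψ (X.basicOpen a') (rF E (X.basicOpen_le a') y) = 0) ?_ ?_ ?_ ?_ hs'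
    · rintro _ ⟨i, h, rfl⟩
      rw [rF_rF]
      exact hkill x hxS i h (X.basicOpen a') hOW
    · rw [map_zero, map_zero]
    · intro a b _ _ ha hb
      rw [map_add, map_add, ha, hb, add_zero]
    · intro r a _ ha
      rw [rF_smul, ap_smul, ha, smul_zero]
  have h4 : rX (X.basicOpen_le a') a' ^ m • ap ψ (X.basicOpen a') s' = 0 := by
    rw [← ap_smul, ← hs, h3]
  have hu : IsUnit (rX (X.basicOpen_le a') a') := RingedSpace.isUnit_res_basicOpen _ a'
  have h5 : ap ψ (X.basicOpen a') s' = 0 := (hu.pow m).smul_eq_zero.mp h4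
  rw [h5]
  rfl

/-- the morphism `O_X ⟶ E` defined by a global section -/
noncomputable def secHom (E : X.Modules) (g : Γ(E, ⊤)) : Coh.structureModule X ⟶ E :=
  (SheafOfModules.unitHomEquiv E).symm (GlobGen.globalSection E g)

theorem ap_eq_zero_of_secHom_comp {E Z : X.Modules} (g : Γ(E, ⊤)) (ψ : E ⟶ Z)
    (h : secHom E g ≫ ψ = 0) : ap ψ ⊤ g = 0 := by
  have h2 := SheafOfModules.unitHomEquiv_symm_comp (GlobGen.globalSection E g) ψ
  unfold secHom at h
  have h2' := h.symm.trans h2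
  have h3 : SheafOfModules.sectionsMap ψ (GlobGen.globalSection E g) =
      SheafOfModules.unitHomEquiv Z 0 := by
    exact ((Equiv.symm_apply_eq _).mp h2'.symm)
  have h4 := congrArg (fun σ => σ.val (op ⊤)) h3
  have h5 : (SheafOfModules.unitHomEquiv Z 0).val (op ⊤) = 0 := by
    rw [SheafOfModules.unitHomEquiv_apply_coe]
    rfl
  have h6 : (SheafOfModules.sectionsMap ψ (GlobGen.globalSection E g)).val (op ⊤) =
      ap ψ ⊤ g := by
    show ap ψ ⊤ (E.presheaf.map (homOfLE (le_top : (⊤ : X.Opens) ≤ ⊤)).op g) = ap ψ ⊤ g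
    have h : (homOfLE (le_refl (⊤ : X.Opens))).op = 𝟙 (op ⊤) := rfl
    have h7 : (E.presheaf.map (homOfLE (le_top : (⊤ : X.Opens) ≤ ⊤)).op).hom g = g := by
      show (E.presheaf.map (homOfLE (le_refl (⊤ : X.Opens))).op).hom g = g
      rw [h, E.presheaf.map_id]
      rfl
    exact congrArg (ap ψ ⊤) h7
  rw [← h6]
  exact h4.trans h5

/-- a globally generated quasi-coherent module of finite type on a quasi-compact scheme is a
quotient of a free module of finite rank -/
theorem exists_fin_epi [CompactSpace X] (E : X.Modules) [E.IsQuasicoherent]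
    [SheafOfModules.IsFiniteType (R := X.ringCatSheaf) E] (h : Curv2.IsGloballyGenerated E) :
    ∃ (N : ℕ) (φ : FlatMod.freeMod X N ⟶ E), Epi φ := by
  obtain ⟨ι, g, hg⟩ := GGH8.exists_locSpan h
  obtain ⟨J, hJ⟩ := exists_finset_gens E g hg
  let e := J.equivFin
  refine ⟨J.card, Sigma.desc (fun l => secHom E (g (e.symm l))), ?_⟩
  apply Preadditive.epi_of_cancel_zero
  intro Z ψ hψ
  apply hJ Z ψ
  intro a ha
  apply ap_eq_zero_of_secHom_comp
  have h1 := Sigma.ι_desc (fun l => secHom E (g (e.symm l))) (e ⟨a, ha⟩)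
  rw [Equiv.symm_apply_apply] at h1
  rw [← h1, Category.assoc, hψ, comp_zero]

end GGFin
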