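import Mathlib
import Groth.Prelude
import Groth.Agent.Lib.BddBC1_helper9
import Groth.Agent.Lib.GGFin1_helper9
import Groth.Agent.Lib.MumReg6_helper9
import Groth.Agent.Lib.Tens29_helper8
import Groth.Agent.Lib.Tens18_helper8
import Groth.Agent.Lib.Snap20_helper9
import Groth.Agent.Lib.Snap74_helper9
import Groth.Agent.Lib.FibAmp5_helper2
import Groth.Agent.Lib.DegPull5_helper9

/-!
# Members of a bounded family are quotients of a fixed `⊕ O_X(-m)` (helper9)

**S12069**.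
APPEND-ONLY once landed.
-/

set_option autoImplicit false
universe u
open AlgebraicGeometry CategoryTheory CategoryTheory.Limits TopologicalSpace

namespace BddQuot

open Groth.Agent.TensInv BddBC

section Affine

variable (k : Type u) [Field k] (n : ℕ) (X : Scheme.{u}) [X.Over (Spec (CommRingCat.of k))]
  (i : X ⟶ CohB1.ProjSpace n k) [IsClosedImmersion i]
  (hi : i ≫ CohB1.ProjSpace.toSpec n k = X ↘ Spec (CommRingCat.of k))
  {T : Scheme.{u}} [IsAffine T] (q : T ⟶ Spec (CommRingCat.of k)) [LocallyOfFiniteType q]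

include hi in
/-- over an affine base of finite type: uniformly in the rational point `t`, the twists `F_t(m)`,
`m ≥ m₀`, of the fibres of a coherent family are quotients of a free module of fixed rank -/
theorem exists_epi_affine (𝓕 : (Pic13.prodK k X q).Modules) (h𝓕 : Coh.IsCoh 𝓕) :
    ∃ m₀ : ℕ, ∀ m : ℕ, m₀ ≤ m → ∃ N : ℕ,
      ∀ (t : Spec (CommRingCat.of k) ⟶ T) (ht : t ≫ q = 𝟙 _),
        ∃ φ : FlatMod.freeMod X N ⟶
          Pic13.twistOn k i (Pic13.fibreMod k X q t ht 𝓕) (m : ℤ), Epi φ := by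
  haveI : IsProper (X ↘ Spec (CommRingCat.of k)) := Snap9.isProper_of_closed_projSpace k n X i hi
  haveI : IsLocallyNoetherian X :=
    LocallyOfFiniteType.isLocallyNoetherian (X ↘ Spec (CommRingCat.of k))
  haveI : CompactSpace X :=
    QuasiCompact.compactSpace_of_compactSpace (X ↘ Spec (CommRingCat.of k))
  set pr : Pic13.prodK k X q ⟶ X := pullback.fst (X ↘ Spec (CommRingCat.of k)) q with hpr
  set f : Pic13.prodK k X q ⟶ T := pullback.snd (X ↘ Spec (CommRingCat.of k)) q with hf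
  haveI : IsAffineHom pr := MorphismProperty.pullback_fst (P := @IsAffineHom) _ _ inferInstance
  haveI : CompactSpace (Pic13.prodK k X q) := QuasiCompact.compactSpace_of_compactSpace pr
  haveI : IsLocallyNoetherian T := LocallyOfFiniteType.isLocallyNoetherian q
  haveI : IsLocallyNoetherian (Pic13.prodK k X q) := LocallyOfFiniteType.isLocallyNoetherian f
  -- the ample modules
  have hL : CohB1.IsAmple ((Scheme.Modules.pullback i).obj (Twist.twistProjSpace n k 1)) :=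
    TensH8.isAmple_pullback_of_isAffineHom i (Snap9.isAmple_twist_one_projSpace k n)
  have hLY := TensH8.isAmple_pullback_of_isAffineHom pr hL
  obtain ⟨m₀, hm₀⟩ := TensH8.exists_isGloballyGenerated_twist hLY 𝓕 h𝓕
  refine ⟨m₀, fun m hm => ?_⟩
  have hinv := TensH8.isInvertible_tensorPow hLY.1 m
  have hG : Coh.IsCoh (CohB1.tensorMod 𝓕 (CohB1.tensorPow
      ((Scheme.Modules.pullback pr).obj
        ((Scheme.Modules.pullback i).obj (Twist.twistProjSpace n k 1))) m)) :=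
    Snap9.isCoh_tensorMod h𝓕 hinv
  haveI := hG.1
  haveI := hG.2
  obtain ⟨N, φY, hφY⟩ := GGFin.exists_fin_epi _ (hm₀ m hm)
  refine ⟨N, fun t ht => ?_⟩
  set σ := Pic13.sliceAt k X q t ht with hσ
  haveI : Epi ((Scheme.Modules.pullback σ).map φY) := inferInstance
  obtain ⟨e₂⟩ := Groth.Agent.Lib.FibAmpH2.nonempty_pullback_tensor_iso σ 𝓕 hinv
  obtain ⟨e₃⟩ := DegPull.nonempty_pullback_tensorPow_iso σ hLY.1 m
  let e₄ : (Scheme.Modules.pullback σ).obj ((Scheme.Modules.pullback pr).obj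
      ((Scheme.Modules.pullback i).obj (Twist.twistProjSpace n k 1))) ≅
      (Scheme.Modules.pullback i).obj (Twist.twistProjSpace n k 1) :=
    (Scheme.Modules.pullbackComp σ pr).app _ ≪≫
      (Scheme.Modules.pullbackCongr (sliceAt_fst k X q t ht)).app _ ≪≫
      (Scheme.Modules.pullbackId X).app _
  obtain ⟨e₅⟩ := TensPowH9.tensorPow_congr e₄ m
  obtain ⟨e₆⟩ := Groth.Agent.MumReg.nonempty_twistIso k n i
    (L := (Scheme.Modules.pullback i).obj (Twist.twistProjSpace n k 1)) ⟨Iso.refl _⟩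
    (Pic13.fibreMod k X q t ht 𝓕) m
  refine ⟨(Groth.Agent.MumReg.pullFreeGen σ N).inv ≫ (Scheme.Modules.pullback σ).map φY ≫
    e₂.hom ≫ (mapL ((Scheme.Modules.pullback σ).obj 𝓕) (e₃ ≪≫ e₅)).hom ≫ e₆.hom, ?_⟩
  haveI : Epi ((Scheme.Modules.pullback σ).map φY ≫
    e₂.hom ≫ (mapL ((Scheme.Modules.pullback σ).obj 𝓕) (e₃ ≪≫ e₅)).hom ≫ e₆.hom) := by
    apply epi_comp
  apply epi_comp

end Affine

section Pad

variable (X : Scheme.{u})

/-- a free module of larger rank surjects onto one of smaller rank -/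
theorem exists_epi_freeMod_of_le {a b : ℕ} (h : a ≤ b) :
    ∃ π : FlatMod.freeMod X b ⟶ FlatMod.freeMod X a, Epi π := by
  let π : FlatMod.freeMod X b ⟶ FlatMod.freeMod X a :=
    Sigma.desc (fun l : Fin b => if h' : l.1 < a then
      Sigma.ι (fun _ : Fin a => Coh.structureModule X) ⟨l.1, h'⟩ else 0)
  let ι' : FlatMod.freeMod X a ⟶ FlatMod.freeMod X b :=
    Sigma.desc (fun l : Fin a => Sigma.ι (fun _ : Fin b => Coh.structureModule X) (Fin.castLE h l))
  have hι : ι' ≫ π = 𝟙 _ := by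
    apply Sigma.hom_ext
    intro l
    simp only [ι', π, Sigma.ι_desc_assoc, Sigma.ι_desc, Category.comp_id]
    have h' : (Fin.castLE h l).1 < a := l.2
    rw [dif_pos h']
    rfl
  haveI : IsSplitEpi π := IsSplitEpi.mk' ⟨ι', hι⟩
  exact ⟨π, inferInstance⟩

end Pad

section Main

open Groth.Agent.ProjTens

variable (k : Type u) [Field k] (n : ℕ) (X : Scheme.{u})
  (i : X ⟶ CohB1.ProjSpace n k)

/-- `i^* O(a) ⊗ i^* O(b) ≅ O_X` for `a + b = 0` -/
theorem nonempty_pullTwist_inv (a b : ℤ) (h : a + b = 0) :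
    Nonempty (CohB1.tensorMod ((Scheme.Modules.pullback i).obj (Twist.twistProjSpace n k a))
      ((Scheme.Modules.pullback i).obj (Twist.twistProjSpace n k b)) ≅ Coh.structureModule X) := by
  obtain ⟨e⟩ := twist_inv n k a b h
  exact ⟨(PullTensH9.pullTensIso i (Groth.Agent.Horrocks.isInvertible_OO n k a)
    (Groth.Agent.Horrocks.isInvertible_OO n k b)).symm ≪≫
    (Scheme.Modules.pullback i).mapIso e ≪≫ PBH8.pullbackUnitIso i⟩

/-- untwisting: an epimorphism `O^N ⟶ F(m)` gives an epimorphism `⊕ O_X(-m) ⟶ F` -/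
theorem exists_epi_untwist (m : ℤ) (N : ℕ) (F : X.Modules)
    (ψ : FlatMod.freeMod X N ⟶ Pic13.twistOn k i F m) [Epi ψ] :
    ∃ p : (∐ fun _ : Fin N => Pic13.twistOn k i (Coh.structureModule X) (-m)) ⟶ F, Epi p := by
  have hinv := nonempty_pullTwist_inv k n X i m (-m) (by omega)
  have hinv' := nonempty_pullTwist_inv k n X i (-m) m (by omega)
  haveI := isEquivalence_tR hinv'
  obtain ⟨e⟩ := hinv
  let M := (Scheme.Modules.pullback i).obj (Twist.twistProjSpace n k (-m))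
  let a : (∐ fun _ : Fin N => Pic13.twistOn k i (Coh.structureModule X) (-m)) ≅
      (tR M).obj (FlatMod.freeMod X N) :=
    (PreservesCoproduct.iso (tR M) (fun _ : Fin N => Coh.structureModule X)).symm
  let b : (tR M).obj (Pic13.twistOn k i F m) ≅ F :=
    assoc F _ _ ≪≫ mapL F e ≪≫ rightUnit F
  haveI : Epi ((tR M).map ψ) := inferInstance
  refine ⟨a.hom ≫ (tR M).map ψ ≫ b.hom, ?_⟩
  haveI : Epi ((tR M).map ψ ≫ b.hom) := epi_comp _ _
  exact epi_comp _ _

end Main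

section Bounded

variable (k : Type u) [Field k] (n : ℕ) (X : Scheme.{u}) [X.Over (Spec (CommRingCat.of k))]
  (i : X ⟶ CohB1.ProjSpace n k) [IsClosedImmersion i]
  (hi : i ≫ CohB1.ProjSpace.toSpec n k = X ↘ Spec (CommRingCat.of k))

include hi in
/-- uniformly in the members of a bounded family: `F(m)` is a quotient of `O^N` -/
theorem exists_epi_of_isBounded (P : X.Modules → Prop) (hb : Pic13.IsBounded k X P) :
    ∃ (m N : ℕ), ∀ F, P F → ∃ ψ : FlatMod.freeMod X N ⟶ Pic13.twistOn k i F (m : ℤ), Epi ψ := by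
  classical
  obtain ⟨T, q, hft, hqc, 𝓕, h𝓕, hfam⟩ := hb
  haveI := hft
  haveI := hqc
  haveI : CompactSpace T := QuasiCompact.compactSpace_of_compactSpace q
  have hc : IsCompact ((⊤ : T.Opens) : Set T) := by
    rw [Opens.coe_top]; exact isCompact_univ
  obtain ⟨S, hS, hcov⟩ := isCompact_iff_finite_and_eq_biUnion_affineOpens.mp hc
  haveI : Finite S := hS.to_subtype
  haveI : Fintype S := Fintype.ofFinite S
  -- the data over each affine open
  have hU : ∀ U : S, ∃ m₀ : ℕ, ∀ m : ℕ, m₀ ≤ m → ∃ N : ℕ,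
      ∀ (t : Spec (CommRingCat.of k) ⟶ (U.1.1 : Scheme.{u})) (ht : t ≫ (U.1.1.ι ≫ q) = 𝟙 _),
        ∃ φ : FlatMod.freeMod X N ⟶
          Pic13.twistOn k i (Pic13.fibreMod k X (U.1.1.ι ≫ q) t ht
            ((Scheme.Modules.pullback (bcMap k X q (U.1.1.ι ≫ q) U.1.1.ι rfl)).obj 𝓕)) (m : ℤ),
          Epi φ := by
    intro U
    haveI : IsAffine (U.1.1 : Scheme.{u}) := U.1.2
    exact exists_epi_affine k n X i hi (U.1.1.ι ≫ q) _
      (Groth.Agent.Lib.ConsModH2.isCoh_pullback _ 𝓕 h𝓕)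
  choose m₀ hm₀ using hU
  let m := Finset.univ.sup m₀
  have hm : ∀ U : S, m₀ U ≤ m := fun U => Finset.le_sup (Finset.mem_univ U)
  choose N hN using fun U : S => hm₀ U m (hm U)
  let Nmax := Finset.univ.sup N
  have hNmax : ∀ U : S, N U ≤ Nmax := fun U => Finset.le_sup (Finset.mem_univ U)
  refine ⟨m, Nmax, ?_⟩
  intro F hPF
  obtain ⟨t, ht, ⟨e⟩⟩ := hfam F hPF
  -- the affine open containing the image point
  have hx : t.base (IsLocalRing.closedPoint k) ∈ (⊤ : T.Opens) := trivial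
  rw [hcov] at hx
  obtain ⟨W, hxW'⟩ := Opens.mem_iSup.mp hx
  obtain ⟨hW, hxW⟩ := Opens.mem_iSup.mp hxW'
  let U : S := ⟨W, hW⟩
  have hrange : Set.range t.base ⊆ Set.range U.1.1.ι.base := by
    rintro _ ⟨y, rfl⟩
    have hy : y = IsLocalRing.closedPoint k := Subsingleton.elim _ _
    rw [Scheme.Opens.range_ι, hy]
    exact hxW
  let t' : Spec (CommRingCat.of k) ⟶ (U.1.1 : Scheme.{u}) := IsOpenImmersion.lift U.1.1.ι t hrange
  have ht'fac : t' ≫ U.1.1.ι = t := IsOpenImmersion.lift_fac _ _ _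
  have ht' : t' ≫ (U.1.1.ι ≫ q) = 𝟙 _ := by rw [← Category.assoc, ht'fac, ht]
  obtain ⟨φ, hφ⟩ := hN U t' ht'
  obtain ⟨e₁⟩ := nonempty_fibreMod_bc k X q (U.1.1.ι ≫ q) U.1.1.ι rfl 𝓕 t' ht'
  obtain ⟨e₂⟩ := nonempty_fibreMod_congr k X q 𝓕 ht'fac
    (by rw [Category.assoc]; exact ht') ht
  obtain ⟨π, hπ⟩ := exists_epi_freeMod_of_le X (hNmax U)
  refine ⟨π ≫ φ ≫ (mapR (e₁ ≪≫ e₂ ≪≫ e)
    ((Scheme.Modules.pullback i).obj (Twist.twistProjSpace n k (m : ℤ)))).hom, ?_⟩
  haveI : Epi (φ ≫ (mapR (e₁ ≪≫ e₂ ≪≫ e)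
    ((Scheme.Modules.pullback i).obj (Twist.twistProjSpace n k (m : ℤ)))).hom) := epi_comp _ _
  exact epi_comp _ _

include hi in
/-- **S12069** -/
theorem main12069 (P : X.Modules → Prop) (hb : Pic13.IsBounded k X P) :
    ∃ (m : ℤ) (N : ℕ) (E : X.Modules)
      (c : Fin N → (Pic13.twistOn k i (Coh.structureModule X) (-m) ⟶ E)),
      Nonempty (IsColimit (Cofan.mk E c)) ∧ ∀ F, P F → ∃ p : E ⟶ F, Epi p := by
  obtain ⟨m, N, H⟩ := exists_epi_of_isBounded k n X i hi P hb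
  refine ⟨(m : ℤ), N, ∐ fun _ : Fin N => Pic13.twistOn k i (Coh.structureModule X) (-(m : ℤ)),
    Sigma.ι _, ⟨coproductIsCoproduct _⟩, ?_⟩
  intro F hPF
  obtain ⟨ψ, hψ⟩ := H F hPF
  exact exists_epi_untwist k n X i (m : ℤ) N F ψ

end Bounded

end BddQuot
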