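import Mathlib
import Groth.Prelude
import Groth.Agent.Lib.BddHilb1_helper9
import Groth.Agent.Lib.BddQuot1_helper9
import Groth.Agent.Lib.BddFam4_helper9

/-!
# Bounded families: uniform regularity and finitely many Hilbert polynomials (helper9)

**S4286**.
APPEND-ONLY once landed.
-/

set_option autoImplicit false
universe u
open AlgebraicGeometry CategoryTheory CategoryTheory.Limits TopologicalSpace Polynomial

namespace BddHilb

open Groth.Agent.MumReg Groth.Agent.ProjTens Groth.Agent.TensInv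

section Pn

variable {k : Type u} [Field k] {n : ℕ}

/-- a quotient of a free module by an `m`-regular kernel is `j`-regular for `j ≥ n, m - 1` -/
theorem regular_of_kernel_regular {N : ℕ} {G : (CohB1.ProjSpace n k).Modules} (hG : Coh.IsCoh G)
    (φ : FlatMod.freeMod (CohB1.ProjSpace n k) N ⟶ G) [Epi φ] {m : ℤ}
    (hreg : Curv2.IsMRegular k n (kernel φ) m) (j : ℤ) (hjn : (n : ℤ) ≤ j) (hjm : m - 1 ≤ j) :
    Curv2.IsMRegular k n G j := by
  haveI := Groth.Agent.Lib.ProjSpaceProperH4.isProper_toSpec n k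
  haveI : IsLocallyNoetherian (CohB1.ProjSpace n k) :=
    LocallyOfFiniteType.isLocallyNoetherian (CohB1.ProjSpace.toSpec n k)
  have hFr := DegPull.isCoh_freeMod (X := CohB1.ProjSpace n k) N
  have hK : Coh.IsCoh (kernel φ) := CohKerH8.isCoh_kernel hFr hG φ
  let S : ShortComplex (CohB1.ProjSpace n k).Modules :=
    ShortComplex.mk (kernel.ι φ) φ (kernel.condition φ)
  have hS : S.ShortExact :=
    { exact := ShortComplex.exact_kernel φ, mono_f := inferInstanceAs (Mono (kernel.ι φ)),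
      epi_g := inferInstanceAs (Epi φ) }
  intro q hq hqn
  have hS' := shortExact_twist n k S hS (j - q)
  refine Groth.Agent.HHVan.subsingleton_right _ hS' q ?_ ?_
  · exact van_freeMod k n N q hq (j - q) (by omega)
  · have h1 := BddFam.regular_all hK (isMRegular_of_le hK hreg (by omega : m ≤ j + 1)) (q + 1)
      (by omega)
    have e : j + 1 - ((q + 1 : ℕ) : ℤ) = j - q := by push_cast; ring
    rw [e] at h1
    exact h1

end Pn

section Closed

variable (k : Type u) [Field k] (n : ℕ) (X : Scheme.{u}) [X.Over (Spec (CommRingCat.of k))]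
  (i : X ⟶ CohB1.ProjSpace n k) [IsClosedImmersion i]
  (hi : i ≫ CohB1.ProjSpace.toSpec n k = X ↘ Spec (CommRingCat.of k))

omit [X.Over (Spec (CommRingCat.of k))] [IsClosedImmersion i] in
/-- `F(a)(b) ≅ F(a + b)` on `X` -/
theorem nonempty_twistOn_twistOn (F : X.Modules) (a b c : ℤ) (h : a + b = c) :
    Nonempty (Pic13.twistOn k i (Pic13.twistOn k i F a) b ≅ Pic13.twistOn k i F c) := by
  obtain ⟨e⟩ := twist_add' n k a b c h
  exact ⟨assoc F _ _ ≪≫ mapL F ((PullTensH9.pullTensIso i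
    (Groth.Agent.Horrocks.isInvertible_OO n k a)
    (Groth.Agent.Horrocks.isInvertible_OO n k b)).symm ≪≫ (Scheme.Modules.pullback i).mapIso e)⟩

include hi in
/-- every coherent module on `X` has a Hilbert polynomial -/
theorem exists_hilb_closed (F : X.Modules) (hF : Coh.IsCoh F) :
    ∃ φ : ℚ[X], ∀ d : ℤ, (Curv2.euler k X (Pic13.twistOn k i F d) : ℚ) = φ.eval (d : ℚ) := by
  haveI := hF.1
  obtain ⟨φ, hφ⟩ := BddFam.exists_hilb k n ((Scheme.Modules.pushforward i).obj F)
    (CMClosed.isCoh_push k n i hF)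
  exact ⟨φ, fun d => by rw [← euler_push k n i hi F d]; exact hφ d⟩

include hi in
/-- **S4286** -/
theorem main4286 (P : X.Modules → Prop) (hP : ∀ F, P F → Coh.IsCoh F)
    (hb : Pic13.IsBounded k X P) :
    (∃ m : ℤ, ∀ F, P F → Pic13.IsMRegular k i F m) ∧
      ∃ s : Finset (Polynomial ℚ), ∀ F, P F → ∃ φ ∈ s, ∀ d : ℤ,
        (FGA.eulerCharLE k X (Pic13.twistOn k i F d) n : ℚ) = φ.eval (d : ℚ) := by
  classical
  haveI : IsProper (X ↘ Spec (CommRingCat.of k)) := Snap9.isProper_of_closed_projSpace k n X i hi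
  haveI : IsLocallyNoetherian X :=
    LocallyOfFiniteType.isLocallyNoetherian (X ↘ Spec (CommRingCat.of k))
  have hdim := Snap9.dim_le_of_closed_projSpace k n X i
  haveI := Groth.Agent.Lib.ProjSpaceProperH4.isProper_toSpec n k
  haveI : IsLocallyNoetherian (CohB1.ProjSpace n k) :=
    LocallyOfFiniteType.isLocallyNoetherian (CohB1.ProjSpace.toSpec n k)
  obtain ⟨m₁, N, Hq⟩ := BddQuot.exists_epi_of_isBounded k n X i hi P hb
  obtain ⟨T, q, hft, hqc, 𝓕, h𝓕, hfam⟩ := hb
  haveI := hft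
  haveI := hqc
  -- the finite set of Hilbert functions
  have Hfin := finite_hilbFun k X q
    (fun d : ℤ => (Scheme.Modules.pullback i).obj (Twist.twistProjSpace n k d))
    (fun d => Snap9.isInvertible_pullback_twist k n X i d) 𝓕 h𝓕
  have hmem : ∀ F, P F → (fun d : ℤ => Curv2.euler k X (Pic13.twistOn k i F d)) ∈
      Set.range (fun p : {t : Spec (CommRingCat.of k) ⟶ T // t ≫ q = 𝟙 _} => fun d : ℤ =>
        Curv2.euler k X (CohB1.tensorMod (Pic13.fibreMod k X q p.1 p.2 𝓕)
          ((Scheme.Modules.pullback i).obj (Twist.twistProjSpace n k d)))) := by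
    intro F hPF
    obtain ⟨t, ht, ⟨e⟩⟩ := hfam F hPF
    refine ⟨⟨t, ht⟩, ?_⟩
    funext d
    exact CurveTens.euler_of_iso k X (mapR e _)
  -- the polynomials attached to the functions
  let pol : (ℤ → ℤ) → ℚ[X] := fun h =>
    if hh : ∃ P : ℚ[X], ∀ r : ℤ, (h r : ℚ) = P.eval (r : ℚ) then hh.choose else 0
  have hpol : ∀ (h : ℤ → ℤ) (P : ℚ[X]), (∀ r : ℤ, (h r : ℚ) = P.eval (r : ℚ)) →
      ∀ r : ℤ, (h r : ℚ) = (pol h).eval (r : ℚ) := by
    intro h P hP
    have hh : ∃ P : ℚ[X], ∀ r : ℤ, (h r : ℚ) = P.eval (r : ℚ) := ⟨P, hP⟩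
    have : pol h = hh.choose := dif_pos hh
    rw [this]
    exact hh.choose_spec
  have hpolF : ∀ F, P F → ∀ r : ℤ, (Curv2.euler k X (Pic13.twistOn k i F r) : ℚ) =
      (pol (fun d : ℤ => Curv2.euler k X (Pic13.twistOn k i F d))).eval (r : ℚ) := by
    intro F hPF
    obtain ⟨φ, hφ⟩ := exists_hilb_closed k n X i hi F (hP F hPF)
    exact hpol _ φ hφ
  constructor
  · -- uniform regularity
    choose mm hmm using fun h : (ℤ → ℤ) =>
      main1643.{u} n N ((pol h).comp (Polynomial.X + C ((m₁ : ℤ) : ℚ)))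
    let J : ℕ := Hfin.toFinset.sup (fun h => (max (n : ℤ) (mm h - 1)).toNat)
    refine ⟨(m₁ : ℤ) + J, ?_⟩
    intro F hPF
    have hF := hP F hPF
    haveI := hF.1
    obtain ⟨ψ, hψ⟩ := Hq F hPF
    set hFun : ℤ → ℤ := fun d : ℤ => Curv2.euler k X (Pic13.twistOn k i F d) with hhFun
    have hG : Coh.IsCoh (Pic13.twistOn k i F (m₁ : ℤ)) :=
      Snap9.isCoh_tensorMod hF (Snap9.isInvertible_pullback_twist k n X i _)
    haveI := hG.1
    have hGP := CMClosed.isCoh_push k n i hG
    -- the epimorphism on projective space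
    haveI : (FlatMod.freeMod (CohB1.ProjSpace n k) N).IsQuasicoherent :=
      (DegPull.isCoh_freeMod (X := CohB1.ProjSpace n k) N).1
    haveI := Snap9.epi_unit i (FlatMod.freeMod (CohB1.ProjSpace n k) N)
    haveI : Epi ((pullFreeGen i N).hom ≫ ψ) := epi_comp _ _
    haveI : Epi ((Scheme.Modules.pushforward i).map ((pullFreeGen i N).hom ≫ ψ)) :=
      inferInstance
    let φP : FlatMod.freeMod (CohB1.ProjSpace n k) N ⟶
        (Scheme.Modules.pushforward i).obj (Pic13.twistOn k i F (m₁ : ℤ)) :=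
      (Scheme.Modules.pullbackPushforwardAdjunction i).unit.app
          (FlatMod.freeMod (CohB1.ProjSpace n k) N) ≫
        (Scheme.Modules.pushforward i).map ((pullFreeGen i N).hom ≫ ψ)
    haveI : Epi φP := epi_comp _ _
    have hHilb : Hilb k n ((Scheme.Modules.pushforward i).obj (Pic13.twistOn k i F (m₁ : ℤ)))
        ((pol hFun).comp (Polynomial.X + C ((m₁ : ℤ) : ℚ))) := by
      intro t
      obtain ⟨e⟩ := nonempty_twistOn_twistOn k n X i F (m₁ : ℤ) t ((m₁ : ℤ) + t) rfl
      rw [euler_push k n i hi _ t, CurveTens.euler_of_iso k X e, hpolF F hPF]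
      simp [add_comm]
      rfl
    have hKreg := hmm hFun k _ φP hGP inferInstance hHilb
    have hmemF : hFun ∈ Hfin.toFinset := Hfin.mem_toFinset.mpr (hmem F hPF)
    have hJ : (max (n : ℤ) (mm hFun - 1)).toNat ≤ J :=
      Finset.le_sup (f := fun h => (max (n : ℤ) (mm h - 1)).toNat) hmemF
    have hJn : (n : ℤ) ≤ (J : ℤ) := by
      have := le_max_left (n : ℤ) (mm hFun - 1)
      omega
    have hJm : mm hFun - 1 ≤ (J : ℤ) := by
      have := le_max_right (n : ℤ) (mm hFun - 1)
      omega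
    have hGreg := regular_of_kernel_regular hGP φP hKreg (J : ℤ) hJn hJm
    have hGX := CMClosed.isMRegular_of_push k n i hG (J : ℤ) hGreg
    intro p hp
    obtain ⟨e⟩ := nonempty_twistOn_twistOn k n X i F (m₁ : ℤ) ((J : ℤ) - p)
      ((m₁ : ℤ) + J - p) (by ring)
    exact Groth.Agent.HHVan.subsingleton_of_iso e p (hGX p hp)
  · -- finitely many Hilbert polynomials
    refine ⟨Hfin.toFinset.image pol, ?_⟩
    intro F hPF
    refine ⟨pol (fun d : ℤ => Curv2.euler k X (Pic13.twistOn k i F d)),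
      Finset.mem_image_of_mem pol (Hfin.mem_toFinset.mpr (hmem F hPF)), ?_⟩
    intro d
    rw [← Snap9.euler_eq_eulerCharLE k X n hdim]
    exact hpolF F hPF d

end Closed

end BddHilb
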