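import Groth.Agent.Lib.BddFib4_helper6
import Groth.Agent.Lib.BddFib2_helper6

set_option autoImplicit false
universe u
open CategoryTheory CategoryTheory.Limits AlgebraicGeometry TensorProduct

namespace BddH8

open BddFib Groth.Agent.Lib.BddFib_helper6

/-- base change to a field of an algebra spanned by `n` elements has rank `≤ n`. -/
theorem rkLE_tensor_of_span (A S L : Type u) [CommRing A] [CommRing S] [Field L] [Algebra A S]
    [Algebra A L] (n : ℕ) (s : Fin n → S) (hs : Submodule.span A (Set.range s) = ⊤) :
    RkLE (algebraMap L (L ⊗[A] S)) n := by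
  classical
  have hfin : Module.Finite A S := ⟨⟨Finset.univ.image s, by simpa using hs⟩⟩
  have hspan : Submodule.span L (Set.range fun i => (1 : L) ⊗ₜ[A] s i) = ⊤ := by
    have h1 := Submodule.baseChange_span (R := A) (A := L) (Set.range s)
    rw [hs, Submodule.baseChange_top] at h1
    rw [h1, ← Set.range_comp]
    rfl
  have hle := finrank_le_of_span_eq_top hspan
  simp only [Fintype.card_fin] at hle
  have e : (algebraMap L (L ⊗[A] S)).toAlgebra = (inferInstance : Algebra L (L ⊗[A] S)) :=
    Algebra.algebra_ext _ _ fun r => rfl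
  unfold RkLE
  rw [e]
  exact ⟨inferInstance, hle⟩

theorem rkLE_includeRight_of_span (A S L : Type u) [CommRing A] [CommRing S] [Field L]
    [Algebra A S] [Algebra A L] (n : ℕ) (s : Fin n → S)
    (hs : Submodule.span A (Set.range s) = ⊤) :
    RkLE (Algebra.TensorProduct.includeRight (R := A) (A := S) (B := L)).toRingHom n := by
  refine RkLE.of_equiv (Algebra.TensorProduct.comm A L S).toRingEquiv ?_
    (rkLE_tensor_of_span A S L n s hs)
  intro k
  simp [Algebra.TensorProduct.algebraMap_apply]

theorem fibreDegLE_SpecMap_of_span {A S : CommRingCat.{u}} (φ : A ⟶ S) (n : ℕ) (s : Fin n → S)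
    (hs : letI := φ.hom.toAlgebra; Submodule.span A (Set.range s) = ⊤) :
    FibreDegLE (Spec.map φ) n := by
  rw [fibreDegLE_iff_forall_isField]
  intro L hL g
  obtain ⟨ψ, rfl⟩ := Spec.map_surjective g
  letI := hL.toField
  letI := φ.hom.toAlgebra
  letI := ψ.hom.toAlgebra
  have hφ : φ = CommRingCat.ofHom (algebraMap A S) := rfl
  have hψ : ψ = CommRingCat.ofHom (algebraMap A L) := rfl
  rw [hφ, hψ]
  refine finiteOfDegLE_of_iso _ (Spec.map (CommRingCat.ofHom
    (Algebra.TensorProduct.includeRight (R := A) (A := S) (B := L)).toRingHom))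
    (pullbackSpecIso A S L) (pullbackSpecIso_hom_snd ..) ?_
  rw [finiteOfDegLE_SpecMap]
  exact rkLE_includeRight_of_span A S L n s hs

end BddH8
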