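import Groth.Agent.Lib.BddQF1_helper8

set_option autoImplicit false
universe u
open CategoryTheory CategoryTheory.Limits AlgebraicGeometry TensorProduct

namespace BddH8

open BddFib Groth.Agent.Lib.BddFib_helper6 Groth.Agent.Lib.BddFib2_helper6

theorem finiteOfDegLE_of_isPullback' {X Y T : Scheme.{u}} {L : CommRingCat.{u}} (hL : IsField L)
    {f : X ⟶ Y} {g : Spec L ⟶ Y} (a : T ⟶ X) (p : T ⟶ Spec L) (h : IsPullback a p f g) (n : ℕ)
    (hf : FibreDegLE f n) : FiniteOfDegLE L p n :=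
  finiteOfDegLE_of_iso p (pullback.snd f g) h.isoPullback h.isoPullback_hom_snd
    ((fibreDegLE_iff_forall_isField f n).mp hf L hL g)

theorem rkLE_pi {L : Type u} [Field L] {ι : Type u} [Fintype ι] (A : ι → Type u)
    [∀ i, CommRing (A i)] (a : ∀ i, L →+* A i) (n : ι → ℕ) (h : ∀ i, RkLE (a i) (n i)) :
    RkLE (RingHom.pi a) (∑ i, n i) := by
  letI : ∀ i, Algebra L (A i) := fun i => (a i).toAlgebra
  have e : (RingHom.pi a).toAlgebra = (inferInstance : Algebra L (∀ i, A i)) :=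
    Algebra.algebra_ext _ _ fun r => rfl
  unfold RkLE
  rw [e]
  haveI : ∀ i, Module.Finite L (A i) := fun i => (h i).1
  refine ⟨inferInstance, ?_⟩
  rw [Module.finrank_pi_fintype]
  exact Finset.sum_le_sum fun i _ => (h i).2

theorem finiteOfDegLE_of_openCover {L : CommRingCat.{u}} (hL : IsField L) {T : Scheme.{u}}
    (p : T ⟶ Spec L) [LocallyQuasiFinite p] (𝒱 : Scheme.OpenCover.{u} T) [Fintype 𝒱.I₀]
    (n : 𝒱.I₀ → ℕ) (h : ∀ i, FiniteOfDegLE L (𝒱.f i ≫ p) (n i)) :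
    FiniteOfDegLE L p (∑ i, n i) := by
  letI := hL.toField
  haveI : ∀ i, IsAffine (𝒱.X i) := fun i => (h i).1
  haveI : CompactSpace T := 𝒱.compactSpace
  haveI : QuasiCompact p := (HasAffineProperty.iff_of_isAffine (P := @QuasiCompact)).mpr ‹CompactSpace T›
  haveI : IsFinite p := IsFinite.of_locallyQuasiFinite p
  haveI : IsAffine T := isAffine_of_isAffineHom p
  rw [finiteOfDegLE_iff]
  refine ⟨inferInstance, ?_⟩
  have key := rkLE_pi (L := L) (fun i => Γ(𝒱.X i, ⊤)) (fun i => (strHom L (𝒱.f i ≫ p)).hom) n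
    (fun i => ((finiteOfDegLE_iff _ _ _).mp (h i)).2)
  refine RkLE.of_injective (RingHom.pi fun i => (𝒱.f i).appTop.hom) ?_ ?_ key
  · intro s t hst
    refine 𝒱.ext_elem s t fun i => ?_
    exact congrFun hst i
  · intro x
    funext i
    simp only [strHom, RingHom.pi_apply, Scheme.Hom.comp_appTop, CommRingCat.hom_comp,
      RingHom.comp_apply]

end BddH8

namespace BddH8

open BddFib Groth.Agent.Lib.BddFib_helper6 Groth.Agent.Lib.BddFib2_helper6

theorem fibreDegLE_of_openCover {X Y : Scheme.{u}} (f : X ⟶ Y) [LocallyQuasiFinite f]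
    (𝒰 : Scheme.OpenCover.{u} X) [Fintype 𝒰.I₀] (n : 𝒰.I₀ → ℕ)
    (h : ∀ i, FibreDegLE (𝒰.f i ≫ f) (n i)) : FibreDegLE f (∑ i, n i) := by
  rw [fibreDegLE_iff_forall_isField]
  intro L hL g
  letI : Fintype (𝒰.pullback₁ (pullback.fst f g)).I₀ := ‹Fintype 𝒰.I₀›
  refine finiteOfDegLE_of_openCover hL (pullback.snd f g) (𝒰.pullback₁ (pullback.fst f g)) n
    fun i => ?_
  exact finiteOfDegLE_of_isPullback' hL (g := g) (pullback.snd (pullback.fst f g) (𝒰.f i)) _
    ((IsPullback.of_hasPullback (pullback.fst f g) (𝒰.f i)).flip.paste_vert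
    (IsPullback.of_hasPullback f g)) (n i) (h i)

theorem fibreDegLE_mono {X Y : Scheme.{u}} (f : X ⟶ Y) {n m : ℕ} (h : FibreDegLE f n)
    (hnm : n ≤ m) : FibreDegLE f m := by
  intro y
  obtain ⟨h1, h2⟩ := (finiteOfDegLE_iff _ _ _).mp (h y)
  exact (finiteOfDegLE_iff _ _ _).mpr ⟨h1, h2.mono hnm⟩

end BddH8
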