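import Groth.Agent.Lib.BddQF2_helper8

set_option autoImplicit false
universe u
open CategoryTheory CategoryTheory.Limits AlgebraicGeometry TensorProduct

namespace BddH8

open BddFib Groth.Agent.Lib.BddFib_helper6 Groth.Agent.Lib.BddFib2_helper6

theorem fibreDegLE_SpecMap_algebraMap_of_span (A S : Type u) [CommRing A] [CommRing S]
    [Algebra A S] (n : ℕ) (s : Fin n → S) (hs : Submodule.span A (Set.range s) = ⊤) :
    FibreDegLE (Spec.map (CommRingCat.ofHom (algebraMap A S))) n := by
  refine fibreDegLE_SpecMap_of_span (A := .of A) (S := .of S) _ n s ?_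
  have e : (CommRingCat.ofHom (algebraMap A S)).hom.toAlgebra = (inferInstance : Algebra A S) :=
    Algebra.algebra_ext _ _ fun r => rfl
  rw [e]
  exact hs

theorem fibreDegLE_of_isImmersion {X Y : Scheme.{u}} (f : X ⟶ Y) [IsImmersion f] :
    FibreDegLE f 1 := by
  intro y
  haveI : IsImmersion (f.fiberToSpecResidueField y) :=
    MorphismProperty.pullback_snd (P := @IsImmersion) _ _ inferInstance
  exact finiteOfDegLE_one_of_isImmersion (isField_residueField y) _

/-- ZMT, packaged. -/
theorem zmt_pack (A B : Type u) [CommRing A] [CommRing B] [Algebra A B] [Algebra.FiniteType A B]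
    [Algebra.QuasiFinite A B] (q : Ideal B) [q.IsPrime] :
    ∃ (S' : Subalgebra A B) (n : ℕ) (s : Fin n → S') (r : S'),
      Submodule.span A (Set.range s) = ⊤ ∧ r.1 ∉ q ∧
        Function.Bijective (Localization.awayMap S'.val.toRingHom r) := by
  obtain ⟨S', hS', r, hr, hbij⟩ :=
    Algebra.QuasiFiniteAt.exists_fg_and_exists_notMem_and_awayMap_bijective (R := A) q
  haveI : Module.Finite A S' := ⟨(Submodule.fg_top _).mpr hS'⟩
  obtain ⟨n, s, hs⟩ := Module.Finite.exists_fin (R := A) (M := S')
  exact ⟨S', n, s, r, hs, hr, hbij⟩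

/-- the localisation of the finite subalgebra is the localisation of `B`. -/
theorem exists_equiv_of_awayMap_bijective (A B C : Type u) [CommRing A] [CommRing B] [CommRing C]
    [Algebra A B] [Algebra B C] (S' : Subalgebra A B) (r : S')
    (hbij : Function.Bijective (Localization.awayMap S'.val.toRingHom r))
    [IsLocalization.Away r.1 C] :
    ∃ e : Localization.Away r ≃+* C,
      ∀ s : S', e (algebraMap S' (Localization.Away r) s) = algebraMap B C s.1 := by
  haveI : IsLocalization.Away (S'.val.toRingHom r) C := ‹IsLocalization.Away r.1 C›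
  refine ⟨(RingEquiv.ofBijective _ hbij).trans
    (IsLocalization.algEquiv (Submonoid.powers (S'.val.toRingHom r))
      (Localization.Away (S'.val.toRingHom r)) C).toRingEquiv, fun s => ?_⟩
  simp only [RingEquiv.trans_apply, RingEquiv.ofBijective_apply, Localization.awayMap,
    IsLocalization.Away.map, IsLocalization.map_eq]
  exact (IsLocalization.algEquiv (Submonoid.powers (S'.val.toRingHom r))
      (Localization.Away (S'.val.toRingHom r)) C).commutes s.1

end BddH8

namespace BddH8

open BddFib Groth.Agent.Lib.BddFib_helper6 Groth.Agent.Lib.BddFib2_helper6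

theorem exists_open_fibreDegLE {X Y : Scheme.{u}} (f : X ⟶ Y) [LocallyQuasiFinite f]
    [LocallyOfFiniteType f] (x : X) :
    ∃ (W : X.Opens) (n : ℕ), x ∈ W ∧ FibreDegLE (W.ι ≫ f) n := by
  obtain ⟨_, ⟨V, hV, rfl⟩, hxV, -⟩ := Y.isBasis_affineOpens.exists_subset_of_mem_open
    (Set.mem_univ (f x)) isOpen_univ
  obtain ⟨_, ⟨U, hU, rfl⟩, hxU, hUV : U ≤ f ⁻¹ᵁ V⟩ :=
    X.isBasis_affineOpens.exists_subset_of_mem_open hxV (f ⁻¹ᵁ V).2
  have hft : (f.appLE V U hUV).hom.FiniteType := f.finiteType_appLE hV hU hUV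
  have hqf : (f.appLE V U hUV).hom.QuasiFinite :=
    LocallyQuasiFinite.quasiFinite_appLE hV hU hUV
  algebraize [(f.appLE V U hUV).hom]
  obtain ⟨S', n, s, r, hs, hr, hbij⟩ :=
    zmt_pack Γ(Y, V) Γ(X, U) (hU.primeIdealOf ⟨x, hxU⟩).asIdeal
  have hW : IsAffineOpen (X.basicOpen r.1) := hU.basicOpen r.1
  have hWU : X.basicOpen r.1 ≤ U := X.basicOpen_le _
  refine ⟨X.basicOpen r.1, n, ?_, ?_⟩
  · have h1 : hU.primeIdealOf ⟨x, hxU⟩ ∈ hU.fromSpec ⁻¹ᵁ X.basicOpen r.1 := by
      rw [hU.fromSpec_preimage_basicOpen]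
      exact hr
    have h2 := hU.fromSpec_primeIdealOf ⟨x, hxU⟩
    change hU.fromSpec (hU.primeIdealOf ⟨x, hxU⟩) ∈ X.basicOpen r.1 at h1
    rwa [h2] at h1
  · haveI := hU.isLocalization_basicOpen r.1
    obtain ⟨e, he⟩ := exists_equiv_of_awayMap_bijective Γ(Y, V) Γ(X, U) Γ(X, X.basicOpen r.1)
      S' r hbij
    have hfac : f.appLE V (X.basicOpen r.1) (hWU.trans hUV) =
        CommRingCat.ofHom (algebraMap Γ(Y, V) S') ≫
          CommRingCat.ofHom (algebraMap S' (Localization.Away r)) ≫
            CommRingCat.ofHom e.toRingHom := by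
      rw [← Scheme.Hom.appLE_map f hUV (homOfLE hWU).op]
      ext a
      simp only [CommRingCat.hom_comp, CommRingCat.hom_ofHom, RingHom.comp_apply,
        RingEquiv.toRingHom_eq_coe, RingHom.coe_coe]
      rw [he]
      rfl
    have h1 : (X.basicOpen r.1).ι ≫ f =
        (hW.isoSpec.hom ≫ Spec.map (CommRingCat.ofHom e.toRingHom) ≫
          Spec.map (CommRingCat.ofHom (algebraMap S' (Localization.Away r)))) ≫
        Spec.map (CommRingCat.ofHom (algebraMap Γ(Y, V) S')) ≫ hV.fromSpec := by
      rw [← hW.isoSpec_hom_fromSpec, Category.assoc,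
        ← IsAffineOpen.SpecMap_appLE_fromSpec f hV hW (hWU.trans hUV), hfac]
      simp only [Spec.map_comp, Category.assoc]
    rw [h1]
    haveI : IsIso (CommRingCat.ofHom e.toRingHom) := e.toCommRingCatIso.isIso_hom
    haveI : IsOpenImmersion (hW.isoSpec.hom ≫ Spec.map (CommRingCat.ofHom e.toRingHom) ≫
          Spec.map (CommRingCat.ofHom (algebraMap S' (Localization.Away r)))) := inferInstance
    have h2 := fibreDegLE_comp_mul _ _ _ _
      (fibreDegLE_SpecMap_algebraMap_of_span Γ(Y, V) S' n s hs)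
      (fibreDegLE_of_isImmersion hV.fromSpec)
    have h3 := fibreDegLE_comp_mul _ _ _ _
      (fibreDegLE_of_isImmersion (hW.isoSpec.hom ≫ Spec.map (CommRingCat.ofHom e.toRingHom) ≫
          Spec.map (CommRingCat.ofHom (algebraMap S' (Localization.Away r))))) h2
    simpa using h3

end BddH8

namespace BddH8

open BddFib Groth.Agent.Lib.BddFib_helper6 Groth.Agent.Lib.BddFib2_helper6

theorem univBounded_of_locallyQuasiFinite {X Y : Scheme.{u}} (f : X ⟶ Y) [LocallyQuasiFinite f]
    [LocallyOfFiniteType f] [CompactSpace X] : UnivBounded f := by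
  choose W n hxW hW using exists_open_fibreDegLE f
  have hcov : TopologicalSpace.IsOpenCover W :=
    top_le_iff.mp fun x _ => TopologicalSpace.Opens.mem_iSup.mpr ⟨x, hxW x⟩
  refine ⟨∑ i : (X.openCoverOfIsOpenCover W hcov).finiteSubcover.I₀,
    n ((X.openCoverOfIsOpenCover W hcov).idx i.1), ?_⟩
  exact fibreDegLE_of_openCover f (X.openCoverOfIsOpenCover W hcov).finiteSubcover
    (fun i => n ((X.openCoverOfIsOpenCover W hcov).idx i.1)) fun i => hW _

end BddH8
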