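import Mathlib.NumberTheory.ZetaValues
import Mathlib.NumberTheory.Bernoulli

/-!
# Signs of the even Bernoulli numbers (helper2)

From Euler's formula for `ζ(2k)` (`hasSum_zeta_nat`): `(-1)^(k+1) B_{2k} > 0`.
-/

set_option autoImplicit false

namespace Groth.Agent.Todd

lemma bernoulli_sign {k : ℕ} (hk : k ≠ 0) :
    0 < (-1 : ℝ) ^ (k + 1) * ((bernoulli (2 * k) : ℚ) : ℝ) := by
  have hS := hasSum_zeta_nat hk
  have hpos : 0 < (-1 : ℝ) ^ (k + 1) * (2 : ℝ) ^ (2 * k - 1) * Real.pi ^ (2 * k) *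
      ((bernoulli (2 * k) : ℚ) : ℝ) / ((2 * k).factorial : ℝ) := by
    refine hasSum_lt (f := fun _ : ℕ => (0 : ℝ)) (g := fun n : ℕ => 1 / (n : ℝ) ^ (2 * k))
      (fun n => ?_) (i := 1) ?_ hasSum_zero hS
    · positivity
    · simp
  have hA : 0 < (2 : ℝ) ^ (2 * k - 1) * Real.pi ^ (2 * k) / ((2 * k).factorial : ℝ) := by
    positivity
  have e : (-1 : ℝ) ^ (k + 1) * (2 : ℝ) ^ (2 * k - 1) * Real.pi ^ (2 * k) *
      ((bernoulli (2 * k) : ℚ) : ℝ) / ((2 * k).factorial : ℝ)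
      = ((2 : ℝ) ^ (2 * k - 1) * Real.pi ^ (2 * k) / ((2 * k).factorial : ℝ)) *
        ((-1 : ℝ) ^ (k + 1) * ((bernoulli (2 * k) : ℚ) : ℝ)) := by ring
  rw [e] at hpos
  exact (mul_pos_iff_of_pos_left hA).mp hpos

lemma bernoulli'_four_mul_neg (j : ℕ) (hj : 0 < j) : bernoulli' (4 * j) < 0 := by
  have h := bernoulli_sign (k := 2 * j) (by omega)
  have e1 : (-1 : ℝ) ^ (2 * j + 1) = -1 := Odd.neg_one_pow ⟨j, by ring⟩
  have e2 : 2 * (2 * j) = 4 * j := by ring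
  rw [e1, e2] at h
  have h' : ((bernoulli (4 * j) : ℚ) : ℝ) < 0 := by linarith
  have h'' : bernoulli (4 * j) < 0 := by exact_mod_cast h'
  rw [← bernoulli_eq_bernoulli'_of_ne_one (by omega : 4 * j ≠ 1)]
  exact h''

lemma bernoulli'_four_mul_add_two_pos (j : ℕ) : 0 < bernoulli' (4 * j + 2) := by
  have h := bernoulli_sign (k := 2 * j + 1) (by omega)
  have e1 : (-1 : ℝ) ^ (2 * j + 1 + 1) = 1 := Even.neg_one_pow ⟨j + 1, by ring⟩
  have e2 : 2 * (2 * j + 1) = 4 * j + 2 := by ring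
  rw [e1, e2, one_mul] at h
  have h'' : 0 < bernoulli (4 * j + 2) := by exact_mod_cast h
  rw [← bernoulli_eq_bernoulli'_of_ne_one (by omega : 4 * j + 2 ≠ 1)]
  exact h''

end Groth.Agent.Todd
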