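import Mathlib

/-!
# Separable closedness and purely transcendental extensions (helper5)

`coreD`: if `E` is separably closed in `F` and `x` is algebraically independent over `F`, then
`E(x)` is separably closed in `F(x)`.  `sepClosed_adjoin_transc`: internal one-variable version
for intermediate fields.
-/

set_option autoImplicit false
open Polynomial IntermediateField

namespace Groth.Agent.Lib.SepTranscH5


/-- Transport of separability along a ring homomorphism carrying the base field into the new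
base field. -/
theorem isSeparable_map {S₁ S₂ Ω Ω' : Type*} [Field S₁] [Field S₂] [Field Ω] [Field Ω']
    [Algebra S₁ Ω] [Algebra S₂ Ω'] (τ : Ω →+* Ω')
    (h : ∀ s : S₁, τ (algebraMap S₁ Ω s) ∈ Set.range (algebraMap S₂ Ω'))
    {θ : Ω} (hθ : IsSeparable S₁ θ) : IsSeparable S₂ (τ θ) := by
  have hq : ((minpoly S₁ θ).map (τ.comp (algebraMap S₁ Ω))) ∈
      Polynomial.lifts (algebraMap S₂ Ω') := by
    rw [Polynomial.lifts_iff_coeff_lifts]
    intro n
    rw [Polynomial.coeff_map]
    exact h _
  obtain ⟨p₂, hp₂⟩ := hq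
  have hsep : ((minpoly S₁ θ).map (τ.comp (algebraMap S₁ Ω))).Separable :=
    Polynomial.Separable.map hθ
  have hsep₂ : p₂.Separable := by
    rw [← Polynomial.separable_map (algebraMap S₂ Ω')]
    have : p₂.map (algebraMap S₂ Ω') = (minpoly S₁ θ).map (τ.comp (algebraMap S₁ Ω)) := hp₂
    rw [this]; exact hsep
  have h0 : Polynomial.aeval (τ θ) p₂ = 0 := by
    have h1 : p₂.map (algebraMap S₂ Ω') = (minpoly S₁ θ).map (τ.comp (algebraMap S₁ Ω)) := hp₂
    rw [Polynomial.aeval_def, ← Polynomial.eval_map, h1, Polynomial.eval_map,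
      ← Polynomial.hom_eval₂, ← Polynomial.aeval_def, minpoly.aeval, map_zero]
  exact hsep₂.of_dvd (minpoly.dvd _ _ h0)

theorem isAlgebraic_of_range_le {S₁ S₂ Ω : Type*} [Field S₁] [Field S₂] [Field Ω]
    [Algebra S₁ Ω] [Algebra S₂ Ω]
    (h : ∀ s : S₁, algebraMap S₁ Ω s ∈ Set.range (algebraMap S₂ Ω))
    {θ : Ω} (hθ : IsAlgebraic S₁ θ) : IsAlgebraic S₂ θ := by
  obtain ⟨p, hp0, hp⟩ := hθ
  have hq : (p.map (algebraMap S₁ Ω)) ∈ Polynomial.lifts (algebraMap S₂ Ω) := by
    rw [Polynomial.lifts_iff_coeff_lifts]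
    intro n
    rw [Polynomial.coeff_map]
    exact h _
  obtain ⟨p₂, hp₂⟩ := hq
  have h1 : p₂.map (algebraMap S₂ Ω) = p.map (algebraMap S₁ Ω) := hp₂
  refine ⟨p₂, ?_, ?_⟩
  · intro h0
    rw [h0, Polynomial.map_zero] at h1
    exact hp0 ((Polynomial.map_eq_zero _).1 h1.symm)
  · rw [Polynomial.aeval_def, ← Polynomial.eval_map, h1, Polynomial.eval_map,
      ← Polynomial.aeval_def, hp]

/-- If `E` is separably closed in `F`, an element of `F` integral over `E` has a `q`-power in `E`. -/
theorem exists_pow_mem_range {E F : Type*} [Field E] [Field F] [Algebra E F]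
    (hEF : ∀ b : F, IsSeparable E b → b ∈ Set.range (algebraMap E F))
    (q : ℕ) [ExpChar E q] (b : F) (hb : IsIntegral E b) :
    ∃ r : ℕ, b ^ q ^ r ∈ Set.range (algebraMap E F) := by
  obtain ⟨g, hg, r, hr⟩ := (minpoly.irreducible hb).hasSeparableContraction q
  refine ⟨r, hEF _ ?_⟩
  have h0 : Polynomial.aeval (b ^ q ^ r) g = 0 := by
    rw [← Polynomial.expand_aeval, hr, minpoly.aeval]
  exact hg.of_dvd (minpoly.dvd _ _ h0)


attribute [local instance] MvPolynomial.algebraMvPolynomial

/-- If `x` is integral over `MvPolynomial ι E` (acting through `aeval x`) and lies in `F(x)`,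
then it is a polynomial in `x` over `F` whose coefficients are integral over `E`. -/
theorem exists_poly_of_integral {E F Ω : Type*} {ι : Type*} [Field E] [Field F] [Field Ω]
    [Algebra E F] [Algebra F Ω] [Algebra E Ω] [IsScalarTower E F Ω]
    (x : ι → Ω) (hx : AlgebraicIndependent F x) (θ : Ω)
    (hθ : θ ∈ IntermediateField.adjoin F (Set.range x))
    (hint : ((MvPolynomial.aeval x : MvPolynomial ι E →ₐ[E] Ω) : MvPolynomial ι E →+* Ω).IsIntegralElem θ) :
    ∃ P : MvPolynomial ι F, MvPolynomial.aeval x P = θ ∧ ∀ n, IsIntegral E (P.coeff n) := by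
  classical
  set evE : MvPolynomial ι E →ₐ[E] Ω := MvPolynomial.aeval x with hevE
  set evF : MvPolynomial ι F →ₐ[F] Ω := MvPolynomial.aeval x with hevF
  have hinj : Function.Injective evF := hx
  letI algA : Algebra (MvPolynomial ι E) Ω := (evE : MvPolynomial ι E →+* Ω).toAlgebra
  letI algB : Algebra (MvPolynomial ι F) Ω := (evF : MvPolynomial ι F →+* Ω).toAlgebra
  haveI tower : IsScalarTower (MvPolynomial ι E) (MvPolynomial ι F) Ω :=
    IsScalarTower.of_algebraMap_eq (fun a => by
      show evE a = evF (MvPolynomial.map (algebraMap E F) a)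
      rw [hevE, hevF, MvPolynomial.aeval_map_algebraMap])
  have hintA : IsIntegral (MvPolynomial ι E) θ := hint
  have hintB : IsIntegral (MvPolynomial ι F) θ := hintA.tower_top
  -- the fraction field of B
  obtain ⟨N, D, hND⟩ := (IntermediateField.mem_adjoin_range_iff F x θ).1 hθ
  let KB := FractionRing (MvPolynomial ι F)
  let j : KB →+* Ω := IsFractionRing.lift (g := (evF : MvPolynomial ι F →+* Ω)) hinj
  let jalg : KB →ₐ[MvPolynomial ι F] Ω :=
    { j with commutes' := fun b => IsFractionRing.lift_algebraMap hinj b }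
  have hj : j (algebraMap _ KB N / algebraMap _ KB D) = θ := by
    rw [map_div₀, IsFractionRing.lift_algebraMap, IsFractionRing.lift_algebraMap, hND]
    rfl
  have hy : IsIntegral (MvPolynomial ι F) (algebraMap _ KB N / algebraMap _ KB D) := by
    rw [← isIntegral_algHom_iff jalg (RingHom.injective j)]
    show IsIntegral (MvPolynomial ι F) (j _)
    rw [hj]; exact hintB
  obtain ⟨P, hP⟩ := IsIntegrallyClosed.isIntegral_iff.1 hy
  have hPθ : evF P = θ := by
    rw [← hj, ← hP, IsFractionRing.lift_algebraMap]; rfl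
  refine ⟨P, hPθ, ?_⟩
  let fA : MvPolynomial ι F →ₐ[MvPolynomial ι E] Ω :=
    { (evF : MvPolynomial ι F →+* Ω) with
      commutes' := fun a => by
        show evF (MvPolynomial.map (algebraMap E F) a) = evE a
        rw [hevE, hevF, MvPolynomial.aeval_map_algebraMap] }
  have hPint : IsIntegral (MvPolynomial ι E) P := by
    rw [← isIntegral_algHom_iff fA hinj]
    show IsIntegral (MvPolynomial ι E) (evF P)
    rw [hPθ]; exact hintA
  exact MvPolynomial.isIntegral_iff_isIntegral_coeff.1 hPint


/-- A polynomial in `x` over `F` all of whose coefficients have a `q`-power in `E` has a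
`q`-power lying in `E(x)`. -/
theorem pow_mem_adjoin {E F Ω : Type*} {ι : Type*} [Field E] [Field F] [Field Ω]
    [Algebra E F] [Algebra F Ω] [Algebra E Ω] [IsScalarTower E F Ω]
    (q : ℕ) [ExpChar E q]
    (x : ι → Ω) (P : MvPolynomial ι F)
    (hP : ∀ n, ∃ r : ℕ, (P.coeff n) ^ q ^ r ∈ Set.range (algebraMap E F)) :
    ∃ N : ℕ, (MvPolynomial.aeval x P) ^ q ^ N ∈ IntermediateField.adjoin E (Set.range x) := by
  classical
  haveI : ExpChar Ω q := expChar_of_injective_algebraMap (algebraMap E Ω).injective q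
  haveI : ExpChar F q := expChar_of_injective_algebraMap (algebraMap E F).injective q
  choose r hr using hP
  refine ⟨P.support.sup r, ?_⟩
  set N := P.support.sup r with hN
  rw [MvPolynomial.aeval_def, MvPolynomial.eval₂_eq, sum_pow_char_pow]
  refine sum_mem (fun n hn => ?_)
  rw [mul_pow]
  refine mul_mem ?_ (pow_mem (prod_mem (fun i _ => pow_mem (subset_adjoin E (Set.range x) (Set.mem_range_self i)) _)) _)
  have hle : r n ≤ N := Finset.le_sup hn
  obtain ⟨e, he⟩ := hr n
  have h1 : (P.coeff n) ^ q ^ N = algebraMap E F (e ^ q ^ (N - r n)) := by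
    rw [map_pow, he, ← pow_mul, ← pow_add, Nat.add_sub_cancel' hle]
  rw [← map_pow, h1, ← IsScalarTower.algebraMap_apply]
  exact IntermediateField.algebraMap_mem _ _


theorem coreD {E F Ω : Type*} {ι : Type*} [Field E] [Field F] [Field Ω]
    [Algebra E F] [Algebra F Ω] [Algebra E Ω] [IsScalarTower E F Ω]
    (hEF : ∀ b : F, IsSeparable E b → b ∈ Set.range (algebraMap E F))
    (x : ι → Ω) (hx : AlgebraicIndependent F x) (θ : Ω)
    (hθ : θ ∈ IntermediateField.adjoin F (Set.range x))
    (hsep : IsSeparable (IntermediateField.adjoin E (Set.range x)) θ) :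
    θ ∈ IntermediateField.adjoin E (Set.range x) := by
  classical
  set L := IntermediateField.adjoin E (Set.range x) with hL
  set evE : MvPolynomial ι E →ₐ[E] Ω := MvPolynomial.aeval x with hevE
  have hxE : AlgebraicIndependent E x := hx.restrictScalars (algebraMap E F).injective
  have hinjE : Function.Injective evE := hxE
  have hmemL : ∀ a, evE a ∈ L.toSubalgebra := fun a => by
    apply IntermediateField.algebra_adjoin_le_adjoin E (Set.range x)
    rw [Algebra.adjoin_range_eq_range_aeval]
    exact ⟨a, rfl⟩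
  letI algAL : Algebra (MvPolynomial ι E) L :=
    ((evE.codRestrict L.toSubalgebra hmemL : MvPolynomial ι E →ₐ[E] L.toSubalgebra) :
      MvPolynomial ι E →+* L).toAlgebra
  letI algA : Algebra (MvPolynomial ι E) Ω := (evE : MvPolynomial ι E →+* Ω).toAlgebra
  haveI tower : IsScalarTower (MvPolynomial ι E) L Ω :=
    IsScalarTower.of_algebraMap_eq (fun a => rfl)
  have hinjAL : Function.Injective (algebraMap (MvPolynomial ι E) L) := fun a b hab =>
    hinjE (congrArg Subtype.val hab)
  haveI : FaithfulSMul (MvPolynomial ι E) L := (faithfulSMul_iff_algebraMap_injective _ _).2 hinjAL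
  haveI : IsFractionRing (MvPolynomial ι E) L := IsFractionRing.of_field _ _ (fun z => by
    obtain ⟨r, s, h⟩ := (IntermediateField.mem_adjoin_range_iff E x z).1 z.2
    exact ⟨r, s, Subtype.ext h⟩)
  obtain ⟨m, hm⟩ := IsIntegral.exists_multiple_integral_of_isLocalization
    (nonZeroDivisors (MvPolynomial ι E)) θ hsep.isIntegral
  have hm0 : evE (m : MvPolynomial ι E) ≠ 0 := by
    intro h0
    have : (m : MvPolynomial ι E) = 0 := hinjE (by rw [h0, map_zero])
    exact nonZeroDivisors.coe_ne_zero m this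
  set θ' : Ω := evE (m : MvPolynomial ι E) * θ with hθ'
  have hmθ : m • θ = θ' := by
    rw [hθ', Submonoid.smul_def, Algebra.smul_def]; rfl
  rw [hmθ] at hm
  have hθ'F : θ' ∈ IntermediateField.adjoin F (Set.range x) := by
    refine mul_mem ?_ hθ
    have : evE (m : MvPolynomial ι E) =
        MvPolynomial.aeval x (MvPolynomial.map (algebraMap E F) (m : MvPolynomial ι E)) := by
      rw [MvPolynomial.aeval_map_algebraMap]
    rw [this]
    apply IntermediateField.algebra_adjoin_le_adjoin F (Set.range x)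
    rw [Algebra.adjoin_range_eq_range_aeval]
    exact ⟨_, rfl⟩
  obtain ⟨P, hPθ, hPc⟩ := exists_poly_of_integral x hx θ' hθ'F hm
  set q := ringExpChar E with hq
  haveI : ExpChar E q := ringExpChar.expChar E
  obtain ⟨N, hN⟩ := pow_mem_adjoin (E := E) q x P
    (fun n => exists_pow_mem_range hEF q _ (hPc n))
  rw [hPθ] at hN
  -- θ' is separable over L
  have hmL : evE (m : MvPolynomial ι E) ∈ L := hmemL _
  have hsep' : θ' ∈ separableClosure L Ω :=
    mul_mem (by
      have : evE (m : MvPolynomial ι E) = algebraMap L Ω ⟨_, hmL⟩ := rfl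
      rw [this]; exact IntermediateField.algebraMap_mem _ _) hsep
  haveI : ExpChar L q := expChar_of_injective_algebraMap (algebraMap E L).injective q
  have hperf : θ' ∈ perfectClosure L Ω :=
    (mem_perfectClosure_iff_pow_mem q).2 ⟨N, ⟨⟨_, hN⟩, rfl⟩⟩
  have hbot : θ' ∈ (⊥ : IntermediateField L Ω) := by
    rw [← separableClosure_inf_perfectClosure L Ω]
    exact ⟨hsep', hperf⟩
  obtain ⟨l, hl⟩ := IntermediateField.mem_bot.1 hbot
  have hθ'L : θ' ∈ L := by rw [← hl]; exact l.2
  have : θ = θ' / evE (m : MvPolynomial ι E) := by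
    rw [hθ', mul_div_cancel_left₀ _ hm0]
  rw [this]
  exact div_mem hθ'L hmL


theorem sepClosed_adjoin_transc {k Ω : Type*} [Field k] [Field Ω] [Algebra k Ω]
    (E F : IntermediateField k Ω) (hEF : E ≤ F)
    (hsc : ∀ θ ∈ F, IsSeparable E θ → θ ∈ E) (t : Ω) (ht : Transcendental F t)
    (θ : Ω) (hθ : θ ∈ F ⊔ k⟮t⟯) (hsep : IsSeparable ↥(E ⊔ k⟮t⟯) θ) : θ ∈ E ⊔ k⟮t⟯ := by
  letI algEF : Algebra E F := (IntermediateField.inclusion hEF).toRingHom.toAlgebra
  haveI : IsScalarTower E F Ω := IsScalarTower.of_algebraMap_eq (fun _ => rfl)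
  have hEF' : ∀ b : F, IsSeparable E b → b ∈ Set.range (algebraMap E F) := by
    intro b hb
    have h1 : IsSeparable E (b : Ω) := by
      have h0 := minpoly.algebraMap_eq (A := E) (algebraMap F Ω).injective b
      unfold IsSeparable
      rw [show (b : Ω) = algebraMap F Ω b from rfl, h0]
      exact hb
    have h2 := hsc b b.2 h1
    exact ⟨⟨b, h2⟩, Subtype.ext rfl⟩
  have hx : AlgebraicIndependent F (fun _ : Unit => t) :=
    (algebraicIndependent_unique_type_iff (ι := Unit)).2 ht
  have hrange : Set.range (fun _ : Unit => t) = {t} := by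
    ext y; simp [eq_comm]
  have hθ' : θ ∈ IntermediateField.adjoin F (Set.range (fun _ : Unit => t)) := by
    rw [hrange, ← IntermediateField.mem_restrictScalars k,
      IntermediateField.restrictScalars_adjoin_eq_sup k F ({t} : Set Ω)]
    exact hθ
  have hcar : ∀ y : Ω, y ∈ E ⊔ k⟮t⟯ ↔ y ∈ IntermediateField.adjoin E (Set.range (fun _ : Unit => t)) := by
    intro y
    rw [hrange, ← IntermediateField.restrictScalars_adjoin_eq_sup k E ({t} : Set Ω),
      IntermediateField.mem_restrictScalars]
  have hsep' : IsSeparable (IntermediateField.adjoin E (Set.range (fun _ : Unit => t))) θ := by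
    have := isSeparable_map (S₁ := ↥(E ⊔ k⟮t⟯))
      (S₂ := IntermediateField.adjoin E (Set.range (fun _ : Unit => t))) (RingHom.id Ω)
      (fun s => ⟨⟨s.1, (hcar _).1 s.2⟩, rfl⟩) hsep
    simpa using this
  exact (hcar θ).2 (coreD hEF' _ hx θ hθ' hsep')

end Groth.Agent.Lib.SepTranscH5
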