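import Mathlib
import Groth.Agent.Lib.SepTransc_helper5

/-!
# The abstract field-theoretic Bertini lemma (helper5)

`bertini_abstract`: `K₀ ⊆ Ω` separably closed in `Ω`, an infinite group of automorphisms of `Ω`
preserving `K₀`, fixing `δ` and translating `ξ` by `K₀`-multiples of `δ`, with `δ` transcendental
over `K₀(ξ)`; then `K₀(ξ)` is separably closed in `Ω`.
-/

set_option autoImplicit false
open Polynomial IntermediateField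
open Groth.Agent.Lib.SepTranscH5

namespace Groth.Agent.Lib.BertiniFieldH5


theorem bertini_abstract {k Ω : Type*} [Field k] [Field Ω] [Algebra k Ω]
    (K₀ : IntermediateField k Ω) (ξ δ : Ω)
    {G : Type*} [Group G] [Infinite G]
    (σ : G →* (Ω ≃ₐ[k] Ω)) (β : G → Ω)
    (hβmem : ∀ g, β g ∈ K₀) (hβ0 : ∀ g, g ≠ 1 → β g ≠ 0)
    (hσξ : ∀ g, σ g ξ = ξ + β g * δ) (hσδ : ∀ g, σ g δ = δ)
    (hσK₀ : ∀ g, ∀ y ∈ K₀, σ g y ∈ K₀)
    (hsep : ∀ θ : Ω, IsSeparable K₀ θ → θ ∈ K₀)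
    (htr : Transcendental ↥(K₀ ⊔ k⟮ξ⟯) δ)
    (hfin : FiniteDimensional ↥(K₀ ⊔ k⟮ξ⟯ ⊔ k⟮δ⟯)
      ↥(separableClosure ↥(K₀ ⊔ k⟮ξ⟯ ⊔ k⟮δ⟯) Ω)) :
    ∀ θ : Ω, IsSeparable ↥(K₀ ⊔ k⟮ξ⟯) θ → θ ∈ K₀ ⊔ k⟮ξ⟯ := by
  intro θ hθ
  set K₁ : IntermediateField k Ω := K₀ ⊔ k⟮ξ⟯ with hK₁
  set K₂ : IntermediateField k Ω := K₁ ⊔ k⟮δ⟯ with hK₂
  have hK₀₁ : K₀ ≤ K₁ := le_sup_left
  have hK₁₂ : K₁ ≤ K₂ := le_sup_left
  have hξ₁ : ξ ∈ K₁ := (le_sup_right : k⟮ξ⟯ ≤ K₁) (mem_adjoin_simple_self k ξ)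
  have hδ₂ : δ ∈ K₂ := (le_sup_right : k⟮δ⟯ ≤ K₂) (mem_adjoin_simple_self k δ)
  -- images under σ
  have hmapK₀ : ∀ g, K₀.map (σ g : Ω →ₐ[k] Ω) ≤ K₀ := by
    rintro g _ ⟨y, hy, rfl⟩
    exact hσK₀ g y hy
  have hmapK₁ : ∀ g, K₁.map (σ g : Ω →ₐ[k] Ω) ≤ K₀ ⊔ k⟮ξ + β g * δ⟯ := by
    intro g
    rw [hK₁, IntermediateField.map_sup, IntermediateField.adjoin_map, Set.image_singleton]
    refine sup_le_sup (hmapK₀ g) ?_
    rw [show (σ g : Ω →ₐ[k] Ω) ξ = ξ + β g * δ from hσξ g]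
  have hmem₂ : ∀ g, ξ + β g * δ ∈ K₂ := fun g =>
    add_mem (hK₁₂ hξ₁) (mul_mem (hK₁₂ (hK₀₁ (hβmem g))) hδ₂)
  have hmapK₁₂ : ∀ g, K₁.map (σ g : Ω →ₐ[k] Ω) ≤ K₂ := fun g =>
    (hmapK₁ g).trans (sup_le (hK₀₁.trans hK₁₂) (by
      rw [adjoin_simple_le_iff]; exact hmem₂ g))
  have hmapK₂ : ∀ g, K₂.map (σ g : Ω →ₐ[k] Ω) ≤ K₂ := by
    intro g
    rw [hK₂, IntermediateField.map_sup, IntermediateField.adjoin_map, Set.image_singleton]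
    refine sup_le (hmapK₁₂ g) ?_
    rw [show (σ g : Ω →ₐ[k] Ω) δ = δ from hσδ g]
    exact le_sup_right
  -- Step 1
  have hstep1 : ∀ g, IsSeparable K₂ (σ g θ) := fun g =>
    isSeparable_map (S₁ := K₁) (S₂ := K₂) ((σ g : Ω →ₐ[k] Ω) : Ω →+* Ω)
      (fun s => ⟨⟨σ g s, hmapK₁₂ g ⟨s, s.2, rfl⟩⟩, rfl⟩) hθ
  -- Step 2 : pigeonhole
  let S := separableClosure K₂ Ω
  let θ' : G → S := fun g => ⟨σ g θ, mem_separableClosure_iff.2 (hstep1 g)⟩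
  haveI : FiniteDimensional K₂ S := hfin
  haveI : Finite (IntermediateField K₂ S) :=
    Field.finite_intermediateField_of_exists_primitive_element K₂ S
      (Field.exists_primitive_element K₂ S)
  obtain ⟨g, g', hne, heq⟩ := Finite.exists_ne_map_eq_of_infinite (fun g => K₂⟮θ' g⟯)
  have h1 : θ' g' ∈ K₂⟮θ' g⟯ := by
    have : K₂⟮θ' g⟯ = K₂⟮θ' g'⟯ := heq
    rw [this]; exact mem_adjoin_simple_self K₂ (θ' g')
  have h2 : σ g' θ ∈ (K₂⟮σ g θ⟯ : IntermediateField K₂ Ω) := by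
    have := (IntermediateField.mem_lift (θ' g')).2 h1
    rwa [IntermediateField.lift_adjoin_simple] at this
  have h3 : σ g' θ ∈ K₂ ⊔ k⟮σ g θ⟯ := by
    rw [← IntermediateField.restrictScalars_adjoin_eq_sup k K₂ ({σ g θ} : Set Ω),
      IntermediateField.mem_restrictScalars]
    exact h2
  -- Step 3
  set b : G := g⁻¹ * g' with hb
  have hb1 : b ≠ 1 := by
    intro h
    apply hne
    have : g' = g := by
      have := congrArg (fun z => g * z) h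
      simpa [hb] using this
    exact this.symm
  have hσb : σ b θ = σ g⁻¹ (σ g' θ) := by
    rw [hb, map_mul]; rfl
  have hinv : σ g⁻¹ (σ g θ) = θ := by
    have : (σ g⁻¹ * σ g) θ = θ := by rw [← map_mul, inv_mul_cancel, map_one]; rfl
    exact this
  have h4 : σ b θ ∈ K₂ ⊔ k⟮θ⟯ := by
    have hle : (K₂ ⊔ k⟮σ g θ⟯).map (σ g⁻¹ : Ω →ₐ[k] Ω) ≤ K₂ ⊔ k⟮θ⟯ := by
      rw [IntermediateField.map_sup, IntermediateField.adjoin_map, Set.image_singleton]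
      refine sup_le_sup (hmapK₂ g⁻¹) ?_
      rw [show (σ g⁻¹ : Ω →ₐ[k] Ω) (σ g θ) = θ from hinv]
    rw [hσb]
    exact hle ⟨_, h3, rfl⟩
  -- Step 4
  set t : Ω := ξ + β b * δ with ht
  set F : IntermediateField k Ω := K₁ ⊔ k⟮θ⟯ with hF
  have hK₁F : K₁ ≤ F := le_sup_left
  have hθF : θ ∈ F := (le_sup_right : k⟮θ⟯ ≤ F) (mem_adjoin_simple_self k θ)
  have hβb : β b ≠ 0 := hβ0 b hb1
  have htr' : Transcendental F t := by
    intro halg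
    apply htr
    -- pass to K₁⟮θ⟯
    let M : IntermediateField K₁ Ω := K₁⟮θ⟯
    have hcar : ∀ y : Ω, y ∈ F ↔ y ∈ M := by
      intro y
      rw [hF, ← IntermediateField.restrictScalars_adjoin_eq_sup k K₁ ({θ} : Set Ω),
        IntermediateField.mem_restrictScalars]
    have h1 : IsAlgebraic M t :=
      isAlgebraic_of_range_le (S₁ := F) (S₂ := M) (fun s => ⟨⟨s.1, (hcar _).1 s.2⟩, rfl⟩) halg
    haveI : Algebra.IsAlgebraic K₁ M := IntermediateField.isAlgebraic_adjoin_simple hθ.isIntegral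
    have h2 : IsAlgebraic K₁ t := h1.restrictScalars K₁
    have h3 : t ∈ algebraicClosure K₁ Ω := mem_algebraicClosure_iff.2 h2
    have h4 : ξ ∈ algebraicClosure K₁ Ω := by
      have : ξ = algebraMap K₁ Ω ⟨ξ, hξ₁⟩ := rfl
      rw [this]; exact IntermediateField.algebraMap_mem _ _
    have h5 : β b ∈ algebraicClosure K₁ Ω := by
      have : β b = algebraMap K₁ Ω ⟨β b, hK₀₁ (hβmem b)⟩ := rfl
      rw [this]; exact IntermediateField.algebraMap_mem _ _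
    have h6 : δ = (t - ξ) / β b := by
      rw [ht]; field_simp; ring
    rw [h6]
    exact mem_algebraicClosure_iff.1 (div_mem (sub_mem h3 h4) h5)
  have hθb_mem : σ b θ ∈ F ⊔ k⟮t⟯ := by
    have hδ : δ ∈ F ⊔ k⟮t⟯ := by
      have h6 : δ = (t - ξ) / β b := by
        rw [ht]; field_simp; ring
      rw [h6]
      refine div_mem (sub_mem ((le_sup_right : k⟮t⟯ ≤ F ⊔ k⟮t⟯) (mem_adjoin_simple_self k t))
        ((le_sup_left : F ≤ F ⊔ k⟮t⟯) (hK₁F hξ₁)))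
        ((le_sup_left : F ≤ F ⊔ k⟮t⟯) (hK₁F (hK₀₁ (hβmem b))))
    have hle : K₂ ⊔ k⟮θ⟯ ≤ F ⊔ k⟮t⟯ := by
      refine sup_le (sup_le (hK₁F.trans le_sup_left) ?_) ?_
      · rw [adjoin_simple_le_iff]; exact hδ
      · rw [adjoin_simple_le_iff]; exact (le_sup_left : F ≤ F ⊔ k⟮t⟯) hθF
    exact hle h4
  have hθb_sep : IsSeparable ↥(K₀ ⊔ k⟮t⟯) (σ b θ) :=
    isSeparable_map (S₁ := K₁) (S₂ := ↥(K₀ ⊔ k⟮t⟯)) ((σ b : Ω →ₐ[k] Ω) : Ω →+* Ω)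
      (fun s => ⟨⟨σ b s, hmapK₁ b ⟨s, s.2, rfl⟩⟩, rfl⟩) hθ
  have hD := sepClosed_adjoin_transc K₀ F (hK₀₁.trans hK₁F) (fun y _ h => hsep y h) t htr'
    (σ b θ) hθb_mem hθb_sep
  -- Step 5
  have hle5 : K₀ ⊔ k⟮t⟯ ≤ K₁.map (σ b : Ω →ₐ[k] Ω) := by
    refine sup_le ?_ ?_
    · intro y hy
      refine ⟨σ b⁻¹ y, hK₀₁ (hσK₀ b⁻¹ y hy), ?_⟩
      have : (σ b * σ b⁻¹) y = y := by rw [← map_mul, mul_inv_cancel, map_one]; rfl
      exact this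
    · rw [adjoin_simple_le_iff]
      exact ⟨ξ, hξ₁, hσξ b⟩
  obtain ⟨y, hy, hyθ⟩ := hle5 hD
  have : y = θ := (σ b).injective hyθ
  rw [← this]; exact hy

end Groth.Agent.Lib.BertiniFieldH5
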