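import Mathlib
import Groth.Agent.Lib.BertiniField_helper5
import Groth.Agent.Lib.AlgClosureFG_helper1

/-!
# The Bertini field lemma for `K(x_1, …, x_n)` (helper5)

`bertini_field`: Stacks 0G4G in the form "separably closed in".
-/

set_option autoImplicit false
open MvPolynomial IntermediateField
open Groth.Agent.Lib.SepTranscH5 Groth.Agent.Lib.BertiniFieldH5

namespace Groth.Agent.Lib.BertiniAutH5

universe u
variable {k K : Type u} [Field k] [Field K] [Algebra k K] {σ : Type} [DecidableEq σ]



/-- The translation-invariant linear form. -/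
noncomputable def ell (c : σ → k) (i j : σ) : MvPolynomial σ K :=
  C (algebraMap k K (c j)) * X i - C (algebraMap k K (c i)) * X j

/-- Translation by `a` in direction `c`. -/
noncomputable def shift (c : σ → k) (a : MvPolynomial σ K) : MvPolynomial σ K →ₐ[K] MvPolynomial σ K :=
  aeval (fun s => X s + C (algebraMap k K (c s)) * a)

theorem shift_X (c : σ → k) (a : MvPolynomial σ K) (s : σ) :
    shift c a (X s) = X s + C (algebraMap k K (c s)) * a := by
  simp [shift]

theorem shift_C (c : σ → k) (a : MvPolynomial σ K) (r : K) :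
    shift c a (C r) = C r := by
  simp [shift]

theorem shift_ell (c : σ → k) (a : MvPolynomial σ K) (i j : σ) :
    shift c a (ell c i j) = ell c i j := by
  simp only [ell, map_sub, map_mul, shift_X, shift_C]
  ring

/-- polynomials in the invariant linear form -/
noncomputable def apoly (c : σ → k) (i j : σ) (p : Polynomial k) : MvPolynomial σ K :=
  Polynomial.aeval (ell c i j) p

theorem shift_apoly (c : σ → k) (a : MvPolynomial σ K) (i j : σ) (p : Polynomial k) :
    shift c a (apoly c i j p) = apoly c i j p := by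
  have h := Polynomial.aeval_algHom_apply ((shift c a).restrictScalars k) (ell c i j) p
  simp only [AlgHom.coe_restrictScalars'] at h
  rw [apoly, ← h, shift_ell]

theorem apoly_add (c : σ → k) (i j : σ) (p q : Polynomial k) :
    (apoly c i j (p + q) : MvPolynomial σ K) = apoly c i j p + apoly c i j q := by
  simp [apoly]

theorem apoly_zero (c : σ → k) (i j : σ) : (apoly c i j 0 : MvPolynomial σ K) = 0 := by
  simp [apoly]

theorem shift_comp (c : σ → k) (a : MvPolynomial σ K) (i j : σ) (p : Polynomial k) :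
    (shift c a).comp (shift c (apoly c i j p)) = shift c (a + apoly c i j p) := by
  apply MvPolynomial.algHom_ext
  intro s
  rw [AlgHom.comp_apply, shift_X, map_add, map_mul, shift_X, shift_C, shift_apoly, shift_X]
  ring

theorem shift_zero (c : σ → k) : shift c (0 : MvPolynomial σ K) = AlgHom.id K _ := by
  apply MvPolynomial.algHom_ext
  intro s
  rw [shift_X]; simp

/-- the automorphism of the polynomial ring -/
noncomputable def sigmaP (c : σ → k) (i j : σ) (p : Polynomial k) :
    MvPolynomial σ K ≃ₐ[K] MvPolynomial σ K :=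
  AlgEquiv.ofAlgHom (shift c (apoly c i j p)) (shift c (apoly c i j (-p)))
    (by rw [shift_comp, ← apoly_add, add_neg_cancel, apoly_zero, shift_zero])
    (by rw [shift_comp, ← apoly_add, neg_add_cancel, apoly_zero, shift_zero])

theorem sigmaP_apply (c : σ → k) (i j : σ) (p : Polynomial k) (f : MvPolynomial σ K) :
    sigmaP c i j p f = shift c (apoly c i j p) f := rfl

/-- `p ↦ p(ℓ)` is injective when `i ≠ j` and `c i ≠ 0`. -/
theorem apoly_ne_zero (c : σ → k) (i j : σ) (hij : i ≠ j) (hc : c i ≠ 0)
    (p : Polynomial k) (hp : p ≠ 0) : (apoly c i j p : MvPolynomial σ K) ≠ 0 := by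
  intro h0
  let ρ : MvPolynomial σ K →ₐ[K] Polynomial K :=
    aeval (fun s => if s = j then Polynomial.C (-(algebraMap k K (c i))⁻¹) * Polynomial.X else 0)
  have hρ : ρ (ell c i j) = Polynomial.X := by
    have hcK : algebraMap k K (c i) ≠ 0 := by
      rwa [Ne, map_eq_zero]
    simp only [ell, map_sub, map_mul, ρ, aeval_X, aeval_C, if_neg hij, if_true, mul_zero, zero_sub]
    rw [Polynomial.algebraMap_apply, Algebra.algebraMap_self, RingHom.id_apply]
    rw [← neg_mul, ← mul_assoc, ← Polynomial.C_neg, ← Polynomial.C_mul]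
    rw [show -(algebraMap k K) (c i) * -((algebraMap k K) (c i))⁻¹ = 1 by field_simp]
    simp
  have h1 := Polynomial.aeval_algHom_apply (ρ.restrictScalars k) (ell c i j) p
  simp only [AlgHom.coe_restrictScalars'] at h1
  rw [hρ] at h1
  have h2 : ρ (apoly c i j p) = 0 := by rw [h0, map_zero]
  rw [apoly, ← h1] at h2
  have h3 : Polynomial.aeval (Polynomial.X : Polynomial K) p = p.map (algebraMap k K) := by
    exact Polynomial.aeval_X_left_eq_map p
  rw [h3] at h2
  exact hp ((Polynomial.map_eq_zero _).1 h2)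



/-- the automorphism of the fraction field -/
noncomputable def sigmaΩ (c : σ → k) (i j : σ) (p : Polynomial k) :
    FractionRing (MvPolynomial σ K) ≃ₐ[K] FractionRing (MvPolynomial σ K) :=
  IsFractionRing.algEquivOfAlgEquiv (sigmaP c i j p)

theorem sigmaΩ_algebraMap (c : σ → k) (i j : σ) (p : Polynomial k) (f : MvPolynomial σ K) :
    sigmaΩ c i j p (algebraMap _ _ f) = algebraMap _ (FractionRing (MvPolynomial σ K))
      (shift c (apoly c i j p) f) := by
  rw [sigmaΩ, IsFractionRing.algEquivOfAlgEquiv_algebraMap, sigmaP_apply]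

theorem sigmaΩ_zero (c : σ → k) (i j : σ) (z : FractionRing (MvPolynomial σ K)) :
    sigmaΩ c i j 0 z = z := by
  obtain ⟨f, s, hs, rfl⟩ := IsFractionRing.div_surjective (A := MvPolynomial σ K) z
  rw [map_div₀, sigmaΩ_algebraMap, sigmaΩ_algebraMap, apoly_zero, shift_zero]
  rfl

theorem sigmaΩ_add (c : σ → k) (i j : σ) (p q : Polynomial k)
    (z : FractionRing (MvPolynomial σ K)) :
    sigmaΩ c i j (p + q) z = sigmaΩ c i j p (sigmaΩ c i j q z) := by
  obtain ⟨f, s, hs, rfl⟩ := IsFractionRing.div_surjective (A := MvPolynomial σ K) z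
  rw [map_div₀, map_div₀, map_div₀, sigmaΩ_algebraMap, sigmaΩ_algebraMap, sigmaΩ_algebraMap,
    sigmaΩ_algebraMap, sigmaΩ_algebraMap, sigmaΩ_algebraMap, apoly_add, ← shift_comp]
  rfl

/-- the group homomorphism -/
noncomputable def sigma (c : σ → k) (i j : σ) :
    Multiplicative (Polynomial k) →*
      (FractionRing (MvPolynomial σ K) ≃ₐ[k] FractionRing (MvPolynomial σ K)) where
  toFun p := (sigmaΩ c i j (Multiplicative.toAdd p)).restrictScalars k
  map_one' := by
    apply AlgEquiv.ext
    intro z
    exact sigmaΩ_zero c i j z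
  map_mul' := by
    intro p q
    apply AlgEquiv.ext
    intro z
    exact sigmaΩ_add c i j _ _ z

theorem sigma_apply (c : σ → k) (i j : σ) (p : Multiplicative (Polynomial k))
    (z : FractionRing (MvPolynomial σ K)) :
    sigma c i j p z = sigmaΩ c i j (Multiplicative.toAdd p) z := rfl



theorem algebraMap_C_mem (S : Set (FractionRing (MvPolynomial σ K))) (r : k) :
    algebraMap (MvPolynomial σ K) (FractionRing (MvPolynomial σ K)) (C (algebraMap k K r)) ∈
      IntermediateField.adjoin k S := by
  have : algebraMap (MvPolynomial σ K) (FractionRing (MvPolynomial σ K)) (C (algebraMap k K r)) =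
      algebraMap k (FractionRing (MvPolynomial σ K)) r := by
    rw [← MvPolynomial.algebraMap_eq, ← IsScalarTower.algebraMap_apply,
      ← IsScalarTower.algebraMap_apply]
  rw [this]
  exact IntermediateField.algebraMap_mem _ _

theorem beta_mem (c : σ → k) (i j : σ) (p : Polynomial k) :
    algebraMap (MvPolynomial σ K) (FractionRing (MvPolynomial σ K)) (apoly c i j p) ∈
      IntermediateField.adjoin k (Set.range (fun s : σ =>
        algebraMap (MvPolynomial σ K) (FractionRing (MvPolynomial σ K)) (X s))) := by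
  set Ω := FractionRing (MvPolynomial σ K)
  set K₀ := IntermediateField.adjoin k (Set.range (fun s : σ =>
        algebraMap (MvPolynomial σ K) Ω (X s)))
  have h1 := Polynomial.aeval_algHom_apply (IsScalarTower.toAlgHom k (MvPolynomial σ K) Ω)
    (ell c i j) p
  simp only [IsScalarTower.coe_toAlgHom'] at h1
  rw [apoly, ← h1]
  have hell : algebraMap (MvPolynomial σ K) Ω (ell c i j) ∈ K₀ := by
    rw [ell, map_sub, map_mul, map_mul]
    exact sub_mem (mul_mem (algebraMap_C_mem _ _) (subset_adjoin k _ ⟨i, rfl⟩))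
      (mul_mem (algebraMap_C_mem _ _) (subset_adjoin k _ ⟨j, rfl⟩))
  have h2 : Algebra.adjoin k {algebraMap (MvPolynomial σ K) Ω (ell c i j)} ≤ K₀.toSubalgebra :=
    Algebra.adjoin_le (Set.singleton_subset_iff.2 hell)
  exact h2 (Polynomial.aeval_mem_adjoin_singleton k _)



set_option maxHeartbeats 400000 in
theorem hx_indep :
    AlgebraicIndependent K (fun s : σ =>
        algebraMap (MvPolynomial σ K) (FractionRing (MvPolynomial σ K)) (X s)) := by
  exact (MvPolynomial.algebraicIndependent_X σ K).map' (f := IsScalarTower.toAlgHom K (MvPolynomial σ K) (FractionRing (MvPolynomial σ K)))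
      (IsFractionRing.injective (MvPolynomial σ K) (FractionRing (MvPolynomial σ K)))

set_option maxHeartbeats 400000 in
theorem haev (f : MvPolynomial σ K) : MvPolynomial.aeval (fun s : σ =>
        algebraMap (MvPolynomial σ K) (FractionRing (MvPolynomial σ K)) (X s)) f = algebraMap (MvPolynomial σ K) (FractionRing (MvPolynomial σ K)) f := by
  have := MvPolynomial.aeval_algebraMap_apply (R := K) (A := MvPolynomial σ K) (B := (FractionRing (MvPolynomial σ K))) (x := X) f
  rw [MvPolynomial.aeval_X_left, AlgHom.id_apply] at this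
  exact this

set_option maxHeartbeats 400000 in
theorem mem_adjoin_top (θ : FractionRing (MvPolynomial σ K)) :
    θ ∈ IntermediateField.adjoin K (Set.range (fun s : σ =>
        algebraMap (MvPolynomial σ K) (FractionRing (MvPolynomial σ K)) (X s))) := by
  obtain ⟨f, s, hs, rfl⟩ := IsFractionRing.div_surjective (A := MvPolynomial σ K) θ
  rw [IntermediateField.mem_adjoin_range_iff]
  exact ⟨f, s, by rw [haev, haev]⟩

set_option maxHeartbeats 400000 in
/-- `k(x)` is separably closed in `K(x)` when `k` is separably closed in `K`. -/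
theorem sepClosed_ratfunc
    (hsc : ∀ α : K, IsSeparable k α → α ∈ Set.range (algebraMap k K))
    (θ : FractionRing (MvPolynomial σ K))
    (hθ : IsSeparable (IntermediateField.adjoin k (Set.range (fun s : σ =>
        algebraMap (MvPolynomial σ K) (FractionRing (MvPolynomial σ K)) (X s)))) θ) :
    θ ∈ IntermediateField.adjoin k (Set.range (fun s : σ =>
        algebraMap (MvPolynomial σ K) (FractionRing (MvPolynomial σ K)) (X s))) :=
  coreD hsc _ hx_indep θ (mem_adjoin_top θ) hθ



local notation "ΩΩ" => FractionRing (MvPolynomial σ K)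

set_option maxHeartbeats 400000 in
theorem essFiniteType_frac [Finite σ] (hfg : (⊤ : IntermediateField k K).FG) :
    Algebra.EssFiniteType k (FractionRing (MvPolynomial σ K)) := by
  haveI : Algebra.EssFiniteType k K := IntermediateField.fg_top_iff.mp hfg
  haveI : Algebra.EssFiniteType K (MvPolynomial σ K) := inferInstance
  haveI : Algebra.EssFiniteType (MvPolynomial σ K) (FractionRing (MvPolynomial σ K)) :=
    Algebra.EssFiniteType.of_isLocalization _ (nonZeroDivisors (MvPolynomial σ K))
  haveI : Algebra.EssFiniteType K (FractionRing (MvPolynomial σ K)) :=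
    Algebra.EssFiniteType.comp K (MvPolynomial σ K) _
  exact Algebra.EssFiniteType.comp k K _

set_option maxHeartbeats 400000 in
theorem finite_sepClosure [Finite σ] (hfg : (⊤ : IntermediateField k K).FG)
    (M : IntermediateField k (FractionRing (MvPolynomial σ K))) :
    FiniteDimensional M (separableClosure M (FractionRing (MvPolynomial σ K))) := by
  haveI := essFiniteType_frac (σ := σ) hfg
  haveI : Algebra.EssFiniteType M (FractionRing (MvPolynomial σ K)) :=
    Algebra.EssFiniteType.of_comp k M _
  haveI := Groth.Agent.Lib.AlgClosureFGH1.algClosure_finite (k := M) (K := FractionRing (MvPolynomial σ K))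
    (IntermediateField.fg_top M _)
  have hle : separableClosure M (FractionRing (MvPolynomial σ K)) ≤
      algebraicClosure M (FractionRing (MvPolynomial σ K)) := fun a ha =>
    mem_algebraicClosure_iff.mpr ((mem_separableClosure_iff.mp ha).isIntegral.isAlgebraic)
  exact Module.Finite.of_injective (IntermediateField.inclusion hle).toLinearMap
    (IntermediateField.inclusion_injective hle)


theorem transc_of_ind {k Ω : Type*} [Field k] [Field Ω] [Algebra k Ω] {σ : Type*}
    (x : σ → Ω) (ξ δ : Ω) (hind : AlgebraicIndependent k (Sum.elim x ![ξ, δ])) :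
    Transcendental ↥(IntermediateField.adjoin k (Set.range x) ⊔ k⟮ξ⟯) δ := by
  have h := hind.transcendental_adjoin (s := {Sum.inr 1}ᶜ) (i := Sum.inr 1) (by simp)
  have himg : Sum.elim x ![ξ, δ] '' {Sum.inr 1}ᶜ = Set.range x ∪ {ξ} := by
    ext y
    constructor
    · rintro ⟨a, ha, rfl⟩
      rcases a with i | i
      · exact Or.inl ⟨i, rfl⟩
      · fin_cases i
        · exact Or.inr rfl
        · exact absurd rfl ha
    · rintro (⟨i, rfl⟩ | hy)
      · exact ⟨Sum.inl i, by simp, rfl⟩
      · rw [Set.mem_singleton_iff] at hy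
        exact ⟨Sum.inr 0, by simp, by simp [hy]⟩
  rw [himg] at h
  have h2 := IntermediateField.transcendental_adjoin_iff.2 h
  rw [IntermediateField.adjoin_union] at h2
  exact h2

theorem exists_pair {k Ω : Type*} [Field k] [Field Ω] [Algebra k Ω] {σ : Type*} [Fintype σ]
    (x γ : σ → Ω) (c : σ → k) (hx0 : ∀ i, x i ≠ 0)
    (htr : Transcendental ↥(IntermediateField.adjoin k (Set.range x) ⊔ k⟮∑ i, γ i * x i⟯)
      (∑ i, c i • γ i)) : ∃ i j, i ≠ j ∧ c i ≠ 0 := by
  classical
  by_contra hne
  push Not at hne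
  apply htr
  by_cases hc : ∃ i, c i ≠ 0
  · obtain ⟨i, hi⟩ := hc
    have hall : ∀ j, j = i := fun j => by
      by_contra hji
      exact hi (hne i j (fun h => hji h.symm))
    have h1 : ∑ j, γ j * x j = γ i * x i :=
      Finset.sum_eq_single i (fun j _ hj => absurd (hall j) hj) (fun h => absurd (Finset.mem_univ i) h)
    have h2 : ∑ j, c j • γ j = c i • γ i :=
      Finset.sum_eq_single i (fun j _ hj => absurd (hall j) hj) (fun h => absurd (Finset.mem_univ i) h)
    have hξ : (∑ j, γ j * x j) ∈ IntermediateField.adjoin k (Set.range x) ⊔ k⟮∑ i, γ i * x i⟯ :=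
      (le_sup_right : k⟮∑ i, γ i * x i⟯ ≤ _) (mem_adjoin_simple_self k _)
    have hxi : x i ∈ IntermediateField.adjoin k (Set.range x) ⊔ k⟮∑ i, γ i * x i⟯ :=
      (le_sup_left : IntermediateField.adjoin k (Set.range x) ≤ _) (subset_adjoin k _ ⟨i, rfl⟩)
    have h3 : ∑ j, c j • γ j = (c i • ∑ j, γ j * x j) / x i := by
      rw [h1, h2, Algebra.smul_def, Algebra.smul_def]
      field_simp [hx0 i]
    have hmem : (∑ j, c j • γ j) ∈ IntermediateField.adjoin k (Set.range x) ⊔ k⟮∑ i, γ i * x i⟯ := by
      rw [h3]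
      exact div_mem (IntermediateField.smul_mem _ hξ) hxi
    exact isAlgebraic_algebraMap (⟨_, hmem⟩ :
      ↥(IntermediateField.adjoin k (Set.range x) ⊔ k⟮∑ i, γ i * x i⟯))
  · push Not at hc
    have : ∑ j, c j • γ j = 0 := Finset.sum_eq_zero (fun j _ => by rw [hc j, zero_smul])
    rw [this]
    exact isAlgebraic_zero



local notation "xx" => (fun s : σ => algebraMap (MvPolynomial σ K) (FractionRing (MvPolynomial σ K)) (X s))

set_option maxHeartbeats 400000 in
theorem sigma_xi [Fintype σ] (c : σ → k) (g : σ → K) (i j : σ) (p : Multiplicative (Polynomial k)) :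
    sigma c i j p (∑ s, algebraMap K ΩΩ (g s) * xx s) =
      (∑ s, algebraMap K ΩΩ (g s) * xx s) +
        algebraMap (MvPolynomial σ K) ΩΩ (apoly c i j (Multiplicative.toAdd p)) *
          algebraMap K ΩΩ (∑ s, c s • g s) := by
  have h1 : (∑ s, algebraMap K ΩΩ (g s) * xx s) =
      algebraMap (MvPolynomial σ K) ΩΩ (∑ s, C (g s) * X s) := by
    rw [map_sum]
    refine Finset.sum_congr rfl (fun s _ => ?_)
    rw [map_mul, ← MvPolynomial.algebraMap_eq, ← IsScalarTower.algebraMap_apply]
  have h2 : algebraMap K ΩΩ (∑ s, c s • g s) =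
      algebraMap (MvPolynomial σ K) ΩΩ (C (∑ s, c s • g s)) := by
    rw [← MvPolynomial.algebraMap_eq, ← IsScalarTower.algebraMap_apply]
  rw [h1, h2, sigma_apply, sigmaΩ_algebraMap, ← map_mul, ← map_add]
  congr 1
  rw [map_sum, map_sum, Finset.mul_sum, ← Finset.sum_add_distrib]
  refine Finset.sum_congr rfl (fun s _ => ?_)
  rw [map_mul, shift_C, shift_X, Algebra.smul_def, map_mul]
  ring

set_option maxHeartbeats 400000 in
theorem sigma_delta (c : σ → k) (i j : σ) (p : Multiplicative (Polynomial k)) (r : K) :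
    sigma c i j p (algebraMap K ΩΩ r) = algebraMap K ΩΩ r := by
  rw [sigma_apply]
  exact (sigmaΩ c i j (Multiplicative.toAdd p)).commutes r

set_option maxHeartbeats 400000 in
theorem sigma_mem (c : σ → k) (i j : σ) (p : Multiplicative (Polynomial k)) (y : ΩΩ)
    (hy : y ∈ IntermediateField.adjoin k (Set.range xx)) :
    sigma c i j p y ∈ IntermediateField.adjoin k (Set.range xx) := by
  have hle : (IntermediateField.adjoin k (Set.range xx)).map
      ((sigma c i j p : ΩΩ ≃ₐ[k] ΩΩ) : ΩΩ →ₐ[k] ΩΩ) ≤ IntermediateField.adjoin k (Set.range xx) := by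
    rw [IntermediateField.adjoin_map, IntermediateField.adjoin_le_iff]
    rintro _ ⟨_, ⟨s, rfl⟩, rfl⟩
    show sigma c i j p (algebraMap (MvPolynomial σ K) ΩΩ (X s)) ∈ _
    rw [sigma_apply, sigmaΩ_algebraMap, shift_X, map_add, map_mul]
    exact add_mem (subset_adjoin k _ ⟨s, rfl⟩) (mul_mem (algebraMap_C_mem _ _) (beta_mem c i j _))
  exact hle ⟨y, hy, rfl⟩




set_option maxHeartbeats 400000 in
theorem bertini_field [Fintype σ] (hfg : (⊤ : IntermediateField k K).FG)
    (hsc : ∀ α : K, IsSeparable k α → α ∈ Set.range (algebraMap k K))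
    (g : σ → K) (c : σ → k)
    (hind : AlgebraicIndependent k (Sum.elim xx
      ![∑ s, algebraMap K ΩΩ (g s) * xx s, algebraMap K ΩΩ (∑ s, c s • g s)]))
    (θ : ΩΩ)
    (hθ : IsSeparable ↥(IntermediateField.adjoin k
      (Set.range xx ∪ {∑ s, algebraMap K ΩΩ (g s) * xx s})) θ) :
    θ ∈ IntermediateField.adjoin k (Set.range xx ∪ {∑ s, algebraMap K ΩΩ (g s) * xx s}) := by
  have htr := transc_of_ind xx _ _ hind
  have hx0 : ∀ s : σ, xx s ≠ 0 := fun s =>
    (map_ne_zero_iff _ (IsFractionRing.injective (MvPolynomial σ K) ΩΩ)).2 (X_ne_zero s)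
  have hδ' : algebraMap K ΩΩ (∑ s, c s • g s) = ∑ s, c s • algebraMap K ΩΩ (g s) := by
    rw [map_sum]
    refine Finset.sum_congr rfl (fun s _ => ?_)
    rw [Algebra.smul_def, Algebra.smul_def, map_mul, ← IsScalarTower.algebraMap_apply]
  obtain ⟨i₀, j₀, hij, hc⟩ := exists_pair xx (fun s => algebraMap K ΩΩ (g s)) c hx0
    (by rw [← hδ']; exact htr)
  rw [IntermediateField.adjoin_union] at hθ ⊢
  exact bertini_abstract (IntermediateField.adjoin k (Set.range xx)) _ _ (sigma c i₀ j₀)
    (fun p => algebraMap (MvPolynomial σ K) ΩΩ (apoly c i₀ j₀ (Multiplicative.toAdd p)))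
    (fun p => beta_mem c i₀ j₀ _)
    (fun p hp => (map_ne_zero_iff _ (IsFractionRing.injective (MvPolynomial σ K) ΩΩ)).2
      (apoly_ne_zero c i₀ j₀ hij hc _ (fun h0 => hp (toAdd_eq_zero.1 h0))))
    (sigma_xi c g i₀ j₀) (fun p => sigma_delta c i₀ j₀ p _) (sigma_mem c i₀ j₀)
    (sepClosed_ratfunc hsc) htr (finite_sepClosure hfg _) θ hθ

end Groth.Agent.Lib.BertiniAutH5
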