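import Mathlib
import Groth.Agent.Lib.GeomIrr4_lead

/-!
# Geometric irreducibility of `Spec K → Spec k` vs separable closedness (helper5)
-/

set_option autoImplicit false
universe u
open scoped TensorProduct
open CategoryTheory CategoryTheory.Limits AlgebraicGeometry

namespace Groth.Agent.Lib.BertiniBridgeH5

theorem geomIrr_iff_sepClosed {k K : Type u} [Field k] [Field K] [Algebra k K] :
    GeometricallyIrreducible (Spec.map (CommRingCat.ofHom (algebraMap k K))) ↔
      ∀ α : K, IsSeparable k α → α ∈ Set.range (algebraMap k K) := by
  rw [← Groth.Agent.Lib.GeomIrr.main_S2150, geometricallyIrreducible_iff,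
    geometrically_iff_of_commRing_of_isClosedUnderIsomorphisms]
  refine forall_congr' (fun L => forall_congr' (fun _ => forall_congr' (fun _ => ?_)))
  have h1 : IrreducibleSpace ↥(pullback (Spec.map (CommRingCat.ofHom (algebraMap k K)))
      (Spec.map (CommRingCat.ofHom (algebraMap k L)))) ↔
      IrreducibleSpace (PrimeSpectrum (K ⊗[k] L)) :=
    (pullbackSpecIso k K L).hom.homeomorph.irreducibleSpace_iff
  rw [h1, PrimeSpectrum.irreducibleSpace_iff_isPrime_nilradical,
    PrimeSpectrum.irreducibleSpace_iff_isPrime_nilradical]
  constructor
  · intro h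
    exact Groth.Agent.Lib.GeomIrr.nilradical_isPrime_of_injective
      (Algebra.TensorProduct.comm k L K).toRingEquiv.toRingHom
      (Algebra.TensorProduct.comm k L K).injective (by exact h)
  · intro h
    exact Groth.Agent.Lib.GeomIrr.nilradical_isPrime_of_injective
      (Algebra.TensorProduct.comm k K L).toRingEquiv.toRingHom
      (Algebra.TensorProduct.comm k K L).injective (by exact h)

end Groth.Agent.Lib.BertiniBridgeH5
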