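import Mathlib
import Groth.Agent.Lib.DMod48_helper6
import Groth.Agent.Lib.BettiProj_helper6

set_option autoImplicit false
universe u
open TensorProduct CategoryTheory CategoryTheory.Limits

namespace Groth.Agent.Lib.BettiProj_helper6

open Groth.Agent.Lib.DMod_helper6 Groth.Agent.ExtendScalarsLib

section splitting

variable {R : Type u} [CommRing R] {X₁ X₂ X₃ : Type u} [AddCommGroup X₁] [Module R X₁]
  [AddCommGroup X₂] [Module R X₂] [AddCommGroup X₃] [Module R X₃]

theorem projective_homology (f : X₁ →ₗ[R] X₂) (g : X₂ →ₗ[R] X₃)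
    (hgf : ∀ x, f x ∈ LinearMap.ker g) [Module.Projective R X₃] [Module.Finite R X₂]
    (hM : Module.Projective R (X₂ ⧸ LinearMap.range f))
    (hN : Module.Projective R (X₃ ⧸ LinearMap.range g)) :
    Module.Projective R
      (LinearMap.ker g ⧸ LinearMap.range (f.codRestrict (LinearMap.ker g) hgf)) ∧
    Module.Finite R
      (LinearMap.ker g ⧸ LinearMap.range (f.codRestrict (LinearMap.ker g) hgf)) := by
  haveI := hM
  haveI := hN
  -- range g is projective
  haveI hrg : Module.Projective R (LinearMap.range g) := by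
    obtain ⟨t, ht⟩ := Module.projective_lifting_property (LinearMap.range g).mkQ LinearMap.id
      (Submodule.mkQ_surjective _)
    have ht' : ∀ y, (LinearMap.range g).mkQ (t y) = y := fun y => LinearMap.congr_fun ht y
    let ρ : X₃ →ₗ[R] LinearMap.range g :=
      (LinearMap.id - t ∘ₗ (LinearMap.range g).mkQ).codRestrict (LinearMap.range g) (fun x => by
        rw [← Submodule.Quotient.mk_eq_zero, ← Submodule.mkQ_apply, LinearMap.sub_apply,
          map_sub, LinearMap.comp_apply, ht', LinearMap.id_apply, sub_self])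
    refine Module.Projective.of_split (LinearMap.range g).subtype ρ (LinearMap.ext fun x => ?_)
    apply Subtype.ext
    have hx : (LinearMap.range g).mkQ (x : X₃) = 0 := by
      rw [Submodule.mkQ_apply, Submodule.Quotient.mk_eq_zero]
      exact x.2
    change (x : X₃) - t ((LinearMap.range g).mkQ (x : X₃)) = x
    rw [hx, map_zero, sub_zero]
  obtain ⟨σ, hσ⟩ := Module.projective_lifting_property g.rangeRestrict LinearMap.id
    g.surjective_rangeRestrict
  have hσ' : ∀ y, g (σ y) = y := fun y => congrArg Subtype.val (LinearMap.congr_fun hσ y)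
  let pr : X₂ →ₗ[R] LinearMap.ker g :=
    (LinearMap.id - σ ∘ₗ g.rangeRestrict).codRestrict (LinearMap.ker g) (fun x => by
      rw [LinearMap.mem_ker, LinearMap.sub_apply, map_sub, LinearMap.comp_apply, hσ',
        LinearMap.id_apply]
      exact sub_self _)
  have hpr : ∀ x : LinearMap.ker g, pr x = x := by
    intro x
    apply Subtype.ext
    have hx : g.rangeRestrict (x : X₂) = 0 := Subtype.ext (LinearMap.mem_ker.1 x.2)
    change (x : X₂) - σ (g.rangeRestrict (x : X₂)) = x
    rw [hx, map_zero, sub_zero]
  let r : (X₂ ⧸ LinearMap.range f) →ₗ[R]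
      (LinearMap.ker g ⧸ LinearMap.range (f.codRestrict (LinearMap.ker g) hgf)) :=
    (LinearMap.range f).liftQ
      ((LinearMap.range (f.codRestrict (LinearMap.ker g) hgf)).mkQ ∘ₗ pr) (by
        rintro _ ⟨y, rfl⟩
        rw [LinearMap.mem_ker, LinearMap.comp_apply, Submodule.mkQ_apply,
          Submodule.Quotient.mk_eq_zero]
        exact ⟨y, (hpr (f.codRestrict (LinearMap.ker g) hgf y)).symm⟩)
  let incl : (LinearMap.ker g ⧸ LinearMap.range (f.codRestrict (LinearMap.ker g) hgf)) →ₗ[R]
      (X₂ ⧸ LinearMap.range f) :=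
    (LinearMap.range (f.codRestrict (LinearMap.ker g) hgf)).liftQ
      ((LinearMap.range f).mkQ ∘ₗ (LinearMap.ker g).subtype) (by
        rintro _ ⟨y, rfl⟩
        rw [LinearMap.mem_ker, LinearMap.comp_apply, Submodule.mkQ_apply,
          Submodule.Quotient.mk_eq_zero]
        exact ⟨y, rfl⟩)
  have hri : ∀ z, r (incl z) = z := by
    intro z
    obtain ⟨x, rfl⟩ := Submodule.Quotient.mk_surjective _ z
    change (LinearMap.range (f.codRestrict (LinearMap.ker g) hgf)).mkQ (pr (x : X₂)) = _
    rw [hpr x]
    rfl
  have hri' : r ∘ₗ incl = LinearMap.id := LinearMap.ext hri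
  exact ⟨Module.Projective.of_split incl r hri',
    Module.Finite.of_surjective r (fun z => ⟨incl z, hri z⟩)⟩

end splitting

section ranks

variable {R : Type u} [CommRing R]

/-- rank of the fibre of a linear map at a prime -/
noncomputable def rk {X Y : Type u} [AddCommGroup X] [Module R X] [AddCommGroup Y] [Module R Y]
    (d : X →ₗ[R] Y) (p : PrimeSpectrum R) : ℕ :=
  Module.finrank p.asIdeal.ResidueField (LinearMap.range (d.baseChange p.asIdeal.ResidueField))

theorem F1 {X Y : Type u} [AddCommGroup X] [Module R X] [AddCommGroup Y] [Module R Y]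
    [Module.Finite R Y] [Module.Free R Y] (d : X →ₗ[R] Y) (p : PrimeSpectrum R) :
    fr (Y ⧸ LinearMap.range d) p + rk d p = Module.finrank R Y := by
  haveI := nontrivial_of_prime p
  have hex : Function.Exact (d.baseChange p.asIdeal.ResidueField)
      ((LinearMap.range d).mkQ.baseChange p.asIdeal.ResidueField) := by
    rw [LinearMap.baseChange_eq_ltensor, LinearMap.baseChange_eq_ltensor]
    exact lTensor_exact _ (LinearMap.exact_map_mkQ_range d) (Submodule.mkQ_surjective _)
  have hsurj : Function.Surjective
      ((LinearMap.range d).mkQ.baseChange p.asIdeal.ResidueField) := by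
    rw [LinearMap.baseChange_eq_ltensor]
    exact LinearMap.lTensor_surjective _ (Submodule.mkQ_surjective _)
  have hker : LinearMap.ker ((LinearMap.range d).mkQ.baseChange p.asIdeal.ResidueField) =
      LinearMap.range (d.baseChange p.asIdeal.ResidueField) :=
    Submodule.ext fun y => by rw [LinearMap.mem_ker, LinearMap.mem_range]; exact hex y
  have h1 := LinearMap.finrank_range_add_finrank_ker
    ((LinearMap.range d).mkQ.baseChange p.asIdeal.ResidueField)
  have h0 : Module.finrank p.asIdeal.ResidueField (p.asIdeal.ResidueField ⊗[R] Y) =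
      Module.finrank R Y := Module.finrank_baseChange
  rw [LinearMap.range_eq_top.2 hsurj, finrank_top, hker, h0] at h1
  exact h1

variable (P : CochainComplex (ModuleCat.{u} R) ℤ)

lemma finrank_range_ES_map {X Y : ModuleCat.{u} R} (d : X ⟶ Y) (p : PrimeSpectrum R) :
    Module.finrank p.asIdeal.ResidueField
      (LinearMap.range ((ES R p.asIdeal.ResidueField).map d).hom) = rk d.hom p := by
  have : LinearMap.range (d.hom.baseChange p.asIdeal.ResidueField) =
      Submodule.map (extendScalarsEquivTensor (S := p.asIdeal.ResidueField) Y).toLinearMap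
        (LinearMap.range ((ES R p.asIdeal.ResidueField).map d).hom) := by
    apply le_antisymm
    · rintro _ ⟨z, rfl⟩
      refine ⟨((ES R p.asIdeal.ResidueField).map d).hom
        ((extendScalarsEquivTensor (S := p.asIdeal.ResidueField) X).symm z), ⟨_, rfl⟩, ?_⟩
      change extendScalarsEquivTensor (S := p.asIdeal.ResidueField) Y _ = _
      rw [ES_map_comm, LinearEquiv.apply_symm_apply]
    · rintro _ ⟨_, ⟨x, rfl⟩, rfl⟩
      exact ⟨extendScalarsEquivTensor (S := p.asIdeal.ResidueField) X x, (ES_map_comm d x).symm⟩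
  unfold rk
  rw [this, LinearEquiv.finrank_map_eq]

theorem F2 [∀ j, Module.Finite R (P.X j)] [∀ j, Module.Free R (P.X j)] (i : ℤ)
    (p : PrimeSpectrum R) :
    Module.finrank p.asIdeal.ResidueField
      ((((ModuleCat.extendScalars (algebraMap R p.asIdeal.ResidueField)).mapHomologicalComplex
        (ComplexShape.up ℤ)).obj P).homology i)
      + rk (P.d (i - 1) i).hom p + rk (P.d i (i + 1)).hom p = Module.finrank R (P.X i) := by
  haveI := nontrivial_of_prime p
  let V := ((ES R p.asIdeal.ResidueField).mapHomologicalComplex (ComplexShape.up ℤ)).obj P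
  haveI : ∀ j, Module.Finite p.asIdeal.ResidueField (V.X j) := fun j =>
    finite_ES (P.X j) inferInstance
  let S := V.sc' (i - 1) i (i + 1)
  let e : V.homology i ≃ₗ[p.asIdeal.ResidueField]
      (LinearMap.ker S.g.hom ⧸ LinearMap.range S.moduleCatToCycles) :=
    (V.homologyIsoSc' (i - 1) i (i + 1) (by simp) (by simp) ≪≫
      S.moduleCatHomologyIso).toLinearEquiv
  have h1 := e.finrank_eq
  haveI : Module.Finite p.asIdeal.ResidueField S.X₂ :=
    (inferInstance : Module.Finite p.asIdeal.ResidueField (V.X i))
  have h2 := Submodule.finrank_quotient_add_finrank (LinearMap.range S.moduleCatToCycles)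
  have h3 : Module.finrank p.asIdeal.ResidueField (LinearMap.range S.moduleCatToCycles) =
      Module.finrank p.asIdeal.ResidueField (LinearMap.range S.f.hom) := by
    have hle : LinearMap.range S.f.hom ≤ LinearMap.ker S.g.hom := by
      rintro _ ⟨x, rfl⟩
      exact S.moduleCat_zero_apply x
    rw [LinearMap.range_codRestrict]
    exact (Submodule.comapSubtypeEquivOfLe hle).finrank_eq
  have h4 := LinearMap.finrank_range_add_finrank_ker S.g.hom
  have h5 : Module.finrank p.asIdeal.ResidueField S.X₂ = Module.finrank R (P.X i) := by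
    change Module.finrank p.asIdeal.ResidueField ((ES R p.asIdeal.ResidueField).obj (P.X i)) = _
    rw [(extendScalarsEquivTensor (S := p.asIdeal.ResidueField) (P.X i)).finrank_eq]
    exact Module.finrank_baseChange
  have h6 : Module.finrank p.asIdeal.ResidueField (LinearMap.range S.f.hom) =
      rk (P.d (i - 1) i).hom p := finrank_range_ES_map (P.d (i - 1) i) p
  have h7 : Module.finrank p.asIdeal.ResidueField (LinearMap.range S.g.hom) =
      rk (P.d i (i + 1)).hom p := finrank_range_ES_map (P.d i (i + 1)) p
  change Module.finrank p.asIdeal.ResidueField (V.homology i) + _ + _ = _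
  omega

end ranks

section main

variable {R : Type u} [CommRing R] [IsReduced R]

lemma fg_range {X Y : Type u} [AddCommGroup X] [Module R X] [AddCommGroup Y] [Module R Y]
    [Module.Finite R X] (d : X →ₗ[R] Y) : (LinearMap.range d).FG := by
  rw [LinearMap.range_eq_map]
  exact Module.Finite.fg_top.map d

theorem main (P : CochainComplex (ModuleCat.{u} R) ℤ)
    (hP : ∀ j : ℤ, Module.Finite R (P.X j) ∧ Module.Free R (P.X j)) (i : ℤ)
    (hconst : IsLocallyConstant fun p : PrimeSpectrum R =>
      Module.finrank p.asIdeal.ResidueField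
        ((((ModuleCat.extendScalars (algebraMap R p.asIdeal.ResidueField)).mapHomologicalComplex
          (ComplexShape.up ℤ)).obj P).homology i)) :
    Module.Finite R (P.homology i) ∧ Module.Projective R (P.homology i) := by
  haveI : ∀ j, Module.Finite R (P.X j) := fun j => (hP j).1
  haveI : ∀ j, Module.Free R (P.X j) := fun j => (hP j).2
  let β : PrimeSpectrum R → ℕ := fun p =>
      Module.finrank p.asIdeal.ResidueField
        ((((ModuleCat.extendScalars (algebraMap R p.asIdeal.ResidueField)).mapHomologicalComplex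
          (ComplexShape.up ℤ)).obj P).homology i)
  have key : ∀ p, β p + Module.finrank R (P.X (i + 1)) =
      fr (P.X i ⧸ LinearMap.range (P.d (i - 1) i).hom) p +
        fr (P.X (i + 1) ⧸ LinearMap.range (P.d i (i + 1)).hom) p := by
    intro p
    have h1 := F2 P i p
    have h2 := F1 (P.d (i - 1) i).hom p
    have h3 := F1 (P.d i (i + 1)).hom p
    change β p + _ + _ = _ at h1
    omega
  have hloc : ∀ p, ∃ U : Set (PrimeSpectrum R), IsOpen U ∧ p ∈ U ∧
      (∀ q ∈ U, fr (P.X i ⧸ LinearMap.range (P.d (i - 1) i).hom) q =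
        fr (P.X i ⧸ LinearMap.range (P.d (i - 1) i).hom) p) ∧
      (∀ q ∈ U, fr (P.X (i + 1) ⧸ LinearMap.range (P.d i (i + 1)).hom) q =
        fr (P.X (i + 1) ⧸ LinearMap.range (P.d i (i + 1)).hom) p) := by
    intro p
    obtain ⟨U1, hU1, hp1, h1⟩ :=
      exists_open_fr_le (P.X i ⧸ LinearMap.range (P.d (i - 1) i).hom) p
    obtain ⟨U2, hU2, hp2, h2⟩ :=
      exists_open_fr_le (P.X (i + 1) ⧸ LinearMap.range (P.d i (i + 1)).hom) p
    have hU3 : IsOpen (β ⁻¹' {β p}) := hconst.isOpen_fiber _
    refine ⟨U1 ∩ U2 ∩ (β ⁻¹' {β p}), (hU1.inter hU2).inter hU3, ⟨⟨hp1, hp2⟩, rfl⟩, ?_, ?_⟩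
    · rintro q ⟨⟨hq1, hq2⟩, hq3⟩
      have e1 := key q
      have e2 := key p
      have e3 := h1 q hq1
      have e4 := h2 q hq2
      have e5 : β q = β p := hq3
      omega
    · rintro q ⟨⟨hq1, hq2⟩, hq3⟩
      have e1 := key q
      have e2 := key p
      have e3 := h1 q hq1
      have e4 := h2 q hq2
      have e5 : β q = β p := hq3
      omega
  haveI : ∀ j, Module.FinitePresentation R (P.X j) := fun j =>
    Module.finitePresentation_of_projective R (P.X j)
  haveI : Module.FinitePresentation R (P.X i ⧸ LinearMap.range (P.d (i - 1) i).hom) :=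
    Module.finitePresentation_of_surjective (LinearMap.range (P.d (i - 1) i).hom).mkQ
      (Submodule.mkQ_surjective _) (by rw [Submodule.ker_mkQ]; exact fg_range _)
  haveI : Module.FinitePresentation R (P.X (i + 1) ⧸ LinearMap.range (P.d i (i + 1)).hom) :=
    Module.finitePresentation_of_surjective (LinearMap.range (P.d i (i + 1)).hom).mkQ
      (Submodule.mkQ_surjective _) (by rw [Submodule.ker_mkQ]; exact fg_range _)
  have hM : Module.Projective R (P.X i ⧸ LinearMap.range (P.d (i - 1) i).hom) :=
    Module.projective_of_localization_maximal (fun I hI => by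
      obtain ⟨U, hU, hpU, hcM, -⟩ := hloc ⟨I, hI.isPrime⟩
      haveI := free_localization_of_fr_const
        (P.X i ⧸ LinearMap.range (P.d (i - 1) i).hom) ⟨I, hI.isPrime⟩ U hU hpU hcM
      infer_instance)
  have hN : Module.Projective R (P.X (i + 1) ⧸ LinearMap.range (P.d i (i + 1)).hom) :=
    Module.projective_of_localization_maximal (fun I hI => by
      obtain ⟨U, hU, hpU, -, hcN⟩ := hloc ⟨I, hI.isPrime⟩
      haveI := free_localization_of_fr_const
        (P.X (i + 1) ⧸ LinearMap.range (P.d i (i + 1)).hom) ⟨I, hI.isPrime⟩ U hU hpU hcN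
      infer_instance)
  let S := P.sc' (i - 1) i (i + 1)
  haveI : Module.Projective R S.X₃ := (inferInstance : Module.Projective R (P.X (i + 1)))
  haveI : Module.Finite R S.X₂ := (inferInstance : Module.Finite R (P.X i))
  obtain ⟨hproj, hfin⟩ := projective_homology S.f.hom S.g.hom S.moduleCat_zero_apply hM hN
  let e : P.homology i ≃ₗ[R] (LinearMap.ker S.g.hom ⧸ LinearMap.range S.moduleCatToCycles) :=
    (P.homologyIsoSc' (i - 1) i (i + 1) (by simp) (by simp) ≪≫
      S.moduleCatHomologyIso).toLinearEquiv
  exact ⟨Module.Finite.equiv e.symm, Module.Projective.of_equiv e.symm⟩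

end main

end Groth.Agent.Lib.BettiProj_helper6
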