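import Mathlib
import Groth.Agent.Lib.HypersurfaceHilbert_helper1

/-! Affine Bézout count for two plane curves without common points at infinity. -/

set_option autoImplicit false

universe u

namespace Groth.Agent.Lib.BezoutAffH1

open MvPolynomial

attribute [local instance] MvPolynomial.gradedAlgebra

noncomputable section

variable (k : Type u) [Field k]

/-- homogeneous pieces of `k[X,Y,T]` -/
abbrev HS (d : ℕ) : Submodule k (MvPolynomial (Fin 3) k) := homogeneousSubmodule (Fin 3) k d

instance (d : ℕ) : Module.Finite k (HS k d) :=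
  Module.Finite.iff_fg.mpr (MvPolynomial.homogeneousSubmodule_fg _ _ d)

def sig (c : k) : Fin 3 → MvPolynomial (Fin 2) k :=
  Fin.cons (X 0) (Fin.cons (X 1) (Fin.cons (C c) Fin.elim0))

def eps (c : k) : MvPolynomial (Fin 3) k →ₐ[k] MvPolynomial (Fin 2) k := aeval (sig k c)

def iot : MvPolynomial (Fin 2) k →ₐ[k] MvPolynomial (Fin 3) k := aeval ![X 0, X 1]

theorem eps_X0 (c : k) : eps k c (X 0) = X 0 := by rw [eps, aeval_X]; rfl

theorem eps_X1 (c : k) : eps k c (X 1) = X 1 := by rw [eps, aeval_X]; rfl

theorem eps_X2 (c : k) : eps k c (X 2) = C c := by rw [eps, aeval_X]; rfl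

theorem iot_X0 : iot k (X 0) = X 0 := by simp [iot]

theorem iot_X1 : iot k (X 1) = X 1 := by simp [iot]

theorem iot_C (c : k) : iot k (C c) = C c := by simp [iot]

theorem eps_iot (c : k) (s : MvPolynomial (Fin 2) k) : eps k c (iot k s) = s := by
  have h : (eps k c).comp (iot k) = AlgHom.id k _ := by
    apply MvPolynomial.algHom_ext
    intro i
    fin_cases i
    · show eps k c (iot k (X 0)) = X 0
      rw [iot_X0, eps_X0]
    · show eps k c (iot k (X 1)) = X 1
      rw [iot_X1, eps_X1]
  exact DFunLike.congr_fun h s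

theorem sub_iot_eps_mem (c : k) (h : MvPolynomial (Fin 3) k) :
    h - iot k (eps k c h) ∈ Ideal.span {(X 2 - C c : MvPolynomial (Fin 3) k)} := by
  induction h using MvPolynomial.induction_on with
  | C a =>
    have h1 : eps k c (C a) = C a := by simp [eps]
    rw [h1, iot_C, sub_self]
    exact zero_mem _
  | add p q hp hq =>
    rw [map_add, map_add]
    convert add_mem hp hq using 1
    ring
  | mul_X p i hp =>
    have key : (X i : MvPolynomial (Fin 3) k) - iot k (eps k c (X i)) ∈
        Ideal.span {(X 2 - C c : MvPolynomial (Fin 3) k)} := by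
      fin_cases i
      · show (X 0 : MvPolynomial (Fin 3) k) - iot k (eps k c (X 0)) ∈ _
        rw [eps_X0, iot_X0, sub_self]; exact zero_mem _
      · show (X 1 : MvPolynomial (Fin 3) k) - iot k (eps k c (X 1)) ∈ _
        rw [eps_X1, iot_X1, sub_self]; exact zero_mem _
      · show (X 2 : MvPolynomial (Fin 3) k) - iot k (eps k c (X 2)) ∈ _
        rw [eps_X2, iot_C]; exact Ideal.subset_span rfl
    have e : p * X i - iot k (eps k c (p * X i)) =
        (p - iot k (eps k c p)) * X i + iot k (eps k c p) * (X i - iot k (eps k c (X i))) := by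
      rw [map_mul, map_mul]; ring
    rw [e]
    exact add_mem (Ideal.mul_mem_right _ _ hp) (Ideal.mul_mem_left _ _ key)

theorem mem_span_of_eps_eq_zero (c : k) (h : MvPolynomial (Fin 3) k) (hh : eps k c h = 0) :
    h ∈ Ideal.span {(X 2 - C c : MvPolynomial (Fin 3) k)} := by
  have h1 := sub_iot_eps_mem k c h
  rwa [hh, map_zero, sub_zero] at h1

theorem X2_mem : (X 2 : MvPolynomial (Fin 3) k) ∈ HS k 1 := isHomogeneous_X k 2

theorem comp_mem_I (f g : MvPolynomial (Fin 3) k) (n m : ℕ) (hf : f.IsHomogeneous n)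
    (hg : g.IsHomogeneous m) (x : MvPolynomial (Fin 3) k) (hx : x ∈ Ideal.span {f, g}) (e : ℕ) :
    (DirectSum.decompose (HS k) x e : MvPolynomial (Fin 3) k) ∈ Ideal.span {f, g} := by
  classical
  obtain ⟨a, b, rfl⟩ := Ideal.mem_span_pair.mp hx
  rw [DirectSum.decompose_add, DirectSum.add_apply, Submodule.coe_add,
    DirectSum.coe_decompose_mul_of_right_mem (HS k) e (show f ∈ HS k n from hf),
    DirectSum.coe_decompose_mul_of_right_mem (HS k) e (show g ∈ HS k m from hg)]
  refine add_mem ?_ ?_
  · split_ifs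
    · exact Ideal.mul_mem_left _ _ (Ideal.subset_span (by simp))
    · exact zero_mem _
  · split_ifs
    · exact Ideal.mul_mem_left _ _ (Ideal.subset_span (by simp))
    · exact zero_mem _

theorem eps_isHomogeneous (g : MvPolynomial (Fin 3) k) (m : ℕ) (hg : g.IsHomogeneous m) :
    (eps k 0 g).IsHomogeneous m := by
  have h1 := hg.aeval (sig k 0) (n := 1) (by
    intro i
    fin_cases i
    · exact isHomogeneous_X k 0
    · exact isHomogeneous_X k 1
    · show (C (0 : k) : MvPolynomial (Fin 2) k).IsHomogeneous 1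
      rw [map_zero]; exact isHomogeneous_zero _ _ _)
  rwa [one_mul] at h1

theorem T_cancel (f g : MvPolynomial (Fin 3) k) (m : ℕ)
    (hg : g.IsHomogeneous m) (hm : 0 < m)
    (hT : IsRelPrime (eps k 0 f) (eps k 0 g)) (h : MvPolynomial (Fin 3) k)
    (hh : X 2 * h ∈ Ideal.span {f, g}) : h ∈ Ideal.span {f, g} := by
  have hf0 : eps k 0 f ≠ 0 := by
    intro h0
    rw [h0, isRelPrime_zero_left] at hT
    obtain ⟨r, hr, hgr⟩ := MvPolynomial.isUnit_iff_eq_C_of_isReduced.mp hT
    have h1 : (eps k 0 g).IsHomogeneous 0 := by rw [hgr]; exact isHomogeneous_C _ _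
    have h2 := eps_isHomogeneous k g m hg
    have h3 : eps k 0 g ≠ 0 := hT.ne_zero
    have := h2.inj_right h1 h3
    omega
  obtain ⟨a, b, hab⟩ := Ideal.mem_span_pair.mp hh
  have h1 := congrArg (eps k 0) hab
  rw [map_add, map_mul, map_mul, map_mul, eps_X2, map_zero, zero_mul] at h1
  have hdvd : eps k 0 f ∣ eps k 0 b * eps k 0 g :=
    ⟨-(eps k 0 a), by linear_combination h1⟩
  obtain ⟨c, hc⟩ := hT.dvd_of_dvd_mul_right hdvd
  have ha : eps k 0 a = -(c * eps k 0 g) := by
    apply mul_right_cancel₀ hf0
    rw [hc] at h1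
    linear_combination h1
  have ha' : eps k 0 (a + iot k c * g) = 0 := by
    rw [map_add, map_mul, eps_iot, ha]; ring
  have hb' : eps k 0 (b - iot k c * f) = 0 := by
    rw [map_sub, map_mul, eps_iot, hc]; ring
  have h2 := mem_span_of_eps_eq_zero k 0 _ ha'
  have h3 := mem_span_of_eps_eq_zero k 0 _ hb'
  rw [map_zero, sub_zero] at h2 h3
  obtain ⟨a'', ha''⟩ := Ideal.mem_span_singleton'.mp h2
  obtain ⟨b'', hb''⟩ := Ideal.mem_span_singleton'.mp h3
  have h4 : X 2 * h = X 2 * (a'' * f + b'' * g) := by
    rw [← hab]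
    linear_combination (-f) * ha'' - g * hb''
  have h5 := mul_left_cancel₀ (X_ne_zero (2 : Fin 3)) h4
  rw [h5]
  exact Ideal.mem_span_pair.mpr ⟨a'', b'', rfl⟩

theorem mem_I_of_mem_J (f g : MvPolynomial (Fin 3) k) (n m : ℕ) (hf : f.IsHomogeneous n)
    (hg : g.IsHomogeneous m)
    (hcancel : ∀ h, X 2 * h ∈ Ideal.span {f, g} → h ∈ Ideal.span {f, g})
    (j : ℕ) (γ : MvPolynomial (Fin 3) k) (hγ : γ ∈ HS k j) (i β : MvPolynomial (Fin 3) k)
    (hi : i ∈ Ideal.span {f, g}) (hγeq : γ = i + (X 2 - 1) * β) : γ ∈ Ideal.span {f, g} := by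
  classical
  have hcomp : ∀ e, (DirectSum.decompose (HS k) β e : MvPolynomial (Fin 3) k) =
      (DirectSum.decompose (HS k) i e : MvPolynomial (Fin 3) k) +
      (if 1 ≤ e then X 2 * (DirectSum.decompose (HS k) β (e - 1) : MvPolynomial (Fin 3) k) else 0) -
      (if e = j then γ else 0) := by
    intro e
    have h1 : β = i + X 2 * β - γ := by rw [hγeq]; ring
    have h2 := congrArg (fun x => (DirectSum.decompose (HS k) x e : MvPolynomial (Fin 3) k)) h1
    simp only [DirectSum.decompose_add, DirectSum.decompose_sub, DirectSum.add_apply,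
      DirectSum.sub_apply, Submodule.coe_add, Submodule.coe_sub] at h2
    rw [DirectSum.coe_decompose_mul_of_left_mem (HS k) e (X2_mem k)] at h2
    rw [h2]
    congr 1
    by_cases hej : e = j
    · rw [if_pos hej, hej]; exact DirectSum.decompose_of_mem_same _ hγ
    · rw [if_neg hej]; exact DirectSum.decompose_of_mem_ne _ hγ (fun h => hej h.symm)
  have key : ∀ e, (DirectSum.decompose (HS k) β e : MvPolynomial (Fin 3) k) +
      (if j ≤ e then X 2 ^ (e - j) * γ else 0) ∈ Ideal.span {f, g} := by
    intro e
    induction e with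
    | zero =>
      rw [hcomp 0, if_neg (by omega)]
      by_cases hj : j = 0
      · subst hj
        rw [if_pos rfl, if_pos le_rfl]
        have : (DirectSum.decompose (HS k) i 0 : MvPolynomial (Fin 3) k) + 0 - γ +
            X 2 ^ (0 - 0) * γ = (DirectSum.decompose (HS k) i 0 : MvPolynomial (Fin 3) k) := by
          simp
        rw [this]
        exact comp_mem_I k f g n m hf hg i hi 0
      · rw [if_neg (fun h => hj h.symm), if_neg (by omega)]
        simp only [add_zero, sub_zero]
        exact comp_mem_I k f g n m hf hg i hi 0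
    | succ e ih =>
      rw [hcomp (e + 1), if_pos (by omega), Nat.add_sub_cancel]
      have hi' := comp_mem_I k f g n m hf hg i hi (e + 1)
      have ih' := Ideal.mul_mem_left _ (X 2) ih
      rcases lt_trichotomy j (e + 1) with hlt | heq | hgt
      · rw [if_neg (by omega), if_pos (by omega)]
        rw [if_pos (by omega : j ≤ e)] at ih'
        have e1 : e + 1 - j = (e - j) + 1 := by omega
        have : (DirectSum.decompose (HS k) i (e + 1) : MvPolynomial (Fin 3) k) +
            X 2 * (DirectSum.decompose (HS k) β e : MvPolynomial (Fin 3) k) - 0 +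
            X 2 ^ (e + 1 - j) * γ =
            (DirectSum.decompose (HS k) i (e + 1) : MvPolynomial (Fin 3) k) +
            X 2 * ((DirectSum.decompose (HS k) β e : MvPolynomial (Fin 3) k) +
              X 2 ^ (e - j) * γ) := by
          rw [e1, pow_succ]; ring
        rw [this]
        exact add_mem hi' ih'
      · rw [if_pos heq.symm, if_pos (by omega)]
        rw [if_neg (by omega : ¬ j ≤ e)] at ih'
        have e1 : e + 1 - j = 0 := by omega
        have : (DirectSum.decompose (HS k) i (e + 1) : MvPolynomial (Fin 3) k) +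
            X 2 * (DirectSum.decompose (HS k) β e : MvPolynomial (Fin 3) k) - γ +
            X 2 ^ (e + 1 - j) * γ =
            (DirectSum.decompose (HS k) i (e + 1) : MvPolynomial (Fin 3) k) +
            X 2 * ((DirectSum.decompose (HS k) β e : MvPolynomial (Fin 3) k) + 0) := by
          rw [e1, pow_zero]; ring
        rw [this]
        exact add_mem hi' ih'
      · rw [if_neg (by omega), if_neg (by omega)]
        rw [if_neg (by omega : ¬ j ≤ e)] at ih'
        have : (DirectSum.decompose (HS k) i (e + 1) : MvPolynomial (Fin 3) k) +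
            X 2 * (DirectSum.decompose (HS k) β e : MvPolynomial (Fin 3) k) - 0 + 0 =
            (DirectSum.decompose (HS k) i (e + 1) : MvPolynomial (Fin 3) k) +
            X 2 * ((DirectSum.decompose (HS k) β e : MvPolynomial (Fin 3) k) + 0) := by
          ring
        rw [this]
        exact add_mem hi' ih'
  obtain ⟨e, he1, he2⟩ : ∃ e, j ≤ e ∧ β.totalDegree < e :=
    ⟨max j (β.totalDegree + 1), le_max_left _ _, by
      have := le_max_right j (β.totalDegree + 1); omega⟩
  have h0 : (DirectSum.decompose (HS k) β e : MvPolynomial (Fin 3) k) = 0 := by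
    have h1 : (DirectSum.decompose (HS k) β e : MvPolynomial (Fin 3) k) =
        homogeneousComponent e β := by
      rw [← DirectSum.Decomposition.decompose'_eq]
      exact decomposition.decompose'_apply β e
    rw [h1]
    exact homogeneousComponent_eq_zero e β he2
  have h1 := key e
  rw [h0, zero_add, if_pos he1] at h1
  have hpow : ∀ r : ℕ, X 2 ^ r * γ ∈ Ideal.span {f, g} → γ ∈ Ideal.span {f, g} := by
    intro r
    induction r with
    | zero => intro h; simpa using h
    | succ r ih =>
      intro h
      apply ih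
      apply hcancel
      rw [← mul_assoc, ← pow_succ']
      exact h
  exact hpow _ h1

theorem choose_identity (e n m : ℕ) :
    (e + n + m + 2).choose 2 + (e + 2).choose 2 =
      (e + m + 2).choose 2 + (e + n + 2).choose 2 + n * m := by
  have h : (((e + n + m + 2).choose 2 + (e + 2).choose 2 : ℕ) : ℚ) =
      (((e + m + 2).choose 2 + (e + n + 2).choose 2 + n * m : ℕ) : ℚ) := by
    push_cast
    rw [Nat.cast_choose_two, Nat.cast_choose_two, Nat.cast_choose_two, Nat.cast_choose_two]
    push_cast
    ring
  exact_mod_cast h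

variable (f g : MvPolynomial (Fin 3) k)

/-- the ideal `(f(X,Y,1), g(X,Y,1))` -/
abbrev Istar : Ideal (MvPolynomial (Fin 2) k) := Ideal.span {eps k 1 f, eps k 1 g}

abbrev Q := MvPolynomial (Fin 2) k ⧸ Istar k f g

def Phi (j : ℕ) : HS k j →ₗ[k] Q k f g :=
  ((Ideal.Quotient.mkₐ k (Istar k f g)).toLinearMap.comp (eps k 1).toLinearMap).domRestrict
    (HS k j)

theorem Phi_apply (j : ℕ) (x : HS k j) :
    Phi k f g j x = Ideal.Quotient.mk (Istar k f g) (eps k 1 x.1) := rfl

theorem mem_ker_Phi_iff (n m : ℕ) (hf : f.IsHomogeneous n) (hg : g.IsHomogeneous m)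
    (hcancel : ∀ h, X 2 * h ∈ Ideal.span {f, g} → h ∈ Ideal.span {f, g})
    (j : ℕ) (x : HS k j) :
    x ∈ LinearMap.ker (Phi k f g j) ↔ (x : MvPolynomial (Fin 3) k) ∈ Ideal.span {f, g} := by
  rw [LinearMap.mem_ker, Phi_apply, Ideal.Quotient.eq_zero_iff_mem]
  constructor
  · intro hx
    obtain ⟨a, b, hab⟩ := Ideal.mem_span_pair.mp hx
    have h1 : eps k 1 (x.1 - (iot k a * f + iot k b * g)) = 0 := by
      rw [map_sub, map_add, map_mul, map_mul, eps_iot, eps_iot, hab, sub_self]
    have h2 := mem_span_of_eps_eq_zero k 1 _ h1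
    rw [map_one] at h2
    obtain ⟨β, hβ⟩ := Ideal.mem_span_singleton'.mp h2
    exact mem_I_of_mem_J k f g n m hf hg hcancel j x.1 x.2 (iot k a * f + iot k b * g) β
      (Ideal.mem_span_pair.mpr ⟨_, _, rfl⟩) (by linear_combination -hβ)
  · intro hx
    obtain ⟨a, b, hab⟩ := Ideal.mem_span_pair.mp hx
    rw [← hab, map_add, map_mul, map_mul]
    exact Ideal.mem_span_pair.mpr ⟨_, _, rfl⟩

theorem finrank_HS (d : ℕ) : Module.finrank k (HS k d) = (d + 2).choose 2 :=
  Groth.Agent.Lib.HypersurfaceHilbert.finrank_homog k 2 d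

theorem finrank_ker_Phi (n m : ℕ) (hf : f.IsHomogeneous n) (hg : g.IsHomogeneous m)
    (hg0 : g ≠ 0) (hfg : IsRelPrime f g)
    (hcancel : ∀ h, X 2 * h ∈ Ideal.span {f, g} → h ∈ Ideal.span {f, g}) (e : ℕ) :
    Module.finrank k (LinearMap.ker (Phi k f g (e + n + m))) + (e + 2).choose 2 =
      (e + m + 2).choose 2 + (e + n + 2).choose 2 := by
  classical
  let μ : (HS k (e + m) × HS k (e + n)) →ₗ[k] HS k (e + n + m) :=
    { toFun := fun p => ⟨f * p.1.1 + g * p.2.1, by
        have h1 := hf.mul p.1.2
        have h2 := hg.mul p.2.2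
        rw [show n + (e + m) = e + n + m by omega] at h1
        rw [show m + (e + n) = e + n + m by omega] at h2
        exact h1.add h2⟩
      map_add' := fun p q => by
        apply Subtype.ext
        simp only [Prod.fst_add, Prod.snd_add, Submodule.coe_add]
        ring
      map_smul' := fun c p => by
        apply Subtype.ext
        simp only [Prod.smul_fst, Prod.smul_snd, Submodule.coe_smul, RingHom.id_apply,
          mul_smul_comm, smul_add] }
  let ν : HS k e →ₗ[k] (HS k (e + m) × HS k (e + n)) :=
    { toFun := fun c => (⟨g * c.1, by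
          have h1 := hg.mul c.2
          rwa [show m + e = e + m by omega] at h1⟩,
        ⟨-(f * c.1), by
          have h1 := (hf.mul c.2).neg
          rwa [show n + e = e + n by omega] at h1⟩)
      map_add' := fun c d => by
        apply Prod.ext <;> apply Subtype.ext
        · simp only [Submodule.coe_add, Prod.fst_add]; ring
        · simp only [Submodule.coe_add, Prod.snd_add]; ring
      map_smul' := fun c d => by
        apply Prod.ext <;> apply Subtype.ext
        · simp only [Submodule.coe_smul, Prod.smul_fst, RingHom.id_apply, mul_smul_comm]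
        · simp only [Submodule.coe_smul, Prod.smul_snd, RingHom.id_apply, mul_smul_comm,
            smul_neg] }
  have hνinj : Function.Injective ν := by
    intro c d hcd
    have h1 : g * c.1 = g * d.1 := congrArg (fun p => (p.1 : MvPolynomial (Fin 3) k)) hcd
    exact Subtype.ext (mul_left_cancel₀ hg0 h1)
  have hker : LinearMap.ker μ = LinearMap.range ν := by
    ext p
    rw [LinearMap.mem_ker, LinearMap.mem_range]
    constructor
    · intro hp
      have hp' : f * p.1.1 + g * p.2.1 = 0 := congrArg Subtype.val hp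
      have hdvd : g ∣ f * p.1.1 := ⟨-p.2.1, by linear_combination hp'⟩
      obtain ⟨c, hc⟩ := hfg.symm.dvd_of_dvd_mul_left hdvd
      have hb : p.2.1 = -(f * c) := by
        apply mul_left_cancel₀ hg0
        rw [hc] at hp'
        linear_combination hp'
      have hcc : g * c = g * (DirectSum.decompose (HS k) c e : MvPolynomial (Fin 3) k) := by
        have h1 := DirectSum.coe_decompose_mul_of_left_mem (HS k) (e + m) (b := c)
          (show g ∈ HS k m from hg)
        rw [if_pos (by omega), Nat.add_sub_cancel, ← hc,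
          DirectSum.decompose_of_mem_same _ p.1.2] at h1
        rw [← h1, hc]
      have hcc' := mul_left_cancel₀ hg0 hcc
      refine ⟨DirectSum.decompose (HS k) c e, ?_⟩
      apply Prod.ext <;> apply Subtype.ext
      · show g * (DirectSum.decompose (HS k) c e : MvPolynomial (Fin 3) k) = p.1.1
        rw [← hcc, hc]
      · show -(f * (DirectSum.decompose (HS k) c e : MvPolynomial (Fin 3) k)) = p.2.1
        rw [← hcc', hb]
    · rintro ⟨c, rfl⟩
      apply Subtype.ext
      show f * (g * c.1) + g * (-(f * c.1)) = 0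
      ring
  have hrange : LinearMap.range μ = LinearMap.ker (Phi k f g (e + n + m)) := by
    ext x
    rw [mem_ker_Phi_iff k f g n m hf hg hcancel, LinearMap.mem_range]
    constructor
    · rintro ⟨p, rfl⟩
      exact Ideal.mem_span_pair.mpr ⟨p.1.1, p.2.1, by
        show p.1.1 * f + p.2.1 * g = f * p.1.1 + g * p.2.1
        ring⟩
    · intro hx
      obtain ⟨a, b, hab⟩ := Ideal.mem_span_pair.mp hx
      have h1 := DirectSum.decompose_of_mem_same (HS k) x.2
      rw [← hab, DirectSum.decompose_add, DirectSum.add_apply, Submodule.coe_add,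
        DirectSum.coe_decompose_mul_of_right_mem (HS k) (e + n + m) (show f ∈ HS k n from hf),
        DirectSum.coe_decompose_mul_of_right_mem (HS k) (e + n + m) (show g ∈ HS k m from hg),
        if_pos (by omega), if_pos (by omega), show e + n + m - n = e + m by omega,
        show e + n + m - m = e + n by omega] at h1
      refine ⟨(DirectSum.decompose (HS k) a (e + m), DirectSum.decompose (HS k) b (e + n)), ?_⟩
      apply Subtype.ext
      show f * (DirectSum.decompose (HS k) a (e + m) : MvPolynomial (Fin 3) k) +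
        g * (DirectSum.decompose (HS k) b (e + n) : MvPolynomial (Fin 3) k) = x.1
      rw [← hab, ← h1]
      ring
  have h1 := LinearMap.finrank_range_add_finrank_ker μ
  rw [hker, LinearMap.finrank_range_of_inj hνinj, hrange, Module.finrank_prod, finrank_HS,
    finrank_HS, finrank_HS] at h1
  exact h1

theorem range_Phi_mono (j : ℕ) :
    LinearMap.range (Phi k f g j) ≤ LinearMap.range (Phi k f g (j + 1)) := by
  rintro _ ⟨x, rfl⟩
  refine ⟨⟨X 2 * x.1, (X2_mem k).mul x.2 |> fun h => by
    rwa [show 1 + j = j + 1 by omega] at h⟩, ?_⟩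
  rw [Phi_apply, Phi_apply]
  show Ideal.Quotient.mk _ (eps k 1 (X 2 * x.1)) = _
  rw [map_mul, eps_X2, map_one, one_mul]

theorem main10827' (n m : ℕ) (hf : f.IsHomogeneous n) (hg : g.IsHomogeneous m)
    (hm : 0 < m) (hg0 : g ≠ 0) (hfg : IsRelPrime f g)
    (hT : IsRelPrime (eps k 0 f) (eps k 0 g)) :
    Module.finrank k (Q k f g) = n * m := by
  have hcancel := T_cancel k f g m hg hm hT
  have hfin : ∀ e, Module.finrank k (LinearMap.range (Phi k f g (e + n + m))) = n * m := by
    intro e
    have h1 := LinearMap.finrank_range_add_finrank_ker (Phi k f g (e + n + m))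
    have h2 := finrank_ker_Phi k f g n m hf hg hg0 hfg hcancel e
    have h3 := choose_identity e n m
    rw [finrank_HS] at h1
    generalize n * m = p at *
    omega
  have hmono : Monotone (fun j => LinearMap.range (Phi k f g j)) :=
    monotone_nat_of_le_succ (range_Phi_mono k f g)
  have hle : ∀ j, LinearMap.range (Phi k f g j) ≤ LinearMap.range (Phi k f g (0 + n + m)) := by
    intro j
    rcases le_or_gt j (0 + n + m) with hj | hj
    · exact hmono hj
    · obtain ⟨e, rfl⟩ : ∃ e, j = e + n + m := ⟨j - n - m, by omega⟩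
      have h1 : LinearMap.range (Phi k f g (0 + n + m)) ≤ LinearMap.range (Phi k f g (e + n + m)) :=
        hmono (by omega)
      have h2 := Submodule.eq_of_le_of_finrank_eq h1 (by rw [hfin, hfin])
      rw [h2]
  have htop : LinearMap.range (Phi k f g (0 + n + m)) = ⊤ := by
    rw [eq_top_iff]
    rintro q -
    obtain ⟨s, rfl⟩ := Ideal.Quotient.mk_surjective q
    have h1 : s = eps k 1 (iot k s) := (eps_iot k 1 s).symm
    rw [h1, ← sum_homogeneousComponent (iot k s), map_sum, map_sum]
    refine Submodule.sum_mem _ fun j _ => ?_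
    apply hle j
    exact ⟨⟨homogeneousComponent j (iot k s), homogeneousComponent_mem j _⟩, rfl⟩
  have h1 := hfin 0
  rw [htop, finrank_top] at h1
  exact h1

end

theorem main10827 (k : Type u) [Field k] (n m : ℕ)
    (f g : MvPolynomial (Fin 3) k) (hf : f.IsHomogeneous n) (hg : g.IsHomogeneous m)
    (hn : 0 < n) (hm : 0 < m) (hf0 : f ≠ 0) (hg0 : g ≠ 0) (hfg : IsRelPrime f g)
    (hT : IsRelPrime
      (MvPolynomial.aeval (Fin.cons (MvPolynomial.X 0) (Fin.cons (MvPolynomial.X 1)
        (Fin.cons 0 Fin.elim0)) : Fin 3 → MvPolynomial (Fin 2) k) f)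
      (MvPolynomial.aeval (Fin.cons (MvPolynomial.X 0) (Fin.cons (MvPolynomial.X 1)
        (Fin.cons 0 Fin.elim0)) : Fin 3 → MvPolynomial (Fin 2) k) g)) :
    Module.finrank k (MvPolynomial (Fin 2) k ⧸ Ideal.span
      ({MvPolynomial.aeval (Fin.cons (MvPolynomial.X 0) (Fin.cons (MvPolynomial.X 1)
          (Fin.cons 1 Fin.elim0)) : Fin 3 → MvPolynomial (Fin 2) k) f,
        MvPolynomial.aeval (Fin.cons (MvPolynomial.X 0) (Fin.cons (MvPolynomial.X 1)
          (Fin.cons 1 Fin.elim0)) : Fin 3 → MvPolynomial (Fin 2) k) g} :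
        Set (MvPolynomial (Fin 2) k))) = n * m := by
  have e1 : (Fin.cons (X 0) (Fin.cons (X 1) (Fin.cons 1 Fin.elim0)) :
      Fin 3 → MvPolynomial (Fin 2) k) = sig k 1 := by simp [sig]
  have e0 : (Fin.cons (X 0) (Fin.cons (X 1) (Fin.cons 0 Fin.elim0)) :
      Fin 3 → MvPolynomial (Fin 2) k) = sig k 0 := by simp [sig]
  rw [e0] at hT
  rw [e1]
  exact main10827' k f g n m hf hg hm hg0 hfg hT

end Groth.Agent.Lib.BezoutAffH1
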