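import Mathlib

/-!
# The split index category `Δ_⊥` (helper7)

`DB`: objects those of `WithInitial SimplexCategory`, morphisms `x ⟶ y` the `⊥`-preserving monotone
maps `WithBot (Fin (sz x)) → WithBot (Fin (sz y))`.  The functor `Ψ : WithInitial Δ ⥤ DB` is the
identity on objects.  In `DB` the object `star` is initial and terminal.
APPEND-ONLY once landed.
-/

set_option autoImplicit false
set_option backward.isDefEq.respectTransparency false
set_option backward.isDefEq.respectTransparency.types false
set_option linter.style.haveILetI false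
set_option linter.unusedSectionVars false

open CategoryTheory CategoryTheory.Limits Opposite

namespace Groth.Agent.Lib.CechSplitH7

/-- number of points of an object of the augmented simplex category -/
@[reducible] def sz : WithInitial SimplexCategory → ℕ
  | .star => 0
  | .of n => n.len + 1

@[simp] theorem sz_star : sz WithInitial.star = 0 := rfl
@[simp] theorem sz_of (n : SimplexCategory) : sz (WithInitial.of n) = n.len + 1 := rfl

/-- the split index category -/
structure DB where mk ::
  /-- underlying object -/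
  un : WithInitial SimplexCategory

/-- morphisms of `DB` -/
def DBHom (x y : DB) : Type :=
  {g : WithBot (Fin (sz x.un)) →o WithBot (Fin (sz y.un)) // g ⊥ = ⊥}

instance : Category DB where
  Hom x y := DBHom x y
  id x := ⟨OrderHom.id, rfl⟩
  comp g h := ⟨h.1.comp g.1, by show h.1 (g.1 ⊥) = ⊥; rw [g.2, h.2]⟩
  id_comp f := Subtype.ext (OrderHom.ext _ _ rfl)
  comp_id f := Subtype.ext (OrderHom.ext _ _ rfl)
  assoc f g h := Subtype.ext (OrderHom.ext _ _ rfl)

/-- the underlying function of a morphism -/
def DB.fn {x y : DB} (g : x ⟶ y) : WithBot (Fin (sz x.un)) → WithBot (Fin (sz y.un)) :=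
  fun i => (show DBHom x y from g).1 i

theorem DB.fn_bot {x y : DB} (g : x ⟶ y) : DB.fn g ⊥ = ⊥ := (show DBHom x y from g).2

theorem DB.fn_mono {x y : DB} (g : x ⟶ y) : Monotone (DB.fn g) :=
  (show DBHom x y from g).1.monotone

@[simp] theorem DB.fn_id (x : DB) (i : WithBot (Fin (sz x.un))) : DB.fn (𝟙 x) i = i := rfl

@[simp] theorem DB.fn_comp {x y z : DB} (g : x ⟶ y) (h : y ⟶ z) (i : WithBot (Fin (sz x.un))) :
    DB.fn (g ≫ h) i = DB.fn h (DB.fn g i) := rfl

theorem DB.hom_ext {x y : DB} (g h : x ⟶ y)
    (H : ∀ i : Fin (sz x.un), DB.fn g (i : WithBot (Fin (sz x.un))) = DB.fn h i) : g = h := by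
  apply Subtype.ext
  apply OrderHom.ext
  funext i
  induction i using WithBot.recBotCoe with
  | bot => exact (DB.fn_bot g).trans (DB.fn_bot h).symm
  | coe i => exact H i

/-- constructor for morphisms -/
def DB.homMk {x y : DB} (g : Fin (sz x.un) → WithBot (Fin (sz y.un))) (hg : Monotone g) : x ⟶ y :=
  (⟨⟨fun i => WithBot.recBotCoe ⊥ g i, by
    intro a b hab
    induction a using WithBot.recBotCoe with
    | bot => exact bot_le
    | coe a =>
      induction b using WithBot.recBotCoe with
      | bot => exact absurd hab (by simp)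
      | coe b => exact hg (WithBot.coe_le_coe.1 hab)⟩, rfl⟩ : DBHom x y)

@[simp] theorem DB.fn_homMk {x y : DB} (g : Fin (sz x.un) → WithBot (Fin (sz y.un)))
    (hg : Monotone g) (i : Fin (sz x.un)) : DB.fn (DB.homMk g hg) (i : WithBot _) = g i := rfl

/-- the monotone map of a morphism of the augmented simplex category -/
def ordOf : ∀ {x y : WithInitial SimplexCategory}, (x ⟶ y) → (Fin (sz x) →o Fin (sz y))
  | .of _, .of _, φ => (WithInitial.down φ).toOrderHom
  | .star, _, _ => ⟨fun i => i.elim0, fun i => i.elim0⟩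
  | .of _, .star, φ => (WithInitial.false_of_to_star φ).elim

theorem ordOf_id (x : WithInitial SimplexCategory) (i : Fin (sz x)) : ordOf (𝟙 x) i = i := by
  cases x with
  | of n => rfl
  | star => exact i.elim0

theorem ordOf_comp {x y z : WithInitial SimplexCategory} (a : x ⟶ y) (b : y ⟶ z) (i : Fin (sz x)) :
    ordOf (a ≫ b) i = ordOf b (ordOf a i) := by
  cases x with
  | star => exact i.elim0
  | of l =>
    cases y with
    | star => exact (WithInitial.false_of_to_star a).elim
    | of m =>
      cases z with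
      | star => exact (WithInitial.false_of_to_star b).elim
      | of n => rfl

/-- the functor from the augmented simplex category, identity on objects -/
def Ψ : WithInitial SimplexCategory ⥤ DB where
  obj x := ⟨x⟩
  map {x y} a := DB.homMk (fun i => ((ordOf a i : Fin (sz y)) : WithBot (Fin (sz y))))
    (fun i j hij => WithBot.coe_le_coe.2 ((ordOf a).monotone hij))
  map_id x := by
    apply DB.hom_ext
    intro i
    rw [DB.fn_homMk, ordOf_id]
    rfl
  map_comp a b := by
    apply DB.hom_ext
    intro i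
    rw [DB.fn_homMk, DB.fn_comp, DB.fn_homMk, DB.fn_homMk, ordOf_comp]

@[simp] theorem Ψ_obj (x : WithInitial SimplexCategory) : Ψ.obj x = ⟨x⟩ := rfl

@[simp] theorem fn_Ψ_map {x y : WithInitial SimplexCategory} (a : x ⟶ y) (i : Fin (sz x)) :
    DB.fn (Ψ.map a) (i : WithBot (Fin (sz x))) = ((ordOf a i : Fin (sz y)) : WithBot (Fin (sz y))) :=
  rfl

/-- the star object of `DB` -/
abbrev DB.star : DB := ⟨WithInitial.star⟩

theorem DB.hom_from_star_ext {y : DB} (g h : DB.star ⟶ y) : g = h :=
  DB.hom_ext g h (fun i => i.elim0)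

theorem DB.hom_to_star_ext {x : DB} (g h : x ⟶ DB.star) : g = h := by
  apply DB.hom_ext
  intro i
  have h1 : ∀ w : WithBot (Fin (sz DB.star.un)), w = ⊥ := by
    intro w
    induction w using WithBot.recBotCoe with
    | bot => rfl
    | coe j => exact j.elim0
  rw [h1 (DB.fn g i), h1 (DB.fn h i)]

/-- the morphism to `star` -/
def DB.toStar (x : DB) : x ⟶ DB.star := DB.homMk (fun _ => ⊥) (fun _ _ _ => le_rfl)

/-- the contraction `τ : [sz x] ⟶ x` of `DB`: `0 ↦ ⊥`, `k+1 ↦ k` -/
def DB.τ (x : WithInitial SimplexCategory) :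
    (⟨WithInitial.of (SimplexCategory.mk (sz x))⟩ : DB) ⟶ ⟨x⟩ :=
  DB.homMk (x := ⟨WithInitial.of (SimplexCategory.mk (sz x))⟩) (y := ⟨x⟩)
    (fun i : Fin (sz x + 1) => Fin.cases (⊥ : WithBot (Fin (sz x)))
      (fun k : Fin (sz x) => ((k : Fin (sz x)) : WithBot (Fin (sz x)))) i)
    (by
      intro i j hij
      induction i using Fin.cases with
      | zero => exact bot_le
      | succ i =>
        induction j using Fin.cases with
        | zero => exact absurd hij (by simp [Fin.le_def])
        | succ j =>
          simp only [Fin.cases_succ]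
          exact WithBot.coe_le_coe.2 (Fin.succ_le_succ_iff.1 hij))

theorem DB.fn_τ_zero (x : WithInitial SimplexCategory) :
    DB.fn (DB.τ x) (((0 : Fin (sz x + 1)) : Fin (sz x + 1)) : WithBot (Fin (sz x + 1))) = ⊥ := rfl

theorem DB.fn_τ_succ (x : WithInitial SimplexCategory) (k : Fin (sz x)) :
    DB.fn (DB.τ x) ((k.succ : Fin (sz x + 1)) : WithBot (Fin (sz x + 1))) = (k : WithBot (Fin (sz x))) :=
  rfl

/-- the function underlying `γ` -/
def γfun {k : ℕ} {x : WithInitial SimplexCategory}
    (g : WithBot (Fin k) → WithBot (Fin (sz x))) (i : Fin k) : Fin (sz x + 1) :=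
  WithBot.recBotCoe (0 : Fin (sz x + 1)) (fun j : Fin (sz x) => j.succ) (g (i : WithBot (Fin k)))

theorem γfun_mono {k : ℕ} {x : WithInitial SimplexCategory}
    (g : WithBot (Fin k) → WithBot (Fin (sz x))) (hg : Monotone g) : Monotone (γfun g) := by
  intro i j hij
  have h := hg (WithBot.coe_le_coe.2 hij)
  unfold γfun
  generalize g (i : WithBot (Fin k)) = a at h
  generalize g (j : WithBot (Fin k)) = b at h
  induction a using WithBot.recBotCoe with
  | bot => exact Fin.zero_le _
  | coe a =>
    induction b using WithBot.recBotCoe with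
    | bot => exact absurd h (by simp)
    | coe b => exact Fin.succ_le_succ_iff.2 (WithBot.coe_le_coe.1 h)

theorem τ_γfun {k : ℕ} {x : WithInitial SimplexCategory}
    (g : WithBot (Fin k) → WithBot (Fin (sz x))) (i : Fin k) :
    DB.fn (DB.τ x) ((γfun g i : Fin (sz x + 1)) : WithBot (Fin (sz x + 1))) =
      g (i : WithBot (Fin k)) := by
  unfold γfun
  generalize g (i : WithBot (Fin k)) = a
  induction a using WithBot.recBotCoe with
  | bot => rfl
  | coe a => rfl

theorem γfun_τ (x : WithInitial SimplexCategory) (c : Fin (sz x + 1)) :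
    WithBot.recBotCoe (0 : Fin (sz x + 1)) (fun j : Fin (sz x) => j.succ)
      (DB.fn (DB.τ x) ((c : Fin (sz x + 1)) : WithBot (Fin (sz x + 1)))) = c := by
  induction c using Fin.cases with
  | zero => rfl
  | succ k => rfl

/-- the classifying map `γ : n ⟶ [sz x]` of a morphism `g : n ⟶ x` of `DB` -/
def γ {n : SimplexCategory} {x : WithInitial SimplexCategory}
    (g : (⟨WithInitial.of n⟩ : DB) ⟶ ⟨x⟩) : n ⟶ SimplexCategory.mk (sz x) :=
  SimplexCategory.Hom.mk ⟨γfun (k := n.len + 1) (x := x) (DB.fn g),
    γfun_mono (k := n.len + 1) (x := x) (DB.fn g) (DB.fn_mono g)⟩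

theorem γ_fac {n : SimplexCategory} {x : WithInitial SimplexCategory}
    (g : (⟨WithInitial.of n⟩ : DB) ⟶ ⟨x⟩) :
    Ψ.map (WithInitial.incl.map (γ g)) ≫ DB.τ x = g := by
  apply DB.hom_ext
  intro i
  exact τ_γfun (k := n.len + 1) (x := x) (DB.fn g) i

theorem γ_uniq {n : SimplexCategory} {x : WithInitial SimplexCategory}
    (g : (⟨WithInitial.of n⟩ : DB) ⟶ ⟨x⟩) (γ' : n ⟶ SimplexCategory.mk (sz x))
    (h : Ψ.map (WithInitial.incl.map γ') ≫ DB.τ x = g) : γ' = γ g := by
  ext i : 3
  subst h
  exact (γfun_τ x (γ'.toOrderHom i)).symm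

end Groth.Agent.Lib.CechSplitH7
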