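import Mathlib
import Groth.Prelude.Def_FibDesc
import Groth.Agent.Lib.CechSplit1_helper7

/-!
# The split augmented Cech nerve of a map with a section (helper7)

Uniform interface (`bs`, `pr`, `lift`) for the spaces of `FibDesc.cechAug f`, and for a section `s`
of `f` the functor `Yp f s h : DBᵒᵖ ⥤ TopCat` extending `cechAug f` along `Ψ.op`.
APPEND-ONLY once landed.
-/

set_option autoImplicit false
set_option backward.isDefEq.respectTransparency false
set_option backward.isDefEq.respectTransparency.types false
set_option linter.style.haveILetI false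
set_option linter.unusedSectionVars false

universe u

open CategoryTheory CategoryTheory.Limits Opposite

namespace Groth.Agent.Lib.CechSplitH7

open FibDesc

variable {X S : TopCat.{u}} (f : X ⟶ S)

/-- the spaces of the augmented Cech nerve -/
noncomputable abbrev P (x : WithInitial SimplexCategory) : TopCat.{u} := (cechAug f).obj (op x)

/-- structure map to the base -/
noncomputable def bs : ∀ x : WithInitial SimplexCategory, P f x ⟶ S
  | .of n => WidePullback.base (fun _ : Fin (n.len + 1) => f)
  | .star => 𝟙 S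

/-- projections -/
noncomputable def pr : ∀ (x : WithInitial SimplexCategory) (_ : Fin (sz x)), P f x ⟶ X
  | .of n, i => WidePullback.π (fun _ : Fin (n.len + 1) => f) i
  | .star, i => i.elim0

theorem pr_f (x : WithInitial SimplexCategory) (i : Fin (sz x)) : pr f x i ≫ f = bs f x := by
  cases x with
  | of n => exact WidePullback.π_arrow _ i
  | star => exact i.elim0

/-- the universal property -/
noncomputable def lift : ∀ (x : WithInitial SimplexCategory) {T : TopCat.{u}} (b : T ⟶ S)
    (c : Fin (sz x) → (T ⟶ X)) (_ : ∀ i, c i ≫ f = b), T ⟶ P f x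
  | .of _, _, b, c, h => WidePullback.lift b c h
  | .star, _, b, _, _ => b

@[reassoc (attr := simp)]
theorem lift_bs (x : WithInitial SimplexCategory) {T : TopCat.{u}} (b : T ⟶ S)
    (c : Fin (sz x) → (T ⟶ X)) (h : ∀ i, c i ≫ f = b) : lift f x b c h ≫ bs f x = b := by
  cases x with
  | of n => exact WidePullback.lift_base _ _ _ _
  | star => exact Category.comp_id _

@[reassoc (attr := simp)]
theorem lift_pr (x : WithInitial SimplexCategory) {T : TopCat.{u}} (b : T ⟶ S)
    (c : Fin (sz x) → (T ⟶ X)) (h : ∀ i, c i ≫ f = b) (i : Fin (sz x)) :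
    lift f x b c h ≫ pr f x i = c i := by
  cases x with
  | of n => exact WidePullback.lift_π _ _ _ _ _
  | star => exact i.elim0

theorem P_hom_ext (x : WithInitial SimplexCategory) {T : TopCat.{u}} (a b : T ⟶ P f x)
    (h₀ : a ≫ bs f x = b ≫ bs f x) (h : ∀ i, a ≫ pr f x i = b ≫ pr f x i) : a = b := by
  cases x with
  | of n => exact WidePullback.hom_ext _ _ _ h h₀
  | star =>
    have ha : a ≫ 𝟙 (P f WithInitial.star) = a := Category.comp_id a
    have hb : b ≫ 𝟙 (P f WithInitial.star) = b := Category.comp_id b
    exact ha.symm.trans (h₀.trans hb)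

theorem lift_congr (x : WithInitial SimplexCategory) {T : TopCat.{u}} {b b' : T ⟶ S}
    {c c' : Fin (sz x) → (T ⟶ X)} (h : ∀ i, c i ≫ f = b) (h' : ∀ i, c' i ≫ f = b')
    (hb : b = b') (hc : ∀ i, c i = c' i) : lift f x b c h = lift f x b' c' h' := by
  subst hb
  have : c = c' := funext hc
  subst this
  rfl

/-- the maps of the augmented Cech nerve in terms of the interface -/
theorem cech_map {x y : WithInitial SimplexCategory} (a : x ⟶ y) :
    (cechAug f).map a.op =
      lift f x (bs f y) (fun i => pr f y (ordOf a i)) (fun i => pr_f f y _) := by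
  cases x with
  | of m =>
    cases y with
    | of n => rfl
    | star => exact (WithInitial.false_of_to_star a).elim
  | star =>
    cases y with
    | of n =>
      have ha : a = WithInitial.starInitial.to (WithInitial.of n) :=
        WithInitial.starInitial.hom_ext _ _
      subst ha
      rfl
    | star =>
      have ha : a = 𝟙 _ := WithInitial.starInitial.hom_ext _ _
      subst ha
      exact (cechAug f).map_id _

variable (s : S ⟶ X) (hs : s ≫ f = 𝟙 S)

/-- coordinates of the maps of the split nerve -/
noncomputable def coord {x y : DB} (g : y ⟶ x) (i : Fin (sz y.un)) : P f x.un ⟶ X :=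
  WithBot.recBotCoe (bs f x.un ≫ s) (fun j => pr f x.un j)
    (DB.fn g ((i : Fin (sz y.un)) : WithBot (Fin (sz y.un))))

include hs in
theorem coord_f {x y : DB} (g : y ⟶ x) (i : Fin (sz y.un)) :
    coord f s g i ≫ f = bs f x.un := by
  unfold coord
  generalize DB.fn g ((i : Fin (sz y.un)) : WithBot (Fin (sz y.un))) = w
  induction w using WithBot.recBotCoe with
  | bot =>
    show (bs f x.un ≫ s) ≫ f = bs f x.un
    rw [Category.assoc, hs, Category.comp_id]
  | coe j => exact pr_f f x.un j

/-- the map of the split nerve attached to a morphism of `DB` -/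
noncomputable def YpMap {x y : DB} (g : y ⟶ x) : P f x.un ⟶ P f y.un :=
  lift f y.un (bs f x.un) (fun i => coord f s g i) (fun i => coord_f f s hs g i)

@[reassoc (attr := simp)]
theorem YpMap_bs {x y : DB} (g : y ⟶ x) : YpMap f s hs g ≫ bs f y.un = bs f x.un :=
  lift_bs f _ _ _ _

@[reassoc (attr := simp)]
theorem YpMap_pr {x y : DB} (g : y ⟶ x) (i : Fin (sz y.un)) :
    YpMap f s hs g ≫ pr f y.un i = coord f s g i :=
  lift_pr f _ _ _ _ i

theorem YpMap_coord {x y z : DB} (g : y ⟶ x) (h : z ⟶ y) (i : Fin (sz z.un)) :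
    YpMap f s hs g ≫ coord f s h i = coord f s (h ≫ g) i := by
  unfold coord
  rw [DB.fn_comp]
  generalize DB.fn h ((i : Fin (sz z.un)) : WithBot (Fin (sz z.un))) = w
  induction w using WithBot.recBotCoe with
  | bot =>
    rw [DB.fn_bot]
    show YpMap f s hs g ≫ bs f y.un ≫ s = bs f x.un ≫ s
    rw [YpMap_bs_assoc]
  | coe j =>
    show YpMap f s hs g ≫ pr f y.un j = _
    rw [YpMap_pr]
    rfl

theorem YpMap_id (x : DB) : YpMap f s hs (𝟙 x) = 𝟙 _ := by
  apply P_hom_ext
  · rw [YpMap_bs, Category.id_comp]
  · intro i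
    rw [YpMap_pr, Category.id_comp]
    rfl

theorem YpMap_comp {x y z : DB} (g : y ⟶ x) (h : z ⟶ y) :
    YpMap f s hs (h ≫ g) = YpMap f s hs g ≫ YpMap f s hs h := by
  apply P_hom_ext
  · rw [YpMap_bs, Category.assoc, YpMap_bs, YpMap_bs]
  · intro i
    rw [YpMap_pr, Category.assoc, YpMap_pr, YpMap_coord]

/-- the split augmented Cech nerve -/
noncomputable def Yp : DBᵒᵖ ⥤ TopCat.{u} where
  obj d := P f d.unop.un
  map {d d'} g := YpMap f s hs g.unop
  map_id d := YpMap_id f s hs d.unop
  map_comp g h := YpMap_comp f s hs g.unop h.unop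

@[simp] theorem Yp_obj (d : DBᵒᵖ) : (Yp f s hs).obj d = P f d.unop.un := rfl

theorem Yp_map {d d' : DBᵒᵖ} (g : d ⟶ d') : (Yp f s hs).map g = YpMap f s hs g.unop := rfl

/-- the split nerve extends the Cech nerve -/
theorem cech_eq {x y : WithInitial SimplexCategory} (a : x ⟶ y) :
    (cechAug f).map a.op = (Yp f s hs).map (Ψ.map a).op := by
  rw [cech_map, Yp_map]
  rfl

end Groth.Agent.Lib.CechSplitH7
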