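import Mathlib
import Groth.Agent.Lib.DerAdjPlus_helper9

/-!
# Full faithfulness of an exact left adjoint on derived categories: the core comparison (helper7)

`adj : L ⊣ R` with `L` exact.  For a K-injective complex `I`, a quasi-isomorphism
`j : L I ⟶ J` to a K-injective complex with `R J` K-injective, the map
`Hom_D(X, I) ⟶ Hom_D(L X, L I)` induced by `L` is bijective iff post-composition with
`φ = (I ⟶ R L I ⟶ R J)` is bijective on `Hom_D(X, -)`.
APPEND-ONLY once landed.
-/

set_option autoImplicit false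
set_option backward.isDefEq.respectTransparency false
set_option backward.isDefEq.respectTransparency.types false
set_option linter.style.haveILetI false
set_option linter.unusedSectionVars false

universe w w' v v' u u'

open CategoryTheory CategoryTheory.Limits

namespace Groth.Agent.Lib.CohDescCritH7

variable {𝒜 : Type u} [Category.{v} 𝒜] [Abelian 𝒜] {ℬ : Type u'} [Category.{v'} ℬ] [Abelian ℬ]
  [HasDerivedCategory.{w} 𝒜] [HasDerivedCategory.{w'} ℬ]
  {L : 𝒜 ⥤ ℬ} {R : ℬ ⥤ 𝒜} (adj : L ⊣ R) [L.Additive] [R.Additive]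
  [PreservesFiniteLimits L] [PreservesFiniteColimits L]

/-- the comparison map `I ⟶ R L I ⟶ R J` -/
noncomputable def phi (I : CochainComplex 𝒜 ℤ) {J : CochainComplex ℬ ℤ}
    (j : (L.mapHomologicalComplex (ComplexShape.up ℤ)).obj I ⟶ J) :
    I ⟶ (R.mapHomologicalComplex (ComplexShape.up ℤ)).obj J :=
  (DerAdjPlus.unitHC adj (ComplexShape.up ℤ)).app I ≫
    (R.mapHomologicalComplex (ComplexShape.up ℤ)).map j

lemma isIso_Qh_quotient_map {𝒞 : Type*} [Category 𝒞] [Abelian 𝒞] [HasDerivedCategory 𝒞]
    {K K' : CochainComplex 𝒞 ℤ} (f : K ⟶ K') [QuasiIso f] :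
    IsIso (DerivedCategory.Qh.map ((HomotopyCategory.quotient 𝒞 (ComplexShape.up ℤ)).map f)) := by
  rw [DerivedCategory.isIso_Qh_map_iff, HomotopyCategory.quotient_map_mem_quasiIso_iff,
    HomologicalComplex.mem_quasiIso_iff]
  infer_instance

/-- the transposed map -/
lemma homEquiv_comp (X : HomotopyCategory 𝒜 (ComplexShape.up ℤ)) (I : CochainComplex 𝒜 ℤ)
    {J : CochainComplex ℬ ℤ} (j : (L.mapHomologicalComplex (ComplexShape.up ℤ)).obj I ⟶ J)
    (y : X ⟶ (HomotopyCategory.quotient 𝒜 (ComplexShape.up ℤ)).obj I) :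
    ((DerAdjPlus.adjH adj (ComplexShape.up ℤ)).homEquiv X
      ((HomotopyCategory.quotient ℬ (ComplexShape.up ℤ)).obj J))
      ((L.mapHomotopyCategory (ComplexShape.up ℤ)).map y ≫
        (HomotopyCategory.quotient ℬ (ComplexShape.up ℤ)).map j) =
      y ≫ (HomotopyCategory.quotient 𝒜 (ComplexShape.up ℤ)).map (phi adj I j) := by
  rw [Adjunction.homEquiv_naturality_left, Adjunction.homEquiv_unit]
  congr 1

theorem core (X : HomotopyCategory 𝒜 (ComplexShape.up ℤ)) (I : CochainComplex 𝒜 ℤ)
    [I.IsKInjective] (J : CochainComplex ℬ ℤ) [J.IsKInjective]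
    (j : (L.mapHomologicalComplex (ComplexShape.up ℤ)).obj I ⟶ J) [QuasiIso j]
    [CochainComplex.IsKInjective ((R.mapHomologicalComplex (ComplexShape.up ℤ)).obj J)] :
    Function.Bijective (fun x : DerivedCategory.Qh.obj X ⟶
        DerivedCategory.Qh.obj ((HomotopyCategory.quotient 𝒜 (ComplexShape.up ℤ)).obj I) =>
        L.mapDerivedCategory.map x) ↔
      Function.Bijective (fun x : DerivedCategory.Qh.obj X ⟶
        DerivedCategory.Qh.obj ((HomotopyCategory.quotient 𝒜 (ComplexShape.up ℤ)).obj I) =>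
        x ≫ DerivedCategory.Qh.map
          ((HomotopyCategory.quotient 𝒜 (ComplexShape.up ℤ)).map (phi adj I j))) := by
  set qA := HomotopyCategory.quotient 𝒜 (ComplexShape.up ℤ) with hqA
  set qB := HomotopyCategory.quotient ℬ (ComplexShape.up ℤ) with hqB
  set LH := L.mapHomotopyCategory (ComplexShape.up ℤ) with hLH
  have b₁ : Function.Bijective (fun y : X ⟶ qA.obj I => DerivedCategory.Qh.map y) :=
    CochainComplex.IsKInjective.Qh_map_bijective X I
  have b₂ : Function.Bijective (fun z : LH.obj X ⟶ qB.obj J => DerivedCategory.Qh.map z) :=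
    CochainComplex.IsKInjective.Qh_map_bijective (LH.obj X) J
  have b₃ : Function.Bijective (fun z : X ⟶
      qA.obj ((R.mapHomologicalComplex (ComplexShape.up ℤ)).obj J) => DerivedCategory.Qh.map z) :=
    CochainComplex.IsKInjective.Qh_map_bijective X _
  let G : (X ⟶ qA.obj I) → (LH.obj X ⟶ qB.obj J) := fun y => LH.map y ≫ qB.map j
  haveI hj : IsIso (DerivedCategory.Qh.map (qB.map j)) := isIso_Qh_quotient_map j
  let fh := L.mapDerivedCategoryFactorsh
  let c₁ : (DerivedCategory.Qh.obj (LH.obj X) ⟶ DerivedCategory.Qh.obj (qB.obj J)) ≃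
      (L.mapDerivedCategory.obj (DerivedCategory.Qh.obj X) ⟶
        L.mapDerivedCategory.obj (DerivedCategory.Qh.obj (qA.obj I))) :=
    Iso.homCongr (fh.app X).symm
      ((asIso (DerivedCategory.Qh.map (qB.map j))).symm ≪≫ (fh.app (qA.obj I)).symm)
  let h := (DerAdjPlus.adjH adj (ComplexShape.up ℤ)).homEquiv X (qB.obj J)
  -- first function
  have e₁ : (fun x : DerivedCategory.Qh.obj X ⟶ DerivedCategory.Qh.obj (qA.obj I) =>
      L.mapDerivedCategory.map x) ∘ (fun y : X ⟶ qA.obj I => DerivedCategory.Qh.map y) =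
      c₁ ∘ (fun z : LH.obj X ⟶ qB.obj J => DerivedCategory.Qh.map z) ∘ G := by
    funext y
    have hn := fh.hom.naturality y
    simp only [Function.comp_apply]
    show L.mapDerivedCategory.map (DerivedCategory.Qh.map y) =
      (fh.app X).hom ≫ DerivedCategory.Qh.map (LH.map y ≫ qB.map j) ≫
        ((asIso (DerivedCategory.Qh.map (qB.map j))).symm ≪≫ (fh.app (qA.obj I)).symm).hom
    have hn' : L.mapDerivedCategory.map (DerivedCategory.Qh.map y) ≫ fh.hom.app (qA.obj I) =
        fh.hom.app X ≫ DerivedCategory.Qh.map (LH.map y) := hn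
    rw [Functor.map_comp]
    simp only [Iso.trans_hom, Iso.symm_hom, asIso_inv, Iso.app_hom, Iso.app_inv, Category.assoc,
      IsIso.hom_inv_id_assoc]
    rw [← reassoc_of% hn']
    simp
  have e₂ : (fun x : DerivedCategory.Qh.obj X ⟶ DerivedCategory.Qh.obj (qA.obj I) =>
      x ≫ DerivedCategory.Qh.map (qA.map (phi adj I j))) ∘
        (fun y : X ⟶ qA.obj I => DerivedCategory.Qh.map y) =
      (fun z : X ⟶ qA.obj ((R.mapHomologicalComplex (ComplexShape.up ℤ)).obj J) =>
        DerivedCategory.Qh.map z) ∘ h ∘ G := by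
    funext y
    simp only [Function.comp_apply]
    have := homEquiv_comp adj X I j y
    show DerivedCategory.Qh.map y ≫ DerivedCategory.Qh.map (qA.map (phi adj I j)) =
      DerivedCategory.Qh.map (h (G y))
    rw [show h (G y) = y ≫ qA.map (phi adj I j) from this, Functor.map_comp]
  rw [← Function.Bijective.of_comp_iff _ b₁, e₁,
    Function.Bijective.of_comp_iff' c₁.bijective,
    Function.Bijective.of_comp_iff' b₂,
    ← Function.Bijective.of_comp_iff _ b₁, e₂,
    Function.Bijective.of_comp_iff' b₃,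
    Function.Bijective.of_comp_iff' h.bijective]

end Groth.Agent.Lib.CohDescCritH7
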