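import Mathlib
import Groth.Agent.Lib.CohDescCrit1_helper7
import Groth.Agent.Lib.AcycClass_helper7
import Groth.Agent.Lib.AcycComp_helper7
import Groth.Agent.Lib.FAcyc_helper9

/-!
# Full faithfulness on `D⁺` from acyclicity (helper7)

`adj : L ⊣ R`, `L` exact, enough injectives.  If for every injective `I` of the source the unit
`I ⟶ R L I` is an isomorphism and `L I` is `R`-acyclic, then `L.mapDerivedCategory` is fully
faithful on bounded below objects (in fact the source may be arbitrary).
APPEND-ONLY once landed.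
-/

set_option autoImplicit false
set_option backward.isDefEq.respectTransparency false
set_option backward.isDefEq.respectTransparency.types false
set_option linter.style.haveILetI false
set_option linter.unusedSectionVars false

universe w w' v v' u u'

open CategoryTheory CategoryTheory.Limits

namespace Groth.Agent.Lib.CohDescCritH7

open Groth.Agent.Lib.FAcyc (acyc)

/-- bijectivity of `F.map` is invariant under isomorphisms of source and target -/
lemma bijective_map_iff_of_iso {C D : Type*} [Category C] [Category D] (F : C ⥤ D)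
    {A A' B B' : C} (a : A ≅ A') (b : B ≅ B') :
    Function.Bijective (fun x : A ⟶ B => F.map x) ↔
      Function.Bijective (fun x : A' ⟶ B' => F.map x) := by
  have e : (fun x : A ⟶ B => F.map x) =
      (Iso.homCongr (F.mapIso a).symm (F.mapIso b).symm) ∘ (fun x : A' ⟶ B' => F.map x) ∘
        (Iso.homCongr a b) := by
    funext x
    simp [Iso.homCongr]
  rw [e, Function.Bijective.of_comp_iff' (Equiv.bijective _),
    Function.Bijective.of_comp_iff _ (Equiv.bijective _)]

section Adapted

variable {𝒜 : Type u} [Category.{v} 𝒜] [Abelian 𝒜] {ℬ : Type u'} [Category.{v'} ℬ] [Abelian ℬ]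
  [HasInjectiveResolutions ℬ] (R : ℬ ⥤ 𝒜) [R.Additive] [PreservesFiniteLimits R]

/-- the `R`-acyclic objects form a class adapted to `R` -/
theorem adapted_acyc : AcycClassH7.Adapted R (acyc R) where
  zero X hX := fun i _ => Functor.map_isZero (R.rightDerived i) hX
  iso e hA := fun i hi => (hA i hi).of_iso ((R.rightDerived i).mapIso e.symm)
  ses S hS h1 h2 :=
    ⟨AcycCompH7.shortExact_map R S hS (h1 1 Nat.one_pos), (FAcyc.h2 R S hS h1).mp h2⟩
  biprod A B hA hB := by
    have hS := (ShortComplex.Splitting.ofHasBinaryBiproduct A B).shortExact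
    exact (FAcyc.h2 R _ hS hA).mpr hB

end Adapted

variable {𝒜 : Type u} [Category.{v} 𝒜] [Abelian 𝒜] {ℬ : Type u'} [Category.{v'} ℬ] [Abelian ℬ]
  [HasDerivedCategory.{w} 𝒜] [HasDerivedCategory.{w'} ℬ]
  {L : 𝒜 ⥤ ℬ} {R : ℬ ⥤ 𝒜} (adj : L ⊣ R) [L.Additive] [R.Additive]
  [PreservesFiniteLimits L] [PreservesFiniteColimits L]

lemma isStrictlyGE_map {𝒞 𝒟 : Type*} [Category 𝒞] [Category 𝒟] [Abelian 𝒞] [Abelian 𝒟]
    (F : 𝒞 ⥤ 𝒟) [F.Additive] (K : CochainComplex 𝒞 ℤ) (n : ℤ) [K.IsStrictlyGE n] :
    CochainComplex.IsStrictlyGE ((F.mapHomologicalComplex (ComplexShape.up ℤ)).obj K) n := by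
  rw [CochainComplex.isStrictlyGE_iff]
  intro i hi
  exact Functor.map_isZero F (K.isZero_of_isStrictlyGE n i hi)

include adj in
/-- `R` preserves injectives -/
lemma injective_R_obj (M : ℬ) [Injective M] : Injective (R.obj M) :=
  Injective.injective_of_adjoint adj M

include adj in
lemma isKInjective_R (J : CochainComplex ℬ ℤ) (n : ℤ) [J.IsStrictlyGE n]
    (hJ : ∀ k, Injective (J.X k)) :
    CochainComplex.IsKInjective ((R.mapHomologicalComplex (ComplexShape.up ℤ)).obj J) := by
  haveI := isStrictlyGE_map R J n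
  haveI : ∀ k, Injective (((R.mapHomologicalComplex (ComplexShape.up ℤ)).obj J).X k) :=
    fun k => by
      haveI := hJ k
      exact injective_R_obj adj (J.X k)
  exact CochainComplex.isKInjective_of_injective _ n

variable [EnoughInjectives ℬ]

include adj in
/-- the comparison map is a quasi-isomorphism under the acyclicity hypothesis -/
theorem quasiIso_phi
    (hacyc : ∀ I : 𝒜, Injective I → IsIso (adj.unit.app I) ∧ acyc R (L.obj I))
    (I : CochainComplex 𝒜 ℤ) (n : ℤ) [I.IsStrictlyGE n] (hI : ∀ k, Injective (I.X k))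
    (J : CochainComplex ℬ ℤ) [J.IsStrictlyGE n] (hJ : ∀ k, Injective (J.X k))
    (j : (L.mapHomologicalComplex (ComplexShape.up ℤ)).obj I ⟶ J) [QuasiIso j] :
    QuasiIso (phi adj I j) := by
  haveI : PreservesFiniteLimits R := by
    haveI : PreservesLimitsOfSize.{0, 0} R := adj.rightAdjoint_preservesLimits
    exact PreservesLimitsOfSize.preservesFiniteLimits R
  haveI := isStrictlyGE_map L I n
  haveI h1 : IsIso ((DerAdjPlus.unitHC adj (ComplexShape.up ℤ)).app I) := by
    haveI : ∀ k, IsIso (((DerAdjPlus.unitHC adj (ComplexShape.up ℤ)).app I).f k) := fun k =>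
      (hacyc (I.X k) (hI k)).1
    exact HomologicalComplex.Hom.isIso_of_components _
  haveI h2 : QuasiIso ((R.mapHomologicalComplex (ComplexShape.up ℤ)).map j) :=
    AcycClassH7.quasiIso_map (adapted_acyc R) j n
      (fun k => (hacyc (I.X k) (hI k)).2)
      (fun k => by
        haveI := hJ k
        exact FAcyc.acyc_of_injective R (J.X k))
  unfold phi
  infer_instance

variable [EnoughInjectives 𝒜]

include adj in
/-- **Full faithfulness on `D⁺` from acyclicity.** -/
theorem bijective_of_acyc
    (hacyc : ∀ I : 𝒜, Injective I → IsIso (adj.unit.app I) ∧ acyc R (L.obj I))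
    (K : DerivedCategory 𝒜) (L' : DerivedCategory.Plus 𝒜) :
    Function.Bijective (fun g : K ⟶ L'.obj => L.mapDerivedCategory.map g) := by
  obtain ⟨n, hn⟩ := L'.property
  haveI : L'.obj.IsGE n := hn
  obtain ⟨K₁, hK₁, ⟨e₁⟩⟩ := DerivedCategory.exists_iso_Q_obj_of_isGE L'.obj n
  obtain ⟨I, i, hi, hI, hIn⟩ :=
    CochainComplex.Plus.modelCategoryQuillen.exists_quasiIso_injective K₁ n
  haveI := hIn
  haveI := hi
  haveI := isStrictlyGE_map L I n
  obtain ⟨J, j, hj, hJ, hJn⟩ := CochainComplex.Plus.modelCategoryQuillen.exists_quasiIso_injective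
    ((L.mapHomologicalComplex (ComplexShape.up ℤ)).obj I) n
  haveI := hJn
  haveI := hj
  haveI : I.IsKInjective := by
    haveI := hI
    exact CochainComplex.isKInjective_of_injective I n
  haveI : J.IsKInjective := by
    haveI := hJ
    exact CochainComplex.isKInjective_of_injective J n
  haveI := isKInjective_R adj J n hJ
  -- transport
  let X := DerivedCategory.Qh.objPreimage K
  let a : K ≅ DerivedCategory.Qh.obj X := (DerivedCategory.Qh.objObjPreimageIso K).symm
  let b : L'.obj ≅ DerivedCategory.Qh.obj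
      ((HomotopyCategory.quotient 𝒜 (ComplexShape.up ℤ)).obj I) :=
    e₁ ≪≫ asIso (DerivedCategory.Q.map i) ≪≫ ((DerivedCategory.quotientCompQhIso 𝒜).app I).symm
  rw [bijective_map_iff_of_iso L.mapDerivedCategory a b, core adj X I J j]
  haveI := quasiIso_phi adj hacyc I n hI J hJ j
  haveI : IsIso (DerivedCategory.Qh.map
      ((HomotopyCategory.quotient 𝒜 (ComplexShape.up ℤ)).map (phi adj I j))) :=
    isIso_Qh_quotient_map _
  refine ⟨fun x y h => ?_, fun y => ⟨y ≫ inv (DerivedCategory.Qh.map
      ((HomotopyCategory.quotient 𝒜 (ComplexShape.up ℤ)).map (phi adj I j))), ?_⟩⟩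
  · exact (cancel_mono (DerivedCategory.Qh.map
      ((HomotopyCategory.quotient 𝒜 (ComplexShape.up ℤ)).map (phi adj I j)))).1 h
  · simp

end Groth.Agent.Lib.CohDescCritH7
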