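import Mathlib
import Groth.Agent.Lib.CohDescCrit2_helper7
import Groth.Agent.Lib.RDPlusSingle_helper9

/-!
# Acyclicity from full faithfulness on `D⁺` (helper7)

Converse of `CohDescCrit2`: if `L.mapDerivedCategory` is fully faithful on bounded below objects,
then for every object `A` the unit `A ⟶ R L A` is an isomorphism and `L A` is `R`-acyclic.
APPEND-ONLY once landed.
-/

set_option autoImplicit false
set_option backward.isDefEq.respectTransparency false
set_option backward.isDefEq.respectTransparency.types false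
set_option linter.style.haveILetI false
set_option linter.unusedSectionVars false

universe w w' v v' u u'

open CategoryTheory CategoryTheory.Limits

namespace Groth.Agent.Lib.CohDescCritH7

open Groth.Agent.Lib.FAcyc (acyc)

lemma isIso_of_bijective_postcomp {C : Type*} [Category C] {X Y : C} (f : X ⟶ Y)
    (hX : Function.Bijective (fun x : X ⟶ X => x ≫ f))
    (hY : Function.Bijective (fun x : Y ⟶ X => x ≫ f)) : IsIso f := by
  obtain ⟨g, hg⟩ := hY.surjective (𝟙 Y)
  have hg' : g ≫ f = 𝟙 Y := hg
  have h2 : f ≫ g = 𝟙 X := hX.injective (by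
    show (f ≫ g) ≫ f = 𝟙 X ≫ f
    rw [Category.assoc, hg', Category.comp_id, Category.id_comp])
  exact ⟨g, h2, hg'⟩

variable {𝒜 : Type u} [Category.{v} 𝒜] [Abelian 𝒜] {ℬ : Type u'} [Category.{v'} ℬ] [Abelian ℬ]
  [HasDerivedCategory.{w} 𝒜] [HasDerivedCategory.{w'} ℬ]
  {L : 𝒜 ⥤ ℬ} {R : ℬ ⥤ 𝒜} (adj : L ⊣ R) [L.Additive] [R.Additive]
  [PreservesFiniteLimits L] [PreservesFiniteColimits L]

/-- the hypothesis: full faithfulness on bounded below objects -/
def FFPlus (L : 𝒜 ⥤ ℬ) [L.Additive] [PreservesFiniteLimits L] [PreservesFiniteColimits L] : Prop :=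
  ∀ K L' : DerivedCategory.Plus 𝒜,
    Function.Bijective (fun g : K.obj ⟶ L'.obj => L.mapDerivedCategory.map g)

/-- bounded below complexes give objects of `D⁺` -/
noncomputable def plusObj (K : CochainComplex 𝒜 ℤ) (n : ℤ) [K.IsStrictlyGE n] :
    DerivedCategory.Plus 𝒜 :=
  ⟨DerivedCategory.Q.obj K, ⟨n, inferInstance⟩⟩

lemma ffplus_Qh (h : FFPlus L) (K K' : CochainComplex 𝒜 ℤ) (n n' : ℤ) [K.IsStrictlyGE n]
    [K'.IsStrictlyGE n'] :
    Function.Bijective (fun x :
      DerivedCategory.Qh.obj ((HomotopyCategory.quotient 𝒜 (ComplexShape.up ℤ)).obj K) ⟶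
      DerivedCategory.Qh.obj ((HomotopyCategory.quotient 𝒜 (ComplexShape.up ℤ)).obj K') =>
      L.mapDerivedCategory.map x) := by
  have h0 := h (plusObj K n) (plusObj K' n')
  exact (bijective_map_iff_of_iso L.mapDerivedCategory
    ((DerivedCategory.quotientCompQhIso 𝒜).app K).symm
    ((DerivedCategory.quotientCompQhIso 𝒜).app K').symm).1 h0

/-- `L` is fully faithful -/
theorem bijective_map_of_ffplus (h : FFPlus L) (A B : 𝒜) :
    Function.Bijective (fun x : A ⟶ B => L.map x) := by
  let sA := DerivedCategory.singleFunctor 𝒜 0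
  let sB := DerivedCategory.singleFunctor ℬ 0
  let e := L.mapDerivedCategorySingleFunctor 0
  let PA : DerivedCategory.Plus 𝒜 := ⟨sA.obj A, ⟨0, inferInstance⟩⟩
  let PB : DerivedCategory.Plus 𝒜 := ⟨sA.obj B, ⟨0, inferInstance⟩⟩
  have h0 : Function.Bijective (fun g : sA.obj A ⟶ sA.obj B => L.mapDerivedCategory.map g) :=
    h PA PB
  have h1 : Function.Bijective (fun x : A ⟶ B => sA.map x) :=
    (Functor.FullyFaithful.ofFullyFaithful sA).map_bijective A B
  have h2 : Function.Bijective (fun x : L.obj A ⟶ L.obj B => sB.map x) :=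
    (Functor.FullyFaithful.ofFullyFaithful sB).map_bijective _ _
  let c : (L.mapDerivedCategory.obj (sA.obj A) ⟶ L.mapDerivedCategory.obj (sA.obj B)) ≃
      (sB.obj (L.obj A) ⟶ sB.obj (L.obj B)) := Iso.homCongr (e.app A) (e.app B)
  have e1 : (fun x : L.obj A ⟶ L.obj B => sB.map x) ∘ (fun x : A ⟶ B => L.map x) =
      c ∘ (fun g : sA.obj A ⟶ sA.obj B => L.mapDerivedCategory.map g) ∘
        (fun x : A ⟶ B => sA.map x) := by
    funext x
    have hn := e.hom.naturality x
    simp only [Function.comp_apply]
    show sB.map (L.map x) = (e.app A).inv ≫ L.mapDerivedCategory.map (sA.map x) ≫ (e.app B).hom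
    have hn' : L.mapDerivedCategory.map (sA.map x) ≫ e.hom.app B =
        e.hom.app A ≫ sB.map (L.map x) := hn
    rw [Iso.app_hom, hn', Iso.app_inv, Iso.inv_hom_id_app_assoc]
  rw [← Function.Bijective.of_comp_iff' h2, e1]
  exact c.bijective.comp (h0.comp h1)

include adj in
theorem isIso_unit_of_ffplus (h : FFPlus L) (A : 𝒜) : IsIso (adj.unit.app A) := by
  haveI : L.Full := ⟨fun {A B} => (bijective_map_of_ffplus h A B).surjective⟩
  haveI : L.Faithful := ⟨fun {A B} => (bijective_map_of_ffplus h A B).injective⟩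
  infer_instance

variable [EnoughInjectives ℬ]

lemma injective_single_X (I : 𝒜) [Injective I] (k : ℤ) :
    Injective (((CochainComplex.singleFunctor 𝒜 0).obj I).X k) := by
  by_cases hk : k = 0
  · subst hk
    exact Injective.of_iso (HomologicalComplex.singleObjXSelf (ComplexShape.up ℤ) 0 I).symm
      inferInstance
  · exact IsZero.injective (HomologicalComplex.isZero_single_obj_X (ComplexShape.up ℤ) 0 I k hk)

include adj in
/-- acyclicity of `L I` for `I` injective -/
theorem acyc_of_ffplus_injective (h : FFPlus L) (I : 𝒜) [Injective I] : acyc R (L.obj I) := by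
  haveI : PreservesFiniteLimits R := by
    haveI : PreservesLimitsOfSize.{0, 0} R := adj.rightAdjoint_preservesLimits
    exact PreservesLimitsOfSize.preservesFiniteLimits R
  let Ic : CochainComplex 𝒜 ℤ := (CochainComplex.singleFunctor 𝒜 0).obj I
  haveI : Ic.IsStrictlyGE 0 := inferInstanceAs
    (CochainComplex.IsStrictlyGE ((CochainComplex.singleFunctor 𝒜 0).obj I) 0)
  haveI hIc : ∀ k, Injective (Ic.X k) := injective_single_X I
  haveI : Ic.IsKInjective := CochainComplex.isKInjective_of_injective Ic 0
  let P := injectiveResolution (L.obj I)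
  let J := P.cochainComplex
  let s : (L.mapHomologicalComplex (ComplexShape.up ℤ)).obj Ic ≅
      (CochainComplex.singleFunctor ℬ 0).obj (L.obj I) :=
    (HomologicalComplex.singleMapHomologicalComplex L (ComplexShape.up ℤ) 0).app I
  let j : (L.mapHomologicalComplex (ComplexShape.up ℤ)).obj Ic ⟶ J := s.hom ≫ P.ι'
  haveI : QuasiIso P.ι' := inferInstance
  haveI : QuasiIso j := by
    dsimp only [j]
    infer_instance
  haveI : J.IsKInjective := CochainComplex.isKInjective_of_injective J 0
  haveI hRJ := isKInjective_R adj J 0 (fun k => inferInstance)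
  haveI := isStrictlyGE_map R J 0
  have c1 := (core adj ((HomotopyCategory.quotient 𝒜 (ComplexShape.up ℤ)).obj Ic) Ic J j).1
    (ffplus_Qh h Ic Ic 0 0)
  have c2 := (core adj ((HomotopyCategory.quotient 𝒜 (ComplexShape.up ℤ)).obj
    ((R.mapHomologicalComplex (ComplexShape.up ℤ)).obj J)) Ic J j).1
    (ffplus_Qh h _ Ic 0 0)
  have hiso : IsIso (DerivedCategory.Qh.map
      ((HomotopyCategory.quotient 𝒜 (ComplexShape.up ℤ)).map (phi adj Ic j))) :=
    isIso_of_bijective_postcomp _ c1 c2
  have hq : QuasiIso (phi adj Ic j) := by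
    rw [DerivedCategory.isIso_Qh_map_iff, HomotopyCategory.quotient_map_mem_quasiIso_iff,
      HomologicalComplex.mem_quasiIso_iff] at hiso
    exact hiso
  haveI hu : IsIso ((DerAdjPlus.unitHC adj (ComplexShape.up ℤ)).app Ic) := by
    haveI : ∀ k, IsIso (((DerAdjPlus.unitHC adj (ComplexShape.up ℤ)).app Ic).f k) := fun k =>
      isIso_unit_of_ffplus adj h (Ic.X k)
    exact HomologicalComplex.Hom.isIso_of_components _
  have hq2 : QuasiIso ((R.mapHomologicalComplex (ComplexShape.up ℤ)).map j) := by
    unfold phi at hq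
    exact (quasiIso_iff_comp_left _ _).1 hq
  have hq3 : QuasiIso ((R.mapHomologicalComplex (ComplexShape.up ℤ)).map P.ι') := by
    dsimp only [j] at hq2
    rw [Functor.map_comp] at hq2
    exact (quasiIso_iff_comp_left _ _).1 hq2
  exact ((RDPlusSingle.quasiIso_map_ι_iff R P).1
    ((RDPlusSingle.quasiIso_map_ι'_iff R P).1 hq3)).2

variable [EnoughInjectives 𝒜]

include adj in
/-- **Acyclicity from full faithfulness on `D⁺`.** -/
theorem acyc_of_ffplus (h : FFPlus L) (A : 𝒜) :
    IsIso (adj.unit.app A) ∧ acyc R (L.obj A) := by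
  haveI : PreservesFiniteLimits R := by
    haveI : PreservesLimitsOfSize.{0, 0} R := adj.rightAdjoint_preservesLimits
    exact PreservesLimitsOfSize.preservesFiniteLimits R
  refine ⟨isIso_unit_of_ffplus adj h A, ?_⟩
  have key : ∀ i : ℕ, ∀ A : 𝒜, IsZero ((R.rightDerived (i + 1)).obj (L.obj A)) := by
    intro i
    induction i with
    | zero =>
      intro A
      let S : ShortComplex 𝒜 :=
        ShortComplex.mk (Injective.ι A) (cokernel.π (Injective.ι A)) (cokernel.condition _)
      have hS : S.ShortExact :=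
        { exact := ShortComplex.exact_cokernel _
          mono_f := by dsimp only [S]; infer_instance
          epi_g := by dsimp only [S]; infer_instance }
      have hSL : (S.map L).ShortExact := hS.map_of_exact L
      haveI : Injective S.X₂ := inferInstanceAs (Injective (Injective.under A))
      have hI : acyc R (L.obj S.X₂) := acyc_of_ffplus_injective adj h S.X₂
      -- `R L S.g` is an epimorphism
      haveI : Epi S.g := hS.epi_g
      haveI := isIso_unit_of_ffplus adj h S.X₂
      haveI := isIso_unit_of_ffplus adj h S.X₃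
      have hepi : Epi (R.map (L.map S.g)) := by
        have hn : S.g ≫ adj.unit.app S.X₃ = adj.unit.app S.X₂ ≫ R.map (L.map S.g) :=
          adj.unit.naturality S.g
        have : R.map (L.map S.g) = inv (adj.unit.app S.X₂) ≫ S.g ≫ adj.unit.app S.X₃ := by
          rw [hn, IsIso.inv_hom_id_assoc]
        rw [this]
        infer_instance
      have hepi0 : Epi ((R.rightDerived 0).map (S.map L).g) := by
        have hn : (R.rightDerived 0).map (L.map S.g) ≫
            R.rightDerivedZeroIsoSelf.hom.app (L.obj S.X₃) =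
            R.rightDerivedZeroIsoSelf.hom.app (L.obj S.X₂) ≫ R.map (L.map S.g) :=
          R.rightDerivedZeroIsoSelf.hom.naturality (L.map S.g)
        have e : (R.rightDerived 0).map (L.map S.g) =
            R.rightDerivedZeroIsoSelf.hom.app (L.obj S.X₂) ≫ R.map (L.map S.g) ≫
              R.rightDerivedZeroIsoSelf.inv.app (L.obj S.X₃) := by
          rw [← Category.assoc, ← hn, Category.assoc, Iso.hom_inv_id_app, Category.comp_id]
        show Epi ((R.rightDerived 0).map (L.map S.g))
        rw [e]
        infer_instance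
      haveI := FAcyc.enoughInjectives (A := ℬ)
      have hδ0 : (Horseshoe0.derivedLES R).δ (S.map L) hSL 0 1 rfl = 0 := by
        have hc := (Horseshoe0.derivedLES R).comp_δ (S.map L) hSL 0 1 rfl
        exact (cancel_epi ((R.rightDerived 0).map (S.map L).g)).1 (by rw [hc, comp_zero])
      have hδepi : Epi ((Horseshoe0.derivedLES R).δ (S.map L) hSL 0 1 rfl) :=
        ((Horseshoe0.derivedLES R).exact₁ (S.map L) hSL 0 1 rfl).epi_f
          ((hI 1 Nat.one_pos).eq_of_tgt _ _)
      rw [IsZero.iff_id_eq_zero]
      exact (cancel_epi ((Horseshoe0.derivedLES R).δ (S.map L) hSL 0 1 rfl)).1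
        (by rw [hδ0, zero_comp, zero_comp])
    | succ i ih =>
      intro A
      let S : ShortComplex 𝒜 :=
        ShortComplex.mk (Injective.ι A) (cokernel.π (Injective.ι A)) (cokernel.condition _)
      have hS : S.ShortExact :=
        { exact := ShortComplex.exact_cokernel _
          mono_f := by dsimp only [S]; infer_instance
          epi_g := by dsimp only [S]; infer_instance }
      have hSL : (S.map L).ShortExact := hS.map_of_exact L
      haveI : Injective S.X₂ := inferInstanceAs (Injective (Injective.under A))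
      have hI : acyc R (L.obj S.X₂) := acyc_of_ffplus_injective adj h S.X₂
      exact FAcyc.isZero_X₁ R (S.map L) hSL (i + 1) (ih S.X₃) (hI (i + 1 + 1) (by omega))
  intro i hi
  obtain ⟨k, rfl⟩ : ∃ k, i = k + 1 := ⟨i - 1, by omega⟩
  exact key k A

end Groth.Agent.Lib.CohDescCritH7
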