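import Mathlib
import Groth.Prelude.Def_FibSite

/-!
# Fibred sites: the total topology (helper8)
-/

set_option backward.isDefEq.respectTransparency false
set_option backward.isDefEq.respectTransparency.types false
set_option backward.defeqAttrib.useBackward true

universe v₃ u₃ v₂ u₂ v₁ u₁

open CategoryTheory CategoryTheory.Limits Opposite Pseudofunctor Pseudofunctor.CoGrothendieck
  Bicategory

namespace Groth.Agent.Lib.FibSiteH8

variable {𝒮 : Type u₁} [Category.{v₁} 𝒮] (F : Pseudofunctor (LocallyDiscrete 𝒮ᵒᵖ) Cat.{v₂, u₂})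

/-- every morphism factors as a vertical one followed by a cartesian lift -/
theorem fac (X Y : ∫ᶜ F) (g : Y ⟶ X) :
    g = (ι F Y.base).map g.fiber ≫ cartesianLift X.fiber g.base := by
  ext
  · simp
  · dsimp
    simp [F.mapComp_id_right_inv_app, Strict.rightUnitor_eqToIso, ← NatTrans.naturality_assoc,
        ← Cat.Hom₂.comp_app, PrelaxFunctor.map₂_eqToHom]

theorem cart_nat {B S : 𝒮} (f : B ⟶ S) {V' V : F.obj ⟨op S⟩} (r : V' ⟶ V) :
    cartesianLift V' f ≫ (ι F S).map r =
      (ι F B).map ((FibSite.invImage F f).map r) ≫ cartesianLift V f := by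
  ext
  · simp
  · dsimp
    simp [F.mapComp_id_right_inv_app, Strict.rightUnitor_eqToIso, ← NatTrans.naturality_assoc,
        ← Cat.Hom₂.comp_app, F.mapComp_id_left_inv_app, Strict.leftUnitor_eqToIso,
        PrelaxFunctor.map₂_eqToHom]
    have h : (F.map f.op.toLoc).toFunctor.map ((F.mapId { as := op S }).inv.toNatTrans.app V) ≫
        (F.map f.op.toLoc).toFunctor.map ((F.mapId { as := op S }).hom.toNatTrans.app V) = 𝟙 _ := by
      rw [← Functor.map_comp, ← Cat.Hom₂.comp_app, Iso.inv_hom_id]
      simp
    rw [reassoc_of% h]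

variable (J : FibSite.Topologies F) (hF : FibSite.IsPreFibSite F J)

/-- The key computation: a vertical map into `Y` followed by `g : Y ⟶ X`. -/
theorem vert_comp {X Y : ∫ᶜ F} (g : Y ⟶ X) {V : F.obj ⟨op Y.base⟩} (k : V ⟶ Y.fiber)
    {V' : F.obj ⟨op X.base⟩} (r : V' ⟶ X.fiber)
    (m : V ⟶ (FibSite.invImage F g.base).obj V')
    (hkm : k ≫ g.fiber = m ≫ (FibSite.invImage F g.base).map r) :
    (ι F Y.base).map k ≫ g =
      ((ι F Y.base).map m ≫ cartesianLift V' g.base) ≫ (ι F X.base).map r := by
  calc (ι F Y.base).map k ≫ g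
      = (ι F Y.base).map k ≫ (ι F Y.base).map g.fiber ≫ cartesianLift X.fiber g.base :=
        congrArg (fun t => (ι F Y.base).map k ≫ t) (fac F X Y g)
    _ = (ι F Y.base).map (k ≫ g.fiber) ≫ cartesianLift X.fiber g.base := by
        rw [Functor.map_comp, Category.assoc]
    _ = (ι F Y.base).map (m ≫ (FibSite.invImage F g.base).map r) ≫
          cartesianLift X.fiber g.base := by rw [hkm]
    _ = (ι F Y.base).map m ≫ (ι F Y.base).map ((FibSite.invImage F g.base).map r) ≫
          cartesianLift X.fiber g.base := by rw [Functor.map_comp, Category.assoc]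
    _ = (ι F Y.base).map m ≫ cartesianLift V' g.base ≫ (ι F X.base).map r := by
        rw [cart_nat]
    _ = ((ι F Y.base).map m ≫ cartesianLift V' g.base) ≫ (ι F X.base).map r := by
        rw [Category.assoc]

/-- The candidate description of the total topology, as a topology. -/
def Ktop : GrothendieckTopology (∫ᶜ F) where
  sieves X := {S | ∃ R ∈ J X.base X.fiber, Sieve.functorPushforward (ι F X.base) R ≤ S}
  top_mem' X := ⟨⊤, (J X.base).top_mem _, le_top⟩
  pullback_stable' := by
    rintro X Y S g ⟨R, hR, hle⟩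
    haveI := hF g.base
    have hR' : (R.functorPushforward (FibSite.invImage F g.base)).pullback g.fiber ∈
        J Y.base Y.fiber :=
      (J Y.base).pullback_stable g.fiber
        ((CoverPreserving.of_isContinuous (FibSite.invImage F g.base) (J X.base)
          (J Y.base)).cover_preserve hR)
    refine ⟨_, hR', ?_⟩
    rintro W h ⟨V, k, l, hk, rfl⟩
    obtain ⟨V', r, m, hr, hkm⟩ := hk
    show S ((l ≫ (ι F Y.base).map k) ≫ g)
    rw [Category.assoc, vert_comp F g k r m hkm, ← Category.assoc]
    exact S.downward_closed (hle _ (Sieve.image_mem_functorPushforward _ _ hr)) _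
  transitive' := by
    rintro X S ⟨R, hR, hle⟩ S' H
    have key : ∀ (V : F.obj ⟨op X.base⟩) (r : V ⟶ X.fiber) (_ : R r),
        ∃ R₂ ∈ J X.base V, Sieve.functorPushforward (ι F X.base) R₂ ≤
          S'.pullback ((ι F X.base).map r) :=
      fun V r hr => H (hle _ (Sieve.image_mem_functorPushforward _ _ hr))
    choose R₂ hR₂ hle₂ using key
    refine ⟨Sieve.bind R (fun V r hr => R₂ V r hr),
      (J X.base).bind_covering hR (fun V r hr => hR₂ V r hr), ?_⟩
    rintro W h ⟨V, q, l, ⟨V₁, k, r, hr, hk, rfl⟩, rfl⟩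
    have := hle₂ V₁ r hr _ (Sieve.image_mem_functorPushforward _ _ hk)
    rw [Sieve.pullback_apply, ← Functor.map_comp] at this
    exact S'.downward_closed this l

include hF

theorem mem_totalTopology_iff (X : ∫ᶜ F) (S : Sieve X) :
    S ∈ FibSite.totalTopology F J X ↔
      ∃ R ∈ J X.base X.fiber, Sieve.functorPushforward (ι F X.base) R ≤ S := by
  constructor
  · intro h
    have hle : FibSite.totalTopology F J ≤ Ktop F J hF :=
      FibSite.totalTopology_le (fun S U R hR => ⟨R, hR, le_refl _⟩)
    exact hle X h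
  · rintro ⟨R, hR, hle⟩
    exact GrothendieckTopology.superset_covering _ hle
      (FibSite.functorPushforward_mem_totalTopology hR)

theorem isCocontinuous_ι (S : 𝒮) :
    (ι F S).IsCocontinuous (J S) (FibSite.totalTopology F J) := by
  refine ⟨fun {U T} hT => ?_⟩
  obtain ⟨R, hR, hle⟩ := (mem_totalTopology_iff F J hF _ T).1 hT
  refine (J S).superset_covering ?_ hR
  intro V r hr
  exact hle _ (Sieve.image_mem_functorPushforward _ _ hr)

end Groth.Agent.Lib.FibSiteH8
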