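import Mathlib
import Groth.Prelude.Def_FibSite
import Groth.Agent.Lib.FibSite_helper8

/-!
# Fibred sites: continuity of the fibre inclusions for the total topology (helper8)
-/

set_option backward.isDefEq.respectTransparency false
set_option backward.isDefEq.respectTransparency.types false
set_option backward.defeqAttrib.useBackward true

universe t v₃ u₃ v₂ u₂ v₁ u₁

open CategoryTheory CategoryTheory.Limits Opposite Pseudofunctor Pseudofunctor.CoGrothendieck
  Bicategory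

namespace Groth.Agent.Lib.FibSiteH8

variable {𝒮 : Type u₁} [Category.{v₁} 𝒮] (F : Pseudofunctor (LocallyDiscrete 𝒮ᵒᵖ) Cat.{v₂, u₂})

theorem map_op_comp_apply {C : Type*} [Category* C] (G : Cᵒᵖ ⥤ Type t) {X Y Z : C}
    (f : X ⟶ Y) (g : Y ⟶ Z) (x : G.obj (op Z)) :
    G.map f.op (G.map g.op x) = G.map (f ≫ g).op x := by
  rw [op_comp, Functor.map_comp_apply]

/-- vertical maps into a cartesian lift are determined by the composite -/
theorem vert_cart_inj {B S : 𝒮} (f : B ⟶ S) {Z : F.obj ⟨op B⟩} {U : F.obj ⟨op S⟩}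
    (μ₁ μ₂ : Z ⟶ (FibSite.invImage F f).obj U)
    (h : (ι F B).map μ₁ ≫ cartesianLift U f = (ι F B).map μ₂ ≫ cartesianLift U f) : μ₁ = μ₂ := by
  have := Hom.congr h
  dsimp at this
  simp [F.mapComp_id_right_inv_app, Strict.rightUnitor_eqToIso, ← NatTrans.naturality_assoc,
        ← Cat.Hom₂.comp_app, PrelaxFunctor.map₂_eqToHom] at this
  exact (cancel_mono (eqToHom _)).1 this

section Cont

variable {B S : 𝒮} (f : B ⟶ S) {U : F.obj ⟨op S⟩} (R : Sieve U)

/-- elements of the presheaf `(f^*)_! R` before quotienting -/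
structure MElt (Z : F.obj ⟨op B⟩) where
  Y : F.obj ⟨op S⟩
  g : Y ⟶ U
  hg : R g
  lam : Z ⟶ (FibSite.invImage F f).obj Y

/-- the generating relation -/
def MRel (Z : F.obj ⟨op B⟩) (p q : MElt F f R Z) : Prop :=
  ∃ a : p.Y ⟶ q.Y, a ≫ q.g = p.g ∧ p.lam ≫ (FibSite.invImage F f).map a = q.lam

/-- the presheaf `(f^*)_! R` -/
def MPsh : (F.obj ⟨op B⟩)ᵒᵖ ⥤ Type (max u₂ v₂) where
  obj Z := Quot (MRel F f R Z.unop)
  map {Z Z'} q := TypeCat.ofHom (Quot.map
    (fun p => (⟨p.Y, p.g, p.hg, q.unop ≫ p.lam⟩ : MElt F f R Z'.unop))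
    (by
      rintro p p' ⟨a, h1, h2⟩
      exact ⟨a, h1, by rw [Category.assoc, h2]⟩))
  map_id Z := by
    ext x
    induction x using Quot.inductionOn with | _ p => ?_
    show Quot.mk _ (⟨p.Y, p.g, p.hg, 𝟙 _ ≫ p.lam⟩ : MElt F f R Z.unop) = Quot.mk _ p
    rw [Category.id_comp]
  map_comp {Z₁ Z₂ Z₃} q q' := by
    ext x
    induction x using Quot.inductionOn with | _ p => ?_
    show Quot.mk _ (⟨p.Y, p.g, p.hg, (q'.unop ≫ q.unop) ≫ p.lam⟩ : MElt F f R Z₃.unop) =
      Quot.mk _ (⟨p.Y, p.g, p.hg, q'.unop ≫ q.unop ≫ p.lam⟩ : MElt F f R Z₃.unop)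
    rw [Category.assoc]

theorem MPsh_map_mk {Z Z' : F.obj ⟨op B⟩} (q : Z' ⟶ Z) (p : MElt F f R Z) :
    (MPsh F f R).map q.op (Quot.mk _ p) =
      Quot.mk (MRel F f R Z') ⟨p.Y, p.g, p.hg, q ≫ p.lam⟩ := rfl

theorem mk_congr {Z : F.obj ⟨op B⟩} (Y : F.obj ⟨op S⟩) (g g' : Y ⟶ U) (hg : R g) (hg' : R g')
    (lam : Z ⟶ (FibSite.invImage F f).obj Y) (h : g = g') :
    Quot.mk (MRel F f R Z) ⟨Y, g, hg, lam⟩ = Quot.mk _ ⟨Y, g', hg', lam⟩ := by
  subst h; rfl

variable (J : FibSite.Topologies F) (hF : FibSite.IsPreFibSite F J)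

include hF

theorem sheafified_eq (hR : R ∈ J S U) {Z : F.obj ⟨op B⟩} (p₁ p₂ : MElt F f R Z)
    (h : p₁.lam ≫ (FibSite.invImage F f).map p₁.g =
      p₂.lam ≫ (FibSite.invImage F f).map p₂.g) :
    ((J B).toSheafify (MPsh F f R)).app (op Z) (Quot.mk _ p₁) =
      ((J B).toSheafify (MPsh F f R)).app (op Z) (Quot.mk _ p₂) := by
  haveI := hF f
  have hsh : Presieve.IsSheaf (J S)
      ((FibSite.invImage F f).op ⋙ (J B).sheafify (MPsh F f R)) :=
    Functor.op_comp_isSheaf_of_types (FibSite.invImage F f) (J S) (J B)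
      ⟨(J B).sheafify (MPsh F f R),
        GrothendieckTopology.Plus.isSheaf_plus_plus (J B) (MPsh F f R)⟩
  let e : Presieve.FamilyOfElements
      ((FibSite.invImage F f).op ⋙ (J B).sheafify (MPsh F f R)) R.arrows :=
    fun Y g hg => ((J B).toSheafify (MPsh F f R)).app (op ((FibSite.invImage F f).obj Y))
      (Quot.mk _ ⟨Y, g, hg, 𝟙 _⟩)
  have he : e.Compatible := by
    intro Y₁ Y₂ Y'' a b g₁ g₂ hg₁ hg₂ comm
    show ((J B).sheafify (MPsh F f R)).map ((FibSite.invImage F f).map a).op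
        (((J B).toSheafify (MPsh F f R)).app _ (Quot.mk _ ⟨Y₁, g₁, hg₁, 𝟙 _⟩)) =
      ((J B).sheafify (MPsh F f R)).map ((FibSite.invImage F f).map b).op
        (((J B).toSheafify (MPsh F f R)).app _ (Quot.mk _ ⟨Y₂, g₂, hg₂, 𝟙 _⟩))
    rw [← NatTrans.naturality_apply, ← NatTrans.naturality_apply, MPsh_map_mk, MPsh_map_mk]
    congr 1
    have e1 : Quot.mk (MRel F f R _) ⟨Y'', a ≫ g₁, R.downward_closed hg₁ a, 𝟙 _⟩ =
        Quot.mk _ ⟨Y₁, g₁, hg₁, (FibSite.invImage F f).map a ≫ 𝟙 _⟩ :=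
      Quot.sound ⟨a, rfl, by simp⟩
    have e2 : Quot.mk (MRel F f R _) ⟨Y'', b ≫ g₂, R.downward_closed hg₂ b, 𝟙 _⟩ =
        Quot.mk _ ⟨Y₂, g₂, hg₂, (FibSite.invImage F f).map b ≫ 𝟙 _⟩ :=
      Quot.sound ⟨b, rfl, by simp⟩
    rw [← e1, ← e2]
    exact mk_congr F f R Y'' _ _ _ _ _ comm
  have ht : ∀ (Y : F.obj ⟨op S⟩) (g : Y ⟶ U) (hg : R g),
      ((J B).sheafify (MPsh F f R)).map ((FibSite.invImage F f).map g).op
        ((hsh R hR).amalgamate e he) = e g hg :=
    fun Y g hg => (hsh R hR).valid_glue he g hg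
  have key : ∀ p : MElt F f R Z, ((J B).toSheafify (MPsh F f R)).app (op Z) (Quot.mk _ p) =
      ((J B).sheafify (MPsh F f R)).map (p.lam ≫ (FibSite.invImage F f).map p.g).op
        ((hsh R hR).amalgamate e he) := by
    intro p
    have e3 : Quot.mk (MRel F f R Z) p =
        (MPsh F f R).map p.lam.op (Quot.mk _ ⟨p.Y, p.g, p.hg, 𝟙 _⟩) := by
      rw [MPsh_map_mk]
      show _ = Quot.mk _ (⟨p.Y, p.g, p.hg, p.lam ≫ 𝟙 _⟩ : MElt F f R Z)
      rw [Category.comp_id]
    rw [e3, NatTrans.naturality_apply, op_comp, Functor.map_comp_apply, ht p.Y p.g p.hg]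
  rw [key p₁, key p₂, h]

theorem core_compat (G : Sheaf (FibSite.totalTopology F J) (Type t)) (hR : R ∈ J S U)
    (x : Presieve.FamilyOfElements ((ι F S).op ⋙ G.obj) R.arrows) (hx : x.Compatible)
    {Z : F.obj ⟨op B⟩} (p₁ p₂ : MElt F f R Z)
    (h : p₁.lam ≫ (FibSite.invImage F f).map p₁.g =
      p₂.lam ≫ (FibSite.invImage F f).map p₂.g) :
    G.obj.map ((ι F B).map p₁.lam ≫ cartesianLift p₁.Y f).op (x p₁.g p₁.hg) =
      G.obj.map ((ι F B).map p₂.lam ≫ cartesianLift p₂.Y f).op (x p₂.g p₂.hg) := by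
  let φ : ∀ (Z' : F.obj ⟨op B⟩), MElt F f R Z' → G.obj.obj (op ((ι F B).obj Z')) :=
    fun Z' p => G.obj.map ((ι F B).map p.lam ≫ cartesianLift p.Y f).op (x p.g p.hg)
  have hxs := (Presieve.compatible_iff_sieveCompatible x).1 hx
  have hφ : ∀ (Z' : F.obj ⟨op B⟩) (p q : MElt F f R Z'), MRel F f R Z' p q →
      φ Z' p = φ Z' q := by
    rintro Z' ⟨pY, pg, phg, plam⟩ ⟨qY, qg, qhg, qlam⟩ ⟨a, h1, h2⟩
    dsimp only at a h1 h2
    subst h1
    subst h2
    show G.obj.map ((ι F B).map plam ≫ cartesianLift pY f).op (x (a ≫ qg) phg) =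
      G.obj.map ((ι F B).map (plam ≫ (FibSite.invImage F f).map a) ≫ cartesianLift qY f).op
        (x qg qhg)
    have e1 : (ι F B).map (plam ≫ (FibSite.invImage F f).map a) ≫ cartesianLift qY f =
        ((ι F B).map plam ≫ cartesianLift pY f) ≫ (ι F S).map a := by
      rw [Functor.map_comp, Category.assoc, ← cart_nat, Category.assoc]
    have e2 : x (a ≫ qg) phg = G.obj.map ((ι F S).map a).op (x qg qhg) := hxs qg a qhg
    rw [e1, e2]
    exact map_op_comp_apply G.obj _ _ _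
  have hQ : Presheaf.equalizerSieve (F := MPsh F f R) (X := op Z) (Quot.mk _ p₁) (Quot.mk _ p₂) ∈
      J B Z :=
    Presheaf.equalizerSieve_mem (J B) ((J B).toSheafify (MPsh F f R)) _ _
      (sheafified_eq F f R J hF hR p₁ p₂ h)
  have hGs : Presieve.IsSheaf (FibSite.totalTopology F J) G.obj :=
    (isSheaf_iff_isSheaf_of_type _ _).1 G.property
  have hcov := FibSite.functorPushforward_mem_totalTopology (F := F) (J := J) hQ
  refine (hGs _ hcov).isSeparatedFor.ext ?_
  rintro W hh ⟨Z', q, l, hq, rfl⟩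
  have hq' : Quot.mk (MRel F f R Z') ⟨p₁.Y, p₁.g, p₁.hg, q ≫ p₁.lam⟩ =
      Quot.mk _ ⟨p₂.Y, p₂.g, p₂.hg, q ≫ p₂.lam⟩ := hq
  have hΦ := congrArg (Quot.lift (φ Z') (hφ Z')) hq'
  have step : ∀ p : MElt F f R Z, G.obj.map (l ≫ (ι F B).map q).op
      (G.obj.map ((ι F B).map p.lam ≫ cartesianLift p.Y f).op (x p.g p.hg)) =
      G.obj.map l.op (φ Z' ⟨p.Y, p.g, p.hg, q ≫ p.lam⟩) := by
    intro p
    show _ = G.obj.map l.op (G.obj.map ((ι F B).map (q ≫ p.lam) ≫ cartesianLift p.Y f).op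
      (x p.g p.hg))
    rw [← Functor.map_comp_apply, ← Functor.map_comp_apply, ← op_comp, ← op_comp,
      Functor.map_comp, Category.assoc, Category.assoc]
  rw [step p₁, step p₂]
  exact congrArg _ hΦ

end Cont

variable (J : FibSite.Topologies F) (hF : FibSite.IsPreFibSite F J)

include hF

theorem key_compat (G : Sheaf (FibSite.totalTopology F J) (Type t)) {S : 𝒮}
    {U : F.obj ⟨op S⟩} (R : Sieve U) (hR : R ∈ J S U)
    (x : Presieve.FamilyOfElements ((ι F S).op ⋙ G.obj) R.arrows) (hx : x.Compatible)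
    {W : ∫ᶜ F} {Y₁ Y₂ : F.obj ⟨op S⟩} (f₁ : W ⟶ (ι F S).obj Y₁) (f₂ : W ⟶ (ι F S).obj Y₂)
    {g₁ : Y₁ ⟶ U} {g₂ : Y₂ ⟶ U} (hg₁ : R g₁) (hg₂ : R g₂)
    (e : f₁ ≫ (ι F S).map g₁ = f₂ ≫ (ι F S).map g₂) :
    G.obj.map f₁.op (x g₁ hg₁) = G.obj.map f₂.op (x g₂ hg₂) := by
  obtain ⟨b₁, φ₁⟩ := f₁
  obtain ⟨b₂, φ₂⟩ := f₂
  have hb : b₁ = b₂ := by
    have := congrArg Hom.base e
    simpa using this
  subst hb
  have e₁ := fac F ((ι F S).obj Y₁) W ⟨b₁, φ₁⟩
  have e₂ := fac F ((ι F S).obj Y₂) W ⟨b₁, φ₂⟩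
  have h : φ₁ ≫ (FibSite.invImage F b₁).map g₁ = φ₂ ≫ (FibSite.invImage F b₁).map g₂ := by
    apply vert_cart_inj F b₁
    rw [Functor.map_comp, Functor.map_comp, Category.assoc, Category.assoc, ← cart_nat,
      ← cart_nat, ← Category.assoc, ← Category.assoc]
    exact (congrArg (fun t => t ≫ (ι F S).map g₁) e₁.symm).trans
      (e.trans (congrArg (fun t => t ≫ (ι F S).map g₂) e₂))
  have := core_compat F b₁ R J hF G hR x hx ⟨Y₁, g₁, hg₁, φ₁⟩ ⟨Y₂, g₂, hg₂, φ₂⟩ h
  rw [e₁, e₂]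
  exact this

theorem isContinuous_ι (S : 𝒮) :
    (ι F S).IsContinuous (J S) (FibSite.totalTopology F J) := by
  refine ⟨fun G => ?_⟩
  intro U R hR
  have hGs : Presieve.IsSheaf (FibSite.totalTopology F J) G.obj :=
    (isSheaf_iff_isSheaf_of_type _ _).1 G.property
  have hcov := FibSite.functorPushforward_mem_totalTopology (F := F) (J := J) hR
  rw [← Presieve.isSeparatedFor_and_exists_isAmalgamation_iff_isSheafFor]
  constructor
  · intro x t₁ t₂ h₁ h₂
    refine (hGs _ hcov).isSeparatedFor.ext ?_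
    rintro W h ⟨V, r, l, hr, rfl⟩
    rw [op_comp, Functor.map_comp_apply, Functor.map_comp_apply]
    congr 1
    exact (h₁ r hr).trans (h₂ r hr).symm
  · intro x hx
    let y : Presieve.FamilyOfElements G.obj (R.functorPushforward (ι F S)).arrows :=
      fun W h hh => G.obj.map (Presieve.getFunctorPushforwardStructure hh).lift.op
        (x _ (Presieve.getFunctorPushforwardStructure hh).cover)
    have hy : y.Compatible := by
      intro W₁ W₂ W' k₁ k₂ h₁ h₂ hh₁ hh₂ comm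
      show G.obj.map k₁.op (G.obj.map (Presieve.getFunctorPushforwardStructure hh₁).lift.op _) =
        G.obj.map k₂.op (G.obj.map (Presieve.getFunctorPushforwardStructure hh₂).lift.op _)
      rw [← Functor.map_comp_apply, ← Functor.map_comp_apply, ← op_comp, ← op_comp]
      apply key_compat F J hF G R hR x hx
      rw [Category.assoc, Category.assoc, ← (Presieve.getFunctorPushforwardStructure hh₁).fac,
        ← (Presieve.getFunctorPushforwardStructure hh₂).fac, comm]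
    refine ⟨(hGs _ hcov).amalgamate y hy, fun V r hr => ?_⟩
    have h1 := (hGs _ hcov).valid_glue hy ((ι F S).map r)
      (Sieve.image_mem_functorPushforward _ _ hr)
    refine h1.trans ?_
    have h2 := key_compat F J hF G R hR x hx
      (Presieve.getFunctorPushforwardStructure
        (Sieve.image_mem_functorPushforward (ι F S) R hr)).lift (𝟙 _)
      (Presieve.getFunctorPushforwardStructure
        (Sieve.image_mem_functorPushforward (ι F S) R hr)).cover hr
      (by rw [← (Presieve.getFunctorPushforwardStructure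
        (Sieve.image_mem_functorPushforward (ι F S) R hr)).fac, Category.id_comp])
    refine h2.trans ?_
    simp

theorem isSheaf_types_of_fibres (P' : (∫ᶜ F)ᵒᵖ ⥤ Type t)
    (h : ∀ S : 𝒮, Presieve.IsSheaf (J S) ((ι F S).op ⋙ P')) :
    Presieve.IsSheaf (FibSite.totalTopology F J) P' := by
  have hsep : ∀ (X : ∫ᶜ F) (S' : Sieve X), S' ∈ FibSite.totalTopology F J X →
      Presieve.IsSeparatedFor P' S'.arrows := by
    intro X S' hS'
    obtain ⟨R, hR, hle⟩ := (mem_totalTopology_iff F J hF X S').1 hS'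
    intro y t₁ t₂ h₁ h₂
    refine (h X.base R hR).isSeparatedFor.ext (t₁ := t₁) (t₂ := t₂) ?_
    intro V r hr
    exact (h₁ _ (hle _ (Sieve.image_mem_functorPushforward _ _ hr))).trans
      (h₂ _ (hle _ (Sieve.image_mem_functorPushforward _ _ hr))).symm
  intro X S' hS'
  obtain ⟨R, hR, hle⟩ := (mem_totalTopology_iff F J hF X S').1 hS'
  rw [← Presieve.isSeparatedFor_and_exists_isAmalgamation_iff_isSheafFor]
  refine ⟨hsep X S' hS', fun y hy => ?_⟩
  have hys := (Presieve.compatible_iff_sieveCompatible y).1 hy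
  let x : Presieve.FamilyOfElements ((ι F X.base).op ⋙ P') R.arrows := fun V r hr =>
    y ((ι F X.base).map r) (hle _ (Sieve.image_mem_functorPushforward _ _ hr))
  have hx : x.Compatible := by
    intro V₁ V₂ V'' a b r₁ r₂ hr₁ hr₂ comm
    exact hy ((ι F X.base).map a) ((ι F X.base).map b) _ _
      (by rw [← Functor.map_comp, ← Functor.map_comp, comm])
  have ht : ∀ (V : F.obj ⟨op X.base⟩) (r : V ⟶ X.fiber) (hr : R r),
      P'.map ((ι F X.base).map r).op ((h X.base R hR).amalgamate x hx) = x r hr :=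
    fun V r hr => (h X.base R hR).valid_glue hx r hr
  refine ⟨(h X.base R hR).amalgamate x hx, ?_⟩
  intro W k hk
  have hV : (R.functorPushforward (ι F X.base)).pullback k ∈ FibSite.totalTopology F J W :=
    GrothendieckTopology.pullback_stable _ _ (FibSite.functorPushforward_mem_totalTopology hR)
  refine (hsep W _ hV).ext ?_
  rintro W' m ⟨V, r, l, hr, e⟩
  have s1 : P'.map m.op (P'.map k.op ((h X.base R hR).amalgamate x hx)) =
      P'.map l.op (x r hr) := by
    rw [map_op_comp_apply, e, ← map_op_comp_apply]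
    exact congrArg (fun z => P'.map l.op z) (ht V r hr)
  have s2 : P'.map m.op (y k hk) = y (m ≫ k) (S'.downward_closed hk m) := (hys k m hk).symm
  have s3 : P'.map l.op (x r hr) = y (l ≫ (ι F X.base).map r)
      (S'.downward_closed (hle _ (Sieve.image_mem_functorPushforward _ _ hr)) l) :=
    (hys _ l _).symm
  rw [s1, s2, s3]
  congr 1
  exact e.symm

theorem isSheaf_totalTopology_iff {A : Type u₃} [Category.{v₃} A] (P : (∫ᶜ F)ᵒᵖ ⥤ A) :
    Presheaf.IsSheaf (FibSite.totalTopology F J) P ↔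
      ∀ S : 𝒮, Presheaf.IsSheaf (J S) ((ι F S).op ⋙ P) := by
  constructor
  · intro h S
    haveI := isContinuous_ι F J hF S
    exact Functor.op_comp_isSheaf_of_isSheaf (ι F S) (J S) _ P h
  · intro h E
    exact isSheaf_types_of_fibres F J hF (P ⋙ coyoneda.obj (op E)) (fun S => h S E)

theorem isContinuous_totalTopology_iff {D : Type u₃} [Category.{v₃} D]
    (K : GrothendieckTopology D) (m : ∫ᶜ F ⥤ D) :
    m.IsContinuous (FibSite.totalTopology F J) K ↔
      ∀ S : 𝒮, (ι F S ⋙ m).IsContinuous (J S) K := by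
  constructor
  · intro h S
    haveI := isContinuous_ι F J hF S
    exact Functor.isContinuous_comp (ι F S) m (J S) (FibSite.totalTopology F J) K
  · intro h
    refine ⟨fun G => ?_⟩
    apply isSheaf_types_of_fibres F J hF
    intro S
    haveI := h S
    exact Functor.op_comp_isSheaf_of_types (ι F S ⋙ m) (J S) K G

omit hF in
theorem exists_vert {S : 𝒮} {V V₀ : F.obj ⟨op S⟩} (l : (ι F S).obj V ⟶ (ι F S).obj V₀)
    (hl : l.base = 𝟙 S) : ∃ l' : V ⟶ V₀, (ι F S).map l' = l := by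
  obtain ⟨b, φ⟩ := l
  dsimp at hl
  subst hl
  refine ⟨φ ≫ (F.mapId ⟨op S⟩).hom.toNatTrans.app V₀, ?_⟩
  ext <;> simp [← Cat.Hom₂.comp_app]

omit hF in
theorem ι_map_injective {S : 𝒮} {V V₀ : F.obj ⟨op S⟩} (a b : V ⟶ V₀)
    (h : (ι F S).map a = (ι F S).map b) : a = b := by
  simpa [cancel_mono, ← Cat.Hom.toNatIso_hom, ← Cat.Hom.toNatIso_inv] using
    ((Hom.ext_iff _ _).mp h).2

theorem inducedTopology_ι_eq (S : 𝒮) :
    (ι F S).inducedTopology (FibSite.totalTopology F J) = J S := by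
  apply le_antisymm
  · intro U R hR
    have hcp := (CoverPreserving.of_isContinuous (ι F S)
      ((ι F S).inducedTopology (FibSite.totalTopology F J))
      (FibSite.totalTopology F J)).cover_preserve hR
    obtain ⟨R', hR', hle⟩ := (mem_totalTopology_iff F J hF _ _).1 hcp
    refine (J S).superset_covering ?_ hR'
    intro V r hr
    obtain ⟨V₀, r₀, l, hr₀, e⟩ := hle _ (Sieve.image_mem_functorPushforward _ _ hr)
    have hl : l.base = 𝟙 S := by
      have := congrArg Hom.base e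
      simpa using this.symm
    obtain ⟨l', rfl⟩ := exists_vert F l hl
    have : r = l' ≫ r₀ := ι_map_injective F _ _ (e.trans (Functor.map_comp _ _ _).symm)
    rw [this]
    exact R.downward_closed hr₀ l'
  · rw [Functor.le_inducedTopology_iff]
    exact isContinuous_ι F J hF S

end Groth.Agent.Lib.FibSiteH8
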