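import Mathlib
import Groth.Prelude.Def_FibDesc
import Groth.Agent.Lib.FibSite2_helper8
import Groth.Agent.Lib.CohDescCrit3_helper7

/-!
# Side conditions of cohomological descent for augmented indexed spaces (helper7)

General facts on base change of fibred sites (`baseChangeFunctor` is continuous and cocontinuous),
the fibred category `SpF 𝒴` of open sets of a diagram of spaces, and the six side conditions of
`FibDesc.IsCohDescent` for `FibDesc.topAug Y`.  Then `IsCohDescentTop Y` is equivalent to the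
criterion "unit iso on injectives + acyclicity".
APPEND-ONLY once landed.
-/

set_option autoImplicit false
set_option backward.isDefEq.respectTransparency false
set_option backward.isDefEq.respectTransparency.types false
set_option linter.style.haveILetI false
set_option linter.unusedSectionVars false

universe v₃ u₃ v₂ u₂ v₁ u₁ u

open CategoryTheory CategoryTheory.Limits Opposite Pseudofunctor Pseudofunctor.CoGrothendieck
  TopologicalSpace

namespace Groth.Agent.Lib.FibDescSideH7

open FibDesc Groth.Agent.Lib.FibSiteH8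

section General

variable {𝒮 𝒮' : Type u₁} [Category.{v₁} 𝒮] [Category.{v₁} 𝒮']
  (F : Pseudofunctor (LocallyDiscrete 𝒮ᵒᵖ) Cat.{v₂, u₂}) (J : FibSite.Topologies F) (ψ : 𝒮' ⥤ 𝒮)

theorem isPreFibSite_baseChange (hF : FibSite.IsPreFibSite F J) :
    FibSite.IsPreFibSite (FibSite.baseChange F ψ) (FibSite.baseChangeTop J ψ) :=
  fun _ _ f => hF (ψ.map f)

theorem baseChangeFunctor_map_ι_map (S' : 𝒮') {U U' : F.obj ⟨op (ψ.obj S')⟩} (r : U ⟶ U') :
    (FibSite.baseChangeFunctor F ψ).map ((ι (FibSite.baseChange F ψ) S').map r) =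
      (ι F (ψ.obj S')).map r := by
  refine Hom.ext _ _ (ψ.map_id S') ?_
  simp [FibSite.baseChange, Pseudofunctor.comp_mapId, PrelaxFunctor.map₂_eqToHom]
  rfl

/-- the fibre inclusion of a base change followed by the base-change functor -/
def ιCompBaseChangeIso (S' : 𝒮') :
    ι (FibSite.baseChange F ψ) S' ⋙ FibSite.baseChangeFunctor F ψ ≅ ι F (ψ.obj S') :=
  NatIso.ofComponents (fun U => Iso.refl _) (fun {U U'} r => by
    have := baseChangeFunctor_map_ι_map F ψ S' r
    simp only [Functor.comp_map, Iso.refl_hom, Category.comp_id, Category.id_comp]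
    exact this)

theorem isContinuous_baseChangeFunctor (hF : FibSite.IsPreFibSite F J) :
    (FibSite.baseChangeFunctor F ψ).IsContinuous
      (FibSite.totalTopology (FibSite.baseChange F ψ) (FibSite.baseChangeTop J ψ))
      (FibSite.totalTopology F J) := by
  rw [isContinuous_totalTopology_iff _ _ (isPreFibSite_baseChange F J ψ hF)]
  intro S'
  haveI := isContinuous_ι F J hF (ψ.obj S')
  exact Functor.isContinuous_of_iso (ιCompBaseChangeIso F ψ S').symm _ _

theorem isCocontinuous_baseChangeFunctor (hF : FibSite.IsPreFibSite F J) :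
    (FibSite.baseChangeFunctor F ψ).IsCocontinuous
      (FibSite.totalTopology (FibSite.baseChange F ψ) (FibSite.baseChangeTop J ψ))
      (FibSite.totalTopology F J) := by
  refine ⟨fun {X T} hT => ?_⟩
  obtain ⟨R, hR, hle⟩ := (mem_totalTopology_iff F J hF _ T).1 hT
  rw [mem_totalTopology_iff _ _ (isPreFibSite_baseChange F J ψ hF)]
  refine ⟨R, hR, ?_⟩
  rintro W h ⟨V, r, l, hr, rfl⟩
  show T ((FibSite.baseChangeFunctor F ψ).map (l ≫ (ι (FibSite.baseChange F ψ) X.base).map r))
  rw [Functor.map_comp, baseChangeFunctor_map_ι_map]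
  exact T.downward_closed (hle _ (Sieve.image_mem_functorPushforward _ _ hr)) _

end General

section Sp

/-- the fibred category of open sets of a diagram of spaces -/
noncomputable abbrev SpF {𝒮 : Type} [SmallCategory 𝒮] (𝒴 : 𝒮 ⥤ TopCat.{u}) :
    Pseudofunctor (LocallyDiscrete 𝒮ᵒᵖ) Cat.{u, u} := (𝒴.op ⋙ opensCat).toPseudofunctor'

abbrev SpJ {𝒮 : Type} [SmallCategory 𝒮] (𝒴 : 𝒮 ⥤ TopCat.{u}) : FibSite.Topologies (SpF 𝒴) :=
  fun i => Opens.grothendieckTopology (𝒴.obj i)

variable {𝒮 : Type} [SmallCategory 𝒮] (𝒴 : 𝒮 ⥤ TopCat.{u})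

theorem isPreFibSite_SpF : FibSite.IsPreFibSite (SpF 𝒴) (SpJ 𝒴) :=
  fun _ _ f => (inferInstance : (Opens.map (𝒴.map f)).IsContinuous
    (Opens.grothendieckTopology _) (Opens.grothendieckTopology _))

instance thin_SpF (i : 𝒮) : Quiver.IsThin ((SpF 𝒴).obj ⟨op i⟩) :=
  fun a b => (inferInstance : Subsingleton ((a : Opens (𝒴.obj i)) ⟶ b))

variable {𝒴}

theorem hom_ext_thin {X X' : ∫ᶜ SpF 𝒴} (f g : X ⟶ X') (h : f.base = g.base) : f = g :=
  Hom.ext f g h (Subsingleton.elim _ _)

/-- the open set of an object -/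
def fib (X : ∫ᶜ SpF 𝒴) : Opens (𝒴.obj X.base) := X.fiber

/-- constructor of objects -/
def objMk (i : 𝒮) (U : Opens (𝒴.obj i)) : ∫ᶜ SpF 𝒴 := ⟨i, U⟩

/-- constructor for morphisms of the total category -/
def homMk {X X' : ∫ᶜ SpF 𝒴} (b : X.base ⟶ X'.base)
    (h : fib X ≤ (Opens.map (𝒴.map b)).obj (fib X')) : X ⟶ X' :=
  Hom.mk b (show (fib X ⟶ (Opens.map (𝒴.map b)).obj (fib X')) from homOfLE h)

@[simp] theorem homMk_base {X X' : ∫ᶜ SpF 𝒴} (b : X.base ⟶ X'.base)
    (h : fib X ≤ (Opens.map (𝒴.map b)).obj (fib X')) : (homMk b h).base = b := rfl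

theorem le_of_hom {X X' : ∫ᶜ SpF 𝒴} (f : X ⟶ X') :
    fib X ≤ (Opens.map (𝒴.map f.base)).obj (fib X') :=
  leOfHom f.fiber


variable (𝒴)

/-- an object of a fibre, as an open set -/
def asOpens (b : 𝒮) (V : (SpF 𝒴).obj ⟨op b⟩) : Opens (𝒴.obj b) := V

theorem representablyFlat_ι (b : 𝒮) (hb : IsTerminal b) : RepresentablyFlat (ι (SpF 𝒴) b) := by
  refine ⟨fun X => ?_⟩
  have hbase : ∀ (a a' : X.base ⟶ b), a = a' := fun a a' => hb.hom_ext a a'
  let mkObj : ∀ (V : Opens (𝒴.obj b)), fib X ≤ (Opens.map (𝒴.map (hb.from X.base))).obj V →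
      StructuredArrow X (ι (SpF 𝒴) b) := fun V h =>
    StructuredArrow.mk (Y := V) (homMk (X' := (ι (SpF 𝒴) b).obj V) (hb.from _) h)
  have hle : ∀ a : StructuredArrow X (ι (SpF 𝒴) b),
      fib X ≤ (Opens.map (𝒴.map (hb.from X.base))).obj (asOpens 𝒴 b a.right) := by
    intro a
    have h := le_of_hom a.hom
    rw [hbase a.hom.base (hb.from _)] at h
    exact h
  have hthin : ∀ (a a' : StructuredArrow X (ι (SpF 𝒴) b)) (f g : a ⟶ a'), f = g := by
    intro a a' f g
    apply StructuredArrow.ext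
    exact Subsingleton.elim _ _
  have hmk : ∀ (a a' : StructuredArrow X (ι (SpF 𝒴) b)),
      (asOpens 𝒴 b a.right ≤ asOpens 𝒴 b a'.right) → Nonempty (a ⟶ a') := by
    intro a a' h
    refine ⟨StructuredArrow.homMk (show a.right ⟶ a'.right from
      (show asOpens 𝒴 b a.right ⟶ asOpens 𝒴 b a'.right from homOfLE h)) ?_⟩
    exact hom_ext_thin _ _ (hbase _ _)
  haveI : Nonempty (StructuredArrow X (ι (SpF 𝒴) b)) :=
    ⟨mkObj ⊤ (fun x _ => trivial)⟩
  haveI : IsCofilteredOrEmpty (StructuredArrow X (ι (SpF 𝒴) b)) := by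
    refine ⟨fun a a' => ?_, fun a a' f g => ⟨a, 𝟙 a, by rw [hthin a a' f g]⟩⟩
    let W := mkObj (asOpens 𝒴 b a.right ⊓ asOpens 𝒴 b a'.right)
      (fun x hx => ⟨hle a hx, hle a' hx⟩)
    obtain ⟨p⟩ := hmk W a inf_le_left
    obtain ⟨q⟩ := hmk W a' inf_le_right
    exact ⟨W, p, q, trivial⟩
  exact ⟨⟩

end Sp

section Aug

variable {D : Type} [SmallCategory D] (Y : (WithInitial D)ᵒᵖ ⥤ TopCat.{u})

theorem isPreFibSite_topAug : FibSite.IsPreFibSite (topAug Y) (topAugTop Y) :=
  isPreFibSite_SpF Y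

theorem eps_isContinuous :
    (eps (topAug Y)).IsContinuous (topAugTop Y (bot D)) (totAug (topAug Y) (topAugTop Y)) :=
  isContinuous_ι _ _ (isPreFibSite_topAug Y) _

theorem eps_isCocontinuous :
    (eps (topAug Y)).IsCocontinuous (topAugTop Y (bot D)) (totAug (topAug Y) (topAugTop Y)) :=
  isCocontinuous_ι _ _ (isPreFibSite_topAug Y) _

theorem incl_isContinuous :
    (incl (topAug Y)).IsContinuous (totPart (topAug Y) (topAugTop Y))
      (totAug (topAug Y) (topAugTop Y)) :=
  isContinuous_baseChangeFunctor _ _ _ (isPreFibSite_topAug Y)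

theorem incl_isCocontinuous :
    (incl (topAug Y)).IsCocontinuous (totPart (topAug Y) (topAugTop Y))
      (totAug (topAug Y) (topAugTop Y)) :=
  isCocontinuous_baseChangeFunctor _ _ _ (isPreFibSite_topAug Y)

/-- the base point is a terminal object of the base category -/
def botTerminal : IsTerminal (bot D) := terminalOpOfInitial WithInitial.starInitial

theorem eps_flat : RepresentablyFlat (eps (topAug Y)) :=
  representablyFlat_ι Y (bot D) botTerminal


end Aug
end Groth.Agent.Lib.FibDescSideH7
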