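import Mathlib
import Groth.Prelude.Def_FibDesc
import Groth.Agent.Lib.FibDescSide_helper7
import Groth.Agent.Lib.CohDescCrit3_helper7

/-!
# Side conditions of cohomological descent, part 2 (helper7)

The remaining side conditions for `FibDesc.topAug Y` and the criterion
`IsCohDescentTop Y ↔ (unit iso + acyclicity)`.
APPEND-ONLY once landed.
-/

set_option autoImplicit false
set_option backward.isDefEq.respectTransparency false
set_option backward.isDefEq.respectTransparency.types false
set_option linter.style.haveILetI false
set_option linter.unusedSectionVars false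

universe u

open CategoryTheory CategoryTheory.Limits Opposite Pseudofunctor Pseudofunctor.CoGrothendieck
  TopologicalSpace

namespace Groth.Agent.Lib.FibDescSideH7

open FibDesc Groth.Agent.Lib.FibSiteH8

variable {D : Type} [SmallCategory D] (Y : (WithInitial D)ᵒᵖ ⥤ TopCat.{u})

attribute [local instance] eps_isContinuous incl_isContinuous incl_isCocontinuous eps_flat

theorem eps_isRightAdjoint :
    ((eps (topAug Y)).sheafPushforwardContinuous AddCommGrpCat.{u} (topAugTop Y (bot D))
      (totAug (topAug Y) (topAugTop Y))).IsRightAdjoint := inferInstance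


theorem incl_hasRan : ∀ P : (∫ᶜ (part (topAug Y)))ᵒᵖ ⥤ AddCommGrpCat.{u},
    (incl (topAug Y)).op.HasPointwiseRightKanExtension P := fun _ => inferInstance

theorem preservesFiniteLimits_extend :
    PreservesFiniteLimits (FibSite.extend (topAug Y) (topAugTop Y) AddCommGrpCat.{u} (bot D)) :=
  Functor.SmallCategories.instPreservesFiniteLimitsSheafSheafPullbackOfRepresentablyFlat
    (eps (topAug Y)) AddCommGrpCat.{u} (topAugTop Y (bot D)) (totAug (topAug Y) (topAugTop Y))


theorem incl_res_isRightAdjoint :
    ((incl (topAug Y)).sheafPushforwardContinuous AddCommGrpCat.{u}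
      (totPart (topAug Y) (topAugTop Y)) (totAug (topAug Y) (topAugTop Y))).IsRightAdjoint :=
  inferInstance

theorem preservesFiniteLimits_res_incl :
    PreservesFiniteLimits ((incl (topAug Y)).sheafPushforwardContinuous AddCommGrpCat.{u}
      (totPart (topAug Y) (topAugTop Y)) (totAug (topAug Y) (topAugTop Y))) := by
  haveI := incl_res_isRightAdjoint Y
  haveI : PreservesLimitsOfSize.{0, 0} ((incl (topAug Y)).sheafPushforwardContinuous
      AddCommGrpCat.{u} (totPart (topAug Y) (topAugTop Y)) (totAug (topAug Y) (topAugTop Y))) :=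
    (Adjunction.ofIsRightAdjoint _).rightAdjoint_preservesLimits
  exact PreservesLimitsOfSize.preservesFiniteLimits _

theorem preservesFiniteLimits_pull :
    PreservesFiniteLimits (pull (topAug Y) (topAugTop Y) AddCommGrpCat.{u}) := by
  haveI := preservesFiniteLimits_extend Y
  haveI := preservesFiniteLimits_res_incl Y
  exact comp_preservesFiniteLimits _ _

attribute [local instance] preservesFiniteLimits_pull

attribute [local instance] HasDerivedCategory.standard

theorem isCohDescentTop_of_bijective
    (h : ∀ K L : DerivedCategory.Plus (BaseSh (topAug Y) (topAugTop Y) AddCommGrpCat.{u}),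
      Function.Bijective fun g : K.obj ⟶ L.obj =>
        (pull (topAug Y) (topAugTop Y) AddCommGrpCat.{u}).mapDerivedCategory.map g) :
    IsCohDescentTop Y :=
  ⟨eps_isContinuous Y, eps_isRightAdjoint Y, incl_isContinuous Y, incl_isCocontinuous Y,
    incl_hasRan Y, preservesFiniteLimits_pull Y, h⟩

theorem bijective_of_isCohDescentTop (h : IsCohDescentTop Y)
    (K L : DerivedCategory.Plus (BaseSh (topAug Y) (topAugTop Y) AddCommGrpCat.{u})) :
    Function.Bijective fun g : K.obj ⟶ L.obj =>
      (pull (topAug Y) (topAugTop Y) AddCommGrpCat.{u}).mapDerivedCategory.map g := by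
  obtain ⟨_, _, _, _, _, _, h⟩ := h
  exact h K L

open Groth.Agent.Lib.FAcyc (acyc)

/-- **Criterion**: unit iso on injectives and acyclicity give cohomological descent. -/
theorem isCohDescentTop_of_acyc
    (h : ∀ I : BaseSh (topAug Y) (topAugTop Y) AddCommGrpCat.{u}, Injective I →
      IsIso ((adj (topAug Y) (topAugTop Y) AddCommGrpCat.{u}).unit.app I) ∧
        acyc (push (topAug Y) (topAugTop Y) AddCommGrpCat.{u})
          ((pull (topAug Y) (topAugTop Y) AddCommGrpCat.{u}).obj I)) :
    IsCohDescentTop Y := by
  apply isCohDescentTop_of_bijective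
  intro K L
  exact Groth.Agent.Lib.CohDescCritH7.bijective_of_acyc
    (adj (topAug Y) (topAugTop Y) AddCommGrpCat.{u}) h K.obj L

/-- the converse -/
theorem acyc_of_isCohDescentTop (h : IsCohDescentTop Y)
    (A : BaseSh (topAug Y) (topAugTop Y) AddCommGrpCat.{u}) :
    IsIso ((adj (topAug Y) (topAugTop Y) AddCommGrpCat.{u}).unit.app A) ∧
      acyc (push (topAug Y) (topAugTop Y) AddCommGrpCat.{u})
        ((pull (topAug Y) (topAugTop Y) AddCommGrpCat.{u}).obj A) :=
  Groth.Agent.Lib.CohDescCritH7.acyc_of_ffplus
    (adj (topAug Y) (topAugTop Y) AddCommGrpCat.{u}) (bijective_of_isCohDescentTop Y h) A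


end Groth.Agent.Lib.FibDescSideH7
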