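import Mathlib
import Groth.Prelude.Def_FibDesc
import Groth.Agent.Lib.FibSite2_helper8

/-!
# Fibred categories with thin fibres: functors between total categories (helper7)

`ThinFib F`: all fibres of `F` are thin.  `mkFunctor ψ o lax` is the functor `∫ᶜ F' ⥤ ∫ᶜ F` over a
functor `ψ` of bases given by functors `o x` on the fibres and lax compatibilities; it is continuous
(resp. cocontinuous) for the total topologies when the `o x` are.
APPEND-ONLY once landed.
-/

set_option autoImplicit false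
set_option backward.isDefEq.respectTransparency false
set_option backward.isDefEq.respectTransparency.types false
set_option linter.style.haveILetI false
set_option linter.unusedSectionVars false

universe v₂' u₂' v₂ u₂ v₁' u₁' v₁ u₁

open CategoryTheory CategoryTheory.Limits Opposite Pseudofunctor Pseudofunctor.CoGrothendieck

namespace Groth.Agent.Lib.FibThinH7

open Groth.Agent.Lib.FibSiteH8

variable {𝒮 : Type u₁} [Category.{v₁} 𝒮] {F : Pseudofunctor (LocallyDiscrete 𝒮ᵒᵖ) Cat.{v₂, u₂}}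

/-- all fibres are thin categories -/
class ThinFib (F : Pseudofunctor (LocallyDiscrete 𝒮ᵒᵖ) Cat.{v₂, u₂}) : Prop where
  thin : ∀ (x : 𝒮) (a b : F.obj ⟨op x⟩), Subsingleton (a ⟶ b)

instance thinFib_isThin [ThinFib F] (x : 𝒮) : Quiver.IsThin (F.obj ⟨op x⟩) := ThinFib.thin x

theorem hom_ext_thin [ThinFib F] {X X' : ∫ᶜ F} (f g : X ⟶ X') (h : f.base = g.base) : f = g :=
  Hom.ext f g h (Subsingleton.elim _ _)

instance thin_baseChange [ThinFib F] {𝒮₀ : Type u₁} [Category.{v₁} 𝒮₀] (ψ : 𝒮₀ ⥤ 𝒮) :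
    ThinFib (FibSite.baseChange F ψ) :=
  ⟨fun x a b => ThinFib.thin (F := F) (ψ.obj x) a b⟩

theorem comp_base {X X' X'' : ∫ᶜ F} (f : X ⟶ X') (g : X' ⟶ X'') :
    (f ≫ g).base = f.base ≫ g.base := rfl

theorem id_base (X : ∫ᶜ F) : (𝟙 X : X ⟶ X).base = 𝟙 X.base := rfl

section Mk

variable {𝒮' : Type u₁'} [Category.{v₁'} 𝒮']
  {F' : Pseudofunctor (LocallyDiscrete 𝒮'ᵒᵖ) Cat.{v₂', u₂'}} [ThinFib F]
  (ψ : 𝒮' ⥤ 𝒮) (o : ∀ x : 𝒮', F'.obj ⟨op x⟩ ⥤ F.obj ⟨op (ψ.obj x)⟩)
  (lax : ∀ {x y : 𝒮'} (a : x ⟶ y) (W : F'.obj ⟨op y⟩),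
    (o x).obj ((FibSite.invImage F' a).obj W) ⟶ (FibSite.invImage F (ψ.map a)).obj ((o y).obj W))

/-- the functor between total categories over `ψ` with fibre functors `o x` -/
def mkFunctor : ∫ᶜ F' ⥤ ∫ᶜ F where
  obj X := ⟨ψ.obj X.base, (o X.base).obj X.fiber⟩
  map {X X'} f := ⟨ψ.map f.base, (o X.base).map f.fiber ≫ lax f.base X'.fiber⟩
  map_id X := hom_ext_thin _ _ (ψ.map_id _)
  map_comp f g := hom_ext_thin _ _ (ψ.map_comp _ _)

@[simp] theorem mkFunctor_obj_base (X : ∫ᶜ F') : ((mkFunctor ψ o lax).obj X).base = ψ.obj X.base :=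
  rfl

@[simp] theorem mkFunctor_map_base {X X' : ∫ᶜ F'} (f : X ⟶ X') :
    ((mkFunctor ψ o lax).map f).base = ψ.map f.base := rfl

theorem mkFunctor_map_ι_map (x : 𝒮') {U U' : F'.obj ⟨op x⟩} (r : U ⟶ U') :
    (mkFunctor ψ o lax).map ((ι F' x).map r) = (ι F (ψ.obj x)).map ((o x).map r) :=
  hom_ext_thin _ _ (ψ.map_id x)

/-- fibre inclusion followed by `mkFunctor` -/
def ιCompMkIso (x : 𝒮') : ι F' x ⋙ mkFunctor ψ o lax ≅ o x ⋙ ι F (ψ.obj x) :=
  NatIso.ofComponents (fun U => Iso.refl _) (fun {U U'} r => by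
    have := mkFunctor_map_ι_map ψ o lax x r
    simp only [Functor.comp_map, Iso.refl_hom, Category.comp_id, Category.id_comp]
    exact this)

variable (J : FibSite.Topologies F) (J' : FibSite.Topologies F')

theorem isContinuous_mkFunctor (hF : FibSite.IsPreFibSite F J) (hF' : FibSite.IsPreFibSite F' J')
    (ho : ∀ x, (o x).IsContinuous (J' x) (J (ψ.obj x))) :
    (mkFunctor ψ o lax).IsContinuous (FibSite.totalTopology F' J') (FibSite.totalTopology F J) := by
  rw [isContinuous_totalTopology_iff _ _ hF']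
  intro x
  haveI := isContinuous_ι F J hF (ψ.obj x)
  haveI := ho x
  haveI : (o x ⋙ ι F (ψ.obj x)).IsContinuous (J' x) (FibSite.totalTopology F J) :=
    Functor.isContinuous_comp (o x) (ι F (ψ.obj x)) (J' x) (J (ψ.obj x)) _
  exact Functor.isContinuous_of_iso (ιCompMkIso ψ o lax x).symm _ _

theorem isCocontinuous_mkFunctor (hF : FibSite.IsPreFibSite F J) (hF' : FibSite.IsPreFibSite F' J')
    (ho : ∀ x, (o x).IsCocontinuous (J' x) (J (ψ.obj x))) :
    (mkFunctor ψ o lax).IsCocontinuous (FibSite.totalTopology F' J')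
      (FibSite.totalTopology F J) := by
  refine ⟨fun {X T} hT => ?_⟩
  obtain ⟨R, hR, hle⟩ := (mem_totalTopology_iff F J hF _ T).1 hT
  rw [mem_totalTopology_iff _ _ hF']
  haveI := ho X.base
  refine ⟨R.functorPullback (o X.base), (o X.base).cover_lift (J' X.base) (J (ψ.obj X.base)) hR, ?_⟩
  rintro W h ⟨V, r, l, hr, rfl⟩
  show T ((mkFunctor ψ o lax).map (l ≫ (ι F' X.base).map r))
  rw [Functor.map_comp, mkFunctor_map_ι_map]
  exact T.downward_closed (hle _ (Sieve.image_mem_functorPushforward _ _ hr)) _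

end Mk

end Groth.Agent.Lib.FibThinH7
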