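import Mathlib
import Groth.Prelude.Def_FibDesc
import Groth.Agent.Lib.CechSplit2_helper7
import Groth.Agent.Lib.FibThin_helper7
import Groth.Agent.Lib.FibDescSide2_helper7

/-!
# The functor `κ` from the augmented total site to the split total site (helper7)
APPEND-ONLY once landed.
-/

set_option autoImplicit false
set_option backward.isDefEq.respectTransparency false
set_option backward.isDefEq.respectTransparency.types false
set_option linter.style.haveILetI false
set_option linter.unusedSectionVars false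

universe u

open CategoryTheory CategoryTheory.Limits Opposite Pseudofunctor Pseudofunctor.CoGrothendieck
  TopologicalSpace

namespace Groth.Agent.Lib.CechSplitH7

open FibDesc Groth.Agent.Lib.FibThinH7 Groth.Agent.Lib.FibDescSideH7

section GeneralSp

variable {𝒮 : Type} [SmallCategory 𝒮] (𝒴 : 𝒮 ⥤ TopCat.{u})

instance thinFib_SpF : ThinFib (SpF 𝒴) := ⟨fun x a b => (thin_SpF 𝒴 x) a b⟩

instance thinFib_topAug {D : Type} [SmallCategory D] (Y : (WithInitial D)ᵒᵖ ⥤ TopCat.{u}) :
    ThinFib (topAug Y) := thinFib_SpF Y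

variable {𝒮' : Type} [SmallCategory 𝒮'] (ψ : 𝒮' ⥤ 𝒮)

/-- the open set of an object of a base-changed total category -/
def fibB (X : ∫ᶜ FibSite.baseChange (SpF 𝒴) ψ) : Opens (𝒴.obj (ψ.obj X.base)) := X.fiber

/-- constructor of objects -/
def objMkB (i : 𝒮') (U : Opens (𝒴.obj (ψ.obj i))) : ∫ᶜ FibSite.baseChange (SpF 𝒴) ψ := ⟨i, U⟩

variable {𝒴 ψ}

/-- constructor for morphisms -/
def homMkB {X X' : ∫ᶜ FibSite.baseChange (SpF 𝒴) ψ} (b : X.base ⟶ X'.base)
    (h : fibB 𝒴 ψ X ≤ (Opens.map (𝒴.map (ψ.map b))).obj (fibB 𝒴 ψ X')) : X ⟶ X' :=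
  Hom.mk b (show (fibB 𝒴 ψ X ⟶ (Opens.map (𝒴.map (ψ.map b))).obj (fibB 𝒴 ψ X')) from homOfLE h)

@[simp] theorem homMkB_base {X X' : ∫ᶜ FibSite.baseChange (SpF 𝒴) ψ} (b : X.base ⟶ X'.base)
    (h : fibB 𝒴 ψ X ≤ (Opens.map (𝒴.map (ψ.map b))).obj (fibB 𝒴 ψ X')) : (homMkB b h).base = b := rfl

theorem le_of_homB {X X' : ∫ᶜ FibSite.baseChange (SpF 𝒴) ψ} (g : X ⟶ X') :
    fibB 𝒴 ψ X ≤ (Opens.map (𝒴.map (ψ.map g.base))).obj (fibB 𝒴 ψ X') :=
  leOfHom g.fiber

end GeneralSp

theorem map_obj_of_comp {A B C : TopCat.{u}} (g : A ⟶ B) (h : B ⟶ C) (k : A ⟶ C)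
    (e : g ≫ h = k) (V : Opens C) :
    (Opens.map g).obj ((Opens.map h).obj V) = (Opens.map k).obj V := by
  subst e
  rfl

variable {X S : TopCat.{u}} (f : X ⟶ S) (s : S ⟶ X) (hs : s ≫ f = 𝟙 S)

/-- the fibred category of the split nerve -/
noncomputable abbrev F2 : Pseudofunctor (LocallyDiscrete DBᵒᵖᵒᵖ) Cat.{u, u} := SpF (Yp f s hs)

/-- the split total site -/
noncomputable abbrev J2 : GrothendieckTopology (∫ᶜ F2 f s hs) :=
  FibSite.totalTopology (F2 f s hs) (SpJ (Yp f s hs))

/-- fibre functors of `κ`: identities -/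
noncomputable def κo (x : (WithInitial SimplexCategory)ᵒᵖ) :
    (topAug (cechAug f)).obj ⟨op x⟩ ⥤ (F2 f s hs).obj ⟨op (Ψ.op.obj x)⟩ :=
  𝟭 (Opens ((cechAug f).obj x))

theorem κlax_eq {x y : (WithInitial SimplexCategory)ᵒᵖ} (a : x ⟶ y)
    (W : Opens ((cechAug f).obj y)) :
    (Opens.map ((cechAug f).map a)).obj W = (Opens.map ((Yp f s hs).map (Ψ.op.map a))).obj W :=
  congrArg (fun m => (Opens.map m).obj W) (cech_eq f s hs a.unop)

/-- the functor `κ` -/
noncomputable def κ : ∫ᶜ topAug (cechAug f) ⥤ ∫ᶜ F2 f s hs :=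
  mkFunctor (F' := topAug (cechAug f)) (F := F2 f s hs) Ψ.op (κo f s hs)
    (fun {x y} a W => show ((Opens.map ((cechAug f).map a)).obj W ⟶
        (Opens.map ((Yp f s hs).map (Ψ.op.map a))).obj W) from eqToHom (κlax_eq f s hs a W))

theorem κ_obj_base (t : ∫ᶜ topAug (cechAug f)) : ((κ f s hs).obj t).base = Ψ.op.obj t.base := rfl

theorem κ_map_base {t t' : ∫ᶜ topAug (cechAug f)} (g : t ⟶ t') :
    ((κ f s hs).map g).base = Ψ.op.map g.base := rfl

theorem isPreFibSite_F2 : FibSite.IsPreFibSite (F2 f s hs) (SpJ (Yp f s hs)) :=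
  isPreFibSite_SpF _

theorem κ_isContinuous :
    (κ f s hs).IsContinuous (totAug (topAug (cechAug f)) (topAugTop (cechAug f))) (J2 f s hs) :=
  isContinuous_mkFunctor (F' := topAug (cechAug f)) (F := F2 f s hs) Ψ.op (κo f s hs) _
    (SpJ (Yp f s hs)) (topAugTop (cechAug f)) (isPreFibSite_F2 f s hs)
    (isPreFibSite_topAug (cechAug f))
    (fun x => (inferInstance : (𝟭 (Opens ((cechAug f).obj x))).IsContinuous
      (Opens.grothendieckTopology _) (Opens.grothendieckTopology _)))

theorem κ_isCocontinuous :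
    (κ f s hs).IsCocontinuous (totAug (topAug (cechAug f)) (topAugTop (cechAug f))) (J2 f s hs) :=
  isCocontinuous_mkFunctor (F' := topAug (cechAug f)) (F := F2 f s hs) Ψ.op (κo f s hs) _
    (SpJ (Yp f s hs)) (topAugTop (cechAug f)) (isPreFibSite_F2 f s hs)
    (isPreFibSite_topAug (cechAug f))
    (fun x => (inferInstance : (𝟭 (Opens ((cechAug f).obj x))).IsCocontinuous
      (Opens.grothendieckTopology _) (Opens.grothendieckTopology _)))


theorem base_to_star_ext {d : DBᵒᵖ} (a b : d ⟶ op DB.star) : a = b :=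
  Quiver.Hom.unop_inj (DB.hom_from_star_ext _ _)

theorem base_to_bot_ext {x : (WithInitial SimplexCategory)ᵒᵖ}
    (a b : x ⟶ bot SimplexCategory) : a = b :=
  (botTerminal (D := SimplexCategory)).hom_ext a b

/-- the composite `E = ε ⋙ κ` -/
noncomputable abbrev Eκ : (topAug (cechAug f)).obj ⟨op (bot SimplexCategory)⟩ ⥤ ∫ᶜ F2 f s hs :=
  eps (topAug (cechAug f)) ⋙ κ f s hs

theorem Eκ_obj_base (V : (topAug (cechAug f)).obj ⟨op (bot SimplexCategory)⟩) :
    ((Eκ f s hs).obj V).base = op DB.star := rfl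

instance faithful_Eκ : (Eκ f s hs).Faithful where
  map_injective {V V'} a b _ := Subsingleton.elim _ _

instance full_Eκ : (Eκ f s hs).Full where
  map_surjective {V V'} m := by
    have hb : m.base = 𝟙 (op DB.star) := base_to_star_ext _ _
    have e : (Yp f s hs).map m.base = 𝟙 _ := by
      rw [hb]
      exact (Yp f s hs).map_id _
    have hle := le_of_hom (𝒴 := Yp f s hs) m
    rw [e] at hle
    have hle' : asOpens (cechAug f) (bot SimplexCategory) V ≤
        asOpens (cechAug f) (bot SimplexCategory) V' := fun x hx => hle hx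
    refine ⟨(show V ⟶ V' from (show asOpens (cechAug f) (bot SimplexCategory) V ⟶
      asOpens (cechAug f) (bot SimplexCategory) V' from homOfLE hle')), ?_⟩
    exact FibThinH7.hom_ext_thin _ _ (base_to_star_ext _ _)

/-- relative full faithfulness of `κ` at the objects of the base -/
theorem κ_bijective (t : ∫ᶜ topAug (cechAug f))
    (V : (topAug (cechAug f)).obj ⟨op (bot SimplexCategory)⟩) :
    Function.Bijective (fun g : t ⟶ (eps (topAug (cechAug f))).obj V => (κ f s hs).map g) := by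
  constructor
  · intro a b _
    exact FibThinH7.hom_ext_thin _ _ (base_to_bot_ext _ _)
  · intro m
    have hb : m.base = Ψ.op.map ((botTerminal (D := SimplexCategory)).from t.base) :=
      base_to_star_ext _ _
    have hle := le_of_hom (𝒴 := Yp f s hs) m
    rw [hb] at hle
    have hle' : fib (𝒴 := cechAug f) t ≤
        (Opens.map ((cechAug f).map ((botTerminal (D := SimplexCategory)).from t.base))).obj
          (asOpens (cechAug f) (bot SimplexCategory) V) := by
      rw [κlax_eq f s hs]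
      exact hle
    refine ⟨homMk (𝒴 := cechAug f) (X' := (eps (topAug (cechAug f))).obj V)
      ((botTerminal (D := SimplexCategory)).from t.base) hle', ?_⟩
    exact FibThinH7.hom_ext_thin _ _ (base_to_star_ext _ _)

end Groth.Agent.Lib.CechSplitH7
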