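import Mathlib
import Groth.Prelude.Def_FibDesc
import Groth.Agent.Lib.FibThin_helper7

/-!
# Adjunctions between total categories of fibred categories with thin fibres (helper7)

For two fibred categories `F'`, `F` over the same base with thin fibres, fibrewise adjunctions
`o x ⊣ r x` with lax compatibilities give an adjunction `nuT ⊣ rT` between the total categories.
Compatibility with base change.
APPEND-ONLY once landed.
-/

set_option autoImplicit false
set_option backward.isDefEq.respectTransparency false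
set_option backward.isDefEq.respectTransparency.types false
set_option linter.style.haveILetI false
set_option linter.unusedSectionVars false

universe v₂' u₂' v₂ u₂ v₁ u₁

open CategoryTheory CategoryTheory.Limits Opposite Pseudofunctor Pseudofunctor.CoGrothendieck

namespace Groth.Agent.Lib.FibThinH7

variable {𝒮 : Type u₁} [Category.{v₁} 𝒮]
  {F : Pseudofunctor (LocallyDiscrete 𝒮ᵒᵖ) Cat.{v₂, u₂}}
  {F' : Pseudofunctor (LocallyDiscrete 𝒮ᵒᵖ) Cat.{v₂', u₂'}}

theorem ι_map_base (x : 𝒮) {U U' : F.obj ⟨op x⟩} (m : U ⟶ U') : ((ι F x).map m).base = 𝟙 x :=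
  rfl

section Adj

variable [ThinFib F] [ThinFib F']
  (o : ∀ x : 𝒮, F'.obj ⟨op x⟩ ⥤ F.obj ⟨op x⟩) (r : ∀ x : 𝒮, F.obj ⟨op x⟩ ⥤ F'.obj ⟨op x⟩)
  (laxo : ∀ {x y : 𝒮} (a : x ⟶ y) (W : F'.obj ⟨op y⟩),
    (o x).obj ((FibSite.invImage F' a).obj W) ⟶ (FibSite.invImage F a).obj ((o y).obj W))
  (laxr : ∀ {x y : 𝒮} (a : x ⟶ y) (W : F.obj ⟨op y⟩),
    (r x).obj ((FibSite.invImage F a).obj W) ⟶ (FibSite.invImage F' a).obj ((r y).obj W))
  (adj : ∀ x, o x ⊣ r x)

/-- the functor on total categories induced by the `o x` -/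
def nuT : ∫ᶜ F' ⥤ ∫ᶜ F := mkFunctor (F' := F') (F := F) (𝟭 𝒮) o laxo

/-- the functor on total categories induced by the `r x` -/
def rT : ∫ᶜ F ⥤ ∫ᶜ F' := mkFunctor (F' := F) (F := F') (𝟭 𝒮) r laxr

theorem nuT_map_base {X X' : ∫ᶜ F'} (f : X ⟶ X') : ((nuT o laxo).map f).base = f.base := rfl

theorem rT_map_base {X X' : ∫ᶜ F} (f : X ⟶ X') : ((rT r laxr).map f).base = f.base := rfl

/-- unit component -/
def unitApp (X : ∫ᶜ F') : X ⟶ (rT r laxr).obj ((nuT o laxo).obj X) :=
  (ι F' X.base).map ((adj X.base).unit.app X.fiber)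

/-- counit component -/
def counitApp (X : ∫ᶜ F) : (nuT o laxo).obj ((rT r laxr).obj X) ⟶ X :=
  (ι F X.base).map ((adj X.base).counit.app X.fiber)

theorem unitApp_base (X : ∫ᶜ F') : (unitApp o r laxo laxr adj X).base = 𝟙 X.base := rfl

theorem counitApp_base (X : ∫ᶜ F) : (counitApp o r laxo laxr adj X).base = 𝟙 X.base := rfl

/-- the adjunction between total categories -/
def mkAdj : nuT o laxo ⊣ rT r laxr where
  unit :=
    { app := fun X => unitApp o r laxo laxr adj X
      naturality := fun X X' f => hom_ext_thin _ _ (by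
        show f.base ≫ 𝟙 X'.base = 𝟙 X.base ≫ f.base
        rw [Category.comp_id, Category.id_comp]) }
  counit :=
    { app := fun X => counitApp o r laxo laxr adj X
      naturality := fun X X' f => hom_ext_thin _ _ (by
        show f.base ≫ 𝟙 X'.base = 𝟙 X.base ≫ f.base
        rw [Category.comp_id, Category.id_comp]) }
  left_triangle_components X := hom_ext_thin _ _ (by
    show 𝟙 X.base ≫ 𝟙 X.base = 𝟙 X.base
    rw [Category.comp_id])
  right_triangle_components X := hom_ext_thin _ _ (by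
    show 𝟙 X.base ≫ 𝟙 X.base = 𝟙 X.base
    rw [Category.comp_id])

theorem mkAdj_unit_app (X : ∫ᶜ F') :
    (mkAdj o r laxo laxr adj).unit.app X = unitApp o r laxo laxr adj X := rfl

theorem mkAdj_counit_app (X : ∫ᶜ F) :
    (mkAdj o r laxo laxr adj).counit.app X = counitApp o r laxo laxr adj X := rfl

theorem isIso_mkAdj_counit_app (X : ∫ᶜ F) (h : IsIso ((adj X.base).counit.app X.fiber)) :
    IsIso ((mkAdj o r laxo laxr adj).counit.app X) := by
  rw [mkAdj_counit_app]
  unfold counitApp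
  infer_instance

theorem isIso_mkAdj_unit_app (X : ∫ᶜ F') (h : IsIso ((adj X.base).unit.app X.fiber)) :
    IsIso ((mkAdj o r laxo laxr adj).unit.app X) := by
  rw [mkAdj_unit_app]
  unfold unitApp
  infer_instance

instance faithful_nuT : (nuT o laxo).Faithful where
  map_injective {X X'} f g hfg := by
    apply hom_ext_thin
    have h := congrArg
      (fun m : (nuT o laxo).obj X ⟶ (nuT o laxo).obj X' => m.base) hfg
    exact h

theorem full_nuT (hfull : ∀ {x y : 𝒮} (b : x ⟶ y) (W₁ : F'.obj ⟨op x⟩) (W₂ : F'.obj ⟨op y⟩),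
      ((o x).obj W₁ ⟶ (FibSite.invImage F b).obj ((o y).obj W₂)) →
        (W₁ ⟶ (FibSite.invImage F' b).obj W₂)) : (nuT o laxo).Full where
  map_surjective {X X'} m :=
    ⟨⟨m.base, hfull m.base X.fiber X'.fiber m.fiber⟩, hom_ext_thin _ _ rfl⟩

variable (J : FibSite.Topologies F) (J' : FibSite.Topologies F')

theorem isContinuous_nuT (hF : FibSite.IsPreFibSite F J) (hF' : FibSite.IsPreFibSite F' J')
    (ho : ∀ x, (o x).IsContinuous (J' x) (J x)) :
    (nuT o laxo).IsContinuous (FibSite.totalTopology F' J') (FibSite.totalTopology F J) :=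
  isContinuous_mkFunctor (F' := F') (F := F) (𝟭 𝒮) o laxo J J' hF hF' ho

theorem isContinuous_rT (hF : FibSite.IsPreFibSite F J) (hF' : FibSite.IsPreFibSite F' J')
    (hr : ∀ x, (r x).IsContinuous (J x) (J' x)) :
    (rT r laxr).IsContinuous (FibSite.totalTopology F J) (FibSite.totalTopology F' J') :=
  isContinuous_mkFunctor (F' := F) (F := F') (𝟭 𝒮) r laxr J' J hF' hF hr

/-- fibre inclusion followed by `rT` -/
def ιCompRT (b : 𝒮) : ι F b ⋙ rT r laxr ≅ r b ⋙ ι F' b :=
  ιCompMkIso (F' := F) (F := F') (𝟭 𝒮) r laxr b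

section BaseChange

variable {𝒮₀ : Type u₁} [Category.{v₁} 𝒮₀] (ψ : 𝒮₀ ⥤ 𝒮)

/-- base-changed fibre functors -/
def oB (x : 𝒮₀) : (FibSite.baseChange F' ψ).obj ⟨op x⟩ ⥤ (FibSite.baseChange F ψ).obj ⟨op x⟩ :=
  o (ψ.obj x)

/-- base-changed fibre functors -/
def rB (x : 𝒮₀) : (FibSite.baseChange F ψ).obj ⟨op x⟩ ⥤ (FibSite.baseChange F' ψ).obj ⟨op x⟩ :=
  r (ψ.obj x)

/-- base-changed lax structure -/
def laxoB {x y : 𝒮₀} (a : x ⟶ y) (W : (FibSite.baseChange F' ψ).obj ⟨op y⟩) :
    (oB o ψ x).obj ((FibSite.invImage (FibSite.baseChange F' ψ) a).obj W) ⟶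
      (FibSite.invImage (FibSite.baseChange F ψ) a).obj ((oB o ψ y).obj W) :=
  laxo (ψ.map a) W

/-- base-changed lax structure -/
def laxrB {x y : 𝒮₀} (a : x ⟶ y) (W : (FibSite.baseChange F ψ).obj ⟨op y⟩) :
    (rB r ψ x).obj ((FibSite.invImage (FibSite.baseChange F ψ) a).obj W) ⟶
      (FibSite.invImage (FibSite.baseChange F' ψ) a).obj ((rB r ψ y).obj W) :=
  laxr (ψ.map a) W

/-- base-changed adjunctions -/
def adjB (x : 𝒮₀) : oB o ψ x ⊣ rB r ψ x := adj (ψ.obj x)

/-- the square relating `nuT` and its base change -/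
def sqBase :
    FibSite.baseChangeFunctor F' ψ ⋙ nuT o laxo ≅
      nuT (F := FibSite.baseChange F ψ) (F' := FibSite.baseChange F' ψ) (oB o ψ)
        (fun a W => laxoB o laxo ψ a W) ⋙ FibSite.baseChangeFunctor F ψ :=
  NatIso.ofComponents (fun X => Iso.refl _) (fun {X X'} f => hom_ext_thin _ _ (by
    show ψ.map f.base ≫ 𝟙 _ = 𝟙 _ ≫ ψ.map f.base
    rw [Category.comp_id, Category.id_comp]))

end BaseChange

end Adj

end Groth.Agent.Lib.FibThinH7
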