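import Mathlib
import Groth.Prelude.Def_FibDesc
import Groth.Agent.Lib.FibThin2_helper7
import Groth.Agent.Lib.FibDescSide2_helper7
import Groth.Agent.Lib.CechSplit3_helper7

/-!
# Bi-indexed augmented diagrams of spaces: index functors and total functors (helper7)

`𝕎 : (WithInitial (D₁ × WithInitial D₂))ᵒᵖ ⥤ TopCat` : a `D₁`-indexed family `X_m` (at `(m, ⋆)`)
augmented towards `S` (at `⋆`), and a `D₁ × D₂`-indexed family `W_{m,n}` augmented towards the `X_m`.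
The restricted diagrams `Xp`, `Wp`, `Cp m` and the functors between their total sites.
APPEND-ONLY once landed.
-/

set_option autoImplicit false
set_option backward.isDefEq.respectTransparency false
set_option backward.isDefEq.respectTransparency.types false
set_option linter.style.haveILetI false
set_option linter.unusedSectionVars false

universe u

open CategoryTheory CategoryTheory.Limits Opposite Pseudofunctor Pseudofunctor.CoGrothendieck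
  TopologicalSpace

namespace Groth.Agent.Lib.BiIdxH7

open FibDesc Groth.Agent.Lib.FibThinH7 Groth.Agent.Lib.FibDescSideH7 Groth.Agent.Lib.CechSplitH7

variable {D₁ D₂ : Type} [SmallCategory D₁] [SmallCategory D₂]

/-- the index category of the part of the big diagram -/
abbrev E (D₁ D₂ : Type) [SmallCategory D₁] [SmallCategory D₂] : Type := D₁ × WithInitial D₂

/-- `m ↦ (m, ⋆)` -/
def ι₁ : D₁ ⥤ E D₁ D₂ := Prod.sectL D₁ (WithInitial.star : WithInitial D₂)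

/-- `(m, n) ↦ (m, n)` -/
def ι₂ : D₁ × D₂ ⥤ E D₁ D₂ := (𝟭 D₁).prod WithInitial.incl

/-- the column `b ↦ (m, b)` -/
def κc (m : D₁) : WithInitial D₂ ⥤ E D₁ D₂ := Prod.sectR m (WithInitial D₂)

variable (𝕎 : (WithInitial (E D₁ D₂))ᵒᵖ ⥤ TopCat.{u})

/-- the `D₁`-indexed family `X`, augmented towards `S` -/
abbrev Xp : (WithInitial D₁)ᵒᵖ ⥤ TopCat.{u} := (WithInitial.map ι₁).op ⋙ 𝕎

/-- the `D₁ × D₂`-indexed family `W`, augmented towards `S` -/
abbrev Wp : (WithInitial (D₁ × D₂))ᵒᵖ ⥤ TopCat.{u} := (WithInitial.map ι₂).op ⋙ 𝕎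

/-- the column `W_{m,•}`, augmented towards `X_m` -/
abbrev Cp (m : D₁) : (WithInitial D₂)ᵒᵖ ⥤ TopCat.{u} := (κc m ⋙ WithInitial.incl).op ⋙ 𝕎

/-- `ε` of the `p`-triple -/
noncomputable def εp : ∫ᶜ part (topAug (Xp 𝕎)) ⥤ ∫ᶜ part (topAug 𝕎) :=
  mkFunctor (F' := part (topAug (Xp 𝕎))) (F := part (topAug 𝕎)) ι₁.op
    (fun x => 𝟭 (Opens (𝕎.obj (op (WithInitial.of (ι₁.obj x.unop))))))
    (fun {x y} a W => 𝟙 _)

/-- `ι` of the `p`-triple -/
noncomputable def ιp : ∫ᶜ part (topAug (Wp 𝕎)) ⥤ ∫ᶜ part (topAug 𝕎) :=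
  mkFunctor (F' := part (topAug (Wp 𝕎))) (F := part (topAug 𝕎)) ι₂.op
    (fun x => 𝟭 (Opens (𝕎.obj (op (WithInitial.of (ι₂.obj x.unop))))))
    (fun {x y} a W => 𝟙 _)

/-- the augmented total site of `X` inside the big augmented total site -/
noncomputable def jX : ∫ᶜ topAug (Xp 𝕎) ⥤ ∫ᶜ topAug 𝕎 :=
  mkFunctor (F' := topAug (Xp 𝕎)) (F := topAug 𝕎) (WithInitial.map ι₁).op
    (fun x => 𝟭 (Opens (𝕎.obj ((WithInitial.map ι₁).op.obj x))))
    (fun {x y} a W => 𝟙 _)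

/-- the augmented total site of `W` inside the big augmented total site -/
noncomputable def jW : ∫ᶜ topAug (Wp 𝕎) ⥤ ∫ᶜ topAug 𝕎 :=
  mkFunctor (F' := topAug (Wp 𝕎)) (F := topAug 𝕎) (WithInitial.map ι₂).op
    (fun x => 𝟭 (Opens (𝕎.obj ((WithInitial.map ι₂).op.obj x))))
    (fun {x y} a W => 𝟙 _)

/-- the slice of the big part along the column `m` (augmented) -/
noncomputable def sA (m : D₁) : ∫ᶜ topAug (Cp 𝕎 m) ⥤ ∫ᶜ part (topAug 𝕎) :=
  mkFunctor (F' := topAug (Cp 𝕎 m)) (F := part (topAug 𝕎)) (κc m).op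
    (fun x => 𝟭 (Opens (𝕎.obj ((κc m ⋙ WithInitial.incl).op.obj x))))
    (fun {x y} a W => 𝟙 _)

/-- the slice of `W` along the column `m` -/
noncomputable def sP (m : D₁) : ∫ᶜ part (topAug (Cp 𝕎 m)) ⥤ ∫ᶜ part (topAug (Wp 𝕎)) :=
  mkFunctor (F' := part (topAug (Cp 𝕎 m))) (F := part (topAug (Wp 𝕎))) (Prod.sectR m D₂).op
    (fun x => 𝟭 (Opens (𝕎.obj (op (WithInitial.of (m, WithInitial.of x.unop))))))
    (fun {x y} a W => 𝟙 _)

/-- the slice of `X` at `m` : the fibre inclusion -/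
noncomputable abbrev sS (m : D₁) : (topAug (Cp 𝕎 m)).obj ⟨op (bot D₂)⟩ ⥤ ∫ᶜ part (topAug (Xp 𝕎)) :=
  ι (part (topAug (Xp 𝕎))) (op m)


/-! ### Topologies -/

/-- total topology of the part of an augmented diagram -/
noncomputable abbrev JP {D : Type} [SmallCategory D] (Y : (WithInitial D)ᵒᵖ ⥤ TopCat.{u}) :
    GrothendieckTopology (∫ᶜ part (topAug Y)) := totPart (topAug Y) (topAugTop Y)

/-- total topology of an augmented diagram -/
noncomputable abbrev JA {D : Type} [SmallCategory D] (Y : (WithInitial D)ᵒᵖ ⥤ TopCat.{u}) :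
    GrothendieckTopology (∫ᶜ topAug Y) := totAug (topAug Y) (topAugTop Y)

/-- topology of the base -/
noncomputable abbrev JS {D : Type} [SmallCategory D] (Y : (WithInitial D)ᵒᵖ ⥤ TopCat.{u}) :
    GrothendieckTopology ((topAug Y).obj ⟨op (bot D)⟩) := topAugTop Y (bot D)

theorem isPreFibSite_part {D : Type} [SmallCategory D] (Y : (WithInitial D)ᵒᵖ ⥤ TopCat.{u}) :
    FibSite.IsPreFibSite (part (topAug Y)) (partTop (topAug Y) (topAugTop Y)) :=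
  isPreFibSite_baseChange _ _ _ (isPreFibSite_topAug Y)

theorem id_isContinuous (T : TopCat.{u}) : (𝟭 (Opens T)).IsContinuous
    (Opens.grothendieckTopology T) (Opens.grothendieckTopology T) := inferInstance

theorem id_isCocontinuous (T : TopCat.{u}) : (𝟭 (Opens T)).IsCocontinuous
    (Opens.grothendieckTopology T) (Opens.grothendieckTopology T) := inferInstance

instance εp_isContinuous : (εp 𝕎).IsContinuous (JP (Xp 𝕎)) (JP 𝕎) :=
  isContinuous_mkFunctor (F' := part (topAug (Xp 𝕎))) (F := part (topAug 𝕎)) ι₁.op _ _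
    (partTop (topAug 𝕎) (topAugTop 𝕎)) (partTop (topAug (Xp 𝕎)) (topAugTop (Xp 𝕎)))
    (isPreFibSite_part 𝕎) (isPreFibSite_part (Xp 𝕎)) (fun _ => id_isContinuous _)

instance εp_isCocontinuous : (εp 𝕎).IsCocontinuous (JP (Xp 𝕎)) (JP 𝕎) :=
  isCocontinuous_mkFunctor (F' := part (topAug (Xp 𝕎))) (F := part (topAug 𝕎)) ι₁.op _ _
    (partTop (topAug 𝕎) (topAugTop 𝕎)) (partTop (topAug (Xp 𝕎)) (topAugTop (Xp 𝕎)))
    (isPreFibSite_part 𝕎) (isPreFibSite_part (Xp 𝕎)) (fun _ => id_isCocontinuous _)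

instance ιp_isContinuous : (ιp 𝕎).IsContinuous (JP (Wp 𝕎)) (JP 𝕎) :=
  isContinuous_mkFunctor (F' := part (topAug (Wp 𝕎))) (F := part (topAug 𝕎)) ι₂.op _ _
    (partTop (topAug 𝕎) (topAugTop 𝕎)) (partTop (topAug (Wp 𝕎)) (topAugTop (Wp 𝕎)))
    (isPreFibSite_part 𝕎) (isPreFibSite_part (Wp 𝕎)) (fun _ => id_isContinuous _)

instance ιp_isCocontinuous : (ιp 𝕎).IsCocontinuous (JP (Wp 𝕎)) (JP 𝕎) :=
  isCocontinuous_mkFunctor (F' := part (topAug (Wp 𝕎))) (F := part (topAug 𝕎)) ι₂.op _ _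
    (partTop (topAug 𝕎) (topAugTop 𝕎)) (partTop (topAug (Wp 𝕎)) (topAugTop (Wp 𝕎)))
    (isPreFibSite_part 𝕎) (isPreFibSite_part (Wp 𝕎)) (fun _ => id_isCocontinuous _)

instance jX_isContinuous : (jX 𝕎).IsContinuous (JA (Xp 𝕎)) (JA 𝕎) :=
  isContinuous_mkFunctor (F' := topAug (Xp 𝕎)) (F := topAug 𝕎) (WithInitial.map ι₁).op _ _
    (topAugTop 𝕎) (topAugTop (Xp 𝕎))
    (isPreFibSite_topAug 𝕎) (isPreFibSite_topAug (Xp 𝕎)) (fun _ => id_isContinuous _)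

instance jW_isContinuous : (jW 𝕎).IsContinuous (JA (Wp 𝕎)) (JA 𝕎) :=
  isContinuous_mkFunctor (F' := topAug (Wp 𝕎)) (F := topAug 𝕎) (WithInitial.map ι₂).op _ _
    (topAugTop 𝕎) (topAugTop (Wp 𝕎))
    (isPreFibSite_topAug 𝕎) (isPreFibSite_topAug (Wp 𝕎)) (fun _ => id_isContinuous _)

instance sA_isContinuous (m : D₁) : (sA 𝕎 m).IsContinuous (JA (Cp 𝕎 m)) (JP 𝕎) :=
  isContinuous_mkFunctor (F' := topAug (Cp 𝕎 m)) (F := part (topAug 𝕎)) (κc m).op _ _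
    (partTop (topAug 𝕎) (topAugTop 𝕎)) (topAugTop (Cp 𝕎 m))
    (isPreFibSite_part 𝕎) (isPreFibSite_topAug (Cp 𝕎 m)) (fun _ => id_isContinuous _)

instance sA_isCocontinuous (m : D₁) : (sA 𝕎 m).IsCocontinuous (JA (Cp 𝕎 m)) (JP 𝕎) :=
  isCocontinuous_mkFunctor (F' := topAug (Cp 𝕎 m)) (F := part (topAug 𝕎)) (κc m).op _ _
    (partTop (topAug 𝕎) (topAugTop 𝕎)) (topAugTop (Cp 𝕎 m))
    (isPreFibSite_part 𝕎) (isPreFibSite_topAug (Cp 𝕎 m)) (fun _ => id_isCocontinuous _)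

instance sP_isContinuous (m : D₁) : (sP 𝕎 m).IsContinuous (JP (Cp 𝕎 m)) (JP (Wp 𝕎)) :=
  isContinuous_mkFunctor (F' := part (topAug (Cp 𝕎 m))) (F := part (topAug (Wp 𝕎)))
    (Prod.sectR m D₂).op _ _
    (partTop (topAug (Wp 𝕎)) (topAugTop (Wp 𝕎))) (partTop (topAug (Cp 𝕎 m)) (topAugTop (Cp 𝕎 m)))
    (isPreFibSite_part (Wp 𝕎)) (isPreFibSite_part (Cp 𝕎 m)) (fun _ => id_isContinuous _)

instance sP_isCocontinuous (m : D₁) : (sP 𝕎 m).IsCocontinuous (JP (Cp 𝕎 m)) (JP (Wp 𝕎)) :=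
  isCocontinuous_mkFunctor (F' := part (topAug (Cp 𝕎 m))) (F := part (topAug (Wp 𝕎)))
    (Prod.sectR m D₂).op _ _
    (partTop (topAug (Wp 𝕎)) (topAugTop (Wp 𝕎))) (partTop (topAug (Cp 𝕎 m)) (topAugTop (Cp 𝕎 m)))
    (isPreFibSite_part (Wp 𝕎)) (isPreFibSite_part (Cp 𝕎 m)) (fun _ => id_isCocontinuous _)

instance sS_isContinuous (m : D₁) : (sS 𝕎 m).IsContinuous (JS (Cp 𝕎 m)) (JP (Xp 𝕎)) :=
  Groth.Agent.Lib.FibSiteH8.isContinuous_ι _ _ (isPreFibSite_part (Xp 𝕎)) (op m)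

instance sS_isCocontinuous (m : D₁) : (sS 𝕎 m).IsCocontinuous (JS (Cp 𝕎 m)) (JP (Xp 𝕎)) :=
  Groth.Agent.Lib.FibSiteH8.isCocontinuous_ι _ _ (isPreFibSite_part (Xp 𝕎)) (op m)

/-! ### Squares -/

/-- the square at the level of `ε` for the column `m` -/
noncomputable def sqε (m : D₁) : eps (topAug (Cp 𝕎 m)) ⋙ sA 𝕎 m ≅ sS 𝕎 m ⋙ εp 𝕎 :=
  NatIso.ofComponents (fun V => Iso.refl _) (fun {V V'} r => FibThinH7.hom_ext_thin _ _ (by
    show (κc m).op.map (𝟙 _) ≫ 𝟙 _ = 𝟙 _ ≫ ι₁.op.map (𝟙 _)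
    rw [CategoryTheory.Functor.map_id, CategoryTheory.Functor.map_id]
    rfl))

/-- the square at the level of `ι` for the column `m` -/
noncomputable def sqι (m : D₁) : incl (topAug (Cp 𝕎 m)) ⋙ sA 𝕎 m ≅ sP 𝕎 m ⋙ ιp 𝕎 :=
  NatIso.ofComponents (fun X => Iso.refl _) (fun {X X'} f => FibThinH7.hom_ext_thin _ _ (by
    show (κc m).op.map ((toAug D₂).map f.base) ≫ 𝟙 _ =
      𝟙 _ ≫ ι₂.op.map ((Prod.sectR m D₂).op.map f.base)
    rw [Category.comp_id, Category.id_comp]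
    rfl))

/-- the square relating the parts and augmented sites of `X` and of the big diagram -/
noncomputable def sqX : εp 𝕎 ⋙ incl (topAug 𝕎) ≅ incl (topAug (Xp 𝕎)) ⋙ jX 𝕎 :=
  NatIso.ofComponents (fun X => Iso.refl _) (fun {X X'} f => FibThinH7.hom_ext_thin _ _ (by
    show (toAug (E D₁ D₂)).map (ι₁.op.map f.base) ≫ 𝟙 _ =
      𝟙 _ ≫ (WithInitial.map ι₁).op.map ((toAug D₁).map f.base)
    rw [Category.comp_id, Category.id_comp]
    rfl))

/-- the square relating the parts and augmented sites of `W` and of the big diagram -/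
noncomputable def sqW : 𝟭 _ ⋙ (ιp 𝕎 ⋙ incl (topAug 𝕎)) ≅ incl (topAug (Wp 𝕎)) ⋙ jW 𝕎 :=
  NatIso.ofComponents (fun X => Iso.refl _) (fun {X X'} f => FibThinH7.hom_ext_thin _ _ (by
    show (toAug (E D₁ D₂)).map (ι₂.op.map f.base) ≫ 𝟙 _ =
      𝟙 _ ≫ (WithInitial.map ι₂).op.map ((toAug (D₁ × D₂)).map f.base)
    rw [Category.comp_id, Category.id_comp]
    rfl))

/-- the base of `X` is the base of the big diagram -/
noncomputable def epsX : eps (topAug (Xp 𝕎)) ⋙ jX 𝕎 ≅ eps (topAug 𝕎) :=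
  NatIso.ofComponents (fun V => Iso.refl _) (fun {V V'} r => FibThinH7.hom_ext_thin _ _ (by
    show (WithInitial.map ι₁).op.map (𝟙 _) ≫ 𝟙 _ = 𝟙 _ ≫ 𝟙 _
    rw [CategoryTheory.Functor.map_id]))

/-- the base of `W` is the base of the big diagram -/
noncomputable def epsW : eps (topAug (Wp 𝕎)) ⋙ jW 𝕎 ≅ eps (topAug 𝕎) :=
  NatIso.ofComponents (fun V => Iso.refl _) (fun {V V'} r => FibThinH7.hom_ext_thin _ _ (by
    show (WithInitial.map ι₂).op.map (𝟙 _) ≫ 𝟙 _ = 𝟙 _ ≫ 𝟙 _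
    rw [CategoryTheory.Functor.map_id]))

end Groth.Agent.Lib.BiIdxH7
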