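import Mathlib
import Groth.Agent.Lib.BCSheaf_helper7

/-!
# Slicing the adjunction `θ^* ⊣ θ_*` of an augmentation along a morphism of triples (helper7)

Two triples of sites `(CS, CA, CP; ε, ι)` and `(CS', CA', CP'; ε', ι')` and functors
`sS`, `sA`, `sP` (continuous and cocontinuous) between them with commuting squares.  Under two
initiality (base change) hypotheses, restriction along the `s` commutes with `θ^*`, `θ_*`
compatibly with the units; hence it commutes with the unit and the higher direct images when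
restriction along `sP` preserves injectives.
APPEND-ONLY once landed.
-/

set_option autoImplicit false
set_option backward.isDefEq.respectTransparency false
set_option backward.isDefEq.respectTransparency.types false
set_option linter.style.haveILetI false
set_option linter.unusedSectionVars false

universe u

open CategoryTheory CategoryTheory.Limits CategoryTheory.Functor Opposite

namespace Groth.Agent.Lib.SliceAbsH7

open Groth.Agent.Lib.LocAbsH7 Groth.Agent.Lib.BCRanH7 Groth.Agent.Lib.BCSheafH7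
open Groth.Agent.Lib.SplitAbsH7
open Groth.Agent.Lib.FAcyc (acyc)

variable {CS CA CP CS' CA' CP' : Type u} [SmallCategory CS] [SmallCategory CA] [SmallCategory CP]
  [SmallCategory CS'] [SmallCategory CA'] [SmallCategory CP']
  (JS : GrothendieckTopology CS) (JA : GrothendieckTopology CA) (JP : GrothendieckTopology CP)
  (JS' : GrothendieckTopology CS') (JA' : GrothendieckTopology CA')
  (JP' : GrothendieckTopology CP')
  (ε : CS ⥤ CA) (ι : CP ⥤ CA) (ε' : CS' ⥤ CA') (ι' : CP' ⥤ CA')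
  [ε.IsContinuous JS JA] [ι.IsContinuous JP JA] [ι.IsCocontinuous JP JA]
  [ε'.IsContinuous JS' JA'] [ι'.IsContinuous JP' JA'] [ι'.IsCocontinuous JP' JA']
  (sS : CS' ⥤ CS) (sA : CA' ⥤ CA) (sP : CP' ⥤ CP)
  [sS.IsContinuous JS' JS] [sS.IsCocontinuous JS' JS]
  [sA.IsContinuous JA' JA] [sA.IsCocontinuous JA' JA]
  [sP.IsContinuous JP' JP] [sP.IsCocontinuous JP' JP]
  (sqε : ε' ⋙ sA ≅ sS ⋙ ε) (sqι : ι' ⋙ sA ≅ sP ⋙ ι)

/-- the adjunction `ε_! ⊣ res_ε` -/
noncomputable abbrev adjE {C' C : Type u} [SmallCategory C'] [SmallCategory C] (ν : C' ⥤ C)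
    (J' : GrothendieckTopology C') (J : GrothendieckTopology C) [ν.IsContinuous J' J] :
    ν.sheafPullback AddCommGrpCat.{u} J' J ⊣ rho ν J' J :=
  ν.sheafAdjunctionContinuous AddCommGrpCat.{u} J' J

/-- the square of restrictions at the level of `ε` (right adjoints) -/
noncomputable def B1 : TwoSquare (rho ε JS JA) (rho sA JA' JA) (rho sS JS' JS) (rho ε' JS' JA') :=
  TwoSquare.mk _ _ _ _ (resSq sA sS ε ε' sqε JA' JA JS' JS).hom

/-- the square of left adjoints at the level of `ε` -/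
noncomputable def sq1 : TwoSquare (rho sS JS' JS) (ε.sheafPullback AddCommGrpCat.{u} JS JA)
    (ε'.sheafPullback AddCommGrpCat.{u} JS' JA') (rho sA JA' JA) :=
  (mateEquiv (adjE ε JS JA) (adjE ε' JS' JA')).symm (B1 JS JA JS' JA' ε ε' sS sA sqε)

/-- the square of restrictions at the level of `ι` (left adjoints) -/
noncomputable def sq2 : TwoSquare (rho sA JA' JA) (rho ι JP JA) (rho ι' JP' JA') (rho sP JP' JP) :=
  TwoSquare.mk _ _ _ _ (resSq ι ι' sA sP sqι.symm JP JA JP' JA').hom

/-- the square of right Kan extensions at the level of `ι` -/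
noncomputable def B2 : TwoSquare (ranS ι JP JA) (rho sP JP' JP) (rho sA JA' JA)
    (ranS ι' JP' JA') :=
  mateEquiv (adjS ι JP JA) (adjS ι' JP' JA') (sq2 JA JP JA' JP' ι ι' sA sP sqι)

theorem B2_natTrans :
    (B2 JA JP JA' JP' ι ι' sA sP sqι).natTrans = bc ι ι' sA sP sqι.symm JP JA JP' JA' := rfl

/-- the total square of left adjoints -/
noncomputable def alphaSq : TwoSquare (rho sS JS' JS) (pull' JS JA JP ε ι)
    (pull' JS' JA' JP' ε' ι') (rho sP JP' JP) :=
  TwoSquare.vComp (sq1 JS JA JS' JA' ε ε' sS sA sqε) (sq2 JA JP JA' JP' ι ι' sA sP sqι)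

/-- the total square of right adjoints -/
noncomputable def betaSq : TwoSquare (push' JS JA JP ε ι) (rho sP JP' JP) (rho sS JS' JS)
    (push' JS' JA' JP' ε' ι') :=
  mateEquiv (adj' JS JA JP ε ι) (adj' JS' JA' JP' ε' ι')
    (alphaSq JS JA JP JS' JA' JP' ε ι ε' ι' sS sA sP sqε sqι)

theorem betaSq_eq :
    betaSq JS JA JP JS' JA' JP' ε ι ε' ι' sS sA sP sqε sqι =
      TwoSquare.hComp (B2 JA JP JA' JP' ι ι' sA sP sqι) (B1 JS JA JS' JA' ε ε' sS sA sqε) := by
  have h := mateEquiv_hcomp (adjE ε JS JA) (adjE ε' JS' JA') (adjS ι JP JA) (adjS ι' JP' JA')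
    (sq1 JS JA JS' JA' ε ε' sS sA sqε) (sq2 JA JP JA' JP' ι ι' sA sP sqι)
  have h1 : mateEquiv (adjE ε JS JA) (adjE ε' JS' JA') (sq1 JS JA JS' JA' ε ε' sS sA sqε) =
      B1 JS JA JS' JA' ε ε' sS sA sqε :=
    Equiv.apply_symm_apply _ _
  rw [h1] at h
  exact h

theorem unit_betaSq (A : Sheaf JS AddCommGrpCat.{u}) :
    (rho sS JS' JS).map ((adj' JS JA JP ε ι).unit.app A) ≫
        (betaSq JS JA JP JS' JA' JP' ε ι ε' ι' sS sA sP sqε sqι).natTrans.app
          ((pull' JS JA JP ε ι).obj A) =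
      (adj' JS' JA' JP' ε' ι').unit.app ((rho sS JS' JS).obj A) ≫
        (push' JS' JA' JP' ε' ι').map
          ((alphaSq JS JA JP JS' JA' JP' ε ι ε' ι' sS sA sP sqε sqι).natTrans.app A) :=
  unit_mateEquiv (adj' JS JA JP ε ι) (adj' JS' JA' JP' ε' ι')
    (alphaSq JS JA JP JS' JA' JP' ε ι ε' ι' sS sA sP sqε sqι) A

/-- hypothesis (H2) makes the square of left adjoints at the level of `ε` invertible -/
theorem isIso_sq1
    (H2 : ∀ d' : CS, (cmp sA.op sS.op ε.op ε'.op (τop sA sS ε ε' sqε) (op d')).Initial) :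
    IsIso (sq1 JS JA JS' JA' ε ε' sS sA sqε).natTrans := by
  have hconj : conjugateEquiv ((adjE ε JS JA).comp (adjS sA JA' JA))
      ((adjS sS JS' JS).comp (adjE ε' JS' JA')) (sq1 JS JA JS' JA' ε ε' sS sA sqε).natTrans =
      bc sA sS ε ε' sqε JA' JA JS' JS := by
    have h := iterated_mateEquiv_conjugateEquiv (adjE ε JS JA) (adjE ε' JS' JA')
      (adjS sS JS' JS) (adjS sA JA' JA) (sq1 JS JA JS' JA' ε ε' sS sA sqε)
    have h1 : mateEquiv (adjE ε JS JA) (adjE ε' JS' JA') (sq1 JS JA JS' JA' ε ε' sS sA sqε) =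
        B1 JS JA JS' JA' ε ε' sS sA sqε :=
      Equiv.apply_symm_apply _ _
    rw [h1] at h
    exact h.symm
  haveI : IsIso (bc sA sS ε ε' sqε JA' JA JS' JS) := by
    haveI : ∀ M, IsIso ((bc sA sS ε ε' sqε JA' JA JS' JS).app M) := by
      intro M
      apply isIso_sheaf_hom
      intro d'
      haveI := H2 d'
      exact isIso_bc_app_hom_app sA sS ε ε' sqε JA' JA JS' JS M d'
    exact NatIso.isIso_of_isIso_app _
  haveI : IsIso (conjugateEquiv ((adjE ε JS JA).comp (adjS sA JA' JA))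
      ((adjS sS JS' JS).comp (adjE ε' JS' JA'))
      (sq1 JS JA JS' JA' ε ε' sS sA sqε).natTrans) := by
    rw [hconj]
    infer_instance
  exact conjugateEquiv_of_iso ((adjE ε JS JA).comp (adjS sA JA' JA))
    ((adjS sS JS' JS).comp (adjE ε' JS' JA')) _

theorem isIso_alphaSq
    (H2 : ∀ d' : CS, (cmp sA.op sS.op ε.op ε'.op (τop sA sS ε ε' sqε) (op d')).Initial) :
    IsIso (alphaSq JS JA JP JS' JA' JP' ε ι ε' ι' sS sA sP sqε sqι).natTrans := by
  haveI := isIso_sq1 JS JA JS' JA' ε ε' sS sA sqε H2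
  haveI : IsIso (sq2 JA JP JA' JP' ι ι' sA sP sqι).natTrans :=
    inferInstanceAs (IsIso (resSq ι ι' sA sP sqι.symm JP JA JP' JA').hom)
  show IsIso ((Functor.associator _ _ _).inv ≫
    Functor.whiskerRight (sq1 JS JA JS' JA' ε ε' sS sA sqε).natTrans _ ≫
    (Functor.associator _ _ _).hom ≫
    Functor.whiskerLeft _ (sq2 JA JP JA' JP' ι ι' sA sP sqι).natTrans ≫
    (Functor.associator _ _ _).inv)
  infer_instance

theorem isIso_betaSq
    (H1 : ∀ V : CS', (cmp ι.op ι'.op sA.op sP.op (τop ι ι' sA sP sqι.symm)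
      (op (ε'.obj V))).Initial) :
    IsIso (betaSq JS JA JP JS' JA' JP' ε ι ε' ι' sS sA sP sqε sqι).natTrans := by
  rw [betaSq_eq]
  haveI : ∀ G, IsIso ((TwoSquare.hComp (B2 JA JP JA' JP' ι ι' sA sP sqι)
      (B1 JS JA JS' JA' ε ε' sS sA sqε)).natTrans.app G) := by
    intro G
    have e : (TwoSquare.hComp (B2 JA JP JA' JP' ι ι' sA sP sqι)
        (B1 JS JA JS' JA' ε ε' sS sA sqε)).natTrans.app G =
        (B1 JS JA JS' JA' ε ε' sS sA sqε).natTrans.app ((ranS ι JP JA).obj G) ≫
          (rho ε' JS' JA').map ((B2 JA JP JA' JP' ι ι' sA sP sqι).natTrans.app G) := by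
      simp [TwoSquare.hComp]
    rw [e]
    haveI : IsIso ((B1 JS JA JS' JA' ε ε' sS sA sqε).natTrans.app ((ranS ι JP JA).obj G)) :=
      inferInstanceAs (IsIso ((resSq sA sS ε ε' sqε JA' JA JS' JS).hom.app _))
    haveI : IsIso ((rho ε' JS' JA').map
        ((B2 JA JP JA' JP' ι ι' sA sP sqι).natTrans.app G)) := by
      apply isIso_sheaf_hom
      intro V
      haveI := H1 V
      rw [B2_natTrans]
      exact isIso_bc_app_hom_app ι ι' sA sP sqι.symm JP JA JP' JA' G (ε'.obj V)
    infer_instance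
  exact NatIso.isIso_of_isIso_app _

/-- **comparison isomorphisms for a slice**, compatible with the units -/
theorem exists_comparison_slice
    (H1 : ∀ V : CS', (cmp ι.op ι'.op sA.op sP.op (τop ι ι' sA sP sqι.symm)
      (op (ε'.obj V))).Initial)
    (H2 : ∀ d' : CS, (cmp sA.op sS.op ε.op ε'.op (τop sA sS ε ε' sqε) (op d')).Initial) :
    ∃ (α : rho sS JS' JS ⋙ pull' JS' JA' JP' ε' ι' ≅ pull' JS JA JP ε ι ⋙ rho sP JP' JP)
      (β : push' JS JA JP ε ι ⋙ rho sS JS' JS ≅ rho sP JP' JP ⋙ push' JS' JA' JP' ε' ι'),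
      ∀ A : Sheaf JS AddCommGrpCat.{u},
        (rho sS JS' JS).map ((adj' JS JA JP ε ι).unit.app A) ≫
            β.hom.app ((pull' JS JA JP ε ι).obj A) =
          (adj' JS' JA' JP' ε' ι').unit.app ((rho sS JS' JS).obj A) ≫
            (push' JS' JA' JP' ε' ι').map (α.hom.app A) := by
  haveI := isIso_alphaSq JS JA JP JS' JA' JP' ε ι ε' ι' sS sA sP sqε sqι H2
  haveI := isIso_betaSq JS JA JP JS' JA' JP' ε ι ε' ι' sS sA sP sqε sqι H1
  exact ⟨asIso (alphaSq JS JA JP JS' JA' JP' ε ι ε' ι' sS sA sP sqε sqι).natTrans,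
    asIso (betaSq JS JA JP JS' JA' JP' ε ι ε' ι' sS sA sP sqε sqι).natTrans,
    fun A => unit_betaSq JS JA JP JS' JA' JP' ε ι ε' ι' sS sA sP sqε sqι A⟩

section Main

variable {JS JA JP JS' JA' JP' ε ι ε' ι' sS sP}

omit [sS.IsCocontinuous JS' JS] in
/-- consequences of comparison isomorphisms compatible with units -/
theorem slice_of_comparison
    (α : rho sS JS' JS ⋙ pull' JS' JA' JP' ε' ι' ≅ pull' JS JA JP ε ι ⋙ rho sP JP' JP)
    (β : push' JS JA JP ε ι ⋙ rho sS JS' JS ≅ rho sP JP' JP ⋙ push' JS' JA' JP' ε' ι')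
    (hαβ : ∀ A : Sheaf JS AddCommGrpCat.{u},
        (rho sS JS' JS).map ((adj' JS JA JP ε ι).unit.app A) ≫
            β.hom.app ((pull' JS JA JP ε ι).obj A) =
          (adj' JS' JA' JP' ε' ι').unit.app ((rho sS JS' JS).obj A) ≫
            (push' JS' JA' JP' ε' ι').map (α.hom.app A))
    (hexS : PreservesFiniteColimits (rho sS JS' JS))
    (hmono : (sP.sheafPullback AddCommGrpCat.{u} JP' JP).PreservesMonomorphisms)
    (A : Sheaf JS AddCommGrpCat.{u}) :
    (IsIso ((adj' JS' JA' JP' ε' ι').unit.app ((rho sS JS' JS).obj A)) →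
      IsIso ((rho sS JS' JS).map ((adj' JS JA JP ε ι).unit.app A))) ∧
    (acyc (push' JS' JA' JP' ε' ι') ((pull' JS' JA' JP' ε' ι').obj ((rho sS JS' JS).obj A)) →
      ∀ q : ℕ, 0 < q → IsZero ((rho sS JS' JS).obj
        (((push' JS JA JP ε ι).rightDerived q).obj ((pull' JS JA JP ε ι).obj A)))) := by
  refine ⟨fun hiso => ?_, fun hac q hq => ?_⟩
  · have h := hαβ A
    haveI := hiso
    have e : (rho sS JS' JS).map ((adj' JS JA JP ε ι).unit.app A) =
        ((adj' JS' JA' JP' ε' ι').unit.app ((rho sS JS' JS).obj A) ≫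
          (push' JS' JA' JP' ε' ι').map (α.hom.app A)) ≫
          β.inv.app ((pull' JS JA JP ε ι).obj A) := by
      rw [← h, Category.assoc, Iso.hom_inv_id_app]
      exact (Category.comp_id _).symm
    rw [e]
    infer_instance
  · haveI := preservesFiniteLimits_rho (ν := sP) JP' JP
    haveI : PreservesFiniteColimits (rho sP JP' JP) := by
      haveI : PreservesColimitsOfSize.{0, 0} (rho sP JP' JP) :=
        (adjS sP JP' JP).leftAdjoint_preservesColimits
      exact PreservesColimitsOfSize.preservesFiniteColimits _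
    haveI := preservesFiniteLimits_rho (ν := sS) JS' JS
    haveI := hexS
    haveI := hmono
    haveI : (rho sP JP' JP).PreservesInjectiveObjects :=
      Functor.preservesInjectiveObjects_of_adjunction_of_preservesMonomorphisms
        (sP.sheafAdjunctionContinuous AddCommGrpCat.{u} JP' JP)
    have e1 := (Groth.Agent.Lib.DerivedCommH8.rightDerivedBaseChange (push' JS JA JP ε ι)
      (push' JS' JA' JP' ε' ι') (rho sP JP' JP) (rho sS JS' JS) β q).app
      ((pull' JS JA JP ε ι).obj A)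
    have e2 := ((push' JS' JA' JP' ε' ι').rightDerived q).mapIso (α.app A)
    exact (hac q hq).of_iso (e1 ≪≫ e2.symm)

end Main

/-- **slicing**: the unit and the higher direct images of `θ^*A` restrict to the slice -/
theorem slice_main
    (H1 : ∀ V : CS', (cmp ι.op ι'.op sA.op sP.op (τop ι ι' sA sP sqι.symm)
      (op (ε'.obj V))).Initial)
    (H2 : ∀ d' : CS, (cmp sA.op sS.op ε.op ε'.op (τop sA sS ε ε' sqε) (op d')).Initial)
    (hmono : (sP.sheafPullback AddCommGrpCat.{u} JP' JP).PreservesMonomorphisms)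
    (A : Sheaf JS AddCommGrpCat.{u}) :
    (IsIso ((adj' JS' JA' JP' ε' ι').unit.app ((rho sS JS' JS).obj A)) →
      IsIso ((rho sS JS' JS).map ((adj' JS JA JP ε ι).unit.app A))) ∧
    (acyc (push' JS' JA' JP' ε' ι') ((pull' JS' JA' JP' ε' ι').obj ((rho sS JS' JS).obj A)) →
      ∀ q : ℕ, 0 < q → IsZero ((rho sS JS' JS).obj
        (((push' JS JA JP ε ι).rightDerived q).obj ((pull' JS JA JP ε ι).obj A)))) := by
  obtain ⟨α, β, hαβ⟩ := exists_comparison_slice JS JA JP JS' JA' JP' ε ι ε' ι' sS sA sP sqε sqι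
    H1 H2
  have hexS : PreservesFiniteColimits (rho sS JS' JS) := by
    haveI : PreservesColimitsOfSize.{0, 0} (rho sS JS' JS) :=
      (adjS sS JS' JS).leftAdjoint_preservesColimits
    exact PreservesColimitsOfSize.preservesFiniteColimits _
  exact slice_of_comparison α β hαβ hexS hmono A

end Groth.Agent.Lib.SliceAbsH7
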