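import Mathlib
import Groth.Agent.Lib.BiIdx_helper7
import Groth.Agent.Lib.SliceAbs_helper7

/-!
# Base change (BC-b) for the column slices of a bi-indexed diagram (helper7)

The comparison functor for the square `eps_m ⋙ sA ≅ sS ⋙ εp` is initial at every object of the
part of `X`.
APPEND-ONLY once landed.
-/

set_option autoImplicit false
set_option backward.isDefEq.respectTransparency false
set_option backward.isDefEq.respectTransparency.types false
set_option linter.style.haveILetI false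
set_option linter.unusedSectionVars false

universe u

open CategoryTheory CategoryTheory.Limits Opposite Pseudofunctor Pseudofunctor.CoGrothendieck
  TopologicalSpace

namespace Groth.Agent.Lib.BiBCbH7

open FibDesc Groth.Agent.Lib.FibThinH7 Groth.Agent.Lib.FibDescSideH7 Groth.Agent.Lib.CechSplitH7
  Groth.Agent.Lib.BiIdxH7 Groth.Agent.Lib.BCSheafH7 Groth.Agent.Lib.BCRanH7

variable {D₁ D₂ : Type} [SmallCategory D₁] [SmallCategory D₂]
  (𝕎 : (WithInitial (E D₁ D₂))ᵒᵖ ⥤ TopCat.{u}) (m : D₁)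

theorem pre_comp {𝒮 : Type} [SmallCategory 𝒮] (Z : 𝒮 ⥤ TopCat.{u}) {x y z : 𝒮} (a : x ⟶ y)
    (b : y ⟶ z) (k : x ⟶ z) (e : a ≫ b = k) (V : Opens (Z.obj z)) :
    (Opens.map (Z.map a)).obj ((Opens.map (Z.map b)).obj V) = (Opens.map (Z.map k)).obj V :=
  map_obj_of_comp (Z.map a) (Z.map b) (Z.map k) (by rw [← Z.map_comp, e]) V

/-- morphisms of `E` out of an object with second component `⋆` are determined by their first
component -/
theorem E_hom_ext_star {m' m : D₁} {b : WithInitial D₂}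
    (f g : ((m', WithInitial.star) : E D₁ D₂) ⟶ (m, b)) (h : f.1 = g.1) : f = g := by
  apply Prod.ext h
  cases b with
  | of n => exact Subsingleton.elim _ _
  | star => exact Subsingleton.elim _ _

/-- an object of the base fibre of the column, as an open set -/
def asO (V : (topAug (Cp 𝕎 m)).obj ⟨op (bot D₂)⟩) :
    Opens (𝕎.obj (op (WithInitial.of (m, WithInitial.star)))) := V

variable (d' : ∫ᶜ part (topAug (Xp 𝕎))) (c : ∫ᶜ topAug (Cp 𝕎 m))
  (u : (sA 𝕎 m).obj c ⟶ (εp 𝕎).obj d')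

/-- the `D₁`-component of the base of `u` -/
noncomputable def φb : d'.base.unop ⟶ m := u.base.unop.1

/-- the index map of `φb` -/
noncomputable def idxφ : (op (WithInitial.of (m, WithInitial.star)) : (WithInitial (E D₁ D₂))ᵒᵖ) ⟶
    op (WithInitial.of (d'.base.unop, WithInitial.star)) :=
  (WithInitial.incl.map (ι₁.map (φb 𝕎 m d' c u))).op

/-- the base open -/
noncomputable def V₀ : Opens (𝕎.obj (op (WithInitial.of (m, WithInitial.star)))) :=
  (Opens.map (𝕎.map (idxφ 𝕎 m d' c u))).obj d'.fiber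


/-- the map of the base of `c` to the base point -/
noncomputable def toBot : c.base ⟶ bot D₂ := (botTerminal (D := D₂)).from c.base

theorem idx_eq :
    (κc m ⋙ WithInitial.incl).op.map (toBot 𝕎 m c) ≫ idxφ 𝕎 m d' c u =
      (toAug (E D₁ D₂)).map u.base := by
  apply Quiver.Hom.unop_inj
  show WithInitial.incl.map (ι₁.map (φb 𝕎 m d' c u)) ≫
    WithInitial.incl.map ((κc m).map (toBot 𝕎 m c).unop) = WithInitial.incl.map u.base.unop
  rw [← WithInitial.incl.map_comp]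
  congr 1
  apply E_hom_ext_star
  simp [ι₁, κc, φb]

theorem u_le : (show Opens (𝕎.obj (op (WithInitial.of (m, c.base.unop)))) from c.fiber) ≤
    (Opens.map (𝕎.map ((toAug (E D₁ D₂)).map u.base))).obj d'.fiber :=
  leOfHom u.fiber

theorem c_le_V₀ : (show Opens (𝕎.obj (op (WithInitial.of (m, c.base.unop)))) from c.fiber) ≤
    (Opens.map (𝕎.map ((κc m ⋙ WithInitial.incl).op.map (toBot 𝕎 m c)))).obj (V₀ 𝕎 m d' c u) := by
  have h := u_le 𝕎 m d' c u
  rw [← pre_comp 𝕎 _ _ _ (idx_eq 𝕎 m d' c u)] at h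
  exact h


theorem base_eq :
    (κc m).op.map (toBot 𝕎 m c) ≫ 𝟙 _ ≫ ι₁.op.map (φb 𝕎 m d' c u).op = u.base := by
  rw [Category.id_comp]
  apply Quiver.Hom.unop_inj
  apply E_hom_ext_star
  simp [ι₁, κc, φb]

/-- the factorisation attached to an open `V ≤ V₀` -/
noncomputable def factOf (V : Opens (𝕎.obj (op (WithInitial.of (m, WithInitial.star)))))
    (hV : V ≤ V₀ 𝕎 m d' c u)
    (hc : (show Opens (𝕎.obj (op (WithInitial.of (m, c.base.unop)))) from c.fiber) ≤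
      (Opens.map (𝕎.map ((κc m ⋙ WithInitial.incl).op.map (toBot 𝕎 m c)))).obj V) :
    Fact (sqε 𝕎 m) d' c u where
  c' := V
  u' := Hom.mk (φb 𝕎 m d' c u).op (show (V ⟶ V₀ 𝕎 m d' c u) from homOfLE hV)
  w := Hom.mk (toBot 𝕎 m c)
    (show ((show Opens (𝕎.obj (op (WithInitial.of (m, c.base.unop)))) from c.fiber) ⟶
      (Opens.map (𝕎.map ((κc m ⋙ WithInitial.incl).op.map (toBot 𝕎 m c)))).obj V) from
      homOfLE hc)
  fac := FibThinH7.hom_ext_thin _ _ (base_eq 𝕎 m d' c u)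

theorem fact_u'_base (x : Fact (sqε 𝕎 m) d' c u) : x.u'.base = (φb 𝕎 m d' c u).op := by
  have h := congrArg (fun f => f.base) x.fac
  have h' : (κc m).op.map x.w.base ≫ 𝟙 _ ≫ ι₁.op.map x.u'.base = u.base := h
  rw [Category.id_comp] at h'
  apply Quiver.Hom.unop_inj
  have h2 := congrArg (fun f => f.unop.1) h'
  simpa [ι₁, κc, φb] using h2

theorem fact_w_base (x : Fact (sqε 𝕎 m) d' c u) : x.w.base = toBot 𝕎 m c :=
  (botTerminal (D := D₂)).hom_ext _ _

theorem fact_le_V₀ (x : Fact (sqε 𝕎 m) d' c u) :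
    (show Opens (𝕎.obj (op (WithInitial.of (m, WithInitial.star)))) from x.c') ≤
      V₀ 𝕎 m d' c u := by
  have h : (show Opens (𝕎.obj (op (WithInitial.of (m, WithInitial.star)))) from x.c') ≤
      (Opens.map (𝕎.map ((toAug (E D₁ D₂)).map (ι₁.op.map x.u'.base)))).obj d'.fiber :=
    leOfHom x.u'.fiber
  rw [fact_u'_base 𝕎 m d' c u x] at h
  exact h

theorem fact_c_le (x : Fact (sqε 𝕎 m) d' c u) :
    (show Opens (𝕎.obj (op (WithInitial.of (m, c.base.unop)))) from c.fiber) ≤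
      (Opens.map (𝕎.map ((κc m ⋙ WithInitial.incl).op.map (toBot 𝕎 m c)))).obj
        (show Opens (𝕎.obj (op (WithInitial.of (m, WithInitial.star)))) from x.c') := by
  have h : (show Opens (𝕎.obj (op (WithInitial.of (m, c.base.unop)))) from c.fiber) ≤
      (Opens.map (𝕎.map ((κc m ⋙ WithInitial.incl).op.map x.w.base))).obj
        (show Opens (𝕎.obj (op (WithInitial.of (m, WithInitial.star)))) from x.c') :=
    leOfHom x.w.fiber
  rw [fact_w_base 𝕎 m d' c u x] at h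
  exact h

/-- **(BC-b)** -/
theorem exists_fact : ∃ x₀ : Fact (sqε 𝕎 m) d' c u,
    ∀ x : Fact (sqε 𝕎 m) d' c u, ∃ y : Fact (sqε 𝕎 m) d' c u, Step y x ∧ Step y x₀ := by
  refine ⟨factOf 𝕎 m d' c u (V₀ 𝕎 m d' c u) le_rfl (c_le_V₀ 𝕎 m d' c u), fun x => ?_⟩
  refine ⟨factOf 𝕎 m d' c u (V₀ 𝕎 m d' c u ⊓ asO 𝕎 m x.c') inf_le_left
    (fun z hz => ⟨c_le_V₀ 𝕎 m d' c u hz, fact_c_le 𝕎 m d' c u x hz⟩), ?_, ?_⟩
  · refine ⟨(show ((V₀ 𝕎 m d' c u ⊓ asO 𝕎 m x.c') ⟶ asO 𝕎 m x.c') from homOfLE inf_le_right),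
      FibThinH7.hom_ext_thin _ _ ?_, FibThinH7.hom_ext_thin _ _ ?_⟩
    · show 𝟙 _ ≫ x.u'.base = (φb 𝕎 m d' c u).op
      rw [Category.id_comp, fact_u'_base]
    · show toBot 𝕎 m c ≫ 𝟙 _ = x.w.base
      rw [Category.comp_id, fact_w_base]
  · refine ⟨(show ((V₀ 𝕎 m d' c u ⊓ asO 𝕎 m x.c') ⟶ V₀ 𝕎 m d' c u) from homOfLE inf_le_left),
      FibThinH7.hom_ext_thin _ _ ?_, FibThinH7.hom_ext_thin _ _ ?_⟩
    · show 𝟙 _ ≫ (φb 𝕎 m d' c u).op = (φb 𝕎 m d' c u).op
      rw [Category.id_comp]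
    · show toBot 𝕎 m c ≫ 𝟙 _ = toBot 𝕎 m c
      rw [Category.comp_id]


/-- **(BC-b)**: initiality of the comparison functor -/
theorem initial_bcb (d' : ∫ᶜ part (topAug (Xp 𝕎))) :
    (cmp (sA 𝕎 m).op (sS 𝕎 m).op (εp 𝕎).op (eps (topAug (Cp 𝕎 m))).op
      (τop (sA 𝕎 m) (sS 𝕎 m) (εp 𝕎) (eps (topAug (Cp 𝕎 m))) (sqε 𝕎 m)) (op d')).Initial :=
  initial_cmp_op (sqε 𝕎 m) d' (fun c u => exists_fact 𝕎 m d' c u)

end Groth.Agent.Lib.BiBCbH7
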