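import Mathlib
import Groth.Agent.Lib.BiBCb_helper7

/-!
# Base change (BC-a) for the column slices of a bi-indexed diagram (helper7)

The comparison functor for the square `sP ⋙ ιp ≅ incl_m ⋙ sA` is initial at the objects `eps_m V`.
APPEND-ONLY once landed.
-/

set_option autoImplicit false
set_option backward.isDefEq.respectTransparency false
set_option backward.isDefEq.respectTransparency.types false
set_option linter.style.haveILetI false
set_option linter.unusedSectionVars false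

universe u

open CategoryTheory CategoryTheory.Limits Opposite Pseudofunctor Pseudofunctor.CoGrothendieck
  TopologicalSpace

namespace Groth.Agent.Lib.BiBCaH7

open FibDesc Groth.Agent.Lib.FibThinH7 Groth.Agent.Lib.FibDescSideH7 Groth.Agent.Lib.CechSplitH7
  Groth.Agent.Lib.BiIdxH7 Groth.Agent.Lib.BCSheafH7 Groth.Agent.Lib.BCRanH7
  Groth.Agent.Lib.BiBCbH7

variable {D₁ D₂ : Type} [SmallCategory D₁] [SmallCategory D₂]
  (𝕎 : (WithInitial (E D₁ D₂))ᵒᵖ ⥤ TopCat.{u}) (m : D₁)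

variable (V : (topAug (Cp 𝕎 m)).obj ⟨op (bot D₂)⟩) (c : ∫ᶜ part (topAug (Wp 𝕎)))
  (u : (ιp 𝕎).obj c ⟶ (sA 𝕎 m).obj ((eps (topAug (Cp 𝕎 m))).obj V))

/-- the `D₁`-component of the base of `u` -/
noncomputable def φa : m ⟶ c.base.unop.1 := u.base.unop.1

/-- the base of the canonical map `c ⟶ sP ⟨n₁, -⟩` -/
noncomputable def wbase : c.base ⟶ (Prod.sectR m D₂).op.obj (op c.base.unop.2) :=
  (show ((m, c.base.unop.2) : D₁ × D₂) ⟶ c.base.unop from (φa 𝕎 m V c u, 𝟙 _)).op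

/-- the map to the base point -/
noncomputable def t₀ (n : D₂ᵒᵖ) : (toAug D₂).obj n ⟶ bot D₂ :=
  (botTerminal (D := D₂)).from _

/-- the base open -/
noncomputable def V₀ : Opens (𝕎.obj (op (WithInitial.of (m, WithInitial.of c.base.unop.2)))) :=
  (Opens.map ((Cp 𝕎 m).map (t₀ (op c.base.unop.2)))).obj (asO 𝕎 m V)

theorem u_le : (show Opens (𝕎.obj (op (WithInitial.of (ι₂.obj c.base.unop)))) from c.fiber) ≤
    (Opens.map (𝕎.map ((toAug (E D₁ D₂)).map u.base))).obj (asO 𝕎 m V) :=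
  leOfHom u.fiber

theorem idx_eq :
    (WithInitial.map ι₂).op.map ((toAug (D₁ × D₂)).map (wbase 𝕎 m V c u)) ≫
      (κc m ⋙ WithInitial.incl).op.map (t₀ (op c.base.unop.2)) =
      (toAug (E D₁ D₂)).map u.base := by
  apply Quiver.Hom.unop_inj
  show WithInitial.incl.map ((κc m).map (t₀ (op c.base.unop.2)).unop) ≫
    WithInitial.incl.map (ι₂.map (wbase 𝕎 m V c u).unop) = WithInitial.incl.map u.base.unop
  rw [← WithInitial.incl.map_comp]
  congr 1
  apply E_hom_ext_star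
  simp [ι₂, κc, φa, wbase]

theorem c_le_V₀ : (show Opens (𝕎.obj (op (WithInitial.of (ι₂.obj c.base.unop)))) from c.fiber) ≤
    (Opens.map (𝕎.map ((WithInitial.map ι₂).op.map
      ((toAug (D₁ × D₂)).map (wbase 𝕎 m V c u))))).obj (V₀ 𝕎 m V c) := by
  have h := u_le 𝕎 m V c u
  rw [← pre_comp 𝕎 _ _ _ (idx_eq 𝕎 m V c u)] at h
  exact h


theorem base_eq :
    ι₂.op.map (wbase 𝕎 m V c u) ≫ 𝟙 _ ≫ (κc m).op.map (t₀ (op c.base.unop.2)) = u.base := by
  rw [Category.id_comp]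
  apply Quiver.Hom.unop_inj
  apply E_hom_ext_star
  simp [ι₂, κc, φa, wbase]

/-- the open sets of `W_{m,n₁}` -/
abbrev O₁ : Type u := Opens (𝕎.obj (op (WithInitial.of (m, WithInitial.of c.base.unop.2))))

/-- the factorisation attached to an open `V' ≤ V₀` -/
noncomputable def factOf (V' : O₁ 𝕎 m c) (hV : V' ≤ V₀ 𝕎 m V c)
    (hc : (show Opens (𝕎.obj (op (WithInitial.of (ι₂.obj c.base.unop)))) from c.fiber) ≤
      (Opens.map (𝕎.map ((WithInitial.map ι₂).op.map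
        ((toAug (D₁ × D₂)).map (wbase 𝕎 m V c u))))).obj V') :
    Fact (sqι 𝕎 m).symm ((eps (topAug (Cp 𝕎 m))).obj V) c u where
  c' := ⟨op c.base.unop.2, V'⟩
  u' := Hom.mk (t₀ (op c.base.unop.2)) (show (V' ⟶ V₀ 𝕎 m V c) from homOfLE hV)
  w := Hom.mk (wbase 𝕎 m V c u)
    (show ((show Opens (𝕎.obj (op (WithInitial.of (ι₂.obj c.base.unop)))) from c.fiber) ⟶
      (Opens.map (𝕎.map ((WithInitial.map ι₂).op.map
        ((toAug (D₁ × D₂)).map (wbase 𝕎 m V c u))))).obj V') from homOfLE hc)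
  fac := FibThinH7.hom_ext_thin _ _ (base_eq 𝕎 m V c u)

variable (x : Fact (sqι 𝕎 m).symm ((eps (topAug (Cp 𝕎 m))).obj V) c u)

theorem fact_w_fst : x.w.base.unop.1 = φa 𝕎 m V c u := by
  have h := congrArg (fun f => f.base) x.fac
  have h' : ι₂.op.map x.w.base ≫ 𝟙 _ ≫ (κc m).op.map x.u'.base = u.base := h
  rw [Category.id_comp] at h'
  have h2 := congrArg (fun f => f.unop.1) h'
  simpa [ι₂, κc, φa] using h2

/-- the `D₂`-component of the base of `x.w` -/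
noncomputable def ψx : x.c'.base.unop ⟶ c.base.unop.2 := x.w.base.unop.2

/-- the open of `W_{m,n₁}` attached to `x` -/
noncomputable def Vx : O₁ 𝕎 m c :=
  (Opens.map ((Cp 𝕎 m).map ((toAug D₂).map (ψx 𝕎 m V c u x).op))).obj
    (show Opens (𝕎.obj (op (WithInitial.of (m, WithInitial.of x.c'.base.unop)))) from x.c'.fiber)

theorem idx_eq_x :
    (WithInitial.map ι₂).op.map ((toAug (D₁ × D₂)).map (wbase 𝕎 m V c u)) ≫
      (κc m ⋙ WithInitial.incl).op.map ((toAug D₂).map (ψx 𝕎 m V c u x).op) =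
      (WithInitial.map ι₂).op.map ((toAug (D₁ × D₂)).map x.w.base) := by
  apply Quiver.Hom.unop_inj
  show WithInitial.incl.map ((κc m).map (WithInitial.incl.map (ψx 𝕎 m V c u x))) ≫
    WithInitial.incl.map (ι₂.map (wbase 𝕎 m V c u).unop) =
      WithInitial.incl.map (ι₂.map x.w.base.unop)
  rw [← WithInitial.incl.map_comp]
  congr 1
  apply Prod.ext
  · have := fact_w_fst 𝕎 m V c u x
    simp [ι₂, κc, wbase, this]
  · show WithInitial.incl.map (ψx 𝕎 m V c u x) ≫ WithInitial.incl.map (𝟙 c.base.unop.2) =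
      WithInitial.incl.map (ψx 𝕎 m V c u x)
    rw [← WithInitial.incl.map_comp, Category.comp_id]

theorem c_le_Vx :
    (show Opens (𝕎.obj (op (WithInitial.of (ι₂.obj c.base.unop)))) from c.fiber) ≤
      (Opens.map (𝕎.map ((WithInitial.map ι₂).op.map
        ((toAug (D₁ × D₂)).map (wbase 𝕎 m V c u))))).obj (Vx 𝕎 m V c u x) := by
  have h : (show Opens (𝕎.obj (op (WithInitial.of (ι₂.obj c.base.unop)))) from c.fiber) ≤
      (Opens.map (𝕎.map ((WithInitial.map ι₂).op.map ((toAug (D₁ × D₂)).map x.w.base)))).obj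
        (show Opens (𝕎.obj (op (WithInitial.of (m, WithInitial.of x.c'.base.unop)))) from
          x.c'.fiber) := leOfHom x.w.fiber
  rw [← pre_comp 𝕎 _ _ _ (idx_eq_x 𝕎 m V c u x)] at h
  exact h

/-- **(BC-a)** -/
theorem exists_fact : ∃ x₀ : Fact (sqι 𝕎 m).symm ((eps (topAug (Cp 𝕎 m))).obj V) c u,
    ∀ x : Fact (sqι 𝕎 m).symm ((eps (topAug (Cp 𝕎 m))).obj V) c u,
      ∃ y : Fact (sqι 𝕎 m).symm ((eps (topAug (Cp 𝕎 m))).obj V) c u, Step y x ∧ Step y x₀ := by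
  refine ⟨factOf 𝕎 m V c u (V₀ 𝕎 m V c) le_rfl (c_le_V₀ 𝕎 m V c u), fun x => ?_⟩
  refine ⟨factOf 𝕎 m V c u (V₀ 𝕎 m V c ⊓ Vx 𝕎 m V c u x) inf_le_left
    (fun z hz => ⟨c_le_V₀ 𝕎 m V c u hz, c_le_Vx 𝕎 m V c u x hz⟩), ?_, ?_⟩
  · refine ⟨Hom.mk (ψx 𝕎 m V c u x).op
      (show ((V₀ 𝕎 m V c ⊓ Vx 𝕎 m V c u x) ⟶ Vx 𝕎 m V c u x) from homOfLE inf_le_right),
      FibThinH7.hom_ext_thin _ _ ?_, FibThinH7.hom_ext_thin _ _ ?_⟩
    · exact (botTerminal (D := D₂)).hom_ext _ _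
    · show wbase 𝕎 m V c u ≫ (Prod.sectR m D₂).op.map (ψx 𝕎 m V c u x).op = x.w.base
      apply Quiver.Hom.unop_inj
      apply Prod.ext
      · have := fact_w_fst 𝕎 m V c u x
        simp [wbase, this]
      · simp [wbase, ψx]
  · refine ⟨(ι (part (topAug (Cp 𝕎 m))) (op c.base.unop.2)).map
      (show ((V₀ 𝕎 m V c ⊓ Vx 𝕎 m V c u x) ⟶ V₀ 𝕎 m V c) from homOfLE inf_le_left),
      FibThinH7.hom_ext_thin _ _ ?_, FibThinH7.hom_ext_thin _ _ ?_⟩
    · exact (botTerminal (D := D₂)).hom_ext _ _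
    · show wbase 𝕎 m V c u ≫ (Prod.sectR m D₂).op.map (𝟙 _) = wbase 𝕎 m V c u
      rw [CategoryTheory.Functor.map_id, Category.comp_id]

/-- **(BC-a)**: initiality of the comparison functor -/
theorem initial_bca :
    (cmp (ιp 𝕎).op (incl (topAug (Cp 𝕎 m))).op (sA 𝕎 m).op (sP 𝕎 m).op
      (τop (ιp 𝕎) (incl (topAug (Cp 𝕎 m))) (sA 𝕎 m) (sP 𝕎 m) (sqι 𝕎 m).symm)
      (op ((eps (topAug (Cp 𝕎 m))).obj V))).Initial :=
  initial_cmp_op (sqι 𝕎 m).symm _ (fun c u => exists_fact 𝕎 m V c u)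

end Groth.Agent.Lib.BiBCaH7
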