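import Mathlib
import Groth.Agent.Lib.BiBCb_helper7

/-!
# Base change (BC-d), (BC-e) for a bi-indexed diagram (helper7)

The comparison functors for the squares `εp ⋙ incl_𝕎 ≅ incl_X ⋙ jX` and
`𝟭 ⋙ (ιp ⋙ incl_𝕎) ≅ incl_W ⋙ jW` are initial at the objects `eps V`.
APPEND-ONLY once landed.
-/

set_option autoImplicit false
set_option backward.isDefEq.respectTransparency false
set_option backward.isDefEq.respectTransparency.types false
set_option linter.style.haveILetI false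
set_option linter.unusedSectionVars false

universe u

open CategoryTheory CategoryTheory.Limits Opposite Pseudofunctor Pseudofunctor.CoGrothendieck
  TopologicalSpace

namespace Groth.Agent.Lib.BiBCdH7

open FibDesc Groth.Agent.Lib.FibThinH7 Groth.Agent.Lib.FibDescSideH7 Groth.Agent.Lib.CechSplitH7
  Groth.Agent.Lib.BiIdxH7 Groth.Agent.Lib.BCSheafH7 Groth.Agent.Lib.BCRanH7
  Groth.Agent.Lib.BiBCbH7

variable {D₁ D₂ : Type} [SmallCategory D₁] [SmallCategory D₂]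
  (𝕎 : (WithInitial (E D₁ D₂))ᵒᵖ ⥤ TopCat.{u})

/-- open sets of the base, as open sets of `𝕎 ⋆` -/
def asS (V : (topAug (Xp 𝕎)).obj ⟨op (bot D₁)⟩) :
    Opens (𝕎.obj (op (WithInitial.star : WithInitial (E D₁ D₂)))) := V

section D

variable (V : (topAug (Xp 𝕎)).obj ⟨op (bot D₁)⟩) (c : ∫ᶜ part (topAug 𝕎))
  (u : (incl (topAug 𝕎)).obj c ⟶ (jX 𝕎).obj ((eps (topAug (Xp 𝕎))).obj V))

/-- the map to the base point -/
noncomputable def tX (n : D₁ᵒᵖ) : (toAug D₁).obj n ⟶ bot D₁ :=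
  (botTerminal (D := D₁)).from _

/-- the base of the canonical map `c ⟶ εp ⟨m₁, -⟩` -/
noncomputable def wbase : c.base ⟶ ι₁.op.obj (op c.base.unop.1) :=
  (show ((c.base.unop.1, WithInitial.star) : E D₁ D₂) ⟶ c.base.unop from
    (𝟙 _, WithInitial.starInitial.to _)).op

/-- open sets of `X_{m₁}` -/
abbrev O₁ : Type u := Opens (𝕎.obj (op (WithInitial.of (c.base.unop.1, WithInitial.star))))

/-- the base open -/
noncomputable def V₀ : O₁ 𝕎 c :=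
  (Opens.map ((Xp 𝕎).map (tX (op c.base.unop.1)))).obj (asS 𝕎 V)

theorem u_le : (show Opens (𝕎.obj (op (WithInitial.of c.base.unop))) from c.fiber) ≤
    (Opens.map (𝕎.map u.base)).obj (asS 𝕎 V) :=
  leOfHom u.fiber

theorem idx_eq : (toAug (E D₁ D₂)).map (wbase 𝕎 c) ≫
    (WithInitial.map ι₁).op.map (tX (op c.base.unop.1)) = u.base :=
  (botTerminal (D := E D₁ D₂)).hom_ext _ _

include u in
theorem c_le_V₀ : (show Opens (𝕎.obj (op (WithInitial.of c.base.unop))) from c.fiber) ≤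
    (Opens.map (𝕎.map ((toAug (E D₁ D₂)).map (wbase 𝕎 c)))).obj (V₀ 𝕎 V c) := by
  have h := u_le 𝕎 V c u
  rw [← pre_comp 𝕎 _ _ _ (idx_eq 𝕎 V c u)] at h
  exact h

/-- the factorisation attached to an open `V' ≤ V₀` -/
noncomputable def factOf (V' : O₁ 𝕎 c) (hV : V' ≤ V₀ 𝕎 V c)
    (hc : (show Opens (𝕎.obj (op (WithInitial.of c.base.unop))) from c.fiber) ≤
      (Opens.map (𝕎.map ((toAug (E D₁ D₂)).map (wbase 𝕎 c)))).obj V') :
    Fact (sqX 𝕎) ((eps (topAug (Xp 𝕎))).obj V) c u where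
  c' := ⟨op c.base.unop.1, V'⟩
  u' := Hom.mk (tX (op c.base.unop.1)) (show (V' ⟶ V₀ 𝕎 V c) from homOfLE hV)
  w := Hom.mk (wbase 𝕎 c)
    (show ((show Opens (𝕎.obj (op (WithInitial.of c.base.unop))) from c.fiber) ⟶
      (Opens.map (𝕎.map ((toAug (E D₁ D₂)).map (wbase 𝕎 c)))).obj V') from homOfLE hc)
  fac := FibThinH7.hom_ext_thin _ _ ((botTerminal (D := E D₁ D₂)).hom_ext _ _)

variable (x : Fact (sqX 𝕎) ((eps (topAug (Xp 𝕎))).obj V) c u)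

/-- the `D₁`-component of the base of `x.w` -/
noncomputable def φx : x.c'.base.unop ⟶ c.base.unop.1 := x.w.base.unop.1

/-- the open of `X_{m₁}` attached to `x` -/
noncomputable def Vx : O₁ 𝕎 c :=
  (Opens.map ((Xp 𝕎).map ((toAug D₁).map (φx 𝕎 V c u x).op))).obj
    (show Opens (𝕎.obj (op (WithInitial.of (x.c'.base.unop, WithInitial.star)))) from x.c'.fiber)

theorem base_eq_x : wbase 𝕎 c ≫ ι₁.op.map (φx 𝕎 V c u x).op = x.w.base := by
  apply Quiver.Hom.unop_inj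
  apply E_hom_ext_star
  simp [ι₁, wbase, φx]

theorem idx_eq_x :
    (toAug (E D₁ D₂)).map (wbase 𝕎 c) ≫
      (WithInitial.map ι₁).op.map ((toAug D₁).map (φx 𝕎 V c u x).op) =
      (toAug (E D₁ D₂)).map x.w.base := by
  rw [← base_eq_x 𝕎 V c u x, CategoryTheory.Functor.map_comp]
  rfl

theorem c_le_Vx : (show Opens (𝕎.obj (op (WithInitial.of c.base.unop))) from c.fiber) ≤
    (Opens.map (𝕎.map ((toAug (E D₁ D₂)).map (wbase 𝕎 c)))).obj (Vx 𝕎 V c u x) := by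
  have h : (show Opens (𝕎.obj (op (WithInitial.of c.base.unop))) from c.fiber) ≤
      (Opens.map (𝕎.map ((toAug (E D₁ D₂)).map x.w.base))).obj
        (show Opens (𝕎.obj (op (WithInitial.of (x.c'.base.unop, WithInitial.star)))) from
          x.c'.fiber) := leOfHom x.w.fiber
  rw [← pre_comp 𝕎 _ _ _ (idx_eq_x 𝕎 V c u x)] at h
  exact h

/-- **(BC-d)** -/
theorem exists_fact : ∃ x₀ : Fact (sqX 𝕎) ((eps (topAug (Xp 𝕎))).obj V) c u,
    ∀ x : Fact (sqX 𝕎) ((eps (topAug (Xp 𝕎))).obj V) c u,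
      ∃ y : Fact (sqX 𝕎) ((eps (topAug (Xp 𝕎))).obj V) c u, Step y x ∧ Step y x₀ := by
  refine ⟨factOf 𝕎 V c u (V₀ 𝕎 V c) le_rfl (c_le_V₀ 𝕎 V c u), fun x => ?_⟩
  refine ⟨factOf 𝕎 V c u (V₀ 𝕎 V c ⊓ Vx 𝕎 V c u x) inf_le_left
    (fun z hz => ⟨c_le_V₀ 𝕎 V c u hz, c_le_Vx 𝕎 V c u x hz⟩), ?_, ?_⟩
  · refine ⟨Hom.mk (φx 𝕎 V c u x).op
      (show ((V₀ 𝕎 V c ⊓ Vx 𝕎 V c u x) ⟶ Vx 𝕎 V c u x) from homOfLE inf_le_right),
      FibThinH7.hom_ext_thin _ _ ?_, FibThinH7.hom_ext_thin _ _ ?_⟩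
    · exact (botTerminal (D := D₁)).hom_ext _ _
    · exact base_eq_x 𝕎 V c u x
  · refine ⟨(ι (part (topAug (Xp 𝕎))) (op c.base.unop.1)).map
      (show ((V₀ 𝕎 V c ⊓ Vx 𝕎 V c u x) ⟶ V₀ 𝕎 V c) from homOfLE inf_le_left),
      FibThinH7.hom_ext_thin _ _ ?_, FibThinH7.hom_ext_thin _ _ ?_⟩
    · exact (botTerminal (D := D₁)).hom_ext _ _
    · show wbase 𝕎 c ≫ ι₁.op.map (𝟙 _) = wbase 𝕎 c
      rw [CategoryTheory.Functor.map_id, Category.comp_id]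

/-- **(BC-d)**: initiality of the comparison functor -/
theorem initial_bcd :
    (cmp (incl (topAug 𝕎)).op (incl (topAug (Xp 𝕎))).op (jX 𝕎).op (εp 𝕎).op
      (τop (incl (topAug 𝕎)) (incl (topAug (Xp 𝕎))) (jX 𝕎) (εp 𝕎) (sqX 𝕎))
      (op ((eps (topAug (Xp 𝕎))).obj V))).Initial :=
  initial_cmp_op (sqX 𝕎) _ (fun c u => exists_fact 𝕎 V c u)

end D


section Esec

/-- open sets of the base of `W`, as open sets of `𝕎 ⋆` -/
def asSW (V : (topAug (Wp 𝕎)).obj ⟨op (bot (D₁ × D₂))⟩) :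
    Opens (𝕎.obj (op (WithInitial.star : WithInitial (E D₁ D₂)))) := V

variable (V : (topAug (Wp 𝕎)).obj ⟨op (bot (D₁ × D₂))⟩) (c : ∫ᶜ part (topAug (Wp 𝕎)))
  (u : (ιp 𝕎 ⋙ incl (topAug 𝕎)).obj c ⟶ (jW 𝕎).obj ((eps (topAug (Wp 𝕎))).obj V))

/-- the map to the base point -/
noncomputable def tW (n : (D₁ × D₂)ᵒᵖ) : (toAug (D₁ × D₂)).obj n ⟶ bot (D₁ × D₂) :=
  (botTerminal (D := D₁ × D₂)).from _

theorem u_leW : (show Opens (𝕎.obj (op (WithInitial.of (ι₂.obj c.base.unop)))) from c.fiber) ≤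
    (Opens.map (𝕎.map u.base)).obj (asSW 𝕎 V) :=
  leOfHom u.fiber

theorem idx_eqW : (WithInitial.map ι₂).op.map (tW c.base) = u.base :=
  (botTerminal (D := E D₁ D₂)).hom_ext _ _

include u in
theorem c_leW : (show Opens (𝕎.obj (op (WithInitial.of (ι₂.obj c.base.unop)))) from c.fiber) ≤
    (Opens.map ((Wp 𝕎).map (tW c.base))).obj (asSW 𝕎 V) := by
  have h := u_leW 𝕎 V c u
  rw [← idx_eqW 𝕎 V c u] at h
  exact h

/-- the base factorisation -/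
noncomputable def fact₀ : Fact (sqW 𝕎) ((eps (topAug (Wp 𝕎))).obj V) c u where
  c' := c
  u' := Hom.mk (tW c.base)
    (show ((show Opens (𝕎.obj (op (WithInitial.of (ι₂.obj c.base.unop)))) from c.fiber) ⟶
      (Opens.map ((Wp 𝕎).map (tW c.base))).obj (asSW 𝕎 V)) from homOfLE (c_leW 𝕎 V c u))
  w := 𝟙 c
  fac := FibThinH7.hom_ext_thin _ _ ((botTerminal (D := E D₁ D₂)).hom_ext _ _)

/-- **(BC-e)** -/
theorem exists_factW : ∃ x₀ : Fact (sqW 𝕎) ((eps (topAug (Wp 𝕎))).obj V) c u,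
    ∀ x : Fact (sqW 𝕎) ((eps (topAug (Wp 𝕎))).obj V) c u,
      ∃ y : Fact (sqW 𝕎) ((eps (topAug (Wp 𝕎))).obj V) c u, Step y x ∧ Step y x₀ := by
  refine ⟨fact₀ 𝕎 V c u, fun x => ⟨fact₀ 𝕎 V c u, ?_, ?_⟩⟩
  · refine ⟨x.w, FibThinH7.hom_ext_thin _ _ ?_, ?_⟩
    · exact (botTerminal (D := D₁ × D₂)).hom_ext _ _
    · show 𝟙 c ≫ x.w = x.w
      exact Category.id_comp _
  · refine ⟨𝟙 c, FibThinH7.hom_ext_thin _ _ ?_, ?_⟩
    · exact (botTerminal (D := D₁ × D₂)).hom_ext _ _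
    · show 𝟙 c ≫ (𝟭 _).map (𝟙 c) = 𝟙 c
      exact Category.id_comp _

/-- **(BC-e)**: initiality of the comparison functor -/
theorem initial_bce :
    (cmp (ιp 𝕎 ⋙ incl (topAug 𝕎)).op (incl (topAug (Wp 𝕎))).op (jW 𝕎).op
      (𝟭 (∫ᶜ part (topAug (Wp 𝕎)))).op
      (τop (ιp 𝕎 ⋙ incl (topAug 𝕎)) (incl (topAug (Wp 𝕎))) (jW 𝕎) (𝟭 _) (sqW 𝕎))
      (op ((eps (topAug (Wp 𝕎))).obj V))).Initial :=
  initial_cmp_op (sqW 𝕎) _ (fun c u => exists_factW 𝕎 V c u)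

end Esec

end Groth.Agent.Lib.BiBCdH7
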