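import Mathlib
import Groth.Agent.Lib.BiBCd_helper7
import Groth.Agent.Lib.SliceAbs_helper7

/-!
# Flatness of `εp` for a bi-indexed diagram (helper7)

The functor `εp : ℙ_X ⥤ ℙ` is representably flat; hence the inverse image `θ^*` of the `p`-triple
preserves monomorphisms.
APPEND-ONLY once landed.
-/

set_option autoImplicit false
set_option backward.isDefEq.respectTransparency false
set_option backward.isDefEq.respectTransparency.types false
set_option linter.style.haveILetI false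
set_option linter.unusedSectionVars false

universe u

open CategoryTheory CategoryTheory.Limits Opposite Pseudofunctor Pseudofunctor.CoGrothendieck
  TopologicalSpace

namespace Groth.Agent.Lib.BiFlatH7

open FibDesc Groth.Agent.Lib.FibThinH7 Groth.Agent.Lib.FibDescSideH7 Groth.Agent.Lib.CechSplitH7
  Groth.Agent.Lib.BiIdxH7 Groth.Agent.Lib.BiBCbH7 Groth.Agent.Lib.BiBCdH7

variable {D₁ D₂ : Type} [SmallCategory D₁] [SmallCategory D₂]
  (𝕎 : (WithInitial (E D₁ D₂))ᵒᵖ ⥤ TopCat.{u}) (c : ∫ᶜ part (topAug 𝕎))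

/-- the object of the comma category attached to an open of `X_{m₁}` -/
noncomputable def mkObj (U : O₁ 𝕎 c)
    (h : (show Opens (𝕎.obj (op (WithInitial.of c.base.unop))) from c.fiber) ≤
      (Opens.map (𝕎.map ((toAug (E D₁ D₂)).map (wbase 𝕎 c)))).obj U) :
    StructuredArrow c (εp 𝕎) :=
  StructuredArrow.mk (Y := (⟨op c.base.unop.1, U⟩ : ∫ᶜ part (topAug (Xp 𝕎))))
    (Hom.mk (wbase 𝕎 c)
      (show ((show Opens (𝕎.obj (op (WithInitial.of c.base.unop))) from c.fiber) ⟶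
        (Opens.map (𝕎.map ((toAug (E D₁ D₂)).map (wbase 𝕎 c)))).obj U) from homOfLE h))

variable (a : StructuredArrow c (εp 𝕎))

/-- the `D₁`-component of the base of the structure map -/
noncomputable def φa : a.right.base.unop ⟶ c.base.unop.1 := a.hom.base.unop.1

/-- the open of `X_{m₁}` attached to `a` -/
noncomputable def Va : O₁ 𝕎 c :=
  (Opens.map ((Xp 𝕎).map ((toAug D₁).map (φa 𝕎 c a).op))).obj
    (show Opens (𝕎.obj (op (WithInitial.of (a.right.base.unop, WithInitial.star)))) from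
      a.right.fiber)

theorem base_eq_a : wbase 𝕎 c ≫ ι₁.op.map (φa 𝕎 c a).op = a.hom.base := by
  apply Quiver.Hom.unop_inj
  apply E_hom_ext_star
  simp [ι₁, wbase, φa]

theorem idx_eq_a :
    (toAug (E D₁ D₂)).map (wbase 𝕎 c) ≫
      (WithInitial.map ι₁).op.map ((toAug D₁).map (φa 𝕎 c a).op) =
      (toAug (E D₁ D₂)).map a.hom.base := by
  rw [← base_eq_a 𝕎 c a, CategoryTheory.Functor.map_comp]
  rfl

theorem c_le_Va : (show Opens (𝕎.obj (op (WithInitial.of c.base.unop))) from c.fiber) ≤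
    (Opens.map (𝕎.map ((toAug (E D₁ D₂)).map (wbase 𝕎 c)))).obj (Va 𝕎 c a) := by
  have h : (show Opens (𝕎.obj (op (WithInitial.of c.base.unop))) from c.fiber) ≤
      (Opens.map (𝕎.map ((toAug (E D₁ D₂)).map a.hom.base))).obj
        (show Opens (𝕎.obj (op (WithInitial.of (a.right.base.unop, WithInitial.star)))) from
          a.right.fiber) := leOfHom a.hom.fiber
  rw [← pre_comp 𝕎 _ _ _ (idx_eq_a 𝕎 c a)] at h
  exact h

/-- the map from `mkObj U` to `a` when `U ≤ Va` -/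
noncomputable def toA (U : O₁ 𝕎 c)
    (h : (show Opens (𝕎.obj (op (WithInitial.of c.base.unop))) from c.fiber) ≤
      (Opens.map (𝕎.map ((toAug (E D₁ D₂)).map (wbase 𝕎 c)))).obj U) (hU : U ≤ Va 𝕎 c a) :
    mkObj 𝕎 c U h ⟶ a :=
  StructuredArrow.homMk
    (Hom.mk (φa 𝕎 c a).op (show (U ⟶ Va 𝕎 c a) from homOfLE hU) :
      (⟨op c.base.unop.1, U⟩ : ∫ᶜ part (topAug (Xp 𝕎))) ⟶ a.right)
    (FibThinH7.hom_ext_thin _ _ (base_eq_a 𝕎 c a))

theorem φa_comp {a a' : StructuredArrow c (εp 𝕎)} (f : a ⟶ a') :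
    (φa 𝕎 c a).op ≫ f.right.base = (φa 𝕎 c a').op := by
  have h := congrArg (fun g => g.base) (StructuredArrow.w f)
  have h' : a.hom.base ≫ ι₁.op.map f.right.base = a'.hom.base := h
  apply Quiver.Hom.unop_inj
  have h2 := congrArg (fun g => g.unop.1) h'
  simpa [ι₁, φa] using h2

/-- **flatness of `εp`** -/
theorem representablyFlat_εp : RepresentablyFlat (εp 𝕎) := by
  refine ⟨fun c => ?_⟩
  haveI : Nonempty (StructuredArrow c (εp 𝕎)) := ⟨mkObj 𝕎 c ⊤ (fun _ _ => trivial)⟩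
  haveI : IsCofilteredOrEmpty (StructuredArrow c (εp 𝕎)) := by
    refine ⟨fun a a' => ?_, fun a a' f g => ?_⟩
    · exact ⟨mkObj 𝕎 c (Va 𝕎 c a ⊓ Va 𝕎 c a')
        (fun z hz => ⟨c_le_Va 𝕎 c a hz, c_le_Va 𝕎 c a' hz⟩),
        toA 𝕎 c a _ _ inf_le_left, toA 𝕎 c a' _ _ inf_le_right, trivial⟩
    · refine ⟨mkObj 𝕎 c (Va 𝕎 c a) (c_le_Va 𝕎 c a), toA 𝕎 c a _ _ le_rfl, ?_⟩
      apply StructuredArrow.ext
      apply FibThinH7.hom_ext_thin
      show (φa 𝕎 c a).op ≫ f.right.base = (φa 𝕎 c a).op ≫ g.right.base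
      rw [φa_comp 𝕎 c f, φa_comp 𝕎 c g]
  exact ⟨⟩


open Groth.Agent.Lib.SplitAbsH7 Groth.Agent.Lib.LocAbsH7 in
/-- the inverse image of the `p`-triple preserves monomorphisms -/
theorem preservesMonomorphisms_pull_p :
    (pull' (JP (Xp 𝕎)) (JP 𝕎) (JP (Wp 𝕎)) (εp 𝕎) (ιp 𝕎)).PreservesMonomorphisms := by
  haveI := representablyFlat_εp 𝕎
  haveI : PreservesFiniteLimits ((εp 𝕎).sheafPullback AddCommGrpCat.{u} (JP (Xp 𝕎)) (JP 𝕎)) :=
    Functor.SmallCategories.instPreservesFiniteLimitsSheafSheafPullbackOfRepresentablyFlat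
      (εp 𝕎) AddCommGrpCat.{u} (JP (Xp 𝕎)) (JP 𝕎)
  haveI := preservesFiniteLimits_rho (ν := ιp 𝕎) (JP (Wp 𝕎)) (JP 𝕎)
  infer_instance

end Groth.Agent.Lib.BiFlatH7
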