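import Mathlib

/-!
# Colimits over disjoint unions of filtered categories preserve monomorphisms (helper7)

`K` a small category with a function `π : K → Φ` constant on morphisms whose fibres are filtered.
Then `colim : (K ⥤ Ab) ⥤ Ab` preserves monomorphisms.  Consequences for left Kan extensions of
abelian presheaves and for the inverse image of abelian sheaves.
APPEND-ONLY once landed.
-/

set_option autoImplicit false
set_option backward.isDefEq.respectTransparency false
set_option backward.isDefEq.respectTransparency.types false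
set_option linter.style.haveILetI false
set_option linter.unusedSectionVars false

universe u

open CategoryTheory CategoryTheory.Limits CategoryTheory.Functor Opposite

namespace Groth.Agent.Lib.LanSigmaH7

section Colim

variable {K : Type u} [SmallCategory K] {Φ : Type u} (π : K → Φ)

/-- the fibre of `π` over `φ` -/
abbrev fibP (φ : Φ) : ObjectProperty K := fun k => π k = φ

/-- raw conditions making the fibres filtered -/
theorem isFiltered_fib (hπ : ∀ {k k' : K} (_ : k ⟶ k'), π k = π k')
    (hne : ∀ φ, ∃ k, π k = φ)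
    (hobj : ∀ k k', π k = π k' → ∃ (k'' : K) (_ : k ⟶ k'') (_ : k' ⟶ k''), True)
    (hmap : ∀ {k k' : K} (f g : k ⟶ k'), ∃ (k'' : K) (h : k' ⟶ k''), f ≫ h = g ≫ h) (φ : Φ) :
    IsFiltered (fibP π φ).FullSubcategory := by
  haveI : Nonempty (fibP π φ).FullSubcategory := by
    obtain ⟨k, hk⟩ := hne φ
    exact ⟨⟨k, hk⟩⟩
  haveI : IsFilteredOrEmpty (fibP π φ).FullSubcategory := by
    refine ⟨fun X Y => ?_, fun X Y f g => ?_⟩
    · obtain ⟨k'', a, b, -⟩ := hobj X.obj Y.obj (X.property.trans Y.property.symm)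
      exact ⟨⟨k'', (hπ a).symm.trans X.property⟩, ObjectProperty.homMk a,
        ObjectProperty.homMk b, trivial⟩
    · obtain ⟨k'', h, e⟩ := hmap f.hom g.hom
      refine ⟨⟨k'', (hπ h).symm.trans Y.property⟩, ObjectProperty.homMk h, ?_⟩
      apply ObjectProperty.hom_ext
      exact e
  exact ⟨⟩

variable (F : K ⥤ AddCommGrpCat.{u})

/-- the target of the decomposition -/
noncomputable abbrev sigmaPt : AddCommGrpCat.{u} :=
  ∐ (fun φ : Φ => colimit ((fibP π φ).ι ⋙ F))

/-- legs of the decomposition cocone -/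
noncomputable def leg' (φ : Φ) (k : K) (h : π k = φ) : F.obj k ⟶ sigmaPt π F :=
  colimit.ι ((fibP π φ).ι ⋙ F) ⟨k, h⟩ ≫
    Limits.Sigma.ι (fun φ : Φ => colimit ((fibP π φ).ι ⋙ F)) φ

theorem leg'_eq (φ : Φ) (k : K) (h : π k = φ) : leg' π F φ k h = leg' π F (π k) k rfl := by
  subst h
  rfl

variable (hπ : ∀ {k k' : K} (_ : k ⟶ k'), π k = π k')

include hπ in
theorem leg'_naturality {k k' : K} (f : k ⟶ k') :
    F.map f ≫ leg' π F (π k') k' rfl = leg' π F (π k) k rfl := by
  rw [← leg'_eq π F (π k) k' (hπ f).symm]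
  have h := colimit.w ((fibP π (π k)).ι ⋙ F)
    (ObjectProperty.homMk f : (⟨k, rfl⟩ : (fibP π (π k)).FullSubcategory) ⟶ ⟨k', (hπ f).symm⟩)
  unfold leg'
  rw [← Category.assoc]
  exact congrArg (fun z => z ≫ Limits.Sigma.ι (fun φ : Φ => colimit ((fibP π φ).ι ⋙ F)) (π k)) h

/-- the decomposition cocone -/
noncomputable def sigmaCocone : Cocone F where
  pt := sigmaPt π F
  ι :=
    { app := fun k => leg' π F (π k) k rfl
      naturality := fun k k' f => by
        rw [leg'_naturality π F hπ f]
        exact (Category.comp_id _).symm }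

/-- the decomposition cocone is a colimit -/
noncomputable def isColimitSigmaCocone : IsColimit (sigmaCocone π F hπ) where
  desc s := Limits.Sigma.desc (fun φ => colimit.desc ((fibP π φ).ι ⋙ F) (s.whisker (fibP π φ).ι))
  fac s k := by
    show leg' π F (π k) k rfl ≫ _ = _
    unfold leg'
    rw [Category.assoc, Limits.Sigma.ι_desc, colimit.ι_desc]
    rfl
  uniq s m hm := by
    apply Limits.Sigma.hom_ext
    intro φ
    apply colimit.hom_ext
    intro x
    rw [Limits.Sigma.ι_desc, colimit.ι_desc]
    have h := hm x.obj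
    have h2 : (sigmaCocone π F hπ).ι.app x.obj = leg' π F φ x.obj x.property :=
      (leg'_eq π F φ x.obj x.property).symm
    rw [h2] at h
    unfold leg' at h
    rw [Category.assoc] at h
    exact h

variable {F}

include hπ in
/-- **colimits over a disjoint union of filtered categories preserve monomorphisms** -/
theorem mono_colimMap (hfilt : ∀ φ, IsFiltered (fibP π φ).FullSubcategory)
    {G : K ⥤ AddCommGrpCat.{u}} (α : F ⟶ G) [Mono α] : Mono (colimMap α) := by
  haveI : ∀ k, Mono (α.app k) := fun k => inferInstance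
  let eF := (colimit.isColimit F).coconePointUniqueUpToIso (isColimitSigmaCocone π F hπ)
  let eG := (colimit.isColimit G).coconePointUniqueUpToIso (isColimitSigmaCocone π G hπ)
  let σ : sigmaPt π F ⟶ sigmaPt π G :=
    Limits.Sigma.map (fun φ => colimMap (whiskerLeft (fibP π φ).ι α))
  have hσ : Mono σ := by
    haveI : ∀ φ, Mono (colimMap (whiskerLeft (fibP π φ).ι α)) := by
      intro φ
      haveI := hfilt φ
      haveI : ∀ x, Mono ((whiskerLeft (fibP π φ).ι α).app x) := fun x =>
        inferInstanceAs (Mono (α.app x.obj))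
      haveI : Mono (whiskerLeft (fibP π φ).ι α) := NatTrans.mono_of_mono_app _
      exact inferInstanceAs (Mono ((colim : ((fibP π φ).FullSubcategory ⥤ AddCommGrpCat.{u}) ⥤
        AddCommGrpCat.{u}).map (whiskerLeft (fibP π φ).ι α)))
    let β : Discrete.functor (fun φ : Φ => colimit ((fibP π φ).ι ⋙ F)) ⟶
        Discrete.functor (fun φ : Φ => colimit ((fibP π φ).ι ⋙ G)) :=
      Discrete.natTrans (fun φ => colimMap (whiskerLeft (fibP π φ.as).ι α))
    haveI : ∀ x, Mono (β.app x) := fun x =>
      inferInstanceAs (Mono (colimMap (whiskerLeft (fibP π x.as).ι α)))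
    haveI : Mono β := NatTrans.mono_of_mono_app _
    exact inferInstanceAs (Mono ((colim : (Discrete Φ ⥤ AddCommGrpCat.{u}) ⥤
      AddCommGrpCat.{u}).map β))
  have key : colimMap α ≫ eG.hom = eF.hom ≫ σ := by
    apply colimit.hom_ext
    intro k
    have h1 : colimit.ι G k ≫ eG.hom = leg' π G (π k) k rfl :=
      IsColimit.comp_coconePointUniqueUpToIso_hom _ _ k
    have h2 : colimit.ι F k ≫ eF.hom = leg' π F (π k) k rfl :=
      IsColimit.comp_coconePointUniqueUpToIso_hom _ _ k
    have h3 : Limits.Sigma.ι (fun φ : Φ => colimit ((fibP π φ).ι ⋙ F)) (π k) ≫ σ =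
        colimMap (whiskerLeft (fibP π (π k)).ι α) ≫
          Limits.Sigma.ι (fun φ : Φ => colimit ((fibP π φ).ι ⋙ G)) (π k) :=
      Limits.Sigma.ι_map _ _
    have h4 : colimit.ι ((fibP π (π k)).ι ⋙ F) ⟨k, rfl⟩ ≫
        colimMap (whiskerLeft (fibP π (π k)).ι α) =
        α.app k ≫ colimit.ι ((fibP π (π k)).ι ⋙ G) ⟨k, rfl⟩ := ι_colimMap _ _
    calc colimit.ι F k ≫ colimMap α ≫ eG.hom
        = α.app k ≫ colimit.ι G k ≫ eG.hom := ι_colimMap_assoc _ _ _
      _ = α.app k ≫ leg' π G (π k) k rfl := by rw [h1]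
      _ = (α.app k ≫ colimit.ι ((fibP π (π k)).ι ⋙ G) ⟨k, rfl⟩) ≫
            Limits.Sigma.ι (fun φ : Φ => colimit ((fibP π φ).ι ⋙ G)) (π k) :=
          (Category.assoc _ _ _).symm
      _ = (colimit.ι ((fibP π (π k)).ι ⋙ F) ⟨k, rfl⟩ ≫
            colimMap (whiskerLeft (fibP π (π k)).ι α)) ≫
            Limits.Sigma.ι (fun φ : Φ => colimit ((fibP π φ).ι ⋙ G)) (π k) := by rw [h4]
      _ = colimit.ι ((fibP π (π k)).ι ⋙ F) ⟨k, rfl⟩ ≫
            (Limits.Sigma.ι (fun φ : Φ => colimit ((fibP π φ).ι ⋙ F)) (π k) ≫ σ) := by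
          rw [Category.assoc, h3]
      _ = leg' π F (π k) k rfl ≫ σ := (Category.assoc _ _ _).symm
      _ = (colimit.ι F k ≫ eF.hom) ≫ σ := by rw [h2]
      _ = colimit.ι F k ≫ eF.hom ≫ σ := Category.assoc _ _ _
  have e : colimMap α = (eF.hom ≫ σ) ≫ eG.inv := by
    rw [← key, Category.assoc, Iso.hom_inv_id]
    exact (Category.comp_id _).symm
  rw [e]
  haveI := hσ
  infer_instance

end Colim

section Lan

variable {C' C : Type u} [SmallCategory C'] [SmallCategory C] (ν : C' ⥤ C)

/-- left Kan extension of abelian presheaves preserves monomorphisms when the comma categories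
are disjoint unions of filtered categories -/
theorem preservesMonomorphisms_lan_of_sigma
    (h : ∀ c : C, ∃ (Φ : Type u) (π : CostructuredArrow ν.op (op c) → Φ),
      (∀ {k k' : CostructuredArrow ν.op (op c)} (_ : k ⟶ k'), π k = π k') ∧
        ∀ φ, IsFiltered (fibP π φ).FullSubcategory) :
    (ν.op.lan : (C'ᵒᵖ ⥤ AddCommGrpCat.{u}) ⥤ (Cᵒᵖ ⥤ AddCommGrpCat.{u})).PreservesMonomorphisms := by
  refine ⟨fun {Q Q'} α hα => ?_⟩
  haveI : ∀ X : Cᵒᵖ, Mono ((ν.op.lan.map α).app X) := by
    intro X
    induction X using Opposite.rec with | op c => ?_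
    obtain ⟨Φ, π, hπ, hfilt⟩ := h c
    let e := lanEvaluationIsoColim AddCommGrpCat.{u} ν.op (op c)
    have nat := e.hom.naturality α
    haveI : ∀ x, Mono (α.app x) := fun x => inferInstance
    haveI : Mono (whiskerLeft (CostructuredArrow.proj ν.op (op c)) α) := by
      haveI : ∀ x, Mono ((whiskerLeft (CostructuredArrow.proj ν.op (op c)) α).app x) := fun x =>
        inferInstanceAs (Mono (α.app x.left))
      exact NatTrans.mono_of_mono_app _
    have hm : Mono (colimMap (whiskerLeft (CostructuredArrow.proj ν.op (op c)) α)) :=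
      mono_colimMap π hπ hfilt _
    have e1 : (ν.op.lan.map α).app (op c) =
        (e.hom.app Q ≫ colimMap (whiskerLeft (CostructuredArrow.proj ν.op (op c)) α)) ≫
          e.inv.app Q' := by
      have nat' : (ν.op.lan.map α).app (op c) ≫ e.hom.app Q' =
          e.hom.app Q ≫ colimMap (whiskerLeft (CostructuredArrow.proj ν.op (op c)) α) := nat
      rw [← nat', Category.assoc, Iso.hom_inv_id_app]
      exact (Category.comp_id _).symm
    rw [e1]
    haveI := hm
    infer_instance
  exact NatTrans.mono_of_mono_app _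

variable (J' : GrothendieckTopology C') (J : GrothendieckTopology C) [ν.IsContinuous J' J]

/-- the inverse image of abelian sheaves preserves monomorphisms when the left Kan extension of
presheaves does -/
theorem preservesMonomorphisms_sheafPullback_of_lan
    (hlan : (ν.op.lan : (C'ᵒᵖ ⥤ AddCommGrpCat.{u}) ⥤
      (Cᵒᵖ ⥤ AddCommGrpCat.{u})).PreservesMonomorphisms) :
    (ν.sheafPullback AddCommGrpCat.{u} J' J).PreservesMonomorphisms := by
  haveI := hlan
  haveI : (sheafToPresheaf J' AddCommGrpCat.{u}).PreservesMonomorphisms := inferInstance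
  haveI : (presheafToSheaf J AddCommGrpCat.{u}).PreservesMonomorphisms := inferInstance
  haveI : (Functor.sheafPullbackConstruction.sheafPullback ν AddCommGrpCat.{u} J'
      J).PreservesMonomorphisms := by
    unfold Functor.sheafPullbackConstruction.sheafPullback
    infer_instance
  exact Functor.PreservesMonomorphisms.of_iso
    (Functor.sheafPullbackConstruction.sheafPullbackIso ν AddCommGrpCat.{u} J' J).symm

end Lan

end Groth.Agent.Lib.LanSigmaH7
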