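import Mathlib
import Groth.Agent.Lib.BiBCb_helper7
import Groth.Agent.Lib.LanSigma_helper7

/-!
# Restriction to a column preserves injective abelian sheaves (helper7)

The inverse image along the column inclusion `sP m : ℙ_m ⥤ ℙ_W` preserves monomorphisms: the comma
categories are disjoint unions, indexed by `m ⟶ m'`, of filtered categories.
APPEND-ONLY once landed.
-/

set_option autoImplicit false
set_option backward.isDefEq.respectTransparency false
set_option backward.isDefEq.respectTransparency.types false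
set_option linter.style.haveILetI false
set_option linter.unusedSectionVars false

universe u

open CategoryTheory CategoryTheory.Limits Opposite Pseudofunctor Pseudofunctor.CoGrothendieck
  TopologicalSpace

namespace Groth.Agent.Lib.BiInjH7

open FibDesc Groth.Agent.Lib.FibThinH7 Groth.Agent.Lib.FibDescSideH7 Groth.Agent.Lib.CechSplitH7
  Groth.Agent.Lib.BiIdxH7 Groth.Agent.Lib.BiBCbH7 Groth.Agent.Lib.LanSigmaH7

variable {D₁ D₂ : Type} [SmallCategory D₁] [SmallCategory D₂]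
  (𝕎 : (WithInitial (E D₁ D₂))ᵒᵖ ⥤ TopCat.{u}) (m : D₁) (c : ∫ᶜ part (topAug (Wp 𝕎)))

/-- the comma category -/
abbrev K : Type u := CostructuredArrow (sP 𝕎 m).op (op c)

/-- open sets of `W_{m,n₁}` -/
abbrev O₁ : Type u := Opens (𝕎.obj (op (WithInitial.of (m, WithInitial.of c.base.unop.2))))

/-- the base of the canonical map `c ⟶ sP ⟨n₁, -⟩` attached to `φ` -/
noncomputable def wbase (φ : m ⟶ c.base.unop.1) :
    c.base ⟶ (Prod.sectR m D₂).op.obj (op c.base.unop.2) :=
  (show ((m, c.base.unop.2) : D₁ × D₂) ⟶ c.base.unop from (φ, 𝟙 _)).op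

/-- the object of the comma category attached to `φ` and an open set -/
noncomputable def mkObj (φ : m ⟶ c.base.unop.1) (U : O₁ 𝕎 m c)
    (h : (show Opens (𝕎.obj (op (WithInitial.of (ι₂.obj c.base.unop)))) from c.fiber) ≤
      (Opens.map (𝕎.map ((WithInitial.map ι₂).op.map
        ((toAug (D₁ × D₂)).map (wbase 𝕎 m c φ))))).obj U) : K 𝕎 m c :=
  CostructuredArrow.mk (Y := op (⟨op c.base.unop.2, U⟩ : ∫ᶜ part (topAug (Cp 𝕎 m))))
    (Quiver.Hom.op (Hom.mk (wbase 𝕎 m c φ)
      (show ((show Opens (𝕎.obj (op (WithInitial.of (ι₂.obj c.base.unop)))) from c.fiber) ⟶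
        (Opens.map (𝕎.map ((WithInitial.map ι₂).op.map
          ((toAug (D₁ × D₂)).map (wbase 𝕎 m c φ))))).obj U) from homOfLE h) :
        c ⟶ (sP 𝕎 m).obj ⟨op c.base.unop.2, U⟩))

variable (k : K 𝕎 m c)

/-- the `D₁`-component of the structure map -/
noncomputable def φk : m ⟶ c.base.unop.1 := k.hom.unop.base.unop.1

/-- the `D₂`-component of the structure map -/
noncomputable def ψk : k.left.unop.base.unop ⟶ c.base.unop.2 := k.hom.unop.base.unop.2

/-- the open of `W_{m,n₁}` attached to `k` -/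
noncomputable def Vk : O₁ 𝕎 m c :=
  (Opens.map ((Cp 𝕎 m).map ((toAug D₂).map (ψk 𝕎 m c k).op))).obj
    (show Opens (𝕎.obj (op (WithInitial.of (m, WithInitial.of k.left.unop.base.unop)))) from
      k.left.unop.fiber)

theorem base_eq_k : wbase 𝕎 m c (φk 𝕎 m c k) ≫ (Prod.sectR m D₂).op.map (ψk 𝕎 m c k).op =
    k.hom.unop.base := by
  apply Quiver.Hom.unop_inj
  apply Prod.ext
  · simp [wbase, φk]
  · simp [wbase, ψk]

theorem idx_eq_k :
    (WithInitial.map ι₂).op.map ((toAug (D₁ × D₂)).map (wbase 𝕎 m c (φk 𝕎 m c k))) ≫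
      (κc m ⋙ WithInitial.incl).op.map ((toAug D₂).map (ψk 𝕎 m c k).op) =
      (WithInitial.map ι₂).op.map ((toAug (D₁ × D₂)).map k.hom.unop.base) := by
  rw [← base_eq_k 𝕎 m c k, CategoryTheory.Functor.map_comp, CategoryTheory.Functor.map_comp]
  rfl

theorem c_le_Vk :
    (show Opens (𝕎.obj (op (WithInitial.of (ι₂.obj c.base.unop)))) from c.fiber) ≤
      (Opens.map (𝕎.map ((WithInitial.map ι₂).op.map
        ((toAug (D₁ × D₂)).map (wbase 𝕎 m c (φk 𝕎 m c k)))))).obj (Vk 𝕎 m c k) := by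
  have h : (show Opens (𝕎.obj (op (WithInitial.of (ι₂.obj c.base.unop)))) from c.fiber) ≤
      (Opens.map (𝕎.map ((WithInitial.map ι₂).op.map
        ((toAug (D₁ × D₂)).map k.hom.unop.base)))).obj
        (show Opens (𝕎.obj (op (WithInitial.of (m, WithInitial.of k.left.unop.base.unop)))) from
          k.left.unop.fiber) := leOfHom k.hom.unop.fiber
  rw [← pre_comp 𝕎 _ _ _ (idx_eq_k 𝕎 m c k)] at h
  exact h

/-- the map from `k` to `mkObj φ U` when `φ = φk` and `U ≤ Vk` -/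
noncomputable def toK (φ : m ⟶ c.base.unop.1) (hφ : φk 𝕎 m c k = φ) (U : O₁ 𝕎 m c)
    (h : (show Opens (𝕎.obj (op (WithInitial.of (ι₂.obj c.base.unop)))) from c.fiber) ≤
      (Opens.map (𝕎.map ((WithInitial.map ι₂).op.map
        ((toAug (D₁ × D₂)).map (wbase 𝕎 m c φ))))).obj U) (hU : U ≤ Vk 𝕎 m c k) :
    k ⟶ mkObj 𝕎 m c φ U h :=
  CostructuredArrow.homMk
    (Quiver.Hom.op (Hom.mk (ψk 𝕎 m c k).op (show (U ⟶ Vk 𝕎 m c k) from homOfLE hU) :
      (⟨op c.base.unop.2, U⟩ : ∫ᶜ part (topAug (Cp 𝕎 m))) ⟶ k.left.unop))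
    (by
      apply Quiver.Hom.unop_inj
      apply FibThinH7.hom_ext_thin
      subst hφ
      exact base_eq_k 𝕎 m c k)

theorem φk_eq {k k' : K 𝕎 m c} (f : k ⟶ k') : φk 𝕎 m c k = φk 𝕎 m c k' := by
  have h := congrArg (fun g => g.unop.base) (CostructuredArrow.w f)
  have h' : k'.hom.unop.base ≫ (Prod.sectR m D₂).op.map f.left.unop.base = k.hom.unop.base := h
  have h2 := congrArg (fun g => g.unop.1) h'
  have h3 : 𝟙 m ≫ k'.hom.unop.base.unop.1 = k.hom.unop.base.unop.1 := h2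
  rw [Category.id_comp] at h3
  exact h3.symm

theorem ψk_comp {k k' : K 𝕎 m c} (f : k ⟶ k') :
    (ψk 𝕎 m c k').op ≫ f.left.unop.base = (ψk 𝕎 m c k).op := by
  have h := congrArg (fun g => g.unop.base) (CostructuredArrow.w f)
  have h' : k'.hom.unop.base ≫ (Prod.sectR m D₂).op.map f.left.unop.base = k.hom.unop.base := h
  have h2 := congrArg (fun g => g.unop.2) h'
  apply Quiver.Hom.unop_inj
  exact h2

/-- the function to the index set -/
noncomputable def π (k : K 𝕎 m c) : ULift.{u} (m ⟶ c.base.unop.1) := ULift.up (φk 𝕎 m c k)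

/-- **the comma categories of `sP` are disjoint unions of filtered categories** -/
theorem isFiltered_fib_sP (φ : ULift.{u} (m ⟶ c.base.unop.1)) :
    IsFiltered (fibP (π 𝕎 m c) φ).FullSubcategory := by
  apply isFiltered_fib (π 𝕎 m c)
  · intro k k' f
    exact congrArg ULift.up (φk_eq 𝕎 m c f)
  · intro φ
    exact ⟨mkObj 𝕎 m c φ.down ⊤ (fun _ _ => trivial), by
      apply ULift.ext
      rfl⟩
  · intro k k' hkk'
    have e : φk 𝕎 m c k' = φk 𝕎 m c k := (congrArg ULift.down hkk').symm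
    refine ⟨mkObj 𝕎 m c (φk 𝕎 m c k) (Vk 𝕎 m c k ⊓ Vk 𝕎 m c k') ?_,
      toK 𝕎 m c k _ rfl _ _ inf_le_left, toK 𝕎 m c k' _ e _ _ inf_le_right, trivial⟩
    intro z hz
    refine ⟨c_le_Vk 𝕎 m c k hz, ?_⟩
    have h2 := c_le_Vk 𝕎 m c k' hz
    rw [e] at h2
    exact h2
  · intro k k' f g
    refine ⟨mkObj 𝕎 m c (φk 𝕎 m c k') (Vk 𝕎 m c k') (c_le_Vk 𝕎 m c k'),
      toK 𝕎 m c k' _ rfl _ _ le_rfl, ?_⟩
    apply CostructuredArrow.hom_ext
    apply Quiver.Hom.unop_inj
    apply FibThinH7.hom_ext_thin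
    show (ψk 𝕎 m c k').op ≫ f.left.unop.base = (ψk 𝕎 m c k').op ≫ g.left.unop.base
    rw [ψk_comp 𝕎 m c f, ψk_comp 𝕎 m c g]

/-- **restriction to a column preserves injectives** (in the form: its left adjoint preserves
monomorphisms) -/
theorem preservesMonomorphisms_sheafPullback_sP :
    ((sP 𝕎 m).sheafPullback AddCommGrpCat.{u} (JP (Cp 𝕎 m)) (JP (Wp 𝕎))).PreservesMonomorphisms := by
  apply preservesMonomorphisms_sheafPullback_of_lan
  apply preservesMonomorphisms_lan_of_sigma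
  intro c
  exact ⟨ULift.{u} (m ⟶ c.base.unop.1), π 𝕎 m c,
    fun f => congrArg ULift.up (φk_eq 𝕎 m c f), isFiltered_fib_sP 𝕎 m c⟩

end Groth.Agent.Lib.BiInjH7
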