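import Mathlib
import Groth.Agent.Lib.SplitAbs_helper7
import Groth.Agent.Lib.AcycComp_helper7

/-!
# Composition of augmentations: unit and acyclicity (helper7)

Three adjunctions `La ⊣ Ra`, `Lp ⊣ Rp`, `Lc ⊣ Rc` with `Rc ≅ Rp ⋙ Ra`.  If the unit of `Lp ⊣ Rp` is
invertible at `La A` and `Lp (La A)` is `Rp`-acyclic, then the descent condition at `A` for `a`
is equivalent to the one for `c`.
APPEND-ONLY once landed.
-/

set_option autoImplicit false
set_option backward.isDefEq.respectTransparency false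
set_option backward.isDefEq.respectTransparency.types false
set_option linter.style.haveILetI false
set_option linter.unusedSectionVars false

universe v₁ v₂ v₃ u₁ u₂ u₃

open CategoryTheory CategoryTheory.Limits CategoryTheory.Functor

namespace Groth.Agent.Lib.CompAbsH7

open Groth.Agent.Lib.FAcyc (acyc)
open Groth.Agent.Lib.SplitAbsH7

variable {𝒮 : Type u₁} [Category.{v₁} 𝒮] [Abelian 𝒮]
  {𝒳 : Type u₂} [Category.{v₂} 𝒳] [Abelian 𝒳] [HasInjectiveResolutions 𝒳]
  {𝒲 : Type u₃} [Category.{v₃} 𝒲] [Abelian 𝒲] [HasInjectiveResolutions 𝒲]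
  {La : 𝒮 ⥤ 𝒳} {Ra : 𝒳 ⥤ 𝒮} (adja : La ⊣ Ra)
  {Lp : 𝒳 ⥤ 𝒲} {Rp : 𝒲 ⥤ 𝒳} (adjp : Lp ⊣ Rp)
  {Lc : 𝒮 ⥤ 𝒲} {Rc : 𝒲 ⥤ 𝒮} (adjc : Lc ⊣ Rc)
  [Ra.Additive] [Rp.Additive] [Rc.Additive]
  (e : Rc ≅ Rp ⋙ Ra)

/-- the induced isomorphism of left adjoints -/
noncomputable def leftIso : La ⋙ Lp ≅ Lc :=
  (conjugateIsoEquiv adjc (adja.comp adjp)).symm e

theorem unit_leftIso (A : 𝒮) :
    adjc.unit.app A ≫ e.hom.app (Lc.obj A) =
      (adja.unit.app A ≫ Ra.map (adjp.unit.app (La.obj A))) ≫
        Ra.map (Rp.map ((leftIso adja adjp adjc e).hom.app A)) := by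
  have h := unit_conjugateEquiv adjc (adja.comp adjp) (leftIso adja adjp adjc e).hom A
  have h2 : conjugateEquiv adjc (adja.comp adjp) (leftIso adja adjp adjc e).hom = e.hom := by
    have := congrArg Iso.hom
      (Equiv.apply_symm_apply (conjugateIsoEquiv adjc (adja.comp adjp)) e)
    exact this
  rw [h2, Adjunction.comp_unit_app] at h
  exact h

include e in
theorem isIso_unit_iff (A : 𝒮) (hp1 : IsIso (adjp.unit.app (La.obj A))) :
    IsIso (adja.unit.app A) ↔ IsIso (adjc.unit.app A) := by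
  have h := unit_leftIso adja adjp adjc e A
  haveI := hp1
  constructor
  · intro ha
    haveI := ha
    have e1 : adjc.unit.app A =
        ((adja.unit.app A ≫ Ra.map (adjp.unit.app (La.obj A))) ≫
          Ra.map (Rp.map ((leftIso adja adjp adjc e).hom.app A))) ≫ e.inv.app (Lc.obj A) := by
      rw [← h, Category.assoc, Iso.hom_inv_id_app]
      exact (Category.comp_id _).symm
    rw [e1]
    infer_instance
  · intro hc
    haveI := hc
    have h' : adja.unit.app A ≫ (Ra.map (adjp.unit.app (La.obj A)) ≫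
        Ra.map (Rp.map ((leftIso adja adjp adjc e).hom.app A))) =
        adjc.unit.app A ≫ e.hom.app (Lc.obj A) := by
      rw [h, Category.assoc]
    haveI : IsIso (adja.unit.app A ≫ (Ra.map (adjp.unit.app (La.obj A)) ≫
        Ra.map (Rp.map ((leftIso adja adjp adjc e).hom.app A)))) := by
      rw [h']
      infer_instance
    exact IsIso.of_isIso_comp_right (adja.unit.app A) (Ra.map (adjp.unit.app (La.obj A)) ≫
        Ra.map (Rp.map ((leftIso adja adjp adjc e).hom.app A)))

include adja adjp adjc e in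
theorem acyc_iff (hLp : Lp.PreservesMonomorphisms) (A : 𝒮)
    (hp1 : IsIso (adjp.unit.app (La.obj A))) (hp2 : acyc Rp (Lp.obj (La.obj A))) :
    acyc Ra (La.obj A) ↔ acyc Rc (Lc.obj A) := by
  haveI := hLp
  haveI : Rp.PreservesInjectiveObjects :=
    Functor.preservesInjectiveObjects_of_adjunction_of_preservesMonomorphisms adjp
  haveI : PreservesFiniteLimits Rp := by
    haveI : PreservesLimitsOfSize.{0, 0} Rp := adjp.rightAdjoint_preservesLimits
    exact PreservesLimitsOfSize.preservesFiniteLimits _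
  haveI : PreservesFiniteLimits Ra := by
    haveI : PreservesLimitsOfSize.{0, 0} Ra := adja.rightAdjoint_preservesLimits
    exact PreservesLimitsOfSize.preservesFiniteLimits _
  have hinj : ∀ I : 𝒲, Injective I → acyc Ra (Rp.obj I) := by
    intro I hI
    haveI := hI
    haveI : Injective (Rp.obj I) := Functor.injective_obj Rp I
    exact Groth.Agent.Lib.FAcyc.acyc_of_injective Ra _
  haveI := hp1
  have key : ∀ q : ℕ, Nonempty ((Ra.rightDerived q).obj (La.obj A) ≅
      (Rc.rightDerived q).obj (Lc.obj A)) := by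
    intro q
    obtain ⟨i1⟩ := Groth.Agent.Lib.AcycCompH7.nonempty_iso Rp Ra hinj q
      (Lp.obj (La.obj A)) hp2
    have i0 : (Ra.rightDerived q).obj (La.obj A) ≅
        (Ra.rightDerived q).obj (Rp.obj (Lp.obj (La.obj A))) :=
      (Ra.rightDerived q).mapIso (asIso (adjp.unit.app (La.obj A)))
    have i2 : ((Rp ⋙ Ra).rightDerived q).obj (Lp.obj (La.obj A)) ≅
        ((Rp ⋙ Ra).rightDerived q).obj (Lc.obj A) :=
      ((Rp ⋙ Ra).rightDerived q).mapIso ((leftIso adja adjp adjc e).app A)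
    have i3 : ((Rp ⋙ Ra).rightDerived q).obj (Lc.obj A) ≅ (Rc.rightDerived q).obj (Lc.obj A) :=
      ((rightDerivedIso e q).app (Lc.obj A)).symm
    exact ⟨i0 ≪≫ i1 ≪≫ i2 ≪≫ i3⟩
  constructor
  · intro h q hq
    obtain ⟨i⟩ := key q
    exact (h q hq).of_iso i.symm
  · intro h q hq
    obtain ⟨i⟩ := key q
    exact (h q hq).of_iso i

include adja adjp adjc e in
/-- **composition**: the descent conditions for `a` and for `c = a ∘ p` at `A` are equivalent when
`p` satisfies descent at `La A` -/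
theorem desc_iff (hLp : Lp.PreservesMonomorphisms) (A : 𝒮)
    (hp1 : IsIso (adjp.unit.app (La.obj A))) (hp2 : acyc Rp (Lp.obj (La.obj A))) :
    (IsIso (adja.unit.app A) ∧ acyc Ra (La.obj A)) ↔
      (IsIso (adjc.unit.app A) ∧ acyc Rc (Lc.obj A)) := by
  rw [isIso_unit_iff adja adjp adjc e A hp1, acyc_iff adja adjp adjc e hLp A hp1 hp2]

end Groth.Agent.Lib.CompAbsH7
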