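import Mathlib
import Groth.Agent.Lib.BCSheaf_helper7
import Groth.Agent.Lib.SplitAbs_helper7

/-!
# Composition of augmentations: the direct image of the composite (helper7)

Sites: a base `CS`, two augmented/partial pairs `(CAX, CPX)`, `(CAW, CPW)` and a big pair `(CA, CP)`
receiving `εp : CPX ⥤ CP`, `ιp : CPW ⥤ CP`, `jX : CAX ⥤ CA`, `jW : CAW ⥤ CA`.  Under two base change
(initiality) hypotheses, `θ_{W*} ≅ p_* ⋙ θ_{X*}`.
APPEND-ONLY once landed.
-/

set_option autoImplicit false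
set_option backward.isDefEq.respectTransparency false
set_option backward.isDefEq.respectTransparency.types false
set_option linter.style.haveILetI false
set_option linter.unusedSectionVars false

universe u

open CategoryTheory CategoryTheory.Limits CategoryTheory.Functor Opposite

namespace Groth.Agent.Lib.CompF3H7

open Groth.Agent.Lib.LocAbsH7 Groth.Agent.Lib.BCRanH7 Groth.Agent.Lib.BCSheafH7
open Groth.Agent.Lib.SplitAbsH7

section Gen

variable {C₁ C₂ C₃ : Type u} [SmallCategory C₁] [SmallCategory C₂] [SmallCategory C₃]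
  (J₁ : GrothendieckTopology C₁) (J₂ : GrothendieckTopology C₂) (J₃ : GrothendieckTopology C₃)
  (a : C₁ ⥤ C₂) (b : C₂ ⥤ C₃)
  [a.IsContinuous J₁ J₂] [a.IsCocontinuous J₁ J₂] [b.IsContinuous J₂ J₃] [b.IsCocontinuous J₂ J₃]
  [(a ⋙ b).IsContinuous J₁ J₃] [(a ⋙ b).IsCocontinuous J₁ J₃]

/-- right Kan extension along a composite -/
noncomputable def ranSComp : ranS (a ⋙ b) J₁ J₃ ≅ ranS a J₁ J₂ ⋙ ranS b J₂ J₃ :=
  Adjunction.rightAdjointUniq (adjS (a ⋙ b) J₁ J₃)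
    (((adjS b J₂ J₃).comp (adjS a J₁ J₂)).ofNatIsoLeft
      (Functor.sheafPushforwardContinuousComp' (Iso.refl (a ⋙ b)) AddCommGrpCat.{u} J₁ J₂ J₃))

end Gen

section Whisker

variable {C₁ C₂ C₁' C₂' C₀ : Type u} [SmallCategory C₁] [SmallCategory C₂] [SmallCategory C₁']
  [SmallCategory C₂'] [SmallCategory C₀]
  (f : C₁ ⥤ C₂) (f' : C₁' ⥤ C₂') (g : C₂' ⥤ C₂) (g' : C₁' ⥤ C₁) (τ : g' ⋙ f ≅ f' ⋙ g)
  (J₁ : GrothendieckTopology C₁) (J₂ : GrothendieckTopology C₂)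
  (J₁' : GrothendieckTopology C₁') (J₂' : GrothendieckTopology C₂')
  (J₀ : GrothendieckTopology C₀)
  [f.IsContinuous J₁ J₂] [f.IsCocontinuous J₁ J₂] [f'.IsContinuous J₁' J₂']
  [f'.IsCocontinuous J₁' J₂'] [g.IsContinuous J₂' J₂] [g'.IsContinuous J₁' J₁]
  (e₀ : C₀ ⥤ C₂') [e₀.IsContinuous J₀ J₂']

/-- the base change morphism restricted to a subsite on which it is invertible -/
theorem isIso_whiskerRight_bc
    (H : ∀ V : C₀, (cmp f.op f'.op g.op g'.op (τop f f' g g' τ) (op (e₀.obj V))).Initial) :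
    IsIso (Functor.whiskerRight (bc f f' g g' τ J₁ J₂ J₁' J₂') (rho e₀ J₀ J₂')) := by
  haveI : ∀ G, IsIso ((Functor.whiskerRight (bc f f' g g' τ J₁ J₂ J₁' J₂') (rho e₀ J₀ J₂')).app G) := by
    intro G
    show IsIso ((rho e₀ J₀ J₂').map ((bc f f' g g' τ J₁ J₂ J₁' J₂').app G))
    apply isIso_sheaf_hom
    intro V
    haveI := H V
    exact isIso_bc_app_hom_app f f' g g' τ J₁ J₂ J₁' J₂' G (e₀.obj V)
  exact NatIso.isIso_of_isIso_app _

/-- the resulting isomorphism -/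
noncomputable def whiskerBcIso
    (H : ∀ V : C₀, (cmp f.op f'.op g.op g'.op (τop f f' g g' τ) (op (e₀.obj V))).Initial) :
    (ranS f J₁ J₂ ⋙ rho g J₂' J₂) ⋙ rho e₀ J₀ J₂' ≅
      (rho g' J₁' J₁ ⋙ ranS f' J₁' J₂') ⋙ rho e₀ J₀ J₂' :=
  haveI := isIso_whiskerRight_bc f f' g g' τ J₁ J₂ J₁' J₂' J₀ e₀ H
  asIso (Functor.whiskerRight (bc f f' g g' τ J₁ J₂ J₁' J₂') (rho e₀ J₀ J₂'))

end Whisker

section Main

variable {CS CAX CPX CAW CPW CP CA : Type u} [SmallCategory CS] [SmallCategory CAX]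
  [SmallCategory CPX] [SmallCategory CAW] [SmallCategory CPW] [SmallCategory CP] [SmallCategory CA]
  (JS : GrothendieckTopology CS) (JAX : GrothendieckTopology CAX) (JPX : GrothendieckTopology CPX)
  (JAW : GrothendieckTopology CAW) (JPW : GrothendieckTopology CPW)
  (JPP : GrothendieckTopology CP) (JAA : GrothendieckTopology CA)
  (epsX : CS ⥤ CAX) (inclX : CPX ⥤ CAX) (epsW : CS ⥤ CAW) (inclW : CPW ⥤ CAW)
  (epsA : CS ⥤ CA) (inclA : CP ⥤ CA) (εp : CPX ⥤ CP) (ιp : CPW ⥤ CP) (jX : CAX ⥤ CA)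
  (jW : CAW ⥤ CA)
  [epsX.IsContinuous JS JAX] [inclX.IsContinuous JPX JAX] [inclX.IsCocontinuous JPX JAX]
  [epsW.IsContinuous JS JAW] [inclW.IsContinuous JPW JAW] [inclW.IsCocontinuous JPW JAW]
  [epsA.IsContinuous JS JAA] [inclA.IsContinuous JPP JAA] [inclA.IsCocontinuous JPP JAA]
  [εp.IsContinuous JPX JPP] [ιp.IsContinuous JPW JPP] [ιp.IsCocontinuous JPW JPP]
  [jX.IsContinuous JAX JAA] [jW.IsContinuous JAW JAA]
  [(ιp ⋙ inclA).IsContinuous JPW JAA] [(ιp ⋙ inclA).IsCocontinuous JPW JAA]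
  (sqX : εp ⋙ inclA ≅ inclX ⋙ jX) (sqW : 𝟭 CPW ⋙ (ιp ⋙ inclA) ≅ inclW ⋙ jW)
  (eX : epsX ⋙ jX ≅ epsA) (eW : epsW ⋙ jW ≅ epsA)

/-- the direct image of the big augmentation -/
noncomputable abbrev RA : Sheaf JPP AddCommGrpCat.{u} ⥤ Sheaf JS AddCommGrpCat.{u} :=
  ranS inclA JPP JAA ⋙ rho epsA JS JAA

/-- step (I): the big direct image restricted to `X` -/
noncomputable def isoI
    (HX : ∀ V : CS, (cmp inclA.op inclX.op jX.op εp.op (τop inclA inclX jX εp sqX)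
      (op (epsX.obj V))).Initial) :
    RA JS JPP JAA epsA inclA ≅ rho εp JPX JPP ⋙ push' JS JAX JPX epsX inclX :=
  Functor.isoWhiskerLeft (ranS inclA JPP JAA)
      (Functor.sheafPushforwardContinuousComp' eX AddCommGrpCat.{u} JS JAX JAA).symm ≪≫
    (Functor.associator _ _ _).symm ≪≫
    whiskerBcIso inclA inclX jX εp sqX JPP JAA JPX JAX JS epsX HX ≪≫
    Functor.associator _ _ _

/-- step (II): the direct image of `W` through the big site -/
noncomputable def isoII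
    (HW : ∀ V : CS, (cmp (ιp ⋙ inclA).op inclW.op jW.op (𝟭 CPW).op
      (τop (ιp ⋙ inclA) inclW jW (𝟭 CPW) sqW) (op (epsW.obj V))).Initial) :
    push' JS JAW JPW epsW inclW ≅ ranS (ιp ⋙ inclA) JPW JAA ⋙ rho epsA JS JAA :=
  Functor.isoWhiskerRight ((Functor.leftUnitor (ranS inclW JPW JAW)).symm ≪≫
      Functor.isoWhiskerRight
        (Functor.sheafPushforwardContinuousId (C := CPW) AddCommGrpCat.{u} JPW).symm
        (ranS inclW JPW JAW)) (rho epsW JS JAW) ≪≫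
    (whiskerBcIso (ιp ⋙ inclA) inclW jW (𝟭 CPW) sqW JPW JAA JPW JAW JS epsW HW).symm ≪≫
    Functor.associator _ _ _ ≪≫
    Functor.isoWhiskerLeft (ranS (ιp ⋙ inclA) JPW JAA)
      (Functor.sheafPushforwardContinuousComp' eW AddCommGrpCat.{u} JS JAW JAA)

/-- **the direct image of the composite augmentation** -/
noncomputable def f3
    (HX : ∀ V : CS, (cmp inclA.op inclX.op jX.op εp.op (τop inclA inclX jX εp sqX)
      (op (epsX.obj V))).Initial)
    (HW : ∀ V : CS, (cmp (ιp ⋙ inclA).op inclW.op jW.op (𝟭 CPW).op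
      (τop (ιp ⋙ inclA) inclW jW (𝟭 CPW) sqW) (op (epsW.obj V))).Initial) :
    push' JS JAW JPW epsW inclW ≅
      push' JPX JPP JPW εp ιp ⋙ push' JS JAX JPX epsX inclX :=
  isoII JS JAW JPW JAA epsW inclW epsA inclA ιp jW sqW eW HW ≪≫
    Functor.isoWhiskerRight (ranSComp JPW JPP JAA ιp inclA) (rho epsA JS JAA) ≪≫
    Functor.associator _ _ _ ≪≫
    Functor.isoWhiskerLeft (ranS ιp JPW JPP)
      (isoI JS JAX JPX JPP JAA epsX inclX epsA inclA εp jX sqX eX HX) ≪≫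
    (Functor.associator _ _ _).symm

end Main

end Groth.Agent.Lib.CompF3H7
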