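import Mathlib
import Groth.Agent.Lib.LocAbs_helper7

/-!
# Zero objects and isomorphisms of abelian sheaves on a space are detected on an open cover
(helper7)
APPEND-ONLY once landed.
-/

set_option autoImplicit false
set_option backward.isDefEq.respectTransparency false
set_option backward.isDefEq.respectTransparency.types false
set_option linter.style.haveILetI false
set_option linter.unusedSectionVars false

universe w u

open CategoryTheory CategoryTheory.Limits Opposite TopologicalSpace Topology

namespace Groth.Agent.Lib.LocGlueH7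

open Groth.Agent.Lib.LocAbsH7

variable {T : TopCat.{u}} {ι : Type w} {T' : ι → TopCat.{u}} (e : ∀ i, T' i ⟶ T)
  (he : ∀ i, IsOpenEmbedding (e i))

/-- restriction to the `i`-th member -/
noncomputable abbrev res (i : ι) : Sheaf (Opens.grothendieckTopology T) AddCommGrpCat.{u} ⥤
    Sheaf (Opens.grothendieckTopology (T' i)) AddCommGrpCat.{u} :=
  haveI := (he i).functor_isContinuous
  (he i).isOpenMap.functor.sheafPushforwardContinuous AddCommGrpCat.{u}
    (Opens.grothendieckTopology (T' i)) (Opens.grothendieckTopology T)

theorem isZero_sections {C : Type u} [SmallCategory C] {J : GrothendieckTopology C}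
    {M : Sheaf J AddCommGrpCat.{u}} (hM : IsZero M) (c : Cᵒᵖ) : IsZero (M.obj.obj c) := by
  rw [IsZero.iff_id_eq_zero]
  have h1 : (𝟙 M : M ⟶ M) = 0 := (IsZero.iff_id_eq_zero M).1 hM
  have h2 : (𝟙 M : M ⟶ M).hom.app c = (0 : M ⟶ M).hom.app c := by rw [h1]
  exact h2

theorem isZero_of_sections {C : Type u} [SmallCategory C] {J : GrothendieckTopology C}
    {M : Sheaf J AddCommGrpCat.{u}} (hM : ∀ c : Cᵒᵖ, IsZero (M.obj.obj c)) : IsZero M := by
  rw [IsZero.iff_id_eq_zero]
  apply Sheaf.hom_ext
  apply NatTrans.ext
  funext c
  exact (hM c).eq_of_src _ _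

theorem functor_map_eq (i : ι) (W : Opens T) (hW : (W : Set T) ⊆ Set.range (e i)) :
    (he i).isOpenMap.functor.obj ((Opens.map (e i)).obj W) = W := by
  apply Opens.ext
  exact Set.image_preimage_eq_of_subset hW

include he in
theorem isZero_small (M : Sheaf (Opens.grothendieckTopology T) AddCommGrpCat.{u})
    (hM : ∀ i, IsZero ((res e he i).obj M)) (W : Opens T)
    (hW : ∃ i, (W : Set T) ⊆ Set.range (e i)) : IsZero (M.obj.obj (op W)) := by
  obtain ⟨i, hi⟩ := hW
  have h1 : IsZero (((res e he i).obj M).obj.obj (op ((Opens.map (e i)).obj W))) :=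
    isZero_sections (hM i) _
  have h2 : IsZero (M.obj.obj (op ((he i).isOpenMap.functor.obj ((Opens.map (e i)).obj W)))) := h1
  rw [functor_map_eq e he i W hi] at h2
  exact h2

/-- the sieve of the small opens -/
def smallSieve (W : Opens T) : Sieve W where
  arrows W₁ _ := ∃ i, (W₁ : Set T) ⊆ Set.range (e i)
  downward_closed := by
    rintro W₁ W₂ f ⟨i, hi⟩ g
    exact ⟨i, fun z hz => hi (g.le hz)⟩

include he in
theorem smallSieve_mem (hcov : ∀ t : T, ∃ i, t ∈ Set.range (e i)) (W : Opens T) :
    smallSieve e W ∈ Opens.grothendieckTopology T W := by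
  intro x hx
  obtain ⟨i, hi⟩ := hcov x
  refine ⟨W ⊓ ⟨Set.range (e i), (he i).isOpen_range⟩, homOfLE inf_le_left, ⟨i, ?_⟩, ⟨hx, hi⟩⟩
  intro z hz
  exact hz.2

include he in
/-- a sheaf vanishing on all members of an open cover vanishes -/
theorem isZero_of_locally (hcov : ∀ t : T, ∃ i, t ∈ Set.range (e i))
    (M : Sheaf (Opens.grothendieckTopology T) AddCommGrpCat.{u})
    (hM : ∀ i, IsZero ((res e he i).obj M)) : IsZero M := by
  apply isZero_of_sections
  intro c
  induction c using Opposite.rec with | op W => ?_
  rw [IsZero.iff_id_eq_zero]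
  apply Presheaf.IsSheaf.hom_ext M.property ⟨smallSieve e W, smallSieve_mem e he hcov W⟩
  intro I
  exact (isZero_small e he M hM I.Y I.hf).eq_of_tgt _ _

include he in
/-- a morphism of sheaves invertible on all members of an open cover is invertible -/
theorem isIso_of_locally (hcov : ∀ t : T, ∃ i, t ∈ Set.range (e i))
    {M N : Sheaf (Opens.grothendieckTopology T) AddCommGrpCat.{u}} (φ : M ⟶ N)
    (hφ : ∀ i, IsIso ((res e he i).map φ)) : IsIso φ := by
  have hk : IsZero (kernel φ) := by
    apply isZero_of_locally e he hcov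
    intro i
    haveI := (he i).functor_isContinuous
    haveI := preservesFiniteLimits_rho (ν := (he i).isOpenMap.functor)
      (Opens.grothendieckTopology (T' i)) (Opens.grothendieckTopology T)
    haveI := hφ i
    exact (isZero_kernel_of_mono ((res e he i).map φ)).of_iso
      (PreservesKernel.iso (res e he i) φ)
  have hc : IsZero (cokernel φ) := by
    apply isZero_of_locally e he hcov
    intro i
    haveI := (he i).functor_isContinuous
    haveI := preservesFiniteColimits_rho (he i).isOpenMap.adjunction
      (Opens.grothendieckTopology (T' i)) (Opens.grothendieckTopology T)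
    haveI := hφ i
    exact (isZero_cokernel_of_epi ((res e he i).map φ)).of_iso
      (PreservesCokernel.iso (res e he i) φ)
  haveI := Preadditive.mono_of_isZero_kernel φ hk
  haveI := Preadditive.epi_of_isZero_cokernel φ hc
  exact isIso_of_mono_of_epi φ

end Groth.Agent.Lib.LocGlueH7
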