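import Mathlib
import Groth.Agent.Lib.BiBCa_helper7
import Groth.Agent.Lib.BiBCb_helper7
import Groth.Agent.Lib.BiBCd_helper7
import Groth.Agent.Lib.BiFlat_helper7
import Groth.Agent.Lib.BiInj_helper7
import Groth.Agent.Lib.CompF3_helper7
import Groth.Agent.Lib.CompAbs_helper7
import Groth.Agent.Lib.SliceAbs_helper7
import Groth.Agent.Lib.LocGlue_helper7

/-!
# Cohomological descent for bi-indexed diagrams: "half" of the bisimplicial theorem (helper7)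

If all columns `W_{m,•} → X_m` are of cohomological descent then `X_• → S` is of cohomological
descent iff `W_{••} → S` is.
APPEND-ONLY once landed.
-/

set_option autoImplicit false
set_option backward.isDefEq.respectTransparency false
set_option backward.isDefEq.respectTransparency.types false
set_option linter.style.haveILetI false
set_option linter.unusedSectionVars false

universe u

open CategoryTheory CategoryTheory.Limits Opposite Pseudofunctor Pseudofunctor.CoGrothendieck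
  TopologicalSpace

namespace Groth.Agent.Lib.BiHalfH7

open FibDesc Groth.Agent.Lib.FibThinH7 Groth.Agent.Lib.FibDescSideH7 Groth.Agent.Lib.CechSplitH7
  Groth.Agent.Lib.BiIdxH7 Groth.Agent.Lib.LocAbsH7 Groth.Agent.Lib.BCRanH7
  Groth.Agent.Lib.BCSheafH7 Groth.Agent.Lib.SplitAbsH7 Groth.Agent.Lib.SliceAbsH7
open Groth.Agent.Lib.FAcyc (acyc)

attribute [local instance] eps_isContinuous incl_isContinuous incl_isCocontinuous eps_flat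

variable {D₁ D₂ : Type} [SmallCategory D₁] [SmallCategory D₂]
  (𝕎 : (WithInitial (E D₁ D₂))ᵒᵖ ⥤ TopCat.{u})

/-- **descent for `p : W_{••} → X_•`** from descent of the columns -/
theorem descP (hcol : ∀ m : D₁, IsCohDescentTop (Cp 𝕎 m))
    (G : Sheaf (JP (Xp 𝕎)) AddCommGrpCat.{u}) :
    IsIso ((adj' (JP (Xp 𝕎)) (JP 𝕎) (JP (Wp 𝕎)) (εp 𝕎) (ιp 𝕎)).unit.app G) ∧
      acyc (push' (JP (Xp 𝕎)) (JP 𝕎) (JP (Wp 𝕎)) (εp 𝕎) (ιp 𝕎))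
        ((pull' (JP (Xp 𝕎)) (JP 𝕎) (JP (Wp 𝕎)) (εp 𝕎) (ιp 𝕎)).obj G) := by
  have key := fun m : D₁ => slice_main (JP (Xp 𝕎)) (JP 𝕎) (JP (Wp 𝕎)) (JS (Cp 𝕎 m))
    (JA (Cp 𝕎 m)) (JP (Cp 𝕎 m)) (εp 𝕎) (ιp 𝕎) (eps (topAug (Cp 𝕎 m)))
    (incl (topAug (Cp 𝕎 m))) (sS 𝕎 m) (sA 𝕎 m) (sP 𝕎 m) (sqε 𝕎 m) (sqι 𝕎 m)
    (fun V => Groth.Agent.Lib.BiBCaH7.initial_bca 𝕎 m V)
    (fun d' => Groth.Agent.Lib.BiBCbH7.initial_bcb 𝕎 m d')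
    (Groth.Agent.Lib.BiInjH7.preservesMonomorphisms_sheafPullback_sP 𝕎 m) G
  have hc := fun m : D₁ => acyc_of_isCohDescentTop (Cp 𝕎 m) (hcol m)
    ((rho (sS 𝕎 m) (JS (Cp 𝕎 m)) (JP (Xp 𝕎))).obj G)
  constructor
  · apply isIso_sheaf_hom
    intro c
    have h1 : IsIso ((rho (sS 𝕎 c.base.unop) (JS (Cp 𝕎 c.base.unop)) (JP (Xp 𝕎))).map
        ((adj' (JP (Xp 𝕎)) (JP 𝕎) (JP (Wp 𝕎)) (εp 𝕎) (ιp 𝕎)).unit.app G)) :=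
      (key c.base.unop).1 (hc c.base.unop).1
    have h2 : IsIso ((rho (sS 𝕎 c.base.unop) (JS (Cp 𝕎 c.base.unop)) (JP (Xp 𝕎))).map
        ((adj' (JP (Xp 𝕎)) (JP 𝕎) (JP (Wp 𝕎)) (εp 𝕎) (ιp 𝕎)).unit.app G)).hom := by
      haveI := h1
      exact inferInstanceAs (IsIso ((sheafToPresheaf _ _).map
        ((rho (sS 𝕎 c.base.unop) (JS (Cp 𝕎 c.base.unop)) (JP (Xp 𝕎))).map
          ((adj' (JP (Xp 𝕎)) (JP 𝕎) (JP (Wp 𝕎)) (εp 𝕎) (ιp 𝕎)).unit.app G))))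
    haveI := h2
    exact inferInstanceAs (IsIso (((rho (sS 𝕎 c.base.unop) (JS (Cp 𝕎 c.base.unop))
      (JP (Xp 𝕎))).map ((adj' (JP (Xp 𝕎)) (JP 𝕎) (JP (Wp 𝕎)) (εp 𝕎) (ιp 𝕎)).unit.app G)).hom.app
        (op c.fiber)))
  · intro q hq
    apply Groth.Agent.Lib.LocGlueH7.isZero_of_sections
    intro c
    have h1 := (key c.unop.base.unop).2 (hc c.unop.base.unop).2 q hq
    exact Groth.Agent.Lib.LocGlueH7.isZero_sections h1 (op c.unop.fiber)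

/-- the direct image of `W_{••} → S` is the composite of the direct images of `p` and of
`X_• → S` -/
noncomputable def f3 :
    push' (JS (Wp 𝕎)) (JA (Wp 𝕎)) (JP (Wp 𝕎)) (eps (topAug (Wp 𝕎))) (incl (topAug (Wp 𝕎))) ≅
      push' (JP (Xp 𝕎)) (JP 𝕎) (JP (Wp 𝕎)) (εp 𝕎) (ιp 𝕎) ⋙
        push' (JS (Xp 𝕎)) (JA (Xp 𝕎)) (JP (Xp 𝕎)) (eps (topAug (Xp 𝕎)))
          (incl (topAug (Xp 𝕎))) :=
  haveI : (ιp 𝕎 ⋙ incl (topAug 𝕎)).IsContinuous (JP (Wp 𝕎)) (JA 𝕎) :=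
    Functor.isContinuous_comp (ιp 𝕎) (incl (topAug 𝕎)) (JP (Wp 𝕎)) (JP 𝕎) (JA 𝕎)
  haveI : (ιp 𝕎 ⋙ incl (topAug 𝕎)).IsCocontinuous (JP (Wp 𝕎)) (JA 𝕎) :=
    isCocontinuous_comp (ιp 𝕎) (incl (topAug 𝕎)) (JP (Wp 𝕎)) (JP 𝕎)
  haveI : (eps (topAug (Wp 𝕎))).IsContinuous (JS (Xp 𝕎)) (JA (Wp 𝕎)) := eps_isContinuous (Wp 𝕎)
  haveI : (eps (topAug 𝕎)).IsContinuous (JS (Xp 𝕎)) (JA 𝕎) := eps_isContinuous 𝕎
  Groth.Agent.Lib.CompF3H7.f3 (JS (Xp 𝕎)) (JA (Xp 𝕎)) (JP (Xp 𝕎)) (JA (Wp 𝕎)) (JP (Wp 𝕎))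
    (JP 𝕎) (JA 𝕎) (eps (topAug (Xp 𝕎))) (incl (topAug (Xp 𝕎))) (eps (topAug (Wp 𝕎)))
    (incl (topAug (Wp 𝕎))) (eps (topAug 𝕎)) (incl (topAug 𝕎)) (εp 𝕎) (ιp 𝕎) (jX 𝕎) (jW 𝕎)
    (sqX 𝕎) (sqW 𝕎) (epsX 𝕎) (epsW 𝕎)
    (fun V => Groth.Agent.Lib.BiBCdH7.initial_bcd 𝕎 V)
    (fun V => Groth.Agent.Lib.BiBCdH7.initial_bce 𝕎 V)

/-- the two descent conditions are equivalent at every abelian sheaf on the base -/
theorem desc_iff (hcol : ∀ m : D₁, IsCohDescentTop (Cp 𝕎 m))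
    (A : Sheaf (JS (Xp 𝕎)) AddCommGrpCat.{u}) :
    (IsIso ((adj' (JS (Xp 𝕎)) (JA (Xp 𝕎)) (JP (Xp 𝕎)) (eps (topAug (Xp 𝕎)))
        (incl (topAug (Xp 𝕎)))).unit.app A) ∧
      acyc (push' (JS (Xp 𝕎)) (JA (Xp 𝕎)) (JP (Xp 𝕎)) (eps (topAug (Xp 𝕎)))
        (incl (topAug (Xp 𝕎))))
        ((pull' (JS (Xp 𝕎)) (JA (Xp 𝕎)) (JP (Xp 𝕎)) (eps (topAug (Xp 𝕎)))
          (incl (topAug (Xp 𝕎)))).obj A)) ↔
    (IsIso ((adj' (JS (Wp 𝕎)) (JA (Wp 𝕎)) (JP (Wp 𝕎)) (eps (topAug (Wp 𝕎)))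
        (incl (topAug (Wp 𝕎)))).unit.app A) ∧
      acyc (push' (JS (Wp 𝕎)) (JA (Wp 𝕎)) (JP (Wp 𝕎)) (eps (topAug (Wp 𝕎)))
        (incl (topAug (Wp 𝕎))))
        ((pull' (JS (Wp 𝕎)) (JA (Wp 𝕎)) (JP (Wp 𝕎)) (eps (topAug (Wp 𝕎)))
          (incl (topAug (Wp 𝕎)))).obj A)) := by
  have hp := descP 𝕎 hcol ((pull' (JS (Xp 𝕎)) (JA (Xp 𝕎)) (JP (Xp 𝕎)) (eps (topAug (Xp 𝕎)))
    (incl (topAug (Xp 𝕎)))).obj A)
  exact Groth.Agent.Lib.CompAbsH7.desc_iff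
    (adj' (JS (Xp 𝕎)) (JA (Xp 𝕎)) (JP (Xp 𝕎)) (eps (topAug (Xp 𝕎))) (incl (topAug (Xp 𝕎))))
    (adj' (JP (Xp 𝕎)) (JP 𝕎) (JP (Wp 𝕎)) (εp 𝕎) (ιp 𝕎))
    (adj' (JS (Wp 𝕎)) (JA (Wp 𝕎)) (JP (Wp 𝕎)) (eps (topAug (Wp 𝕎))) (incl (topAug (Wp 𝕎))))
    (f3 𝕎) (Groth.Agent.Lib.BiFlatH7.preservesMonomorphisms_pull_p 𝕎) A hp.1 hp.2

/-- **Half of the bisimplicial theorem**: if all columns are of cohomological descent, then the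
augmented diagram `X_• → S` is of cohomological descent iff `W_{••} → S` is. -/
theorem half (hcol : ∀ m : D₁, IsCohDescentTop (Cp 𝕎 m)) :
    IsCohDescentTop (Xp 𝕎) ↔ IsCohDescentTop (Wp 𝕎) := by
  constructor
  · intro hX
    apply isCohDescentTop_of_acyc
    intro I _
    exact (desc_iff 𝕎 hcol I).1 (acyc_of_isCohDescentTop (Xp 𝕎) hX I)
  · intro hW
    apply isCohDescentTop_of_acyc
    intro I _
    exact (desc_iff 𝕎 hcol I).2 (acyc_of_isCohDescentTop (Wp 𝕎) hW I)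

end Groth.Agent.Lib.BiHalfH7
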