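import Mathlib
import Groth.Prelude.Def_FibDesc
import Groth.Agent.Lib.CechSplit3_helper7

/-!
# Contraction data for the split nerve (helper7)
APPEND-ONLY once landed.
-/

set_option autoImplicit false
set_option backward.isDefEq.respectTransparency false
set_option backward.isDefEq.respectTransparency.types false
set_option linter.style.haveILetI false
set_option linter.unusedSectionVars false

universe u

open CategoryTheory CategoryTheory.Limits Opposite Pseudofunctor Pseudofunctor.CoGrothendieck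
  TopologicalSpace

namespace Groth.Agent.Lib.CechSplitH7

open FibDesc Groth.Agent.Lib.FibThinH7 Groth.Agent.Lib.FibDescSideH7

theorem δ_zero_apply (k : ℕ) (i : Fin (k + 1)) :
    (SimplexCategory.δ (n := k) 0).toOrderHom i = i.succ := by
  simp [SimplexCategory.δ]

/-- `Ψ(δ⁰) ≫ τ = 𝟙` -/
theorem Ψδ_τ (n : SimplexCategory) :
    Ψ.map (WithInitial.incl.map (SimplexCategory.δ (n := n.len) 0)) ≫
      DB.τ (WithInitial.of n) = 𝟙 (⟨WithInitial.of n⟩ : DB) := by
  apply DB.hom_ext
  intro i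
  rw [DB.fn_comp, fn_Ψ_map]
  show DB.fn (DB.τ (WithInitial.of n))
      ((((SimplexCategory.δ (n := n.len) 0).toOrderHom i : Fin (n.len + 1 + 1))) :
        WithBot (Fin (n.len + 1 + 1))) = _
  rw [δ_zero_apply]
  exact DB.fn_τ_succ (WithInitial.of n) i

theorem fn_toStar (x : DB) (w : WithBot (Fin (sz x.un))) : DB.fn (DB.toStar x) w = ⊥ := by
  induction w using WithBot.recBotCoe with
  | bot => exact DB.fn_bot _
  | coe i => rfl

/-- `Ψ(const 0) ≫ τ` factors through `star` -/
theorem Ψc0_τ (n : SimplexCategory) (b : (⟨WithInitial.star⟩ : DB) ⟶ ⟨WithInitial.of n⟩) :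
    Ψ.map (WithInitial.incl.map (SimplexCategory.const (SimplexCategory.mk 0)
      (SimplexCategory.mk (n.len + 1)) 0)) ≫ DB.τ (WithInitial.of n) =
      DB.toStar ⟨WithInitial.of (SimplexCategory.mk 0)⟩ ≫ b := by
  apply DB.hom_ext
  intro i
  change Fin (0 + 1) at i
  have hR : DB.fn (DB.toStar ⟨WithInitial.of (SimplexCategory.mk 0)⟩ ≫ b)
      ((i : Fin (0 + 1)) : WithBot (Fin (0 + 1))) = ⊥ :=
    (congrArg (DB.fn b) (fn_toStar ⟨WithInitial.of (SimplexCategory.mk 0)⟩ _)).trans
      (DB.fn_bot b)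
  have hL : DB.fn (Ψ.map (WithInitial.incl.map (SimplexCategory.const (SimplexCategory.mk 0)
      (SimplexCategory.mk (n.len + 1)) 0)) ≫ DB.τ (WithInitial.of n))
      ((i : Fin (0 + 1)) : WithBot (Fin (0 + 1))) = ⊥ :=
    DB.fn_τ_zero (WithInitial.of n)
  exact hL.trans hR.symm

variable {X S : TopCat.{u}} (f : X ⟶ S)

theorem cech_map_to_bot (x : (WithInitial SimplexCategory)ᵒᵖ) (a : x ⟶ bot SimplexCategory) :
    (cechAug f).map a = bs f x.unop :=
  cech_map f a.unop

theorem cech_bs {x y : WithInitial SimplexCategory} (a : x ⟶ y) :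
    (cechAug f).map a.op ≫ bs f x = bs f y := by
  rw [cech_map, lift_bs]

variable (s : S ⟶ X) (hs : s ≫ f = 𝟙 S)

/-- the degree-0 object -/
abbrev x0 : WithInitial SimplexCategory := WithInitial.of (SimplexCategory.mk 0)

/-- the base site -/
noncomputable abbrev CSb : Cat.{u, u} := (topAug (cechAug f)).obj ⟨op (bot SimplexCategory)⟩

/-- the inclusion of the part -/
noncomputable abbrev ιP : ∫ᶜ part (topAug (cechAug f)) ⥤ ∫ᶜ topAug (cechAug f) :=
  incl (topAug (cechAug f))

/-- the base point of the contraction -/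
noncomputable def p₀ (V : CSb f) : ∫ᶜ part (topAug (cechAug f)) :=
  objMkB (cechAug f) (toAug SimplexCategory) (op (SimplexCategory.mk 0))
    ((Opens.map (bs f x0)).obj (asOpens (cechAug f) (bot SimplexCategory) V))

/-- the structure morphism of the base point -/
noncomputable def a₀ (V : CSb f) : (ιP f).obj (p₀ f V) ⟶ (eps (topAug (cechAug f))).obj V :=
  homMk (𝒴 := cechAug f) (X := (ιP f).obj (p₀ f V)) (X' := (eps (topAug (cechAug f))).obj V)
    ((botTerminal (D := SimplexCategory)).from _)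
    (le_of_eq (congrArg (fun m => (Opens.map m).obj (asOpens (cechAug f) (bot SimplexCategory) V))
      (cech_map_to_bot f _ ((botTerminal (D := SimplexCategory)).from _))).symm)

/-- the section -/
noncomputable def σc (V : CSb f) :
    (κ f s hs).obj ((eps (topAug (cechAug f))).obj V) ⟶ (κ f s hs).obj ((ιP f).obj (p₀ f V)) :=
  homMk (𝒴 := Yp f s hs) (X := (κ f s hs).obj ((eps (topAug (cechAug f))).obj V))
    (X' := (κ f s hs).obj ((ιP f).obj (p₀ f V))) (DB.toStar ⟨x0⟩).op
    (le_of_eq (map_obj_of_comp (YpMap f s hs (DB.toStar ⟨x0⟩)) (bs f x0) (bs f WithInitial.star)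
      (YpMap_bs f s hs _) (asOpens (cechAug f) (bot SimplexCategory) V)).symm)

theorem hσc (V : CSb f) : σc f s hs V ≫ (κ f s hs).map (a₀ f V) = 𝟙 _ :=
  FibThinH7.hom_ext_thin _ _ (base_to_star_ext _ _)


theorem YpMap_τ_δ (n : SimplexCategory) :
    YpMap f s hs (DB.τ (WithInitial.of n)) ≫
      (cechAug f).map (WithInitial.incl.map (SimplexCategory.δ (n := n.len) 0)).op = 𝟙 _ := by
  rw [cech_eq f s hs, Yp_map]
  show YpMap f s hs (DB.τ (WithInitial.of n)) ≫
    YpMap f s hs (Ψ.map (WithInitial.incl.map (SimplexCategory.δ (n := n.len) 0))) = 𝟙 _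
  rw [← YpMap_comp, Ψδ_τ, YpMap_id]

theorem hcontr_c (V : CSb f) (p : ∫ᶜ part (topAug (cechAug f)))
    (a : (ιP f).obj p ⟶ (eps (topAug (cechAug f))).obj V) :
    ∃ (q : ∫ᶜ part (topAug (cechAug f))) (d : q ⟶ p) (e : q ⟶ p₀ f V)
      (t : (κ f s hs).obj ((ιP f).obj p) ⟶ (κ f s hs).obj ((ιP f).obj q)),
      (ιP f).map e ≫ a₀ f V = (ιP f).map d ≫ a ∧
        t ≫ (κ f s hs).map ((ιP f).map d) = 𝟙 _ ∧
        t ≫ (κ f s hs).map ((ιP f).map e) = (κ f s hs).map a ≫ σc f s hs V := by
  let n : SimplexCategory := p.base.unop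
  let U : Opens (P f (WithInitial.of n)) := fibB (cechAug f) (toAug SimplexCategory) p
  let VV : Opens S := asOpens (cechAug f) (bot SimplexCategory) V
  have hU : U ≤ (Opens.map (bs f (WithInitial.of n))).obj VV := by
    have h := le_of_hom (𝒴 := cechAug f) a
    rw [cech_map_to_bot f _ a.base] at h
    exact h
  let δ0 : n ⟶ SimplexCategory.mk (n.len + 1) := SimplexCategory.δ (n := n.len) 0
  let c0 : SimplexCategory.mk 0 ⟶ SimplexCategory.mk (n.len + 1) :=
    SimplexCategory.const (SimplexCategory.mk 0) (SimplexCategory.mk (n.len + 1)) 0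
  let xq : WithInitial SimplexCategory := WithInitial.of (SimplexCategory.mk (n.len + 1))
  let U' : Opens (P f xq) := (Opens.map (bs f xq)).obj VV ⊓
    (Opens.map ((cechAug f).map (WithInitial.incl.map δ0).op)).obj U
  let q : ∫ᶜ part (topAug (cechAug f)) :=
    objMkB (cechAug f) (toAug SimplexCategory) (op (SimplexCategory.mk (n.len + 1))) U'
  let d : q ⟶ p := homMkB (𝒴 := cechAug f) (ψ := toAug SimplexCategory) (X := q) (X' := p) δ0.op
    (inf_le_right : U' ≤ _)
  have he : U' ≤ (Opens.map ((cechAug f).map (WithInitial.incl.map c0).op)).obj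
      ((Opens.map (bs f x0)).obj VV) := by
    exact le_trans inf_le_left (le_of_eq (map_obj_of_comp
      ((cechAug f).map (WithInitial.incl.map c0).op) (bs f x0) (bs f xq)
      (cech_bs f (WithInitial.incl.map c0)) VV).symm)
  let e : q ⟶ p₀ f V := homMkB (𝒴 := cechAug f) (ψ := toAug SimplexCategory) (X := q)
    (X' := p₀ f V) c0.op he
  have ht : U ≤ (Opens.map (YpMap f s hs (DB.τ (WithInitial.of n)))).obj U' := by
    show U ≤ (Opens.map (YpMap f s hs (DB.τ (WithInitial.of n)))).obj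
      ((Opens.map (bs f xq)).obj VV) ⊓ (Opens.map (YpMap f s hs (DB.τ (WithInitial.of n)))).obj
      ((Opens.map ((cechAug f).map (WithInitial.incl.map δ0).op)).obj U)
    rw [map_obj_of_comp _ _ _ (YpMap_bs f s hs (DB.τ (WithInitial.of n))),
      map_obj_of_comp _ _ _ (YpMap_τ_δ f s hs n)]
    exact le_inf hU (le_of_eq rfl)
  let t : (κ f s hs).obj ((ιP f).obj p) ⟶ (κ f s hs).obj ((ιP f).obj q) :=
    homMk (𝒴 := Yp f s hs) (X := (κ f s hs).obj ((ιP f).obj p))
      (X' := (κ f s hs).obj ((ιP f).obj q)) (DB.τ (WithInitial.of n)).op ht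
  refine ⟨q, d, e, t, ?_, ?_, ?_⟩
  · exact FibThinH7.hom_ext_thin _ _ (base_to_bot_ext _ _)
  · apply FibThinH7.hom_ext_thin
    show (DB.τ (WithInitial.of n)).op ≫ (Ψ.map (WithInitial.incl.map δ0)).op = 𝟙 _
    rw [← op_comp, Ψδ_τ]
    rfl
  · apply FibThinH7.hom_ext_thin
    show (DB.τ (WithInitial.of n)).op ≫ (Ψ.map (WithInitial.incl.map c0)).op =
      (Ψ.map a.base.unop).op ≫ (DB.toStar ⟨x0⟩).op
    rw [← op_comp, ← op_comp]
    exact congrArg Quiver.Hom.op (Ψc0_τ n (Ψ.map a.base.unop))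

end Groth.Agent.Lib.CechSplitH7
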