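import Mathlib
import Groth.Prelude.Def_FibDesc
import Groth.Agent.Lib.CechSplit4_helper7

/-!
# The augmented Cech nerve of a base change along an open subspace (helper7)

For a pullback square with bottom map the inclusion `jV V` of an open subspace of the base, the
induced morphism of augmented Cech nerves consists of open embeddings whose ranges are the
preimages of `V`.
APPEND-ONLY once landed.
-/

set_option autoImplicit false
set_option backward.isDefEq.respectTransparency false
set_option backward.isDefEq.respectTransparency.types false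
set_option linter.style.haveILetI false
set_option linter.unusedSectionVars false

universe u

open CategoryTheory CategoryTheory.Limits Opposite TopologicalSpace Topology

namespace Groth.Agent.Lib.LocCechH7

open FibDesc Groth.Agent.Lib.CechSplitH7

/-- inclusion of an open subspace -/
abbrev jV {S : TopCat.{u}} (V : Opens S) : TopCat.of V ⟶ S :=
  TopCat.ofHom ⟨Subtype.val, continuous_subtype_val⟩

instance mono_jV {S : TopCat.{u}} (V : Opens S) : Mono (jV V) :=
  (TopCat.mono_iff_injective _).2 Subtype.val_injective

theorem cech_pr {X S : TopCat.{u}} (f : X ⟶ S) {x y : WithInitial SimplexCategory} (a : x ⟶ y)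
    (k : Fin (sz x)) : (cechAug f).map a.op ≫ pr f x k = pr f y (ordOf a k) := by
  rw [cech_map, lift_pr]

variable {X S : TopCat.{u}} (f : X ⟶ S) (V : Opens S)
  {X' : TopCat.{u}} {g' : X' ⟶ X} {f' : X' ⟶ TopCat.of V} (hpb : IsPullback g' f' f (jV V))

include hpb in
theorem hComp_aux (x : WithInitial SimplexCategory) (k : Fin (sz x)) :
    (pr f' x k ≫ g') ≫ f = bs f' x ≫ jV V := by
  rw [Category.assoc, hpb.w, ← Category.assoc, pr_f]

/-- the components of the morphism of Cech nerves -/
noncomputable def hComp (x : WithInitial SimplexCategory) : P f' x ⟶ P f x :=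
  lift f x (bs f' x ≫ jV V) (fun k => pr f' x k ≫ g') (fun k => hComp_aux f V hpb x k)

theorem hComp_bs (x : WithInitial SimplexCategory) :
    hComp f V hpb x ≫ bs f x = bs f' x ≫ jV V :=
  lift_bs f x _ _ _

theorem hComp_pr (x : WithInitial SimplexCategory) (k : Fin (sz x)) :
    hComp f V hpb x ≫ pr f x k = pr f' x k ≫ g' :=
  lift_pr f x _ _ _ k

theorem hComp_nat {x y : WithInitial SimplexCategory} (a : x ⟶ y) :
    (cechAug f').map a.op ≫ hComp f V hpb x = hComp f V hpb y ≫ (cechAug f).map a.op := by
  apply P_hom_ext f x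
  · rw [Category.assoc, hComp_bs, ← Category.assoc, cech_bs, Category.assoc, cech_bs, hComp_bs]
  · intro k
    rw [Category.assoc, hComp_pr, ← Category.assoc, cech_pr, Category.assoc, cech_pr, hComp_pr]

/-- the morphism of augmented Cech nerves -/
noncomputable def hNat : cechAug f' ⟶ cechAug f where
  app x := hComp f V hpb x.unop
  naturality _ _ a := hComp_nat f V hpb a.unop

/-- the preimage of `V` -/
noncomputable def U (x : WithInitial SimplexCategory) : Opens (P f x) := (Opens.map (bs f x)).obj V

/-- the structure map of the preimage -/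
noncomputable def bU (x : WithInitial SimplexCategory) : TopCat.of (U f V x) ⟶ TopCat.of V :=
  TopCat.ofHom ⟨fun z => ⟨bs f x z.1, z.2⟩,
    Continuous.subtype_mk ((bs f x).hom.continuous.comp continuous_subtype_val) _⟩

theorem bU_j (x : WithInitial SimplexCategory) : bU f V x ≫ jV V = jV (U f V x) ≫ bs f x :=
  rfl

include hpb in
theorem cU_aux (x : WithInitial SimplexCategory) (k : Fin (sz x)) :
    (jV (U f V x) ≫ pr f x k) ≫ f = bU f V x ≫ jV V := by
  rw [Category.assoc, pr_f, bU_j]

/-- coordinates of the inverse -/
noncomputable def cU (x : WithInitial SimplexCategory) (k : Fin (sz x)) :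
    TopCat.of (U f V x) ⟶ X' :=
  hpb.lift (jV (U f V x) ≫ pr f x k) (bU f V x) (cU_aux f V hpb x k)

/-- the inverse -/
noncomputable def kk (x : WithInitial SimplexCategory) : TopCat.of (U f V x) ⟶ P f' x :=
  lift f' x (bU f V x) (cU f V hpb x) (fun k => hpb.lift_snd _ _ _)

theorem kk_h (x : WithInitial SimplexCategory) : kk f V hpb x ≫ hComp f V hpb x = jV (U f V x) := by
  apply P_hom_ext f x
  · rw [Category.assoc, hComp_bs, ← Category.assoc]
    unfold kk
    rw [lift_bs, bU_j]
  · intro k
    rw [Category.assoc, hComp_pr, ← Category.assoc]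
    unfold kk
    rw [lift_pr]
    exact hpb.lift_fst _ _ _

theorem hComp_mem (x : WithInitial SimplexCategory) (a : P f' x) :
    hComp f V hpb x a ∈ U f V x := by
  have h1 : bs f x (hComp f V hpb x a) = jV V (bs f' x a) :=
    ConcreteCategory.congr_hom (hComp_bs f V hpb x) a
  show bs f x (hComp f V hpb x a) ∈ V
  rw [h1]
  exact (bs f' x a).2

/-- the factorisation through the preimage -/
noncomputable def hfac (x : WithInitial SimplexCategory) : P f' x ⟶ TopCat.of (U f V x) :=
  TopCat.ofHom ⟨fun a => ⟨hComp f V hpb x a, hComp_mem f V hpb x a⟩,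
    Continuous.subtype_mk (hComp f V hpb x).hom.continuous _⟩

theorem hfac_j (x : WithInitial SimplexCategory) :
    hfac f V hpb x ≫ jV (U f V x) = hComp f V hpb x := rfl

theorem hfac_bU (x : WithInitial SimplexCategory) : hfac f V hpb x ≫ bU f V x = bs f' x := by
  rw [← cancel_mono (jV V), Category.assoc, bU_j, ← Category.assoc, hfac_j, hComp_bs]

theorem hfac_kk (x : WithInitial SimplexCategory) : hfac f V hpb x ≫ kk f V hpb x = 𝟙 _ := by
  apply P_hom_ext f' x
  · rw [Category.assoc, Category.id_comp]
    unfold kk
    rw [lift_bs, hfac_bU]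
  · intro k
    rw [Category.assoc, Category.id_comp]
    unfold kk
    rw [lift_pr]
    apply hpb.hom_ext
    · unfold cU
      rw [Category.assoc, hpb.lift_fst, ← Category.assoc, hfac_j, hComp_pr]
    · unfold cU
      rw [Category.assoc, hpb.lift_snd, hfac_bU, pr_f]

theorem kk_hfac (x : WithInitial SimplexCategory) : kk f V hpb x ≫ hfac f V hpb x = 𝟙 _ := by
  rw [← cancel_mono (jV (U f V x)), Category.assoc, hfac_j, kk_h, Category.id_comp]

/-- the homeomorphism onto the preimage -/
noncomputable def isoU (x : WithInitial SimplexCategory) : P f' x ≅ TopCat.of (U f V x) where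
  hom := hfac f V hpb x
  inv := kk f V hpb x
  hom_inv_id := hfac_kk f V hpb x
  inv_hom_id := kk_hfac f V hpb x

theorem isOpenEmbedding_hComp (x : WithInitial SimplexCategory) :
    IsOpenEmbedding (hComp f V hpb x) :=
  (IsOpen.isOpenEmbedding_subtypeVal (U f V x).2).comp
    (TopCat.homeoOfIso (isoU f V hpb x)).isOpenEmbedding

theorem range_hComp (x : WithInitial SimplexCategory) :
    Set.range (hComp f V hpb x) = (bs f x) ⁻¹' (V : Set S) := by
  ext z
  constructor
  · rintro ⟨a, rfl⟩
    exact hComp_mem f V hpb x a
  · intro hz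
    exact ⟨kk f V hpb x ⟨z, hz⟩, ConcreteCategory.congr_hom (kk_h f V hpb x) ⟨z, hz⟩⟩

theorem isOpenEmbedding_hNat (x : (WithInitial SimplexCategory)ᵒᵖ) :
    IsOpenEmbedding ((hNat f V hpb).app x) :=
  isOpenEmbedding_hComp f V hpb x.unop

theorem range_hNat (x : (WithInitial SimplexCategory)ᵒᵖ) (a : x ⟶ bot SimplexCategory) :
    Set.range ((hNat f V hpb).app x) = ((cechAug f).map a) ⁻¹' (V : Set S) := by
  rw [cech_map_to_bot f x a]
  exact range_hComp f V hpb x.unop

end Groth.Agent.Lib.LocCechH7
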