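import Mathlib
import Groth.Prelude.Def_FibDesc
import Groth.Agent.Lib.CechSplit4_helper7
import Groth.Agent.Lib.LocCech_helper7

/-!
# Fibre products of two augmented Cech nerves (helper7)

For `u : X ⟶ S`, `v : Y ⟶ S` and index functors `pA pB : I ⥤ WithInitial SimplexCategory`, the
diagram `i ↦ X_{pA i} ×_S Y_{pB i}`; functoriality in the index functors, symmetry, and the
identification of the Cech nerve of a base change of `v` with the base change of the Cech nerve.
APPEND-ONLY once landed.
-/

set_option autoImplicit false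
set_option backward.isDefEq.respectTransparency false
set_option backward.isDefEq.respectTransparency.types false
set_option linter.style.haveILetI false
set_option linter.unusedSectionVars false
set_option linter.unusedVariables false

universe u

open CategoryTheory CategoryTheory.Limits Opposite

namespace Groth.Agent.Lib.BiSpaceH7

open FibDesc Groth.Agent.Lib.CechSplitH7 Groth.Agent.Lib.LocCechH7

variable {X Y S : TopCat.{u}} (u : X ⟶ S) (v : Y ⟶ S)

section PBsec

variable {I : Type} [SmallCategory I] (pA pB : I ⥤ WithInitial SimplexCategory)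

/-- the diagram `i ↦ X_{pA i} ×_S Y_{pB i}` -/
noncomputable def PB : Iᵒᵖ ⥤ TopCat.{u} where
  obj i := pullback (bs u (pA.obj i.unop)) (bs v (pB.obj i.unop))
  map {i j} f := pullback.map (bs u (pA.obj i.unop)) (bs v (pB.obj i.unop))
    (bs u (pA.obj j.unop)) (bs v (pB.obj j.unop))
    ((cechAug u).map (pA.map f.unop).op) ((cechAug v).map (pB.map f.unop).op) (𝟙 S)
    ((Category.comp_id _).trans (cech_bs u _).symm)
    ((Category.comp_id _).trans (cech_bs v _).symm)
  map_id i := by
    apply pullback.hom_ext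
    · rw [pullback.lift_fst, Category.id_comp]
      have h : (cechAug u).map (pA.map (𝟙 i).unop).op = 𝟙 _ := by
        rw [unop_id, pA.map_id, op_id, (cechAug u).map_id]
      rw [h]
      exact Category.comp_id _
    · rw [pullback.lift_snd, Category.id_comp]
      have h : (cechAug v).map (pB.map (𝟙 i).unop).op = 𝟙 _ := by
        rw [unop_id, pB.map_id, op_id, (cechAug v).map_id]
      rw [h]
      exact Category.comp_id _
  map_comp {i j k} f g := by
    apply pullback.hom_ext
    · rw [pullback.lift_fst, Category.assoc, pullback.lift_fst, pullback.lift_fst_assoc]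
      have h : (cechAug u).map (pA.map (f ≫ g).unop).op =
          (cechAug u).map (pA.map f.unop).op ≫ (cechAug u).map (pA.map g.unop).op := by
        rw [unop_comp, pA.map_comp, op_comp, (cechAug u).map_comp]
      rw [h]
      exact (Category.assoc _ _ _).symm
    · rw [pullback.lift_snd, Category.assoc, pullback.lift_snd, pullback.lift_snd_assoc]
      have h : (cechAug v).map (pB.map (f ≫ g).unop).op =
          (cechAug v).map (pB.map f.unop).op ≫ (cechAug v).map (pB.map g.unop).op := by
        rw [unop_comp, pB.map_comp, op_comp, (cechAug v).map_comp]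
      rw [h]
      exact (Category.assoc _ _ _).symm

@[reassoc]
theorem PB_map_fst {i j : Iᵒᵖ} (f : i ⟶ j) :
    (PB u v pA pB).map f ≫ pullback.fst (bs u (pA.obj j.unop)) (bs v (pB.obj j.unop)) =
      pullback.fst (bs u (pA.obj i.unop)) (bs v (pB.obj i.unop)) ≫
        (cechAug u).map (pA.map f.unop).op :=
  pullback.lift_fst _ _ _

@[reassoc]
theorem PB_map_snd {i j : Iᵒᵖ} (f : i ⟶ j) :
    (PB u v pA pB).map f ≫ pullback.snd (bs u (pA.obj j.unop)) (bs v (pB.obj j.unop)) =
      pullback.snd (bs u (pA.obj i.unop)) (bs v (pB.obj i.unop)) ≫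
        (cechAug v).map (pB.map f.unop).op :=
  pullback.lift_snd _ _ _

variable {pA pB}
variable {pA' pB' : I ⥤ WithInitial SimplexCategory}

/-- components of the functoriality in the index functors -/
noncomputable def PBnatApp (t₁ : pA' ⟶ pA) (t₂ : pB' ⟶ pB) (i : Iᵒᵖ) :
    (PB u v pA pB).obj i ⟶ (PB u v pA' pB').obj i :=
  pullback.map (bs u (pA.obj i.unop)) (bs v (pB.obj i.unop))
    (bs u (pA'.obj i.unop)) (bs v (pB'.obj i.unop))
    ((cechAug u).map (t₁.app i.unop).op) ((cechAug v).map (t₂.app i.unop).op) (𝟙 S)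
    ((Category.comp_id _).trans (cech_bs u _).symm)
    ((Category.comp_id _).trans (cech_bs v _).symm)

@[reassoc]
theorem PBnatApp_fst (t₁ : pA' ⟶ pA) (t₂ : pB' ⟶ pB) (i : Iᵒᵖ) :
    PBnatApp u v t₁ t₂ i ≫ pullback.fst (bs u (pA'.obj i.unop)) (bs v (pB'.obj i.unop)) =
      pullback.fst (bs u (pA.obj i.unop)) (bs v (pB.obj i.unop)) ≫
        (cechAug u).map (t₁.app i.unop).op :=
  pullback.lift_fst _ _ _

@[reassoc]
theorem PBnatApp_snd (t₁ : pA' ⟶ pA) (t₂ : pB' ⟶ pB) (i : Iᵒᵖ) :
    PBnatApp u v t₁ t₂ i ≫ pullback.snd (bs u (pA'.obj i.unop)) (bs v (pB'.obj i.unop)) =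
      pullback.snd (bs u (pA.obj i.unop)) (bs v (pB.obj i.unop)) ≫
        (cechAug v).map (t₂.app i.unop).op :=
  pullback.lift_snd _ _ _

/-- functoriality (contravariant) in the index functors -/
noncomputable def PBnat (t₁ : pA' ⟶ pA) (t₂ : pB' ⟶ pB) : PB u v pA pB ⟶ PB u v pA' pB' where
  app i := PBnatApp u v t₁ t₂ i
  naturality {i j} f := by
    have hu : (cechAug u).map (pA.map f.unop).op ≫ (cechAug u).map (t₁.app j.unop).op =
        (cechAug u).map (t₁.app i.unop).op ≫ (cechAug u).map (pA'.map f.unop).op := by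
      rw [← (cechAug u).map_comp, ← (cechAug u).map_comp, ← op_comp, ← op_comp, t₁.naturality]
    have hv : (cechAug v).map (pB.map f.unop).op ≫ (cechAug v).map (t₂.app j.unop).op =
        (cechAug v).map (t₂.app i.unop).op ≫ (cechAug v).map (pB'.map f.unop).op := by
      rw [← (cechAug v).map_comp, ← (cechAug v).map_comp, ← op_comp, ← op_comp, t₂.naturality]
    apply pullback.hom_ext
    · rw [Category.assoc, PBnatApp_fst, PB_map_fst_assoc, hu, Category.assoc, PB_map_fst,
        PBnatApp_fst_assoc]
    · rw [Category.assoc, PBnatApp_snd, PB_map_snd_assoc, hv, Category.assoc, PB_map_snd,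
        PBnatApp_snd_assoc]

instance isIso_PBnatApp (t₁ : pA' ⟶ pA) (t₂ : pB' ⟶ pB) [IsIso t₁] [IsIso t₂] (i : Iᵒᵖ) :
    IsIso (PBnatApp u v t₁ t₂ i) := by
  haveI : IsIso ((cechAug u).map (t₁.app i.unop).op) := inferInstance
  haveI : IsIso ((cechAug v).map (t₂.app i.unop).op) := inferInstance
  unfold PBnatApp
  infer_instance

instance isIso_PBnat (t₁ : pA' ⟶ pA) (t₂ : pB' ⟶ pB) [IsIso t₁] [IsIso t₂] :
    IsIso (PBnat u v t₁ t₂) := by
  haveI : ∀ i, IsIso ((PBnat u v t₁ t₂).app i) := fun i => isIso_PBnatApp u v t₁ t₂ i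
  exact NatIso.isIso_of_isIso_app _

variable (pA pB)

/-- symmetry -/
noncomputable def PBsymm : PB v u pB pA ≅ PB u v pA pB :=
  NatIso.ofComponents (fun i => pullbackSymmetry (bs v (pB.obj i.unop)) (bs u (pA.obj i.unop)))
    (fun {i j} f => by
      apply pullback.hom_ext
      · rw [Category.assoc, pullbackSymmetry_hom_comp_fst, PB_map_snd, Category.assoc, PB_map_fst,
          pullbackSymmetry_hom_comp_fst_assoc]
      · rw [Category.assoc, pullbackSymmetry_hom_comp_snd, PB_map_fst, Category.assoc, PB_map_snd,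
          pullbackSymmetry_hom_comp_snd_assoc])

/-- precomposition with a functor of index categories -/
theorem PBpre {I' : Type} [SmallCategory I'] (G : I' ⥤ I) :
    G.op ⋙ PB u v pA pB = PB u v (G ⋙ pA) (G ⋙ pB) := rfl

end PBsec

section BC

variable (a : WithInitial SimplexCategory)

/-- the base change of `v` to `X_a` -/
noncomputable abbrev vb : pullback v (bs u a) ⟶ P u a := pullback.snd v (bs u a)

/-- the constant index functor -/
abbrev cA : WithInitial SimplexCategory ⥤ WithInitial SimplexCategory :=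
  (Functor.const (WithInitial SimplexCategory)).obj a

/-- the base change of the Cech nerve of `v` to `X_a` -/
noncomputable abbrev BCn : (WithInitial SimplexCategory)ᵒᵖ ⥤ TopCat.{u} :=
  PB u v (cA a) (𝟭 (WithInitial SimplexCategory))

theorem BCn_map_fst {b b' : WithInitial SimplexCategory} (β : b ⟶ b') :
    (BCn u v a).map β.op ≫ pullback.fst (bs u a) (bs v b) = pullback.fst (bs u a) (bs v b') := by
  have h := PB_map_fst u v (cA a) (𝟭 (WithInitial SimplexCategory)) β.op
  have e : (cechAug u).map ((cA a).map β.op.unop).op = 𝟙 _ := by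
    show (cechAug u).map (𝟙 a).op = 𝟙 _
    rw [op_id, (cechAug u).map_id]
  exact h.trans ((congrArg (fun z => pullback.fst (bs u a) (bs v b') ≫ z) e).trans
    (Category.comp_id _))

theorem BCn_map_snd {b b' : WithInitial SimplexCategory} (β : b ⟶ b') :
    (BCn u v a).map β.op ≫ pullback.snd (bs u a) (bs v b) =
      pullback.snd (bs u a) (bs v b') ≫ (cechAug v).map β.op :=
  PB_map_snd u v (cA a) (𝟭 (WithInitial SimplexCategory)) β.op

theorem hC_aux (b : WithInitial SimplexCategory) (k : Fin (sz b)) :
    (pr (vb u v a) b k ≫ pullback.fst v (bs u a)) ≫ v = bs (vb u v a) b ≫ bs u a := by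
  rw [Category.assoc, pullback.condition, ← Category.assoc, pr_f]

/-- the comparison of Cech nerves -/
noncomputable def hC (b : WithInitial SimplexCategory) : P (vb u v a) b ⟶ P v b :=
  lift v b (bs (vb u v a) b ≫ bs u a) (fun k => pr (vb u v a) b k ≫ pullback.fst v (bs u a))
    (fun k => hC_aux u v a b k)

theorem hC_bs (b : WithInitial SimplexCategory) :
    hC u v a b ≫ bs v b = bs (vb u v a) b ≫ bs u a :=
  lift_bs v b _ _ _

theorem hC_pr (b : WithInitial SimplexCategory) (k : Fin (sz b)) :
    hC u v a b ≫ pr v b k = pr (vb u v a) b k ≫ pullback.fst v (bs u a) :=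
  lift_pr v b _ _ _ k

theorem hC_nat {b b' : WithInitial SimplexCategory} (β : b ⟶ b') :
    (cechAug (vb u v a)).map β.op ≫ hC u v a b = hC u v a b' ≫ (cechAug v).map β.op := by
  apply P_hom_ext v b
  · rw [Category.assoc, hC_bs, ← Category.assoc, cech_bs, Category.assoc, cech_bs, hC_bs]
  · intro k
    rw [Category.assoc, hC_pr, ← Category.assoc, cech_pr, Category.assoc, cech_pr, hC_pr]

/-- the forward map -/
noncomputable def φ (b : WithInitial SimplexCategory) :
    P (vb u v a) b ⟶ pullback (bs u a) (bs v b) :=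
  pullback.lift (bs (vb u v a) b) (hC u v a b) (hC_bs u v a b).symm

theorem φ_fst (b : WithInitial SimplexCategory) :
    φ u v a b ≫ pullback.fst (bs u a) (bs v b) = bs (vb u v a) b :=
  pullback.lift_fst _ _ _

theorem φ_snd (b : WithInitial SimplexCategory) :
    φ u v a b ≫ pullback.snd (bs u a) (bs v b) = hC u v a b :=
  pullback.lift_snd _ _ _

theorem cI_aux (b : WithInitial SimplexCategory) (k : Fin (sz b)) :
    (pullback.snd (bs u a) (bs v b) ≫ pr v b k) ≫ v =
      pullback.fst (bs u a) (bs v b) ≫ bs u a := by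
  rw [Category.assoc, pr_f, pullback.condition]

/-- coordinates of the inverse -/
noncomputable def cI (b : WithInitial SimplexCategory) (k : Fin (sz b)) :
    pullback (bs u a) (bs v b) ⟶ pullback v (bs u a) :=
  pullback.lift (pullback.snd (bs u a) (bs v b) ≫ pr v b k) (pullback.fst (bs u a) (bs v b))
    (cI_aux u v a b k)

theorem cI_fst (b : WithInitial SimplexCategory) (k : Fin (sz b)) :
    cI u v a b k ≫ pullback.fst v (bs u a) = pullback.snd (bs u a) (bs v b) ≫ pr v b k :=
  pullback.lift_fst _ _ _

theorem cI_snd (b : WithInitial SimplexCategory) (k : Fin (sz b)) :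
    cI u v a b k ≫ vb u v a = pullback.fst (bs u a) (bs v b) :=
  pullback.lift_snd _ _ _

/-- the inverse map -/
noncomputable def ψ (b : WithInitial SimplexCategory) :
    pullback (bs u a) (bs v b) ⟶ P (vb u v a) b :=
  lift (vb u v a) b (pullback.fst (bs u a) (bs v b)) (cI u v a b) (fun k => cI_snd u v a b k)

theorem ψ_bs (b : WithInitial SimplexCategory) :
    ψ u v a b ≫ bs (vb u v a) b = pullback.fst (bs u a) (bs v b) :=
  lift_bs (vb u v a) b _ _ _

theorem ψ_pr (b : WithInitial SimplexCategory) (k : Fin (sz b)) :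
    ψ u v a b ≫ pr (vb u v a) b k = cI u v a b k :=
  lift_pr (vb u v a) b _ _ _ k

theorem φ_ψ (b : WithInitial SimplexCategory) : φ u v a b ≫ ψ u v a b = 𝟙 _ := by
  apply P_hom_ext (vb u v a) b
  · rw [Category.assoc, Category.id_comp, ψ_bs, φ_fst]
  · intro k
    rw [Category.assoc, Category.id_comp, ψ_pr]
    apply pullback.hom_ext
    · rw [Category.assoc, cI_fst, ← Category.assoc, φ_snd, hC_pr]
    · rw [Category.assoc]
      exact ((congrArg (fun z => φ u v a b ≫ z) (cI_snd u v a b k)).trans
        (φ_fst u v a b)).trans (pr_f (vb u v a) b k).symm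

theorem ψ_φ (b : WithInitial SimplexCategory) : ψ u v a b ≫ φ u v a b = 𝟙 _ := by
  apply pullback.hom_ext
  · rw [Category.assoc, Category.id_comp, φ_fst, ψ_bs]
  · rw [Category.assoc, Category.id_comp, φ_snd]
    apply P_hom_ext v b
    · rw [Category.assoc, hC_bs, ← Category.assoc, ψ_bs]
      exact pullback.condition
    · intro k
      rw [Category.assoc, hC_pr, ← Category.assoc, ψ_pr, cI_fst]

theorem φ_nat {b b' : WithInitial SimplexCategory} (β : b ⟶ b') :
    (cechAug (vb u v a)).map β.op ≫ φ u v a b = φ u v a b' ≫ (BCn u v a).map β.op := by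
  apply pullback.hom_ext
  · rw [Category.assoc, φ_fst, cech_bs, Category.assoc, BCn_map_fst, φ_fst]
  · rw [Category.assoc, φ_snd, hC_nat, Category.assoc, BCn_map_snd, ← Category.assoc, φ_snd]

/-- **the Cech nerve of a base change is the base change of the Cech nerve** -/
noncomputable def bcIso : cechAug (vb u v a) ≅ BCn u v a :=
  NatIso.ofComponents
    (fun b => ⟨φ u v a b.unop, ψ u v a b.unop, φ_ψ u v a b.unop, ψ_φ u v a b.unop⟩)
    (fun {b b'} f => φ_nat u v a f.unop)

end BC

end Groth.Agent.Lib.BiSpaceH7
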