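import Mathlib
import Groth.Prelude.Def_FibDesc
import Groth.Agent.Lib.BiSpace1_helper7
import Groth.Agent.Lib.BiIdx_helper7

/-!
# The bi-indexed diagram attached to two maps `u : X ⟶ S`, `v : Y ⟶ S` (helper7)

`BW u v` on `(WithInitial (Δ × WithInitial Δ))ᵒᵖ` : `(m, ⋆) ↦ X_m`, `(m, n) ↦ X_m ×_S Y_n`, `⋆ ↦ S`; its
rows, columns and total part.
APPEND-ONLY once landed.
-/

set_option autoImplicit false
set_option backward.isDefEq.respectTransparency false
set_option backward.isDefEq.respectTransparency.types false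
set_option linter.style.haveILetI false
set_option linter.unusedSectionVars false
set_option linter.unusedVariables false

universe w w' u

open CategoryTheory CategoryTheory.Limits Opposite

namespace Groth.Agent.Lib.BiSpaceH7

open FibDesc Groth.Agent.Lib.CechSplitH7 Groth.Agent.Lib.LocCechH7 Groth.Agent.Lib.BiIdxH7

section Idx

/-- functors out of `WithInitial C` sending `⋆` to an initial object are isomorphic as soon as
their restrictions to `C` are -/
def isoOfIncl {C : Type w} [Category.{w'} C] {B : Type*} [Category B] {G₁ G₂ : WithInitial C ⥤ B}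
    (h : WithInitial.incl ⋙ G₁ ≅ WithInitial.incl ⋙ G₂)
    (hG : G₁.obj WithInitial.star ≅ G₂.obj WithInitial.star)
    (hinit : IsInitial (G₁.obj WithInitial.star)) : G₁ ≅ G₂ :=
  NatIso.ofComponents
    (fun X => match X with
      | WithInitial.of x => h.app x
      | WithInitial.star => hG)
    (by
      intro X Y f
      match X, Y, f with
      | WithInitial.of x, WithInitial.of y, f => exact h.hom.naturality (WithInitial.down f)
      | WithInitial.star, WithInitial.of y, f => exact hinit.hom_ext _ _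
      | WithInitial.star, WithInitial.star, f => exact hinit.hom_ext _ _
      | WithInitial.of x, WithInitial.star, f => exact (f : PEmpty).elim)

variable {D₁ D₂ : Type} [SmallCategory D₁] [SmallCategory D₂]

/-- first projection of the big index category -/
def π₁ : WithInitial (E D₁ D₂) ⥤ WithInitial D₁ :=
  WithInitial.map (CategoryTheory.Prod.fst D₁ (WithInitial D₂))

/-- second projection of the big index category -/
def π₂ : WithInitial (E D₁ D₂) ⥤ WithInitial D₂ :=
  WithInitial.liftToInitial (CategoryTheory.Prod.snd D₁ (WithInitial D₂)) WithInitial.starInitial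

/-- rows: first index -/
def eX1 : WithInitial.map (ι₁ (D₁ := D₁) (D₂ := D₂)) ⋙ π₁ ≅ 𝟭 (WithInitial D₁) :=
  isoOfIncl (NatIso.ofComponents (fun m => Iso.refl _) (fun {m m'} f => by
    show f ≫ 𝟙 _ = 𝟙 _ ≫ f
    rw [Category.comp_id, Category.id_comp])) (Iso.refl _) WithInitial.starInitial

/-- rows: second index -/
def eX2 : WithInitial.map (ι₁ (D₁ := D₁) (D₂ := D₂)) ⋙ π₂ ≅
    (Functor.const (WithInitial D₁)).obj (WithInitial.star : WithInitial D₂) :=
  isoOfIncl (NatIso.ofComponents (fun m => Iso.refl _) (fun {m m'} f => by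
    show 𝟙 (WithInitial.star : WithInitial D₂) ≫ 𝟙 _ = 𝟙 _ ≫ 𝟙 _
    rfl)) (Iso.refl _) WithInitial.starInitial

/-- columns: first index -/
def eC1 (m : D₁) : (κc (D₂ := D₂) m ⋙ WithInitial.incl) ⋙ π₁ ≅
    (Functor.const (WithInitial D₂)).obj (WithInitial.of m) :=
  NatIso.ofComponents (fun b => Iso.refl _) (fun {b b'} β => by
    show 𝟙 (WithInitial.of m) ≫ 𝟙 _ = 𝟙 _ ≫ 𝟙 _
    rfl)

/-- columns: second index -/
def eC2 (m : D₁) : (κc (D₂ := D₂) m ⋙ WithInitial.incl) ⋙ π₂ ≅ 𝟭 (WithInitial D₂) :=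
  NatIso.ofComponents (fun b => Iso.refl _) (fun {b b'} β => by
    show β ≫ 𝟙 _ = 𝟙 _ ≫ β
    rw [Category.comp_id, Category.id_comp])

/-- the total part and the swap: first index -/
def eW1 : WithInitial.map (ι₂ (D₁ := D₂) (D₂ := D₁)) ⋙ π₁ ≅
    WithInitial.map (CategoryTheory.Prod.swap D₂ D₁) ⋙ (WithInitial.map (ι₂ (D₁ := D₁) (D₂ := D₂)) ⋙ π₂) :=
  isoOfIncl (NatIso.ofComponents (fun p => Iso.refl _) (fun {p p'} f => by
    show (show WithInitial.of p.1 ⟶ WithInitial.of p'.1 from f.1) ≫ 𝟙 _ = 𝟙 _ ≫ _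
    rw [Category.comp_id, Category.id_comp]
    rfl)) (Iso.refl _) WithInitial.starInitial

/-- the total part and the swap: second index -/
def eW2 : WithInitial.map (ι₂ (D₁ := D₂) (D₂ := D₁)) ⋙ π₂ ≅
    WithInitial.map (CategoryTheory.Prod.swap D₂ D₁) ⋙ (WithInitial.map (ι₂ (D₁ := D₁) (D₂ := D₂)) ⋙ π₁) :=
  isoOfIncl (NatIso.ofComponents (fun p => Iso.refl _) (fun {p p'} f => by
    show (show WithInitial.of p.2 ⟶ WithInitial.of p'.2 from f.2) ≫ 𝟙 _ = 𝟙 _ ≫ _
    rw [Category.comp_id, Category.id_comp]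
    rfl)) (Iso.refl _) WithInitial.starInitial

end Idx

section Diag

variable {X Y S : TopCat.{u}} (u : X ⟶ S) (v : Y ⟶ S)

/-- the bi-indexed diagram: `(m, ⋆) ↦ X_m`, `(m, n) ↦ X_m ×_S Y_n`, `⋆ ↦ S` -/
noncomputable abbrev BW : (WithInitial (E SimplexCategory SimplexCategory))ᵒᵖ ⥤ TopCat.{u} :=
  PB u v (π₁ (D₁ := SimplexCategory) (D₂ := SimplexCategory)) π₂

/-- the rows with trivial second factor -/
noncomputable def PBX :
    PB u v (𝟭 (WithInitial SimplexCategory)) (cA WithInitial.star) ⟶ cechAug u where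
  app a := pullback.fst (bs u a.unop) (bs v WithInitial.star)
  naturality {a a'} f := PB_map_fst u v (𝟭 (WithInitial SimplexCategory)) (cA WithInitial.star) f

instance isIso_PBX : IsIso (PBX u v) := by
  haveI : ∀ a, IsIso ((PBX u v).app a) := by
    intro a
    haveI : IsIso (bs v WithInitial.star) := inferInstanceAs (IsIso (𝟙 S))
    show IsIso (pullback.fst (bs u a.unop) (bs v WithInitial.star))
    infer_instance
  exact NatIso.isIso_of_isIso_app _

/-- **the rows of `BW u v` form the augmented Cech nerve of `u`** -/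
noncomputable def rowHom : Xp (BW u v) ⟶ cechAug u :=
  (show PB u v (WithInitial.map ι₁ ⋙ π₁) (WithInitial.map ι₁ ⋙ π₂) ⟶
      PB u v (𝟭 (WithInitial SimplexCategory)) (cA WithInitial.star) from
    PBnat u v (eX1 (D₁ := SimplexCategory) (D₂ := SimplexCategory)).inv
      (eX2 (D₁ := SimplexCategory) (D₂ := SimplexCategory)).inv) ≫ PBX u v

instance isIso_rowHom : IsIso (rowHom u v) := by
  unfold rowHom
  haveI : IsIso (PBnat u v (eX1 (D₁ := SimplexCategory) (D₂ := SimplexCategory)).inv
      (eX2 (D₁ := SimplexCategory) (D₂ := SimplexCategory)).inv) := inferInstance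
  exact IsIso.comp_isIso

/-- **the columns of `BW u v` are the augmented Cech nerves of the base changes of `v`** -/
noncomputable def colHom (m : SimplexCategory) :
    cechAug (pullback.snd v (bs u (WithInitial.of m))) ⟶ Cp (BW u v) m :=
  (bcIso u v (WithInitial.of m)).hom ≫
    (show BCn u v (WithInitial.of m) ⟶
        PB u v ((κc m ⋙ WithInitial.incl) ⋙ π₁) ((κc m ⋙ WithInitial.incl) ⋙ π₂) from
      PBnat u v (eC1 (D₂ := SimplexCategory) m).hom (eC2 (D₂ := SimplexCategory) m).hom)

instance isIso_colHom (m : SimplexCategory) : IsIso (colHom u v m) := by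
  unfold colHom
  haveI : IsIso (PBnat u v (eC1 (D₂ := SimplexCategory) m).hom
      (eC2 (D₂ := SimplexCategory) m).hom) := inferInstance
  exact IsIso.comp_isIso

/-- **the total parts of `BW v u` and of `BW u v` differ by the swap** -/
noncomputable def swapHom :
    Wp (BW v u) ⟶
      (WithInitial.map (CategoryTheory.Prod.swap SimplexCategory SimplexCategory)).op ⋙
        Wp (BW u v) :=
  (show PB v u (WithInitial.map ι₂ ⋙ π₁) (WithInitial.map ι₂ ⋙ π₂) ⟶
      PB u v (WithInitial.map ι₂ ⋙ π₂) (WithInitial.map ι₂ ⋙ π₁) from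
    (PBsymm u v (WithInitial.map ι₂ ⋙ π₂) (WithInitial.map ι₂ ⋙ π₁)).hom) ≫
  (show PB u v (WithInitial.map ι₂ ⋙ π₂) (WithInitial.map ι₂ ⋙ π₁) ⟶
      PB u v
        (WithInitial.map (CategoryTheory.Prod.swap SimplexCategory SimplexCategory) ⋙
          (WithInitial.map ι₂ ⋙ π₁))
        (WithInitial.map (CategoryTheory.Prod.swap SimplexCategory SimplexCategory) ⋙
          (WithInitial.map ι₂ ⋙ π₂)) from
    PBnat u v (eW2 (D₁ := SimplexCategory) (D₂ := SimplexCategory)).inv
      (eW1 (D₁ := SimplexCategory) (D₂ := SimplexCategory)).inv)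

instance isIso_swapHom : IsIso (swapHom u v) := by
  unfold swapHom
  haveI : IsIso (PBnat u v (eW2 (D₁ := SimplexCategory) (D₂ := SimplexCategory)).inv
      (eW1 (D₁ := SimplexCategory) (D₂ := SimplexCategory)).inv) := inferInstance
  exact IsIso.comp_isIso

end Diag

end Groth.Agent.Lib.BiSpaceH7
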