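import Mathlib
import Groth.Prelude.Def_FibDesc
import Groth.Agent.Lib.FibThin2_helper7
import Groth.Agent.Lib.FibDescSide2_helper7
import Groth.Agent.Lib.CechSplit3_helper7
import Groth.Agent.Lib.LocAbs_helper7

/-!
# Localisation of an augmented diagram of spaces along an open part of the base (helper7)

`h : Y' ⟶ Y` a morphism of augmented `D`-spaces all of whose components are open embeddings with
range the preimage of an open `V` of the base.  Then restriction to `Y'` commutes with the unit
of `θ^* ⊣ θ_*` and with the higher direct images.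
APPEND-ONLY once landed.
-/

set_option autoImplicit false
set_option backward.isDefEq.respectTransparency false
set_option backward.isDefEq.respectTransparency.types false
set_option linter.style.haveILetI false
set_option linter.unusedSectionVars false

universe u

open CategoryTheory CategoryTheory.Limits Opposite Pseudofunctor Pseudofunctor.CoGrothendieck
  TopologicalSpace Topology

namespace Groth.Agent.Lib.LocConcH7

open FibDesc Groth.Agent.Lib.FibThinH7 Groth.Agent.Lib.FibDescSideH7 Groth.Agent.Lib.CechSplitH7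

section Top

variable {T' T : TopCat.{u}} {e : T' ⟶ T} (he : IsOpenEmbedding e)

theorem isIso_of_thin {C : Type*} [Category C] [Quiver.IsThin C] {a b : C} (f : a ⟶ b)
    (g : b ⟶ a) : IsIso f :=
  ⟨⟨g, Subsingleton.elim _ _, Subsingleton.elim _ _⟩⟩

include he in
theorem isIso_unit_app (W' : Opens T') : IsIso (he.isOpenMap.adjunction.unit.app W') := by
  refine isIso_of_thin _ (homOfLE ?_)
  intro z hz
  obtain ⟨w, hw, hwz⟩ := hz
  have : w = z := he.injective hwz
  exact this ▸ hw

include he in
theorem isIso_counit_app (W : Opens T) (hW : (W : Set T) ⊆ Set.range e) :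
    IsIso (he.isOpenMap.adjunction.counit.app W) := by
  refine isIso_of_thin _ (homOfLE ?_)
  intro z hz
  obtain ⟨w, rfl⟩ := hW hz
  exact ⟨w, hz, rfl⟩

end Top

variable {D : Type} [SmallCategory D] {Y Y' : (WithInitial D)ᵒᵖ ⥤ TopCat.{u}} (h : Y' ⟶ Y)
  (hopen : ∀ x, IsOpenEmbedding (h.app x))

theorem nat_apply {x y : (WithInitial D)ᵒᵖ} (a : x ⟶ y) (w : Y'.obj x) :
    h.app y (Y'.map a w) = Y.map a (h.app x w) :=
  ConcreteCategory.congr_hom (h.naturality a) w

/-- fibre functors: direct image of open sets -/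
noncomputable def o (x : (WithInitial D)ᵒᵖ) :
    (topAug Y').obj ⟨op x⟩ ⥤ (topAug Y).obj ⟨op x⟩ :=
  (hopen x).isOpenMap.functor

/-- fibre functors: inverse image of open sets -/
noncomputable def r (x : (WithInitial D)ᵒᵖ) :
    (topAug Y).obj ⟨op x⟩ ⥤ (topAug Y').obj ⟨op x⟩ :=
  Opens.map (h.app x)

/-- fibrewise adjunction -/
noncomputable def adjF (x : (WithInitial D)ᵒᵖ) : o h hopen x ⊣ r h x :=
  (hopen x).isOpenMap.adjunction

theorem laxo_le {x y : (WithInitial D)ᵒᵖ} (a : x ⟶ y) (W : Opens (Y'.obj y)) :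
    (hopen x).isOpenMap.functor.obj ((Opens.map (Y'.map a)).obj W) ≤
      (Opens.map (Y.map a)).obj ((hopen y).isOpenMap.functor.obj W) := by
  intro z hz
  obtain ⟨w, hw, rfl⟩ := hz
  exact ⟨Y'.map a w, hw, nat_apply h a w⟩

/-- lax structure of `o` -/
noncomputable def laxo {x y : (WithInitial D)ᵒᵖ} (a : x ⟶ y) (W : (topAug Y').obj ⟨op y⟩) :
    (o h hopen x).obj ((FibSite.invImage (topAug Y') a).obj W) ⟶
      (FibSite.invImage (topAug Y) a).obj ((o h hopen y).obj W) :=
  show ((hopen x).isOpenMap.functor.obj ((Opens.map (Y'.map a)).obj W) ⟶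
      (Opens.map (Y.map a)).obj ((hopen y).isOpenMap.functor.obj W)) from
    homOfLE (laxo_le h hopen a W)

theorem laxr_eq {x y : (WithInitial D)ᵒᵖ} (a : x ⟶ y) (W : Opens (Y.obj y)) :
    (Opens.map (h.app x)).obj ((Opens.map (Y.map a)).obj W) =
      (Opens.map (Y'.map a)).obj ((Opens.map (h.app y)).obj W) :=
  (map_obj_of_comp (h.app x) (Y.map a) _ rfl W).trans
    ((congrArg (fun m => (Opens.map m).obj W) (h.naturality a).symm).trans
      (map_obj_of_comp (Y'.map a) (h.app y) _ rfl W).symm)

/-- lax structure of `r` -/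
noncomputable def laxr {x y : (WithInitial D)ᵒᵖ} (a : x ⟶ y) (W : (topAug Y).obj ⟨op y⟩) :
    (r h x).obj ((FibSite.invImage (topAug Y) a).obj W) ⟶
      (FibSite.invImage (topAug Y') a).obj ((r h y).obj W) :=
  show ((Opens.map (h.app x)).obj ((Opens.map (Y.map a)).obj W) ⟶
      (Opens.map (Y'.map a)).obj ((Opens.map (h.app y)).obj W)) from
    eqToHom (laxr_eq h a W)

theorem full_le {x y : (WithInitial D)ᵒᵖ} (b : x ⟶ y) (W₁ : Opens (Y'.obj x))
    (W₂ : Opens (Y'.obj y))
    (hle : (hopen x).isOpenMap.functor.obj W₁ ≤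
      (Opens.map (Y.map b)).obj ((hopen y).isOpenMap.functor.obj W₂)) :
    W₁ ≤ (Opens.map (Y'.map b)).obj W₂ := by
  intro w hw
  obtain ⟨w₂, hw₂, e⟩ := hle ⟨w, hw, rfl⟩
  have e' : h.app y w₂ = h.app y (Y'.map b w) := e.trans (nat_apply h b w).symm
  have : w₂ = Y'.map b w := (hopen y).injective e'
  show Y'.map b w ∈ W₂
  rw [← this]
  exact hw₂


section Total

/-- `ν` on the augmented total sites -/
noncomputable abbrev νA : ∫ᶜ topAug Y' ⥤ ∫ᶜ topAug Y :=
  nuT (F := topAug Y) (F' := topAug Y') (o h hopen) (fun a W => laxo h hopen a W)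

/-- `r` on the augmented total sites -/
noncomputable abbrev rA : ∫ᶜ topAug Y ⥤ ∫ᶜ topAug Y' :=
  rT (F := topAug Y) (F' := topAug Y') (r h) (fun a W => laxr h a W)

/-- the adjunction on the augmented total sites -/
noncomputable abbrev adjA : νA h hopen ⊣ rA h :=
  mkAdj (F := topAug Y) (F' := topAug Y') (o h hopen) (r h) (fun a W => laxo h hopen a W)
    (fun a W => laxr h a W) (adjF h hopen)

/-- `ν` on the total sites of the parts -/
noncomputable abbrev νP : ∫ᶜ part (topAug Y') ⥤ ∫ᶜ part (topAug Y) :=
  nuT (F := part (topAug Y)) (F' := part (topAug Y')) (oB (o h hopen) (toAug D))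
    (fun a W => laxoB (o h hopen) (fun a W => laxo h hopen a W) (toAug D) a W)

/-- `r` on the total sites of the parts -/
noncomputable abbrev rP : ∫ᶜ part (topAug Y) ⥤ ∫ᶜ part (topAug Y') :=
  rT (F := part (topAug Y)) (F' := part (topAug Y')) (rB (r h) (toAug D))
    (fun a W => laxrB (r h) (fun a W => laxr h a W) (toAug D) a W)

/-- the adjunction on the total sites of the parts -/
noncomputable abbrev adjP : νP h hopen ⊣ rP h :=
  mkAdj (F := part (topAug Y)) (F' := part (topAug Y')) (oB (o h hopen) (toAug D))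
    (rB (r h) (toAug D))
    (fun a W => laxoB (o h hopen) (fun a W => laxo h hopen a W) (toAug D) a W)
    (fun a W => laxrB (r h) (fun a W => laxr h a W) (toAug D) a W)
    (adjB (o h hopen) (r h) (adjF h hopen) (toAug D))

theorem νA_isContinuous :
    (νA h hopen).IsContinuous (totAug (topAug Y') (topAugTop Y'))
      (totAug (topAug Y) (topAugTop Y)) :=
  isContinuous_nuT (F := topAug Y) (F' := topAug Y') (o h hopen) (fun a W => laxo h hopen a W)
    (topAugTop Y) (topAugTop Y') (isPreFibSite_topAug Y) (isPreFibSite_topAug Y')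
    (fun x => (hopen x).functor_isContinuous)

theorem rA_isContinuous :
    (rA h).IsContinuous (totAug (topAug Y) (topAugTop Y))
      (totAug (topAug Y') (topAugTop Y')) :=
  isContinuous_rT (F := topAug Y) (F' := topAug Y') (r h) (fun a W => laxr h a W)
    (topAugTop Y) (topAugTop Y') (isPreFibSite_topAug Y) (isPreFibSite_topAug Y')
    (fun x => (inferInstance : (Opens.map (h.app x)).IsContinuous
      (Opens.grothendieckTopology _) (Opens.grothendieckTopology _)))

theorem νP_isContinuous :
    (νP h hopen).IsContinuous (totPart (topAug Y') (topAugTop Y'))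
      (totPart (topAug Y) (topAugTop Y)) :=
  isContinuous_nuT (F := part (topAug Y)) (F' := part (topAug Y')) (oB (o h hopen) (toAug D))
    (fun a W => laxoB (o h hopen) (fun a W => laxo h hopen a W) (toAug D) a W)
    (partTop (topAug Y) (topAugTop Y)) (partTop (topAug Y') (topAugTop Y'))
    (isPreFibSite_baseChange _ _ _ (isPreFibSite_topAug Y))
    (isPreFibSite_baseChange _ _ _ (isPreFibSite_topAug Y'))
    (fun x => (hopen ((toAug D).obj x)).functor_isContinuous)

theorem rP_isContinuous :
    (rP h).IsContinuous (totPart (topAug Y) (topAugTop Y))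
      (totPart (topAug Y') (topAugTop Y')) :=
  isContinuous_rT (F := part (topAug Y)) (F' := part (topAug Y')) (rB (r h) (toAug D))
    (fun a W => laxrB (r h) (fun a W => laxr h a W) (toAug D) a W)
    (partTop (topAug Y) (topAugTop Y)) (partTop (topAug Y') (topAugTop Y'))
    (isPreFibSite_baseChange _ _ _ (isPreFibSite_topAug Y))
    (isPreFibSite_baseChange _ _ _ (isPreFibSite_topAug Y'))
    (fun x => (inferInstance : (Opens.map (h.app ((toAug D).obj x))).IsContinuous
      (Opens.grothendieckTopology _) (Opens.grothendieckTopology _)))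

theorem νS_isContinuous :
    (o h hopen (bot D)).IsContinuous (topAugTop Y' (bot D)) (topAugTop Y (bot D)) :=
  (hopen (bot D)).functor_isContinuous

theorem rS_isContinuous :
    (r h (bot D)).IsContinuous (topAugTop Y (bot D)) (topAugTop Y' (bot D)) :=
  (inferInstance : (Opens.map (h.app (bot D))).IsContinuous
      (Opens.grothendieckTopology _) (Opens.grothendieckTopology _))

/-- the square for `ι` -/
noncomputable def sqι : incl (topAug Y') ⋙ νA h hopen ≅ νP h hopen ⋙ incl (topAug Y) :=
  sqBase (F := topAug Y) (F' := topAug Y') (o h hopen) (fun a W => laxo h hopen a W) (toAug D)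

/-- the square for `ε` and `r` -/
noncomputable def sqr : eps (topAug Y) ⋙ rA h ≅ r h (bot D) ⋙ eps (topAug Y') :=
  ιCompRT (F := topAug Y) (F' := topAug Y') (r h) (fun a W => laxr h a W) (bot D)

instance νP_faithful : (νP h hopen).Faithful :=
  faithful_nuT (F := part (topAug Y)) (F' := part (topAug Y')) _ _

/-- auxiliary morphism for fullness -/
def fullAux {x y : (WithInitial D)ᵒᵖ} (b : x ⟶ y) (W₁ : Opens (Y'.obj x))
    (W₂ : Opens (Y'.obj y))
    (m : (hopen x).isOpenMap.functor.obj W₁ ⟶
      (Opens.map (Y.map b)).obj ((hopen y).isOpenMap.functor.obj W₂)) :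
    W₁ ⟶ (Opens.map (Y'.map b)).obj W₂ :=
  homOfLE (full_le h hopen b W₁ W₂ (leOfHom m))

theorem νP_full : (νP h hopen).Full :=
  full_nuT (F := part (topAug Y)) (F' := part (topAug Y')) (oB (o h hopen) (toAug D))
    (fun a W => laxoB (o h hopen) (fun a W => laxo h hopen a W) (toAug D) a W)
    (fun {x y} b W₁ W₂ m => fullAux h hopen ((toAug D).map b) W₁ W₂ m)

end Total


section Main

variable (V : Opens (Y.obj (bot D)))
  (hrange : ∀ (x : (WithInitial D)ᵒᵖ) (a : x ⟶ bot D),
    Set.range (h.app x) = (Y.map a) ⁻¹' (V : Set (Y.obj (bot D))))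

theorem hunit (W' : (topAug Y').obj ⟨op (bot D)⟩) :
    IsIso ((adjF h hopen (bot D)).unit.app W') :=
  isIso_unit_app (hopen (bot D)) W'

include hrange in
theorem range_of_le {x y : (WithInitial D)ᵒᵖ} (b : x ⟶ y) (W : Opens (Y.obj x))
    (W'' : Opens (Y'.obj y))
    (hle : W ≤ (Opens.map (Y.map b)).obj ((hopen y).isOpenMap.functor.obj W'')) :
    (W : Set (Y.obj x)) ⊆ Set.range (h.app x) := by
  intro w hw
  obtain ⟨w'', _, e⟩ := hle hw
  have h1 : Y.map b w ∈ Set.range (h.app y) := ⟨w'', e⟩
  rw [hrange y (botTerminal.from y)] at h1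
  rw [hrange x (b ≫ botTerminal.from y)]
  show Y.map (b ≫ botTerminal.from y) w ∈ V
  rw [Y.map_comp]
  exact h1

include hrange in
theorem SP (p : ∫ᶜ part (topAug Y)) (W' : (topAug Y').obj ⟨op (bot D)⟩)
    (hg : Nonempty ((incl (topAug Y)).obj p ⟶
      (eps (topAug Y)).obj ((o h hopen (bot D)).obj W'))) :
    IsIso ((adjP h hopen).counit.app p) := by
  obtain ⟨g⟩ := hg
  apply isIso_mkAdj_counit_app
  have hle := le_of_hom (𝒴 := Y) g
  exact isIso_counit_app (hopen ((toAug D).obj p.base)) _
    (range_of_le h hopen V hrange g.base _ W' hle)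

include hrange in
theorem hν (c : ∫ᶜ part (topAug Y)) :
    (∃ c' : ∫ᶜ part (topAug Y'), Nonempty (c ≅ (νP h hopen).obj c')) ∨
      IsEmpty (StructuredArrow c (νP h hopen)) := by
  by_cases hc : ((fibB Y (toAug D) c : Opens _) : Set _) ⊆
      Set.range (h.app ((toAug D).obj c.base))
  · left
    haveI : IsIso ((adjP h hopen).counit.app c) := by
      apply isIso_mkAdj_counit_app
      exact isIso_counit_app (hopen ((toAug D).obj c.base)) _ hc
    exact ⟨(rP h).obj c, ⟨(asIso ((adjP h hopen).counit.app c)).symm⟩⟩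
  · right
    refine ⟨fun j => hc ?_⟩
    have hle := le_of_homB (𝒴 := Y) (ψ := toAug D) j.hom
    exact range_of_le h hopen V hrange ((toAug D).map j.hom.base) _
      (fibB Y' (toAug D) j.right) hle

attribute [local instance] eps_isContinuous incl_isContinuous incl_isCocontinuous eps_flat

/-- restriction of sheaves on the base to the open part -/
noncomputable abbrev ρS : Sheaf (topAugTop Y (bot D)) AddCommGrpCat.{u} ⥤
    Sheaf (topAugTop Y' (bot D)) AddCommGrpCat.{u} :=
  haveI := νS_isContinuous h hopen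
  (o h hopen (bot D)).sheafPushforwardContinuous AddCommGrpCat.{u}
    (topAugTop Y' (bot D)) (topAugTop Y (bot D))

open Groth.Agent.Lib.FAcyc (acyc)

include hrange in
/-- **Localisation**: if `Y'` is of cohomological descent, the unit of `Y` is invertible and the
higher direct images vanish after restriction to the open part. -/
theorem loc_top (hd : IsCohDescentTop Y')
    (A : BaseSh (topAug Y) (topAugTop Y) AddCommGrpCat.{u}) :
    IsIso ((ρS h hopen).map ((adj (topAug Y) (topAugTop Y) AddCommGrpCat.{u}).unit.app A)) ∧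
      ∀ q : ℕ, 0 < q → IsZero ((ρS h hopen).obj
        (((push (topAug Y) (topAugTop Y) AddCommGrpCat.{u}).rightDerived q).obj
          ((pull (topAug Y) (topAugTop Y) AddCommGrpCat.{u}).obj A))) := by
  haveI := νS_isContinuous h hopen
  haveI := rS_isContinuous h
  haveI := νA_isContinuous h hopen
  haveI := rA_isContinuous h
  haveI := νP_isContinuous h hopen
  haveI := rP_isContinuous h
  haveI := νP_full h hopen
  obtain ⟨hU, hAc⟩ := acyc_of_isCohDescentTop Y' hd ((ρS h hopen).obj A)
  have hmono := Groth.Agent.Lib.LocToolsH7.preservesMonomorphisms_sheafPullback (νP h hopen)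
    (totPart (topAug Y') (topAugTop Y')) (totPart (topAug Y) (topAugTop Y))
    (hν h hopen V hrange)
  have key := Groth.Agent.Lib.LocAbsH7.loc_main
    (topAugTop Y (bot D)) (totAug (topAug Y) (topAugTop Y)) (totPart (topAug Y) (topAugTop Y))
    (topAugTop Y' (bot D)) (totAug (topAug Y') (topAugTop Y'))
    (totPart (topAug Y') (topAugTop Y'))
    (eps (topAug Y)) (incl (topAug Y)) (eps (topAug Y')) (incl (topAug Y'))
    (adjF h hopen (bot D)) (adjA h hopen) (adjP h hopen) (sqι h hopen) (sqr h)
    (hunit h hopen) (SP h hopen V hrange) hmono A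
  exact ⟨key.1 hU, key.2 hAc⟩

end Main

end Groth.Agent.Lib.LocConcH7
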