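import Mathlib
import Groth.Prelude.Def_FibDesc
import Groth.Agent.Lib.LocConc_helper7
import Groth.Agent.Lib.LocGlue_helper7

/-!
# Cohomological descent is invariant under isomorphisms of augmented diagrams of spaces (helper7)
APPEND-ONLY once landed.
-/

set_option autoImplicit false
set_option backward.isDefEq.respectTransparency false
set_option backward.isDefEq.respectTransparency.types false
set_option linter.style.haveILetI false
set_option linter.unusedSectionVars false

universe u

open CategoryTheory CategoryTheory.Limits Opposite TopologicalSpace Topology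

namespace Groth.Agent.Lib.DescIsoH7

open FibDesc Groth.Agent.Lib.FibDescSideH7 Groth.Agent.Lib.LocConcH7 Groth.Agent.Lib.LocGlueH7

variable {D : Type} [SmallCategory D] {Y Y' : (WithInitial D)ᵒᵖ ⥤ TopCat.{u}}

/-- **invariance under isomorphisms of diagrams** -/
theorem isCohDescentTop_of_isIso (h : Y' ⟶ Y) [IsIso h] (hd : IsCohDescentTop Y') :
    IsCohDescentTop Y := by
  have hopen : ∀ x, IsOpenEmbedding (h.app x) := fun x =>
    (TopCat.homeoOfIso (asIso (h.app x))).isOpenEmbedding
  have hsurj : ∀ x, Function.Surjective (h.app x) := fun x =>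
    (TopCat.homeoOfIso (asIso (h.app x))).surjective
  have hrange : ∀ (x : (WithInitial D)ᵒᵖ) (a : x ⟶ bot D),
      Set.range (h.app x) = (Y.map a) ⁻¹' ((⊤ : Opens (Y.obj (bot D))) : Set (Y.obj (bot D))) := by
    intro x a
    rw [Opens.coe_top, Set.preimage_univ]
    exact (hsurj x).range_eq
  apply isCohDescentTop_of_acyc Y
  intro I _
  have key := loc_top h hopen ⊤ hrange hd I
  have hcov : ∀ t : Y.obj (bot D), ∃ _ : Unit, t ∈ Set.range (h.app (bot D)) := by
    intro t
    exact ⟨(), hsurj (bot D) t⟩
  refine ⟨?_, fun q hq => ?_⟩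
  · exact isIso_of_locally (fun _ : Unit => h.app (bot D)) (fun _ => hopen (bot D)) hcov _
      (fun _ => key.1)
  · exact isZero_of_locally (fun _ : Unit => h.app (bot D)) (fun _ => hopen (bot D)) hcov _
      (fun _ => key.2 q hq)

/-- **invariance under isomorphisms of diagrams**, iso form -/
theorem isCohDescentTop_iff_of_iso (e : Y' ≅ Y) : IsCohDescentTop Y' ↔ IsCohDescentTop Y :=
  ⟨isCohDescentTop_of_isIso e.hom, isCohDescentTop_of_isIso e.inv⟩

end Groth.Agent.Lib.DescIsoH7
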