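import Mathlib
import Groth.Agent.Lib.LocAbs_helper7
import Groth.Agent.Lib.LocGlue_helper7

/-!
# Equivalent triples of sites have equivalent descent conditions (helper7)

Two triples of sites `(CS, CA, CP; ε, ι)`, `(CS', CA', CP'; ε', ι')` and equivalences of categories
`νS`, `νA`, `νP` (continuous and cocontinuous) between them, with commuting squares.  Then the descent
condition (unit invertible, acyclicity) of the primed triple at the restriction of `A` implies the
one of the unprimed triple at `A`.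
APPEND-ONLY once landed.
-/

set_option autoImplicit false
set_option backward.isDefEq.respectTransparency false
set_option backward.isDefEq.respectTransparency.types false
set_option linter.style.haveILetI false
set_option linter.unusedSectionVars false

universe u

open CategoryTheory CategoryTheory.Limits CategoryTheory.Functor Opposite

namespace Groth.Agent.Lib.EquivAbsH7

open Groth.Agent.Lib.LocAbsH7 Groth.Agent.Lib.SplitAbsH7
open Groth.Agent.Lib.FAcyc (acyc)

section Cons

variable {C' C : Type u} [SmallCategory C'] [SmallCategory C] (ν : C' ⥤ C) [ν.IsEquivalence]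
  (J' : GrothendieckTopology C') (J : GrothendieckTopology C) [ν.IsContinuous J' J]

/-- restriction along an equivalence reflects isomorphisms -/
theorem isIso_of_rho {M N : Sheaf J AddCommGrpCat.{u}} (f : M ⟶ N)
    (h : IsIso ((rho ν J' J).map f)) : IsIso f := by
  apply isIso_sheaf_hom
  intro c
  let e : ν.obj (ν.inv.obj c) ≅ c := ν.asEquivalence.counitIso.app c
  have h0 : IsIso ((rho ν J' J).map f).hom := by
    haveI := h
    exact inferInstanceAs (IsIso ((sheafToPresheaf _ _).map ((rho ν J' J).map f)))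
  have h1 : IsIso (f.hom.app (op (ν.obj (ν.inv.obj c)))) := by
    haveI := h0
    exact inferInstanceAs (IsIso (((rho ν J' J).map f).hom.app (op (ν.inv.obj c))))
  have nat : M.obj.map e.hom.op ≫ f.hom.app (op (ν.obj (ν.inv.obj c))) =
      f.hom.app (op c) ≫ N.obj.map e.hom.op := f.hom.naturality e.hom.op
  haveI : IsIso (M.obj.map e.hom.op) :=
    inferInstanceAs (IsIso (M.obj.mapIso e.op).hom)
  haveI : IsIso (N.obj.map e.hom.op) :=
    inferInstanceAs (IsIso (N.obj.mapIso e.op).hom)
  haveI := h1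
  haveI : IsIso (f.hom.app (op c) ≫ N.obj.map e.hom.op) := by
    rw [← nat]
    infer_instance
  exact IsIso.of_isIso_comp_right (f.hom.app (op c)) (N.obj.map e.hom.op)

/-- restriction along an equivalence reflects zero objects -/
theorem isZero_of_rho (M : Sheaf J AddCommGrpCat.{u}) (h : IsZero ((rho ν J' J).obj M)) :
    IsZero M := by
  apply Groth.Agent.Lib.LocGlueH7.isZero_of_sections
  intro c
  let e : ν.obj (ν.inv.obj c.unop) ≅ c.unop := ν.asEquivalence.counitIso.app c.unop
  have h1 : IsZero (M.obj.obj (op (ν.obj (ν.inv.obj c.unop)))) :=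
    Groth.Agent.Lib.LocGlueH7.isZero_sections h (op (ν.inv.obj c.unop))
  exact h1.of_iso (M.obj.mapIso e.op)

end Cons

variable {CS CA CP CS' CA' CP' : Type u} [SmallCategory CS] [SmallCategory CA] [SmallCategory CP]
  [SmallCategory CS'] [SmallCategory CA'] [SmallCategory CP']
  (JS : GrothendieckTopology CS) (JA : GrothendieckTopology CA) (JP : GrothendieckTopology CP)
  (JS' : GrothendieckTopology CS') (JA' : GrothendieckTopology CA')
  (JP' : GrothendieckTopology CP')
  (ε : CS ⥤ CA) (ι : CP ⥤ CA) (ε' : CS' ⥤ CA') (ι' : CP' ⥤ CA')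
  [ε.IsContinuous JS JA] [ι.IsContinuous JP JA] [ι.IsCocontinuous JP JA]
  [ε'.IsContinuous JS' JA'] [ι'.IsContinuous JP' JA'] [ι'.IsCocontinuous JP' JA']
  (νS : CS' ⥤ CS) (νA : CA' ⥤ CA) (νP : CP' ⥤ CP)
  [νS.IsEquivalence] [νA.IsEquivalence] [νP.IsEquivalence]
  [νS.IsContinuous JS' JS] [νS.IsCocontinuous JS' JS]
  [νA.IsContinuous JA' JA] [νA.IsCocontinuous JA' JA]
  [νP.IsContinuous JP' JP] [νP.IsCocontinuous JP' JP]
  (sqε : ε' ⋙ νA ≅ νS ⋙ ε) (sqι : ι' ⋙ νA ≅ νP ⋙ ι)

/-- the square for the inverses -/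
noncomputable def sqr : ε ⋙ νA.inv ≅ νS.inv ⋙ ε' :=
  (Functor.leftUnitor _).symm ≪≫
    isoWhiskerRight νS.asEquivalence.counitIso.symm (ε ⋙ νA.inv) ≪≫
    Functor.associator _ _ _ ≪≫
    isoWhiskerLeft νS.inv ((Functor.associator _ _ _).symm ≪≫
      isoWhiskerRight sqε.symm νA.inv ≪≫ Functor.associator _ _ _ ≪≫
      isoWhiskerLeft ε' νA.asEquivalence.unitIso.symm ≪≫ Functor.rightUnitor _)

include sqε sqι in
/-- **equivalent triples**: descent of the primed triple gives descent of the unprimed one -/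
theorem equiv_main (A : Sheaf JS AddCommGrpCat.{u})
    (h1 : IsIso ((adj' JS' JA' JP' ε' ι').unit.app ((rho νS JS' JS).obj A)))
    (h2 : acyc (push' JS' JA' JP' ε' ι')
      ((pull' JS' JA' JP' ε' ι').obj ((rho νS JS' JS).obj A))) :
    IsIso ((adj' JS JA JP ε ι).unit.app A) ∧
      acyc (push' JS JA JP ε ι) ((pull' JS JA JP ε ι).obj A) := by
  let adjS : νS ⊣ νS.inv := νS.asEquivalence.toAdjunction
  let adjA : νA ⊣ νA.inv := νA.asEquivalence.toAdjunction
  let adjP : νP ⊣ νP.inv := νP.asEquivalence.toAdjunction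
  haveI : (νS.inv).IsContinuous JS JS' := adjS.isContinuous_of_isCocontinuous JS' JS
  haveI : (νA.inv).IsContinuous JA JA' := adjA.isContinuous_of_isCocontinuous JA' JA
  haveI : (νP.inv).IsContinuous JP JP' := adjP.isContinuous_of_isCocontinuous JP' JP
  have hunit : ∀ W' : CS', IsIso (adjS.unit.app W') := by
    intro W'
    exact inferInstanceAs (IsIso (νS.asEquivalence.unitIso.hom.app W'))
  have SP : ∀ (p : CP) (W' : CS'), Nonempty (ι.obj p ⟶ ε.obj (νS.obj W')) →
      IsIso (adjP.counit.app p) := by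
    intro p W' _
    exact inferInstanceAs (IsIso (νP.asEquivalence.counitIso.hom.app p))
  have hmono : (νP.sheafPullback AddCommGrpCat.{u} JP' JP).PreservesMonomorphisms :=
    Groth.Agent.Lib.LocToolsH7.preservesMonomorphisms_sheafPullback νP JP' JP
      (fun c => Or.inl ⟨νP.inv.obj c, ⟨(νP.asEquivalence.counitIso.app c).symm⟩⟩)
  have key := loc_main JS JA JP JS' JA' JP' ε ι ε' ι' adjS adjA adjP sqι
    (sqr ε ε' νS νA sqε) hunit SP hmono A
  refine ⟨isIso_of_rho νS JS' JS _ (key.1 h1), fun q hq => ?_⟩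
  exact isZero_of_rho νS JS' JS _ (key.2 h2 q hq)

end Groth.Agent.Lib.EquivAbsH7
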