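import Mathlib
import Groth.Prelude.Def_FibDesc
import Groth.Agent.Lib.BiIdx_helper7
import Groth.Agent.Lib.EquivAbs_helper7

/-!
# Cohomological descent is invariant under reindexing along an equivalence (helper7)

`σ : D' ⥤ D` an equivalence of (small) index categories and `Y` an augmented `D`-space.  Then `Y` is of
cohomological descent as soon as the reindexed augmented `D'`-space is.
APPEND-ONLY once landed.
-/

set_option autoImplicit false
set_option backward.isDefEq.respectTransparency false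
set_option backward.isDefEq.respectTransparency.types false
set_option linter.style.haveILetI false
set_option linter.unusedSectionVars false
set_option linter.unusedVariables false

universe v₂' u₂' v₂ u₂ v₁' u₁' v₁ u₁ u

open CategoryTheory CategoryTheory.Limits Opposite Pseudofunctor Pseudofunctor.CoGrothendieck
  TopologicalSpace

namespace Groth.Agent.Lib.DescReidxH7

open FibDesc Groth.Agent.Lib.FibThinH7 Groth.Agent.Lib.FibDescSideH7 Groth.Agent.Lib.CechSplitH7
  Groth.Agent.Lib.BiIdxH7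

section Gen

variable {𝒮 : Type u₁} [Category.{v₁} 𝒮] {F : Pseudofunctor (LocallyDiscrete 𝒮ᵒᵖ) Cat.{v₂, u₂}}
  {𝒮' : Type u₁'} [Category.{v₁'} 𝒮']
  {F' : Pseudofunctor (LocallyDiscrete 𝒮'ᵒᵖ) Cat.{v₂', u₂'}} [ThinFib F] [ThinFib F']
  (ψ : 𝒮' ⥤ 𝒮) (o : ∀ x : 𝒮', F'.obj ⟨op x⟩ ⥤ F.obj ⟨op (ψ.obj x)⟩)
  (lax : ∀ {x y : 𝒮'} (a : x ⟶ y) (W : F'.obj ⟨op y⟩),
    (o x).obj ((FibSite.invImage F' a).obj W) ⟶ (FibSite.invImage F (ψ.map a)).obj ((o y).obj W))

theorem faithful_mkFunctor [ψ.Faithful] : (mkFunctor ψ o lax).Faithful where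
  map_injective {X X'} f g hfg := by
    apply FibThinH7.hom_ext_thin
    apply ψ.map_injective
    have h := congrArg
      (fun m : (mkFunctor ψ o lax).obj X ⟶ (mkFunctor ψ o lax).obj X' => m.base) hfg
    exact h

theorem full_mkFunctor [ψ.Full]
    (hfull : ∀ {x y : 𝒮'} (b : x ⟶ y) (W₁ : F'.obj ⟨op x⟩) (W₂ : F'.obj ⟨op y⟩),
      ((o x).obj W₁ ⟶ (FibSite.invImage F (ψ.map b)).obj ((o y).obj W₂)) →
        (W₁ ⟶ (FibSite.invImage F' b).obj W₂)) : (mkFunctor ψ o lax).Full where
  map_surjective {X X'} m := by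
    have e : ψ.map (ψ.preimage m.base) = m.base := ψ.map_preimage m.base
    have t : (FibSite.invImage F m.base).obj ((o X'.base).obj X'.fiber) =
        (FibSite.invImage F (ψ.map (ψ.preimage m.base))).obj ((o X'.base).obj X'.fiber) := by
      rw [e]
    exact ⟨⟨ψ.preimage m.base, hfull _ X.fiber X'.fiber (m.fiber ≫ eqToHom t)⟩,
      FibThinH7.hom_ext_thin _ _ e⟩

end Gen

section WI

variable {D D' : Type} [SmallCategory D] [SmallCategory D'] (σ : D' ⥤ D)

instance faithful_map [σ.Faithful] : (WithInitial.map σ).Faithful where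
  map_injective {X Y} f g h := by
    match X, Y, f, g, h with
    | WithInitial.of x, WithInitial.of y, f, g, h => exact σ.map_injective h
    | WithInitial.star, WithInitial.of y, _, _, _ => exact Subsingleton.elim _ _
    | WithInitial.star, WithInitial.star, _, _, _ => exact Subsingleton.elim _ _
    | WithInitial.of x, WithInitial.star, f, _, _ => exact (f : PEmpty).elim

instance full_map [σ.Full] : (WithInitial.map σ).Full where
  map_surjective {X Y} g := by
    match X, Y, g with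
    | WithInitial.of x, WithInitial.of y, g =>
      exact ⟨σ.preimage (show σ.obj x ⟶ σ.obj y from g), σ.map_preimage _⟩
    | WithInitial.star, WithInitial.of y, _ =>
      exact ⟨PUnit.unit, WithInitial.starInitial.hom_ext _ _⟩
    | WithInitial.star, WithInitial.star, _ =>
      exact ⟨PUnit.unit, WithInitial.starInitial.hom_ext _ _⟩
    | WithInitial.of x, WithInitial.star, g => exact (g : PEmpty).elim

instance essSurj_map [σ.EssSurj] : (WithInitial.map σ).EssSurj where
  mem_essImage Y := by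
    match Y with
    | WithInitial.of y =>
      exact ⟨WithInitial.of (σ.objPreimage y),
        ⟨WithInitial.incl.mapIso (σ.objObjPreimageIso y)⟩⟩
    | WithInitial.star => exact ⟨WithInitial.star, ⟨Iso.refl _⟩⟩

end WI

section Conc

variable {D D' : Type} [SmallCategory D] [SmallCategory D'] (σ : D' ⥤ D)
  (Y : (WithInitial D)ᵒᵖ ⥤ TopCat.{u})

/-- the reindexed diagram -/
abbrev Yσ : (WithInitial D')ᵒᵖ ⥤ TopCat.{u} := (WithInitial.map σ).op ⋙ Y

/-- the functor between the augmented total sites -/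
noncomputable def rA : ∫ᶜ topAug (Yσ σ Y) ⥤ ∫ᶜ topAug Y :=
  mkFunctor (F' := topAug (Yσ σ Y)) (F := topAug Y) (WithInitial.map σ).op
    (fun x => 𝟭 (Opens (Y.obj ((WithInitial.map σ).op.obj x))))
    (fun {x y} a W => 𝟙 _)

/-- the functor between the total sites of the parts -/
noncomputable def rP : ∫ᶜ part (topAug (Yσ σ Y)) ⥤ ∫ᶜ part (topAug Y) :=
  mkFunctor (F' := part (topAug (Yσ σ Y))) (F := part (topAug Y)) σ.op
    (fun x => 𝟭 (Opens (Y.obj (op (WithInitial.of (σ.obj x.unop))))))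
    (fun {x y} a W => 𝟙 _)

/-- the functor between the base sites (the identity) -/
noncomputable def rS : (topAug (Yσ σ Y)).obj ⟨op (bot D')⟩ ⥤ (topAug Y).obj ⟨op (bot D)⟩ :=
  𝟭 (Opens (Y.obj (op WithInitial.star)))

instance rS_isEquivalence : (rS σ Y).IsEquivalence :=
  inferInstanceAs (𝟭 (Opens (Y.obj (op WithInitial.star)))).IsEquivalence

instance rS_isContinuous : (rS σ Y).IsContinuous (JS (Yσ σ Y)) (JS Y) :=
  id_isContinuous (Y.obj (op WithInitial.star))

instance rS_isCocontinuous : (rS σ Y).IsCocontinuous (JS (Yσ σ Y)) (JS Y) :=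
  id_isCocontinuous (Y.obj (op WithInitial.star))

instance rA_isContinuous : (rA σ Y).IsContinuous (JA (Yσ σ Y)) (JA Y) :=
  isContinuous_mkFunctor (F' := topAug (Yσ σ Y)) (F := topAug Y) (WithInitial.map σ).op _ _
    (topAugTop Y) (topAugTop (Yσ σ Y))
    (isPreFibSite_topAug Y) (isPreFibSite_topAug (Yσ σ Y)) (fun _ => id_isContinuous _)

instance rA_isCocontinuous : (rA σ Y).IsCocontinuous (JA (Yσ σ Y)) (JA Y) :=
  isCocontinuous_mkFunctor (F' := topAug (Yσ σ Y)) (F := topAug Y) (WithInitial.map σ).op _ _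
    (topAugTop Y) (topAugTop (Yσ σ Y))
    (isPreFibSite_topAug Y) (isPreFibSite_topAug (Yσ σ Y)) (fun _ => id_isCocontinuous _)

instance rP_isContinuous : (rP σ Y).IsContinuous (JP (Yσ σ Y)) (JP Y) :=
  isContinuous_mkFunctor (F' := part (topAug (Yσ σ Y))) (F := part (topAug Y)) σ.op _ _
    (partTop (topAug Y) (topAugTop Y)) (partTop (topAug (Yσ σ Y)) (topAugTop (Yσ σ Y)))
    (isPreFibSite_part Y) (isPreFibSite_part (Yσ σ Y)) (fun _ => id_isContinuous _)

instance rP_isCocontinuous : (rP σ Y).IsCocontinuous (JP (Yσ σ Y)) (JP Y) :=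
  isCocontinuous_mkFunctor (F' := part (topAug (Yσ σ Y))) (F := part (topAug Y)) σ.op _ _
    (partTop (topAug Y) (topAugTop Y)) (partTop (topAug (Yσ σ Y)) (topAugTop (Yσ σ Y)))
    (isPreFibSite_part Y) (isPreFibSite_part (Yσ σ Y)) (fun _ => id_isCocontinuous _)

/-- the square for `ε` -/
noncomputable def sqε : eps (topAug (Yσ σ Y)) ⋙ rA σ Y ≅ rS σ Y ⋙ eps (topAug Y) :=
  NatIso.ofComponents (fun V => Iso.refl _) (fun {V V'} r => FibThinH7.hom_ext_thin _ _ (by
    show (WithInitial.map σ).op.map (𝟙 _) ≫ 𝟙 _ = 𝟙 _ ≫ 𝟙 _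
    rw [CategoryTheory.Functor.map_id]))

/-- the square for `ι` -/
noncomputable def sqι : incl (topAug (Yσ σ Y)) ⋙ rA σ Y ≅ rP σ Y ⋙ incl (topAug Y) :=
  NatIso.ofComponents (fun X => Iso.refl _) (fun {X X'} f => FibThinH7.hom_ext_thin _ _ (by
    show (WithInitial.map σ).op.map ((toAug D').map f.base) ≫ 𝟙 _ =
      𝟙 _ ≫ (toAug D).map (σ.op.map f.base)
    rw [Category.comp_id, Category.id_comp]
    rfl))

instance rA_faithful [σ.Faithful] : (rA σ Y).Faithful :=
  faithful_mkFunctor (F' := topAug (Yσ σ Y)) (F := topAug Y) (WithInitial.map σ).op _ _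

instance rP_faithful [σ.Faithful] : (rP σ Y).Faithful :=
  faithful_mkFunctor (F' := part (topAug (Yσ σ Y))) (F := part (topAug Y)) σ.op _ _

instance rA_full [σ.Full] : (rA σ Y).Full :=
  full_mkFunctor (F' := topAug (Yσ σ Y)) (F := topAug Y) (WithInitial.map σ).op _ _
    (fun {x y} b W₁ W₂ m => m)

instance rP_full [σ.Full] : (rP σ Y).Full :=
  full_mkFunctor (F' := part (topAug (Yσ σ Y))) (F := part (topAug Y)) σ.op _ _
    (fun {x y} b W₁ W₂ m => m)

theorem opens_roundtrip {A B : TopCat.{u}} (f : A ⟶ B) (g : B ⟶ A) (h : g ≫ f = 𝟙 B)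
    (U : Opens B) : U ≤ (Opens.map g).obj ((Opens.map f).obj U) := by
  rw [map_obj_of_comp g f (𝟙 B) h U]
  exact le_of_eq (Opens.map_id_obj U).symm

theorem essSurj_rA [σ.EssSurj] : (rA σ Y).EssSurj where
  mem_essImage X := by
    let α : (WithInitial.map σ).op.obj ((WithInitial.map σ).op.objPreimage X.base) ≅ X.base :=
      (WithInitial.map σ).op.objObjPreimageIso X.base
    let X' : ∫ᶜ topAug (Yσ σ Y) := ⟨(WithInitial.map σ).op.objPreimage X.base,
      (Opens.map (Y.map α.hom)).obj (fib (𝒴 := Y) X)⟩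
    have hαY : Y.map α.inv ≫ Y.map α.hom = 𝟙 _ := by
      rw [← Y.map_comp, α.inv_hom_id, Y.map_id]
    refine ⟨X', ⟨⟨homMk (𝒴 := Y) (X := (rA σ Y).obj X') (X' := X) α.hom le_rfl,
      homMk (𝒴 := Y) (X := X) (X' := (rA σ Y).obj X') α.inv
        (opens_roundtrip (Y.map α.hom) (Y.map α.inv) hαY _), ?_, ?_⟩⟩⟩
    · exact FibThinH7.hom_ext_thin _ _ α.hom_inv_id
    · exact FibThinH7.hom_ext_thin _ _ α.inv_hom_id

theorem essSurj_rP [σ.EssSurj] : (rP σ Y).EssSurj where
  mem_essImage X := by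
    let α : σ.op.obj (σ.op.objPreimage X.base) ≅ X.base := σ.op.objObjPreimageIso X.base
    let X' : ∫ᶜ part (topAug (Yσ σ Y)) := ⟨σ.op.objPreimage X.base,
      (Opens.map (Y.map ((toAug D).map α.hom))).obj (fibB Y (toAug D) X)⟩
    have hαY : Y.map ((toAug D).map α.inv) ≫ Y.map ((toAug D).map α.hom) = 𝟙 _ := by
      rw [← Y.map_comp, ← (toAug D).map_comp, α.inv_hom_id, (toAug D).map_id, Y.map_id]
    refine ⟨X', ⟨⟨homMkB (𝒴 := Y) (ψ := toAug D) (X := (rP σ Y).obj X') (X' := X) α.hom le_rfl,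
      homMkB (𝒴 := Y) (ψ := toAug D) (X := X) (X' := (rP σ Y).obj X') α.inv
        (opens_roundtrip (Y.map ((toAug D).map α.hom)) (Y.map ((toAug D).map α.inv)) hαY _),
        ?_, ?_⟩⟩⟩
    · exact FibThinH7.hom_ext_thin _ _ α.hom_inv_id
    · exact FibThinH7.hom_ext_thin _ _ α.inv_hom_id

instance rA_isEquivalence [σ.IsEquivalence] : (rA σ Y).IsEquivalence :=
  haveI := essSurj_rA σ Y
  {}

instance rP_isEquivalence [σ.IsEquivalence] : (rP σ Y).IsEquivalence :=
  haveI := essSurj_rP σ Y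
  {}

attribute [local instance] eps_isContinuous incl_isContinuous incl_isCocontinuous eps_flat

open Groth.Agent.Lib.LocAbsH7 in
/-- **invariance under reindexing**: if the reindexed diagram is of cohomological descent, so is
the original one -/
theorem isCohDescentTop_of_reindex [σ.IsEquivalence] (hd : IsCohDescentTop (Yσ σ Y)) :
    IsCohDescentTop Y := by
  apply isCohDescentTop_of_acyc Y
  intro I _
  obtain ⟨h1, h2⟩ := acyc_of_isCohDescentTop (Yσ σ Y) hd
    ((rho (rS σ Y) (JS (Yσ σ Y)) (JS Y)).obj I)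
  exact Groth.Agent.Lib.EquivAbsH7.equiv_main (JS Y) (JA Y) (JP Y) (JS (Yσ σ Y)) (JA (Yσ σ Y))
    (JP (Yσ σ Y)) (eps (topAug Y)) (incl (topAug Y)) (eps (topAug (Yσ σ Y)))
    (incl (topAug (Yσ σ Y))) (rS σ Y) (rA σ Y) (rP σ Y) (sqε σ Y) (sqι σ Y) I h1 h2

end Conc

end Groth.Agent.Lib.DescReidxH7
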