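import Mathlib
import Groth.Prelude.Def_FibDesc
import Groth.Agent.Lib.BiSpace2_helper7
import Groth.Agent.Lib.BiHalf_helper7
import Groth.Agent.Lib.DescIso_helper7
import Groth.Agent.Lib.DescReidx_helper7

/-!
# Cohomological descent and base change along a universal cohomological descent map (helper7)

`v : Y ⟶ S` universally of cohomological descent, `u : X ⟶ S` of cohomological descent after base
change to all `Y_n`; then `u` is of cohomological descent.
APPEND-ONLY once landed.
-/

set_option autoImplicit false
set_option backward.isDefEq.respectTransparency false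
set_option backward.isDefEq.respectTransparency.types false
set_option linter.style.haveILetI false
set_option linter.unusedSectionVars false
set_option linter.unusedVariables false

universe u

open CategoryTheory CategoryTheory.Limits Opposite

namespace Groth.Agent.Lib.BiMainH7

open FibDesc Groth.Agent.Lib.CechSplitH7 Groth.Agent.Lib.BiIdxH7 Groth.Agent.Lib.BiSpaceH7
  Groth.Agent.Lib.DescIsoH7 Groth.Agent.Lib.DescReidxH7 Groth.Agent.Lib.BiHalfH7

/-- cohomological descent of a map is invariant under isomorphisms of arrows -/
theorem isCohDescentMap_of_arrowIso {X S X' S' : TopCat.{u}} {f : X ⟶ S} {f' : X' ⟶ S'}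
    (e : Arrow.mk f ≅ Arrow.mk f') (h : IsCohDescentMap f) : IsCohDescentMap f' :=
  isCohDescentTop_of_isIso
    (AugmentedSimplexCategory.equivAugmentedSimplicialObject.inverse.mapIso
      (SimplicialObject.augmentedCechNerve.mapIso e)).hom h

/-- a universal cohomological descent map is a cohomological descent map -/
theorem isCohDescentMap_of_univ {Y S : TopCat.{u}} {v : Y ⟶ S} (hv : IsUnivCohDescentMap v) :
    IsCohDescentMap v := by
  have h := hv S (𝟙 S)
  refine isCohDescentMap_of_arrowIso (Arrow.isoMk (asIso (pullback.fst v (𝟙 S))) (Iso.refl S) ?_) h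
  show pullback.fst v (𝟙 S) ≫ v = pullback.snd v (𝟙 S) ≫ 𝟙 S
  exact pullback.condition

variable {X Y S : TopCat.{u}} (u : X ⟶ S) (v : Y ⟶ S)

/-- **S13524**: `v` universally of cohomological descent, `u` of cohomological descent after base
change to the `Y_n`; then `u` is of cohomological descent -/
theorem isCohDescentMap_of_baseChange_cech (hv : IsUnivCohDescentMap v)
    (h : ∀ n : ℕ, IsCohDescentMap
      (pullback.snd u (WidePullback.base (fun _ : Fin (n + 1) => v) :
        widePullback S (fun _ : Fin (n + 1) => Y) (fun _ => v) ⟶ S))) :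
    IsCohDescentMap u := by
  -- columns of `BW u v`
  have hcol_uv : ∀ m : SimplexCategory, IsCohDescentTop (Cp (BW u v) m) := fun m =>
    isCohDescentTop_of_isIso (colHom u v m) (hv _ (bs u (WithInitial.of m)))
  -- columns of `BW v u`
  have hcol_vu : ∀ n : SimplexCategory, IsCohDescentTop (Cp (BW v u) n) := fun n =>
    isCohDescentTop_of_isIso (colHom v u n) (h n.len)
  -- rows of `BW v u`
  have hX_vu : IsCohDescentTop (Xp (BW v u)) :=
    isCohDescentTop_of_isIso (inv (rowHom v u)) (isCohDescentMap_of_univ hv)
  have hW_vu : IsCohDescentTop (Wp (BW v u)) := (half (BW v u) hcol_vu).1 hX_vu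
  have hW_sw : IsCohDescentTop
      (Yσ (CategoryTheory.Prod.swap SimplexCategory SimplexCategory) (Wp (BW u v))) :=
    isCohDescentTop_of_isIso (swapHom u v) hW_vu
  have hW_uv : IsCohDescentTop (Wp (BW u v)) :=
    isCohDescentTop_of_reindex (CategoryTheory.Prod.swap SimplexCategory SimplexCategory) _ hW_sw
  have hX_uv : IsCohDescentTop (Xp (BW u v)) := (half (BW u v) hcol_uv).2 hW_uv
  exact isCohDescentTop_of_isIso (rowHom u v) hX_uv

end Groth.Agent.Lib.BiMainH7
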