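import Mathlib
import Groth.Prelude.Def_W4bk4grassmannianPl

/-!
# The Plücker quadrics cut out the Grassmannian set-theoretically
-/

set_option autoImplicit false

universe u

namespace Groth.Agent.PluckerQuad

open W4bk4grassmannian MvPolynomial Function

section Sign

variable {d n : ℕ}

/-- The number of inversions as a power of `-1`. -/
lemma sign_eq_of_comp {a : Fin d → Fin n} (ha : Injective a) (emb : Fin d → Fin n)
    (hemb : StrictMono emb) (σ : Equiv.Perm (Fin d)) (hσ : ∀ t, emb (σ t) = a t) :
    Equiv.Perm.sign σ = (-1 : ℤˣ) ^ invCount d n a := by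
  rw [Equiv.Perm.sign_eq_prod_prod_Iio]
  have h1 : ∀ j : Fin d, ∏ i ∈ Finset.Iio j, (if σ i < σ j then (1 : ℤˣ) else -1) =
      ∏ i : Fin d, (if i < j ∧ a j < a i then (-1 : ℤˣ) else 1) := by
    intro j
    have hIio : Finset.Iio j = Finset.univ.filter (fun i => i < j) := by
      ext i
      simp
    rw [hIio, Finset.prod_filter]
    apply Finset.prod_congr rfl
    intro i _
    by_cases hij : i < j
    · have hne : a i ≠ a j := fun h => hij.ne (ha h)
      have hiff : σ i < σ j ↔ a i < a j := by
        rw [← hσ i, ← hσ j]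
        exact hemb.lt_iff_lt.symm
      by_cases haij : a i < a j
      · rw [if_pos hij, if_pos (hiff.2 haij), if_neg]
        rintro ⟨-, h⟩
        exact lt_asymm h haij
      · have : a j < a i := lt_of_le_of_ne (not_lt.1 haij) (Ne.symm hne)
        rw [if_pos hij, if_neg (fun h => haij (hiff.1 h)), if_pos ⟨hij, this⟩]
    · rw [if_neg hij, if_neg]
      rintro ⟨h, -⟩
      exact hij h
  simp_rw [h1]
  rw [← Fintype.prod_prod_type_right' (f := fun i j : Fin d =>
    (if i < j ∧ a j < a i then (-1 : ℤˣ) else 1))]
  rw [Finset.prod_ite, Finset.prod_const_one, mul_one, Finset.prod_const]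
  rfl

variable {K : Type u} [CommRing K]

/-- Sorting the rows changes the determinant by the sign `(-1)^inversions`. -/
lemma det_submatrix_eq_sort (A : Matrix (Fin n) (Fin d) K) (a : Fin d → Fin n)
    (h : (Finset.univ.image a).card = d) :
    (A.submatrix a id).det =
      (-1 : K) ^ invCount d n a * (A.submatrix (sortIdx d n a h).1 id).det := by
  have ha : Injective a := by
    have h' : (Finset.univ.image a).card = (Finset.univ : Finset (Fin d)).card := by
      rw [h, Finset.card_univ, Fintype.card_fin]
    intro x y hxy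
    exact Finset.card_image_iff.1 h' (Finset.mem_coe.2 (Finset.mem_univ x))
      (Finset.mem_coe.2 (Finset.mem_univ y)) hxy
  let emb : Fin d → Fin n := (sortIdx d n a h).1
  have hemb : StrictMono emb := (sortIdx d n a h).2
  have hex : ∀ t, ∃ u, emb u = a t := by
    intro t
    have hmem : a t ∈ Finset.univ.image a := Finset.mem_image_of_mem a (Finset.mem_univ t)
    have hr := Finset.range_orderEmbOfFin (Finset.univ.image a) h
    have : a t ∈ Set.range ((Finset.univ.image a).orderEmbOfFin h) := by
      rw [hr]
      exact hmem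
    obtain ⟨u, hu⟩ := this
    exact ⟨u, hu⟩
  choose σf hσf using hex
  have hσinj : Injective σf := by
    intro x y hxy
    apply ha
    rw [← hσf x, ← hσf y, hxy]
  let σ : Equiv.Perm (Fin d) := Equiv.ofBijective σf hσinj.bijective_of_finite
  have hsub : A.submatrix a id = (A.submatrix emb id).submatrix σ id := by
    ext t c
    simp only [Matrix.submatrix_apply, id_eq]
    rw [← hσf t]
    rfl
  rw [hsub, Matrix.det_permute, sign_eq_of_comp ha emb hemb σ hσf]
  simp only [Units.val_pow_eq_pow_val, Units.val_neg, Units.val_one, Int.cast_pow, Int.cast_neg,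
    Int.cast_one]
  rfl

end Sign


section Eval

variable {K : Type u} [CommRing K] {d n : ℕ}

/-- Evaluation of the signed Plücker coordinate of an arbitrary tuple. -/
noncomputable def E (q : Idx d n → K) (a : Fin d → Fin n) : K :=
  MvPolynomial.eval q (coord K d n a)

lemma E_pos (q : Idx d n → K) (a : Fin d → Fin n) (h : (Finset.univ.image a).card = d) :
    E q a = (-1 : K) ^ invCount d n a * q (sortIdx d n a h) := by
  unfold E coord
  rw [dif_pos h]
  simp

lemma E_neg (q : Idx d n → K) (a : Fin d → Fin n) (h : ¬ (Finset.univ.image a).card = d) :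
    E q a = 0 := by
  unfold E coord
  rw [dif_neg h]
  simp

lemma E_minors (A : Matrix (Fin n) (Fin d) K) (a : Fin d → Fin n) :
    E (fun θ : Idx d n => (A.submatrix θ.1 id).det) a = (A.submatrix a id).det := by
  by_cases h : (Finset.univ.image a).card = d
  · rw [E_pos _ _ h, det_submatrix_eq_sort A a h]
  · rw [E_neg _ _ h]
    have hinj : ¬ Injective a := by
      intro hinj
      apply h
      rw [Finset.card_image_of_injective _ hinj, Finset.card_univ, Fintype.card_fin]
    obtain ⟨s, t, hst, hne⟩ := Function.not_injective_iff.1 hinj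
    symm
    apply Matrix.det_zero_of_row_eq hne
    funext c
    simp only [Matrix.submatrix_apply, hst]

lemma eval_quadric {e : ℕ} (q : Idx (e + 1) n → K) (i' : Idx e n) (j' : Idx (e + 2) n) :
    MvPolynomial.eval q (quadric K i' j') =
      ∑ h : Fin (e + 2), (-1 : K) ^ (h.val + 1) * E q (Fin.snoc i'.1 (j'.1 h)) *
        E q (j'.1 ∘ h.succAbove) := by
  unfold quadric E
  simp only [map_sum, map_mul, map_pow, map_neg, map_one]

/-- The Plücker relation for the minors of a matrix. -/
lemma plucker_minors {e : ℕ} (A : Matrix (Fin n) (Fin (e + 1)) K) (i' : Fin e → Fin n)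
    (j' : Fin (e + 2) → Fin n) :
    ∑ h : Fin (e + 2), (-1 : K) ^ (h.val + 1) * (A.submatrix (Fin.snoc i' (j' h)) id).det *
      (A.submatrix (j' ∘ h.succAbove) id).det = 0 := by
  -- expand the first factor along the last row
  have h1 : ∀ h : Fin (e + 2), (A.submatrix (Fin.snoc i' (j' h)) id).det =
      ∑ c : Fin (e + 1), (-1 : K) ^ (e + c.val) * A (j' h) c *
        (A.submatrix i' c.succAbove).det := by
    intro h
    rw [Matrix.det_succ_row _ (Fin.last e)]
    apply Finset.sum_congr rfl
    intro c _
    have hm : (A.submatrix (Fin.snoc i' (j' h)) id).submatrix (Fin.last e).succAbove c.succAbove =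
        A.submatrix i' c.succAbove := by
      ext s t
      simp only [Matrix.submatrix_apply, id_eq, Fin.succAbove_last, Fin.snoc_castSucc]
    rw [hm]
    simp only [Matrix.submatrix_apply, id_eq, Fin.snoc_last, Fin.val_last]
  -- the determinant with a repeated column
  have h2 : ∀ c : Fin (e + 1), ∑ h : Fin (e + 2), (-1 : K) ^ h.val * A (j' h) c *
      (A.submatrix (j' ∘ h.succAbove) id).det = 0 := by
    intro c
    let N : Matrix (Fin (e + 2)) (Fin (e + 2)) K :=
      Matrix.of fun h => (Fin.cons (A (j' h) c) (A (j' h)) : Fin (e + 2) → K)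
    have hN : N.det = 0 := by
      apply Matrix.det_zero_of_column_eq (i := 0) (j := c.succ) (Fin.succ_ne_zero c).symm
      intro h
      simp only [N, Matrix.of_apply, Fin.cons_zero, Fin.cons_succ]
    rw [Matrix.det_succ_column_zero] at hN
    rw [← hN]
    apply Finset.sum_congr rfl
    intro h _
    have hm : N.submatrix h.succAbove Fin.succ = A.submatrix (j' ∘ h.succAbove) id := by
      ext s t
      simp only [N, Matrix.submatrix_apply, Matrix.of_apply, Fin.cons_succ, Function.comp_apply,
        id_eq]
    rw [hm]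
    simp only [N, Matrix.of_apply, Fin.cons_zero]
  calc ∑ h : Fin (e + 2), (-1 : K) ^ (h.val + 1) * (A.submatrix (Fin.snoc i' (j' h)) id).det *
      (A.submatrix (j' ∘ h.succAbove) id).det
      = ∑ c : Fin (e + 1), (-(-1 : K) ^ (e + c.val) * (A.submatrix i' c.succAbove).det) *
          ∑ h : Fin (e + 2), (-1 : K) ^ h.val * A (j' h) c *
            (A.submatrix (j' ∘ h.succAbove) id).det := by
        simp_rw [h1, Finset.mul_sum, Finset.sum_mul]
        rw [Finset.sum_comm]
        apply Finset.sum_congr rfl
        intro c _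
        apply Finset.sum_congr rfl
        intro h _
        rw [pow_succ]
        ring
    _ = 0 := by
        apply Finset.sum_eq_zero
        intro c _
        rw [h2 c, mul_zero]

end Eval


section Rows

variable {K : Type u} [CommRing K] {d n : ℕ}

lemma quadric_vanish_of_minors {e : ℕ} (A : Matrix (Fin n) (Fin (e + 1)) K)
    (q : Idx (e + 1) n → K) (hq : ∀ θ : Idx (e + 1) n, q θ = (A.submatrix θ.1 id).det)
    (i' : Idx e n) (j' : Idx (e + 2) n) : MvPolynomial.eval q (quadric K i' j') = 0 := by
  have hq' : q = fun θ : Idx (e + 1) n => (A.submatrix θ.1 id).det := funext hq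
  rw [hq', eval_quadric]
  simp_rw [E_minors]
  exact plucker_minors A i'.1 j'.1

/-- The set of rows of an index. -/
def rows (θ : Idx d n) : Finset (Fin n) := Finset.univ.image θ.1

lemma card_rows (θ : Idx d n) : (rows θ).card = d := by
  unfold rows
  rw [Finset.card_image_of_injective _ θ.2.injective, Finset.card_univ, Fintype.card_fin]

lemma eq_orderEmb (θ : Idx d n) {S : Finset (Fin n)} (hS : S.card = d) (h : rows θ = S) :
    θ.1 = ⇑(S.orderEmbOfFin hS) := by
  apply Finset.orderEmbOfFin_unique hS _ θ.2
  intro x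
  rw [← h]
  exact Finset.mem_image_of_mem _ (Finset.mem_univ x)

lemma rows_injective {θ θ' : Idx d n} (h : rows θ = rows θ') : θ = θ' := by
  apply Subtype.ext
  rw [eq_orderEmb θ (card_rows θ') h, eq_orderEmb θ' (card_rows θ') rfl]

/-- The index with a given set of rows. -/
def idxOf (S : Finset (Fin n)) (hS : S.card = d) : Idx d n :=
  ⟨S.orderEmbOfFin hS, (S.orderEmbOfFin hS).strictMono⟩

lemma rows_idxOf (S : Finset (Fin n)) (hS : S.card = d) : rows (idxOf S hS) = S :=
  Finset.image_orderEmbOfFin_univ S hS

lemma sortIdx_eq (a : Fin d → Fin n) (h : (Finset.univ.image a).card = d) (θ : Idx d n)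
    (hθ : rows θ = Finset.univ.image a) : sortIdx d n a h = θ := by
  apply Subtype.ext
  rw [eq_orderEmb θ h hθ]
  rfl

lemma E_of_rows (q : Idx d n → K) (a : Fin d → Fin n) (θ : Idx d n)
    (hθ : rows θ = Finset.univ.image a) : E q a = (-1 : K) ^ invCount d n a * q θ := by
  have h : (Finset.univ.image a).card = d := by rw [← hθ, card_rows]
  rw [E_pos q a h, sortIdx_eq a h θ hθ]

lemma invCount_strictMono (a : Fin d → Fin n) (ha : StrictMono a) : invCount d n a = 0 := by
  unfold invCount
  rw [Finset.card_eq_zero, Finset.filter_eq_empty_iff]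
  rintro p - ⟨h1, h2⟩
  exact lt_asymm (ha h1) h2

lemma E_strictMono (q : Idx d n → K) (a : Fin d → Fin n) (ha : StrictMono a) :
    E q a = q ⟨a, ha⟩ := by
  rw [E_of_rows q a ⟨a, ha⟩ rfl, invCount_strictMono a ha, pow_zero, one_mul]

/-- If `q` and `q'` agree on the index with rows `image a` (if any), then `E q a = E q' a`. -/
lemma E_congr (q q' : Idx d n → K) (a : Fin d → Fin n)
    (h : ∀ θ : Idx d n, rows θ = Finset.univ.image a → q θ = q' θ) : E q a = E q' a := by
  by_cases hc : (Finset.univ.image a).card = d
  · have hθ : rows (idxOf _ hc) = Finset.univ.image a := rows_idxOf _ hc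
    rw [E_of_rows q a _ hθ, E_of_rows q' a _ hθ, h _ hθ]
  · rw [E_neg q a hc, E_neg q' a hc]

lemma image_snoc {e : ℕ} (i' : Fin e → Fin n) (y : Fin n) :
    Finset.univ.image (Fin.snoc i' y : Fin (e + 1) → Fin n) =
      insert y (Finset.univ.image i') := by
  ext x
  simp only [Finset.mem_image, Finset.mem_univ, true_and, Finset.mem_insert]
  constructor
  · rintro ⟨t, rfl⟩
    refine Fin.lastCases ?_ (fun s => ?_) t
    · left
      simp
    · right
      exact ⟨s, by simp⟩
  · rintro (rfl | ⟨s, rfl⟩)
    · exact ⟨Fin.last e, by simp⟩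
    · exact ⟨s.castSucc, by simp⟩

lemma image_comp_succAbove {m : ℕ} (j' : Fin (m + 1) → Fin n) (hj : Injective j')
    (h : Fin (m + 1)) :
    Finset.univ.image (j' ∘ h.succAbove) = (Finset.univ.image j').erase (j' h) := by
  ext x
  simp only [Finset.mem_image, Finset.mem_univ, true_and, Finset.mem_erase, Function.comp_apply]
  constructor
  · rintro ⟨t, rfl⟩
    exact ⟨fun hh => Fin.succAbove_ne h t (hj hh), ⟨_, rfl⟩⟩
  · rintro ⟨hne, t, rfl⟩
    have hth : t ≠ h := fun hh => hne (by rw [hh])
    obtain ⟨s, rfl⟩ := Fin.exists_succAbove_eq hth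
    exact ⟨s, rfl⟩

end Rows


section Unique

variable {K : Type u} [Field K] {n e : ℕ}

/-- Two solutions of the Plücker quadrics which agree at a non-vanishing coordinate `θ₀` and at all
its neighbours are equal. -/
theorem unique_of_neighbors (q q' : Idx (e + 1) n → K)
    (hq : ∀ (i' : Idx e n) (j' : Idx (e + 2) n), MvPolynomial.eval q (quadric K i' j') = 0)
    (hq' : ∀ (i' : Idx e n) (j' : Idx (e + 2) n), MvPolynomial.eval q' (quadric K i' j') = 0)
    (θ₀ : Idx (e + 1) n) (h0 : q θ₀ ≠ 0)
    (hN : ∀ θ : Idx (e + 1) n, (rows θ \ rows θ₀).card ≤ 1 → q θ = q' θ) :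
    ∀ θ, q θ = q' θ := by
  have key : ∀ k : ℕ, ∀ θ : Idx (e + 1) n, (rows θ \ rows θ₀).card = k → q θ = q' θ := by
    intro k
    induction k using Nat.strong_induction_on with
    | _ k ih =>
      intro θ hk
      by_cases hk1 : k ≤ 1
      · exact hN θ (hk ▸ hk1)
      · have hne : (rows θ \ rows θ₀).Nonempty := Finset.card_pos.1 (by omega)
        obtain ⟨x, hx⟩ := hne
        have hx' := Finset.mem_sdiff.1 hx
        have hSi : ((rows θ).erase x).card = e := by
          rw [Finset.card_erase_of_mem hx'.1, card_rows]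
          rfl
        have hSj : (insert x (rows θ₀)).card = e + 2 := by
          rw [Finset.card_insert_of_notMem hx'.2, card_rows]
        let i' : Idx e n := idxOf _ hSi
        let j' : Idx (e + 2) n := idxOf _ hSj
        have hi' : Finset.univ.image i'.1 = (rows θ).erase x := rows_idxOf _ hSi
        have hj' : Finset.univ.image j'.1 = insert x (rows θ₀) := rows_idxOf _ hSj
        have hjinj : Injective j'.1 := j'.2.injective
        obtain ⟨hpos, hhx⟩ : ∃ h, j'.1 h = x := by
          have : x ∈ Finset.univ.image j'.1 := by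
            rw [hj']
            exact Finset.mem_insert_self _ _
          obtain ⟨h, -, hh⟩ := Finset.mem_image.1 this
          exact ⟨h, hh⟩
        have e1 := hq i' j'
        have e2 := hq' i' j'
        rw [eval_quadric] at e1 e2
        have hterm : ∀ h : Fin (e + 2), h ≠ hpos →
            (-1 : K) ^ (h.val + 1) * E q (Fin.snoc i'.1 (j'.1 h)) * E q (j'.1 ∘ h.succAbove) =
            (-1 : K) ^ (h.val + 1) * E q' (Fin.snoc i'.1 (j'.1 h)) *
              E q' (j'.1 ∘ h.succAbove) := by
          intro h hh
          have hy : j'.1 h ∈ rows θ₀ := by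
            have : j'.1 h ∈ insert x (rows θ₀) := by
              rw [← hj']
              exact Finset.mem_image_of_mem _ (Finset.mem_univ _)
            rcases Finset.mem_insert.1 this with h1 | h1
            · exact absurd (hjinj (h1.trans hhx.symm)) hh
            · exact h1
          have hA : E q (Fin.snoc i'.1 (j'.1 h)) = E q' (Fin.snoc i'.1 (j'.1 h)) := by
            apply E_congr
            intro θ' hθ'
            rw [image_snoc, hi'] at hθ'
            have hsub : rows θ' \ rows θ₀ ⊆ (rows θ \ rows θ₀).erase x := by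
              intro z hz
              rw [Finset.mem_sdiff, hθ', Finset.mem_insert, Finset.mem_erase] at hz
              rcases hz with ⟨hz1 | ⟨hzx, hzθ⟩, hz2⟩
              · exact absurd (hz1 ▸ hy) hz2
              · exact Finset.mem_erase.2 ⟨hzx, Finset.mem_sdiff.2 ⟨hzθ, hz2⟩⟩
            have hlt : (rows θ' \ rows θ₀).card < k := by
              calc (rows θ' \ rows θ₀).card ≤ ((rows θ \ rows θ₀).erase x).card :=
                    Finset.card_le_card hsub
                _ = k - 1 := by rw [Finset.card_erase_of_mem hx, hk]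
                _ < k := by omega
            exact ih _ hlt θ' rfl
          have hB : E q (j'.1 ∘ h.succAbove) = E q' (j'.1 ∘ h.succAbove) := by
            apply E_congr
            intro θ' hθ'
            rw [image_comp_succAbove j'.1 hjinj h, hj'] at hθ'
            apply hN
            have hsub : rows θ' \ rows θ₀ ⊆ {x} := by
              intro z hz
              rw [Finset.mem_sdiff, hθ', Finset.mem_erase, Finset.mem_insert] at hz
              rcases hz with ⟨⟨_, hz1 | hz1⟩, hz2⟩
              · exact Finset.mem_singleton.2 hz1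
              · exact absurd hz1 hz2
            exact (Finset.card_le_card hsub).trans (by simp)
          rw [hA, hB]
        have hsum : (-1 : K) ^ (hpos.val + 1) * E q (Fin.snoc i'.1 (j'.1 hpos)) *
              E q (j'.1 ∘ hpos.succAbove) =
            (-1 : K) ^ (hpos.val + 1) * E q' (Fin.snoc i'.1 (j'.1 hpos)) *
              E q' (j'.1 ∘ hpos.succAbove) := by
          have h12 := e1.trans e2.symm
          rw [← Finset.add_sum_erase _ _ (Finset.mem_univ hpos),
            ← Finset.add_sum_erase _ _ (Finset.mem_univ hpos)] at h12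
          have hrest : ∑ h ∈ Finset.univ.erase hpos, (-1 : K) ^ (h.val + 1) *
                E q (Fin.snoc i'.1 (j'.1 h)) * E q (j'.1 ∘ h.succAbove) =
              ∑ h ∈ Finset.univ.erase hpos, (-1 : K) ^ (h.val + 1) *
                E q' (Fin.snoc i'.1 (j'.1 h)) * E q' (j'.1 ∘ h.succAbove) :=
            Finset.sum_congr rfl (fun h hh => hterm h (Finset.ne_of_mem_erase hh))
          rw [hrest] at h12
          exact add_right_cancel h12
        have hθrows : rows θ = Finset.univ.image (Fin.snoc i'.1 x : Fin (e + 1) → Fin n) := by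
          rw [image_snoc, hi', Finset.insert_erase hx'.1]
        have hθ₀rows : rows θ₀ = Finset.univ.image (j'.1 ∘ hpos.succAbove) := by
          rw [image_comp_succAbove j'.1 hjinj, hj', hhx, Finset.erase_insert hx'.2]
        rw [hhx, E_of_rows q _ θ hθrows, E_of_rows q' _ θ hθrows, E_of_rows q _ θ₀ hθ₀rows,
          E_of_rows q' _ θ₀ hθ₀rows] at hsum
        have h00 : q' θ₀ = q θ₀ := (hN θ₀ (by simp)).symm
        rw [h00] at hsum
        have hunit : ∀ m : ℕ, ((-1 : K) ^ m) ≠ 0 := fun m =>
          pow_ne_zero _ (neg_ne_zero.2 one_ne_zero)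
        set c1 := (-1 : K) ^ (hpos.val + 1)
        set c2 := (-1 : K) ^ invCount (e + 1) n (Fin.snoc i'.1 x)
        set c3 := (-1 : K) ^ invCount (e + 1) n (j'.1 ∘ hpos.succAbove)
        have hc : c1 * c2 * c3 * q θ₀ ≠ 0 :=
          mul_ne_zero (mul_ne_zero (mul_ne_zero (hunit _) (hunit _)) (hunit _)) h0
        have hfin : (c1 * c2 * c3 * q θ₀) * q θ = (c1 * c2 * c3 * q θ₀) * q' θ := by
          linear_combination hsum
        exact mul_left_cancel₀ hc hfin
  intro θ
  exact key _ θ rfl

end Unique


section Construct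

variable {K : Type u} [Field K] {n e : ℕ}

lemma injective_of_card_image {d : ℕ} {a : Fin d → Fin n}
    (h : (Finset.univ.image a).card = d) : Injective a := by
  have h' : (Finset.univ.image a).card = (Finset.univ : Finset (Fin d)).card := by
    rw [h, Finset.card_univ, Fintype.card_fin]
  intro x y hxy
  exact Finset.card_image_iff.1 h' (Finset.mem_coe.2 (Finset.mem_univ x))
    (Finset.mem_coe.2 (Finset.mem_univ y)) hxy

lemma image_update {d : ℕ} (f : Fin d → Fin n) (hf : Injective f) (c : Fin d) (r : Fin n) :
    Finset.univ.image (Function.update f c r) = insert r ((Finset.univ.image f).erase (f c)) := by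
  ext z
  simp only [Finset.mem_image, Finset.mem_univ, true_and, Finset.mem_insert, Finset.mem_erase]
  constructor
  · rintro ⟨t, rfl⟩
    by_cases htc : t = c
    · left
      rw [htc, Function.update_self]
    · right
      rw [Function.update_of_ne htc]
      exact ⟨fun h => htc (hf h), t, rfl⟩
  · rintro (rfl | ⟨hne, t, rfl⟩)
    · exact ⟨c, Function.update_self _ _ _⟩
    · have htc : t ≠ c := fun h => hne (by rw [h])
      exact ⟨t, Function.update_of_ne htc _ _⟩

/-- Determinant of a diagonal matrix with one row replaced. -/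
lemma det_updateRow_diagonal {m : Type*} [Fintype m] [DecidableEq m] (D v : m → K) (c : m) :
    ((Matrix.diagonal D).updateRow c v).det = (∏ j ∈ Finset.univ.erase c, D j) * v c := by
  rw [← Matrix.cramer_transpose_apply, Matrix.diagonal_transpose, Matrix.cramer_eq_adjugate_mulVec,
    Matrix.adjugate_diagonal, Matrix.mulVec_diagonal]

variable (q : Idx (e + 1) n → K) (θ₀ : Idx (e + 1) n)

/-- The scaling of the columns. -/
noncomputable def scal : Fin (e + 1) → K := fun c => if c = 0 then 1 else q θ₀

/-- The matrix whose minors are `q`. -/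
noncomputable def matA : Matrix (Fin n) (Fin (e + 1)) K :=
  Matrix.of fun r c => E q (Function.update θ₀.1 c r) / scal q θ₀ c

/-- The diagonal entries of the block of `matA` on the rows `θ₀`. -/
noncomputable def diagD : Fin (e + 1) → K := fun c => q θ₀ / scal q θ₀ c

variable {q θ₀}

lemma scal_ne_zero (h0 : q θ₀ ≠ 0) (c : Fin (e + 1)) : scal q θ₀ c ≠ 0 := by
  unfold scal
  split_ifs
  · exact one_ne_zero
  · exact h0

lemma prod_diagD (h0 : q θ₀ ≠ 0) : ∏ c, diagD q θ₀ c = q θ₀ := by
  rw [Fin.prod_univ_succ]
  have h1 : diagD q θ₀ 0 = q θ₀ := by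
    unfold diagD scal
    rw [if_pos rfl, div_one]
  have h2 : ∀ c : Fin e, diagD q θ₀ c.succ = 1 := by
    intro c
    unfold diagD scal
    rw [if_neg (Fin.succ_ne_zero c), div_self h0]
  rw [h1]
  simp only [h2, Finset.prod_const_one, mul_one]

lemma prod_erase_diagD (h0 : q θ₀ ≠ 0) (c : Fin (e + 1)) :
    ∏ j ∈ Finset.univ.erase c, diagD q θ₀ j = scal q θ₀ c := by
  have h1 : (∏ j ∈ Finset.univ.erase c, diagD q θ₀ j) * diagD q θ₀ c = q θ₀ := by
    rw [Finset.prod_erase_mul _ _ (Finset.mem_univ c), prod_diagD h0]
  have hs := scal_ne_zero h0 c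
  have h3 : diagD q θ₀ c = q θ₀ / scal q θ₀ c := rfl
  rw [h3, ← mul_div_assoc, div_eq_iff hs] at h1
  exact mul_right_cancel₀ h0 (h1.trans (mul_comm _ _))

lemma submatrix_matA_base :
    (matA q θ₀).submatrix θ₀.1 id = Matrix.diagonal (diagD q θ₀) := by
  ext s c
  simp only [Matrix.submatrix_apply, id_eq, matA, Matrix.of_apply, Matrix.diagonal_apply, diagD]
  by_cases hsc : s = c
  · rw [if_pos hsc, hsc, Function.update_eq_self, E_strictMono q θ₀.1 θ₀.2]
  · rw [if_neg hsc]
    have hnot : ¬ (Finset.univ.image (Function.update θ₀.1 c (θ₀.1 s))).card = e + 1 := by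
      intro hcard
      have hinj := injective_of_card_image hcard
      apply hsc
      apply hinj
      rw [Function.update_self, Function.update_of_ne hsc]
    rw [E_neg q _ hnot, zero_div]

lemma det_matA_update (h0 : q θ₀ ≠ 0) (c : Fin (e + 1)) (r : Fin n) :
    ((matA q θ₀).submatrix (Function.update θ₀.1 c r) id).det =
      E q (Function.update θ₀.1 c r) := by
  have hsub : (matA q θ₀).submatrix (Function.update θ₀.1 c r) id =
      ((matA q θ₀).submatrix θ₀.1 id).updateRow c (matA q θ₀ r) := by
    ext s t
    rw [Matrix.updateRow_apply]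
    simp only [Matrix.submatrix_apply, id_eq, Function.update_apply]
    split_ifs <;> rfl
  rw [hsub, submatrix_matA_base, det_updateRow_diagonal, prod_erase_diagD h0]
  simp only [matA, Matrix.of_apply]
  rw [mul_div_cancel₀ _ (scal_ne_zero h0 c)]

lemma det_matA_base (h0 : q θ₀ ≠ 0) : ((matA q θ₀).submatrix θ₀.1 id).det = q θ₀ := by
  rw [submatrix_matA_base, Matrix.det_diagonal, prod_diagD h0]

/-- `q` agrees with the minors of `matA` at the neighbours of `θ₀`. -/
lemma matA_neighbors (h0 : q θ₀ ≠ 0) (θ : Idx (e + 1) n) (hθ : (rows θ \ rows θ₀).card ≤ 1) :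
    q θ = ((matA q θ₀).submatrix θ.1 id).det := by
  rcases Nat.lt_or_ge (rows θ \ rows θ₀).card 1 with hlt | hge
  · -- `θ = θ₀`
    have hsub : rows θ ⊆ rows θ₀ := by
      rw [← Finset.sdiff_eq_empty_iff_subset, ← Finset.card_eq_zero]
      omega
    have heq : rows θ = rows θ₀ :=
      Finset.eq_of_subset_of_card_le hsub (by rw [card_rows, card_rows])
    rw [rows_injective heq, det_matA_base h0]
  · have hone : (rows θ \ rows θ₀).card = 1 := le_antisymm hθ hge
    have hone' : (rows θ₀ \ rows θ).card = 1 :=
      (Finset.card_sdiff_comm (by rw [card_rows, card_rows])).trans hone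
    obtain ⟨r, hr⟩ := Finset.card_eq_one.1 hone
    obtain ⟨y, hy⟩ := Finset.card_eq_one.1 hone'
    have hymem : y ∈ rows θ₀ \ rows θ := by rw [hy]; exact Finset.mem_singleton_self y
    have hrmem : r ∈ rows θ \ rows θ₀ := by rw [hr]; exact Finset.mem_singleton_self r
    rw [Finset.mem_sdiff] at hymem hrmem
    obtain ⟨c, -, hc⟩ := Finset.mem_image.1 hymem.1
    have himg : rows θ = Finset.univ.image (Function.update θ₀.1 c r) := by
      rw [image_update θ₀.1 θ₀.2.injective, hc]
      ext z
      rw [Finset.mem_insert, Finset.mem_erase]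
      constructor
      · intro hz
        by_cases hz0 : z ∈ rows θ₀
        · right
          refine ⟨?_, hz0⟩
          rintro rfl
          exact hymem.2 hz
        · left
          have : z ∈ rows θ \ rows θ₀ := Finset.mem_sdiff.2 ⟨hz, hz0⟩
          rw [hr] at this
          exact Finset.mem_singleton.1 this
      · rintro (rfl | ⟨hzy, hz0⟩)
        · exact hrmem.1
        · by_contra hz
          have : z ∈ rows θ₀ \ rows θ := Finset.mem_sdiff.2 ⟨hz0, hz⟩
          rw [hy] at this
          exact hzy (Finset.mem_singleton.1 this)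
    have h1 := E_of_rows q (Function.update θ₀.1 c r) θ himg
    have h2 := E_of_rows (fun θ : Idx (e + 1) n => ((matA q θ₀).submatrix θ.1 id).det)
      (Function.update θ₀.1 c r) θ himg
    rw [E_minors, det_matA_update h0, h1] at h2
    have hunit : ((-1 : K) ^ invCount (e + 1) n (Function.update θ₀.1 c r)) ≠ 0 :=
      pow_ne_zero _ (neg_ne_zero.2 one_ne_zero)
    exact mul_left_cancel₀ hunit h2

/-- The main theorem. -/
theorem main (q : Idx (e + 1) n → K) (hq : q ≠ 0) :
    (∀ (i' : Idx e n) (j' : Idx (e + 2) n), MvPolynomial.eval q (quadric K i' j') = 0) ↔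
      ∃ A : Matrix (Fin n) (Fin (e + 1)) K,
        ∀ θ : Idx (e + 1) n, q θ = (A.submatrix θ.1 id).det := by
  constructor
  · intro h
    obtain ⟨θ₀, h0⟩ := Function.ne_iff.1 hq
    have h0' : q θ₀ ≠ 0 := h0
    refine ⟨matA q θ₀, ?_⟩
    exact unique_of_neighbors q (fun θ => ((matA q θ₀).submatrix θ.1 id).det) h
      (fun i' j' => quadric_vanish_of_minors (matA q θ₀) _ (fun _ => rfl) i' j') θ₀ h0'
      (fun θ hθ => matA_neighbors h0' θ hθ)
  · rintro ⟨A, hA⟩ i' j'
    exact quadric_vanish_of_minors A q hA i' j'

end Construct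

end Groth.Agent.PluckerQuad
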