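import Mathlib
import Groth.Prelude.Def_W4bk4grassmannianPl
import Groth.Prelude.Def_CAlgX
import Groth.Agent.Lib.PluckerQuad_helper9

/-!
# Plücker coordinates on the opposite big cell and determinantal ideals
-/

set_option autoImplicit false

universe u

namespace Groth.Agent.CellMinor9

open W4bk4grassmannian MvPolynomial Function Finset

lemma card_filter_succAbove {k : ℕ} (P : Fin (k + 1) → Prop) [DecidablePred P] (i0 : Fin (k + 1)) :
    (univ.filter P).card =
      (if P i0 then 1 else 0) + (univ.filter fun i' : Fin k => P (i0.succAbove i')).card := by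
  rw [Finset.card_filter, Finset.card_filter, Fin.sum_univ_succAbove _ i0]

variable (K : Type u) [CommRing K] (d r : ℕ)

theorem det_mem_minorIdeal (t : ℕ) : ∀ (k : ℕ) (ρ : Fin k → Fin (d + r)) (γ : Fin k → Fin d),
    t ≤ (univ.filter fun i : Fin k => d ≤ (ρ i).val).card →
    ((cellMatrix K d r).submatrix ρ γ).det ∈ CAlgX.minorIdeal (genMatrix K r d) t := by
  intro k
  induction k with
  | zero =>
    intro ρ γ ht
    have ht0 : t = 0 := by
      have : (univ.filter fun i : Fin 0 => d ≤ (ρ i).val).card = 0 := by
        rw [Finset.card_eq_zero, Finset.filter_eq_empty_iff]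
        intro x
        exact x.elim0
      omega
    subst ht0
    rw [Matrix.det_isEmpty]
    unfold CAlgX.minorIdeal
    apply Ideal.subset_span
    exact ⟨(fun i => i.elim0, fun i => i.elim0), Matrix.det_isEmpty⟩
  | succ k ih =>
    intro ρ γ ht
    have hstep : ∀ i0 : Fin (k + 1),
        t ≤ (univ.filter fun i' : Fin k => d ≤ (ρ (i0.succAbove i')).val).card →
        ((cellMatrix K d r).submatrix ρ γ).det ∈ CAlgX.minorIdeal (genMatrix K r d) t := by
      intro i0 h0
      rw [Matrix.det_succ_row _ i0]
      apply Ideal.sum_mem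
      intro j _
      apply Ideal.mul_mem_left
      rw [Matrix.submatrix_submatrix]
      exact ih (ρ ∘ i0.succAbove) (γ ∘ j.succAbove) h0
    by_cases hall : ∀ i, d ≤ (ρ i).val
    · by_cases htk : t = k + 1
      · subst htk
        unfold CAlgX.minorIdeal
        apply Ideal.subset_span
        refine ⟨(fun i => ⟨(ρ i).val - d, by have := (ρ i).isLt; have := hall i; omega⟩, γ), ?_⟩
        show Matrix.det _ = Matrix.det _
        congr 1
        ext i j
        simp only [Matrix.submatrix_apply, cellMatrix, genMatrix, Matrix.of_apply]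
        rw [dif_neg (not_lt.2 (hall i))]
      · apply hstep 0
        have hc : (univ.filter fun i' : Fin k =>
            d ≤ (ρ ((0 : Fin (k + 1)).succAbove i')).val).card = k := by
          rw [Finset.filter_true_of_mem (fun i' _ => hall _), Finset.card_univ, Fintype.card_fin]
        have hle : (univ.filter fun i : Fin (k + 1) => d ≤ (ρ i).val).card ≤ k + 1 := by
          calc _ ≤ (univ : Finset (Fin (k + 1))).card := Finset.card_filter_le _ _
            _ = k + 1 := by rw [Finset.card_univ, Fintype.card_fin]
        omega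
    · push Not at hall
      obtain ⟨i0, hi0⟩ := hall
      apply hstep i0
      rw [card_filter_succAbove _ i0, if_neg (not_le.2 hi0), zero_add] at ht
      exact ht

theorem cellMinor_mem (hd : 0 < d) (t : ℕ) (ht : 0 < t) (htd : t ≤ d) (θ : Idx d (d + r))
    (hθ : d ≤ (θ.1 ⟨d - t, Nat.sub_lt hd ht⟩).val) :
    cellMinor K d r θ ∈ CAlgX.minorIdeal (genMatrix K r d) t := by
  unfold cellMinor
  apply det_mem_minorIdeal K d r t d θ.1 id
  have hsub : Finset.Ici (⟨d - t, Nat.sub_lt hd ht⟩ : Fin d) ⊆
      univ.filter fun i : Fin d => d ≤ (θ.1 i).val := by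
    intro i hi
    rw [Finset.mem_Ici] at hi
    rw [Finset.mem_filter]
    refine ⟨Finset.mem_univ _, le_trans hθ ?_⟩
    exact Fin.le_def.1 (θ.2.monotone hi)
  have hc := Finset.card_le_card hsub
  rw [Fin.card_Ici] at hc
  simp only at hc
  omega

theorem minor_mem (hd : 0 < d) (t : ℕ) (ht : 0 < t) (htd : t ≤ d) (f : Fin t → Fin r)
    (g : Fin t → Fin d) :
    ((genMatrix K r d).submatrix f g).det ∈ Ideal.span {q : CellRing K d r | ∃ θ : Idx d (d + r),
        d ≤ (θ.1 ⟨d - t, Nat.sub_lt hd ht⟩).val ∧ q = cellMinor K d r θ} := by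
  classical
  by_cases hf : Injective f
  swap
  · obtain ⟨a, b, hab, hne⟩ := Function.not_injective_iff.1 hf
    rw [Matrix.det_zero_of_row_eq hne]
    · exact Ideal.zero_mem _
    · funext c
      simp only [Matrix.submatrix_apply, hab]
  by_cases hg : Injective g
  swap
  · obtain ⟨a, b, hab, hne⟩ := Function.not_injective_iff.1 hg
    rw [Matrix.det_zero_of_column_eq hne]
    · exact Ideal.zero_mem _
    · intro c
      simp only [Matrix.submatrix_apply, hab]
  let p : Fin d → Prop := fun j => ∃ i, g i = j
  have hbound : ∀ j : Fin d, (if h : ∃ i, g i = j then d + (f h.choose).val else j.val) < d + r := by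
    intro j
    split_ifs with h
    · have := (f h.choose).isLt
      omega
    · have := j.isLt
      omega
  let ρ : Fin d → Fin (d + r) := fun j =>
    ⟨if h : ∃ i, g i = j then d + (f h.choose).val else j.val, hbound j⟩
  have hval1 : ∀ i, (ρ (g i)).val = d + (f i).val := by
    intro i
    have h : ∃ i', g i' = g i := ⟨i, rfl⟩
    have hc : h.choose = i := hg h.choose_spec
    show (if h : ∃ i', g i' = g i then d + (f h.choose).val else (g i).val) = _
    rw [dif_pos h, hc]
  have hval2 : ∀ j, ¬ p j → (ρ j).val = j.val := by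
    intro j hj
    show (if h : ∃ i', g i' = j then d + (f h.choose).val else j.val) = _
    rw [dif_neg hj]
  have hρinj : Injective ρ := by
    intro j j' hjj
    have hv : (ρ j).val = (ρ j').val := by rw [hjj]
    by_cases hj : p j
    · obtain ⟨i, rfl⟩ := hj
      by_cases hj' : p j'
      · obtain ⟨i', rfl⟩ := hj'
        rw [hval1, hval1] at hv
        have : f i = f i' := Fin.ext (by omega)
        rw [hf this]
      · rw [hval1, hval2 _ hj'] at hv
        have := j'.isLt
        omega
    · by_cases hj' : p j'
      · obtain ⟨i', rfl⟩ := hj'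
        rw [hval2 _ hj, hval1] at hv
        have := j.isLt
        omega
      · rw [hval2 _ hj, hval2 _ hj'] at hv
        exact Fin.ext hv
  let N : Matrix (Fin d) (Fin d) (CellRing K d r) := (cellMatrix K d r).submatrix ρ id
  have hN1 : ∀ i c, N (g i) c = X (f i, c) := by
    intro i c
    simp only [N, Matrix.submatrix_apply, cellMatrix, Matrix.of_apply, id_eq]
    have h1 : ¬ (ρ (g i)).val < d := by rw [hval1]; omega
    rw [dif_neg h1]
    congr 2
    apply Fin.ext
    show (ρ (g i)).val - d = (f i).val
    rw [hval1]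
    omega
  have hN2 : ∀ j, ¬ p j → ∀ c, N j c = if j = c then 1 else 0 := by
    intro j hj c
    simp only [N, Matrix.submatrix_apply, cellMatrix, Matrix.of_apply, id_eq]
    have h1 : (ρ j).val < d := by rw [hval2 _ hj]; exact j.isLt
    rw [dif_pos h1, hval2 _ hj]
    by_cases hjc : j = c
    · rw [if_pos hjc, if_pos (by rw [hjc])]
    · rw [if_neg hjc, if_neg (fun h => hjc (Fin.ext h))]
  have hdet : N.det = ((genMatrix K r d).submatrix f g).det := by
    rw [Matrix.twoBlockTriangular_det N p]
    · have h2 : Matrix.toSquareBlockProp N (fun i => ¬ p i) = 1 := by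
        ext ⟨a, ha⟩ ⟨b, hb⟩
        rw [Matrix.toSquareBlockProp_def, Matrix.of_apply, hN2 a ha b, Matrix.one_apply]
        simp only [Subtype.mk.injEq]
      rw [h2, Matrix.det_one, mul_one]
      let e : Fin t ≃ {j // p j} := Equiv.ofBijective (fun i => ⟨g i, i, rfl⟩)
        ⟨fun a b hab => hg (Subtype.mk.inj hab), fun ⟨j, i, hi⟩ => ⟨i, Subtype.ext hi⟩⟩
      rw [← Matrix.det_submatrix_equiv_self e]
      congr 1
      apply Matrix.ext
      intro i i'
      simp only [Matrix.submatrix_apply, Matrix.toSquareBlockProp_def, Matrix.of_apply, genMatrix]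
      exact hN1 i (g i')
    · intro i hi j hj
      rw [hN2 i hi j, if_neg]
      rintro rfl
      exact hi hj
  have hcard : (Finset.univ.image ρ).card = d := by
    rw [Finset.card_image_of_injective _ hρinj, Finset.card_univ, Fintype.card_fin]
  let θ : Idx d (d + r) := sortIdx d (d + r) ρ hcard
  have hrows : Finset.univ.image θ.1 = Finset.univ.image ρ :=
    Finset.image_orderEmbOfFin_univ _ hcard
  have hcount : (univ.filter fun s : Fin d => d ≤ (θ.1 s).val).card = t := by
    have e1 : (univ.filter fun s : Fin d => d ≤ (θ.1 s).val).card =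
        ((Finset.univ.image θ.1).filter fun x : Fin (d + r) => d ≤ x.val).card := by
      rw [Finset.filter_image, Finset.card_image_of_injective _ θ.2.injective]
    have e2 : (univ.filter fun s : Fin d => d ≤ (ρ s).val).card =
        ((Finset.univ.image ρ).filter fun x : Fin (d + r) => d ≤ x.val).card := by
      rw [Finset.filter_image, Finset.card_image_of_injective _ hρinj]
    have e3 : (univ.filter fun s : Fin d => d ≤ (ρ s).val) = Finset.univ.image g := by
      ext j
      simp only [Finset.mem_filter, Finset.mem_univ, true_and, Finset.mem_image]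
      constructor
      · intro hj
        by_contra hnp
        have : ¬ p j := hnp
        rw [hval2 _ this] at hj
        have := j.isLt
        omega
      · rintro ⟨i, rfl⟩
        rw [hval1]
        omega
    rw [e1, hrows, ← e2, e3, Finset.card_image_of_injective _ hg, Finset.card_univ,
      Fintype.card_fin]
  have hθ : d ≤ (θ.1 ⟨d - t, Nat.sub_lt hd ht⟩).val := by
    by_contra hlt
    push Not at hlt
    have hsub : (univ.filter fun s : Fin d => d ≤ (θ.1 s).val) ⊆
        Finset.Ioi (⟨d - t, Nat.sub_lt hd ht⟩ : Fin d) := by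
      intro s hs
      rw [Finset.mem_filter] at hs
      rw [Finset.mem_Ioi]
      by_contra hle
      push Not at hle
      have := Fin.le_def.1 (θ.2.monotone hle)
      omega
    have hc := Finset.card_le_card hsub
    rw [hcount, Fin.card_Ioi] at hc
    simp only at hc
    omega
  rw [← hdet]
  have hs := Groth.Agent.PluckerQuad.det_submatrix_eq_sort (cellMatrix K d r) ρ hcard
  show ((cellMatrix K d r).submatrix ρ id).det ∈ _
  rw [hs]
  apply Ideal.mul_mem_left
  apply Ideal.subset_span
  exact ⟨θ, hθ, rfl⟩

theorem main (hd : 0 < d) (t : ℕ) (ht : 0 < t) (htd : t ≤ d) :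
    Ideal.span {f : CellRing K d r | ∃ θ : Idx d (d + r),
        d ≤ (θ.1 ⟨d - t, Nat.sub_lt hd ht⟩).val ∧ f = cellMinor K d r θ} =
      CAlgX.minorIdeal (genMatrix K r d) t := by
  apply le_antisymm
  · rw [Ideal.span_le]
    rintro q ⟨θ, hθ, rfl⟩
    exact cellMinor_mem K d r hd t ht htd θ hθ
  · unfold CAlgX.minorIdeal
    rw [Ideal.span_le]
    rintro _ ⟨⟨f, g⟩, rfl⟩
    exact minor_mem K d r hd t ht htd f g

end Groth.Agent.CellMinor9
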