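import Mathlib
import Groth.Prelude.Def_W4bk4grassmannianPl

/-!
# Counting functions of strictly increasing sequences and the entrywise order (helper9)
APPEND-ONLY once landed.
-/

set_option autoImplicit false

namespace Groth.Agent.Gale9

open Finset W4bk4grassmannian

/-- the number of entries `< x` -/
def cntlt {k N : ℕ} (a : Fin k → Fin N) (x : ℕ) : ℕ :=
  (univ.filter fun j : Fin k => (a j).val < x).card

lemma cntlt_le {k N : ℕ} (a : Fin k → Fin N) (x : ℕ) : cntlt a x ≤ k := by
  unfold cntlt
  calc _ ≤ (univ : Finset (Fin k)).card := Finset.card_filter_le _ _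
    _ = k := by rw [Finset.card_univ, Fintype.card_fin]

lemma cntlt_of_ge {k N : ℕ} (a : Fin k → Fin N) (x : ℕ) (hx : N ≤ x) : cntlt a x = k := by
  unfold cntlt
  rw [Finset.filter_true_of_mem, Finset.card_univ, Fintype.card_fin]
  intro j _
  exact lt_of_lt_of_le (a j).isLt hx

lemma cntlt_mono {k N : ℕ} (a : Fin k → Fin N) {x y : ℕ} (h : x ≤ y) : cntlt a x ≤ cntlt a y := by
  unfold cntlt
  apply Finset.card_le_card
  intro j hj
  rw [Finset.mem_filter] at hj ⊢
  exact ⟨hj.1, lt_of_lt_of_le hj.2 h⟩

lemma cntlt_le_self {k N : ℕ} (a : Fin k → Fin N) (ha : Function.Injective a) (x : ℕ) :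
    cntlt a x ≤ x := by
  unfold cntlt
  have h1 : (univ.filter fun j : Fin k => (a j).val < x).card ≤ (Finset.range x).card := by
    apply Finset.card_le_card_of_injOn (fun j => (a j).val)
    · intro j hj
      rw [Finset.coe_filter] at hj
      exact Finset.mem_coe.2 (Finset.mem_range.2 hj.2)
    · intro i _ j _ hij
      exact ha (Fin.ext hij)
  rwa [Finset.card_range] at h1

theorem gale {k k' N : ℕ} (a : Fin k → Fin N) (a' : Fin k' → Fin N) (ha : StrictMono a)
    (ha' : StrictMono a') :
    (k ≤ k' ∧ ∀ (j : Fin k) (j' : Fin k'), j.val = j'.val → a' j' ≤ a j) ↔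
      ∀ x : ℕ, cntlt a x ≤ cntlt a' x := by
  constructor
  · rintro ⟨hk, h⟩ x
    unfold cntlt
    apply Finset.card_le_card_of_injOn (fun j => Fin.castLE hk j)
    · intro j hj
      rw [Finset.coe_filter] at hj
      rw [Finset.coe_filter]
      refine ⟨Finset.mem_univ _, ?_⟩
      exact lt_of_le_of_lt (Fin.le_def.1 (h j (Fin.castLE hk j) rfl)) hj.2
    · intro i _ j _ hij
      exact Fin.castLE_injective hk hij
  · intro h
    have hk : k ≤ k' := by
      have := h N
      rwa [cntlt_of_ge a N (le_refl _), cntlt_of_ge a' N (le_refl _)] at this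
    refine ⟨hk, ?_⟩
    intro j j' hjj
    by_contra hlt
    rw [not_le] at hlt
    have h1 : j.val + 1 ≤ cntlt a ((a j).val + 1) := by
      unfold cntlt
      have h2 : (Finset.Iic j).card ≤ (univ.filter fun i : Fin k => (a i).val < (a j).val + 1).card := by
        apply Finset.card_le_card
        intro i hi
        rw [Finset.mem_Iic] at hi
        rw [Finset.mem_filter]
        refine ⟨Finset.mem_univ _, ?_⟩
        have := Fin.le_def.1 (ha.monotone hi)
        omega
      rwa [Fin.card_Iic] at h2
    have h3 : cntlt a' ((a j).val + 1) ≤ j'.val := by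
      unfold cntlt
      have h2 : (univ.filter fun i : Fin k' => (a' i).val < (a j).val + 1).card ≤
          (Finset.Iio j').card := by
        apply Finset.card_le_card
        intro i hi
        rw [Finset.mem_filter] at hi
        rw [Finset.mem_Iio]
        rw [← ha'.lt_iff_lt, Fin.lt_def]
        have := Fin.lt_def.1 hlt
        omega
      rwa [Fin.card_Iio] at h2
    have h4 := h ((a j).val + 1)
    omega

/-- the entrywise order of `I(d,N)` in terms of counting functions -/
theorem le_iff_cntlt {d N : ℕ} (θ θ' : Idx d N) :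
    θ ≤ θ' ↔ ∀ x : ℕ, cntlt θ'.1 x ≤ cntlt θ.1 x := by
  rw [← gale θ'.1 θ.1 θ'.2 θ.2]
  constructor
  · intro h
    refine ⟨le_refl _, ?_⟩
    intro j j' hjj
    have : j = j' := Fin.ext hjj
    rw [this]
    exact h j'
  · rintro ⟨-, h⟩ t
    exact h t t rfl

theorem eq_of_cntlt {d N : ℕ} (θ θ' : Idx d N) (h : ∀ x : ℕ, cntlt θ.1 x = cntlt θ'.1 x) :
    θ = θ' := by
  apply le_antisymm
  · rw [le_iff_cntlt]
    intro x
    rw [h x]
  · rw [le_iff_cntlt]
    intro x
    rw [h x]

/-- the counting function of the increasing enumeration of a finite set -/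
lemma cntlt_orderEmb {N k : ℕ} (S : Finset (Fin N)) (hS : S.card = k) (x : ℕ) :
    cntlt (fun i => S.orderEmbOfFin hS i) x = (S.filter fun y => y.val < x).card := by
  unfold cntlt
  have h1 : (S.filter fun y => y.val < x) =
      (univ.filter fun j : Fin k => (S.orderEmbOfFin hS j).val < x).image (S.orderEmbOfFin hS) := by
    ext y
    simp only [Finset.mem_filter, Finset.mem_image, Finset.mem_univ, true_and]
    constructor
    · rintro ⟨hy, hyx⟩
      have h2 : y ∈ Finset.univ.image (S.orderEmbOfFin hS) := by
        rw [Finset.image_orderEmbOfFin_univ]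
        exact hy
      obtain ⟨j, -, rfl⟩ := Finset.mem_image.1 h2
      exact ⟨j, hyx, rfl⟩
    · rintro ⟨j, hj, rfl⟩
      exact ⟨Finset.orderEmbOfFin_mem S hS j, hj⟩
  rw [h1, Finset.card_image_of_injective _ (S.orderEmbOfFin hS).injective]

/-- the counting function only depends on the set of entries -/
lemma cntlt_eq_card_image {k N : ℕ} (a : Fin k → Fin N) (ha : Function.Injective a) (x : ℕ) :
    cntlt a x = ((univ.image a).filter fun y => y.val < x).card := by
  unfold cntlt
  rw [Finset.filter_image, Finset.card_image_of_injective _ ha]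

end Groth.Agent.Gale9
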