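import Mathlib
import Groth.Agent.Lib.CellMinor_helper9
import Groth.Agent.Lib.Gale_helper9

/-!
# Minors of the generic matrix as Plücker coordinates on the opposite big cell (helper9)
APPEND-ONLY once landed.
-/

set_option autoImplicit false

universe u

namespace Groth.Agent.BiTab9

open W4bk4grassmannian MvPolynomial Function Finset
open Groth.Agent.Gale9

section Rho

variable {d r t : ℕ} (f : Fin t → Fin r) (g : Fin t → Fin d)

lemma rho_bound (j : Fin d) :
    (if h : ∃ i, g i = j then d + (f h.choose).val else j.val) < d + r := by
  split_ifs with h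
  · have := (f h.choose).isLt
    omega
  · have := j.isLt
    omega

/-- the row tuple: row `d + f i` in position `g i`, row `j` in the other positions `j` -/
noncomputable def rho : Fin d → Fin (d + r) := fun j =>
  ⟨if h : ∃ i, g i = j then d + (f h.choose).val else j.val, rho_bound f g j⟩

variable {f g}

lemma rho_g (hg : Injective g) (i : Fin t) : (rho f g (g i)).val = d + (f i).val := by
  have h : ∃ i', g i' = g i := ⟨i, rfl⟩
  have hc : h.choose = i := hg h.choose_spec
  show (if h : ∃ i', g i' = g i then d + (f h.choose).val else (g i).val) = _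
  rw [dif_pos h, hc]

lemma rho_not (j : Fin d) (hj : ¬ ∃ i, g i = j) : (rho f g j).val = j.val := by
  show (if h : ∃ i', g i' = j then d + (f h.choose).val else j.val) = _
  rw [dif_neg hj]

lemma rho_injective (hf : Injective f) (hg : Injective g) : Injective (rho f g) := by
  intro j j' hjj
  have hv : (rho f g j).val = (rho f g j').val := by rw [hjj]
  by_cases hj : ∃ i, g i = j
  · obtain ⟨i, rfl⟩ := hj
    by_cases hj' : ∃ i, g i = j'
    · obtain ⟨i', rfl⟩ := hj'
      rw [rho_g hg, rho_g hg] at hv
      have : f i = f i' := Fin.ext (by omega)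
      rw [hf this]
    · rw [rho_g hg, rho_not _ hj'] at hv
      have := j'.isLt
      omega
  · by_cases hj' : ∃ i, g i = j'
    · obtain ⟨i', rfl⟩ := hj'
      rw [rho_not _ hj, rho_g hg] at hv
      have := j.isLt
      omega
    · rw [rho_not _ hj, rho_not _ hj'] at hv
      exact Fin.ext hv

lemma card_rho (hf : Injective f) (hg : Injective g) : (univ.image (rho f g)).card = d := by
  rw [Finset.card_image_of_injective _ (rho_injective hf hg), Finset.card_univ, Fintype.card_fin]

variable (f g)

/-- the Plücker index attached to the row map `f` and the column map `g` -/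
noncomputable def theta (hf : Injective f) (hg : Injective g) : Idx d (d + r) :=
  sortIdx d (d + r) (rho f g) (card_rho hf hg)

lemma image_theta (hf : Injective f) (hg : Injective g) :
    univ.image (theta f g hf hg).1 = univ.image (rho f g) :=
  Finset.image_orderEmbOfFin_univ _ (card_rho hf hg)

theorem det_rho (K : Type u) [CommRing K] (hf : Injective f) (hg : Injective g) :
    ((cellMatrix K d r).submatrix (rho f g) id).det = ((genMatrix K r d).submatrix f g).det := by
  classical
  let p : Fin d → Prop := fun j => ∃ i, g i = j
  let N : Matrix (Fin d) (Fin d) (CellRing K d r) := (cellMatrix K d r).submatrix (rho f g) id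
  have hN1 : ∀ i c, N (g i) c = X (f i, c) := by
    intro i c
    simp only [N, Matrix.submatrix_apply, cellMatrix, Matrix.of_apply, id_eq]
    have h1 : ¬ (rho f g (g i)).val < d := by rw [rho_g hg]; omega
    rw [dif_neg h1]
    congr 2
    apply Fin.ext
    show (rho f g (g i)).val - d = (f i).val
    rw [rho_g hg]
    omega
  have hN2 : ∀ j, ¬ p j → ∀ c, N j c = if j = c then 1 else 0 := by
    intro j hj c
    simp only [N, Matrix.submatrix_apply, cellMatrix, Matrix.of_apply, id_eq]
    have h1 : (rho f g j).val < d := by rw [rho_not _ hj]; exact j.isLt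
    rw [dif_pos h1, rho_not _ hj]
    by_cases hjc : j = c
    · rw [if_pos hjc, if_pos (by rw [hjc])]
    · rw [if_neg hjc, if_neg (fun h => hjc (Fin.ext h))]
  show N.det = _
  rw [Matrix.twoBlockTriangular_det N p]
  · have h2 : Matrix.toSquareBlockProp N (fun i => ¬ p i) = 1 := by
      ext ⟨a, ha⟩ ⟨b, hb⟩
      rw [Matrix.toSquareBlockProp_def, Matrix.of_apply, hN2 a ha b, Matrix.one_apply]
      simp only [Subtype.mk.injEq]
    rw [h2, Matrix.det_one, mul_one]
    let e : Fin t ≃ {j // p j} := Equiv.ofBijective (fun i => ⟨g i, i, rfl⟩)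
      ⟨fun a b hab => hg (Subtype.mk.inj hab), fun ⟨j, i, hi⟩ => ⟨i, Subtype.ext hi⟩⟩
    rw [← Matrix.det_submatrix_equiv_self e]
    congr 1
    apply Matrix.ext
    intro i i'
    simp only [Matrix.submatrix_apply, Matrix.toSquareBlockProp_def, Matrix.of_apply, genMatrix]
    exact hN1 i (g i')
  · intro i hi j hj
    rw [hN2 i hi j, if_neg]
    rintro rfl
    exact hi hj

/-- the minor `[f | g]` is, up to sign, the Plücker coordinate of `theta f g` on the cell -/
theorem det_eq_cellMinor (K : Type u) [CommRing K] (hf : Injective f) (hg : Injective g) :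
    ∃ ε : CellRing K d r, (ε = 1 ∨ ε = -1) ∧
      ((genMatrix K r d).submatrix f g).det = ε * cellMinor K d r (theta f g hf hg) := by
  refine ⟨(-1 : CellRing K d r) ^ invCount d (d + r) (rho f g), neg_one_pow_eq_or _ _, ?_⟩
  rw [← det_rho f g K hf hg,
    Groth.Agent.PluckerQuad.det_submatrix_eq_sort (cellMatrix K d r) (rho f g) (card_rho hf hg)]
  rfl

/-- the counting function of `theta f g` -/
theorem cntlt_theta (hf : Injective f) (hg : Injective g) (x : ℕ) :
    cntlt (theta f g hf hg).1 x = (min d x - cntlt g x) +
      (univ.filter fun i : Fin t => d + (f i).val < x).card := by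
  classical
  rw [cntlt_eq_card_image _ (theta f g hf hg).2.injective, image_theta,
    ← cntlt_eq_card_image _ (rho_injective hf hg)]
  unfold cntlt
  rw [← Finset.card_filter_add_card_filter_not (s := univ.filter fun j : Fin d =>
    (rho f g j).val < x) (fun j : Fin d => ∃ i, g i = j), add_comm]
  congr 1
  · -- the positions outside the image of `g`
    have h1 : ((univ.filter fun j : Fin d => (rho f g j).val < x).filter
        fun j : Fin d => ¬ ∃ i, g i = j) =
        (univ.filter fun j : Fin d => j.val < x) \
          ((univ.filter fun i : Fin t => (g i).val < x).image g) := by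
      ext j
      simp only [Finset.mem_filter, Finset.mem_univ, true_and, Finset.mem_sdiff,
        Finset.mem_image, not_exists, not_and]
      constructor
      · rintro ⟨h2, h3⟩
        rw [rho_not j (by simpa using h3)] at h2
        exact ⟨h2, fun i _ hi => h3 i hi⟩
      · rintro ⟨h2, h3⟩
        have h4 : ¬ ∃ i, g i = j := by
          rintro ⟨i, rfl⟩
          exact h3 i h2 rfl
        rw [rho_not j h4]
        exact ⟨h2, fun i hi => h4 ⟨i, hi⟩⟩
    rw [h1, Finset.card_sdiff_of_subset, Fin.card_filter_val_lt,
      Finset.card_image_of_injective _ hg]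
    intro j hj
    obtain ⟨i, hi, rfl⟩ := Finset.mem_image.1 hj
    exact Finset.mem_filter.2 ⟨Finset.mem_univ _, (Finset.mem_filter.1 hi).2⟩
  · have h1 : ((univ.filter fun j : Fin d => (rho f g j).val < x).filter
        fun j : Fin d => ∃ i, g i = j) =
        (univ.filter fun i : Fin t => d + (f i).val < x).image g := by
      ext j
      simp only [Finset.mem_filter, Finset.mem_univ, true_and, Finset.mem_image]
      constructor
      · rintro ⟨h2, i, rfl⟩
        rw [rho_g hg] at h2
        exact ⟨i, h2, rfl⟩
      · rintro ⟨i, h2, rfl⟩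
        rw [rho_g hg]
        exact ⟨h2, i, rfl⟩
    rw [h1, Finset.card_image_of_injective _ hg]

end Rho

end Groth.Agent.BiTab9
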