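import Mathlib
import Groth.Prelude.Def_W4bk4grassmannianPl
import Groth.Agent.Lib.PluckerQuad_helper9

/-!
# Straightening: weights of the terms of a shuffle relation
-/

set_option autoImplicit false

universe u

namespace Groth.Agent.Straight9

open W4bk4grassmannian MvPolynomial Function Finset

section Sums

lemma filter_lt_eq_image {N : ℕ} (m : ℕ) (hm : m ≤ N) :
    univ.filter (fun t : Fin N => t.val < m) = univ.image (Fin.castLE hm) := by
  ext t
  simp only [mem_filter, mem_univ, true_and, mem_image]
  constructor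
  · intro h
    exact ⟨⟨t.val, h⟩, Fin.ext rfl⟩
  · rintro ⟨s, rfl⟩
    exact s.isLt

lemma sum_filter_lt {N : ℕ} (F : Fin N → ℕ) (m : ℕ) (hm : m ≤ N) :
    ∑ t ∈ univ.filter (fun t : Fin N => t.val < m), F t = ∑ s : Fin m, F (Fin.castLE hm s) := by
  rw [filter_lt_eq_image m hm, Finset.sum_image (fun a _ b _ h => Fin.castLE_injective hm h)]

lemma sum_filter_ge {N : ℕ} (F : Fin N → ℕ) (m m' : ℕ) (hm : m + m' = N) :
    ∑ t ∈ univ.filter (fun t : Fin N => m ≤ t.val), F t =
      ∑ s : Fin m', F ⟨s.val + m, by have := s.isLt; omega⟩ := by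
  have h1 : univ.filter (fun t : Fin N => m ≤ t.val) =
      univ.image (fun s : Fin m' => (⟨s.val + m, by have := s.isLt; omega⟩ : Fin N)) := by
    ext t
    simp only [mem_filter, mem_univ, true_and, mem_image]
    constructor
    · intro h
      refine ⟨⟨t.val - m, by have := t.isLt; omega⟩, Fin.ext ?_⟩
      show t.val - m + m = t.val
      omega
    · rintro ⟨s, rfl⟩
      show m ≤ s.val + m
      omega
  rw [h1, Finset.sum_image]
  intro a _ b _ h
  have h2 : a.val + m = b.val + m := congrArg Fin.val h
  exact Fin.ext (by omega)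

lemma le_strictMono_val {m N : ℕ} (e : Fin m → Fin N) (he : StrictMono e) :
    ∀ (k : ℕ) (hk : k < m), k ≤ (e ⟨k, hk⟩).val := by
  intro k
  induction k with
  | zero => intro _; exact Nat.zero_le _
  | succ k ih =>
    intro hk
    have h1 := ih (by omega)
    have h2 : e ⟨k, by omega⟩ < e ⟨k + 1, hk⟩ := he (by
      rw [Fin.lt_def]
      exact Nat.lt_succ_self k)
    rw [Fin.lt_def] at h2
    omega

end Sums

variable {d n : ℕ}

/-- The sum of the entries of a tuple. -/
def wt (a : Fin d → Fin n) : ℕ := ∑ t, (a t).val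

lemma wt_le (a : Fin d → Fin n) : wt a ≤ d * n := by
  unfold wt
  calc ∑ t, (a t).val ≤ ∑ _t : Fin d, n := Finset.sum_le_sum (fun t _ => (a t).isLt.le)
    _ = d * n := by rw [Finset.sum_const, Finset.card_univ, Fintype.card_fin, smul_eq_mul]

lemma wt_lt_of_lt {θ φ : Idx d n} (h : θ < φ) : wt θ.1 < wt φ.1 := by
  unfold wt
  have hle : ∀ t, θ.1 t ≤ φ.1 t := h.le
  have hne : ¬ (∀ t, φ.1 t ≤ θ.1 t) := fun h' => h.not_ge h'
  push Not at hne
  obtain ⟨t, ht⟩ := hne
  exact Finset.sum_lt_sum (fun t _ => Fin.le_def.1 (hle t)) ⟨t, Finset.mem_univ _, Fin.lt_def.1 ht⟩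

lemma wt_sortIdx (a : Fin d → Fin n) (h : (Finset.univ.image a).card = d) :
    wt (sortIdx d n a h).1 = wt a := by
  unfold wt
  have ha : Injective a := Groth.Agent.PluckerQuad.injective_of_card_image h
  have hθ : Injective (sortIdx d n a h).1 := (sortIdx d n a h).2.injective
  have hrows : Finset.univ.image (sortIdx d n a h).1 = Finset.univ.image a :=
    Finset.image_orderEmbOfFin_univ _ h
  rw [← Finset.sum_image (f := fun x : Fin n => x.val) (fun x _ y _ hxy => hθ hxy), hrows,
    Finset.sum_image (fun x _ y _ hxy => ha hxy)]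

variable (K : Type u) [CommRing K]

lemma coord_strictMono (θ : Idx d n) : coord K d n θ.1 = X θ := by
  have h : (Finset.univ.image θ.1).card = d := Groth.Agent.PluckerQuad.card_rows θ
  unfold coord
  rw [dif_pos h, Groth.Agent.PluckerQuad.invCount_strictMono θ.1 θ.2, pow_zero, one_mul,
    Groth.Agent.PluckerQuad.sortIdx_eq θ.1 h θ rfl]

lemma coord_cases (a : Fin d → Fin n) : coord K d n a = 0 ∨ ∃ θ : Idx d n,
    (coord K d n a = X θ ∨ coord K d n a = - X θ) ∧ wt θ.1 = wt a := by
  by_cases h : (Finset.univ.image a).card = d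
  · right
    refine ⟨sortIdx d n a h, ?_, wt_sortIdx a h⟩
    unfold coord
    rw [dif_pos h]
    rcases neg_one_pow_eq_or (PlRing K d n) (invCount d n a) with h1 | h1
    · left
      rw [h1, one_mul]
    · right
      rw [h1, neg_one_mul]
  · left
    unfold coord
    rw [dif_neg h]

section Moving

variable (i j : Idx d n) (r : Fin d)

lemma mov_le (k : Fin (d + 1)) (h : k.val ≤ r.val) :
    movingRows i j r k = i.1 ⟨k.val, lt_of_le_of_lt h r.isLt⟩ := by
  unfold movingRows
  rw [dif_pos h]

lemma mov_gt (k : Fin (d + 1)) (h : ¬ k.val ≤ r.val) :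
    movingRows i j r k = j.1 ⟨k.val - 1, by have := k.isLt; omega⟩ := by
  unfold movingRows
  rw [dif_neg h]

lemma mov_strictMono (hp : IsPivot i j r) : StrictMono (movingRows i j r) := by
  intro a b hab
  rw [Fin.lt_def] at hab
  by_cases hb : b.val ≤ r.val
  · rw [mov_le i j r a (by omega), mov_le i j r b hb]
    exact i.2 (by rw [Fin.lt_def]; exact hab)
  · rw [mov_gt i j r b hb]
    by_cases ha : a.val ≤ r.val
    · rw [mov_le i j r a ha]
      have h1 : i.1 ⟨a.val, lt_of_le_of_lt ha r.isLt⟩ ≤ i.1 r :=
        i.2.monotone (by rw [Fin.le_def]; exact ha)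
      have h2 : j.1 r ≤ j.1 ⟨b.val - 1, by have := b.isLt; omega⟩ :=
        j.2.monotone (by rw [Fin.le_def]; show r.val ≤ b.val - 1; omega)
      exact lt_of_le_of_lt h1 (lt_of_lt_of_le hp.2 h2)
    · rw [mov_gt i j r a ha]
      apply j.2
      rw [Fin.lt_def]
      show a.val - 1 < b.val - 1
      omega

lemma sum_mov : ∑ a : Fin (d + 1), (movingRows i j r a).val =
    ∑ t ∈ univ.filter (fun t : Fin d => t.val ≤ r.val), (i.1 t).val +
      ∑ t ∈ univ.filter (fun t : Fin d => r.val ≤ t.val), (j.1 t).val := by
  have hr := r.isLt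
  rw [← Finset.sum_filter_add_sum_filter_not univ (fun a : Fin (d + 1) => a.val < r.val + 1)]
  congr 1
  · have e1 : univ.filter (fun t : Fin d => t.val ≤ r.val) =
        univ.filter (fun t : Fin d => t.val < r.val + 1) := by
      ext t
      simp only [mem_filter, mem_univ, true_and]
      omega
    rw [e1, sum_filter_lt _ (r.val + 1) (by omega), sum_filter_lt _ (r.val + 1) (by omega)]
    apply Finset.sum_congr rfl
    intro s _
    rw [mov_le i j r _ (by show s.val ≤ r.val; have := s.isLt; omega)]
    rfl
  · have e2 : univ.filter (fun a : Fin (d + 1) => ¬ a.val < r.val + 1) =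
        univ.filter (fun a : Fin (d + 1) => r.val + 1 ≤ a.val) := by
      ext t
      simp only [mem_filter, mem_univ, true_and]
      omega
    rw [e2, sum_filter_ge _ (r.val + 1) (d - r.val) (by omega),
      sum_filter_ge _ r.val (d - r.val) (by omega)]
    apply Finset.sum_congr rfl
    intro s _
    rw [mov_gt i j r _ (by show ¬ s.val + (r.val + 1) ≤ r.val; omega)]
    congr 2

variable (S : Finset (Fin (d + 1))) (hS : S.card = r.val + 1)

lemma sum_shuffleI : wt (shuffleI i j r S hS) =
    ∑ a ∈ S, (movingRows i j r a).val +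
      ∑ t ∈ univ.filter (fun t : Fin d => r.val < t.val), (i.1 t).val := by
  have hr := r.isLt
  unfold wt
  rw [← Finset.sum_filter_add_sum_filter_not univ (fun t : Fin d => t.val < r.val + 1)]
  congr 1
  · rw [sum_filter_lt _ (r.val + 1) (by omega)]
    conv_rhs => rw [← Finset.image_orderEmbOfFin_univ S hS]
    rw [Finset.sum_image (fun a _ b _ h => (S.orderEmbOfFin hS).injective h)]
    apply Finset.sum_congr rfl
    intro s _
    have hs : (Fin.castLE (show r.val + 1 ≤ d by omega) s).val ≤ r.val := by
      show s.val ≤ r.val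
      have := s.isLt
      omega
    unfold shuffleI
    rw [dif_pos hs]
    rfl
  · have e2 : univ.filter (fun t : Fin d => ¬ t.val < r.val + 1) =
        univ.filter (fun t : Fin d => r.val < t.val) := by
      ext t
      simp only [mem_filter, mem_univ, true_and]
      omega
    rw [e2]
    apply Finset.sum_congr rfl
    intro t ht
    rw [mem_filter] at ht
    unfold shuffleI
    rw [dif_neg (by omega)]

lemma sum_shuffleJ : wt (shuffleJ i j r S hS) =
    ∑ t ∈ univ.filter (fun t : Fin d => t.val < r.val), (j.1 t).val +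
      ∑ a ∈ Sᶜ, (movingRows i j r a).val := by
  have hr := r.isLt
  have hC : Sᶜ.card = d - r.val := by
    rw [Finset.card_compl, hS, Fintype.card_fin]
    omega
  unfold wt
  rw [← Finset.sum_filter_add_sum_filter_not univ (fun t : Fin d => t.val < r.val)]
  congr 1
  · apply Finset.sum_congr rfl
    intro t ht
    rw [mem_filter] at ht
    unfold shuffleJ
    rw [dif_pos ht.2]
  · have e2 : univ.filter (fun t : Fin d => ¬ t.val < r.val) =
        univ.filter (fun t : Fin d => r.val ≤ t.val) := by
      ext t
      simp only [mem_filter, mem_univ, true_and]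
      omega
    rw [e2, sum_filter_ge _ r.val (d - r.val) (by omega)]
    conv_rhs => rw [← Finset.image_orderEmbOfFin_univ Sᶜ hC]
    rw [Finset.sum_image (fun a _ b _ h => (Sᶜ.orderEmbOfFin hC).injective h)]
    apply Finset.sum_congr rfl
    intro s _
    unfold shuffleJ
    rw [dif_neg (by show ¬ s.val + r.val < r.val; omega)]
    congr 3
    apply Fin.ext
    show s.val + r.val - r.val = s.val
    omega

/-- The total weight is preserved by every shuffle. -/
lemma wt_shuffle_add : wt (shuffleI i j r S hS) + wt (shuffleJ i j r S hS) = wt i.1 + wt j.1 := by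
  rw [sum_shuffleI, sum_shuffleJ]
  have h1 : ∑ a ∈ S, (movingRows i j r a).val + ∑ a ∈ Sᶜ, (movingRows i j r a).val =
      ∑ a : Fin (d + 1), (movingRows i j r a).val := Finset.sum_add_sum_compl S _
  have h2 : wt i.1 = ∑ t ∈ univ.filter (fun t : Fin d => t.val ≤ r.val), (i.1 t).val +
      ∑ t ∈ univ.filter (fun t : Fin d => r.val < t.val), (i.1 t).val := by
    unfold wt
    rw [← Finset.sum_filter_add_sum_filter_not univ (fun t : Fin d => t.val ≤ r.val)]
    congr 2
    ext t
    simp only [mem_filter, mem_univ, true_and]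
    omega
  have h3 : wt j.1 = ∑ t ∈ univ.filter (fun t : Fin d => t.val < r.val), (j.1 t).val +
      ∑ t ∈ univ.filter (fun t : Fin d => r.val ≤ t.val), (j.1 t).val := by
    unfold wt
    rw [← Finset.sum_filter_add_sum_filter_not univ (fun t : Fin d => t.val < r.val)]
    congr 2
    ext t
    simp only [mem_filter, mem_univ, true_and]
    omega
  have h4 := sum_mov i j r
  omega

end Moving

end Groth.Agent.Straight9
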