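import Mathlib
import Groth.Prelude.Def_W4bk4grassmannianPl
import Groth.Agent.Lib.Straight1_helper9

/-!
# The shuffle (generalised Plücker) relations hold for the minors of a matrix: multilinear part
-/

set_option autoImplicit false

universe u

namespace Groth.Agent.PluckRel9

open Function Finset

section General

variable {R V W : Type*} [CommRing R] [AddCommGroup V] [Module R V] [AddCommGroup W] [Module R W]

theorem swap_of_eq_zero {ι : Type*} [DecidableEq ι] (f : MultilinearMap R (fun _ : ι => V) W)
    (a b : ι) (hab : a ≠ b) (h : ∀ v : ι → V, v a = v b → f v = 0) (v : ι → V) :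
    f (v ∘ Equiv.swap a b) = - f v := by
  have e1 : update (update v b (v a)) a (v b) = v ∘ Equiv.swap a b := by
    funext t
    by_cases hta : t = a
    · subst hta
      rw [update_self, Function.comp_apply, Equiv.swap_apply_left]
    · by_cases htb : t = b
      · subst htb
        rw [update_of_ne hta, update_self, Function.comp_apply, Equiv.swap_apply_right]
      · rw [update_of_ne hta, update_of_ne htb, Function.comp_apply,
          Equiv.swap_apply_of_ne_of_ne hta htb]
  have e2 : update (update v b (v b)) a (v a) = v := by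
    rw [update_eq_self, update_eq_self]
  have z1 : f (update (update v b (v a)) a (v a)) = 0 := by
    apply h
    rw [update_self, update_of_ne hab.symm, update_self]
  have z2 : f (update (update v b (v b)) a (v b)) = 0 := by
    apply h
    rw [update_self, update_of_ne hab.symm, update_self]
  have h0 : f (update (update v a (v a + v b)) b (v a + v b)) = 0 := by
    apply h
    rw [update_self, update_of_ne hab, update_self]
  have c1 : update (update v a (v a + v b)) b (v a) = update (update v b (v a)) a (v a + v b) :=
    update_comm hab _ _ _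
  have c2 : update (update v a (v a + v b)) b (v b) = update (update v b (v b)) a (v a + v b) :=
    update_comm hab _ _ _
  rw [f.map_update_add, c1, c2, f.map_update_add, f.map_update_add, z1, e1, e2, z2] at h0
  rw [zero_add, add_zero] at h0
  exact eq_neg_of_add_eq_zero_left h0

theorem eq_zero_of_adj_aux {m : ℕ} (f : MultilinearMap R (fun _ : Fin (m + 1) => V) W)
    (hadj : ∀ (v : Fin (m + 1) → V) (k : Fin m), v k.castSucc = v k.succ → f v = 0) :
    ∀ (g : ℕ) (v : Fin (m + 1) → V) (a b : Fin (m + 1)), a.val + g + 1 = b.val → v a = v b →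
      f v = 0 := by
  intro g
  induction g with
  | zero =>
    intro v a b hab hv
    have hk : a.val < m := by
      have := b.isLt
      omega
    have ha : a = (⟨a.val, hk⟩ : Fin m).castSucc := Fin.ext rfl
    have hb : b = (⟨a.val, hk⟩ : Fin m).succ := Fin.ext (by
      show b.val = a.val + 1
      omega)
    exact hadj v ⟨a.val, hk⟩ (by rw [← ha, ← hb]; exact hv)
  | succ g ih =>
    intro v a b hab hv
    have hk : b.val - 1 < m := by
      have := b.isLt
      omega
    obtain ⟨k, hkdef⟩ : ∃ k : Fin m, k = ⟨b.val - 1, hk⟩ := ⟨_, rfl⟩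
    have hkv : k.val = b.val - 1 := by rw [hkdef]
    have hb : b = k.succ := Fin.ext (by
      show b.val = k.val + 1
      omega)
    have hsw := swap_of_eq_zero f k.castSucc k.succ (Fin.castSucc_lt_succ).ne
      (fun w hw => hadj w k hw) v
    have h0 : f (v ∘ Equiv.swap k.castSucc k.succ) = 0 := by
      apply ih (v ∘ Equiv.swap k.castSucc k.succ) a k.castSucc
      · show a.val + g + 1 = k.val
        omega
      · rw [Function.comp_apply, Function.comp_apply, Equiv.swap_apply_left,
          Equiv.swap_apply_of_ne_of_ne, ← hb]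
        · exact hv
        · intro h
          have := congrArg Fin.val h
          simp only [Fin.val_castSucc] at this
          omega
        · intro h
          rw [← hb] at h
          have := congrArg Fin.val h
          omega
    rw [hsw] at h0
    exact neg_eq_zero.1 h0

theorem eq_zero_of_adj {m : ℕ} (f : MultilinearMap R (fun _ : Fin (m + 1) => V) W)
    (hadj : ∀ (v : Fin (m + 1) → V) (k : Fin m), v k.castSucc = v k.succ → f v = 0)
    (v : Fin (m + 1) → V) (a b : Fin (m + 1)) (hab : a ≠ b) (hv : v a = v b) : f v = 0 := by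
  rcases lt_or_gt_of_ne hab with h | h
  · rw [Fin.lt_def] at h
    exact eq_zero_of_adj_aux f hadj (b.val - a.val - 1) v a b (by omega) hv
  · rw [Fin.lt_def] at h
    exact eq_zero_of_adj_aux f hadj (a.val - b.val - 1) v b a (by omega) hv.symm

theorem eq_zero_of_card_lt {K : Type*} [Field K] {d : ℕ}
    (f : MultilinearMap K (fun _ : Fin (d + 1) => (Fin d → K)) K)
    (hadj : ∀ (v : Fin (d + 1) → (Fin d → K)) (k : Fin d), v k.castSucc = v k.succ → f v = 0)
    (v : Fin (d + 1) → Fin d → K) : f v = 0 := by
  let g : (Fin d → K) [⋀^Fin (d + 1)]→ₗ[K] K :=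
    { f with map_eq_zero_of_eq' := fun v a b hv hab => eq_zero_of_adj f hadj v a b hab hv }
  have hnl : ¬ LinearIndependent K v := by
    intro hli
    have := hli.fintype_card_le_finrank
    rw [Fintype.card_fin, Module.finrank_fin_fun] at this
    omega
  exact g.map_linearDependent v hnl

end General

section GDef

variable {K : Type u} [CommRing K] {d : ℕ} (r : Fin d) (p q : Fin d → Fin d → K)

lemma card_compl {S : Finset (Fin (d + 1))} (hS : S.card = r.val + 1) : Sᶜ.card = d - r.val := by
  rw [Finset.card_compl, hS, Fintype.card_fin]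
  omega

/-- The first matrix: the moving rows at the positions `S`, then the rows `p`. -/
def MS (S : Finset (Fin (d + 1))) (hS : S.card = r.val + 1) (v : Fin (d + 1) → Fin d → K) :
    Matrix (Fin d) (Fin d) K :=
  Matrix.of fun t => if h : t.val ≤ r.val then v (S.orderEmbOfFin hS ⟨t.val, Nat.lt_succ_of_le h⟩)
    else p t

/-- The second matrix: the rows `q`, then the moving rows at the positions outside `S`. -/
def NS (S : Finset (Fin (d + 1))) (hS : S.card = r.val + 1) (v : Fin (d + 1) → Fin d → K) :
    Matrix (Fin d) (Fin d) K :=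
  Matrix.of fun t => if _h : t.val < r.val then q t
    else v (Sᶜ.orderEmbOfFin (card_compl r hS) ⟨t.val - r.val, by have := t.isLt; omega⟩)

/-- One term. -/
def T (S : Finset (Fin (d + 1))) (hS : S.card = r.val + 1) (v : Fin (d + 1) → Fin d → K) : K :=
  (MS r p S hS v).det * (NS r q S hS v).det

/-- The shuffle sum. -/
def G (v : Fin (d + 1) → Fin d → K) : K :=
  ∑ S : Finset (Fin (d + 1)),
    if hS : S.card = r.val + 1 then (-1) ^ (∑ a ∈ S, a.val) * T r p q S hS v else 0

variable (S : Finset (Fin (d + 1))) (hS : S.card = r.val + 1) (v : Fin (d + 1) → Fin d → K)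

lemma MS_row (s : Fin (r.val + 1)) :
    MS r p S hS v ⟨s.val, by have := s.isLt; have := r.isLt; omega⟩ = v (S.orderEmbOfFin hS s) := by
  funext c
  unfold MS
  rw [Matrix.of_apply, dif_pos (by show s.val ≤ r.val; have := s.isLt; omega)]

lemma NS_row (s : Fin (d - r.val)) :
    NS r q S hS v ⟨s.val + r.val, by have := s.isLt; have := r.isLt; omega⟩ =
      v (Sᶜ.orderEmbOfFin (card_compl r hS) s) := by
  funext c
  unfold NS
  rw [Matrix.of_apply, dif_neg (by show ¬ s.val + r.val < r.val; omega)]
  congr 3
  show s.val + r.val - r.val = s.val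
  omega

lemma MS_update_mem (s0 : Fin (r.val + 1)) (x : Fin d → K) :
    MS r p S hS (update v (S.orderEmbOfFin hS s0) x) =
      (MS r p S hS v).updateRow ⟨s0.val, by have := s0.isLt; have := r.isLt; omega⟩ x := by
  apply Matrix.ext
  intro t c
  rw [Matrix.updateRow_apply]
  unfold MS
  simp only [Matrix.of_apply]
  by_cases ht : t = ⟨s0.val, by have := s0.isLt; have := r.isLt; omega⟩
  · rw [if_pos ht]
    have h : t.val ≤ r.val := by
      rw [ht]
      show s0.val ≤ r.val
      have := s0.isLt
      omega
    rw [dif_pos h]
    have hv' : t.val = s0.val := by rw [ht]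
    have h2 : (⟨t.val, Nat.lt_succ_of_le h⟩ : Fin (r.val + 1)) = s0 := Fin.ext hv'
    rw [h2, update_self]
  · rw [if_neg ht]
    by_cases h : t.val ≤ r.val
    · rw [dif_pos h, dif_pos h, update_of_ne]
      intro he
      apply ht
      have h3 := (S.orderEmbOfFin hS).injective he
      exact Fin.ext (by rw [← h3])
    · rw [dif_neg h, dif_neg h]

lemma MS_update_notMem (k : Fin (d + 1)) (hk : k ∉ S) (x : Fin d → K) :
    MS r p S hS (update v k x) = MS r p S hS v := by
  apply Matrix.ext
  intro t c
  unfold MS
  simp only [Matrix.of_apply]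
  by_cases h : t.val ≤ r.val
  · rw [dif_pos h, dif_pos h, update_of_ne]
    intro he
    apply hk
    rw [← he]
    exact Finset.orderEmbOfFin_mem S hS _
  · rw [dif_neg h, dif_neg h]

lemma NS_update_mem (s0 : Fin (d - r.val)) (x : Fin d → K) :
    NS r q S hS (update v (Sᶜ.orderEmbOfFin (card_compl r hS) s0) x) =
      (NS r q S hS v).updateRow ⟨s0.val + r.val, by have := s0.isLt; have := r.isLt; omega⟩ x := by
  apply Matrix.ext
  intro t c
  rw [Matrix.updateRow_apply]
  unfold NS
  simp only [Matrix.of_apply]
  by_cases ht : t = ⟨s0.val + r.val, by have := s0.isLt; have := r.isLt; omega⟩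
  · rw [if_pos ht]
    have h : ¬ t.val < r.val := by
      rw [ht]
      show ¬ s0.val + r.val < r.val
      omega
    rw [dif_neg h]
    have hv' : t.val = s0.val + r.val := by rw [ht]
    have h2 : (⟨t.val - r.val, by have := t.isLt; omega⟩ : Fin (d - r.val)) = s0 := Fin.ext (by
      show t.val - r.val = s0.val
      omega)
    rw [h2, update_self]
  · rw [if_neg ht]
    by_cases h : t.val < r.val
    · rw [dif_pos h, dif_pos h]
    · rw [dif_neg h, dif_neg h, update_of_ne]
      intro he
      apply ht
      have h3 := (Sᶜ.orderEmbOfFin (card_compl r hS)).injective he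
      have h4 : t.val - r.val = s0.val := congrArg Fin.val h3
      exact Fin.ext (by show t.val = s0.val + r.val; omega)

lemma NS_update_notMem (k : Fin (d + 1)) (hk : k ∉ Sᶜ) (x : Fin d → K) :
    NS r q S hS (update v k x) = NS r q S hS v := by
  apply Matrix.ext
  intro t c
  unfold NS
  simp only [Matrix.of_apply]
  by_cases h : t.val < r.val
  · rw [dif_pos h, dif_pos h]
  · rw [dif_neg h, dif_neg h, update_of_ne]
    intro he
    apply hk
    rw [← he]
    exact Finset.orderEmbOfFin_mem Sᶜ _ _

lemma exists_emb_eq {T' : Finset (Fin (d + 1))} {m : ℕ} (hT : T'.card = m) {k : Fin (d + 1)}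
    (hk : k ∈ T') : ∃ s0, T'.orderEmbOfFin hT s0 = k := by
  have h1 := Finset.range_orderEmbOfFin T' hT
  have hk' : k ∈ Set.range (T'.orderEmbOfFin hT) := by
    rw [h1]
    exact hk
  exact hk'

lemma T_update_add (k : Fin (d + 1)) (x y : Fin d → K) :
    T r p q S hS (update v k (x + y)) =
      T r p q S hS (update v k x) + T r p q S hS (update v k y) := by
  unfold T
  by_cases hk : k ∈ S
  · obtain ⟨s0, rfl⟩ := exists_emb_eq hS hk
    have hc : S.orderEmbOfFin hS s0 ∉ Sᶜ := by
      rw [Finset.mem_compl, not_not]
      exact hk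
    rw [MS_update_mem, MS_update_mem, MS_update_mem, NS_update_notMem r q S hS v _ hc,
      NS_update_notMem r q S hS v _ hc, NS_update_notMem r q S hS v _ hc,
      Matrix.det_updateRow_add, add_mul]
  · have hk' : k ∈ Sᶜ := Finset.mem_compl.2 hk
    obtain ⟨s0, rfl⟩ := exists_emb_eq (card_compl r hS) hk'
    rw [NS_update_mem, NS_update_mem, NS_update_mem, MS_update_notMem r p S hS v _ hk,
      MS_update_notMem r p S hS v _ hk, MS_update_notMem r p S hS v _ hk,
      Matrix.det_updateRow_add, mul_add]

lemma T_update_smul (k : Fin (d + 1)) (c : K) (x : Fin d → K) :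
    T r p q S hS (update v k (c • x)) = c * T r p q S hS (update v k x) := by
  unfold T
  by_cases hk : k ∈ S
  · obtain ⟨s0, rfl⟩ := exists_emb_eq hS hk
    have hc : S.orderEmbOfFin hS s0 ∉ Sᶜ := by
      rw [Finset.mem_compl, not_not]
      exact hk
    rw [MS_update_mem, MS_update_mem, NS_update_notMem r q S hS v _ hc,
      NS_update_notMem r q S hS v _ hc, Matrix.det_updateRow_smul, mul_assoc]
  · have hk' : k ∈ Sᶜ := Finset.mem_compl.2 hk
    obtain ⟨s0, rfl⟩ := exists_emb_eq (card_compl r hS) hk'
    rw [NS_update_mem, NS_update_mem, MS_update_notMem r p S hS v _ hk,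
      MS_update_notMem r p S hS v _ hk, Matrix.det_updateRow_smul]
    ring

/-- The shuffle sum as a multilinear map. -/
def Gm : MultilinearMap K (fun _ : Fin (d + 1) => (Fin d → K)) K where
  toFun := G r p q
  map_update_add' := by
    intro inst v k x y
    have hinst : inst = instDecidableEqFin (d + 1) := Subsingleton.elim _ _
    subst hinst
    unfold G
    rw [← Finset.sum_add_distrib]
    apply Finset.sum_congr rfl
    intro S _
    split_ifs with hS
    · rw [T_update_add, mul_add]
    · rw [add_zero]
  map_update_smul' := by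
    intro inst v k c x
    have hinst : inst = instDecidableEqFin (d + 1) := Subsingleton.elim _ _
    subst hinst
    unfold G
    rw [smul_eq_mul, Finset.mul_sum]
    apply Finset.sum_congr rfl
    intro S _
    split_ifs with hS
    · rw [T_update_smul]
      ring
    · rw [mul_zero]

lemma Gm_apply : Gm r p q v = G r p q v := rfl

end GDef

end Groth.Agent.PluckRel9
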