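import Mathlib
import Groth.Agent.Lib.PluckRel1_helper9
import Groth.Agent.Lib.PluckerQuad_helper9

/-!
# The shuffle (generalised Plücker) relations hold for the minors of a matrix
-/

set_option autoImplicit false

universe u

namespace Groth.Agent.PluckRel9

open Function Finset

section Adj

variable {d : ℕ} (k : Fin d)

/-- The adjacent transposition. -/
def sw : Equiv.Perm (Fin (d + 1)) := Equiv.swap k.castSucc k.succ

lemma sw_val (t : Fin (d + 1)) : (sw k t).val =
    if t.val = k.val then k.val + 1 else if t.val = k.val + 1 then k.val else t.val := by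
  unfold sw
  by_cases h1 : t = k.castSucc
  · subst h1
    rw [Equiv.swap_apply_left, Fin.val_succ, Fin.val_castSucc, if_pos rfl]
  · by_cases h2 : t = k.succ
    · subst h2
      rw [Equiv.swap_apply_right, Fin.val_castSucc, Fin.val_succ, if_neg (Nat.succ_ne_self _),
        if_pos rfl]
    · rw [Equiv.swap_apply_of_ne_of_ne h1 h2]
      have h1' : t.val ≠ k.val := fun h => h1 (Fin.ext h)
      have h2' : t.val ≠ k.val + 1 := fun h => h2 (Fin.ext h)
      rw [if_neg h1', if_neg h2']

lemma sw_lt (x y : Fin (d + 1)) (hxy : x < y) (hnot : ¬ (x = k.castSucc ∧ y = k.succ)) :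
    sw k x < sw k y := by
  rw [Fin.lt_def] at hxy ⊢
  rw [sw_val, sw_val]
  have hnot' : ¬ (x.val = k.val ∧ y.val = k.val + 1) :=
    fun ⟨h1, h2⟩ => hnot ⟨Fin.ext h1, Fin.ext h2⟩
  split_ifs <;> omega

lemma mem_map_sw (S : Finset (Fin (d + 1))) (x : Fin (d + 1)) :
    x ∈ S.map (sw k).toEmbedding ↔ sw k x ∈ S := by
  rw [Finset.mem_map_equiv]
  unfold sw
  rw [Equiv.symm_swap]

lemma map_compl' (S : Finset (Fin (d + 1))) :
    (S.map (sw k).toEmbedding)ᶜ = Sᶜ.map (sw k).toEmbedding := by
  ext x
  rw [Finset.mem_compl, mem_map_sw, mem_map_sw, Finset.mem_compl]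

lemma emb_map {m : ℕ} (T T' : Finset (Fin (d + 1))) (hT : T.card = m) (hT' : T'.card = m)
    (hmap : T' = T.map (sw k).toEmbedding) (hnot : ¬ (k.castSucc ∈ T ∧ k.succ ∈ T)) (s : Fin m) :
    T'.orderEmbOfFin hT' s = sw k (T.orderEmbOfFin hT s) := by
  subst hmap
  have h := Finset.orderEmbOfFin_unique hT' (f := fun s => sw k (T.orderEmbOfFin hT s))
    (fun s => Finset.mem_map_of_mem _ (Finset.orderEmbOfFin_mem T hT s))
    (by
      intro s s' hss
      apply sw_lt k _ _ ((T.orderEmbOfFin hT).strictMono hss)
      rintro ⟨h1, h2⟩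
      exact hnot ⟨h1 ▸ Finset.orderEmbOfFin_mem T hT s, h2 ▸ Finset.orderEmbOfFin_mem T hT s'⟩)
  exact (congrFun h s).symm

lemma sum_map_sw_of_left (S : Finset (Fin (d + 1))) (ha : k.castSucc ∈ S) (hb : k.succ ∉ S) :
    ∑ x ∈ S.map (sw k).toEmbedding, x.val = ∑ x ∈ S, x.val + 1 := by
  rw [Finset.sum_map]
  rw [← Finset.add_sum_erase S _ ha, ← Finset.add_sum_erase S (fun x => x.val) ha]
  have h1 : ((sw k).toEmbedding k.castSucc).val = k.castSucc.val + 1 := by
    show (sw k k.castSucc).val = _
    unfold sw
    rw [Equiv.swap_apply_left, Fin.val_succ, Fin.val_castSucc]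
  have h2 : ∑ x ∈ S.erase k.castSucc, ((sw k).toEmbedding x).val =
      ∑ x ∈ S.erase k.castSucc, x.val := by
    apply Finset.sum_congr rfl
    intro x hx
    rw [Finset.mem_erase] at hx
    show (sw k x).val = x.val
    unfold sw
    rw [Equiv.swap_apply_of_ne_of_ne hx.1 (fun h : x = k.succ => hb (by rw [← h]; exact hx.2))]
  rw [h1, h2]
  omega

lemma sum_map_sw_of_right (S : Finset (Fin (d + 1))) (ha : k.castSucc ∉ S) (hb : k.succ ∈ S) :
    ∑ x ∈ S.map (sw k).toEmbedding, x.val + 1 = ∑ x ∈ S, x.val := by
  rw [Finset.sum_map]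
  rw [← Finset.add_sum_erase S _ hb, ← Finset.add_sum_erase S (fun x => x.val) hb]
  have h1 : ((sw k).toEmbedding k.succ).val + 1 = k.succ.val := by
    show (sw k k.succ).val + 1 = _
    unfold sw
    rw [Equiv.swap_apply_right, Fin.val_succ, Fin.val_castSucc]
  have h2 : ∑ x ∈ S.erase k.succ, ((sw k).toEmbedding x).val =
      ∑ x ∈ S.erase k.succ, x.val := by
    apply Finset.sum_congr rfl
    intro x hx
    rw [Finset.mem_erase] at hx
    show (sw k x).val = x.val
    unfold sw
    rw [Equiv.swap_apply_of_ne_of_ne (fun h : x = k.castSucc => ha (by rw [← h]; exact hx.2)) hx.1]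
  rw [h2]
  omega

variable {K : Type u} [CommRing K] (r : Fin d) (p q : Fin d → Fin d → K)

lemma comp_sw (v : Fin (d + 1) → Fin d → K) (hv : v k.castSucc = v k.succ) (t : Fin (d + 1)) :
    v (sw k t) = v t := by
  unfold sw
  by_cases h1 : t = k.castSucc
  · subst h1
    rw [Equiv.swap_apply_left]
    exact hv.symm
  · by_cases h2 : t = k.succ
    · subst h2
      rw [Equiv.swap_apply_right]
      exact hv
    · rw [Equiv.swap_apply_of_ne_of_ne h1 h2]

variable (S : Finset (Fin (d + 1))) (hS : S.card = r.val + 1)
  (hS' : (S.map (sw k).toEmbedding).card = r.val + 1) (v : Fin (d + 1) → Fin d → K)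
  (hv : v k.castSucc = v k.succ)

include hv

lemma MS_map (hnot : ¬ (k.castSucc ∈ S ∧ k.succ ∈ S)) :
    MS r p (S.map (sw k).toEmbedding) hS' v = MS r p S hS v := by
  apply Matrix.ext
  intro t c
  unfold MS
  simp only [Matrix.of_apply]
  by_cases h : t.val ≤ r.val
  · rw [dif_pos h, dif_pos h, emb_map k S _ hS hS' rfl hnot, comp_sw k v hv]
  · rw [dif_neg h, dif_neg h]

lemma NS_map (hnot : ¬ (k.castSucc ∈ Sᶜ ∧ k.succ ∈ Sᶜ)) :
    NS r q (S.map (sw k).toEmbedding) hS' v = NS r q S hS v := by
  apply Matrix.ext
  intro t c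
  unfold NS
  simp only [Matrix.of_apply]
  by_cases h : t.val < r.val
  · rw [dif_pos h, dif_pos h]
  · rw [dif_neg h, dif_neg h,
      emb_map k Sᶜ _ (card_compl r hS) (card_compl r hS') (map_compl' k S) hnot, comp_sw k v hv]

lemma T_zero_of_both (ha : k.castSucc ∈ S) (hb : k.succ ∈ S) : T r p q S hS v = 0 := by
  obtain ⟨s1, h1⟩ := exists_emb_eq hS ha
  obtain ⟨s2, h2⟩ := exists_emb_eq hS hb
  have hne : s1 ≠ s2 := by
    rintro rfl
    exact (Fin.castSucc_lt_succ (i := k)).ne (h1.symm.trans h2)
  unfold T
  rw [Matrix.det_zero_of_row_eq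
    (i := ⟨s1.val, by have := s1.isLt; have := r.isLt; omega⟩)
    (j := ⟨s2.val, by have := s2.isLt; have := r.isLt; omega⟩)
    (fun h => hne (Fin.ext (Fin.mk.inj h))) (by rw [MS_row, MS_row, h1, h2]; exact hv), zero_mul]

lemma T_zero_of_neither (ha : k.castSucc ∉ S) (hb : k.succ ∉ S) : T r p q S hS v = 0 := by
  obtain ⟨s1, h1⟩ := exists_emb_eq (card_compl r hS) (Finset.mem_compl.2 ha)
  obtain ⟨s2, h2⟩ := exists_emb_eq (card_compl r hS) (Finset.mem_compl.2 hb)
  have hne : s1 ≠ s2 := by
    rintro rfl
    exact (Fin.castSucc_lt_succ (i := k)).ne (h1.symm.trans h2)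
  unfold T
  rw [Matrix.det_zero_of_row_eq (M := NS r q S hS v)
    (i := ⟨s1.val + r.val, by have := s1.isLt; have := r.isLt; omega⟩)
    (j := ⟨s2.val + r.val, by have := s2.isLt; have := r.isLt; omega⟩)
    (fun h => hne (Fin.ext (by have := Fin.mk.inj h; omega)))
    (by rw [NS_row, NS_row, h1, h2]; exact hv), mul_zero]

omit S hS hS' in
theorem G_adj : G r p q v = 0 := by
  unfold G
  apply Finset.sum_ninvolution (fun S => S.map (sw k).toEmbedding)
  · intro S
    by_cases hS : S.card = r.val + 1
    · have hS' : (S.map (sw k).toEmbedding).card = r.val + 1 := by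
        rw [Finset.card_map]
        exact hS
      rw [dif_pos hS, dif_pos hS']
      by_cases ha : k.castSucc ∈ S
      · by_cases hb : k.succ ∈ S
        · have ha' : k.castSucc ∈ S.map (sw k).toEmbedding := by
            rw [mem_map_sw]
            unfold sw
            rw [Equiv.swap_apply_left]
            exact hb
          have hb' : k.succ ∈ S.map (sw k).toEmbedding := by
            rw [mem_map_sw]
            unfold sw
            rw [Equiv.swap_apply_right]
            exact ha
          rw [T_zero_of_both k r p q S hS v hv ha hb, T_zero_of_both k r p q _ hS' v hv ha' hb',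
            mul_zero, mul_zero, add_zero]
        · have hM := MS_map k r p S hS hS' v hv (fun h => hb h.2)
          have hN := NS_map k r q S hS hS' v hv
            (fun h => (Finset.mem_compl.1 h.1) ha)
          unfold T
          rw [hM, hN, sum_map_sw_of_left k S ha hb, pow_succ]
          ring
      · by_cases hb : k.succ ∈ S
        · have hM := MS_map k r p S hS hS' v hv (fun h => ha h.1)
          have hN := NS_map k r q S hS hS' v hv
            (fun h => (Finset.mem_compl.1 h.2) hb)
          unfold T
          rw [hM, hN, ← sum_map_sw_of_right k S ha hb, pow_succ]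
          ring
        · have ha' : k.castSucc ∉ S.map (sw k).toEmbedding := by
            rw [mem_map_sw]
            unfold sw
            rw [Equiv.swap_apply_left]
            exact hb
          have hb' : k.succ ∉ S.map (sw k).toEmbedding := by
            rw [mem_map_sw]
            unfold sw
            rw [Equiv.swap_apply_right]
            exact ha
          rw [T_zero_of_neither k r p q S hS v hv ha hb,
            T_zero_of_neither k r p q _ hS' v hv ha' hb', mul_zero, mul_zero, add_zero]
    · have hS' : ¬ (S.map (sw k).toEmbedding).card = r.val + 1 := by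
        rw [Finset.card_map]
        exact hS
      rw [dif_neg hS, dif_neg hS', add_zero]
  · intro S hne heq
    apply hne
    by_cases hS : S.card = r.val + 1
    · rw [dif_pos hS]
      have hiff : k.castSucc ∈ S ↔ k.succ ∈ S := by
        constructor
        · intro ha
          have h1 : sw k k.succ ∈ S := by
            unfold sw
            rw [Equiv.swap_apply_right]
            exact ha
          rw [← mem_map_sw, heq] at h1
          exact h1
        · intro hb
          have h1 : sw k k.castSucc ∈ S := by
            unfold sw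
            rw [Equiv.swap_apply_left]
            exact hb
          rw [← mem_map_sw, heq] at h1
          exact h1
      by_cases ha : k.castSucc ∈ S
      · rw [T_zero_of_both k r p q S hS v hv ha (hiff.1 ha), mul_zero]
      · rw [T_zero_of_neither k r p q S hS v hv ha (fun hb => ha (hiff.2 hb)), mul_zero]
    · rw [dif_neg hS]
  · intro S
    exact mem_univ _
  · intro S
    ext x
    rw [mem_map_sw, mem_map_sw]
    unfold sw
    rw [Equiv.swap_apply_self]

end Adj

theorem G_eq_zero {K : Type u} [Field K] {d : ℕ} (r : Fin d) (p q : Fin d → Fin d → K)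
    (v : Fin (d + 1) → Fin d → K) : G r p q v = 0 := by
  rw [← Gm_apply]
  exact eq_zero_of_card_lt (Gm r p q)
    (fun v k hv => by rw [Gm_apply]; exact G_adj k r p q v hv) v

section Final

open W4bk4grassmannian MvPolynomial

variable {K : Type u} [Field K] {d n : ℕ}

lemma evalMinors_coord (A : Matrix (Fin n) (Fin d) K) (a : Fin d → Fin n) :
    evalMinors K d n A (coord K d n a) = (A.submatrix a id).det :=
  Groth.Agent.PluckerQuad.E_minors A a

lemma sum_ge (r : Fin d) (S : Finset (Fin (d + 1))) (hS : S.card = r.val + 1) :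
    r.val * (r.val + 1) / 2 ≤ ∑ a ∈ S, a.val := by
  have h0 : ∑ a ∈ S, a.val = ∑ s : Fin (r.val + 1), (S.orderEmbOfFin hS s).val := by
    conv_lhs => rw [← Finset.image_orderEmbOfFin_univ S hS]
    rw [Finset.sum_image (fun a _ b _ h => (S.orderEmbOfFin hS).injective h)]
  have h1 : ∑ s : Fin (r.val + 1), s.val ≤ ∑ s : Fin (r.val + 1), (S.orderEmbOfFin hS s).val :=
    Finset.sum_le_sum (fun s _ => Groth.Agent.Straight9.le_strictMono_val _
      (S.orderEmbOfFin hS).strictMono s.val s.isLt)
  have h2 : ∑ s : Fin (r.val + 1), s.val = r.val * (r.val + 1) / 2 := by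
    rw [Fin.sum_univ_eq_sum_range (fun i => i) (r.val + 1), Finset.sum_range_id,
      Nat.add_sub_cancel, Nat.mul_comm]
  omega

theorem evalMinors_shuffleRel (A : Matrix (Fin n) (Fin d) K) (i j : Idx d n) (r : Fin d) :
    evalMinors K d n A (shuffleRel K i j r) = 0 := by
  have hG := G_eq_zero r (fun t => A (i.1 t)) (fun t => A (j.1 t))
    (fun k => A (movingRows i j r k))
  unfold shuffleRel
  rw [map_sum]
  have hterm : ∀ S : Finset (Fin (d + 1)), evalMinors K d n A (shuffleTerm K i j r S) =
      (-1) ^ (r.val * (r.val + 1) / 2) * (if hS : S.card = r.val + 1 then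
        (-1) ^ (∑ a ∈ S, a.val) * T r (fun t => A (i.1 t)) (fun t => A (j.1 t)) S hS
          (fun k => A (movingRows i j r k)) else 0) := by
    intro S
    unfold shuffleTerm
    by_cases hS : S.card = r.val + 1
    · rw [dif_pos hS, dif_pos hS, map_mul, map_mul, map_pow, map_neg, map_one, evalMinors_coord,
        evalMinors_coord]
      have hsign : (-1 : K) ^ (shuffleSign r S) =
          (-1) ^ (r.val * (r.val + 1) / 2) * (-1) ^ (∑ a ∈ S, a.val) := by
        unfold shuffleSign
        have hge := sum_ge r S hS
        rw [← pow_add]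
        have h3 : r.val * (r.val + 1) / 2 + ∑ a ∈ S, a.val =
            (∑ a ∈ S, a.val - r.val * (r.val + 1) / 2) + 2 * (r.val * (r.val + 1) / 2) := by
          omega
        rw [h3, pow_add, pow_mul, neg_one_sq, one_pow, mul_one]
      have hM : A.submatrix (shuffleI i j r S hS) id =
          MS r (fun t => A (i.1 t)) S hS (fun k => A (movingRows i j r k)) := by
        apply Matrix.ext
        intro t c
        unfold shuffleI MS
        simp only [Matrix.submatrix_apply, Matrix.of_apply, id_eq]
        split_ifs <;> rfl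
      have hN : A.submatrix (shuffleJ i j r S hS) id =
          NS r (fun t => A (j.1 t)) S hS (fun k => A (movingRows i j r k)) := by
        apply Matrix.ext
        intro t c
        unfold shuffleJ NS
        simp only [Matrix.submatrix_apply, Matrix.of_apply, id_eq]
        split_ifs <;> rfl
      rw [hsign, hM, hN]
      unfold T
      ring
    · rw [dif_neg hS, dif_neg hS, map_zero, mul_zero]
  simp_rw [hterm]
  rw [← Finset.mul_sum]
  unfold G at hG
  rw [hG, mul_zero]

end Final

end Groth.Agent.PluckRel9
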