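import Mathlib
import Groth.Prelude.Def_W4bk4grassmannianPl

/-!
# Standard monomials on a Schubert variety: restriction to echelon matrices
-/

set_option autoImplicit false

universe u

namespace Groth.Agent.SMTIndep9

open W4bk4grassmannian MvPolynomial Function Finset

variable {d n : ℕ}

/-- The variables of the generic matrix, ordered lexicographically (rows first). -/
abbrev Var (d n : ℕ) : Type := Fin n ×ₗ Fin d

/-- The diagonal term order. -/
noncomputable def ord (d n : ℕ) : MonomialOrder (Var d n) := MonomialOrder.lex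

lemma det_eq_zero_of_not_le {R : Type*} [CommRing R] (w φ : Idx d n) (hφ : ¬ φ ≤ w)
    (B : Matrix (Fin n) (Fin d) R) (hB : ∀ i t, w.1 t < i → B i t = 0) :
    (B.submatrix φ.1 id).det = 0 := by
  have hex0 : ∃ t0, w.1 t0 < φ.1 t0 := by
    by_contra hne
    push Not at hne
    exact hφ hne
  obtain ⟨t0, ht0⟩ := hex0
  rw [Matrix.det_apply]
  apply Finset.sum_eq_zero
  intro σ _
  have hex : ∃ t, t ≤ t0 ∧ t0 ≤ σ t := by
    by_contra hne
    push Not at hne
    have hsub : (Finset.Iic t0).image σ ⊆ Finset.Iio t0 := by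
      intro x hx
      obtain ⟨t, ht, rfl⟩ := Finset.mem_image.1 hx
      exact Finset.mem_Iio.2 (hne t (Finset.mem_Iic.1 ht))
    have hc := Finset.card_le_card hsub
    rw [Finset.card_image_of_injective _ σ.injective, Fin.card_Iic, Fin.card_Iio] at hc
    omega
  obtain ⟨t, ht1, ht2⟩ := hex
  rw [Finset.prod_eq_zero (Finset.mem_univ t), smul_zero]
  rw [Matrix.submatrix_apply]
  apply hB
  calc w.1 t ≤ w.1 t0 := w.2.monotone ht1
    _ < φ.1 t0 := ht0
    _ ≤ φ.1 (σ t) := φ.2.monotone ht2

variable (K : Type u) [Field K]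

/-- The generic matrix in `w`-echelon form. -/
noncomputable def echMatrix (w : Idx d n) :
    Matrix (Fin n) (Fin d) (MvPolynomial (Var d n) K) :=
  Matrix.of fun i t => if i ≤ w.1 t then X (toLex (i, t)) else 0

/-- Restriction of Plücker polynomials to the space of `w`-echelon matrices. -/
noncomputable def rho (w : Idx d n) : PlRing K d n →ₐ[K] MvPolynomial (Var d n) K :=
  MvPolynomial.aeval fun θ : Idx d n => ((echMatrix K w).submatrix θ.1 id).det

lemma rho_X (w θ : Idx d n) : rho K w (X θ) = ((echMatrix K w).submatrix θ.1 id).det := by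
  unfold rho
  rw [aeval_X]

lemma rho_eq_zero_of_mem [Infinite K] (w : Idx d n) (f : PlRing K d n)
    (hf : f ∈ schubertVanishing K d n w) : rho K w f = 0 := by
  apply MvPolynomial.funext
  intro b
  rw [map_zero]
  obtain ⟨B, hBdef⟩ : ∃ B : Matrix (Fin n) (Fin d) K,
      B = Matrix.of fun i t => if i ≤ w.1 t then b (toLex (i, t)) else 0 := ⟨_, rfl⟩
  have hcomp : (MvPolynomial.eval b : _ →+* K).comp (rho K w).toRingHom =
      (evalMinors K d n B).toRingHom := by
    apply MvPolynomial.ringHom_ext
    · intro c
      simp only [RingHom.coe_comp, AlgHom.toRingHom_eq_coe, RingHom.coe_coe, Function.comp_apply,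
        MvPolynomial.algHom_C, MvPolynomial.eval_C, MvPolynomial.algebraMap_eq]
      rfl
    · intro θ
      simp only [RingHom.coe_comp, AlgHom.toRingHom_eq_coe, RingHom.coe_coe, Function.comp_apply]
      rw [rho_X]
      unfold evalMinors
      rw [aeval_X, RingHom.map_det]
      congr 1
      apply Matrix.ext
      intro s t
      rw [hBdef]
      simp only [RingHom.mapMatrix_apply, Matrix.map_apply, Matrix.submatrix_apply, echMatrix,
        Matrix.of_apply, id_eq]
      split_ifs
      · rw [MvPolynomial.eval_X]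
      · rw [map_zero]
  have hval : MvPolynomial.eval b (rho K w f) = evalMinors K d n B f :=
    RingHom.congr_fun hcomp f
  rw [hval]
  unfold schubertVanishing at hf
  rw [Ideal.mem_iInf] at hf
  have h1 := hf B
  rw [Ideal.mem_iInf] at h1
  refine RingHom.mem_ker.1 (h1 (fun φ hφ => det_eq_zero_of_not_le w φ hφ B (fun i t hit => ?_)))
  rw [hBdef, Matrix.of_apply, if_neg (not_le.2 hit)]

end Groth.Agent.SMTIndep9
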