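import Mathlib
import Groth.Agent.Lib.SMTIndep1_helper9

/-!
# Standard monomials on a Schubert variety: leading terms of echelon minors
-/

set_option autoImplicit false

universe u

namespace Groth.Agent.SMTIndep9

open W4bk4grassmannian MvPolynomial Function Finset
open scoped MonomialOrder

variable {d n : ℕ}

/-- Exponent of the `σ`-term of the minor on the rows `θ`. -/
noncomputable def eperm (θ : Idx d n) (σ : Equiv.Perm (Fin d)) : Var d n →₀ ℕ :=
  ∑ t, Finsupp.single (toLex (θ.1 (σ t), t)) 1

/-- Exponent of the diagonal term of the minor on the rows `θ`. -/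
noncomputable def mexp (θ : Idx d n) : Var d n →₀ ℕ := ∑ t, Finsupp.single (toLex (θ.1 t, t)) 1

lemma eperm_one (θ : Idx d n) : eperm θ 1 = mexp θ := rfl

lemma eperm_apply (θ : Idx d n) (σ : Equiv.Perm (Fin d)) (i : Fin n) (t' : Fin d) :
    eperm θ σ (toLex (i, t')) = if θ.1 (σ t') = i then 1 else 0 := by
  unfold eperm
  rw [Finsupp.finset_sum_apply, Finset.sum_eq_single t']
  · rw [Finsupp.single_apply]
    by_cases h : θ.1 (σ t') = i
    · rw [if_pos h, if_pos (by rw [h])]
    · rw [if_neg h, if_neg]
      intro he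
      apply h
      exact congrArg (fun x => (ofLex x).1) he
  · intro t _ hne
    rw [Finsupp.single_apply, if_neg]
    intro he
    apply hne
    exact congrArg (fun x => (ofLex x).2) he
  · intro h
    exact absurd (mem_univ _) h

lemma mexp_apply (θ : Idx d n) (i : Fin n) (t' : Fin d) :
    mexp θ (toLex (i, t')) = if θ.1 t' = i then 1 else 0 := by
  rw [← eperm_one, eperm_apply]
  rfl

lemma eperm_lt (θ : Idx d n) (σ : Equiv.Perm (Fin d)) (hσ : σ ≠ 1) :
    eperm θ σ ≺[ord d n] mexp θ := by
  have hex : (univ.filter fun t => σ t ≠ t).Nonempty := by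
    by_contra hne
    rw [Finset.not_nonempty_iff_eq_empty, Finset.filter_eq_empty_iff] at hne
    apply hσ
    ext t
    have h1 := hne (mem_univ t)
    push Not at h1
    rw [h1]
    rfl
  obtain ⟨t0, ht0def⟩ : ∃ t0, t0 = (univ.filter fun t => σ t ≠ t).min' hex := ⟨_, rfl⟩
  have ht0 : σ t0 ≠ t0 := by
    rw [ht0def]
    exact (Finset.mem_filter.1 (Finset.min'_mem _ hex)).2
  have hfix : ∀ t, t < t0 → σ t = t := by
    intro t ht
    by_contra hne
    have hmem : t ∈ univ.filter fun t => σ t ≠ t := Finset.mem_filter.2 ⟨mem_univ _, hne⟩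
    have h1 := Finset.min'_le _ t hmem
    rw [← ht0def] at h1
    exact absurd h1 (not_le.2 ht)
  have hfix' : ∀ s, σ s < t0 → σ s = s := by
    intro s hs
    exact σ.injective (hfix _ hs)
  unfold ord
  rw [MonomialOrder.lex_lt_iff, Finsupp.Lex.lt_iff]
  refine ⟨toLex (θ.1 t0, t0), ?_, ?_⟩
  · intro j hj
    obtain ⟨⟨i, t'⟩, rfl⟩ := toLex.surjective j
    rw [Prod.Lex.toLex_lt_toLex] at hj
    show eperm θ σ (toLex (i, t')) = mexp θ (toLex (i, t'))
    rw [mexp_apply, eperm_apply]
    rcases hj with hj | ⟨hj1, hj2⟩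
    · have hj' : i < θ.1 t0 := hj
      by_cases h1 : θ.1 t' = i
      · have ht' : t' < t0 := by
          apply θ.2.lt_iff_lt.1
          rw [h1]
          exact hj'
        rw [hfix t' ht']
      · rw [if_neg h1, if_neg]
        intro h2
        have hlt : σ t' < t0 := by
          apply θ.2.lt_iff_lt.1
          rw [h2]
          exact hj'
        have hst : σ t' = t' := hfix' t' hlt
        rw [hst] at h2
        exact h1 h2
    · have hj2' : t' < t0 := hj2
      rw [hfix t' hj2']
  · show eperm θ σ (toLex (θ.1 t0, t0)) < mexp θ (toLex (θ.1 t0, t0))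
    rw [mexp_apply, eperm_apply, if_neg, if_pos rfl]
    · exact Nat.zero_lt_one
    · intro h
      exact ht0 (θ.2.injective h)

variable (K : Type u) [Field K]

lemma prod_ech (w θ : Idx d n) (σ : Equiv.Perm (Fin d)) :
    ∏ t, ((echMatrix K w).submatrix θ.1 id) (σ t) t =
      monomial (eperm θ σ) (if ∀ t, θ.1 (σ t) ≤ w.1 t then (1 : K) else 0) := by
  by_cases hall : ∀ t, θ.1 (σ t) ≤ w.1 t
  · rw [if_pos hall]
    unfold eperm
    rw [MvPolynomial.monomial_sum_one]
    apply Finset.prod_congr rfl
    intro t _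
    simp only [Matrix.submatrix_apply, echMatrix, Matrix.of_apply, id_eq]
    rw [if_pos (hall t)]
    rfl
  · rw [if_neg hall, monomial_zero]
    push Not at hall
    obtain ⟨t, ht⟩ := hall
    apply Finset.prod_eq_zero (mem_univ t)
    simp only [Matrix.submatrix_apply, echMatrix, Matrix.of_apply, id_eq]
    rw [if_neg (not_le.2 ht)]

theorem minor_monic (w θ : Idx d n) (hθ : θ ≤ w) :
    (ord d n).Monic ((echMatrix K w).submatrix θ.1 id).det ∧
      (ord d n).degree ((echMatrix K w).submatrix θ.1 id).det = mexp θ := by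
  classical
  rw [Matrix.det_apply]
  rw [← Finset.add_sum_erase univ _ (mem_univ (1 : Equiv.Perm (Fin d)))]
  have h1 : Equiv.Perm.sign (1 : Equiv.Perm (Fin d)) •
      ∏ t, ((echMatrix K w).submatrix θ.1 id) ((1 : Equiv.Perm (Fin d)) t) t =
        monomial (mexp θ) (1 : K) := by
    rw [Equiv.Perm.sign_one, one_smul, prod_ech, eperm_one, if_pos]
    intro t
    exact hθ t
  rw [h1]
  obtain ⟨rest, hrest⟩ : ∃ rest, rest = ∑ σ ∈ univ.erase (1 : Equiv.Perm (Fin d)),
      Equiv.Perm.sign σ • ∏ t, ((echMatrix K w).submatrix θ.1 id) (σ t) t := ⟨_, rfl⟩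
  rw [← hrest]
  have hdm : (ord d n).degree (monomial (mexp θ) (1 : K)) = mexp θ := by
    rw [MonomialOrder.degree_monomial, if_neg one_ne_zero]
  by_cases h0 : rest = 0
  · rw [h0, add_zero]
    exact ⟨MonomialOrder.monic_monomial_one, hdm⟩
  · have hdeg : (ord d n).degree rest ≺[ord d n] (ord d n).degree (monomial (mexp θ) (1 : K)) := by
      rw [hdm]
      have hmem := MonomialOrder.degree_mem_support (m := ord d n) h0
      have hsub : rest.support ⊆
          (univ.erase (1 : Equiv.Perm (Fin d))).biUnion (fun σ => {eperm θ σ}) := by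
        rw [hrest]
        refine (MvPolynomial.support_sum).trans ?_
        apply Finset.biUnion_mono
        intro σ _
        rw [prod_ech]
        intro e he
        rw [MvPolynomial.mem_support_iff] at he
        rw [Finset.mem_singleton]
        by_contra hne
        apply he
        rcases Int.units_eq_one_or (Equiv.Perm.sign σ) with hs | hs
        · rw [hs, one_smul, MvPolynomial.coeff_monomial, if_neg (Ne.symm hne)]
        · rw [hs, Units.neg_smul, one_smul, MvPolynomial.coeff_neg, MvPolynomial.coeff_monomial,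
            if_neg (Ne.symm hne), neg_zero]
      obtain ⟨σ, hσ, he⟩ := Finset.mem_biUnion.1 (hsub hmem)
      rw [Finset.mem_singleton] at he
      rw [he]
      exact eperm_lt θ σ (Finset.mem_erase.1 hσ).1
    exact ⟨MonomialOrder.Monic.add_of_lt MonomialOrder.monic_monomial_one hdeg,
      by rw [MonomialOrder.degree_add_of_lt hdeg, hdm]⟩

end Groth.Agent.SMTIndep9
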