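import Mathlib
import Groth.Agent.Lib.Straight1_helper9

/-!
# Straightening: standard monomials span modulo the shuffle relations
-/

set_option autoImplicit false

universe u

namespace Groth.Agent.Straight9

open W4bk4grassmannian MvPolynomial Function Finset

variable {d n : ℕ}

section S0

variable (i j : Idx d n) (r : Fin d)

/-- The identity shuffle. -/
def S0 : Finset (Fin (d + 1)) := univ.filter (fun a : Fin (d + 1) => a.val < r.val + 1)

lemma r_succ_le : r.val + 1 ≤ d + 1 := by
  have := r.isLt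
  omega

lemma S0_eq_image : S0 r = univ.image (Fin.castLE (r_succ_le r)) :=
  filter_lt_eq_image _ _

lemma card_S0 : (S0 r).card = r.val + 1 := by
  rw [S0_eq_image, Finset.card_image_of_injective _ (Fin.castLE_injective _), Finset.card_univ,
    Fintype.card_fin]

lemma orderEmb_S0 : (Fin.castLE (r_succ_le r) : Fin (r.val + 1) → Fin (d + 1)) =
    ⇑((S0 r).orderEmbOfFin (card_S0 r)) := by
  apply Finset.orderEmbOfFin_unique
  · intro s
    unfold S0
    rw [mem_filter]
    exact ⟨mem_univ _, s.isLt⟩
  · exact Fin.strictMono_castLE _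

lemma orderEmb_S0_compl (hC : (S0 r)ᶜ.card = d - r.val) :
    (fun s : Fin (d - r.val) =>
      (⟨s.val + (r.val + 1), by have := s.isLt; have := r.isLt; omega⟩ : Fin (d + 1))) =
    ⇑((S0 r)ᶜ.orderEmbOfFin hC) := by
  apply Finset.orderEmbOfFin_unique
  · intro s
    rw [Finset.mem_compl]
    unfold S0
    rw [mem_filter]
    simp only [mem_univ, true_and]
    omega
  · intro a b hab
    rw [Fin.lt_def] at hab ⊢
    show a.val + (r.val + 1) < b.val + (r.val + 1)
    omega

lemma shuffleI_S0 : shuffleI i j r (S0 r) (card_S0 r) = i.1 := by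
  funext t
  unfold shuffleI
  by_cases h : t.val ≤ r.val
  · rw [dif_pos h, ← orderEmb_S0 r, mov_le i j r _ (by show t.val ≤ r.val; exact h)]
    rfl
  · rw [dif_neg h]

lemma shuffleJ_S0 : shuffleJ i j r (S0 r) (card_S0 r) = j.1 := by
  funext t
  unfold shuffleJ
  by_cases h : t.val < r.val
  · rw [dif_pos h]
  · rw [dif_neg h, ← orderEmb_S0_compl r,
      mov_gt i j r _ (by show ¬ (t.val - r.val + (r.val + 1) ≤ r.val); omega)]
    refine congrArg j.1 (Fin.ext ?_)
    show t.val - r.val + (r.val + 1) - 1 = t.val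
    omega

variable (K : Type u) [CommRing K]

lemma shuffleTerm_S0 : shuffleTerm K i j r (S0 r) =
    (-1 : PlRing K d n) ^ shuffleSign r (S0 r) * X i * X j := by
  unfold shuffleTerm
  rw [dif_pos (card_S0 r), shuffleI_S0, shuffleJ_S0, coord_strictMono, coord_strictMono]

variable {K}

lemma wt_lt_shuffleI (hp : IsPivot i j r) (S : Finset (Fin (d + 1))) (hS : S.card = r.val + 1)
    (hne : S ≠ S0 r) : wt i.1 < wt (shuffleI i j r S hS) := by
  rw [sum_shuffleI]
  have hr := r.isLt
  have h2 : wt i.1 = ∑ t ∈ univ.filter (fun t : Fin d => t.val < r.val + 1), (i.1 t).val +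
      ∑ t ∈ univ.filter (fun t : Fin d => r.val < t.val), (i.1 t).val := by
    unfold wt
    rw [← Finset.sum_filter_add_sum_filter_not univ (fun t : Fin d => t.val < r.val + 1)]
    congr 2
    ext t
    simp only [mem_filter, mem_univ, true_and]
    omega
  rw [h2]
  apply Nat.add_lt_add_right
  rw [sum_filter_lt _ (r.val + 1) (by omega)]
  conv_rhs => rw [← Finset.image_orderEmbOfFin_univ S hS]
  rw [Finset.sum_image (fun a _ b _ h => (S.orderEmbOfFin hS).injective h)]
  have hmono := mov_strictMono i j r hp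
  have hcast : ∀ s : Fin (r.val + 1), i.1 (Fin.castLE (show r.val + 1 ≤ d by omega) s) =
      movingRows i j r (Fin.castLE (r_succ_le r) s) := by
    intro s
    rw [mov_le i j r _ (by show s.val ≤ r.val; have := s.isLt; omega)]
    rfl
  have hle' : ∀ s : Fin (r.val + 1), Fin.castLE (r_succ_le r) s ≤ S.orderEmbOfFin hS s := by
    intro s
    rw [Fin.le_def]
    exact le_strictMono_val _ (S.orderEmbOfFin hS).strictMono s.val s.isLt
  obtain ⟨s0, hs0⟩ : ∃ s, S.orderEmbOfFin hS s ≠ Fin.castLE (r_succ_le r) s := by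
    by_contra hall
    push Not at hall
    apply hne
    rw [← Finset.image_orderEmbOfFin_univ S hS, S0_eq_image]
    congr 1
    funext s
    exact hall s
  apply Finset.sum_lt_sum
  · intro s _
    rw [hcast]
    exact Fin.le_def.1 (hmono.monotone (hle' s))
  · refine ⟨s0, mem_univ _, ?_⟩
    rw [hcast]
    exact Fin.lt_def.1 (hmono (lt_of_le_of_ne (hle' s0) (Ne.symm hs0)))

variable (K)

/-- The terms of a shuffle relation other than the identity shuffle. -/
lemma term_cases (hp : IsPivot i j r) (S : Finset (Fin (d + 1))) (hne : S ≠ S0 r) :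
    shuffleTerm K i j r S = 0 ∨ ∃ i' j' : Idx d n,
      (shuffleTerm K i j r S = X i' * X j' ∨ shuffleTerm K i j r S = -(X i' * X j')) ∧
      wt i.1 < wt i'.1 ∧ wt i'.1 + wt j'.1 = wt i.1 + wt j.1 := by
  unfold shuffleTerm
  by_cases hS : S.card = r.val + 1
  swap
  · left
    rw [dif_neg hS]
  rw [dif_pos hS]
  rcases coord_cases K (shuffleI i j r S hS) with h0 | ⟨i', hi', hwi⟩
  · left
    rw [h0, mul_zero, zero_mul]
  rcases coord_cases K (shuffleJ i j r S hS) with h0 | ⟨j', hj', hwj⟩
  · left
    rw [h0, mul_zero]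
  right
  refine ⟨i', j', ?_, ?_, ?_⟩
  · rcases neg_one_pow_eq_or (PlRing K d n) (shuffleSign r S) with h | h <;>
      rcases hi' with h1 | h1 <;> rcases hj' with h2 | h2 <;> rw [h, h1, h2] <;>
      first | (left; ring1) | (right; ring1)
  · rw [hwi]
    exact wt_lt_shuffleI i j r hp S hS hne
  · rw [hwi, hwj]
    exact wt_shuffle_add i j r S hS

lemma rel_eq : X i * X j = (-1 : PlRing K d n) ^ shuffleSign r (S0 r) *
    (shuffleRel K i j r - ∑ S ∈ univ.erase (S0 r), shuffleTerm K i j r S) := by
  have h1 : shuffleRel K i j r - ∑ S ∈ univ.erase (S0 r), shuffleTerm K i j r S =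
      shuffleTerm K i j r (S0 r) := by
    unfold shuffleRel
    rw [← Finset.add_sum_erase univ _ (mem_univ (S0 r))]
    ring
  have hsq : (-1 : PlRing K d n) ^ shuffleSign r (S0 r) * (-1) ^ shuffleSign r (S0 r) = 1 := by
    rw [← pow_add, ← two_mul, pow_mul, neg_one_sq, one_pow]
  rw [h1, shuffleTerm_S0, ← mul_assoc, ← mul_assoc, hsq, one_mul]

end S0

section Measure

/-- The degree of a monomial. -/
def deg (u : Idx d n →₀ ℕ) : ℕ := u.sum fun _ k => k

/-- The potential: the sum of the squares of the weights of the factors. -/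
def Phi (u : Idx d n →₀ ℕ) : ℕ := u.sum fun θ k => k * wt θ.1 ^ 2

lemma deg_add (u v : Idx d n →₀ ℕ) : deg (u + v) = deg u + deg v :=
  Finsupp.sum_add_index' (fun _ => rfl) (fun _ _ _ => rfl)

lemma Phi_add (u v : Idx d n →₀ ℕ) : Phi (u + v) = Phi u + Phi v :=
  Finsupp.sum_add_index' (fun _ => by simp) (fun _ _ _ => by ring)

lemma deg_single (θ : Idx d n) : deg (Finsupp.single θ 1) = 1 := by
  unfold deg
  rw [Finsupp.sum_single_index rfl]

lemma Phi_single (θ : Idx d n) : Phi (Finsupp.single θ 1) = wt θ.1 ^ 2 := by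
  unfold Phi
  rw [Finsupp.sum_single_index (by simp), one_mul]

lemma Phi_le (u : Idx d n →₀ ℕ) : Phi u ≤ deg u * (d * n) ^ 2 := by
  unfold Phi deg Finsupp.sum
  rw [Finset.sum_mul]
  apply Finset.sum_le_sum
  intro θ _
  apply Nat.mul_le_mul_left
  exact Nat.pow_le_pow_left (wt_le θ.1) 2

lemma sq_add_sq_lt {a b a' b' : ℕ} (h1 : a < a') (h2 : a' + b' = a + b) (h3 : b ≤ a) :
    a ^ 2 + b ^ 2 < a' ^ 2 + b' ^ 2 := by
  obtain ⟨δ, rfl⟩ : ∃ δ, a' = a + δ + 1 := ⟨a' - a - 1, by omega⟩
  have hb : b = b' + δ + 1 := by omega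
  subst hb
  have h4 : b' * (δ + 1) < a * (δ + 1) := Nat.mul_lt_mul_of_pos_right (by omega) (by omega)
  nlinarith [h4]

end Measure

section Main

variable (K : Type u) [CommRing K]

/-- The support of a monomial is a chain. -/
def IsChainSupp (u : Idx d n →₀ ℕ) : Prop := ∀ θ ∈ u.support, ∀ φ ∈ u.support, θ ≤ φ ∨ φ ≤ θ

/-- Standard polynomials plus the ideal of the shuffle relations. -/
noncomputable def W : Submodule K (PlRing K d n) :=
  restrictSupport K {u : Idx d n →₀ ℕ | IsChainSupp u} ⊔
    (plIdealTop (d := d) (n := n) K).restrictScalars K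

lemma mem_W_of_mem_ideal {f : PlRing K d n} (hf : f ∈ plIdealTop (d := d) (n := n) K) :
    f ∈ W K (d := d) (n := n) :=
  Submodule.mem_sup_right hf

lemma neg_one_pow_mul_mem (k : ℕ) {f : PlRing K d n} (hf : f ∈ W K (d := d) (n := n)) :
    (-1 : PlRing K d n) ^ k * f ∈ W K (d := d) (n := n) := by
  rcases neg_one_pow_eq_or (PlRing K d n) k with h | h
  · rw [h, one_mul]
    exact hf
  · rw [h, neg_one_mul]
    exact (W K).neg_mem hf

theorem monomial_mem_W : ∀ (N : ℕ) (u : Idx d n →₀ ℕ), deg u * (d * n) ^ 2 - Phi u < N →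
    monomial u (1 : K) ∈ W K (d := d) (n := n) := by
  intro N
  induction N with
  | zero => intro u hu; exact absurd hu (Nat.not_lt_zero _)
  | succ N ih =>
    intro u hu
    by_cases hc : IsChainSupp u
    · apply Submodule.mem_sup_left
      rw [monomial_mem_restrictSupport]
      left
      exact hc
    unfold IsChainSupp at hc
    push Not at hc
    obtain ⟨θ, hθ, φ, hφ, h1, h2⟩ := hc
    obtain ⟨i, j, hi, hj, hij, hji, hw⟩ : ∃ i j : Idx d n, i ∈ u.support ∧ j ∈ u.support ∧
        ¬ i ≤ j ∧ ¬ j ≤ i ∧ wt j.1 ≤ wt i.1 := by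
      rcases le_total (wt φ.1) (wt θ.1) with h | h
      · exact ⟨θ, φ, hθ, hφ, h1, h2, h⟩
      · exact ⟨φ, θ, hφ, hθ, h2, h1, h⟩
    have hex : (univ.filter fun t : Fin d => i.1 t < j.1 t).Nonempty := by
      by_contra hne
      rw [Finset.not_nonempty_iff_eq_empty, Finset.filter_eq_empty_iff] at hne
      apply hji
      intro t
      exact not_lt.1 (hne (mem_univ t))
    obtain ⟨r, hrdef⟩ : ∃ r, r = (univ.filter fun t : Fin d => i.1 t < j.1 t).min' hex := ⟨_, rfl⟩
    have hr : i.1 r < j.1 r := by
      rw [hrdef]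
      exact (Finset.mem_filter.1 (Finset.min'_mem _ hex)).2
    have hp : IsPivot i j r := by
      refine ⟨fun t ht => ?_, hr⟩
      by_contra hlt
      have hmem : t ∈ univ.filter fun t : Fin d => i.1 t < j.1 t :=
        Finset.mem_filter.2 ⟨mem_univ _, not_le.1 hlt⟩
      have := Finset.min'_le _ t hmem
      rw [← hrdef] at this
      exact absurd this (not_le.2 ht)
    have hne : i ≠ j := fun h => hij (h ▸ le_refl _)
    have hle : Finsupp.single i 1 + Finsupp.single j 1 ≤ u := by
      rw [Finsupp.le_def]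
      intro θ'
      have hi' : 1 ≤ u i := Nat.one_le_iff_ne_zero.2 (Finsupp.mem_support_iff.1 hi)
      have hj' : 1 ≤ u j := Nat.one_le_iff_ne_zero.2 (Finsupp.mem_support_iff.1 hj)
      simp only [Finsupp.add_apply, Finsupp.single_apply]
      by_cases e1 : i = θ'
      · subst e1
        rw [if_pos rfl, if_neg (fun h => hne h.symm)]
        simpa using hi'
      · by_cases e2 : j = θ'
        · subst e2
          rw [if_neg e1, if_pos rfl]
          simpa using hj'
        · rw [if_neg e1, if_neg e2]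
          simp
    obtain ⟨u0, hu0⟩ : ∃ u0, u = u0 + (Finsupp.single i 1 + Finsupp.single j 1) :=
      ⟨_, (tsub_add_cancel_of_le hle).symm⟩
    subst hu0
    have hmon : ∀ a b : Idx d n, monomial (u0 + (Finsupp.single a 1 + Finsupp.single b 1)) (1 : K) =
        monomial u0 1 * (X a * X b) := by
      intro a b
      rw [show (X a : PlRing K d n) = monomial (Finsupp.single a 1) 1 from rfl,
        show (X b : PlRing K d n) = monomial (Finsupp.single b 1) 1 from rfl, monomial_mul,
        monomial_mul, one_mul, one_mul]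
    have hmeas : ∀ a b : Idx d n, wt i.1 < wt a.1 → wt a.1 + wt b.1 = wt i.1 + wt j.1 →
        monomial (u0 + (Finsupp.single a 1 + Finsupp.single b 1)) (1 : K) ∈
          W K (d := d) (n := n) := by
      intro a b hwa hwab
      apply ih
      have hd1 : deg (u0 + (Finsupp.single a 1 + Finsupp.single b 1)) =
          deg (u0 + (Finsupp.single i 1 + Finsupp.single j 1)) := by
        simp only [deg_add, deg_single]
      have hP1 : Phi (u0 + (Finsupp.single a 1 + Finsupp.single b 1)) =
          Phi u0 + (wt a.1 ^ 2 + wt b.1 ^ 2) := by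
        simp only [Phi_add, Phi_single]
      have hP2 : Phi (u0 + (Finsupp.single i 1 + Finsupp.single j 1)) =
          Phi u0 + (wt i.1 ^ 2 + wt j.1 ^ 2) := by
        simp only [Phi_add, Phi_single]
      have hlt := sq_add_sq_lt hwa hwab hw
      have hb := Phi_le (u0 + (Finsupp.single a 1 + Finsupp.single b 1))
      rw [hd1] at hb ⊢
      omega
    rw [hmon, rel_eq i j r K, ← mul_assoc, mul_comm (monomial u0 (1 : K)), mul_assoc]
    apply neg_one_pow_mul_mem
    rw [mul_sub, Finset.mul_sum]
    apply Submodule.sub_mem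
    · apply mem_W_of_mem_ideal
      apply Ideal.mul_mem_left
      exact Ideal.subset_span ⟨i, j, r, hp, rfl⟩
    · apply Submodule.sum_mem
      intro S hS
      have hSne : S ≠ S0 r := (Finset.mem_erase.1 hS).1
      rcases term_cases i j r K hp S hSne with h0 | ⟨a, b, hab, hwa, hwab⟩
      · rw [h0, mul_zero]
        exact Submodule.zero_mem _
      · rcases hab with h | h
        · rw [h, ← hmon]
          exact hmeas a b hwa hwab
        · rw [h, mul_neg, ← hmon]
          exact Submodule.neg_mem _ (hmeas a b hwa hwab)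

theorem W_eq_top : W K (d := d) (n := n) = ⊤ := by
  rw [eq_top_iff]
  intro f _
  rw [f.as_sum]
  apply Submodule.sum_mem
  intro u _
  have h : monomial u (coeff u f) = coeff u f • monomial u (1 : K) := by
    rw [smul_monomial, smul_eq_mul, mul_one]
  rw [h]
  exact Submodule.smul_mem _ _ (monomial_mem_W K _ u (Nat.lt_succ_self _))

end Main

end Groth.Agent.Straight9
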