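import Mathlib
import Groth.Agent.Lib.Straight2_helper9

/-!
# Straightening: standard monomials as chains
-/

set_option autoImplicit false

universe u

namespace Groth.Agent.Straight9

open W4bk4grassmannian MvPolynomial Function Finset

variable {d n : ℕ}

lemma deg_eq_zero {u : Idx d n →₀ ℕ} (h : deg u = 0) : u = 0 := by
  unfold deg Finsupp.sum at h
  rw [Finset.sum_eq_zero_iff] at h
  ext θ
  by_cases hθ : θ ∈ u.support
  · exact h θ hθ
  · exact Finsupp.notMem_support_iff.1 hθ

variable (K : Type u) [CommRing K]

theorem exists_chain : ∀ (N : ℕ) (u : Idx d n →₀ ℕ), deg u = N → IsChainSupp u →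
    ∃ (m : ℕ) (c : Fin m → Idx d n), Antitone c ∧ chainMon K c = monomial u 1 ∧
      ∀ k, c k ∈ u.support := by
  intro N
  induction N with
  | zero =>
    intro u hu _
    have h0 := deg_eq_zero hu
    subst h0
    refine ⟨0, Fin.elim0, fun a => a.elim0, ?_, fun k => k.elim0⟩
    unfold chainMon
    rw [Finset.univ_eq_empty, Finset.prod_empty]
    rfl
  | succ N ih =>
    intro u hu hc
    have hne : u.support.Nonempty := by
      rw [Finset.nonempty_iff_ne_empty, Ne, Finsupp.support_eq_empty]
      rintro rfl
      simp [deg] at hu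
    obtain ⟨θ, hθ, hmax⟩ := Finset.exists_max_image u.support (fun θ => wt θ.1) hne
    have htop : ∀ φ ∈ u.support, φ ≤ θ := by
      intro φ hφ
      rcases hc θ hθ φ hφ with h | h
      · rcases h.eq_or_lt with h' | h'
        · rw [h']
        · exact absurd (wt_lt_of_lt h') (not_lt.2 (hmax φ hφ))
      · exact h
    have hle : Finsupp.single θ 1 ≤ u := by
      rw [Finsupp.le_def]
      intro φ
      rw [Finsupp.single_apply]
      split_ifs with e
      · subst e
        exact Nat.one_le_iff_ne_zero.2 (Finsupp.mem_support_iff.1 hθ)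
      · exact Nat.zero_le _
    obtain ⟨u', hu'⟩ : ∃ u', u = u' + Finsupp.single θ 1 :=
      ⟨_, (tsub_add_cancel_of_le hle).symm⟩
    have hsub : u'.support ⊆ u.support := by
      rw [hu']
      intro φ hφ
      rw [Finsupp.mem_support_iff] at hφ ⊢
      rw [Finsupp.add_apply]
      omega
    have hdeg : deg u' = N := by
      rw [hu', deg_add, deg_single] at hu
      omega
    have hc' : IsChainSupp u' := fun a ha b hb => hc a (hsub ha) b (hsub hb)
    obtain ⟨m, c', hanti, hmon, hmem⟩ := ih u' hdeg hc'
    refine ⟨m + 1, Fin.cons θ c', ?_, ?_, ?_⟩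
    · intro a b hab
      induction a using Fin.cases with
      | zero =>
        induction b using Fin.cases with
        | zero => exact le_refl _
        | succ b' =>
          rw [Fin.cons_zero, Fin.cons_succ]
          exact htop _ (hsub (hmem b'))
      | succ a' =>
        induction b using Fin.cases with
        | zero => exact absurd hab (not_le.2 (Fin.succ_pos a'))
        | succ b' =>
          rw [Fin.cons_succ, Fin.cons_succ]
          exact hanti (Fin.succ_le_succ_iff.1 hab)
    · have h := hmon
      unfold chainMon at h ⊢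
      rw [Fin.prod_univ_succ, Fin.cons_zero]
      simp only [Fin.cons_succ]
      rw [h, hu', show (X θ : PlRing K d n) = monomial (Finsupp.single θ 1) 1 from rfl,
        monomial_mul, one_mul, add_comm]
    · intro k
      induction k using Fin.cases with
      | zero =>
        rw [Fin.cons_zero]
        exact hθ
      | succ k' =>
        rw [Fin.cons_succ]
        exact hsub (hmem k')

theorem span_chainMon :
    Submodule.span K (Set.range fun c : (Σ m : ℕ, {c : Fin m → Idx d n // Antitone c}) =>
        Ideal.Quotient.mk (plIdealTop (d := d) (n := n) K) (chainMon K c.2.1)) = ⊤ := by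
  rw [eq_top_iff]
  rintro x -
  obtain ⟨f, rfl⟩ := Ideal.Quotient.mk_surjective x
  have hf : f ∈ W K (d := d) (n := n) := by
    rw [W_eq_top]
    trivial
  obtain ⟨g, hg, h, hh, rfl⟩ := Submodule.mem_sup.1 hf
  have hh' : h ∈ plIdealTop (d := d) (n := n) K := hh
  rw [map_add, Ideal.Quotient.eq_zero_iff_mem.2 hh', add_zero]
  rw [g.as_sum, map_sum]
  apply Submodule.sum_mem
  intro u hu
  have hchain : IsChainSupp u := hg (Finset.mem_coe.2 hu)
  obtain ⟨m, c, hanti, hmon, -⟩ := exists_chain K _ u rfl hchain
  have h1 : monomial u (coeff u g) = coeff u g • chainMon K c := by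
    rw [hmon, smul_monomial, smul_eq_mul, mul_one]
  have h2 : Ideal.Quotient.mk (plIdealTop (d := d) (n := n) K) (coeff u g • chainMon K c) =
      coeff u g • Ideal.Quotient.mk (plIdealTop (d := d) (n := n) K) (chainMon K c) :=
    map_smul (Ideal.Quotient.mkₐ K (plIdealTop (d := d) (n := n) K)) (coeff u g) (chainMon K c)
  rw [h1, h2]
  apply Submodule.smul_mem
  apply Submodule.subset_span
  exact ⟨⟨m, ⟨c, hanti⟩⟩, rfl⟩

end Groth.Agent.Straight9
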