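import Mathlib
import Groth.Agent.Lib.SMTIndep2_helper9
import Groth.Agent.Lib.Straight3_helper9

/-!
# Standard monomials on a Schubert variety: linear independence
-/

set_option autoImplicit false

universe u

namespace Groth.Agent.SMTIndep9

open W4bk4grassmannian MvPolynomial Function Finset
open scoped MonomialOrder
open Groth.Agent.Straight9 (IsChainSupp deg deg_add deg_single deg_eq_zero wt wt_lt_of_lt)

variable {d n : ℕ}

/-- Leading exponent of a standard monomial. -/
noncomputable def Eexp (u : Idx d n →₀ ℕ) : Var d n →₀ ℕ := u.sum fun θ k => k • mexp θ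

lemma Eexp_add (u v : Idx d n →₀ ℕ) : Eexp (u + v) = Eexp u + Eexp v :=
  Finsupp.sum_add_index' (fun _ => zero_smul _ _) (fun _ _ _ => add_smul _ _ _)

lemma Eexp_single (θ : Idx d n) : Eexp (Finsupp.single θ 1) = mexp θ := by
  unfold Eexp
  rw [Finsupp.sum_single_index (h := fun (θ : Idx d n) (k : ℕ) => k • mexp θ) (zero_smul _ _), one_smul]

lemma Eexp_apply (u : Idx d n →₀ ℕ) (i : Fin n) (t : Fin d) :
    Eexp u (toLex (i, t)) = ∑ θ ∈ u.support, if θ.1 t = i then u θ else 0 := by
  unfold Eexp Finsupp.sum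
  rw [Finsupp.finsetSum_apply]
  apply Finset.sum_congr rfl
  intro θ _
  rw [Finsupp.smul_apply, mexp_apply, smul_eq_mul]
  split_ifs <;> simp

lemma exists_top {u : Idx d n →₀ ℕ} (hc : IsChainSupp u) (hu : u ≠ 0) :
    ∃ θ ∈ u.support, ∀ φ ∈ u.support, φ ≤ θ := by
  have hne : u.support.Nonempty := by
    rwa [Finset.nonempty_iff_ne_empty, Ne, Finsupp.support_eq_empty]
  obtain ⟨θ, hθ, hmax⟩ := Finset.exists_max_image u.support (fun θ => wt θ.1) hne
  refine ⟨θ, hθ, fun φ hφ => ?_⟩
  rcases hc θ hθ φ hφ with h | h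
  · rcases h.eq_or_lt with h' | h'
    · rw [h']
    · exact absurd (wt_lt_of_lt h') (not_lt.2 (hmax φ hφ))
  · exact h

lemma top_le_of_Eexp {u u' : Idx d n →₀ ℕ} (hE : Eexp u = Eexp u') {θ θ' : Idx d n}
    (hθ : θ ∈ u.support) (htop' : ∀ φ ∈ u'.support, φ ≤ θ') : θ ≤ θ' := by
  intro t
  have h1 : Eexp u (toLex (θ.1 t, t)) ≠ 0 := by
    rw [Eexp_apply]
    apply ne_of_gt
    calc 0 < u θ := Nat.pos_of_ne_zero (Finsupp.mem_support_iff.1 hθ)
      _ = if θ.1 t = θ.1 t then u θ else 0 := by rw [if_pos rfl]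
      _ ≤ _ := Finset.single_le_sum (f := fun φ : Idx d n => if φ.1 t = θ.1 t then u φ else 0)
        (fun _ _ => Nat.zero_le _) hθ
  rw [hE, Eexp_apply] at h1
  obtain ⟨φ, hφ, hφne⟩ := Finset.exists_ne_zero_of_sum_ne_zero h1
  have hφt : φ.1 t = θ.1 t := by
    by_contra hne
    exact hφne (if_neg hne)
  rw [← hφt]
  exact htop' φ hφ t

lemma deg_eq_sum_Eexp (u : Idx d n →₀ ℕ) (t0 : Fin d) :
    deg u = ∑ i : Fin n, Eexp u (toLex (i, t0)) := by
  simp_rw [Eexp_apply]
  rw [Finset.sum_comm]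
  unfold deg Finsupp.sum
  apply Finset.sum_congr rfl
  intro θ _
  rw [Finset.sum_ite_eq]
  simp

lemma single_le {u : Idx d n →₀ ℕ} {θ : Idx d n} (hθ : θ ∈ u.support) :
    Finsupp.single θ 1 ≤ u := by
  rw [Finsupp.le_def]
  intro φ
  rw [Finsupp.single_apply]
  split_ifs with e
  · subst e
    exact Nat.one_le_iff_ne_zero.2 (Finsupp.mem_support_iff.1 hθ)
  · exact Nat.zero_le _

lemma chain_of_add {v : Idx d n →₀ ℕ} {θ : Idx d n} (hc : IsChainSupp (v + Finsupp.single θ 1)) :
    IsChainSupp v := by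
  have hsub : v.support ⊆ (v + Finsupp.single θ 1).support := by
    intro φ hφ
    rw [Finsupp.mem_support_iff] at hφ ⊢
    rw [Finsupp.add_apply]
    omega
  exact fun a ha b hb => hc a (hsub ha) b (hsub hb)

theorem Eexp_injective (hd : 0 < d) : ∀ (N : ℕ) (u u' : Idx d n →₀ ℕ), deg u = N →
    IsChainSupp u → IsChainSupp u' → Eexp u = Eexp u' → u = u' := by
  intro N
  induction N with
  | zero =>
    intro u u' hu hc hc' hE
    have h0 := deg_eq_zero hu
    have hdeg' : deg u' = 0 := by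
      rw [deg_eq_sum_Eexp u' ⟨0, hd⟩, ← hE, ← deg_eq_sum_Eexp, hu]
    rw [h0, deg_eq_zero hdeg']
  | succ N ih =>
    intro u u' hu hc hc' hE
    have hdeg' : deg u' = N + 1 := by
      rw [deg_eq_sum_Eexp u' ⟨0, hd⟩, ← hE, ← deg_eq_sum_Eexp, hu]
    have hu0 : u ≠ 0 := by
      rintro rfl
      simp [deg] at hu
    have hu0' : u' ≠ 0 := by
      rintro rfl
      simp [deg] at hdeg'
    obtain ⟨θ, hθ, htop⟩ := exists_top hc hu0
    obtain ⟨θ', hθ', htop'⟩ := exists_top hc' hu0'
    have hθθ : θ = θ' :=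
      le_antisymm (top_le_of_Eexp hE hθ htop') (top_le_of_Eexp hE.symm hθ' htop)
    subst hθθ
    obtain ⟨v, hv⟩ : ∃ v, u = v + Finsupp.single θ 1 :=
      ⟨_, (tsub_add_cancel_of_le (single_le hθ)).symm⟩
    obtain ⟨v', hv'⟩ : ∃ v', u' = v' + Finsupp.single θ 1 :=
      ⟨_, (tsub_add_cancel_of_le (single_le hθ')).symm⟩
    subst hv
    subst hv'
    have hvv : v = v' := by
      apply ih v v'
      · rw [deg_add, deg_single] at hu
        omega
      · exact chain_of_add hc
      · exact chain_of_add hc'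
      · rw [Eexp_add, Eexp_add] at hE
        exact add_right_cancel hE
    rw [hvv]

variable (K : Type u) [Field K]

lemma rho_monomial (w : Idx d n) (u : Idx d n →₀ ℕ) : rho K w (monomial u 1) =
    ∏ θ ∈ u.support, (((echMatrix K w).submatrix θ.1 id).det) ^ (u θ) := by
  unfold rho
  rw [aeval_monomial, map_one, one_mul]
  rfl

theorem rho_monomial_monic (w : Idx d n) (u : Idx d n →₀ ℕ) (hw : ∀ θ ∈ u.support, θ ≤ w) :
    (ord d n).Monic (rho K w (monomial u 1)) ∧
      (ord d n).degree (rho K w (monomial u 1)) = Eexp u := by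
  rw [rho_monomial]
  constructor
  · apply MonomialOrder.Monic.prod
    intro θ hθ
    exact (minor_monic K w θ (hw θ hθ)).1.pow
  · rw [MonomialOrder.degree_prod]
    · unfold Eexp Finsupp.sum
      apply Finset.sum_congr rfl
      intro θ hθ
      rw [MonomialOrder.degree_pow, (minor_monic K w θ (hw θ hθ)).2]
    · intro θ hθ
      exact pow_ne_zero _ (minor_monic K w θ (hw θ hθ)).1.ne_zero

/-- Standard monomials on `X(w)` are linearly independent modulo the vanishing ideal. -/
theorem indep [Infinite K] (hd : 0 < d) (w : Idx d n) (f : PlRing K d n)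
    (hstd : ∀ u ∈ f.support, IsChainSupp u ∧ ∀ θ ∈ u.support, θ ≤ w)
    (hf : f ∈ schubertVanishing K d n w) : f = 0 := by
  by_contra hne
  have hρ := rho_eq_zero_of_mem K w f hf
  have hsupp : f.support.Nonempty := by
    rwa [Finset.nonempty_iff_ne_empty, Ne, MvPolynomial.support_eq_empty]
  obtain ⟨u0, hu0, hmax⟩ :=
    Finset.exists_max_image f.support (fun u => (ord d n).toSyn (Eexp u)) hsupp
  have hmon : ∀ u : Idx d n →₀ ℕ, rho K w (monomial u (coeff u f)) =
      coeff u f • rho K w (monomial u (1 : K)) := by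
    intro u
    rw [← map_smul, smul_monomial, smul_eq_mul, mul_one]
  have hsum : rho K w f = ∑ u ∈ f.support, coeff u f • rho K w (monomial u (1 : K)) := by
    conv_lhs => rw [f.as_sum]
    rw [map_sum]
    exact Finset.sum_congr rfl (fun u _ => hmon u)
  have hcoeff : coeff (Eexp u0) (rho K w f) = coeff u0 f := by
    rw [hsum, coeff_sum, Finset.sum_eq_single u0]
    · obtain ⟨hm, hdg⟩ := rho_monomial_monic K w u0 (hstd u0 hu0).2
      have h1 := hm.coeff_degree
      rw [hdg] at h1
      rw [coeff_smul, h1, smul_eq_mul, mul_one]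
    · intro u hu hne'
      obtain ⟨hm, hdg⟩ := rho_monomial_monic K w u (hstd u hu).2
      rw [coeff_smul, MonomialOrder.coeff_eq_zero_of_lt (m := ord d n), smul_zero]
      rw [hdg]
      apply lt_of_le_of_ne (hmax u hu)
      intro heq
      apply hne'
      exact Eexp_injective hd _ u u0 rfl (hstd u hu).1 (hstd u0 hu0).1
        ((ord d n).toSyn.injective heq)
    · intro h
      exact absurd hu0 h
  rw [hρ, coeff_zero] at hcoeff
  exact (MvPolynomial.mem_support_iff.1 hu0) hcoeff.symm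

end Groth.Agent.SMTIndep9
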