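import Mathlib
import Groth.Agent.Lib.SMTIndep3_helper9
import Groth.Agent.Lib.PluckRel2_helper9

/-!
# Standard monomial theory for Schubert varieties in the Grassmannian: consequences
-/

set_option autoImplicit false

universe u

namespace Groth.Agent.SMT9

open W4bk4grassmannian MvPolynomial Function Finset
open Groth.Agent.Straight9 (IsChainSupp)

variable {d n : ℕ}

section Split

variable {K : Type u} [CommRing K]

lemma exists_split {σ : Type*} (g : MvPolynomial σ K) (P : (σ →₀ ℕ) → Prop) :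
    ∃ g1 g2 : MvPolynomial σ K, g = g1 + g2 ∧ (∀ u ∈ g1.support, u ∈ g.support ∧ P u) ∧
      (∀ u ∈ g2.support, u ∈ g.support ∧ ¬ P u) := by
  classical
  refine ⟨∑ u ∈ g.support.filter P, monomial u (coeff u g),
    ∑ u ∈ g.support.filter (fun u => ¬ P u), monomial u (coeff u g), ?_, ?_, ?_⟩
  · rw [Finset.sum_filter_add_sum_filter_not]
    exact g.as_sum
  · intro u hu
    obtain ⟨v, hv, huv⟩ := Finset.mem_biUnion.1 (MvPolynomial.support_sum hu)
    have huv' : u = v := Finset.mem_singleton.1 (MvPolynomial.support_monomial_subset huv)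
    subst huv'
    exact ⟨(Finset.mem_filter.1 hv).1, (Finset.mem_filter.1 hv).2⟩
  · intro u hu
    obtain ⟨v, hv, huv⟩ := Finset.mem_biUnion.1 (MvPolynomial.support_sum hu)
    have huv' : u = v := Finset.mem_singleton.1 (MvPolynomial.support_monomial_subset huv)
    subst huv'
    exact ⟨(Finset.mem_filter.1 hv).1, (Finset.mem_filter.1 hv).2⟩

lemma monomial_mem_of_X_mem (I : Ideal (PlRing K d n)) (u : Idx d n →₀ ℕ) (c : K) (θ : Idx d n)
    (hθ : θ ∈ u.support) (hX : X θ ∈ I) : monomial u c ∈ I := by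
  obtain ⟨v, hv⟩ : ∃ v, u = v + Finsupp.single θ 1 :=
    ⟨_, (tsub_add_cancel_of_le (Groth.Agent.SMTIndep9.single_le hθ)).symm⟩
  rw [hv, monomial_add_single, pow_one]
  exact Ideal.mul_mem_left _ _ hX

lemma mem_of_support (I : Ideal (PlRing K d n)) (f : PlRing K d n)
    (h : ∀ u ∈ f.support, ∃ θ ∈ u.support, X θ ∈ I) : f ∈ I := by
  rw [f.as_sum]
  apply Ideal.sum_mem
  intro u hu
  obtain ⟨θ, hθ, hX⟩ := h u hu
  exact monomial_mem_of_X_mem I u _ θ hθ hX

/-- Every polynomial is standard modulo the shuffle relations. -/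
lemma exists_std (f : PlRing K d n) : ∃ s h : PlRing K d n, f = s + h ∧
    h ∈ plIdealTop (d := d) (n := n) K ∧ ∀ u ∈ s.support, IsChainSupp u := by
  have hf : f ∈ Groth.Agent.Straight9.W K (d := d) (n := n) := by
    rw [Groth.Agent.Straight9.W_eq_top]
    trivial
  obtain ⟨s, hs, h, hh, rfl⟩ := Submodule.mem_sup.1 hf
  exact ⟨s, h, rfl, hh, fun u hu => hs (Finset.mem_coe.2 hu)⟩

end Split

variable (K : Type u) [Field K]

lemma mem_schubert_iff (τ : Idx d n) (f : PlRing K d n) : f ∈ schubertVanishing K d n τ ↔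
    ∀ A : Matrix (Fin n) (Fin d) K, (∀ φ : Idx d n, ¬ φ ≤ τ → (A.submatrix φ.1 id).det = 0) →
      evalMinors K d n A f = 0 := by
  unfold schubertVanishing
  constructor
  · intro hf A hA
    rw [Ideal.mem_iInf] at hf
    have h1 := hf A
    rw [Ideal.mem_iInf] at h1
    exact RingHom.mem_ker.1 (h1 hA)
  · intro h
    rw [Ideal.mem_iInf]
    intro A
    rw [Ideal.mem_iInf]
    intro hA
    exact RingHom.mem_ker.2 (h A hA)

lemma plIdealTop_le (τ : Idx d n) : plIdealTop (d := d) (n := n) K ≤ schubertVanishing K d n τ := by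
  unfold plIdealTop
  rw [Ideal.span_le]
  rintro _ ⟨i, j, r, -, rfl⟩
  rw [SetLike.mem_coe, mem_schubert_iff]
  intro A _
  exact Groth.Agent.PluckRel9.evalMinors_shuffleRel A i j r

lemma X_mem (τ φ : Idx d n) (hφ : ¬ φ ≤ τ) : (X φ : PlRing K d n) ∈ schubertVanishing K d n τ := by
  rw [mem_schubert_iff]
  intro A hA
  unfold evalMinors
  rw [aeval_X]
  exact hA φ hφ

lemma schubert_antitone {τ τ' : Idx d n} (h : τ ≤ τ') :
    schubertVanishing K d n τ' ≤ schubertVanishing K d n τ := by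
  intro f hf
  rw [mem_schubert_iff] at hf ⊢
  intro A hA
  exact hf A (fun φ hφ => hA φ (fun hle => hφ (le_trans hle h)))

lemma plIdeal_le (τ : Idx d n) : plIdeal K τ ≤ schubertVanishing K d n τ := by
  unfold plIdeal
  rw [Ideal.span_le]
  rintro f (⟨i, j, r, hp, rfl⟩ | ⟨φ, hφ, rfl⟩)
  · exact plIdealTop_le K τ (Ideal.subset_span ⟨i, j, r, hp, rfl⟩)
  · exact X_mem K τ φ hφ

lemma schubert_isRadical (τ : Idx d n) : (schubertVanishing K d n τ).IsRadical := by
  intro f hf
  obtain ⟨m, hm⟩ := hf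
  rw [mem_schubert_iff] at hm ⊢
  intro A hA
  have h1 := hm A hA
  rw [map_pow] at h1
  exact IsReduced.eq_zero _ ⟨m, h1⟩

/-- The part of a standard polynomial in `J(τ)` which is standard on `X(τ)` vanishes. -/
theorem no_std_of_mem [Infinite K] (hd : 0 < d) (τ : Idx d n) (F : PlRing K d n)
    (hF : ∀ u ∈ F.support, IsChainSupp u) (hmem : F ∈ schubertVanishing K d n τ) :
    ∀ u ∈ F.support, ∃ θ ∈ u.support, ¬ θ ≤ τ := by
  obtain ⟨F1, F2, hsum, h1, h2⟩ := exists_split F (fun u => ∀ θ ∈ u.support, θ ≤ τ)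
  have hF2 : F2 ∈ schubertVanishing K d n τ := by
    apply mem_of_support
    intro u hu
    have h3 := (h2 u hu).2
    push Not at h3
    obtain ⟨θ, hθ, hθτ⟩ := h3
    exact ⟨θ, hθ, X_mem K τ θ hθτ⟩
  have hF1 : F1 ∈ schubertVanishing K d n τ := by
    have : F1 = F - F2 := by rw [hsum]; ring
    rw [this]
    exact Ideal.sub_mem _ hmem hF2
  have hzero : F1 = 0 := Groth.Agent.SMTIndep9.indep K hd τ F1
    (fun u hu => ⟨hF u (h1 u hu).1, (h1 u hu).2⟩) hF1
  rw [hzero, zero_add] at hsum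
  intro u hu
  rw [hsum] at hu
  have h3 := (h2 u hu).2
  push Not at h3
  exact h3

end Groth.Agent.SMT9
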