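import Mathlib
import Groth.Agent.Lib.SMTMain_helper9

/-!
# First fundamental theorem for `SL_d`: the Plücker algebra is saturated with respect to `p_ι`
-/

set_option autoImplicit false

universe u

namespace Groth.Agent.FFT9

open W4bk4grassmannian MvPolynomial Function Finset
open scoped MonomialOrder
open Groth.Agent.Straight9 (IsChainSupp wt wt_lt_of_lt le_strictMono_val)
open Groth.Agent.SMTIndep9
open Groth.Agent.SMT9

variable {d n : ℕ}

/-- The top element of `I(d,n)`. -/
def wtop (hdn : d ≤ n) : Idx d n :=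
  ⟨fun t => ⟨n - d + t.val, by have := t.isLt; omega⟩, fun a b h => by
    rw [Fin.lt_def] at h ⊢
    show n - d + a.val < n - d + b.val
    omega⟩

/-- The bottom element of `I(d,n)`. -/
def iota (hdn : d ≤ n) : Idx d n :=
  ⟨fun t => ⟨t.val, lt_of_lt_of_le t.isLt hdn⟩, fun _ _ h => h⟩

lemma le_wtop (hdn : d ≤ n) (θ : Idx d n) : θ ≤ wtop hdn := by
  intro t
  rw [Fin.le_def]
  show (θ.1 t).val ≤ n - d + t.val
  have hsub : (Finset.Ici t).image θ.1 ⊆ Finset.Ici (θ.1 t) := by
    intro x hx
    obtain ⟨s, hs, rfl⟩ := Finset.mem_image.1 hx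
    exact Finset.mem_Ici.2 (θ.2.monotone (Finset.mem_Ici.1 hs))
  have hc := Finset.card_le_card hsub
  rw [Finset.card_image_of_injective _ θ.2.injective, Fin.card_Ici, Fin.card_Ici] at hc
  have := t.isLt
  have := (θ.1 t).isLt
  omega

lemma iota_le (hdn : d ≤ n) (θ : Idx d n) : iota hdn ≤ θ := by
  intro t
  rw [Fin.le_def]
  exact le_strictMono_val θ.1 θ.2 t.val t.isLt

lemma exists_bot {u : Idx d n →₀ ℕ} (hc : IsChainSupp u) (hu : u ≠ 0) :
    ∃ θ ∈ u.support, ∀ φ ∈ u.support, θ ≤ φ := by
  have hne : u.support.Nonempty := by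
    rwa [Finset.nonempty_iff_ne_empty, Ne, Finsupp.support_eq_empty]
  obtain ⟨θ, hθ, hmin⟩ := Finset.exists_min_image u.support (fun θ => wt θ.1) hne
  refine ⟨θ, hθ, fun φ hφ => ?_⟩
  rcases hc θ hθ φ hφ with h | h
  · exact h
  · rcases h.eq_or_lt with h' | h'
    · rw [h']
    · exact absurd (wt_lt_of_lt h') (not_lt.2 (hmin φ hφ))

lemma iota_mem (hdn : d ≤ n) (hd : 0 < d) {u : Idx d n →₀ ℕ} (hc : IsChainSupp u)
    (h : ∀ t : Fin d, 1 ≤ Eexp u (toLex ((iota hdn).1 t, t))) : iota hdn ∈ u.support := by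
  have hu : u ≠ 0 := by
    rintro rfl
    have h1 := h ⟨0, hd⟩
    rw [Eexp_apply] at h1
    simp at h1
  obtain ⟨θ, hθ, hbot⟩ := exists_bot hc hu
  have heq : θ = iota hdn := by
    apply le_antisymm _ (iota_le hdn θ)
    intro t
    have h1 := h t
    rw [Eexp_apply] at h1
    have h2 : (∑ φ ∈ u.support, if φ.1 t = (iota hdn).1 t then u φ else 0) ≠ 0 := by omega
    obtain ⟨φ, hφ, hφne⟩ := Finset.exists_ne_zero_of_sum_ne_zero h2
    have hφt : φ.1 t = (iota hdn).1 t := by
      by_contra hne
      exact hφne (if_neg hne)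
    rw [← hφt]
    exact hbot φ hφ t
  rw [← heq]
  exact hθ

variable (K : Type u) [Field K]

lemma eval_pluckerMap (b : Fin n × Fin d → K) (F : PlRing K d n) :
    MvPolynomial.eval b (pluckerMap K d n F) =
      evalMinors K d n (Matrix.of fun i t => b (i, t)) F := by
  have h : (MvPolynomial.eval b : _ →+* K).comp (pluckerMap K d n).toRingHom =
      (evalMinors K d n (Matrix.of fun i t => b (i, t))).toRingHom := by
    apply MvPolynomial.ringHom_ext
    · intro c
      simp only [RingHom.coe_comp, AlgHom.toRingHom_eq_coe, RingHom.coe_coe, Function.comp_apply,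
        MvPolynomial.algHom_C, MvPolynomial.eval_C, MvPolynomial.algebraMap_eq]
      rfl
    · intro θ
      simp only [RingHom.coe_comp, AlgHom.toRingHom_eq_coe, RingHom.coe_coe, Function.comp_apply]
      unfold pluckerMap evalMinors minor
      rw [aeval_X, aeval_X, RingHom.map_det]
      congr 1
      apply Matrix.ext
      intro s t
      simp only [RingHom.mapMatrix_apply, Matrix.map_apply, Matrix.of_apply,
        Matrix.submatrix_apply, id_eq, eval_X]
  exact RingHom.congr_fun h F

lemma pluckerMap_eq_zero [Infinite K] (h : PlRing K d n)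
    (hh : h ∈ plIdealTop (d := d) (n := n) K) : pluckerMap K d n h = 0 := by
  apply MvPolynomial.funext
  intro b
  rw [eval_pluckerMap, map_zero]
  have hle : plIdealTop (d := d) (n := n) K ≤
      RingHom.ker (evalMinors K d n (Matrix.of fun i t => b (i, t))).toRingHom := by
    unfold plIdealTop
    rw [Ideal.span_le]
    rintro _ ⟨i, j, r, -, rfl⟩
    exact RingHom.mem_ker.2 (Groth.Agent.PluckRel9.evalMinors_shuffleRel _ i j r)
  exact RingHom.mem_ker.1 (hle hh)

/-- Setting the entries below the `w`-echelon shape to zero. -/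
noncomputable def piTop (w : Idx d n) : MatRing K d n →ₐ[K] MvPolynomial (Var d n) K :=
  MvPolynomial.aeval fun p : Fin n × Fin d =>
    if p.1 ≤ w.1 p.2 then (X (toLex (p.1, p.2)) : MvPolynomial (Var d n) K) else 0

lemma piTop_pluckerMap (w : Idx d n) (F : PlRing K d n) :
    piTop K w (pluckerMap K d n F) = rho K w F := by
  have h : (piTop K w).comp (pluckerMap K d n) = rho K w := by
    apply MvPolynomial.algHom_ext
    intro θ
    rw [AlgHom.comp_apply]
    unfold pluckerMap rho minor
    rw [aeval_X, aeval_X, AlgHom.map_det]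
    congr 1
    apply Matrix.ext
    intro s t
    simp only [AlgHom.mapMatrix_apply, Matrix.map_apply, Matrix.of_apply,
      Matrix.submatrix_apply, id_eq, echMatrix]
    unfold piTop
    rw [aeval_X]
  exact AlgHom.congr_fun h F

theorem lead_std (hd : 0 < d) (w : Idx d n) (s : PlRing K d n)
    (hs : ∀ u ∈ s.support, IsChainSupp u ∧ ∀ θ ∈ u.support, θ ≤ w) (hne : s ≠ 0) :
    ∃ u0 ∈ s.support, rho K w s ≠ 0 ∧ (ord d n).degree (rho K w s) = Eexp u0 := by
  have hsupp : s.support.Nonempty := by
    rwa [Finset.nonempty_iff_ne_empty, Ne, MvPolynomial.support_eq_empty]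
  obtain ⟨u0, hu0, hmax⟩ :=
    Finset.exists_max_image s.support (fun u => (ord d n).toSyn (Eexp u)) hsupp
  have hmon : ∀ u : Idx d n →₀ ℕ, rho K w (monomial u (coeff u s)) =
      coeff u s • rho K w (monomial u (1 : K)) := by
    intro u
    rw [← map_smul, smul_monomial, smul_eq_mul, mul_one]
  have hsum : rho K w s = ∑ u ∈ s.support, coeff u s • rho K w (monomial u (1 : K)) := by
    conv_lhs => rw [s.as_sum]
    rw [map_sum]
    exact Finset.sum_congr rfl (fun u _ => hmon u)
  have hcoeff : coeff (Eexp u0) (rho K w s) = coeff u0 s := by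
    rw [hsum, coeff_sum, Finset.sum_eq_single u0]
    · obtain ⟨hm, hdg⟩ := rho_monomial_monic K w u0 (hs u0 hu0).2
      have h1 := hm.coeff_degree
      rw [hdg] at h1
      rw [coeff_smul, h1, smul_eq_mul, mul_one]
    · intro u hu hne'
      obtain ⟨hm, hdg⟩ := rho_monomial_monic K w u (hs u hu).2
      rw [coeff_smul, MonomialOrder.coeff_eq_zero_of_lt (m := ord d n), smul_zero]
      rw [hdg]
      apply lt_of_le_of_ne (hmax u hu)
      intro heq
      apply hne'
      exact Eexp_injective hd _ u u0 rfl (hs u hu).1 (hs u0 hu0).1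
        ((ord d n).toSyn.injective heq)
    · intro h
      exact absurd hu0 h
  have hne0 : coeff (Eexp u0) (rho K w s) ≠ 0 := by
    rw [hcoeff]
    exact MvPolynomial.mem_support_iff.1 hu0
  refine ⟨u0, hu0, fun h => hne0 (by rw [h, coeff_zero]), ?_⟩
  apply (ord d n).toSyn.injective
  apply le_antisymm
  · rw [hsum]
    refine le_trans MonomialOrder.degree_sum_le ?_
    apply Finset.sup_le
    intro u hu
    refine le_trans MonomialOrder.degree_smul_le ?_
    rw [(rho_monomial_monic K w u (hs u hu).2).2]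
    exact hmax u hu
  · exact MonomialOrder.le_degree (MvPolynomial.mem_support_iff.2 hne0)

lemma minor_iota_ne_zero (hdn : d ≤ n) : minor K d n (iota hdn).1 ≠ 0 := by
  intro h
  have h1 : piTop K (wtop hdn) (pluckerMap K d n (X (iota hdn))) = 0 := by
    unfold pluckerMap
    rw [aeval_X, h, map_zero]
  rw [piTop_pluckerMap, rho_X] at h1
  exact (minor_monic K (wtop hdn) (iota hdn) (le_wtop hdn _)).1.ne_zero h1

/-- The Plücker algebra is saturated with respect to the bottom Plücker coordinate. -/
theorem mem_range_of_mul_mem [Infinite K] (hd : 0 < d) (hdn : d ≤ n) (q : MatRing K d n)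
    (h : minor K d n (iota hdn).1 * q ∈ (pluckerMap K d n).range) :
    q ∈ (pluckerMap K d n).range := by
  obtain ⟨F, hF⟩ := h
  replace hF : pluckerMap K d n F = minor K d n (iota hdn).1 * q := hF
  obtain ⟨s, h', rfl, hh, hs⟩ := exists_std F
  rw [map_add, pluckerMap_eq_zero K h' hh, add_zero] at hF
  obtain ⟨a, s', hsum, ha, hs'⟩ := exists_split s (fun u => iota hdn ∈ u.support)
  have haX : a ∈ Ideal.span {(X (iota hdn) : PlRing K d n)} :=
    mem_of_support _ a (fun u hu => ⟨iota hdn, (ha u hu).2, Ideal.subset_span rfl⟩)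
  obtain ⟨a'', ha''⟩ := Ideal.mem_span_singleton'.1 haX
  have hp : pluckerMap K d n (X (iota hdn)) = minor K d n (iota hdn).1 := by
    unfold pluckerMap
    rw [aeval_X]
  have hs'eq : pluckerMap K d n s' =
      minor K d n (iota hdn).1 * (q - pluckerMap K d n a'') := by
    have h1 : pluckerMap K d n s = pluckerMap K d n a + pluckerMap K d n s' := by
      rw [hsum, map_add]
    rw [← ha'', map_mul, hp] at h1
    rw [mul_sub, ← hF, h1]
    ring
  have hs'zero : s' = 0 := by
    by_contra hne
    have hstd : ∀ u ∈ s'.support, IsChainSupp u ∧ ∀ θ ∈ u.support, θ ≤ wtop hdn :=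
      fun u hu => ⟨hs u (hs' u hu).1, fun θ _ => le_wtop hdn θ⟩
    obtain ⟨u0, hu0, hρne, hdeg⟩ := lead_std K hd (wtop hdn) s' hstd hne
    have h2 : rho K (wtop hdn) s' =
        rho K (wtop hdn) (X (iota hdn)) * piTop K (wtop hdn) (q - pluckerMap K d n a'') := by
      rw [← piTop_pluckerMap, hs'eq, map_mul, ← hp, piTop_pluckerMap]
    have hq'ne : piTop K (wtop hdn) (q - pluckerMap K d n a'') ≠ 0 := by
      intro h0
      rw [h0, mul_zero] at h2
      exact hρne h2
    have hm := minor_monic K (wtop hdn) (iota hdn) (le_wtop hdn _)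
    rw [← rho_X] at hm
    have hdeg2 : (ord d n).degree (rho K (wtop hdn) s') = mexp (iota hdn) +
        (ord d n).degree (piTop K (wtop hdn) (q - pluckerMap K d n a'')) := by
      rw [h2, MonomialOrder.degree_mul hm.1.ne_zero hq'ne, hm.2]
    apply (hs' u0 hu0).2
    apply iota_mem hdn hd (hs u0 (hs' u0 hu0).1)
    intro t
    rw [← hdeg, hdeg2, Finsupp.add_apply, mexp_apply, if_pos rfl]
    exact Nat.le_add_right _ _
  rw [hs'zero, map_zero] at hs'eq
  have hq : q - pluckerMap K d n a'' = 0 := by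
    rcases mul_eq_zero.1 hs'eq.symm with h0 | h0
    · exact absurd h0 (minor_iota_ne_zero K hdn)
    · exact h0
  exact ⟨a'', (sub_eq_zero.1 hq).symm⟩

end Groth.Agent.FFT9
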