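import Mathlib
import Groth.Agent.Lib.FFT1_helper9

/-!
# The bottom Plücker coordinate is prime on every Schubert cone

We restrict Plücker polynomials to matrices whose `t`-th column is supported on the rows
`[v_t, w_t]`; for `v` the unique cover of the bottom element the kernel is `J(w) + (X_ι)`.
-/

set_option autoImplicit false

universe u

namespace Groth.Agent.Rich9

open W4bk4grassmannian MvPolynomial Function Finset
open scoped MonomialOrder
open Groth.Agent.Straight9 (IsChainSupp le_strictMono_val)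
open Groth.Agent.SMTIndep9
open Groth.Agent.SMT9
open Groth.Agent.FFT9

variable {d n : ℕ}

/-- The unique cover of the bottom element. -/
def iota' (hdn : d < n) : Idx d n :=
  ⟨fun t => ⟨if t.val + 1 = d then d else t.val, by
      have := t.isLt
      split_ifs <;> omega⟩, fun a b h => by
    rw [Fin.lt_def] at h ⊢
    show (if a.val + 1 = d then d else a.val) < (if b.val + 1 = d then d else b.val)
    have := a.isLt
    have := b.isLt
    split_ifs <;> omega⟩

lemma val_add_le (f : Fin d → Fin n) (hf : StrictMono f) (a : Fin d) :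
    ∀ (k : ℕ) (b : Fin d), b.val = a.val + k → (f a).val + k ≤ (f b).val := by
  intro k
  induction k with
  | zero =>
    intro b hb
    have hba : b = a := Fin.ext (by omega)
    rw [hba]
    omega
  | succ k ih =>
    intro b hb
    have hb' : a.val + k < d := by
      have := b.isLt
      omega
    have h1 := ih ⟨a.val + k, hb'⟩ rfl
    have h2 : f ⟨a.val + k, hb'⟩ < f b := hf (Fin.lt_def.2 (by
      show a.val + k < b.val
      omega))
    rw [Fin.lt_def] at h2
    omega

lemma iota'_le (hdn : d < n) (θ : Idx d n) (hne : θ ≠ iota hdn.le) : iota' hdn ≤ θ := by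
  have hex : ∃ t0 : Fin d, (θ.1 t0).val ≠ t0.val := by
    by_contra hall
    push Not at hall
    apply hne
    apply Subtype.ext
    funext t
    exact Fin.ext (hall t)
  obtain ⟨t0, ht0⟩ := hex
  have h0 : t0.val ≤ (θ.1 t0).val := le_strictMono_val θ.1 θ.2 t0.val t0.isLt
  intro t
  rw [Fin.le_def]
  show (if t.val + 1 = d then d else t.val) ≤ (θ.1 t).val
  have h1 : t.val ≤ (θ.1 t).val := le_strictMono_val θ.1 θ.2 t.val t.isLt
  split_ifs with hlast
  · have ht0t : t0.val ≤ t.val := by
      have := t0.isLt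
      omega
    have h2 := val_add_le θ.1 θ.2 t0 (t.val - t0.val) t (by omega)
    have h3 : t0.val < (θ.1 t0).val := lt_of_le_of_ne h0 (Ne.symm ht0)
    omega
  · exact h1

variable (K : Type u) [Field K]

/-- The generic matrix whose `t`-th column is supported on the rows `[v_t, w_t]`. -/
noncomputable def richMatrix (v w : Idx d n) :
    Matrix (Fin n) (Fin d) (MvPolynomial (Var d n) K) :=
  Matrix.of fun i t => if v.1 t ≤ i ∧ i ≤ w.1 t then X (toLex (i, t)) else 0

/-- Restriction of Plücker polynomials to the matrices of shape `[v, w]`. -/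
noncomputable def rhoR (v w : Idx d n) : PlRing K d n →ₐ[K] MvPolynomial (Var d n) K :=
  MvPolynomial.aeval fun θ : Idx d n => ((richMatrix K v w).submatrix θ.1 id).det

lemma rhoR_X (v w θ : Idx d n) :
    rhoR K v w (X θ) = ((richMatrix K v w).submatrix θ.1 id).det := by
  unfold rhoR
  rw [aeval_X]

lemma rhoR_eq_zero_of_mem [Infinite K] (v w : Idx d n) (f : PlRing K d n)
    (hf : f ∈ schubertVanishing K d n w) : rhoR K v w f = 0 := by
  apply MvPolynomial.funext
  intro b
  rw [map_zero]
  obtain ⟨B, hBdef⟩ : ∃ B : Matrix (Fin n) (Fin d) K,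
      B = Matrix.of fun i t => if v.1 t ≤ i ∧ i ≤ w.1 t then b (toLex (i, t)) else 0 := ⟨_, rfl⟩
  have hcomp : (MvPolynomial.eval b : _ →+* K).comp (rhoR K v w).toRingHom =
      (evalMinors K d n B).toRingHom := by
    apply MvPolynomial.ringHom_ext
    · intro c
      simp only [RingHom.coe_comp, AlgHom.toRingHom_eq_coe, RingHom.coe_coe, Function.comp_apply,
        MvPolynomial.algHom_C, MvPolynomial.eval_C, MvPolynomial.algebraMap_eq]
      rfl
    · intro θ
      simp only [RingHom.coe_comp, AlgHom.toRingHom_eq_coe, RingHom.coe_coe, Function.comp_apply]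
      rw [rhoR_X]
      unfold evalMinors
      rw [aeval_X, RingHom.map_det]
      congr 1
      apply Matrix.ext
      intro s t
      rw [hBdef]
      simp only [RingHom.mapMatrix_apply, Matrix.map_apply, Matrix.submatrix_apply, richMatrix,
        Matrix.of_apply, id_eq]
      split_ifs
      · rw [MvPolynomial.eval_X]
      · rw [map_zero]
  have hval : MvPolynomial.eval b (rhoR K v w f) = evalMinors K d n B f :=
    RingHom.congr_fun hcomp f
  rw [hval]
  unfold schubertVanishing at hf
  rw [Ideal.mem_iInf] at hf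
  have h1 := hf B
  rw [Ideal.mem_iInf] at h1
  refine RingHom.mem_ker.1 (h1 (fun φ hφ => det_eq_zero_of_not_le w φ hφ B (fun i t hit => ?_)))
  rw [hBdef, Matrix.of_apply, if_neg]
  exact fun h => absurd h.2 (not_le.2 hit)

lemma rhoR_iota (hd : 0 < d) (hdn : d < n) (w : Idx d n) :
    rhoR K (iota' hdn) w (X (iota hdn.le)) = 0 := by
  rw [rhoR_X]
  apply Matrix.det_eq_zero_of_column_eq_zero (⟨d - 1, by omega⟩ : Fin d)
  intro s
  simp only [Matrix.submatrix_apply, richMatrix, Matrix.of_apply, id_eq]
  rw [if_neg]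
  rintro ⟨h1, -⟩
  rw [Fin.le_def] at h1
  have h2 : ((iota' hdn).1 (⟨d - 1, by omega⟩ : Fin d)).val = d := by
    show (if d - 1 + 1 = d then d else d - 1) = d
    rw [if_pos (by omega)]
  have h3 : ((iota hdn.le).1 s).val = s.val := rfl
  have := s.isLt
  omega

lemma prod_rich (v w θ : Idx d n) (σ : Equiv.Perm (Fin d)) :
    ∏ t, ((richMatrix K v w).submatrix θ.1 id) (σ t) t =
      monomial (eperm θ σ)
        (if ∀ t, v.1 t ≤ θ.1 (σ t) ∧ θ.1 (σ t) ≤ w.1 t then (1 : K) else 0) := by
  by_cases hall : ∀ t, v.1 t ≤ θ.1 (σ t) ∧ θ.1 (σ t) ≤ w.1 t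
  · rw [if_pos hall]
    unfold eperm
    rw [MvPolynomial.monomial_sum_one]
    apply Finset.prod_congr rfl
    intro t _
    simp only [Matrix.submatrix_apply, richMatrix, Matrix.of_apply, id_eq]
    rw [if_pos (hall t)]
    rfl
  · rw [if_neg hall, monomial_zero]
    rw [not_forall] at hall
    obtain ⟨t, ht⟩ := hall
    apply Finset.prod_eq_zero (mem_univ t)
    simp only [Matrix.submatrix_apply, richMatrix, Matrix.of_apply, id_eq]
    rw [if_neg ht]

theorem minor_monic_rich (v w θ : Idx d n) (hθ : v ≤ θ ∧ θ ≤ w) :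
    (ord d n).Monic ((richMatrix K v w).submatrix θ.1 id).det ∧
      (ord d n).degree ((richMatrix K v w).submatrix θ.1 id).det = mexp θ := by
  classical
  rw [Matrix.det_apply]
  rw [← Finset.add_sum_erase univ _ (mem_univ (1 : Equiv.Perm (Fin d)))]
  have h1 : Equiv.Perm.sign (1 : Equiv.Perm (Fin d)) •
      ∏ t, ((richMatrix K v w).submatrix θ.1 id) ((1 : Equiv.Perm (Fin d)) t) t =
        monomial (mexp θ) (1 : K) := by
    rw [Equiv.Perm.sign_one, one_smul, prod_rich, eperm_one, if_pos]
    intro t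
    exact ⟨hθ.1 t, hθ.2 t⟩
  rw [h1]
  obtain ⟨rest, hrest⟩ : ∃ rest, rest = ∑ σ ∈ univ.erase (1 : Equiv.Perm (Fin d)),
      Equiv.Perm.sign σ • ∏ t, ((richMatrix K v w).submatrix θ.1 id) (σ t) t := ⟨_, rfl⟩
  rw [← hrest]
  have hdm : (ord d n).degree (monomial (mexp θ) (1 : K)) = mexp θ := by
    rw [MonomialOrder.degree_monomial, if_neg one_ne_zero]
  by_cases h0 : rest = 0
  · rw [h0, add_zero]
    exact ⟨MonomialOrder.monic_monomial_one, hdm⟩
  · have hdeg : (ord d n).degree rest ≺[ord d n] (ord d n).degree (monomial (mexp θ) (1 : K)) := by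
      rw [hdm]
      have hmem := MonomialOrder.degree_mem_support (m := ord d n) h0
      have hsub : rest.support ⊆
          (univ.erase (1 : Equiv.Perm (Fin d))).biUnion (fun σ => {eperm θ σ}) := by
        rw [hrest]
        refine (MvPolynomial.support_sum).trans ?_
        apply Finset.biUnion_mono
        intro σ _
        rw [prod_rich]
        intro e he
        rw [MvPolynomial.mem_support_iff] at he
        rw [Finset.mem_singleton]
        by_contra hne
        apply he
        rcases Int.units_eq_one_or (Equiv.Perm.sign σ) with hs | hs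
        · rw [hs, one_smul, MvPolynomial.coeff_monomial, if_neg (Ne.symm hne)]
        · rw [hs, Units.neg_smul, one_smul, MvPolynomial.coeff_neg, MvPolynomial.coeff_monomial,
            if_neg (Ne.symm hne), neg_zero]
      obtain ⟨σ, hσ, he⟩ := Finset.mem_biUnion.1 (hsub hmem)
      rw [Finset.mem_singleton] at he
      rw [he]
      exact eperm_lt θ σ (Finset.mem_erase.1 hσ).1
    exact ⟨MonomialOrder.Monic.add_of_lt MonomialOrder.monic_monomial_one hdeg,
      by rw [MonomialOrder.degree_add_of_lt hdeg, hdm]⟩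

/-! ### Independence of standard monomials under a map with monic leading terms -/

lemma R_monomial (R : PlRing K d n →ₐ[K] MvPolynomial (Var d n) K) (u : Idx d n →₀ ℕ) :
    R (monomial u 1) = ∏ θ ∈ u.support, (R (X θ)) ^ (u θ) := by
  rw [MvPolynomial.monomial_eq, C_1, one_mul, Finsupp.prod, map_prod]
  exact Finset.prod_congr rfl (fun θ _ => map_pow R _ _)

theorem R_monomial_monic (R : PlRing K d n →ₐ[K] MvPolynomial (Var d n) K)
    (Θ : Set (Idx d n))
    (hR : ∀ θ ∈ Θ, (ord d n).Monic (R (X θ)) ∧ (ord d n).degree (R (X θ)) = mexp θ)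
    (u : Idx d n →₀ ℕ) (hw : ∀ θ ∈ u.support, θ ∈ Θ) :
    (ord d n).Monic (R (monomial u 1)) ∧
      (ord d n).degree (R (monomial u 1)) = Eexp u := by
  rw [R_monomial]
  constructor
  · apply MonomialOrder.Monic.prod
    intro θ hθ
    exact (hR θ (hw θ hθ)).1.pow
  · rw [MonomialOrder.degree_prod]
    · unfold Eexp Finsupp.sum
      apply Finset.sum_congr rfl
      intro θ hθ
      rw [MonomialOrder.degree_pow, (hR θ (hw θ hθ)).2]
    · intro θ hθ
      exact pow_ne_zero _ (hR θ (hw θ hθ)).1.ne_zero

theorem indep_gen (hd : 0 < d) (R : PlRing K d n →ₐ[K] MvPolynomial (Var d n) K)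
    (Θ : Set (Idx d n))
    (hR : ∀ θ ∈ Θ, (ord d n).Monic (R (X θ)) ∧ (ord d n).degree (R (X θ)) = mexp θ)
    (f : PlRing K d n)
    (hstd : ∀ u ∈ f.support, IsChainSupp u ∧ ∀ θ ∈ u.support, θ ∈ Θ)
    (hρ : R f = 0) : f = 0 := by
  by_contra hne
  have hsupp : f.support.Nonempty := by
    rwa [Finset.nonempty_iff_ne_empty, Ne, MvPolynomial.support_eq_empty]
  obtain ⟨u0, hu0, hmax⟩ :=
    Finset.exists_max_image f.support (fun u => (ord d n).toSyn (Eexp u)) hsupp
  have hmon : ∀ u : Idx d n →₀ ℕ, R (monomial u (coeff u f)) =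
      coeff u f • R (monomial u (1 : K)) := by
    intro u
    rw [← map_smul, smul_monomial, smul_eq_mul, mul_one]
  have hsum : R f = ∑ u ∈ f.support, coeff u f • R (monomial u (1 : K)) := by
    conv_lhs => rw [f.as_sum]
    rw [map_sum]
    exact Finset.sum_congr rfl (fun u _ => hmon u)
  have hcoeff : coeff (Eexp u0) (R f) = coeff u0 f := by
    rw [hsum, coeff_sum, Finset.sum_eq_single u0]
    · obtain ⟨hm, hdg⟩ := R_monomial_monic K R Θ hR u0 (hstd u0 hu0).2
      have h1 := hm.coeff_degree
      rw [hdg] at h1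
      rw [coeff_smul, h1, smul_eq_mul, mul_one]
    · intro u hu hne'
      obtain ⟨hm, hdg⟩ := R_monomial_monic K R Θ hR u (hstd u hu).2
      rw [coeff_smul, MonomialOrder.coeff_eq_zero_of_lt (m := ord d n), smul_zero]
      rw [hdg]
      apply lt_of_le_of_ne (hmax u hu)
      intro heq
      apply hne'
      exact Eexp_injective hd _ u u0 rfl (hstd u hu).1 (hstd u0 hu0).1
        ((ord d n).toSyn.injective heq)
    · intro h
      exact absurd hu0 h
  rw [hρ, coeff_zero] at hcoeff
  exact (MvPolynomial.mem_support_iff.1 hu0) hcoeff.symm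

/-! ### The kernel -/

lemma sup_le_ker [Infinite K] (hd : 0 < d) (hdn : d < n) (w : Idx d n) :
    schubertVanishing K d n w ⊔ Ideal.span {(X (iota hdn.le) : PlRing K d n)} ≤
      RingHom.ker (rhoR K (iota' hdn) w) := by
  rw [sup_le_iff, Ideal.span_le, Set.singleton_subset_iff]
  constructor
  · intro f hf
    exact RingHom.mem_ker.2 (rhoR_eq_zero_of_mem K _ w f hf)
  · exact RingHom.mem_ker.2 (rhoR_iota K hd hdn w)

theorem ker_eq [Infinite K] (hd : 0 < d) (hdn : d < n) (w : Idx d n) :
    RingHom.ker (rhoR K (iota' hdn) w) =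
      schubertVanishing K d n w ⊔ Ideal.span {(X (iota hdn.le) : PlRing K d n)} := by
  apply le_antisymm _ (sup_le_ker K hd hdn w)
  intro f hf
  rw [RingHom.mem_ker] at hf
  obtain ⟨s, h, rfl, hh, hs⟩ := exists_std f
  obtain ⟨a, s', hsum, ha, hs'⟩ :=
    exists_split s (fun u => ∃ θ ∈ u.support, ¬ (iota' hdn ≤ θ ∧ θ ≤ w))
  have haJ : a ∈ schubertVanishing K d n w ⊔
      Ideal.span {(X (iota hdn.le) : PlRing K d n)} := by
    apply mem_of_support
    intro u hu
    obtain ⟨θ, hθ, hnot⟩ := (ha u hu).2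
    refine ⟨θ, hθ, ?_⟩
    by_cases hθw : θ ≤ w
    · have hθι : θ = iota hdn.le := by
        by_contra hne
        exact hnot ⟨iota'_le hdn θ hne, hθw⟩
      rw [hθι]
      exact Ideal.mem_sup_right (Ideal.subset_span rfl)
    · exact Ideal.mem_sup_left (X_mem K w θ hθw)
  have hhJ : h ∈ schubertVanishing K d n w := plIdealTop_le K w hh
  have hs'0 : s' = 0 := by
    apply indep_gen K hd (rhoR K (iota' hdn) w) {θ | iota' hdn ≤ θ ∧ θ ≤ w}
    · intro θ hθ
      rw [rhoR_X]
      exact minor_monic_rich K _ w θ hθ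
    · intro u hu
      refine ⟨hs u (hs' u hu).1, fun θ hθ => ?_⟩
      by_contra hnot
      exact (hs' u hu).2 ⟨θ, hθ, hnot⟩
    · have h1 : rhoR K (iota' hdn) w (a + s' + h) = 0 := by
        rw [← hsum]
        exact hf
      rw [map_add, map_add, rhoR_eq_zero_of_mem K _ w h hhJ, add_zero,
        RingHom.mem_ker.1 (sup_le_ker K hd hdn w haJ), zero_add] at h1
      exact h1
  rw [hsum, hs'0, add_zero]
  exact Ideal.add_mem _ haJ (Ideal.mem_sup_left hhJ)

theorem prime_X_iota [Infinite K] (hd : 0 < d) (hdn : d < n) (w : Idx d n) :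
    Prime (Ideal.Quotient.mk (schubertVanishing K d n w)
      (X (iota hdn.le) : PlRing K d n)) := by
  have hne : Ideal.Quotient.mk (schubertVanishing K d n w)
      (X (iota hdn.le) : PlRing K d n) ≠ 0 := by
    rw [Ne, Ideal.Quotient.eq_zero_iff_mem]
    intro hmem
    have h1 := rho_eq_zero_of_mem K w _ hmem
    rw [rho_X] at h1
    exact (minor_monic K w (iota hdn.le) (iota_le hdn.le w)).1.ne_zero h1
  rw [← Ideal.span_singleton_prime hne]
  haveI hP : (schubertVanishing K d n w ⊔
      Ideal.span {(X (iota hdn.le) : PlRing K d n)}).IsPrime := by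
    rw [← ker_eq K hd hdn w]
    exact RingHom.ker_isPrime _
  have hmap : Ideal.map (Ideal.Quotient.mk (schubertVanishing K d n w))
      (schubertVanishing K d n w ⊔ Ideal.span {(X (iota hdn.le) : PlRing K d n)}) =
      Ideal.span {Ideal.Quotient.mk (schubertVanishing K d n w)
        (X (iota hdn.le) : PlRing K d n)} := by
    rw [Ideal.map_sup, Ideal.map_quotient_self, bot_sup_eq, Ideal.map_span, Set.image_singleton]
  rw [← hmap]
  exact Ideal.map_isPrime_of_surjective Ideal.Quotient.mk_surjective
    (by rw [Ideal.mk_ker]; exact le_sup_left)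

end Groth.Agent.Rich9
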