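import Mathlib
import Groth.Agent.Lib.FFT1_helper9

/-!
# Shape of the straightening relation of a skew pair: combinatorics and the torus action
-/

set_option autoImplicit false

universe u

namespace Groth.Agent.StrShape9

open W4bk4grassmannian MvPolynomial Function Finset
open scoped MonomialOrder
open Groth.Agent.Straight9 (IsChainSupp deg deg_add deg_single deg_eq_zero)
open Groth.Agent.SMTIndep9
open Groth.Agent.SMT9
open Groth.Agent.FFT9

variable {d n : ℕ}

/-! ### Counting -/

/-- Multiplicity of the row `y` in `θ`. -/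
def mult (y : Fin n) (θ : Idx d n) : ℕ := (univ.filter fun s : Fin d => θ.1 s = y).card

/-- Number of rows of `θ` that are `≤ y`. -/
def cum (y : Fin n) (θ : Idx d n) : ℕ := (univ.filter fun s : Fin d => θ.1 s ≤ y).card

lemma cum_eq_sum (y : Fin n) (θ : Idx d n) : cum y θ = ∑ y' ∈ Finset.Iic y, mult y' θ := by
  unfold cum mult
  rw [Finset.card_eq_sum_card_fiberwise (f := θ.1) (t := Finset.Iic y)]
  · apply Finset.sum_congr rfl
    intro y' hy'
    congr 1
    ext s
    simp only [Finset.mem_filter, Finset.mem_univ, true_and]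
    constructor
    · rintro ⟨_, h⟩
      exact h
    · intro h
      refine ⟨?_, h⟩
      rw [h]
      exact Finset.mem_Iic.1 hy'
  · intro s hs
    have hs' := Finset.mem_coe.1 hs
    exact Finset.mem_coe.2 (Finset.mem_Iic.2 (Finset.mem_filter.1 hs').2)

lemma le_of_cum_le (β δ : Idx d n) (h : ∀ y, cum y δ ≤ cum y β) : β ≤ δ := by
  intro t
  by_contra hlt
  rw [not_le] at hlt
  have h1 : t.val + 1 ≤ cum (δ.1 t) δ := by
    unfold cum
    have hsub : Finset.Iic t ⊆ univ.filter fun s : Fin d => δ.1 s ≤ δ.1 t := by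
      intro s hs
      exact Finset.mem_filter.2 ⟨mem_univ _, δ.2.monotone (Finset.mem_Iic.1 hs)⟩
    have hc := Finset.card_le_card hsub
    rwa [Fin.card_Iic] at hc
  have h2 : cum (δ.1 t) β ≤ t.val := by
    unfold cum
    have hsub : (univ.filter fun s : Fin d => β.1 s ≤ δ.1 t) ⊆ Finset.Iio t := by
      intro s hs
      rw [Finset.mem_Iio]
      by_contra hge
      rw [not_lt] at hge
      have h3 := β.2.monotone hge
      exact absurd (lt_of_lt_of_le hlt (le_trans h3 (Finset.mem_filter.1 hs).2)) (lt_irrefl _)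
    have hc := Finset.card_le_card hsub
    rwa [Fin.card_Iio] at hc
  have h3 := h (δ.1 t)
  omega

lemma shape_of_content (α β γ δ : Idx d n) (hγα : γ ≤ α)
    (hc : ∀ y, mult y α + mult y β = mult y γ + mult y δ) (hne : ¬ (α = γ ∧ β = δ)) :
    γ < α ∧ β < δ := by
  have hcum : ∀ y, cum y α + cum y β = cum y γ + cum y δ := by
    intro y
    rw [cum_eq_sum, cum_eq_sum, cum_eq_sum, cum_eq_sum, ← Finset.sum_add_distrib,
      ← Finset.sum_add_distrib]
    exact Finset.sum_congr rfl (fun y' _ => hc y')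
  have hαγ : ∀ y, cum y α ≤ cum y γ := by
    intro y
    unfold cum
    apply Finset.card_le_card
    intro s hs
    rw [Finset.mem_filter] at hs ⊢
    exact ⟨hs.1, le_trans (hγα s) hs.2⟩
  have hβδ : β ≤ δ := le_of_cum_le β δ (fun y => by
    have h1 := hcum y
    have h2 := hαγ y
    omega)
  have h1 : α = γ → β = δ := by
    intro h
    apply le_antisymm hβδ
    apply le_of_cum_le
    intro y
    have h3 := hcum y
    rw [h] at h3
    omega
  have h2 : β = δ → α = γ := by
    intro h
    apply le_antisymm _ hγα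
    apply le_of_cum_le
    intro y
    have h3 := hcum y
    rw [h] at h3
    omega
  constructor
  · exact lt_of_le_of_ne hγα (fun h => hne ⟨h.symm, h1 h.symm⟩)
  · exact lt_of_le_of_ne hβδ (fun h => hne ⟨h2 h, h⟩)

/-! ### Content of a monomial -/

/-- The number of times the row `y` occurs in the factors of a monomial. -/
noncomputable def cnt (y : Fin n) (u : Idx d n →₀ ℕ) : ℕ := ∑ t : Fin d, Eexp u (toLex (y, t))

lemma cnt_add (y : Fin n) (u v : Idx d n →₀ ℕ) : cnt y (u + v) = cnt y u + cnt y v := by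
  unfold cnt
  rw [Eexp_add]
  simp only [Finsupp.add_apply]
  rw [Finset.sum_add_distrib]

lemma cnt_single (y : Fin n) (θ : Idx d n) : cnt y (Finsupp.single θ 1) = mult y θ := by
  unfold cnt mult
  rw [Eexp_single, Finset.card_filter]
  exact Finset.sum_congr rfl (fun t _ => mexp_apply θ y t)

lemma sum_cnt (u : Idx d n →₀ ℕ) : ∑ y : Fin n, cnt y u = d * deg u := by
  unfold cnt
  rw [Finset.sum_comm]
  have h : ∀ t : Fin d, ∑ y : Fin n, Eexp u (toLex (y, t)) = deg u :=
    fun t => (deg_eq_sum_Eexp u t).symm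
  rw [Finset.sum_congr rfl (fun t _ => h t), Finset.sum_const, Finset.card_univ,
    Fintype.card_fin, smul_eq_mul]

lemma cnt_eq_sum (y : Fin n) (u : Idx d n →₀ ℕ) :
    cnt y u = ∑ θ ∈ u.support, u θ * mult y θ := by
  unfold cnt mult
  simp_rw [Eexp_apply]
  rw [Finset.sum_comm]
  apply Finset.sum_congr rfl
  intro θ _
  rw [← Finset.sum_filter, Finset.sum_const, smul_eq_mul, mul_comm]

lemma mexp_sup_inf (τ φ : Idx d n) :
    mexp τ + mexp φ = mexp (W4bk4grassmannian.sup τ φ) + mexp (W4bk4grassmannian.inf τ φ) := by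
  ext j
  obtain ⟨⟨i, t⟩, rfl⟩ := toLex.surjective j
  rw [Finsupp.add_apply, Finsupp.add_apply, mexp_apply, mexp_apply, mexp_apply, mexp_apply]
  show _ = (if max (τ.1 t) (φ.1 t) = i then 1 else 0) + (if min (τ.1 t) (φ.1 t) = i then 1 else 0)
  rcases le_total (τ.1 t) (φ.1 t) with hle | hle
  · rw [max_eq_right hle, min_eq_left hle, add_comm]
  · rw [max_eq_left hle, min_eq_right hle]

lemma mult_sup_inf (y : Fin n) (τ φ : Idx d n) :
    mult y τ + mult y φ =
      mult y (W4bk4grassmannian.sup τ φ) + mult y (W4bk4grassmannian.inf τ φ) := by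
  rw [← cnt_single, ← cnt_single, ← cnt_single, ← cnt_single, ← cnt_add, ← cnt_add]
  unfold cnt
  rw [Eexp_add, Eexp_add, Eexp_single, Eexp_single, Eexp_single, Eexp_single, mexp_sup_inf]

lemma chain_pair {α β : Idx d n} (h : β ≤ α) :
    IsChainSupp (Finsupp.single α 1 + Finsupp.single β 1) := by
  have hmem : ∀ θ ∈ (Finsupp.single α 1 + Finsupp.single β 1 : Idx d n →₀ ℕ).support,
      θ = α ∨ θ = β := by
    intro θ hθ
    rw [Finsupp.mem_support_iff, Finsupp.add_apply, Finsupp.single_apply,
      Finsupp.single_apply] at hθ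
    by_cases h1 : α = θ
    · exact Or.inl h1.symm
    · by_cases h2 : β = θ
      · exact Or.inr h2.symm
      · rw [if_neg h1, if_neg h2] at hθ
        exact absurd rfl hθ
  intro a ha b hb
  rcases hmem a ha with h1 | h1 <;> rcases hmem b hb with h2 | h2
  · rw [h1, h2]
    exact Or.inl le_rfl
  · rw [h1, h2]
    exact Or.inr h
  · rw [h1, h2]
    exact Or.inl h
  · rw [h1, h2]
    exact Or.inl le_rfl

lemma exists_pair {u : Idx d n →₀ ℕ} (hc : IsChainSupp u) (hdeg : deg u = 2) :
    ∃ α β : Idx d n, β ≤ α ∧ u = Finsupp.single α 1 + Finsupp.single β 1 := by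
  have hu0 : u ≠ 0 := by
    rintro rfl
    simp [deg] at hdeg
  obtain ⟨α, hα, htop⟩ := exists_top hc hu0
  obtain ⟨v, hv⟩ : ∃ v, u = v + Finsupp.single α 1 :=
    ⟨_, (tsub_add_cancel_of_le (single_le hα)).symm⟩
  have hdv : deg v = 1 := by
    rw [hv, deg_add, deg_single] at hdeg
    omega
  have hv0 : v ≠ 0 := by
    rintro rfl
    simp [deg] at hdv
  obtain ⟨β, hβ⟩ : ∃ β, β ∈ v.support := by
    have hne : v.support.Nonempty := by
      rwa [Finset.nonempty_iff_ne_empty, Ne, Finsupp.support_eq_empty]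
    exact hne
  obtain ⟨v', hv'⟩ : ∃ v', v = v' + Finsupp.single β 1 :=
    ⟨_, (tsub_add_cancel_of_le (single_le hβ)).symm⟩
  have hdv' : deg v' = 0 := by
    rw [hv', deg_add, deg_single] at hdv
    omega
  have hv'0 := deg_eq_zero hdv'
  refine ⟨α, β, htop β ?_, ?_⟩
  · rw [hv, Finsupp.mem_support_iff, Finsupp.add_apply]
    have h1 := Finsupp.mem_support_iff.1 hβ
    omega
  · rw [hv, hv', hv'0, zero_add, add_comm]

/-! ### The torus action -/

variable (K : Type u) [Field K]

lemma mem_vanishing_iff (f : PlRing K d n) : f ∈ vanishing K d n ↔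
    ∀ A : Matrix (Fin n) (Fin d) K, evalMinors K d n A f = 0 := by
  unfold vanishing
  rw [Ideal.mem_iInf]
  constructor
  · intro h A
    exact RingHom.mem_ker.1 (h A)
  · intro h A
    exact RingHom.mem_ker.2 (h A)

lemma vanishing_le (τ : Idx d n) : vanishing K d n ≤ schubertVanishing K d n τ := by
  intro f hf
  rw [mem_schubert_iff]
  intro A _
  exact (mem_vanishing_iff K f).1 hf A

lemma plIdealTop_le_vanishing : plIdealTop (d := d) (n := n) K ≤ vanishing K d n := by
  unfold plIdealTop
  rw [Ideal.span_le]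
  rintro _ ⟨i, j, r, -, rfl⟩
  rw [SetLike.mem_coe, mem_vanishing_iff]
  intro A
  exact Groth.Agent.PluckRel9.evalMinors_shuffleRel A i j r

/-- Scaling the row `y` by `x`. -/
noncomputable def T (y : Fin n) (x : K) : PlRing K d n →ₐ[K] PlRing K d n :=
  MvPolynomial.aeval fun θ : Idx d n => C (x ^ mult y θ) * X θ

lemma T_monomial (y : Fin n) (x : K) (u : Idx d n →₀ ℕ) (a : K) :
    T K y x (monomial u a) = monomial u (x ^ cnt y u * a) := by
  unfold T
  rw [aeval_monomial, cnt_eq_sum, monomial_eq, MvPolynomial.algebraMap_eq]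
  have hC : ∏ θ ∈ u.support, (C (x ^ mult y θ) : PlRing K d n) ^ u θ =
      C (x ^ ∑ θ ∈ u.support, u θ * mult y θ) := by
    rw [map_pow, ← Finset.prod_pow_eq_pow_sum]
    apply Finset.prod_congr rfl
    intro θ _
    rw [map_pow, ← pow_mul, mul_comm]
  unfold Finsupp.prod
  simp only [mul_pow]
  rw [Finset.prod_mul_distrib, hC, ← mul_assoc, ← C_mul, mul_comm a]

lemma coeff_T (y : Fin n) (x : K) (f : PlRing K d n) (v : Idx d n →₀ ℕ) :
    coeff v (T K y x f) = x ^ cnt y v * coeff v f := by
  induction f using MvPolynomial.induction_on' with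
  | monomial u a =>
    rw [T_monomial, coeff_monomial, coeff_monomial]
    split_ifs with h
    · rw [h]
    · rw [mul_zero]
  | add p q hp hq =>
    rw [map_add, coeff_add, coeff_add, hp, hq, mul_add]

lemma T_mem_vanishing (y : Fin n) (x : K) (f : PlRing K d n) (hf : f ∈ vanishing K d n) :
    T K y x f ∈ vanishing K d n := by
  rw [mem_vanishing_iff] at hf ⊢
  intro A
  have hcomp : (evalMinors K d n A).comp (T K y x) =
      evalMinors K d n (Matrix.of fun i t => (if i = y then x else 1) * A i t) := by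
    apply MvPolynomial.algHom_ext
    intro θ
    rw [AlgHom.comp_apply]
    unfold T evalMinors
    rw [aeval_X, map_mul, aeval_C, aeval_X, aeval_X]
    have hA' : (Matrix.of fun i t => (if i = y then x else 1) * A i t).submatrix θ.1 id =
        Matrix.of fun s t => (if θ.1 s = y then x else 1) * (A.submatrix θ.1 id) s t := by
      apply Matrix.ext
      intro s t
      rfl
    rw [hA', Matrix.det_mul_column]
    congr 1
    rw [Algebra.algebraMap_self_apply]
    unfold mult
    rw [Finset.prod_ite, Finset.prod_const, Finset.prod_const_one, mul_one]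
  have h1 := AlgHom.congr_fun hcomp f
  rw [AlgHom.comp_apply] at h1
  rw [h1]
  exact hf _

lemma exists_pow_ne [Infinite K] {a b : ℕ} (hab : a ≠ b) : ∃ x : K, x ^ a ≠ x ^ b := by
  by_contra hall
  push Not at hall
  have hp : (Polynomial.X ^ a - Polynomial.X ^ b : Polynomial K) = 0 := by
    apply Polynomial.funext
    intro x
    simp [hall x]
  have h1 := congrArg (fun p => Polynomial.coeff p a) hp
  simp [Polynomial.coeff_X_pow, hab] at h1

end Groth.Agent.StrShape9
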