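import Mathlib
import Groth.Agent.Lib.Rich1_helper9
import Groth.Agent.Lib.StrShape2_helper9
import Groth.Agent.Lib.DimFT_helper8
import Groth.Agent.S11268

/-!
# Krull dimension of the cone over a Schubert variety
-/

set_option autoImplicit false

universe u

namespace Groth.Agent.KDim9

open W4bk4grassmannian MvPolynomial Function Finset
open Groth.Agent.Straight9 (IsChainSupp wt wt_lt_of_lt le_strictMono_val)
open Groth.Agent.SMTIndep9
open Groth.Agent.SMT9
open Groth.Agent.FFT9

variable {d n : ℕ}

lemma codeg_add_sum (θ : Idx d n) : codeg θ + ∑ t : Fin d, t.val = wt θ.1 := by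
  unfold codeg wt
  rw [← Finset.sum_add_distrib]
  apply Finset.sum_congr rfl
  intro t _
  have h : t.val ≤ (θ.1 t).val := le_strictMono_val θ.1 θ.2 t.val t.isLt
  omega

lemma codeg_lt {θ φ : Idx d n} (h : θ < φ) : codeg θ < codeg φ := by
  have h1 := wt_lt_of_lt h
  have h2 := codeg_add_sum θ
  have h3 := codeg_add_sum φ
  omega

lemma codeg_le {θ φ : Idx d n} (h : θ ≤ φ) : codeg θ ≤ codeg φ := by
  rcases h.eq_or_lt with h' | h'
  · rw [h']
  · exact (codeg_lt h').le

lemma codeg_iota (hdn : d ≤ n) : codeg (iota hdn) = 0 := by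
  unfold codeg
  apply Finset.sum_eq_zero
  intro t _
  show t.val - t.val = 0
  omega

/-- The elements of `I(d,n)` of a given level. -/
noncomputable def lev (k : ℕ) : Finset (Idx d n) :=
  (Set.toFinite {θ : Idx d n | codeg θ = k}).toFinset

lemma mem_lev {k : ℕ} {θ : Idx d n} : θ ∈ lev (d := d) (n := n) k ↔ codeg θ = k := by
  unfold lev
  rw [Set.Finite.mem_toFinset]
  rfl

variable (K : Type u) [Field K]

theorem ker_rho [Infinite K] (hd : 0 < d) (w : Idx d n) :
    RingHom.ker (rho K w) = schubertVanishing K d n w := by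
  apply le_antisymm
  · intro f hf
    rw [RingHom.mem_ker] at hf
    obtain ⟨s, h, rfl, hh, hs⟩ := exists_std f
    obtain ⟨a, s', hsum, ha, hs'⟩ := exists_split s (fun u => ∃ θ ∈ u.support, ¬ θ ≤ w)
    have haJ : a ∈ schubertVanishing K d n w := by
      apply mem_of_support
      intro u hu
      obtain ⟨θ, hθ, hnot⟩ := (ha u hu).2
      exact ⟨θ, hθ, X_mem K w θ hnot⟩
    have hhJ : h ∈ schubertVanishing K d n w := plIdealTop_le K w hh
    have hs'0 : s' = 0 := by
      apply Groth.Agent.Rich9.indep_gen K hd (rho K w) {θ | θ ≤ w}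
      · intro θ hθ
        rw [rho_X]
        exact minor_monic K w θ hθ
      · intro u hu
        refine ⟨hs u (hs' u hu).1, fun θ hθ => ?_⟩
        by_contra hnot
        exact (hs' u hu).2 ⟨θ, hθ, hnot⟩
      · have h1 : rho K w (a + s' + h) = 0 := by
          rw [← hsum]
          exact hf
        rw [map_add, map_add, rho_eq_zero_of_mem K w h hhJ, add_zero,
          rho_eq_zero_of_mem K w a haJ, zero_add] at h1
        exact h1
    rw [hsum, hs'0, add_zero]
    exact Ideal.add_mem _ haJ hhJ
  · intro f hf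
    exact RingHom.mem_ker.2 (rho_eq_zero_of_mem K w f hf)

lemma isPrime [Infinite K] (hd : 0 < d) (w : Idx d n) : (schubertVanishing K d n w).IsPrime := by
  rw [← ker_rho K hd w]
  exact RingHom.ker_isPrime _

lemma X_not_mem [Infinite K] (w θ : Idx d n) (hθ : θ ≤ w) :
    (X θ : PlRing K d n) ∉ schubertVanishing K d n w := by
  intro hmem
  have h1 := rho_eq_zero_of_mem K w _ hmem
  rw [rho_X] at h1
  exact (minor_monic K w θ hθ).1.ne_zero h1

lemma cc_eq_zero_of_mem (hd : 0 < d) (w : Idx d n) (f : PlRing K d n)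
    (hf : f ∈ schubertVanishing K d n w) : constantCoeff f = 0 := by
  rw [mem_schubert_iff] at hf
  have h0 : ∀ φ : Idx d n, ((0 : Matrix (Fin n) (Fin d) K).submatrix φ.1 id).det = 0 := by
    intro φ
    haveI : Nonempty (Fin d) := ⟨⟨0, hd⟩⟩
    have h1 : (0 : Matrix (Fin n) (Fin d) K).submatrix φ.1 id = 0 := Matrix.ext fun _ _ => rfl
    rw [h1]
    exact Matrix.det_zero
  have h1 := hf 0 (fun φ _ => h0 φ)
  have h2 : evalMinors K d n (0 : Matrix (Fin n) (Fin d) K) f = constantCoeff f := by
    unfold evalMinors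
    have h3 : (fun θ : Idx d n => ((0 : Matrix (Fin n) (Fin d) K).submatrix θ.1 id).det) = 0 :=
      funext h0
    rw [h3, MvPolynomial.aeval_zero]
    rfl
  rw [← h2]
  exact h1

/-! ### The lower bound -/

lemma dim_base [Infinite K] (hd : 0 < d) (w : Idx d n) :
    (1 : WithBot ℕ∞) ≤ ringKrullDim (PlRing K d n ⧸ schubertVanishing K d n w) := by
  haveI := isPrime K hd w
  have hx0 : Ideal.Quotient.mk (schubertVanishing K d n w) (X w) ≠ 0 := by
    rw [Ne, Ideal.Quotient.eq_zero_iff_mem]
    exact X_not_mem K w w le_rfl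
  have h1 := ringKrullDim_quotient_succ_le_of_nonZeroDivisor (mem_nonZeroDivisors_of_ne_zero hx0)
  haveI hnt : Nontrivial ((PlRing K d n ⧸ schubertVanishing K d n w) ⧸
      Ideal.span {Ideal.Quotient.mk (schubertVanishing K d n w) (X w)}) := by
    rw [Ideal.Quotient.nontrivial_iff]
    intro htop
    have h1mem : (1 : PlRing K d n ⧸ schubertVanishing K d n w) ∈
        Ideal.span {Ideal.Quotient.mk (schubertVanishing K d n w) (X w)} := by
      rw [htop]
      trivial
    obtain ⟨a, ha⟩ := Ideal.mem_span_singleton'.1 h1mem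
    obtain ⟨g, rfl⟩ := Ideal.Quotient.mk_surjective a
    have h2 : g * X w - 1 ∈ schubertVanishing K d n w := by
      rw [← Ideal.Quotient.eq_zero_iff_mem, map_sub, map_mul, map_one]
      exact sub_eq_zero.2 ha
    have h3 := cc_eq_zero_of_mem K hd w _ h2
    rw [map_sub, map_mul, constantCoeff_X, mul_zero, map_one, zero_sub] at h3
    exact one_ne_zero (neg_eq_zero.1 h3)
  have h0 : (0 : WithBot ℕ∞) ≤ ringKrullDim ((PlRing K d n ⧸ schubertVanishing K d n w) ⧸
      Ideal.span {Ideal.Quotient.mk (schubertVanishing K d n w) (X w)}) :=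
    ringKrullDim_nonneg_of_nontrivial
  refine le_trans ?_ h1
  calc (1 : WithBot ℕ∞) = 0 + 1 := (zero_add 1).symm
    _ ≤ _ := by gcongr

lemma dim_step [Infinite K] (hd : 0 < d) (w φ : Idx d n) (hφ : φ < w) :
    ringKrullDim (PlRing K d n ⧸ schubertVanishing K d n φ) + 1 ≤
      ringKrullDim (PlRing K d n ⧸ schubertVanishing K d n w) := by
  haveI := isPrime K hd w
  have hx0 : Ideal.Quotient.mk (schubertVanishing K d n w) (X w) ≠ 0 := by
    rw [Ne, Ideal.Quotient.eq_zero_iff_mem]
    exact X_not_mem K w w le_rfl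
  have h1 := ringKrullDim_quotient_succ_le_of_nonZeroDivisor (mem_nonZeroDivisors_of_ne_zero hx0)
  refine le_trans ?_ h1
  have hle : schubertVanishing K d n w ≤ schubertVanishing K d n φ := schubert_antitone K hφ.le
  have hg : ∀ a ∈ Ideal.span {Ideal.Quotient.mk (schubertVanishing K d n w) (X w)},
      Ideal.Quotient.factor hle a = 0 := by
    intro a ha
    obtain ⟨b, rfl⟩ := Ideal.mem_span_singleton'.1 ha
    rw [map_mul, Ideal.Quotient.factor_mk, Ideal.Quotient.eq_zero_iff_mem.2
      (X_mem K φ w (not_le_of_gt hφ)), mul_zero]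
  have hsurj : ringKrullDim (PlRing K d n ⧸ schubertVanishing K d n φ) ≤
      ringKrullDim ((PlRing K d n ⧸ schubertVanishing K d n w) ⧸
        Ideal.span {Ideal.Quotient.mk (schubertVanishing K d n w) (X w)}) := by
    apply ringKrullDim_le_of_surjective (Ideal.Quotient.lift _ (Ideal.Quotient.factor hle) hg)
    intro y
    obtain ⟨r, hr⟩ := Ideal.Quotient.factor_surjective hle y
    exact ⟨Ideal.Quotient.mk _ r, by rw [Ideal.Quotient.lift_mk]; exact hr⟩
  gcongr

theorem dim_ge [Infinite K] (hd : 0 < d) (hdn : d ≤ n) : ∀ (N : ℕ) (w : Idx d n), codeg w = N →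
    ((N + 1 : ℕ) : WithBot ℕ∞) ≤
      ringKrullDim (PlRing K d n ⧸ schubertVanishing K d n w) := by
  intro N
  induction N with
  | zero =>
    intro w _
    have h1 := dim_base K hd w
    simpa using h1
  | succ N ih =>
    intro w hw
    have hne : iota hdn ≠ w := by
      intro h
      rw [← h, codeg_iota] at hw
      omega
    have hlt : iota hdn < w := lt_of_le_of_ne (iota_le hdn w) hne
    obtain ⟨φ, hφdiv, -⟩ := Groth.Agent.S11268.result d n (iota hdn) w hlt
    obtain ⟨hφw, hφc⟩ := hφdiv
    have h1 := ih φ (by omega)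
    have h2 := dim_step K hd w φ hφw
    refine le_trans ?_ h2
    have h3 : ((N + 1 + 1 : ℕ) : WithBot ℕ∞) = ((N + 1 : ℕ) : WithBot ℕ∞) + 1 := by
      push_cast
      rfl
    rw [h3]
    gcongr

/-! ### The upper bound -/

/-- The level sums. -/
noncomputable def ylev (k : ℕ) : PlRing K d n := ∑ θ ∈ lev (d := d) (n := n) k, X θ

/-- The ideal generated by `J(w)` and the level sums. -/
noncomputable def Iw (w : Idx d n) : Ideal (PlRing K d n) :=
  schubertVanishing K d n w ⊔
    Ideal.span ((ylev (d := d) (n := n) K) '' (↑(Finset.range (codeg w + 1)) : Set ℕ))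

theorem X_mem_radical [Infinite K] (hd : 0 < d) (hdn : d ≤ n) (w : Idx d n) :
    ∀ (k : ℕ) (θ : Idx d n), codeg θ = k → (X θ : PlRing K d n) ∈ (Iw K w).radical := by
  intro k
  induction k using Nat.strong_induction_on with
  | _ k ih =>
    intro θ hθk
    by_cases hθw : θ ≤ w
    swap
    · exact Ideal.le_radical (Ideal.mem_sup_left (X_mem K w θ hθw))
    have hk : k ≤ codeg w := by
      rw [← hθk]
      exact codeg_le hθw
    have hy : ylev K k ∈ Iw K w := by
      apply Ideal.mem_sup_right
      apply Ideal.subset_span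
      exact ⟨k, Finset.mem_coe.2 (Finset.mem_range.2 (by omega)), rfl⟩
    have hprod : ∀ θ' ∈ lev (d := d) (n := n) k, θ' ≠ θ →
        (X θ * X θ' : PlRing K d n) ∈ (Iw K w).radical := by
      intro θ' hθ' hne
      rw [mem_lev] at hθ'
      obtain ⟨g, hg, hrel⟩ := Groth.Agent.StrShape9.main K hd hdn θ θ'
      have hinf_lt : W4bk4grassmannian.inf θ θ' < θ := by
        apply lt_of_le_of_ne (fun t => min_le_left _ _)
        intro heq
        have hle : θ ≤ θ' := by
          intro t
          have h1 := congrArg (fun x : Idx d n => x.1 t) heq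
          exact min_eq_left_iff.1 h1
        have hlt : θ < θ' := lt_of_le_of_ne hle (Ne.symm hne)
        have h2 := codeg_lt hlt
        omega
      have hinf : (X (W4bk4grassmannian.inf θ θ') : PlRing K d n) ∈ (Iw K w).radical :=
        ih _ (by have h2 := codeg_lt hinf_lt; omega) _ rfl
      have hgmem : g ∈ (Iw K w).radical := by
        have hspan : Submodule.span K {f : PlRing K d n | ∃ α β : Idx d n,
            β ≤ α ∧ W4bk4grassmannian.sup θ θ' < α ∧ β < W4bk4grassmannian.inf θ θ' ∧
              f = X α * X β} ≤ (Iw K w).radical.restrictScalars K := by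
          rw [Submodule.span_le]
          rintro _ ⟨α, β, -, -, hβ, rfl⟩
          have hβr : (X β : PlRing K d n) ∈ (Iw K w).radical :=
            ih _ (by have h2 := codeg_lt hβ; have h3 := codeg_lt hinf_lt; omega) _ rfl
          exact Ideal.mul_mem_left _ _ hβr
        exact hspan hg
      have hrel' : X θ * X θ' - X (W4bk4grassmannian.sup θ θ') * X (W4bk4grassmannian.inf θ θ') -
          g ∈ (Iw K w).radical :=
        Ideal.le_radical (Ideal.mem_sup_left (Groth.Agent.StrShape9.vanishing_le K w hrel))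
      have h4 : (X θ * X θ' : PlRing K d n) =
          (X θ * X θ' - X (W4bk4grassmannian.sup θ θ') * X (W4bk4grassmannian.inf θ θ') - g) +
            X (W4bk4grassmannian.sup θ θ') * X (W4bk4grassmannian.inf θ θ') + g := by
        ring
      rw [h4]
      exact Ideal.add_mem _ (Ideal.add_mem _ hrel' (Ideal.mul_mem_left _ _ hinf)) hgmem
    have hθlev : θ ∈ lev (d := d) (n := n) k := mem_lev.2 hθk
    have hsq : (X θ : PlRing K d n) ^ 2 =
        X θ * ylev K k - ∑ θ' ∈ (lev (d := d) (n := n) k).erase θ, X θ * X θ' := by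
      unfold ylev
      rw [← Finset.add_sum_erase _ _ hθlev, mul_add, Finset.mul_sum]
      ring
    apply Ideal.mem_radical_of_pow_mem (m := 2)
    rw [hsq]
    apply Ideal.sub_mem
    · exact Ideal.le_radical (Ideal.mul_mem_left _ _ hy)
    · apply Ideal.sum_mem
      intro θ' hθ'
      exact hprod θ' (Finset.mem_of_mem_erase hθ') (Finset.ne_of_mem_erase hθ')

theorem dim_le [Infinite K] (hd : 0 < d) (hdn : d ≤ n) (w : Idx d n) :
    ringKrullDim (PlRing K d n ⧸ schubertVanishing K d n w) ≤
      ((codeg w + 1 : ℕ) : WithBot ℕ∞) := by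
  classical
  haveI := isPrime K hd w
  haveI : Algebra.FiniteType K (PlRing K d n ⧸ schubertVanishing K d n w) :=
    Algebra.FiniteType.of_surjective (Ideal.Quotient.mkₐ K (schubertVanishing K d n w))
      (Ideal.Quotient.mkₐ_surjective K (schubertVanishing K d n w))
  obtain ⟨N, -, -, hdimN, hmax⟩ :=
    Groth.Agent.DimFTH8.exists_dim_eq K (PlRing K d n ⧸ schubertVanishing K d n w)
  obtain ⟨ev, hevdef⟩ : ∃ ev : (PlRing K d n ⧸ schubertVanishing K d n w) →+* K,
      ∀ f, ev (Ideal.Quotient.mk _ f) = constantCoeff f :=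
    ⟨Ideal.Quotient.lift _ (constantCoeff : PlRing K d n →+* K)
      (fun f hf => cc_eq_zero_of_mem K hd w f hf), fun f => Ideal.Quotient.lift_mk _ _ _⟩
  have hev : Function.Surjective ev := by
    intro a
    exact ⟨Ideal.Quotient.mk _ (C a), by rw [hevdef, constantCoeff_C]⟩
  haveI hmaxi : (RingHom.ker ev).IsMaximal := RingHom.ker_isMaximal_of_surjective ev hev
  obtain ⟨sR, hsR⟩ : ∃ sR : Finset (PlRing K d n ⧸ schubertVanishing K d n w),
      sR = (Finset.range (codeg w + 1)).image
        (fun k => Ideal.Quotient.mk (schubertVanishing K d n w) (ylev K k)) := ⟨_, rfl⟩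
  have hmin : RingHom.ker ev ∈
      (Ideal.span (sR : Set (PlRing K d n ⧸ schubertVanishing K d n w))).minimalPrimes := by
    refine ⟨⟨hmaxi.isPrime, ?_⟩, fun q hq _ => ?_⟩
    · rw [Ideal.span_le]
      intro a ha
      rw [Finset.mem_coe, hsR, Finset.mem_image] at ha
      obtain ⟨k, -, rfl⟩ := ha
      rw [SetLike.mem_coe, RingHom.mem_ker, hevdef]
      unfold ylev
      rw [map_sum]
      exact Finset.sum_eq_zero (fun θ _ => constantCoeff_X (R := K) θ)
    · intro a ha
      obtain ⟨f, rfl⟩ := Ideal.Quotient.mk_surjective a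
      have hcc : constantCoeff f = 0 := by
        have h1 := RingHom.mem_ker.1 ha
        rwa [hevdef] at h1
      have hfrad : f ∈ (Iw K w).radical := by
        apply mem_of_support
        intro u hu
        have hu0 : u ≠ 0 := by
          rintro rfl
          rw [MvPolynomial.mem_support_iff] at hu
          exact hu hcc
        obtain ⟨θ, hθ⟩ : ∃ θ, θ ∈ u.support := by
          have hne : u.support.Nonempty := by
            rwa [Finset.nonempty_iff_ne_empty, Ne, Finsupp.support_eq_empty]
          exact hne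
        exact ⟨θ, hθ, X_mem_radical K hd hdn w _ θ rfl⟩
      obtain ⟨m, hm⟩ := hfrad
      obtain ⟨j, hj, z, hz, hjz⟩ := Submodule.mem_sup.1 hm
      have hmk : Ideal.Quotient.mk (schubertVanishing K d n w) (f ^ m) ∈
          Ideal.span (sR : Set (PlRing K d n ⧸ schubertVanishing K d n w)) := by
        rw [← hjz, map_add, Ideal.Quotient.eq_zero_iff_mem.2 hj, zero_add]
        have h1 := Ideal.mem_map_of_mem (Ideal.Quotient.mk (schubertVanishing K d n w)) hz
        rw [Ideal.map_span] at h1
        have h2 : (Ideal.Quotient.mk (schubertVanishing K d n w)) ''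
            ((ylev (d := d) (n := n) K) '' (↑(Finset.range (codeg w + 1)) : Set ℕ)) =
              (sR : Set _) := by
          rw [hsR, Finset.coe_image, Set.image_image]
        rwa [h2] at h1
      have hq2 : Ideal.Quotient.mk (schubertVanishing K d n w) f ^ m ∈ q := by
        rw [← map_pow]
        exact hq.2 hmk
      exact hq.1.mem_of_pow_mem m hq2
  have hht := Ideal.height_le_card_of_mem_minimalPrimes_span_finset hmin
  have hcard : sR.card ≤ codeg w + 1 := by
    rw [hsR]
    exact le_trans Finset.card_image_le (by rw [Finset.card_range])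
  rw [hmax (RingHom.ker ev)] at hht
  rw [hdimN]
  have hN : N ≤ codeg w + 1 := by
    have h4 : N ≤ sR.card := by exact_mod_cast hht
    omega
  exact_mod_cast hN

theorem main [Infinite K] (hd : 0 < d) (hdn : d ≤ n) (w : Idx d n) :
    ringKrullDim (PlRing K d n ⧸ schubertVanishing K d n w) =
      ((codeg w + 1 : ℕ) : WithBot ℕ∞) :=
  le_antisymm (dim_le K hd hdn w) (dim_ge K hd hdn _ w rfl)

end Groth.Agent.KDim9
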