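import Mathlib
import Groth.Agent.Lib.SMTMain_helper9
import Groth.Agent.S11268

/-!
# Standard monomial theory for Schubert varieties: ideal-theoretic consequences
-/

set_option autoImplicit false

universe u

namespace Groth.Agent.SMT9

open W4bk4grassmannian MvPolynomial Function Finset
open Groth.Agent.Straight9 (IsChainSupp)

variable {d n : ℕ} (K : Type u) [Field K] [Infinite K]

theorem plIdeal_eq (hd : 0 < d) (τ : Idx d n) : plIdeal K τ = schubertVanishing K d n τ := by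
  apply le_antisymm (plIdeal_le K τ)
  intro f hf
  obtain ⟨s, h, rfl, hh, hs⟩ := exists_std f
  have hh' : h ∈ plIdeal K τ := by
    have hle : plIdealTop (d := d) (n := n) K ≤ plIdeal K τ :=
      Ideal.span_mono Set.subset_union_left
    exact hle hh
  have hsJ : s ∈ schubertVanishing K d n τ := by
    have h1 : s = (s + h) - h := by ring
    rw [h1]
    exact Ideal.sub_mem _ hf (plIdealTop_le K τ hh)
  have hbad := no_std_of_mem K hd τ s hs hsJ
  have hs' : s ∈ plIdeal K τ := by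
    apply mem_of_support
    intro u hu
    obtain ⟨θ, hθ, hθτ⟩ := hbad u hu
    exact ⟨θ, hθ, Ideal.subset_span (Or.inr ⟨θ, hθτ, rfl⟩)⟩
  exact Ideal.add_mem _ hs' hh'

theorem sup_eq_inf (hd : 0 < d) (w₁ w₂ : Idx d n) :
    schubertVanishing K d n w₁ ⊔ schubertVanishing K d n w₂ =
      schubertVanishing K d n (W4bk4grassmannian.inf w₁ w₂) := by
  have hinf1 : W4bk4grassmannian.inf w₁ w₂ ≤ w₁ := fun t => min_le_left _ _
  have hinf2 : W4bk4grassmannian.inf w₁ w₂ ≤ w₂ := fun t => min_le_right _ _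
  apply le_antisymm (sup_le (schubert_antitone K hinf1) (schubert_antitone K hinf2))
  intro f hf
  obtain ⟨s, h, rfl, hh, hs⟩ := exists_std f
  obtain ⟨s1, s2, hsum, h1, h2⟩ := exists_split s (fun u => ∀ θ ∈ u.support, θ ≤ w₁)
  obtain ⟨s11, s12, hsum1, h11, h12⟩ := exists_split s1 (fun u => ∀ θ ∈ u.support, θ ≤ w₂)
  have hs2 : s2 ∈ schubertVanishing K d n w₁ := by
    apply mem_of_support
    intro u hu
    have h3 := (h2 u hu).2
    push Not at h3
    obtain ⟨θ, hθ, hθτ⟩ := h3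
    exact ⟨θ, hθ, X_mem K w₁ θ hθτ⟩
  have hs12 : s12 ∈ schubertVanishing K d n w₂ := by
    apply mem_of_support
    intro u hu
    have h3 := (h12 u hu).2
    push Not at h3
    obtain ⟨θ, hθ, hθτ⟩ := h3
    exact ⟨θ, hθ, X_mem K w₂ θ hθτ⟩
  have hh1 : h ∈ schubertVanishing K d n w₁ := plIdealTop_le K w₁ hh
  have hs11J : s11 ∈ schubertVanishing K d n (W4bk4grassmannian.inf w₁ w₂) := by
    have h3 : s11 = (s + h) - h - s2 - s12 := by
      rw [hsum, hsum1]
      ring
    rw [h3]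
    exact Ideal.sub_mem _ (Ideal.sub_mem _ (Ideal.sub_mem _ hf (schubert_antitone K hinf1 hh1))
      (schubert_antitone K hinf1 hs2)) (schubert_antitone K hinf2 hs12)
  have hzero : s11 = 0 := Groth.Agent.SMTIndep9.indep K hd (W4bk4grassmannian.inf w₁ w₂) s11
    (fun u hu => ⟨hs u (h1 u (h11 u hu).1).1, fun θ hθ t =>
      le_min ((h1 u (h11 u hu).1).2 θ hθ t) ((h11 u hu).2 θ hθ t)⟩) hs11J
  rw [hsum, hsum1, hzero, zero_add]
  have h4 : s12 + s2 + h = (s2 + h) + s12 := by ring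
  rw [h4]
  exact Submodule.add_mem_sup (Ideal.add_mem _ hs2 hh1) hs12

theorem sup_isRadical (hd : 0 < d) (w₁ w₂ : Idx d n) :
    (schubertVanishing K d n w₁ ⊔ schubertVanishing K d n w₂).IsRadical := by
  rw [sup_eq_inf K hd]
  exact schubert_isRadical K _

theorem divisors_eq (hd : 0 < d) (τ : Idx d n) (hτ : ∃ φ : Idx d n, φ < τ) :
    schubertVanishing K d n τ ⊔ Ideal.span {MvPolynomial.X τ} =
      ⨅ φ ∈ divisors τ, schubertVanishing K d n φ := by
  have hle : schubertVanishing K d n τ ⊔ Ideal.span {MvPolynomial.X τ} ≤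
      ⨅ φ ∈ divisors τ, schubertVanishing K d n φ := by
    apply sup_le
    · apply le_iInf
      intro φ
      apply le_iInf
      intro hφ
      exact schubert_antitone K hφ.1.le
    · rw [Ideal.span_le, Set.singleton_subset_iff, SetLike.mem_coe, Ideal.mem_iInf]
      intro φ
      rw [Ideal.mem_iInf]
      intro hφ
      exact X_mem K φ τ (not_le_of_gt hφ.1)
  apply le_antisymm hle
  intro f hf
  obtain ⟨s, h, rfl, hh, hs⟩ := exists_std f
  obtain ⟨s1, s2, hsum, h1, h2⟩ := exists_split s (fun u => ∀ θ ∈ u.support, θ ≤ τ)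
  obtain ⟨a, b, hsum1, ha, hb⟩ := exists_split s1 (fun u => τ ∈ u.support)
  have hs2 : s2 ∈ schubertVanishing K d n τ := by
    apply mem_of_support
    intro u hu
    have h3 := (h2 u hu).2
    push Not at h3
    obtain ⟨θ, hθ, hθτ⟩ := h3
    exact ⟨θ, hθ, X_mem K τ θ hθτ⟩
  have hh1 : h ∈ schubertVanishing K d n τ := plIdealTop_le K τ hh
  have haX : a ∈ Ideal.span {(MvPolynomial.X τ : PlRing K d n)} :=
    mem_of_support _ a (fun u hu => ⟨τ, (ha u hu).2, Ideal.subset_span rfl⟩)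
  have hbmem : b ∈ ⨅ φ ∈ divisors τ, schubertVanishing K d n φ := by
    have h3 : b = (s + h) - h - s2 - a := by
      rw [hsum, hsum1]
      ring
    rw [h3]
    exact Ideal.sub_mem _ (Ideal.sub_mem _ (Ideal.sub_mem _ hf (hle (Ideal.mem_sup_left hh1)))
      (hle (Ideal.mem_sup_left hs2))) (hle (Ideal.mem_sup_right haX))
  have hbchain : ∀ u ∈ b.support, IsChainSupp u := fun u hu => hs u (h1 u (hb u hu).1).1
  have hbzero : b = 0 := by
    by_contra hne
    obtain ⟨u, hu⟩ : b.support.Nonempty := by rwa [MvPolynomial.support_nonempty]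
    have hule : ∀ θ ∈ u.support, θ ≤ τ := (h1 u (hb u hu).1).2
    have hunot : τ ∉ u.support := (hb u hu).2
    obtain ⟨φ', hφ'div, hφ'⟩ : ∃ φ' ∈ divisors τ, ∀ θ ∈ u.support, θ ≤ φ' := by
      by_cases hu0 : u = 0
      · obtain ⟨φ0, hφ0⟩ := hτ
        obtain ⟨φ', hdiv, -⟩ := Groth.Agent.S11268.result d n φ0 τ hφ0
        refine ⟨φ', hdiv, ?_⟩
        rw [hu0]
        intro θ hθ
        simp at hθ
      · obtain ⟨θ0, hθ0, htop⟩ := Groth.Agent.SMTIndep9.exists_top (hbchain u hu) hu0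
        have hlt : θ0 < τ := lt_of_le_of_ne (hule θ0 hθ0) (fun h => hunot (h ▸ hθ0))
        obtain ⟨φ', hdiv, hle'⟩ := Groth.Agent.S11268.result d n θ0 τ hlt
        exact ⟨φ', hdiv, fun θ hθ => le_trans (htop θ hθ) hle'⟩
    have hbφ : b ∈ schubertVanishing K d n φ' := by
      rw [Ideal.mem_iInf] at hbmem
      have h3 := hbmem φ'
      rw [Ideal.mem_iInf] at h3
      exact h3 hφ'div
    obtain ⟨θ, hθ, hθn⟩ := no_std_of_mem K hd φ' b hbchain hbφ u hu
    exact hθn (hφ' θ hθ)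
  rw [hsum, hsum1, hbzero, add_zero]
  have h4 : a + s2 + h = (s2 + h) + a := by ring
  rw [h4]
  exact Submodule.add_mem_sup (Ideal.add_mem _ hs2 hh1) haX

end Groth.Agent.SMT9
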