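import Mathlib
import Groth.Agent.Lib.KDim1_helper9
import Groth.Agent.Lib.CellMinor_helper9
import Groth.Agent.Lib.SMTThms_helper9
import Groth.Agent.Lib.PluckRel2_helper9

/-!
# The second fundamental theorem for pairs of matrices

The determinantal variety of `r × d` matrices of rank `≤ n` is the opposite big cell of a Schubert
variety `X(w_n)` of `G(d, d + r)`.  We restrict Plücker polynomials to the cell (`piC`), lift
polynomials on the cell (`liftC`), homogenise with respect to the bottom Plücker coordinate and use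
that the echelon matrices of shape `w_n` have a bottom block of the form `U * W`.
-/

set_option autoImplicit false

universe u

namespace Groth.Agent.SFT9

open W4bk4grassmannian MvPolynomial Function Finset
open Groth.Agent.FFT9 (iota iota_le)
open Groth.Agent.Rich9 (val_add_le)
open Groth.Agent.SMTIndep9 (Var rho rho_X echMatrix)

/-! ### Homogenisation -/

section Homog

variable (K : Type u) [Field K] {σ : Type*}

lemma aeval_smul_of_homog (p : σ → K) (c : K) (k : ℕ) (φ : MvPolynomial σ K)
    (hφ : φ.IsHomogeneous k) :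
    MvPolynomial.aeval (fun θ => c * p θ) φ = c ^ k * MvPolynomial.aeval p φ := by
  rw [aeval_def, eval₂_eq, aeval_def, eval₂_eq, Finset.mul_sum]
  apply Finset.sum_congr rfl
  intro m hm
  have hdeg : k = ∑ i ∈ m.support, m i := hφ.degree_eq_sum_deg_support hm
  have h1 : ∏ i ∈ m.support, (c * p i) ^ m i = c ^ k * ∏ i ∈ m.support, p i ^ m i := by
    rw [hdeg, ← Finset.prod_pow_eq_pow_sum, ← Finset.prod_mul_distrib]
    apply Finset.prod_congr rfl
    intro i _
    rw [mul_pow]
  rw [h1]
  ring

/-- Homogenisation of `G` in degree `totalDegree G` with respect to the variable `θ₀`. -/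
noncomputable def homog (θ₀ : σ) (G : MvPolynomial σ K) : MvPolynomial σ K :=
  ∑ k ∈ Finset.range (G.totalDegree + 1), X θ₀ ^ (G.totalDegree - k) * homogeneousComponent k G

lemma map_homog_of_one {A : Type*} [CommRing A] [Algebra K A] (θ₀ : σ) (G : MvPolynomial σ K)
    (φ : MvPolynomial σ K →ₐ[K] A) (h : φ (X θ₀) = 1) : φ (homog K θ₀ G) = φ G := by
  have h0 : φ G = φ (∑ k ∈ Finset.range (G.totalDegree + 1), homogeneousComponent k G) := by
    rw [sum_homogeneousComponent]
  rw [h0]
  unfold homog
  rw [map_sum, map_sum]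
  apply Finset.sum_congr rfl
  intro k _
  rw [map_mul, map_pow, h, one_pow, one_mul]

lemma aeval_homog_smul (θ₀ : σ) (G : MvPolynomial σ K) (p : σ → K) (c : K) (h : p θ₀ = 1) :
    MvPolynomial.aeval (fun θ => c * p θ) (homog K θ₀ G) =
      c ^ G.totalDegree * MvPolynomial.aeval p G := by
  have h0 : MvPolynomial.aeval p G =
      MvPolynomial.aeval p (∑ k ∈ Finset.range (G.totalDegree + 1), homogeneousComponent k G) := by
    rw [sum_homogeneousComponent]
  rw [h0]
  unfold homog
  rw [map_sum, map_sum, Finset.mul_sum]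
  apply Finset.sum_congr rfl
  intro k hk
  rw [Finset.mem_range] at hk
  rw [map_mul, map_pow, aeval_X, h, mul_one,
    aeval_smul_of_homog K p c k _ (homogeneousComponent_isHomogeneous k G), ← mul_assoc, ← pow_add,
    Nat.sub_add_cancel (by omega)]

end Homog

/-! ### A product of an `(n+1) × n` and an `n × (n+1)` matrix has determinant zero -/

lemma det_mul_eq_zero_of_lt {R : Type*} [CommRing R] (n : ℕ) (P : Matrix (Fin (n + 1)) (Fin n) R)
    (Q : Matrix (Fin n) (Fin (n + 1)) R) : (P * Q).det = 0 := by
  obtain ⟨P', hP'⟩ : ∃ P' : Matrix (Fin (n + 1)) (Fin (n + 1)) R,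
      P' = Matrix.of fun (i : Fin (n + 1)) (j : Fin (n + 1)) =>
        if h : j.val < n then P i ⟨j.val, h⟩ else 0 := ⟨_, rfl⟩
  obtain ⟨Q', hQ'⟩ : ∃ Q' : Matrix (Fin (n + 1)) (Fin (n + 1)) R,
      Q' = Matrix.of fun (j : Fin (n + 1)) (k : Fin (n + 1)) =>
        if h : j.val < n then Q ⟨j.val, h⟩ k else 0 := ⟨_, rfl⟩
  have hlast : ∀ i, P' i (Fin.last n) = 0 := by
    intro i
    rw [hP', Matrix.of_apply, dif_neg (by simp)]
  have hPQ : P * Q = P' * Q' := by
    apply Matrix.ext
    intro i k
    rw [Matrix.mul_apply, Matrix.mul_apply, Fin.sum_univ_castSucc, hlast, zero_mul, add_zero]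
    apply Finset.sum_congr rfl
    intro j _
    have h1 : P' i j.castSucc = P i j := by
      rw [hP', Matrix.of_apply, dif_pos (show (j.castSucc).val < n from j.isLt)]
      rfl
    have h2 : Q' j.castSucc k = Q j k := by
      rw [hQ', Matrix.of_apply, dif_pos (show (j.castSucc).val < n from j.isLt)]
      rfl
    rw [h1, h2]
  rw [hPQ, Matrix.det_mul, Matrix.det_eq_zero_of_column_eq_zero (Fin.last n) hlast, zero_mul]

variable (K : Type u) [Field K]

/-! ### Minors of a product vanish -/

theorem le_ker (n m q : ℕ) : CAlgX.minorIdeal (genMatrix K m q) (n + 1) ≤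
    RingHom.ker (pairingMap K n m q).toRingHom := by
  unfold CAlgX.minorIdeal
  rw [Ideal.span_le]
  rintro _ ⟨⟨a, b⟩, rfl⟩
  rw [SetLike.mem_coe, RingHom.mem_ker]
  show (pairingMap K n m q) ((genMatrix K m q).submatrix a b).det = 0
  rw [AlgHom.map_det]
  have hM : (pairingMap K n m q).mapMatrix ((genMatrix K m q).submatrix a b) =
      (Matrix.of fun (i : Fin (n + 1)) (k : Fin n) => (X (Sum.inl (a i, k)) : PairRing K n m q)) *
      (Matrix.of fun (k : Fin n) (j : Fin (n + 1)) => (X (Sum.inr (k, b j)) : PairRing K n m q)) := by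
    apply Matrix.ext
    intro i j
    rw [AlgHom.mapMatrix_apply, Matrix.map_apply, Matrix.submatrix_apply, Matrix.mul_apply]
    unfold genMatrix pairingMap
    rw [Matrix.of_apply, aeval_X]
    rfl
  rw [hM]
  exact det_mul_eq_zero_of_lt n _ _

/-! ### The pairing map is injective when `q ≤ n` -/

theorem eq_zero_of_le (n m q : ℕ) (hqn : q ≤ n) (f : MvPolynomial (Fin m × Fin q) K)
    (hf : pairingMap K n m q f = 0) : f = 0 := by
  obtain ⟨χ, hχ⟩ : ∃ χ : PairRing K n m q →ₐ[K] MvPolynomial (Fin m × Fin q) K,
      χ = MvPolynomial.aeval (Sum.elim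
        (fun p : Fin m × Fin n => if h : p.2.val < q then X (p.1, ⟨p.2.val, h⟩) else 0)
        (fun p : Fin n × Fin q => if p.1.val = p.2.val then 1 else 0)) := ⟨_, rfl⟩
  have h : χ.comp (pairingMap K n m q) = AlgHom.id K _ := by
    apply MvPolynomial.algHom_ext
    intro p
    rw [AlgHom.comp_apply, AlgHom.id_apply]
    unfold pairingMap
    rw [aeval_X, map_sum]
    rw [Finset.sum_eq_single (⟨p.2.val, lt_of_lt_of_le p.2.isLt hqn⟩ : Fin n)]
    · rw [map_mul, hχ, aeval_X, aeval_X, Sum.elim_inl, Sum.elim_inr]
      simp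
    · intro k _ hk
      rw [map_mul, hχ, aeval_X, aeval_X, Sum.elim_inl, Sum.elim_inr]
      have hk' : ¬ (k.val = p.2.val) := fun hkp => hk (Fin.ext hkp)
      simp [hk']
    · intro hne
      exact absurd (Finset.mem_univ _) hne
  have h2 := AlgHom.congr_fun h f
  rw [AlgHom.comp_apply, hf, map_zero, AlgHom.id_apply] at h2
  exact h2.symm

variable (d r : ℕ)

/-! ### Restriction to the opposite big cell -/

/-- Restriction of Plücker polynomials to the opposite big cell. -/
noncomputable def piC : PlRing K d (d + r) →ₐ[K] CellRing K d r :=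
  MvPolynomial.aeval fun θ : Idx d (d + r) => cellMinor K d r θ

lemma piC_X (θ : Idx d (d + r)) : piC K d r (X θ) = cellMinor K d r θ := by
  unfold piC
  rw [aeval_X]

/-- The matrix `[I ; Z₀]`. -/
def cellPt (b : Fin r × Fin d → K) : Matrix (Fin (d + r)) (Fin d) K :=
  Matrix.of fun i j => if h : i.val < d then (if i.val = j.val then 1 else 0)
    else b (⟨i.val - d, by have := i.isLt; omega⟩, j)

lemma cellPt_eq (b : Fin r × Fin d → K) :
    cellPt K d r b = (cellMatrix K d r).map (MvPolynomial.eval b) := by
  apply Matrix.ext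
  intro i j
  simp only [cellPt, cellMatrix, Matrix.map_apply, Matrix.of_apply]
  split_ifs
  · exact (map_one _).symm
  · exact (map_zero _).symm
  · exact (MvPolynomial.eval_X _).symm

lemma det_cellPt (b : Fin r × Fin d → K) (a : Fin d → Fin (d + r)) :
    ((cellPt K d r b).submatrix a id).det =
      MvPolynomial.eval b ((cellMatrix K d r).submatrix a id).det := by
  rw [RingHom.map_det, RingHom.mapMatrix_apply, cellPt_eq]
  rfl

lemma eval_piC (b : Fin r × Fin d → K) (G : PlRing K d (d + r)) :
    MvPolynomial.eval b (piC K d r G) = evalMinors K d (d + r) (cellPt K d r b) G := by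
  have hcomp : (MvPolynomial.eval b : _ →+* K).comp (piC K d r).toRingHom =
      (evalMinors K d (d + r) (cellPt K d r b)).toRingHom := by
    apply MvPolynomial.ringHom_ext
    · intro c
      simp only [RingHom.coe_comp, AlgHom.toRingHom_eq_coe, RingHom.coe_coe, Function.comp_apply,
        MvPolynomial.algHom_C, MvPolynomial.eval_C, MvPolynomial.algebraMap_eq]
      rfl
    · intro θ
      simp only [RingHom.coe_comp, AlgHom.toRingHom_eq_coe, RingHom.coe_coe, Function.comp_apply]
      rw [piC_X]
      unfold evalMinors cellMinor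
      rw [aeval_X, det_cellPt]
  exact RingHom.congr_fun hcomp G

lemma piC_coord [Infinite K] (a : Fin d → Fin (d + r)) :
    piC K d r (coord K d (d + r) a) = ((cellMatrix K d r).submatrix a id).det := by
  apply MvPolynomial.funext
  intro b
  rw [eval_piC, Groth.Agent.PluckRel9.evalMinors_coord, det_cellPt]

lemma piC_shuffle [Infinite K] (i j : Idx d (d + r)) (s : Fin d) :
    piC K d r (shuffleRel K i j s) = 0 := by
  apply MvPolynomial.funext
  intro b
  rw [eval_piC, Groth.Agent.PluckRel9.evalMinors_shuffleRel, map_zero]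

lemma piC_iota : piC K d r (X (iota (Nat.le_add_right d r))) = 1 := by
  rw [piC_X]
  unfold cellMinor
  have h : (cellMatrix K d r).submatrix (iota (Nat.le_add_right d r)).1 id = 1 := by
    apply Matrix.ext
    intro s t
    simp only [Matrix.submatrix_apply, cellMatrix, Matrix.of_apply, id_eq, Matrix.one_apply]
    have hs : ((iota (Nat.le_add_right d r)).1 s).val = s.val := rfl
    rw [dif_pos (by rw [hs]; exact s.isLt), hs]
    by_cases hst : s = t
    · rw [if_pos hst, if_pos (by rw [hst])]
    · rw [if_neg hst, if_neg (fun h => hst (Fin.ext h))]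
  rw [h, Matrix.det_one]

/-! ### Lifting polynomials on the cell -/

/-- The tuple `(0, …, j-1, d+i, j+1, …, d-1)`. -/
def liftRow (i : Fin r) (j : Fin d) : Fin d → Fin (d + r) :=
  Function.update (iota (Nat.le_add_right d r)).1 j ⟨d + i.val, by have := i.isLt; omega⟩

/-- The lift `z_{ij} ↦ ± X_{(0, …, d+i, …, d-1)}`. -/
noncomputable def liftC : CellRing K d r →ₐ[K] PlRing K d (d + r) :=
  MvPolynomial.aeval fun p : Fin r × Fin d => coord K d (d + r) (liftRow d r p.1 p.2)

lemma piC_liftC [Infinite K] (f : CellRing K d r) : piC K d r (liftC K d r f) = f := by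
  have h : (piC K d r).comp (liftC K d r) = AlgHom.id K _ := by
    apply MvPolynomial.algHom_ext
    rintro ⟨i, j⟩
    rw [AlgHom.comp_apply, AlgHom.id_apply]
    unfold liftC
    rw [aeval_X, piC_coord]
    have hM : (cellMatrix K d r).submatrix (liftRow d r i j) id =
        Matrix.updateRow (1 : Matrix (Fin d) (Fin d) (CellRing K d r)) j (fun t => X (i, t)) := by
      apply Matrix.ext
      intro s t
      rw [Matrix.submatrix_apply, Matrix.updateRow_apply, id_eq]
      by_cases hs : s = j
      · rw [if_pos hs, hs]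
        unfold liftRow
        rw [Function.update_self]
        unfold cellMatrix
        rw [Matrix.of_apply, dif_neg (by simp)]
        refine congrArg X (Prod.ext (Fin.ext ?_) rfl)
        show d + i.val - d = i.val
        omega
      · rw [if_neg hs]
        unfold liftRow
        rw [Function.update_of_ne hs]
        unfold cellMatrix
        have hsv : ((iota (Nat.le_add_right d r)).1 s).val = s.val := rfl
        rw [Matrix.of_apply, dif_pos (by rw [hsv]; exact s.isLt), hsv, Matrix.one_apply]
        by_cases hst : s = t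
        · rw [if_pos hst, if_pos (by rw [hst])]
        · rw [if_neg hst, if_neg (fun h => hst (Fin.ext h))]
    rw [hM, ← Matrix.cramer_transpose_apply, Matrix.transpose_one, Matrix.cramer_one]
    rfl
  exact AlgHom.congr_fun h f

/-! ### The Schubert index of the determinantal variety -/

/-- The Schubert index of the determinantal variety of rank `≤ n`. -/
def wn (n : ℕ) : Idx d (d + r) :=
  ⟨fun j => ⟨if j.val < d - n then min n r + j.val else r + j.val, by
      have := j.isLt
      split_ifs <;> omega⟩, fun a b h => by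
    rw [Fin.lt_def] at h ⊢
    show (if a.val < d - n then min n r + a.val else r + a.val) <
      (if b.val < d - n then min n r + b.val else r + b.val)
    split_ifs <;> omega⟩

lemma le_wn (n : ℕ) (hn : n < d) (θ : Idx d (d + r))
    (hθ : (θ.1 ⟨d - (n + 1), by omega⟩).val < d) : θ ≤ wn d r n := by
  intro j
  rw [Fin.le_def]
  show (θ.1 j).val ≤ (if j.val < d - n then min n r + j.val else r + j.val)
  have hj := j.isLt
  have hlast := val_add_le θ.1 θ.2 j (d - 1 - j.val) ⟨d - 1, by omega⟩
    (by show d - 1 = j.val + (d - 1 - j.val); omega)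
  have hb := (θ.1 ⟨d - 1, by omega⟩).isLt
  split_ifs with hjn
  · have hmid := val_add_le θ.1 θ.2 j (d - (n + 1) - j.val) ⟨d - (n + 1), by omega⟩
      (by show d - (n + 1) = j.val + (d - (n + 1) - j.val); omega)
    omega
  · omega

lemma wn_lt (n : ℕ) (j : Fin d) (hj : j.val < d - n) : ((wn d r n).1 j).val < d := by
  show (if j.val < d - n then min n r + j.val else r + j.val) < d
  rw [if_pos hj]
  omega

lemma piC_mem [Infinite K] (hd : 0 < d) (n : ℕ) (hn : n < d) (G : PlRing K d (d + r))
    (hG : G ∈ schubertVanishing K d (d + r) (wn d r n)) :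
    piC K d r G ∈ CAlgX.minorIdeal (genMatrix K r d) (n + 1) := by
  rw [← Groth.Agent.SMT9.plIdeal_eq K hd] at hG
  have hle : plIdeal K (wn d r n) ≤
      Ideal.comap (piC K d r) (CAlgX.minorIdeal (genMatrix K r d) (n + 1)) := by
    unfold plIdeal
    rw [Ideal.span_le]
    rintro g (⟨i, j, s, -, rfl⟩ | ⟨φ, hφ, rfl⟩)
    · rw [SetLike.mem_coe, Ideal.mem_comap, piC_shuffle]
      exact Ideal.zero_mem _
    · rw [SetLike.mem_coe, Ideal.mem_comap, piC_X]
      apply Groth.Agent.CellMinor9.cellMinor_mem K d r hd (n + 1) (Nat.succ_pos n) hn φ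
      by_contra hlt
      exact hφ (le_wn d r n hn φ (not_le.1 hlt))
  exact hle hG

/-! ### Evaluation of `rho` and of the pairing map at points -/

lemma eval_rho {N : ℕ} (w : Idx d N) (b : Var d N → K) (G : PlRing K d N) :
    MvPolynomial.eval b (rho K w G) = evalMinors K d N
      (Matrix.of fun i t => if i ≤ w.1 t then b (toLex (i, t)) else 0) G := by
  have hcomp : (MvPolynomial.eval b : _ →+* K).comp (rho K w).toRingHom =
      (evalMinors K d N (Matrix.of fun i t => if i ≤ w.1 t then b (toLex (i, t)) else 0)).toRingHom := by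
    apply MvPolynomial.ringHom_ext
    · intro c
      simp only [RingHom.coe_comp, AlgHom.toRingHom_eq_coe, RingHom.coe_coe, Function.comp_apply,
        MvPolynomial.algHom_C, MvPolynomial.eval_C, MvPolynomial.algebraMap_eq]
      rfl
    · intro θ
      simp only [RingHom.coe_comp, AlgHom.toRingHom_eq_coe, RingHom.coe_coe, Function.comp_apply]
      rw [rho_X]
      unfold evalMinors
      rw [aeval_X, RingHom.map_det]
      congr 1
      apply Matrix.ext
      intro s t
      simp only [RingHom.mapMatrix_apply, Matrix.map_apply, Matrix.submatrix_apply, echMatrix,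
        Matrix.of_apply, id_eq]
      split_ifs
      · rw [MvPolynomial.eval_X]
      · rw [map_zero]
  exact RingHom.congr_fun hcomp G

lemma eval_pairing (n : ℕ) (q : (Fin r × Fin n) ⊕ (Fin n × Fin d) → K) (b' : Fin r × Fin d → K)
    (h : ∀ p : Fin r × Fin d, b' p = ∑ k : Fin n, q (Sum.inl (p.1, k)) * q (Sum.inr (k, p.2)))
    (f : CellRing K d r) :
    MvPolynomial.eval q (pairingMap K n r d f) = MvPolynomial.eval b' f := by
  have hcomp : (MvPolynomial.eval q : _ →+* K).comp (pairingMap K n r d).toRingHom =
      MvPolynomial.eval b' := by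
    apply MvPolynomial.ringHom_ext
    · intro c
      simp only [RingHom.coe_comp, AlgHom.toRingHom_eq_coe, RingHom.coe_coe, Function.comp_apply,
        MvPolynomial.algHom_C, MvPolynomial.eval_C, MvPolynomial.algebraMap_eq]
    · intro p
      simp only [RingHom.coe_comp, AlgHom.toRingHom_eq_coe, RingHom.coe_coe, Function.comp_apply]
      unfold pairingMap
      rw [aeval_X, map_sum, MvPolynomial.eval_X, h]
      apply Finset.sum_congr rfl
      intro k _
      rw [map_mul, MvPolynomial.eval_X, MvPolynomial.eval_X]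
  exact RingHom.congr_fun hcomp f

end Groth.Agent.SFT9
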