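import Mathlib
import Groth.Agent.Lib.BiTab1_helper9
import Groth.Agent.Lib.SFT1_helper9

/-!
# The dictionary between minors and Plücker indices: orders (helper9)
APPEND-ONLY once landed.
-/

set_option autoImplicit false

universe u

namespace Groth.Agent.BiTab9

open W4bk4grassmannian MvPolynomial Function Finset
open Groth.Agent.Gale9
open Groth.Agent.FFT9 (iota iota_le)
open Groth.Agent.SFT9 (wn le_wn wn_lt)

variable {d r : ℕ}

/-- the reversed rows -/
def rowsRev {k : ℕ} (A : Idx k r) : Fin k → Fin r := fun i =>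
  ⟨r - 1 - (A.1 i).val, by have := (A.1 i).isLt; omega⟩

lemma rowsRev_injective {k : ℕ} (A : Idx k r) : Injective (rowsRev A) := by
  intro i j hij
  have h1 : r - 1 - (A.1 i).val = r - 1 - (A.1 j).val := congrArg Fin.val hij
  have h2 := (A.1 i).isLt
  have h3 := (A.1 j).isLt
  exact A.2.injective (Fin.ext (by omega))

/-- the Plücker index of a minor (rows reversed) -/
noncomputable def Phi (M : MinorIdx r d) : Idx d (d + r) :=
  theta (rowsRev M.2.1) M.2.2.1 (rowsRev_injective _) M.2.2.2.injective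

lemma size_le (M : MinorIdx r d) : M.1 + 1 ≤ d := by
  have h1 := cntlt_le_self M.2.2.1 M.2.2.2.injective d
  rwa [cntlt_of_ge _ d (le_refl _)] at h1

lemma cntlt_Phi_le (M : MinorIdx r d) (x : ℕ) (hx : x ≤ d) :
    cntlt (Phi M).1 x = x - cntlt M.2.2.1 x := by
  unfold Phi
  rw [cntlt_theta, min_eq_right hx]
  have h1 : (univ.filter fun i : Fin (M.1 + 1) => d + (rowsRev M.2.1 i).val < x) = ∅ := by
    rw [Finset.filter_eq_empty_iff]
    intro i _
    omega
  rw [h1, Finset.card_empty, add_zero]

lemma cntlt_Phi_ge (M : MinorIdx r d) (z : ℕ) (hz : z ≤ r) :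
    cntlt (Phi M).1 (d + z) = d - cntlt M.2.1.1 (r - z) := by
  classical
  unfold Phi
  rw [cntlt_theta, min_eq_left (Nat.le_add_right d z),
    cntlt_of_ge M.2.2.1 (d + z) (Nat.le_add_right d z)]
  have h1 : (univ.filter fun i : Fin (M.1 + 1) => d + (rowsRev M.2.1 i).val < d + z) =
      univ.filter fun i : Fin (M.1 + 1) => ¬ (M.2.1.1 i).val < r - z := by
    ext i
    simp only [Finset.mem_filter, Finset.mem_univ, true_and]
    have h2 : (rowsRev M.2.1 i).val = r - 1 - (M.2.1.1 i).val := rfl
    have h3 := (M.2.1.1 i).isLt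
    rw [h2]
    omega
  have h4 := Finset.card_filter_add_card_filter_not (s := (univ : Finset (Fin (M.1 + 1))))
    (fun i : Fin (M.1 + 1) => (M.2.1.1 i).val < r - z)
  rw [Finset.card_univ, Fintype.card_fin] at h4
  rw [h1]
  have h5 := size_le M
  have h6 : cntlt M.2.1.1 (r - z) =
      (univ.filter fun i : Fin (M.1 + 1) => (M.2.1.1 i).val < r - z).card := rfl
  rw [h6]
  omega

lemma cntlt_Phi_top (M : MinorIdx r d) (x : ℕ) (hx : d + r ≤ x) : cntlt (Phi M).1 x = d :=
  cntlt_of_ge _ x hx

/-- the order on minors corresponds to the entrywise order on Plücker indices -/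
theorem Phi_le_iff (M M' : MinorIdx r d) : Phi M ≤ Phi M' ↔ MinorGE M M' := by
  have hgA := gale M.2.1.1 M'.2.1.1 M.2.1.2 M'.2.1.2
  have hgB := gale M.2.2.1 M'.2.2.1 M.2.2.2 M'.2.2.2
  have hs := size_le M
  have hs' := size_le M'
  rw [le_iff_cntlt]
  constructor
  · intro h
    have hB : ∀ x, cntlt M.2.2.1 x ≤ cntlt M'.2.2.1 x := by
      intro x
      by_cases hx : x ≤ d
      · have h1 := h x
        rw [cntlt_Phi_le M x hx, cntlt_Phi_le M' x hx] at h1
        have h2 := cntlt_le_self M.2.2.1 M.2.2.2.injective x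
        have h3 := cntlt_le_self M'.2.2.1 M'.2.2.2.injective x
        omega
      · have h1 := h d
        rw [cntlt_Phi_le M d (le_refl _), cntlt_Phi_le M' d (le_refl _),
          cntlt_of_ge _ d (le_refl _), cntlt_of_ge _ d (le_refl _)] at h1
        rw [cntlt_of_ge _ x (by omega), cntlt_of_ge _ x (by omega)]
        omega
    have hA : ∀ y, cntlt M.2.1.1 y ≤ cntlt M'.2.1.1 y := by
      intro y
      by_cases hy : y ≤ r
      · have h1 := h (d + (r - y))
        rw [cntlt_Phi_ge M (r - y) (Nat.sub_le r y), cntlt_Phi_ge M' (r - y) (Nat.sub_le r y),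
          Nat.sub_sub_self hy] at h1
        have h2 := cntlt_le M.2.1.1 y
        have h3 := cntlt_le M'.2.1.1 y
        omega
      · have h1 := hB d
        rw [cntlt_of_ge _ d (le_refl _), cntlt_of_ge _ d (le_refl _)] at h1
        rw [cntlt_of_ge _ y (by omega), cntlt_of_ge _ y (by omega)]
        exact h1
    obtain ⟨hk, hrows⟩ := hgA.2 hA
    obtain ⟨-, hcols⟩ := hgB.2 hB
    exact ⟨by omega, fun j j' hjj => ⟨hrows j j' hjj, hcols j j' hjj⟩⟩
  · rintro ⟨hk, hall⟩
    have hA := hgA.1 ⟨by omega, fun j j' hjj => (hall j j' hjj).1⟩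
    have hB := hgB.1 ⟨by omega, fun j j' hjj => (hall j j' hjj).2⟩
    intro x
    by_cases hx : x ≤ d
    · rw [cntlt_Phi_le M x hx, cntlt_Phi_le M' x hx]
      have := hB x
      omega
    · by_cases hx2 : x ≤ d + r
      · obtain ⟨z, rfl⟩ : ∃ z, x = d + z := ⟨x - d, by omega⟩
        rw [cntlt_Phi_ge M z (by omega), cntlt_Phi_ge M' z (by omega)]
        have := hA (r - z)
        omega
      · rw [cntlt_Phi_top M x (by omega), cntlt_Phi_top M' x (by omega)]

/-- antisymmetry of the order on minors -/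
lemma minorGE_antisymm (M M' : MinorIdx r d) (h1 : MinorGE M M') (h2 : MinorGE M' M) :
    M = M' := by
  obtain ⟨s, A, B⟩ := M
  obtain ⟨s', A', B'⟩ := M'
  obtain ⟨hk, hall⟩ := h1
  obtain ⟨hk', hall'⟩ := h2
  have hss : s = s' := le_antisymm hk hk'
  subst hss
  have hA : A = A' := by
    apply Subtype.ext
    funext j
    exact le_antisymm (hall' j j rfl).1 (hall j j rfl).1
  have hB : B = B' := by
    apply Subtype.ext
    funext j
    exact le_antisymm (hall' j j rfl).2 (hall j j rfl).2
  rw [hA, hB]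

theorem Phi_injective : Injective (Phi : MinorIdx r d → Idx d (d + r)) := by
  intro M M' h
  apply minorGE_antisymm
  · rw [← Phi_le_iff, h]
  · rw [← Phi_le_iff, h]

/-- position versus counting function -/
lemma lt_iff_cntlt {N : ℕ} (θ : Idx d N) (t₀ : Fin d) (x : ℕ) :
    (θ.1 t₀).val < x ↔ t₀.val < cntlt θ.1 x := by
  constructor
  · intro h
    unfold cntlt
    have h2 : (Finset.Iic t₀).card ≤ (univ.filter fun i : Fin d => (θ.1 i).val < x).card := by
      apply Finset.card_le_card
      intro i hi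
      rw [Finset.mem_Iic] at hi
      rw [Finset.mem_filter]
      refine ⟨Finset.mem_univ _, ?_⟩
      have := Fin.le_def.1 (θ.2.monotone hi)
      omega
    rw [Fin.card_Iic] at h2
    omega
  · intro h
    by_contra hge
    rw [not_lt] at hge
    unfold cntlt at h
    have h2 : (univ.filter fun i : Fin d => (θ.1 i).val < x).card ≤ (Finset.Iio t₀).card := by
      apply Finset.card_le_card
      intro i hi
      rw [Finset.mem_filter] at hi
      rw [Finset.mem_Iio, ← θ.2.lt_iff_lt, Fin.lt_def]
      omega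
    rw [Fin.card_Iio] at h2
    omega

theorem Phi_le_wn (M : MinorIdx r d) (n : ℕ) (hn : n < d) :
    Phi M ≤ wn d r n ↔ M.1 + 1 ≤ n := by
  have hs := size_le M
  have hc : cntlt (Phi M).1 d = d - (M.1 + 1) := by
    rw [cntlt_Phi_le M d (le_refl _), cntlt_of_ge _ d (le_refl _)]
  constructor
  · intro h
    by_contra hlt
    rw [not_le] at hlt
    -- the entry at position `d - (M.1 + 1)` is `< d`
    have h1 : ((Phi M).1 ⟨d - (M.1 + 1), by omega⟩).val < d := by
      have h2 := Fin.le_def.1 (h ⟨d - (M.1 + 1), by omega⟩)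
      have h3 := wn_lt d r n ⟨d - (M.1 + 1), by omega⟩ (by show d - (M.1 + 1) < d - n; omega)
      omega
    rw [lt_iff_cntlt, hc] at h1
    simp only at h1
    omega
  · intro h
    apply le_wn d r n hn
    rw [lt_iff_cntlt, hc]
    show d - (n + 1) < d - (M.1 + 1)
    omega

theorem Phi_ne_iota (M : MinorIdx r d) : Phi M ≠ iota (Nat.le_add_right d r) := by
  intro h
  have hs := size_le M
  have hc : cntlt (Phi M).1 d = d - (M.1 + 1) := by
    rw [cntlt_Phi_le M d (le_refl _), cntlt_of_ge _ d (le_refl _)]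
  have h1 : cntlt (iota (Nat.le_add_right d r)).1 d = d := by
    unfold cntlt
    rw [Finset.filter_true_of_mem, Finset.card_univ, Fintype.card_fin]
    intro j _
    exact j.isLt
  rw [h] at hc
  omega

end Groth.Agent.BiTab9
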