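import Mathlib
import Groth.Agent.Lib.BiTab2_helper9

/-!
# The dictionary between minors and Plücker indices: surjectivity (helper9)
APPEND-ONLY once landed.
-/

set_option autoImplicit false

universe u

namespace Groth.Agent.BiTab9

open W4bk4grassmannian MvPolynomial Function Finset
open Groth.Agent.Gale9
open Groth.Agent.FFT9 (iota iota_le)
open Groth.Agent.Rich9 (val_add_le)
open Groth.Agent.Straight9 (le_strictMono_val)

variable {d r : ℕ}

lemma eq_iota_of_lt (θ : Idx d (d + r)) (h : ∀ t, (θ.1 t).val < d) :
    θ = iota (Nat.le_add_right d r) := by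
  apply Subtype.ext
  funext t
  apply Fin.ext
  show (θ.1 t).val = t.val
  have h1 := le_strictMono_val θ.1 θ.2 t.val t.isLt
  have hd : 0 < d := lt_of_le_of_lt (Nat.zero_le _) t.isLt
  have h2 := val_add_le θ.1 θ.2 t (d - 1 - t.val) ⟨d - 1, by omega⟩
    (by show d - 1 = t.val + (d - 1 - t.val); have := t.isLt; omega)
  have h3 := h ⟨d - 1, by omega⟩
  have h4 : (⟨t.val, t.isLt⟩ : Fin d) = t := Fin.ext rfl
  rw [h4] at h1
  omega

theorem Phi_surjective (θ : Idx d (d + r)) (hθ : θ ≠ iota (Nat.le_add_right d r)) :
    ∃ M : MinorIdx r d, Phi M = θ := by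
  classical
  obtain ⟨e, he⟩ : ∃ e, e = cntlt θ.1 d := ⟨_, rfl⟩
  have hed : e < d := by
    have h1 : e ≤ d := by rw [he]; exact cntlt_le _ _
    rcases Nat.lt_or_ge e d with h | h
    · exact h
    · exfalso
      apply hθ
      apply eq_iota_of_lt
      intro t
      rw [lt_iff_cntlt, ← he]
      have := t.isLt
      omega
  -- there is an entry `≥ d`, so `0 < r`
  have hr : 0 < r := by
    have h1 : ¬ ((θ.1 ⟨e, hed⟩).val < d) := by
      rw [lt_iff_cntlt, ← he]
      exact lt_irrefl e
    have h2 := (θ.1 ⟨e, hed⟩).isLt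
    omega
  obtain ⟨Bset, hBset⟩ : ∃ Bset : Finset (Fin d),
      Bset = univ.filter (fun j : Fin d => ∀ t, (θ.1 t).val ≠ j.val) := ⟨_, rfl⟩
  obtain ⟨Aset, hAset⟩ : ∃ Aset : Finset (Fin r),
      Aset = univ.filter (fun a : Fin r => ∃ t, (θ.1 t).val = d + (r - 1 - a.val)) := ⟨_, rfl⟩
  -- counting in `Bset`
  have LB : ∀ x, x ≤ d → (Bset.filter fun j => j.val < x).card + cntlt θ.1 x = x := by
    intro x hx
    have h1 : (univ.filter fun j : Fin d => j.val < x).card = x := by
      rw [Fin.card_filter_val_lt, min_eq_right hx]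
    have h2 := Finset.card_filter_add_card_filter_not
      (s := univ.filter fun j : Fin d => j.val < x) (fun j : Fin d => ∀ t, (θ.1 t).val ≠ j.val)
    rw [h1] at h2
    have h3 : ((univ.filter fun j : Fin d => j.val < x).filter
        fun j : Fin d => ∀ t, (θ.1 t).val ≠ j.val) = Bset.filter fun j => j.val < x := by
      rw [hBset]
      ext j
      simp only [Finset.mem_filter, Finset.mem_univ, true_and]
      tauto
    have h4 : ((univ.filter fun j : Fin d => j.val < x).filter
        fun j : Fin d => ¬ ∀ t, (θ.1 t).val ≠ j.val).card = cntlt θ.1 x := by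
      rw [cntlt_eq_card_image _ θ.2.injective]
      apply Finset.card_bij (fun j _ => Fin.castLE (Nat.le_add_right d r) j)
      · intro j hj
        simp only [Finset.mem_filter, Finset.mem_univ, true_and, not_forall,
          Decidable.not_not] at hj
        obtain ⟨hjx, t, ht⟩ := hj
        rw [Finset.mem_filter, Finset.mem_image]
        exact ⟨⟨t, Finset.mem_univ _, Fin.ext ht⟩, hjx⟩
      · intro i _ j _ hij
        exact Fin.castLE_injective _ hij
      · intro y hy
        rw [Finset.mem_filter, Finset.mem_image] at hy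
        obtain ⟨⟨t, -, rfl⟩, hyx⟩ := hy
        refine ⟨⟨(θ.1 t).val, by omega⟩, ?_, Fin.ext rfl⟩
        simp only [Finset.mem_filter, Finset.mem_univ, true_and, not_forall, Decidable.not_not]
        exact ⟨hyx, t, rfl⟩
    rw [h3, h4] at h2
    exact h2
  -- counting in `Aset`
  have LA : ∀ z, z ≤ r → (Aset.filter fun a => a.val < r - z).card + cntlt θ.1 (d + z) = d := by
    intro z hz
    have h2 := Finset.card_filter_add_card_filter_not (s := (univ : Finset (Fin d)))
      (fun t : Fin d => (θ.1 t).val < d + z)
    rw [Finset.card_univ, Fintype.card_fin] at h2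
    have h4 : (Aset.filter fun a => a.val < r - z).card =
        (univ.filter fun t : Fin d => ¬ (θ.1 t).val < d + z).card := by
      symm
      apply Finset.card_bij (fun t _ => (⟨r - 1 - ((θ.1 t).val - d), by omega⟩ : Fin r))
      · intro t ht
        simp only [Finset.mem_filter, Finset.mem_univ, true_and, not_lt] at ht
        rw [hAset]
        simp only [Finset.mem_filter, Finset.mem_univ, true_and]
        have := (θ.1 t).isLt
        exact ⟨⟨t, by omega⟩, by omega⟩
      · intro t ht t' ht' htt
        simp only [Finset.mem_filter, Finset.mem_univ, true_and, not_lt] at ht ht'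
        have h5 := congrArg Fin.val htt
        simp only at h5
        have := (θ.1 t).isLt
        have := (θ.1 t').isLt
        exact θ.2.injective (Fin.ext (by omega))
      · intro a ha
        rw [hAset] at ha
        simp only [Finset.mem_filter, Finset.mem_univ, true_and] at ha
        obtain ⟨⟨t, ht⟩, haz⟩ := ha
        refine ⟨t, ?_, ?_⟩
        · simp only [Finset.mem_filter, Finset.mem_univ, true_and, not_lt]
          have := a.isLt
          omega
        · apply Fin.ext
          have := a.isLt
          show r - 1 - ((θ.1 t).val - d) = a.val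
          omega
    have h5 : cntlt θ.1 (d + z) = (univ.filter fun t : Fin d => (θ.1 t).val < d + z).card := rfl
    rw [h4, h5]
    omega
  have hBcard : Bset.card = d - e := by
    have h1 := LB d (le_refl _)
    have h2 : (Bset.filter fun j => j.val < d) = Bset := by
      apply Finset.filter_true_of_mem
      intro j _
      exact j.isLt
    rw [h2, ← he] at h1
    omega
  have hAcard : Aset.card = d - e := by
    have h1 := LA 0 (Nat.zero_le _)
    have h2 : (Aset.filter fun a => a.val < r - 0) = Aset := by
      apply Finset.filter_true_of_mem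
      intro a _
      have := a.isLt
      omega
    rw [h2, add_zero, ← he] at h1
    omega
  obtain ⟨s, hs⟩ : ∃ s, s + 1 = d - e := ⟨d - e - 1, by omega⟩
  rw [← hs] at hAcard hBcard
  let A : Idx (s + 1) r := ⟨fun i => Aset.orderEmbOfFin hAcard i,
    (Aset.orderEmbOfFin hAcard).strictMono⟩
  let B : Idx (s + 1) d := ⟨fun i => Bset.orderEmbOfFin hBcard i,
    (Bset.orderEmbOfFin hBcard).strictMono⟩
  refine ⟨⟨s, A, B⟩, ?_⟩
  apply eq_of_cntlt
  intro x
  by_cases hx : x ≤ d
  · rw [cntlt_Phi_le _ x hx]
    show x - cntlt (fun i => Bset.orderEmbOfFin hBcard i) x = _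
    rw [cntlt_orderEmb]
    have := LB x hx
    omega
  · by_cases hx2 : x ≤ d + r
    · obtain ⟨z, rfl⟩ : ∃ z, x = d + z := ⟨x - d, by omega⟩
      rw [cntlt_Phi_ge _ z (by omega)]
      show d - cntlt (fun i => Aset.orderEmbOfFin hAcard i) (r - z) = _
      rw [cntlt_orderEmb]
      have := LA z (by omega)
      omega
    · rw [cntlt_Phi_top _ x (by omega), cntlt_of_ge _ x (by omega)]

end Groth.Agent.BiTab9
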