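import Mathlib

/-!
# A normality criterion

If `R` is a domain, `y ≠ 0` generates a radical ideal and `R[1/y]` is integrally closed, then `R`
is integrally closed.
-/

set_option autoImplicit false

namespace Groth.Agent.NormCrit9

theorem isIntegrallyClosed_of_away {R : Type*} [CommRing R] [IsDomain R] (y : R) (hy : y ≠ 0)
    (hrad : (Ideal.span {y}).IsRadical)
    (B : Type*) [CommRing B] [Algebra R B] [IsLocalization.Away y B] [IsIntegrallyClosed B] :
    IsIntegrallyClosed R := by
  have hM : Submonoid.powers y ≤ nonZeroDivisors R :=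
    powers_le_nonZeroDivisors_of_noZeroDivisors hy
  have hunit : ∀ s : Submonoid.powers y, IsUnit (algebraMap R (FractionRing R) s) :=
    fun s => IsLocalization.map_units (FractionRing R) (⟨s.1, hM s.2⟩ : nonZeroDivisors R)
  let g : B →+* FractionRing R := IsLocalization.lift (M := Submonoid.powers y) hunit
  letI : Algebra B (FractionRing R) := g.toAlgebra
  haveI : IsScalarTower R B (FractionRing R) :=
    IsScalarTower.of_algebraMap_eq (fun r => (IsLocalization.lift_eq hunit r).symm)
  haveI : IsFractionRing B (FractionRing R) :=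
    IsFractionRing.isFractionRing_of_isLocalization (Submonoid.powers y) B (FractionRing R) hM
  rw [isIntegrallyClosed_iff (FractionRing R)]
  intro x hx
  have hxB : IsIntegral B x := hx.tower_top
  obtain ⟨b, hb⟩ := (isIntegrallyClosed_iff (FractionRing R)).1 ‹IsIntegrallyClosed B› hxB
  obtain ⟨⟨a, s⟩, has⟩ := IsLocalization.surj (Submonoid.powers y) b
  obtain ⟨k, hk⟩ := (Submonoid.mem_powers_iff _ _).1 s.2
  have hxa : x * algebraMap R (FractionRing R) (y ^ k) = algebraMap R (FractionRing R) a := by
    rw [← hb, IsScalarTower.algebraMap_apply R B (FractionRing R),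
      IsScalarTower.algebraMap_apply R B (FractionRing R), ← map_mul, hk]
    exact congrArg _ has
  obtain ⟨p, hpm, hpe⟩ := hx
  have hyF : algebraMap R (FractionRing R) y ≠ 0 := by
    rw [Ne, map_eq_zero_iff _ (IsFractionRing.injective R (FractionRing R))]
    exact hy
  have key : ∀ (k : ℕ) (a : R),
      x * algebraMap R (FractionRing R) (y ^ k) = algebraMap R (FractionRing R) a →
        ∃ r, algebraMap R (FractionRing R) r = x := by
    intro k
    induction k with
    | zero =>
      intro a ha
      exact ⟨a, by rw [← ha, pow_zero, map_one, mul_one]⟩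
    | succ k ih =>
      intro a ha
      have hdvd : y ^ (k + 1) ∣ a ^ p.natDegree :=
        Polynomial.dvd_pow_natDegree_of_eval₂_eq_zero
          (IsFractionRing.injective R (FractionRing R)) hpm (y ^ (k + 1)) a x hpe
          (by rw [mul_comm]; exact ha)
      have hy_dvd : y ∣ a ^ p.natDegree := dvd_trans (dvd_pow_self y (Nat.succ_ne_zero k)) hdvd
      have hmem : a ∈ Ideal.span {y} := hrad ⟨p.natDegree, Ideal.mem_span_singleton.2 hy_dvd⟩
      obtain ⟨a', rfl⟩ := Ideal.mem_span_singleton.1 hmem
      apply ih a'
      apply mul_right_cancel₀ hyF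
      rw [mul_assoc, ← map_mul, ← pow_succ, ha, map_mul, mul_comm]
  exact key k a hxa

end Groth.Agent.NormCrit9
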