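import Mathlib
import Groth.Agent.Lib.KDim1_helper9
import Groth.Agent.Lib.PluckRel2_helper9

/-!
# The cell of a Schubert variety: `(S/J(w))[1/X_w]` is a localized polynomial ring
-/

set_option autoImplicit false

universe u

namespace Groth.Agent.SchNorm9

open W4bk4grassmannian MvPolynomial Function Finset
open Groth.Agent.SMTIndep9
open Groth.Agent.SMT9
open Groth.Agent.FFT9

variable {d n : ℕ} (K : Type u) [Field K]

lemma eval_minorsHom {σ : Type*} (Mx : Matrix (Fin n) (Fin d) (MvPolynomial σ K)) (b : σ → K)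
    (f : PlRing K d n) :
    eval b (aeval (fun θ : Idx d n => (Mx.submatrix θ.1 id).det) f) =
      evalMinors K d n (Mx.map (eval b)) f := by
  have h : (MvPolynomial.eval b : _ →+* K).comp
      (aeval (fun θ : Idx d n => (Mx.submatrix θ.1 id).det) :
        PlRing K d n →ₐ[K] MvPolynomial σ K).toRingHom =
      (evalMinors K d n (Mx.map (eval b))).toRingHom := by
    apply MvPolynomial.ringHom_ext
    · intro c
      simp only [RingHom.coe_comp, AlgHom.toRingHom_eq_coe, RingHom.coe_coe, Function.comp_apply,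
        MvPolynomial.algHom_C, MvPolynomial.eval_C, MvPolynomial.algebraMap_eq]
      rfl
    · intro θ
      simp only [RingHom.coe_comp, AlgHom.toRingHom_eq_coe, RingHom.coe_coe, Function.comp_apply]
      unfold evalMinors
      rw [aeval_X, aeval_X, RingHom.map_det]
      rfl
  exact RingHom.congr_fun h f

/-- The free coordinates of the cell of `X(w)`. -/
abbrev CellVar (w : Idx d n) : Type := {p : Fin n × Fin d // p.1 ∉ Set.range w.1 ∧ p.1 < w.1 p.2}

/-- The polynomial ring on the cell coordinates and the scaling parameter. -/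
abbrev CellP (w : Idx d n) : Type u := MvPolynomial (Option (CellVar w)) K

open scoped Classical in
/-- The matrix of the cell (the rows `w` form the identity), with first column scaled by `λ`. -/
noncomputable def cellM (hd : 0 < d) (w : Idx d n) : Matrix (Fin n) (Fin d) (CellP K w) :=
  Matrix.of fun i t =>
    (if t = (⟨0, hd⟩ : Fin d) then X none else 1) *
      (if h : i ∈ Set.range w.1 then (if w.1 t = i then 1 else 0)
        else if h2 : i < w.1 t then X (some ⟨(i, t), h, h2⟩) else 0)

/-- Restriction of Plücker polynomials to the cone over the cell. -/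
noncomputable def psi0 (hd : 0 < d) (w : Idx d n) : PlRing K d n →ₐ[K] CellP K w :=
  aeval fun θ : Idx d n => ((cellM K hd w).submatrix θ.1 id).det

lemma cellM_zero (hd : 0 < d) (w : Idx d n) (i : Fin n) (t : Fin d) (hit : w.1 t < i) :
    cellM K hd w i t = 0 := by
  unfold cellM
  rw [Matrix.of_apply]
  by_cases h : i ∈ Set.range w.1
  · rw [dif_pos h, if_neg (ne_of_lt hit), mul_zero]
  · rw [dif_neg h, dif_neg (not_lt.2 hit.le), mul_zero]

lemma cellM_w (hd : 0 < d) (w : Idx d n) (s t : Fin d) :
    cellM K hd w (w.1 s) t =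
      (if t = (⟨0, hd⟩ : Fin d) then X none else 1) * (if t = s then 1 else 0) := by
  unfold cellM
  rw [Matrix.of_apply, dif_pos ⟨s, rfl⟩]
  congr 1
  by_cases hts : t = s
  · rw [if_pos hts, if_pos (by rw [hts])]
  · rw [if_neg hts, if_neg (fun h => hts (w.2.injective h))]

lemma psi0_eq_zero_of_mem [Infinite K] (hd : 0 < d) (w : Idx d n) (f : PlRing K d n)
    (hf : f ∈ schubertVanishing K d n w) : psi0 K hd w f = 0 := by
  apply MvPolynomial.funext
  intro b
  unfold psi0
  rw [eval_minorsHom, map_zero]
  rw [mem_schubert_iff] at hf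
  apply hf
  intro φ hφ
  apply det_eq_zero_of_not_le w φ hφ
  intro i t hit
  rw [Matrix.map_apply, cellM_zero K hd w i t hit, map_zero]

lemma cell_point (hd : 0 < d) (w : Idx d n) (f : PlRing K d n) (hf : psi0 K hd w f = 0)
    (b : Var d n → K) (hb : eval b (((echMatrix K w).submatrix w.1 id).det) ≠ 0) :
    eval b (rho K w f) = 0 := by
  classical
  obtain ⟨A, hA⟩ : ∃ A : Matrix (Fin n) (Fin d) K, A = (echMatrix K w).map (eval b) := ⟨_, rfl⟩
  have hAz : ∀ i t, w.1 t < i → A i t = 0 := by
    intro i t hit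
    rw [hA, Matrix.map_apply]
    unfold echMatrix
    rw [Matrix.of_apply, if_neg (not_le.2 hit), map_zero]
  obtain ⟨T, hT⟩ : ∃ T : Matrix (Fin d) (Fin d) K, T = A.submatrix w.1 id := ⟨_, rfl⟩
  have hdetT : T.det = eval b (((echMatrix K w).submatrix w.1 id).det) := by
    rw [RingHom.map_det, hT, hA]
    rfl
  have hTdet : T.det ≠ 0 := by
    rw [hdetT]
    exact hb
  have hTu : IsUnit T.det := isUnit_iff_ne_zero.2 hTdet
  have hTtri : T.BlockTriangular id := by
    intro s t hts
    rw [hT]
    exact hAz (w.1 s) t (w.2 hts)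
  haveI : Invertible T := Matrix.invertibleOfIsUnitDet T hTu
  have hTinv : T⁻¹.BlockTriangular id := Matrix.blockTriangular_inv_of_blockTriangular hTtri
  obtain ⟨M, hM⟩ : ∃ M : Matrix (Fin n) (Fin d) K, M = A * T⁻¹ := ⟨_, rfl⟩
  have hMw : M.submatrix w.1 id = 1 := by
    have h1 : M.submatrix w.1 id = T * T⁻¹ := by
      rw [hM, hT]
      rfl
    rw [h1, Matrix.mul_nonsing_inv _ hTu]
  have hMz : ∀ i t, w.1 t < i → M i t = 0 := by
    intro i t hit
    rw [hM, Matrix.mul_apply]
    apply Finset.sum_eq_zero
    intro s _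
    by_cases hst : s ≤ t
    · rw [hAz i s (lt_of_le_of_lt (w.2.monotone hst) hit), zero_mul]
    · rw [hTinv (show id t < id s from not_le.1 hst), mul_zero]
  obtain ⟨b', hb'⟩ : ∃ b' : Option (CellVar w) → K,
      b' = fun o => Option.elim o T.det (fun v => M v.1.1 v.1.2) := ⟨_, rfl⟩
  have hcell : (cellM K hd w).map (eval b') =
      M * Matrix.diagonal (fun t => if t = (⟨0, hd⟩ : Fin d) then T.det else 1) := by
    apply Matrix.ext
    intro i t
    rw [Matrix.map_apply, Matrix.mul_diagonal]
    unfold cellM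
    rw [Matrix.of_apply, map_mul]
    have h1 : eval b' (if t = (⟨0, hd⟩ : Fin d) then (X none : CellP K w) else 1) =
        if t = (⟨0, hd⟩ : Fin d) then T.det else 1 := by
      split_ifs
      · rw [eval_X, hb']
        rfl
      · rw [map_one]
    rw [h1, mul_comm]
    congr 1
    by_cases h : i ∈ Set.range w.1
    · rw [dif_pos h]
      obtain ⟨s, rfl⟩ := h
      have h2 : M (w.1 s) t = (1 : Matrix (Fin d) (Fin d) K) s t := by
        rw [← hMw]
        rfl
      rw [h2, Matrix.one_apply]
      by_cases hst : s = t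
      · rw [if_pos hst, if_pos (by rw [hst]), map_one]
      · rw [if_neg hst, if_neg (fun h3 => hst (w.2.injective h3).symm), map_zero]
    · rw [dif_neg h]
      by_cases h2 : i < w.1 t
      · rw [dif_pos h2, eval_X, hb']
        rfl
      · rw [dif_neg h2, map_zero]
        have h3 : w.1 t < i := lt_of_le_of_ne (not_lt.1 h2) (fun h4 => h ⟨t, h4⟩)
        exact (hMz i t h3).symm
  have hprod : ∏ t : Fin d, (if t = (⟨0, hd⟩ : Fin d) then T.det else 1) = T.det := by
    rw [Finset.prod_ite_eq' Finset.univ (⟨0, hd⟩ : Fin d) (fun _ => T.det)]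
    simp
  have hminors : ∀ θ : Idx d n, (A.submatrix θ.1 id).det =
      (((cellM K hd w).map (eval b')).submatrix θ.1 id).det := by
    intro θ
    rw [hcell]
    have h1 : A = M * T := by
      rw [hM, Matrix.mul_assoc, Matrix.nonsing_inv_mul _ hTu, Matrix.mul_one]
    have h2 : A.submatrix θ.1 id = M.submatrix θ.1 id * T := by
      rw [h1]
      rfl
    have h3 : (M * Matrix.diagonal (fun t => if t = (⟨0, hd⟩ : Fin d) then T.det else 1)).submatrix
        θ.1 id = M.submatrix θ.1 id *
          Matrix.diagonal (fun t => if t = (⟨0, hd⟩ : Fin d) then T.det else 1) := rfl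
    rw [h2, h3, Matrix.det_mul, Matrix.det_mul, Matrix.det_diagonal, hprod]
  have h1 : eval b (rho K w f) = evalMinors K d n A f := by
    unfold rho
    rw [hA]
    exact eval_minorsHom K (echMatrix K w) b f
  have h2 : evalMinors K d n A f = evalMinors K d n ((cellM K hd w).map (eval b')) f := by
    unfold evalMinors
    have h4 : (fun θ : Idx d n => (A.submatrix θ.1 id).det) =
        fun θ : Idx d n => (((cellM K hd w).map (eval b')).submatrix θ.1 id).det :=
      funext hminors
    rw [h4]
  have h3 := eval_minorsHom K (cellM K hd w) b' f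
  rw [h1, h2, ← h3]
  show eval b' (psi0 K hd w f) = 0
  rw [hf, map_zero]

lemma mem_of_psi0_eq_zero [Infinite K] (hd : 0 < d) (w : Idx d n) (f : PlRing K d n)
    (hf : psi0 K hd w f = 0) : f ∈ schubertVanishing K d n w := by
  rw [← Groth.Agent.KDim9.ker_rho K hd w, RingHom.mem_ker]
  have hΔne : ((echMatrix K w).submatrix w.1 id).det ≠ 0 := (minor_monic K w w le_rfl).1.ne_zero
  have hzero : rho K w f * ((echMatrix K w).submatrix w.1 id).det = 0 := by
    apply MvPolynomial.funext
    intro b
    rw [map_mul, map_zero]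
    by_cases hb : eval b (((echMatrix K w).submatrix w.1 id).det) = 0
    · rw [hb, mul_zero]
    · rw [cell_point K hd w f hf b hb, zero_mul]
  rcases mul_eq_zero.1 hzero with h | h
  · exact h
  · exact absurd h hΔne

/-! ### Generation -/

lemma psi0_coord [Infinite K] (hd : 0 < d) (w : Idx d n) (a : Fin d → Fin n) :
    psi0 K hd w (coord K d n a) = ((cellM K hd w).submatrix a id).det := by
  apply MvPolynomial.funext
  intro b
  unfold psi0
  rw [eval_minorsHom, Groth.Agent.PluckRel9.evalMinors_coord, RingHom.map_det]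
  rfl

lemma prod_c (hd : 0 < d) (w : Idx d n) :
    ∏ t : Fin d, (if t = (⟨0, hd⟩ : Fin d) then (X none : CellP K w) else 1) = X none := by
  rw [Finset.prod_ite_eq' Finset.univ (⟨0, hd⟩ : Fin d) (fun _ => (X none : CellP K w))]
  simp

lemma det_cellM_w (hd : 0 < d) (w : Idx d n) :
    ((cellM K hd w).submatrix w.1 id).det = X none := by
  have h : (cellM K hd w).submatrix w.1 id =
      Matrix.diagonal (fun t => if t = (⟨0, hd⟩ : Fin d) then (X none : CellP K w) else 1) := by
    apply Matrix.ext
    intro s t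
    rw [Matrix.submatrix_apply, id, cellM_w, Matrix.diagonal_apply]
    by_cases hts : s = t
    · subst hts
      rw [if_pos rfl, if_pos rfl, mul_one]
    · rw [if_neg hts, if_neg (Ne.symm hts), mul_zero]
  rw [h, Matrix.det_diagonal, prod_c]

lemma det_cellM_update (hd : 0 < d) (w : Idx d n) (v : CellVar w) :
    ((cellM K hd w).submatrix (Function.update w.1 v.1.2 v.1.1) id).det = X (some v) * X none := by
  classical
  obtain ⟨⟨i, t⟩, hi, hit⟩ := v
  obtain ⟨r, hr⟩ : ∃ r : Fin d → CellP K w, r = fun t' =>
      if h2 : i < w.1 t' then X (some ⟨(i, t'), hi, h2⟩) else 0 := ⟨_, rfl⟩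
  have hN : (cellM K hd w).submatrix (Function.update w.1 t i) id =
      (Matrix.updateRow (1 : Matrix (Fin d) (Fin d) (CellP K w)) t r) *
        Matrix.diagonal (fun t' => if t' = (⟨0, hd⟩ : Fin d) then (X none : CellP K w) else 1) := by
    apply Matrix.ext
    intro s t'
    rw [Matrix.mul_diagonal, Matrix.submatrix_apply, id, Matrix.updateRow_apply,
      Function.update_apply]
    by_cases hst : s = t
    · rw [if_pos hst, if_pos hst, hr]
      unfold cellM
      rw [Matrix.of_apply, dif_neg hi, mul_comm]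
    · rw [if_neg hst, if_neg hst, cellM_w, Matrix.one_apply, mul_comm]
      congr 1
      by_cases h1 : s = t'
      · rw [if_pos h1, if_pos h1.symm]
      · rw [if_neg h1, if_neg (Ne.symm h1)]
  show ((cellM K hd w).submatrix (Function.update w.1 t i) id).det = _
  rw [hN, Matrix.det_mul, Matrix.det_diagonal, prod_c]
  have h1 : (Matrix.updateRow (1 : Matrix (Fin d) (Fin d) (CellP K w)) t r).det = r t := by
    rw [← Matrix.cramer_transpose_apply, Matrix.transpose_one, Matrix.cramer_one]
    rfl
  have h2 : r t = X (some ⟨(i, t), hi, hit⟩) := by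
    rw [hr]
    exact dif_pos hit
  rw [h1, h2]

lemma exists_pow_mul_mem [Infinite K] (hd : 0 < d) (w : Idx d n) (p : CellP K w) :
    ∃ k : ℕ, p * (X none) ^ k ∈ (psi0 K hd w).range := by
  have hlam : (X none : CellP K w) ∈ (psi0 K hd w).range := by
    rw [AlgHom.mem_range]
    refine ⟨X w, ?_⟩
    unfold psi0
    rw [aeval_X]
    exact det_cellM_w K hd w
  have hv : ∀ o : Option (CellVar w), (X o * X none : CellP K w) ∈ (psi0 K hd w).range := by
    intro o
    cases o with
    | none => exact Subalgebra.mul_mem _ hlam hlam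
    | some v =>
      rw [AlgHom.mem_range]
      exact ⟨coord K d n (Function.update w.1 v.1.2 v.1.1), by
        rw [psi0_coord, det_cellM_update]⟩
  induction p using MvPolynomial.induction_on with
  | C a =>
    refine ⟨0, ?_⟩
    rw [pow_zero, mul_one, AlgHom.mem_range]
    exact ⟨C a, MvPolynomial.algHom_C _ a⟩
  | add p q hp hq =>
    obtain ⟨k1, h1⟩ := hp
    obtain ⟨k2, h2⟩ := hq
    refine ⟨k1 + k2, ?_⟩
    have h3 : (p + q) * (X none : CellP K w) ^ (k1 + k2) =
        p * X none ^ k1 * X none ^ k2 + q * X none ^ k2 * X none ^ k1 := by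
      ring
    rw [h3]
    exact Subalgebra.add_mem _ (Subalgebra.mul_mem _ h1 (Subalgebra.pow_mem _ hlam _))
      (Subalgebra.mul_mem _ h2 (Subalgebra.pow_mem _ hlam _))
  | mul_X p o hp =>
    obtain ⟨k, hk⟩ := hp
    refine ⟨k + 1, ?_⟩
    have h3 : p * X o * (X none : CellP K w) ^ (k + 1) = p * X none ^ k * (X o * X none) := by
      ring
    rw [h3]
    exact Subalgebra.mul_mem _ hk (hv o)

end Groth.Agent.SchNorm9
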