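import Mathlib
import Groth.Agent.Lib.SchNorm1_helper9
import Groth.Agent.Lib.NormCrit_helper9
import Groth.Agent.Lib.SMTThms_helper9

/-!
# Schubert cones are normal domains
-/

set_option autoImplicit false

universe u

namespace Groth.Agent.SchNorm9

open W4bk4grassmannian MvPolynomial Function Finset
open Groth.Agent.SMTIndep9
open Groth.Agent.SMT9
open Groth.Agent.FFT9

variable {d n : ℕ} (K : Type u) [Field K]

/-- The localized polynomial ring of the cone over the cell. -/
abbrev CellB (w : Idx d n) : Type u := Localization.Away (X none : CellP K w)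

lemma span_radical [Infinite K] (hd : 0 < d) (hdn : d < n) (w : Idx d n) :
    (Ideal.span {Ideal.Quotient.mk (schubertVanishing K d n w) (X w)}).IsRadical := by
  by_cases hex : ∃ φ : Idx d n, φ < w
  · have hS : (schubertVanishing K d n w ⊔ Ideal.span {(X w : PlRing K d n)}).IsRadical := by
      rw [divisors_eq K hd w hex]
      intro f hf
      obtain ⟨m, hm⟩ := hf
      rw [Ideal.mem_iInf] at hm ⊢
      intro φ
      have h1 := hm φ
      rw [Ideal.mem_iInf] at h1 ⊢
      intro hφ
      exact schubert_isRadical K φ ⟨m, h1 hφ⟩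
    intro a ha
    obtain ⟨m, hm⟩ := ha
    obtain ⟨f, rfl⟩ := Ideal.Quotient.mk_surjective a
    obtain ⟨c, hc⟩ := Ideal.mem_span_singleton'.1 hm
    obtain ⟨g, rfl⟩ := Ideal.Quotient.mk_surjective c
    have h1 : f ^ m - g * X w ∈ schubertVanishing K d n w := by
      rw [← Ideal.Quotient.eq_zero_iff_mem, map_sub, map_mul, map_pow, hc, sub_self]
    have h2 : f ^ m ∈ schubertVanishing K d n w ⊔ Ideal.span {(X w : PlRing K d n)} := by
      have h3 : f ^ m = (f ^ m - g * X w) + g * X w := by ring
      rw [h3]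
      exact Ideal.add_mem _ (Ideal.mem_sup_left h1)
        (Ideal.mem_sup_right (Ideal.mul_mem_left _ _ (Ideal.subset_span rfl)))
    have h3 := hS ⟨m, h2⟩
    obtain ⟨j, hj, z, hz, hjz⟩ := Submodule.mem_sup.1 h3
    obtain ⟨e, he⟩ := Ideal.mem_span_singleton'.1 hz
    rw [← hjz, map_add, Ideal.Quotient.eq_zero_iff_mem.2 hj, zero_add, ← he, map_mul]
    exact Ideal.mul_mem_left _ _ (Ideal.subset_span rfl)
  · have hw : w = iota hdn.le := by
      by_contra hne
      exact hex ⟨iota hdn.le, lt_of_le_of_ne (iota_le hdn.le w) (Ne.symm hne)⟩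
    subst hw
    have hprime := Groth.Agent.Rich9.prime_X_iota K hd hdn (iota hdn.le)
    exact ((Ideal.span_singleton_prime hprime.ne_zero).2 hprime).isRadical

theorem main [Infinite K] (hd : 0 < d) (hdn : d < n) (w : Idx d n) :
    IsDomain (PlRing K d n ⧸ schubertVanishing K d n w) ∧
      IsIntegrallyClosed (PlRing K d n ⧸ schubertVanishing K d n w) := by
  haveI hprime := Groth.Agent.KDim9.isPrime K hd w
  haveI hdom : IsDomain (PlRing K d n ⧸ schubertVanishing K d n w) := Ideal.Quotient.isDomain _
  refine ⟨hdom, ?_⟩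
  obtain ⟨ψ, hψmk⟩ : ∃ ψ : (PlRing K d n ⧸ schubertVanishing K d n w) →+* CellP K w,
      ∀ f, ψ (Ideal.Quotient.mk _ f) = psi0 K hd w f :=
    ⟨Ideal.Quotient.lift _ (psi0 K hd w).toRingHom
      (fun f hf => psi0_eq_zero_of_mem K hd w f hf), fun f => Ideal.Quotient.lift_mk _ _ _⟩
  have hψinj : Function.Injective ψ := by
    rw [injective_iff_map_eq_zero]
    intro a ha
    obtain ⟨f, rfl⟩ := Ideal.Quotient.mk_surjective a
    rw [hψmk] at ha
    exact Ideal.Quotient.eq_zero_iff_mem.2 (mem_of_psi0_eq_zero K hd w f ha)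
  letI : Algebra (PlRing K d n ⧸ schubertVanishing K d n w) (CellB K w) :=
    ((algebraMap (CellP K w) (CellB K w)).comp ψ).toAlgebra
  have halg : ∀ a, algebraMap (PlRing K d n ⧸ schubertVanishing K d n w) (CellB K w) a =
      algebraMap (CellP K w) (CellB K w) (ψ a) := fun a => rfl
  have hlam : ψ (Ideal.Quotient.mk _ (X w)) = X none := by
    rw [hψmk]
    unfold psi0
    rw [aeval_X]
    exact det_cellM_w K hd w
  have hpow : Submonoid.powers (X none : CellP K w) ≤ nonZeroDivisors (CellP K w) :=
    powers_le_nonZeroDivisors_of_noZeroDivisors (X_ne_zero none)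
  have hPinj : Function.Injective (algebraMap (CellP K w) (CellB K w)) :=
    IsLocalization.injective (CellB K w) hpow
  have hne : Ideal.Quotient.mk (schubertVanishing K d n w) (X w) ≠ 0 := by
    rw [Ne, Ideal.Quotient.eq_zero_iff_mem]
    exact Groth.Agent.KDim9.X_not_mem K w w le_rfl
  haveI : IsLocalization.Away (Ideal.Quotient.mk (schubertVanishing K d n w) (X w))
      (CellB K w) := by
    refine (isLocalization_iff (M := Submonoid.powers
      (Ideal.Quotient.mk (schubertVanishing K d n w) (X w))) (S := CellB K w)).2 ⟨?_, ?_, ?_⟩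
    · rintro ⟨y, k, rfl⟩
      show IsUnit (algebraMap _ (CellB K w)
        ((Ideal.Quotient.mk (schubertVanishing K d n w) (X w)) ^ k))
      rw [halg, map_pow, hlam, map_pow]
      exact (IsLocalization.map_units (CellB K w)
        (⟨X none, Submonoid.mem_powers _⟩ : Submonoid.powers (X none : CellP K w))).pow k
    · intro z
      obtain ⟨⟨p, s⟩, hps⟩ := IsLocalization.surj (Submonoid.powers (X none : CellP K w)) z
      obtain ⟨j, hj⟩ := (Submonoid.mem_powers_iff _ _).1 s.2
      obtain ⟨k, hk⟩ := exists_pow_mul_mem K hd w p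
      obtain ⟨r, hr⟩ := (AlgHom.mem_range _).1 hk
      refine ⟨(Ideal.Quotient.mk _ r,
        ⟨(Ideal.Quotient.mk (schubertVanishing K d n w) (X w)) ^ (j + k), ⟨j + k, rfl⟩⟩), ?_⟩
      show z * algebraMap _ (CellB K w)
        ((Ideal.Quotient.mk (schubertVanishing K d n w) (X w)) ^ (j + k)) =
          algebraMap _ (CellB K w) (Ideal.Quotient.mk _ r)
      rw [halg, halg, map_pow, hlam, hψmk, hr, pow_add, map_mul, map_mul, ← mul_assoc, hj, hps]
    · intro x y hxy
      rw [halg, halg] at hxy
      exact ⟨1, by rw [hψinj (hPinj hxy)]⟩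
  haveI : IsIntegrallyClosed (CellB K w) :=
    isIntegrallyClosed_of_isLocalization (CellB K w) (Submonoid.powers (X none : CellP K w)) hpow
  exact Groth.Agent.NormCrit9.isIntegrallyClosed_of_away
    (Ideal.Quotient.mk (schubertVanishing K d n w) (X w)) hne (span_radical K hd hdn w)
    (CellB K w)

end Groth.Agent.SchNorm9
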