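import Mathlib
import Groth.Agent.Lib.SchNorm2_helper9

/-!
# Factoriality of Schubert cones: the ring-theoretic part
-/

set_option autoImplicit false

universe u

namespace Groth.Agent.SchUFD9

open W4bk4grassmannian MvPolynomial Function Finset
open Groth.Agent.SMTIndep9
open Groth.Agent.SMT9
open Groth.Agent.FFT9
open Groth.Agent.SchNorm9

variable {d n : ℕ} (K : Type u) [Field K]

theorem ufd_of_prime [Infinite K] (hd : 0 < d) (w : Idx d n)
    (hp : Prime (Ideal.Quotient.mk (schubertVanishing K d n w) (X w))) :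
    UniqueFactorizationMonoid (PlRing K d n ⧸ schubertVanishing K d n w) := by
  haveI hprime := Groth.Agent.KDim9.isPrime K hd w
  haveI hdom : IsDomain (PlRing K d n ⧸ schubertVanishing K d n w) := Ideal.Quotient.isDomain _
  obtain ⟨ψ, hψmk⟩ : ∃ ψ : (PlRing K d n ⧸ schubertVanishing K d n w) →+* CellP K w,
      ∀ f, ψ (Ideal.Quotient.mk _ f) = psi0 K hd w f :=
    ⟨Ideal.Quotient.lift _ (psi0 K hd w).toRingHom
      (fun f hf => psi0_eq_zero_of_mem K hd w f hf), fun f => Ideal.Quotient.lift_mk _ _ _⟩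
  have hψinj : Function.Injective ψ := by
    rw [injective_iff_map_eq_zero]
    intro a ha
    obtain ⟨f, rfl⟩ := Ideal.Quotient.mk_surjective a
    rw [hψmk] at ha
    exact Ideal.Quotient.eq_zero_iff_mem.2 (mem_of_psi0_eq_zero K hd w f ha)
  letI : Algebra (PlRing K d n ⧸ schubertVanishing K d n w) (CellB K w) :=
    ((algebraMap (CellP K w) (CellB K w)).comp ψ).toAlgebra
  have halg : ∀ a, algebraMap (PlRing K d n ⧸ schubertVanishing K d n w) (CellB K w) a =
      algebraMap (CellP K w) (CellB K w) (ψ a) := fun a => rfl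
  have hlam : ψ (Ideal.Quotient.mk _ (X w)) = X none := by
    rw [hψmk]
    unfold psi0
    rw [aeval_X]
    exact det_cellM_w K hd w
  have hpow : Submonoid.powers (X none : CellP K w) ≤ nonZeroDivisors (CellP K w) :=
    powers_le_nonZeroDivisors_of_noZeroDivisors (X_ne_zero none)
  have hPinj : Function.Injective (algebraMap (CellP K w) (CellB K w)) :=
    IsLocalization.injective (CellB K w) hpow
  haveI : IsLocalization.Away (Ideal.Quotient.mk (schubertVanishing K d n w) (X w))
      (CellB K w) := by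
    refine (isLocalization_iff (M := Submonoid.powers
      (Ideal.Quotient.mk (schubertVanishing K d n w) (X w))) (S := CellB K w)).2 ⟨?_, ?_, ?_⟩
    · rintro ⟨y, k, rfl⟩
      show IsUnit (algebraMap _ (CellB K w)
        ((Ideal.Quotient.mk (schubertVanishing K d n w) (X w)) ^ k))
      rw [halg, map_pow, hlam, map_pow]
      exact (IsLocalization.map_units (CellB K w)
        (⟨X none, Submonoid.mem_powers _⟩ : Submonoid.powers (X none : CellP K w))).pow k
    · intro z
      obtain ⟨⟨p, s⟩, hps⟩ := IsLocalization.surj (Submonoid.powers (X none : CellP K w)) z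
      obtain ⟨j, hj⟩ := (Submonoid.mem_powers_iff _ _).1 s.2
      obtain ⟨k, hk⟩ := exists_pow_mul_mem K hd w p
      obtain ⟨r, hr⟩ := (AlgHom.mem_range _).1 hk
      refine ⟨(Ideal.Quotient.mk _ r,
        ⟨(Ideal.Quotient.mk (schubertVanishing K d n w) (X w)) ^ (j + k), ⟨j + k, rfl⟩⟩), ?_⟩
      show z * algebraMap _ (CellB K w)
        ((Ideal.Quotient.mk (schubertVanishing K d n w) (X w)) ^ (j + k)) =
          algebraMap _ (CellB K w) (Ideal.Quotient.mk _ r)
      rw [halg, halg, map_pow, hlam, hψmk, hr, pow_add, map_mul, map_mul, ← mul_assoc, hj, hps]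
    · intro x y hxy
      rw [halg, halg] at hxy
      exact ⟨1, by rw [hψinj (hPinj hxy)]⟩
  exact (UniqueFactorizationMonoid.iff_of_isLocalizationAway_of_prime hp (CellB K w)).2
    inferInstance

theorem prime_iff_subsingleton [Infinite K] (hd : 0 < d) (hdn : d < n) (τ : Idx d n) :
    Prime (Ideal.Quotient.mk (schubertVanishing K d n τ) (X τ)) ↔
      (divisors τ).Subsingleton := by
  have hne : Ideal.Quotient.mk (schubertVanishing K d n τ) (X τ) ≠ 0 := by
    rw [Ne, Ideal.Quotient.eq_zero_iff_mem]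
    exact Groth.Agent.KDim9.X_not_mem K τ τ le_rfl
  constructor
  · intro hp φ₁ h₁ φ₂ h₂
    by_contra hne12
    have hex : ∃ φ : Idx d n, φ < τ := ⟨φ₁, h₁.1⟩
    have hincomp : ∀ φ φ' : Idx d n, φ ∈ divisors τ → φ' ∈ divisors τ → φ ≠ φ' → ¬ φ ≤ φ' := by
      intro φ φ' hφ hφ' hne' hle
      have h3 := Groth.Agent.KDim9.codeg_lt (lt_of_le_of_ne hle hne')
      have h4 := hφ.2
      have h5 := hφ'.2
      omega
    have hmem : (X φ₁ * X φ₂ : PlRing K d n) ∈
        schubertVanishing K d n τ ⊔ Ideal.span {(X τ : PlRing K d n)} := by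
      rw [divisors_eq K hd τ hex, Ideal.mem_iInf]
      intro φ'
      rw [Ideal.mem_iInf]
      intro hφ'
      by_cases h : φ' = φ₁
      · have h6 : φ₂ ≠ φ' := fun e => hne12 (by rw [h.symm, e])
        exact Ideal.mul_mem_left _ _ (X_mem K φ' φ₂ (hincomp φ₂ φ' h₂ hφ' h6))
      · exact Ideal.mul_mem_right _ _ (X_mem K φ' φ₁ (hincomp φ₁ φ' h₁ hφ' (Ne.symm h)))
    obtain ⟨j, hj, z, hz, hjz⟩ := Submodule.mem_sup.1 hmem
    obtain ⟨g, hg⟩ := Ideal.mem_span_singleton'.1 hz
    have hdvd : Ideal.Quotient.mk (schubertVanishing K d n τ) (X τ) ∣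
        Ideal.Quotient.mk (schubertVanishing K d n τ) (X φ₁) *
          Ideal.Quotient.mk (schubertVanishing K d n τ) (X φ₂) := by
      refine ⟨Ideal.Quotient.mk _ g, ?_⟩
      rw [← map_mul, ← hjz, map_add, Ideal.Quotient.eq_zero_iff_mem.2 hj, zero_add, ← hg,
        map_mul, mul_comm]
    have key : ∀ φ ∈ divisors τ, ¬ Ideal.Quotient.mk (schubertVanishing K d n τ) (X τ) ∣
        Ideal.Quotient.mk (schubertVanishing K d n τ) (X φ) := by
      rintro φ hφ ⟨c, hc⟩
      obtain ⟨e, rfl⟩ := Ideal.Quotient.mk_surjective c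
      have h1 : X φ - X τ * e ∈ schubertVanishing K d n τ := by
        rw [← Ideal.Quotient.eq_zero_iff_mem, map_sub, map_mul, hc, sub_self]
      have h2 : (X φ : PlRing K d n) ∈ schubertVanishing K d n φ := by
        have h3 : (X φ : PlRing K d n) = (X φ - X τ * e) + X τ * e := by ring
        rw [h3]
        exact Ideal.add_mem _ (schubert_antitone K hφ.1.le h1)
          (Ideal.mul_mem_right _ _ (X_mem K φ τ (not_le_of_gt hφ.1)))
      exact Groth.Agent.KDim9.X_not_mem K φ φ le_rfl h2
    rcases hp.dvd_or_dvd hdvd with h | h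
    · exact key φ₁ h₁ h
    · exact key φ₂ h₂ h
  · intro hsub
    by_cases hex : ∃ φ : Idx d n, φ < τ
    · obtain ⟨φ0, hφ0⟩ := hex
      obtain ⟨φ, hφdiv, -⟩ := Groth.Agent.S11268.result d n φ0 τ hφ0
      have hI : schubertVanishing K d n τ ⊔ Ideal.span {(X τ : PlRing K d n)} =
          schubertVanishing K d n φ := by
        rw [divisors_eq K hd τ ⟨φ0, hφ0⟩]
        apply le_antisymm
        · exact iInf₂_le φ hφdiv
        · apply le_iInf₂
          intro φ' hφ'
          rw [hsub hφ' hφdiv]
      rw [← Ideal.span_singleton_prime hne]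
      haveI : (schubertVanishing K d n τ ⊔ Ideal.span {(X τ : PlRing K d n)}).IsPrime := by
        rw [hI]
        exact Groth.Agent.KDim9.isPrime K hd φ
      have hmap : Ideal.map (Ideal.Quotient.mk (schubertVanishing K d n τ))
          (schubertVanishing K d n τ ⊔ Ideal.span {(X τ : PlRing K d n)}) =
          Ideal.span {Ideal.Quotient.mk (schubertVanishing K d n τ) (X τ)} := by
        rw [Ideal.map_sup, Ideal.map_quotient_self, bot_sup_eq, Ideal.map_span,
          Set.image_singleton]
      rw [← hmap]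
      exact Ideal.map_isPrime_of_surjective Ideal.Quotient.mk_surjective
        (by rw [Ideal.mk_ker]; exact le_sup_left)
    · have hw : τ = iota hdn.le := by
        by_contra hne'
        exact hex ⟨iota hdn.le, lt_of_le_of_ne (iota_le hdn.le τ) (Ne.symm hne')⟩
      subst hw
      exact Groth.Agent.Rich9.prime_X_iota K hd hdn _

/-! ### Irreducibility of `X_τ` -/

/-- Scaling all Plücker coordinates by `x`. -/
noncomputable def sc (x : K) : PlRing K d n →ₐ[K] PlRing K d n :=
  aeval fun θ : Idx d n => C x * X θ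

lemma sc_mem (hd : 0 < d) (τ : Idx d n) (x : K) (f : PlRing K d n)
    (hf : f ∈ schubertVanishing K d n τ) : sc K x f ∈ schubertVanishing K d n τ := by
  rw [mem_schubert_iff] at hf ⊢
  intro A hA
  have hdet : ∀ θ : Idx d n,
      ((A * Matrix.diagonal (fun t => if t = (⟨0, hd⟩ : Fin d) then x else 1)).submatrix θ.1 id).det =
        x * (A.submatrix θ.1 id).det := by
    intro θ
    have h1 : (A * Matrix.diagonal (fun t => if t = (⟨0, hd⟩ : Fin d) then x else 1)).submatrix
        θ.1 id = A.submatrix θ.1 id *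
          Matrix.diagonal (fun t => if t = (⟨0, hd⟩ : Fin d) then x else 1) := rfl
    rw [h1, Matrix.det_mul, Matrix.det_diagonal,
      Finset.prod_ite_eq' Finset.univ (⟨0, hd⟩ : Fin d) (fun _ => x), if_pos (mem_univ _),
      mul_comm]
  have hcomp : (evalMinors K d n A).comp (sc K x) =
      evalMinors K d n (A * Matrix.diagonal (fun t => if t = (⟨0, hd⟩ : Fin d) then x else 1)) := by
    apply MvPolynomial.algHom_ext
    intro θ
    rw [AlgHom.comp_apply]
    unfold sc evalMinors
    rw [aeval_X, map_mul, aeval_C, aeval_X, aeval_X, hdet θ]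
    rfl
  have h1 := AlgHom.congr_fun hcomp f
  rw [AlgHom.comp_apply] at h1
  rw [h1]
  apply hf
  intro φ hφ
  rw [hdet φ, hA φ hφ, mul_zero]

/-- The grading map `S → (S/J)[z]`. -/
noncomputable def Psi (τ : Idx d n) :
    PlRing K d n →ₐ[K] Polynomial (PlRing K d n ⧸ schubertVanishing K d n τ) :=
  MvPolynomial.aeval fun θ : Idx d n =>
    Polynomial.C (Ideal.Quotient.mk (schubertVanishing K d n τ) (MvPolynomial.X θ)) * Polynomial.X

lemma Psi_eval (τ : Idx d n) (x : K) (f : PlRing K d n) :
    (Psi K τ f).eval (algebraMap K (PlRing K d n ⧸ schubertVanishing K d n τ) x) =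
      Ideal.Quotient.mk (schubertVanishing K d n τ) (sc K x f) := by
  have h : (Polynomial.evalRingHom
      (algebraMap K (PlRing K d n ⧸ schubertVanishing K d n τ) x)).comp (Psi K τ).toRingHom =
      (Ideal.Quotient.mk (schubertVanishing K d n τ)).comp (sc K x).toRingHom := by
    apply MvPolynomial.ringHom_ext
    · intro c
      show Polynomial.eval _ (Psi K τ (C c)) = Ideal.Quotient.mk _ (sc K x (C c))
      rw [MvPolynomial.algHom_C, MvPolynomial.algHom_C,
        Polynomial.algebraMap_apply (R := K) (A := PlRing K d n ⧸ schubertVanishing K d n τ),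
        Polynomial.eval_C]
      rfl
    · intro θ
      show Polynomial.eval _ (Psi K τ (X θ)) = Ideal.Quotient.mk _ (sc K x (X θ))
      unfold Psi sc
      rw [aeval_X, aeval_X, Polynomial.eval_mul, Polynomial.eval_C, Polynomial.eval_X, map_mul,
        mul_comm]
      rfl
  exact RingHom.congr_fun h f

lemma Psi_eval_one (τ : Idx d n) (f : PlRing K d n) :
    (Psi K τ f).eval 1 = Ideal.Quotient.mk (schubertVanishing K d n τ) f := by
  have h := Psi_eval K τ 1 f
  rw [map_one] at h
  rw [h]
  have h2 : sc K (1 : K) = AlgHom.id K (PlRing K d n) := by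
    apply MvPolynomial.algHom_ext
    intro θ
    unfold sc
    rw [aeval_X, map_one, one_mul]
    rfl
  rw [h2]
  rfl

lemma Psi_eval_zero (τ : Idx d n) (f : PlRing K d n) :
    (Psi K τ f).eval 0 =
      algebraMap K (PlRing K d n ⧸ schubertVanishing K d n τ) (constantCoeff f) := by
  have h := Psi_eval K τ 0 f
  rw [map_zero] at h
  rw [h]
  have h2 : ∀ g : PlRing K d n, sc K (0 : K) g = C (constantCoeff g) := by
    intro g
    have h3 : (sc K (0 : K) : PlRing K d n →ₐ[K] PlRing K d n) =
        aeval (0 : Idx d n → PlRing K d n) := by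
      apply MvPolynomial.algHom_ext
      intro θ
      unfold sc
      rw [aeval_X, aeval_X, map_zero, zero_mul]
      rfl
    rw [h3, MvPolynomial.aeval_zero]
    rfl
  rw [h2]
  rfl

lemma Psi_eq_zero_of_mem [Infinite K] (hd : 0 < d) (τ : Idx d n) (f : PlRing K d n)
    (hf : f ∈ schubertVanishing K d n τ) : Psi K τ f = 0 := by
  haveI hprime := Groth.Agent.KDim9.isPrime K hd τ
  haveI hdom : IsDomain (PlRing K d n ⧸ schubertVanishing K d n τ) := Ideal.Quotient.isDomain _
  apply Polynomial.eq_zero_of_infinite_isRoot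
  apply Set.Infinite.mono (s := Set.range (algebraMap K (PlRing K d n ⧸ schubertVanishing K d n τ)))
  · rintro _ ⟨x, rfl⟩
    show Polynomial.IsRoot _ _
    rw [Polynomial.IsRoot.def, Psi_eval, Ideal.Quotient.eq_zero_iff_mem]
    exact sc_mem K hd τ x f hf
  · exact Set.infinite_range_of_injective
      (algebraMap K (PlRing K d n ⧸ schubertVanishing K d n τ)).injective

theorem irreducible_X [Infinite K] (hd : 0 < d) (τ : Idx d n) :
    Irreducible (Ideal.Quotient.mk (schubertVanishing K d n τ) (X τ)) := by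
  haveI hprime := Groth.Agent.KDim9.isPrime K hd τ
  haveI hdom : IsDomain (PlRing K d n ⧸ schubertVanishing K d n τ) := Ideal.Quotient.isDomain _
  have hne : Ideal.Quotient.mk (schubertVanishing K d n τ) (X τ) ≠ 0 := by
    rw [Ne, Ideal.Quotient.eq_zero_iff_mem]
    exact Groth.Agent.KDim9.X_not_mem K τ τ le_rfl
  obtain ⟨Φ, hΦ⟩ : ∃ Φ : (PlRing K d n ⧸ schubertVanishing K d n τ) →+*
      Polynomial (PlRing K d n ⧸ schubertVanishing K d n τ),
      ∀ f, Φ (Ideal.Quotient.mk _ f) = Psi K τ f :=
    ⟨Ideal.Quotient.lift _ (Psi K τ).toRingHom (fun f hf => Psi_eq_zero_of_mem K hd τ f hf),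
      fun f => Ideal.Quotient.lift_mk _ _ _⟩
  have hunit_of : ∀ a b : PlRing K d n ⧸ schubertVanishing K d n τ,
      Ideal.Quotient.mk (schubertVanishing K d n τ) (X τ) = a * b →
        (Φ a).natDegree = 0 → IsUnit a := by
    intro a b hab hdeg
    obtain ⟨f, rfl⟩ := Ideal.Quotient.mk_surjective a
    rw [hΦ] at hdeg
    have h1 := Polynomial.eq_C_of_natDegree_eq_zero hdeg
    have h2 : (Psi K τ f).eval 1 = (Psi K τ f).eval 0 := by
      rw [h1, Polynomial.eval_C, Polynomial.eval_C]
    rw [Psi_eval_one, Psi_eval_zero] at h2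
    rw [h2]
    have hcc : constantCoeff f ≠ 0 := by
      intro h0
      rw [h0, map_zero] at h2
      rw [h2, zero_mul] at hab
      exact hne hab
    exact (isUnit_iff_ne_zero.2 hcc).map
      (algebraMap K (PlRing K d n ⧸ schubertVanishing K d n τ))
  constructor
  · intro hu
    obtain ⟨c, hc⟩ := hu.exists_right_inv
    obtain ⟨g, rfl⟩ := Ideal.Quotient.mk_surjective c
    have h2 : X τ * g - 1 ∈ schubertVanishing K d n τ := by
      rw [← Ideal.Quotient.eq_zero_iff_mem, map_sub, map_mul, map_one]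
      exact sub_eq_zero.2 hc
    have h3 := Groth.Agent.KDim9.cc_eq_zero_of_mem K hd τ _ h2
    rw [map_sub, map_mul, constantCoeff_X, zero_mul, map_one, zero_sub] at h3
    exact one_ne_zero (neg_eq_zero.1 h3)
  · intro a b hab
    have ha0 : a ≠ 0 := by
      rintro rfl
      rw [zero_mul] at hab
      exact hne hab
    have hb0 : b ≠ 0 := by
      rintro rfl
      rw [mul_zero] at hab
      exact hne hab
    have hΦinj : ∀ c : PlRing K d n ⧸ schubertVanishing K d n τ, c ≠ 0 → Φ c ≠ 0 := by
      intro c hc h0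
      obtain ⟨f, rfl⟩ := Ideal.Quotient.mk_surjective c
      rw [hΦ] at h0
      have h1 := Psi_eval_one K τ f
      rw [h0, Polynomial.eval_zero] at h1
      exact hc h1.symm
    have hprod : Φ (Ideal.Quotient.mk _ (X τ)) = Φ a * Φ b := by
      rw [hab, map_mul]
    have hdegX : (Φ (Ideal.Quotient.mk (schubertVanishing K d n τ) (X τ))).natDegree = 1 := by
      rw [hΦ]
      unfold Psi
      rw [aeval_X]
      exact Polynomial.natDegree_C_mul_X _ hne
    rw [hprod, Polynomial.natDegree_mul (hΦinj a ha0) (hΦinj b hb0)] at hdegX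
    have hcases : (Φ a).natDegree = 0 ∨ (Φ b).natDegree = 0 := by omega
    rcases hcases with h | h
    · exact Or.inl (hunit_of a b hab h)
    · exact Or.inr (hunit_of b a (by rw [hab, mul_comm]) h)

theorem ufd_iff_prime [Infinite K] (hd : 0 < d) (τ : Idx d n) :
    UniqueFactorizationMonoid (PlRing K d n ⧸ schubertVanishing K d n τ) ↔
      Prime (Ideal.Quotient.mk (schubertVanishing K d n τ) (X τ)) := by
  haveI hprime := Groth.Agent.KDim9.isPrime K hd τ
  haveI hdom : IsDomain (PlRing K d n ⧸ schubertVanishing K d n τ) := Ideal.Quotient.isDomain _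
  constructor
  · intro hufd
    exact UniqueFactorizationMonoid.irreducible_iff_prime.1 (irreducible_X K hd τ)
  · exact ufd_of_prime K hd τ

end Groth.Agent.SchUFD9
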