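import Mathlib
import Groth.Agent.Lib.CMSch1_helper9
import Groth.Agent.Lib.SchUFD1_helper9
import Groth.Agent.Lib.TensorFieldCM_helper9
import Groth.Agent.S11268

/-!
# Schubert varieties and unions of Schubert divisors are arithmetically Cohen–Macaulay (helper9)
APPEND-ONLY once landed.
-/

set_option autoImplicit false
set_option maxHeartbeats 400000
universe u

namespace Groth.Agent.CMSch9

open W4bk4grassmannian MvPolynomial Function Finset
open Groth.Agent.SMT9 Groth.Agent.FFT9
open Groth.Agent.Straight9 (IsChainSupp)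

attribute [local instance] MvPolynomial.gradedAlgebra

variable {d n : ℕ}

/-! ### Combinatorics of divisors -/

lemma codeg_inf_add_sup (φ ψ : Idx d n) :
    codeg (W4bk4grassmannian.inf φ ψ) + codeg (W4bk4grassmannian.sup φ ψ) = codeg φ + codeg ψ := by
  unfold codeg
  rw [← Finset.sum_add_distrib, ← Finset.sum_add_distrib]
  apply Finset.sum_congr rfl
  intro t _
  show ((min (φ.1 t) (ψ.1 t)).val - t.val) + ((max (φ.1 t) (ψ.1 t)).val - t.val) = _
  rcases le_total (φ.1 t) (ψ.1 t) with h | h
  · rw [min_eq_left h, max_eq_right h]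
  · rw [min_eq_right h, max_eq_left h, add_comm]

lemma inf_mem_divisors {τ φ ψ : Idx d n} (hφ : φ ∈ divisors τ) (hψ : ψ ∈ divisors τ)
    (hne : φ ≠ ψ) : W4bk4grassmannian.inf φ ψ ∈ divisors ψ := by
  obtain ⟨hφτ, hφc⟩ := hφ
  obtain ⟨hψτ, hψc⟩ := hψ
  have hsum := codeg_inf_add_sup φ ψ
  have hsupτ : W4bk4grassmannian.sup φ ψ ≤ τ := fun t => max_le (hφτ.le t) (hψτ.le t)
  have hφsup : φ ≤ W4bk4grassmannian.sup φ ψ := fun t => le_max_left _ _
  have hψsup : ψ ≤ W4bk4grassmannian.sup φ ψ := fun t => le_max_right _ _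
  have hφne : φ ≠ W4bk4grassmannian.sup φ ψ := by
    intro heq
    have hψφ : ψ ≤ φ := by rw [heq]; exact hψsup
    rcases lt_or_eq_of_le hψφ with hlt | heq'
    · have := Groth.Agent.KDim9.codeg_lt hlt
      omega
    · exact hne heq'.symm
  have h1 := Groth.Agent.KDim9.codeg_lt (lt_of_le_of_ne hφsup hφne)
  have h2 := Groth.Agent.KDim9.codeg_le hsupτ
  have hinfψ : W4bk4grassmannian.inf φ ψ ≤ ψ := fun t => min_le_right _ _
  have hc : codeg (W4bk4grassmannian.inf φ ψ) + 1 = codeg ψ := by omega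
  refine ⟨lt_of_le_of_ne hinfψ ?_, hc⟩
  intro heq
  rw [heq] at hc
  omega

variable (K : Type u) [Field K]

/-! ### Homogeneity -/

lemma schubert_isHomogeneous [Infinite K] (hd : 0 < d) (τ : Idx d n) :
    (schubertVanishing K d n τ).IsHomogeneous (homogeneousSubmodule (Idx d n) K) :=
  isHomogeneous_of_scale_mem K (Idx d n) _
    (fun t _ f hf => Groth.Agent.SchUFD9.sc_mem K hd τ t f hf)

lemma X_mem_irrelevant (θ : Idx d n) :
    (X θ : PlRing K d n) ∈
      (HomogeneousIdeal.irrelevant (homogeneousSubmodule (Idx d n) K)).toIdeal := by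
  rw [irrelevant_eq_ker, RingHom.mem_ker, MvPolynomial.constantCoeff_X]

/-! ### Distributivity -/

theorem sup_iInf_eq [Infinite K] (hd : 0 < d) {s : ℕ} (φ : Fin s → Idx d n) (ψ : Idx d n) :
    (⨅ i, schubertVanishing K d n (φ i)) ⊔ schubertVanishing K d n ψ =
      ⨅ i, schubertVanishing K d n (W4bk4grassmannian.inf (φ i) ψ) := by
  apply le_antisymm
  · apply sup_le
    · apply le_iInf
      intro i
      exact (iInf_le _ i).trans (schubert_antitone K (fun t => min_le_left _ _))
    · apply le_iInf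
      intro i
      exact schubert_antitone K (fun t => min_le_right _ _)
  · intro f hf
    obtain ⟨s0, h, rfl, hh, hs⟩ := exists_std f
    have hhJ : ∀ w, h ∈ schubertVanishing K d n w := fun w => plIdealTop_le K w hh
    have hs0 : s0 ∈ ⨅ i, schubertVanishing K d n (W4bk4grassmannian.inf (φ i) ψ) := by
      have h3 : s0 = (s0 + h) - h := by ring
      rw [h3]
      refine Ideal.sub_mem _ hf ?_
      rw [Ideal.mem_iInf]
      intro i
      exact hhJ _
    obtain ⟨s1, s2, hsum, h1, h2⟩ := exists_split s0 (fun u => ∃ θ ∈ u.support, ¬ θ ≤ ψ)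
    have hs1 : s1 ∈ schubertVanishing K d n ψ := by
      apply mem_of_support
      intro u hu
      obtain ⟨θ, hθ, hnot⟩ := (h1 u hu).2
      exact ⟨θ, hθ, X_mem K ψ θ hnot⟩
    have hs2 : s2 ∈ ⨅ i, schubertVanishing K d n (φ i) := by
      rw [Ideal.mem_iInf]
      intro i
      apply mem_of_support
      intro u hu
      obtain ⟨hu0, hnot⟩ := h2 u hu
      rw [Ideal.mem_iInf] at hs0
      obtain ⟨θ, hθ, hθi⟩ := no_std_of_mem K hd (W4bk4grassmannian.inf (φ i) ψ) s0 hs (hs0 i) u hu0
      refine ⟨θ, hθ, X_mem K (φ i) θ ?_⟩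
      intro hle
      have hψ : θ ≤ ψ := by
        by_contra h'
        exact hnot ⟨θ, hθ, h'⟩
      exact hθi (fun t => le_min (hle t) (hψ t))
    rw [hsum]
    have h4 : s1 + s2 + h = (s2 + h) + s1 := by ring
    rw [h4]
    refine Submodule.add_mem_sup (Ideal.add_mem _ hs2 ?_) hs1
    rw [Ideal.mem_iInf]
    intro i
    exact hhJ _

/-! ### The bottom of the induction -/

lemma cm_of_minimal [Infinite K] (hd : 0 < d) (τ : Idx d n) (hmin : ¬ ∃ φ : Idx d n, φ < τ) :
    LocCoh.IsCohenMacaulayRing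
      (PlRing K d n ⧸ (schubertVanishing K d n τ ⊔ Ideal.span {(X τ : PlRing K d n)})) := by
  have hker : schubertVanishing K d n τ ⊔ Ideal.span {(X τ : PlRing K d n)} =
      RingHom.ker (MvPolynomial.constantCoeff : PlRing K d n →+* K) := by
    apply le_antisymm
    · rw [← irrelevant_eq_ker]
      apply sup_le
      · exact Groth.Agent.Link9.le_irrelevant_of_isHomogeneous (deg_zero_const' K (Idx d n)) _
          (schubert_isHomogeneous K hd τ) (Groth.Agent.KDim9.isPrime K hd τ).ne_top
      · rw [Ideal.span_le, Set.singleton_subset_iff]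
        exact X_mem_irrelevant K τ
    · intro f hf
      rw [RingHom.mem_ker, MvPolynomial.constantCoeff_eq] at hf
      apply mem_of_support
      intro u hu
      have hu0 : u ≠ 0 := by
        intro h0
        rw [h0, MvPolynomial.mem_support_iff] at hu
        exact hu hf
      obtain ⟨θ, hθ⟩ : ∃ θ, θ ∈ u.support :=
        Finset.nonempty_iff_ne_empty.2 (fun h => hu0 (Finsupp.support_eq_empty.1 h))
      refine ⟨θ, hθ, ?_⟩
      by_cases hθτ : θ = τ
      · rw [hθτ]
        exact Ideal.mem_sup_right (Ideal.subset_span rfl)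
      · apply Ideal.mem_sup_left
        apply X_mem K τ θ
        intro hle
        exact hmin ⟨θ, lt_of_le_of_ne hle hθτ⟩
  rw [hker]
  have e : (PlRing K d n ⧸ RingHom.ker (MvPolynomial.constantCoeff : PlRing K d n →+* K)) ≃+* K :=
    RingHom.quotientKerEquivOfSurjective (f := (MvPolynomial.constantCoeff : PlRing K d n →+* K))
      (fun c => ⟨C c, MvPolynomial.constantCoeff_C _ c⟩)
  exact Groth.Agent.Lib.CMEquivH3.isCohenMacaulayRing_of_ringEquiv e.symm
    (Groth.Agent.TensorCM.isCMRing_field K)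

end Groth.Agent.CMSch9
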