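import Mathlib
import Groth.Agent.Lib.CMSch2_helper9

/-!
# Schubert varieties and unions of Schubert divisors are arithmetically Cohen–Macaulay: the induction
(helper9)  APPEND-ONLY once landed.
-/

set_option autoImplicit false
set_option maxHeartbeats 400000
universe u

namespace Groth.Agent.CMSch9

open W4bk4grassmannian MvPolynomial Function Finset
open Groth.Agent.SMT9 Groth.Agent.FFT9

attribute [local instance] MvPolynomial.gradedAlgebra

lemma iInf_last {α : Type*} [CompleteLattice α] {s : ℕ} (f : Fin (s + 1) → α) :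
    ⨅ i, f i = (⨅ i : Fin s, f i.castSucc) ⊓ f (Fin.last s) := by
  apply le_antisymm
  · exact le_inf (le_iInf fun i => iInf_le _ i.castSucc) (iInf_le _ (Fin.last s))
  · apply le_iInf
    intro i
    refine Fin.lastCases ?_ (fun j => ?_) i
    · exact inf_le_right
    · exact inf_le_left.trans (iInf_le (fun i : Fin s => f i.castSucc) j)

variable {d n : ℕ} (K : Type u) [Field K] [IsAlgClosed K]

theorem cm_main (hd : 0 < d) (hdn : d ≤ n) : ∀ N : ℕ,
    (∀ τ : Idx d n, codeg τ = N →
      LocCoh.IsCohenMacaulayRing (PlRing K d n ⧸ schubertVanishing K d n τ)) ∧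
    (∀ τ : Idx d n, codeg τ = N → ∀ (s : ℕ) (φ : Fin (s + 1) → Idx d n),
      (∀ i, φ i ∈ divisors τ) →
      LocCoh.IsCohenMacaulayRing (PlRing K d n ⧸ ⨅ i, schubertVanishing K d n (φ i)) ∧
      ringKrullDim (PlRing K d n ⧸ ⨅ i, schubertVanishing K d n (φ i)) =
        ((N : ℕ) : WithBot ℕ∞)) := by
  intro N
  induction N using Nat.strong_induction_on with
  | _ N ih =>
  have hB : ∀ τ : Idx d n, codeg τ = N → ∀ (s : ℕ) (φ : Fin (s + 1) → Idx d n),
      (∀ i, φ i ∈ divisors τ) →
      LocCoh.IsCohenMacaulayRing (PlRing K d n ⧸ ⨅ i, schubertVanishing K d n (φ i)) ∧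
      ringKrullDim (PlRing K d n ⧸ ⨅ i, schubertVanishing K d n (φ i)) =
        ((N : ℕ) : WithBot ℕ∞) := by
    intro τ hτ s
    induction s with
    | zero =>
      intro φ hφ
      have hu : ⨅ i, schubertVanishing K d n (φ i) = schubertVanishing K d n (φ 0) := by
        apply le_antisymm (iInf_le _ 0)
        apply le_iInf
        intro i
        have hi0 : i = 0 := Fin.ext (by
          have := i.isLt
          show i.val = 0
          omega)
        rw [hi0]
      rw [hu]
      have hc : codeg (φ 0) + 1 = N := by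
        rw [← hτ]
        exact (hφ 0).2
      have hlt : codeg (φ 0) < N := by omega
      refine ⟨(ih _ hlt).1 (φ 0) rfl, ?_⟩
      rw [Groth.Agent.KDim9.main K hd hdn (φ 0), hc]
    | succ s ihs =>
      intro φ hφ
      obtain ⟨ψ, hψdef⟩ : ∃ ψ, ψ = φ (Fin.last (s + 1)) := ⟨_, rfl⟩
      obtain ⟨φ', hφ'def⟩ : ∃ φ' : Fin (s + 1) → Idx d n, φ' = fun i => φ i.castSucc := ⟨_, rfl⟩
      have hsplit : ⨅ i, schubertVanishing K d n (φ i) =
          (⨅ i, schubertVanishing K d n (φ' i)) ⊓ schubertVanishing K d n ψ := by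
        rw [iInf_last (fun i => schubertVanishing K d n (φ i)), hφ'def, hψdef]
      have hφ' : ∀ i, φ' i ∈ divisors τ := by
        intro i
        rw [hφ'def]
        exact hφ _
      have hψ : ψ ∈ divisors τ := by
        rw [hψdef]
        exact hφ _
      obtain ⟨hIcm, hIdim⟩ := ihs φ' hφ'
      rw [hsplit]
      by_cases hdup : ∃ i, φ' i = ψ
      · obtain ⟨i, hi⟩ := hdup
        have hle : (⨅ i, schubertVanishing K d n (φ' i)) ≤ schubertVanishing K d n ψ := by
          rw [← hi]
          exact iInf_le _ i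
        rw [inf_eq_left.2 hle]
        exact ⟨hIcm, hIdim⟩
      · push Not at hdup
        have hc : codeg ψ + 1 = N := by
          rw [← hτ]
          exact hψ.2
        have hlt : codeg ψ < N := by omega
        have hJcm := (ih _ hlt).1 ψ rfl
        have hJdim : ringKrullDim (PlRing K d n ⧸ schubertVanishing K d n ψ) =
            ((N : ℕ) : WithBot ℕ∞) := by
          rw [Groth.Agent.KDim9.main K hd hdn ψ, hc]
        have hIJ := (ih _ hlt).2 ψ rfl s (fun i => W4bk4grassmannian.inf (φ' i) ψ)
          (fun i => inf_mem_divisors (hφ' i) hψ (hdup i))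
        rw [← sup_iInf_eq K hd φ' ψ] at hIJ
        obtain ⟨hIJcm, hIJdim⟩ := hIJ
        have hN : codeg ψ = N - 1 := by omega
        rw [hN] at hIJdim
        exact cm_inf K _ _ (Ideal.IsHomogeneous.iInf fun i => schubert_isHomogeneous K hd (φ' i))
          (schubert_isHomogeneous K hd ψ) N (by omega) hIcm hJcm hIJcm hIdim hJdim hIJdim
  refine ⟨?_, hB⟩
  intro τ hτ
  haveI := Groth.Agent.KDim9.isPrime K hd τ
  apply cm_of_hyperplane K (schubertVanishing K d n τ) (schubert_isHomogeneous K hd τ) (X τ)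
    (X_mem_irrelevant K τ) (Groth.Agent.KDim9.X_not_mem K τ τ le_rfl)
  by_cases hmin : ∃ φ : Idx d n, φ < τ
  · rw [divisors_eq K hd τ hmin]
    classical
    obtain ⟨l, hl⟩ : ∃ l : List (Idx d n), ∀ φ, φ ∈ l ↔ φ ∈ divisors τ := by
      refine ⟨(Set.toFinite (divisors τ)).toFinset.toList, fun φ => ?_⟩
      rw [Finset.mem_toList, Set.Finite.mem_toFinset]
    obtain ⟨φ0, hφ0⟩ := hmin
    obtain ⟨φ1, hφ1, -⟩ := Groth.Agent.S11268.result d n φ0 τ hφ0
    have hlen : 0 < l.length := List.length_pos_of_mem ((hl φ1).2 hφ1)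
    obtain ⟨s, hs⟩ : ∃ s, l.length = s + 1 := ⟨l.length - 1, by omega⟩
    have key := hB τ hτ s (fun i => l.get (Fin.cast hs.symm i))
      (fun i => (hl _).1 (List.get_mem _ _))
    have heq : ⨅ φ ∈ divisors τ, schubertVanishing K d n φ =
        ⨅ i : Fin (s + 1), schubertVanishing K d n (l.get (Fin.cast hs.symm i)) := by
      apply le_antisymm
      · apply le_iInf
        intro i
        exact iInf₂_le _ ((hl _).1 (List.get_mem _ _))
      · apply le_iInf₂
        intro φ hφ
        obtain ⟨j, hj⟩ := List.mem_iff_get.1 ((hl φ).2 hφ)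
        rw [← hj]
        have hjj : j = Fin.cast hs.symm (Fin.cast hs j) := Fin.ext rfl
        rw [hjj]
        exact iInf_le (fun i : Fin (s + 1) => schubertVanishing K d n (l.get (Fin.cast hs.symm i)))
          (Fin.cast hs j)
    rw [heq]
    exact key.1
  · exact cm_of_minimal K hd τ hmin

end Groth.Agent.CMSch9
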