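import Mathlib
import Groth.Agent.Lib.SFT1_helper9

/-!
# The second fundamental theorem for pairs of matrices: the kernel is the determinantal ideal
-/

set_option autoImplicit false

universe u

namespace Groth.Agent.SFT9

open W4bk4grassmannian MvPolynomial Function Finset
open Groth.Agent.FFT9 (iota iota_le)
open Groth.Agent.SMTIndep9 (Var rho rho_X echMatrix)

variable (K : Type u) [Field K] (d r : ℕ)

theorem ker_le [Infinite K] (hd : 0 < d) (n : ℕ) (hn : n < d) (f : CellRing K d r)
    (hf : pairingMap K n r d f = 0) :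
    f ∈ CAlgX.minorIdeal (genMatrix K r d) (n + 1) := by
  obtain ⟨ι, hι⟩ : ∃ ι : Idx d (d + r), ι = iota (Nat.le_add_right d r) := ⟨_, rfl⟩
  obtain ⟨G, hG⟩ : ∃ G : PlRing K d (d + r), G = liftC K d r f := ⟨_, rfl⟩
  have hπι : piC K d r (X ι) = 1 := by
    rw [hι]
    exact piC_iota K d r
  have hπ : piC K d r (homog K ι G * X ι) = f := by
    rw [map_mul, map_homog_of_one K ι G (piC K d r) hπι, hπι, mul_one, hG, piC_liftC]
  rw [← hπ]
  apply piC_mem K d r hd n hn
  rw [← Groth.Agent.KDim9.ker_rho K hd, RingHom.mem_ker]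
  apply MvPolynomial.funext
  intro b
  rw [map_zero, eval_rho]
  obtain ⟨A, hAdef⟩ : ∃ A : Matrix (Fin (d + r)) (Fin d) K,
      A = Matrix.of fun i t => if i ≤ (wn d r n).1 t then b (toLex (i, t)) else 0 := ⟨_, rfl⟩
  rw [← hAdef, map_mul]
  obtain ⟨T, hT⟩ : ∃ T : Matrix (Fin d) (Fin d) K, T = A.submatrix ι.1 id := ⟨_, rfl⟩
  have hXι : evalMinors K d (d + r) A (X ι) = T.det := by
    unfold evalMinors
    rw [aeval_X, hT]
  rw [hXι]
  by_cases hdet : T.det = 0
  · rw [hdet, mul_zero]
  have hunit : IsUnit T.det := Ne.isUnit hdet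
  obtain ⟨A', hA'⟩ : ∃ A' : Matrix (Fin (d + r)) (Fin d) K, A' = A * T⁻¹ := ⟨_, rfl⟩
  have hsub : ∀ θ : Fin d → Fin (d + r), A'.submatrix θ id = A.submatrix θ id * T⁻¹ := by
    intro θ
    rw [hA', Matrix.submatrix_mul A T⁻¹ θ id id Function.bijective_id, Matrix.submatrix_id_id]
  have hone : A'.submatrix ι.1 id = 1 := by
    rw [hsub, ← hT, Matrix.mul_nonsing_inv _ hunit]
  have hscale : evalMinors K d (d + r) A =
      MvPolynomial.aeval (fun θ : Idx d (d + r) => T.det * (A'.submatrix θ.1 id).det) := by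
    unfold evalMinors
    congr 1
    funext θ
    rw [hsub, Matrix.det_mul, Matrix.det_nonsing_inv, Ring.inverse_eq_inv', mul_left_comm,
      mul_inv_cancel₀ hdet, mul_one]
  have hA'ι : (A'.submatrix ι.1 id).det = 1 := by
    rw [hone, Matrix.det_one]
  rw [hscale, aeval_homog_smul K ι G (fun θ => (A'.submatrix θ.1 id).det) T.det hA'ι]
  -- the matrix `A'` is a point of the cell
  obtain ⟨b', hb'⟩ : ∃ b' : Fin r × Fin d → K,
      b' = fun p => A' ⟨d + p.1.val, by have := p.1.isLt; omega⟩ p.2 := ⟨_, rfl⟩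
  have hcell : A' = cellPt K d r b' := by
    apply Matrix.ext
    intro i j
    unfold cellPt
    rw [Matrix.of_apply]
    by_cases h1 : i.val < d
    · rw [dif_pos h1]
      have h2 : A' i j = (1 : Matrix (Fin d) (Fin d) K) ⟨i.val, h1⟩ j := by
        rw [← hone, Matrix.submatrix_apply, id_eq]
        congr 1
        rw [hι]
        exact Fin.ext rfl
      rw [h2, Matrix.one_apply]
      by_cases h3 : i.val = j.val
      · rw [if_pos h3, if_pos (Fin.ext h3)]
      · rw [if_neg h3, if_neg (fun h => h3 (congrArg Fin.val h))]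
    · rw [dif_neg h1, hb']
      show A' i j = A' ⟨d + (i.val - d), _⟩ j
      congr 1
      exact Fin.ext (by show i.val = d + (i.val - d); omega)
  -- the bottom block is a product
  obtain ⟨q, hq⟩ : ∃ q : (Fin r × Fin n) ⊕ (Fin n × Fin d) → K,
      q = Sum.elim
        (fun p : Fin r × Fin n => A ⟨d + p.1.val, by have := p.1.isLt; omega⟩
          ⟨d - n + p.2.val, by have := p.2.isLt; omega⟩)
        (fun p : Fin n × Fin d => T⁻¹ ⟨d - n + p.1.val, by have := p.1.isLt; omega⟩ p.2) := ⟨_, rfl⟩
  have hprod : ∀ p : Fin r × Fin d,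
      b' p = ∑ k : Fin n, q (Sum.inl (p.1, k)) * q (Sum.inr (k, p.2)) := by
    intro p
    obtain ⟨emb, hemb⟩ : ∃ emb : Fin n → Fin d,
        emb = fun k => ⟨d - n + k.val, by have := k.isLt; omega⟩ := ⟨_, rfl⟩
    have hinj : Function.Injective emb := by
      intro a c hac
      rw [hemb] at hac
      have := congrArg Fin.val hac
      simp only at this
      exact Fin.ext (by omega)
    have h1 : b' p = ∑ j : Fin d, A ⟨d + p.1.val, by have := p.1.isLt; omega⟩ j * T⁻¹ j p.2 := by
      rw [hb', hA']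
      beta_reduce
      rw [Matrix.mul_apply]
    rw [h1, ← Finset.sum_subset (Finset.subset_univ (Finset.univ.image emb)),
      Finset.sum_image (fun a _ c _ h => hinj h)]
    · apply Finset.sum_congr rfl
      intro k _
      rw [hq, Sum.elim_inl, Sum.elim_inr, hemb]
    · intro j _ hj
      have hjlt : j.val < d - n := by
        by_contra hge
        apply hj
        rw [Finset.mem_image]
        refine ⟨⟨j.val - (d - n), by have := j.isLt; omega⟩, Finset.mem_univ _, ?_⟩
        rw [hemb]
        exact Fin.ext (by show d - n + (j.val - (d - n)) = j.val; omega)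
      have hw := wn_lt d r n j hjlt
      rw [hAdef, Matrix.of_apply, if_neg, zero_mul]
      intro hle
      rw [Fin.le_def] at hle
      simp only at hle
      omega
  have hzero : MvPolynomial.aeval (fun θ : Idx d (d + r) => (A'.submatrix θ.1 id).det) G = 0 := by
    have h1 : MvPolynomial.aeval (fun θ : Idx d (d + r) => (A'.submatrix θ.1 id).det) G =
        evalMinors K d (d + r) A' G := rfl
    rw [h1, hcell, ← eval_piC, hG, piC_liftC, ← eval_pairing K d r n q b' hprod f, hf, map_zero]
  rw [hzero, mul_zero, zero_mul]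

end Groth.Agent.SFT9
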