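import Mathlib
import Groth.Agent.Lib.DetRing1_helper9
import Groth.Agent.Lib.DetRing2_helper9
import Groth.Agent.Lib.CMSch3_helper9
import Groth.Agent.S11259

/-!
# Determinantal rings are Cohen–Macaulay normal domains (helper9)
APPEND-ONLY once landed.
-/

set_option autoImplicit false
set_option maxHeartbeats 400000
universe u

namespace Groth.Agent.DetRing9

open W4bk4grassmannian MvPolynomial Function Finset
open Groth.Agent.FFT9 (iota iota_le)
open Groth.Agent.SFT9

/-! ### The dimension of the Schubert variety `X(w_n)` -/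

lemma codeg_wn (nn e r : ℕ) (hr : nn ≤ r) : codeg (wn (e + nn) r nn) = e * nn + nn * r := by
  unfold codeg
  have h1 : ∀ j : Fin (e + nn), (((wn (e + nn) r nn).1 j).val - j.val) =
      (fun x : ℕ => if x < e then nn else r) j.val := by
    intro j
    show (if j.val < e + nn - nn then min nn r + j.val else r + j.val) - j.val =
      if j.val < e then nn else r
    rw [Nat.add_sub_cancel, min_eq_left hr]
    split_ifs <;> omega
  rw [Finset.sum_congr rfl (fun j _ => h1 j),
    Fin.sum_univ_eq_sum_range (fun x : ℕ => if x < e then nn else r) (e + nn),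
    Finset.sum_range_add]
  have h2 : ∑ x ∈ Finset.range e, (if x < e then nn else r) = e * nn := by
    rw [Finset.sum_congr rfl (fun x hx => if_pos (Finset.mem_range.1 hx)), Finset.sum_const,
      Finset.card_range, smul_eq_mul]
  have h3 : ∑ x ∈ Finset.range nn, (if e + x < e then nn else r) = nn * r := by
    rw [Finset.sum_congr rfl (fun x _ => if_neg (by omega)), Finset.sum_const,
      Finset.card_range, smul_eq_mul]
  rw [h2, h3]

variable (K : Type u) [Field K] [IsAlgClosed K] (d r : ℕ)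

/-! ### The determinantal ideal is the kernel of the pairing map -/

theorem minorIdeal_eq_ker (n : ℕ) (hn : n < d) :
    CAlgX.minorIdeal (genMatrix K r d) (n + 1) = RingHom.ker (pairingMap K n r d).toRingHom := by
  apply le_antisymm (le_ker K n r d)
  intro f hf
  exact ker_le K d r (Nat.lt_of_le_of_lt (Nat.zero_le n) hn) n hn f (RingHom.mem_ker.1 hf)

theorem minorIdeal_isPrime (n : ℕ) (hn : n < d) :
    (CAlgX.minorIdeal (genMatrix K r d) (n + 1)).IsPrime := by
  rw [minorIdeal_eq_ker K d r n hn]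
  exact RingHom.ker_isPrime _

/-! ### The determinantal ring as a quotient of the Schubert cone -/

/-- The restriction map to the determinantal ring. -/
noncomputable def piBar (n : ℕ) : PlRing K d (d + r) →+*
    (CellRing K d r ⧸ CAlgX.minorIdeal (genMatrix K r d) (n + 1)) :=
  (Ideal.Quotient.mk _).comp (piC K d r).toRingHom

lemma piBar_apply (n : ℕ) (G : PlRing K d (d + r)) :
    piBar K d r n G = Ideal.Quotient.mk _ (piC K d r G) := rfl

lemma piBar_surjective (n : ℕ) : Function.Surjective (piBar K d r n) := by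
  intro a
  obtain ⟨f, rfl⟩ := Ideal.Quotient.mk_surjective a
  exact ⟨liftC K d r f, by rw [piBar_apply, piC_liftC]⟩

lemma ker_piBar (hd : 0 < d) (n : ℕ) (hn : n < d) :
    RingHom.ker (piBar K d r n) = schubertVanishing K d (d + r) (wn d r n) ⊔
      Ideal.span {(X (iota (Nat.le_add_right d r)) - 1 : PlRing K d (d + r))} := by
  ext G
  rw [RingHom.mem_ker, piBar_apply, Ideal.Quotient.eq_zero_iff_mem, piC_mem_iff K d r hd n hn]

/-- The determinantal ring is the Schubert cone modulo `X_ι - 1`. -/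
theorem nonempty_equiv (hd : 0 < d) (n : ℕ) (hn : n < d) :
    Nonempty (((PlRing K d (d + r) ⧸ schubertVanishing K d (d + r) (wn d r n)) ⧸
        Ideal.span {Ideal.Quotient.mk (schubertVanishing K d (d + r) (wn d r n))
          (X (iota (Nat.le_add_right d r)) - 1)}) ≃+*
      (CellRing K d r ⧸ CAlgX.minorIdeal (genMatrix K r d) (n + 1))) := by
  have e1 := DoubleQuot.quotQuotEquivQuotSup (schubertVanishing K d (d + r) (wn d r n))
    (Ideal.span {(X (iota (Nat.le_add_right d r)) - 1 : PlRing K d (d + r))})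
  rw [Ideal.map_span, Set.image_singleton] at e1
  have e2 := Ideal.quotEquivOfEq (ker_piBar K d r hd n hn).symm
  have e3 := RingHom.quotientKerEquivOfSurjective (piBar_surjective K d r n)
  exact ⟨e1.trans (e2.trans e3)⟩

/-! ### Normality descends from a cone to its dehomogenisation -/

section Abstract

theorem isIntegrallyClosed_of_cone {σ : Type*} (k : Type u) [Field k] (C : Type u) [CommRing C]
    [Algebra k C] (J : Ideal (MvPolynomial σ k)) [hJ : J.IsPrime] (I : Ideal C) [hI : I.IsPrime]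
    (θ₀ : σ) (hθ₀ : (X θ₀ : MvPolynomial σ k) ∉ J)
    (π : MvPolynomial σ k →ₐ[k] C) (L : C →ₐ[k] MvPolynomial σ k) (hπL : ∀ f, π (L f) = f)
    (hπθ : π (X θ₀) = 1) (h1 : ∀ G ∈ J, π G ∈ I)
    (h2 : ∀ G, π G ∈ I → homog k θ₀ G * X θ₀ ∈ J)
    [hnorm : IsIntegrallyClosed (MvPolynomial σ k ⧸ J)] : IsIntegrallyClosed (C ⧸ I) := by
  haveI : IsDomain (MvPolynomial σ k ⧸ J) := Ideal.Quotient.isDomain J
  haveI : IsDomain (C ⧸ I) := Ideal.Quotient.isDomain I
  obtain ⟨xb, hxb⟩ : ∃ xb : MvPolynomial σ k ⧸ J, xb = Ideal.Quotient.mk J (X θ₀) := ⟨_, rfl⟩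
  have hxb0 : xb ≠ 0 := by
    rw [hxb, Ne, Ideal.Quotient.eq_zero_iff_mem]
    exact hθ₀
  have hpow : Submonoid.powers xb ≤ nonZeroDivisors (MvPolynomial σ k ⧸ J) :=
    powers_le_nonZeroDivisors_of_noZeroDivisors hxb0
  haveI : IsDomain (Localization.Away xb) :=
    IsLocalization.isDomain_of_le_nonZeroDivisors (Localization.Away xb) hpow
  haveI : IsIntegrallyClosed (Localization.Away xb) :=
    isIntegrallyClosed_of_isLocalization (Localization.Away xb) (Submonoid.powers xb) hpow
  obtain ⟨invx, hinvx⟩ : ∃ invx : Localization.Away xb,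
      algebraMap (MvPolynomial σ k ⧸ J) (Localization.Away xb) xb * invx = 1 :=
    ⟨IsLocalization.Away.invSelf xb, IsLocalization.Away.mul_invSelf xb⟩
  obtain ⟨cl, hcl⟩ : ∃ cl : σ → Localization.Away xb, cl = fun θ =>
      algebraMap (MvPolynomial σ k ⧸ J) (Localization.Away xb) (Ideal.Quotient.mk J (X θ)) :=
    ⟨_, rfl⟩
  obtain ⟨ε, hε⟩ : ∃ ε : MvPolynomial σ k →ₐ[k] Localization.Away xb,
      ε = MvPolynomial.aeval (fun θ => invx * cl θ) := ⟨_, rfl⟩
  have hcl' : ∀ H : MvPolynomial σ k, MvPolynomial.aeval cl H =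
      algebraMap (MvPolynomial σ k ⧸ J) (Localization.Away xb) (Ideal.Quotient.mk J H) := by
    intro H
    have h : (MvPolynomial.aeval cl : MvPolynomial σ k →ₐ[k] Localization.Away xb) =
        (IsScalarTower.toAlgHom k (MvPolynomial σ k ⧸ J) (Localization.Away xb)).comp
          (Ideal.Quotient.mkₐ k J) := by
      apply MvPolynomial.algHom_ext
      intro θ
      rw [aeval_X, hcl]
      rfl
    rw [h]
    rfl
  have hεzero : ∀ G : MvPolynomial σ k, π G ∈ I → ε G = 0 := by
    intro G hG
    have h3 := h2 G hG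
    have h4 : Ideal.Quotient.mk J (homog k θ₀ G) = 0 := by
      have h5 : Ideal.Quotient.mk J (homog k θ₀ G) * xb = 0 := by
        rw [hxb, ← map_mul, Ideal.Quotient.eq_zero_iff_mem]
        exact h3
      exact (mul_eq_zero.1 h5).resolve_right hxb0
    have h6 : invx * cl θ₀ = 1 := by
      rw [hcl, mul_comm]
      show algebraMap (MvPolynomial σ k ⧸ J) (Localization.Away xb)
        (Ideal.Quotient.mk J (X θ₀)) * invx = 1
      rw [← hxb]
      exact hinvx
    rw [hε, aeval_smul_eq_homog k θ₀ G cl invx h6, hcl', h4, map_zero, mul_zero]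
  have hkill : ∀ f ∈ I, (ε.toRingHom.comp L.toRingHom) f = 0 := by
    intro f hf
    show ε (L f) = 0
    apply hεzero
    rw [hπL]
    exact hf
  obtain ⟨ιA, hιA⟩ : ∃ ιA : (C ⧸ I) →+* Localization.Away xb,
      ∀ f, ιA (Ideal.Quotient.mk I f) = ε (L f) :=
    ⟨Ideal.Quotient.lift I _ hkill, fun f => Ideal.Quotient.lift_mk I _ hkill⟩
  obtain ⟨πR, hπR⟩ : ∃ πR : (MvPolynomial σ k ⧸ J) →+* (C ⧸ I),
      ∀ G, πR (Ideal.Quotient.mk J G) = Ideal.Quotient.mk I (π G) := by
    have hJle : ∀ G ∈ J, ((Ideal.Quotient.mk I).comp π.toRingHom) G = 0 := by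
      intro G hG
      show Ideal.Quotient.mk I (π G) = 0
      rw [Ideal.Quotient.eq_zero_iff_mem]
      exact h1 G hG
    exact ⟨Ideal.Quotient.lift J _ hJle, fun G => Ideal.Quotient.lift_mk J _ hJle⟩
  have hπx : πR xb = 1 := by
    rw [hxb, hπR, hπθ, map_one]
  obtain ⟨ρ, hρ⟩ : ∃ ρ : Localization.Away xb →+* (C ⧸ I),
      ∀ y, ρ (algebraMap (MvPolynomial σ k ⧸ J) (Localization.Away xb) y) = πR y := by
    have hu : IsUnit (πR xb) := by
      rw [hπx]
      exact isUnit_one
    exact ⟨IsLocalization.Away.lift xb hu, fun y => IsLocalization.Away.lift_eq xb hu y⟩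
  have hρinv : ρ invx = 1 := by
    have h7 := congrArg ρ hinvx
    rwa [map_mul, hρ, hπx, one_mul, map_one] at h7
  have hρε : ∀ G : MvPolynomial σ k, ρ (ε G) = Ideal.Quotient.mk I (π G) := by
    intro G
    have h : (ρ.comp ε.toRingHom) = (Ideal.Quotient.mk I).comp π.toRingHom := by
      apply MvPolynomial.ringHom_ext
      · intro c
        show ρ (ε (MvPolynomial.C c)) = Ideal.Quotient.mk I (π (MvPolynomial.C c))
        rw [← MvPolynomial.algebraMap_eq, AlgHom.commutes, AlgHom.commutes,
          IsScalarTower.algebraMap_apply k (MvPolynomial σ k ⧸ J) (Localization.Away xb), hρ]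
        have h8 : algebraMap k (MvPolynomial σ k ⧸ J) c =
            Ideal.Quotient.mk J (algebraMap k (MvPolynomial σ k) c) := rfl
        rw [h8, hπR, AlgHom.commutes]
      · intro θ
        show ρ (ε (X θ)) = Ideal.Quotient.mk I (π (X θ))
        rw [hε, aeval_X, map_mul, hρinv, one_mul, hcl, hρ, hπR]
    exact RingHom.congr_fun h G
  apply isIntegrallyClosed_of_retract (C ⧸ I) (Localization.Away xb) ιA ρ
  intro a
  obtain ⟨f, rfl⟩ := Ideal.Quotient.mk_surjective a
  rw [hιA, hρε, hπL]

end Abstract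

end Groth.Agent.DetRing9
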