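import Mathlib

/-!
# The Rees algebra of a weighted basis (helper9)

`A` is a commutative `K`-algebra with a basis `b` indexed by `I` and a weight `Ω : I → ℕ` such that
`1` has weight `0` and `b i * b j` is a combination of basis elements of weight `≤ Ω i + Ω j`.
The Rees algebra `rees h ⊆ A[t]` of the weight filtration is free over `K[t]` with basis
`e i = b i t^(Ω i)`; its fibre at `c ≠ 0` is `A`, and its fibre at `0` is the associated graded ring.
APPEND-ONLY once landed.
-/

set_option autoImplicit false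

universe u v

namespace Groth.Agent.Rees9

open Polynomial

variable {K : Type u} [Field K] {A : Type u} [CommRing A] [Algebra K A] {I : Type v}
  (b : Module.Basis I K A) (Ω : I → ℕ)

/-- the filtration by weight -/
def Fil (k : ℕ) : Submodule K A := Submodule.span K (b '' {i | Ω i ≤ k})

lemma Fil_mono {k l : ℕ} (h : k ≤ l) : Fil b Ω k ≤ Fil b Ω l :=
  Submodule.span_mono (Set.image_mono fun i (hi : Ω i ≤ k) => le_trans hi h)

lemma basis_mem (i : I) : b i ∈ Fil b Ω (Ω i) :=
  Submodule.subset_span ⟨i, show Ω i ≤ Ω i from le_refl _, rfl⟩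

lemma basis_mem_of_le (i : I) {k : ℕ} (hk : Ω i ≤ k) : b i ∈ Fil b Ω k :=
  Fil_mono b Ω hk (basis_mem b Ω i)

/-- the hypotheses: the filtration is multiplicative -/
structure Hyp : Prop where
  one_mem : (1 : A) ∈ Fil b Ω 0
  mul_mem : ∀ i j, b i * b j ∈ Fil b Ω (Ω i + Ω j)

variable {b Ω}

lemma Fil_mul (h : Hyp b Ω) {k l : ℕ} {x y : A} (hx : x ∈ Fil b Ω k) (hy : y ∈ Fil b Ω l) :
    x * y ∈ Fil b Ω (k + l) := by
  have hle : Fil b Ω k * Fil b Ω l ≤ Fil b Ω (k + l) := by
    unfold Fil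
    rw [Submodule.span_mul_span, Submodule.span_le]
    rintro _ ⟨_, ⟨i, hi, rfl⟩, _, ⟨j, hj, rfl⟩, rfl⟩
    exact Fil_mono b Ω (Nat.add_le_add hi hj) (h.mul_mem i j)
  exact hle (Submodule.mul_mem_mul hx hy)

/-- the Rees algebra of the weight filtration -/
def rees (h : Hyp b Ω) : Subalgebra K A[X] where
  carrier := {p | ∀ k, p.coeff k ∈ Fil b Ω k}
  mul_mem' := by
    intro p q hp hq k
    rw [Polynomial.coeff_mul]
    apply Submodule.sum_mem
    rintro ⟨i, j⟩ hij
    have hk : i + j = k := Finset.HasAntidiagonal.mem_antidiagonal.1 hij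
    rw [← hk]
    exact Fil_mul h (hp i) (hq j)
  add_mem' := by
    intro p q hp hq k
    rw [Polynomial.coeff_add]
    exact Submodule.add_mem _ (hp k) (hq k)
  algebraMap_mem' := by
    intro c k
    rw [Polynomial.algebraMap_apply, Polynomial.coeff_C]
    split_ifs with hk
    · rw [hk, Algebra.algebraMap_eq_smul_one]
      exact Submodule.smul_mem _ _ h.one_mem
    · exact Submodule.zero_mem _

lemma mem_rees (h : Hyp b Ω) (p : A[X]) : p ∈ rees h ↔ ∀ k, p.coeff k ∈ Fil b Ω k := Iff.rfl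

/-- the structure map `K[t] → rees` -/
noncomputable def tAlg (h : Hyp b Ω) : K[X] →ₐ[K] rees h :=
  (Polynomial.mapAlgHom (Algebra.ofId K A)).codRestrict (rees h) (by
    intro p k
    rw [Polynomial.coe_mapAlgHom, Polynomial.coeff_map]
    show algebraMap K A (p.coeff k) ∈ _
    rw [Algebra.algebraMap_eq_smul_one]
    exact Submodule.smul_mem _ _ (Fil_mono b Ω (Nat.zero_le k) h.one_mem))

noncomputable instance instAlg (h : Hyp b Ω) : Algebra K[X] (rees h) := (tAlg h).toRingHom.toAlgebra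

instance instTower (h : Hyp b Ω) : IsScalarTower K K[X] (rees h) :=
  IsScalarTower.of_algebraMap_eq fun c => ((tAlg h).commutes c).symm

lemma coe_algebraMap (h : Hyp b Ω) (p : K[X]) :
    ((algebraMap K[X] (rees h) p : rees h) : A[X]) = p.map (algebraMap K A) := rfl

lemma coe_smul (h : Hyp b Ω) (p : K[X]) (x : rees h) :
    ((p • x : rees h) : A[X]) = p.map (algebraMap K A) * (x : A[X]) := by
  rw [Algebra.smul_def]
  rfl

/-- the element `x t^k` for `x` of weight `≤ k` -/
noncomputable def mon (h : Hyp b Ω) (k : ℕ) : Fil b Ω k →ₗ[K] rees h where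
  toFun x := ⟨Polynomial.monomial k x.1, fun j => by
    rw [Polynomial.coeff_monomial]
    split_ifs with hkj
    · rw [← hkj]
      exact x.2
    · exact Submodule.zero_mem _⟩
  map_add' x y := by
    apply Subtype.ext
    show Polynomial.monomial k (x.1 + y.1) = Polynomial.monomial k x.1 + Polynomial.monomial k y.1
    rw [map_add]
  map_smul' c x := by
    apply Subtype.ext
    show Polynomial.monomial k (c • x.1) = c • Polynomial.monomial k x.1
    rw [Polynomial.smul_monomial]

lemma coe_mon (h : Hyp b Ω) (k : ℕ) (x : Fil b Ω k) :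
    ((mon h k x : rees h) : A[X]) = Polynomial.monomial k x.1 := rfl

lemma mon_mul (h : Hyp b Ω) (k l : ℕ) (x : Fil b Ω k) (y : Fil b Ω l) :
    mon h k x * mon h l y = mon h (k + l) ⟨x.1 * y.1, Fil_mul h x.2 y.2⟩ := by
  apply Subtype.ext
  show Polynomial.monomial k x.1 * Polynomial.monomial l y.1 = Polynomial.monomial (k + l) (x.1 * y.1)
  rw [Polynomial.monomial_mul_monomial]

lemma X_pow_smul_mon (h : Hyp b Ω) (j k : ℕ) (x : Fil b Ω k) :
    (X ^ j : K[X]) • mon h k x = mon h (k + j) ⟨x.1, Fil_mono b Ω (Nat.le_add_right k j) x.2⟩ := by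
  apply Subtype.ext
  rw [coe_smul, coe_mon, coe_mon, Polynomial.map_pow, Polynomial.map_X, mul_comm,
    Polynomial.monomial_mul_X_pow]

lemma C_smul_mon (h : Hyp b Ω) (c : K) (k : ℕ) (x : Fil b Ω k) :
    (C c : K[X]) • mon h k x = mon h k (c • x) := by
  rw [map_smul]
  exact (algebraMap_smul K[X] c (mon h k x))

/-- the basis elements `b i t^(Ω i)` -/
noncomputable def e (h : Hyp b Ω) (i : I) : rees h := mon h (Ω i) ⟨b i, basis_mem b Ω i⟩

lemma coe_e (h : Hyp b Ω) (i : I) : ((e h i : rees h) : A[X]) = Polynomial.monomial (Ω i) (b i) := rfl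

lemma mon_basis (h : Hyp b Ω) (i : I) (k : ℕ) (hk : Ω i ≤ k) :
    mon h k ⟨b i, basis_mem_of_le b Ω i hk⟩ = (X ^ (k - Ω i) : K[X]) • e h i := by
  unfold e
  rw [X_pow_smul_mon]
  apply Subtype.ext
  rw [coe_mon, coe_mon]
  show Polynomial.monomial k (b i) = Polynomial.monomial (Ω i + (k - Ω i)) (b i)
  rw [Nat.add_sub_cancel' hk]

lemma mon_mem_span (h : Hyp b Ω) (k : ℕ) (x : A) (hx : x ∈ Fil b Ω k) :
    mon h k ⟨x, hx⟩ ∈ Submodule.span K[X] (Set.range (e h)) := by
  unfold Fil at hx
  induction hx using Submodule.span_induction with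
  | mem y hy =>
    obtain ⟨i, hi, rfl⟩ := hy
    rw [mon_basis h i k hi]
    exact Submodule.smul_mem _ _ (Submodule.subset_span ⟨i, rfl⟩)
  | zero =>
    have h0 : mon h k ⟨0, Submodule.zero_mem _⟩ = 0 := map_zero (mon h k)
    rw [h0]
    exact Submodule.zero_mem _
  | add y z hy hz ihy ihz =>
    have h0 : mon h k ⟨y + z, Submodule.add_mem _ hy hz⟩ =
        mon h k ⟨y, hy⟩ + mon h k ⟨z, hz⟩ := map_add (mon h k) ⟨y, hy⟩ ⟨z, hz⟩
    rw [h0]
    exact Submodule.add_mem _ ihy ihz
  | smul c y hy ihy =>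
    have h0 : mon h k ⟨c • y, Submodule.smul_mem _ c hy⟩ = c • mon h k ⟨y, hy⟩ :=
      map_smul (mon h k) c ⟨y, hy⟩
    rw [h0, ← algebraMap_smul K[X] c (mon h k ⟨y, hy⟩)]
    exact Submodule.smul_mem _ _ ihy

theorem span_e (h : Hyp b Ω) : Submodule.span K[X] (Set.range (e h)) = ⊤ := by
  rw [eq_top_iff]
  rintro ⟨p, hp⟩ -
  have h1 : (⟨p, hp⟩ : rees h) = ∑ k ∈ p.support, mon h k ⟨p.coeff k, hp k⟩ := by
    apply Subtype.ext
    rw [AddSubmonoidClass.coe_finsetSum]
    simp only [coe_mon]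
    exact Polynomial.as_sum_support p
  rw [h1]
  apply Submodule.sum_mem
  intro k _
  exact mon_mem_span h k _ _

lemma coeff_smul_e (h : Hyp b Ω) (p : K[X]) (i : I) (k : ℕ) :
    ((p • e h i : rees h) : A[X]).coeff k = if Ω i ≤ k then (p.coeff (k - Ω i)) • b i else 0 := by
  rw [coe_smul, coe_e, ← Polynomial.C_mul_X_pow_eq_monomial, ← mul_assoc, Polynomial.coeff_mul_X_pow']
  split_ifs with hk
  · rw [Polynomial.coeff_mul_C, Polynomial.coeff_map, Algebra.smul_def]
  · rfl

theorem e_linearIndependent (h : Hyp b Ω) : LinearIndependent K[X] (e h) := by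
  classical
  rw [linearIndependent_iff']
  intro s g hg i₀ hi₀
  ext j
  have h1 : ((∑ i ∈ s, g i • e h i : rees h) : A[X]).coeff (Ω i₀ + j) = 0 := by
    rw [hg]
    rfl
  rw [AddSubmonoidClass.coe_finsetSum, Polynomial.finsetSum_coeff] at h1
  simp only [coeff_smul_e] at h1
  have h2 := congrArg (fun a => b.repr a i₀) h1
  simp only [map_sum, map_zero, Finsupp.coe_finsetSum, Finset.sum_apply, Finsupp.coe_zero,
    Pi.zero_apply] at h2
  rw [Finset.sum_eq_single i₀] at h2
  · rw [if_pos (Nat.le_add_right _ _), map_smul, Module.Basis.repr_self, Finsupp.smul_apply,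
      Finsupp.single_eq_same, smul_eq_mul, mul_one, Nat.add_sub_cancel_left] at h2
    rw [h2, Polynomial.coeff_zero]
  · intro i _ hne
    split_ifs
    · rw [map_smul, Module.Basis.repr_self, Finsupp.smul_apply, Finsupp.single_eq_of_ne hne.symm,
        smul_zero]
    · rw [map_zero, Finsupp.coe_zero, Pi.zero_apply]
  · intro hn
    exact absurd hi₀ hn

/-- the basis `b i t^(Ω i)` of the Rees algebra over `K[t]` -/
noncomputable def basisE (h : Hyp b Ω) : Module.Basis I K[X] (rees h) :=
  Module.Basis.mk (e_linearIndependent h) (span_e h).ge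

lemma basisE_apply (h : Hyp b Ω) (i : I) : basisE h i = e h i := by
  unfold basisE
  rw [Module.Basis.mk_apply]

theorem free (h : Hyp b Ω) : Module.Free K[X] (rees h) := Module.Free.of_basis (basisE h)

end Groth.Agent.Rees9
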