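import Mathlib
import Groth.Agent.Lib.Rees1_helper9

/-!
# The fibres of the Rees algebra of a weighted basis (helper9)
APPEND-ONLY once landed.
-/

set_option autoImplicit false

universe u v

namespace Groth.Agent.Rees9

open Polynomial

variable {K : Type u} [Field K] {A : Type u} [CommRing A] [Algebra K A] {I : Type v}
  {b : Module.Basis I K A} {Ω : I → ℕ}

/-- evaluation at `t = c` -/
noncomputable def evc (h : Hyp b Ω) (c : K) : rees h →ₐ[K] A :=
  ((Polynomial.aeval (algebraMap K A c)).restrictScalars K).comp (rees h).val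

lemma evc_apply (h : Hyp b Ω) (c : K) (x : rees h) :
    evc h c x = Polynomial.eval (algebraMap K A c) (x : A[X]) := by
  show Polynomial.aeval (algebraMap K A c) (x : A[X]) = _
  rw [Polynomial.coe_aeval_eq_eval]

lemma evc_smul (h : Hyp b Ω) (c : K) (p : K[X]) (x : rees h) :
    evc h c (p • x) = p.eval c • evc h c x := by
  rw [evc_apply, evc_apply, coe_smul, Polynomial.eval_mul, Polynomial.eval_map_apply,
    Algebra.smul_def]

lemma evc_e (h : Hyp b Ω) (c : K) (i : I) : evc h c (e h i) = c ^ Ω i • b i := by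
  rw [evc_apply, coe_e, Polynomial.eval_monomial, ← map_pow, Algebra.smul_def, mul_comm]

lemma sum_repr (h : Hyp b Ω) (x : rees h) :
    x = ∑ i ∈ ((basisE h).repr x).support, ((basisE h).repr x) i • e h i := by
  conv_lhs => rw [← (basisE h).linearCombination_repr x]
  rw [Finsupp.linearCombination_apply, Finsupp.sum]
  apply Finset.sum_congr rfl
  intro i _
  rw [basisE_apply]

theorem evc_surjective (h : Hyp b Ω) (c : K) (hc : c ≠ 0) : Function.Surjective (evc h c) := by
  intro a
  have hle : Submodule.span K (Set.range b) ≤ LinearMap.range (evc h c).toLinearMap := by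
    rw [Submodule.span_le]
    rintro _ ⟨i, rfl⟩
    refine ⟨(c ^ Ω i)⁻¹ • e h i, ?_⟩
    rw [AlgHom.toLinearMap_apply, map_smul, evc_e, smul_smul,
      inv_mul_cancel₀ (pow_ne_zero _ hc), one_smul]
  have ha : a ∈ LinearMap.range (evc h c).toLinearMap := hle (by rw [b.span_eq]; trivial)
  exact ha

theorem ker_evc (h : Hyp b Ω) (c : K) (hc : c ≠ 0) :
    RingHom.ker (evc h c) = Ideal.span {algebraMap K[X] (rees h) (X - C c)} := by
  classical
  apply le_antisymm
  · intro x hx
    rw [RingHom.mem_ker] at hx
    obtain ⟨g, hg⟩ : ∃ g, g = (basisE h).repr x := ⟨_, rfl⟩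
    have hx1 := sum_repr h x
    rw [← hg] at hx1
    have h0 : ∑ i ∈ g.support, ((g i).eval c * c ^ Ω i) • b i = 0 := by
      rw [← hx, hx1, map_sum]
      apply Finset.sum_congr rfl
      intro i _
      rw [evc_smul, evc_e, smul_smul]
    have hroot : ∀ i, (g i).IsRoot c := by
      intro i
      by_cases hi : i ∈ g.support
      · have h1 := linearIndependent_iff'.1 b.linearIndependent g.support
          (fun i => (g i).eval c * c ^ Ω i) h0 i hi
        rcases mul_eq_zero.1 h1 with h2 | h2
        · exact h2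
        · exact absurd h2 (pow_ne_zero _ hc)
      · rw [Finsupp.notMem_support_iff.1 hi]
        exact Polynomial.eval_zero
    rw [Ideal.mem_span_singleton']
    refine ⟨∑ i ∈ g.support, (g i /ₘ (X - C c)) • e h i, ?_⟩
    rw [hx1, mul_comm, ← Algebra.smul_def, Finset.smul_sum]
    apply Finset.sum_congr rfl
    intro i _
    rw [smul_smul, Polynomial.mul_divByMonic_eq_iff_isRoot.2 (hroot i)]
  · rw [Ideal.span_le, Set.singleton_subset_iff, SetLike.mem_coe, RingHom.mem_ker]
    have h1 : algebraMap K[X] (rees h) (X - C c) = (X - C c : K[X]) • (1 : rees h) := by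
      rw [Algebra.smul_def, mul_one]
    rw [h1, evc_smul, Polynomial.eval_sub, Polynomial.eval_X, Polynomial.eval_C, sub_self,
      zero_smul]

/-- the fibre of the Rees algebra at `c ≠ 0` is `A` -/
noncomputable def fibreEquiv (h : Hyp b Ω) (c : K) (hc : c ≠ 0) :
    (rees h ⧸ Ideal.span {algebraMap K[X] (rees h) (X - C c)}) ≃ₐ[K] A :=
  (Ideal.quotientEquivAlgOfEq K (ker_evc h c hc).symm).trans
    (Ideal.quotientKerAlgEquivOfSurjective (evc_surjective h c hc))

/-- a `K`-algebra with a spanning family mapping to the classes of the basis `e` is the fibre at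
`0`. -/
theorem fibre_zero_bijective (h : Hyp b Ω) {Q : Type*} [CommRing Q] [Algebra K Q]
    (φ : Q →ₐ[K] (rees h ⧸ Ideal.span {algebraMap K[X] (rees h) (X : K[X])}))
    (s : I → Q) (hs : Submodule.span K (Set.range s) = ⊤)
    (hφ : ∀ i, φ (s i) = Ideal.Quotient.mk _ (e h i)) : Function.Bijective φ := by
  classical
  have hsmulK : ∀ (a : K) (y : rees h), Ideal.Quotient.mk
      (Ideal.span {algebraMap K[X] (rees h) (X : K[X])}) (a • y) =
      a • Ideal.Quotient.mk (Ideal.span {algebraMap K[X] (rees h) (X : K[X])}) y := fun a y =>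
    map_smul (Ideal.Quotient.mkₐ K (Ideal.span {algebraMap K[X] (rees h) (X : K[X])})) a y
  constructor
  · rw [injective_iff_map_eq_zero]
    intro x hx
    have hxs : x ∈ Submodule.span K (Set.range s) := by rw [hs]; trivial
    obtain ⟨c, hc⟩ := Finsupp.mem_span_range_iff_exists_finsupp.1 hxs
    rw [Finsupp.sum] at hc
    have h1 : Ideal.Quotient.mk (Ideal.span {algebraMap K[X] (rees h) (X : K[X])})
        (∑ i ∈ c.support, c i • e h i) = 0 := by
      rw [← hx, ← hc, map_sum, map_sum]
      apply Finset.sum_congr rfl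
      intro i _
      rw [hsmulK, map_smul, hφ]
    rw [Ideal.Quotient.eq_zero_iff_mem, Ideal.mem_span_singleton'] at h1
    obtain ⟨y, hy⟩ := h1
    have hc0 : ∀ i ∈ c.support, c i = 0 := by
      intro i hi
      have h2 : ((basisE h).repr (y * (algebraMap K[X] (rees h)) X)) i =
          ((basisE h).repr (∑ i ∈ c.support, c i • e h i)) i := by rw [hy]
      rw [mul_comm, ← Algebra.smul_def, map_smul, Finsupp.smul_apply, map_sum,
        Finsupp.finset_sum_apply] at h2
      have h3 : ∀ j ∈ c.support, ((basisE h).repr (c j • e h j)) i =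
          if j = i then C (c j) else 0 := by
        intro j _
        rw [← algebraMap_smul K[X] (c j) (e h j), map_smul, ← basisE_apply, Module.Basis.repr_self,
          Finsupp.smul_apply, Finsupp.single_apply, smul_eq_mul]
        split_ifs
        · rw [mul_one]
          rfl
        · rw [mul_zero]
      rw [Finset.sum_congr rfl h3, Finset.sum_ite_eq' c.support i, if_pos hi] at h2
      have h4 := congrArg (fun p => Polynomial.coeff p 0) h2
      simp only [smul_eq_mul, Polynomial.coeff_X_mul_zero, Polynomial.coeff_C_zero] at h4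
      exact h4.symm
    rw [← hc]
    apply Finset.sum_eq_zero
    intro i hi
    rw [hc0 i hi, zero_smul]
  · intro z
    obtain ⟨x, rfl⟩ := Ideal.Quotient.mk_surjective z
    obtain ⟨g, hg⟩ : ∃ g, g = (basisE h).repr x := ⟨_, rfl⟩
    have hx1 := sum_repr h x
    rw [← hg] at hx1
    refine ⟨∑ i ∈ g.support, (g i).coeff 0 • s i, ?_⟩
    rw [map_sum]
    have h1 : ∀ i ∈ g.support, φ ((g i).coeff 0 • s i) =
        Ideal.Quotient.mk (Ideal.span {algebraMap K[X] (rees h) (X : K[X])})
          ((g i).coeff 0 • e h i) := by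
      intro i _
      rw [map_smul, hφ, hsmulK]
    rw [Finset.sum_congr rfl h1, ← map_sum]
    symm
    rw [Ideal.Quotient.eq, Ideal.mem_span_singleton']
    refine ⟨∑ i ∈ g.support, (g i).divX • e h i, ?_⟩
    conv_rhs => rw [hx1]
    rw [mul_comm, ← Algebra.smul_def, Finset.smul_sum, ← Finset.sum_sub_distrib]
    apply Finset.sum_congr rfl
    intro i _
    rw [smul_smul, ← algebraMap_smul K[X] ((g i).coeff 0) (e h i)]
    have h2 : g i = X * (g i).divX + algebraMap K K[X] ((g i).coeff 0) :=
      (Polynomial.X_mul_divX_add (g i)).symm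
    have h3 : ∀ (p q r : K[X]) (y : rees h), p = q + r → q • y = p • y - r • y := by
      intro p q r y hpqr
      rw [hpqr, add_smul, add_sub_cancel_right]
    exact h3 _ _ _ _ h2

end Groth.Agent.Rees9
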