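import Mathlib
import Groth.Agent.Lib.SMTMain_helper9

/-!
# Standard monomial basis for a union of Schubert varieties
-/

set_option autoImplicit false

universe u

namespace Groth.Agent.SMT9

open W4bk4grassmannian MvPolynomial Function Finset
open Groth.Agent.Straight9 (IsChainSupp)

variable {d n : ℕ}

/-- Exponent of the monomial of a tuple of indices. -/
noncomputable def U {m : ℕ} (c : Fin m → Idx d n) : Idx d n →₀ ℕ := ∑ k, Finsupp.single (c k) 1

lemma support_U {m : ℕ} (c : Fin m → Idx d n) (θ : Idx d n) :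
    θ ∈ (U c).support ↔ ∃ k, c k = θ := by
  unfold U
  rw [Finsupp.mem_support_iff, Finsupp.finsetSum_apply]
  constructor
  · intro h
    obtain ⟨k, -, hk⟩ := Finset.exists_ne_zero_of_sum_ne_zero h
    rw [Finsupp.single_apply] at hk
    by_contra hne
    push Not at hne
    exact hk (if_neg (hne k))
  · rintro ⟨k, rfl⟩
    apply ne_of_gt
    calc 0 < (Finsupp.single (c k) 1 : Idx d n →₀ ℕ) (c k) := by
          rw [Finsupp.single_eq_same]
          exact Nat.one_pos
      _ ≤ _ := Finset.single_le_sum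
        (f := fun k' => (Finsupp.single (c k') 1 : Idx d n →₀ ℕ) (c k))
        (fun _ _ => Nat.zero_le _) (mem_univ k)

lemma chain_U {m : ℕ} (c : Fin m → Idx d n) (hc : Antitone c) : IsChainSupp (U c) := by
  intro θ hθ φ hφ
  obtain ⟨k, rfl⟩ := (support_U c θ).1 hθ
  obtain ⟨k', rfl⟩ := (support_U c φ).1 hφ
  rcases le_total k k' with h | h
  · exact Or.inr (hc h)
  · exact Or.inl (hc h)

lemma toMultiset_U {m : ℕ} (c : Fin m → Idx d n) :
    Finsupp.toMultiset (U c) = Finset.univ.val.map c := by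
  unfold U
  rw [Finsupp.toMultiset_sum]
  simp_rw [Finsupp.toMultiset_single, one_nsmul]
  rw [Finset.sum_eq_multiset_sum]
  show (Multiset.map ((fun a => ({a} : Multiset (Idx d n))) ∘ c) univ.val).sum = _
  rw [← Multiset.map_map, Multiset.sum_map_singleton]

lemma U_injective {m m' : ℕ} (c : Fin m → Idx d n) (c' : Fin m' → Idx d n) (hc : Antitone c)
    (hc' : Antitone c') (h : U c = U c') :
    (⟨m, c⟩ : Σ n', Fin n' → Idx d n) = ⟨m', c'⟩ := by
  rw [← List.ofFn_inj']
  have hperm : List.Perm (List.ofFn c) (List.ofFn c') := by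
    rw [← Multiset.coe_eq_coe, ← Fin.univ_val_map, ← Fin.univ_val_map, ← toMultiset_U c,
      ← toMultiset_U c', h]
  apply List.Perm.eq_of_pairwise' (r := (· ≥ ·)) _ _ hperm
  · rw [List.pairwise_ofFn]
    intro i j hij
    exact hc hij.le
  · rw [List.pairwise_ofFn]
    intro i j hij
    exact hc' hij.le

variable (K : Type u) [Field K]

lemma chainMon_eq {m : ℕ} (c : Fin m → Idx d n) : chainMon K c = monomial (U c) 1 := by
  unfold chainMon U
  rw [MvPolynomial.monomial_sum_one]
  rfl

theorem union_basis [Infinite K] (hd : 0 < d) (r : ℕ) (τs : Fin r → Idx d n) :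
    LinearIndependent K
      (fun c : (Σ m : ℕ, {c : Fin m → Idx d n // Antitone c ∧ ∃ i, ∀ k, c k ≤ τs i}) =>
        Ideal.Quotient.mk (⨅ i, schubertVanishing K d n (τs i)) (chainMon K c.2.1)) ∧
      Submodule.span K (Set.range
        fun c : (Σ m : ℕ, {c : Fin m → Idx d n // Antitone c ∧ ∃ i, ∀ k, c k ≤ τs i}) =>
          Ideal.Quotient.mk (⨅ i, schubertVanishing K d n (τs i)) (chainMon K c.2.1)) = ⊤ := by
  have hsmul : ∀ (a : K) (x : PlRing K d n),
      Ideal.Quotient.mk (⨅ i, schubertVanishing K d n (τs i)) (a • x) =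
        a • Ideal.Quotient.mk (⨅ i, schubertVanishing K d n (τs i)) x := fun a x =>
    map_smul (Ideal.Quotient.mkₐ K (⨅ i, schubertVanishing K d n (τs i))) a x
  constructor
  · rw [linearIndependent_iff]
    intro l hl
    obtain ⟨F, hFdef⟩ : ∃ F : PlRing K d n, F = ∑ c ∈ l.support, monomial (U c.2.1) (l c) :=
      ⟨_, rfl⟩
    have hFmem : F ∈ ⨅ i, schubertVanishing K d n (τs i) := by
      rw [← Ideal.Quotient.eq_zero_iff_mem, hFdef, map_sum]
      rw [Finsupp.linearCombination_apply, Finsupp.sum] at hl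
      rw [← hl]
      apply Finset.sum_congr rfl
      intro c _
      rw [chainMon_eq, ← hsmul, smul_monomial, smul_eq_mul, mul_one]
    have hinj : ∀ c c0 : (Σ m : ℕ, {c : Fin m → Idx d n // Antitone c ∧ ∃ i, ∀ k, c k ≤ τs i}),
        U c.2.1 = U c0.2.1 → c = c0 := by
      rintro ⟨m, ⟨c, hc⟩⟩ ⟨m0, ⟨c0, hc0⟩⟩ h
      have h1 := U_injective c c0 hc.1 hc0.1 h
      obtain ⟨rfl, h2⟩ := Sigma.mk.inj_iff.1 h1
      have h3 := eq_of_heq h2
      subst h3
      rfl
    have hcoeff : ∀ c0, coeff (U c0.2.1) F = l c0 := by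
      intro c0
      rw [hFdef, coeff_sum]
      simp_rw [coeff_monomial]
      rw [Finset.sum_eq_single c0]
      · rw [if_pos rfl]
      · intro c _ hne
        rw [if_neg]
        intro h
        exact hne (hinj c c0 h)
      · intro h
        rw [if_pos rfl]
        exact Finsupp.notMem_support_iff.1 h
    have hFchain : ∀ u ∈ F.support, ∃ c ∈ l.support, u = U c.2.1 := by
      intro u hu
      rw [hFdef] at hu
      obtain ⟨c, hc, huc⟩ := Finset.mem_biUnion.1 (MvPolynomial.support_sum hu)
      exact ⟨c, hc, Finset.mem_singleton.1 (MvPolynomial.support_monomial_subset huc)⟩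
    have hFzero : F = 0 := by
      by_contra hne
      obtain ⟨u, hu⟩ : F.support.Nonempty := by rwa [MvPolynomial.support_nonempty]
      obtain ⟨c, -, rfl⟩ := hFchain u hu
      obtain ⟨i, hi⟩ := c.2.2.2
      have hFi : F ∈ schubertVanishing K d n (τs i) := by
        rw [Ideal.mem_iInf] at hFmem
        exact hFmem i
      have hch : ∀ u ∈ F.support, IsChainSupp u := by
        intro u' hu'
        obtain ⟨c', -, rfl⟩ := hFchain u' hu'
        exact chain_U c'.2.1 c'.2.2.1
      obtain ⟨θ, hθ, hθn⟩ := no_std_of_mem K hd (τs i) F hch hFi _ hu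
      obtain ⟨k, rfl⟩ := (support_U c.2.1 θ).1 hθ
      exact hθn (hi k)
    ext c0
    rw [← hcoeff c0, hFzero, coeff_zero]
    rfl
  · rw [eq_top_iff]
    rintro x -
    obtain ⟨f, rfl⟩ := Ideal.Quotient.mk_surjective x
    obtain ⟨s, h, rfl, hh, hs⟩ := exists_std f
    have hhJ : h ∈ ⨅ i, schubertVanishing K d n (τs i) := by
      rw [Ideal.mem_iInf]
      intro i
      exact plIdealTop_le K _ hh
    rw [map_add, Ideal.Quotient.eq_zero_iff_mem.2 hhJ, add_zero, s.as_sum, map_sum]
    apply Submodule.sum_mem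
    intro u hu
    by_cases hgood : ∃ i, ∀ θ ∈ u.support, θ ≤ τs i
    · obtain ⟨i, hi⟩ := hgood
      obtain ⟨m, c, hanti, hmon, hmem⟩ :=
        Groth.Agent.Straight9.exists_chain K _ u rfl (hs u hu)
      have h1 : monomial u (coeff u s) = coeff u s • chainMon K c := by
        rw [hmon, smul_monomial, smul_eq_mul, mul_one]
      rw [h1, hsmul]
      apply Submodule.smul_mem
      apply Submodule.subset_span
      exact ⟨⟨m, ⟨c, hanti, i, fun k => hi _ (hmem k)⟩⟩, rfl⟩
    · push Not at hgood
      have h1 : monomial u (coeff u s) ∈ ⨅ i, schubertVanishing K d n (τs i) := by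
        rw [Ideal.mem_iInf]
        intro i
        obtain ⟨θ, hθ, hθn⟩ := hgood i
        exact monomial_mem_of_X_mem _ u _ θ hθ (X_mem K (τs i) θ hθn)
      rw [Ideal.Quotient.eq_zero_iff_mem.2 h1]
      exact Submodule.zero_mem _

end Groth.Agent.SMT9
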