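import Mathlib
import Groth.Agent.Lib.SMTUnion_helper9
import Groth.Agent.Lib.Rees2_helper9

/-!
# Degenerations of Schubert cones: weighted straightening and the weighted standard basis (helper9)
APPEND-ONLY once landed.
-/

set_option autoImplicit false

universe u

namespace Groth.Agent.SchDeg9

open W4bk4grassmannian MvPolynomial Function Finset
open Groth.Agent.Straight9 (IsChainSupp deg Phi deg_add Phi_add deg_single Phi_single Phi_le wt)
open Groth.Agent.SMT9

variable {d n : ℕ}

/-- the weight of a monomial attached to a weight `ν` of the variables -/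
def Om (ν : Idx d n → ℕ) (u : Idx d n →₀ ℕ) : ℕ := u.sum fun θ k => k * ν θ

lemma Om_add (ν : Idx d n → ℕ) (u v : Idx d n →₀ ℕ) : Om ν (u + v) = Om ν u + Om ν v :=
  Finsupp.sum_add_index' (fun _ => by simp) (fun _ _ _ => by ring)

lemma Om_single (ν : Idx d n → ℕ) (θ : Idx d n) : Om ν (Finsupp.single θ 1) = ν θ := by
  unfold Om
  rw [Finsupp.sum_single_index (by simp), one_mul]

lemma Om_zero (ν : Idx d n → ℕ) : Om ν (0 : Idx d n →₀ ℕ) = 0 := by
  unfold Om
  rw [Finsupp.sum_zero_index]

variable (K : Type u) [Field K]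

/-- standard polynomials of weight `≤ k` -/
noncomputable def T (ν : Idx d n → ℕ) (k : ℕ) : Submodule K (PlRing K d n) :=
  Submodule.span K {f | ∃ v : Idx d n →₀ ℕ, IsChainSupp v ∧ Om ν v ≤ k ∧ f = monomial v 1}

lemma T_mono (ν : Idx d n → ℕ) {k l : ℕ} (h : k ≤ l) : T K ν k ≤ T K ν l := by
  apply Submodule.span_mono
  rintro f ⟨v, hv, hk, rfl⟩
  exact ⟨v, hv, le_trans hk h, rfl⟩

/-- the quadratic straightening hypothesis: a product of two incomparable variables is, modulo `J`,
a combination of quadratic monomials of weight `≤`, each of which has smaller weight or larger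
potential. -/
def QuadHyp (J : Ideal (PlRing K d n)) (ν : Idx d n → ℕ) : Prop :=
  ∀ τ φ : Idx d n, ¬ τ ≤ φ → ¬ φ ≤ τ → (X τ * X φ : PlRing K d n) ∈
    Submodule.span K {f | ∃ v : Idx d n →₀ ℕ, deg v = 2 ∧ Om ν v ≤ ν τ + ν φ ∧
      (Om ν v < ν τ + ν φ ∨ wt τ.1 ^ 2 + wt φ.1 ^ 2 < Phi v) ∧ f = monomial v 1} ⊔
      J.restrictScalars K

theorem straighten_aux (J : Ideal (PlRing K d n)) (ν : Idx d n → ℕ) (hQ : QuadHyp K J ν) :
    ∀ (N₁ N₂ : ℕ) (u : Idx d n →₀ ℕ), Om ν u < N₁ → deg u * (d * n) ^ 2 - Phi u < N₂ →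
      monomial u (1 : K) ∈ T K ν (Om ν u) ⊔ J.restrictScalars K := by
  intro N₁
  induction N₁ with
  | zero => intro N₂ u hu; exact absurd hu (Nat.not_lt_zero _)
  | succ N₁ ih₁ =>
    intro N₂
    induction N₂ with
    | zero => intro u _ hu; exact absurd hu (Nat.not_lt_zero _)
    | succ N₂ ih₂ =>
      intro u hu₁ hu₂
      by_cases hc : IsChainSupp u
      · apply Submodule.mem_sup_left
        exact Submodule.subset_span ⟨u, hc, le_refl _, rfl⟩
      unfold IsChainSupp at hc
      push Not at hc
      obtain ⟨τ, hτ, φ, hφ, h1, h2⟩ := hc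
      have hne : τ ≠ φ := fun h => h1 (h ▸ le_refl _)
      have hle : Finsupp.single τ 1 + Finsupp.single φ 1 ≤ u := by
        rw [Finsupp.le_def]
        intro θ'
        have hi' : 1 ≤ u τ := Nat.one_le_iff_ne_zero.2 (Finsupp.mem_support_iff.1 hτ)
        have hj' : 1 ≤ u φ := Nat.one_le_iff_ne_zero.2 (Finsupp.mem_support_iff.1 hφ)
        simp only [Finsupp.add_apply, Finsupp.single_apply]
        by_cases e1 : τ = θ'
        · subst e1
          rw [if_pos rfl, if_neg (fun h => hne h.symm)]
          simpa using hi'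
        · by_cases e2 : φ = θ'
          · subst e2
            rw [if_neg e1, if_pos rfl]
            simpa using hj'
          · rw [if_neg e1, if_neg e2]
            simp
      obtain ⟨u0, hu0⟩ : ∃ u0, u = u0 + (Finsupp.single τ 1 + Finsupp.single φ 1) :=
        ⟨_, (tsub_add_cancel_of_le hle).symm⟩
      have hOm : Om ν u = Om ν u0 + (ν τ + ν φ) := by
        rw [hu0, Om_add, Om_add, Om_single, Om_single]
      have hdeg : deg u = deg u0 + 2 := by
        rw [hu0, deg_add, deg_add, deg_single, deg_single]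
      have hPhi : Phi u = Phi u0 + (wt τ.1 ^ 2 + wt φ.1 ^ 2) := by
        rw [hu0, Phi_add, Phi_add, Phi_single, Phi_single]
      have hmon : monomial u (1 : K) = monomial u0 1 * (X τ * X φ) := by
        rw [hu0, show (X τ : PlRing K d n) = monomial (Finsupp.single τ 1) 1 from rfl,
          show (X φ : PlRing K d n) = monomial (Finsupp.single φ 1) 1 from rfl, monomial_mul,
          monomial_mul, one_mul, one_mul]
      rw [hmon]
      have hcomap : Submodule.span K {f | ∃ v : Idx d n →₀ ℕ, deg v = 2 ∧ Om ν v ≤ ν τ + ν φ ∧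
          (Om ν v < ν τ + ν φ ∨ wt τ.1 ^ 2 + wt φ.1 ^ 2 < Phi v) ∧ f = monomial v (1 : K)} ⊔
            J.restrictScalars K ≤
          Submodule.comap (LinearMap.mulLeft K (monomial u0 (1 : K)))
            (T K ν (Om ν u) ⊔ J.restrictScalars K) := by
        apply sup_le
        · rw [Submodule.span_le]
          rintro f ⟨v, hv2, hvle, hvor, rfl⟩
          rw [SetLike.mem_coe, Submodule.mem_comap, LinearMap.mulLeft_apply, monomial_mul,
            one_mul]
          have hOm' : Om ν (u0 + v) ≤ Om ν u := by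
            rw [Om_add, hOm]
            omega
          have hdeg' : deg (u0 + v) = deg u := by
            rw [deg_add, hv2, hdeg]
          have hmem : monomial (u0 + v) (1 : K) ∈ T K ν (Om ν (u0 + v)) ⊔ J.restrictScalars K := by
            rcases hvor with hlt | hlt
            · apply ih₁ (deg (u0 + v) * (d * n) ^ 2 - Phi (u0 + v) + 1) (u0 + v)
              · rw [Om_add]
                rw [hOm] at hu₁
                omega
              · omega
            · apply ih₂ (u0 + v)
              · omega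
              · have hb := Phi_le (u0 + v)
                have hP' : Phi (u0 + v) = Phi u0 + Phi v := Phi_add u0 v
                rw [hdeg'] at hb ⊢
                omega
          exact (sup_le_sup_right (T_mono K ν hOm') _) hmem
        · intro f hf
          rw [Submodule.mem_comap, LinearMap.mulLeft_apply]
          apply Submodule.mem_sup_right
          exact Ideal.mul_mem_left J _ hf
      exact hcomap (hQ τ φ h1 h2)

theorem straighten (J : Ideal (PlRing K d n)) (ν : Idx d n → ℕ) (hQ : QuadHyp K J ν)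
    (u : Idx d n →₀ ℕ) : monomial u (1 : K) ∈ T K ν (Om ν u) ⊔ J.restrictScalars K :=
  straighten_aux K J ν hQ (Om ν u + 1) (deg u * (d * n) ^ 2 - Phi u + 1) u
    (Nat.lt_succ_self _) (Nat.lt_succ_self _)

/-! ### The standard basis of the Schubert cone, indexed by monomials on `H(w)` -/

/-- a monomial on `H(w)` as a monomial in all Plücker coordinates -/
noncomputable def up {w : Idx d n} (u : Below w →₀ ℕ) : Idx d n →₀ ℕ :=
  Finsupp.mapDomain Subtype.val u

lemma up_add {w : Idx d n} (u v : Below w →₀ ℕ) : up (u + v) = up u + up v :=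
  Finsupp.mapDomain_add

lemma up_single {w : Idx d n} (θ : Below w) : up (Finsupp.single θ 1) = Finsupp.single θ.1 1 :=
  Finsupp.mapDomain_single

lemma up_injective {w : Idx d n} : Function.Injective (up (w := w)) :=
  Finsupp.mapDomain_injective Subtype.val_injective

lemma up_apply {w : Idx d n} (u : Below w →₀ ℕ) (θ : Below w) : up u θ.1 = u θ :=
  Finsupp.mapDomain_apply Subtype.val_injective u θ

lemma support_up {w : Idx d n} (u : Below w →₀ ℕ) (θ : Idx d n) (hθ : θ ∈ (up u).support) :
    ∃ θ' : Below w, θ' ∈ u.support ∧ θ'.1 = θ := by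
  classical
  have h1 := Finsupp.mapDomain_support hθ
  rw [Finset.mem_image] at h1
  obtain ⟨θ', h2, h3⟩ := h1
  exact ⟨θ', h2, h3⟩

lemma support_up_le {w : Idx d n} (u : Below w →₀ ℕ) (θ : Idx d n) (hθ : θ ∈ (up u).support) :
    θ ≤ w := by
  obtain ⟨θ', -, rfl⟩ := support_up u θ hθ
  exact θ'.2

lemma exists_up {w : Idx d n} (v : Idx d n →₀ ℕ) (hv : ∀ θ ∈ v.support, θ ≤ w) :
    ∃ u : Below w →₀ ℕ, up u = v := by
  refine ⟨Finsupp.comapDomain Subtype.val v Subtype.val_injective.injOn, ?_⟩
  apply Finsupp.mapDomain_comapDomain _ Subtype.val_injective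
  intro θ hθ
  exact ⟨⟨θ, hv θ (Finset.mem_coe.1 hθ)⟩, rfl⟩

/-- the index set of the standard monomials on `X(w)` -/
abbrev StdB (w : Idx d n) : Type := {u : Below w →₀ ℕ // IsChainSupp (up u)}

/-- the standard monomials in the coordinate ring of the Schubert cone -/
noncomputable def stdMon (w : Idx d n) (u : StdB w) : PlRing K d n ⧸ schubertVanishing K d n w :=
  Ideal.Quotient.mk _ (monomial (up u.1) 1)

lemma mk_smul (w : Idx d n) (a : K) (x : PlRing K d n) :
    Ideal.Quotient.mk (schubertVanishing K d n w) (a • x) =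
      a • Ideal.Quotient.mk (schubertVanishing K d n w) x :=
  map_smul (Ideal.Quotient.mkₐ K (schubertVanishing K d n w)) a x

theorem stdMon_li [Infinite K] (hd : 0 < d) (w : Idx d n) : LinearIndependent K (stdMon K w) := by
  classical
  rw [linearIndependent_iff']
  intro s g hg u₀ hu₀
  obtain ⟨F, hFdef⟩ : ∃ F : PlRing K d n, F = ∑ u ∈ s, monomial (up u.1) (g u) := ⟨_, rfl⟩
  have hFmem : F ∈ schubertVanishing K d n w := by
    rw [← Ideal.Quotient.eq_zero_iff_mem, hFdef, map_sum, ← hg]
    apply Finset.sum_congr rfl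
    intro u _
    unfold stdMon
    rw [← mk_smul, smul_monomial, smul_eq_mul, mul_one]
  have hsupp : ∀ v ∈ F.support, ∃ u ∈ s, v = up u.1 := by
    intro v hv
    rw [hFdef] at hv
    obtain ⟨u, hu, hvu⟩ := Finset.mem_biUnion.1 (MvPolynomial.support_sum hv)
    exact ⟨u, hu, Finset.mem_singleton.1 (MvPolynomial.support_monomial_subset hvu)⟩
  have hF0 : F = 0 := by
    apply Groth.Agent.SMTIndep9.indep K hd w F _ hFmem
    intro v hv
    obtain ⟨u, -, rfl⟩ := hsupp v hv
    exact ⟨u.2, fun θ hθ => support_up_le u.1 θ hθ⟩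
  have hcoeff : coeff (up u₀.1) F = g u₀ := by
    rw [hFdef, coeff_sum]
    simp_rw [coeff_monomial]
    rw [Finset.sum_eq_single u₀]
    · rw [if_pos rfl]
    · intro u _ hne
      rw [if_neg]
      intro h
      exact hne (Subtype.ext (up_injective h))
    · intro h
      exact absurd hu₀ h
  rw [← hcoeff, hF0, coeff_zero]

lemma mk_mem_span (w : Idx d n) (v : Idx d n →₀ ℕ) (hv : IsChainSupp v) :
    Ideal.Quotient.mk (schubertVanishing K d n w) (monomial v 1) = 0 ∨
      ∃ u : StdB w, up u.1 = v := by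
  by_cases hle : ∀ θ ∈ v.support, θ ≤ w
  · right
    obtain ⟨u, hu⟩ := exists_up v hle
    exact ⟨⟨u, by rw [hu]; exact hv⟩, hu⟩
  · left
    push Not at hle
    obtain ⟨θ, hθ, hθw⟩ := hle
    rw [Ideal.Quotient.eq_zero_iff_mem]
    exact monomial_mem_of_X_mem _ v 1 θ hθ (X_mem K w θ hθw)

theorem stdMon_span (w : Idx d n) :
    ⊤ ≤ Submodule.span K (Set.range (stdMon K w)) := by
  rintro x -
  obtain ⟨f, rfl⟩ := Ideal.Quotient.mk_surjective x
  obtain ⟨s, h, rfl, hh, hs⟩ := exists_std f
  rw [map_add, Ideal.Quotient.eq_zero_iff_mem.2 (plIdealTop_le K w hh), add_zero, s.as_sum,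
    map_sum]
  apply Submodule.sum_mem
  intro v hv
  have h1 : monomial v (coeff v s) = coeff v s • monomial v (1 : K) := by
    rw [smul_monomial, smul_eq_mul, mul_one]
  rw [h1, mk_smul]
  apply Submodule.smul_mem
  rcases mk_mem_span K w v (hs v hv) with h0 | ⟨u, hu⟩
  · rw [h0]
    exact Submodule.zero_mem _
  · apply Submodule.subset_span
    refine ⟨u, ?_⟩
    unfold stdMon
    rw [hu]

/-- the standard monomial basis of the Schubert cone -/
noncomputable def stdBasis [Infinite K] (hd : 0 < d) (w : Idx d n) :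
    Module.Basis (StdB w) K (PlRing K d n ⧸ schubertVanishing K d n w) :=
  Module.Basis.mk (stdMon_li K hd w) (stdMon_span K w)

lemma stdBasis_apply [Infinite K] (hd : 0 < d) (w : Idx d n) (u : StdB w) :
    stdBasis K hd w u = Ideal.Quotient.mk _ (monomial (up u.1) 1) := by
  unfold stdBasis
  rw [Module.Basis.mk_apply]
  rfl

/-- the image of a standard polynomial of weight `≤ k` lies in the `k`-th step of the filtration -/
theorem mk_mem_Fil [Infinite K] (hd : 0 < d) (w : Idx d n) (ν : Idx d n → ℕ) (k : ℕ)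
    (f : PlRing K d n)
    (hf : f ∈ T K ν k ⊔ (schubertVanishing K d n w).restrictScalars K) :
    Ideal.Quotient.mk (schubertVanishing K d n w) f ∈
      Groth.Agent.Rees9.Fil (stdBasis K hd w) (fun u => Om ν (up u.1)) k := by
  obtain ⟨g, hg, j, hj, rfl⟩ := Submodule.mem_sup.1 hf
  rw [map_add, Ideal.Quotient.eq_zero_iff_mem.2 hj, add_zero]
  clear hf
  unfold T at hg
  induction hg using Submodule.span_induction with
  | mem y hy =>
    obtain ⟨v, hv, hk, rfl⟩ := hy
    rcases mk_mem_span K w v hv with h0 | ⟨u, hu⟩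
    · rw [h0]
      exact Submodule.zero_mem _
    · rw [← hu, ← stdBasis_apply K hd w u]
      apply Groth.Agent.Rees9.basis_mem_of_le
      show Om ν (up u.1) ≤ k
      rw [hu]
      exact hk
  | zero =>
    rw [map_zero]
    exact Submodule.zero_mem _
  | add y z _ _ ihy ihz =>
    rw [map_add]
    exact Submodule.add_mem _ ihy ihz
  | smul c y _ ihy =>
    rw [mk_smul]
    exact Submodule.smul_mem _ _ ihy

/-- the hypotheses of the Rees construction -/
theorem hyp [Infinite K] (hd : 0 < d) (w : Idx d n) (ν : Idx d n → ℕ)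
    (hQ : QuadHyp K (schubertVanishing K d n w) ν) :
    Groth.Agent.Rees9.Hyp (stdBasis K hd w) (fun u => Om ν (up u.1)) := by
  constructor
  · have h1 : (1 : PlRing K d n ⧸ schubertVanishing K d n w) =
        Ideal.Quotient.mk _ (monomial (0 : Idx d n →₀ ℕ) (1 : K)) := by
      rw [show (monomial (0 : Idx d n →₀ ℕ) (1 : K)) = 1 from rfl, map_one]
    rw [h1]
    apply mk_mem_Fil K hd w ν 0
    apply Submodule.mem_sup_left
    apply Submodule.subset_span
    refine ⟨0, ?_, ?_, rfl⟩
    · intro θ hθ
      simp at hθ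
    · rw [Om_zero]
  · intro u v
    rw [stdBasis_apply, stdBasis_apply, ← map_mul, monomial_mul, one_mul, ← Om_add]
    exact mk_mem_Fil K hd w ν _ _ (straighten K _ ν hQ _)

end Groth.Agent.SchDeg9
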