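import Mathlib
import Groth.Agent.Lib.DetRing3_helper9
import Groth.Agent.Lib.SchDeg1_helper9

/-!
# The standard monomials without the bottom coordinate form a basis of the determinantal ring
(helper9)  APPEND-ONLY once landed.
-/

set_option autoImplicit false

universe u

namespace Groth.Agent.BiTab9

open W4bk4grassmannian MvPolynomial Function Finset
open Groth.Agent.FFT9 (iota iota_le)
open Groth.Agent.SFT9
open Groth.Agent.DetRing9
open Groth.Agent.SchDeg9
open Groth.Agent.Straight9 (IsChainSupp)

variable (K : Type u) [Field K] [IsAlgClosed K] (d r n : ℕ)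

/-- the bottom element of `H(w)` -/
def iotaB : Below (wn d r n) := ⟨iota (Nat.le_add_right d r), iota_le (Nat.le_add_right d r) _⟩

/-- standard monomials on `X(w_n)` not involving the bottom coordinate -/
abbrev Std0 : Type := {u : StdB (wn d r n) // u.1 (iotaB d r n) = 0}

/-- the images in the determinantal ring of the standard monomials without the bottom coordinate -/
noncomputable def F0 (u : Std0 d r n) :
    CellRing K d r ⧸ CAlgX.minorIdeal (genMatrix K r d) (n + 1) :=
  piBar K d r n (monomial (up u.1.1) 1)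

lemma piBar_smul (a : K) (G : PlRing K d (d + r)) :
    piBar K d r n (a • G) = a • piBar K d r n G := by
  rw [piBar_apply, piBar_apply, map_smul]
  exact map_smul (Ideal.Quotient.mkₐ K (CAlgX.minorIdeal (genMatrix K r d) (n + 1))) a _

lemma piBar_iota : piBar K d r n (X (iota (Nat.le_add_right d r))) = 1 := by
  rw [piBar_apply, piC_iota, map_one]

lemma chain_erase {w : Idx d (d + r)} (θ₀ : Below w) (u : Below w →₀ ℕ)
    (hu : IsChainSupp (up u)) : IsChainSupp (up (u.erase θ₀)) := by
  intro θ hθ φ hφ
  obtain ⟨θ', hθ', rfl⟩ := support_up _ θ hθ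
  obtain ⟨φ', hφ', rfl⟩ := support_up _ φ hφ
  rw [Finsupp.support_erase] at hθ' hφ'
  apply hu
  · rw [Finsupp.mem_support_iff, up_apply]
    exact Finsupp.mem_support_iff.1 (Finset.mem_of_mem_erase hθ')
  · rw [Finsupp.mem_support_iff, up_apply]
    exact Finsupp.mem_support_iff.1 (Finset.mem_of_mem_erase hφ')

/-- removing the bottom coordinate -/
noncomputable def strip (u : StdB (wn d r n)) : Std0 d r n :=
  ⟨⟨u.1.erase (iotaB d r n), chain_erase d r _ u.1 u.2⟩, Finsupp.erase_same⟩

lemma strip_of_std0 (u : Std0 d r n) : strip d r n u.1 = u := by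
  apply Subtype.ext
  apply Subtype.ext
  show u.1.1.erase (iotaB d r n) = u.1.1
  rw [Finsupp.erase_of_notMem_support]
  rw [Finsupp.notMem_support_iff]
  exact u.2

lemma chain_add_iota (u : Below (wn d r n) →₀ ℕ) (hu : IsChainSupp (up u)) :
    IsChainSupp (up (u + Finsupp.single (iotaB d r n) 1)) := by
  classical
  intro θ hθ φ hφ
  rw [up_add, up_single] at hθ hφ
  have hι : ∀ ψ : Idx d (d + r), (iotaB d r n).1 ≤ ψ := fun ψ => iota_le (Nat.le_add_right d r) ψ
  have hθ' := Finset.mem_union.1 (Finsupp.support_add hθ)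
  have hφ' := Finset.mem_union.1 (Finsupp.support_add hφ)
  rcases hθ' with h1 | h1
  · rcases hφ' with h2 | h2
    · exact hu θ h1 φ h2
    · rw [Finsupp.support_single_ne_zero _ one_ne_zero, Finset.mem_singleton] at h2
      rw [h2]
      exact Or.inr (hι θ)
  · rw [Finsupp.support_single_ne_zero _ one_ne_zero, Finset.mem_singleton] at h1
    rw [h1]
    exact Or.inl (hι φ)

lemma piBar_strip (u : StdB (wn d r n)) :
    piBar K d r n (monomial (up u.1) 1) = F0 K d r n (strip d r n u) := by
  unfold F0
  have h1 : u.1 = (strip d r n u).1.1 + Finsupp.single (iotaB d r n) (u.1 (iotaB d r n)) := by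
    show u.1 = u.1.erase (iotaB d r n) + Finsupp.single (iotaB d r n) (u.1 (iotaB d r n))
    rw [Finsupp.erase_add_single]
  conv_lhs => rw [h1]
  have h2 : up (Finsupp.single (iotaB d r n) (u.1 (iotaB d r n))) =
      Finsupp.single (iota (Nat.le_add_right d r)) (u.1 (iotaB d r n)) :=
    Finsupp.mapDomain_single
  rw [up_add, h2, monomial_add_single, map_mul, map_pow, piBar_iota, one_pow, mul_one]

theorem F0_li (hd : 0 < d) (hn : n < d) : LinearIndependent K (F0 K d r n) := by
  classical
  rw [linearIndependent_iff']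
  intro s c hc u₀ hu₀
  obtain ⟨w, hw⟩ : ∃ w : Idx d (d + r), w = wn d r n := ⟨_, rfl⟩
  -- the polynomial lies in `J(w) + (X_ι - 1)`
  obtain ⟨G, hG⟩ : ∃ G : PlRing K d (d + r), G = ∑ u ∈ s, c u • monomial (up u.1.1) (1 : K) :=
    ⟨_, rfl⟩
  have hGker : G ∈ RingHom.ker (piBar K d r n) := by
    rw [RingHom.mem_ker, hG, map_sum, ← hc]
    apply Finset.sum_congr rfl
    intro u _
    rw [piBar_smul]
    rfl
  rw [ker_piBar K d r hd n hn] at hGker
  obtain ⟨j, hj, a, ha, hja⟩ := Submodule.mem_sup.1 hGker
  obtain ⟨a', rfl⟩ := Ideal.mem_span_singleton'.1 ha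
  -- the functional
  obtain ⟨lam, hlam⟩ : ∃ lam : (PlRing K d (d + r) ⧸ schubertVanishing K d (d + r) (wn d r n))
      →ₗ[K] K, lam = (stdBasis K hd (wn d r n)).constr K
        (fun v : StdB (wn d r n) => if strip d r n v = u₀ then (1 : K) else 0) := ⟨_, rfl⟩
  have hlamb : ∀ v : StdB (wn d r n), lam (stdBasis K hd (wn d r n) v) =
      if strip d r n v = u₀ then (1 : K) else 0 := by
    intro v
    rw [hlam, Module.Basis.constr_basis]
  -- it kills multiples of `X_ι - 1`
  have hkill : ∀ x : PlRing K d (d + r) ⧸ schubertVanishing K d (d + r) (wn d r n),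
      lam ((Ideal.Quotient.mk _ (X (iota (Nat.le_add_right d r))) - 1) * x) = 0 := by
    intro x
    have h1 : (lam.comp (LinearMap.mulLeft K
        ((Ideal.Quotient.mk (schubertVanishing K d (d + r) (wn d r n))
          (X (iota (Nat.le_add_right d r))) - 1)))) = 0 := by
      apply (stdBasis K hd (wn d r n)).ext
      intro v
      rw [LinearMap.comp_apply, LinearMap.mulLeft_apply, LinearMap.zero_apply, sub_mul, one_mul,
        map_sub, hlamb v]
      have h2 : Ideal.Quotient.mk (schubertVanishing K d (d + r) (wn d r n))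
          (X (iota (Nat.le_add_right d r))) * stdBasis K hd (wn d r n) v =
          stdBasis K hd (wn d r n) ⟨v.1 + Finsupp.single (iotaB d r n) 1,
            chain_add_iota d r n v.1 v.2⟩ := by
        rw [stdBasis_apply, stdBasis_apply, ← map_mul]
        congr 1
        show _ = monomial (up (v.1 + Finsupp.single (iotaB d r n) 1)) 1
        rw [up_add, up_single, monomial_add_single, pow_one, mul_comm]
        rfl
      rw [h2, hlamb]
      have h3 : strip d r n ⟨v.1 + Finsupp.single (iotaB d r n) 1,
          chain_add_iota d r n v.1 v.2⟩ = strip d r n v := by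
        apply Subtype.ext
        apply Subtype.ext
        show (v.1 + Finsupp.single (iotaB d r n) 1).erase (iotaB d r n) =
          v.1.erase (iotaB d r n)
        rw [Finsupp.erase_add, Finsupp.erase_single, add_zero]
      rw [h3, sub_self]
    have h4 := LinearMap.congr_fun h1 x
    rwa [LinearMap.comp_apply, LinearMap.mulLeft_apply, LinearMap.zero_apply] at h4
  -- evaluate the functional
  have h5 : lam (Ideal.Quotient.mk (schubertVanishing K d (d + r) (wn d r n)) G) = 0 := by
    rw [← hja, map_add, Ideal.Quotient.eq_zero_iff_mem.2 hj, zero_add, map_mul, map_sub, map_one,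
      mul_comm]
    exact hkill _
  have h6 : lam (Ideal.Quotient.mk (schubertVanishing K d (d + r) (wn d r n)) G) = c u₀ := by
    rw [hG, map_sum, map_sum, Finset.sum_eq_single u₀]
    · rw [mk_smul, map_smul, ← stdBasis_apply K hd (wn d r n) u₀.1, hlamb,
        if_pos (strip_of_std0 d r n u₀), smul_eq_mul, mul_one]
    · intro u _ hne
      rw [mk_smul, map_smul, ← stdBasis_apply K hd (wn d r n) u.1, hlamb, if_neg, smul_zero]
      rw [strip_of_std0]
      exact hne
    · intro h
      exact absurd hu₀ h
  rw [← h6, h5]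

theorem F0_span (hd : 0 < d) (hn : n < d) :
    ⊤ ≤ Submodule.span K (Set.range (F0 K d r n)) := by
  rintro q -
  obtain ⟨G, rfl⟩ := piBar_surjective K d r n q
  -- `G` is standard modulo `J(w)`
  have h1 : Ideal.Quotient.mk (schubertVanishing K d (d + r) (wn d r n)) G ∈
      Submodule.span K (Set.range (stdMon K (wn d r n))) := stdMon_span K (wn d r n) trivial
  obtain ⟨l, hl⟩ := Finsupp.mem_span_range_iff_exists_finsupp.1 h1
  rw [Finsupp.sum] at hl
  have h2 : G - ∑ v ∈ l.support, l v • monomial (up v.1) (1 : K) ∈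
      schubertVanishing K d (d + r) (wn d r n) := by
    rw [← Ideal.Quotient.eq_zero_iff_mem, map_sub, ← hl, map_sum, sub_eq_zero]
    apply Finset.sum_congr rfl
    intro v _
    rw [mk_smul]
    rfl
  have h3 : piBar K d r n (G - ∑ v ∈ l.support, l v • monomial (up v.1) (1 : K)) = 0 := by
    rw [piBar_apply, Ideal.Quotient.eq_zero_iff_mem]
    exact piC_mem K d r hd n hn _ h2
  rw [map_sub, sub_eq_zero] at h3
  rw [h3, map_sum]
  apply Submodule.sum_mem
  intro v _
  rw [piBar_smul]
  apply Submodule.smul_mem
  rw [piBar_strip]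
  exact Submodule.subset_span ⟨_, rfl⟩

end Groth.Agent.BiTab9
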