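import Mathlib
import Groth.Agent.Lib.BiTab3_helper9
import Groth.Agent.Lib.BiTab4_helper9

/-!
# Row reversal and the images of standard bitableaux (helper9)
APPEND-ONLY once landed.
-/

set_option autoImplicit false

universe u

namespace Groth.Agent.BiTab9

open W4bk4grassmannian MvPolynomial Function Finset
open Groth.Agent.FFT9 (iota iota_le)
open Groth.Agent.SFT9
open Groth.Agent.DetRing9
open Groth.Agent.SchDeg9
open Groth.Agent.Straight9 (IsChainSupp)

variable (K : Type u) [Field K] (d r : ℕ)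

/-- reversal of the rows of the generic matrix -/
noncomputable def rev : CellRing K d r →ₐ[K] CellRing K d r :=
  MvPolynomial.rename (Prod.map Fin.rev id)

lemma rev_X (i : Fin r) (j : Fin d) : rev K d r (X (i, j)) = X (Fin.rev i, j) := by
  unfold rev
  rw [rename_X]
  rfl

lemma rev_rev (f : CellRing K d r) : rev K d r (rev K d r f) = f := by
  unfold rev
  rw [rename_rename]
  have h : (Prod.map (Fin.rev : Fin r → Fin r) (id : Fin d → Fin d)) ∘
      (Prod.map (Fin.rev : Fin r → Fin r) (id : Fin d → Fin d)) = id := by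
    funext p
    simp [Prod.map, Fin.rev_rev]
  rw [h, rename_id]
  rfl

lemma rev_det {t : ℕ} (f : Fin t → Fin r) (g : Fin t → Fin d) :
    rev K d r ((genMatrix K r d).submatrix f g).det =
      ((genMatrix K r d).submatrix (Fin.rev ∘ f) g).det := by
  rw [AlgHom.map_det]
  congr 1
  apply Matrix.ext
  intro i j
  simp only [AlgHom.mapMatrix_apply, Matrix.map_apply, Matrix.submatrix_apply, genMatrix,
    Matrix.of_apply, Function.comp_apply]
  exact rev_X K d r (f i) (g j)

lemma rev_mem (t : ℕ) (f : CellRing K d r) (hf : f ∈ CAlgX.minorIdeal (genMatrix K r d) t) :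
    rev K d r f ∈ CAlgX.minorIdeal (genMatrix K r d) t := by
  have hle : CAlgX.minorIdeal (genMatrix K r d) t ≤
      Ideal.comap (rev K d r) (CAlgX.minorIdeal (genMatrix K r d) t) := by
    unfold CAlgX.minorIdeal
    rw [Ideal.span_le]
    rintro _ ⟨⟨f, g⟩, rfl⟩
    rw [SetLike.mem_coe, Ideal.mem_comap]
    show rev K d r ((genMatrix K r d).submatrix f g).det ∈ _
    rw [rev_det]
    exact Ideal.subset_span ⟨(Fin.rev ∘ f, g), rfl⟩
  exact hle hf

/-- the automorphism of the determinantal ring induced by row reversal -/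
noncomputable def revQ (t : ℕ) : (CellRing K d r ⧸ CAlgX.minorIdeal (genMatrix K r d) t) →ₐ[K]
    (CellRing K d r ⧸ CAlgX.minorIdeal (genMatrix K r d) t) :=
  Ideal.Quotient.liftₐ _ ((Ideal.Quotient.mkₐ K _).comp (rev K d r)) (by
    intro a ha
    rw [AlgHom.comp_apply, Ideal.Quotient.mkₐ_eq_mk, Ideal.Quotient.eq_zero_iff_mem]
    exact rev_mem K d r t a ha)

lemma revQ_mk (t : ℕ) (f : CellRing K d r) :
    revQ K d r t (Ideal.Quotient.mk _ f) = Ideal.Quotient.mk _ (rev K d r f) := by
  unfold revQ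
  rw [Ideal.Quotient.liftₐ_apply, Ideal.Quotient.lift_mk]
  rfl

lemma revQ_revQ (t : ℕ) (q : CellRing K d r ⧸ CAlgX.minorIdeal (genMatrix K r d) t) :
    revQ K d r t (revQ K d r t q) = q := by
  obtain ⟨f, rfl⟩ := Ideal.Quotient.mk_surjective q
  rw [revQ_mk, revQ_mk, rev_rev]

lemma revQ_injective (t : ℕ) : Injective (revQ K d r t) := by
  intro a b hab
  rw [← revQ_revQ K d r t a, hab, revQ_revQ]

lemma rowsRev_eq {k : ℕ} (A : Idx k r) : rowsRev A = Fin.rev ∘ A.1 := by
  funext i
  apply Fin.ext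
  show r - 1 - (A.1 i).val = (Fin.rev (A.1 i)).val
  rw [Fin.val_rev]
  omega

/-- a minor is, up to sign and row reversal, a Plücker coordinate on the cell -/
theorem cellMinor_Phi (M : MinorIdx r d) : ∃ e : Kˣ,
    cellMinor K d r (Phi M) = (e : K) • rev K d r (minorOf K M) := by
  obtain ⟨ε, hε, h⟩ := det_eq_cellMinor (rowsRev M.2.1) M.2.2.1 K (rowsRev_injective _)
    M.2.2.2.injective
  have h1 : rev K d r (minorOf K M) = ε * cellMinor K d r (Phi M) := by
    unfold minorOf
    rw [rev_det, ← rowsRev_eq]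
    exact h
  rcases hε with rfl | rfl
  · refine ⟨1, ?_⟩
    rw [h1, one_mul, Units.val_one, one_smul]
  · refine ⟨-1, ?_⟩
    rw [h1, Units.val_neg, Units.val_one, neg_smul, one_smul]
    ring

end Groth.Agent.BiTab9
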