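import Mathlib
import Groth.Agent.Lib.BiTab5_helper9
import Groth.Agent.Lib.SMTUnion_helper9
import Groth.Agent.Lib.Straight3_helper9

/-!
# Standard bitableaux form a basis of the determinantal ring (wide case `n < d`) (helper9)
APPEND-ONLY once landed.
-/

set_option autoImplicit false

universe u

namespace Groth.Agent.BiTab9

open W4bk4grassmannian MvPolynomial Function Finset
open Groth.Agent.FFT9 (iota iota_le)
open Groth.Agent.SFT9
open Groth.Agent.DetRing9
open Groth.Agent.SchDeg9
open Groth.Agent.Straight9 (IsChainSupp)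
open Groth.Agent.SMT9 (U support_U toMultiset_U chainMon_eq)

section Mono

variable {d N : ℕ}

lemma chain_U_mono {m : ℕ} (c : Fin m → Idx d N) (hc : Monotone c) : IsChainSupp (U c) := by
  intro θ hθ φ hφ
  obtain ⟨k, rfl⟩ := (support_U c θ).1 hθ
  obtain ⟨k', rfl⟩ := (support_U c φ).1 hφ
  rcases le_total k k' with h | h
  · exact Or.inl (hc h)
  · exact Or.inr (hc h)

lemma U_injective_mono {m m' : ℕ} (c : Fin m → Idx d N) (c' : Fin m' → Idx d N) (hc : Monotone c)
    (hc' : Monotone c') (h : U c = U c') :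
    (⟨m, c⟩ : Σ n', Fin n' → Idx d N) = ⟨m', c'⟩ := by
  rw [← List.ofFn_inj']
  have hperm : List.Perm (List.ofFn c) (List.ofFn c') := by
    rw [← Multiset.coe_eq_coe, ← Fin.univ_val_map, ← Fin.univ_val_map, ← toMultiset_U c,
      ← toMultiset_U c', h]
  apply List.Perm.eq_of_pairwise' (r := (· ≤ ·)) _ _ hperm
  · rw [List.pairwise_ofFn]
    intro i j hij
    exact hc hij.le
  · rw [List.pairwise_ofFn]
    intro i j hij
    exact hc' hij.le

lemma U_rev {m : ℕ} (c : Fin m → Idx d N) : U (fun i => c (Fin.rev i)) = U c := by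
  unfold U
  exact Equiv.sum_comp Fin.revPerm (fun k => Finsupp.single (c k) 1)

end Mono

variable (K : Type u) [Field K] [IsAlgClosed K] (d r n : ℕ)

/-- standard bitableaux with minors of size at most `n` -/
abbrev BT : Type := Σ k : ℕ, {c : Fin k → MinorIdx r d //
  (∀ i, (c i).1 + 1 ≤ n) ∧ ∀ i j, i < j → MinorGE (c i) (c j)}

/-- the class of a bitableau in the determinantal ring -/
noncomputable def btMon (c : BT d r n) :
    CellRing K d r ⧸ CAlgX.minorIdeal (genMatrix K r d) (n + 1) :=
  Ideal.Quotient.mk _ (∏ i, minorOf K (c.2.1 i))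

lemma piBar_prod_Phi {k : ℕ} (M : Fin k → MinorIdx r d) : ∃ e : Kˣ,
    piBar K d r n (∏ i, X (Phi (M i))) =
      (e : K) • revQ K d r (n + 1) (Ideal.Quotient.mk _ (∏ i, minorOf K (M i))) := by
  choose e he using fun i => cellMinor_Phi K d r (M i)
  refine ⟨∏ i, e i, ?_⟩
  rw [map_prod, revQ_mk, map_prod, Units.coe_prod]
  have h1 : ∀ i, piBar K d r n (X (Phi (M i))) =
      algebraMap K _ (e i : K) * Ideal.Quotient.mk _ (rev K d r (minorOf K (M i))) := by
    intro i
    rw [piBar_apply, piC_X, he i, ← Algebra.smul_def]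
    rfl
  rw [Finset.prod_congr rfl (fun i _ => h1 i), Finset.prod_mul_distrib, ← map_prod, ← map_prod,
    ← Algebra.smul_def]

lemma BT_mono (c : BT d r n) : Monotone (fun i => Phi (c.2.1 i)) := by
  intro i j hij
  rcases eq_or_lt_of_le hij with h | h
  · rw [h]
  · exact (Phi_le_iff _ _).2 (c.2.2.2 i j h)

variable {n} in
/-- the exponent vector of a bitableau -/
noncomputable def uB (hn : n < d) (c : BT d r n) : Below (wn d r n) →₀ ℕ :=
  ∑ i, Finsupp.single (⟨Phi (c.2.1 i), (Phi_le_wn _ n hn).2 (c.2.2.1 i)⟩ : Below (wn d r n)) 1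

variable {n} in
lemma up_uB (hn : n < d) (c : BT d r n) : up (uB d r hn c) = U (fun i => Phi (c.2.1 i)) := by
  unfold uB up U
  rw [Finsupp.mapDomain_finsetSum]
  apply Finset.sum_congr rfl
  intro i _
  rw [Finsupp.mapDomain_single]

variable {n} in
/-- the standard monomial of a standard bitableau -/
noncomputable def V (hn : n < d) (c : BT d r n) : Std0 d r n :=
  ⟨⟨uB d r hn c, by rw [up_uB]; exact chain_U_mono _ (BT_mono d r n c)⟩, by
    show uB d r hn c (iotaB d r n) = 0
    rw [← up_apply, up_uB, ← Finsupp.notMem_support_iff, support_U]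
    rintro ⟨k, hk⟩
    exact Phi_ne_iota _ hk⟩

variable {n} in
lemma V_injective (hn : n < d) : Injective (V d r hn) := by
  intro c c' h
  have h1 : uB d r hn c = uB d r hn c' := congrArg (fun x => x.1.1) h
  have h2 := congrArg up h1
  rw [up_uB, up_uB] at h2
  have h3 := U_injective_mono _ _ (BT_mono d r n c) (BT_mono d r n c') h2
  obtain ⟨k, c, hc⟩ := c
  obtain ⟨k', c', hc'⟩ := c'
  have hk : k = k' := congrArg Sigma.fst h3
  subst hk
  have h4 := eq_of_heq (Sigma.mk.inj h3).2
  have h5 : c = c' := by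
    funext i
    exact Phi_injective (congrFun h4 i)
  subst h5
  rfl

variable {n} in
lemma F0_V (hn : n < d) (c : BT d r n) : ∃ e : Kˣ,
    F0 K d r n (V d r hn c) = (e : K) • revQ K d r (n + 1) (btMon K d r n c) := by
  obtain ⟨e, he⟩ := piBar_prod_Phi K d r n c.2.1
  refine ⟨e, ?_⟩
  rw [btMon, ← he]
  unfold F0
  show piBar K d r n (monomial (up (uB d r hn c)) 1) = _
  rw [up_uB, ← chainMon_eq]
  rfl

variable {n} in
lemma V_surjective (hn : n < d) : Surjective (V d r hn) := by
  intro u
  obtain ⟨m, τ, hτ, hmon, hsupp⟩ := Groth.Agent.Straight9.exists_chain ℚ _ (up u.1.1) rfl u.1.2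
  have hne : ∀ k, τ k ≠ iota (Nat.le_add_right d r) := by
    intro k hk
    have h1 := hsupp k
    rw [hk, Finsupp.mem_support_iff] at h1
    apply h1
    have h2 : up u.1.1 (iotaB d r n).1 = u.1.1 (iotaB d r n) := up_apply _ _
    exact h2.trans u.2
  choose M hM using fun k => Phi_surjective (τ k) (hne k)
  have hsize : ∀ k, (M k).1 + 1 ≤ n := by
    intro k
    rw [← Phi_le_wn _ n hn, hM]
    exact support_up_le _ _ (hsupp k)
  refine ⟨⟨m, fun i => M (Fin.rev i), fun i => hsize _, ?_⟩, ?_⟩
  · intro i j hij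
    rw [← Phi_le_iff, hM, hM]
    apply hτ
    exact Fin.rev_le_rev.2 hij.le
  · apply Subtype.ext
    apply Subtype.ext
    show uB d r hn _ = u.1.1
    apply up_injective
    rw [up_uB]
    show U (fun i => Phi (M (Fin.rev i))) = _
    have h1 : (fun i => Phi (M (Fin.rev i))) = fun i => τ (Fin.rev i) := by
      funext i
      exact hM _
    rw [h1, U_rev]
    rw [chainMon_eq] at hmon
    exact monomial_left_injective (one_ne_zero) hmon

/-- Standard bitableaux are linearly independent in the determinantal ring (wide case). -/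
theorem btMon_li (hd : 0 < d) (hn : n < d) : LinearIndependent K (btMon K d r n) := by
  have h1 : LinearIndependent K (fun c => F0 K d r n (V d r hn c)) :=
    (F0_li K d r n hd hn).comp _ (V_injective d r hn)
  choose e he using F0_V K d r hn
  have h2 : LinearIndependent K (fun c => (revQ K d r (n + 1)).toLinearMap (btMon K d r n c)) := by
    have h3 := h1.units_smul (fun c => (e c)⁻¹)
    convert h3 using 1
    funext c
    show _ = (e c)⁻¹ • F0 K d r n (V d r hn c)
    rw [he c]
    show _ = ((e c)⁻¹ : Kˣ) • ((e c : Kˣ) • revQ K d r (n + 1) (btMon K d r n c))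
    rw [inv_smul_smul]
    rfl
  exact LinearIndependent.of_comp _ h2

/-- Standard bitableaux span the determinantal ring (wide case). -/
theorem btMon_span (hd : 0 < d) (hn : n < d) :
    Submodule.span K (Set.range (btMon K d r n)) = ⊤ := by
  have h1 : (⊤ : Submodule K _) ≤ Submodule.map (revQ K d r (n + 1)).toLinearMap
      (Submodule.span K (Set.range (btMon K d r n))) := by
    refine le_trans (F0_span K d r n hd hn) ?_
    rw [Submodule.span_le]
    rintro _ ⟨u, rfl⟩
    obtain ⟨c, rfl⟩ := V_surjective d r hn u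
    obtain ⟨e, he⟩ := F0_V K d r hn c
    rw [he]
    apply Submodule.smul_mem
    exact Submodule.mem_map_of_mem (Submodule.subset_span (Set.mem_range_self c))
  rw [eq_top_iff]
  rintro x -
  obtain ⟨y, hy, hxy⟩ := h1 (Submodule.mem_top (x := revQ K d r (n + 1) x))
  have : y = x := revQ_injective K d r (n + 1) hxy
  rw [← this]
  exact hy

end Groth.Agent.BiTab9
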