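import Mathlib
import Groth.Agent.Lib.BiTab6_helper9

/-!
# Standard bitableaux: removing a column, and the general case (helper9)
APPEND-ONLY once landed.
-/

set_option autoImplicit false

universe u

namespace Groth.Agent.BiTab9

open W4bk4grassmannian MvPolynomial Function Finset

section Col

variable (K : Type u) [Field K] (d r : ℕ)

/-- adding a last column of variables -/
noncomputable def incl : CellRing K d r →ₐ[K] CellRing K (d + 1) r :=
  MvPolynomial.rename (Prod.map id Fin.castSucc)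

/-- setting the last column to zero -/
noncomputable def retr : CellRing K (d + 1) r →ₐ[K] CellRing K d r :=
  MvPolynomial.aeval (fun p : Fin r × Fin (d + 1) =>
    if h : p.2.val < d then (X (p.1, ⟨p.2.val, h⟩) : CellRing K d r) else 0)

lemma incl_X (i : Fin r) (j : Fin d) : incl K d r (X (i, j)) = X (i, Fin.castSucc j) := by
  unfold incl
  rw [rename_X]
  rfl

lemma retr_X_lt (i : Fin r) (j : Fin (d + 1)) (h : j.val < d) :
    retr K d r (X (i, j)) = X (i, ⟨j.val, h⟩) := by
  unfold retr
  rw [aeval_X, dif_pos h]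

lemma retr_X_ge (i : Fin r) (j : Fin (d + 1)) (h : ¬ j.val < d) :
    retr K d r (X (i, j)) = 0 := by
  unfold retr
  rw [aeval_X, dif_neg h]

lemma retr_incl (f : CellRing K d r) : retr K d r (incl K d r f) = f := by
  have h : (retr K d r).comp (incl K d r) = AlgHom.id K _ := by
    apply MvPolynomial.algHom_ext
    rintro ⟨i, j⟩
    rw [AlgHom.comp_apply, incl_X, retr_X_lt K d r i (Fin.castSucc j) j.isLt]
    rfl
  exact DFunLike.congr_fun h f

lemma incl_det {t : ℕ} (f : Fin t → Fin r) (g : Fin t → Fin d) :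
    incl K d r ((genMatrix K r d).submatrix f g).det =
      ((genMatrix K r (d + 1)).submatrix f (Fin.castSucc ∘ g)).det := by
  rw [AlgHom.map_det]
  congr 1
  apply Matrix.ext
  intro i j
  simp only [AlgHom.mapMatrix_apply, Matrix.map_apply, Matrix.submatrix_apply, genMatrix,
    Matrix.of_apply, Function.comp_apply]
  exact incl_X K d r (f i) (g j)

lemma retr_det_lt {t : ℕ} (f : Fin t → Fin r) (g : Fin t → Fin (d + 1))
    (hg : ∀ j, (g j).val < d) :
    retr K d r ((genMatrix K r (d + 1)).submatrix f g).det =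
      ((genMatrix K r d).submatrix f (fun j => ⟨(g j).val, hg j⟩)).det := by
  rw [AlgHom.map_det]
  congr 1
  apply Matrix.ext
  intro i j
  simp only [AlgHom.mapMatrix_apply, Matrix.map_apply, Matrix.submatrix_apply, genMatrix,
    Matrix.of_apply]
  exact retr_X_lt K d r (f i) (g j) (hg j)

lemma retr_det_ge {t : ℕ} (f : Fin t → Fin r) (g : Fin t → Fin (d + 1))
    (j₀ : Fin t) (hg : ¬ (g j₀).val < d) :
    retr K d r ((genMatrix K r (d + 1)).submatrix f g).det = 0 := by
  rw [AlgHom.map_det]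
  apply Matrix.det_eq_zero_of_column_eq_zero j₀
  intro i
  simp only [AlgHom.mapMatrix_apply, Matrix.map_apply, Matrix.submatrix_apply, genMatrix,
    Matrix.of_apply]
  exact retr_X_ge K d r (f i) (g j₀) hg

lemma incl_mem (t : ℕ) (f : CellRing K d r) (hf : f ∈ CAlgX.minorIdeal (genMatrix K r d) t) :
    incl K d r f ∈ CAlgX.minorIdeal (genMatrix K r (d + 1)) t := by
  have hle : CAlgX.minorIdeal (genMatrix K r d) t ≤
      Ideal.comap (incl K d r) (CAlgX.minorIdeal (genMatrix K r (d + 1)) t) := by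
    unfold CAlgX.minorIdeal
    rw [Ideal.span_le]
    rintro _ ⟨⟨f, g⟩, rfl⟩
    rw [SetLike.mem_coe, Ideal.mem_comap]
    show incl K d r ((genMatrix K r d).submatrix f g).det ∈ _
    rw [incl_det]
    exact Ideal.subset_span ⟨(f, Fin.castSucc ∘ g), rfl⟩
  exact hle hf

lemma retr_mem (t : ℕ) (f : CellRing K (d + 1) r)
    (hf : f ∈ CAlgX.minorIdeal (genMatrix K r (d + 1)) t) :
    retr K d r f ∈ CAlgX.minorIdeal (genMatrix K r d) t := by
  have hle : CAlgX.minorIdeal (genMatrix K r (d + 1)) t ≤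
      Ideal.comap (retr K d r) (CAlgX.minorIdeal (genMatrix K r d) t) := by
    unfold CAlgX.minorIdeal
    rw [Ideal.span_le]
    rintro _ ⟨⟨f, g⟩, rfl⟩
    rw [SetLike.mem_coe, Ideal.mem_comap]
    show retr K d r ((genMatrix K r (d + 1)).submatrix f g).det ∈ _
    by_cases hg : ∀ j, (g j).val < d
    · rw [retr_det_lt K d r f g hg]
      exact Ideal.subset_span ⟨(f, fun j => ⟨(g j).val, hg j⟩), rfl⟩
    · push Not at hg
      obtain ⟨j₀, hj₀⟩ := hg
      rw [retr_det_ge K d r f g j₀ (by omega)]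
      exact Ideal.zero_mem _
  exact hle hf

/-- the induced map on determinantal rings -/
noncomputable def inclQ (t : ℕ) : (CellRing K d r ⧸ CAlgX.minorIdeal (genMatrix K r d) t) →ₐ[K]
    (CellRing K (d + 1) r ⧸ CAlgX.minorIdeal (genMatrix K r (d + 1)) t) :=
  Ideal.Quotient.liftₐ _ ((Ideal.Quotient.mkₐ K _).comp (incl K d r)) (by
    intro a ha
    rw [AlgHom.comp_apply, Ideal.Quotient.mkₐ_eq_mk, Ideal.Quotient.eq_zero_iff_mem]
    exact incl_mem K d r t a ha)

/-- the induced retraction on determinantal rings -/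
noncomputable def retrQ (t : ℕ) :
    (CellRing K (d + 1) r ⧸ CAlgX.minorIdeal (genMatrix K r (d + 1)) t) →ₐ[K]
    (CellRing K d r ⧸ CAlgX.minorIdeal (genMatrix K r d) t) :=
  Ideal.Quotient.liftₐ _ ((Ideal.Quotient.mkₐ K _).comp (retr K d r)) (by
    intro a ha
    rw [AlgHom.comp_apply, Ideal.Quotient.mkₐ_eq_mk, Ideal.Quotient.eq_zero_iff_mem]
    exact retr_mem K d r t a ha)

lemma inclQ_mk (t : ℕ) (f : CellRing K d r) :
    inclQ K d r t (Ideal.Quotient.mk _ f) = Ideal.Quotient.mk _ (incl K d r f) := by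
  unfold inclQ
  rw [Ideal.Quotient.liftₐ_apply, Ideal.Quotient.lift_mk]
  rfl

lemma retrQ_mk (t : ℕ) (f : CellRing K (d + 1) r) :
    retrQ K d r t (Ideal.Quotient.mk _ f) = Ideal.Quotient.mk _ (retr K d r f) := by
  unfold retrQ
  rw [Ideal.Quotient.liftₐ_apply, Ideal.Quotient.lift_mk]
  rfl

lemma retrQ_inclQ (t : ℕ) (q : CellRing K d r ⧸ CAlgX.minorIdeal (genMatrix K r d) t) :
    retrQ K d r t (inclQ K d r t q) = q := by
  obtain ⟨f, rfl⟩ := Ideal.Quotient.mk_surjective q
  rw [inclQ_mk, retrQ_mk, retr_incl]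

lemma inclQ_injective (t : ℕ) : Injective (inclQ K d r t) := by
  intro a b hab
  rw [← retrQ_inclQ K d r t a, hab, retrQ_inclQ]

end Col

section Emb

variable (d r : ℕ)

/-- a minor of the first `d` columns as a minor of the larger matrix -/
def emb (M : MinorIdx r d) : MinorIdx r (d + 1) :=
  ⟨M.1, (M.2.1, ⟨Fin.castSucc ∘ M.2.2.1, fun _ _ h => Fin.castSucc_lt_castSucc_iff.2 (M.2.2.2 h)⟩)⟩

lemma emb_injective : Injective (emb d r) := by
  rintro ⟨s, A, B⟩ ⟨s', A', B'⟩ h
  have hs : s = s' := congrArg Sigma.fst h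
  subst hs
  have h2 := eq_of_heq (Sigma.mk.inj h).2
  have hA : A = A' := congrArg Prod.fst h2
  have hB : (⟨Fin.castSucc ∘ B.1, fun _ _ h => Fin.castSucc_lt_castSucc_iff.2 (B.2 h)⟩ :
      Idx (s + 1) (d + 1)) = ⟨Fin.castSucc ∘ B'.1, fun _ _ h =>
        Fin.castSucc_lt_castSucc_iff.2 (B'.2 h)⟩ := congrArg Prod.snd h2
  have hB' : B = B' := by
    apply Subtype.ext
    funext j
    have := congrFun (congrArg Subtype.val hB) j
    exact Fin.castSucc_injective _ this
  rw [hA, hB']

lemma minorGE_emb (M M' : MinorIdx r d) : MinorGE (emb d r M) (emb d r M') ↔ MinorGE M M' := by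
  unfold MinorGE
  constructor
  · rintro ⟨h1, h2⟩
    refine ⟨h1, fun j j' hjj' => ⟨(h2 j j' hjj').1, ?_⟩⟩
    exact Fin.castSucc_le_castSucc_iff.1 (h2 j j' hjj').2
  · rintro ⟨h1, h2⟩
    refine ⟨h1, fun j j' hjj' => ⟨(h2 j j' hjj').1, ?_⟩⟩
    exact Fin.castSucc_le_castSucc_iff.2 (h2 j j' hjj').2

lemma exists_emb (M' : MinorIdx r (d + 1)) (h : ∀ j, (M'.2.2.1 j).val < d) :
    ∃ M : MinorIdx r d, emb d r M = M' := by
  obtain ⟨s, A, B⟩ := M'
  refine ⟨⟨s, (A, ⟨fun j => ⟨(B.1 j).val, h j⟩, fun a b hab => ?_⟩)⟩, ?_⟩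
  · exact B.2 hab
  · unfold emb
    congr 1

variable (K : Type u) [Field K]

lemma minorOf_emb (M : MinorIdx r d) : minorOf K (emb d r M) = incl K d r (minorOf K M) := by
  unfold minorOf
  rw [incl_det]
  rfl

end Emb

section Final

variable (K : Type u) [Field K] (d r n : ℕ)

/-- embedding of bitableaux -/
def embBT (c : BT d r n) : BT (d + 1) r n :=
  ⟨c.1, fun i => emb d r (c.2.1 i), fun i => c.2.2.1 i,
    fun i j hij => (minorGE_emb d r _ _).2 (c.2.2.2 i j hij)⟩

lemma embBT_injective : Injective (embBT d r n) := by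
  rintro ⟨k, c, hc⟩ ⟨k', c', hc'⟩ h
  have hk : k = k' := congrArg Sigma.fst h
  subst hk
  have h2 := eq_of_heq (Sigma.mk.inj h).2
  have h3 : (fun i => emb d r (c i)) = fun i => emb d r (c' i) := congrArg Subtype.val h2
  have h4 : c = c' := by
    funext i
    exact emb_injective d r (congrFun h3 i)
  subst h4
  rfl

lemma btMon_embBT (c : BT d r n) :
    btMon K (d + 1) r n (embBT d r n c) = inclQ K d r (n + 1) (btMon K d r n c) := by
  unfold btMon
  rw [inclQ_mk]
  congr 1
  rw [map_prod]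
  apply Finset.prod_congr rfl
  intro i _
  exact minorOf_emb d r K (c.2.1 i)

lemma retrQ_btMon (c' : BT (d + 1) r n) :
    retrQ K d r (n + 1) (btMon K (d + 1) r n c') ∈
      Submodule.span K (Set.range (btMon K d r n)) := by
  by_cases h : ∀ i j, (((c'.2.1 i).2.2.1 j)).val < d
  · choose M hM using fun i => exists_emb d r (c'.2.1 i) (h i)
    have hs : ∀ i, (M i).1 + 1 ≤ n := by
      intro i
      have h1 := c'.2.2.1 i
      rw [← hM i] at h1
      exact h1
    have hge : ∀ i j, i < j → MinorGE (M i) (M j) := by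
      intro i j hij
      rw [← minorGE_emb, hM, hM]
      exact c'.2.2.2 i j hij
    have h1 : btMon K (d + 1) r n c' =
        inclQ K d r (n + 1) (btMon K d r n ⟨c'.1, M, hs, hge⟩) := by
      unfold btMon
      rw [inclQ_mk]
      congr 1
      rw [map_prod]
      apply Finset.prod_congr rfl
      intro i _
      rw [← minorOf_emb, hM]
    rw [h1, retrQ_inclQ]
    exact Submodule.subset_span (Set.mem_range_self _)
  · push Not at h
    obtain ⟨i, j, hij⟩ := h
    have h1 : retr K d r (minorOf K (c'.2.1 i)) = 0 := by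
      unfold minorOf
      exact retr_det_ge K d r _ _ j (by omega)
    have h2 : retrQ K d r (n + 1) (btMon K (d + 1) r n c') = 0 := by
      unfold btMon
      rw [retrQ_mk, map_prod, Finset.prod_eq_zero (Finset.mem_univ i) h1, map_zero]
    rw [h2]
    exact Submodule.zero_mem _

variable [IsAlgClosed K]

/-- Standard bitableaux are linearly independent in the determinantal ring. -/
theorem btMon_li_gen (hn : n ≤ d) : LinearIndependent K (btMon K d r n) := by
  have h1 := btMon_li K (d + 1) r n (Nat.succ_pos d) (Nat.lt_succ_of_le hn)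
  have h2 : LinearIndependent K
      (fun c => (inclQ K d r (n + 1)).toLinearMap (btMon K d r n c)) := by
    have h3 := h1.comp _ (embBT_injective d r n)
    convert h3 using 1
    funext c
    exact (btMon_embBT K d r n c).symm
  exact LinearIndependent.of_comp _ h2

/-- Standard bitableaux span the determinantal ring. -/
theorem btMon_span_gen (hn : n ≤ d) : Submodule.span K (Set.range (btMon K d r n)) = ⊤ := by
  have h1 := btMon_span K (d + 1) r n (Nat.succ_pos d) (Nat.lt_succ_of_le hn)
  rw [eq_top_iff]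
  rintro x -
  have h2 : inclQ K d r (n + 1) x ∈ Submodule.span K (Set.range (btMon K (d + 1) r n)) := by
    rw [h1]
    trivial
  have h3 : retrQ K d r (n + 1) (inclQ K d r (n + 1) x) ∈
      Submodule.map (retrQ K d r (n + 1)).toLinearMap
        (Submodule.span K (Set.range (btMon K (d + 1) r n))) := Submodule.mem_map_of_mem h2
  rw [retrQ_inclQ, Submodule.map_span] at h3
  refine Submodule.span_le.2 ?_ h3
  rintro _ ⟨_, ⟨c', rfl⟩, rfl⟩
  exact retrQ_btMon K d r n c'

end Final

end Groth.Agent.BiTab9
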