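import Mathlib
import Groth.Prelude.Def_DRing4
import Groth.Agent.Lib.HomCx2_helper2
import Groth.Agent.Lib.RHomKInj_helper2

/-!
# Chain-level biduality map (helper6), part 1

For complexes `K`, `I` of `A`-modules: the natural chain map
`ev K I : K ⟶ Hom•(Hom•(K, I), I)`, `x ↦ (φ ↦ (-1)^{pq} φ_p(x))`, and its naturality in `K`.
-/

set_option autoImplicit false
set_option linter.style.haveILetI false
set_option linter.unusedSectionVars false
set_option linter.unusedVariables false
universe u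
open CategoryTheory Limits CochainComplex CochainComplex.HomComplex

namespace Groth.Agent.Lib.BidualH6

open Groth.Agent.Lib.HomCx Groth.Agent.Lib.RHomKInj

variable {A : Type u} [CommRing A]

/-- pointwise evaluation `φ ↦ (-1)^{pq} φ_p(x)` -/
noncomputable def evPt (K I : DRing.Cx A) (p q q' : ℤ) (h : q + p = q') (x : K.X p) :
    Cochain K I q →ₗ[A] I.X q' :=
  ((p * q).negOnePow : ℤˣ) • (LinearMap.applyₗ x).comp (evL K I q p q' (by omega))

lemma evPt_apply (K I : DRing.Cx A) (p q q' : ℤ) (h : q + p = q') (x : K.X p)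
    (φ : Cochain K I q) :
    evPt K I p q q' h x φ = ((p * q).negOnePow : ℤˣ) • (φ.v p q' (by omega)).hom x := rfl

/-- the cochain `ev(x)` of degree `p` from `Hom•(K, I)` to `I` attached to `x ∈ K^p` -/
noncomputable def evCochain (K I : DRing.Cx A) (p : ℤ) (x : K.X p) :
    Cochain (DRing.homCx K I) I p :=
  Cochain.mk (fun q q' h => ModuleCat.ofHom (evPt K I p q q' h x))

lemma evCochain_v_apply (K I : DRing.Cx A) (p : ℤ) (x : K.X p) (q q' : ℤ) (h : q + p = q')
    (φ : Cochain K I q) :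
    ((evCochain K I p x).v q q' h).hom φ =
      ((p * q).negOnePow : ℤˣ) • (φ.v p q' (by omega)).hom x := rfl

/-- `x ↦ ev(x)` as a linear map -/
noncomputable def evLin (K I : DRing.Cx A) (p : ℤ) :
    K.X p →ₗ[A] Cochain (DRing.homCx K I) I p where
  toFun x := evCochain K I p x
  map_add' x y := by
    ext q q' h φ
    rw [Cochain.add_v, ModuleCat.hom_add, LinearMap.add_apply]
    erw [evCochain_v_apply, evCochain_v_apply, evCochain_v_apply]
    rw [map_add, smul_add]
  map_smul' a x := by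
    ext q q' h φ
    rw [Cochain.smul_v, ModuleCat.hom_smul, LinearMap.smul_apply]
    erw [evCochain_v_apply, evCochain_v_apply]
    rw [map_smul, RingHom.id_apply, smul_comm]

lemma evLin_apply (K I : DRing.Cx A) (p : ℤ) (x : K.X p) : evLin K I p x = evCochain K I p x := rfl

lemma sign_aux1 (p q : ℤ) :
    (((p * q).negOnePow : ℤˣ) : ℤ) +
      (((p + 1).negOnePow : ℤˣ) : ℤ) * (((p * (q + 1)).negOnePow : ℤˣ) : ℤ) = 0 := by
  have hb : ((p.negOnePow : ℤˣ) : ℤ) * ((p.negOnePow : ℤˣ) : ℤ) = 1 := by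
    rw [← Units.val_mul, Int.units_mul_self, Units.val_one]
  rw [mul_add p q 1, mul_one, Int.negOnePow_add, Int.negOnePow_add, Int.negOnePow_one]
  simp only [Units.val_mul, Units.val_neg, Units.val_one]
  linear_combination (-(((p * q).negOnePow : ℤˣ) : ℤ)) * hb

lemma sign_aux2 (p q : ℤ) :
    (((p + 1).negOnePow : ℤˣ) : ℤ) * (((p * (q + 1)).negOnePow : ℤˣ) : ℤ) *
      (((q + 1).negOnePow : ℤˣ) : ℤ) = ((((p + 1) * q).negOnePow : ℤˣ) : ℤ) := by
  have hb : ((p.negOnePow : ℤˣ) : ℤ) * ((p.negOnePow : ℤˣ) : ℤ) = 1 := by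
    rw [← Units.val_mul, Int.units_mul_self, Units.val_one]
  rw [mul_add p q 1, mul_one, add_mul p 1 q, one_mul, Int.negOnePow_add, Int.negOnePow_add,
    Int.negOnePow_add, Int.negOnePow_add, Int.negOnePow_one]
  simp only [Units.val_mul, Units.val_neg, Units.val_one]
  linear_combination ((((p * q).negOnePow : ℤˣ) : ℤ) * ((q.negOnePow : ℤˣ) : ℤ)) * hb

lemma δ_evCochain (K I : DRing.Cx A) (p p' : ℤ) (hp : p + 1 = p') (x : K.X p) :
    δ p p' (evCochain K I p x) = evCochain K I p' ((K.d p p').hom x) := by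
  ext q q'' h φ
  rw [δ_v p p' hp _ q q'' h (q'' - 1) (q + 1) rfl rfl]
  rw [ModuleCat.hom_add, LinearMap.add_apply, ModuleCat.hom_comp, LinearMap.comp_apply,
    units_smul_hom_apply, ModuleCat.hom_comp, LinearMap.comp_apply]
  have e1 : ((DRing.homCx K I).d q (q + 1)).hom φ = δ q (q + 1) (show Cochain K I q from φ) := rfl
  rw [e1]
  erw [evCochain_v_apply, evCochain_v_apply, evCochain_v_apply]
  rw [δ_v q (q + 1) rfl _ p q'' (by omega) (q'' - 1) p' rfl hp]
  rw [ModuleCat.hom_add, LinearMap.add_apply, ModuleCat.hom_comp, LinearMap.comp_apply,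
    units_smul_hom_apply, ModuleCat.hom_comp, LinearMap.comp_apply]
  subst hp
  generalize_proofs h1 h2 h3
  simp only [Units.smul_def, map_zsmul, smul_add, smul_smul]
  rw [← add_assoc, ← add_smul, sign_aux1, zero_smul, zero_add, ← mul_assoc, sign_aux2]

/-- the duality functor on objects -/
noncomputable abbrev Dc (I K : DRing.Cx A) : DRing.Cx A := DRing.homCx K I

/-- the duality functor on morphisms -/
noncomputable abbrev Dm (I : DRing.Cx A) {K K' : DRing.Cx A} (f : K' ⟶ K) : Dc I K ⟶ Dc I K' :=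
  homCxPre f I

/-- **the biduality chain map** `K ⟶ Hom•(Hom•(K, I), I)` -/
noncomputable def ev (K I : DRing.Cx A) : K ⟶ Dc I (Dc I K) where
  f p := ModuleCat.ofHom (evLin K I p)
  comm' p p' hp := by
    have hp' : p + 1 = p' := hp
    refine ModuleCat.hom_ext (LinearMap.ext fun x => ?_)
    exact (δ_evCochain K I p p' hp' x)

lemma ev_f_apply (K I : DRing.Cx A) (p : ℤ) (x : K.X p) :
    (((ev K I).f p).hom x : Cochain (DRing.homCx K I) I p) = evCochain K I p x := rfl

/-- naturality of `ev` -/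
lemma ev_naturality (I : DRing.Cx A) {K K' : DRing.Cx A} (f : K' ⟶ K) :
    f ≫ ev K I = ev K' I ≫ Dm I (Dm I f) := by
  refine HomologicalComplex.hom_ext _ _ fun p => ModuleCat.hom_ext (LinearMap.ext fun x => ?_)
  rw [HomologicalComplex.comp_f, HomologicalComplex.comp_f, ModuleCat.hom_comp,
    ModuleCat.hom_comp, LinearMap.comp_apply, LinearMap.comp_apply]
  erw [ev_f_apply, ev_f_apply, homCxPre_f_apply]
  refine Cochain.ext _ _ (fun q q' h => ModuleCat.hom_ext (LinearMap.ext fun φ => ?_))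
  rw [Cochain.zero_cochain_comp_v, Cochain.ofHom_v, ModuleCat.hom_comp, LinearMap.comp_apply]
  erw [evCochain_v_apply, evCochain_v_apply, homCxPre_f_apply]
  rw [Cochain.zero_cochain_comp_v, Cochain.ofHom_v, ModuleCat.hom_comp, LinearMap.comp_apply]

end Groth.Agent.Lib.BidualH6
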