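import Mathlib
import Groth.Prelude.Def_DRing4
import Groth.Agent.Lib.Bidual1_helper6

/-!
# Chain-level biduality (helper6), part 2: exactness of `Hom•(-, I)` on short exact sequences of
complexes for `I` termwise injective; the five lemma for the middle term.
-/

set_option autoImplicit false
set_option linter.style.haveILetI false
set_option linter.unusedSectionVars false
set_option linter.unusedVariables false
universe u
open CategoryTheory Limits CochainComplex CochainComplex.HomComplex

namespace Groth.Agent.Lib.BidualH6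

open Groth.Agent.Lib.HomCx Groth.Agent.Lib.RHomKInj DRing

variable {A : Type u} [CommRing A]

lemma homCxPre_zero (K K' I : DRing.Cx A) : homCxPre (0 : K' ⟶ K) I = 0 := by
  refine HomologicalComplex.hom_ext _ _ fun i => ModuleCat.hom_ext (LinearMap.ext fun z => ?_)
  erw [homCxPre_f_apply]
  rw [Cochain.ofHom_zero, Cochain.zero_comp]
  rfl

/-- the dual short complex -/
noncomputable def DS (I : DRing.Cx A) (S : ShortComplex (DRing.Cx A)) : ShortComplex (DRing.Cx A) :=
  ShortComplex.mk (Dm I S.g) (Dm I S.f) (by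
    rw [← homCxPre_comp, S.zero, homCxPre_zero])

lemma DS_shortExact (I : DRing.Cx A) (hI : TermwiseInjective I) (S : ShortComplex (DRing.Cx A))
    (hS : S.ShortExact) : (DS I S).ShortExact := by
  refine HomologicalComplex.shortExact_of_degreewise_shortExact _ (fun n => ?_)
  have hSp : ∀ p : ℤ, (S.map (HomologicalComplex.eval _ _ p)).ShortExact := fun p =>
    (HomologicalComplex.shortExact_iff_degreewise_shortExact S).1 hS p
  haveI : ∀ q : ℤ, Injective (I.X q) := fun q => by
    haveI := hI q
    exact Module.injective_object_of_injective_module A (I.X q)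
  refine ModuleCat.shortComplex_shortExact _ ?_ ?_ ?_
  · -- exactness in the middle
    intro (z : Cochain S.X₂ I n)
    constructor
    · intro (hz : (Cochain.ofHom S.f).comp z (zero_add n) = 0)
      have h0 : ∀ (p q : ℤ) (hpq : p + n = q), S.f.f p ≫ z.v p q hpq = 0 := by
        intro p q hpq
        have := congrArg (fun w : Cochain S.X₁ I n => w.v p q hpq) hz
        simpa only [Cochain.zero_cochain_comp_v, Cochain.ofHom_v, Cochain.zero_v] using this
      haveI : ∀ p, Epi ((S.map (HomologicalComplex.eval _ _ p)).g) := fun p => (hSp p).epi_g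
      refine ⟨(Cochain.mk (fun p q hpq => (hSp p).exact.desc (z.v p q hpq) (h0 p q hpq)) :
        Cochain S.X₃ I n), ?_⟩
      change (Cochain.ofHom S.g).comp _ (zero_add n) = z
      ext p q hpq : 1
      rw [Cochain.zero_cochain_comp_v, Cochain.ofHom_v, Cochain.mk_v]
      exact (hSp p).exact.g_desc (z.v p q hpq) (h0 p q hpq)
    · rintro ⟨(w : Cochain S.X₃ I n), rfl⟩
      change (Cochain.ofHom S.f).comp ((Cochain.ofHom S.g).comp w (zero_add n)) (zero_add n) = 0
      rw [← Cochain.comp_assoc_of_first_is_zero_cochain, ← Cochain.ofHom_comp, S.zero,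
        Cochain.ofHom_zero, Cochain.zero_comp]
  · -- injectivity
    intro (z : Cochain S.X₃ I n) (z' : Cochain S.X₃ I n)
      (h : (Cochain.ofHom S.g).comp z (zero_add n) = (Cochain.ofHom S.g).comp z' (zero_add n))
    refine Cochain.ext z z' (fun p q hpq => ?_)
    haveI : Epi (S.g.f p) := (hSp p).epi_g
    have := congrArg (fun w : Cochain S.X₂ I n => w.v p q hpq) h
    simp only [Cochain.zero_cochain_comp_v, Cochain.ofHom_v] at this
    exact (cancel_epi (S.g.f p)).1 this
  · -- surjectivity
    intro (z : Cochain S.X₁ I n)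
    haveI : ∀ p, Mono (S.f.f p) := fun p => (hSp p).mono_f
    refine ⟨(Cochain.mk (fun p q hpq => Injective.factorThru (z.v p q hpq) (S.f.f p)) :
      Cochain S.X₂ I n), ?_⟩
    change (Cochain.ofHom S.f).comp _ (zero_add n) = z
    ext p q hpq : 1
    rw [Cochain.zero_cochain_comp_v, Cochain.ofHom_v, Cochain.mk_v]
    exact Injective.comp_factorThru _ _

section Five

open HomologicalComplex HomologicalComplex.HomologySequence ComposableArrows Abelian

variable {C : Type*} [Category C] [Abelian C] {S₁ S₂ : ShortComplex (CochainComplex C ℤ)}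
  (φ : S₁ ⟶ S₂) (hS₁ : S₁.ShortExact) (hS₂ : S₂.ShortExact)

include hS₁ hS₂ in
lemma mono_homologyMap_τ₂ (i j : ℤ) (hij : i + 1 = j)
    (h₁ : Epi (homologyMap φ.τ₃ i)) (h₂ : Mono (homologyMap φ.τ₁ j))
    (h₃ : Mono (homologyMap φ.τ₃ j)) : Mono (homologyMap φ.τ₂ j) := by
  have hij' : (ComplexShape.up ℤ).Rel i j := hij
  apply mono_of_epi_of_mono_of_mono
    ((δ₀Functor ⋙ δ₀Functor).map (mapComposableArrows₅ φ hS₁ hS₂ i j hij'))
  · exact (composableArrows₅_exact hS₁ i j hij').δ₀.δ₀
  · exact (composableArrows₅_exact hS₂ i j hij').δ₀.δ₀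
  · exact h₁
  · exact h₂
  · exact h₃

include hS₁ hS₂ in
lemma epi_homologyMap_τ₂ (j k : ℤ) (hjk : j + 1 = k)
    (h₁ : Epi (homologyMap φ.τ₁ j)) (h₂ : Epi (homologyMap φ.τ₃ j))
    (h₃ : Mono (homologyMap φ.τ₁ k)) : Epi (homologyMap φ.τ₂ j) := by
  have hjk' : (ComplexShape.up ℤ).Rel j k := hjk
  apply epi_of_epi_of_epi_of_mono
    ((δlastFunctor ⋙ δlastFunctor).map (mapComposableArrows₅ φ hS₁ hS₂ j k hjk'))
  · exact (composableArrows₅_exact hS₁ j k hjk').δlast.δlast
  · exact (composableArrows₅_exact hS₂ j k hjk').δlast.δlast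
  · exact h₁
  · exact h₂
  · exact h₃

include hS₁ hS₂ in
/-- five lemma: in a morphism of short exact sequences of cochain complexes, if the outer maps are
quasi-isomorphisms then so is the middle one -/
lemma quasiIso_τ₂ (h₁ : QuasiIso φ.τ₁) (h₃ : QuasiIso φ.τ₃) : QuasiIso φ.τ₂ := by
  rw [quasiIso_iff]
  intro j
  rw [quasiIsoAt_iff_isIso_homologyMap]
  haveI := mono_homologyMap_τ₂ φ hS₁ hS₂ (j - 1) j (by omega) inferInstance inferInstance
    inferInstance
  haveI := epi_homologyMap_τ₂ φ hS₁ hS₂ j (j + 1) rfl inferInstance inferInstance inferInstance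
  exact isIso_of_mono_of_epi _

end Five

end Groth.Agent.Lib.BidualH6
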