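import Mathlib
import Groth.Agent.Lib.DMod14_helper6

/-!
# Derived category toolkit (helper6), part 15: small module lemmas.
-/

set_option autoImplicit false
universe u
open CategoryTheory CategoryTheory.Limits

namespace Groth.Agent.Lib.DMod_helper6

variable {A : Type u} [CommRing A]

/-- middle term of an exact sequence `X → Y → Z` over a Noetherian ring with `X`, `Z` finite -/
lemma finite_of_exact_noeth [IsNoetherianRing A] {X Y Z : ModuleCat.{u} A} (a : X ⟶ Y) (b : Y ⟶ Z)
    (hex : LinearMap.range a.hom = LinearMap.ker b.hom) (hX : Module.Finite A X)
    (hZ : Module.Finite A Z) : Module.Finite A Y := by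
  haveI := hX
  haveI := hZ
  haveI : IsNoetherian A Z := isNoetherian_of_isNoetherianRing_of_finite A Z
  haveI : Module.Finite A (LinearMap.range b.hom) := Module.IsNoetherian.finite A _
  exact Module.Finite.of_exact (f := a.hom) (g := b.hom.rangeRestrict)
    (LinearMap.exact_iff.2 (by rw [LinearMap.ker_rangeRestrict, hex]))
    (LinearMap.surjective_rangeRestrict _)

/-- a retract of a projective module is projective -/
lemma projective_of_retract {M N : ModuleCat.{u} A} (i : M ⟶ N) (r : N ⟶ M)
    (h : i ≫ r = 𝟙 M) (hp : Module.Projective A N) : Module.Projective A M := by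
  have hx : ∀ x : M, r.hom (i.hom x) = x := fun x => by
    have := congrArg (fun f => f.hom x) h
    simpa using this
  exact Module.Projective.of_split i.hom r.hom (by ext x; exact hx x)

end Groth.Agent.Lib.DMod_helper6
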