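import Mathlib
import Groth.Prelude.Def_DRing4
import Groth.Agent.Lib.Bidual2_helper6
import Groth.Agent.Lib.HomCxPreQis_helper2
import Groth.Agent.Lib.DMod15_helper6

/-!
# Chain-level biduality (helper6), part 3: closure properties of the classes
`EvQis I K` (`ev K I` is a quasi-isomorphism) and `DFin I K` (the cohomology of `Hom•(K, I)` is
finite).
-/

set_option autoImplicit false
set_option linter.style.haveILetI false
set_option linter.unusedSectionVars false
set_option linter.unusedVariables false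
universe u
open CategoryTheory Limits CochainComplex CochainComplex.HomComplex ZeroObject

namespace Groth.Agent.Lib.BidualH6

open Groth.Agent.Lib.HomCx Groth.Agent.Lib.RHomKInj Groth.Agent.Lib.HomCxPreQis DRing
open Groth.Agent.Lib.DMod_helper6

variable {A : Type u} [CommRing A]

/-- `ev K I` is a quasi-isomorphism -/
def EvQis (I K : DRing.Cx A) : Prop := QuasiIso (ev K I)

/-- the cohomology modules of `Hom•(K, I)` are finite -/
def DFin (I K : DRing.Cx A) : Prop := ∀ i : ℤ, Module.Finite A ((Dc I K).homology i)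

/-- the morphism of short complexes `S ⟶ DD S` given by `ev` -/
noncomputable def evSC (I : DRing.Cx A) (S : ShortComplex (DRing.Cx A)) : S ⟶ DS I (DS I S) where
  τ₁ := ev S.X₁ I
  τ₂ := ev S.X₂ I
  τ₃ := ev S.X₃ I
  comm₁₂ := (ev_naturality I S.f).symm
  comm₂₃ := (ev_naturality I S.g).symm

lemma evQis_of_shortExact (I : DRing.Cx A) (hI : TermwiseInjective I)
    (S : ShortComplex (DRing.Cx A)) (hS : S.ShortExact) (h₁ : EvQis I S.X₁) (h₃ : EvQis I S.X₃) :
    EvQis I S.X₂ :=
  quasiIso_τ₂ (evSC I S) hS (DS_shortExact I hI _ (DS_shortExact I hI S hS)) h₁ h₃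

lemma dFin_of_shortExact [IsNoetherianRing A] (I : DRing.Cx A) (hI : TermwiseInjective I)
    (S : ShortComplex (DRing.Cx A)) (hS : S.ShortExact) (h₁ : DFin I S.X₁) (h₃ : DFin I S.X₃) :
    DFin I S.X₂ := by
  intro i
  have hex := (DS_shortExact I hI S hS).homology_exact₂ i
  rw [ShortComplex.ShortExact.moduleCat_exact_iff_function_exact] at hex
  exact finite_of_exact_noeth _ _ (LinearMap.exact_iff.1 hex).symm (h₃ i) (h₁ i)

variable (I : DRing.Cx A) [I.IsKInjective]

lemma quasiIso_Dm {K K' : DRing.Cx A} (f : K' ⟶ K) [QuasiIso f] : QuasiIso (Dm I f) :=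
  quasiIso_homCxPre f I

lemma evQis_iff_of_quasiIso {K K' : DRing.Cx A} (f : K' ⟶ K) [QuasiIso f] :
    EvQis I K' ↔ EvQis I K := by
  haveI : QuasiIso (Dm I f) := quasiIso_Dm I f
  haveI : QuasiIso (Dm I (Dm I f)) := quasiIso_Dm I (Dm I f)
  have hnat := ev_naturality I f
  unfold EvQis
  constructor
  · intro h
    haveI := h
    haveI : QuasiIso (f ≫ ev K I) := by rw [hnat]; infer_instance
    exact quasiIso_of_comp_left f (ev K I)
  · intro h
    haveI := h
    haveI : QuasiIso (ev K' I ≫ Dm I (Dm I f)) := by rw [← hnat]; infer_instance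
    exact quasiIso_of_comp_right (ev K' I) (Dm I (Dm I f))

lemma dFin_iff_of_quasiIso {K K' : DRing.Cx A} (f : K' ⟶ K) [QuasiIso f] :
    DFin I K' ↔ DFin I K := by
  haveI : QuasiIso (Dm I f) := quasiIso_Dm I f
  have e : ∀ i, (Dc I K).homology i ≅ (Dc I K').homology i := fun i =>
    asIso (HomologicalComplex.homologyMap (Dm I f) i)
  constructor
  · intro h i
    haveI := h i
    exact Module.Finite.equiv (e i).symm.toLinearEquiv
  · intro h i
    haveI := h i
    exact Module.Finite.equiv (e i).toLinearEquiv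

omit [I.IsKInjective] in
lemma subsingleton_cochain_of_isZero (K : DRing.Cx A) (n : ℤ) (hK : ∀ p, IsZero (K.X p)) :
    Subsingleton (Cochain K I n) :=
  ⟨fun z z' => Cochain.ext z z' (fun p q hpq => (hK p).eq_of_src _ _)⟩

lemma quasiIso_of_acyclic {K L : DRing.Cx A} (f : K ⟶ L) (hK : K.Acyclic) (hL : L.Acyclic) :
    QuasiIso f := by
  rw [quasiIso_iff]
  intro n
  rw [quasiIsoAt_iff_exactAt f n (hK n)]
  exact hL n

lemma acyclic_of_isZero_X (K : DRing.Cx A) (hK : ∀ p, IsZero (K.X p)) : K.Acyclic :=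
  fun n => ShortComplex.exact_of_isZero_X₂ _ (hK n)

omit [I.IsKInjective] in
lemma isZero_Dc_X (K : DRing.Cx A) (hK : ∀ p, IsZero (K.X p)) (n : ℤ) : IsZero ((Dc I K).X n) := by
  haveI : Subsingleton ((Dc I K).X n) := subsingleton_cochain_of_isZero I K n hK
  exact ModuleCat.isZero_of_subsingleton _

lemma acyclic_Dc_of_acyclic (K : DRing.Cx A) (hK : K.Acyclic) : (Dc I K).Acyclic := by
  let Z : DRing.Cx A := 0
  have hZ : ∀ p, IsZero (Z.X p) := fun p =>
    (HomologicalComplex.eval _ _ p).map_isZero (isZero_zero _)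
  let f : K ⟶ Z := 0
  haveI : QuasiIso f := quasiIso_of_acyclic f hK (acyclic_of_isZero_X Z hZ)
  haveI : QuasiIso (Dm I f) := quasiIso_Dm I f
  have h1 : (Dc I Z).Acyclic := acyclic_of_isZero_X _ (isZero_Dc_X I Z hZ)
  intro n
  exact (quasiIsoAt_iff_exactAt (Dm I f) n (h1 n)).1 inferInstance

lemma evQis_of_acyclic (K : DRing.Cx A) (hK : K.Acyclic) : EvQis I K :=
  quasiIso_of_acyclic _ hK (acyclic_Dc_of_acyclic I _ (acyclic_Dc_of_acyclic I K hK))

lemma dFin_of_acyclic (K : DRing.Cx A) (hK : K.Acyclic) : DFin I K := by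
  intro i
  have h := acyclic_Dc_of_acyclic I K hK i
  rw [HomologicalComplex.exactAt_iff_isZero_homology] at h
  haveI : Subsingleton ((Dc I K).homology i) := ModuleCat.subsingleton_of_isZero h
  infer_instance

end Groth.Agent.Lib.BidualH6
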