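import Mathlib
import Groth.Prelude.Def_DRing4
import Groth.Prelude.Def_Wider
import Groth.Agent.Lib.Bidual3_helper6
import Groth.Agent.Lib.DMod66_helper6
import Groth.Agent.Lib.DMod90_helper6

/-!
# Chain-level biduality (helper6), part 4: cocycles of `Hom•(J, I)` versus morphisms in the
derived category; the cocycle attached to `ev(x)`.
-/

set_option autoImplicit false
set_option linter.style.haveILetI false
set_option linter.unusedSectionVars false
set_option linter.unusedVariables false
universe u
open CategoryTheory Limits CochainComplex CochainComplex.HomComplex ZeroObject DerivedCategory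
attribute [local instance] HasDerivedCategory.standard

namespace Groth.Agent.Lib.BidualH6

open Groth.Agent.Lib.HomCx Groth.Agent.Lib.RHomKInj Groth.Agent.Lib.HomCxPreQis DRing
open Groth.Agent.Lib.DMod_helper6

variable {A : Type u} [CommRing A]

section Generic

variable (J I : DRing.Cx A)

/-- a cocycle whose associated morphism vanishes in the derived category is a coboundary -/
lemma exists_δ_eq_of_Q_map_eq_zero [I.IsKInjective] (n : ℤ) (w : Cocycle J I n)
    (h : Q.map (Cocycle.equivHomShift.symm w) = 0) :
    ∃ β : Cochain J I (n - 1), δ (n - 1) n β = w.1 := by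
  obtain ⟨H⟩ := homotopy_zero_of_Q_map_eq_zero_of_isKInjective _ h
  have h1 : CohomologyClass.toHom (CohomologyClass.mk w) = 0 := by
    rw [CohomologyClass.toHom_mk, HomotopyCategory.eq_of_homotopy _ _ H, Functor.map_zero]
  rw [CohomologyClass.toHom_mk_eq_zero_iff, mem_coboundaries_iff w (n - 1) (by omega)] at h1
  exact h1

/-- the morphism associated with a coboundary vanishes in the derived category -/
lemma Q_map_eq_zero_of_δ_eq (n : ℤ) (w : Cocycle J I n) (β : Cochain J I (n - 1))
    (hβ : δ (n - 1) n β = w.1) : Q.map (Cocycle.equivHomShift.symm w) = 0 := by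
  have h1 : CohomologyClass.toHom (CohomologyClass.mk w) = 0 := by
    rw [CohomologyClass.toHom_mk_eq_zero_iff, mem_coboundaries_iff w (n - 1) (by omega)]
    exact ⟨β, hβ⟩
  rw [CohomologyClass.toHom_mk] at h1
  have e1 := (quotientCompQhIso (ModuleCat.{u} A)).hom.naturality (Cocycle.equivHomShift.symm w)
  simp only [Functor.comp_map] at e1
  rw [h1, Functor.map_zero, zero_comp] at e1
  exact (cancel_epi _).1 (e1.symm.trans comp_zero.symm)

end Generic

section EvCocycle

variable (K I : DRing.Cx A)

/-- the cocycle `ev(x)` for `x ∈ K^p` with `d x = 0` -/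
noncomputable def evCocycle (p : ℤ) (x : K.X p) (hx : (K.d p (p + 1)).hom x = 0) :
    Cocycle (DRing.homCx K I) I p :=
  Cocycle.mk (evCochain K I p x) (p + 1) rfl (by
    rw [δ_evCochain K I p (p + 1) rfl x, hx]
    exact (evLin K I (p + 1)).map_zero)

/-- the chain map `Hom•(K, I) ⟶ I⟦p⟧` attached to a cycle `x ∈ K^p` -/
noncomputable def evHom (p : ℤ) (x : K.X p) (hx : (K.d p (p + 1)).hom x = 0) :
    DRing.homCx K I ⟶ I⟦p⟧ :=
  Cocycle.equivHomShift.symm (evCocycle K I p x hx)

lemma evHom_f (p : ℤ) (x : K.X p) (hx : (K.d p (p + 1)).hom x = 0) (q q' : ℤ) (h : q + p = q') :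
    (evHom K I p x hx).f q =
      ModuleCat.ofHom (evPt K I p q q' h x) ≫ (I.shiftFunctorObjXIso p q q' (by omega)).inv := by
  subst h
  rw [evHom, Cocycle.equivHomShift_symm_apply, Cocycle.homOf_f, Cocycle.rightShift_coe,
    Cochain.rightShift_v _ p 0 (zero_add p) q q (add_zero q) (q + p) rfl]
  rfl

lemma evPt_smul (p q q' : ℤ) (h : q + p = q') (a : A) (x : K.X p) :
    evPt K I p q q' h (a • x) = a • evPt K I p q q' h x := by
  ext φ
  rw [LinearMap.smul_apply, evPt_apply, evPt_apply, map_smul, smul_comm]

lemma evHom_smul (p : ℤ) (a : A) (x : K.X p) (hx : (K.d p (p + 1)).hom x = 0)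
    (hax : (K.d p (p + 1)).hom (a • x) = 0) :
    evHom K I p (a • x) hax = a • evHom K I p x hx := by
  ext q : 1
  rw [HomologicalComplex.smul_f_apply, evHom_f K I p _ _ q (q + p) rfl,
    evHom_f K I p _ _ q (q + p) rfl, evPt_smul]
  exact (Linear.smul_comp _ _ _ a (ModuleCat.ofHom (evPt K I p q (q + p) rfl x))
    (I.shiftFunctorObjXIso p q (q + p) (by omega)).inv)

end EvCocycle

end Groth.Agent.Lib.BidualH6
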