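import Mathlib
import Groth.Prelude.Def_DRing4
import Groth.Prelude.Def_Wider
import Groth.Agent.Lib.Bidual4_helper6
import Groth.Agent.Lib.DMod79_helper6
import Groth.Agent.Lib.DMod93_helper6

/-!
# Chain-level biduality (helper6), part 5: the base case `K = A[-m]`.
-/

set_option autoImplicit false
set_option linter.style.haveILetI false
set_option linter.unusedSectionVars false
set_option linter.unusedVariables false
universe u
open CategoryTheory Limits CochainComplex CochainComplex.HomComplex ZeroObject DerivedCategory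
attribute [local instance] HasDerivedCategory.standard

namespace Groth.Agent.Lib.BidualH6

open Groth.Agent.Lib.HomCx Groth.Agent.Lib.RHomKInj Groth.Agent.Lib.HomCxPreQis DRing
open Groth.Agent.Lib.DMod_helper6

variable {A : Type u} [CommRing A]

section Single

variable (A) in
/-- `A[-m]` -/
noncomputable abbrev SA (m : ℤ) : DRing.Cx A :=
  (CochainComplex.singleFunctor (ModuleCat.{u} A) m).obj (ModuleCat.of A A)

variable (A) in
/-- the generator of `A[-m]` -/
noncomputable def one (m : ℤ) : (SA A m).X m :=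
  (HomologicalComplex.singleObjXSelf (.up ℤ) m (ModuleCat.of A A)).inv.hom (1 : A)

lemma isZero_SA_X (m p : ℤ) (hp : p ≠ m) : IsZero ((SA A m).X p) :=
  HomologicalComplex.isZero_single_obj_X _ _ _ _ hp

lemma exists_smul_one (m : ℤ) (x : (SA A m).X m) : ∃ a : A, x = a • one A m := by
  refine ⟨(HomologicalComplex.singleObjXSelf (.up ℤ) m (ModuleCat.of A A)).hom.hom x, ?_⟩
  have h1 : x = (HomologicalComplex.singleObjXSelf (.up ℤ) m (ModuleCat.of A A)).inv.hom
      ((HomologicalComplex.singleObjXSelf (.up ℤ) m (ModuleCat.of A A)).hom.hom x) := by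
    rw [← LinearMap.comp_apply, ← ModuleCat.hom_comp, Iso.hom_inv_id]
    rfl
  refine h1.trans ?_
  unfold one
  have h2 := ((HomologicalComplex.singleObjXSelf (.up ℤ) m (ModuleCat.of A A)).inv.hom).map_smul
    ((HomologicalComplex.singleObjXSelf (.up ℤ) m (ModuleCat.of A A)).hom.hom x) (1 : A)
  rw [smul_eq_mul, mul_one] at h2
  exact h2

lemma SA_d_apply (m p p' : ℤ) (x : (SA A m).X p) : ((SA A m).d p p').hom x = 0 := by
  have : (SA A m).d p p' = 0 := HomologicalComplex.single_obj_d _ _ _ _ _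
  rw [this]
  rfl

variable (I : DRing.Cx A) (m : ℤ)

lemma bijective_evPt_one (q q' : ℤ) (h : q + m = q') :
    Function.Bijective (evPt (SA A m) I m q q' h (one A m)) := by
  have h' : m + q = q' := by omega
  have key : ⇑(evPt (SA A m) I m q q' h (one A m)) =
      (fun y : I.X q' => ((m * q).negOnePow : ℤˣ) • y) ∘ (evalOne (I.X q')) ∘
        (Cochain.fromSingleEquiv (X := ModuleCat.of A A) (K := I) h') := by
    funext φ
    rfl
  rw [key]
  refine Function.Bijective.comp (MulAction.bijective _) (Function.Bijective.comp ?_ ?_)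
  · exact (evalOne (I.X q')).bijective
  · exact (Cochain.fromSingleEquiv (X := ModuleCat.of A A) (K := I) h').bijective

instance isIso_evHom_one :
    IsIso (evHom (SA A m) I m (one A m) (SA_d_apply m m (m + 1) _)) := by
  haveI : ∀ q : ℤ, IsIso ((evHom (SA A m) I m (one A m) (SA_d_apply m m (m + 1) _)).f q) := by
    intro q
    rw [evHom_f (SA A m) I m _ _ q (q + m) rfl]
    haveI : IsIso (ModuleCat.ofHom (evPt (SA A m) I m q (q + m) rfl (one A m))) :=
      (ConcreteCategory.isIso_iff_bijective _).2 (bijective_evPt_one I m q (q + m) rfl)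
    exact IsIso.comp_isIso' this inferInstance
  exact HomologicalComplex.Hom.isIso_of_components _

end Single

section Dualizing

variable (I : DRing.Cx A) [I.IsKInjective] (ω : Dual.D A) (e : toD I ≅ ω)
  (hω : Dual.IsDualizing A ω) (m : ℤ)

include e hω in
lemma isDualizing_toD_shift : Dual.IsDualizing A (toD (I⟦m⟧)) :=
  isDualizing_of_iso (((Q.commShiftIso m).app I ≪≫
    (CategoryTheory.shiftFunctor (Dual.D A) m).mapIso e)).symm (isDualizing_shift ω hω m)

/-- the isomorphism `Hom•(A[-m], I) ≅ I⟦m⟧` in `D(A)` -/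
noncomputable def gIso : toD (Dc I (SA A m)) ≅ toD (I⟦m⟧) :=
  Q.mapIso (asIso (evHom (SA A m) I m (one A m) (SA_d_apply m m (m + 1) _)))

include e hω in
lemma subsingleton_hom_of_ne (n : ℤ) (hn : n ≠ m) :
    Subsingleton (toD (Dc I (SA A m)) ⟶ toD (I⟦n⟧)) := by
  have hL := isDualizing_toD_shift I ω e hω m
  haveI := hL.ext_self_subsingleton (n - m) (by omega)
  let e2 : toD (I⟦n⟧) ≅ (toD (I⟦m⟧))⟦n - m⟧ :=
    (Q.commShiftIso n).app I ≪≫
      (CategoryTheory.shiftFunctorAdd' (Dual.D A) m (n - m) n (by omega)).app (toD I) ≪≫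
      ((CategoryTheory.shiftFunctor (Dual.D A) (n - m)).mapIso ((Q.commShiftIso m).app I)).symm
  rw [subsingleton_hom_iso_left (gIso I m), subsingleton_hom_iso_right e2]
  infer_instance

include e hω in
lemma exists_δ_eq_of_ne (n : ℤ) (hn : n ≠ m) (w : Cochain (Dc I (SA A m)) I n)
    (hw : δ n (n + 1) w = 0) :
    ∃ β : Cochain (Dc I (SA A m)) I (n - 1), δ (n - 1) n β = w := by
  haveI := subsingleton_hom_of_ne I ω e hω m n hn
  exact exists_δ_eq_of_Q_map_eq_zero _ I n (Cocycle.mk w (n + 1) rfl hw) (Subsingleton.elim _ _)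

include e hω in
lemma exists_eq_ev_add_δ (w : Cochain (Dc I (SA A m)) I m) (hw : δ m (m + 1) w = 0) :
    ∃ (a : A) (β : Cochain (Dc I (SA A m)) I (m - 1)),
      w = evCochain (SA A m) I m (a • one A m) + δ (m - 1) m β := by
  have hL := isDualizing_toD_shift I ω e hω m
  let g := evHom (SA A m) I m (one A m) (SA_d_apply m m (m + 1) _)
  let wc : Cocycle (Dc I (SA A m)) I m := Cocycle.mk w (m + 1) rfl hw
  let h := Cocycle.equivHomShift.symm wc
  obtain ⟨a, ha⟩ := hL.toEnd_bijective.2 (inv (Q.map g) ≫ Q.map h)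
  have ha' : a • 𝟙 (toD (I⟦m⟧)) = inv (Q.map g) ≫ Q.map h := ha
  have h1 : Q.map h = a • Q.map g := by
    have : Q.map g ≫ (a • 𝟙 _) = Q.map h := by rw [ha', IsIso.hom_inv_id_assoc]
    rw [← this, Linear.comp_smul, Category.comp_id]
  let ec := evCocycle (SA A m) I m (a • one A m) (SA_d_apply m m (m + 1) _)
  have h2 : Q.map (Cocycle.equivHomShift.symm (wc - ec)) = 0 := by
    rw [map_sub, Functor.map_sub]
    change Q.map h - Q.map (evHom (SA A m) I m (a • one A m) (SA_d_apply m m (m + 1) _)) = 0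
    rw [evHom_smul _ _ _ a (one A m) (SA_d_apply m m (m + 1) _), Functor.map_smul, h1, sub_self]
  obtain ⟨β, hβ⟩ := exists_δ_eq_of_Q_map_eq_zero _ I m (wc - ec) h2
  refine ⟨a, β, ?_⟩
  have h3 : ((wc - ec).1 : Cochain (Dc I (SA A m)) I m) =
      w - evCochain (SA A m) I m (a • one A m) := rfl
  rw [hβ, h3]
  abel

include e hω in
lemma eq_zero_of_ev_eq_δ (a : A) (β : Cochain (Dc I (SA A m)) I (m - 1))
    (h : evCochain (SA A m) I m (a • one A m) = δ (m - 1) m β) : a = 0 := by
  have hL := isDualizing_toD_shift I ω e hω m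
  let g := evHom (SA A m) I m (one A m) (SA_d_apply m m (m + 1) _)
  have h0 : Q.map (evHom (SA A m) I m (a • one A m) (SA_d_apply m m (m + 1) _)) = 0 :=
    Q_map_eq_zero_of_δ_eq _ I m
      (evCocycle (SA A m) I m (a • one A m) (SA_d_apply m m (m + 1) _)) β h.symm
  rw [evHom_smul _ _ _ a (one A m) (SA_d_apply m m (m + 1) _), Functor.map_smul] at h0
  have h1 : a • 𝟙 (toD (I⟦m⟧)) = 0 := by
    have : inv (Q.map g) ≫ (a • Q.map g) = 0 := by rw [h0, comp_zero]
    rwa [Linear.comp_smul, IsIso.inv_hom_id] at this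
  refine hL.toEnd_bijective.1 ?_
  change a • 𝟙 (toD (I⟦m⟧)) = (0 : A) • 𝟙 (toD (I⟦m⟧))
  rw [h1, zero_smul]

include e hω in
/-- **base case**: `ev` is a quasi-isomorphism for `A[-m]` -/
theorem evQis_SA : EvQis I (SA A m) := by
  unfold EvQis
  rw [quasiIso_iff]
  intro n
  rw [quasiIsoAt_iff_isIso_homologyMap]
  haveI : Mono (HomologicalComplex.homologyMap (ev (SA A m) I) n) := by
    apply mono_homologyMap_of_elementwise
    intro x hx y hy
    by_cases hn : n = m
    · subst hn
      obtain ⟨a, rfl⟩ := exists_smul_one n x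
      have ha : a = 0 := eq_zero_of_ev_eq_δ I ω e hω n a y hy
      exact ⟨0, by rw [ha, zero_smul, map_zero]⟩
    · haveI : Subsingleton ((SA A m).X n) :=
        ModuleCat.subsingleton_of_isZero (isZero_SA_X m n hn)
      exact ⟨0, Subsingleton.elim _ _⟩
  haveI : Epi (HomologicalComplex.homologyMap (ev (SA A m) I) n) := by
    apply epi_homologyMap_of_elementwise
    intro w hw
    by_cases hn : n = m
    · subst hn
      obtain ⟨a, β, h⟩ := exists_eq_ev_add_δ I ω e hω n w hw
      exact ⟨a • one A n, SA_d_apply _ _ _ _, β, h⟩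
    · obtain ⟨β, hβ⟩ := exists_δ_eq_of_ne I ω e hω m n hn w hw
      refine ⟨0, by rw [map_zero], β, ?_⟩
      rw [map_zero, zero_add]
      exact hβ.symm
  exact isIso_of_mono_of_epi _

include e hω in
/-- **base case**: the cohomology of `Hom•(A[-m], I)` is finite -/
theorem dFin_SA : DFin I (SA A m) := by
  intro i
  have hL := isDualizing_toD_shift I ω e hω m
  haveI := hL.finite_cohomology i
  let g := evHom (SA A m) I m (one A m) (SA_d_apply m m (m + 1) _)
  let e1 : (Dc I (SA A m)).homology i ≅ (I⟦m⟧).homology i :=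
    (HomologicalComplex.homologyFunctor _ _ i).mapIso (asIso g)
  let e2 : (DerivedCategory.homologyFunctor (ModuleCat.{u} A) i).obj (toD (I⟦m⟧)) ≅
      (I⟦m⟧).homology i := (DerivedCategory.homologyFunctorFactors (ModuleCat.{u} A) i).app (I⟦m⟧)
  exact Module.Finite.equiv (e2 ≪≫ e1.symm).toLinearEquiv

end Dualizing

end Groth.Agent.Lib.BidualH6
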