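import Mathlib
import Groth.Prelude.Def_DRing4
import Groth.Prelude.Def_Wider
import Groth.Agent.Lib.Bidual5_helper6
import Groth.Agent.Lib.BrutalTrunc_helper2

/-!
# Chain-level biduality (helper6), part 6: dévissage for bounded above complexes of finite free
modules via brutal truncations.
-/

set_option autoImplicit false
set_option linter.style.haveILetI false
set_option linter.unusedSectionVars false
set_option linter.unusedVariables false
universe u
open CategoryTheory Limits CochainComplex CochainComplex.HomComplex ZeroObject DerivedCategory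
attribute [local instance] HasDerivedCategory.standard

namespace Groth.Agent.Lib.BidualH6

open Groth.Agent.Lib.HomCx Groth.Agent.Lib.RHomKInj Groth.Agent.Lib.HomCxPreQis DRing
open Groth.Agent.Lib.DMod_helper6 Groth.Agent.Lib.BrutalTrunc

variable {A : Type u} [CommRing A]

/-- a class of complexes stable under extensions, containing the zero complexes and the `A[-m]` -/
structure DevClass (P : DRing.Cx A → Prop) : Prop where
  of_isZero : ∀ K : DRing.Cx A, (∀ p, IsZero (K.X p)) → P K
  of_iso : ∀ {K K' : DRing.Cx A} (_ : K ≅ K'), P K → P K'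
  of_ses : ∀ S : ShortComplex (DRing.Cx A), S.ShortExact → P S.X₁ → P S.X₃ → P S.X₂
  of_SA : ∀ m : ℤ, P (SA A m)

namespace DevClass

variable {P : DRing.Cx A → Prop} (hP : DevClass P)

/-- the short exact sequence `0 → A → A^(n+1) → A^n → 0` -/
noncomputable def piSC (n : ℕ) : ShortComplex (ModuleCat.{u} A) :=
  ShortComplex.mk
    (ModuleCat.ofHom (LinearMap.single A (fun _ : Fin (n + 1) => A) 0) :
      ModuleCat.of A A ⟶ ModuleCat.of A (Fin (n + 1) → A))
    (ModuleCat.ofHom (LinearMap.funLeft A A Fin.succ) :
      ModuleCat.of A (Fin (n + 1) → A) ⟶ ModuleCat.of A (Fin n → A)) (by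
    refine ModuleCat.hom_ext (LinearMap.ext fun (a : A) => ?_)
    change (Pi.single 0 a : Fin (n + 1) → A) ∘ Fin.succ = 0
    funext j
    simp [Fin.succ_ne_zero])

lemma piSC_shortExact (n : ℕ) : (piSC (A := A) n).ShortExact := by
  refine ModuleCat.shortComplex_shortExact _ ?_ ?_ ?_
  · intro (v : Fin (n + 1) → A)
    constructor
    · intro (hv : v ∘ Fin.succ = 0)
      refine ⟨v 0, ?_⟩
      change Pi.single 0 (v 0) = v
      funext i
      refine Fin.cases ?_ (fun j => ?_) i
      · simp
      · have := congrFun hv j
        simp only [Function.comp_apply, Pi.zero_apply] at this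
        simp [Pi.single_apply, Fin.succ_ne_zero, this]
    · rintro ⟨a, rfl⟩
      change (Pi.single 0 a : Fin (n + 1) → A) ∘ Fin.succ = 0
      funext j
      simp [Pi.single_apply, Fin.succ_ne_zero]
  · intro (a : A) (b : A) (h : (Pi.single 0 a : Fin (n + 1) → A) = Pi.single 0 b)
    have := congrFun h 0
    simp only [Pi.single_eq_same] at this
    exact this
  · intro (w : Fin n → A)
    exact ⟨Fin.cons 0 w, by
      change (Fin.cons 0 w : Fin (n + 1) → A) ∘ Fin.succ = w
      funext j
      simp⟩

include hP in
lemma of_pi (m : ℤ) (n : ℕ) :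
    P ((CochainComplex.singleFunctor (ModuleCat.{u} A) m).obj (ModuleCat.of A (Fin n → A))) := by
  induction n with
  | zero =>
    apply hP.of_isZero
    intro p
    have hX : IsZero (ModuleCat.of A (Fin 0 → A)) := ModuleCat.isZero_of_subsingleton _
    exact (HomologicalComplex.eval _ _ p).map_isZero
      ((CochainComplex.singleFunctor (ModuleCat.{u} A) m).map_isZero hX)
  | succ n ih =>
    have hS := (piSC_shortExact (A := A) n).map_of_exact
      (HomologicalComplex.single (ModuleCat.{u} A) (ComplexShape.up ℤ) m)
    exact hP.of_ses _ hS (hP.of_SA m) ih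

include hP in
lemma of_finite_free (m : ℤ) (X : ModuleCat.{u} A) [Module.Finite A X] [Module.Free A X] :
    P ((CochainComplex.singleFunctor (ModuleCat.{u} A) m).obj X) := by
  let b := (Module.Free.chooseBasis A X).reindex
    (Fintype.equivFin (Module.Free.ChooseBasisIndex A X))
  let e : X ≅ ModuleCat.of A (Fin (Fintype.card (Module.Free.ChooseBasisIndex A X)) → A) :=
    b.equivFun.toModuleIso
  exact hP.of_iso ((CochainComplex.singleFunctor (ModuleCat.{u} A) m).mapIso e.symm)
    (hP.of_pi m _)

include hP in
/-- brutal truncations of a bounded above complex of finite free modules lie in the class -/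
theorem of_sigmaGE (F : DRing.Cx A) (d : ℤ) (hF : VanishesAbove F d) (hff : TermwiseFiniteFree F)
    (j : ℤ) : P (sigmaGE F j) := by
  have key : ∀ k : ℕ, P (sigmaGE F (d + 1 - k)) := by
    intro k
    induction k with
    | zero =>
      apply hP.of_isZero
      intro p
      by_cases hp : d + 1 - ((0 : ℕ) : ℤ) ≤ p
      · exact isZero_sigmaGE_X' F _ p (hF p (by push_cast at hp; omega))
      · exact isZero_sigmaGE_X F hp
    | succ k ih =>
      have hS := sc_shortExact F (d + 1 - ((k + 1 : ℕ) : ℤ)) (d + 1 - (k : ℤ))
        (by push_cast; ring)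
      haveI := (hff (d + 1 - ((k + 1 : ℕ) : ℤ))).1
      haveI := (hff (d + 1 - ((k + 1 : ℕ) : ℤ))).2
      exact hP.of_ses _ hS ih (hP.of_finite_free _ (F.X (d + 1 - ((k + 1 : ℕ) : ℤ))))
  by_cases hj : j ≤ d + 1
  · obtain ⟨k, hk⟩ : ∃ k : ℕ, j = d + 1 - k := ⟨(d + 1 - j).toNat, by omega⟩
    rw [hk]
    exact key k
  · apply hP.of_isZero
    intro p
    by_cases hp : j ≤ p
    · exact isZero_sigmaGE_X' F _ p (hF p (by omega))
    · exact isZero_sigmaGE_X F hp

end DevClass

end Groth.Agent.Lib.BidualH6
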