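import Mathlib
import Groth.Prelude.Def_DRing4
import Groth.Prelude.Def_Wider
import Groth.Agent.Lib.Bidual6_helper6

/-!
# Chain-level biduality (helper6), part 7: the dévissage classes for `EvQis` and `DFin`; range
lemmas (the degree `m` part of `Hom•(K, I)` only depends on `K` in degrees `[a - m, b - m]` when
`I` is concentrated in `[a, b]`).
-/

set_option autoImplicit false
set_option linter.style.haveILetI false
set_option linter.unusedSectionVars false
set_option linter.unusedVariables false
universe u
open CategoryTheory Limits CochainComplex CochainComplex.HomComplex ZeroObject DerivedCategory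
attribute [local instance] HasDerivedCategory.standard

namespace Groth.Agent.Lib.BidualH6

open Groth.Agent.Lib.HomCx Groth.Agent.Lib.RHomKInj Groth.Agent.Lib.HomCxPreQis DRing
open Groth.Agent.Lib.DMod_helper6 Groth.Agent.Lib.BrutalTrunc

variable {A : Type u} [CommRing A]

section Classes

variable (I : DRing.Cx A) [I.IsKInjective] (hI : TermwiseInjective I) (ω : Dual.D A)
  (e : toD I ≅ ω) (hω : Dual.IsDualizing A ω)

include hI e hω in
theorem devClass_evQis : DevClass (EvQis I) where
  of_isZero K hK := evQis_of_acyclic I K (acyclic_of_isZero_X K hK)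
  of_iso e' h := (evQis_iff_of_quasiIso I e'.hom).1 h
  of_ses S hS h1 h3 := evQis_of_shortExact I hI S hS h1 h3
  of_SA m := evQis_SA I ω e hω m

include hI e hω in
theorem devClass_dFin [IsNoetherianRing A] : DevClass (DFin I) where
  of_isZero K hK := dFin_of_acyclic I K (acyclic_of_isZero_X K hK)
  of_iso e' h := (dFin_iff_of_quasiIso I e'.hom).1 h
  of_ses S hS h1 h3 := dFin_of_shortExact I hI S hS h1 h3
  of_SA m := dFin_SA I ω e hω m

end Classes

section Range

/-- `f` is an isomorphism in degrees `[lo, hi]` -/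
def IsoOn {K K' : DRing.Cx A} (f : K' ⟶ K) (lo hi : ℤ) : Prop :=
  ∀ p : ℤ, lo ≤ p → p ≤ hi → IsIso (f.f p)

lemma IsoOn.mono {K K' : DRing.Cx A} {f : K' ⟶ K} {lo hi lo' hi' : ℤ} (h : IsoOn f lo hi)
    (h1 : lo ≤ lo') (h2 : hi' ≤ hi) : IsoOn f lo' hi' :=
  fun p hp hp' => h p (by omega) (by omega)

variable (I : DRing.Cx A) (a b : ℤ) (hI : VanishesOutside I a b)

include hI in
lemma isIso_Dm_f {K K' : DRing.Cx A} (f : K' ⟶ K) (m : ℤ) (hf : IsoOn f (a - m) (b - m)) :
    IsIso ((Dm I f).f m) := by
  rw [ConcreteCategory.isIso_iff_bijective]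
  constructor
  · intro (z : Cochain K I m) (z' : Cochain K I m)
      (h : (Cochain.ofHom f).comp z (zero_add m) = (Cochain.ofHom f).comp z' (zero_add m))
    refine Cochain.ext z z' (fun p q hpq => ?_)
    by_cases hq : a ≤ q ∧ q ≤ b
    · haveI := hf p (by omega) (by omega)
      have := congrArg (fun w : Cochain K' I m => w.v p q hpq) h
      simp only [Cochain.zero_cochain_comp_v, Cochain.ofHom_v] at this
      exact (cancel_epi (f.f p)).1 this
    · exact (hI q (by omega)).eq_of_tgt _ _
  · intro (z' : Cochain K' I m)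
    classical
    refine ⟨(Cochain.mk (fun p q hpq => if hq : a ≤ q ∧ q ≤ b then
      (haveI := hf p (by omega) (by omega); inv (f.f p)) ≫ z'.v p q hpq else 0) :
        Cochain K I m), ?_⟩
    change (Cochain.ofHom f).comp _ (zero_add m) = z'
    ext p q hpq : 1
    rw [Cochain.zero_cochain_comp_v, Cochain.ofHom_v, Cochain.mk_v]
    by_cases hq : a ≤ q ∧ q ≤ b
    · rw [dif_pos hq]
      haveI := hf p (by omega) (by omega)
      rw [IsIso.hom_inv_id_assoc]
    · exact (hI q (by omega)).eq_of_tgt _ _

include hI in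
lemma isoOn_Dm {K K' : DRing.Cx A} (f : K' ⟶ K) (lo hi : ℤ) (hf : IsoOn f (a - hi) (b - lo)) :
    IsoOn (Dm I f) lo hi :=
  fun m h1 h2 => isIso_Dm_f I a b hI f m (hf.mono (by omega) (by omega))

include hI in
lemma isoOn_Dm_Dm {K K' : DRing.Cx A} (f : K' ⟶ K) (lo hi : ℤ)
    (hf : IsoOn f (lo - (b - a)) (hi + (b - a))) : IsoOn (Dm I (Dm I f)) lo hi :=
  isoOn_Dm I a b hI _ lo hi (isoOn_Dm I a b hI f _ _ (hf.mono (by omega) (by omega)))

lemma isIso_homologyMap_of_isoOn {X Y : DRing.Cx A} (g : X ⟶ Y) (n : ℤ)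
    (hg : IsoOn g (n - 1) (n + 1)) : IsIso (HomologicalComplex.homologyMap g n) := by
  haveI h1 : IsIso (g.f ((ComplexShape.up ℤ).prev n)) := by
    rw [CochainComplex.prev]
    exact hg _ (by omega) (by omega)
  haveI h2 : IsIso (g.f n) := hg _ (by omega) (by omega)
  haveI h3 : IsIso (g.f ((ComplexShape.up ℤ).next n)) := by
    rw [CochainComplex.next]
    exact hg _ (by omega) (by omega)
  haveI : IsIso ((HomologicalComplex.shortComplexFunctor _ _ n).map g).τ₁ := h1
  haveI : IsIso ((HomologicalComplex.shortComplexFunctor _ _ n).map g).τ₂ := h2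
  haveI : IsIso ((HomologicalComplex.shortComplexFunctor _ _ n).map g).τ₃ := h3
  exact ShortComplex.isIso_homologyMap_of_epi_of_isIso_of_mono
    ((HomologicalComplex.shortComplexFunctor _ _ n).map g)

end Range

section At

variable (I : DRing.Cx A)

/-- `ev` induces an isomorphism on `H^n` -/
def EvIsoAt (K : DRing.Cx A) (n : ℤ) : Prop :=
  IsIso (HomologicalComplex.homologyMap (ev K I) n)

/-- `H^i(Hom•(K, I))` is finite -/
def DFinAt (K : DRing.Cx A) (i : ℤ) : Prop := Module.Finite A ((Dc I K).homology i)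

lemma evQis_iff_forall_evIsoAt (K : DRing.Cx A) : EvQis I K ↔ ∀ n, EvIsoAt I K n := by
  unfold EvQis EvIsoAt
  rw [quasiIso_iff]
  exact forall_congr' fun n => quasiIsoAt_iff_isIso_homologyMap _ _

lemma evIsoAt_iff {K K' : DRing.Cx A} (f : K' ⟶ K) (n : ℤ)
    (h1 : IsIso (HomologicalComplex.homologyMap f n))
    (h2 : IsIso (HomologicalComplex.homologyMap (Dm I (Dm I f)) n)) :
    EvIsoAt I K' n ↔ EvIsoAt I K n := by
  have hnat : HomologicalComplex.homologyMap f n ≫ HomologicalComplex.homologyMap (ev K I) n =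
      HomologicalComplex.homologyMap (ev K' I) n ≫
        HomologicalComplex.homologyMap (Dm I (Dm I f)) n := by
    rw [← HomologicalComplex.homologyMap_comp, ← HomologicalComplex.homologyMap_comp,
      ev_naturality]
  unfold EvIsoAt
  constructor
  · intro h
    haveI := h
    haveI : IsIso (HomologicalComplex.homologyMap f n ≫
        HomologicalComplex.homologyMap (ev K I) n) := by rw [hnat]; infer_instance
    exact IsIso.of_isIso_comp_left (HomologicalComplex.homologyMap f n) _
  · intro h
    haveI := h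
    haveI : IsIso (HomologicalComplex.homologyMap (ev K' I) n ≫
        HomologicalComplex.homologyMap (Dm I (Dm I f)) n) := by rw [← hnat]; infer_instance
    exact IsIso.of_isIso_comp_right _ (HomologicalComplex.homologyMap (Dm I (Dm I f)) n)

lemma dFinAt_iff {K K' : DRing.Cx A} (f : K' ⟶ K) (i : ℤ)
    (h : IsIso (HomologicalComplex.homologyMap (Dm I f) i)) : DFinAt I K' i ↔ DFinAt I K i := by
  haveI := h
  let e := asIso (HomologicalComplex.homologyMap (Dm I f) i)
  unfold DFinAt
  constructor
  · intro h'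
    haveI := h'
    exact Module.Finite.equiv e.symm.toLinearEquiv
  · intro h'
    haveI := h'
    exact Module.Finite.equiv e.toLinearEquiv

end At

end Groth.Agent.Lib.BidualH6
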