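import Mathlib
import Groth.Prelude.Def_DRing4
import Groth.Prelude.Def_Wider
import Groth.Agent.Lib.Bidual7_helper6
import Groth.Agent.Lib.DMod21_helper6
import Groth.Agent.Lib.DMod25_helper6
import Groth.Agent.Lib.PerfectCx_helper2

/-!
# Chain-level biduality (helper6), part 8: reduction of a complex with finite cohomology to a
bounded complex of finite free modules (canonical truncation, finite free resolution, brutal
truncation), and the biduality theorem.
-/

set_option autoImplicit false
set_option linter.style.haveILetI false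
set_option linter.unusedSectionVars false
set_option linter.unusedVariables false
universe u
open CategoryTheory Limits CochainComplex CochainComplex.HomComplex ZeroObject DerivedCategory
attribute [local instance] HasDerivedCategory.standard

namespace Groth.Agent.Lib.BidualH6

open Groth.Agent.Lib.HomCx Groth.Agent.Lib.RHomKInj Groth.Agent.Lib.HomCxPreQis DRing
open Groth.Agent.Lib.DMod_helper6 Groth.Agent.Lib.BrutalTrunc

section Trunc

open HomologicalComplex

set_option backward.isDefEq.respectTransparency false in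
lemma isIso_πTruncGE_f {C : Type*} [Category C] [HasZeroMorphisms C] [HasZeroObject C]
    {ι ι' : Type*} {c : ComplexShape ι} {c' : ComplexShape ι'}
    (K : HomologicalComplex C c') (e : c.Embedding c') [e.IsTruncGE]
    [∀ i', K.HasHomology i'] (k : ι) (hk : ¬ e.BoundaryGE k) :
    IsIso ((K.πTruncGE e).f (e.f k)) := by
  dsimp [HomologicalComplex.πTruncGE]
  rw [e.isIso_liftExtend_f_iff _ _ rfl]
  exact K.isIso_restrictionToTruncGE' e k hk

lemma isIso_ιTruncLE_f' {C : Type*} [Category C] [HasZeroMorphisms C] [HasZeroObject C]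
    {ι ι' : Type*} {c : ComplexShape ι} {c' : ComplexShape ι'}
    (K : HomologicalComplex C c') (e : c.Embedding c') [e.IsTruncLE]
    [∀ i', K.HasHomology i'] (k : ι) (hk : ¬ e.BoundaryLE k) :
    IsIso ((K.ιTruncLE e).f (e.f k)) := by
  haveI : IsIso ((K.op.πTruncGE e.op).f (e.op.f k)) :=
    isIso_πTruncGE_f K.op e.op k (by simpa using hk)
  exact isIso_unop ((K.op.πTruncGE e.op).f (e.op.f k))

/-- the canonical truncation map `τ_{≤ n} K ⟶ K` is an isomorphism in degrees `< n` -/
lemma isIso_ιTruncLE_f {A : Type u} [CommRing A] (K : CochainComplex (ModuleCat.{u} A) ℤ)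
    (n i : ℤ) (hi : i < n) : IsIso ((K.ιTruncLE n).f i) := by
  obtain ⟨k, hk⟩ : ∃ k : ℕ, (ComplexShape.embeddingUpIntLE n).f k = i := ⟨(n - i).toNat, by
    simp [ComplexShape.embeddingUpIntLE]; omega⟩
  subst hk
  have hb : ¬ (ComplexShape.embeddingUpIntLE n).BoundaryLE k := by
    rw [ComplexShape.boundaryLE_embeddingUpIntLE_iff]
    simp [ComplexShape.embeddingUpIntLE] at hi
    omega
  exact isIso_ιTruncLE_f' K _ k hb

end Trunc

variable {A : Type u} [CommRing A]

lemma finite_homology_truncLE (K : DRing.Cx A) (hK : ∀ i, Module.Finite A (K.homology i))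
    (N i : ℤ) : Module.Finite A ((K.truncLE N).homology i) := by
  by_cases hi : i ≤ N
  · haveI := K.quasiIsoAt_ιTruncLE N i hi
    haveI : IsIso (HomologicalComplex.homologyMap (K.ιTruncLE N) i) :=
      (quasiIsoAt_iff_isIso_homologyMap _ _).1 inferInstance
    exact finite_of_iso (asIso (HomologicalComplex.homologyMap (K.ιTruncLE N) i)).symm (hK i)
  · have hz : IsZero ((K.truncLE N).X i) := (K.truncLE N).isZero_of_isStrictlyLE N i (by omega)
    have h : (K.truncLE N).ExactAt i := ShortComplex.exact_of_isZero_X₂ _ hz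
    rw [HomologicalComplex.exactAt_iff_isZero_homology] at h
    haveI : Subsingleton ((K.truncLE N).homology i) := ModuleCat.subsingleton_of_isZero h
    infer_instance

lemma subsingleton_homology_truncLE (K : DRing.Cx A) (N i : ℤ) (hi : N < i) :
    Subsingleton ((K.truncLE N).homology i) := by
  have hz : IsZero ((K.truncLE N).X i) := (K.truncLE N).isZero_of_isStrictlyLE N i (by omega)
  have h : (K.truncLE N).ExactAt i := ShortComplex.exact_of_isZero_X₂ _ hz
  rw [HomologicalComplex.exactAt_iff_isZero_homology] at h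
  exact ModuleCat.subsingleton_of_isZero h

/-- a finite free resolution of a bounded above complex with finite cohomology -/
lemma exists_finite_free_resolution [IsNoetherianRing A] (K : DRing.Cx A) (N : ℤ)
    (hN : ∀ i, N < i → Subsingleton (K.homology i)) (hK : ∀ i, Module.Finite A (K.homology i)) :
    ∃ (F : DRing.Cx A) (d : ℤ) (π : F ⟶ K), VanishesAbove F d ∧ TermwiseFiniteFree F ∧
      QuasiIso π := by
  have e : ∀ i, (DerivedCategory.homologyFunctor (ModuleCat.{u} A) i).obj (toD K) ≅
      K.homology i := fun i => (DerivedCategory.homologyFunctorFactors (ModuleCat.{u} A) i).app K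
  have hpc : IsPseudoCoherent' A (toD K) := by
    refine isPseudoCoherent'_of_homology (toD K) ⟨N, fun i hi => ?_⟩ (fun i => ?_)
    · haveI := hN i hi
      exact (e i).toLinearEquiv.subsingleton
    · rw [isPseudoCoherentModule'_iff_noeth]
      exact finite_of_iso (e i).symm (hK i)
  obtain ⟨F, d, hFd, hff, ⟨eF⟩⟩ := hpc
  haveI : F.IsKProjective :=
    isKProjective_of_projective_bounded F d hFd (fun i => by
      haveI := (hff i).2
      exact Module.Projective.of_free)
  obtain ⟨π, hπ, -⟩ := Groth.Agent.PerfectCx.exists_quasiIso_of_iso F K eF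
  exact ⟨F, d, π, hFd, hff, hπ⟩

/-- reduction to brutal truncations of bounded above complexes of finite free modules -/
theorem reduce [IsNoetherianRing A] (Φ : DRing.Cx A → Prop) (lo hi : ℤ)
    (R1 : ∀ {K K' : DRing.Cx A} (f : K' ⟶ K), QuasiIso f → (Φ K' ↔ Φ K))
    (R2 : ∀ {K K' : DRing.Cx A} (f : K' ⟶ K), IsoOn f lo hi → (Φ K' ↔ Φ K))
    (R3 : ∀ (F : DRing.Cx A) (d : ℤ), VanishesAbove F d → TermwiseFiniteFree F →
      ∀ j, Φ (sigmaGE F j))
    (K : DRing.Cx A) (hK : ∀ i, Module.Finite A (K.homology i)) : Φ K := by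
  have h1 : IsoOn (K.ιTruncLE (hi + 1)) lo hi := fun p _ hp =>
    isIso_ιTruncLE_f K (hi + 1) p (by omega)
  rw [← R2 _ h1]
  obtain ⟨F, d, π, hFd, hff, hπ⟩ := exists_finite_free_resolution (K.truncLE (hi + 1)) (hi + 1)
    (fun i hi' => subsingleton_homology_truncLE K _ i hi')
    (fun i => finite_homology_truncLE K hK _ i)
  rw [← R1 π hπ]
  have h2 : IsoOn (incl F lo) lo hi := fun p hp _ => by
    rw [incl_f]
    exact isIso_ι F hp
  rw [← R2 _ h2]
  exact R3 F d hFd hff lo

section Main

variable [IsNoetherianRing A] (I : DRing.Cx A) [I.IsKInjective] (a b : ℤ) (hab : a ≤ b)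
  (hI : VanishesOutside I a b) (hinj : TermwiseInjective I) (ω : Dual.D A) (e : toD I ≅ ω)
  (hω : Dual.IsDualizing A ω)

include hab hI hinj e hω in
/-- **biduality**: `K ⟶ Hom•(Hom•(K, I), I)` is a quasi-isomorphism when `K` has finite cohomology
and `I` is a bounded complex of injectives representing a dualizing complex -/
theorem evQis_of_finite (K : DRing.Cx A) (hK : ∀ i, Module.Finite A (K.homology i)) :
    EvQis I K := by
  rw [evQis_iff_forall_evIsoAt]
  intro n
  refine reduce (fun K => EvIsoAt I K n) (n - 1 - (b - a)) (n + 1 + (b - a)) ?_ ?_ ?_ K hK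
  · intro K K' f hf
    haveI := hf
    haveI : QuasiIso (Dm I f) := quasiIso_Dm I f
    haveI : QuasiIso (Dm I (Dm I f)) := quasiIso_Dm I (Dm I f)
    exact evIsoAt_iff I f n ((quasiIsoAt_iff_isIso_homologyMap _ _).1 inferInstance)
      ((quasiIsoAt_iff_isIso_homologyMap _ _).1 inferInstance)
  · intro K K' f hf
    exact evIsoAt_iff I f n (isIso_homologyMap_of_isoOn f n (hf.mono (by omega) (by omega)))
      (isIso_homologyMap_of_isoOn _ n
        (isoOn_Dm_Dm I a b hI f (n - 1) (n + 1) (hf.mono (by omega) (by omega))))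
  · intro F d hFd hff j
    exact (evQis_iff_forall_evIsoAt I _).1
      ((devClass_evQis I hinj ω e hω).of_sigmaGE F d hFd hff j) n

include hI hinj e hω in
/-- the cohomology of `Hom•(K, I)` is finite when `K` has finite cohomology -/
theorem dFin_of_finite (K : DRing.Cx A) (hK : ∀ i, Module.Finite A (K.homology i)) :
    DFin I K := by
  intro i
  refine reduce (fun K => DFinAt I K i) (a - i - 1) (b - i + 1) ?_ ?_ ?_ K hK
  · intro K K' f hf
    haveI := hf
    haveI : QuasiIso (Dm I f) := quasiIso_Dm I f
    exact dFinAt_iff I f i ((quasiIsoAt_iff_isIso_homologyMap _ _).1 inferInstance)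
  · intro K K' f hf
    exact dFinAt_iff I f i (isIso_homologyMap_of_isoOn _ i
      (isoOn_Dm I a b hI f (i - 1) (i + 1) (hf.mono (by omega) (by omega))))
  · intro F d hFd hff j
    exact (devClass_dFin I hinj ω e hω).of_sigmaGE F d hFd hff j i

end Main

end Groth.Agent.Lib.BidualH6
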