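import Mathlib
import Groth.Prelude.Def_DRing4
import Groth.Prelude.Def_Wider
import Groth.Agent.Lib.Bidual8_helper6
import Groth.Agent.Lib.DMod86_helper6
import Groth.Agent.Lib.KProjRes_helper2

/-!
# Chain-level biduality (helper6), part 9: biduality for a dualizing complex in `D(A)` (S1819).
-/

set_option autoImplicit false
set_option linter.style.haveILetI false
set_option linter.unusedSectionVars false
set_option linter.unusedVariables false
universe u
open CategoryTheory Limits CochainComplex CochainComplex.HomComplex ZeroObject DerivedCategory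
attribute [local instance] HasDerivedCategory.standard

namespace Groth.Agent.Lib.BidualH6

open Groth.Agent.Lib.HomCx Groth.Agent.Lib.RHomKInj Groth.Agent.Lib.HomCxPreQis DRing
open Groth.Agent.Lib.DMod_helper6 Groth.Agent.Lib.BrutalTrunc

variable {A : Type u} [CommRing A] [IsNoetherianRing A]

/-- a dualizing complex is represented by a bounded complex of injectives (K-injective) -/
lemma exists_injective_rep (ω : Dual.D A) (hω : Dual.IsDualizing A ω) :
    ∃ (I : DRing.Cx A) (a b : ℤ), a ≤ b ∧ VanishesOutside I a b ∧ TermwiseInjective I ∧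
      I.IsKInjective ∧ Nonempty (toD I ≅ ω) := by
  obtain ⟨a, b, I, hI, hinj, ⟨e⟩⟩ := hasFiniteInjDim_of_isDualizing ω hω
  refine ⟨I, a, max a b, le_max_left _ _, fun i hi => hI i ?_, hinj,
    isKInjective_of_injCls ⟨a, b, hI, hinj⟩, ⟨e⟩⟩
  rcases hi with hi | hi
  · exact Or.inl hi
  · exact Or.inr (lt_of_le_of_lt (le_max_right _ _) hi)

lemma finite_homology_of_finite_HD (K : DRing.Cx A)
    (hK : ∀ i : ℤ, Module.Finite A (Dual.HD A (toD K) i)) (i : ℤ) :
    Module.Finite A (K.homology i) :=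
  finite_of_iso ((DerivedCategory.homologyFunctorFactors (ModuleCat.{u} A) i).app K) (hK i)

/-- S1819. -/
theorem main1819 (ω : Dual.D A) (hω : Dual.IsDualizing A ω) (K : DRing.Cx A) [DRing.HasRHomCx K]
    (hK : ∀ i : ℤ, Module.Finite A (Dual.HD A (DRing.toD K) i)) :
    (∀ i : ℤ, Module.Finite A (Dual.HD A ((DRing.RHomCx K).obj ω) i)) ∧
      ∀ (E : DRing.Cx A) [DRing.HasRHomCx E], Nonempty (DRing.toD E ≅ (DRing.RHomCx K).obj ω) →
        Nonempty ((DRing.RHomCx E).obj ω ≅ DRing.toD K) := by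
  obtain ⟨I, a, b, hab, hI, hinj, hKI, ⟨e⟩⟩ := exists_injective_rep ω hω
  haveI := hKI
  have hK' := finite_homology_of_finite_HD K hK
  obtain ⟨e1⟩ := nonempty_RHomCx_iso_of_kinj K I
  have eK : (DRing.RHomCx K).obj ω ≅ toD (Dc I K) := (DRing.RHomCx K).mapIso e.symm ≪≫ e1
  refine ⟨fun i => ?_, ?_⟩
  · have h1 : Module.Finite A ((Dc I K).homology i) := dFin_of_finite I a b hI hinj ω e hω K hK' i
    have h2 : Module.Finite A (Dual.HD A (toD (Dc I K)) i) :=
      finite_of_iso ((DerivedCategory.homologyFunctorFactors (ModuleCat.{u} A) i).app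
        (Dc I K)).symm h1
    exact finite_of_iso ((DerivedCategory.homologyFunctor (ModuleCat.{u} A) i).mapIso eK).symm h2
  · intro E _ ⟨φ⟩
    obtain ⟨P, π, hπ, hP, -, -⟩ := Groth.Agent.Lib.KProjRes.exists_kproj_resolution E
    haveI := hπ
    haveI := hP
    obtain ⟨ψ, hψ, -⟩ := Groth.Agent.PerfectCx.exists_quasiIso_of_iso P (Dc I K)
      (asIso (Q.map π) ≪≫ φ ≪≫ eK)
    haveI := hψ
    obtain ⟨e2'⟩ := nonempty_RHomCx_iso_of_kinj E I
    have e2 : (DRing.RHomCx E).obj (toD I) ≅ toD (Dc I E) := e2'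
    haveI : QuasiIso (Dm I π) := quasiIso_Dm I π
    haveI : QuasiIso (Dm I ψ) := quasiIso_Dm I ψ
    haveI : QuasiIso (ev K I) := evQis_of_finite I a b hab hI hinj ω e hω K hK'
    haveI : IsIso (Q.map (Dm I π)) :=
      (isIso_Q_map_iff_quasiIso (C := ModuleCat.{u} A) (Dm I π)).2 inferInstance
    haveI : IsIso (Q.map (Dm I ψ)) :=
      (isIso_Q_map_iff_quasiIso (C := ModuleCat.{u} A) (Dm I ψ)).2 inferInstance
    haveI : IsIso (Q.map (ev K I)) :=
      (isIso_Q_map_iff_quasiIso (C := ModuleCat.{u} A) (ev K I)).2 inferInstance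
    exact ⟨(DRing.RHomCx E).mapIso e.symm ≪≫ e2 ≪≫ asIso (Q.map (Dm I π)) ≪≫
      (asIso (Q.map (Dm I ψ))).symm ≪≫ (asIso (Q.map (ev K I))).symm⟩

end Groth.Agent.Lib.BidualH6
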