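import Mathlib

/-!
# `Hom(E, E')` is flat for injective modules `E`, `E'` over a Noetherian ring (helper6)

Uniform version: for a coefficient vector `c`, the trivialization of relations `∑ c_i h_i = 0`
between maps of injective modules only depends on `c` (a generating family of the relations of
`c`), so it applies simultaneously to arbitrary families (hence to products).
-/

set_option autoImplicit false
universe u
open scoped BigOperators

namespace Groth.Agent.Lib.HomInjFlatH6

variable {A : Type u} [CommRing A]

section StepA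

variable {l k : ℕ} (c : Fin l → A) (ρ : Fin k → Fin l → A)
  (hρ : Submodule.span A (Set.range ρ) = LinearMap.ker (Fintype.linearCombination A c))

include hρ in
/-- a vector of an injective module killed by all relations of `c` is a multiple of `c` -/
lemma exists_eq_smul_of_relations (E : Type u) [AddCommGroup E] [Module A E]
    [Module.Injective A E] (e : Fin l → E) (he : ∀ j, ∑ i, ρ j i • e i = 0) :
    ∃ e₀ : E, ∀ i, e i = c i • e₀ := by
  let lam : (Fin l → A) →ₗ[A] E := Fintype.linearCombination A e
  let lin : (Fin l → A) →ₗ[A] A := Fintype.linearCombination A c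
  have hle : LinearMap.ker lin ≤ LinearMap.ker lam := by
    rw [← hρ, Submodule.span_le]
    rintro _ ⟨j, rfl⟩
    change lam (ρ j) = 0
    simpa [lam, Fintype.linearCombination_apply] using he j
  have hinj : Function.Injective ((LinearMap.ker lin).liftQ lin le_rfl) := by
    rw [← LinearMap.ker_eq_bot]
    exact Submodule.ker_liftQ_eq_bot _ _ _ le_rfl
  obtain ⟨μ, hμ⟩ := Module.Injective.out ((LinearMap.ker lin).liftQ lin le_rfl) hinj
    ((LinearMap.ker lin).liftQ lam hle)
  refine ⟨μ 1, fun i => ?_⟩
  have h1 := hμ (Submodule.Quotient.mk (Pi.single i 1))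
  rw [Submodule.liftQ_apply, Submodule.liftQ_apply] at h1
  have h2 : lin (Pi.single i 1) = c i := by
    simp [lin, Fintype.linearCombination_apply, Pi.single_apply]
  have h3 : lam (Pi.single i 1) = e i := by
    simp [lam, Fintype.linearCombination_apply, Pi.single_apply]
  rw [h2, h3] at h1
  rw [← h1]
  have : c i = c i • (1 : A) := by simp
  conv_lhs => rw [this]
  rw [map_smul]

include hρ in
/-- a relation `∑ c_i h_i = 0` between maps of injective modules is trivialized by `ρ` -/
lemma exists_factor_of_relations (E E' : Type u) [AddCommGroup E] [Module A E]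
    [AddCommGroup E'] [Module A E'] [Module.Injective A E] [Module.Injective A E']
    (h : Fin l → (E →ₗ[A] E')) (hh : ∑ i, c i • h i = 0) :
    ∃ y : Fin k → (E →ₗ[A] E'), ∀ i, h i = ∑ j, ρ j i • y j := by
  let φ : (Fin l → E) →ₗ[A] E' := ∑ i, (h i).comp (LinearMap.proj i)
  let β : (Fin l → E) →ₗ[A] (Fin k → E) :=
    LinearMap.pi (fun j => ∑ i, ρ j i • (LinearMap.proj i : (Fin l → E) →ₗ[A] E))
  have hφ : ∀ e : Fin l → E, φ e = ∑ i, h i (e i) := fun e => by
    simp [φ, LinearMap.sum_apply]
  have hβ : ∀ (e : Fin l → E) (j : Fin k), β e j = ∑ i, ρ j i • e i := fun e j => by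
    simp [β, LinearMap.sum_apply]
  have hle : LinearMap.ker β ≤ LinearMap.ker φ := by
    intro e he
    rw [LinearMap.mem_ker] at he ⊢
    obtain ⟨e₀, he₀⟩ := exists_eq_smul_of_relations c ρ hρ E e (fun j => by
      rw [← hβ e j, he]; rfl)
    rw [hφ]
    have : ∑ i, h i (e i) = (∑ i, c i • h i) e₀ := by
      rw [LinearMap.sum_apply]
      refine Finset.sum_congr rfl (fun i _ => ?_)
      rw [he₀ i, map_smul, LinearMap.smul_apply]
    rw [this, hh, LinearMap.zero_apply]
  have hinj : Function.Injective ((LinearMap.ker β).liftQ β le_rfl) := by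
    rw [← LinearMap.ker_eq_bot]
    exact Submodule.ker_liftQ_eq_bot _ _ _ le_rfl
  obtain ⟨ψ, hψ⟩ := Module.Injective.out ((LinearMap.ker β).liftQ β le_rfl) hinj
    ((LinearMap.ker β).liftQ φ hle)
  have hψ' : ∀ e : Fin l → E, ψ (β e) = φ e := fun e => by
    have := hψ (Submodule.Quotient.mk e)
    rwa [Submodule.liftQ_apply, Submodule.liftQ_apply] at this
  refine ⟨fun j => ψ.comp (LinearMap.single A (fun _ : Fin k => E) j), fun i => ?_⟩
  ext e₁
  have h1 : h i e₁ = φ (Pi.single i e₁) := by
    rw [hφ, Finset.sum_eq_single i]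
    · simp
    · intro i' _ hi'
      simp [Pi.single_apply, hi']
    · intro hi
      exact absurd (Finset.mem_univ i) hi
  have h2 : β (Pi.single i e₁) = ∑ j, Pi.single j (ρ j i • e₁) := by
    funext j
    rw [hβ, Finset.sum_apply, Finset.sum_eq_single i, Finset.sum_eq_single j]
    · simp
    · intro j' _ hj'
      simp [Pi.single_apply, hj'.symm]
    · intro hj
      exact absurd (Finset.mem_univ j) hj
    · intro i' _ hi'
      simp [Pi.single_apply, hi']
    · intro hi
      exact absurd (Finset.mem_univ i) hi
  rw [h1, ← hψ', h2, map_sum, LinearMap.sum_apply]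
  refine Finset.sum_congr rfl (fun j _ => ?_)
  rw [LinearMap.smul_apply, LinearMap.comp_apply, LinearMap.single_apply, ← map_smul,
    ← Pi.single_smul]

end StepA

section Main

variable [IsNoetherianRing A]

/-- **uniform trivialization of relations between maps of injective modules** -/
theorem exists_trivialization {l : ℕ} (c : Fin l → A) :
    ∃ (k : ℕ) (ρ : Fin k → Fin l → A), (∀ j, ∑ i, c i * ρ j i = 0) ∧
      ∀ (E E' : Type u) [AddCommGroup E] [Module A E] [AddCommGroup E'] [Module A E']
        [Module.Injective A E] [Module.Injective A E'] (h : Fin l → (E →ₗ[A] E')),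
        ∑ i, c i • h i = 0 → ∃ y : Fin k → (E →ₗ[A] E'), ∀ i, h i = ∑ j, ρ j i • y j := by
  have hfg : (LinearMap.ker (Fintype.linearCombination A c)).FG :=
    IsNoetherian.noetherian _
  obtain ⟨k, ρ, hρ⟩ := Submodule.fg_iff_exists_fin_generating_family.1 hfg
  refine ⟨k, ρ, fun j => ?_, fun E E' _ _ _ _ _ _ h hh =>
    exists_factor_of_relations c ρ hρ E E' h hh⟩
  have hj : ρ j ∈ LinearMap.ker (Fintype.linearCombination A c) := by
    rw [← hρ]
    exact Submodule.subset_span ⟨j, rfl⟩
  rw [LinearMap.mem_ker, Fintype.linearCombination_apply] at hj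
  rw [← hj]
  refine Finset.sum_congr rfl (fun i _ => ?_)
  rw [smul_eq_mul, mul_comm]

/-- `Hom(E, E')` is flat for injective modules over a Noetherian ring -/
theorem flat_linearMap (E E' : Type u) [AddCommGroup E] [Module A E] [AddCommGroup E']
    [Module A E'] [Module.Injective A E] [Module.Injective A E'] :
    Module.Flat A (E →ₗ[A] E') := by
  refine Module.Flat.of_forall_isTrivialRelation (fun {l f x} hfx => ?_)
  obtain ⟨k, ρ, hρ, htriv⟩ := exists_trivialization f
  obtain ⟨y, hy⟩ := htriv E E' x hfx
  exact ⟨k, fun i j => ρ j i, y, hy, hρ⟩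

end Main

end Groth.Agent.Lib.HomInjFlatH6
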