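import Mathlib
import Groth.Prelude.Def_DRing4
import Groth.Prelude.Def_Wider
import Groth.Agent.Lib.Bidual9_helper6
import Groth.Agent.Lib.HomInjFlat_helper6
import Groth.Agent.Lib.DMod43_helper6

/-!
# Chain-level biduality (helper6), part 10: the terms of `Hom•(K, I)` (flat for `K`, `I` termwise
injective over a Noetherian ring; injective for `K` termwise flat and `I` termwise injective);
finite tor dimension versus finite injective dimension of the dual (S11178).
-/

set_option autoImplicit false
set_option linter.style.haveILetI false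
set_option linter.unusedSectionVars false
set_option linter.unusedVariables false
universe u
open CategoryTheory Limits CochainComplex CochainComplex.HomComplex ZeroObject DerivedCategory
open scoped TensorProduct
attribute [local instance] HasDerivedCategory.standard

namespace Groth.Agent.Lib.BidualH6

open Groth.Agent.Lib.HomCx Groth.Agent.Lib.RHomKInj Groth.Agent.Lib.HomCxPreQis DRing
open Groth.Agent.Lib.DMod_helper6 Groth.Agent.Lib.HomInjFlatH6

variable {A : Type u} [CommRing A]

/-- `Cochain K I n` is flat when `K`, `I` are termwise injective over a Noetherian ring -/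
theorem flat_cochain [IsNoetherianRing A] (K I : DRing.Cx A) (hK : TermwiseInjective K)
    (hI : TermwiseInjective I) (n : ℤ) : Module.Flat A (Cochain K I n) := by
  refine Module.Flat.of_forall_isTrivialRelation (fun {l f x} hfx => ?_)
  obtain ⟨k, ρ, hρ, htriv⟩ := exists_trivialization f
  have key : ∀ (p q : ℤ) (hpq : p + n = q), ∃ y : Fin k → (K.X p →ₗ[A] I.X q),
      ∀ i, evL K I n p q hpq (x i) = ∑ j, ρ j i • y j := by
    intro p q hpq
    haveI := hK p
    haveI := hI q
    refine htriv (K.X p) (I.X q) (fun i => evL K I n p q hpq (x i)) ?_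
    have := congrArg (evL K I n p q hpq) hfx
    simpa [map_sum] using this
  choose y hy using key
  refine ⟨k, fun i j => ρ j i,
    fun j => Cochain.mk (fun p q hpq => ModuleCat.ofHom (y p q hpq j)), fun i => ?_, hρ⟩
  ext p q hpq : 1
  apply ModuleCat.hom_ext
  have h1 : ((x i).v p q hpq).hom = evL K I n p q hpq (x i) := rfl
  have h2 : ((∑ j, ρ j i • (Cochain.mk (fun p q hpq => ModuleCat.ofHom (y p q hpq j)) :
      Cochain K I n)).v p q hpq).hom = evL K I n p q hpq (∑ j, ρ j i •
        (Cochain.mk (fun p q hpq => ModuleCat.ofHom (y p q hpq j)) : Cochain K I n)) := rfl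
  rw [h1, h2, hy, map_sum]
  refine Finset.sum_congr rfl (fun j _ => ?_)
  rw [map_smul]
  rfl

/-- `Cochain P I n` is injective when `P` is termwise flat and `I` termwise injective -/
theorem injective_cochain (P I : DRing.Cx A) (hP : TermwiseFlat P) (hI : TermwiseInjective I)
    (n : ℤ) : Module.Injective A (Cochain P I n) := by
  constructor
  intro X Y _ _ _ _ f hf g
  have key : ∀ (p q : ℤ) (hpq : p + n = q), ∃ h : Y →ₗ[A] (P.X p →ₗ[A] I.X q),
      ∀ x, h (f x) = evL P I n p q hpq (g x) := by
    intro p q hpq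
    haveI := hP p
    haveI := hI q
    have hinj : Function.Injective (f.rTensor (P.X p)) :=
      Module.Flat.rTensor_preserves_injective_linearMap f hf
    obtain ⟨h', hh'⟩ := Module.Injective.out (f.rTensor (P.X p)) hinj
      (TensorProduct.lift ((evL P I n p q hpq).comp g))
    refine ⟨TensorProduct.curry h', fun x => ?_⟩
    ext v
    rw [TensorProduct.curry_apply]
    have := hh' (x ⊗ₜ v)
    simpa using this
  choose h hh using key
  let H : Y →ₗ[A] Cochain P I n :=
    { toFun := fun y => Cochain.mk (fun p q hpq => ModuleCat.ofHom (h p q hpq y))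
      map_add' := fun y y' => by
        ext p q hpq : 1
        rw [Cochain.add_v, Cochain.mk_v, Cochain.mk_v, Cochain.mk_v, map_add]
        rfl
      map_smul' := fun a y => by
        ext p q hpq : 1
        rw [Cochain.smul_v, Cochain.mk_v, Cochain.mk_v, map_smul]
        rfl }
  refine ⟨H, fun x => ?_⟩
  ext p q hpq : 1
  apply ModuleCat.hom_ext
  exact hh p q hpq x

/-- `Hom•(K, I)` is bounded when `K` and `I` are -/
lemma vanishesOutside_homCx (K I : DRing.Cx A) (c d a b : ℤ) (hK : VanishesOutside K c d)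
    (hI : VanishesOutside I a b) : VanishesOutside (DRing.homCx K I) (a - d) (b - c) := by
  intro n hn
  haveI : Subsingleton ((DRing.homCx K I).X n) := by
    refine ⟨fun (z z' : Cochain K I n) => Cochain.ext z z' (fun p q hpq => ?_)⟩
    by_cases hp : c ≤ p ∧ p ≤ d
    · exact (hI q (by omega)).eq_of_tgt _ _
    · exact (hK p (by omega)).eq_of_src _ _
  exact ModuleCat.isZero_of_subsingleton _

/-- S11178. -/
theorem main11178 [IsNoetherianRing A] (ω : Dual.D A) (hω : Dual.IsDualizing A ω)
    (G : DRing.Cx A) [DRing.HasRHomCx G]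
    (hfin : ∀ i : ℤ, Module.Finite A (Dual.HD A (DRing.toD G) i))
    (hbdd : ∃ a b : ℤ, ∀ i : ℤ, (i < a ∨ b < i) → Subsingleton (Dual.HD A (DRing.toD G) i)) :
    DRing.HasFiniteTorDimCx A (DRing.toD G) ↔
      DRing.HasFiniteInjDim A ((DRing.RHomCx G).obj ω) := by
  obtain ⟨I, a, b, hab, hI, hinj, hKI, ⟨e⟩⟩ := exists_injective_rep ω hω
  haveI := hKI
  obtain ⟨e1'⟩ := nonempty_RHomCx_iso_of_kinj G I
  have eG : (DRing.RHomCx G).obj ω ≅ toD (Dc I G) := (DRing.RHomCx G).mapIso e.symm ≪≫ e1'
  constructor
  · intro hT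
    have hpc : IsPseudoCoherent' A (toD G) := by
      obtain ⟨a', b', hab'⟩ := hbdd
      exact isPseudoCoherent'_of_homology (toD G) ⟨b', fun i hi => hab' i (Or.inr hi)⟩
        (fun i => (isPseudoCoherentModule'_iff_noeth _).2 (hfin i))
    obtain ⟨P, c, d, hPb, hPfp, ⟨eP⟩⟩ :=
      (isPerfect_iff_pc_and_finiteTorDim (toD G)).2 ⟨hpc, hT⟩
    haveI : P.IsKProjective :=
      isKProjective_of_projective_bounded P d (fun i hi => hPb i (Or.inr hi))
        (fun i => (hPfp i).2)
    obtain ⟨e2'⟩ := nonempty_RHomCx_iso_of_kproj G P I eP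
    have e2 : (DRing.RHomCx G).obj (toD I) ≅ toD (DRing.homCx P I) := e2'
    refine ⟨a - d, b - c, DRing.homCx P I, vanishesOutside_homCx P I c d a b hPb hI,
      fun n => injective_cochain P I (fun i => ?_) hinj n,
      ⟨((DRing.RHomCx G).mapIso e.symm ≪≫ e2).symm⟩⟩
    haveI := (hPfp i).2
    infer_instance
  · rintro ⟨c, d, J', hJb, hJinj, ⟨eJ⟩⟩
    haveI : J'.IsKInjective := isKInjective_of_injCls ⟨c, d, hJb, hJinj⟩
    obtain ⟨u, hu⟩ := exists_Q_map_eq_of_isKInjective (E := Dc I G) (F := J')
      (eG.symm ≪≫ eJ.symm).hom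
    haveI : IsIso (Q.map u) := by rw [hu]; infer_instance
    haveI : QuasiIso u := (isIso_Q_map_iff_quasiIso (C := ModuleCat.{u} A) u).1 inferInstance
    haveI : QuasiIso (Dm I u) := quasiIso_Dm I u
    have hG' := finite_homology_of_finite_HD G hfin
    haveI : QuasiIso (ev G I) := evQis_of_finite I a b hab hI hinj ω e hω G hG'
    haveI : IsIso (Q.map (Dm I u)) :=
      (isIso_Q_map_iff_quasiIso (C := ModuleCat.{u} A) (Dm I u)).2 inferInstance
    haveI : IsIso (Q.map (ev G I)) :=
      (isIso_Q_map_iff_quasiIso (C := ModuleCat.{u} A) (ev G I)).2 inferInstance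
    exact ⟨a - d, b - c, DRing.homCx J' I, vanishesOutside_homCx J' I c d a b hJb hI,
      fun n => flat_cochain J' I hJinj hinj n,
      ⟨(asIso (Q.map (Dm I u))) ≪≫ (asIso (Q.map (ev G I))).symm⟩⟩

end Groth.Agent.Lib.BidualH6
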