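import Groth.Agent.Lib.BifSES_helper2

/-!
# Colimits, acyclicity and the total tensor complex (helper2)

* `exact_of_isColimit`: a colimit of exact short complexes is exact when colimits of that shape are exact.
* `acyclic_of_isColimit`: a colimit of acyclic cochain complexes is acyclic (same hypothesis).
* `preservesColimitsOfShape_map₂_obj`: `Tot(F(L, -))` preserves colimits when all `F(X, -)` do.
-/

open CategoryTheory Limits HomologicalComplex

namespace Groth.Agent.Lib.BifColim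

universe w w' v u

section General

variable {C : Type u} [Category.{v} C] [Abelian C] {J : Type w} [Category.{w'} J]

theorem exact_of_isColimit [HasColimitsOfShape J C] [HasExactColimitsOfShape J C]
    {F₁ F₂ F₃ : J ⥤ C} (α : F₁ ⟶ F₂) (β : F₂ ⟶ F₃)
    (h : ∀ j, ∃ w, (ShortComplex.mk (α.app j) (β.app j) w).Exact)
    {c₁ : Cocone F₁} {c₂ : Cocone F₂} {c₃ : Cocone F₃}
    (h₁ : IsColimit c₁) (h₂ : IsColimit c₂) (h₃ : IsColimit c₃)
    (φ : c₁.pt ⟶ c₂.pt) (ψ : c₂.pt ⟶ c₃.pt)
    (hφ : ∀ j, c₁.ι.app j ≫ φ = α.app j ≫ c₂.ι.app j)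
    (hψ : ∀ j, c₂.ι.app j ≫ ψ = β.app j ≫ c₃.ι.app j) (w : φ ≫ ψ = 0) :
    (ShortComplex.mk φ ψ w).Exact := by
  have wαβ : α ≫ β = 0 := by
    ext j
    obtain ⟨w', _⟩ := h j
    simpa using w'
  let S : ShortComplex (J ⥤ C) := ShortComplex.mk α β wαβ
  have hS : (S.map colim).Exact := by
    apply ColimExact.exact_map_colim
    intro j
    obtain ⟨w', hw'⟩ := h j
    exact hw'
  let e₁ := (colimit.isColimit F₁).coconePointUniqueUpToIso h₁
  let e₂ := (colimit.isColimit F₂).coconePointUniqueUpToIso h₂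
  let e₃ := (colimit.isColimit F₃).coconePointUniqueUpToIso h₃
  refine ShortComplex.exact_of_iso (ShortComplex.isoMk e₁ e₂ e₃ ?_ ?_) hS
  · apply colimit.hom_ext
    intro j
    have l1 : colimit.ι F₁ j ≫ e₁.hom = c₁.ι.app j :=
      colimit.comp_coconePointUniqueUpToIso_hom h₁ j
    have l2 : colimit.ι F₂ j ≫ e₂.hom = c₂.ι.app j :=
      colimit.comp_coconePointUniqueUpToIso_hom h₂ j
    show colimit.ι F₁ j ≫ e₁.hom ≫ φ = colimit.ι F₁ j ≫ colimMap α ≫ e₂.hom
    rw [reassoc_of% l1, hφ, ι_colimMap_assoc, l2]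
  · apply colimit.hom_ext
    intro j
    have l2 : colimit.ι F₂ j ≫ e₂.hom = c₂.ι.app j :=
      colimit.comp_coconePointUniqueUpToIso_hom h₂ j
    have l3 : colimit.ι F₃ j ≫ e₃.hom = c₃.ι.app j :=
      colimit.comp_coconePointUniqueUpToIso_hom h₃ j
    show colimit.ι F₂ j ≫ e₂.hom ≫ ψ = colimit.ι F₂ j ≫ colimMap β ≫ e₃.hom
    rw [reassoc_of% l2, hψ, ι_colimMap_assoc, l3]

/-- the natural transformation given by the differential -/
@[simps]
def dNat (D : J ⥤ CochainComplex C ℤ) (a b : ℤ) :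
    D ⋙ HomologicalComplex.eval C (ComplexShape.up ℤ) a ⟶
      D ⋙ HomologicalComplex.eval C (ComplexShape.up ℤ) b where
  app j := (D.obj j).d a b
  naturality j j' f := by
    dsimp
    exact (D.map f).comm a b

theorem acyclic_of_isColimit [HasColimitsOfShape J C] [HasExactColimitsOfShape J C]
    (D : J ⥤ CochainComplex C ℤ) (h : ∀ j, (D.obj j).Acyclic) {c : Cocone D}
    (hc : IsColimit c) : c.pt.Acyclic := by
  intro n
  rw [HomologicalComplex.exactAt_iff' _ (n - 1) n (n + 1) (by simp) (by simp)]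
  exact exact_of_isColimit (dNat D (n - 1) n) (dNat D n (n + 1))
    (fun j => ⟨(D.obj j).d_comp_d _ _ _,
      ((D.obj j).exactAt_iff' (n - 1) n (n + 1) (by simp) (by simp)).1 (h j n)⟩)
    (isColimitOfPreserves (HomologicalComplex.eval C (ComplexShape.up ℤ) (n - 1)) hc)
    (isColimitOfPreserves (HomologicalComplex.eval C (ComplexShape.up ℤ) n) hc)
    (isColimitOfPreserves (HomologicalComplex.eval C (ComplexShape.up ℤ) (n + 1)) hc)
    (c.pt.d (n - 1) n) (c.pt.d n (n + 1))
    (fun j => (c.ι.app j).comm (n - 1) n) (fun j => (c.ι.app j).comm n (n + 1)) _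

end General

section Pres

variable {C₁ C₂ D : Type*} [Category C₁] [Category C₂] [Category D]
  [Preadditive C₁] [Preadditive C₂] [Abelian D]
  (F : C₁ ⥤ C₂ ⥤ D) [F.Additive] [∀ X₁, (F.obj X₁).Additive]
  [∀ (K₁ : CochainComplex C₁ ℤ) (K₂ : CochainComplex C₂ ℤ),
    CochainComplex.HasMapBifunctor K₁ K₂ F]

lemma ι_nat (L : CochainComplex C₁ ℤ) {K K' : CochainComplex C₂ ℤ} (f : K ⟶ K') (p q n : ℤ)
    (h : p + q = n) :
    (F.obj (L.X p)).map (f.f q) ≫
        HomologicalComplex.ιMapBifunctor L K' F (ComplexShape.up ℤ) p q n h =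
      HomologicalComplex.ιMapBifunctor L K F (ComplexShape.up ℤ) p q n h ≫
        ((F.map₂CochainComplex.obj L).map f).f n := by
  erw [HomologicalComplex.ι_mapBifunctorMap]
  rw [HomologicalComplex.id_f, CategoryTheory.Functor.map_id, NatTrans.id_app, Category.id_comp]

theorem preservesColimitsOfShape_map₂_obj (J : Type*) [Category J] [HasColimitsOfShape J C₂]
    [∀ X : C₁, PreservesColimitsOfShape J (F.obj X)] (L : CochainComplex C₁ ℤ) :
    PreservesColimitsOfShape J (F.map₂CochainComplex.obj L) := by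
  apply HomologicalComplex.preservesColimitsOfShape_of_eval
  intro n
  refine ⟨fun {K} => ⟨fun {c} hc => ⟨?_⟩⟩⟩
  let G : BifSES.Idx n → (CochainComplex C₂ ℤ ⥤ D) := fun x =>
    HomologicalComplex.eval C₂ (ComplexShape.up ℤ) x.1.2 ⋙ F.obj (L.X x.1.1)
  have hG : ∀ x, IsColimit ((G x).mapCocone c) := fun x => isColimitOfPreserves (G x) hc
  let Φ := F.map₂CochainComplex.obj L ⋙ HomologicalComplex.eval D (ComplexShape.up ℤ) n
  let ι : ∀ (x : BifSES.Idx n) (M : CochainComplex C₂ ℤ), (G x).obj M ⟶ Φ.obj M := fun x M =>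
    HomologicalComplex.ιMapBifunctor L M F (ComplexShape.up ℤ) x.1.1 x.1.2 n x.2
  have ιnat : ∀ (x : BifSES.Idx n) {M M' : CochainComplex C₂ ℤ} (f : M ⟶ M'),
      (G x).map f ≫ ι x M' = ι x M ≫ Φ.map f := fun x M M' f => ι_nat F L f x.1.1 x.1.2 n x.2
  let cc : ∀ (s : Cocone (K ⋙ Φ)) (x : BifSES.Idx n), Cocone (K ⋙ G x) := fun s x =>
    { pt := s.pt
      ι := { app := fun j => ι x (K.obj j) ≫ s.ι.app j
             naturality := fun j j' f => by
              dsimp only [Functor.comp_map, Functor.const_obj_obj, Functor.const_obj_map]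
              rw [Category.comp_id, ← Category.assoc, ιnat x (K.map f), Category.assoc]
              congr 1
              exact s.w f } }
  have hext : ∀ (M : CochainComplex C₂ ℤ) {Z : D} (a b : Φ.obj M ⟶ Z),
      (∀ x, ι x M ≫ a = ι x M ≫ b) → a = b := fun M Z a b hab =>
    Cofan.IsColimit.hom_ext (BifSES.isColimitTotCofan F L M n) a b hab
  refine
    { desc := fun s => Cofan.IsColimit.desc (BifSES.isColimitTotCofan F L c.pt n)
        (fun x => (hG x).desc (cc s x))
      fac := fun s j => ?_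
      uniq := fun s m hm => ?_ }
  · apply hext
    intro x
    have h1 : ι x c.pt ≫ Cofan.IsColimit.desc (BifSES.isColimitTotCofan F L c.pt n)
        (fun x => (hG x).desc (cc s x)) = (hG x).desc (cc s x) :=
      Cofan.IsColimit.fac (BifSES.isColimitTotCofan F L c.pt n) _ x
    let cj : K.obj j ⟶ c.pt := c.ι.app j
    have h2 : (G x).map cj ≫ (hG x).desc (cc s x) = ι x (K.obj j) ≫ s.ι.app j :=
      (hG x).fac (cc s x) j
    show ι x (K.obj j) ≫ Φ.map cj ≫ _ = _
    rw [← Category.assoc, ← ιnat x cj, Category.assoc, h1, h2]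
  · apply hext
    intro x
    have h1 : ι x c.pt ≫ Cofan.IsColimit.desc (BifSES.isColimitTotCofan F L c.pt n)
        (fun x => (hG x).desc (cc s x)) = (hG x).desc (cc s x) :=
      Cofan.IsColimit.fac (BifSES.isColimitTotCofan F L c.pt n) _ x
    rw [h1]
    apply (hG x).hom_ext
    intro j
    let cj : K.obj j ⟶ c.pt := c.ι.app j
    have h2 : (G x).map cj ≫ (hG x).desc (cc s x) = ι x (K.obj j) ≫ s.ι.app j :=
      (hG x).fac (cc s x) j
    have h3 : Φ.map cj ≫ m = s.ι.app j := hm j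
    show (G x).map cj ≫ ι x c.pt ≫ m = (G x).map cj ≫ (hG x).desc (cc s x)
    rw [h2, ← Category.assoc, ιnat x cj, Category.assoc, h3]

end Pres

end Groth.Agent.Lib.BifColim
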