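import Groth.Agent.Lib.ColimExact_helper2
import Groth.Agent.Lib.BifCone_helper2

/-!
# The total tensor complex and short exact sequences (helper2)

`shortExact_mapBifunctor₂`: `Tot(F(L, -))` sends a short exact sequence of complexes `S` to a short
exact sequence, provided each `F(L^p, -)` sends `S^q` to a short exact sequence (and coproducts
are exact in the target).
-/

open CategoryTheory Limits HomologicalComplex

namespace Groth.Agent.Lib.BifSES

variable {C₁ C₂ D : Type*} [Category C₁] [Category C₂] [Category D]
  [Preadditive C₁] [Preadditive C₂] [Abelian D]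
  (F : C₁ ⥤ C₂ ⥤ D) [F.Additive] [∀ X₁, (F.obj X₁).Additive]
  [∀ (K₁ : CochainComplex C₁ ℤ) (K₂ : CochainComplex C₂ ℤ),
    CochainComplex.HasMapBifunctor K₁ K₂ F]

/-- The index type of the summands of the total complex in degree `n`. -/
abbrev Idx (n : ℤ) : Type :=
  ↥((ComplexShape.π (ComplexShape.up ℤ) (ComplexShape.up ℤ) (ComplexShape.up ℤ)) ⁻¹' {n})

/-- The colimit cofan expressing the total complex in degree `n` as a coproduct. -/
noncomputable def totCofan (L : CochainComplex C₁ ℤ) (K : CochainComplex C₂ ℤ) (n : ℤ) :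
    Cofan (fun x : Idx n => (F.obj (L.X x.1.1)).obj (K.X x.1.2)) :=
  Cofan.mk ((HomologicalComplex.mapBifunctor L K F (ComplexShape.up ℤ)).X n)
    (fun x => HomologicalComplex.ιMapBifunctor L K F (ComplexShape.up ℤ) x.1.1 x.1.2 n x.2)

/-- `totCofan` is a colimit cofan. -/
noncomputable def isColimitTotCofan (L : CochainComplex C₁ ℤ) (K : CochainComplex C₂ ℤ) (n : ℤ) :
    IsColimit (totCofan F L K n) :=
  ((((F.mapBifunctorHomologicalComplex (ComplexShape.up ℤ) (ComplexShape.up ℤ)).obj L).obj
    K).toGradedObject.isColimitCofanMapObj _ n)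

instance preservesZeroMorphisms_obj (L : CochainComplex C₁ ℤ) :
    (F.map₂CochainComplex.obj L).PreservesZeroMorphisms where
  map_zero K K' := by
    ext n
    apply HomologicalComplex.mapBifunctor.hom_ext
    intro p q hpq
    erw [HomologicalComplex.ι_mapBifunctorMap]
    simp
    exact comp_zero.symm

instance preservesZeroMorphisms_flip_obj (K : CochainComplex C₂ ℤ) :
    (F.map₂CochainComplex.flip.obj K).PreservesZeroMorphisms where
  map_zero L L' := by
    ext n
    apply HomologicalComplex.mapBifunctor.hom_ext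
    intro p q hpq
    erw [HomologicalComplex.ι_mapBifunctorMap]
    simp
    exact comp_zero.symm

theorem shortExact_mapBifunctor₂ [HasCoproducts.{0} D]
    [∀ n : ℤ, HasExactColimitsOfShape (Discrete (Idx n)) D]
    (L : CochainComplex C₁ ℤ) (S : ShortComplex (CochainComplex C₂ ℤ))
    (h : ∀ p q : ℤ, ((S.map (HomologicalComplex.eval C₂ (ComplexShape.up ℤ) q)).map
      (F.obj (L.X p))).ShortExact) :
    (S.map (F.map₂CochainComplex.obj L)).ShortExact := by
  apply HomologicalComplex.shortExact_of_degreewise_shortExact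
  intro n
  refine ColimExact.shortExact_of_cofans
    (f := fun x : Idx n => (F.obj (L.X x.1.1)).map (S.f.f x.1.2))
    (g := fun x : Idx n => (F.obj (L.X x.1.1)).map (S.g.f x.1.2))
    (fun x => ⟨_, h x.1.1 x.1.2⟩)
    (isColimitTotCofan F L S.X₁ n) (isColimitTotCofan F L S.X₂ n) (isColimitTotCofan F L S.X₃ n)
    _ _ ?_ ?_ _
  · intro x
    dsimp [totCofan]
    erw [HomologicalComplex.ι_mapBifunctorMap]
    rw [HomologicalComplex.id_f, CategoryTheory.Functor.map_id, NatTrans.id_app, Category.id_comp]
  · intro x
    dsimp [totCofan]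
    erw [HomologicalComplex.ι_mapBifunctorMap]
    rw [HomologicalComplex.id_f, CategoryTheory.Functor.map_id, NatTrans.id_app, Category.id_comp]

end Groth.Agent.Lib.BifSES
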