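import Groth.Agent.Lib.BifSingle_helper2
import Groth.Agent.Lib.BifCone_helper2

/-!
# The total tensor complex with a complex concentrated in degree `0` in the first variable (helper2)

`Tot F(M[0], K) ≅ F(M, K^•)`, naturally in `M`.
-/

open CategoryTheory Limits HomologicalComplex

namespace Groth.Agent.Lib.BifSingleL

variable {C₁ C₂ D : Type*} [Category C₁] [Category C₂] [Category D]
  [Preadditive C₁] [HasZeroObject C₁] [Preadditive C₂] [Abelian D]
  (F : C₁ ⥤ C₂ ⥤ D) [F.Additive] [∀ X₁, (F.obj X₁).Additive]
  [∀ (K₁ : CochainComplex C₁ ℤ) (K₂ : CochainComplex C₂ ℤ),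
    CochainComplex.HasMapBifunctor K₁ K₂ F]
  (M : C₁) (K : CochainComplex C₂ ℤ)

/-- the comparison map `F(M, K^q) ⟶ Tot(F(M[0], K))^q`. -/
noncomputable def θ (q : ℤ) : (F.obj M).obj (K.X q) ⟶
    (HomologicalComplex.mapBifunctor ((HomologicalComplex.single C₁ (ComplexShape.up ℤ) 0).obj M) K F
      (ComplexShape.up ℤ)).X q :=
  (F.map (HomologicalComplex.singleObjXSelf (ComplexShape.up ℤ) 0 M).inv).app (K.X q) ≫
    HomologicalComplex.ιMapBifunctor _ K F (ComplexShape.up ℤ) 0 q q (zero_add q)

instance isIso_θ (q : ℤ) : IsIso (θ F M K q) := by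
  have h1 : IsIso (HomologicalComplex.ιMapBifunctor
      ((HomologicalComplex.single C₁ (ComplexShape.up ℤ) 0).obj M) K F (ComplexShape.up ℤ) 0 q q
      (zero_add q)) := by
    have := ColimExact.isIso_inj_of_isZero (BifSES.isColimitTotCofan F
      ((HomologicalComplex.single C₁ (ComplexShape.up ℤ) 0).obj M) K q) ⟨(0, q), zero_add q⟩ (by
        rintro ⟨⟨p', q'⟩, hx⟩ hne
        have hx' : p' + q' = q := hx
        have hp : p' ≠ 0 := by
          rintro rfl
          apply hne
          have : q' = q := by omega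
          subst this
          rfl
        have hz : IsZero (F.obj (((HomologicalComplex.single C₁ (ComplexShape.up ℤ) 0).obj M).X p')) :=
          Functor.map_isZero F (HomologicalComplex.isZero_single_obj_X _ _ _ _ hp)
        exact (Functor.isZero_iff _).1 hz _)
    exact this
  dsimp only [θ]
  infer_instance

lemma θ_d (q q' : ℤ) (hqq' : q + 1 = q') :
    θ F M K q ≫ (HomologicalComplex.mapBifunctor
      ((HomologicalComplex.single C₁ (ComplexShape.up ℤ) 0).obj M) K F (ComplexShape.up ℤ)).d q q' =
      (F.obj M).map (K.d q q') ≫ θ F M K q' := by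
  dsimp only [θ]
  rw [Category.assoc]
  erw [BifCone.ι_d F K (K₁ := (HomologicalComplex.single C₁ (ComplexShape.up ℤ) 0).obj M)
    0 q q q' 1 q' (zero_add q) hqq' (zero_add 1) hqq']
  rw [HomologicalComplex.single_obj_d, Functor.map_zero, NatTrans.app_zero, zero_comp, zero_add,
    Int.negOnePow_zero, one_smul, ← Category.assoc, ← Category.assoc, NatTrans.naturality]

/-- `M ↦ F(M, K^•)` -/
noncomputable def SP : C₁ ⥤ CochainComplex D ℤ where
  obj M := ((F.obj M).mapHomologicalComplex (ComplexShape.up ℤ)).obj K
  map f := (NatTrans.mapHomologicalComplex (F.map f) (ComplexShape.up ℤ)).app K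
  map_id M := by
    ext i
    simp
  map_comp f g := by
    ext i
    simp

@[simp]
lemma SP_map_f {M M' : C₁} (f : M ⟶ M') (i : ℤ) :
    ((SP F K).map f).f i = (F.map f).app (K.X i) := rfl

/-- the comparison `F(M, K^•) ≅ Tot F(M[0], K)` as a morphism of complexes -/
noncomputable def xiApp : (SP F K).obj M ⟶
    (F.map₂CochainComplex.flip.obj K).obj
      ((HomologicalComplex.single C₁ (ComplexShape.up ℤ) 0).obj M) where
  f q := θ F M K q
  comm' q q' hqq' := by
    have h := θ_d F M K q q' hqq'
    exact h.symm ▸ rfl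

instance isIso_xiApp : IsIso (xiApp F M K) := by
  haveI : ∀ q, IsIso ((xiApp F M K).f q) := fun q => isIso_θ F M K q
  exact HomologicalComplex.Hom.isIso_of_components _

/-- the comparison as a natural transformation -/
noncomputable def xi : SP F K ⟶
    HomologicalComplex.single C₁ (ComplexShape.up ℤ) 0 ⋙ F.map₂CochainComplex.flip.obj K where
  app M := xiApp F M K
  naturality M M' f := by
    refine HomologicalComplex.hom_ext _ _ (fun q => ?_)
    change (F.map f).app (K.X q) ≫ θ F M' K q = θ F M K q ≫
      (HomologicalComplex.mapBifunctorMap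
        ((HomologicalComplex.single C₁ (ComplexShape.up ℤ) 0).map f) (𝟙 K) F
        (ComplexShape.up ℤ)).f q
    dsimp only [θ]
    rw [Category.assoc]
    erw [HomologicalComplex.ι_mapBifunctorMap]
    rw [HomologicalComplex.id_f, CategoryTheory.Functor.map_id, Category.id_comp,
      ← Category.assoc, ← Category.assoc, ← NatTrans.comp_app,
      ← NatTrans.comp_app, ← F.map_comp, ← F.map_comp]
    congr 3
    rw [HomologicalComplex.single_map_f_self, Iso.inv_hom_id_assoc]

instance isIso_xi : IsIso (xi F K) := by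
  haveI : ∀ M, IsIso ((xi F K).app M) := fun M => isIso_xiApp F M K
  exact NatIso.isIso_of_isIso_app _

/-- the comparison as a natural isomorphism -/
noncomputable def xiIso : SP F K ≅
    HomologicalComplex.single C₁ (ComplexShape.up ℤ) 0 ⋙ F.map₂CochainComplex.flip.obj K :=
  asIso (xi F K)

end Groth.Agent.Lib.BifSingleL
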