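import Mathlib
import Groth.Agent.Lib.BigCartanB_helper4
import Groth.Agent.Lib.GaCech2_helper8
import Groth.Agent.Lib.GaCech3_helper8
import Groth.Agent.Lib.RedDict_helper8
import Groth.Agent.Lib.TorsorInv_lead
import Groth.Agent.Lib.ArtinSchreier_lead

/-!
# Čech acyclicity of `G_a` on the big fppf site, and vanishing of `H^p(S, G_a)` for affine `S`
(helper4)

Port of helper8's `GaCech3_helper8` to the big fppf site.
-/

set_option autoImplicit false
set_option linter.style.haveILetI false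
set_option linter.unusedSectionVars false
universe u
open CategoryTheory CategoryTheory.Limits AlgebraicGeometry Opposite TensorProduct

namespace Groth.Agent.Lib.BigCartanH4

open Groth.Agent.Lib.CechSite Groth.Agent.Lib.GaCechH8 Groth.Agent.Lib.RedDictH8

attribute [local instance] hasFiniteProducts_over

variable {S : Scheme.{u}} (U : Over S)

/-- restriction of `G_a` to `Over U` -/
noncomputable abbrev QGa : (Over U)ᵒᵖ ⥤ AddCommGrpCat.{u + 1} :=
  (Over.forget U).op ⋙ (CGrpSh.pts Scheme.fppfPrecoverage (Red.Ga S)).obj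

/-- the function of a section of `G_a` -/
noncomputable def fnH (W : Over U) : (QGa U).obj (op W) →+ Γ(W.left.left, ⊤) where
  toFun s := Red.gaFn s.down.toMul
  map_zero' := Groth.Agent.Lib.ArtinSchreier.gaFn_one
  map_add' s t := gaFn_mul s.down.toMul t.down.toMul

lemma fnH_injective (W : Over U) : Function.Injective (fnH U W) := by
  intro s t h
  have h1 : s.down.toMul = t.down.toMul := gaFn_injective h
  apply ULift.ext
  exact h1

lemma fnH_surjective (W : Over U) : Function.Surjective (fnH U W) := by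
  intro r
  obtain ⟨x, hx⟩ := gaFn_surjective (X := W.left) r
  exact ⟨ULift.up (Additive.ofMul x), hx⟩

lemma fnH_map {W W' : Over U} (g : W' ⟶ W) (s : (QGa U).obj (op W)) :
    fnH U W' (((QGa U).map g.op).hom s) = g.left.left.appTop.hom (fnH U W s) :=
  Groth.Agent.Lib.TorsorInv.gaFn_comp g.left s.down.toMul

section Concrete

/-- the structure-map algebra -/
@[instance_reducible]
noncomputable def algOverB (W : Over U) : Algebra Γ(U.left, ⊤) Γ(W.left.left, ⊤) :=
  (W.hom.left.appTop.hom).toAlgebra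

attribute [local instance] algOverB

lemma pbB_comm {W W' : Over U} (g : W' ⟶ W) (a : Γ(U.left, ⊤)) :
    g.left.left.appTop.hom (W.hom.left.appTop.hom a) = W'.hom.left.appTop.hom a := by
  have h1 : g.left ≫ W.hom = W'.hom := Over.w g
  have h2 : g.left.left ≫ W.hom.left = W'.hom.left := congrArg (fun φ => φ.left) h1
  have h3 := congrArg (fun φ => φ.appTop.hom a) h2
  simpa using h3

/-- pullback of functions as an algebra homomorphism -/
noncomputable def pbB {W W' : Over U} (g : W' ⟶ W) :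
    Γ(W.left.left, ⊤) →ₐ[Γ(U.left, ⊤)] Γ(W'.left.left, ⊤) :=
  { g.left.left.appTop.hom with commutes' := pbB_comm U g }

lemma pbB_apply {W W' : Over U} (g : W' ⟶ W) (x : Γ(W.left.left, ⊤)) :
    pbB U g x = g.left.left.appTop.hom x := rfl

variable [IsAffine U.left]

theorem exists_thetaB (W V : Over U) [IsAffine W.left.left] [IsAffine V.left.left] :
    ∃ θ : Γ(W.left.left, ⊤) ⊗[Γ(U.left, ⊤)] Γ(V.left.left, ⊤) ≃+ Γ((W ⨯ V).left.left, ⊤),
      ∀ x y, θ (x ⊗ₜ y) = (prod.fst (X := W) (Y := V)).left.left.appTop.hom x *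
        (prod.snd (X := W) (Y := V)).left.left.appTop.hom y := by
  have h := isPushout_appTop_of_isPullback (isPullback_prod U W V)
  exact exists_theta _ _ h

variable (V : Over U) [IsAffine V.left.left]

/-- ring-level Čech differential -/
noncomputable def dRB (n : ℕ) :
    Γ((Pw V (n + 1)).left.left, ⊤) →ₗ[Γ(U.left, ⊤)] Γ((Pw V (n + 2)).left.left, ⊤) :=
  ∑ k : Fin (n + 2), (-1 : ℤ) ^ (k : ℕ) • (pbB U (fc V n k)).toLinearMap

lemma dRB_apply (n : ℕ) (x : Γ((Pw V (n + 1)).left.left, ⊤)) :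
    dRB U V n x = ∑ k : Fin (n + 2), (-1 : ℤ) ^ (k : ℕ) • (fc V n k).left.left.appTop.hom x := by
  simp [dRB, pbB_apply]

/-- ring-level differential of the base changed cover -/
noncomputable def eRB (n : ℕ) :
    Γ((Pw V (n + 1) ⨯ V).left.left, ⊤) →+ Γ((Pw V (n + 2) ⨯ V).left.left, ⊤) :=
  ∑ k : Fin (n + 2), (-1 : ℤ) ^ (k : ℕ) •
    ((prod.map (fc V n k) (𝟙 V)).left.left.appTop.hom : _ →+* _).toAddMonoidHom

lemma eRB_apply (n : ℕ) (x : Γ((Pw V (n + 1) ⨯ V).left.left, ⊤)) :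
    eRB U V n x = ∑ k : Fin (n + 2), (-1 : ℤ) ^ (k : ℕ) •
      (prod.map (fc V n k) (𝟙 V)).left.left.appTop.hom x := by
  simp [eRB]

lemma fnH_d1 (n : ℕ) (s : C1 V (QGa U) n) :
    fnH U _ (d1 V (QGa U) n s) = dRB U V n (fnH U _ s) := by
  rw [d1_apply, dRB_apply, map_sum]
  refine Finset.sum_congr rfl (fun k _ => ?_)
  rw [map_zsmul, fnH_map]

lemma fnH_d2 (n : ℕ) (s : C2 V (QGa U) n) :
    fnH U _ (d2 V (QGa U) n s) = eRB U V n (fnH U _ s) := by
  rw [d2_apply, eRB_apply, map_sum]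
  refine Finset.sum_congr rfl (fun k _ => ?_)
  rw [map_zsmul, fnH_map]

omit [IsAffine U.left] [IsAffine V.left.left] in
lemma appTop_comp_applyB {W₁ W₂ W₃ : Over U} (a : W₁ ⟶ W₂) (b : W₂ ⟶ W₃)
    (x : Γ(W₃.left.left, ⊤)) :
    a.left.left.appTop.hom (b.left.left.appTop.hom x) = (a ≫ b).left.left.appTop.hom x := by
  have : (a ≫ b).left.left = a.left.left ≫ b.left.left := rfl
  rw [this, Scheme.Hom.comp_appTop]
  rfl

lemma theta_compatB (n : ℕ) [IsAffine (Pw V (n + 1)).left.left]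
    [IsAffine (Pw V (n + 2)).left.left]
    (θ₀ : Γ((Pw V (n + 1)).left.left, ⊤) ⊗[Γ(U.left, ⊤)] Γ(V.left.left, ⊤) ≃+
      Γ((Pw V (n + 1) ⨯ V).left.left, ⊤))
    (hθ₀ : ∀ x y, θ₀ (x ⊗ₜ y) = (prod.fst (X := Pw V (n + 1)) (Y := V)).left.left.appTop.hom x *
        (prod.snd (X := Pw V (n + 1)) (Y := V)).left.left.appTop.hom y)
    (θ₁ : Γ((Pw V (n + 2)).left.left, ⊤) ⊗[Γ(U.left, ⊤)] Γ(V.left.left, ⊤) ≃+
      Γ((Pw V (n + 2) ⨯ V).left.left, ⊤))
    (hθ₁ : ∀ x y, θ₁ (x ⊗ₜ y) = (prod.fst (X := Pw V (n + 2)) (Y := V)).left.left.appTop.hom x *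
        (prod.snd (X := Pw V (n + 2)) (Y := V)).left.left.appTop.hom y)
    (m : Γ((Pw V (n + 1)).left.left, ⊤)) (b : Γ(V.left.left, ⊤)) :
    θ₁ (dRB U V n m ⊗ₜ b) = eRB U V n (θ₀ (m ⊗ₜ b)) := by
  rw [dRB_apply, eRB_apply, TensorProduct.sum_tmul, map_sum]
  refine Finset.sum_congr rfl (fun k _ => ?_)
  rw [← TensorProduct.smul_tmul', map_zsmul, hθ₁, hθ₀, map_mul, appTop_comp_applyB,
    appTop_comp_applyB, appTop_comp_applyB]
  congr 3
  · rw [prod.map_fst]
  · rw [prod.map_snd, Category.comp_id]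

theorem ga_exactB (hV : Surjective V.hom.left) [Flat V.hom.left] (p : ℕ)
    (x : C1 V (QGa U) (p + 1))
    (hx : d1 V (QGa U) (p + 1) x = 0) : ∃ y : C1 V (QGa U) p, d1 V (QGa U) p y = x := by
  haveI := isAffine_Pw U V
  haveI hff : Module.FaithfullyFlat Γ(U.left, ⊤) Γ(V.left.left, ⊤) :=
    (Flat.flat_and_surjective_iff_faithfullyFlat_of_isAffine (f := V.hom.left)).1 ⟨inferInstance, hV⟩
  obtain ⟨θ₀, hθ₀⟩ := exists_thetaB U (Pw V (p + 1)) V
  obtain ⟨θ₁, hθ₁⟩ := exists_thetaB U (Pw V (p + 2)) V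
  obtain ⟨θ₂, hθ₂⟩ := exists_thetaB U (Pw V (p + 3)) V
  have hd : (dRB U V (p + 1)).comp (dRB U V p) = 0 := by
    ext y
    obtain ⟨s, rfl⟩ := fnH_surjective U _ y
    have h := congrArg (fnH U _) (d1_d1 V (QGa U) p s)
    rw [fnH_d1, fnH_d1, map_zero] at h
    exact h
  have hex : ∀ z : Γ((Pw V (p + 2) ⨯ V).left.left, ⊤), eRB U V (p + 1) z = 0 →
      ∃ y, eRB U V p y = z := by
    intro z hz
    obtain ⟨s, rfl⟩ := fnH_surjective U _ z
    obtain ⟨y, hy⟩ := exact2 V (QGa U) p s (by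
      apply fnH_injective U
      rw [fnH_d2, map_zero]
      exact hz)
    refine ⟨fnH U _ y, ?_⟩
    rw [← fnH_d2, hy]
  have key := descent_exact (dRB U V p) (dRB U V (p + 1)) hd (eRB U V p) (eRB U V (p + 1)) θ₀ θ₁ θ₂
    (theta_compatB U V p θ₀ hθ₀ θ₁ hθ₁) (theta_compatB U V (p + 1) θ₁ hθ₁ θ₂ hθ₂) hex
  obtain ⟨y, hy⟩ := key (fnH U _ x) (by rw [← fnH_d1, hx, map_zero])
  obtain ⟨s, rfl⟩ := fnH_surjective U _ y
  refine ⟨s, ?_⟩
  apply fnH_injective U
  rw [fnH_d1]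
  exact hy

/-- Čech acyclicity of `G_a` for a flat surjective morphism of affine schemes -/
theorem isZero_cechH_GaB (hV : Surjective V.hom.left) [Flat V.hom.left] (p : ℕ) :
    IsZero (((cechComplexFunctor (Y1.{u + 1} V)).obj (QGa U)).homology (p + 1)) := by
  rw [Groth.Agent.Lib.CechSite.isZero_homology_succ_iff]
  exact exact_of_single V (QGa U) p (ga_exactB U V hV p)

end Concrete

theorem affCech_Ga (S : Scheme.{u}) :
    AffCech (CGrpSh.pts Scheme.fppfPrecoverage (Red.Ga S)) := by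
  intro U hU V hV hs hfl hfp p
  haveI := hU
  haveI := hV
  haveI := hfl
  exact isZero_cechH_GaB U V hs p

/-- `H^p_fppf(S, G_a) = 0` for `S` affine and `p ≥ 1` -/
theorem subsingleton_H_Ga (S : Scheme.{u}) [IsAffine S] (p : ℕ) (hp : 1 ≤ p) :
    Subsingleton (BigSite.H Scheme.fppfPrecoverage S
      (CGrpSh.pts Scheme.fppfPrecoverage (Red.Ga S)) p) :=
  subsingleton_H_of_affCech _ (affCech_Ga S) p hp

end Groth.Agent.Lib.BigCartanH4
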