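import Mathlib
import Groth.Agent.Lib.BigCartanC_helper4

/-!
# fppf cohomology of a group with a filtration with quotients `G_a` over an affine base (helper4)
-/

set_option autoImplicit false
set_option linter.style.haveILetI false
set_option linter.unusedSectionVars false
universe u
open CategoryTheory CategoryTheory.Limits AlgebraicGeometry Opposite Abelian MonObj

namespace Groth.Agent.Lib.BigCartanH4

variable {S : Scheme.{u}}

theorem subsingleton_H_of_isZero (F : AbF S) (hF : IsZero F) (i : ℕ) :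
    Subsingleton (BigSite.H Scheme.fppfPrecoverage S F i) := by
  refine ⟨fun a b => ?_⟩
  have h : ∀ x : BigSite.H Scheme.fppfPrecoverage S F i, x = 0 := by
    intro x
    have h1 : x.comp (Ext.mk₀ (𝟙 F)) (add_zero i) = x := Ext.comp_mk₀_id x
    have h2 : (𝟙 F) = 0 := hF.eq_of_src _ _
    rw [h2, Ext.mk₀_zero, Ext.comp_zero] at h1
    exact h1.symm
  rw [h a, h b]

theorem subsingleton_H_of_ses (Sx : ShortComplex (AbF S)) (hS : Sx.ShortExact) (i : ℕ)
    (h1 : Subsingleton (BigSite.H Scheme.fppfPrecoverage S Sx.X₁ i))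
    (h3 : Subsingleton (BigSite.H Scheme.fppfPrecoverage S Sx.X₃ i)) :
    Subsingleton (BigSite.H Scheme.fppfPrecoverage S Sx.X₂ i) := by
  have h : ∀ x : BigSite.H Scheme.fppfPrecoverage S Sx.X₂ i, x = 0 := by
    intro x
    obtain ⟨x₁, hx₁⟩ := Ext.covariant_sequence_exact₂ _ hS x (Subsingleton.elim _ _)
    rw [← hx₁, Subsingleton.elim x₁ 0, Ext.zero_comp]
  exact ⟨fun a b => by rw [h a, h b]⟩

theorem main13475 (k : Type u) [Field k]
    (n : ℕ) (U : Fin (n + 1) → Over (Spec (CommRingCat.of k))) [∀ j, GrpObj (U j)]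
    [∀ j, IsCommMonObj (U j)]
    (incl : ∀ j : Fin n, U j.castSucc ⟶ U j.succ)
    (proj : ∀ j : Fin n, U j.succ ⟶ Red.Ga (Spec (CommRingCat.of k)))
    [∀ j, IsMonHom (incl j)] [∀ j, IsMonHom (proj j)] (w : ∀ j, incl j ≫ proj j = 1)
    (hex : ∀ j, (CGrpSh.seq Scheme.fppfPrecoverage (incl j) (proj j) (w j)).ShortExact)
    (h0 : IsZero (CGrpSh.pts Scheme.fppfPrecoverage (U 0)))
    (i : ℕ) (hi : 0 < i) :
    Subsingleton (BigSite.H Scheme.fppfPrecoverage (Spec (CommRingCat.of k))
      (CGrpSh.pts Scheme.fppfPrecoverage (U (Fin.last n))) i) := by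
  have key : ∀ j : Fin (n + 1), Subsingleton (BigSite.H Scheme.fppfPrecoverage
      (Spec (CommRingCat.of k)) (CGrpSh.pts Scheme.fppfPrecoverage (U j)) i) := by
    intro j
    refine Fin.induction (motive := fun j => Subsingleton (BigSite.H Scheme.fppfPrecoverage
      (Spec (CommRingCat.of k)) (CGrpSh.pts Scheme.fppfPrecoverage (U j)) i)) ?_ ?_ j
    · exact subsingleton_H_of_isZero _ h0 i
    · intro j ih
      exact subsingleton_H_of_ses _ (hex j) i ih
        (subsingleton_H_Ga (Spec (CommRingCat.of k)) i hi)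
  exact key (Fin.last n)

end Groth.Agent.Lib.BigCartanH4
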