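import Mathlib
import Groth.Agent.Lib.BigCartanB_helper4

/-!
# `H¹` on the big fppf site of an affine scheme from Čech `H¹` of affine covers (helper4)
-/

set_option autoImplicit false
set_option linter.style.haveILetI false
set_option linter.unusedSectionVars false
universe u
open CategoryTheory CategoryTheory.Limits AlgebraicGeometry Opposite Abelian

namespace Groth.Agent.Lib.BigCartanH4

open Groth.Agent.Lib.CechSite Groth.Agent.Lib.GaCechH8 Groth.Agent.Lib.EtCartanH8

attribute [local instance] hasFiniteProducts_over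

variable {S : Scheme.{u}}

/-- Čech `H¹`-acyclicity at one affine object -/
def AffCech1At (F : AbF S) (U : Over S) : Prop :=
  ∀ (V : Over U), IsAffine V.left.left →
    Surjective V.hom.left → Flat V.hom.left → LocallyOfFinitePresentation V.hom.left →
      IsZero (((cechComplexFunctor (Y1.{u + 1} V)).obj
        ((Over.forget U).op ⋙ F.obj)).homology 1)

theorem sections_surjective_at (Sx : ShortComplex (AbF S)) (hS : Sx.ShortExact)
    (U : Over S) [IsAffine U.left] (h1 : AffCech1At Sx.X₁ U) :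
    Function.Surjective (Sx.g.hom.app (op U)).hom := by
  intro z
  haveI := hS.epi_g
  obtain ⟨V, hV, d, hd, hdfl, hdfp, ι, Vj, ij, hRj, hglue⟩ :=
    exists_affine_surj (imageSieve_mem_of_epi Sx.g U z)
  choose t ht using hRj
  obtain ⟨tV, htV, -⟩ := hglue Sx.X₂ t
  have hgt : (Sx.g.hom.app (op V)).hom tV = rs Sx.X₃.obj d z := by
    apply (hglue Sx.X₃ (fun j => (Sx.g.hom.app (op (Vj j))).hom (t j))).unique
    · intro j
      have h := rs_app Sx.X₂.obj Sx.g.hom (ij j) tV
      have h2 : rs Sx.X₂.obj (ij j) tV = t j := htV j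
      rw [h2] at h
      exact h.symm
    · intro j
      have h := rs_rs Sx.X₃.obj (ij j) d z
      exact h.trans (ht j).symm
  let V' : Over U := Over.mk d
  have hY : Sieve.ofArrows (fun i => ((Y1.{u + 1} V') i).left) (fun i => ((Y1.{u + 1} V') i).hom) ∈
      Jf S U := by
    rw [mem_Jf_iff]
    intro x
    obtain ⟨v, hv⟩ := hd.surj x
    exact ⟨V, d, Sieve.ofArrows_mk _ _ PUnit.unit, hdfl, hdfp, v, hv⟩
  exact lift_of_cechH1 (Y1.{u + 1} V') Sx hS hY (h1 V' hV hd hdfl hdfp) z
    (fun _ => tV) (fun _ => hgt)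

/-- `H¹(S, G) = 0` over an affine base as soon as Čech `H¹` vanishes for the affine fppf covers
of the base -/
theorem subsingleton_H1 [IsAffine S] (G : AbF S) (hG : AffCech1At G (Over.mk (𝟙 S))) :
    Subsingleton (BigSite.H Scheme.fppfPrecoverage S G 1) := by
  have key : ∀ x : BigSite.H Scheme.fppfPrecoverage S G 1, x = 0 := by
    intro x
    let Sx : ShortComplex (AbF S) :=
      ShortComplex.mk (Injective.ι G) (cokernel.π (Injective.ι G)) (cokernel.condition _)
    have hSx : Sx.ShortExact := { exact := ShortComplex.exact_cokernel (Injective.ι G) }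
    haveI : Injective Sx.X₂ := inferInstanceAs (Injective (Injective.under G))
    obtain ⟨x₃, hx₃⟩ : ∃ x₃ : BigSite.H Scheme.fppfPrecoverage S Sx.X₃ 0,
        x₃.comp hSx.extClass (zero_add 1) = x :=
      Ext.covariant_sequence_exact₁ _ hSx x (Ext.eq_zero_of_injective _) (zero_add 1)
    have hT : IsTerminal (Over.mk (𝟙 S)) := Over.mkIdTerminal
    haveI : IsAffine (Over.mk (𝟙 S)).left := ‹IsAffine S›
    obtain ⟨b, hb⟩ := sections_surjective_at Sx hSx (Over.mk (𝟙 S)) hG
      (Sheaf.H.equiv₀ Sx.X₃ hT x₃)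
    have hy : Sheaf.H.map Sx.g 0 ((Sheaf.H.equiv₀ Sx.X₂ hT).symm b) = x₃ := by
      rw [Sheaf.H.equiv₀_symm_naturality]
      apply (Sheaf.H.equiv₀ Sx.X₃ hT).injective
      rw [AddEquiv.apply_symm_apply]
      exact hb
    rw [← hx₃, ← hy, Sheaf.H.map_apply]
    refine (Ext.comp_assoc_of_second_deg_zero _ (Ext.mk₀ Sx.g)
      hSx.extClass (zero_add 1)).trans ?_
    exact (congrArg (fun t => ((Sheaf.H.equiv₀ Sx.X₂ hT).symm b).comp t (zero_add 1))
      hSx.comp_extClass).trans (Ext.comp_zero _ _ _ _ _)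
  exact ⟨fun a b => (key a).trans (key b).symm⟩

end Groth.Agent.Lib.BigCartanH4
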