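import Mathlib
import Groth.Prelude.Def_CGrpSh
import Groth.Agent.Lib.GaCech1_helper8
import Groth.Agent.Lib.GrpSerA_helper4

/-!
# Čech `H¹` of the sheaf of points of a commutative group scheme, composed with a product
preserving functor, from the cocycle/coboundary formalism of `GrpSerA_helper4` (helper4)

`cech_exact_of_cob`: if every cocycle `Φ V ⊗ Φ V ⟶ G` is a coboundary then the Čech complex of
the presheaf `Φ.op ⋙ ptsPre G` for the single cover `V` is exact in degree one.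
-/

set_option autoImplicit false
set_option linter.style.haveILetI false
set_option linter.unusedSectionVars false
universe u v₁ u₁
open CategoryTheory CategoryTheory.Limits AlgebraicGeometry Opposite MonoidalCategory
  CartesianMonoidalCategory MonObj

namespace Groth.Agent.Lib.BigCartanH4

open Groth.Agent.Lib.GaCechH8 Groth.Agent.Lib.GrpSerH4

variable {S' : Scheme.{u}} (G : Over S') [GrpObj G] [IsCommMonObj G]
  {E : Type u₁} [Category.{v₁} E] [HasFiniteProducts E] (Φ : E ⥤ Over S')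
  [PreservesFiniteProducts Φ] (V : E)

section Tup

variable {Y : Over S'}

/-- the point of `Φ (Vⁿ)` with given components -/
noncomputable def tup (n : ℕ) (x : Fin n → (Y ⟶ Φ.obj V)) : Y ⟶ Φ.obj (Pw V n) :=
  Pi.lift x ≫ inv (piComparison Φ (fun _ : Fin n => V))

@[reassoc]
lemma tup_π (n : ℕ) (x : Fin n → (Y ⟶ Φ.obj V)) (j : Fin n) :
    tup Φ V n x ≫ Φ.map (Pi.π (fun _ : Fin n => V) j) = x j := by
  unfold tup
  rw [Category.assoc, inv_piComparison_comp_map_π, Pi.lift_π]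

lemma tup_ext (n : ℕ) {a b : Y ⟶ Φ.obj (Pw V n)}
    (h : ∀ j, a ≫ Φ.map (Pi.π (fun _ : Fin n => V) j) = b ≫ Φ.map (Pi.π (fun _ : Fin n => V) j)) :
    a = b := by
  rw [← cancel_mono (piComparison Φ (fun _ : Fin n => V))]
  apply Pi.hom_ext
  intro j
  rw [Category.assoc, Category.assoc, piComparison_comp_π]
  exact h j

@[reassoc]
lemma tup_fc (n : ℕ) (x : Fin (n + 2) → (Y ⟶ Φ.obj V)) (k : Fin (n + 2)) :
    tup Φ V (n + 2) x ≫ Φ.map (fc V n k) = tup Φ V (n + 1) (fun j => x (k.succAbove j)) := by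
  apply tup_ext
  intro j
  rw [Category.assoc, ← Φ.map_comp, fc_π, tup_π, tup_π]

lemma comp_tup {Y' : Over S'} (t : Y' ⟶ Y) (n : ℕ) (x : Fin n → (Y ⟶ Φ.obj V)) :
    t ≫ tup Φ V n x = tup Φ V n (fun j => t ≫ x j) := by
  apply tup_ext
  intro j
  rw [Category.assoc, tup_π, tup_π]

end Tup

section Presheaf

/-- the presheaf `Φ.op ⋙ ptsPre G` -/
noncomputable abbrev QP : Eᵒᵖ ⥤ AddCommGrpCat.{u + 1} := Φ.op ⋙ CGrpSh.ptsPre G

/-- the point of a section -/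
noncomputable def ptA (W : E) : (QP G Φ).obj (op W) ≃+ Additive (Φ.obj W ⟶ G) := AddEquiv.ulift

lemma ptA_map {W W' : E} (h : W' ⟶ W) (s : (QP G Φ).obj (op W)) :
    ptA G Φ W' (((QP G Φ).map h.op).hom s) = Additive.ofMul (Φ.map h ≫ (ptA G Φ W s).toMul) :=
  rfl

lemma three_succAbove {α : Type*} (a b c : α) :
    (fun j : Fin 2 => ![a, b, c] ((0 : Fin 3).succAbove j)) = ![b, c] ∧
    (fun j : Fin 2 => ![a, b, c] ((1 : Fin 3).succAbove j)) = ![a, c] ∧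
    (fun j : Fin 2 => ![a, b, c] ((2 : Fin 3).succAbove j)) = ![a, b] := by
  refine ⟨?_, ?_, ?_⟩ <;> (funext j; fin_cases j <;> rfl)

lemma lift_tup {Y : Over S'} (a b : Y ⟶ Φ.obj V) :
    lift a b ≫ tup Φ V 2 ![fst (Φ.obj V) (Φ.obj V), snd (Φ.obj V) (Φ.obj V)] =
      tup Φ V 2 ![a, b] := by
  rw [comp_tup]
  congr 1
  funext j
  fin_cases j
  · exact lift_fst a b
  · exact lift_snd a b

lemma comm_rel {M : Type*} [CommGroup M] (p q r : M) (h : p * q⁻¹ * r = 1) : q = r * p := by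
  have h2 : p * r = q := by
    have h3 : p * q⁻¹ * r * q = q := by rw [h, _root_.one_mul]
    rw [← h3, _root_.mul_assoc p q⁻¹ r, _root_.mul_comm q⁻¹ r, ← _root_.mul_assoc p r q⁻¹,
      inv_mul_cancel_right]
  rw [← h2, _root_.mul_comm]

theorem cech_exact_of_cob
    (h : ∀ g : Φ.obj V ⊗ Φ.obj V ⟶ G, IsCoc g → ∃ c : Φ.obj V ⟶ G, IsCob g c)
    (x : C1 V (QP G Φ) 1) (hx : d1 V (QP G Φ) 1 x = 0) :
    ∃ y : C1 V (QP G Φ) 0, d1 V (QP G Φ) 0 y = x := by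
  obtain ⟨ξ, hξ⟩ : ∃ ξ : Φ.obj (Pw V 2) ⟶ G, ξ = (ptA G Φ _ x).toMul := ⟨_, rfl⟩
  -- the cocycle relation
  have hrel : (Φ.map (fc V 1 0) ≫ ξ) * (Φ.map (fc V 1 1) ≫ ξ)⁻¹ * (Φ.map (fc V 1 2) ≫ ξ) = 1 := by
    have h1 := congrArg (ptA G Φ _) hx
    rw [d1_apply, map_sum, Fin.sum_univ_three, map_zero] at h1
    simp only [map_zsmul, ptA_map, ← hξ] at h1
    have h2 := congrArg Additive.toMul h1
    simpa using h2
  obtain ⟨g, hg⟩ : ∃ g : Φ.obj V ⊗ Φ.obj V ⟶ G,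
      g = tup Φ V 2 ![fst (Φ.obj V) (Φ.obj V), snd (Φ.obj V) (Φ.obj V)] ≫ ξ := ⟨_, rfl⟩
  have hlg : ∀ {Y : Over S'} (a b : Y ⟶ Φ.obj V), lift a b ≫ g = tup Φ V 2 ![a, b] ≫ ξ := by
    intro Y a b
    rw [hg, ← Category.assoc, lift_tup]
  have hcoc : IsCoc g := by
    rw [isCoc_iff]
    intro T a b c
    have h3 := congrArg (fun m => tup Φ V 3 ![a, b, c] ≫ m) hrel
    simp only [comp_mul, GrpObj.comp_inv, comp_one, tup_fc_assoc] at h3
    obtain ⟨e0, e1, e2⟩ := three_succAbove a b c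
    rw [e0, e1, e2, ← hlg, ← hlg, ← hlg] at h3
    exact comm_rel _ _ _ h3
  obtain ⟨c, hc⟩ := h g hcoc
  rw [isCob_iff] at hc
  refine ⟨(ptA G Φ _).symm (Additive.ofMul (Φ.map (Pi.π (fun _ : Fin 1 => V) 0) ≫ c)⁻¹), ?_⟩
  apply (ptA G Φ _).injective
  rw [d1_apply, map_sum, Fin.sum_univ_two]
  simp only [map_zsmul, ptA_map, AddEquiv.apply_symm_apply]
  apply Additive.toMul.injective
  refine Eq.trans ?_ hξ
  have hid : tup Φ V 2 ![Φ.map (Pi.π (fun _ : Fin 2 => V) 0), Φ.map (Pi.π (fun _ : Fin 2 => V) 1)] =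
      𝟙 _ := by
    apply tup_ext
    intro j
    rw [tup_π, Category.id_comp]
    fin_cases j <;> rfl
  have hξ2 : ξ = lift (Φ.map (Pi.π (fun _ : Fin 2 => V) 0)) (Φ.map (Pi.π (fun _ : Fin 2 => V) 1)) ≫ g := by
    rw [hlg, hid, Category.id_comp]
  have hc' := hc _ (Φ.map (Pi.π (fun _ : Fin 2 => V) 0)) (Φ.map (Pi.π (fun _ : Fin 2 => V) 1))
  rw [← hξ2] at hc'
  have e0 : Φ.map (fc V 0 0) ≫ Φ.map (Pi.π (fun _ : Fin 1 => V) 0) =
      Φ.map (Pi.π (fun _ : Fin 2 => V) 1) := by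
    rw [← Φ.map_comp, fc_π]; rfl
  have e1 : Φ.map (fc V 0 1) ≫ Φ.map (Pi.π (fun _ : Fin 1 => V) 0) =
      Φ.map (Pi.π (fun _ : Fin 2 => V) 0) := by
    rw [← Φ.map_comp, fc_π]; rfl
  simp only [toMul_add, toMul_zsmul, toMul_ofMul, GrpObj.comp_inv, ← Category.assoc, e0, e1]
  change (Φ.map (Pi.π (fun _ : Fin 2 => V) 1) ≫ c)⁻¹ ^ ((-1 : ℤ) ^ (0 : ℕ)) *
    (Φ.map (Pi.π (fun _ : Fin 2 => V) 0) ≫ c)⁻¹ ^ ((-1 : ℤ) ^ (1 : ℕ)) = ξ
  rw [pow_zero, pow_one, zpow_one, zpow_neg, zpow_one, inv_inv, ← hc']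
  rw [_root_.mul_comm ξ, ← _root_.mul_assoc, inv_mul_cancel, _root_.one_mul]

end Presheaf

end Groth.Agent.Lib.BigCartanH4
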