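import Mathlib
import Groth.Prelude.Def_ActBC
import Groth.Prelude.Def_NonAbH2

/-!
# Points of pseudo-torsors under base-changed group schemes (helper4)

* `smul a g x`: the action of a `T`-point of `G` on a `T`-point of `X` (both over `S`).
* `exists_unique_smul`: for a pseudo-torsor the action on points is simply transitive.
* `toBC`, `fromBC`: points of `G ×_S B` over `b : T ⟶ B` are points of `G` over `b ≫ p`.
* `sm p a c x hx`: the action of a point `c` of `G` (over `S`) on a plain point `x` of a scheme `Z`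
  over `B` acted on by `G ×_S B`; laws `one_sm`, `mul_sm`, `comp_sm`, `exists_unique_sm`, `df`.
-/

set_option autoImplicit false
set_option linter.unusedSectionVars false
universe u
open CategoryTheory CategoryTheory.Limits MonoidalCategory CartesianMonoidalCategory MonObj GrpObj
  AlgebraicGeometry

namespace Groth.Agent.Lib.TLineH4

section Smul

variable {S : Scheme.{u}} {G X : Over S} [GrpObj G] (a : AlgGrp.Action G X)

/-- The action on points. -/
noncomputable def smul {T : Over S} (g : T ⟶ G) (x : T ⟶ X) : T ⟶ X := lift g x ≫ a.act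

theorem one_smul {T : Over S} (x : T ⟶ X) : smul a 1 x = x := a.lift_one_act x

theorem mul_smul {T : Over S} (g g' : T ⟶ G) (x : T ⟶ X) :
    smul a (g * g') x = smul a g (smul a g' x) := a.lift_mul_act g g' x

theorem comp_smul {T T' : Over S} (f : T' ⟶ T) (g : T ⟶ G) (x : T ⟶ X) :
    f ≫ smul a g x = smul a (f ≫ g) (f ≫ x) := by
  unfold smul
  rw [← Category.assoc, comp_lift]

theorem exists_unique_smul (ha : NonAbH1.IsPseudoTorsorSch a) {T : Over S} (x y : T ⟶ X) :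
    ∃! g : T ⟶ G, smul a g x = y := by
  obtain ⟨σ, hσ⟩ : ∃ σ : G ⊗ X ⟶ X ⊗ X, σ = lift a.act (snd G X) := ⟨_, rfl⟩
  have : IsIso σ := by rw [hσ]; exact ha
  have hσ1 : σ ≫ fst X X = a.act := by rw [hσ, lift_fst]
  have hσ2 : σ ≫ snd X X = snd G X := by rw [hσ, lift_snd]
  obtain ⟨m, hm⟩ : ∃ m : T ⟶ G ⊗ X, m = lift y x ≫ inv σ := ⟨_, rfl⟩
  have hmσ : m ≫ σ = lift y x := by rw [hm, Category.assoc, IsIso.inv_hom_id, Category.comp_id]
  have hm1 : m ≫ a.act = y := by rw [← hσ1, ← Category.assoc, hmσ, lift_fst]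
  have hm2 : m ≫ snd G X = x := by rw [← hσ2, ← Category.assoc, hmσ, lift_snd]
  have hm3 : lift (m ≫ fst G X) x = m := by
    apply CartesianMonoidalCategory.hom_ext
    · rw [lift_fst]
    · rw [lift_snd, hm2]
  refine ⟨m ≫ fst G X, ?_, ?_⟩
  · show lift (m ≫ fst G X) x ≫ a.act = y
    rw [hm3, hm1]
  · intro g hg
    have hg' : lift g x ≫ a.act = y := hg
    have h1 : lift g x ≫ σ = lift y x := by
      apply CartesianMonoidalCategory.hom_ext
      · rw [Category.assoc, hσ1, hg', lift_fst]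
      · rw [Category.assoc, hσ2, lift_snd, lift_snd]
    have h2 : lift g x = m := by
      rw [hm, ← h1, Category.assoc, IsIso.hom_inv_id, Category.comp_id]
    rw [← h2, lift_fst]

end Smul

section BC

variable {S B : Scheme.{u}} (p : B ⟶ S) {G : Over S} [GrpObj G]

/-- The comparison isomorphism over `S`. -/
noncomputable def eIso {T : Scheme.{u}} {s : T ⟶ S} (b : T ⟶ B) (hb : b ≫ p = s) :
    (Over.map p).obj (Over.mk b) ≅ Over.mk s :=
  Over.isoMk (Iso.refl T) (by simpa using hb.symm)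

/-- A point of `G` over `b ≫ p` as a point of `G ×_S B` over `b`. -/
noncomputable def toBC {T : Scheme.{u}} {s : T ⟶ S} (b : T ⟶ B) (hb : b ≫ p = s)
    (c : Over.mk s ⟶ G) : Over.mk b ⟶ Red.bc p G :=
  Over.homMk (pullback.lift c.left b (by rw [Over.w c]; exact hb.symm))
    (pullback.lift_snd _ _ _)

omit [GrpObj G] in
theorem toBC_left_fst {T : Scheme.{u}} {s : T ⟶ S} (b : T ⟶ B) (hb : b ≫ p = s)
    (c : Over.mk s ⟶ G) : (toBC p b hb c).left ≫ pullback.fst G.hom p = c.left :=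
  pullback.lift_fst _ _ _

omit [GrpObj G] in
theorem toBC_left_snd {T : Scheme.{u}} {s : T ⟶ S} (b : T ⟶ B) (hb : b ≫ p = s)
    (c : Over.mk s ⟶ G) : (toBC p b hb c).left ≫ pullback.snd G.hom p = b :=
  pullback.lift_snd _ _ _

omit [GrpObj G] in
theorem homEquiv_symm_left (T' : Over B) (v : T' ⟶ (Over.pullback p).obj G) :
    (((Over.mapPullbackAdj p).homEquiv T' G).symm v).left = v.left ≫ pullback.fst G.hom p := by
  rw [Adjunction.homEquiv_counit]
  simp

omit [GrpObj G] in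
theorem homEquiv_left_fst (T' : Over B) (u : (Over.map p).obj T' ⟶ G) :
    ((Over.mapPullbackAdj p).homEquiv T' G u).left ≫ pullback.fst G.hom p = u.left := by
  rw [← homEquiv_symm_left, Equiv.symm_apply_apply]

theorem toBC_eq_homEquiv {T : Scheme.{u}} {s : T ⟶ S} (b : T ⟶ B) (hb : b ≫ p = s)
    (c : Over.mk s ⟶ G) :
    toBC p b hb c = (Over.mapPullbackAdj p).homEquiv (Over.mk b) G ((eIso p b hb).hom ≫ c) := by
  apply Over.OverMorphism.ext
  apply pullback.hom_ext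
  · rw [toBC_left_fst, homEquiv_left_fst, Over.comp_left]
    show c.left = 𝟙 T ≫ c.left
    rw [Category.id_comp]
  · rw [toBC_left_snd]
    exact (Over.w ((Over.mapPullbackAdj p).homEquiv (Over.mk b) G ((eIso p b hb).hom ≫ c))).symm

theorem toBC_mul {T : Scheme.{u}} {s : T ⟶ S} (b : T ⟶ B) (hb : b ≫ p = s)
    (c c' : Over.mk s ⟶ G) : toBC p b hb (c * c') = toBC p b hb c * toBC p b hb c' := by
  rw [toBC_eq_homEquiv, toBC_eq_homEquiv, toBC_eq_homEquiv, MonObj.comp_mul,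
    AlgGrp.Action.homEquiv_mul]

theorem toBC_one {T : Scheme.{u}} {s : T ⟶ S} (b : T ⟶ B) (hb : b ≫ p = s) :
    toBC p b hb (1 : Over.mk s ⟶ G) = 1 := by
  have h := toBC_mul p b hb (1 : Over.mk s ⟶ G) 1
  rw [_root_.mul_one] at h
  exact (mul_left_cancel (h.symm.trans (_root_.mul_one _).symm))

theorem toBC_inv {T : Scheme.{u}} {s : T ⟶ S} (b : T ⟶ B) (hb : b ≫ p = s)
    (c : Over.mk s ⟶ G) : toBC p b hb c⁻¹ = (toBC p b hb c)⁻¹ := by
  apply eq_inv_of_mul_eq_one_left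
  rw [← toBC_mul, inv_mul_cancel, toBC_one]

theorem toBC_comp {T T' : Scheme.{u}} {s : T ⟶ S} {s' : T' ⟶ S} (f : T' ⟶ T) (b : T ⟶ B)
    (hb : b ≫ p = s) (b' : T' ⟶ B) (hb' : b' ≫ p = s') (hfb : f ≫ b = b') (hfs : f ≫ s = s')
    (c : Over.mk s ⟶ G) :
    (Over.homMk f hfb : Over.mk b' ⟶ Over.mk b) ≫ toBC p b hb c =
      toBC p b' hb' ((Over.homMk f hfs : Over.mk s' ⟶ Over.mk s) ≫ c) := by
  apply Over.OverMorphism.ext
  apply pullback.hom_ext
  · rw [Over.comp_left, Category.assoc, toBC_left_fst, toBC_left_fst, Over.comp_left]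
    rfl
  · rw [Over.comp_left, Category.assoc, toBC_left_snd, toBC_left_snd]
    exact hfb

/-- A point of `G ×_S B` over `b` as a point of `G` over `b ≫ p`. -/
noncomputable def fromBC {T : Scheme.{u}} {s : T ⟶ S} (b : T ⟶ B) (hb : b ≫ p = s)
    (g : Over.mk b ⟶ Red.bc p G) : Over.mk s ⟶ G :=
  Over.homMk (g.left ≫ pullback.fst G.hom p) (by
    have h := Over.w g
    have h' : g.left ≫ pullback.snd G.hom p = b := h
    show (g.left ≫ pullback.fst G.hom p) ≫ G.hom = s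
    rw [Category.assoc, pullback.condition, ← Category.assoc, h', hb])

theorem toBC_fromBC {T : Scheme.{u}} {s : T ⟶ S} (b : T ⟶ B) (hb : b ≫ p = s)
    (g : Over.mk b ⟶ Red.bc p G) : toBC p b hb (fromBC p b hb g) = g := by
  apply Over.OverMorphism.ext
  apply pullback.hom_ext
  · rw [toBC_left_fst]
    rfl
  · rw [toBC_left_snd]
    exact (Over.w g).symm

theorem fromBC_toBC {T : Scheme.{u}} {s : T ⟶ S} (b : T ⟶ B) (hb : b ≫ p = s)
    (c : Over.mk s ⟶ G) : fromBC p b hb (toBC p b hb c) = c := by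
  apply Over.OverMorphism.ext
  exact toBC_left_fst p b hb c

variable {Z : Over B} (a : AlgGrp.Action (Red.bc p G) Z)

/-- The action of a point of `G` (over `S`) on a plain point of `Z`. -/
noncomputable def sm {T : Scheme.{u}} {s : T ⟶ S} (c : Over.mk s ⟶ G) (x : T ⟶ Z.left)
    (hx : (x ≫ Z.hom) ≫ p = s) : T ⟶ Z.left :=
  (smul a (toBC p (x ≫ Z.hom) hx c) (Over.homMk x rfl : Over.mk (x ≫ Z.hom) ⟶ Z)).left

theorem sm_eq {T : Scheme.{u}} {s : T ⟶ S} (c : Over.mk s ⟶ G) (x : T ⟶ Z.left)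
    (hx : (x ≫ Z.hom) ≫ p = s) (b : T ⟶ B) (hxb : x ≫ Z.hom = b) :
    sm p a c x hx = (smul a (toBC p b (by rw [← hxb]; exact hx) c)
      (Over.homMk x hxb : Over.mk b ⟶ Z)).left := by
  subst hxb
  rfl

theorem sm_hom {T : Scheme.{u}} {s : T ⟶ S} (c : Over.mk s ⟶ G) (x : T ⟶ Z.left)
    (hx : (x ≫ Z.hom) ≫ p = s) : sm p a c x hx ≫ Z.hom = x ≫ Z.hom :=
  Over.w (smul a (toBC p (x ≫ Z.hom) hx c) (Over.homMk x rfl : Over.mk (x ≫ Z.hom) ⟶ Z))

theorem sm_congr {T : Scheme.{u}} {s : T ⟶ S} {c c' : Over.mk s ⟶ G} {x x' : T ⟶ Z.left}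
    (hcc : c = c') (hxx : x = x') (hx : (x ≫ Z.hom) ≫ p = s) :
    sm p a c x hx = sm p a c' x' (by rw [← hxx]; exact hx) := by
  subst hcc hxx
  rfl

theorem one_sm {T : Scheme.{u}} {s : T ⟶ S} (x : T ⟶ Z.left) (hx : (x ≫ Z.hom) ≫ p = s) :
    sm p a (1 : Over.mk s ⟶ G) x hx = x := by
  unfold sm
  rw [toBC_one, one_smul]
  rfl

theorem mul_sm {T : Scheme.{u}} {s : T ⟶ S} (c c' : Over.mk s ⟶ G) (x : T ⟶ Z.left)
    (hx : (x ≫ Z.hom) ≫ p = s) :
    sm p a (c * c') x hx =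
      sm p a c (sm p a c' x hx) (by rw [sm_hom]; exact hx) := by
  rw [sm_eq p a c (sm p a c' x hx) _ (x ≫ Z.hom) (sm_hom p a c' x hx)]
  unfold sm
  rw [toBC_mul, mul_smul]
  rfl

theorem comp_sm {T T' : Scheme.{u}} {s : T ⟶ S} {s' : T' ⟶ S} (f : T' ⟶ T) (hfs : f ≫ s = s')
    (c : Over.mk s ⟶ G) (x : T ⟶ Z.left) (hx : (x ≫ Z.hom) ≫ p = s) :
    f ≫ sm p a c x hx =
      sm p a ((Over.homMk f hfs : Over.mk s' ⟶ Over.mk s) ≫ c) (f ≫ x)
        (by rw [Category.assoc, Category.assoc, ← hfs, ← hx, Category.assoc]) := by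
  rw [sm_eq p a _ (f ≫ x) _ (f ≫ (x ≫ Z.hom)) (Category.assoc _ _ _)]
  unfold sm
  have h := comp_smul a (Over.homMk f rfl : Over.mk (f ≫ (x ≫ Z.hom)) ⟶ Over.mk (x ≫ Z.hom))
    (toBC p (x ≫ Z.hom) hx c) (Over.homMk x rfl : Over.mk (x ≫ Z.hom) ⟶ Z)
  rw [toBC_comp p f (x ≫ Z.hom) hx (f ≫ (x ≫ Z.hom))
    (by rw [Category.assoc, ← hfs, ← hx, Category.assoc]) rfl hfs c] at h
  exact congrArg CommaMorphism.left h

theorem exists_unique_sm (ha : NonAbH1.IsPseudoTorsorSch a) {T : Scheme.{u}} {s : T ⟶ S}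
    (x y : T ⟶ Z.left) (hxy : y ≫ Z.hom = x ≫ Z.hom) (hx : (x ≫ Z.hom) ≫ p = s) :
    ∃! c : Over.mk s ⟶ G, sm p a c x hx = y := by
  obtain ⟨g, hg, huniq⟩ := exists_unique_smul a ha
    (Over.homMk x rfl : Over.mk (x ≫ Z.hom) ⟶ Z) (Over.homMk y hxy)
  refine ⟨fromBC p _ hx g, ?_, ?_⟩
  · show (smul a (toBC p _ hx (fromBC p _ hx g)) _).left = y
    rw [toBC_fromBC, hg]
    rfl
  · intro c hc
    have h1 : toBC p _ hx c = g := huniq _ (Over.OverMorphism.ext hc)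
    rw [← h1, fromBC_toBC]

/-- The difference of two points of a pseudo-torsor over the same point of the base. -/
noncomputable def df (ha : NonAbH1.IsPseudoTorsorSch a) {T : Scheme.{u}} {s : T ⟶ S}
    (x y : T ⟶ Z.left) (hxy : y ≫ Z.hom = x ≫ Z.hom) (hx : (x ≫ Z.hom) ≫ p = s) :
    Over.mk s ⟶ G :=
  (exists_unique_sm p a ha x y hxy hx).choose

theorem sm_df (ha : NonAbH1.IsPseudoTorsorSch a) {T : Scheme.{u}} {s : T ⟶ S}
    (x y : T ⟶ Z.left) (hxy : y ≫ Z.hom = x ≫ Z.hom) (hx : (x ≫ Z.hom) ≫ p = s) :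
    sm p a (df p a ha x y hxy hx) x hx = y :=
  (exists_unique_sm p a ha x y hxy hx).choose_spec.1

theorem eq_df (ha : NonAbH1.IsPseudoTorsorSch a) {T : Scheme.{u}} {s : T ⟶ S}
    (x y : T ⟶ Z.left) (hxy : y ≫ Z.hom = x ≫ Z.hom) (hx : (x ≫ Z.hom) ≫ p = s)
    (c : Over.mk s ⟶ G) (h : sm p a c x hx = y) : c = df p a ha x y hxy hx :=
  (exists_unique_sm p a ha x y hxy hx).choose_spec.2 c h

theorem sm_cancel (ha : NonAbH1.IsPseudoTorsorSch a) {T : Scheme.{u}} {s : T ⟶ S}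
    (x : T ⟶ Z.left) (hx : (x ≫ Z.hom) ≫ p = s) (c c' : Over.mk s ⟶ G)
    (h : sm p a c x hx = sm p a c' x hx) : c = c' := by
  have hxy : sm p a c' x hx ≫ Z.hom = x ≫ Z.hom := sm_hom p a c' x hx
  exact (eq_df p a ha x _ hxy hx c h).trans (eq_df p a ha x _ hxy hx c' rfl).symm

end BC

end Groth.Agent.Lib.TLineH4
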