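import Mathlib

/-!
# Conductor-type fibre squares of rings (helper4)

`Cond s K`: the element `s` of the ring `E` acts bijectively on the ideal `K`.  Then
`E = E/K ×_{E_s/K E_s} E_s`.  This file contains the ring-level statements:
stability under localisation, joint injectivity of `E → E/K × E_s`, and the
construction of ring homs into `E` from compatible pairs.
-/

set_option autoImplicit false
universe u

namespace Groth.Agent.Lib.GlueH4

variable {E : Type*} [CommRing E]

/-- `s` acts bijectively on the ideal `K`. -/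
structure Cond (s : E) (K : Ideal E) : Prop where
  surj : ∀ k ∈ K, ∃ k' ∈ K, s * k' = k
  inj : ∀ k ∈ K, s * k = 0 → k = 0

namespace Cond

variable {s : E} {K : Ideal E}

theorem pow_inj (hc : Cond s K) (n : ℕ) : ∀ k ∈ K, s ^ n * k = 0 → k = 0 := by
  induction n with
  | zero => intro k _ h; simpa using h
  | succ n ih =>
    intro k hk h
    have h1 : s ^ n * (s * k) = 0 := by rw [← h]; ring
    exact hc.inj k hk (ih (s * k) (K.mul_mem_left s hk) h1)

theorem pow_surj (hc : Cond s K) (n : ℕ) : ∀ k ∈ K, ∃ k' ∈ K, s ^ n * k' = k := by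
  induction n with
  | zero => intro k hk; exact ⟨k, hk, by simp⟩
  | succ n ih =>
    intro k hk
    obtain ⟨k1, hk1, h1⟩ := ih k hk
    obtain ⟨k2, hk2, h2⟩ := hc.surj k1 hk1
    exact ⟨k2, hk2, by rw [← h1, ← h2]; ring⟩

/-- Every element of `K E_s` is the image of an element of `K`. -/
theorem mem_map (hc : Cond s K) {Es : Type*} [CommRing Es] [Algebra E Es]
    [IsLocalization.Away s Es] (y : Es) (hy : y ∈ K.map (algebraMap E Es)) :
    ∃ k ∈ K, algebraMap E Es k = y := by
  obtain ⟨⟨⟨k, hk⟩, ⟨m, n, rfl⟩⟩, h⟩ :=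
    (IsLocalization.mem_map_algebraMap_iff (Submonoid.powers s) Es).mp hy
  obtain ⟨k', hk', h'⟩ := hc.pow_surj n k hk
  refine ⟨k', hk', ?_⟩
  have hu : IsUnit (algebraMap E Es (s ^ n)) :=
    IsLocalization.map_units Es (⟨s ^ n, n, rfl⟩ : Submonoid.powers s)
  apply hu.mul_right_cancel
  simp only at h
  rw [h, ← h', map_mul, mul_comm]

/-- Stability under localisation. -/
theorem localization (hc : Cond s K) (M : Submonoid E) {E' : Type*} [CommRing E'] [Algebra E E']
    [IsLocalization M E'] : Cond (algebraMap E E' s) (K.map (algebraMap E E')) := by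
  constructor
  · intro y hy
    obtain ⟨⟨⟨k, hk⟩, m⟩, h⟩ := (IsLocalization.mem_map_algebraMap_iff M E').mp hy
    simp only at h
    obtain ⟨k', hk', h'⟩ := hc.surj k hk
    refine ⟨IsLocalization.mk' E' k' m, ?_, ?_⟩
    · rw [IsLocalization.mk'_mem_map_algebraMap_iff]
      exact ⟨1, M.one_mem, by simpa using hk'⟩
    · have hu : IsUnit (algebraMap E E' m) := IsLocalization.map_units E' m
      apply hu.mul_right_cancel
      rw [h, mul_assoc, IsLocalization.mk'_spec, ← map_mul, h']
  · intro y hy h0
    obtain ⟨⟨⟨k, hk⟩, m⟩, h⟩ := (IsLocalization.mem_map_algebraMap_iff M E').mp hy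
    simp only at h
    have hu : IsUnit (algebraMap E E' m) := IsLocalization.map_units E' m
    have h1 : algebraMap E E' (s * k) = 0 := by
      rw [map_mul, ← h, ← mul_assoc, h0, zero_mul]
    obtain ⟨m', hm'⟩ := (IsLocalization.map_eq_zero_iff M E' _).mp h1
    have h2 : (m' : E) * k = 0 := by
      apply hc.inj _ (K.mul_mem_left _ hk)
      rw [← hm']; ring
    apply hu.mul_right_cancel
    rw [h, zero_mul]
    have hu' : IsUnit (algebraMap E E' m') := IsLocalization.map_units E' m'
    apply hu'.mul_left_cancel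
    rw [← map_mul, h2, map_zero, mul_zero]

/-- Joint injectivity of `E → E/K × E_s`. -/
theorem joint_inj (hc : Cond s K) {Es : Type*} [CommRing Es] [Algebra E Es]
    [IsLocalization.Away s Es] (x : E) (h1 : x ∈ K) (h2 : algebraMap E Es x = 0) : x = 0 := by
  obtain ⟨⟨m, n, rfl⟩, hm⟩ := (IsLocalization.map_eq_zero_iff (Submonoid.powers s) Es x).mp h2
  exact hc.pow_inj n x h1 hm

theorem joint_inj' (hc : Cond s K) {Es : Type*} [CommRing Es] [Algebra E Es]
    [IsLocalization.Away s Es] (x y : E) (h1 : Ideal.Quotient.mk K x = Ideal.Quotient.mk K y)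
    (h2 : algebraMap E Es x = algebraMap E Es y) : x = y := by
  rw [← sub_eq_zero]
  apply hc.joint_inj (Es := Es)
  · exact Ideal.Quotient.eq.mp h1
  · rw [map_sub, h2, sub_self]

theorem exists_lift (hc : Cond s K) {Es : Type*} [CommRing Es] [Algebra E Es]
    [IsLocalization.Away s Es] (a₀ : E) (β : Es)
    (h : β - algebraMap E Es a₀ ∈ K.map (algebraMap E Es)) :
    ∃ x, Ideal.Quotient.mk K x = Ideal.Quotient.mk K a₀ ∧ algebraMap E Es x = β := by
  obtain ⟨k, hk, hk'⟩ := hc.mem_map _ h
  refine ⟨a₀ + k, ?_, ?_⟩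
  · rw [map_add, Ideal.Quotient.eq_zero_iff_mem.mpr hk, add_zero]
  · rw [map_add, hk']; ring

/-- Ring homs into `E` from compatible pairs of ring homs into `E/K` and `E_s`. -/
theorem exists_ringHom (hc : Cond s K) {Es : Type*} [CommRing Es] [Algebra E Es]
    [IsLocalization.Away s Es] {Γ : Type*} [CommRing Γ]
    (α : Γ →+* E ⧸ K) (β : Γ →+* Es)
    (h : (Ideal.quotientMap (K.map (algebraMap E Es)) (algebraMap E Es) Ideal.le_comap_map).comp α =
      (Ideal.Quotient.mk (K.map (algebraMap E Es))).comp β) :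
    ∃ γ : Γ →+* E, (Ideal.Quotient.mk K).comp γ = α ∧ (algebraMap E Es).comp γ = β := by
  have hex : ∀ x : Γ, ∃ e : E, Ideal.Quotient.mk K e = α x ∧ algebraMap E Es e = β x := by
    intro x
    obtain ⟨a₀, ha₀⟩ := Ideal.Quotient.mk_surjective (α x)
    have h1 := congrArg (fun φ => φ x) h
    simp only [RingHom.comp_apply] at h1
    rw [← ha₀, Ideal.quotientMap_mk] at h1
    have h2 : β x - algebraMap E Es a₀ ∈ K.map (algebraMap E Es) := by
      rw [← Ideal.Quotient.eq]; exact h1.symm
    obtain ⟨e, he1, he2⟩ := hc.exists_lift (Es := Es) a₀ (β x) h2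
    exact ⟨e, he1.trans ha₀, he2⟩
  choose γf hγ1 hγ2 using hex
  have huniq : ∀ e e' : E, Ideal.Quotient.mk K e = Ideal.Quotient.mk K e' →
      algebraMap E Es e = algebraMap E Es e' → e = e' := fun e e' => hc.joint_inj' (Es := Es) e e'
  refine ⟨{ toFun := γf, map_one' := ?_, map_mul' := ?_, map_zero' := ?_, map_add' := ?_ }, ?_, ?_⟩
  · apply huniq
    · rw [hγ1, map_one, map_one]
    · rw [hγ2, map_one, map_one]
  · intro x y
    apply huniq
    · rw [hγ1, map_mul, map_mul, hγ1, hγ1]
    · rw [hγ2, map_mul, map_mul, hγ2, hγ2]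
  · apply huniq
    · rw [hγ1, map_zero, map_zero]
    · rw [hγ2, map_zero, map_zero]
  · intro x y
    apply huniq
    · rw [hγ1, map_add, map_add, hγ1, hγ1]
    · rw [hγ2, map_add, map_add, hγ2, hγ2]
  · ext x; exact hγ1 x
  · ext x; exact hγ2 x

end Cond

/-- The map induced on away-localisations by a ring hom with `lam s = s'`. -/
noncomputable def awayMap' {E' : Type*} [CommRing E'] (lam : E →+* E') {s : E} {s' : E'}
    (hs : lam s = s') : Localization.Away s →+* Localization.Away s' :=
  IsLocalization.Away.lift (S := Localization.Away s) s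
    (g := (algebraMap E' (Localization.Away s')).comp lam)
    (by
      rw [RingHom.comp_apply, hs]
      exact IsLocalization.Away.algebraMap_isUnit s')

theorem awayMap'_comp {E' : Type*} [CommRing E'] (lam : E →+* E') {s : E} {s' : E'}
    (hs : lam s = s') :
    (awayMap' lam hs).comp (algebraMap E (Localization.Away s)) =
      (algebraMap E' (Localization.Away s')).comp lam :=
  IsLocalization.Away.lift_comp _ _

theorem awayMap'_algebraMap {E' : Type*} [CommRing E'] (lam : E →+* E') {s : E} {s' : E'}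
    (hs : lam s = s') (e : E) :
    awayMap' lam hs (algebraMap E (Localization.Away s) e) =
      algebraMap E' (Localization.Away s') (lam e) :=
  congrArg (fun φ => φ e) (awayMap'_comp lam hs)

theorem away_hom_ext {s : E} {B : Type*} [CommRing B] (φ ψ : Localization.Away s →+* B)
    (h : φ.comp (algebraMap E (Localization.Away s)) =
      ψ.comp (algebraMap E (Localization.Away s))) : φ = ψ :=
  IsLocalization.ringHom_ext (Submonoid.powers s) h

theorem awayMap'_awayMap' {E' E'' : Type*} [CommRing E'] [CommRing E''] (lam : E →+* E')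
    (mu : E' →+* E'') {s : E} {s' : E'} {s'' : E''} (hs : lam s = s') (hs' : mu s' = s'') :
    (awayMap' mu hs').comp (awayMap' lam hs) =
      awayMap' (mu.comp lam) (show (mu.comp lam) s = s'' by rw [RingHom.comp_apply, hs, hs']) := by
  apply away_hom_ext
  rw [RingHom.comp_assoc, awayMap'_comp, ← RingHom.comp_assoc, awayMap'_comp, awayMap'_comp,
    RingHom.comp_assoc]

end Groth.Agent.Lib.GlueH4
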