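import Mathlib
import Groth.Agent.Lib.GlueA_helper4

/-!
# Morphisms out of `Spec E` for a conductor square: uniqueness (helper4)

For `Cond s K` on a ring `E` and an arbitrary scheme `G`, a morphism `Spec E ⟶ G` is determined
by its restrictions to `Spec (E/K)` and `Spec E_s`.
-/

set_option autoImplicit false
universe u
open CategoryTheory CategoryTheory.Limits AlgebraicGeometry

namespace Groth.Agent.Lib.GlueH4

/-- `Spec` of a ring hom between unbundled rings. -/
noncomputable abbrev SpM {A B : Type u} [CommRing A] [CommRing B] (f : A →+* B) :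
    Spec (CommRingCat.of B) ⟶ Spec (CommRingCat.of A) :=
  Spec.map (CommRingCat.ofHom f)

theorem SpM_comp {A B C : Type u} [CommRing A] [CommRing B] [CommRing C] (f : A →+* B)
    (g : B →+* C) : SpM (g.comp f) = SpM g ≫ SpM f := by
  rw [SpM, CommRingCat.ofHom_comp, Spec.map_comp]

theorem SpM_apply {A B : Type u} [CommRing A] [CommRing B] (f : A →+* B)
    (x : Spec (CommRingCat.of B)) : SpM f x = PrimeSpectrum.comap f x := rfl

/-- A morphism from an affine scheme landing in an affine open factors through it. -/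
theorem exists_factor {G : Scheme.{u}} {W : G.Opens} (hW : IsAffineOpen W) {T : CommRingCat.{u}}
    (c : Spec T ⟶ G) (h : ∀ x : Spec T, c x ∈ W) :
    ∃ ψ : Γ(G, W) ⟶ T, Spec.map ψ ≫ hW.fromSpec = c := by
  have hr : Set.range c ⊆ Set.range hW.fromSpec := by
    rw [hW.range_fromSpec]
    rintro _ ⟨x, rfl⟩
    exact h x
  obtain ⟨ψ, hψ⟩ := Spec.map_surjective (IsOpenImmersion.lift hW.fromSpec c hr)
  exact ⟨ψ, by rw [hψ, IsOpenImmersion.lift_fac]⟩

theorem factor_unique {G : Scheme.{u}} {W : G.Opens} (hW : IsAffineOpen W) {T : CommRingCat.{u}}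
    (ψ ψ' : Γ(G, W) ⟶ T) (h : Spec.map ψ ≫ hW.fromSpec = Spec.map ψ' ≫ hW.fromSpec) : ψ = ψ' :=
  Spec.map_injective ((cancel_mono hW.fromSpec).mp h)

/-- Transport an equality of restrictions along a commutative square of rings. -/
theorem eq_of_square {A B C D : Type u} [CommRing A] [CommRing B] [CommRing C] [CommRing D]
    {G : Scheme.{u}} (p : A →+* B) (v : A →+* C) (p' : B →+* D) (v' : C →+* D)
    (hsq : p'.comp p = v'.comp v) (c c' : Spec (CommRingCat.of A) ⟶ G)
    (h : SpM v ≫ c = SpM v ≫ c') : SpM p' ≫ SpM p ≫ c = SpM p' ≫ SpM p ≫ c' := by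
  rw [← Category.assoc, ← Category.assoc, ← SpM_comp, hsq, SpM_comp, Category.assoc,
    Category.assoc, h]

/-- For ring homs `ψ ψ'` into `T` (as maps from sections over an affine open `W`), equality of
the induced morphisms after restriction along `q : T → D` gives `q ∘ ψ = q ∘ ψ'`. -/
theorem comp_eq_of_SpM_eq {G : Scheme.{u}} {W : G.Opens} (hW : IsAffineOpen W)
    {T D : Type u} [CommRing T] [CommRing D] (q : T →+* D)
    (ψ ψ' : Γ(G, W) ⟶ CommRingCat.of T)
    (h : SpM q ≫ Spec.map ψ ≫ hW.fromSpec = SpM q ≫ Spec.map ψ' ≫ hW.fromSpec) (g : Γ(G, W)) :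
    q (ψ.hom g) = q (ψ'.hom g) := by
  have h1 : Spec.map (ψ ≫ CommRingCat.ofHom q) ≫ hW.fromSpec =
      Spec.map (ψ' ≫ CommRingCat.ofHom q) ≫ hW.fromSpec := by
    rw [Spec.map_comp, Spec.map_comp, Category.assoc, Category.assoc]
    exact h
  have h2 := factor_unique hW _ _ h1
  have h3 := congrArg (fun φ : Γ(G, W) ⟶ CommRingCat.of D => φ.hom g) h2
  simpa using h3

theorem glue_unique {E : Type u} [CommRing E] {s : E} {K : Ideal E} (hc : Cond s K)
    {G : Scheme.{u}} (c c' : Spec (CommRingCat.of E) ⟶ G)
    (h1 : SpM (Ideal.Quotient.mk K) ≫ c = SpM (Ideal.Quotient.mk K) ≫ c')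
    (h2 : SpM (algebraMap E (Localization.Away s)) ≫ c =
      SpM (algebraMap E (Localization.Away s)) ≫ c') : c = c' := by
  classical
  let Sg : Set E := {h | SpM (algebraMap E (Localization.Away h)) ≫ c =
    SpM (algebraMap E (Localization.Away h)) ≫ c'}
  have hspan : Ideal.span Sg = ⊤ := by
    by_contra hne
    obtain ⟨M, hM, hle⟩ := Ideal.exists_le_maximal _ hne
    have hSM : ∀ h ∈ Sg, h ∈ M := fun h hh => hle (Ideal.subset_span hh)
    by_cases hs : s ∈ M
    · have hMp : M.IsPrime := hM.isPrime
      have hK : K ≤ M := by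
        intro k hk
        obtain ⟨k', -, rfl⟩ := hc.surj k hk
        exact M.mul_mem_right _ hs
      let x : Spec (CommRingCat.of E) := (⟨M, hMp⟩ : PrimeSpectrum E)
      obtain ⟨xb, hxb⟩ : ∃ xb : Spec (CommRingCat.of (E ⧸ K)),
          SpM (Ideal.Quotient.mk K) xb = x := by
        have hx : (⟨M, hMp⟩ : PrimeSpectrum E) ∈
            Set.range (PrimeSpectrum.comap (Ideal.Quotient.mk K)) := by
          rw [range_comap_of_surjective _ _ Ideal.Quotient.mk_surjective, Ideal.mk_ker]
          exact hK
        exact hx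
      have hpt : c x = c' x := by
        have h3 := congrArg (fun f : Spec (CommRingCat.of (E ⧸ K)) ⟶ G => f xb) h1
        simp only [Scheme.Hom.comp_apply] at h3
        rw [hxb] at h3
        exact h3
      obtain ⟨_, ⟨W, hW, rfl⟩, hyW, -⟩ := G.isBasis_affineOpens.exists_subset_of_mem_open
        (Set.mem_univ (c x)) isOpen_univ
      have hyW' : c' x ∈ W := hpt ▸ hyW
      have hUo : IsOpen {z : PrimeSpectrum E | c z ∈ W ∧ c' z ∈ W} :=
        (W.2.preimage c.continuous).inter (W.2.preimage c'.continuous)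
      obtain ⟨_, ⟨h, rfl⟩, hxh, hhU⟩ :=
        PrimeSpectrum.isTopologicalBasis_basic_opens.exists_subset_of_mem_open
          (show (⟨M, hMp⟩ : PrimeSpectrum E) ∈ {z : PrimeSpectrum E | c z ∈ W ∧ c' z ∈ W}
            from ⟨hyW, hyW'⟩) hUo
      dsimp only at hxh hhU
      have hhM : h ∉ M := hxh
      apply hhM
      apply hSM
      -- `h ∈ Sg`
      show SpM (algebraMap E (Localization.Away h)) ≫ c =
        SpM (algebraMap E (Localization.Away h)) ≫ c'
      have hland : ∀ z : Spec (CommRingCat.of (Localization.Away h)),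
          PrimeSpectrum.comap (algebraMap E (Localization.Away h)) z ∈
            {z : PrimeSpectrum E | c z ∈ W ∧ c' z ∈ W} := by
        intro z
        apply hhU
        have := PrimeSpectrum.localization_away_comap_range (Localization.Away h) h
        rw [← this]
        exact ⟨z, rfl⟩
      obtain ⟨ψ, hψ⟩ := exists_factor hW (SpM (algebraMap E (Localization.Away h)) ≫ c)
        (fun z => by
          rw [Scheme.Hom.comp_apply, SpM_apply]
          exact (hland z).1)
      obtain ⟨ψ', hψ'⟩ := exists_factor hW (SpM (algebraMap E (Localization.Away h)) ≫ c')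
        (fun z => by
          rw [Scheme.Hom.comp_apply, SpM_apply]
          exact (hland z).2)
      have hc' := hc.localization (Submonoid.powers h) (E' := Localization.Away h)
      have hψψ' : ψ = ψ' := by
        refine CommRingCat.hom_ext (RingHom.ext fun g => ?_)
        apply hc'.joint_inj' (Es := Localization.Away (algebraMap E (Localization.Away h) s))
        · apply comp_eq_of_SpM_eq hW
          rw [hψ, hψ']
          exact eq_of_square _ _ _ _ (Ideal.quotientMap_comp_mk Ideal.le_comap_map).symm c c' h1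
        · apply comp_eq_of_SpM_eq hW
          rw [hψ, hψ']
          exact eq_of_square _ _ _ _
            (awayMap'_comp (algebraMap E (Localization.Away h)) rfl).symm c c' h2
      rw [← hψ, ← hψ', hψψ']
    · exact hs (hSM s h2)
  let 𝒰 := (Scheme.affineOpenCoverOfSpanRangeEqTop (R := CommRingCat.of E)
    (fun h : Sg => (h : E)) (by rw [Subtype.range_coe]; exact hspan)).openCover
  exact 𝒰.hom_ext c c' (fun i => i.2)

end Groth.Agent.Lib.GlueH4
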