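import Mathlib
import Groth.Agent.Lib.GlueB_helper4

/-!
# Glueing data on a conductor square and their solutions (helper4)

`GlueData E s K G`: a morphism `a : Spec (E/K) ⟶ G` and a morphism `b : Spec E_s ⟶ G`
agreeing on `Spec (E_s / K E_s)`.  `IsSol D c`: `c : Spec E ⟶ G` restricts to `a` and `b`.
Restriction of data and solutions along morphisms of triples.
-/

set_option autoImplicit false
universe u
open CategoryTheory CategoryTheory.Limits AlgebraicGeometry

namespace Groth.Agent.Lib.GlueH4

variable {E : Type u} [CommRing E]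

/-- The overlap ring `E_s / K E_s`. -/
abbrev Ovl (s : E) (K : Ideal E) : Type u :=
  Localization.Away s ⧸ K.map (algebraMap E (Localization.Away s))

/-- `E/K → E_s / K E_s`. -/
noncomputable abbrev ovlP (s : E) (K : Ideal E) : E ⧸ K →+* Ovl s K :=
  Ideal.quotientMap (K.map (algebraMap E (Localization.Away s)))
    (algebraMap E (Localization.Away s)) Ideal.le_comap_map

/-- `E_s → E_s / K E_s`. -/
noncomputable abbrev ovlQ (s : E) (K : Ideal E) : Localization.Away s →+* Ovl s K :=
  Ideal.Quotient.mk (K.map (algebraMap E (Localization.Away s)))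

/-- Glueing data. -/
structure GlueData (E : Type u) [CommRing E] (s : E) (K : Ideal E) (G : Scheme.{u}) where
  /-- the morphism on the closed part -/
  a : Spec (CommRingCat.of (E ⧸ K)) ⟶ G
  /-- the morphism on the open part -/
  b : Spec (CommRingCat.of (Localization.Away s)) ⟶ G
  compat : SpM (ovlP s K) ≫ a = SpM (ovlQ s K) ≫ b

variable {s : E} {K : Ideal E} {G : Scheme.{u}}

theorem GlueData.ext' {D D' : GlueData E s K G} (ha : D.a = D'.a) (hb : D.b = D'.b) : D = D' := by
  cases D; cases D'; simp only at ha hb; subst ha; subst hb; rfl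

/-- `c` is a solution of the glueing problem `D`. -/
def IsSol (D : GlueData E s K G) (c : Spec (CommRingCat.of E) ⟶ G) : Prop :=
  SpM (Ideal.Quotient.mk K) ≫ c = D.a ∧ SpM (algebraMap E (Localization.Away s)) ≫ c = D.b

theorem IsSol.unique (hc : Cond s K) {D : GlueData E s K G} {c c' : Spec (CommRingCat.of E) ⟶ G}
    (h : IsSol D c) (h' : IsSol D c') : c = c' :=
  glue_unique hc c c' (h.1.trans h'.1.symm) (h.2.trans h'.2.symm)

section Res

variable {E' : Type u} [CommRing E'] {s' : E'} {K' : Ideal E'}

/-- the map of overlap rings induced by a morphism of triples -/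
noncomputable def ovlMap (lam : E →+* E') (hs : lam s = s') (hK : K.map lam ≤ K') :
    Ovl s K →+* Ovl s' K' :=
  Ideal.quotientMap _ (awayMap' lam hs) (by
    rw [← Ideal.map_le_iff_le_comap, Ideal.map_map, awayMap'_comp, ← Ideal.map_map]
    exact Ideal.map_mono hK)

theorem ovlMap_comp_Q (lam : E →+* E') (hs : lam s = s') (hK : K.map lam ≤ K') :
    (ovlMap lam hs hK).comp (ovlQ s K) = (ovlQ s' K').comp (awayMap' lam hs) :=
  Ideal.quotientMap_comp_mk _

theorem ovlMap_comp_P (lam : E →+* E') (hs : lam s = s') (hK : K.map lam ≤ K') :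
    (ovlMap lam hs hK).comp (ovlP s K) =
      (ovlP s' K').comp (Ideal.quotientMap K' lam (Ideal.map_le_iff_le_comap.mp hK)) := by
  apply Ideal.Quotient.ringHom_ext
  ext e
  simp only [RingHom.comp_apply, Ideal.quotientMap_mk, ovlMap, awayMap'_algebraMap]

/-- Restriction of glueing data along a morphism of triples. -/
noncomputable def GlueData.res (D : GlueData E s K G) (lam : E →+* E') (hs : lam s = s')
    (hK : K.map lam ≤ K') : GlueData E' s' K' G where
  a := SpM (Ideal.quotientMap K' lam (Ideal.map_le_iff_le_comap.mp hK)) ≫ D.a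
  b := SpM (awayMap' lam hs) ≫ D.b
  compat := by
    rw [← Category.assoc, ← SpM_comp, ← ovlMap_comp_P lam hs hK, SpM_comp, Category.assoc,
      D.compat, ← Category.assoc, ← SpM_comp, ovlMap_comp_Q lam hs hK, SpM_comp, Category.assoc]

theorem GlueData.res_congr (D : GlueData E s K G) {lam lam' : E →+* E'} (h : lam = lam')
    (hs : lam s = s') (hK : K.map lam ≤ K') (hs' : lam' s = s') (hK' : K.map lam' ≤ K') :
    D.res lam hs hK = D.res lam' hs' hK' := by
  subst h; rfl

theorem IsSol.res {D : GlueData E s K G} {c : Spec (CommRingCat.of E) ⟶ G} (h : IsSol D c)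
    (lam : E →+* E') (hs : lam s = s') (hK : K.map lam ≤ K') :
    IsSol (D.res lam hs hK) (SpM lam ≫ c) := by
  constructor
  · show SpM (Ideal.Quotient.mk K') ≫ SpM lam ≫ c = SpM _ ≫ D.a
    rw [← h.1, ← Category.assoc, ← Category.assoc, ← SpM_comp, ← SpM_comp,
      Ideal.quotientMap_comp_mk]
  · show SpM (algebraMap E' (Localization.Away s')) ≫ SpM lam ≫ c = SpM _ ≫ D.b
    rw [← h.2, ← Category.assoc, ← Category.assoc, ← SpM_comp, ← SpM_comp, awayMap'_comp]

variable {E'' : Type u} [CommRing E''] {s'' : E''} {K'' : Ideal E''}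

theorem GlueData.res_res (D : GlueData E s K G) (lam : E →+* E') (hs : lam s = s')
    (hK : K.map lam ≤ K') (mu : E' →+* E'') (hs' : mu s' = s'') (hK' : K'.map mu ≤ K'') :
    (D.res lam hs hK).res mu hs' hK' =
      D.res (mu.comp lam) (show (mu.comp lam) s = s'' by rw [RingHom.comp_apply, hs, hs'])
        (show K.map (mu.comp lam) ≤ K'' by
          rw [← Ideal.map_map]; exact (Ideal.map_mono hK).trans hK') := by
  apply GlueData.ext'
  · show SpM _ ≫ SpM _ ≫ D.a = SpM _ ≫ D.a
    rw [← Category.assoc, ← SpM_comp]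
    congr 2
    apply Ideal.Quotient.ringHom_ext
    ext e
    simp only [RingHom.comp_apply, Ideal.quotientMap_mk]
  · show SpM _ ≫ SpM _ ≫ D.b = SpM _ ≫ D.b
    rw [← Category.assoc, ← SpM_comp, awayMap'_awayMap']

end Res

end Groth.Agent.Lib.GlueH4
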