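import Mathlib
import Groth.Agent.Lib.GlueC_helper4

/-!
# Existence of solutions of glueing problems on a conductor square (helper4)
-/

set_option autoImplicit false
universe u
open CategoryTheory CategoryTheory.Limits AlgebraicGeometry

namespace Groth.Agent.Lib.GlueH4

variable {E : Type u} [CommRing E] {s : E} {K : Ideal E} {G : Scheme.{u}}

/-- If both parts of the data land in an affine open, a solution exists. -/
theorem exists_of_affine (hc : Cond s K) (D : GlueData E s K G) {W : G.Opens}
    (hW : IsAffineOpen W) (ha : ∀ z, D.a z ∈ W) (hb : ∀ z, D.b z ∈ W) : ∃ c, IsSol D c := by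
  obtain ⟨α, hα⟩ := exists_factor hW D.a ha
  obtain ⟨β, hβ⟩ := exists_factor hW D.b hb
  have hcomp : (ovlP s K).comp α.hom = (ovlQ s K).comp β.hom := by
    have h1 : Spec.map (α ≫ CommRingCat.ofHom (ovlP s K)) ≫ hW.fromSpec =
        Spec.map (β ≫ CommRingCat.ofHom (ovlQ s K)) ≫ hW.fromSpec := by
      rw [Spec.map_comp, Spec.map_comp, Category.assoc, Category.assoc, hα, hβ]
      exact D.compat
    have h2 := factor_unique hW _ _ h1
    have h3 := congrArg CommRingCat.Hom.hom h2
    simpa using h3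
  obtain ⟨γ, hγ1, hγ2⟩ := hc.exists_ringHom (Es := Localization.Away s) α.hom β.hom hcomp
  refine ⟨SpM γ ≫ hW.fromSpec, ?_, ?_⟩
  · rw [← Category.assoc, ← SpM_comp, hγ1, ← hα]
    simp [SpM]
  · rw [← Category.assoc, ← SpM_comp, hγ2, ← hβ]
    simp [SpM]

theorem exists_local (hc : Cond s K) (D : GlueData E s K G) (x : PrimeSpectrum E)
    (hx : s ∈ x.asIdeal) :
    ∃ h : E, h ∉ x.asIdeal ∧
      ∃ c, IsSol (D.res (algebraMap E (Localization.Away h)) rfl le_rfl) c := by
  classical
  have hK : K ≤ x.asIdeal := by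
    intro k hk
    obtain ⟨k', -, rfl⟩ := hc.surj k hk
    exact x.asIdeal.mul_mem_right _ hx
  obtain ⟨xb, hxb⟩ : ∃ xb : Spec (CommRingCat.of (E ⧸ K)),
      PrimeSpectrum.comap (Ideal.Quotient.mk K) xb = x := by
    have hx' : x ∈ Set.range (PrimeSpectrum.comap (Ideal.Quotient.mk K)) := by
      rw [range_comap_of_surjective _ _ Ideal.Quotient.mk_surjective, Ideal.mk_ker]
      exact hK
    exact hx'
  obtain ⟨_, ⟨W, hW, rfl⟩, hyW, -⟩ := G.isBasis_affineOpens.exists_subset_of_mem_open
    (Set.mem_univ (D.a xb)) isOpen_univ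
  have hUo : IsOpen {z : PrimeSpectrum (E ⧸ K) | D.a z ∈ W} := W.2.preimage D.a.continuous
  obtain ⟨_, ⟨fb, rfl⟩, hxf, hfU⟩ :=
    PrimeSpectrum.isTopologicalBasis_basic_opens.exists_subset_of_mem_open
      (show (xb : PrimeSpectrum (E ⧸ K)) ∈ {z : PrimeSpectrum (E ⧸ K) | D.a z ∈ W} from hyW) hUo
  dsimp only at hxf hfU
  obtain ⟨f, rfl⟩ := Ideal.Quotient.mk_surjective fb
  -- the bad locus of `b`
  have hZc : IsClosed {z : PrimeSpectrum (Localization.Away s) | D.b z ∉ W} :=
    (W.2.preimage D.b.continuous).isClosed_compl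
  obtain ⟨J, hJ⟩ : ∃ J : Ideal (Localization.Away s),
      PrimeSpectrum.zeroLocus (J : Set (Localization.Away s)) =
        {z : PrimeSpectrum (Localization.Away s) | D.b z ∉ W} :=
    ⟨PrimeSpectrum.vanishingIdeal _, by
      rw [PrimeSpectrum.zeroLocus_vanishingIdeal_eq_closure, hZc.closure_eq]⟩
  have hrad : algebraMap E (Localization.Away s) f ∈
      (J ⊔ K.map (algebraMap E (Localization.Away s))).radical := by
    rw [Ideal.radical_eq_sInf, Ideal.mem_sInf]
    rintro P ⟨hle, hP⟩
    let z : Spec (CommRingCat.of (Localization.Away s)) :=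
      (⟨P, hP⟩ : PrimeSpectrum (Localization.Away s))
    have hzZ : D.b z ∉ W := by
      have : (⟨P, hP⟩ : PrimeSpectrum (Localization.Away s)) ∈
          PrimeSpectrum.zeroLocus (J : Set (Localization.Away s)) := by
        rw [PrimeSpectrum.mem_zeroLocus]
        exact fun a ha => hle (Ideal.mem_sup_left ha)
      rw [hJ] at this
      exact this
    obtain ⟨z', hz'⟩ : ∃ z' : Spec (CommRingCat.of (Ovl s K)),
        PrimeSpectrum.comap (ovlQ s K) z' = (⟨P, hP⟩ : PrimeSpectrum (Localization.Away s)) := by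
      have hx' : (⟨P, hP⟩ : PrimeSpectrum (Localization.Away s)) ∈
          Set.range (PrimeSpectrum.comap (ovlQ s K)) := by
        rw [range_comap_of_surjective _ _ Ideal.Quotient.mk_surjective, Ideal.mk_ker]
        exact fun a ha => hle (Ideal.mem_sup_right ha)
      exact hx'
    have h3 := congrArg (fun φ : Spec (CommRingCat.of (Ovl s K)) ⟶ G => φ z') D.compat
    simp only [Scheme.Hom.comp_apply] at h3
    have h4 : D.a (SpM (ovlP s K) z') ∉ W := by
      rw [h3]
      have : SpM (ovlQ s K) z' = z := hz'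
      rw [this]
      exact hzZ
    have h5 : Ideal.Quotient.mk K f ∈ (PrimeSpectrum.comap (ovlP s K) z').asIdeal := by
      by_contra hcon
      exact h4 (hfU hcon)
    have e1 : ovlP s K (Ideal.Quotient.mk K f) =
        ovlQ s K (algebraMap E (Localization.Away s) f) := Ideal.quotientMap_mk
    have h6 : ovlP s K (Ideal.Quotient.mk K f) ∈ (z' : PrimeSpectrum (Ovl s K)).asIdeal := h5
    have h7 : algebraMap E (Localization.Away s) f ∈
        (PrimeSpectrum.comap (ovlQ s K) z').asIdeal := by
      show ovlQ s K (algebraMap E (Localization.Away s) f) ∈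
        (z' : PrimeSpectrum (Ovl s K)).asIdeal
      rw [← e1]; exact h6
    rw [hz'] at h7
    exact h7
  obtain ⟨m₀, hm₀⟩ := hrad
  obtain ⟨m, hm⟩ : ∃ m : ℕ, algebraMap E (Localization.Away s) f ^ (m + 1) ∈
      J ⊔ K.map (algebraMap E (Localization.Away s)) :=
    ⟨m₀, by rw [pow_succ]; exact Ideal.mul_mem_right _ _ hm₀⟩
  obtain ⟨j₀, hj₀, k₀, hk₀, hjk⟩ := Submodule.mem_sup.mp hm
  obtain ⟨k, hk, hkk₀⟩ := hc.mem_map (Es := Localization.Away s) k₀ hk₀
  have hhj : algebraMap E (Localization.Away s) (f ^ (m + 1) - k) = j₀ := by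
    rw [map_sub, map_pow, hkk₀, ← hjk]; ring
  have hhx : f ^ (m + 1) - k ∉ x.asIdeal := by
    intro hcon
    have h1 : f ^ (m + 1) ∈ x.asIdeal := by
      have := x.asIdeal.add_mem hcon (hK hk)
      simpa using this
    have h2 : f ∈ x.asIdeal := x.isPrime.mem_of_pow_mem (m + 1) h1
    apply hxf
    show Ideal.Quotient.mk K f ∈ (xb : PrimeSpectrum (E ⧸ K)).asIdeal
    rw [← hxb] at h2
    exact h2
  refine ⟨f ^ (m + 1) - k, hhx, ?_⟩
  set h := f ^ (m + 1) - k with hh
  have hu : IsUnit (algebraMap E (Localization.Away h) h) :=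
    IsLocalization.Away.algebraMap_isUnit h
  apply exists_of_affine (hc.localization (Submonoid.powers h) (E' := Localization.Away h)) _ hW
  · intro z
    show (SpM _ ≫ D.a) z ∈ W
    rw [Scheme.Hom.comp_apply]
    apply hfU
    show Ideal.Quotient.mk K f ∉ (SpM (Ideal.quotientMap
      (K.map (algebraMap E (Localization.Away h))) (algebraMap E (Localization.Away h))
      (Ideal.map_le_iff_le_comap.mp le_rfl)) z : PrimeSpectrum (E ⧸ K)).asIdeal
    intro hcon
    have hcon' : Ideal.quotientMap (K.map (algebraMap E (Localization.Away h)))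
        (algebraMap E (Localization.Away h)) (Ideal.map_le_iff_le_comap.mp le_rfl)
        (Ideal.Quotient.mk K f) ∈ (z : PrimeSpectrum _).asIdeal := hcon
    rw [Ideal.quotientMap_mk] at hcon'
    have h1 : Ideal.Quotient.mk (K.map (algebraMap E (Localization.Away h)))
        (algebraMap E (Localization.Away h) h) ∈ (z : PrimeSpectrum _).asIdeal := by
      have h2 : Ideal.Quotient.mk (K.map (algebraMap E (Localization.Away h)))
          (algebraMap E (Localization.Away h) h) =
          (Ideal.Quotient.mk (K.map (algebraMap E (Localization.Away h)))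
            (algebraMap E (Localization.Away h) f)) ^ (m + 1) := by
        rw [hh, map_sub, map_sub, map_pow, map_pow,
          Ideal.Quotient.eq_zero_iff_mem.mpr (Ideal.mem_map_of_mem _ hk), sub_zero]
      rw [h2]
      exact Ideal.pow_mem_of_mem _ hcon' (m + 1) (Nat.succ_pos m)
    exact (z : PrimeSpectrum _).isPrime.ne_top
      (Ideal.eq_top_of_isUnit_mem _ h1 (hu.map _))
  · intro z
    show (SpM _ ≫ D.b) z ∈ W
    rw [Scheme.Hom.comp_apply]
    by_contra hcon
    have h1 : (SpM (awayMap' (algebraMap E (Localization.Away h)) rfl) z :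
        PrimeSpectrum (Localization.Away s)) ∈
        PrimeSpectrum.zeroLocus (J : Set (Localization.Away s)) := by
      rw [hJ]; exact hcon
    have h1' := (PrimeSpectrum.mem_zeroLocus _ _).mp h1
    have h2 : awayMap' (algebraMap E (Localization.Away h)) rfl j₀ ∈
        (z : PrimeSpectrum _).asIdeal := h1' hj₀
    rw [← hhj, awayMap'_algebraMap] at h2
    exact (z : PrimeSpectrum _).isPrime.ne_top
      (Ideal.eq_top_of_isUnit_mem _ h2 (hu.map _))

end Groth.Agent.Lib.GlueH4
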