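import Mathlib
import Groth.Agent.Lib.GlueD_helper4

/-!
# Global existence of solutions of glueing problems on a conductor square (helper4)

`glue_exists`: for `Cond s K` on `E` and an arbitrary scheme `G`, every pair of compatible
morphisms `Spec (E/K) ⟶ G`, `Spec E_s ⟶ G` comes from a (unique) morphism `Spec E ⟶ G`.
-/

set_option autoImplicit false
universe u
open CategoryTheory CategoryTheory.Limits AlgebraicGeometry

namespace Groth.Agent.Lib.GlueH4

variable {E : Type u} [CommRing E] {s : E} {K : Ideal E} {G : Scheme.{u}}

/-- Two morphisms out of `Spec A` which agree on the basic opens `D(g i)`, `g i` spanning the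
unit ideal, are equal. -/
theorem hom_ext_of_span {A : Type u} [CommRing A] {ι : Type u} (g : ι → A)
    (hg : Ideal.span (Set.range g) = ⊤) (p q : Spec (CommRingCat.of A) ⟶ G)
    (h : ∀ i, SpM (algebraMap A (Localization.Away (g i))) ≫ p =
      SpM (algebraMap A (Localization.Away (g i))) ≫ q) : p = q :=
  (Scheme.affineOpenCoverOfSpanRangeEqTop (R := CommRingCat.of A) g hg).openCover.hom_ext p q h

/-- Glueing morphisms along a cover of `Spec A` by basic opens. -/
theorem exists_glue_of_span {A : Type u} [CommRing A] {ι : Type u} (g : ι → A)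
    (hg : Ideal.span (Set.range g) = ⊤)
    (cf : ∀ i, Spec (CommRingCat.of (Localization.Away (g i))) ⟶ G)
    (hcompat : ∀ i j, pullback.fst (SpM (algebraMap A (Localization.Away (g i))))
        (SpM (algebraMap A (Localization.Away (g j)))) ≫ cf i =
      pullback.snd (SpM (algebraMap A (Localization.Away (g i))))
        (SpM (algebraMap A (Localization.Away (g j)))) ≫ cf j) :
    ∃ c : Spec (CommRingCat.of A) ⟶ G,
      ∀ i, SpM (algebraMap A (Localization.Away (g i))) ≫ c = cf i :=
  ⟨(Scheme.affineOpenCoverOfSpanRangeEqTop (R := CommRingCat.of A) g hg).openCover.glueMorphisms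
      cf hcompat,
    fun i => (Scheme.affineOpenCoverOfSpanRangeEqTop (R := CommRingCat.of A) g
      hg).openCover.ι_glueMorphisms cf hcompat i⟩

theorem isSol_self_away (D : GlueData E s K G) :
    IsSol (D.res (algebraMap E (Localization.Away s)) rfl le_rfl) D.b := by
  constructor
  · exact D.compat.symm
  · show SpM _ ≫ D.b = SpM _ ≫ D.b
    congr 2
    apply away_hom_ext
    rw [awayMap'_comp]

theorem glue_exists (hc : Cond s K) (D : GlueData E s K G) : ∃ c, IsSol D c := by
  classical
  let Sg : Set E := {h | ∃ c, IsSol (D.res (algebraMap E (Localization.Away h)) rfl le_rfl) c}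
  have hsSg : s ∈ Sg := ⟨D.b, isSol_self_away D⟩
  have hspan : Ideal.span Sg = ⊤ := by
    by_contra hne
    obtain ⟨M, hM, hle⟩ := Ideal.exists_le_maximal _ hne
    have hSM : ∀ h ∈ Sg, h ∈ M := fun h hh => hle (Ideal.subset_span hh)
    have hs : s ∈ M := hSM s hsSg
    obtain ⟨h, hh, hc'⟩ := exists_local hc D ⟨M, hM.isPrime⟩ hs
    exact hh (hSM h hc')
  have hspan' : Ideal.span (Set.range (fun h : Sg => (h : E))) = ⊤ := by
    rw [Subtype.range_coe]; exact hspan
  choose cf hcf using fun i : Sg => i.2
  have hcompat : ∀ i j : Sg,
      pullback.fst (SpM (algebraMap E (Localization.Away (i : E))))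
        (SpM (algebraMap E (Localization.Away (j : E)))) ≫ cf i =
      pullback.snd (SpM (algebraMap E (Localization.Away (i : E))))
        (SpM (algebraMap E (Localization.Away (j : E)))) ≫ cf j := by
    intro i j
    -- the overlap ring
    let lami := algebraMap E (Localization.Away (i : E))
    let lamj := algebraMap E (Localization.Away (j : E))
    let Eij := Localization.Away (lami (j : E))
    let nu : Localization.Away (i : E) →+* Eij := algebraMap _ _
    have hu : IsUnit ((nu.comp lami) (j : E)) := by
      rw [RingHom.comp_apply]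
      exact IsLocalization.Away.algebraMap_isUnit (lami (j : E))
    let mu : Localization.Away (j : E) →+* Eij :=
      IsLocalization.Away.lift (S := Localization.Away (j : E)) (j : E) (g := nu.comp lami) hu
    have hmu : mu.comp lamj = nu.comp lami := IsLocalization.Away.lift_comp _ _
    have : IsLocalization ((Submonoid.powers (j : E)).map lami) Eij := by
      rw [Submonoid.map_powers]
      infer_instance
    have hpo := CommRingCat.isPushout_of_isLocalization lami mu hmu (Submonoid.powers (j : E))
    have hq : IsPullback (SpM nu) (SpM mu) (SpM lami) (SpM lamj) :=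
      isPullback_SpecMap_of_isPushout _ _ _ _ hpo
    rw [← cancel_epi hq.isoPullback.hom, IsPullback.isoPullback_hom_fst_assoc,
      IsPullback.isoPullback_hom_snd_assoc]
    have hci := hc.localization (Submonoid.powers (i : E)) (E' := Localization.Away (i : E))
    have hcij := hci.localization (Submonoid.powers (lami (j : E))) (E' := Eij)
    have h1 := (hcf i).res nu rfl le_rfl
    have hs' : mu (lamj s) = nu (lami s) := congrArg (fun φ => φ s) hmu
    have hK' : (K.map lamj).map mu ≤ (K.map lami).map nu := by
      rw [Ideal.map_map, Ideal.map_map, hmu]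
    have h2 := (hcf j).res mu hs' hK'
    have hD : (D.res lamj rfl le_rfl).res mu hs' hK' =
        (D.res lami rfl le_rfl).res nu rfl le_rfl := by
      rw [GlueData.res_res, GlueData.res_res]
      exact D.res_congr hmu _ _ _ _
    rw [hD] at h2
    exact h1.unique hcij h2
  obtain ⟨c, hcc⟩ := exists_glue_of_span (fun h : Sg => (h : E)) hspan' cf hcompat
  refine ⟨c, ?_, ?_⟩
  · -- closed part
    have hgs : Ideal.span (Set.range (fun i : Sg => Ideal.Quotient.mk K (i : E))) = ⊤ := by
      have h1 : Set.range (fun i : Sg => Ideal.Quotient.mk K (i : E)) =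
          (Ideal.Quotient.mk K) '' Sg := by
        ext y; constructor
        · rintro ⟨i, rfl⟩; exact ⟨i, i.2, rfl⟩
        · rintro ⟨e, he, rfl⟩; exact ⟨⟨e, he⟩, rfl⟩
      rw [h1, ← Ideal.map_span, hspan, Ideal.map_top]
    refine hom_ext_of_span (fun i : Sg => Ideal.Quotient.mk K (i : E)) hgs _ _ (fun i => ?_)
    -- the maps `θ0 : E_i → (E/K)_{mk h_i}` and its quotient
    have hu : IsUnit (((algebraMap (E ⧸ K) (Localization.Away
        (Ideal.Quotient.mk K (i : E)))).comp (Ideal.Quotient.mk K)) (i : E)) := by
      rw [RingHom.comp_apply]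
      exact IsLocalization.Away.algebraMap_isUnit _
    let θ0 : Localization.Away (i : E) →+* Localization.Away (Ideal.Quotient.mk K (i : E)) :=
      IsLocalization.Away.lift (S := Localization.Away (i : E)) (i : E)
        (g := (algebraMap (E ⧸ K) _).comp (Ideal.Quotient.mk K)) hu
    have hθ0 : θ0.comp (algebraMap E (Localization.Away (i : E))) =
        (algebraMap (E ⧸ K) _).comp (Ideal.Quotient.mk K) :=
      IsLocalization.Away.lift_comp _ _
    have hkill : ∀ a ∈ K.map (algebraMap E (Localization.Away (i : E))), θ0 a = 0 := by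
      intro a ha
      have : K.map (algebraMap E (Localization.Away (i : E))) ≤ RingHom.ker θ0 := by
        rw [Ideal.map_le_iff_le_comap]
        intro k hk
        rw [Ideal.mem_comap, RingHom.mem_ker]
        have := congrArg (fun φ => φ k) hθ0
        simp only [RingHom.comp_apply] at this
        rw [this, Ideal.Quotient.eq_zero_iff_mem.mpr hk, map_zero]
      exact this ha
    let θ : (Localization.Away (i : E) ⧸ K.map (algebraMap E (Localization.Away (i : E)))) →+*
        Localization.Away (Ideal.Quotient.mk K (i : E)) :=
      Ideal.Quotient.lift _ θ0 hkill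
    have hθmk : θ.comp (Ideal.Quotient.mk _) = θ0 :=
      RingHom.ext fun a => by
        rw [RingHom.comp_apply]
        exact Ideal.Quotient.lift_mk _ _ _
    have hθ : θ.comp (Ideal.quotientMap
        (K.map (algebraMap E (Localization.Away (i : E))))
        (algebraMap E (Localization.Away (i : E))) (Ideal.map_le_iff_le_comap.mp le_rfl)) =
        algebraMap (E ⧸ K) (Localization.Away (Ideal.Quotient.mk K (i : E))) := by
      apply Ideal.Quotient.ringHom_ext
      ext e
      have := congrArg (fun φ => φ e) hθ0
      simp only [RingHom.comp_apply] at this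
      simp only [RingHom.comp_apply, Ideal.quotientMap_mk, θ, Ideal.Quotient.lift_mk, this]
    have h2 : (D.res (algebraMap E (Localization.Away (i : E))) rfl le_rfl).a =
      SpM (Ideal.quotientMap (K.map (algebraMap E (Localization.Away (i : E))))
        (algebraMap E (Localization.Away (i : E))) (Ideal.map_le_iff_le_comap.mp le_rfl)) ≫
          D.a := rfl
    calc SpM (algebraMap (E ⧸ K) (Localization.Away (Ideal.Quotient.mk K (i : E)))) ≫
          SpM (Ideal.Quotient.mk K) ≫ c
        = SpM (θ0.comp (algebraMap E (Localization.Away (i : E)))) ≫ c := by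
          have e0 : SpM ((algebraMap (E ⧸ K)
              (Localization.Away (Ideal.Quotient.mk K (i : E)))).comp (Ideal.Quotient.mk K)) =
              SpM (algebraMap (E ⧸ K) (Localization.Away (Ideal.Quotient.mk K (i : E)))) ≫
                SpM (Ideal.Quotient.mk K) := SpM_comp _ _
          rw [hθ0, e0, Category.assoc]
      _ = SpM θ0 ≫ cf i := by
          rw [SpM_comp (algebraMap E (Localization.Away (i : E))) θ0, Category.assoc, hcc i]
      _ = SpM θ ≫ SpM (Ideal.Quotient.mk _) ≫ cf i := by
          rw [← hθmk, SpM_comp (Ideal.Quotient.mk _) θ, Category.assoc]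
      _ = SpM θ ≫ (D.res (algebraMap E (Localization.Away (i : E))) rfl le_rfl).a := by
          rw [(hcf i).1]
      _ = SpM (algebraMap (E ⧸ K) (Localization.Away (Ideal.Quotient.mk K (i : E)))) ≫ D.a := by
          rw [h2, ← Category.assoc, ← SpM_comp _ θ, hθ]
  · -- open part
    have h1 := hcc ⟨s, hsSg⟩
    have h2 : cf ⟨s, hsSg⟩ = D.b :=
      (hcf ⟨s, hsSg⟩).unique (hc.localization (Submonoid.powers s)) (isSol_self_away D)
    rw [← h2, ← h1]

end Groth.Agent.Lib.GlueH4
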