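import Mathlib
import Groth.Agent.Lib.GlueA_helper4

/-!
# The fibre product ring `D ×_{D_s} D_s[Y]` (helper4)

For a ring `D`, `s : D` and a localisation `Ds` of `D` away from `s`, the ring
`EE D Ds = {(d, p) | d/1 = p(0)} ⊆ D × Ds[Y]`.  It carries the conductor structure
`Cond (s, s) (ker fst)`, its quotient by `ker fst` is `D`, and its localisation at `(s, s)` is
`Ds[Y]`.  It is the filtered colimit of `D[Y] → D[Y] → ⋯` along `Y ↦ sY` (next file).
-/

set_option autoImplicit false
universe u
open Polynomial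

namespace Groth.Agent.Lib.QLimH4

open Groth.Agent.Lib.GlueH4

variable (D : Type u) [CommRing D] (Ds : Type u) [CommRing Ds] [Algebra D Ds]

/-- The fibre product ring `D ×_{Ds} Ds[Y]`. -/
noncomputable def EE : Subring (D × Ds[X]) :=
  RingHom.eqLocus ((algebraMap D Ds).comp (RingHom.fst D Ds[X]))
    ((constantCoeff : Ds[X] →+* Ds).comp (RingHom.snd D Ds[X]))

variable {D Ds}

theorem mem_EE {x : D × Ds[X]} : x ∈ EE D Ds ↔ algebraMap D Ds x.1 = constantCoeff x.2 :=
  Iff.rfl

variable (D Ds)

/-- first projection -/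
noncomputable def fstE : EE D Ds →+* D := (RingHom.fst D Ds[X]).comp (EE D Ds).subtype

/-- second projection -/
noncomputable def sndE : EE D Ds →+* Ds[X] := (RingHom.snd D Ds[X]).comp (EE D Ds).subtype

/-- the inclusion of `D` -/
noncomputable def inclC : D →+* EE D Ds :=
  ((RingHom.id D).prod ((C : Ds →+* Ds[X]).comp (algebraMap D Ds))).codRestrict (EE D Ds)
    (fun d => by
      rw [mem_EE]
      simp)

variable {D Ds}

@[simp] theorem fstE_mk (x : D × Ds[X]) (hx : x ∈ EE D Ds) : fstE D Ds ⟨x, hx⟩ = x.1 := rfl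
@[simp] theorem sndE_mk (x : D × Ds[X]) (hx : x ∈ EE D Ds) : sndE D Ds ⟨x, hx⟩ = x.2 := rfl
@[simp] theorem fstE_inclC (d : D) : fstE D Ds (inclC D Ds d) = d := rfl
@[simp] theorem sndE_inclC (d : D) : sndE D Ds (inclC D Ds d) = C (algebraMap D Ds d) := rfl

theorem EE_ext {e e' : EE D Ds} (h1 : fstE D Ds e = fstE D Ds e') (h2 : sndE D Ds e = sndE D Ds e') :
    e = e' :=
  Subtype.ext (Prod.ext h1 h2)

theorem EE_prop (e : EE D Ds) : algebraMap D Ds (fstE D Ds e) = constantCoeff (sndE D Ds e) :=
  e.2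

theorem fstE_surjective : Function.Surjective (fstE D Ds) := fun d => ⟨inclC D Ds d, rfl⟩

variable (s : D) [IsLocalization.Away s Ds]

theorem C_s_mul_C_inv : (C (algebraMap D Ds s) : Ds[X]) * C (IsLocalization.Away.invSelf s) = 1 := by
  rw [← C_mul, IsLocalization.Away.mul_invSelf, C_1]

include s in
theorem cond_EE : Cond (inclC D Ds s) (RingHom.ker (fstE D Ds)) := by
  constructor
  · intro k hk
    have hk1 : fstE D Ds k = 0 := hk
    have hk2 : constantCoeff (sndE D Ds k) = 0 := by
      rw [← EE_prop, hk1, map_zero]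
    refine ⟨⟨(0, C (IsLocalization.Away.invSelf s) * sndE D Ds k), ?_⟩, ?_, ?_⟩
    · rw [mem_EE]
      show algebraMap D Ds 0 = constantCoeff (C _ * sndE D Ds k)
      rw [map_zero, map_mul, hk2, mul_zero]
    · show fstE D Ds _ = 0
      rfl
    · apply EE_ext
      · rw [map_mul, fstE_inclC, fstE_mk, mul_zero, hk1]
      · rw [map_mul, sndE_inclC, sndE_mk, ← mul_assoc, C_s_mul_C_inv s, one_mul]
  · intro k hk h0
    have hk1 : fstE D Ds k = 0 := hk
    apply EE_ext
    · rw [hk1, map_zero]
    · have h1 := congrArg (sndE D Ds) h0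
      rw [map_mul, sndE_inclC, map_zero] at h1
      rw [map_zero]
      calc sndE D Ds k = (C (IsLocalization.Away.invSelf s) * C (algebraMap D Ds s)) *
            sndE D Ds k := by rw [mul_comm (C _), C_s_mul_C_inv s, one_mul]
        _ = 0 := by rw [mul_assoc, h1, mul_zero]

include s in
/-- `Ds[Y]` is the localisation of `EE D Ds` away from `(s, s)`, via the second projection. -/
theorem isLocalization_sndE :
    @IsLocalization (EE D Ds) _ (Submonoid.powers (inclC D Ds s)) Ds[X] _
      (sndE D Ds).toAlgebra := by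
  letI := (sndE D Ds).toAlgebra
  have halg : ∀ e, algebraMap (EE D Ds) Ds[X] e = sndE D Ds e := fun e => rfl
  rw [isLocalization_iff]
  refine ⟨?_, ?_, ?_⟩
  · rintro ⟨_, n, rfl⟩
    rw [halg]
    show IsUnit (sndE D Ds (inclC D Ds s ^ n))
    rw [map_pow, sndE_inclC]
    exact (IsUnit.of_mul_eq_one _ (C_s_mul_C_inv s)).pow n
  · intro p
    obtain ⟨b, ⟨n, rfl⟩, hb⟩ := IsLocalization.integerNormalization_spec (Submonoid.powers s) p
    refine ⟨(⟨((IsLocalization.integerNormalization (Submonoid.powers s) p).coeff 0,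
      (IsLocalization.integerNormalization (Submonoid.powers s) p).map (algebraMap D Ds)), ?_⟩,
      ⟨inclC D Ds s ^ n, n, rfl⟩), ?_⟩
    · rw [mem_EE]
      simp [coeff_map]
    · rw [halg, halg]
      show p * sndE D Ds (inclC D Ds s ^ n) = _
      rw [map_pow, sndE_inclC, sndE_mk, hb, Algebra.smul_def, mul_comm]
      simp [Polynomial.algebraMap_apply]
  · intro e e' h
    rw [halg, halg] at h
    have h1 : algebraMap D Ds (fstE D Ds e - fstE D Ds e') = 0 := by
      rw [map_sub, EE_prop, EE_prop, h, sub_self]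
    obtain ⟨⟨_, n, rfl⟩, hn⟩ := (IsLocalization.map_eq_zero_iff (Submonoid.powers s) Ds _).mp h1
    refine ⟨⟨inclC D Ds s ^ n, n, rfl⟩, ?_⟩
    apply EE_ext
    · simp only [map_mul, map_pow, fstE_inclC]
      rw [← sub_eq_zero, ← mul_sub]
      exact hn
    · simp only [map_mul, h]

/-- The identification of the localisation of `EE D Ds` at `(s, s)` with `Ds[Y]`. -/
noncomputable def locEquiv : Localization.Away (inclC D Ds s) ≃+* Ds[X] :=
  letI := (sndE D Ds).toAlgebra
  haveI := isLocalization_sndE (D := D) (Ds := Ds) s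
  (IsLocalization.algEquiv (Submonoid.powers (inclC D Ds s))
    (Localization.Away (inclC D Ds s)) Ds[X]).toRingEquiv

theorem locEquiv_algebraMap (e : EE D Ds) :
    locEquiv s (algebraMap (EE D Ds) (Localization.Away (inclC D Ds s)) e) = sndE D Ds e := by
  letI := (sndE D Ds).toAlgebra
  haveI := isLocalization_sndE (D := D) (Ds := Ds) s
  exact (IsLocalization.algEquiv (Submonoid.powers (inclC D Ds s))
    (Localization.Away (inclC D Ds s)) Ds[X]).commutes e

theorem locEquiv_comp :
    (locEquiv (D := D) (Ds := Ds) s).toRingHom.comp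
      (algebraMap (EE D Ds) (Localization.Away (inclC D Ds s))) = sndE D Ds :=
  RingHom.ext (locEquiv_algebraMap s)

theorem locEquiv_symm_sndE (e : EE D Ds) :
    (locEquiv s).symm (sndE D Ds e) =
      algebraMap (EE D Ds) (Localization.Away (inclC D Ds s)) e := by
  rw [← locEquiv_algebraMap s, RingEquiv.symm_apply_apply]

end Groth.Agent.Lib.QLimH4
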