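import Mathlib
import Groth.Agent.Lib.QLimA_helper4
import Groth.Agent.Lib.GlueB_helper4

/-!
# `D ×_{D_s} D_s[Y]` as a filtered colimit of polynomial rings (helper4)

`EE D Ds` is the colimit of `D[Y] → D[Y] → ⋯` along `Y ↦ sY`; the `N`-th stage maps to `EE D Ds`
by `q ↦ (q(0), q(Y / s^N))`.  Consequence (`exists_stage`): a morphism from `Spec (EE D Ds)` to a
scheme locally of finite presentation over a base factors through some stage `Spec D[Y]`.
-/

set_option autoImplicit false
set_option linter.style.haveILetI false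
universe u
open Polynomial CategoryTheory CategoryTheory.Limits AlgebraicGeometry

namespace Groth.Agent.Lib.QLimH4

open Groth.Agent.Lib.GlueH4

section Recognize

/-- Recognition of filtered colimits of commutative rings. -/
noncomputable def isColimitOfSurjInj {J : Type u} [SmallCategory J] [IsFiltered J]
    (F : J ⥤ CommRingCat.{u}) (c : Cocone F)
    (hsurj : ∀ x : c.pt, ∃ j, ∃ y : F.obj j, (c.ι.app j).hom y = x)
    (hinj : ∀ j (y : F.obj j), (c.ι.app j).hom y = 0 →
      ∃ k, ∃ f : j ⟶ k, (F.map f).hom y = 0) :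
    IsColimit c := by
  haveI : ReflectsColimit F (forget CommRingCat) := reflectsColimit_of_reflectsIsomorphisms _ _
  apply isColimitOfReflects (forget CommRingCat)
  apply Types.FilteredColimit.isColimitOf'
  · intro x
    obtain ⟨j, y, hy⟩ := hsurj x
    exact ⟨j, y, hy.symm⟩
  · intro j (x : F.obj j) (y : F.obj j) hxy
    obtain ⟨k, f, hf⟩ := hinj j (x - y) (by
      have : (c.ι.app j).hom x = (c.ι.app j).hom y := hxy
      rw [map_sub, this, sub_self])
    refine ⟨k, f, ?_⟩
    rw [map_sub, sub_eq_zero] at hf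
    exact hf

end Recognize

variable {D : Type u} [CommRing D] (Ds : Type u) [CommRing Ds] [Algebra D Ds] (s : D)

/-- `Y ↦ s^m Y` on `D[Y]`. -/
noncomputable def tau (m : ℕ) : D[X] →+* D[X] := compRingHom (C (s ^ m) * X)

theorem tau_apply (m : ℕ) (q : D[X]) : tau s m q = q.comp (C (s ^ m) * X) := rfl

@[simp] theorem tau_C (m : ℕ) (a : D) : tau s m (C a) = C a := by rw [tau_apply, C_comp]

@[simp] theorem tau_X (m : ℕ) : tau s m X = C (s ^ m) * X := by rw [tau_apply, X_comp]

theorem tau_comp_C (m : ℕ) : (tau s m).comp (C : D →+* D[X]) = C :=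
  RingHom.ext (tau_C s m)

theorem tau_zero : tau s 0 = RingHom.id D[X] := by
  refine Polynomial.ringHom_ext (fun a => ?_) ?_
  · rw [tau_C, RingHom.id_apply]
  · rw [tau_X, pow_zero, C_1, one_mul, RingHom.id_apply]

theorem tau_comp (m n : ℕ) : (tau s m).comp (tau s n) = tau s (n + m) := by
  refine Polynomial.ringHom_ext (fun a => ?_) ?_
  · rw [RingHom.comp_apply, tau_C, tau_C, tau_C]
  · rw [RingHom.comp_apply, tau_X, map_mul, tau_C, tau_X, tau_X, pow_add, C_mul, mul_assoc]

theorem constantCoeff_tau (m : ℕ) (q : D[X]) : constantCoeff (tau s m q) = constantCoeff q := by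
  have h : ((constantCoeff : D[X] →+* D).comp (tau s m)) = constantCoeff := by
    refine Polynomial.ringHom_ext (fun a => ?_) ?_
    · rw [RingHom.comp_apply, tau_C]
    · rw [RingHom.comp_apply, tau_X, map_mul, constantCoeff_apply X, coeff_X_zero, mul_zero]
  exact congrArg (fun φ : D[X] →+* D => φ q) h

variable [IsLocalization.Away s Ds]

/-- `Y ↦ Y / s^N`, from `D[Y]` to `Ds[Y]`. -/
noncomputable def sigma (N : ℕ) : D[X] →+* Ds[X] :=
  eval₂RingHom ((C : Ds →+* Ds[X]).comp (algebraMap D Ds))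
    (C (IsLocalization.Away.invSelf s ^ N) * X)

@[simp] theorem sigma_C (N : ℕ) (a : D) : sigma Ds s N (C a) = C (algebraMap D Ds a) := by
  show eval₂ _ _ (C a) = _
  rw [eval₂_C]
  rfl

@[simp] theorem sigma_X (N : ℕ) :
    sigma Ds s N X = C (IsLocalization.Away.invSelf s ^ N) * X := by
  show eval₂ _ _ X = _
  rw [eval₂_X]

theorem alg_pow_mul_inv_pow (n : ℕ) :
    algebraMap D Ds s ^ n * IsLocalization.Away.invSelf s ^ n = 1 := by
  rw [← mul_pow, IsLocalization.Away.mul_invSelf, one_pow]

theorem sigma_comp_tau (N m : ℕ) : (sigma Ds s (N + m)).comp (tau s m) = sigma Ds s N := by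
  refine Polynomial.ringHom_ext (fun a => ?_) ?_
  · rw [RingHom.comp_apply, tau_C, sigma_C, sigma_C]
  · rw [RingHom.comp_apply, tau_X, map_mul, sigma_C, sigma_X, sigma_X, ← mul_assoc, ← C_mul,
      map_pow, pow_add, mul_comm (IsLocalization.Away.invSelf s ^ N), ← mul_assoc,
      alg_pow_mul_inv_pow, one_mul]

theorem sigma_zero : sigma Ds s 0 = mapRingHom (algebraMap D Ds) := by
  refine Polynomial.ringHom_ext (fun a => ?_) ?_
  · rw [sigma_C, coe_mapRingHom, map_C]
  · rw [sigma_X, pow_zero, C_1, one_mul, coe_mapRingHom, map_X]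

theorem sigma_tau_self (n : ℕ) (q : D[X]) :
    sigma Ds s n (tau s n q) = q.map (algebraMap D Ds) := by
  have h := sigma_comp_tau Ds s 0 n
  rw [zero_add, sigma_zero] at h
  exact congrArg (fun φ : D[X] →+* Ds[X] => φ q) h

theorem scale_comp_sigma (N : ℕ) :
    (compRingHom (C (algebraMap D Ds s ^ N) * X)).comp (sigma Ds s N) =
      mapRingHom (algebraMap D Ds) := by
  refine Polynomial.ringHom_ext (fun a => ?_) ?_
  · rw [RingHom.comp_apply, sigma_C, coe_compRingHom_apply, C_comp, coe_mapRingHom, map_C]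
  · have h1 : (C (IsLocalization.Away.invSelf s ^ N) : Ds[X]) * C (algebraMap D Ds s ^ N) = 1 := by
      rw [← C_mul, mul_comm, alg_pow_mul_inv_pow, C_1]
    rw [RingHom.comp_apply, sigma_X, coe_compRingHom_apply, mul_comp, C_comp, X_comp, ← mul_assoc,
      h1, one_mul, coe_mapRingHom, map_X]

theorem constantCoeff_sigma (N : ℕ) (q : D[X]) :
    constantCoeff (sigma Ds s N q) = algebraMap D Ds (constantCoeff q) := by
  have h : ((constantCoeff : Ds[X] →+* Ds).comp (sigma Ds s N)) =
      (algebraMap D Ds).comp constantCoeff := by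
    refine Polynomial.ringHom_ext (fun a => ?_) ?_
    · rw [RingHom.comp_apply, sigma_C, RingHom.comp_apply, constantCoeff_apply, coeff_C_zero,
        constantCoeff_apply, coeff_C_zero]
    · rw [RingHom.comp_apply, sigma_X, map_mul, constantCoeff_apply X, coeff_X_zero, mul_zero,
        RingHom.comp_apply, constantCoeff_apply X, coeff_X_zero, map_zero]
  exact congrArg (fun φ : D[X] →+* Ds => φ q) h

/-- The `N`-th stage map `D[Y] → EE D Ds`, `q ↦ (q(0), q(Y / s^N))`. -/
noncomputable def rho (N : ℕ) : D[X] →+* EE D Ds :=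
  ((constantCoeff : D[X] →+* D).prod (sigma Ds s N)).codRestrict (EE D Ds) (fun q => by
    rw [mem_EE]
    exact (constantCoeff_sigma Ds s N q).symm)

@[simp] theorem fstE_rho (N : ℕ) (q : D[X]) : fstE D Ds (rho Ds s N q) = constantCoeff q := rfl

@[simp] theorem sndE_rho (N : ℕ) (q : D[X]) : sndE D Ds (rho Ds s N q) = sigma Ds s N q := rfl

theorem fstE_comp_rho (N : ℕ) : (fstE D Ds).comp (rho Ds s N) = constantCoeff := rfl

theorem sndE_comp_rho (N : ℕ) : (sndE D Ds).comp (rho Ds s N) = sigma Ds s N := rfl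

theorem rho_comp_tau (N m : ℕ) : (rho Ds s (N + m)).comp (tau s m) = rho Ds s N := by
  refine RingHom.ext (fun q => ?_)
  apply EE_ext
  · rw [RingHom.comp_apply, fstE_rho, fstE_rho, constantCoeff_tau]
  · rw [RingHom.comp_apply, sndE_rho, sndE_rho, ← RingHom.comp_apply, sigma_comp_tau]

theorem rho_comp_C (N : ℕ) : (rho Ds s N).comp (C : D →+* D[X]) = inclC D Ds := by
  refine RingHom.ext (fun d => ?_)
  apply EE_ext
  · rw [RingHom.comp_apply, fstE_rho, fstE_inclC, constantCoeff_apply, coeff_C_zero]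
  · rw [RingHom.comp_apply, sndE_rho, sndE_inclC, sigma_C]

theorem rho_surj (e : EE D Ds) : ∃ (N : ℕ) (q : D[X]), rho Ds s N q = e := by
  obtain ⟨b, ⟨n, rfl⟩, hb⟩ := IsLocalization.integerNormalization_spec (Submonoid.powers s)
    (divX (sndE D Ds e))
  refine ⟨n, C (fstE D Ds e) + X * tau s n
    (IsLocalization.integerNormalization (Submonoid.powers s) (divX (sndE D Ds e))), ?_⟩
  apply EE_ext
  · rw [fstE_rho, map_add, map_mul, constantCoeff_apply X, coeff_X_zero, zero_mul, add_zero,
      constantCoeff_apply, coeff_C_zero]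
  · have h1 : (C (IsLocalization.Away.invSelf s ^ n) : Ds[X]) * C (algebraMap D Ds (s ^ n)) = 1 := by
      rw [← C_mul, map_pow, mul_comm, alg_pow_mul_inv_pow, C_1]
    rw [sndE_rho, map_add, map_mul, sigma_C, sigma_X, sigma_tau_self, hb, Algebra.smul_def,
      Polynomial.algebraMap_apply]
    calc C (algebraMap D Ds (fstE D Ds e)) + C (IsLocalization.Away.invSelf s ^ n) * X *
          (C (algebraMap D Ds (s ^ n)) * divX (sndE D Ds e))
        = C (algebraMap D Ds (fstE D Ds e)) + (C (IsLocalization.Away.invSelf s ^ n) *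
          C (algebraMap D Ds (s ^ n))) * (X * divX (sndE D Ds e)) := by ring
      _ = sndE D Ds e := by
        rw [h1, one_mul, EE_prop, constantCoeff_apply, add_comm, X_mul_divX_add]

attribute [local instance] Polynomial.algebra in
theorem exists_pow_mul_eq_zero_of_map_eq_zero (q : D[X]) (hq : q.map (algebraMap D Ds) = 0) :
    ∃ m : ℕ, C (s ^ m) * q = 0 := by
  haveI := Polynomial.isLocalization (Submonoid.powers s) Ds
  have h1 : algebraMap D[X] Ds[X] q = 0 := hq
  obtain ⟨⟨_, ⟨_, ⟨m, rfl⟩, rfl⟩⟩, hm⟩ :=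
    (IsLocalization.map_eq_zero_iff ((Submonoid.powers s).map (C : D →+* D[X])) Ds[X] q).mp h1
  exact ⟨m, hm⟩

theorem tau_eq_zero_of_rho_eq_zero (N : ℕ) (q : D[X]) (h : rho Ds s N q = 0) :
    ∃ m, tau s m q = 0 := by
  have h1 : constantCoeff q = 0 := by
    have := congrArg (fstE D Ds) h
    rwa [fstE_rho, map_zero] at this
  have h2 : sigma Ds s N q = 0 := by
    have := congrArg (sndE D Ds) h
    rwa [sndE_rho, map_zero] at this
  have h3 : q.map (algebraMap D Ds) = 0 := by
    have := congrArg (compRingHom (C (algebraMap D Ds s ^ N) * X)) h2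
    rw [map_zero, ← RingHom.comp_apply, scale_comp_sigma] at this
    exact this
  obtain ⟨m, hm⟩ := exists_pow_mul_eq_zero_of_map_eq_zero Ds s q h3
  refine ⟨m, ?_⟩
  ext i
  rw [tau_apply, comp_C_mul_X_coeff, coeff_zero]
  cases i with
  | zero => rw [← constantCoeff_apply, h1, zero_mul]
  | succ i =>
    have h4 := congrArg (fun r : D[X] => r.coeff (i + 1)) hm
    simp only [coeff_C_mul, coeff_zero] at h4
    calc q.coeff (i + 1) * (s ^ m) ^ (i + 1) = (s ^ m * q.coeff (i + 1)) * (s ^ m) ^ i := by ring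
      _ = 0 := by rw [h4, zero_mul]

/-! ### The diagram -/

/-- The sequence `D[Y] → D[Y] → ⋯` along `Y ↦ sY`. -/
noncomputable def FF : ULift.{u} ℕ ⥤ CommRingCat.{u} where
  obj _ := CommRingCat.of D[X]
  map {i j} _ := CommRingCat.ofHom (tau s (j.down - i.down))
  map_id i := by
    show CommRingCat.ofHom (tau s (i.down - i.down)) = 𝟙 (CommRingCat.of D[X])
    rw [Nat.sub_self, tau_zero]
    rfl
  map_comp {i j k} f g := by
    have h1' : i ≤ j := leOfHom f
    have h2' : j ≤ k := leOfHom g
    have h1 : i.down ≤ j.down := h1'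
    have h2 : j.down ≤ k.down := h2'
    show CommRingCat.ofHom (tau s (k.down - i.down)) =
      CommRingCat.ofHom (tau s (j.down - i.down)) ≫ CommRingCat.ofHom (tau s (k.down - j.down))
    rw [← CommRingCat.ofHom_comp, tau_comp]
    congr 2
    omega

theorem FF_map {i j : ULift.{u} ℕ} (f : i ⟶ j) :
    (FF s).map f = CommRingCat.ofHom (tau s (j.down - i.down)) := rfl

/-- The cocone with vertex `EE D Ds`. -/
noncomputable def cocone : Cocone (FF s) where
  pt := CommRingCat.of (EE D Ds)
  ι :=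
    { app := fun N => CommRingCat.ofHom (rho Ds s N.down)
      naturality := fun i j f => by
        have h1' : i ≤ j := leOfHom f
        have h1 : i.down ≤ j.down := h1'
        show CommRingCat.ofHom (tau s (j.down - i.down)) ≫ CommRingCat.ofHom (rho Ds s j.down) =
          CommRingCat.ofHom (rho Ds s i.down) ≫ 𝟙 _
        obtain ⟨m, hm⟩ := Nat.exists_eq_add_of_le h1
        rw [Category.comp_id, ← CommRingCat.ofHom_comp, hm, Nat.add_sub_cancel_left,
          rho_comp_tau] }

/-- `EE D Ds` is the colimit. -/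
noncomputable def isColimitCocone : IsColimit (cocone Ds s) :=
  isColimitOfSurjInj _ _
    (fun e => by
      obtain ⟨N, q, h⟩ := rho_surj Ds s e
      exact ⟨⟨N⟩, q, h⟩)
    (fun j q h => by
      obtain ⟨m, hm⟩ := tau_eq_zero_of_rho_eq_zero Ds s j.down q h
      refine ⟨⟨j.down + m⟩, homOfLE (by show j.down ≤ j.down + m; omega), ?_⟩
      show tau s (j.down + m - j.down) q = 0
      rw [Nat.add_sub_cancel_left]
      exact hm)

/-- the tower of affine schemes -/
noncomputable def DS : (ULift.{u} ℕ)ᵒᵖ ⥤ Scheme.{u} := (FF s).op ⋙ Scheme.Spec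

/-- the cone with vertex `Spec (EE D Ds)` -/
noncomputable def coneS : Cone (DS s) := Scheme.Spec.mapCone (cocone Ds s).op

/-- it is a limit cone -/
noncomputable def isLimitConeS : IsLimit (coneS Ds s) :=
  isLimitOfPreserves Scheme.Spec (isColimitCocone Ds s).op

instance (i j : (ULift.{u} ℕ)ᵒᵖ) (f : i ⟶ j) : IsAffineHom ((DS s).map f) :=
  show IsAffineHom (Spec.map _) from inferInstance

instance (i : (ULift.{u} ℕ)ᵒᵖ) : IsAffine ((DS s).obj i) :=
  show IsAffine (Spec _) from inferInstance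

/-- The structure maps of the tower to a base under `Spec D`. -/
noncomputable def toBase {S : Scheme.{u}} (t₀ : Spec (CommRingCat.of D) ⟶ S) :
    DS s ⟶ (Functor.const _).obj S where
  app _ := SpM (C : D →+* D[X]) ≫ t₀
  naturality i j f := by
    show Spec.map (CommRingCat.ofHom (tau s (i.unop.down - j.unop.down))) ≫ SpM C ≫ t₀ =
      (SpM C ≫ t₀) ≫ 𝟙 _
    rw [Category.comp_id, ← Category.assoc]
    congr 1
    show SpM (tau s (i.unop.down - j.unop.down)) ≫ SpM (C : D →+* D[X]) = _
    rw [← SpM_comp, tau_comp_C]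

/-- **Finite presentation**: a morphism from `Spec (EE D Ds)` to a scheme locally of finite
presentation over `S` (compatibly with a structure map `Spec D ⟶ S`) factors through a stage. -/
theorem exists_stage {X S : Scheme.{u}} (f : X ⟶ S) [LocallyOfFinitePresentation f]
    (t₀ : Spec (CommRingCat.of D) ⟶ S) (a : Spec (CommRingCat.of (EE D Ds)) ⟶ X)
    (ha : a ≫ f = SpM (inclC D Ds) ≫ t₀) :
    ∃ (N : ℕ) (g : Spec (CommRingCat.of D[X]) ⟶ X),
      SpM (rho Ds s N) ≫ g = a ∧ g ≫ f = SpM (C : D →+* D[X]) ≫ t₀ := by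
  obtain ⟨i, g, h1, h2⟩ := Scheme.exists_π_app_comp_eq_of_locallyOfFinitePresentation
    (DS s) (toBase s t₀) f (coneS Ds s) (isLimitConeS Ds s) a (by
      ext i
      show SpM (rho Ds s i.unop.down) ≫ SpM (C : D →+* D[X]) ≫ t₀ = a ≫ f
      rw [ha, ← Category.assoc, ← SpM_comp, rho_comp_C])
  exact ⟨i.unop.down, g, h1, h2⟩

end Groth.Agent.Lib.QLimH4
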