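import Mathlib
import Groth.Agent.Lib.QLimB_helper4
import Groth.Agent.Lib.GlueE_helper4

/-!
# Extending a morphism from `Spec Ds[Y]` to `Spec D[Y]` (helper4)

`Spec (EE D Ds)` is the pushout of `Spec D ← Spec Ds → Spec Ds[Y]` against arbitrary schemes
(`exists_glue_EE`, `hom_ext_EE`).  Consequence (`lemmaA`): for `X → S` locally of finite
presentation, a morphism `Spec Ds[Y] ⟶ X` whose restriction to `Y = 0` extends to `Spec D`
becomes, after the substitution `Y ↦ Y / s^N`, the restriction of a morphism `Spec D[Y] ⟶ X`.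
-/

set_option autoImplicit false
set_option linter.style.haveILetI false
universe u
open Polynomial CategoryTheory CategoryTheory.Limits AlgebraicGeometry

namespace Groth.Agent.Lib.QLimH4

open Groth.Agent.Lib.GlueH4

variable {D : Type u} [CommRing D] (Ds : Type u) [CommRing Ds] [Algebra D Ds] (s : D)
  [IsLocalization.Away s Ds]

/-- `D → E/K`. -/
noncomputable def phiA : D →+* EE D Ds ⧸ RingHom.ker (fstE D Ds) :=
  (Ideal.Quotient.mk (RingHom.ker (fstE D Ds))).comp (inclC D Ds)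

/-- `Ds[Y] → E_s`. -/
noncomputable def phiB : Ds[X] →+* Localization.Away (inclC D Ds s) :=
  (locEquiv (D := D) (Ds := Ds) s).symm.toRingHom

theorem phiB_sndE (e : EE D Ds) :
    phiB Ds s (sndE D Ds e) = algebraMap (EE D Ds) (Localization.Away (inclC D Ds s)) e :=
  locEquiv_symm_sndE s e

theorem phiB_comp_sndE :
    (phiB Ds s).comp (sndE D Ds) = algebraMap (EE D Ds) (Localization.Away (inclC D Ds s)) :=
  RingHom.ext (phiB_sndE Ds s)

theorem locEquiv_comp_phiB :
    (locEquiv (D := D) (Ds := Ds) s).toRingHom.comp (phiB Ds s) = RingHom.id Ds[X] :=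
  RingHom.ext fun p => (locEquiv (D := D) (Ds := Ds) s).apply_symm_apply p

theorem phiA_comp_fstE :
    (phiA Ds).comp (fstE D Ds) = Ideal.Quotient.mk (RingHom.ker (fstE D Ds)) := by
  refine RingHom.ext (fun e => ?_)
  show Ideal.Quotient.mk _ (inclC D Ds (fstE D Ds e)) = Ideal.Quotient.mk _ e
  rw [Ideal.Quotient.eq, RingHom.mem_ker, map_sub, fstE_inclC, sub_self]

/-- `E/K → D`. -/
noncomputable def psiA : EE D Ds ⧸ RingHom.ker (fstE D Ds) →+* D :=
  RingHom.kerLift (fstE D Ds)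

theorem psiA_comp_mk :
    (psiA (D := D) Ds).comp (Ideal.Quotient.mk (RingHom.ker (fstE D Ds))) = fstE D Ds :=
  RingHom.ext fun e => RingHom.kerLift_mk (fstE D Ds) e

theorem psiA_comp_phiA : (psiA (D := D) Ds).comp (phiA Ds) = RingHom.id D := by
  refine RingHom.ext (fun d => ?_)
  show RingHom.kerLift (fstE D Ds) (Ideal.Quotient.mk _ (inclC D Ds d)) = d
  rw [RingHom.kerLift_mk, fstE_inclC]

/-- The element `(0, Y)` of `EE D Ds`. -/
noncomputable def YE : EE D Ds := ⟨(0, X), by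
  rw [mem_EE]
  show algebraMap D Ds 0 = constantCoeff (X : Ds[X])
  rw [map_zero, constantCoeff_apply, coeff_X_zero]⟩

theorem fstE_YE : fstE D Ds (YE (D := D) Ds) = 0 := rfl

theorem sndE_YE : sndE D Ds (YE (D := D) Ds) = X := rfl

/-- `Ds → E_s / K E_s`. -/
noncomputable def omega : Ds →+* Ovl (inclC D Ds s) (RingHom.ker (fstE D Ds)) :=
  IsLocalization.Away.lift (S := Ds) s
    (g := (ovlP (inclC D Ds s) (RingHom.ker (fstE D Ds))).comp (phiA Ds))
    (by
      have h : IsUnit (algebraMap (EE D Ds) (Localization.Away (inclC D Ds s)) (inclC D Ds s)) :=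
        IsLocalization.Away.algebraMap_isUnit _
      exact h.map (ovlQ (inclC D Ds s) (RingHom.ker (fstE D Ds))))

theorem omega_comp :
    (omega Ds s).comp (algebraMap D Ds) =
      (ovlP (inclC D Ds s) (RingHom.ker (fstE D Ds))).comp (phiA Ds) :=
  IsLocalization.Away.lift_comp _ _

theorem ovlQ_comp_phiB :
    (ovlQ (inclC D Ds s) (RingHom.ker (fstE D Ds))).comp (phiB Ds s) =
      (omega Ds s).comp (constantCoeff : Ds[X] →+* Ds) := by
  refine Polynomial.ringHom_ext' ?_ ?_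
  · -- on constants
    refine IsLocalization.ringHom_ext (Submonoid.powers s) (RingHom.ext fun d => ?_)
    show Ideal.Quotient.mk _ (phiB Ds s (C (algebraMap D Ds d))) =
      omega Ds s (constantCoeff (C (algebraMap D Ds d)))
    have h1 : (C (algebraMap D Ds d) : Ds[X]) = sndE D Ds (inclC D Ds d) := rfl
    rw [h1, phiB_sndE, constantCoeff_apply, sndE_inclC, coeff_C_zero]
    have h2 := congrArg (fun φ : D →+* Ovl (inclC D Ds s) (RingHom.ker (fstE D Ds)) => φ d)
      (omega_comp Ds s)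
    simp only [RingHom.comp_apply] at h2
    rw [h2]
    show _ = Ideal.quotientMap _ _ _ (Ideal.Quotient.mk _ (inclC D Ds d))
    rw [Ideal.quotientMap_mk]
  · -- on the variable
    show Ideal.Quotient.mk _ (phiB Ds s X) = omega Ds s (constantCoeff (X : Ds[X]))
    rw [constantCoeff_apply, coeff_X_zero, map_zero, ← sndE_YE (D := D) Ds, phiB_sndE,
      Ideal.Quotient.eq_zero_iff_mem]
    exact Ideal.mem_map_of_mem _ (fstE_YE Ds)

variable {G : Scheme.{u}}

/-- The glueing data on `EE D Ds` attached to compatible morphisms from `Spec D` and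
`Spec Ds[Y]`. -/
noncomputable def glueDataEE (aD : Spec (CommRingCat.of D) ⟶ G)
    (bD : Spec (CommRingCat.of Ds[X]) ⟶ G)
    (hab : SpM (algebraMap D Ds) ≫ aD = SpM (constantCoeff : Ds[X] →+* Ds) ≫ bD) :
    GlueData (EE D Ds) (inclC D Ds s) (RingHom.ker (fstE D Ds)) G where
  a := SpM (phiA Ds) ≫ aD
  b := SpM (phiB Ds s) ≫ bD
  compat := by
    rw [← Category.assoc, ← SpM_comp (phiA (D := D) Ds), ← omega_comp Ds s,
      SpM_comp (algebraMap D Ds), Category.assoc, hab, ← Category.assoc,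
      ← SpM_comp (constantCoeff : Ds[X] →+* Ds), ← ovlQ_comp_phiB Ds s,
      SpM_comp (phiB (D := D) Ds s), Category.assoc]

include s in
/-- **Existence**: `Spec (EE D Ds)` is the pushout of `Spec D ← Spec Ds → Spec Ds[Y]`. -/
theorem exists_glue_EE (aD : Spec (CommRingCat.of D) ⟶ G)
    (bD : Spec (CommRingCat.of Ds[X]) ⟶ G)
    (hab : SpM (algebraMap D Ds) ≫ aD = SpM (constantCoeff : Ds[X] →+* Ds) ≫ bD) :
    ∃ c : Spec (CommRingCat.of (EE D Ds)) ⟶ G,
      SpM (fstE D Ds) ≫ c = aD ∧ SpM (sndE D Ds) ≫ c = bD := by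
  obtain ⟨c, hc1, hc2⟩ := glue_exists (cond_EE s) (glueDataEE Ds s aD bD hab)
  refine ⟨c, ?_, ?_⟩
  · have h1 : SpM (Ideal.Quotient.mk (RingHom.ker (fstE D Ds))) ≫ c = SpM (phiA Ds) ≫ aD := hc1
    rw [← psiA_comp_mk Ds, SpM_comp, Category.assoc, h1, ← Category.assoc, ← SpM_comp,
      psiA_comp_phiA]
    show Spec.map (CommRingCat.ofHom (RingHom.id D)) ≫ aD = aD
    rw [show CommRingCat.ofHom (RingHom.id D) = 𝟙 (CommRingCat.of D) from rfl, Spec.map_id,
      Category.id_comp]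
  · have h2 : SpM (algebraMap (EE D Ds) (Localization.Away (inclC D Ds s))) ≫ c =
        SpM (phiB Ds s) ≫ bD := hc2
    rw [← locEquiv_comp (D := D) (Ds := Ds) s, SpM_comp, Category.assoc, h2, ← Category.assoc,
      ← SpM_comp, locEquiv_comp_phiB]
    show Spec.map (CommRingCat.ofHom (RingHom.id Ds[X])) ≫ bD = bD
    rw [show CommRingCat.ofHom (RingHom.id Ds[X]) = 𝟙 (CommRingCat.of Ds[X]) from rfl, Spec.map_id,
      Category.id_comp]

include s in
/-- **Uniqueness**. -/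
theorem hom_ext_EE (c c' : Spec (CommRingCat.of (EE D Ds)) ⟶ G)
    (h1 : SpM (fstE D Ds) ≫ c = SpM (fstE D Ds) ≫ c')
    (h2 : SpM (sndE D Ds) ≫ c = SpM (sndE D Ds) ≫ c') : c = c' := by
  refine glue_unique (cond_EE s) c c' ?_ ?_
  · rw [← phiA_comp_fstE Ds, SpM_comp, Category.assoc, Category.assoc, h1]
  · rw [← phiB_comp_sndE Ds s, SpM_comp, Category.assoc, Category.assoc, h2]

theorem SpM_id_comp {A : Type u} [CommRing A] {G : Scheme.{u}} (a : Spec (CommRingCat.of A) ⟶ G) :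
    SpM (RingHom.id A) ≫ a = a := by
  show Spec.map (CommRingCat.ofHom (RingHom.id A)) ≫ a = a
  rw [show CommRingCat.ofHom (RingHom.id A) = 𝟙 (CommRingCat.of A) from rfl, Spec.map_id,
    Category.id_comp]

/-- **Lemma A.** -/
theorem lemmaA {X S : Scheme.{u}} (f : X ⟶ S) [LocallyOfFinitePresentation f]
    (t₀ : Spec (CommRingCat.of D) ⟶ S) (aD : Spec (CommRingCat.of D) ⟶ X)
    (bD : Spec (CommRingCat.of Ds[X]) ⟶ X)
    (haf : aD ≫ f = t₀)
    (hbf : bD ≫ f = SpM ((C : Ds →+* Ds[X]).comp (algebraMap D Ds)) ≫ t₀)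
    (hab : SpM (algebraMap D Ds) ≫ aD = SpM (constantCoeff : Ds[X] →+* Ds) ≫ bD) :
    ∃ (N : ℕ) (g : Spec (CommRingCat.of D[X]) ⟶ X),
      g ≫ f = SpM (C : D →+* D[X]) ≫ t₀ ∧
      SpM (constantCoeff : D[X] →+* D) ≫ g = aD ∧ SpM (sigma Ds s N) ≫ g = bD := by
  obtain ⟨c, hc1, hc2⟩ := exists_glue_EE Ds s aD bD hab
  have hcf : c ≫ f = SpM (inclC D Ds) ≫ t₀ := by
    refine hom_ext_EE Ds s _ _ ?_ ?_
    · rw [← Category.assoc, hc1, haf, ← Category.assoc, ← SpM_comp]
      exact (SpM_id_comp t₀).symm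
    · rw [← Category.assoc, hc2, hbf, ← Category.assoc, ← SpM_comp]
      rfl
  obtain ⟨N, g, hg1, hg2⟩ := exists_stage Ds s f t₀ c hcf
  refine ⟨N, g, hg2, ?_, ?_⟩
  · rw [← fstE_comp_rho Ds s N, SpM_comp, Category.assoc, hg1, hc1]
  · rw [← sndE_comp_rho Ds s N, SpM_comp, Category.assoc, hg1, hc2]

end Groth.Agent.Lib.QLimH4
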