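import Mathlib
import Groth.Agent.Lib.QLimC_helper4

/-!
# Points of a group scheme over `Spec R` with values in `R`-algebras (helper4)

* `away_of_away_mul`, `away_polynomial`: localisation bookkeeping.
* `RCompat R φ`: the ring hom `φ` between `R`-algebras is `R`-linear.
* `SpO R C`, `SpOMap R φ`: `Spec C` over `Spec R` and the induced morphisms.
* `lemmaA_over`, `lemmaA_poly`: Lemma A for points of a group scheme locally of finite
  presentation.
-/

set_option autoImplicit false
set_option linter.style.haveILetI false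
universe u
open Polynomial CategoryTheory CategoryTheory.Limits AlgebraicGeometry MonoidalCategory
  CartesianMonoidalCategory MonObj

namespace Groth.Agent.Lib.QGrpH4

open Groth.Agent.Lib.GlueH4 Groth.Agent.Lib.QLimH4

section Loc

/-- If `S = R_x` and `T = R_{xy}` then `T = S_y`. -/
theorem away_of_away_mul {R S T : Type*} [CommRing R] [CommRing S] [CommRing T] [Algebra R S]
    [Algebra R T] [Algebra S T] [IsScalarTower R S T] (x y : R) [IsLocalization.Away x S]
    (hT : IsLocalization.Away (x * y) T) : IsLocalization.Away (algebraMap R S y) T := by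
  have hxy : IsUnit (algebraMap R T x * algebraMap R T y) := by
    rw [← map_mul]
    exact IsLocalization.Away.algebraMap_isUnit (x * y)
  have hyT : IsUnit (algebraMap R T y) := (IsUnit.mul_iff.mp hxy).2
  have hxS : IsUnit (algebraMap R S x) := IsLocalization.Away.algebraMap_isUnit x
  refine IsLocalization.Away.mk _ ?_ (fun t => ?_) (fun a b hab => ?_)
  · rw [← IsScalarTower.algebraMap_apply]
    exact hyT
  · obtain ⟨n, a, ha⟩ := IsLocalization.Away.surj (x * y) t
    refine ⟨n, algebraMap R S a * IsLocalization.Away.invSelf x ^ n, ?_⟩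
    have h1 : algebraMap S T (algebraMap R S x) ^ n *
        algebraMap S T (IsLocalization.Away.invSelf x ^ n) = 1 := by
      rw [← map_pow, ← map_mul, ← mul_pow, IsLocalization.Away.mul_invSelf, one_pow, map_one]
    rw [map_mul, mul_pow, IsScalarTower.algebraMap_apply R S T x,
      IsScalarTower.algebraMap_apply R S T y] at ha
    rw [map_mul, ← IsScalarTower.algebraMap_apply R S T a, ← ha]
    linear_combination (-(t * algebraMap S T (algebraMap R S y) ^ n)) * h1
  · obtain ⟨k, c₀, hc⟩ := IsLocalization.Away.surj x (a - b)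
    have h0 : algebraMap R T c₀ = algebraMap R T 0 := by
      rw [IsScalarTower.algebraMap_apply R S T c₀, ← hc, map_mul, map_sub, hab, sub_self,
        zero_mul, map_zero]
    obtain ⟨n, hn⟩ := IsLocalization.Away.exists_of_eq (x * y) h0
    rw [mul_zero] at hn
    refine ⟨n, ?_⟩
    have h2 : algebraMap R S x ^ (n + k) * (algebraMap R S y ^ n * (a - b)) = 0 := by
      have h3 := congrArg (algebraMap R S) hn
      rw [map_mul, map_pow, map_mul, map_zero, ← hc] at h3
      rw [← h3]
      ring
    have h4 := ((hxS.pow (n + k)).mul_right_eq_zero).mp h2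
    rw [mul_sub, sub_eq_zero] at h4
    exact h4

/-- `L[X]` is the localisation of `K[X]` away from the constant `y` when `L = K_y`. -/
theorem away_polynomial {K L : Type*} [CommRing K] [CommRing L] [Algebra K L] (y : K)
    [IsLocalization.Away y L] :
    letI := Polynomial.algebra K L
    IsLocalization.Away (C y : K[X]) L[X] := by
  letI := Polynomial.algebra K L
  have h := Polynomial.isLocalization (Submonoid.powers y) L
  rw [Submonoid.map_powers] at h
  exact h

end Loc

section Compat

variable (R : Type u) [CommRing R]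

/-- The ring hom `φ` between `R`-algebras is `R`-linear. -/
class RCompat {U U' : Type u} [CommRing U] [CommRing U'] [Algebra R U] [Algebra R U']
    (φ : U →+* U') : Prop where
  comp_eq : φ.comp (algebraMap R U) = algebraMap R U'

variable {U U' U'' : Type u} [CommRing U] [CommRing U'] [CommRing U''] [Algebra R U]
  [Algebra R U'] [Algebra R U'']

theorem RCompat.apply_eq (φ : U →+* U') [h : RCompat R φ] (r : R) :
    φ (algebraMap R U r) = algebraMap R U' r :=
  congrArg (fun ψ : R →+* U' => ψ r) h.comp_eq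

instance : RCompat R (RingHom.id U) := ⟨RingHom.id_comp _⟩

instance (φ : U →+* U') (ψ : U' →+* U'') [h : RCompat R φ] [h' : RCompat R ψ] :
    RCompat R (ψ.comp φ) :=
  ⟨by rw [RingHom.comp_assoc, h.comp_eq, h'.comp_eq]⟩

instance [Algebra U U'] [IsScalarTower R U U'] : RCompat R (algebraMap U U') :=
  ⟨(IsScalarTower.algebraMap_eq R U U').symm⟩

instance : RCompat R (C : U →+* U[X]) := ⟨rfl⟩

instance : RCompat R (constantCoeff : U[X] →+* U) :=
  ⟨RingHom.ext fun r => by
    show constantCoeff (C (algebraMap R U r)) = algebraMap R U r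
    rw [constantCoeff_apply, coeff_C_zero]⟩

instance (x : U) : RCompat R (evalRingHom x) :=
  ⟨RingHom.ext fun r => by
    show Polynomial.eval x (C (algebraMap R U r)) = algebraMap R U r
    rw [eval_C]⟩

instance (q : U[X]) : RCompat R (compRingHom q) :=
  ⟨RingHom.ext fun r => by
    show (C (algebraMap R U r)).comp q = C (algebraMap R U r)
    rw [C_comp]⟩

instance (φ : U →+* U') [RCompat R φ] : RCompat R (mapRingHom φ) :=
  ⟨RingHom.ext fun r => by
    show (C (algebraMap R U r)).map φ = C (algebraMap R U' r)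
    rw [map_C, RCompat.apply_eq]⟩

end Compat

section Over

variable (R : Type u) [CommRing R]

/-- `Spec C` as a scheme over `Spec R`. -/
noncomputable abbrev SpO (U : Type u) [CommRing U] [Algebra R U] :
    Over (Spec (CommRingCat.of R)) :=
  Over.mk (Spec.map (CommRingCat.ofHom (algebraMap R U)))

variable {U U' U'' : Type u} [CommRing U] [CommRing U'] [CommRing U''] [Algebra R U]
  [Algebra R U'] [Algebra R U'']

/-- The morphism over `Spec R` induced by an `R`-linear ring hom. -/
noncomputable def SpOMap (φ : U →+* U') [h : RCompat R φ] : SpO R U' ⟶ SpO R U :=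
  Over.homMk (SpM φ) (by
    show SpM φ ≫ SpM (algebraMap R U) = SpM (algebraMap R U')
    rw [← SpM_comp, h.comp_eq])

@[simp] theorem SpOMap_left (φ : U →+* U') [RCompat R φ] : (SpOMap R φ).left = SpM φ := rfl

theorem SpOMap_comp (φ : U →+* U') (ψ : U' →+* U'') [RCompat R φ] [RCompat R ψ] :
    SpOMap R ψ ≫ SpOMap R φ = SpOMap R (ψ.comp φ) := by
  apply Over.OverMorphism.ext
  show SpM ψ ≫ SpM φ = SpM (ψ.comp φ)
  rw [SpM_comp]

theorem SpOMap_comp_assoc (φ : U →+* U') (ψ : U' →+* U'') [RCompat R φ] [RCompat R ψ]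
    {G : Over (Spec (CommRingCat.of R))} (x : SpO R U ⟶ G) :
    SpOMap R ψ ≫ SpOMap R φ ≫ x = SpOMap R (ψ.comp φ) ≫ x := by
  rw [← Category.assoc, SpOMap_comp]

theorem SpOMap_congr {φ φ' : U →+* U'} (h : φ = φ') [RCompat R φ] [RCompat R φ'] :
    SpOMap R φ = SpOMap R φ' := by
  subst h
  rfl

theorem SpOMap_id : SpOMap R (RingHom.id U) = 𝟙 (SpO R U) := by
  apply Over.OverMorphism.ext
  show Spec.map (CommRingCat.ofHom (RingHom.id U)) = 𝟙 _
  rw [show CommRingCat.ofHom (RingHom.id U) = 𝟙 (CommRingCat.of U) from rfl, Spec.map_id]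

theorem eq_SpOMap_of_left {m : SpO R U' ⟶ SpO R U} (φ : U →+* U') [RCompat R φ]
    (hm : m.left = Spec.map (CommRingCat.ofHom φ)) : m = SpOMap R φ :=
  Over.OverMorphism.ext hm

variable {R}

/-- **Lemma A** for points of a group scheme. -/
theorem lemmaA_over (G : Over (Spec (CommRingCat.of R))) [GrpObj G]
    [LocallyOfFinitePresentation G.hom]
    {D Ds : Type u} [CommRing D] [CommRing Ds] [Algebra R D] [Algebra R Ds] [Algebra D Ds]
    [hDs : RCompat R (algebraMap D Ds)] (s : D) [IsLocalization.Away s Ds]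
    (b : SpO R Ds[X] ⟶ G) (hb : SpOMap R (constantCoeff : Ds[X] →+* Ds) ≫ b = 1) :
    ∃ (N : ℕ) (g : SpO R D[X] ⟶ G), SpOMap R (constantCoeff : D[X] →+* D) ≫ g = 1 ∧
      SpOMap R (mapRingHom (algebraMap D Ds)) ≫ g =
        SpOMap R (compRingHom (C (algebraMap D Ds s ^ N) * X)) ≫ b := by
  have hbf : b.left ≫ G.hom =
      SpM ((C : Ds →+* Ds[X]).comp (algebraMap D Ds)) ≫ SpM (algebraMap R D) := by
    have h1 : b.left ≫ G.hom = SpM (algebraMap R Ds[X]) := Over.w b
    rw [h1, ← SpM_comp, RingHom.comp_assoc, hDs.comp_eq]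
  have hab : SpM (algebraMap D Ds) ≫ (1 : SpO R D ⟶ G).left =
      SpM (constantCoeff : Ds[X] →+* Ds) ≫ b.left := by
    have h1 : (SpOMap R (constantCoeff : Ds[X] →+* Ds) ≫ b).left = (1 : SpO R Ds ⟶ G).left :=
      congrArg CommaMorphism.left hb
    have h2 : SpOMap R (algebraMap D Ds) ≫ (1 : SpO R D ⟶ G) = 1 := MonObj.comp_one _
    have h3 : (SpOMap R (algebraMap D Ds) ≫ (1 : SpO R D ⟶ G)).left = (1 : SpO R Ds ⟶ G).left :=
      congrArg CommaMorphism.left h2
    rw [Over.comp_left, SpOMap_left] at h1 h3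
    exact h3.trans h1.symm
  obtain ⟨N, g₀, hg1, hg2, hg3⟩ := lemmaA Ds s G.hom (SpM (algebraMap R D))
    (1 : SpO R D ⟶ G).left b.left (Over.w (1 : SpO R D ⟶ G)) hbf hab
  have hw : g₀ ≫ G.hom = (SpO R D[X]).hom := by
    rw [hg1, ← SpM_comp]
    rfl
  refine ⟨N, Over.homMk g₀ hw, ?_, ?_⟩
  · apply Over.OverMorphism.ext
    show SpM (constantCoeff : D[X] →+* D) ≫ g₀ = _
    exact hg2
  · apply Over.OverMorphism.ext
    show SpM (mapRingHom (algebraMap D Ds)) ≫ g₀ =
      SpM (compRingHom (C (algebraMap D Ds s ^ N) * X)) ≫ b.left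
    rw [← hg3, ← Category.assoc, ← SpM_comp, scale_comp_sigma]

/-- **Lemma A** for two polynomial variables over a localisation `K → L = K_y`. -/
theorem lemmaA_poly (G : Over (Spec (CommRingCat.of R))) [GrpObj G]
    [LocallyOfFinitePresentation G.hom]
    {K L : Type u} [CommRing K] [CommRing L] [Algebra R K] [Algebra R L] [Algebra K L]
    [IsScalarTower R K L] (y : K) [IsLocalization.Away y L]
    (b : SpO R L[X][X] ⟶ G) (hb : SpOMap R (constantCoeff : L[X][X] →+* L[X]) ≫ b = 1) :
    ∃ (N : ℕ) (g : SpO R K[X][X] ⟶ G),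
      SpOMap R (constantCoeff : K[X][X] →+* K[X]) ≫ g = 1 ∧
      SpOMap R (mapRingHom (mapRingHom (algebraMap K L))) ≫ g =
        SpOMap R (compRingHom (C (C (algebraMap K L y ^ N)) * X)) ≫ b := by
  letI : Algebra K[X] L[X] := Polynomial.algebra K L
  haveI : IsLocalization.Away (C y : K[X]) L[X] := away_polynomial y
  have e1 : algebraMap K[X] L[X] = mapRingHom (algebraMap K L) := Polynomial.algebraMap_def K L
  haveI : RCompat R (algebraMap K[X] L[X]) := by
    rw [e1]
    infer_instance
  obtain ⟨N, g, h1, h2⟩ := lemmaA_over G (D := K[X]) (Ds := L[X]) (C y) b hb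
  refine ⟨N, g, h1, ?_⟩
  have e2 : algebraMap K[X] L[X] (C y) ^ N = C (algebraMap K L y ^ N) := by
    rw [e1, coe_mapRingHom, map_C, ← C_pow]
  have e3 : mapRingHom (mapRingHom (algebraMap K L)) = mapRingHom (algebraMap K[X] L[X]) := by
    rw [e1]
  have e4 : compRingHom (C (algebraMap K[X] L[X] (C y) ^ N) * X) =
      compRingHom (C (C (algebraMap K L y ^ N)) * X) := by
    rw [e2]
  rw [SpOMap_congr R e3, h2, SpOMap_congr R e4]

end Over

end Groth.Agent.Lib.QGrpH4
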