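import Mathlib
import Groth.Agent.Lib.QGrpA_helper4

/-!
# Quillen's decomposition `G₀(B) = G₀(A) · G₀(A')` (helper4)

For `g(T)` a `B[T]`-point of a group scheme with `g(0) = 1` one considers
`ψ(X, Y) = g(X + Y) g(X)⁻¹`; Lemma A descends `ψ(X, r^N Y)` to `A'[X, Y]` and `ψ(X, r'^N Y)` to
`A[X, Y]`; writing `1 = a r^N + b r'^N` gives
`g(T) = ψ(a r^N T, b r'^N T) · ψ(0, a r^N T)`.
-/

set_option autoImplicit false
set_option linter.style.haveILetI false
universe u
open Polynomial CategoryTheory CategoryTheory.Limits AlgebraicGeometry MonoidalCategory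
  CartesianMonoidalCategory MonObj

namespace Groth.Agent.Lib.QGrpH4

open Groth.Agent.Lib.GlueH4 Groth.Agent.Lib.QLimH4

section Rings

variable (K : Type u) [CommRing K]

/-- `T ↦ X + Y`. -/
noncomputable def addHom : K[X] →+* K[X][X] :=
  eval₂RingHom ((C : K[X] →+* K[X][X]).comp (C : K →+* K[X])) (C X + X)

variable {K}

@[simp] theorem addHom_C (k : K) : addHom K (C k) = C (C k) := by
  show eval₂ _ _ (C k) = _
  rw [eval₂_C]
  rfl

@[simp] theorem addHom_X : addHom K X = C X + X := by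
  show eval₂ _ _ X = _
  rw [eval₂_X]

/-- `X ↦ αT, Y ↦ βT`. -/
noncomputable def ev2 (α β : K) : K[X][X] →+* K[X] :=
  eval₂RingHom (compRingHom (C α * X)) (C β * X)

@[simp] theorem ev2_C (α β : K) (p : K[X]) : ev2 α β (C p) = p.comp (C α * X) := by
  show eval₂ _ _ (C p) = _
  rw [eval₂_C]
  rfl

@[simp] theorem ev2_X (α β : K) : ev2 α β X = C β * X := by
  show eval₂ _ _ X = _
  rw [eval₂_X]

/-- `T ↦ αT`. -/
noncomputable def dil (α : K) : K[X] →+* K[X] := compRingHom (C α * X)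

theorem dil_apply (α : K) (p : K[X]) : dil α p = p.comp (C α * X) := rfl

@[simp] theorem dil_C (α k : K) : dil α (C k) = C k := by rw [dil_apply, C_comp]

@[simp] theorem dil_X (α : K) : dil α X = C α * X := by rw [dil_apply, X_comp]

theorem constantCoeff_comp_addHom :
    (constantCoeff : K[X][X] →+* K[X]).comp (addHom K) = RingHom.id K[X] := by
  refine Polynomial.ringHom_ext (fun k => ?_) ?_
  · rw [RingHom.comp_apply, addHom_C, constantCoeff_apply, coeff_C_zero, RingHom.id_apply]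
  · rw [RingHom.comp_apply, addHom_X, map_add, constantCoeff_apply (C X), coeff_C_zero,
      constantCoeff_apply X, coeff_X_zero, add_zero, RingHom.id_apply]

theorem constantCoeff_comp_C :
    (constantCoeff : K[X][X] →+* K[X]).comp (C : K[X] →+* K[X][X]) = RingHom.id K[X] := by
  refine RingHom.ext (fun p => ?_)
  rw [RingHom.comp_apply, constantCoeff_apply, coeff_C_zero, RingHom.id_apply]

theorem eval_comp_ev2 (α β : K) :
    (evalRingHom (0 : K)).comp (ev2 α β) =
      (evalRingHom (0 : K)).comp (constantCoeff : K[X][X] →+* K[X]) := by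
  refine Polynomial.ringHom_ext' ?_ ?_
  · refine Polynomial.ringHom_ext (fun k => ?_) ?_
    · simp only [RingHom.comp_apply, ev2_C, C_comp, constantCoeff_apply, coeff_C_zero]
    · simp only [RingHom.comp_apply, ev2_C, X_comp, constantCoeff_apply, coeff_C_zero,
        coe_evalRingHom, eval_mul, eval_C, eval_X, mul_zero]
  · simp only [RingHom.comp_apply, ev2_X, constantCoeff_apply, coeff_X_zero, coe_evalRingHom,
      eval_mul, eval_C, eval_X, mul_zero, eval_zero]

theorem map_comp_ev2 {L : Type u} [CommRing L] (κ : K →+* L) (α β : K) :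
    (mapRingHom κ).comp (ev2 α β) = (ev2 (κ α) (κ β)).comp (mapRingHom (mapRingHom κ)) := by
  refine Polynomial.ringHom_ext' ?_ ?_
  · refine Polynomial.ringHom_ext (fun k => ?_) ?_
    · simp only [RingHom.comp_apply, ev2_C, C_comp, coe_mapRingHom, map_C]
    · simp only [RingHom.comp_apply, ev2_C, X_comp, coe_mapRingHom, map_C, map_X,
        Polynomial.map_mul]
  · simp only [RingHom.comp_apply, ev2_X, coe_mapRingHom, map_C, map_X, Polynomial.map_mul]

theorem ev2_comp_scale (α β ρ : K) :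
    (ev2 α β).comp (compRingHom (C (C ρ) * X)) = ev2 α (ρ * β) := by
  refine Polynomial.ringHom_ext' ?_ ?_
  · refine RingHom.ext (fun p => ?_)
    simp only [RingHom.comp_apply, coe_compRingHom_apply, C_comp, ev2_C]
  · simp only [RingHom.comp_apply, coe_compRingHom_apply, X_comp, map_mul, ev2_C, ev2_X, C_comp]
    ring

theorem ev2_comp_addHom (α c : K) : (ev2 α c).comp (addHom K) = dil (α + c) := by
  refine Polynomial.ringHom_ext (fun k => ?_) ?_
  · simp only [RingHom.comp_apply, addHom_C, ev2_C, C_comp, dil_C]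
  · simp only [RingHom.comp_apply, addHom_X, map_add, ev2_C, ev2_X, X_comp, dil_X, add_mul]

theorem ev2_comp_C (α c : K) : (ev2 α c).comp (C : K[X] →+* K[X][X]) = dil α := by
  refine RingHom.ext (fun p => ?_)
  rw [RingHom.comp_apply, ev2_C, dil_apply]

theorem dil_one : dil (1 : K) = RingHom.id K[X] := by
  refine Polynomial.ringHom_ext (fun k => ?_) ?_
  · rw [dil_C, RingHom.id_apply]
  · rw [dil_X, C_1, _root_.one_mul, RingHom.id_apply]

theorem dil_zero : dil (0 : K) = (C : K →+* K[X]).comp (evalRingHom (0 : K)) := by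
  refine Polynomial.ringHom_ext (fun k => ?_) ?_
  · rw [dil_C, RingHom.comp_apply, coe_evalRingHom, eval_C]
  · rw [dil_X, C_0, zero_mul, RingHom.comp_apply, coe_evalRingHom, eval_X, C_0]

end Rings

section Compat

variable (R : Type u) [CommRing R] {K : Type u} [CommRing K] [Algebra R K]

instance : RCompat R (addHom K) :=
  ⟨RingHom.ext fun r => by
    show addHom K (C (algebraMap R K r)) = C (C (algebraMap R K r))
    rw [addHom_C]⟩

instance (α β : K) : RCompat R (ev2 α β) :=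
  ⟨RingHom.ext fun r => by
    show ev2 α β (C (C (algebraMap R K r))) = C (algebraMap R K r)
    rw [ev2_C, C_comp]⟩

instance (α : K) : RCompat R (dil α) :=
  ⟨RingHom.ext fun r => by
    show dil α (C (algebraMap R K r)) = C (algebraMap R K r)
    rw [dil_C]⟩

end Compat

section Main

variable {R : Type u} [CommRing R] (G : Over (Spec (CommRingCat.of R))) [GrpObj G]

/-- `ψ(X, Y) = g(X + Y) g(X)⁻¹`. -/
noncomputable def psi {K : Type u} [CommRing K] [Algebra R K] (g : SpO R K[X] ⟶ G) :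
    SpO R K[X][X] ⟶ G :=
  (SpOMap R (addHom K) ≫ g) * (SpOMap R (C : K[X] →+* K[X][X]) ≫ g)⁻¹

variable {G}

theorem pb_mul {U U' : Type u} [CommRing U] [CommRing U'] [Algebra R U] [Algebra R U']
    (φ : U →+* U') [RCompat R φ] (x y : SpO R U ⟶ G) :
    SpOMap R φ ≫ (x * y) = (SpOMap R φ ≫ x) * (SpOMap R φ ≫ y) :=
  MonObj.comp_mul _ _ _

theorem pb_inv {U U' : Type u} [CommRing U] [CommRing U'] [Algebra R U] [Algebra R U']
    (φ : U →+* U') [RCompat R φ] (x : SpO R U ⟶ G) :
    SpOMap R φ ≫ x⁻¹ = (SpOMap R φ ≫ x)⁻¹ :=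
  GrpObj.comp_inv _ _

theorem pb_one {U U' : Type u} [CommRing U] [CommRing U'] [Algebra R U] [Algebra R U']
    (φ : U →+* U') [RCompat R φ] :
    SpOMap R φ ≫ (1 : SpO R U ⟶ G) = 1 :=
  MonObj.comp_one _

omit [GrpObj G] in
theorem pb_id {U : Type u} [CommRing U] [Algebra R U] (x : SpO R U ⟶ G) :
    SpOMap R (RingHom.id U) ≫ x = x := by
  rw [SpOMap_id, Category.id_comp]

theorem pb_psi {K U : Type u} [CommRing K] [Algebra R K] [CommRing U] [Algebra R U]
    (g : SpO R K[X] ⟶ G) (φ : K[X][X] →+* U) [RCompat R φ] :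
    SpOMap R φ ≫ psi G g =
      (SpOMap R (φ.comp (addHom K)) ≫ g) * (SpOMap R (φ.comp (C : K[X] →+* K[X][X])) ≫ g)⁻¹ := by
  rw [psi, pb_mul, pb_inv, SpOMap_comp_assoc, SpOMap_comp_assoc]

theorem psi_const {K : Type u} [CommRing K] [Algebra R K] (g : SpO R K[X] ⟶ G) :
    SpOMap R (constantCoeff : K[X][X] →+* K[X]) ≫ psi G g = 1 := by
  rw [pb_psi, SpOMap_congr R (constantCoeff_comp_addHom (K := K)),
    SpOMap_congr R (constantCoeff_comp_C (K := K)), pb_id, mul_inv_cancel]

theorem ev2_psi {K : Type u} [CommRing K] [Algebra R K] (g : SpO R K[X] ⟶ G) (α c : K) :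
    SpOMap R (ev2 α c) ≫ psi G g =
      (SpOMap R (dil (α + c)) ≫ g) * (SpOMap R (dil α) ≫ g)⁻¹ := by
  rw [pb_psi, SpOMap_congr R (ev2_comp_addHom α c), SpOMap_congr R (ev2_comp_C α c)]

/-- Evaluating a descended `ψ` and restricting to `L`. -/
theorem pb_ev2_descended {K L : Type u} [CommRing K] [CommRing L] [Algebra R K] [Algebra R L]
    [Algebra K L] [IsScalarTower R K L] (g : SpO R L[X] ⟶ G) (ψ₂ : SpO R K[X][X] ⟶ G) (ρ : L)
    (h : SpOMap R (mapRingHom (mapRingHom (algebraMap K L))) ≫ ψ₂ =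
      SpOMap R (compRingHom (C (C ρ) * X)) ≫ psi G g) (α β : K) :
    SpOMap R (mapRingHom (algebraMap K L)) ≫ SpOMap R (ev2 α β) ≫ ψ₂ =
      (SpOMap R (dil (algebraMap K L α + ρ * algebraMap K L β)) ≫ g) *
        (SpOMap R (dil (algebraMap K L α)) ≫ g)⁻¹ := by
  rw [SpOMap_comp_assoc, SpOMap_congr R (map_comp_ev2 (algebraMap K L) α β),
    ← SpOMap_comp_assoc, h, SpOMap_comp_assoc,
    SpOMap_congr R (ev2_comp_scale (algebraMap K L α) (algebraMap K L β) ρ), ev2_psi]

theorem eval_ev2_descended {K : Type u} [CommRing K] [Algebra R K] (ψ₂ : SpO R K[X][X] ⟶ G)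
    (h : SpOMap R (constantCoeff : K[X][X] →+* K[X]) ≫ ψ₂ = 1) (α β : K) :
    SpOMap R (evalRingHom (0 : K)) ≫ SpOMap R (ev2 α β) ≫ ψ₂ = 1 := by
  rw [SpOMap_comp_assoc, SpOMap_congr R (eval_comp_ev2 α β), ← SpOMap_comp_assoc, h, pb_one]

/-- **Quillen's decomposition.** -/
theorem quillen_main [LocallyOfFinitePresentation G.hom]
    (r r' : R) (hrr : Ideal.span ({r, r'} : Set R) = ⊤)
    (A A' B : Type u) [CommRing A] [CommRing A'] [CommRing B] [Algebra R A] [Algebra R A']
    [Algebra R B] [IsLocalization.Away r A] [IsLocalization.Away r' A']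
    [IsLocalization.Away (r * r') B] [Algebra A B] [Algebra A' B] [IsScalarTower R A B]
    [IsScalarTower R A' B]
    (g : SpO R B[X] ⟶ G) (hg : SpOMap R (evalRingHom (0 : B)) ≫ g = 1) :
    ∃ (g₁ : SpO R A[X] ⟶ G) (g₂ : SpO R A'[X] ⟶ G),
      SpOMap R (evalRingHom (0 : A)) ≫ g₁ = 1 ∧ SpOMap R (evalRingHom (0 : A')) ≫ g₂ = 1 ∧
      g = (SpOMap R (mapRingHom (algebraMap A B)) ≫ g₁) *
        (SpOMap R (mapRingHom (algebraMap A' B)) ≫ g₂) := by
  haveI hB1 : IsLocalization.Away (algebraMap R A r') B :=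
    away_of_away_mul r r' (inferInstance : IsLocalization.Away (r * r') B)
  haveI hB2 : IsLocalization.Away (algebraMap R A' r) B :=
    away_of_away_mul r' r (mul_comm r r' ▸ (inferInstance : IsLocalization.Away (r * r') B))
  obtain ⟨N₂, ψ₂, hψ₂c, hψ₂⟩ := lemmaA_poly G (K := A) (L := B) (algebraMap R A r') (psi G g)
    (psi_const g)
  obtain ⟨N₁, ψ₁, hψ₁c, hψ₁⟩ := lemmaA_poly G (K := A') (L := B) (algebraMap R A' r) (psi G g)
    (psi_const g)
  have hcop : IsCoprime r r' := by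
    have h1 : (1 : R) ∈ Ideal.span ({r, r'} : Set R) := by
      rw [hrr]
      exact Submodule.mem_top
    obtain ⟨a, b, hab⟩ := Ideal.mem_span_pair.mp h1
    exact ⟨a, b, hab⟩
  obtain ⟨a, b, hab⟩ : IsCoprime (r ^ N₁) (r' ^ N₂) := hcop.pow
  refine ⟨SpOMap R (ev2 (algebraMap R A (a * r ^ N₁)) (algebraMap R A b)) ≫ ψ₂,
    SpOMap R (ev2 (0 : A') (algebraMap R A' a)) ≫ ψ₁,
    eval_ev2_descended ψ₂ hψ₂c _ _, eval_ev2_descended ψ₁ hψ₁c _ _, ?_⟩
  rw [pb_ev2_descended g ψ₂ _ hψ₂, pb_ev2_descended g ψ₁ _ hψ₁]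
  have e1 : algebraMap A B (algebraMap R A (a * r ^ N₁)) +
      algebraMap A B (algebraMap R A r') ^ N₂ * algebraMap A B (algebraMap R A b) = 1 := by
    rw [← IsScalarTower.algebraMap_apply, ← IsScalarTower.algebraMap_apply,
      ← IsScalarTower.algebraMap_apply, ← map_pow, ← map_mul, ← map_add, ← map_one (algebraMap R B)]
    congr 1
    linear_combination hab
  have e2 : algebraMap A' B (0 : A') +
      algebraMap A' B (algebraMap R A' r) ^ N₁ * algebraMap A' B (algebraMap R A' a) =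
      algebraMap A B (algebraMap R A (a * r ^ N₁)) := by
    rw [map_zero, zero_add, ← IsScalarTower.algebraMap_apply, ← IsScalarTower.algebraMap_apply,
      ← IsScalarTower.algebraMap_apply, ← map_pow, ← map_mul, mul_comm]
  have e3 : SpOMap R (dil (algebraMap A' B (0 : A'))) ≫ g = 1 := by
    rw [SpOMap_congr R (show dil (algebraMap A' B (0 : A')) =
      (C : B →+* B[X]).comp (evalRingHom (0 : B)) by rw [map_zero, dil_zero]),
      ← SpOMap_comp_assoc, hg, pb_one]
  rw [SpOMap_congr R (congrArg dil e1), SpOMap_congr R (dil_one (K := B)), pb_id,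
    SpOMap_congr R (congrArg dil e2), e3, inv_one, _root_.mul_one, inv_mul_cancel_right]

end Main

end Groth.Agent.Lib.QGrpH4
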