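import Mathlib
import Groth.Agent.Lib.QGrpB_helper4

/-!
# Quillen's decomposition over an algebra, and glueing along two opens (helper4)

* `quillen_alg`: Quillen's decomposition `g = g₁ g₂` for a point `g ∈ G(K_{rr'}[X])` of a group
  scheme `G` over `Spec R` locally of finite presentation, `K` an `R`-algebra, `(r, r') = K`.
* `glue_two`, `hom_ext_two`: morphisms out of a scheme covered by two open subschemes.
* `isPullback_away`, `glue_away`, `hom_ext_away`: the case of `Spec K = D(r) ∪ D(r')`.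
-/

set_option autoImplicit false
set_option linter.style.haveILetI false
set_option linter.unusedSectionVars false
universe u
open Polynomial CategoryTheory CategoryTheory.Limits AlgebraicGeometry MonoidalCategory
  CartesianMonoidalCategory MonObj

namespace Groth.Agent.Lib.TLineH4

open Groth.Agent.Lib.GlueH4 Groth.Agent.Lib.QLimH4 Groth.Agent.Lib.QGrpH4

section Quillen

variable {R : Type u} [CommRing R] {G : Over (Spec (CommRingCat.of R))} [GrpObj G]

/-- **Quillen's decomposition** over an `R`-algebra `K`. -/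
theorem quillen_alg [LocallyOfFinitePresentation G.hom]
    {K : Type u} [CommRing K] [Algebra R K]
    (r r' : K) (hrr : Ideal.span ({r, r'} : Set K) = ⊤)
    (A A' B : Type u) [CommRing A] [CommRing A'] [CommRing B]
    [Algebra K A] [Algebra K A'] [Algebra K B] [Algebra R A] [Algebra R A'] [Algebra R B]
    [IsScalarTower R K A] [IsScalarTower R K A'] [IsScalarTower R K B]
    [IsLocalization.Away r A] [IsLocalization.Away r' A']
    [IsLocalization.Away (r * r') B] [Algebra A B] [Algebra A' B] [IsScalarTower K A B]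
    [IsScalarTower K A' B] [IsScalarTower R A B] [IsScalarTower R A' B]
    (g : SpO R B[X] ⟶ G) (hg : SpOMap R (evalRingHom (0 : B)) ≫ g = 1) :
    ∃ (g₁ : SpO R A[X] ⟶ G) (g₂ : SpO R A'[X] ⟶ G),
      g = (SpOMap R (mapRingHom (algebraMap A B)) ≫ g₁) *
        (SpOMap R (mapRingHom (algebraMap A' B)) ≫ g₂) := by
  haveI hB1 : IsLocalization.Away (algebraMap K A r') B :=
    away_of_away_mul r r' (inferInstance : IsLocalization.Away (r * r') B)
  haveI hB2 : IsLocalization.Away (algebraMap K A' r) B :=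
    away_of_away_mul r' r (mul_comm r r' ▸ (inferInstance : IsLocalization.Away (r * r') B))
  obtain ⟨N₂, ψ₂, hψ₂c, hψ₂⟩ := lemmaA_poly G (K := A) (L := B) (algebraMap K A r') (psi G g)
    (psi_const g)
  obtain ⟨N₁, ψ₁, hψ₁c, hψ₁⟩ := lemmaA_poly G (K := A') (L := B) (algebraMap K A' r) (psi G g)
    (psi_const g)
  have hcop : IsCoprime r r' := by
    have h1 : (1 : K) ∈ Ideal.span ({r, r'} : Set K) := by
      rw [hrr]
      exact Submodule.mem_top
    obtain ⟨a, b, hab⟩ := Ideal.mem_span_pair.mp h1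
    exact ⟨a, b, hab⟩
  obtain ⟨a, b, hab⟩ : IsCoprime (r ^ N₁) (r' ^ N₂) := hcop.pow
  refine ⟨SpOMap R (ev2 (algebraMap K A (a * r ^ N₁)) (algebraMap K A b)) ≫ ψ₂,
    SpOMap R (ev2 (0 : A') (algebraMap K A' a)) ≫ ψ₁, ?_⟩
  rw [pb_ev2_descended g ψ₂ _ hψ₂, pb_ev2_descended g ψ₁ _ hψ₁]
  have e1 : algebraMap A B (algebraMap K A (a * r ^ N₁)) +
      algebraMap A B (algebraMap K A r') ^ N₂ * algebraMap A B (algebraMap K A b) = 1 := by
    rw [← IsScalarTower.algebraMap_apply, ← IsScalarTower.algebraMap_apply,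
      ← IsScalarTower.algebraMap_apply, ← map_pow, ← map_mul, ← map_add, ← map_one (algebraMap K B)]
    congr 1
    linear_combination hab
  have e2 : algebraMap A' B (0 : A') +
      algebraMap A' B (algebraMap K A' r) ^ N₁ * algebraMap A' B (algebraMap K A' a) =
      algebraMap A B (algebraMap K A (a * r ^ N₁)) := by
    rw [map_zero, zero_add, ← IsScalarTower.algebraMap_apply, ← IsScalarTower.algebraMap_apply,
      ← IsScalarTower.algebraMap_apply, ← map_pow, ← map_mul, mul_comm]
  have e3 : SpOMap R (dil (algebraMap A' B (0 : A'))) ≫ g = 1 := by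
    rw [SpOMap_congr R (show dil (algebraMap A' B (0 : A')) =
      (C : B →+* B[X]).comp (evalRingHom (0 : B)) by rw [map_zero, dil_zero]),
      ← SpOMap_comp_assoc, hg, pb_one]
  rw [SpOMap_congr R (congrArg dil e1), SpOMap_congr R (dil_one (K := B)), pb_id,
    SpOMap_congr R (congrArg dil e2), e3, inv_one, _root_.mul_one, inv_mul_cancel_right]

end Quillen

section Two

variable {V U₀ U₁ W Y : Scheme.{u}} (g₀ : U₀ ⟶ V) (g₁ : U₁ ⟶ V) [IsOpenImmersion g₀]
  [IsOpenImmersion g₁] (hsurj : ∀ x : V, x ∈ Set.range g₀ ∨ x ∈ Set.range g₁)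

/-- The open cover by two open subschemes. -/
noncomputable def cov2 : V.OpenCover :=
  Scheme.Cover.mkOfCovers Bool (fun j => cond j U₀ U₁)
    (fun j => match j with
      | true => g₀
      | false => g₁)
    (fun x => by
      rcases hsurj x with ⟨y, hy⟩ | ⟨y, hy⟩
      · exact ⟨true, y, hy⟩
      · exact ⟨false, y, hy⟩)
    (fun j => by
      cases j
      · exact (inferInstance : IsOpenImmersion g₁)
      · exact (inferInstance : IsOpenImmersion g₀))

include hsurj in
theorem hom_ext_two (x y : V ⟶ Y) (h₀ : g₀ ≫ x = g₀ ≫ y) (h₁ : g₁ ≫ x = g₁ ≫ y) : x = y := by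
  refine (cov2 g₀ g₁ hsurj).hom_ext x y (fun j => ?_)
  cases j
  · exact h₁
  · exact h₀

include hsurj in
theorem glue_two (w₀ : W ⟶ U₀) (w₁ : W ⟶ U₁) (hW : IsPullback w₀ w₁ g₀ g₁)
    (x₀ : U₀ ⟶ Y) (x₁ : U₁ ⟶ Y) (h : w₀ ≫ x₀ = w₁ ≫ x₁) :
    ∃ x : V ⟶ Y, g₀ ≫ x = x₀ ∧ g₁ ≫ x = x₁ := by
  let cf : ∀ j, (cov2 g₀ g₁ hsurj).X j ⟶ Y := fun j => match j with
    | true => x₀
    | false => x₁
  have hcompat : ∀ i j, pullback.fst ((cov2 g₀ g₁ hsurj).f i) ((cov2 g₀ g₁ hsurj).f j) ≫ cf i =
      pullback.snd ((cov2 g₀ g₁ hsurj).f i) ((cov2 g₀ g₁ hsurj).f j) ≫ cf j := by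
    intro i j
    cases i <;> cases j
    · show pullback.fst g₁ g₁ ≫ x₁ = pullback.snd g₁ g₁ ≫ x₁
      have e : pullback.fst g₁ g₁ = pullback.snd g₁ g₁ := by
        rw [← cancel_mono g₁]
        exact pullback.condition
      rw [e]
    · show pullback.fst g₁ g₀ ≫ x₁ = pullback.snd g₁ g₀ ≫ x₀
      obtain ⟨l, e1, e2⟩ : ∃ l : pullback g₁ g₀ ⟶ W, l ≫ w₀ = pullback.snd g₁ g₀ ∧
          l ≫ w₁ = pullback.fst g₁ g₀ :=
        ⟨hW.lift (pullback.snd g₁ g₀) (pullback.fst g₁ g₀) pullback.condition.symm,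
          hW.lift_fst _ _ _, hW.lift_snd _ _ _⟩
      rw [← e1, ← e2, Category.assoc, Category.assoc, h]
    · show pullback.fst g₀ g₁ ≫ x₀ = pullback.snd g₀ g₁ ≫ x₁
      obtain ⟨l, e1, e2⟩ : ∃ l : pullback g₀ g₁ ⟶ W, l ≫ w₀ = pullback.fst g₀ g₁ ∧
          l ≫ w₁ = pullback.snd g₀ g₁ :=
        ⟨hW.lift (pullback.fst g₀ g₁) (pullback.snd g₀ g₁) pullback.condition,
          hW.lift_fst _ _ _, hW.lift_snd _ _ _⟩
      rw [← e1, ← e2, Category.assoc, Category.assoc, h]
    · show pullback.fst g₀ g₀ ≫ x₀ = pullback.snd g₀ g₀ ≫ x₀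
      have e : pullback.fst g₀ g₀ = pullback.snd g₀ g₀ := by
        rw [← cancel_mono g₀]
        exact pullback.condition
      rw [e]
  refine ⟨(cov2 g₀ g₁ hsurj).glueMorphisms cf hcompat, ?_, ?_⟩
  · exact (cov2 g₀ g₁ hsurj).ι_glueMorphisms cf hcompat true
  · exact (cov2 g₀ g₁ hsurj).ι_glueMorphisms cf hcompat false

end Two

section Away

variable {K : Type u} [CommRing K] (r r' : K)
  (A A' B : Type u) [CommRing A] [CommRing A'] [CommRing B]
  [Algebra K A] [Algebra K A'] [Algebra K B]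
  [IsLocalization.Away r A] [IsLocalization.Away r' A'] [IsLocalization.Away (r * r') B]
  [Algebra A B] [Algebra A' B] [IsScalarTower K A B] [IsScalarTower K A' B]

theorem opensRange_away (f : K) (L : Type u) [CommRing L] [Algebra K L] [IsLocalization.Away f L] :
    haveI := IsOpenImmersion.of_isLocalization (S := L) f
    (SpM (algebraMap K L)).opensRange = PrimeSpectrum.basicOpen f := by
  haveI := IsOpenImmersion.of_isLocalization (S := L) f
  refine TopologicalSpace.Opens.ext ?_
  exact PrimeSpectrum.localization_away_comap_range L f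

theorem range_away (f : K) (L : Type u) [CommRing L] [Algebra K L] [IsLocalization.Away f L] :
    Set.range (SpM (algebraMap K L)) = (PrimeSpectrum.basicOpen f : Set (PrimeSpectrum K)) :=
  PrimeSpectrum.localization_away_comap_range L f

include r r' in
theorem isPullback_away :
    IsPullback (SpM (algebraMap A B)) (SpM (algebraMap A' B)) (SpM (algebraMap K A))
      (SpM (algebraMap K A')) := by
  haveI hB1 : IsLocalization.Away (algebraMap K A r') B :=
    away_of_away_mul r r' (inferInstance : IsLocalization.Away (r * r') B)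
  haveI i1 : IsOpenImmersion (SpM (algebraMap A B)) :=
    IsOpenImmersion.of_isLocalization (algebraMap K A r')
  haveI i2 : IsOpenImmersion (SpM (algebraMap K A')) := IsOpenImmersion.of_isLocalization r'
  have hcomm : SpM (algebraMap A B) ≫ SpM (algebraMap K A) =
      SpM (algebraMap A' B) ≫ SpM (algebraMap K A') := by
    rw [← SpM_comp, ← SpM_comp, ← IsScalarTower.algebraMap_eq, ← IsScalarTower.algebraMap_eq]
  refine (IsOpenImmersion.isPullback (SpM (algebraMap A' B)) (SpM (algebraMap A B))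
    (SpM (algebraMap K A')) (SpM (algebraMap K A)) hcomm ?_).flip
  rw [opensRange_away r' A', opensRange_away (algebraMap K A r') B]
  rfl

include r r' in
theorem glue_away (hrr : Ideal.span ({r, r'} : Set K) = ⊤) {Y : Scheme.{u}}
    (x₀ : Spec (CommRingCat.of A) ⟶ Y) (x₁ : Spec (CommRingCat.of A') ⟶ Y)
    (h : SpM (algebraMap A B) ≫ x₀ = SpM (algebraMap A' B) ≫ x₁) :
    ∃ x : Spec (CommRingCat.of K) ⟶ Y, SpM (algebraMap K A) ≫ x = x₀ ∧
      SpM (algebraMap K A') ≫ x = x₁ := by
  haveI i1 : IsOpenImmersion (SpM (algebraMap K A)) := IsOpenImmersion.of_isLocalization r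
  haveI i2 : IsOpenImmersion (SpM (algebraMap K A')) := IsOpenImmersion.of_isLocalization r'
  refine glue_two (SpM (algebraMap K A)) (SpM (algebraMap K A')) ?_ _ _
    (isPullback_away r r' A A' B) x₀ x₁ h
  intro x
  rw [range_away r A, range_away r' A']
  by_contra hx
  rw [not_or] at hx
  have h1 : r ∈ x.asIdeal := by
    by_contra h1
    exact hx.1 h1
  have h2 : r' ∈ x.asIdeal := by
    by_contra h2
    exact hx.2 h2
  have h3 : Ideal.span ({r, r'} : Set K) ≤ x.asIdeal := by
    rw [Ideal.span_le]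
    intro y hy
    rcases hy with rfl | rfl
    · exact h1
    · exact h2
  rw [hrr] at h3
  exact x.isPrime.ne_top (top_le_iff.mp h3)

include r r' in
theorem hom_ext_away (hrr : Ideal.span ({r, r'} : Set K) = ⊤) {Y : Scheme.{u}}
    (x y : Spec (CommRingCat.of K) ⟶ Y)
    (h₀ : SpM (algebraMap K A) ≫ x = SpM (algebraMap K A) ≫ y)
    (h₁ : SpM (algebraMap K A') ≫ x = SpM (algebraMap K A') ≫ y) : x = y := by
  haveI i1 : IsOpenImmersion (SpM (algebraMap K A)) := IsOpenImmersion.of_isLocalization r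
  haveI i2 : IsOpenImmersion (SpM (algebraMap K A')) := IsOpenImmersion.of_isLocalization r'
  refine hom_ext_two (SpM (algebraMap K A)) (SpM (algebraMap K A')) ?_ x y h₀ h₁
  intro x
  rw [range_away r A, range_away r' A']
  by_contra hx
  rw [not_or] at hx
  have h1 : r ∈ x.asIdeal := by
    by_contra h1
    exact hx.1 h1
  have h2 : r' ∈ x.asIdeal := by
    by_contra h2
    exact hx.2 h2
  have h3 : Ideal.span ({r, r'} : Set K) ≤ x.asIdeal := by
    rw [Ideal.span_le]
    intro y hy
    rcases hy with rfl | rfl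
    · exact h1
    · exact h2
  rw [hrr] at h3
  exact x.isPrime.ne_top (top_le_iff.mp h3)

end Away

end Groth.Agent.Lib.TLineH4
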