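import Mathlib
import Groth.Agent.Lib.QGrpB_helper4

/-!
# Spreading out from `R_m[X]` to `R_s[X]` (helper4)

`(Localization.AtPrime m)[X]` is the filtered colimit of the `(Localization.Away s)[X]`, `s ∉ m`,
so a morphism from its spectrum to a scheme locally of finite presentation over a base factors
through some `Spec (Localization.Away s)[X]` (`spread_out`).
-/

set_option autoImplicit false
set_option linter.style.haveILetI false
set_option linter.unusedSectionVars false
universe u
open Polynomial CategoryTheory CategoryTheory.Limits AlgebraicGeometry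

namespace Groth.Agent.Lib.TLineH4

open Groth.Agent.Lib.GlueH4 Groth.Agent.Lib.QLimH4 Groth.Agent.Lib.QGrpH4

section Tr

variable {R : Type u} [CommRing R]

theorem isUnit_away_of_dvd {s t : R} (h : s ∣ t) :
    IsUnit (algebraMap R (Localization.Away t) s) := by
  obtain ⟨c, rfl⟩ := h
  have h1 : IsUnit (algebraMap R (Localization.Away (s * c)) (s * c)) :=
    IsLocalization.Away.algebraMap_isUnit (s * c)
  rw [map_mul] at h1
  exact isUnit_of_mul_isUnit_left h1

/-- The transition map `R_s → R_t` for `s ∣ t`. -/
noncomputable def awayTr {s t : R} (h : s ∣ t) : Localization.Away s →+* Localization.Away t :=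
  IsLocalization.Away.lift s (g := algebraMap R (Localization.Away t)) (isUnit_away_of_dvd h)

theorem awayTr_comp {s t : R} (h : s ∣ t) :
    (awayTr h).comp (algebraMap R (Localization.Away s)) = algebraMap R (Localization.Away t) :=
  IsLocalization.Away.lift_comp s (isUnit_away_of_dvd h)

theorem awayTr_refl (s : R) : awayTr (dvd_refl s) = RingHom.id _ := by
  apply away_hom_ext
  rw [awayTr_comp, RingHom.id_comp]

theorem awayTr_trans {s t v : R} (h : s ∣ t) (h' : t ∣ v) :
    (awayTr h').comp (awayTr h) = awayTr (dvd_trans h h') := by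
  apply away_hom_ext
  rw [RingHom.comp_assoc, awayTr_comp, awayTr_comp, awayTr_comp]

instance awayTr_compat {s t : R} (h : s ∣ t) : RCompat R (awayTr h) := ⟨awayTr_comp h⟩

end Tr

section Colim

variable {R : Type u} [CommRing R] (m : Ideal R) [hm : m.IsPrime]

/-- Elements outside `m`, ordered by divisibility. -/
structure PC : Type u where
  /-- the element -/
  val : R
  prop : val ∉ m

instance : Preorder (PC m) where
  le a b := a.val ∣ b.val
  le_refl a := dvd_refl _
  le_trans a b c := dvd_trans

instance : Nonempty (PC m) := ⟨⟨1, (Ideal.ne_top_iff_one m).1 hm.ne_top⟩⟩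

instance : IsDirected (PC m) (· ≤ ·) :=
  ⟨fun a b => ⟨⟨a.val * b.val, fun h => (hm.mem_or_mem h).elim a.prop b.prop⟩,
    Dvd.intro _ rfl, Dvd.intro_left _ rfl⟩⟩

theorem isUnit_atPrime {s : R} (hs : s ∉ m) :
    IsUnit (algebraMap R (Localization.AtPrime m) s) :=
  IsLocalization.map_units (Localization.AtPrime m) (⟨s, hs⟩ : m.primeCompl)

/-- The map `R_s → R_m` for `s ∉ m`. -/
noncomputable def atTr {s : R} (hs : s ∉ m) : Localization.Away s →+* Localization.AtPrime m :=
  IsLocalization.Away.lift s (g := algebraMap R (Localization.AtPrime m)) (isUnit_atPrime m hs)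

theorem atTr_comp {s : R} (hs : s ∉ m) :
    (atTr m hs).comp (algebraMap R (Localization.Away s)) =
      algebraMap R (Localization.AtPrime m) :=
  IsLocalization.Away.lift_comp s (isUnit_atPrime m hs)

theorem atTr_awayTr {s t : R} (h : s ∣ t) (hs : s ∉ m) (ht : t ∉ m) :
    (atTr m ht).comp (awayTr h) = atTr m hs := by
  apply away_hom_ext
  rw [RingHom.comp_assoc, awayTr_comp, atTr_comp, atTr_comp]

/-- The diagram `s ↦ R_s[X]`. -/
noncomputable def FFm : PC m ⥤ CommRingCat.{u} where
  obj s := CommRingCat.of (Localization.Away s.val)[X]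
  map {s t} f := CommRingCat.ofHom (mapRingHom (awayTr (leOfHom f)))
  map_id s := by
    show CommRingCat.ofHom (mapRingHom (awayTr (dvd_refl s.val))) = 𝟙 _
    rw [awayTr_refl, mapRingHom_id]
    rfl
  map_comp {s t v} f g := by
    show CommRingCat.ofHom (mapRingHom (awayTr (dvd_trans (leOfHom f) (leOfHom g)))) =
      CommRingCat.ofHom (mapRingHom (awayTr (leOfHom f))) ≫
        CommRingCat.ofHom (mapRingHom (awayTr (leOfHom g)))
    rw [← CommRingCat.ofHom_comp, mapRingHom_comp, awayTr_trans]

/-- The cocone with vertex `R_m[X]`. -/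
noncomputable def coconem : Cocone (FFm m) where
  pt := CommRingCat.of (Localization.AtPrime m)[X]
  ι :=
    { app := fun s => CommRingCat.ofHom (mapRingHom (atTr m s.prop))
      naturality := fun s t f => by
        show CommRingCat.ofHom (mapRingHom (awayTr (leOfHom f))) ≫
          CommRingCat.ofHom (mapRingHom (atTr m t.prop)) =
          CommRingCat.ofHom (mapRingHom (atTr m s.prop)) ≫ 𝟙 _
        rw [Category.comp_id, ← CommRingCat.ofHom_comp, mapRingHom_comp,
          atTr_awayTr m (leOfHom f) s.prop t.prop] }

theorem coconem_surj (x : (Localization.AtPrime m)[X]) :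
    ∃ (s : PC m) (y : (Localization.Away s.val)[X]), mapRingHom (atTr m s.prop) y = x := by
  letI : Algebra R[X] (Localization.AtPrime m)[X] := Polynomial.algebra R (Localization.AtPrime m)
  haveI hloc : IsLocalization (m.primeCompl.map (C : R →+* R[X])) (Localization.AtPrime m)[X] :=
    Polynomial.isLocalization m.primeCompl (Localization.AtPrime m)
  have e0 : algebraMap R[X] (Localization.AtPrime m)[X] =
      mapRingHom (algebraMap R (Localization.AtPrime m)) :=
    Polynomial.algebraMap_def R (Localization.AtPrime m)
  obtain ⟨⟨p, ⟨c, t, ht, rfl⟩⟩, hpc⟩ :=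
    IsLocalization.surj (m.primeCompl.map (C : R →+* R[X])) x
  have ht' : t ∉ m := ht
  letI : Algebra R[X] (Localization.Away t)[X] := Polynomial.algebra R (Localization.Away t)
  haveI hloct : IsLocalization.Away (C t : R[X]) (Localization.Away t)[X] := away_polynomial t
  have e1 : algebraMap R[X] (Localization.Away t)[X] =
      mapRingHom (algebraMap R (Localization.Away t)) :=
    Polynomial.algebraMap_def R (Localization.Away t)
  refine ⟨⟨t, ht'⟩, IsLocalization.mk' (Localization.Away t)[X] p
    (⟨C t, Submonoid.mem_powers _⟩ : Submonoid.powers (C t : R[X])), ?_⟩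
  have h1 : IsLocalization.mk' (Localization.Away t)[X] p
      (⟨C t, Submonoid.mem_powers _⟩ : Submonoid.powers (C t : R[X])) *
      algebraMap R[X] (Localization.Away t)[X] (C t) = algebraMap R[X] (Localization.Away t)[X] p :=
    IsLocalization.mk'_spec _ _ _
  have h2 := congrArg (mapRingHom (atTr m ht')) h1
  have e2 : (mapRingHom (atTr m ht')).comp (mapRingHom (algebraMap R (Localization.Away t))) =
      mapRingHom (algebraMap R (Localization.AtPrime m)) := by
    rw [mapRingHom_comp, atTr_comp]
  have e3 : ∀ q : R[X], mapRingHom (atTr m ht') (algebraMap R[X] (Localization.Away t)[X] q) =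
      algebraMap R[X] (Localization.AtPrime m)[X] q := by
    intro q
    rw [e1, e0, ← e2]
    rfl
  rw [map_mul, e3, e3] at h2
  have hpc' : x * algebraMap R[X] (Localization.AtPrime m)[X] (C t) =
      algebraMap R[X] (Localization.AtPrime m)[X] p := hpc
  have hu : IsUnit (algebraMap R[X] (Localization.AtPrime m)[X] (C t)) :=
    IsLocalization.map_units (Localization.AtPrime m)[X]
      (⟨C t, ⟨t, ht, rfl⟩⟩ : m.primeCompl.map (C : R →+* R[X]))
  exact hu.mul_left_injective (h2.trans hpc'.symm)

theorem coconem_inj (s : PC m) (y : (Localization.Away s.val)[X])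
    (hy : mapRingHom (atTr m s.prop) y = 0) :
    ∃ (t : PC m) (h : s.val ∣ t.val), mapRingHom (awayTr h) y = 0 := by
  letI : Algebra R[X] (Localization.AtPrime m)[X] := Polynomial.algebra R (Localization.AtPrime m)
  haveI hloc : IsLocalization (m.primeCompl.map (C : R →+* R[X])) (Localization.AtPrime m)[X] :=
    Polynomial.isLocalization m.primeCompl (Localization.AtPrime m)
  have e0 : algebraMap R[X] (Localization.AtPrime m)[X] =
      mapRingHom (algebraMap R (Localization.AtPrime m)) :=
    Polynomial.algebraMap_def R (Localization.AtPrime m)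
  letI : Algebra R[X] (Localization.Away s.val)[X] :=
    Polynomial.algebra R (Localization.Away s.val)
  haveI hlocs : IsLocalization.Away (C s.val : R[X]) (Localization.Away s.val)[X] :=
    away_polynomial s.val
  have e1 : algebraMap R[X] (Localization.Away s.val)[X] =
      mapRingHom (algebraMap R (Localization.Away s.val)) :=
    Polynomial.algebraMap_def R (Localization.Away s.val)
  obtain ⟨n, p, hp⟩ := IsLocalization.Away.surj (C s.val : R[X]) y
  -- `y * (C s)^n = p`
  have h2 := congrArg (mapRingHom (atTr m s.prop)) hp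
  have e2 : (mapRingHom (atTr m s.prop)).comp
      (mapRingHom (algebraMap R (Localization.Away s.val))) =
      mapRingHom (algebraMap R (Localization.AtPrime m)) := by
    rw [mapRingHom_comp, atTr_comp]
  have e3 : ∀ q : R[X], mapRingHom (atTr m s.prop)
      (algebraMap R[X] (Localization.Away s.val)[X] q) =
      algebraMap R[X] (Localization.AtPrime m)[X] q := by
    intro q
    rw [e1, e0, ← e2]
    rfl
  rw [map_mul, hy, zero_mul, e3] at h2
  obtain ⟨⟨c, t, ht, rfl⟩, hc⟩ :=
    (IsLocalization.map_eq_zero_iff (m.primeCompl.map (C : R →+* R[X]))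
      (Localization.AtPrime m)[X] p).1 h2.symm
  have hc' : C t * p = 0 := hc
  have ht' : t ∉ m := ht
  refine ⟨⟨s.val * t, fun h => (hm.mem_or_mem h).elim s.prop ht'⟩, Dvd.intro _ rfl, ?_⟩
  have hdvd : s.val ∣ s.val * t := Dvd.intro _ rfl
  have h3 := congrArg (mapRingHom (awayTr hdvd)) hp
  have e4 : ∀ q : R[X], mapRingHom (awayTr hdvd)
      (algebraMap R[X] (Localization.Away s.val)[X] q) =
      q.map (algebraMap R (Localization.Away (s.val * t))) := by
    intro q
    rw [e1]
    show mapRingHom (awayTr hdvd) (q.map (algebraMap R (Localization.Away s.val))) = _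
    rw [coe_mapRingHom, Polynomial.map_map, awayTr_comp]
  rw [map_mul, map_pow, e4, e4] at h3
  have hut : IsUnit (algebraMap R (Localization.Away (s.val * t)) t) :=
    isUnit_away_of_dvd (Dvd.intro_left _ rfl)
  have hus : IsUnit (algebraMap R (Localization.Away (s.val * t)) s.val) :=
    isUnit_away_of_dvd (Dvd.intro _ rfl)
  have h4 : p.map (algebraMap R (Localization.Away (s.val * t))) = 0 := by
    have h5 := congrArg (Polynomial.map (algebraMap R (Localization.Away (s.val * t)))) hc'
    rw [Polynomial.map_mul, Polynomial.map_C, Polynomial.map_zero] at h5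
    exact ((hut.map (C : Localization.Away (s.val * t) →+*
      (Localization.Away (s.val * t))[X])).mul_right_eq_zero).mp h5
  rw [h4, Polynomial.map_C] at h3
  exact (((hus.map (C : Localization.Away (s.val * t) →+*
    (Localization.Away (s.val * t))[X])).pow n).mul_left_eq_zero).mp h3

/-- `R_m[X]` is the colimit. -/
noncomputable def isColimitCoconem : IsColimit (coconem m) :=
  isColimitOfSurjInj _ _
    (fun x => by
      obtain ⟨s, y, hy⟩ := coconem_surj m x
      exact ⟨s, y, hy⟩)
    (fun s y hy => by
      obtain ⟨t, h, ht⟩ := coconem_inj m s y hy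
      exact ⟨t, homOfLE h, ht⟩)

/-- the tower of affine schemes -/
noncomputable def DSm : (PC m)ᵒᵖ ⥤ Scheme.{u} := (FFm m).op ⋙ Scheme.Spec

/-- the cone with vertex `Spec R_m[X]` -/
noncomputable def coneSm : Cone (DSm m) := Scheme.Spec.mapCone (coconem m).op

/-- it is a limit cone -/
noncomputable def isLimitConeSm : IsLimit (coneSm m) :=
  isLimitOfPreserves Scheme.Spec (isColimitCoconem m).op

instance (i j : (PC m)ᵒᵖ) (f : i ⟶ j) : IsAffineHom ((DSm m).map f) :=
  show IsAffineHom (Spec.map _) from inferInstance

instance (i : (PC m)ᵒᵖ) : IsAffine ((DSm m).obj i) :=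
  show IsAffine (Spec _) from inferInstance

/-- The structure maps of the tower to a base under `Spec R[X]`. -/
noncomputable def toBasem {B : Scheme.{u}} (c : Spec (CommRingCat.of R[X]) ⟶ B) :
    DSm m ⟶ (Functor.const _).obj B where
  app s := SpM (mapRingHom (algebraMap R (Localization.Away s.unop.val))) ≫ c
  naturality i j f := by
    show SpM (mapRingHom (awayTr (leOfHom f.unop))) ≫
        SpM (mapRingHom (algebraMap R (Localization.Away j.unop.val))) ≫ c =
      (SpM (mapRingHom (algebraMap R (Localization.Away i.unop.val))) ≫ c) ≫ 𝟙 _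
    rw [Category.comp_id, ← Category.assoc, ← SpM_comp, mapRingHom_comp, awayTr_comp]

/-- **Spreading out.** -/
theorem spread_out {Zl B : Scheme.{u}} (f : Zl ⟶ B) [LocallyOfFinitePresentation f]
    (c : Spec (CommRingCat.of R[X]) ⟶ B)
    (x : Spec (CommRingCat.of (Localization.AtPrime m)[X]) ⟶ Zl)
    (hx : x ≫ f = SpM (mapRingHom (algebraMap R (Localization.AtPrime m))) ≫ c) :
    ∃ (s : R) (_ : s ∉ m) (y : Spec (CommRingCat.of (Localization.Away s)[X]) ⟶ Zl),
      y ≫ f = SpM (mapRingHom (algebraMap R (Localization.Away s))) ≫ c := by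
  obtain ⟨i, g, _, h2⟩ := Scheme.exists_π_app_comp_eq_of_locallyOfFinitePresentation
    (DSm m) (toBasem m c) f (coneSm m) (isLimitConeSm m) x (by
      ext i
      show SpM (mapRingHom (atTr m i.unop.prop)) ≫
        SpM (mapRingHom (algebraMap R (Localization.Away i.unop.val))) ≫ c = x ≫ f
      rw [hx, ← Category.assoc, ← SpM_comp, mapRingHom_comp, atTr_comp])
  exact ⟨i.unop.val, i.unop.prop, g, h2⟩

end Colim

end Groth.Agent.Lib.TLineH4
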