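import Mathlib
import Groth.Agent.Lib.TLineA_helper4
import Groth.Agent.Lib.TLineB_helper4
import Groth.Agent.Lib.TLineC_helper4

/-!
# Quillen patching for sections of torsors over the affine line (helper4)

`patch_main`: let `G` be a group scheme locally of finite presentation over `Spec R`, `Z` a
pseudo-torsor under `G ×_R B` over a scheme `B` over `R`, locally of finite presentation over `B`,
and `c : Spec R[X] ⟶ B` an `R`-morphism.  If `Z` has a point over `c ∘ (X = 0)` and a point over
`Spec R_m[X] ⟶ Spec R[X] ⟶ B` for every maximal ideal `m`, then `Z` has a point over `c`.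
-/

set_option autoImplicit false
set_option linter.style.haveILetI false
set_option linter.unusedSectionVars false
universe u
open Polynomial CategoryTheory CategoryTheory.Limits AlgebraicGeometry MonoidalCategory
  CartesianMonoidalCategory MonObj

namespace Groth.Agent.Lib.TLineH4

open Groth.Agent.Lib.GlueH4 Groth.Agent.Lib.QLimH4 Groth.Agent.Lib.QGrpH4

section Rings

theorem ev0_res {A B : Type u} [CommRing A] [CommRing B] (φ₀ : A →+* B) :
    SpM (evalRingHom (0 : B)) ≫ SpM (mapRingHom φ₀) = SpM φ₀ ≫ SpM (evalRingHom (0 : A)) := by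
  have e : (evalRingHom (0 : B)).comp (mapRingHom φ₀) = φ₀.comp (evalRingHom (0 : A)) := by
    refine RingHom.ext fun q => ?_
    show eval 0 (q.map φ₀) = φ₀ (eval 0 q)
    exact eval_zero_map φ₀ q
  rw [← SpM_comp, ← SpM_comp, e]

theorem ev0_comp_C (K : Type u) [CommRing K] :
    (evalRingHom (0 : K)).comp (C : K →+* K[X]) = RingHom.id K := by
  refine RingHom.ext fun k => ?_
  show eval 0 (C k) = k
  exact eval_C

theorem span_C_pair {K : Type u} [CommRing K] (r r' : K)
    (hrr : Ideal.span ({r, r'} : Set K) = ⊤) :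
    Ideal.span ({C r, C r'} : Set K[X]) = ⊤ := by
  have h1 : (1 : K) ∈ Ideal.span ({r, r'} : Set K) := by
    rw [hrr]
    exact Submodule.mem_top
  obtain ⟨a, b, hab⟩ := Ideal.mem_span_pair.mp h1
  rw [Ideal.eq_top_iff_one]
  refine Ideal.mem_span_pair.mpr ⟨C a, C b, ?_⟩
  rw [← C_mul, ← C_mul, ← C_add, hab, C_1]

end Rings

section Patch

variable {R : Type u} [CommRing R] {G : Over (Spec (CommRingCat.of R))} [GrpObj G]
  {Bs : Scheme.{u}} (p : Bs ⟶ Spec (CommRingCat.of R)) {Z : Over Bs}
  (a : AlgGrp.Action (Red.bc p G) Z) (c : Spec (CommRingCat.of R[X]) ⟶ Bs)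

/-- The base point over `K[X]`. -/
noncomputable abbrev cK (K : Type u) [CommRing K] [Algebra R K] :
    Spec (CommRingCat.of K[X]) ⟶ Bs :=
  SpM (mapRingHom (algebraMap R K)) ≫ c

theorem cK_comp (hc : c ≫ p = SpM (algebraMap R R[X])) (K : Type u) [CommRing K] [Algebra R K] :
    cK c K ≫ p = SpM (algebraMap R K[X]) := by
  have e : (mapRingHom (algebraMap R K)).comp (algebraMap R R[X]) = algebraMap R K[X] := by
    refine RingHom.ext fun r => ?_
    show (algebraMap R R[X] r).map (algebraMap R K) = algebraMap R K[X] r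
    rw [Polynomial.algebraMap_apply, Polynomial.algebraMap_apply, map_C, Algebra.algebraMap_self,
      RingHom.id_apply]
  rw [Category.assoc, hc, ← SpM_comp, e]

theorem cK_res {K K' : Type u} [CommRing K] [CommRing K'] [Algebra R K] [Algebra R K']
    (φ : K →+* K') [h : RCompat R φ] : SpM (mapRingHom φ) ≫ cK c K = cK c K' := by
  rw [← Category.assoc, ← SpM_comp, mapRingHom_comp, h.comp_eq]

theorem alg_res {K K' : Type u} [CommRing K] [CommRing K'] [Algebra R K] [Algebra R K']
    (φ : K →+* K') [h : RCompat R φ] : SpM φ ≫ SpM (algebraMap R K) = SpM (algebraMap R K') := by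
  rw [← SpM_comp, h.comp_eq]

/-- `Z` has a point over `Spec K[X] ⟶ Spec R[X] ⟶ B`. -/
def Sec (K : Type u) [CommRing K] [Algebra R K] : Prop :=
  ∃ x : Spec (CommRingCat.of K[X]) ⟶ Z.left, x ≫ Z.hom = cK c K

theorem Sec.map {K K' : Type u} [CommRing K] [CommRing K'] [Algebra R K] [Algebra R K']
    (φ : K →+* K') [RCompat R φ] (h : Sec (Z := Z) c K) : Sec (Z := Z) c K' := by
  obtain ⟨x, hx⟩ := h
  exact ⟨SpM (mapRingHom φ) ≫ x, by rw [Category.assoc, hx, cK_res]⟩

theorem sec_of_subsingleton (K : Type u) [CommRing K] [Algebra R K] [Subsingleton K] :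
    Sec (Z := Z) c K := by
  haveI : IsEmpty (Spec (CommRingCat.of K[X])) := by
    show IsEmpty (PrimeSpectrum K[X])
    infer_instance
  exact ⟨(isInitialOfIsEmpty (X := Spec (CommRingCat.of K[X]))).to _,
    (isInitialOfIsEmpty (X := Spec (CommRingCat.of K[X]))).hom_ext _ _⟩

variable (ha : NonAbH1.IsPseudoTorsorSch a) (hc : c ≫ p = SpM (algebraMap R R[X]))
  (ρ : Spec (CommRingCat.of R) ⟶ Z.left) (hρ : ρ ≫ Z.hom = SpM (evalRingHom (0 : R)) ≫ c)

include ha hc hρ in
theorem normalize (K : Type u) [CommRing K] [Algebra R K]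
    (x : Spec (CommRingCat.of K[X]) ⟶ Z.left) (hx : x ≫ Z.hom = cK c K) :
    ∃ x' : Spec (CommRingCat.of K[X]) ⟶ Z.left, x' ≫ Z.hom = cK c K ∧
      SpM (evalRingHom (0 : K)) ≫ x' = SpM (algebraMap R K) ≫ ρ := by
  have hx1 : (x ≫ Z.hom) ≫ p = SpM (algebraMap R K[X]) := by rw [hx, cK_comp p c hc]
  have e0 : SpM (evalRingHom (0 : K)) ≫ cK c K =
      SpM (algebraMap R K) ≫ SpM (evalRingHom (0 : R)) ≫ c := by
    rw [← Category.assoc, ev0_res, Category.assoc]
  have hfs : SpM (evalRingHom (0 : K)) ≫ SpM (algebraMap R K[X]) = SpM (algebraMap R K) :=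
    alg_res (evalRingHom (0 : K))
  have hx0 : ((SpM (evalRingHom (0 : K)) ≫ x) ≫ Z.hom) ≫ p = SpM (algebraMap R K) := by
    have hx1' : x ≫ Z.hom ≫ p = SpM (algebraMap R K[X]) := by
      rw [← Category.assoc]
      exact hx1
    rw [Category.assoc, Category.assoc, hx1', hfs]
  have hρK : (SpM (algebraMap R K) ≫ ρ) ≫ Z.hom = (SpM (evalRingHom (0 : K)) ≫ x) ≫ Z.hom := by
    rw [Category.assoc, hρ, Category.assoc, hx, e0]
  obtain ⟨g₀, hg₀⟩ : ∃ g₀ : SpO R K ⟶ G,
      sm p a g₀ (SpM (evalRingHom (0 : K)) ≫ x) hx0 = SpM (algebraMap R K) ≫ ρ :=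
    ⟨df p a ha _ _ hρK hx0, sm_df p a ha _ _ hρK hx0⟩
  refine ⟨sm p a (SpOMap R (C : K →+* K[X]) ≫ g₀) x hx1, ?_, ?_⟩
  · rw [sm_hom, hx]
  · rw [comp_sm p a (SpM (evalRingHom (0 : K))) hfs]
    have e : (Over.homMk (SpM (evalRingHom (0 : K))) hfs : SpO R K ⟶ SpO R K[X]) ≫
        SpOMap R (C : K →+* K[X]) ≫ g₀ = g₀ := by
      have e' : (Over.homMk (SpM (evalRingHom (0 : K))) hfs : SpO R K ⟶ SpO R K[X]) =
          SpOMap R (evalRingHom (0 : K)) := rfl
      rw [e', SpOMap_comp_assoc, SpOMap_congr R (ev0_comp_C K), pb_id]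
    exact (sm_congr p a e rfl _).trans hg₀

include ha hc hρ in
theorem sec_patch [LocallyOfFinitePresentation G.hom]
    {K : Type u} [CommRing K] [Algebra R K]
    (r r' : K) (hrr : Ideal.span ({r, r'} : Set K) = ⊤)
    (A A' B : Type u) [CommRing A] [CommRing A'] [CommRing B]
    [Algebra K A] [Algebra K A'] [Algebra K B] [Algebra R A] [Algebra R A'] [Algebra R B]
    [IsScalarTower R K A] [IsScalarTower R K A'] [IsScalarTower R K B]
    [IsLocalization.Away r A] [IsLocalization.Away r' A']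
    [IsLocalization.Away (r * r') B] [Algebra A B] [Algebra A' B] [IsScalarTower K A B]
    [IsScalarTower K A' B] [IsScalarTower R A B] [IsScalarTower R A' B]
    (hA : Sec (Z := Z) c A) (hA' : Sec (Z := Z) c A') : Sec (Z := Z) c K := by
  obtain ⟨x, hx⟩ := hA
  obtain ⟨x', hx'⟩ := hA'
  obtain ⟨x, hx, hx0⟩ := normalize p a c ha hc ρ hρ A x hx
  obtain ⟨x', hx', hx0'⟩ := normalize p a c ha hc ρ hρ A' x' hx'
  obtain ⟨φ, hφ⟩ : ∃ φ : A[X] →+* B[X], φ = mapRingHom (algebraMap A B) := ⟨_, rfl⟩
  obtain ⟨φ', hφ'⟩ : ∃ φ' : A'[X] →+* B[X], φ' = mapRingHom (algebraMap A' B) := ⟨_, rfl⟩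
  haveI cφ : RCompat R φ := by rw [hφ]; infer_instance
  haveI cφ' : RCompat R φ' := by rw [hφ']; infer_instance
  have hxB : (SpM φ ≫ x) ≫ Z.hom = cK c B := by
    rw [Category.assoc, hx, hφ, cK_res]
  have hxB' : (SpM φ' ≫ x') ≫ Z.hom = cK c B := by
    rw [Category.assoc, hx', hφ', cK_res]
  have h1B' : ((SpM φ' ≫ x') ≫ Z.hom) ≫ p = SpM (algebraMap R B[X]) := by
    rw [hxB', cK_comp p c hc]
  have h1A : (x ≫ Z.hom) ≫ p = SpM (algebraMap R A[X]) := by rw [hx, cK_comp p c hc]
  have h1A' : (x' ≫ Z.hom) ≫ p = SpM (algebraMap R A'[X]) := by rw [hx', cK_comp p c hc]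
  obtain ⟨g, hg⟩ : ∃ g : SpO R B[X] ⟶ G, sm p a g (SpM φ' ≫ x') h1B' = SpM φ ≫ x :=
    ⟨df p a ha _ _ (hxB.trans hxB'.symm) h1B', sm_df p a ha _ _ (hxB.trans hxB'.symm) h1B'⟩
  -- the value at zero
  have hρB : SpM (evalRingHom (0 : B)) ≫ SpM φ ≫ x = SpM (algebraMap R B) ≫ ρ := by
    rw [← Category.assoc, hφ, ev0_res, Category.assoc, hx0, ← Category.assoc,
      alg_res (algebraMap A B)]
  have hρB' : SpM (evalRingHom (0 : B)) ≫ SpM φ' ≫ x' = SpM (algebraMap R B) ≫ ρ := by
    rw [← Category.assoc, hφ', ev0_res, Category.assoc, hx0', ← Category.assoc,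
      alg_res (algebraMap A' B)]
  have hfs0 : SpM (evalRingHom (0 : B)) ≫ SpM (algebraMap R B[X]) = SpM (algebraMap R B) :=
    alg_res (evalRingHom (0 : B))
  have hg0 : SpOMap R (evalRingHom (0 : B)) ≫ g = 1 := by
    have h2 : SpM (evalRingHom (0 : B)) ≫ sm p a g (SpM φ' ≫ x') h1B' =
        SpM (algebraMap R B) ≫ ρ := by rw [hg, hρB]
    rw [comp_sm p a (SpM (evalRingHom (0 : B))) hfs0] at h2
    have h3 := (sm_congr p a rfl hρB' _).symm.trans h2
    exact sm_cancel p a ha _ _ _ _ (h3.trans (one_sm p a _ _).symm)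
  obtain ⟨g₁, g₂, hdec⟩ := quillen_alg r r' hrr A A' B g hg0
  have hfs : SpM φ ≫ SpM (algebraMap R A[X]) = SpM (algebraMap R B[X]) := alg_res φ
  have hfs' : SpM φ' ≫ SpM (algebraMap R A'[X]) = SpM (algebraMap R B[X]) := alg_res φ'
  have hyy : SpM φ ≫ sm p a g₁⁻¹ x h1A = SpM φ' ≫ sm p a g₂ x' h1A' := by
    rw [comp_sm p a (SpM φ) hfs, comp_sm p a (SpM φ') hfs']
    have e1 : (Over.homMk (SpM φ) hfs : SpO R B[X] ⟶ SpO R A[X]) ≫ g₁⁻¹ =
        (SpOMap R φ ≫ g₁)⁻¹ := pb_inv φ g₁
    have e2 : (Over.homMk (SpM φ') hfs' : SpO R B[X] ⟶ SpO R A'[X]) ≫ g₂ =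
        SpOMap R φ' ≫ g₂ := rfl
    have e3 : (SpOMap R φ ≫ g₁)⁻¹ * g = SpOMap R φ' ≫ g₂ := by
      subst hφ hφ'
      rw [hdec, inv_mul_cancel_left]
    refine (sm_congr p a e1 hg.symm _).trans ?_
    refine (mul_sm p a _ _ _ _).symm.trans ?_
    exact sm_congr p a (e3.trans e2.symm) rfl _
  -- glue
  letI : Algebra K[X] A[X] := Polynomial.algebra K A
  letI : Algebra K[X] A'[X] := Polynomial.algebra K A'
  letI : Algebra K[X] B[X] := Polynomial.algebra K B
  letI : Algebra A[X] B[X] := Polynomial.algebra A B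
  letI : Algebra A'[X] B[X] := Polynomial.algebra A' B
  haveI : IsLocalization.Away (C r : K[X]) A[X] := away_polynomial r
  haveI : IsLocalization.Away (C r' : K[X]) A'[X] := away_polynomial r'
  haveI : IsLocalization.Away (C r * C r' : K[X]) B[X] := by
    rw [← C_mul]
    exact away_polynomial (r * r')
  have eKA : algebraMap K[X] A[X] = mapRingHom (algebraMap K A) := Polynomial.algebraMap_def K A
  have eKA' : algebraMap K[X] A'[X] = mapRingHom (algebraMap K A') :=
    Polynomial.algebraMap_def K A'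
  have eKB : algebraMap K[X] B[X] = mapRingHom (algebraMap K B) := Polynomial.algebraMap_def K B
  have eAB : algebraMap A[X] B[X] = φ := (Polynomial.algebraMap_def A B).trans hφ.symm
  have eAB' : algebraMap A'[X] B[X] = φ' := (Polynomial.algebraMap_def A' B).trans hφ'.symm
  haveI : IsScalarTower K[X] A[X] B[X] := IsScalarTower.of_algebraMap_eq' (by
    rw [eKB, eAB, eKA, hφ, mapRingHom_comp, ← IsScalarTower.algebraMap_eq])
  haveI : IsScalarTower K[X] A'[X] B[X] := IsScalarTower.of_algebraMap_eq' (by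
    rw [eKB, eAB', eKA', hφ', mapRingHom_comp, ← IsScalarTower.algebraMap_eq])
  have hspan := span_C_pair r r' hrr
  obtain ⟨w, hw1, hw2⟩ := glue_away (C r : K[X]) (C r') A[X] A'[X] B[X] hspan
    (sm p a g₁⁻¹ x h1A) (sm p a g₂ x' h1A') (by rw [eAB, eAB']; exact hyy)
  refine ⟨w, ?_⟩
  refine hom_ext_away (C r : K[X]) (C r') A[X] A'[X] hspan _ _ ?_ ?_
  · rw [← Category.assoc, hw1, sm_hom, hx, eKA, cK_res]
  · rw [← Category.assoc, hw2, sm_hom, hx', eKA', cK_res]

end Patch

section Main

variable {R : Type u} [CommRing R] {G : Over (Spec (CommRingCat.of R))} [GrpObj G]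
  [LocallyOfFinitePresentation G.hom]
  {Bs : Scheme.{u}} (p : Bs ⟶ Spec (CommRingCat.of R)) {Z : Over Bs}
  (a : AlgGrp.Action (Red.bc p G) Z) (c : Spec (CommRingCat.of R[X]) ⟶ Bs)
  (ha : NonAbH1.IsPseudoTorsorSch a) (hc : c ≫ p = SpM (algebraMap R R[X]))
  (ρ : Spec (CommRingCat.of R) ⟶ Z.left) (hρ : ρ ≫ Z.hom = SpM (evalRingHom (0 : R)) ≫ c)

include ha hc hρ in
theorem sec_add (s s' : R) (hs : Sec (Z := Z) c (Localization.Away s))
    (hs' : Sec (Z := Z) c (Localization.Away s')) :
    Sec (Z := Z) c (Localization.Away (s + s')) := by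
  obtain ⟨K, hK⟩ : ∃ K : Type u, K = Localization.Away (s + s') := ⟨_, rfl⟩
  subst hK
  obtain ⟨r, hr⟩ : ∃ r : Localization.Away (s + s'), r = algebraMap R _ s := ⟨_, rfl⟩
  obtain ⟨r', hr'⟩ : ∃ r' : Localization.Away (s + s'), r' = algebraMap R _ s' := ⟨_, rfl⟩
  have hrr : Ideal.span ({r, r'} : Set (Localization.Away (s + s'))) = ⊤ := by
    apply Ideal.eq_top_of_isUnit_mem _ (x := r + r')
    · exact Ideal.add_mem _ (Ideal.subset_span (Set.mem_insert _ _))
        (Ideal.subset_span (Set.mem_insert_of_mem _ (Set.mem_singleton _)))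
    · rw [hr, hr', ← map_add]
      exact IsLocalization.Away.algebraMap_isUnit (s + s')
  letI iAB : Algebra (Localization.Away r) (Localization.Away (r * r')) :=
    (awayTr (Dvd.intro r' rfl : r ∣ r * r')).toAlgebra
  letI iAB' : Algebra (Localization.Away r') (Localization.Away (r * r')) :=
    (awayTr (Dvd.intro_left r rfl : r' ∣ r * r')).toAlgebra
  haveI t1 : IsScalarTower (Localization.Away (s + s')) (Localization.Away r)
      (Localization.Away (r * r')) :=
    IsScalarTower.of_algebraMap_eq' (awayTr_comp (Dvd.intro r' rfl : r ∣ r * r')).symm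
  haveI t2 : IsScalarTower (Localization.Away (s + s')) (Localization.Away r')
      (Localization.Away (r * r')) :=
    IsScalarTower.of_algebraMap_eq' (awayTr_comp (Dvd.intro_left r rfl : r' ∣ r * r')).symm
  haveI t3 : IsScalarTower R (Localization.Away r) (Localization.Away (r * r')) :=
    IsScalarTower.of_algebraMap_eq' (R := R) (S := Localization.Away r)
      (A := Localization.Away (r * r')) (by
      rw [IsScalarTower.algebraMap_eq R (Localization.Away (s + s')) (Localization.Away (r * r')),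
        IsScalarTower.algebraMap_eq R (Localization.Away (s + s')) (Localization.Away r),
        ← RingHom.comp_assoc]
      congr 1
      exact (awayTr_comp (Dvd.intro r' rfl : r ∣ r * r')).symm)
  haveI t4 : IsScalarTower R (Localization.Away r') (Localization.Away (r * r')) :=
    IsScalarTower.of_algebraMap_eq' (R := R) (S := Localization.Away r')
      (A := Localization.Away (r * r')) (by
      rw [IsScalarTower.algebraMap_eq R (Localization.Away (s + s')) (Localization.Away (r * r')),
        IsScalarTower.algebraMap_eq R (Localization.Away (s + s')) (Localization.Away r'),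
        ← RingHom.comp_assoc]
      congr 1
      exact (awayTr_comp (Dvd.intro_left r rfl : r' ∣ r * r')).symm)
  -- sections over the two localisations
  have hu : IsUnit (algebraMap R (Localization.Away r) s) := by
    rw [IsScalarTower.algebraMap_apply R (Localization.Away (s + s')) (Localization.Away r), ← hr]
    exact IsLocalization.Away.algebraMap_isUnit r
  have hu' : IsUnit (algebraMap R (Localization.Away r') s') := by
    rw [IsScalarTower.algebraMap_apply R (Localization.Away (s + s')) (Localization.Away r'),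
      ← hr']
    exact IsLocalization.Away.algebraMap_isUnit r'
  haveI c1 : RCompat R (IsLocalization.Away.lift (S := Localization.Away s) s
      (g := algebraMap R (Localization.Away r)) hu) :=
    ⟨IsLocalization.Away.lift_comp s hu⟩
  haveI c2 : RCompat R (IsLocalization.Away.lift (S := Localization.Away s') s'
      (g := algebraMap R (Localization.Away r')) hu') := ⟨IsLocalization.Away.lift_comp s' hu'⟩
  exact sec_patch p a c ha hc ρ hρ r r' hrr (Localization.Away r) (Localization.Away r')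
    (Localization.Away (r * r'))
    (hs.map c (IsLocalization.Away.lift (S := Localization.Away s) s
      (g := algebraMap R (Localization.Away r)) hu))
    (hs'.map c (IsLocalization.Away.lift (S := Localization.Away s') s'
      (g := algebraMap R (Localization.Away r')) hu'))

include ha hc hρ in
/-- **Quillen patching for sections.** -/
theorem patch_main [LocallyOfFinitePresentation Z.hom]
    (hloc : ∀ (m : Ideal R) [m.IsMaximal], Sec (Z := Z) c (Localization.AtPrime m)) :
    ∃ x : Spec (CommRingCat.of R[X]) ⟶ Z.left, x ≫ Z.hom = c := by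
  let Q : Ideal R :=
    { carrier := {s | Sec (Z := Z) c (Localization.Away s)}
      zero_mem' := by
        show Sec (Z := Z) c (Localization.Away (0 : R))
        haveI : Subsingleton (Localization.Away (0 : R)) :=
          IsLocalization.subsingleton (M := Submonoid.powers (0 : R)) (Submonoid.mem_powers 0)
        exact sec_of_subsingleton c _
      add_mem' := fun {s s'} hs hs' => sec_add p a c ha hc ρ hρ s s' hs hs'
      smul_mem' := fun t s hs => by
        show Sec (Z := Z) c (Localization.Away (t • s))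
        exact Sec.map c (awayTr (Dvd.intro_left t rfl : s ∣ t • s)) hs }
  have hQ : Q = ⊤ := by
    by_contra hne
    obtain ⟨m, hm, hle⟩ := Ideal.exists_le_maximal Q hne
    obtain ⟨x, hx⟩ := hloc m
    obtain ⟨s, hs, y, hy⟩ := spread_out m Z.hom c x hx
    exact hs (hle (show s ∈ Q from ⟨y, hy⟩))
  have h1 : Sec (Z := Z) c (Localization.Away (1 : R)) := by
    have : (1 : R) ∈ Q := by rw [hQ]; exact Submodule.mem_top
    exact this
  haveI c1 : RCompat R (IsLocalization.Away.lift (S := Localization.Away (1 : R)) (1 : R)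
      (g := RingHom.id R) isUnit_one) :=
    ⟨IsLocalization.Away.lift_comp (1 : R) isUnit_one⟩
  obtain ⟨x, hx⟩ := h1.map c (IsLocalization.Away.lift (S := Localization.Away (1 : R)) (1 : R)
    (g := RingHom.id R) isUnit_one)
  refine ⟨x, ?_⟩
  rw [hx]
  show SpM (mapRingHom (algebraMap R R)) ≫ c = c
  rw [Algebra.algebraMap_self, mapRingHom_id]
  exact SpM_id_comp c

end Main

end Groth.Agent.Lib.TLineH4
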