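import Mathlib
import Groth.Prelude.Def_DescFam

/-!
# The canonical descent datum functor is fully faithful for fpqc families (helper7)
-/

set_option autoImplicit false
set_option backward.isDefEq.respectTransparency false
universe u
open CategoryTheory CategoryTheory.Limits AlgebraicGeometry Opposite

namespace Groth.Agent.Lib.DescFF_helper7

variable {S : Scheme.{u}} {ι : Type u} {X : ι → Scheme.{u}} (f : ∀ i, X i ⟶ S)

theorem cover_mem (hf : Presieve.ofArrows X f ∈ Scheme.fpqcPrecoverage S) (U : Over S) :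
    Presieve.ofArrows (fun i => pullback (f i) U.hom) (fun i => pullback.snd (f i) U.hom) ∈
      Scheme.fpqcPrecoverage U.left :=
  Precoverage.mem_coverings_of_isPullback f hf U.hom _ (fun i => pullback.fst (f i) U.hom)
    (fun i => (IsPullback.of_hasPullback (f i) U.hom).flip)

theorem sheafFor (hf : Presieve.ofArrows X f ∈ Scheme.fpqcPrecoverage S) (U : Over S)
    (Z : Scheme.{u}) :
    Presieve.IsSheafFor (yoneda.obj Z)
      (Presieve.ofArrows (fun i => pullback (f i) U.hom) (fun i => pullback.snd (f i) U.hom)) :=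
  (GrothendieckTopology.Subcanonical.isSheaf_of_isRepresentable (J := Scheme.fpqcTopology)
    (yoneda.obj Z)).isSheafFor _ (Precoverage.generate_mem_toGrothendieck (cover_mem f hf U))

theorem jointly_epi (hf : Presieve.ofArrows X f ∈ Scheme.fpqcPrecoverage S) (U : Over S)
    {Z : Scheme.{u}} (g g' : U.left ⟶ Z)
    (h : ∀ i, pullback.snd (f i) U.hom ≫ g = pullback.snd (f i) U.hom ≫ g') : g = g' := by
  refine (sheafFor f hf U Z).isSeparatedFor.ext ?_
  intro Y k hk
  cases hk with
  | mk i => exact h i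

theorem can_phi_snd (U : Over S) {T : Scheme.{u}} {i j : ι} (x₀ : T ⟶ X i) (x₁ : T ⟶ X j)
    (h : x₀ ≫ f i = x₁ ≫ f j) (v : Desc.Lifts ((Desc.canonicalDDFam f U).obj i) x₀) :
    ((Desc.canonicalDDFam f U).φ x₀ x₁ h v).1 ≫ pullback.snd (f j) U.hom =
      v.1 ≫ pullback.snd (f i) U.hom := pullback.lift_snd _ _ _

theorem can_phi_fst (U : Over S) {T : Scheme.{u}} {i j : ι} (x₀ : T ⟶ X i) (x₁ : T ⟶ X j)
    (h : x₀ ≫ f i = x₁ ≫ f j) (v : Desc.Lifts ((Desc.canonicalDDFam f U).obj i) x₀) :
    ((Desc.canonicalDDFam f U).φ x₀ x₁ h v).1 ≫ pullback.fst (f j) U.hom = x₁ :=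
  pullback.lift_fst _ _ _

theorem faithful (hf : Presieve.ofArrows X f ∈ Scheme.fpqcPrecoverage S) :
    (Desc.toDDFam f).Faithful := by
  refine ⟨fun {U U'} g g' h => ?_⟩
  apply Over.OverMorphism.ext
  apply jointly_epi f hf U
  intro i
  have h1 : (((Desc.toDDFam f).map g).hom i).left = (((Desc.toDDFam f).map g').hom i).left := by
    rw [h]
  have h2 := congrArg (fun m => m ≫ pullback.snd (f i) U'.hom) h1
  have e1 : (((Desc.toDDFam f).map g).hom i).left ≫ pullback.snd (f i) U'.hom =
      pullback.snd (f i) U.hom ≫ g.left := pullback.lift_snd _ _ _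
  have e2 : (((Desc.toDDFam f).map g').hom i).left ≫ pullback.snd (f i) U'.hom =
      pullback.snd (f i) U.hom ≫ g'.left := pullback.lift_snd _ _ _
  exact e1.symm.trans (h2.trans e2)

theorem full (hf : Presieve.ofArrows X f ∈ Scheme.fpqcPrecoverage S) :
    (Desc.toDDFam f).Full := by
  refine ⟨fun {U U'} a => ?_⟩
  let b : ∀ i, pullback (f i) U.hom ⟶ U'.left :=
    fun i => (a.hom i).left ≫ pullback.snd (f i) U'.hom
  have hover : ∀ i, (a.hom i).left ≫ pullback.fst (f i) U'.hom = pullback.fst (f i) U.hom :=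
    fun i => Over.w (a.hom i)
  have hcompat : Presieve.Arrows.Compatible (yoneda.obj U'.left)
      (fun i => pullback.snd (f i) U.hom) b := by
    intro i j T gi gj hg
    show gi ≫ b i = gj ≫ b j
    have h01 : (gi ≫ pullback.fst (f i) U.hom) ≫ f i = (gj ≫ pullback.fst (f j) U.hom) ≫ f j := by
      rw [Category.assoc, Category.assoc, pullback.condition, pullback.condition,
        ← Category.assoc, ← Category.assoc, hg]
    let v : Desc.Lifts ((Desc.canonicalDDFam f U).obj i) (gi ≫ pullback.fst (f i) U.hom) :=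
      ⟨gi, rfl⟩
    have hc := a.comm (gi ≫ pullback.fst (f i) U.hom) (gj ≫ pullback.fst (f j) U.hom) h01 v
      (a.push v) rfl
    have hℓ : ((Desc.canonicalDDFam f U).φ _ _ h01 v).1 = gj := by
      apply pullback.hom_ext
      · exact can_phi_fst f U _ _ h01 v
      · exact (can_phi_snd f U _ _ h01 v).trans hg
    have hc2 := congrArg (fun m => m ≫ pullback.snd (f j) U'.hom) hc
    have e1 : ((Desc.canonicalDDFam f U').φ _ _ h01 (a.push v)).1 ≫ pullback.snd (f j) U'.hom =
        gi ≫ b i := by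
      rw [can_phi_snd f U' _ _ h01 (a.push v)]
      exact Category.assoc _ _ _
    have e2 : (((Desc.canonicalDDFam f U).φ _ _ h01 v).1 ≫ (a.hom j).left) ≫
        pullback.snd (f j) U'.hom = gj ≫ b j := by
      rw [hℓ]; exact Category.assoc _ _ _
    exact e1.symm.trans (hc2.trans e2)
  obtain ⟨g0, hg0, -⟩ := ((Presieve.isSheafFor_arrows_iff _ _).1 (sheafFor f hf U U'.left)) b hcompat
  have hg0' : ∀ i, pullback.snd (f i) U.hom ≫ g0 = b i := hg0
  have hS : g0 ≫ U'.hom = U.hom := by
    apply jointly_epi f hf U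
    intro i
    rw [← Category.assoc, hg0' i]
    show ((a.hom i).left ≫ pullback.snd (f i) U'.hom) ≫ U'.hom = _
    rw [Category.assoc, ← pullback.condition, ← Category.assoc, hover i, pullback.condition]
  refine ⟨Over.homMk g0 hS, ?_⟩
  apply Desc.SchDDFam.hom_ext
  funext i
  apply Over.OverMorphism.ext
  apply pullback.hom_ext
  · have e1 : (((Desc.toDDFam f).map (Over.homMk g0 hS : U ⟶ U')).hom i).left ≫
        pullback.fst (f i) U'.hom = pullback.fst (f i) U.hom ≫ 𝟙 _ := pullback.lift_fst _ _ _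
    rw [e1, Category.comp_id]
    exact (hover i).symm
  · have e1 : (((Desc.toDDFam f).map (Over.homMk g0 hS : U ⟶ U')).hom i).left ≫
        pullback.snd (f i) U'.hom = pullback.snd (f i) U.hom ≫ g0 := pullback.lift_snd _ _ _
    rw [e1]
    exact hg0' i

theorem main (hf : Presieve.ofArrows X f ∈ Scheme.fpqcPrecoverage S) :
    (Desc.toDDFam f).Full ∧ (Desc.toDDFam f).Faithful :=
  ⟨full f hf, faithful f hf⟩

end Groth.Agent.Lib.DescFF_helper7
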