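import Mathlib
import Groth.Prelude.Def_ActBC
import Groth.Agent.Lib.TorsorIso_helper7
import Groth.Agent.Lib.GrpShear_helper7

/-!
# fpqc torsors are exactly the locally trivial `G`-schemes (helper7)
-/

set_option autoImplicit false
universe v u
open CategoryTheory CategoryTheory.Limits MonoidalCategory CartesianMonoidalCategory MonObj GrpObj
  AlgebraicGeometry

namespace Groth.Agent.Lib.TorsorLocTriv_helper7

open Groth.Agent.Lib.GrpShearH7

section general

variable {C : Type u} [Category.{v} C]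

theorem isIso_of_points {A B : C} (f : A ⟶ B)
    (h : ∀ (T : C) (b : T ⟶ B), ∃ a : T ⟶ A, a ≫ f = b ∧ ∀ a' : T ⟶ A, a' ≫ f = b → a' = a) :
    IsIso f := by
  obtain ⟨a0, ha0, _⟩ := h B (𝟙 B)
  obtain ⟨a1, _, huniq⟩ := h A f
  refine ⟨⟨a0, ?_, ha0⟩⟩
  have h1 : (f ≫ a0) ≫ f = f := by rw [Category.assoc, ha0, Category.comp_id]
  exact (huniq _ h1).trans (huniq _ (Category.id_comp f)).symm

variable [CartesianMonoidalCategory C] {G X T : C}

/-- if the shear map is an isomorphism, then every `T`-point of `X` trivialises `X` over `T` -/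
theorem isIso_theta (act : G ⊗ X ⟶ X) [IsIso (lift act (snd G X))] (s : T ⟶ X) :
    IsIso (lift ((G ◁ s) ≫ act) (snd G T)) := by
  obtain ⟨σ, hσ⟩ : ∃ σ : G ⊗ X ⟶ X ⊗ X, σ = lift act (snd G X) := ⟨_, rfl⟩
  haveI : IsIso σ := by rw [hσ]; infer_instance
  have hσ1 : σ ≫ fst X X = act := by rw [hσ, lift_fst]
  have hσ2 : σ ≫ snd X X = snd G X := by rw [hσ, lift_snd]
  have hδ1 : inv σ ≫ act = fst X X := by rw [← hσ1, IsIso.inv_hom_id_assoc]
  have hδ2 : inv σ ≫ snd G X = snd X X := by rw [← hσ2, IsIso.inv_hom_id_assoc]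
  obtain ⟨θ, hθ⟩ : ∃ θ : G ⊗ T ⟶ X ⊗ T, θ = lift ((G ◁ s) ≫ act) (snd G T) := ⟨_, rfl⟩
  have hθ1 : θ ≫ fst X T = (G ◁ s) ≫ act := by rw [hθ, lift_fst]
  have hθ2 : θ ≫ snd X T = snd G T := by rw [hθ, lift_snd]
  obtain ⟨ψ, hψ⟩ : ∃ ψ : X ⊗ T ⟶ G ⊗ T,
      ψ = lift ((X ◁ s) ≫ inv σ ≫ fst G X) (snd X T) := ⟨_, rfl⟩
  have hψ1 : ψ ≫ fst G T = (X ◁ s) ≫ inv σ ≫ fst G X := by rw [hψ, lift_fst]
  have hψ2 : ψ ≫ snd G T = snd X T := by rw [hψ, lift_snd]
  have h1 : θ ≫ (X ◁ s) = (G ◁ s) ≫ σ := by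
    apply CartesianMonoidalCategory.hom_ext
    · rw [Category.assoc, whiskerLeft_fst, hθ1, Category.assoc, hσ1]
    · rw [Category.assoc, whiskerLeft_snd, ← Category.assoc, hθ2, Category.assoc, hσ2,
        whiskerLeft_snd]
  have h2 : ψ ≫ (G ◁ s) = (X ◁ s) ≫ inv σ := by
    apply CartesianMonoidalCategory.hom_ext
    · rw [Category.assoc, whiskerLeft_fst, hψ1, Category.assoc]
    · rw [Category.assoc, whiskerLeft_snd, ← Category.assoc, hψ2, Category.assoc, hδ2,
        whiskerLeft_snd]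
  rw [← hθ]
  refine ⟨⟨ψ, ?_, ?_⟩⟩
  · apply CartesianMonoidalCategory.hom_ext
    · rw [Category.assoc, hψ1, ← Category.assoc, h1, Category.assoc, IsIso.hom_inv_id_assoc,
        whiskerLeft_fst, Category.id_comp]
    · rw [Category.assoc, hψ2, hθ2, Category.id_comp]
  · apply CartesianMonoidalCategory.hom_ext
    · rw [Category.assoc, hθ1, ← Category.assoc, h2, Category.assoc, hδ1, whiskerLeft_fst,
        Category.id_comp]
    · rw [Category.assoc, hθ2, hψ2, Category.id_comp]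

section grp

variable [GrpObj G] (act : G ⊗ X ⟶ X) (one_act : (η[G] ▷ X) ≫ act = (λ_ X).hom)
  (mul_act : (μ[G] ▷ X) ≫ act = (α_ G G X).hom ≫ (G ◁ act) ≫ act)

include one_act mul_act in
/-- if a `T`-point of `X` trivialises `X` over `T`, the shear map becomes an isomorphism over `T` -/
theorem isIso_shear_whisker (s : T ⟶ X) [IsIso (lift ((G ◁ s) ≫ act) (snd G T))] :
    IsIso ((lift act (snd G X)) ▷ T) := by
  obtain ⟨θ, hθ⟩ : ∃ θ : G ⊗ T ⟶ X ⊗ T, θ = lift ((G ◁ s) ≫ act) (snd G T) := ⟨_, rfl⟩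
  haveI : IsIso θ := by rw [hθ]; infer_instance
  have hθ1 : θ ≫ fst X T = (G ◁ s) ≫ act := by rw [hθ, lift_fst]
  have hθ2 : θ ≫ snd X T = snd G T := by rw [hθ, lift_snd]
  have hθpt : ∀ {Y : C} (g : Y ⟶ G) (t : Y ⟶ T),
      lift g t ≫ θ = lift (lift g (t ≫ s) ≫ act) t := by
    intro Y g t
    apply CartesianMonoidalCategory.hom_ext
    · rw [Category.assoc, hθ1, lift_fst, ← Category.assoc, lift_whiskerLeft]
    · rw [Category.assoc, hθ2, lift_snd, lift_snd]
  have P : ∀ {Y : C} (z : Y ⟶ X) (t : Y ⟶ T), ∃ cg : Y ⟶ G, lift cg (t ≫ s) ≫ act = z ∧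
      ∀ g : Y ⟶ G, lift g (t ≫ s) ≫ act = z → g = cg := by
    intro Y z t
    obtain ⟨w, hw⟩ : ∃ w : Y ⟶ G ⊗ T, w = lift z t ≫ inv θ := ⟨_, rfl⟩
    have hwθ : w ≫ θ = lift z t := by
      rw [hw, Category.assoc, IsIso.inv_hom_id, Category.comp_id]
    have hw2 : w ≫ snd G T = t := by rw [← hθ2, ← Category.assoc, hwθ, lift_snd]
    have hw' : w = lift (w ≫ fst G T) t := by
      apply CartesianMonoidalCategory.hom_ext
      · rw [lift_fst]
      · rw [lift_snd, hw2]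
    refine ⟨w ≫ fst G T, ?_, ?_⟩
    · have h3 := hθpt (w ≫ fst G T) t
      rw [← hw', hwθ] at h3
      have h4 := congrArg (fun k => k ≫ fst X T) h3
      simp only [lift_fst] at h4
      exact h4.symm
    · intro g hg
      have h4 : lift g t ≫ θ = lift z t := by rw [hθpt, hg]
      have h5 : lift g t = w := by
        rw [hw, ← h4, Category.assoc, IsIso.hom_inv_id, Category.comp_id]
      rw [← h5, lift_fst]
  obtain ⟨σ, hσ⟩ : ∃ σ : G ⊗ X ⟶ X ⊗ X, σ = lift act (snd G X) := ⟨_, rfl⟩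
  have hσ1 : σ ≫ fst X X = act := by rw [hσ, lift_fst]
  have hσ2 : σ ≫ snd X X = snd G X := by rw [hσ, lift_snd]
  rw [← hσ]
  apply isIso_of_points
  intro Y b
  obtain ⟨x, hx⟩ : ∃ x : Y ⟶ X, x = b ≫ fst (X ⊗ X) T ≫ fst X X := ⟨_, rfl⟩
  obtain ⟨y, hy⟩ : ∃ y : Y ⟶ X, y = b ≫ fst (X ⊗ X) T ≫ snd X X := ⟨_, rfl⟩
  obtain ⟨t, ht⟩ : ∃ t : Y ⟶ T, t = b ≫ snd (X ⊗ X) T := ⟨_, rfl⟩
  have hb : b = lift (lift x y) t := by
    apply CartesianMonoidalCategory.hom_ext
    · rw [lift_fst]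
      apply CartesianMonoidalCategory.hom_ext
      · rw [lift_fst, hx, Category.assoc]
      · rw [lift_snd, hy, Category.assoc]
    · rw [lift_snd, ht]
  obtain ⟨cx, hcx1, hcx2⟩ := P x t
  obtain ⟨cy, hcy1, hcy2⟩ := P y t
  have hinv : lift cy⁻¹ y ≫ act = t ≫ s := by
    have := act_inv_act act one_act mul_act cy (t ≫ s)
    rwa [hcy1] at this
  have key : lift (cx * cy⁻¹) y ≫ act = x := by
    rw [act_mul act mul_act, hinv, hcx1]
  have hpt : ∀ (g : Y ⟶ G) (y' : Y ⟶ X) (t' : Y ⟶ T),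
      lift (lift g y') t' ≫ (σ ▷ T) = lift (lift (lift g y' ≫ act) y') t' := by
    intro g y' t'
    rw [lift_whiskerRight, hσ, comp_lift, lift_snd]
  refine ⟨lift (lift (cx * cy⁻¹) y) t, ?_, ?_⟩
  · rw [hpt, key, hb]
  · intro a' ha'
    obtain ⟨g', hg'⟩ : ∃ g' : Y ⟶ G, g' = a' ≫ fst (G ⊗ X) T ≫ fst G X := ⟨_, rfl⟩
    obtain ⟨y', hy'⟩ : ∃ y' : Y ⟶ X, y' = a' ≫ fst (G ⊗ X) T ≫ snd G X := ⟨_, rfl⟩
    obtain ⟨t', ht'⟩ : ∃ t' : Y ⟶ T, t' = a' ≫ snd (G ⊗ X) T := ⟨_, rfl⟩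
    have ha'e : a' = lift (lift g' y') t' := by
      apply CartesianMonoidalCategory.hom_ext
      · rw [lift_fst]
        apply CartesianMonoidalCategory.hom_ext
        · rw [lift_fst, hg', Category.assoc]
        · rw [lift_snd, hy', Category.assoc]
      · rw [lift_snd, ht']
    have h6 : lift (lift (lift g' y' ≫ act) y') t' = lift (lift x y) t := by
      rw [← hpt, ← ha'e, ha', hb]
    have e1 : t' = t := by
      have := congrArg (fun k => k ≫ snd (X ⊗ X) T) h6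
      simpa only [lift_snd] using this
    have e2 : y' = y := by
      have := congrArg (fun k => k ≫ fst (X ⊗ X) T ≫ snd X X) h6
      simpa only [lift_fst_assoc, lift_snd] using this
    have e3 : lift g' y' ≫ act = x := by
      have := congrArg (fun k => k ≫ fst (X ⊗ X) T ≫ fst X X) h6
      simpa only [lift_fst_assoc, lift_fst] using this
    rw [e2] at e3
    have e4 : g' * cy = cx := by
      apply hcx2
      rw [act_mul act mul_act, hcy1, e3]
    have e5 : g' = cx * cy⁻¹ := eq_mul_inv_of_mul_eq e4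
    rw [ha'e, e1, e2, e5]

end grp

end general

section schemes

open Groth.Agent.Lib.TorsorIso_helper7

theorem isIso_snd_of_whisker {S T : Scheme.{u}} (f : T ⟶ S) {A B : Over S} (φ : A ⟶ B)
    [IsIso (φ ▷ (Over.mk f))] : IsIso (pullback.snd φ.left (pullback.fst B.hom f)) := by
  obtain ⟨ψ, hψ⟩ : ∃ ψ : pullback A.hom f ⟶ pullback B.hom f,
      ψ = (φ ▷ (Over.mk f)).left := ⟨_, rfl⟩
  haveI : IsIso ψ := by
    rw [hψ]
    exact (inferInstance : IsIso ((Over.forget S).map (φ ▷ (Over.mk f))))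
  have hψ1 : ψ ≫ pullback.fst B.hom f = pullback.fst A.hom f ≫ φ.left := by
    rw [hψ]; exact Over.whiskerRight_left_fst φ
  have hψ2 : ψ ≫ pullback.snd B.hom f = pullback.snd A.hom f := by
    rw [hψ]; exact Over.whiskerRight_left_snd φ
  have outer : IsPullback (pullback.fst A.hom f) (ψ ≫ pullback.snd B.hom f)
      (φ.left ≫ B.hom) f := by
    rw [hψ2, Over.w φ]; exact IsPullback.of_hasPullback A.hom f
  have top := IsPullback.of_bot outer hψ1.symm (IsPullback.of_hasPullback B.hom f)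
  have e := top.isoPullback_hom_snd
  have h2 : pullback.snd φ.left (pullback.fst B.hom f) = top.isoPullback.inv ≫ ψ := by
    rw [Iso.eq_inv_comp]; exact e
  rw [h2]
  infer_instance

theorem main {S : Scheme.{u}} {G X : Over S} [GrpObj G] (a : AlgGrp.Action G X) :
    NonAbH1.IsTorsorFor Scheme.fpqcPrecoverage a ↔
      ∃ R ∈ Scheme.fpqcPrecoverage S, ∀ ⦃S' : Scheme.{u}⦄ (f : S' ⟶ S), R f →
        ∃ s : Over.mk f ⟶ X, IsIso (lift ((G ◁ s) ≫ a.act) (snd G (Over.mk f))) := by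
  constructor
  · rintro ⟨hps, R, hR, hsec⟩
    refine ⟨R, hR, fun S' f hf => ?_⟩
    obtain ⟨s, hs⟩ := hsec f hf
    haveI : IsIso (lift a.act (snd G X)) := hps
    exact ⟨Over.homMk s hs, isIso_theta a.act _⟩
  · rintro ⟨R, hR, h⟩
    refine ⟨?_, R, hR, fun S' f hf => ?_⟩
    · show IsIso (lift a.act (snd G X))
      haveI : IsIso ((Over.forget S).map (lift a.act (snd G X))) := by
        apply isIso_of_fpqc_aux (lift a.act (snd G X)).left (X ⊗ X).hom hR
        intro T f hf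
        obtain ⟨s, hs⟩ := h f hf
        haveI := hs
        haveI : IsIso ((lift a.act (snd G X)) ▷ (Over.mk f)) :=
          isIso_shear_whisker a.act a.one_act a.mul_act s
        exact isIso_snd_of_whisker f (lift a.act (snd G X))
      exact isIso_of_reflects_iso _ (Over.forget S)
    · obtain ⟨s, -⟩ := h f hf
      exact ⟨s.left, Over.w s⟩

end schemes

end Groth.Agent.Lib.TorsorLocTriv_helper7
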