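import Mathlib
import Groth.Prelude.Def_DescFam
import Groth.Agent.Lib.DescIso_helper9

/-!
# Descent data for schemes relative to a Zariski covering family are effective

For a jointly surjective family of open immersions `g i : U i ⟶ V`, every descent datum
`D : Desc.SchDDFam g` is effective: the schemes `D.obj i` glue (Mathlib's relative gluing along a
locally directed cover) to a scheme over `V`.
-/

set_option backward.isDefEq.respectTransparency false
set_option backward.isDefEq.respectTransparency.types false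

universe w u

open CategoryTheory CategoryTheory.Limits AlgebraicGeometry Opposite

namespace Groth.Agent.Lib.ZarDescH6

section basics

variable {S : Scheme.{u}} {ι : Type w} {X : ι → Scheme.{u}} {f : ∀ i, X i ⟶ S}
  (D : Desc.SchDDFam f)

lemma φ_congr {T : Scheme.{u}} {i j : ι} {x₀ x₀' : T ⟶ X i} {x₁ x₁' : T ⟶ X j}
    (h : x₀ ≫ f i = x₁ ≫ f j) (h' : x₀' ≫ f i = x₁' ≫ f j) (e₀ : x₀ = x₀') (e₁ : x₁ = x₁')
    (v : Desc.Lifts (D.obj i) x₀) (v' : Desc.Lifts (D.obj i) x₀') (hv : v.1 = v'.1) :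
    (D.φ x₀ x₁ h v).1 = (D.φ x₀' x₁' h' v').1 := by
  subst e₀ e₁
  have : v = v' := Subtype.ext hv
  subst this
  rfl

lemma φ_nat {T T' : Scheme.{u}} (σ : T' ⟶ T) {i j : ι} (x₀ : T ⟶ X i) (x₁ : T ⟶ X j)
    (h : x₀ ≫ f i = x₁ ≫ f j) (v : Desc.Lifts (D.obj i) x₀)
    (y₀ : T' ⟶ X i) (y₁ : T' ⟶ X j) (hy₀ : σ ≫ x₀ = y₀) (hy₁ : σ ≫ x₁ = y₁)
    (h' : y₀ ≫ f i = y₁ ≫ f j) (v' : Desc.Lifts (D.obj i) y₀) (hv : v'.1 = σ ≫ v.1) :
    (D.φ y₀ y₁ h' v').1 = σ ≫ (D.φ x₀ x₁ h v).1 :=
  D.φ_natural σ x₀ x₁ h y₀ y₁ hy₀ hy₁ h' v v' hv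

lemma φ_symm_apply {T : Scheme.{u}} {i j : ι} (x₀ : T ⟶ X i) (x₁ : T ⟶ X j)
    (h : x₀ ≫ f i = x₁ ≫ f j) (v : Desc.Lifts (D.obj i) x₀) :
    D.φ x₁ x₀ h.symm (D.φ x₀ x₁ h v) = v := by
  rw [D.φ_comp, D.φ_self]

lemma φ_apply_symm {T : Scheme.{u}} {i j : ι} (x₀ : T ⟶ X i) (x₁ : T ⟶ X j)
    (h : x₀ ≫ f i = x₁ ≫ f j) (v : Desc.Lifts (D.obj j) x₁) :
    D.φ x₀ x₁ h (D.φ x₁ x₀ h.symm v) = v := by
  rw [D.φ_comp, D.φ_self]

lemma φ_symm_eq {T : Scheme.{u}} {i j : ι} (x₀ : T ⟶ X i) (x₁ : T ⟶ X j)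
    (h : x₀ ≫ f i = x₁ ≫ f j) : (D.φ x₀ x₁ h).symm = D.φ x₁ x₀ h.symm := by
  ext v : 1
  rw [Equiv.symm_apply_eq, φ_apply_symm]

end basics

section glue

variable {V : Scheme.{u}} {I : Type u} {U : I → Scheme.{u}} (g : ∀ i, U i ⟶ V)
  [∀ i, IsOpenImmersion (g i)]

/-- Index type of the locally directed cover: pairs `(i, W)` with `W` an open of `V` inside the
image of `g i`. -/
structure J : Type u where
  /-- the index -/
  i : I
  /-- the open -/
  W : V.Opens
  le : W ≤ (g i).opensRange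

instance : Preorder (J g) := Preorder.lift (fun p => p.W)

lemma J_le_iff (p q : J g) : p ≤ q ↔ p.W ≤ q.W := Iff.rfl

variable (hsurj : ∀ x : V, ∃ i, x ∈ Set.range (g i))

/-- The locally directed open cover of `V` by all opens contained in some `g i`. -/
@[simps I₀ X f]
noncomputable def cov : V.OpenCover where
  I₀ := J g
  X p := p.W
  f p := p.W.ι
  mem₀ := by
    rw [Scheme.presieve₀_mem_precoverage_iff]
    refine ⟨fun x => ?_, inferInstance⟩
    obtain ⟨i, hi⟩ := hsurj x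
    exact ⟨⟨i, (g i).opensRange, le_rfl⟩, by simpa using hi⟩

instance : Preorder (cov g hsurj).I₀ := inferInstanceAs <| Preorder (J g)

include hsurj in
lemma isBasis_cov : TopologicalSpace.Opens.IsBasis
    (Set.range fun p : (cov g hsurj).I₀ => ((cov g hsurj).f p).opensRange) := by
  rw [TopologicalSpace.Opens.isBasis_iff_nbhd]
  intro O x hx
  obtain ⟨i, hi⟩ := hsurj x
  refine ⟨O ⊓ (g i).opensRange, ⟨⟨i, O ⊓ (g i).opensRange, inf_le_right⟩, ?_⟩, ⟨hx, hi⟩,
    inf_le_left⟩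
  simp

noncomputable instance : (cov g hsurj).LocallyDirected :=
  .ofIsBasisOpensRange (by intros; simp; rfl) (isBasis_cov g hsurj)

variable (D : Desc.SchDDFam g)

/-- The lift of `W ⟶ V` through `g i`. -/
noncomputable def lp (p : J g) : (p.W : Scheme.{u}) ⟶ U p.i :=
  IsOpenImmersion.lift (g p.i) p.W.ι (by
    rw [Scheme.Opens.range_ι]
    exact p.le)

@[reassoc (attr := simp)]
lemma lp_g (p : J g) : lp g p ≫ g p.i = p.W.ι := IsOpenImmersion.lift_fac _ _ _

@[reassoc (attr := simp)]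
lemma homOfLE_lp_g {p q : J g} (h : p.W ≤ q.W) :
    V.homOfLE h ≫ lp g q ≫ g q.i = p.W.ι := by
  rw [lp_g, Scheme.homOfLE_ι]

/-- The restriction of `D.obj i` to `W`. -/
noncomputable abbrev XX (p : J g) : Scheme.{u} := pullback (D.obj p.i).hom (lp g p)

/-- The tautological lift on `XX p`. -/
noncomputable def tv (p : J g) :
    Desc.Lifts (D.obj p.i) ((pullback.snd (D.obj p.i).hom (lp g p)) ≫ lp g p) :=
  ⟨pullback.fst _ _, pullback.condition⟩

lemma tr_aux {p q : J g} (h : p.W ≤ q.W) :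
    ((pullback.snd (D.obj p.i).hom (lp g p)) ≫ lp g p) ≫ g p.i =
      ((pullback.snd (D.obj p.i).hom (lp g p)) ≫ V.homOfLE h ≫ lp g q) ≫ g q.i := by
  simp

/-- The transition map `XX p ⟶ XX q` for `p ≤ q`. -/
noncomputable def tr {p q : J g} (h : p.W ≤ q.W) : XX g D p ⟶ XX g D q :=
  pullback.lift (D.φ _ _ (tr_aux g D h) (tv g D p)).1
    (pullback.snd (D.obj p.i).hom (lp g p) ≫ V.homOfLE h)
    ((D.φ _ _ (tr_aux g D h) (tv g D p)).2.trans (Category.assoc _ _ _).symm)

@[reassoc (attr := simp)]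
lemma tr_fst {p q : J g} (h : p.W ≤ q.W) :
    tr g D h ≫ pullback.fst (D.obj q.i).hom (lp g q) =
      (D.φ _ _ (tr_aux g D h) (tv g D p)).1 := pullback.lift_fst _ _ _

@[reassoc (attr := simp)]
lemma tr_snd {p q : J g} (h : p.W ≤ q.W) :
    tr g D h ≫ pullback.snd (D.obj q.i).hom (lp g q) =
      pullback.snd (D.obj p.i).hom (lp g p) ≫ V.homOfLE h := pullback.lift_snd _ _ _

/-- Pointwise description of `tr`. -/
lemma comp_tr_fst {T : Scheme.{u}} {p q : J g} (h : p.W ≤ q.W) (a : T ⟶ XX g D p)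
    (x₀ : T ⟶ U p.i) (x₁ : T ⟶ U q.i)
    (hx₀ : a ≫ pullback.snd (D.obj p.i).hom (lp g p) ≫ lp g p = x₀)
    (hx₁ : a ≫ pullback.snd (D.obj p.i).hom (lp g p) ≫ V.homOfLE h ≫ lp g q = x₁)
    (hh : x₀ ≫ g p.i = x₁ ≫ g q.i) (v : Desc.Lifts (D.obj p.i) x₀)
    (hv : v.1 = a ≫ pullback.fst _ _) :
    a ≫ tr g D h ≫ pullback.fst (D.obj q.i).hom (lp g q) = (D.φ x₀ x₁ hh v).1 := by
  rw [tr_fst]
  exact (φ_nat D a _ _ (tr_aux g D h) (tv g D p) x₀ x₁ hx₀ hx₁ hh v hv).symm

lemma tr_id (p : J g) : tr g D (le_refl p.W) = 𝟙 _ := by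
  apply pullback.hom_ext
  · rw [tr_fst, Category.id_comp]
    have := φ_congr D (tr_aux g D (le_refl p.W)) rfl rfl
      (by rw [Scheme.homOfLE_rfl, Category.id_comp]) (tv g D p) (tv g D p) rfl
    rw [this, D.φ_self]
    rfl
  · rw [tr_snd, Category.id_comp, Scheme.homOfLE_rfl, Category.comp_id]

lemma tr_comp {p q r : J g} (h₁ : p.W ≤ q.W) (h₂ : q.W ≤ r.W) :
    tr g D (h₁.trans h₂) = tr g D h₁ ≫ tr g D h₂ := by
  apply pullback.hom_ext
  · rw [Category.assoc]
    have hx₁ : tr g D h₁ ≫ pullback.snd (D.obj q.i).hom (lp g q) ≫ lp g q =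
        pullback.snd (D.obj p.i).hom (lp g p) ≫ V.homOfLE h₁ ≫ lp g q := by
      rw [tr_snd_assoc]
    have hx₂ : tr g D h₁ ≫ pullback.snd (D.obj q.i).hom (lp g q) ≫ V.homOfLE h₂ ≫ lp g r =
        pullback.snd (D.obj p.i).hom (lp g p) ≫ V.homOfLE (h₁.trans h₂) ≫ lp g r := by
      rw [tr_snd_assoc, Scheme.homOfLE_homOfLE_assoc]
    refine Eq.trans ?_ (comp_tr_fst g D h₂ (tr g D h₁) _ _ hx₁ hx₂ (by simp)
      (D.φ _ _ (tr_aux g D h₁) (tv g D p)) (tr_fst g D h₁).symm).symm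
    refine (tr_fst g D (h₁.trans h₂)).trans ?_
    exact (congrArg Subtype.val (D.φ_comp _ _ _ _ _ _)).symm
  · rw [tr_snd, Category.assoc, tr_snd, tr_snd_assoc, Scheme.homOfLE_homOfLE]

lemma isPullback_tr {p q : J g} (h : p.W ≤ q.W) :
    IsPullback (tr g D h) (pullback.snd (D.obj p.i).hom (lp g p))
      (pullback.snd (D.obj q.i).hom (lp g q)) (V.homOfLE h) := by
  refine ⟨⟨tr_snd g D h⟩, ⟨PullbackCone.IsLimit.mk _ ?_ ?_ ?_ ?_⟩⟩
  · intro s
    have hw : (s.fst ≫ pullback.fst (D.obj q.i).hom (lp g q)) ≫ (D.obj q.i).hom =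
        s.snd ≫ V.homOfLE h ≫ lp g q := by
      rw [Category.assoc, pullback.condition, ← Category.assoc, s.condition, Category.assoc]
    exact pullback.lift
      (D.φ (s.snd ≫ V.homOfLE h ≫ lp g q) (s.snd ≫ lp g p) (by simp)
        ⟨s.fst ≫ pullback.fst _ _, hw⟩).1 s.snd
      (D.φ (s.snd ≫ V.homOfLE h ≫ lp g q) (s.snd ≫ lp g p) (by simp)
        ⟨s.fst ≫ pullback.fst _ _, hw⟩).2
  · intro s
    have hw : (s.fst ≫ pullback.fst (D.obj q.i).hom (lp g q)) ≫ (D.obj q.i).hom =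
        s.snd ≫ V.homOfLE h ≫ lp g q := by
      rw [Category.assoc, pullback.condition, ← Category.assoc, s.condition, Category.assoc]
    apply pullback.hom_ext
    · rw [Category.assoc]
      refine (comp_tr_fst g D h _ (s.snd ≫ lp g p) (s.snd ≫ V.homOfLE h ≫ lp g q)
        (by rw [pullback.lift_snd_assoc]) (by rw [pullback.lift_snd_assoc]) (by simp)
        (D.φ (s.snd ≫ V.homOfLE h ≫ lp g q) (s.snd ≫ lp g p) (by simp)
          ⟨s.fst ≫ pullback.fst _ _, hw⟩) (pullback.lift_fst _ _ _).symm).trans ?_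
      exact congrArg Subtype.val (φ_apply_symm D _ _ _ _)
    · rw [Category.assoc, tr_snd, pullback.lift_snd_assoc, s.condition]
  · intro s
    exact pullback.lift_snd _ _ _
  · intro s m hm₁ hm₂
    have hw : (s.fst ≫ pullback.fst (D.obj q.i).hom (lp g q)) ≫ (D.obj q.i).hom =
        s.snd ≫ V.homOfLE h ≫ lp g q := by
      rw [Category.assoc, pullback.condition, ← Category.assoc, s.condition, Category.assoc]
    apply pullback.hom_ext
    · rw [pullback.lift_fst]
      have hv : (m ≫ pullback.fst (D.obj p.i).hom (lp g p)) ≫ (D.obj p.i).hom =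
          s.snd ≫ lp g p := by
        rw [Category.assoc, pullback.condition, ← Category.assoc, hm₂]
      have e1 := comp_tr_fst g D h m (s.snd ≫ lp g p) (s.snd ≫ V.homOfLE h ≫ lp g q)
        (by rw [← Category.assoc, hm₂]) (by rw [← Category.assoc, hm₂]) (by simp)
        ⟨m ≫ pullback.fst _ _, hv⟩ rfl
      have e2 : D.φ (s.snd ≫ lp g p) (s.snd ≫ V.homOfLE h ≫ lp g q) (by simp)
          ⟨m ≫ pullback.fst _ _, hv⟩ = ⟨s.fst ≫ pullback.fst _ _, hw⟩ := by
        apply Subtype.ext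
        rw [← e1, ← Category.assoc, hm₁]
      have e3 := congrArg (D.φ (s.snd ≫ V.homOfLE h ≫ lp g q) (s.snd ≫ lp g p) (by simp)) e2
      rw [φ_symm_apply] at e3
      exact congrArg Subtype.val e3
    · rw [pullback.lift_snd]
      exact hm₂

lemma cov_trans {p q : (cov g hsurj).I₀} (f : p ⟶ q) :
    (cov g hsurj).trans f = V.homOfLE (leOfHom f) := rfl

/-- The diagram of restrictions of the `D.obj i`. -/
noncomputable def FF : (cov g hsurj).I₀ ⥤ Scheme.{u} where
  obj p := XX g D p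
  map {p q} f := tr g D (leOfHom f)
  map_id p := tr_id g D p
  map_comp f f' := tr_comp g D _ _

/-- The structure maps of the restrictions. -/
noncomputable def nat : FF g hsurj D ⟶ (cov g hsurj).functorOfLocallyDirected where
  app p := pullback.snd (D.obj p.i).hom (lp g p)
  naturality p q f := tr_snd g D (leOfHom f)

/-- The relative gluing datum. -/
noncomputable def rgd : Scheme.Cover.RelativeGluingData (cov g hsurj) where
  functor := FF g hsurj D
  natTrans := nat g hsurj D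
  equifibered p q f := isPullback_tr g D (leOfHom f)

instance : Small.{u} (cov g hsurj).I₀ := inferInstanceAs <| Small.{u} (J g)

instance : Quiver.IsThin (cov g hsurj).I₀ := inferInstanceAs <| Quiver.IsThin (J g)

/-- The glued scheme. -/
noncomputable def glued : Scheme.{u} := (rgd g hsurj D).glued

/-- The structure map of the glued scheme. -/
noncomputable def toBase : glued g hsurj D ⟶ V := (rgd g hsurj D).toBase

/-- The coprojections. -/
noncomputable def cι (p : J g) : XX g D p ⟶ glued g hsurj D :=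
  colimit.ι (rgd g hsurj D).functor p

lemma tr_cι {p q : J g} (h : p.W ≤ q.W) : tr g D h ≫ cι g hsurj D q = cι g hsurj D p :=
  colimit.w (rgd g hsurj D).functor (homOfLE h : (p : (cov g hsurj).I₀) ⟶ q)

lemma isPullback_cι (p : J g) :
    IsPullback (pullback.snd (D.obj p.i).hom (lp g p)) (cι g hsurj D p) p.W.ι
      (toBase g hsurj D) :=
  (rgd g hsurj D).isPullback_natTrans_ι_toBase p

/-- The index of the full image of `g i`. -/
abbrev kk (i : I) : J g := ⟨i, (g i).opensRange, le_rfl⟩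

lemma lp_kk (i : I) : lp g (kk g i) = (g i).isoOpensRange.inv := by
  rw [← cancel_mono (g i), Scheme.Hom.isoOpensRange_inv_comp]
  exact lp_g g (kk g i)

instance (i : I) : IsIso (lp g (kk g i)) := by
  rw [lp_kk]; infer_instance

/-- `D.obj i` as the restriction to the full image of `g i`. -/
noncomputable def yy (i : I) : (D.obj i).left ⟶ XX g D (kk g i) :=
  pullback.lift (𝟙 _) ((D.obj i).hom ≫ (g i).isoOpensRange.hom) (by
    rw [lp_kk, Category.assoc, Iso.hom_inv_id, Category.comp_id, Category.id_comp])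

@[reassoc (attr := simp)]
lemma yy_fst (i : I) : yy g D i ≫ pullback.fst (D.obj i).hom (lp g (kk g i)) = 𝟙 _ :=
  pullback.lift_fst _ _ _

@[reassoc (attr := simp)]
lemma yy_snd (i : I) : yy g D i ≫ pullback.snd (D.obj i).hom (lp g (kk g i)) =
    (D.obj i).hom ≫ (g i).isoOpensRange.hom :=
  pullback.lift_snd _ _ _

instance (i : I) : IsIso (yy g D i) := by
  have h : IsIso (yy g D i ≫ pullback.fst (D.obj i).hom (lp g (kk g i))) := by
    rw [yy_fst]; infer_instance
  exact IsIso.of_isIso_comp_right _ (pullback.fst (D.obj i).hom (lp g (kk g i)))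

/-- The open immersion of `D.obj i` into the glued scheme. -/
noncomputable def εε (i : I) : (D.obj i).left ⟶ glued g hsurj D :=
  yy g D i ≫ cι g hsurj D (kk g i)

lemma isPullback_εε (i : I) :
    IsPullback (D.obj i).hom (εε g hsurj D i) (g i) (toBase g hsurj D) := by
  have s : IsPullback (D.obj i).hom (yy g D i) (g i).isoOpensRange.hom
      (pullback.snd (D.obj i).hom (lp g (kk g i))) :=
    IsPullback.of_vert_isIso ⟨(yy_snd g D i).symm⟩
  have := s.paste_vert (isPullback_cι g hsurj D (kk g i))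
  rwa [show (g i).isoOpensRange.hom ≫ (kk g i).W.ι = g i from
    Scheme.Hom.isoOpensRange_hom_ι (g i)] at this

/-- Compatibility of the open immersions `εε` with the gluing bijections. -/
lemma φ_εε {T : Scheme.{u}} {i i' : I} (x₀ : T ⟶ U i) (x₁ : T ⟶ U i')
    (h : x₀ ≫ g i = x₁ ≫ g i') (v : Desc.Lifts (D.obj i) x₀) :
    (D.φ x₀ x₁ h v).1 ≫ εε g hsurj D i' = v.1 ≫ εε g hsurj D i := by
  let k : J g := ⟨i, (g i).opensRange ⊓ (g i').opensRange, inf_le_left⟩
  have hr : Set.range (x₀ ≫ g i) ⊆ Set.range k.W.ι := by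
    rw [Scheme.Opens.range_ι]
    rintro _ ⟨y, rfl⟩
    refine ⟨⟨x₀ y, by simp⟩, ?_⟩
    rw [h]
    exact ⟨x₁ y, by simp⟩
  let t : T ⟶ k.W := IsOpenImmersion.lift k.W.ι (x₀ ≫ g i) hr
  have ht : t ≫ k.W.ι = x₀ ≫ g i := IsOpenImmersion.lift_fac _ _ _
  have ht₀ : t ≫ lp g k = x₀ := by
    rw [← cancel_mono (g i), Category.assoc]
    exact (congrArg (t ≫ ·) (lp_g g k)).trans ht
  let vt : T ⟶ XX g D k := pullback.lift v.1 t (v.2.trans ht₀.symm)
  have hvt₁ : vt ≫ pullback.fst _ _ = v.1 := pullback.lift_fst _ _ _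
  have hvt₂ : vt ≫ pullback.snd _ _ = t := pullback.lift_snd _ _ _
  have h₁ : k.W ≤ (kk g i).W := inf_le_left
  have h₂ : k.W ≤ (kk g i').W := inf_le_right
  have e₀ : vt ≫ pullback.snd (D.obj i).hom (lp g k) ≫ lp g k = x₀ := by
    rw [← Category.assoc, hvt₂, ht₀]
  have e₀' : vt ≫ pullback.snd (D.obj i).hom (lp g k) ≫ V.homOfLE h₁ ≫ lp g (kk g i) = x₀ := by
    rw [← Category.assoc, hvt₂, ← cancel_mono (g i), Category.assoc, Category.assoc]
    exact (congrArg (t ≫ ·) (homOfLE_lp_g g (p := k) (q := kk g i) h₁)).trans ht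
  have e₁ : vt ≫ pullback.snd (D.obj i).hom (lp g k) ≫ V.homOfLE h₂ ≫ lp g (kk g i') = x₁ := by
    rw [← Category.assoc, hvt₂, ← cancel_mono (g i'), Category.assoc, Category.assoc]
    exact ((congrArg (t ≫ ·) (homOfLE_lp_g g (p := k) (q := kk g i') h₂)).trans ht).trans h
  have A : vt ≫ tr g D h₁ = v.1 ≫ yy g D i := by
    apply pullback.hom_ext
    · rw [Category.assoc, Category.assoc, yy_fst, Category.comp_id]
      refine (comp_tr_fst g D h₁ vt x₀ x₀ e₀ e₀' rfl v hvt₁.symm).trans ?_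
      rw [D.φ_self]
    · rw [Category.assoc, Category.assoc, yy_snd, tr_snd, ← Category.assoc, hvt₂,
        ← Category.assoc, v.2, ← cancel_mono (g i).opensRange.ι, Category.assoc, Category.assoc,
        Scheme.Hom.isoOpensRange_hom_ι]
      exact (congrArg (t ≫ ·) (V.homOfLE_ι h₁)).trans ht
  have B : vt ≫ tr g D h₂ = (D.φ x₀ x₁ h v).1 ≫ yy g D i' := by
    apply pullback.hom_ext
    · rw [Category.assoc, Category.assoc, yy_fst, Category.comp_id]
      exact comp_tr_fst g D h₂ vt x₀ x₁ e₀ e₁ h v hvt₁.symm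
    · rw [Category.assoc, Category.assoc, yy_snd, tr_snd, ← Category.assoc, hvt₂,
        ← Category.assoc, (D.φ x₀ x₁ h v).2, ← cancel_mono (g i').opensRange.ι, Category.assoc,
        Category.assoc, Scheme.Hom.isoOpensRange_hom_ι]
      exact ((congrArg (t ≫ ·) (V.homOfLE_ι h₂)).trans ht).trans h
  unfold εε
  rw [← Category.assoc, ← B, ← Category.assoc, ← A, Category.assoc, Category.assoc,
    tr_cι, tr_cι]

include hsurj in
/-- Descent data relative to a Zariski covering family are effective. -/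
theorem exists_iso_toDDFam :
    ∃ (E : Over V) (e : (Desc.toDDFam g).obj E ≅ D),
      ∀ i, IsPullback (D.obj i).hom ((e.inv.hom i).left ≫ pullback.snd (g i) E.hom) (g i)
        E.hom := by
  let E : Over V := Over.mk (toBase g hsurj D)
  let ei : ∀ i, ((Desc.toDDFam g).obj E).obj i ≅ D.obj i := fun i =>
    (Over.isoMk (isPullback_εε g hsurj D i).isoPullback
      ((isPullback_εε g hsurj D i).isoPullback_hom_fst)).symm
  have hei : ∀ i, (ei i).hom.left = (isPullback_εε g hsurj D i).isoPullback.inv := fun i => rfl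
  have hei' : ∀ i, (ei i).inv.left = (isPullback_εε g hsurj D i).isoPullback.hom := fun i => rfl
  refine ⟨E, Groth.Agent.Lib.DescIso.isoMk ei ?_, ?_⟩
  · intro T i i' x₀ x₁ h v w hw
    rw [hei] at hw
    rw [hei, ← cancel_mono (isPullback_εε g hsurj D i').isoPullback.hom, Category.assoc,
      Iso.inv_hom_id, Category.comp_id]
    apply pullback.hom_ext
    · rw [Category.assoc, IsPullback.isoPullback_hom_fst]
      refine ((D.φ x₀ x₁ h w).2).trans ?_
      exact (pullback.lift_fst _ _ _).symm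
    · rw [Category.assoc, IsPullback.isoPullback_hom_snd]
      refine (φ_εε g hsurj D x₀ x₁ h w).trans ?_
      rw [hw, Category.assoc, IsPullback.isoPullback_inv_snd]
      exact (pullback.lift_snd _ _ _).symm
  · intro i
    show IsPullback (D.obj i).hom ((ei i).inv.left ≫ pullback.snd (g i) (toBase g hsurj D)) (g i)
      (toBase g hsurj D)
    rw [hei', IsPullback.isoPullback_hom_snd]
    exact isPullback_εε g hsurj D i

include hsurj in
/-- Gluing form: the `D.obj i` are the restrictions of a scheme `E` over `V` to the `U i`,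
compatibly with the gluing bijections. -/
theorem exists_glue : ∃ (E : Over V) (ε : ∀ i, (D.obj i).left ⟶ E.left),
    (∀ i, IsPullback (D.obj i).hom (ε i) (g i) E.hom) ∧
    ∀ ⦃T : Scheme.{u}⦄ ⦃i i' : I⦄ (x₀ : T ⟶ U i) (x₁ : T ⟶ U i') (h : x₀ ≫ g i = x₁ ≫ g i')
      (y : Desc.Lifts (D.obj i) x₀), (D.φ x₀ x₁ h y).1 ≫ ε i' = y.1 ≫ ε i :=
  ⟨Over.mk (toBase g hsurj D), εε g hsurj D, isPullback_εε g hsurj D,
    fun _ _ _ x₀ x₁ h y => φ_εε g hsurj D x₀ x₁ h y⟩

end glue

end Groth.Agent.Lib.ZarDescH6
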