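import Mathlib
import Groth.Agent.Lib.TLineA_helper4
import Groth.Agent.Lib.ZarDesc1_helper6
import Groth.Agent.Lib.DescFF_helper7
import Groth.Agent.Lib.TorsorLocTriv_helper7

/-!
# Zariski glueing of torsors (helper4)

Given a jointly surjective family of open immersions `g i : U i ⟶ V`, a group scheme `H` over `V`,
a scheme `E` over `V` whose restrictions to the `U i` are schemes `P i` with actions of `H|_{U i}`
making them fppf torsors, compatibly on overlaps, `E` carries an action of `H` making it an fppf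
torsor (`glue_core`); `glue_torsor`: the same starting from a descent datum.
-/

set_option autoImplicit false
set_option linter.style.haveILetI false
set_option linter.unusedSectionVars false
universe u
open CategoryTheory CategoryTheory.Limits MonoidalCategory CartesianMonoidalCategory MonObj GrpObj
  AlgebraicGeometry

namespace Groth.Agent.Lib.TLineH4

section Core

variable {V : Scheme.{u}} {I : Type u} {U : I → Scheme.{u}} (g : ∀ i, U i ⟶ V)
  {H : Over V} [GrpObj H] {E : Over V} {P : ∀ i, Over (U i)}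
  (a : ∀ i, AlgGrp.Action (Red.bc (g i) H) (P i))
  (ε : ∀ i, (P i).left ⟶ E.left)
  (hpb : ∀ i, IsPullback (P i).hom (ε i) (g i) E.hom)

/-- Compatibility of the local actions on overlaps. -/
def Compat : Prop :=
  ∀ ⦃T : Scheme.{u}⦄ ⦃i j : I⦄ (x : T ⟶ U i) (x' : T ⟶ U j) {s : T ⟶ V} (hs : x ≫ g i = s)
    (hs' : x' ≫ g j = s) (q : Over.mk s ⟶ H) (v : T ⟶ (P i).left) (hv : v ≫ (P i).hom = x)
    (v' : T ⟶ (P j).left) (hv' : v' ≫ (P j).hom = x'), v ≫ ε i = v' ≫ ε j →
    sm (g i) (a i) q v (by rw [hv]; exact hs) ≫ ε i =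
      sm (g j) (a j) q v' (by rw [hv']; exact hs') ≫ ε j

/-- The local lift of a point of `E` over `U i`. -/
noncomputable def loc (i : I) {T : Scheme.{u}} (x : T ⟶ U i) (e : T ⟶ E.left)
    (he : e ≫ E.hom = x ≫ g i) : T ⟶ (P i).left :=
  (hpb i).lift x e he.symm

theorem loc_hom (i : I) {T : Scheme.{u}} (x : T ⟶ U i) (e : T ⟶ E.left)
    (he : e ≫ E.hom = x ≫ g i) : loc g ε hpb i x e he ≫ (P i).hom = x :=
  (hpb i).lift_fst _ _ _

theorem loc_eps (i : I) {T : Scheme.{u}} (x : T ⟶ U i) (e : T ⟶ E.left)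
    (he : e ≫ E.hom = x ≫ g i) : loc g ε hpb i x e he ≫ ε i = e :=
  (hpb i).lift_snd _ _ _

theorem loc_unique (i : I) {T : Scheme.{u}} (x : T ⟶ U i) (e : T ⟶ E.left)
    (he : e ≫ E.hom = x ≫ g i) (v : T ⟶ (P i).left) (hv : v ≫ (P i).hom = x)
    (hv' : v ≫ ε i = e) : v = loc g ε hpb i x e he :=
  (hpb i).hom_ext (by rw [hv, loc_hom]) (by rw [hv', loc_eps])

theorem loc_comp (i : I) {T T' : Scheme.{u}} (f : T' ⟶ T) (x : T ⟶ U i) (e : T ⟶ E.left)
    (he : e ≫ E.hom = x ≫ g i) :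
    f ≫ loc g ε hpb i x e he = loc g ε hpb i (f ≫ x) (f ≫ e)
      (by rw [Category.assoc, he, Category.assoc]) :=
  loc_unique g ε hpb i _ _ _ _ (by rw [Category.assoc, loc_hom])
    (by rw [Category.assoc, loc_eps])

theorem loc_congr (i : I) {T : Scheme.{u}} {x x' : T ⟶ U i} {e e' : T ⟶ E.left}
    (hx : x = x') (hee : e = e') (he : e ≫ E.hom = x ≫ g i) :
    loc g ε hpb i x e he = loc g ε hpb i x' e' (by rw [← hx, ← hee]; exact he) := by
  subst hx hee
  rfl

/-- The local action on points of `E` over `U i`. -/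
noncomputable def lact (i : I) {T : Scheme.{u}} (x : T ⟶ U i) {s : T ⟶ V} (hs : x ≫ g i = s)
    (q : Over.mk s ⟶ H) (e : T ⟶ E.left) (he : e ≫ E.hom = s) : T ⟶ E.left :=
  sm (g i) (a i) q (loc g ε hpb i x e (he.trans hs.symm))
    (by rw [loc_hom]; exact hs) ≫ ε i

theorem lact_hom (i : I) {T : Scheme.{u}} (x : T ⟶ U i) {s : T ⟶ V} (hs : x ≫ g i = s)
    (q : Over.mk s ⟶ H) (e : T ⟶ E.left) (he : e ≫ E.hom = s) :
    lact g a ε hpb i x hs q e he ≫ E.hom = s := by
  unfold lact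
  rw [Category.assoc, ← (hpb i).w, ← Category.assoc, sm_hom, loc_hom, hs]

theorem loc_lact (i : I) {T : Scheme.{u}} (x : T ⟶ U i) {s : T ⟶ V} (hs : x ≫ g i = s)
    (q : Over.mk s ⟶ H) (e : T ⟶ E.left) (he : e ≫ E.hom = s) :
    loc g ε hpb i x (lact g a ε hpb i x hs q e he)
      ((lact_hom g a ε hpb i x hs q e he).trans hs.symm) =
      sm (g i) (a i) q (loc g ε hpb i x e (he.trans hs.symm)) (by rw [loc_hom]; exact hs) :=
  (loc_unique g ε hpb i _ _ _ _ (by rw [sm_hom, loc_hom]) rfl).symm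

theorem lact_congr (i : I) {T : Scheme.{u}} (x : T ⟶ U i) {s : T ⟶ V} (hs : x ≫ g i = s)
    {q q' : Over.mk s ⟶ H} {e e' : T ⟶ E.left} (hq : q = q') (hee : e = e')
    (he : e ≫ E.hom = s) :
    lact g a ε hpb i x hs q e he = lact g a ε hpb i x hs q' e' (by rw [← hee]; exact he) := by
  subst hq hee
  rfl

theorem lact_one (i : I) {T : Scheme.{u}} (x : T ⟶ U i) {s : T ⟶ V} (hs : x ≫ g i = s)
    (e : T ⟶ E.left) (he : e ≫ E.hom = s) :
    lact g a ε hpb i x hs 1 e he = e := by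
  unfold lact
  rw [one_sm, loc_eps]

theorem lact_mul (i : I) {T : Scheme.{u}} (x : T ⟶ U i) {s : T ⟶ V} (hs : x ≫ g i = s)
    (q q' : Over.mk s ⟶ H) (e : T ⟶ E.left) (he : e ≫ E.hom = s) :
    lact g a ε hpb i x hs (q * q') e he =
      lact g a ε hpb i x hs q (lact g a ε hpb i x hs q' e he)
        (lact_hom g a ε hpb i x hs q' e he) := by
  have h1 := loc_lact g a ε hpb i x hs q' e he
  unfold lact at h1 ⊢
  rw [mul_sm]
  congr 1
  exact sm_congr (g i) (a i) rfl h1.symm _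

theorem lact_comp (i : I) {T T' : Scheme.{u}} (f : T' ⟶ T) (x : T ⟶ U i) {s : T ⟶ V}
    (hs : x ≫ g i = s) {s' : T' ⟶ V} (hfs : f ≫ s = s')
    (q : Over.mk s ⟶ H) (e : T ⟶ E.left) (he : e ≫ E.hom = s) :
    f ≫ lact g a ε hpb i x hs q e he =
      lact g a ε hpb i (f ≫ x) (by rw [Category.assoc, hs, hfs])
        ((Over.homMk f hfs : Over.mk s' ⟶ Over.mk s) ≫ q) (f ≫ e)
        (by rw [Category.assoc, he, hfs]) := by
  unfold lact
  rw [← Category.assoc, comp_sm (g i) (a i) f hfs]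
  congr 1
  exact sm_congr (g i) (a i) rfl (loc_comp g ε hpb i f x e _) _

variable (hcompat : Compat g a ε)

include hcompat in
theorem lact_indep {i j : I} {T : Scheme.{u}} (x : T ⟶ U i) (x' : T ⟶ U j) {s s' : T ⟶ V}
    (hs : x ≫ g i = s) (hs' : x' ≫ g j = s') (hss : s = s') (q : Over.mk s ⟶ H)
    (q' : Over.mk s' ⟶ H) (hq : q.left = q'.left) (e e' : T ⟶ E.left) (hee : e = e')
    (he : e ≫ E.hom = s) (he' : e' ≫ E.hom = s') :
    lact g a ε hpb i x hs q e he = lact g a ε hpb j x' hs' q' e' he' := by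
  subst hss hee
  obtain rfl : q = q' := Over.OverMorphism.ext hq
  unfold lact
  exact hcompat x x' hs hs' q _ (loc_hom g ε hpb i x e _) _ (loc_hom g ε hpb j x' e _)
    (by rw [loc_eps, loc_eps])

theorem lact_exists_unique (hps : ∀ i, NonAbH1.IsPseudoTorsorSch (a i)) (i : I) {T : Scheme.{u}}
    (x : T ⟶ U i) {s : T ⟶ V} (hs : x ≫ g i = s) (e e' : T ⟶ E.left) (he : e ≫ E.hom = s)
    (he' : e' ≫ E.hom = s) : ∃! q : Over.mk s ⟶ H, lact g a ε hpb i x hs q e he = e' := by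
  have hx1 : (loc g ε hpb i x e (he.trans hs.symm) ≫ (P i).hom) ≫ g i = s := by
    rw [loc_hom]; exact hs
  obtain ⟨q, hq, huniq⟩ := exists_unique_sm (g i) (a i) (hps i)
    (loc g ε hpb i x e (he.trans hs.symm)) (loc g ε hpb i x e' (he'.trans hs.symm))
    (by rw [loc_hom, loc_hom]) hx1
  refine ⟨q, ?_, ?_⟩
  · show sm (g i) (a i) q _ _ ≫ ε i = e'
    rw [hq, loc_eps]
  · intro q' hq'
    apply huniq
    have h1 : sm (g i) (a i) q' (loc g ε hpb i x e (he.trans hs.symm)) hx1 ≫ ε i = e' := hq'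
    exact loc_unique g ε hpb i x e' _ _ (by rw [sm_hom, loc_hom]) h1

end Core

section Act

open Groth.Agent.Lib

variable {V : Scheme.{u}} {I : Type u} {U : I → Scheme.{u}} (g : ∀ i, U i ⟶ V)
  {H : Over V} [GrpObj H] {E : Over V} {P : ∀ i, Over (U i)}
  (a : ∀ i, AlgGrp.Action (Red.bc (g i) H) (P i))
  (ε : ∀ i, (P i).left ⟶ E.left)
  (hpb : ∀ i, IsPullback (P i).hom (ε i) (g i) E.hom)
  (hcompat : Compat g a ε)
  (hf : Presieve.ofArrows U g ∈ Scheme.fpqcPrecoverage V)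

/-- The local piece of the action morphism. -/
noncomputable def bloc (i : I) : pullback (g i) (H ⊗ E).hom ⟶ E.left :=
  lact g a ε hpb i (pullback.fst (g i) (H ⊗ E).hom)
    (s := pullback.snd (g i) (H ⊗ E).hom ≫ (H ⊗ E).hom) pullback.condition
    (Over.homMk (pullback.snd (g i) (H ⊗ E).hom ≫ (fst H E).left)
      (by rw [Category.assoc, Over.w]; rfl))
    (pullback.snd (g i) (H ⊗ E).hom ≫ (snd H E).left) (by rw [Category.assoc, Over.w])

include hcompat in
theorem bloc_compat (i j : I) {T : Scheme.{u}} (gi : T ⟶ pullback (g i) (H ⊗ E).hom)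
    (gj : T ⟶ pullback (g j) (H ⊗ E).hom)
    (hg : gi ≫ pullback.snd (g i) (H ⊗ E).hom = gj ≫ pullback.snd (g j) (H ⊗ E).hom) :
    gi ≫ bloc g a ε hpb i = gj ≫ bloc g a ε hpb j := by
  unfold bloc
  rw [lact_comp g a ε hpb i gi _ _ rfl, lact_comp g a ε hpb j gj _ _ rfl]
  refine lact_indep g a ε hpb hcompat _ _ _ _ ?_ _ _ ?_ _ _ ?_ _ _
  · rw [← Category.assoc, hg, Category.assoc]
  · show gi ≫ pullback.snd _ _ ≫ (fst H E).left = gj ≫ pullback.snd _ _ ≫ (fst H E).left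
    rw [← Category.assoc, hg, Category.assoc]
  · rw [← Category.assoc, hg, Category.assoc]

include hcompat hf in
theorem exists_act : ∃ α : (H ⊗ E).left ⟶ E.left,
    ∀ i, pullback.snd (g i) (H ⊗ E).hom ≫ α = bloc g a ε hpb i := by
  have hsh := DescFF_helper7.sheafFor g hf (H ⊗ E) E.left
  have hc : Presieve.Arrows.Compatible (yoneda.obj E.left)
      (fun i => pullback.snd (g i) (H ⊗ E).hom) (fun i => bloc g a ε hpb i) := by
    intro i j T gi gj hg
    exact bloc_compat g a ε hpb hcompat i j gi gj hg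
  obtain ⟨α, hα, -⟩ := ((Presieve.isSheafFor_arrows_iff _ _).1 hsh) _ hc
  exact ⟨α, hα⟩

include hcompat in
theorem act_spec (α : (H ⊗ E).left ⟶ E.left)
    (hα : ∀ i, pullback.snd (g i) (H ⊗ E).hom ≫ α = bloc g a ε hpb i)
    (i : I) {T : Scheme.{u}} (x : T ⟶ U i) {s : T ⟶ V} (hs : x ≫ g i = s) (q : Over.mk s ⟶ H)
    (e : Over.mk s ⟶ E) :
    (lift q e).left ≫ α = lact g a ε hpb i x hs q e.left (Over.w e) := by
  have hw : x ≫ g i = (lift q e).left ≫ (H ⊗ E).hom := by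
    rw [Over.w (lift q e)]
    exact hs
  obtain ⟨τ, hτ1, hτ2⟩ : ∃ τ : T ⟶ pullback (g i) (H ⊗ E).hom,
      τ ≫ pullback.fst _ _ = x ∧ τ ≫ pullback.snd _ _ = (lift q e).left :=
    ⟨pullback.lift x (lift q e).left hw, pullback.lift_fst _ _ _, pullback.lift_snd _ _ _⟩
  rw [← hτ2, Category.assoc, hα i]
  unfold bloc
  rw [lact_comp g a ε hpb i τ _ _ rfl]
  refine lact_indep g a ε hpb hcompat _ _ _ _ ?_ _ _ ?_ _ _ ?_ _ _
  · rw [← Category.assoc, hτ2, Over.w (lift q e)]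
    rfl
  · show τ ≫ pullback.snd _ _ ≫ (fst H E).left = q.left
    rw [← Category.assoc, hτ2, ← Over.comp_left, lift_fst]
  · rw [← Category.assoc, hτ2, ← Over.comp_left, lift_snd]

include hf in
theorem act_hom (α : (H ⊗ E).left ⟶ E.left)
    (hα : ∀ i, pullback.snd (g i) (H ⊗ E).hom ≫ α = bloc g a ε hpb i) :
    α ≫ E.hom = (H ⊗ E).hom := by
  apply DescFF_helper7.jointly_epi g hf (H ⊗ E)
  intro i
  rw [← Category.assoc, hα i]
  unfold bloc
  rw [lact_hom]

include hf in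
theorem ext_local {N : Over V} (f f' : N ⟶ E)
    (h : ∀ (i : I) {T : Scheme.{u}} (x : T ⟶ U i) (ν : Over.mk (x ≫ g i) ⟶ N),
      ν ≫ f = ν ≫ f') : f = f' := by
  apply Over.OverMorphism.ext
  apply DescFF_helper7.jointly_epi g hf N
  intro i
  have h1 := h i (pullback.fst (g i) N.hom)
    (Over.homMk (pullback.snd (g i) N.hom) pullback.condition.symm)
  exact congrArg CommaMorphism.left h1

include hcompat hf in
/-- The glued action. -/
theorem exists_action : ∃ act : AlgGrp.Action H E,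
    ∀ (i : I) {T : Scheme.{u}} (x : T ⟶ U i) {s : T ⟶ V} (hs : x ≫ g i = s) (q : Over.mk s ⟶ H)
      (e : Over.mk s ⟶ E),
      (lift q e ≫ act.act).left = lact g a ε hpb i x hs q e.left (Over.w e) := by
  obtain ⟨α, hα⟩ := exists_act g a ε hpb hcompat hf
  obtain ⟨actE, hactE⟩ : ∃ actE : H ⊗ E ⟶ E, actE.left = α :=
    ⟨Over.homMk α (act_hom g a ε hpb hf α hα), rfl⟩
  have hspec : ∀ (i : I) {T : Scheme.{u}} (x : T ⟶ U i) {s : T ⟶ V} (hs : x ≫ g i = s)
      (q : Over.mk s ⟶ H) (e : Over.mk s ⟶ E),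
      (lift q e ≫ actE).left = lact g a ε hpb i x hs q e.left (Over.w e) := by
    intro i T x s hs q e
    rw [Over.comp_left, hactE]
    exact act_spec g a ε hpb hcompat α hα i x hs q e
  refine ⟨⟨actE, ?_, ?_⟩, hspec⟩
  · apply ext_local g hf
    intro i T x ν
    obtain ⟨w, e, rfl⟩ : ∃ (w : Over.mk (x ≫ g i) ⟶ 𝟙_ (Over V)) (e : Over.mk (x ≫ g i) ⟶ E),
        ν = lift w e :=
      ⟨ν ≫ fst _ _, ν ≫ snd _ _, by rw [← comp_lift, lift_fst_snd, Category.comp_id]⟩
    have h1 : w ≫ η[H] = 1 := by rw [Hom.one_def, toUnit_unique (toUnit _) w]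
    rw [lift_whiskerRight_assoc, leftUnitor_hom, lift_snd, h1]
    apply Over.OverMorphism.ext
    rw [hspec i x rfl, lact_one]
  · apply ext_local g hf
    intro i T x ν
    obtain ⟨q, q', e, rfl⟩ : ∃ (q q' : Over.mk (x ≫ g i) ⟶ H) (e : Over.mk (x ≫ g i) ⟶ E),
        ν = lift (lift q q') e :=
      ⟨ν ≫ fst _ _ ≫ fst _ _, ν ≫ fst _ _ ≫ snd _ _, ν ≫ snd _ _, by
        apply CartesianMonoidalCategory.hom_ext
        · rw [lift_fst]
          apply CartesianMonoidalCategory.hom_ext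
          · rw [lift_fst, Category.assoc]
          · rw [lift_snd, Category.assoc]
        · rw [lift_snd]⟩
    rw [lift_whiskerRight_assoc, ← Hom.mul_def, lift_lift_associator_hom_assoc,
      lift_whiskerLeft_assoc]
    apply Over.OverMorphism.ext
    rw [hspec i x rfl, hspec i x rfl, lact_mul]
    exact lact_congr g a ε hpb i x rfl rfl (hspec i x rfl q' e).symm _

end Act

end Groth.Agent.Lib.TLineH4
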