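import Mathlib
import Groth.Agent.Lib.TLineE_helper4

/-!
# Zariski glueing of torsors, continued (helper4)

`glue_core`: the glued scheme with its glued action is an fppf torsor;
`glue_torsor`: the same starting from a descent datum relative to an open cover.
-/

set_option autoImplicit false
set_option linter.style.haveILetI false
set_option linter.unusedSectionVars false
universe u
open CategoryTheory CategoryTheory.Limits MonoidalCategory CartesianMonoidalCategory MonObj GrpObj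
  AlgebraicGeometry

namespace Groth.Agent.Lib.TLineH4

open Groth.Agent.Lib

section Torsor

variable {V : Scheme.{u}} {I : Type u} {U : I → Scheme.{u}} (g : ∀ i, U i ⟶ V)
  {H : Over V} [GrpObj H] {E : Over V} {P : ∀ i, Over (U i)}
  (a : ∀ i, AlgGrp.Action (Red.bc (g i) H) (P i))
  (ε : ∀ i, (P i).left ⟶ E.left)
  (hpb : ∀ i, IsPullback (P i).hom (ε i) (g i) E.hom)

theorem isIso_theta_local (hps : ∀ i, NonAbH1.IsPseudoTorsorSch (a i)) (act : AlgGrp.Action H E)
    (hspec : ∀ (i : I) {T : Scheme.{u}} (x : T ⟶ U i) {s : T ⟶ V} (hs : x ≫ g i = s)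
      (q : Over.mk s ⟶ H) (e : Over.mk s ⟶ E),
      (lift q e ≫ act.act).left = lact g a ε hpb i x hs q e.left (Over.w e))
    (i : I) {Yk : Scheme.{u}} (kk : Yk ⟶ U i) (s : Over.mk (kk ≫ g i) ⟶ E) :
    IsIso (lift ((H ◁ s) ≫ act.act) (snd H (Over.mk (kk ≫ g i)))) := by
  apply TorsorLocTriv_helper7.isIso_of_points
  intro T' b
  obtain ⟨Tl, th, rfl⟩ : ∃ (Tl : Scheme.{u}) (th : Tl ⟶ V), T' = Over.mk th :=
    ⟨T'.left, T'.hom, rfl⟩
  obtain ⟨e, he⟩ : ∃ e : Over.mk th ⟶ E, e = b ≫ fst _ _ := ⟨_, rfl⟩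
  obtain ⟨t, ht⟩ : ∃ t : Over.mk th ⟶ Over.mk (kk ≫ g i), t = b ≫ snd _ _ := ⟨_, rfl⟩
  have hb : b = lift e t := by rw [he, ht, ← comp_lift, lift_fst_snd, Category.comp_id]
  have hx : (t.left ≫ kk) ≫ g i = th := by
    rw [Category.assoc]
    exact Over.w t
  obtain ⟨q, hq, hquniq⟩ := lact_exists_unique g a ε hpb hps i (t.left ≫ kk) hx (t ≫ s).left
    e.left (Over.w (t ≫ s)) (Over.w e)
  have key : ∀ (q' : Over.mk th ⟶ H) (t' : Over.mk th ⟶ Over.mk (kk ≫ g i)),
      lift q' t' ≫ lift ((H ◁ s) ≫ act.act) (snd H _) =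
        lift (lift q' (t' ≫ s) ≫ act.act) t' := by
    intro q' t'
    rw [comp_lift, lift_snd, lift_whiskerLeft_assoc]
  refine ⟨lift q t, ?_, ?_⟩
  · rw [key, hb]
    congr 1
    apply Over.OverMorphism.ext
    rw [hspec i (t.left ≫ kk) hx]
    exact hq
  · intro a' ha'
    obtain ⟨q', t', rfl⟩ : ∃ (q' : Over.mk th ⟶ H) (t' : Over.mk th ⟶ Over.mk (kk ≫ g i)),
        a' = lift q' t' :=
      ⟨a' ≫ fst _ _, a' ≫ snd _ _, by rw [← comp_lift, lift_fst_snd, Category.comp_id]⟩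
    rw [key, hb] at ha'
    have h2 : t' = t := by
      have h := congrArg (· ≫ snd _ _) ha'
      simp only [lift_snd] at h
      exact h
    subst h2
    have h3 : lift q' (t' ≫ s) ≫ act.act = e := by
      have h := congrArg (· ≫ fst _ _) ha'
      simp only [lift_fst] at h
      exact h
    have h4 : q' = q := hquniq q' (by
      show lact g a ε hpb i (t'.left ≫ kk) hx q' (t' ≫ s).left _ = e.left
      rw [← hspec i (t'.left ≫ kk) hx, h3])
    rw [h4]

include hpb in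
theorem glue_core (hfz : Presieve.ofArrows U g ∈ Scheme.fppfPrecoverage V)
    (hcompat : Compat g a ε)
    (ha : ∀ i, NonAbH1.IsTorsorFor Scheme.fppfPrecoverage (a i)) :
    ∃ act : AlgGrp.Action H E, NonAbH1.IsTorsorFor Scheme.fppfPrecoverage act := by
  have hf : Presieve.ofArrows U g ∈ Scheme.fpqcPrecoverage V :=
    Scheme.fppfPrecoverage_le_fpqcPrecoverage V hfz
  obtain ⟨act, hspec⟩ := exists_action g a ε hpb hcompat hf
  choose Ri hRi hsec using fun i => (ha i).2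
  choose idx Y k hk using fun i => (Ri i).exists_eq_ofArrows
  have hcomp := Precoverage.comp_mem_coverings (J := Scheme.fppfPrecoverage) g hfz (σ := idx)
    (Y := Y) k (fun i => by rw [← hk i]; exact hRi i)
  have hsec' : ∀ (i : I) (j : idx i), ∃ sD : Y i j ⟶ (P i).left, sD ≫ (P i).hom = k i j :=
    fun i j => hsec i (k i j) (by rw [hk i]; exact ⟨j⟩)
  refine ⟨act, ?_, _, hcomp, ?_⟩
  · have hfpqc := (TorsorLocTriv_helper7.main act).2
      ⟨_, Scheme.fppfPrecoverage_le_fpqcPrecoverage V hcomp, by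
        rintro S' f ⟨p⟩
        obtain ⟨sD, hsD⟩ := hsec' p.1 p.2
        exact ⟨Over.homMk (sD ≫ ε p.1)
          (by
            show (sD ≫ ε p.1) ≫ E.hom = k p.1 p.2 ≫ g p.1
            rw [Category.assoc, ← (hpb p.1).w, ← Category.assoc, hsD]),
          isIso_theta_local g a ε hpb (fun i => (ha i).1) act hspec p.1 (k p.1 p.2) _⟩⟩
    exact hfpqc.1
  · rintro S' f ⟨p⟩
    obtain ⟨sD, hsD⟩ := hsec' p.1 p.2
    exact ⟨sD ≫ ε p.1, by rw [Category.assoc, ← (hpb p.1).w, ← Category.assoc, hsD]⟩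

end Torsor

section Desc

variable {V : Scheme.{u}} {I : Type u} {U : I → Scheme.{u}} (g : ∀ i, U i ⟶ V)
  [∀ i, IsOpenImmersion (g i)] (hsurj : ∀ x : V, ∃ i, x ∈ Set.range (g i))
  (H : Over V) [GrpObj H] (D : Desc.SchDDFam g)
  (a : ∀ i, AlgGrp.Action (Red.bc (g i) H) (D.obj i))

include hsurj in
/-- Glueing torsors along a descent datum relative to an open cover. -/
theorem glue_torsor (ha : ∀ i, NonAbH1.IsTorsorFor Scheme.fppfPrecoverage (a i))
    (hφ : ∀ ⦃T : Scheme.{u}⦄ ⦃i j : I⦄ (x₀ : T ⟶ U i) (x₁ : T ⟶ U j) (h : x₀ ≫ g i = x₁ ≫ g j)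
      {s : T ⟶ V} (hs : x₀ ≫ g i = s) (q : Over.mk s ⟶ H) (v w : Desc.Lifts (D.obj i) x₀),
      w.1 = sm (g i) (a i) q v.1 (by rw [v.2]; exact hs) →
      (D.φ x₀ x₁ h w).1 = sm (g j) (a j) q (D.φ x₀ x₁ h v).1
        (by rw [(D.φ x₀ x₁ h v).2, ← h]; exact hs)) :
    ∃ (E : Over V) (act : AlgGrp.Action H E) (ε : ∀ i, (D.obj i).left ⟶ E.left),
      NonAbH1.IsTorsorFor Scheme.fppfPrecoverage act ∧
      ∀ i, IsPullback (D.obj i).hom (ε i) (g i) E.hom := by
  obtain ⟨E, ε, hpb, hε⟩ := ZarDescH6.exists_glue g hsurj D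
  have hfz : Presieve.ofArrows U g ∈ Scheme.fppfPrecoverage V :=
    Scheme.zariskiPrecoverage_le_fppfPrecoverage V
      ((Scheme.ofArrows_mem_precoverage_iff _).2 ⟨hsurj, fun i => inferInstance⟩)
  have hcompat : Compat g a ε := by
    intro T i j x x' s hs hs' q v hv v' hv' hvv
    have h : x ≫ g i = x' ≫ g j := hs.trans hs'.symm
    have e1 : (D.φ x x' h ⟨v, hv⟩).1 = v' :=
      (hpb j).hom_ext (by rw [(D.φ x x' h ⟨v, hv⟩).2, hv'])
        (by rw [hε x x' h ⟨v, hv⟩, hvv])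
    have hw : sm (g i) (a i) q v (by rw [hv]; exact hs) ≫ (D.obj i).hom = x := by
      rw [sm_hom, hv]
    have e2 := hφ x x' h hs q ⟨v, hv⟩ ⟨sm (g i) (a i) q v (by rw [hv]; exact hs), hw⟩ rfl
    have e3 := hε x x' h ⟨sm (g i) (a i) q v (by rw [hv]; exact hs), hw⟩
    rw [← e3, e2]
    congr 1
    exact sm_congr (g j) (a j) rfl e1 _
  obtain ⟨act, hact⟩ := glue_core g a ε hpb hfz hcompat ha
  exact ⟨E, act, ε, hact, hpb⟩

end Desc

end Groth.Agent.Lib.TLineH4
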