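import Mathlib
import Groth.Agent.Lib.TLineF_helper4

/-!
# Glueing a torsor with a trivial torsor along a section (helper4)

`glue_two_torsor`: `V = U₀ ∪ U₁`, `X₀` an fppf torsor over `U₀` under `H|_{U₀}` with a section over
`U₀ ∩ U₁`; then there is an fppf `H`-torsor `E` over `V` restricting to `X₀` over `U₀` and having a
section over `U₁`.
-/

set_option autoImplicit false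
set_option linter.style.haveILetI false
set_option linter.unusedSectionVars false
universe u
open CategoryTheory CategoryTheory.Limits MonoidalCategory CartesianMonoidalCategory MonObj GrpObj
  AlgebraicGeometry

namespace Groth.Agent.Lib.TLineH4

open Groth.Agent.Lib

/-- A two element index type in any universe. -/
inductive I2 : Type u
  | zero : I2
  | one : I2

/-- transport of lifts along an equality of base points -/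
def castL {B : Scheme.{u}} (Xo : Over B) {T : Scheme.{u}} {x x' : T ⟶ B} (h : x = x') :
    Desc.Lifts Xo x ≃ Desc.Lifts Xo x' where
  toFun v := ⟨v.1, v.2.trans h⟩
  invFun v := ⟨v.1, v.2.trans h.symm⟩
  left_inv _ := rfl
  right_inv _ := rfl

section Theta

variable {V U₀ U₁ W : Scheme.{u}} (g₀ : U₀ ⟶ V) (g₁ : U₁ ⟶ V)
  (w₀ : W ⟶ U₀) (w₁ : W ⟶ U₁) (hW : IsPullback w₀ w₁ g₀ g₁)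
  (H : Over V) [GrpObj H] (X₀ : Over U₀) (a₀ : AlgGrp.Action (Red.bc g₀ H) X₀)
  (hps : NonAbH1.IsPseudoTorsorSch a₀) (τ : W ⟶ X₀.left) (hτ : τ ≫ X₀.hom = w₀)

/-- The reference point over a point of the overlap. -/
noncomputable def tauT {T : Scheme.{u}} (x₀ : T ⟶ U₀) (x₁ : T ⟶ U₁) (h : x₀ ≫ g₀ = x₁ ≫ g₁) :
    T ⟶ X₀.left :=
  hW.lift x₀ x₁ h ≫ τ

include hτ in
theorem tauT_hom {T : Scheme.{u}} (x₀ : T ⟶ U₀) (x₁ : T ⟶ U₁) (h : x₀ ≫ g₀ = x₁ ≫ g₁) :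
    tauT g₀ g₁ w₀ w₁ hW X₀ τ x₀ x₁ h ≫ X₀.hom = x₀ := by
  rw [tauT, Category.assoc, hτ, hW.lift_fst]

theorem tauT_comp {T T' : Scheme.{u}} (σ : T' ⟶ T) (x₀ : T ⟶ U₀) (x₁ : T ⟶ U₁)
    (h : x₀ ≫ g₀ = x₁ ≫ g₁) :
    σ ≫ tauT g₀ g₁ w₀ w₁ hW X₀ τ x₀ x₁ h =
      tauT g₀ g₁ w₀ w₁ hW X₀ τ (σ ≫ x₀) (σ ≫ x₁)
        (by rw [Category.assoc, h, Category.assoc]) := by
  unfold tauT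
  rw [← Category.assoc]
  congr 1
  apply hW.hom_ext
  · rw [Category.assoc, hW.lift_fst, hW.lift_fst]
  · rw [Category.assoc, hW.lift_snd, hW.lift_snd]

include hτ in
theorem tauT_hx {T : Scheme.{u}} (x₀ : T ⟶ U₀) (x₁ : T ⟶ U₁) (h : x₀ ≫ g₀ = x₁ ≫ g₁)
    {s : T ⟶ V} (hs₁ : x₁ ≫ g₁ = s) :
    (tauT g₀ g₁ w₀ w₁ hW X₀ τ x₀ x₁ h ≫ X₀.hom) ≫ g₀ = s := by
  rw [tauT_hom g₀ g₁ w₀ w₁ hW X₀ τ hτ]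
  exact h.trans hs₁

/-- The comparison bijection on the overlap. -/
noncomputable def Theta {T : Scheme.{u}} (x₀ : T ⟶ U₀) (x₁ : T ⟶ U₁) (h : x₀ ≫ g₀ = x₁ ≫ g₁) :
    Desc.Lifts X₀ x₀ ≃ Desc.Lifts (Red.bc g₁ H) x₁ where
  toFun v := ⟨(toBC g₁ x₁ rfl (df g₀ a₀ hps (tauT g₀ g₁ w₀ w₁ hW X₀ τ x₀ x₁ h) v.1
      (v.2.trans (tauT_hom g₀ g₁ w₀ w₁ hW X₀ τ hτ x₀ x₁ h).symm)
      (tauT_hx g₀ g₁ w₀ w₁ hW X₀ τ hτ x₀ x₁ h rfl))).left, toBC_left_snd _ _ _ _⟩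
  invFun w := ⟨sm g₀ a₀ (fromBC g₁ x₁ rfl (Over.homMk w.1 w.2 : Over.mk x₁ ⟶ Red.bc g₁ H))
      (tauT g₀ g₁ w₀ w₁ hW X₀ τ x₀ x₁ h) (tauT_hx g₀ g₁ w₀ w₁ hW X₀ τ hτ x₀ x₁ h rfl),
    (sm_hom _ _ _ _ _).trans (tauT_hom g₀ g₁ w₀ w₁ hW X₀ τ hτ x₀ x₁ h)⟩
  left_inv v := by
    apply Subtype.ext
    have e : (Over.homMk (toBC g₁ x₁ rfl (df g₀ a₀ hps (tauT g₀ g₁ w₀ w₁ hW X₀ τ x₀ x₁ h) v.1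
        (v.2.trans (tauT_hom g₀ g₁ w₀ w₁ hW X₀ τ hτ x₀ x₁ h).symm)
        (tauT_hx g₀ g₁ w₀ w₁ hW X₀ τ hτ x₀ x₁ h rfl))).left (toBC_left_snd _ _ _ _) :
        Over.mk x₁ ⟶ Red.bc g₁ H) = toBC g₁ x₁ rfl _ := Over.OverMorphism.ext rfl
    exact (sm_congr g₀ a₀ (by rw [e, fromBC_toBC]) rfl _).trans (sm_df _ _ _ _ _ _ _)
  right_inv w := by
    apply Subtype.ext
    show (toBC g₁ x₁ rfl (df g₀ a₀ hps _ _ _ _)).left = w.1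
    rw [← eq_df g₀ a₀ hps _ _ _ _ (fromBC g₁ x₁ rfl (Over.homMk w.1 w.2 :
      Over.mk x₁ ⟶ Red.bc g₁ H)) rfl, toBC_fromBC]
    rfl

include hτ hps in
theorem exists_c {T : Scheme.{u}} (x₀ : T ⟶ U₀) (x₁ : T ⟶ U₁) (h : x₀ ≫ g₀ = x₁ ≫ g₁)
    {s : T ⟶ V} (hs₁ : x₁ ≫ g₁ = s) (v : Desc.Lifts X₀ x₀) :
    ∃ c : Over.mk s ⟶ H, sm g₀ a₀ c (tauT g₀ g₁ w₀ w₁ hW X₀ τ x₀ x₁ h)
      (tauT_hx g₀ g₁ w₀ w₁ hW X₀ τ hτ x₀ x₁ h hs₁) = v.1 :=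
  ⟨df g₀ a₀ hps _ v.1 (v.2.trans (tauT_hom g₀ g₁ w₀ w₁ hW X₀ τ hτ x₀ x₁ h).symm) _,
    sm_df _ _ _ _ _ _ _⟩

theorem Theta_spec {T : Scheme.{u}} (x₀ : T ⟶ U₀) (x₁ : T ⟶ U₁) (h : x₀ ≫ g₀ = x₁ ≫ g₁)
    {s : T ⟶ V} (hs₁ : x₁ ≫ g₁ = s) (c : Over.mk s ⟶ H) (v : Desc.Lifts X₀ x₀)
    (hv : sm g₀ a₀ c (tauT g₀ g₁ w₀ w₁ hW X₀ τ x₀ x₁ h)
      (tauT_hx g₀ g₁ w₀ w₁ hW X₀ τ hτ x₀ x₁ h hs₁) = v.1) :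
    (Theta g₀ g₁ w₀ w₁ hW H X₀ a₀ hps τ hτ x₀ x₁ h v).1 = (toBC g₁ x₁ hs₁ c).left := by
  subst hs₁
  show (toBC g₁ x₁ rfl (df g₀ a₀ hps _ _ _ _)).left = _
  rw [← eq_df g₀ a₀ hps _ _ _ _ c hv]

theorem Theta_natural {T T' : Scheme.{u}} (σ : T' ⟶ T) (x₀ : T ⟶ U₀) (x₁ : T ⟶ U₁)
    (h : x₀ ≫ g₀ = x₁ ≫ g₁) (y₀ : T' ⟶ U₀) (y₁ : T' ⟶ U₁) (hy₀ : σ ≫ x₀ = y₀)
    (hy₁ : σ ≫ x₁ = y₁) (h' : y₀ ≫ g₀ = y₁ ≫ g₁) (v : Desc.Lifts X₀ x₀)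
    (v' : Desc.Lifts X₀ y₀) (hv : v'.1 = σ ≫ v.1) :
    (Theta g₀ g₁ w₀ w₁ hW H X₀ a₀ hps τ hτ y₀ y₁ h' v').1 =
      σ ≫ (Theta g₀ g₁ w₀ w₁ hW H X₀ a₀ hps τ hτ x₀ x₁ h v).1 := by
  subst hy₀ hy₁
  obtain ⟨c, hc⟩ := exists_c g₀ g₁ w₀ w₁ hW H X₀ a₀ hps τ hτ x₀ x₁ h rfl v
  rw [Theta_spec g₀ g₁ w₀ w₁ hW H X₀ a₀ hps τ hτ x₀ x₁ h rfl c v hc]
  have hs' : (σ ≫ x₁) ≫ g₁ = σ ≫ x₁ ≫ g₁ := Category.assoc _ _ _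
  rw [Theta_spec g₀ g₁ w₀ w₁ hW H X₀ a₀ hps τ hτ (σ ≫ x₀) (σ ≫ x₁) h' hs'
    ((Over.homMk σ rfl : Over.mk (σ ≫ x₁ ≫ g₁) ⟶ Over.mk (x₁ ≫ g₁)) ≫ c) v' ?_]
  · have h1 := toBC_comp g₁ σ x₁ rfl (σ ≫ x₁) hs' rfl rfl c
    exact (congrArg CommaMorphism.left h1).symm
  · rw [hv, ← hc, comp_sm g₀ a₀ σ rfl]
    exact sm_congr g₀ a₀ rfl (tauT_comp g₀ g₁ w₀ w₁ hW X₀ τ σ x₀ x₁ h).symm _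

theorem Theta_equivariant {T : Scheme.{u}} (x₀ : T ⟶ U₀) (x₁ : T ⟶ U₁) (h : x₀ ≫ g₀ = x₁ ≫ g₁)
    {s : T ⟶ V} (hs : x₀ ≫ g₀ = s) (q : Over.mk s ⟶ H) (v w : Desc.Lifts X₀ x₀)
    (hw : w.1 = sm g₀ a₀ q v.1 (by rw [v.2]; exact hs)) :
    (Theta g₀ g₁ w₀ w₁ hW H X₀ a₀ hps τ hτ x₀ x₁ h w).1 =
      sm g₁ (NonAbH1.trivialAction (Red.bc g₁ H)) q
        (Theta g₀ g₁ w₀ w₁ hW H X₀ a₀ hps τ hτ x₀ x₁ h v).1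
        (by rw [(Theta g₀ g₁ w₀ w₁ hW H X₀ a₀ hps τ hτ x₀ x₁ h v).2, ← h]; exact hs) := by
  have hs₁ : x₁ ≫ g₁ = s := h.symm.trans hs
  obtain ⟨c, hc⟩ := exists_c g₀ g₁ w₀ w₁ hW H X₀ a₀ hps τ hτ x₀ x₁ h hs₁ v
  have hv1 := Theta_spec g₀ g₁ w₀ w₁ hW H X₀ a₀ hps τ hτ x₀ x₁ h hs₁ c v hc
  have hw1 : sm g₀ a₀ (q * c) (tauT g₀ g₁ w₀ w₁ hW X₀ τ x₀ x₁ h)
      (tauT_hx g₀ g₁ w₀ w₁ hW X₀ τ hτ x₀ x₁ h hs₁) = w.1 := by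
    rw [hw, mul_sm]
    exact sm_congr g₀ a₀ rfl hc _
  rw [Theta_spec g₀ g₁ w₀ w₁ hW H X₀ a₀ hps τ hτ x₀ x₁ h hs₁ (q * c) w hw1, toBC_mul]
  rw [sm_eq g₁ (NonAbH1.trivialAction (Red.bc g₁ H)) q _ _ x₁
    (Theta g₀ g₁ w₀ w₁ hW H X₀ a₀ hps τ hτ x₀ x₁ h v).2]
  have e : (Over.homMk (Theta g₀ g₁ w₀ w₁ hW H X₀ a₀ hps τ hτ x₀ x₁ h v).1
      (Theta g₀ g₁ w₀ w₁ hW H X₀ a₀ hps τ hτ x₀ x₁ h v).2 : Over.mk x₁ ⟶ Red.bc g₁ H) =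
      toBC g₁ x₁ hs₁ c := Over.OverMorphism.ext hv1
  rw [e]
  show _ = (lift (toBC g₁ x₁ _ q) (toBC g₁ x₁ hs₁ c) ≫ μ[Red.bc g₁ H]).left
  rw [← Hom.mul_def]

theorem Theta_symm_equivariant {T : Scheme.{u}} (x₀ : T ⟶ U₀) (x₁ : T ⟶ U₁)
    (h : x₀ ≫ g₀ = x₁ ≫ g₁) {s : T ⟶ V} (hs : x₁ ≫ g₁ = s) (q : Over.mk s ⟶ H)
    (v w : Desc.Lifts (Red.bc g₁ H) x₁)
    (hw : w.1 = sm g₁ (NonAbH1.trivialAction (Red.bc g₁ H)) q v.1 (by rw [v.2]; exact hs)) :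
    ((Theta g₀ g₁ w₀ w₁ hW H X₀ a₀ hps τ hτ x₀ x₁ h).symm w).1 =
      sm g₀ a₀ q ((Theta g₀ g₁ w₀ w₁ hW H X₀ a₀ hps τ hτ x₀ x₁ h).symm v).1
        (by rw [((Theta g₀ g₁ w₀ w₁ hW H X₀ a₀ hps τ hτ x₀ x₁ h).symm v).2, h]; exact hs) := by
  obtain ⟨v₀, rfl⟩ := (Theta g₀ g₁ w₀ w₁ hW H X₀ a₀ hps τ hτ x₀ x₁ h).surjective v
  rw [Equiv.symm_apply_apply]
  have hs₀ : x₀ ≫ g₀ = s := h.trans hs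
  have hw₀ : sm g₀ a₀ q v₀.1 (by rw [v₀.2]; exact hs₀) ≫ X₀.hom = x₀ := by
    rw [sm_hom, v₀.2]
  have h1 := Theta_equivariant g₀ g₁ w₀ w₁ hW H X₀ a₀ hps τ hτ x₀ x₁ h hs₀ q v₀
    ⟨sm g₀ a₀ q v₀.1 (by rw [v₀.2]; exact hs₀), hw₀⟩ rfl
  have h2 : (Theta g₀ g₁ w₀ w₁ hW H X₀ a₀ hps τ hτ x₀ x₁ h)
      ⟨sm g₀ a₀ q v₀.1 (by rw [v₀.2]; exact hs₀), hw₀⟩ = w := Subtype.ext (h1.trans hw.symm)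
  rw [← h2, Equiv.symm_apply_apply]

theorem Theta_symm_natural {T T' : Scheme.{u}} (σ : T' ⟶ T) (x₀ : T ⟶ U₀) (x₁ : T ⟶ U₁)
    (h : x₀ ≫ g₀ = x₁ ≫ g₁) (y₀ : T' ⟶ U₀) (y₁ : T' ⟶ U₁) (hy₀ : σ ≫ x₀ = y₀)
    (hy₁ : σ ≫ x₁ = y₁) (h' : y₀ ≫ g₀ = y₁ ≫ g₁) (v : Desc.Lifts (Red.bc g₁ H) x₁)
    (v' : Desc.Lifts (Red.bc g₁ H) y₁) (hv : v'.1 = σ ≫ v.1) :
    ((Theta g₀ g₁ w₀ w₁ hW H X₀ a₀ hps τ hτ y₀ y₁ h').symm v').1 =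
      σ ≫ ((Theta g₀ g₁ w₀ w₁ hW H X₀ a₀ hps τ hτ x₀ x₁ h).symm v).1 := by
  obtain ⟨v₀, rfl⟩ := (Theta g₀ g₁ w₀ w₁ hW H X₀ a₀ hps τ hτ x₀ x₁ h).surjective v
  rw [Equiv.symm_apply_apply]
  have hw₀ : (σ ≫ v₀.1) ≫ X₀.hom = y₀ := by rw [Category.assoc, v₀.2, hy₀]
  have h1 := Theta_natural g₀ g₁ w₀ w₁ hW H X₀ a₀ hps τ hτ σ x₀ x₁ h y₀ y₁ hy₀ hy₁ h' v₀
    ⟨σ ≫ v₀.1, hw₀⟩ rfl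
  have h2 : (Theta g₀ g₁ w₀ w₁ hW H X₀ a₀ hps τ hτ y₀ y₁ h') ⟨σ ≫ v₀.1, hw₀⟩ = v' :=
    Subtype.ext (h1.trans hv.symm)
  rw [← h2, Equiv.symm_apply_apply]

end Theta

end Groth.Agent.Lib.TLineH4
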