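import Mathlib
import Groth.Agent.Lib.TLineG_helper4

/-!
# Glueing a torsor with a trivial torsor along a section: the descent datum (helper4)

`glue_two_torsor`: `V = U₀ ∪ U₁`, `X₀` an fppf torsor over `U₀` under `H|_{U₀}` with a section over
`U₀ ∩ U₁`; then there is an fppf `H`-torsor `E` over `V` restricting to `X₀` over `U₀` and having a
section over `U₁`.
-/

set_option autoImplicit false
set_option linter.style.haveILetI false
set_option linter.unusedSectionVars false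
universe u
open CategoryTheory CategoryTheory.Limits MonoidalCategory CartesianMonoidalCategory MonObj GrpObj
  AlgebraicGeometry

namespace Groth.Agent.Lib.TLineH4

open Groth.Agent.Lib

section TwoPiece

variable {V U₀ U₁ W : Scheme.{u}} (g₀ : U₀ ⟶ V) (g₁ : U₁ ⟶ V) [i₀ : IsOpenImmersion g₀]
  [i₁ : IsOpenImmersion g₁]
  (w₀ : W ⟶ U₀) (w₁ : W ⟶ U₁) (hW : IsPullback w₀ w₁ g₀ g₁)
  (H : Over V) [GrpObj H] (X₀ : Over U₀) (a₀ : AlgGrp.Action (Red.bc g₀ H) X₀)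
  (hps : NonAbH1.IsPseudoTorsorSch a₀) (τ : W ⟶ X₀.left) (hτ : τ ≫ X₀.hom = w₀)

/-- The two opens. -/
def U2 (U₀ U₁ : Scheme.{u}) : I2.{u} → Scheme.{u}
  | .zero => U₀
  | .one => U₁

/-- The two open immersions. -/
def gg : ∀ i : I2.{u}, U2 U₀ U₁ i ⟶ V
  | .zero => g₀
  | .one => g₁

instance gg_open (i : I2.{u}) : IsOpenImmersion (gg g₀ g₁ i) := by
  cases i
  · exact i₀
  · exact i₁

/-- The two pieces. -/
noncomputable def obj2 : ∀ i : I2.{u}, Over (U2 U₀ U₁ i)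
  | .zero => X₀
  | .one => Red.bc g₁ H

/-- The two actions. -/
noncomputable def act2 :
    ∀ i : I2.{u}, AlgGrp.Action (Red.bc (gg g₀ g₁ i) H) (obj2 g₁ H X₀ i)
  | .zero => a₀
  | .one => NonAbH1.trivialAction (Red.bc g₁ H)

/-- The glueing bijections. -/
noncomputable def phi2 : ∀ {T : Scheme.{u}} (i j : I2.{u}) (x₀ : T ⟶ U2 U₀ U₁ i)
    (x₁ : T ⟶ U2 U₀ U₁ j), x₀ ≫ gg g₀ g₁ i = x₁ ≫ gg g₀ g₁ j →
      (Desc.Lifts (obj2 g₁ H X₀ i) x₀ ≃ Desc.Lifts (obj2 g₁ H X₀ j) x₁)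
  | _, .zero, .zero, _, _, h => castL X₀ ((cancel_mono g₀).1 h)
  | _, .zero, .one, x₀, x₁, h => Theta g₀ g₁ w₀ w₁ hW H X₀ a₀ hps τ hτ x₀ x₁ h
  | _, .one, .zero, x₀, x₁, h => (Theta g₀ g₁ w₀ w₁ hW H X₀ a₀ hps τ hτ x₁ x₀ h.symm).symm
  | _, .one, .one, _, _, h => castL (Red.bc g₁ H) ((cancel_mono g₁).1 h)

/-- The descent datum. -/
noncomputable def dd2 : Desc.SchDDFam (gg g₀ g₁) where
  obj := obj2 g₁ H X₀
  φ := fun _ i j x₀ x₁ h => phi2 g₀ g₁ w₀ w₁ hW H X₀ a₀ hps τ hτ i j x₀ x₁ h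
  φ_natural := by
    intro T T' σ i j x₀ x₁ h y₀ y₁ hy₀ hy₁ h' v v' hv
    cases i <;> cases j
    · exact hv
    · exact Theta_natural g₀ g₁ w₀ w₁ hW H X₀ a₀ hps τ hτ σ x₀ x₁ h y₀ y₁ hy₀ hy₁ h' v v' hv
    · exact Theta_symm_natural g₀ g₁ w₀ w₁ hW H X₀ a₀ hps τ hτ σ x₁ x₀ h.symm y₁ y₀ hy₁ hy₀
        h'.symm v v' hv
    · exact hv
  φ_self := by
    intro T i x v
    cases i <;> rfl
  φ_comp := by
    intro T i j k x₀ x₁ x₂ h₀₁ h₁₂ v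
    cases i <;> cases j <;> cases k
    · rfl
    · obtain rfl : x₀ = x₁ := (cancel_mono g₀).1 h₀₁
      rfl
    · obtain rfl : x₀ = x₂ := (cancel_mono g₀).1 (h₀₁.trans h₁₂)
      exact Equiv.symm_apply_apply _ _
    · obtain rfl : x₁ = x₂ := (cancel_mono g₁).1 h₁₂
      rfl
    · obtain rfl : x₁ = x₂ := (cancel_mono g₀).1 h₁₂
      rfl
    · obtain rfl : x₀ = x₂ := (cancel_mono g₁).1 (h₀₁.trans h₁₂)
      exact Equiv.apply_symm_apply _ _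
    · obtain rfl : x₀ = x₁ := (cancel_mono g₁).1 h₀₁
      rfl
    · rfl

include hW hτ in
/-- Glueing a torsor with the trivial torsor along a section over the overlap. -/
theorem glue_two_torsor (hsurj : ∀ x : V, x ∈ Set.range g₀ ∨ x ∈ Set.range g₁)
    (ha₀ : NonAbH1.IsTorsorFor Scheme.fppfPrecoverage a₀) :
    ∃ (E : Over V) (act : AlgGrp.Action H E) (ε₀ : X₀.left ⟶ E.left) (s₁ : U₁ ⟶ E.left),
      NonAbH1.IsTorsorFor Scheme.fppfPrecoverage act ∧ IsPullback X₀.hom ε₀ g₀ E.hom ∧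
      s₁ ≫ E.hom = g₁ := by
  have hsurj' : ∀ x : V, ∃ i : I2.{u}, x ∈ Set.range (gg g₀ g₁ i) := by
    intro x
    rcases hsurj x with hx | hx
    · exact ⟨I2.zero, hx⟩
    · exact ⟨I2.one, hx⟩
  have hact : ∀ i : I2.{u}, NonAbH1.IsTorsorFor Scheme.fppfPrecoverage (act2 g₀ g₁ H X₀ a₀ i) := by
    intro i
    cases i
    · exact ha₀
    · exact NonAbH1.isTorsorFor_trivialAction (Red.bc g₁ H) Scheme.fppfPrecoverage
  obtain ⟨E, act, ε, htors, hpb⟩ := glue_torsor (gg g₀ g₁) hsurj' H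
    (dd2 g₀ g₁ w₀ w₁ hW H X₀ a₀ ha₀.1 τ hτ) (act2 g₀ g₁ H X₀ a₀) hact (by
      intro T i j x₀ x₁ h s hs q v w hw
      cases i <;> cases j
      · exact hw
      · exact Theta_equivariant g₀ g₁ w₀ w₁ hW H X₀ a₀ ha₀.1 τ hτ x₀ x₁ h hs q v w hw
      · exact Theta_symm_equivariant g₀ g₁ w₀ w₁ hW H X₀ a₀ ha₀.1 τ hτ x₁ x₀ h.symm hs q v w hw
      · exact hw)
  obtain ⟨e1, he1⟩ : ∃ e1 : (Red.bc g₁ H).left ⟶ E.left,
      (Red.bc g₁ H).hom ≫ g₁ = e1 ≫ E.hom := ⟨ε I2.one, (hpb I2.one).w⟩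
  have h2 : η[Red.bc g₁ H].left ≫ (Red.bc g₁ H).hom = 𝟙 U₁ := Over.w η[Red.bc g₁ H]
  refine ⟨E, act, ε I2.zero, η[Red.bc g₁ H].left ≫ e1, htors, hpb I2.zero, ?_⟩
  rw [Category.assoc, ← he1, ← Category.assoc, h2, Category.id_comp]

end TwoPiece

end Groth.Agent.Lib.TLineH4
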