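import Mathlib
import Groth.Agent.Lib.TLineD_helper4
import Groth.Agent.Lib.TLineH_helper4
import Groth.Agent.Lib.TorsorProp_helper7

/-!
# Torsors over the affine line: change of base and the local step (helper4)

* `isTorsorFor_restrict`: restricting the action of a torsor along an isomorphism of groups.
* `rebase`: for `f ≫ g = f' ≫ g'`, a torsor under `G ×_S S₁` over `S₁` base-changes along `f` to a
  torsor under `(G ×_S S₂) ×_{S₂} T`.
* `LocHyp`: the local hypothesis of S17851; `L_loc`: its use for a torsor over `R[X]` which has a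
  section over `R_m[X][1/q]`, `q` monic.
* `lfp_of_torsor`: an fppf torsor under a group locally of finite presentation is locally of finite
  presentation.
-/

set_option autoImplicit false
set_option linter.style.haveILetI false
set_option linter.unusedSectionVars false
universe u
open Polynomial CategoryTheory CategoryTheory.Limits AlgebraicGeometry MonoidalCategory
  CartesianMonoidalCategory MonObj

namespace Groth.Agent.Lib.TLineH4

open Groth.Agent.Lib.GlueH4 Groth.Agent.Lib.QLimH4 Groth.Agent.Lib.QGrpH4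

section Restrict

variable {S : Scheme.{u}} {G H X : Over S} [GrpObj G] [GrpObj H]

theorem isPseudoTorsor_restrict (φ : H ⟶ G) [IsMonHom φ] [IsIso φ] (a : AlgGrp.Action G X)
    (ha : NonAbH1.IsPseudoTorsorSch a) : NonAbH1.IsPseudoTorsorSch (a.restrict φ) := by
  have key : lift (a.restrict φ).act (snd H X) = (φ ▷ X) ≫ lift a.act (snd G X) := by
    rw [comp_lift, AlgGrp.Action.restrict_act, whiskerRight_snd]
  unfold NonAbH1.IsPseudoTorsorSch at ha ⊢
  rw [key]
  haveI : IsIso (lift a.act (snd G X)) := ha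
  infer_instance

theorem isTorsorFor_restrict (K : Precoverage Scheme.{u}) (φ : H ⟶ G) [IsMonHom φ] [IsIso φ]
    (a : AlgGrp.Action G X) (ha : NonAbH1.IsTorsorFor K a) :
    NonAbH1.IsTorsorFor K (a.restrict φ) :=
  ⟨isPseudoTorsor_restrict φ a ha.1, ha.2⟩

theorem lfp_of_torsor [LocallyOfFinitePresentation G.hom] (a : AlgGrp.Action G X)
    (ha : NonAbH1.IsTorsorFor Scheme.fppfPrecoverage a) : LocallyOfFinitePresentation X.hom := by
  have ha' : NonAbH1.IsTorsorFor Scheme.fpqcPrecoverage a := by
    obtain ⟨Rr, hR, hsec⟩ := ha.2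
    exact ⟨ha.1, Rr, Scheme.fppfPrecoverage_le_fpqcPrecoverage _ hR, hsec⟩
  exact TorsorProp_helper7.prop_of_torsor @LocallyOfFinitePresentation a ha' inferInstance

end Restrict

section Rebase

variable {S S₁ S₂ T : Scheme.{u}} (f : T ⟶ S₁) (g : S₁ ⟶ S) (f' : T ⟶ S₂) (g' : S₂ ⟶ S)
  (h : f ≫ g = f' ≫ g') {G : Over S} [GrpObj G]

/-- The isomorphism of groups `(G ×_S S₂) ×_{S₂} T ≅ (G ×_S S₁) ×_{S₁} T`. -/
noncomputable def rbIso : Red.bc f' (Red.bc g' G) ⟶ Red.bc f (Red.bc g G) :=
  (ActBC.bcCompIso f' g' G rfl).hom ≫ (ActBC.bcCompIso f g G h).inv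

instance rbIso_isMonHom : IsMonHom (rbIso f g f' g' h (G := G)) := by
  unfold rbIso
  infer_instance

instance rbIso_isIso : IsIso (rbIso f g f' g' h (G := G)) := by
  unfold rbIso
  infer_instance

/-- Base change of a torsor along `f`, the group being rewritten along the other factorisation. -/
noncomputable def rebase {K : Precoverage Scheme.{u}} [K.IsStableUnderBaseChange]
    (Z : NonAbH1.TorsorSch (Red.bc g G) K) : NonAbH1.TorsorSch (Red.bc f' (Red.bc g' G)) K :=
  ⟨Red.bc f Z.X, (Z.act.bc f).restrict (rbIso f g f' g' h),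
    isTorsorFor_restrict K _ _ (NonAbH1.isTorsorFor_bc f K Z.isTorsor)⟩

theorem rebase_X {K : Precoverage Scheme.{u}} [K.IsStableUnderBaseChange]
    (Z : NonAbH1.TorsorSch (Red.bc g G) K) : (rebase f g f' g' h Z).X = Red.bc f Z.X := rfl

end Rebase

section Loc

variable {R : Type u} [CommRing R] (G : Over (Spec (CommRingCat.of R))) [GrpObj G]

/-- The local hypothesis of S17851. -/
def LocHyp : Prop :=
  ∀ (m : Ideal R) [m.IsMaximal]
    (Y : NonAbH1.TorsorSch (Red.bc (Spec.map (CommRingCat.ofHom (algebraMap (Localization.AtPrime m) (Polynomial (Localization.AtPrime m))))) (Red.bc (Spec.map (CommRingCat.ofHom (algebraMap R (Localization.AtPrime m)))) G)) Scheme.fppfPrecoverage),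
    (∃ I : Ideal (Polynomial (Localization.AtPrime m)), Module.Finite (Localization.AtPrime m) (Polynomial (Localization.AtPrime m) ⧸ I) ∧
      NonAbH1.HasSectionOver Y.X (Scheme.Opens.ι
        (⟨(PrimeSpectrum.zeroLocus (I : Set (Polynomial (Localization.AtPrime m))))ᶜ,
          (PrimeSpectrum.isClosed_zeroLocus _).isOpen_compl⟩ : (Spec (CommRingCat.of (Polynomial (Localization.AtPrime m)))).Opens))) →
    NonAbH1.HasSectionOver Y.X (𝟙 (Spec (CommRingCat.of (Polynomial (Localization.AtPrime m)))))

theorem map_alg_comm (K : Type u) [CommRing K] [Algebra R K] :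
    SpM (mapRingHom (algebraMap R K)) ≫ SpM (algebraMap R R[X]) =
      SpM (algebraMap K K[X]) ≫ SpM (algebraMap R K) := by
  rw [← SpM_comp, ← SpM_comp]
  have e : (mapRingHom (algebraMap R K)).comp (algebraMap R R[X]) =
      (algebraMap K K[X]).comp (algebraMap R K) := by
    refine RingHom.ext fun r => ?_
    show (algebraMap R R[X] r).map (algebraMap R K) = algebraMap K K[X] (algebraMap R K r)
    rw [← Polynomial.C_eq_algebraMap, ← Polynomial.C_eq_algebraMap, map_C]
  rw [e]

variable {G}

theorem L_loc (hloc : LocHyp G)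
    (Z : NonAbH1.TorsorSch (Red.bc (SpM (algebraMap R R[X])) G) Scheme.fppfPrecoverage)
    (m : Ideal R) [m.IsMaximal] (q : (Localization.AtPrime m)[X]) (hq : q.Monic)
    (σ : Spec (CommRingCat.of (Localization.Away q)) ⟶ Z.X.left)
    (hσ : σ ≫ Z.X.hom = SpM (algebraMap (Localization.AtPrime m)[X] (Localization.Away q)) ≫
      SpM (mapRingHom (algebraMap R (Localization.AtPrime m)))) :
    ∃ x : Spec (CommRingCat.of (Localization.AtPrime m)[X]) ⟶ Z.X.left,
      x ≫ Z.X.hom = SpM (mapRingHom (algebraMap R (Localization.AtPrime m))) := by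
  obtain ⟨Y, hY⟩ : ∃ Y : NonAbH1.TorsorSch (Red.bc (SpM (algebraMap (Localization.AtPrime m)
      (Localization.AtPrime m)[X])) (Red.bc (SpM (algebraMap R (Localization.AtPrime m))) G))
      Scheme.fppfPrecoverage,
      Y.X = Red.bc (SpM (mapRingHom (algebraMap R (Localization.AtPrime m)))) Z.X :=
    ⟨rebase _ _ _ _ (map_alg_comm (Localization.AtPrime m)) Z, rfl⟩
  have hfin : Module.Finite (Localization.AtPrime m)
      ((Localization.AtPrime m)[X] ⧸ Ideal.span {q}) := hq.finite_quotient
  have hsec : NonAbH1.HasSectionOver Y.X (Scheme.Opens.ι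
      (⟨(PrimeSpectrum.zeroLocus ((Ideal.span {q} : Ideal (Localization.AtPrime m)[X]) :
          Set (Localization.AtPrime m)[X]))ᶜ,
        (PrimeSpectrum.isClosed_zeroLocus _).isOpen_compl⟩ :
        (Spec (CommRingCat.of (Localization.AtPrime m)[X])).Opens)) := by
    obtain ⟨U, hU⟩ : ∃ U : (Spec (CommRingCat.of (Localization.AtPrime m)[X])).Opens,
        U = ⟨(PrimeSpectrum.zeroLocus ((Ideal.span {q} : Ideal (Localization.AtPrime m)[X]) :
          Set (Localization.AtPrime m)[X]))ᶜ, (PrimeSpectrum.isClosed_zeroLocus _).isOpen_compl⟩ :=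
      ⟨_, rfl⟩
    rw [← hU, hY]
    haveI : IsOpenImmersion (SpM (algebraMap (Localization.AtPrime m)[X] (Localization.Away q))) :=
      IsOpenImmersion.of_isLocalization (S := Localization.Away q) q
    have hrange : Set.range U.ι ⊆
        Set.range (SpM (algebraMap (Localization.AtPrime m)[X] (Localization.Away q))) := by
      rw [Scheme.Opens.range_ι, range_away q (Localization.Away q), hU]
      intro x hx
      show q ∉ x.asIdeal
      intro hqx
      apply hx
      exact (PrimeSpectrum.mem_zeroLocus (x : PrimeSpectrum (Localization.AtPrime m)[X]) _).mpr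
        (SetLike.coe_subset_coe.mpr (Ideal.span_le.mpr (Set.singleton_subset_iff.mpr hqx)))
    obtain ⟨j, hj⟩ : ∃ j : U.toScheme ⟶ Spec (CommRingCat.of (Localization.Away q)),
        j ≫ SpM (algebraMap (Localization.AtPrime m)[X] (Localization.Away q)) = U.ι :=
      ⟨IsOpenImmersion.lift _ _ hrange, IsOpenImmersion.lift_fac _ _ _⟩
    refine ⟨pullback.lift (j ≫ σ) U.ι ?_, pullback.lift_snd _ _ _⟩
    rw [Category.assoc, hσ, ← Category.assoc, hj]
  obtain ⟨s, hs⟩ := hloc m Y ⟨Ideal.span {q}, hfin, hsec⟩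
  have key : ∀ (W : Over (Spec (CommRingCat.of (Localization.AtPrime m)[X])))
      (_ : W = Red.bc (SpM (mapRingHom (algebraMap R (Localization.AtPrime m)))) Z.X)
      (s : Spec (CommRingCat.of (Localization.AtPrime m)[X]) ⟶ W.left)
      (_ : s ≫ W.hom = 𝟙 _),
      ∃ x : Spec (CommRingCat.of (Localization.AtPrime m)[X]) ⟶ Z.X.left,
        x ≫ Z.X.hom = SpM (mapRingHom (algebraMap R (Localization.AtPrime m))) := by
    rintro W rfl s hs
    refine ⟨s ≫ pullback.fst Z.X.hom _, ?_⟩
    have hs' : s ≫ pullback.snd Z.X.hom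
        (SpM (mapRingHom (algebraMap R (Localization.AtPrime m)))) = 𝟙 _ := hs
    rw [Category.assoc, pullback.condition, ← Category.assoc, hs', Category.id_comp]
  exact key Y.X hY s hs

end Loc

end Groth.Agent.Lib.TLineH4
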