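import Mathlib
import Groth.Prelude.Def_CGrpSh3
import Groth.Agent.Lib.BigCartanE_helper4
import Groth.Agent.Lib.BigCartanF_helper4
import Groth.Agent.Lib.GrpSerB_helper4

/-!
# `H¹_fppf(k, f_* G_m) = 0` for a morphism `f` of spectra of fields (helper4)
-/

set_option autoImplicit false
set_option linter.style.haveILetI false
set_option linter.unusedSectionVars false
universe u
open CategoryTheory CategoryTheory.Limits AlgebraicGeometry Opposite MonoidalCategory
  CartesianMonoidalCategory MonObj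

namespace Groth.Agent.Lib.BigCartanH4

open Groth.Agent.Lib.GaCechH8 Groth.Agent.Lib.GrpSerH4 Groth.Agent.Lib.GaTorsH4
  Groth.Agent.Lib.CechSite

attribute [local instance] hasFiniteProducts_over

/-- Hilbert 90 in cocycle form over a field, for an affine faithfully flat cover -/
theorem gm_step_affine {K : Type u} [Field K] (X : Over (Spec (CommRingCat.of K)))
    [IsAffine X.left] [Flat X.hom] [Surjective X.hom]
    (g : X ⊗ X ⟶ Red.Gm (Spec (CommRingCat.of K))) (hg : IsCoc g) :
    ∃ b : X ⟶ Red.Gm (Spec (CommRingCat.of K)), IsCob g b := by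
  obtain ⟨Cr, e, he⟩ : ∃ (Cr : CommRingCat.{u}) (e : Spec Cr ≅ X.left), True :=
    ⟨_, X.left.isoSpec.symm, trivial⟩
  obtain ⟨φ, hφ⟩ : ∃ φ : CommRingCat.of K ⟶ Cr, Spec.map φ = e.hom ≫ X.hom :=
    ⟨Spec.preimage (e.hom ≫ X.hom), Spec.map_preimage _⟩
  letI : Algebra K Cr := φ.hom.toAlgebra
  have hφ' : CommRingCat.ofHom (algebraMap K Cr) = φ := rfl
  haveI : Module.FaithfullyFlat K Cr := by
    apply faithfullyFlat_of_spec
    · rw [hφ', hφ]; infer_instance
    · rw [hφ', hφ]; infer_instance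
  obtain ⟨ε, hε⟩ : ∃ ε : SpO K Cr ≅ X, ε.hom.left = e.hom :=
    ⟨Over.isoMk e (by
      change e.hom ≫ X.hom = Spec.map (CommRingCat.ofHom (algebraMap K Cr))
      rw [hφ', hφ]), rfl⟩
  obtain ⟨b', hb'⟩ := gm_step Cr ((ε.hom ⊗ₘ ε.hom) ≫ g) (isCoc_restrict g ε.hom hg)
  refine ⟨ε.inv ≫ b', ?_⟩
  have h := isCob_restrict _ _ ε.inv hb'
  have e2 : (ε.inv ⊗ₘ ε.inv) ≫ (ε.hom ⊗ₘ ε.hom) ≫ g = g := by
    rw [← Category.assoc, tensorHom_comp_tensorHom, Iso.inv_hom_id, tensorHom_id, id_whiskerRight,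
      Category.id_comp]
  rw [e2] at h
  exact h

theorem pfp_forget {S : Scheme.{u}} (T : Over S) (hT : IsTerminal T) :
    PreservesFiniteProducts (Over.forget T) := by
  haveI : (Over.forget T).IsEquivalence :=
    inferInstanceAs ((Over.equivalenceOfIsTerminal hT).functor).IsEquivalence
  infer_instance

/-- Čech `H¹` of `f_* G_m` vanishes for affine fppf covers of the spectrum of a field, for
`f : Spec k' ⟶ S` -/
theorem affCech1At_pushGm {S : Scheme.{u}} [IsAffine S] (k' : Type u) [Field k']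
    (f : Spec (CommRingCat.of k') ⟶ S) :
    AffCech1At ((BigSite.pushBig Scheme.fppfPrecoverage f AddCommGrpCat.{u + 1}).obj
      (CGrpSh2.Gm Scheme.fppfPrecoverage (Spec (CommRingCat.of k')))) (Over.mk (𝟙 S)) := by
  intro V hV hs hfl hfp
  rw [isZero_homology_succ_iff]
  refine exact_of_single V _ 0 ?_
  intro x hx
  haveI := pfp_forget (Over.mk (𝟙 S)) Over.mkIdTerminal
  haveI : PreservesFiniteProducts (Over.forget (Over.mk (𝟙 S)) ⋙ Over.pullback f) := inferInstance
  haveI := hV
  have hVhom : V.left.hom = V.hom.left := by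
    have h : V.hom.left ≫ 𝟙 S = V.left.hom := Over.w V.hom
    exact ((Category.comp_id V.hom.left).symm.trans h).symm
  haveI : Flat V.left.hom := by rw [hVhom]; exact hfl
  haveI : Surjective V.left.hom := by rw [hVhom]; exact hs
  haveI : IsAffine ((Over.forget (Over.mk (𝟙 S)) ⋙ Over.pullback f).obj V).left :=
    inferInstanceAs (IsAffine (pullback V.left.hom f))
  haveI : Flat ((Over.forget (Over.mk (𝟙 S)) ⋙ Over.pullback f).obj V).hom :=
    inferInstanceAs (Flat (pullback.snd V.left.hom f))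
  haveI : Surjective ((Over.forget (Over.mk (𝟙 S)) ⋙ Over.pullback f).obj V).hom :=
    inferInstanceAs (Surjective (pullback.snd V.left.hom f))
  exact cech_exact_of_cob (Red.Gm (Spec (CommRingCat.of k')))
    (Over.forget (Over.mk (𝟙 S)) ⋙ Over.pullback f) V
    (fun g hg => gm_step_affine _ g hg) x hx

theorem main13964 (k k' : Type u) [Field k] [Field k'] [Algebra k k'] :
    Subsingleton (BigSite.H Scheme.fppfPrecoverage (Spec (CommRingCat.of k))
      ((BigSite.pushBig Scheme.fppfPrecoverage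
        (Spec.map (CommRingCat.ofHom (algebraMap k k'))) AddCommGrpCat.{u+1}).obj
        (CGrpSh2.Gm Scheme.fppfPrecoverage (Spec (CommRingCat.of k')))) 1) :=
  subsingleton_H1 _ (affCech1At_pushGm k' _)

end Groth.Agent.Lib.BigCartanH4
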