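import Mathlib.RingTheory.Algebraic.LinearIndependent
import Mathlib.RingTheory.Algebraic.Cardinality
import Mathlib.RingTheory.Jacobson.Ring
import Mathlib.RingTheory.MvPolynomial
import Mathlib.RingTheory.TensorProduct.Maps
import Mathlib.FieldTheory.IsAlgClosed.Basic
import Mathlib.LinearAlgebra.Dimension.Basic
import Mathlib.SetTheory.Cardinal.Finsupp

/-!
# A cardinal Nullstellensatz (helper6)

* `nonempty_algHom_of_card_lt`: a nonzero algebra over an algebraically closed field `K`
  generated by a set of cardinality `< #K` has a `K`-point.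
* `exists_ringHom_of_card_lt`: if `A → K`, `A → M` are ring maps to fields which agree in a common
  extension, `K` is algebraically closed and `#M < #K`, then `M` embeds into `K` over `A`.
-/

set_option autoImplicit false
universe u
open Cardinal TensorProduct

namespace Groth.Agent.Lib.BigFieldH6

theorem nonempty_algHom_of_card_lt (K : Type u) [Field K] [IsAlgClosed K] (R : Type u)
    [CommRing R] [Algebra K R] [Nontrivial R] (G : Set R) (hG : Algebra.adjoin K G = ⊤)
    (hcard : #G < #K) : Nonempty (R →ₐ[K] K) := by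
  obtain ⟨m, hm⟩ := Ideal.exists_maximal R
  letI : Field (R ⧸ m) := Ideal.Quotient.field m
  have hsurjq : Function.Surjective (Ideal.Quotient.mkₐ K m) := Ideal.Quotient.mkₐ_surjective K m
  have hbij : Function.Bijective (algebraMap K (R ⧸ m)) := by
    by_cases hfin : G.Finite
    · haveI : Algebra.FiniteType K R := ⟨⟨hfin.toFinset, by rw [Set.Finite.coe_toFinset]; exact hG⟩⟩
      haveI : Algebra.FiniteType K (R ⧸ m) :=
        Algebra.FiniteType.of_surjective (Ideal.Quotient.mkₐ K m) hsurjq
      haveI : Module.Finite K (R ⧸ m) := finite_of_finite_type_of_isJacobsonRing K (R ⧸ m)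
      exact IsAlgClosed.algebraMap_bijective_of_isIntegral
    · have hinf : ℵ₀ ≤ #G := by
        rw [Cardinal.aleph0_le_mk_iff]
        exact Set.infinite_coe_iff.2 hfin
      haveI : Nonempty G := by
        by_contra h
        rw [not_nonempty_iff] at h
        exact hfin (Set.finite_coe_iff.1 inferInstance)
      -- upper bound for the rank
      have hrank : Module.rank K (R ⧸ m) ≤ #G := by
        have hs : Function.Surjective (MvPolynomial.aeval (R := K) (Subtype.val : G → R)) := by
          rw [← AlgHom.range_eq_top, ← Algebra.adjoin_range_eq_range_aeval, Subtype.range_coe]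
          exact hG
        have h1 := LinearMap.rank_le_of_surjective
          ((Ideal.Quotient.mkₐ K m).comp (MvPolynomial.aeval (R := K) (Subtype.val : G → R))).toLinearMap
          (hsurjq.comp hs)
        rw [MvPolynomial.rank_eq, Cardinal.mk_finsupp_nat, max_eq_left hinf] at h1
        exact h1
      have halg : Algebra.IsAlgebraic K (R ⧸ m) := by
        refine ⟨fun t => ?_⟩
        by_contra ht
        have h2 := (Transcendental.linearIndependent_sub_inv (F := K) (E := R ⧸ m) ht).cardinal_le_rank
        exact absurd (h2.trans hrank) (not_le.2 hcard)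
      haveI : Algebra.IsIntegral K (R ⧸ m) := Algebra.IsAlgebraic.isIntegral
      exact IsAlgClosed.algebraMap_bijective_of_isIntegral
  let e : K ≃ₐ[K] (R ⧸ m) := AlgEquiv.ofBijective (Algebra.ofId K (R ⧸ m)) hbij
  exact ⟨(e.symm : (R ⧸ m) →ₐ[K] K).comp (Ideal.Quotient.mkₐ K m)⟩

theorem exists_ringHom_of_card_lt {A K M Ω : Type u} [CommRing A] [Field K] [IsAlgClosed K]
    [Field M] [Field Ω] (α : A →+* K) (β : A →+* M) (i : K →+* Ω) (j : M →+* Ω)
    (h : i.comp α = j.comp β) (hcard : #M < #K) : ∃ ρ : M →+* K, ρ.comp β = α := by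
  letI : Algebra A K := α.toAlgebra
  letI : Algebra A M := β.toAlgebra
  letI : Algebra A Ω := (i.comp α).toAlgebra
  let iA : K →ₐ[A] Ω := { i with commutes' := fun a => rfl }
  let jA : M →ₐ[A] Ω := { j with commutes' := fun a => (RingHom.congr_fun h a).symm }
  haveI : Nontrivial (K ⊗[A] M) :=
    RingHom.domain_nontrivial (Algebra.TensorProduct.productMap iA jA).toRingHom
  let G : Set (K ⊗[A] M) := Set.range (fun m : M => (1 : K) ⊗ₜ[A] m)
  have hG : Algebra.adjoin K G = ⊤ := by
    have hall : ∀ x : K ⊗[A] M, x ∈ Algebra.adjoin K G := by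
      intro x
      induction x using TensorProduct.induction_on with
      | zero => exact Subalgebra.zero_mem _
      | tmul k m =>
        have : k ⊗ₜ[A] m = k • ((1 : K) ⊗ₜ[A] m) := by
          rw [TensorProduct.smul_tmul', smul_eq_mul, mul_one]
        rw [this]
        have hmem : (1 : K) ⊗ₜ[A] m ∈ G := ⟨m, rfl⟩
        exact Subalgebra.smul_mem _ (Algebra.subset_adjoin hmem) k
      | add x y hx hy => exact Subalgebra.add_mem _ hx hy
    exact eq_top_iff.2 fun x _ => hall x
  have hGc : #G < #K := lt_of_le_of_lt Cardinal.mk_range_le hcard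
  obtain ⟨χ⟩ := nonempty_algHom_of_card_lt K (K ⊗[A] M) G hG hGc
  refine ⟨χ.toRingHom.comp (Algebra.TensorProduct.includeRight (R := A) (A := K) (B := M)).toRingHom, ?_⟩
  ext a
  change χ ((1 : K) ⊗ₜ[A] (β a)) = α a
  have h1 : (1 : K) ⊗ₜ[A] (β a) = algebraMap K (K ⊗[A] M) (α a) := by
    have e1 : β a = a • (1 : M) := by rw [Algebra.smul_def, mul_one]; rfl
    have e2 : α a = a • (1 : K) := by rw [Algebra.smul_def, mul_one]; rfl
    rw [e1, ← TensorProduct.smul_tmul, ← e2, Algebra.TensorProduct.algebraMap_apply]
    rfl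
  rw [h1, AlgHom.commutes]
  rfl

/-- A finite extension of a field of cardinality `< #K` (with `K` infinite) has cardinality
`< #K`. -/
theorem card_lt_of_finite {k M K : Type u} [Field k] [Field M] [Infinite K] (φ : k →+* M)
    (hφ : φ.Finite) (hk : #k < #K) : #M < #K := by
  letI : Algebra k M := φ.toAlgebra
  haveI : Module.Finite k M := hφ
  by_cases hfin : Finite k
  · haveI := hfin
    haveI : Finite M := Module.finite_of_finite k
    exact lt_of_lt_of_le (Cardinal.lt_aleph0_of_finite M) (Cardinal.aleph0_le_mk K)
  · rw [not_finite_iff_infinite] at hfin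
    haveI : Algebra.IsAlgebraic k M := Algebra.IsAlgebraic.of_finite k M
    have h1 := Algebra.IsAlgebraic.cardinalMk_le_max k M
    rw [max_eq_left (Cardinal.aleph0_le_mk k)] at h1
    exact lt_of_le_of_lt h1 hk

end Groth.Agent.Lib.BigFieldH6
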