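import Mathlib
import Groth.Agent.Lib.BigField_helper6

/-!
# A common big algebraically closed extension of a family of field extensions (helper6)
-/

set_option autoImplicit false
universe u
open Cardinal TensorProduct

namespace Groth.Agent.Lib.BigField2H6

open Groth.Agent.Lib.BigFieldH6

/-- Variant of `exists_ringHom_of_card_lt` over a base field. -/
theorem exists_ringHom_of_card_lt_field {k K M : Type u} [Field k] [Field K] [IsAlgClosed K]
    [Field M] (α : k →+* K) (β : k →+* M) (hcard : #M < #K) : ∃ ρ : M →+* K, ρ.comp β = α := by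
  letI : Algebra k K := α.toAlgebra
  letI : Algebra k M := β.toAlgebra
  haveI : Nontrivial (K ⊗[k] M) :=
    Algebra.TensorProduct.nontrivial_of_algebraMap_injective_of_flat_left (R := k) K M
      (algebraMap k M).injective
  let G : Set (K ⊗[k] M) := Set.range (fun m : M => (1 : K) ⊗ₜ[k] m)
  have hG : Algebra.adjoin K G = ⊤ := by
    have hall : ∀ x : K ⊗[k] M, x ∈ Algebra.adjoin K G := by
      intro x
      induction x using TensorProduct.induction_on with
      | zero => exact Subalgebra.zero_mem _
      | tmul a m =>
        have : a ⊗ₜ[k] m = a • ((1 : K) ⊗ₜ[k] m) := by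
          rw [TensorProduct.smul_tmul', smul_eq_mul, mul_one]
        rw [this]
        have hmem : (1 : K) ⊗ₜ[k] m ∈ G := ⟨m, rfl⟩
        exact Subalgebra.smul_mem _ (Algebra.subset_adjoin hmem) a
      | add x y hx hy => exact Subalgebra.add_mem _ hx hy
    exact eq_top_iff.2 fun x _ => hall x
  have hGc : #G < #K := lt_of_le_of_lt Cardinal.mk_range_le hcard
  obtain ⟨χ⟩ := nonempty_algHom_of_card_lt K (K ⊗[k] M) G hG hGc
  refine ⟨χ.toRingHom.comp
    (Algebra.TensorProduct.includeRight (R := k) (A := K) (B := M)).toRingHom, ?_⟩
  ext a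
  change χ ((1 : K) ⊗ₜ[k] (β a)) = α a
  have h1 : (1 : K) ⊗ₜ[k] (β a) = algebraMap K (K ⊗[k] M) (α a) := by
    have e1 : β a = a • (1 : M) := by rw [Algebra.smul_def, mul_one]; rfl
    have e2 : α a = a • (1 : K) := by rw [Algebra.smul_def, mul_one]; rfl
    rw [e1, ← TensorProduct.smul_tmul, ← e2, Algebra.TensorProduct.algebraMap_apply]
    rfl
  rw [h1, AlgHom.commutes]
  rfl

/-- A family of field extensions of `k` embeds into a common field extension (in the same
universe). -/
theorem exists_common_extension {k : Type u} [Field k] {I : Type u} (M : I → Type u)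
    [∀ i, Field (M i)] (φ : ∀ i, k →+* M i) :
    ∃ (K : Type u) (_ : Field K) (ψ : k →+* K), ∀ i, ∃ ρ : M i →+* K, ρ.comp (φ i) = ψ := by
  let J : Type u := Set (Σ i, M i)
  let K : Type u := AlgebraicClosure (FractionRing (MvPolynomial J k))
  let ψ : k →+* K := algebraMap k K
  refine ⟨K, inferInstance, ψ, fun i => ?_⟩
  have hJK : #J ≤ #K := by
    have h1 : Function.Injective (fun j : J => algebraMap (FractionRing (MvPolynomial J k)) K
        (algebraMap (MvPolynomial J k) (FractionRing (MvPolynomial J k)) (MvPolynomial.X j))) := by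
      intro a b hab
      have := (algebraMap (FractionRing (MvPolynomial J k)) K).injective hab
      have := IsFractionRing.injective (MvPolynomial J k) (FractionRing (MvPolynomial J k)) this
      exact MvPolynomial.X_injective this
    exact Cardinal.mk_le_of_injective h1
  have hMi : #(M i) < #K := by
    have h1 : #(M i) ≤ #(Σ i, M i) :=
      Cardinal.mk_le_of_injective (f := fun m : M i => (⟨i, m⟩ : Σ i, M i))
        (fun a b hab => by simpa using hab)
    exact (h1.trans_lt (Cardinal.cantor _)).trans_le (by rw [← Cardinal.mk_set]; exact hJK)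
  exact exists_ringHom_of_card_lt_field ψ (φ i) hMi

end Groth.Agent.Lib.BigField2H6
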