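import Mathlib
import Groth.Prelude

set_option autoImplicit false
set_option linter.style.haveILetI false
set_option linter.unusedVariables false

universe u

open CategoryTheory CategoryTheory.Limits AlgebraicGeometry TopologicalSpace TensorProduct

attribute [local instance] Curv2.resAlgebra

namespace Groth.Agent.Lib.BigFieldJacH4

/-- A field extension of dimension less than the cardinality of the base field is algebraic. -/
theorem isAlgebraic_of_rank_lt (K L : Type u) [Field K] [Field L] [Algebra K L]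
    (h : Module.rank K L < Cardinal.mk K) : Algebra.IsAlgebraic K L := by
  refine ⟨fun x => ?_⟩
  by_contra hx
  have hli := Transcendental.linearIndependent_sub_inv (F := K) (E := L) (x := x) hx
  have h1 : Cardinal.mk K ≤ Module.rank K L := hli.cardinal_le_rank
  exact absurd (lt_of_le_of_lt h1 h) (lt_irrefl _)

theorem rank_away_le (K D : Type u) [Field K] [CommRing D] [Algebra K D] (f' : D) :
    Module.rank K (Localization.Away f') ≤ Cardinal.aleph0 * Module.rank K D := by
  let u : Localization.Away f' := IsLocalization.Away.invSelf f'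
  have hu : algebraMap D (Localization.Away f') f' * u = 1 := IsLocalization.Away.mul_invSelf f'
  let ψ : (ℕ →₀ D) →ₗ[K] Localization.Away f' :=
    Finsupp.lsum K (fun n : ℕ => (LinearMap.mulLeft K (u ^ n)).comp
      (IsScalarTower.toAlgHom K D (Localization.Away f')).toLinearMap)
  have hψ : Function.Surjective ψ := by
    intro e
    obtain ⟨⟨d, s⟩, hds⟩ := IsLocalization.surj (Submonoid.powers f') e
    obtain ⟨n, hn'⟩ := s.2
    have hn : f' ^ n = (s : D) := hn'
    refine ⟨Finsupp.single n d, ?_⟩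
    have h1 : e * (algebraMap D (Localization.Away f') f') ^ n =
        algebraMap D (Localization.Away f') d := by
      rw [← map_pow (algebraMap D (Localization.Away f')) f' n, hn]; exact hds
    have h2 : ψ (Finsupp.single n d) = u ^ n * algebraMap D (Localization.Away f') d := by
      show Finsupp.lsum K _ (Finsupp.single n d) = _
      rw [Finsupp.lsum_single]
      rfl
    rw [h2]
    calc u ^ n * algebraMap D (Localization.Away f') d
        = u ^ n * (e * (algebraMap D (Localization.Away f') f') ^ n) := by rw [h1]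
      _ = e * (algebraMap D (Localization.Away f') f' * u) ^ n := by ring
      _ = e := by rw [hu, one_pow, mul_one]
  calc Module.rank K (Localization.Away f') ≤ Module.rank K (ℕ →₀ D) :=
        LinearMap.rank_le_of_surjective ψ hψ
    _ = Cardinal.aleph0 * Module.rank K D := by rw [rank_finsupp]; simp

/-- A `K`-algebra of dimension less than `#K` (`K` uncountable) is Jacobson with algebraic
residue fields at maximal ideals. -/
theorem jacobson_of_rank_lt (K B : Type u) [Field K] [CommRing B] [Algebra K B]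
    (h : max Cardinal.aleph0 (Module.rank K B) < Cardinal.mk K) :
    IsJacobsonRing B ∧ ∀ m : Ideal B, m.IsMaximal → Algebra.IsAlgebraic K (B ⧸ m) := by
  have hB : Module.rank K B < Cardinal.mk K := lt_of_le_of_lt (le_max_right _ _) h
  have hmax : ∀ m : Ideal B, m.IsMaximal → Algebra.IsAlgebraic K (B ⧸ m) := by
    intro m hm
    haveI := hm
    letI : Field (B ⧸ m) := Ideal.Quotient.field m
    have hr : Module.rank K (B ⧸ m) ≤ Module.rank K B :=
      LinearMap.rank_le_of_surjective (Ideal.Quotient.mkₐ K m).toLinearMap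
        (Ideal.Quotient.mkₐ_surjective K m)
    exact isAlgebraic_of_rank_lt K (B ⧸ m) (lt_of_le_of_lt hr hB)
  refine ⟨?_, hmax⟩
  rw [isJacobsonRing_iff_prime_eq]
  intro P hP
  haveI := hP
  refine le_antisymm ?_ Ideal.le_jacobson
  intro f hf
  by_contra hfP
  have hf' : Ideal.Quotient.mk P f ≠ 0 := fun h0 => hfP (Ideal.Quotient.eq_zero_iff_mem.mp h0)
  haveI : IsDomain (B ⧸ P) := Ideal.Quotient.isDomain P
  haveI : Nontrivial (Localization.Away (Ideal.Quotient.mk P f)) :=
    (IsLocalization.injective (Localization.Away (Ideal.Quotient.mk P f))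
      (powers_le_nonZeroDivisors_of_noZeroDivisors hf')).nontrivial
  obtain ⟨𝔫, h𝔫⟩ := Ideal.exists_maximal (Localization.Away (Ideal.Quotient.mk P f))
  haveI := h𝔫
  letI : Field (Localization.Away (Ideal.Quotient.mk P f) ⧸ 𝔫) := Ideal.Quotient.field 𝔫
  have hrD : Module.rank K (B ⧸ P) ≤ Module.rank K B :=
    LinearMap.rank_le_of_surjective (Ideal.Quotient.mkₐ K P).toLinearMap
      (Ideal.Quotient.mkₐ_surjective K P)
  have hrE : Module.rank K (Localization.Away (Ideal.Quotient.mk P f)) ≤
      Cardinal.aleph0 * Module.rank K B :=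
    le_trans (rank_away_le K (B ⧸ P) _) (mul_le_mul' le_rfl hrD)
  have hrL : Module.rank K (Localization.Away (Ideal.Quotient.mk P f) ⧸ 𝔫) < Cardinal.mk K := by
    refine lt_of_le_of_lt (le_trans (LinearMap.rank_le_of_surjective
      (Ideal.Quotient.mkₐ K 𝔫).toLinearMap (Ideal.Quotient.mkₐ_surjective K 𝔫)) hrE) ?_
    exact lt_of_le_of_lt (Cardinal.mul_le_max_of_aleph0_le_left (le_refl _)) h
  haveI halg : Algebra.IsAlgebraic K (Localization.Away (Ideal.Quotient.mk P f) ⧸ 𝔫) :=
    isAlgebraic_of_rank_lt K _ hrL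
  haveI hint : Algebra.IsIntegral K (Localization.Away (Ideal.Quotient.mk P f) ⧸ 𝔫) :=
    Algebra.IsAlgebraic.isIntegral
  let G : B →ₐ[K] (Localization.Away (Ideal.Quotient.mk P f) ⧸ 𝔫) :=
    (Ideal.Quotient.mkₐ K 𝔫).comp
      ((IsScalarTower.toAlgHom K (B ⧸ P) (Localization.Away (Ideal.Quotient.mk P f))).comp
        (Ideal.Quotient.mkₐ K P))
  have hGint : G.toRingHom.IsIntegral := by
    refine RingHom.IsIntegral.tower_top (algebraMap K B) G.toRingHom ?_
    have hcomp : G.toRingHom.comp (algebraMap K B) =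
        algebraMap K (Localization.Away (Ideal.Quotient.mk P f) ⧸ 𝔫) :=
      RingHom.ext fun c => G.commutes c
    rw [hcomp]
    exact algebraMap_isIntegral_iff.mpr hint
  haveI hbot : (⊥ : Ideal (Localization.Away (Ideal.Quotient.mk P f) ⧸ 𝔫)).IsMaximal :=
    Ideal.bot_isMaximal
  have hm : (Ideal.comap G.toRingHom ⊥).IsMaximal :=
    Ideal.isMaximal_comap_of_isIntegral_of_isMaximal' G.toRingHom hGint ⊥
  have hPm : P ≤ Ideal.comap G.toRingHom ⊥ := by
    intro p hp
    rw [Ideal.mem_comap, Ideal.mem_bot]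
    show Ideal.Quotient.mk 𝔫 (algebraMap (B ⧸ P) (Localization.Away (Ideal.Quotient.mk P f))
      (Ideal.Quotient.mk P p)) = 0
    rw [Ideal.Quotient.eq_zero_iff_mem.mpr hp, map_zero, map_zero]
  have hfm : f ∉ Ideal.comap G.toRingHom ⊥ := by
    intro hfm
    rw [Ideal.mem_comap, Ideal.mem_bot] at hfm
    have h0 : Ideal.Quotient.mk 𝔫 (algebraMap (B ⧸ P) (Localization.Away (Ideal.Quotient.mk P f))
      (Ideal.Quotient.mk P f)) = 0 := hfm
    have h1 : algebraMap (B ⧸ P) (Localization.Away (Ideal.Quotient.mk P f))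
        (Ideal.Quotient.mk P f) ∈ 𝔫 := Ideal.Quotient.eq_zero_iff_mem.mp h0
    have h2 : IsUnit (algebraMap (B ⧸ P) (Localization.Away (Ideal.Quotient.mk P f))
        (Ideal.Quotient.mk P f)) :=
      IsLocalization.map_units _
        (⟨Ideal.Quotient.mk P f, Submonoid.mem_powers _⟩ : Submonoid.powers (Ideal.Quotient.mk P f))
    exact h𝔫.ne_top (Ideal.eq_top_of_isUnit_mem 𝔫 h1 h2)
  have hfm' : f ∈ Ideal.comap G.toRingHom ⊥ := by
    rw [Ideal.jacobson, Ideal.mem_sInf] at hf
    exact hf ⟨hPm, hm⟩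
  exact hfm hfm'

theorem jacobson_of_rank_lt' (K B : Type u) [Field K] [CommRing B] (θ : K →+* B)
    (h : letI := θ.toAlgebra; max Cardinal.aleph0 (Module.rank K B) < Cardinal.mk K) :
    IsJacobsonRing B ∧
      ∀ m : Ideal B, m.IsMaximal → ((Ideal.Quotient.mk m).comp θ).IsIntegral := by
  letI : Algebra K B := θ.toAlgebra
  obtain ⟨h1, h2⟩ := jacobson_of_rank_lt K B h
  refine ⟨h1, fun m hm => ?_⟩
  haveI := h2 m hm
  have hint : Algebra.IsIntegral K (B ⧸ m) := Algebra.IsAlgebraic.isIntegral
  exact algebraMap_isIntegral_iff.mpr hint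

theorem rank_tensor_le (k K R : Type u) [Field k] [Field K] [Algebra k K] [CommRing R]
    [Algebra k R] :
    letI : Algebra K (R ⊗[k] K) :=
      (Algebra.TensorProduct.includeRight : K →ₐ[k] R ⊗[k] K).toRingHom.toAlgebra
    Module.rank K (R ⊗[k] K) ≤ Cardinal.mk R := by
  letI : Algebra K (R ⊗[k] K) :=
    (Algebra.TensorProduct.includeRight : K →ₐ[k] R ⊗[k] K).toRingHom.toAlgebra
  have hsmul : ∀ (c : K) (x : R ⊗[k] K), c • x = (1 ⊗ₜ[k] c) * x :=
    fun c x => Algebra.smul_def c x
  have hspan : Submodule.span K (Set.range (fun r : R => (r ⊗ₜ[k] (1 : K) : R ⊗[k] K))) = ⊤ := by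
    rw [eq_top_iff]
    rintro x -
    induction x using TensorProduct.induction_on with
    | zero => exact Submodule.zero_mem _
    | tmul r c =>
      have hrc : r ⊗ₜ[k] c = c • (r ⊗ₜ[k] (1 : K) : R ⊗[k] K) := by
        rw [hsmul, Algebra.TensorProduct.tmul_mul_tmul, one_mul, mul_one]
      rw [hrc]
      exact Submodule.smul_mem _ _ (Submodule.subset_span ⟨r, rfl⟩)
    | add x y hx hy => exact Submodule.add_mem _ hx hy
  calc Module.rank K (R ⊗[k] K) = Module.rank K (⊤ : Submodule K (R ⊗[k] K)) := (rank_top K _).symm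
    _ = Module.rank K (Submodule.span K
          (Set.range (fun r : R => (r ⊗ₜ[k] (1 : K) : R ⊗[k] K)))) := by rw [hspan]
    _ ≤ Cardinal.mk (Set.range (fun r : R => (r ⊗ₜ[k] (1 : K) : R ⊗[k] K))) := rank_span_le _
    _ ≤ Cardinal.mk R := Cardinal.mk_range_le

theorem integral_comp_of_surj {K B L : Type u} [Field K] [CommRing B] [Field L] (θ : K →+* B)
    (ψ : B →+* L) (hψ : Function.Surjective ψ)
    (hint : ∀ m : Ideal B, m.IsMaximal → ((Ideal.Quotient.mk m).comp θ).IsIntegral) :
    (ψ.comp θ).IsIntegral := by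
  have hm : (RingHom.ker ψ).IsMaximal := RingHom.ker_isMaximal_of_surjective ψ hψ
  have h1 := hint _ hm
  have h2 : (Ideal.Quotient.lift (RingHom.ker ψ) ψ (fun a ha => RingHom.mem_ker.mp ha)).IsIntegral :=
    RingHom.isIntegral_of_surjective _ (Ideal.Quotient.lift_surjective_of_surjective _ _ hψ)
  have h3 : ψ.comp θ = (Ideal.Quotient.lift (RingHom.ker ψ) ψ
      (fun a ha => RingHom.mem_ker.mp ha)).comp ((Ideal.Quotient.mk (RingHom.ker ψ)).comp θ) :=
    RingHom.ext fun c => by simp
  rw [h3]
  exact RingHom.IsIntegral.trans _ _ h1 h2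

theorem isAlgebraic_toAlgebra (K L : Type u) [Field K] [CommRing L] (φ : K →+* L)
    (h : φ.IsIntegral) : @Algebra.IsAlgebraic K L _ _ φ.toAlgebra := by
  letI := φ.toAlgebra
  haveI : Algebra.IsIntegral K L := algebraMap_isIntegral_iff.mp h
  exact Algebra.IsIntegral.isAlgebraic

/-- Integrality of the structure map to the residue field at a closed point in an affine chart. -/
theorem resMap_integral (K : Type u) [Field K] (Y : Scheme.{u})
    (s : Y ⟶ Spec (CommRingCat.of K)) (B : Type u) [CommRing B]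
    (c : Spec (CommRingCat.of B) ⟶ Y) [IsOpenImmersion c] (θ : K →+* B)
    (hθ : c ≫ s = Spec.map (CommRingCat.ofHom θ))
    (hint : ∀ m : Ideal B, m.IsMaximal → ((Ideal.Quotient.mk m).comp θ).IsIntegral)
    (z : ↥(Spec (CommRingCat.of B))) (hz : z.asIdeal.IsMaximal) :
    ((Y.residue (c z)).hom.comp
      ((Y.presheaf.germ ⊤ (c z) trivial).hom.comp (Coh.toGlobal s))).IsIntegral := by
  haveI := hz
  have hρinj : Function.Injective (c.residueFieldMap z).hom :=
    RingHom.injective (c.residueFieldMap z).hom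
  refine RingHom.IsIntegral.tower_bot _ (c.residueFieldMap z).hom hρinj ?_
  have h4 : (Scheme.ΓSpecIso (CommRingCat.of B)).inv ≫ (Spec (CommRingCat.of B)).Γevaluation z =
      CommRingCat.ofHom (algebraMap B z.asIdeal.ResidueField) ≫
        (Scheme.Spec.residueFieldIso (CommRingCat.of B) z).inv :=
    (Scheme.Spec.algebraMap_residueFieldIso_inv (CommRingCat.of B) z).symm
  have hchain : (Scheme.ΓSpecIso (CommRingCat.of K)).inv ≫ s.appTop ≫ Y.Γevaluation (c z) ≫
      c.residueFieldMap z =
      CommRingCat.ofHom θ ≫ CommRingCat.ofHom (algebraMap B z.asIdeal.ResidueField) ≫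
        (Scheme.Spec.residueFieldIso (CommRingCat.of B) z).inv := by
    rw [Scheme.Γevaluation_naturality, ← Category.assoc s.appTop, ← Scheme.Hom.comp_appTop, hθ,
      ← Scheme.ΓSpecIso_inv_naturality_assoc, h4]
  have hψsurj : Function.Surjective
      ((CommRingCat.ofHom (algebraMap B z.asIdeal.ResidueField) ≫
        (Scheme.Spec.residueFieldIso (CommRingCat.of B) z).inv).hom) :=
    ((Scheme.Spec.residueFieldIso (CommRingCat.of B)
      z).commRingCatIsoToRingEquiv.symm.surjective).comp
      z.asIdeal.algebraMap_residueField_surjective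
  have key : (c.residueFieldMap z).hom.comp ((Y.residue (c z)).hom.comp
      ((Y.presheaf.germ ⊤ (c z) trivial).hom.comp (Coh.toGlobal s))) =
      ((CommRingCat.ofHom (algebraMap B z.asIdeal.ResidueField) ≫
        (Scheme.Spec.residueFieldIso (CommRingCat.of B) z).inv).hom).comp θ := by
    refine RingHom.ext fun a => ?_
    have := congrArg (fun h => h.hom a) hchain
    exact this
  rw [key]
  exact integral_comp_of_surj θ _ hψsurj hint

theorem chart_exists (k K : Type u) [Field k] [Field K] [Algebra k K] {X : Scheme.{u}}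
    (sX : X ⟶ Spec (CommRingCat.of k)) (R : Type u) [CommRing R]
    (j : Spec (CommRingCat.of R) ⟶ X) [IsOpenImmersion j]
    (hR : Cardinal.mk R < Cardinal.mk K) (hK : Cardinal.aleph0 < Cardinal.mk K) :
    ∃ (B : CommRingCat.{u})
      (c : Spec B ⟶ pullback sX (Spec.map (CommRingCat.ofHom (algebraMap k K))))
      (θ : K →+* B),
      IsOpenImmersion c ∧
      c ≫ pullback.snd sX (Spec.map (CommRingCat.ofHom (algebraMap k K))) =
        Spec.map (CommRingCat.ofHom θ) ∧
      Set.range c = (pullback.fst sX (Spec.map (CommRingCat.ofHom (algebraMap k K)))) ⁻¹'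
        (Set.range j) ∧
      IsJacobsonRing B ∧
      ∀ m : Ideal B, m.IsMaximal → ((Ideal.Quotient.mk m).comp θ).IsIntegral := by
  let φ : CommRingCat.of k ⟶ CommRingCat.of R := Spec.preimage (j ≫ sX)
  have hφ : Spec.map φ = j ≫ sX := Spec.map_preimage _
  letI : Algebra k R := φ.hom.toAlgebra
  have hφ' : Spec.map (CommRingCat.ofHom (algebraMap k R)) = j ≫ sX := hφ
  have e₁ : Spec.map (CommRingCat.ofHom (algebraMap k R)) ≫ 𝟙 (Spec (CommRingCat.of k)) =
      j ≫ sX := by rw [Category.comp_id]; exact hφ'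
  have e₂ : Spec.map (CommRingCat.ofHom (algebraMap k K)) ≫ 𝟙 (Spec (CommRingCat.of k)) =
      𝟙 _ ≫ Spec.map (CommRingCat.ofHom (algebraMap k K)) := by
    rw [Category.comp_id, Category.id_comp]
  haveI : IsOpenImmersion (pullback.map (Spec.map (CommRingCat.ofHom (algebraMap k R)))
      (Spec.map (CommRingCat.ofHom (algebraMap k K))) sX
      (Spec.map (CommRingCat.ofHom (algebraMap k K))) j (𝟙 _) (𝟙 _) e₁ e₂) := inferInstance
  let θ : K →+* (R ⊗[k] K) := (Algebra.TensorProduct.includeRight : K →ₐ[k] R ⊗[k] K).toRingHom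
  have hrank : letI := θ.toAlgebra;
      max Cardinal.aleph0 (Module.rank K (R ⊗[k] K)) < Cardinal.mk K :=
    max_lt hK (lt_of_le_of_lt (rank_tensor_le k K R) hR)
  obtain ⟨hjac, hint⟩ := jacobson_of_rank_lt' K (R ⊗[k] K) θ hrank
  refine ⟨CommRingCat.of (R ⊗[k] K), (pullbackSpecIso k R K).inv ≫
    pullback.map (Spec.map (CommRingCat.ofHom (algebraMap k R)))
      (Spec.map (CommRingCat.ofHom (algebraMap k K))) sX
      (Spec.map (CommRingCat.ofHom (algebraMap k K))) j (𝟙 _) (𝟙 _) e₁ e₂, θ, inferInstance,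
    ?_, ?_, hjac, hint⟩
  · rw [Category.assoc, pullback.lift_snd, Category.comp_id]
    exact pullbackSpecIso_inv_snd k R K
  · have h1 : Set.range ((pullbackSpecIso k R K).inv ≫
        pullback.map (Spec.map (CommRingCat.ofHom (algebraMap k R)))
          (Spec.map (CommRingCat.ofHom (algebraMap k K))) sX
          (Spec.map (CommRingCat.ofHom (algebraMap k K))) j (𝟙 _) (𝟙 _) e₁ e₂) =
        Set.range (pullback.map (Spec.map (CommRingCat.ofHom (algebraMap k R)))
          (Spec.map (CommRingCat.ofHom (algebraMap k K))) sX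
          (Spec.map (CommRingCat.ofHom (algebraMap k K))) j (𝟙 _) (𝟙 _) e₁ e₂) := by
      ext w
      constructor
      · rintro ⟨a, rfl⟩
        exact ⟨(pullbackSpecIso k R K).inv a, (Scheme.Hom.comp_apply _ _ _).symm⟩
      · rintro ⟨b, rfl⟩
        refine ⟨(pullbackSpecIso k R K).hom b, ?_⟩
        rw [Scheme.Hom.comp_apply, ← Scheme.Hom.comp_apply (pullbackSpecIso k R K).hom,
          Iso.hom_inv_id]
        rfl
    rw [h1, Scheme.Pullback.range_map]
    refine Set.inter_eq_left.mpr (fun w _ =>
      ⟨(pullback.snd sX (Spec.map (CommRingCat.ofHom (algebraMap k K)))) w, ?_⟩)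
    rfl

theorem main (k : Type u) [Field k] (X : Scheme.{u}) [X.Over (Spec (CommRingCat.of k))] :
    ∃ κ : Cardinal.{u}, ∀ (K : Type u) [Field K] [Algebra k K], κ ≤ Cardinal.mk K →
      JacobsonSpace ↥(Curv2.bc k X K) ∧
        ∀ x : ↥(Curv2.bc k X K), IsClosed ({x} : Set ↥(Curv2.bc k X K)) →
          letI : (Curv2.bc k X K).Over (Spec (CommRingCat.of K)) := ⟨Curv2.bcSnd k X K⟩
          Algebra.IsAlgebraic K ((Curv2.bc k X K).residueField x) := by
  classical
  refine ⟨Order.succ (max Cardinal.aleph0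
    (Cardinal.mk (Σ i : X.affineOpenCover.I₀, X.affineOpenCover.X i))), ?_⟩
  intro K _ _ hκ
  have hlt : max Cardinal.aleph0
      (Cardinal.mk (Σ i : X.affineOpenCover.I₀, X.affineOpenCover.X i)) < Cardinal.mk K :=
    lt_of_lt_of_le (Order.lt_succ _) hκ
  have haleph : Cardinal.aleph0 < Cardinal.mk K := lt_of_le_of_lt (le_max_left _ _) hlt
  have hcard : ∀ i, Cardinal.mk (X.affineOpenCover.X i) < Cardinal.mk K := fun i =>
    lt_of_le_of_lt (le_trans (Cardinal.mk_le_of_injective
      (f := fun a => (⟨i, a⟩ : Σ i : X.affineOpenCover.I₀, X.affineOpenCover.X i))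
      (fun a b hab => by cases hab; rfl))
      (le_max_right _ _)) hlt
  have hchart : ∀ i : X.affineOpenCover.I₀, ∃ (B : CommRingCat.{u})
      (c : Spec B ⟶ Curv2.bc k X K) (θ : K →+* B),
      IsOpenImmersion c ∧
      c ≫ Curv2.bcSnd k X K = Spec.map (CommRingCat.ofHom θ) ∧
      Set.range c = (Curv2.bcFst k X K) ⁻¹' (Set.range (X.affineOpenCover.f i)) ∧
      IsJacobsonRing B ∧
      ∀ m : Ideal B, m.IsMaximal → ((Ideal.Quotient.mk m).comp θ).IsIntegral := by
    intro i
    haveI : IsOpenImmersion (X.affineOpenCover.f i) := X.affineOpenCover.map_prop i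
    exact @chart_exists k K _ _ _ X (X ↘ Spec (CommRingCat.of k)) (X.affineOpenCover.X i) _
      (X.affineOpenCover.f i) (X.affineOpenCover.map_prop i) (hcard i) haleph
  choose B c θ hc_open hc_snd hc_range hB_jac hB_int using hchart
  haveI := hc_open
  have hcover : ∀ w : ↥(Curv2.bc k X K), ∃ i z, c i z = w := by
    intro w
    have hw : w ∈ Set.range (c (X.affineOpenCover.idx (Curv2.bcFst k X K w))) := by
      rw [hc_range]
      exact X.affineOpenCover.covers _
    exact ⟨_, hw⟩
  constructor
  · have hU : IsOpenCover (fun i => (c i).opensRange) := by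
      show (⨆ i, (c i).opensRange) = ⊤
      rw [eq_top_iff]
      intro w _
      obtain ⟨i, z, hz⟩ := hcover w
      exact Opens.mem_iSup.mpr ⟨i, z, hz⟩
    rw [hU.jacobsonSpace_iff]
    intro i
    haveI : IsJacobsonRing (B i) := hB_jac i
    haveI : JacobsonSpace (Spec (B i)) := inferInstance
    let e := (c i).isOpenEmbedding.isEmbedding.toHomeomorph
    exact .of_isClosedEmbedding e.symm.isClosedEmbedding
  · intro x hx
    obtain ⟨i, z, hz⟩ := hcover x
    have hzcl : IsClosed ({z} : Set (Spec (B i))) := by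
      have hpre : ({z} : Set (Spec (B i))) = (c i) ⁻¹' {x} := by
        ext z'
        simp only [Set.mem_singleton_iff, Set.mem_preimage]
        constructor
        · rintro rfl; exact hz
        · intro h; exact (c i).isOpenEmbedding.injective (h.trans hz.symm)
      rw [hpre]; exact hx.preimage (c i).continuous
    have hzmax : z.asIdeal.IsMaximal :=
      (PrimeSpectrum.isClosed_singleton_iff_isMaximal z).mp hzcl
    subst hz
    letI : (Curv2.bc k X K).Over (Spec (CommRingCat.of K)) := ⟨Curv2.bcSnd k X K⟩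
    exact isAlgebraic_toAlgebra K _ (Curv2.resMap K (Curv2.bc k X K) (c i z))
      (resMap_integral K (Curv2.bc k X K) (Curv2.bcSnd k X K) (B i) (c i) (θ i) (hc_snd i)
        (hB_int i) z hzmax)

end Groth.Agent.Lib.BigFieldJacH4
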