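import Groth.Agent.Lib.BigField_helper6
import Groth.Agent.Lib.EtNbhdFin6_helper4
import Groth.Agent.Lib.AlgSpEtale_helper7
import Mathlib.AlgebraicGeometry.AlgClosed.Basic
import Mathlib.AlgebraicGeometry.PullbackCarrier

/-!
# Lifting points with values in a large algebraically closed field (helper6)
-/

set_option autoImplicit false
universe u
open CategoryTheory CategoryTheory.Limits AlgebraicGeometry Cardinal

namespace Groth.Agent.Lib.BigFieldSchH6

open Groth.Agent.Lib.BigFieldH6

/-- A nonempty scheme locally of finite type over an algebraically closed field has a rational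
point. -/
theorem exists_section_of_lft_algClosed {k : Type u} [Field k] [IsAlgClosed k] {U : Scheme.{u}}
    (g : U ⟶ Spec (CommRingCat.of k)) [LocallyOfFiniteType g] [Nonempty ↥U] :
    ∃ τ : Spec (CommRingCat.of k) ⟶ U, τ ≫ g = 𝟙 _ := by
  haveI : JacobsonSpace ↥U := LocallyOfFiniteType.jacobsonSpace g
  have hne : (closedPoints ↥U).Nonempty := by
    by_contra h
    rw [Set.not_nonempty_iff_eq_empty] at h
    have h1 : closure (closedPoints ↥U) = Set.univ := closure_closedPoints
    rw [h, closure_empty] at h1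
    exact Set.empty_ne_univ h1
  obtain ⟨u₀, hu₀⟩ := hne
  exact ⟨pointOfClosedPoint g u₀ hu₀, pointOfClosedPoint_comp g u₀ hu₀⟩

set_option backward.isDefEq.respectTransparency.types false in
/-- Lifting a point with values in a large algebraically closed field along a morphism to an
affine scheme, through a given point with small residue field. -/
theorem exists_lift_of_card_lt {K : Type u} [Field K] [IsAlgClosed K] {V W : Scheme.{u}}
    [IsAffine V] (p : W ⟶ V) (vbar : Spec (CommRingCat.of K) ⟶ V) (w : W)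
    (hw : p w = vbar (IsLocalRing.closedPoint K))
    (hcard : #(W.residueField w) < #K) :
    ∃ wbar : Spec (CommRingCat.of K) ⟶ W, wbar ≫ p = vbar ∧
      wbar (IsLocalRing.closedPoint K) = w := by
  obtain ⟨β', hβ'⟩ : ∃ β' : Spec (W.residueField w) ⟶ V, β' = W.fromSpecResidueField w ≫ p :=
    ⟨_, rfl⟩
  have hpt : vbar (IsLocalRing.closedPoint K) =
      β' (IsLocalRing.closedPoint (W.residueField w)) := by
    rw [hβ', Scheme.Hom.comp_apply, Scheme.fromSpecResidueField_apply, hw]
  obtain ⟨q, -, -⟩ := Scheme.Pullback.exists_preimage_pullback (f := vbar) (g := β') _ _ hpt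
  -- the common extension
  obtain ⟨iΩ, hiΩ⟩ : ∃ iΩ : CommRingCat.of K ⟶ (pullback vbar β').residueField q,
      Spec.map iΩ = (pullback vbar β').fromSpecResidueField q ≫ pullback.fst vbar β' :=
    ⟨Spec.preimage _, Spec.map_preimage _⟩
  obtain ⟨jΩ, hjΩ⟩ : ∃ jΩ : W.residueField w ⟶ (pullback vbar β').residueField q,
      Spec.map jΩ = (pullback vbar β').fromSpecResidueField q ≫ pullback.snd vbar β' :=
    ⟨Spec.preimage _, Spec.map_preimage _⟩
  have hcomm : Spec.map iΩ ≫ vbar = Spec.map jΩ ≫ β' := by
    rw [hiΩ, hjΩ, Category.assoc, Category.assoc, pullback.condition]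
  -- ring maps
  let α : Γ(V, ⊤) ⟶ CommRingCat.of K := vbar.appTop ≫ (Scheme.ΓSpecIso _).hom
  let β : Γ(V, ⊤) ⟶ W.residueField w := β'.appTop ≫ (Scheme.ΓSpecIso _).hom
  have hαβ : α ≫ iΩ = β ≫ jΩ := by
    have h1 := congrArg (fun m => Scheme.Hom.appTop m) hcomm
    simp only [Scheme.Hom.comp_appTop] at h1
    have h2 := congrArg (fun m => m ≫ (Scheme.ΓSpecIso _).hom) h1
    simp only [Category.assoc, Scheme.ΓSpecIso_naturality] at h2
    simpa [α, β, Category.assoc] using h2
  obtain ⟨ρ, hρ⟩ := exists_ringHom_of_card_lt (K := K) (M := W.residueField w)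
    (Ω := (pullback vbar β').residueField q) α.hom β.hom iΩ.hom jΩ.hom
    (by rw [← CommRingCat.hom_comp, ← CommRingCat.hom_comp, hαβ]) hcard
  have hρ' : β ≫ CommRingCat.ofHom ρ = α := by
    ext1
    exact hρ
  refine ⟨Spec.map (CommRingCat.ofHom ρ) ≫ W.fromSpecResidueField w, ?_, ?_⟩
  · rw [Category.assoc, ← hβ']
    apply ext_of_isAffine
    rw [Scheme.Hom.comp_appTop]
    have h3 : (Spec.map (CommRingCat.ofHom ρ)).appTop =
        (Scheme.ΓSpecIso _).hom ≫ CommRingCat.ofHom ρ ≫ (Scheme.ΓSpecIso _).inv := by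
      rw [← Scheme.ΓSpecIso_naturality_assoc, Iso.hom_inv_id, Category.comp_id]
    rw [h3, ← Category.assoc, ← Category.assoc]
    change (β ≫ CommRingCat.ofHom ρ) ≫ _ = _
    rw [hρ']
    simp [α]
  · rw [Scheme.Hom.comp_apply, Scheme.fromSpecResidueField_apply]

/-- Residue fields of points of a scheme étale over `U` are small if those of `U` are. -/
theorem card_residueField_lt_of_etale {K : Type u} [Infinite K] {W U : Scheme.{u}} (s : W ⟶ U)
    [Etale s] (w : W) (h : #(U.residueField (s w)) < #K) : #(W.residueField w) < #K := by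
  haveI : LocallyQuasiFinite s :=
    Groth.Agent.Lib.AlgSpEtale_helper7.locallyQuasiFinite_of_unramified s
  exact card_lt_of_finite (s.residueFieldMap w).hom
    (Groth.Agent.Lib.EtNbhdFinH4.finite_residueFieldMap s w (Scheme.Hom.quasiFiniteAt s w)) h

end Groth.Agent.Lib.BigFieldSchH6
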