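import Mathlib
import Groth.Prelude.Def_GrLC
import Groth.Agent.Lib.GrLES3_helper1
import Groth.Agent.Lib.GrStar4_helper1

/-! A divisibility property of *injective graded modules and the torsion filtration (helper1).
APPEND-ONLY once landed. -/

set_option autoImplicit false

namespace Groth.Agent.Lib.DivH1

open DirectSum GrLC Groth.Agent.Lib.GrStarH1 Groth.Agent.Lib.GrStar2H1 Groth.Agent.Lib.GrStar3H1
  Groth.Agent.Lib.GrStar4H1 Groth.Agent.Lib.GrLES1H1 Groth.Agent.Lib.GrLES2H1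
  Groth.Agent.Lib.GrLES3H1

universe u

variable {ι : Type} [AddCommGroup ι] [DecidableEq ι]
variable {R : Type u} [CommRing R] (𝒜 : ι → AddSubgroup R) [GradedRing 𝒜]

/-- the divisibility property: inside every torsion submodule, every homogeneous element of the
ring divides every element up to a power of itself -/
def Div (X : GMod.{u} 𝒜) : Prop :=
  ∀ (𝔠 : HomogeneousIdeal 𝒜) (f : R) (j : ι), f ∈ 𝒜 j → ∀ y : X.carrier,
    y ∈ gam 𝔠.toIdeal X.carrier →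
    ∃ (n : ℕ) (z : X.carrier), z ∈ gam 𝔠.toIdeal X.carrier ∧ f ^ (n + 1) • z = f ^ n • y

omit [DecidableEq ι] [AddCommGroup ι] in
theorem exists_stable [IsNoetherianRing R] (𝔮 : Ideal R) (f : R) :
    ∃ n : ℕ, ∀ s : R, f ^ (n + 1) * s ∈ 𝔮 → f ^ n * s ∈ 𝔮 := by
  let K : ℕ → Submodule R R := fun n => Submodule.comap (LinearMap.mulLeft R (f ^ n)) 𝔮
  have hmem : ∀ n s, s ∈ K n ↔ f ^ n * s ∈ 𝔮 := fun n s => Iff.rfl
  have hmono : Monotone K := by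
    apply monotone_nat_of_le_succ
    intro n s hs
    rw [hmem] at hs ⊢
    rw [pow_succ', mul_assoc]
    exact Ideal.mul_mem_left 𝔮 f hs
  obtain ⟨n, hn⟩ := (monotone_stabilizes_iff_noetherian (R := R) (M := R)).2 inferInstance
    ⟨K, hmono⟩
  refine ⟨n, fun s hs => ?_⟩
  have h1 : s ∈ K (n + 1) := (hmem (n + 1) s).2 hs
  have h2 : K n = K (n + 1) := hn (n + 1) (Nat.le_succ n)
  rw [← h2] at h1
  exact (hmem n s).1 h1

attribute [local instance] shiftDecomp shift_gsmul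

theorem div_homog [IsNoetherianRing R] (X : GMod.{u} 𝒜) (hX : IsStarInj 𝒜 X.gr)
    (𝔠 : HomogeneousIdeal 𝒜) {f : R} {j : ι} (hf : f ∈ 𝒜 j) {y : X.carrier} {d : ι}
    (hyd : y ∈ X.gr d) (hy : y ∈ gam 𝔠.toIdeal X.carrier) :
    ∃ (n : ℕ) (z : X.carrier), z ∈ gam 𝔠.toIdeal X.carrier ∧ f ^ (n + 1) • z = f ^ n • y := by
  obtain ⟨a, ha⟩ := hy
  obtain ⟨𝔮, h𝔮⟩ : ∃ 𝔮 : Submodule R R, 𝔮 = 𝔠.toIdeal ^ a := ⟨_, rfl⟩
  have h𝔮hom : 𝔮.IsHomogeneous 𝒜 := by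
    rw [h𝔮]
    exact pow_isHomogeneous 𝒜 𝔠 a
  obtain ⟨n, hn⟩ := exists_stable 𝔮 f
  letI := quotDecomp 𝒜 𝔮 h𝔮hom
  haveI := quot_gsmul 𝒜 𝒜 𝔮
  have hQ : IsStarInj 𝒜 (shiftGr X.gr (d - j)) := shift_starInj 𝒜 X.gr hX (d - j)
  let p : R →ₗ[R] R ⧸ 𝔮 := 𝔮.mkQ ∘ₗ LinearMap.mulLeft R (f ^ (n + 1))
  let g : R →ₗ[R] X.carrier := LinearMap.toSpanSingleton R X.carrier y ∘ₗ
    LinearMap.mulLeft R (f ^ n)
  have hp1 : ∀ s, p s = 𝔮.mkQ (f ^ (n + 1) * s) := fun s => rfl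
  have hg1 : ∀ s, g s = (f ^ n * s) • y := fun s => rfl
  have hfn : ∀ m : ℕ, f ^ m ∈ 𝒜 (m • j) := fun m => SetLike.pow_mem_graded m hf
  have hp : IsGrHom (shiftGr 𝒜 (-((n + 1) • j))) (quotGr 𝒜 𝔮) p := by
    intro l s hs
    rw [hp1]
    apply mk_mem_quotGr 𝒜 𝔮
    have h1 : f ^ (n + 1) * s ∈ 𝒜 ((n + 1) • j + (-((n + 1) • j) + l)) :=
      SetLike.mul_mem_graded (hfn (n + 1)) hs
    exact mem_congr 𝒜 (by abel) h1
  have hg : IsGrHom (shiftGr 𝒜 (-((n + 1) • j))) (shiftGr X.gr (d - j)) g := by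
    intro l s hs
    rw [hg1]
    have h1 : f ^ n * s ∈ 𝒜 (n • j + (-((n + 1) • j) + l)) :=
      SetLike.mul_mem_graded (hfn n) hs
    have h2 := smul_mem_gr 𝒜 X.gr h1 hyd
    refine mem_congr X.gr ?_ h2
    rw [succ_nsmul]
    abel
  have hker : LinearMap.ker p ≤ LinearMap.ker g := by
    intro s hs
    rw [LinearMap.mem_ker, hp1, Submodule.mkQ_apply, Submodule.Quotient.mk_eq_zero] at hs
    rw [LinearMap.mem_ker, hg1]
    exact ha _ (h𝔮 ▸ hn s hs)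
  obtain ⟨h, -, hh⟩ := ext_through 𝒜 (shiftGr 𝒜 (-((n + 1) • j))) (quotGr 𝒜 𝔮)
    (shiftGr X.gr (d - j)) hQ p hp g hg hker
  refine ⟨n, h (𝔮.mkQ 1), ⟨a, fun r hr => ?_⟩, ?_⟩
  · rw [← map_smul, ← map_smul, smul_eq_mul, mul_one, Submodule.mkQ_apply,
      (Submodule.Quotient.mk_eq_zero 𝔮).2 (h𝔮 ▸ hr), map_zero]
  · have h3 : h (p 1) = g 1 := hh 1
    rw [hp1, hg1, mul_one, mul_one] at h3
    rw [← h3, ← map_smul]
    congr 1
    rw [← map_smul, smul_eq_mul, mul_one]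

theorem div_of_starInj [IsNoetherianRing R] (X : GMod.{u} 𝒜) (hX : IsStarInj 𝒜 X.gr) :
    Div 𝒜 X := by
  classical
  intro 𝔠 f j hf y hy
  have key : ∀ s : Finset ι, ∃ (n : ℕ) (z : X.carrier), z ∈ gam 𝔠.toIdeal X.carrier ∧
      f ^ (n + 1) • z = f ^ n • ∑ g ∈ s, ((decompose X.gr y g : X.gr g) : X.carrier) := by
    intro s
    induction s using Finset.induction_on with
    | empty => exact ⟨0, 0, zero_mem _, by simp⟩
    | insert g₀ s hg₀ ih =>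
      obtain ⟨n₁, z₁, hz₁, e₁⟩ := ih
      obtain ⟨n₂, z₂, hz₂, e₂⟩ := div_homog 𝒜 X hX 𝔠 hf
        (SetLike.coe_mem (decompose X.gr y g₀)) (gam_isHomogeneous 𝒜 X.gr 𝔠 g₀ hy)
      refine ⟨n₁ + n₂, z₁ + z₂, add_mem hz₁ hz₂, ?_⟩
      rw [Finset.sum_insert hg₀, smul_add, smul_add]
      have h1 : f ^ (n₁ + n₂ + 1) • z₁ =
          f ^ (n₁ + n₂) • ∑ g ∈ s, ((decompose X.gr y g : X.gr g) : X.carrier) := by
        rw [show n₁ + n₂ + 1 = n₂ + (n₁ + 1) by omega, pow_add, mul_smul, e₁, ← mul_smul,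
          ← pow_add, add_comm n₂ n₁]
      have h2 : f ^ (n₁ + n₂ + 1) • z₂ =
          f ^ (n₁ + n₂) • ((decompose X.gr y g₀ : X.gr g₀) : X.carrier) := by
        rw [show n₁ + n₂ + 1 = n₁ + (n₂ + 1) by omega, pow_add, mul_smul, e₂, ← mul_smul,
          ← pow_add]
      rw [h1, h2, add_comm]
  obtain ⟨n, z, hz, e⟩ := key (decompose X.gr y).support
  exact ⟨n, z, hz, by rw [e, DirectSum.sum_support_decompose]⟩

/-! ### torsion with respect to a sum of ideals -/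
section gam

variable {X : Type u} [AddCommGroup X] [Module R X]

omit [DecidableEq ι] [AddCommGroup ι] in
theorem gam_anti {I J : Ideal R} (h : I ≤ J) : gam J X ≤ gam I X := by
  rintro x ⟨n, hn⟩
  exact ⟨n, fun r hr => hn r (Ideal.pow_right_mono h n hr)⟩

omit [DecidableEq ι] [AddCommGroup ι] in
theorem mem_gam_sup {I J : Ideal R} {x : X} : x ∈ gam (I ⊔ J) X ↔ x ∈ gam I X ∧ x ∈ gam J X := by
  constructor
  · intro h
    exact ⟨gam_anti le_sup_left h, gam_anti le_sup_right h⟩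
  · rintro ⟨⟨a, ha⟩, ⟨b, hb⟩⟩
    refine ⟨a + b, fun r hr => ?_⟩
    have h1 : r ∈ I ^ a ⊔ J ^ b := Ideal.sup_pow_add_le_pow_sup_pow hr
    obtain ⟨r₁, hr₁, r₂, hr₂, rfl⟩ := Submodule.mem_sup.1 h1
    rw [add_smul, ha r₁ hr₁, hb r₂ hr₂, add_zero]

omit [DecidableEq ι] [AddCommGroup ι] in
theorem mem_gam_span_singleton {f : R} {x : X} :
    x ∈ gam (Ideal.span {f}) X ↔ ∃ n : ℕ, f ^ n • x = 0 := by
  constructor
  · rintro ⟨n, hn⟩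
    have h0 : f ∈ Ideal.span ({f} : Set R) := Ideal.subset_span (Set.mem_singleton f)
    exact ⟨n, hn (f ^ n) (Ideal.pow_mem_pow h0 n)⟩
  · rintro ⟨n, hn⟩
    refine ⟨n, fun r hr => ?_⟩
    have h1 : Ideal.span {f} ^ n = Ideal.span {f ^ n} := Ideal.span_singleton_pow f n
    have h2 : r ∈ Ideal.span {f ^ n} := h1 ▸ hr
    obtain ⟨s, hs⟩ := Ideal.mem_span_singleton'.1 h2
    rw [← hs, mul_smul, hn, smul_zero]

omit [DecidableEq ι] [AddCommGroup ι] in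
theorem gam_bot_eq_top : gam (⊥ : Ideal R) X = ⊤ := by
  rw [eq_top_iff]
  intro x _
  refine ⟨1, fun r hr => ?_⟩
  rw [pow_one, Ideal.mem_bot] at hr
  rw [hr, zero_smul]

end gam

/-- the homogeneous ideal generated by a homogeneous element -/
def spanH {f : R} {j : ι} (hf : f ∈ 𝒜 j) : HomogeneousIdeal 𝒜 :=
  ⟨Ideal.span {f}, Ideal.homogeneous_span 𝒜 {f} (by
    intro x hx
    rw [Set.mem_singleton_iff] at hx
    rw [hx]
    exact ⟨j, hf⟩)⟩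

theorem spanH_toIdeal {f : R} {j : ι} (hf : f ∈ 𝒜 j) : (spanH 𝒜 hf).toIdeal = Ideal.span {f} := rfl

/-- the torsion submodule, bundled as a graded module -/
noncomputable def gamG (X : GMod.{u} 𝒜) (𝔡 : HomogeneousIdeal 𝒜) : GMod.{u} 𝒜 :=
  subGMod 𝒜 X.gr (gam 𝔡.toIdeal X.carrier) (gam_isHomogeneous 𝒜 X.gr 𝔡)

/-- the inclusion of the torsion submodule -/
noncomputable def gamι (X : GMod.{u} 𝒜) (𝔡 : HomogeneousIdeal 𝒜) :
    (gamG 𝒜 X 𝔡).carrier →ₗ[R] X.carrier := (gam 𝔡.toIdeal X.carrier).subtype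

theorem gamι_injective (X : GMod.{u} 𝒜) (𝔡 : HomogeneousIdeal 𝒜) :
    Function.Injective (gamι 𝒜 X 𝔡) := Subtype.val_injective

theorem gamι_gr (X : GMod.{u} 𝒜) (𝔡 : HomogeneousIdeal 𝒜) :
    IsGrHom (gamG 𝒜 X 𝔡).gr X.gr (gamι 𝒜 X 𝔡) := fun _ _ h => h

theorem gamι_mem (X : GMod.{u} 𝒜) (𝔡 : HomogeneousIdeal 𝒜) (x : (gamG 𝒜 X 𝔡).carrier) :
    gamι 𝒜 X 𝔡 x ∈ gam 𝔡.toIdeal X.carrier := x.2

theorem range_gamι (X : GMod.{u} 𝒜) (𝔡 : HomogeneousIdeal 𝒜) :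
    LinearMap.range (gamι 𝒜 X 𝔡) = gam 𝔡.toIdeal X.carrier :=
  Submodule.range_subtype _

theorem div_gamG (X : GMod.{u} 𝒜) (hX : Div 𝒜 X) (𝔡 : HomogeneousIdeal 𝒜) :
    Div 𝒜 (gamG 𝒜 X 𝔡) := by
  intro 𝔠 f j hf y hy
  have hy1 : gamι 𝒜 X 𝔡 y ∈ gam (𝔠 ⊔ 𝔡).toIdeal X.carrier := by
    rw [HomogeneousIdeal.toIdeal_sup, mem_gam_sup]
    exact ⟨map_mem_gam (gamι 𝒜 X 𝔡) hy, gamι_mem 𝒜 X 𝔡 y⟩
  obtain ⟨n, z, hz, e⟩ := hX (𝔠 ⊔ 𝔡) f j hf _ hy1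
  rw [HomogeneousIdeal.toIdeal_sup, mem_gam_sup] at hz
  refine ⟨n, ⟨z, hz.2⟩, ?_, ?_⟩
  · exact mem_gam_of_injective (gamι 𝒜 X 𝔡) (gamι_injective 𝒜 X 𝔡) hz.1
  · apply gamι_injective 𝒜 X 𝔡
    rw [map_smul, map_smul]
    exact e

/-- the quotient by the torsion submodule, bundled as a graded module -/
noncomputable def quotG (X : GMod.{u} 𝒜) (𝔡 : HomogeneousIdeal 𝒜) : GMod.{u} 𝒜 :=
  quotGMod 𝒜 X.gr (gam 𝔡.toIdeal X.carrier) (gam_isHomogeneous 𝒜 X.gr 𝔡)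

/-- the projection to the quotient by the torsion submodule -/
noncomputable def quotπ (X : GMod.{u} 𝒜) (𝔡 : HomogeneousIdeal 𝒜) :
    X.carrier →ₗ[R] (quotG 𝒜 X 𝔡).carrier := (gam 𝔡.toIdeal X.carrier).mkQ

theorem quotπ_surjective (X : GMod.{u} 𝒜) (𝔡 : HomogeneousIdeal 𝒜) :
    Function.Surjective (quotπ 𝒜 X 𝔡) := Submodule.mkQ_surjective _

theorem quotπ_gr (X : GMod.{u} 𝒜) (𝔡 : HomogeneousIdeal 𝒜) :
    IsGrHom X.gr (quotG 𝒜 X 𝔡).gr (quotπ 𝒜 X 𝔡) :=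
  mkQ_isGrHom X.gr (gam 𝔡.toIdeal X.carrier)

theorem quotπ_eq_zero (X : GMod.{u} 𝒜) (𝔡 : HomogeneousIdeal 𝒜) (x : X.carrier) :
    quotπ 𝒜 X 𝔡 x = 0 ↔ x ∈ gam 𝔡.toIdeal X.carrier :=
  Submodule.Quotient.mk_eq_zero _

/-- the torsion short exact sequence -/
noncomputable def gamSES (X : GMod.{u} 𝒜) (𝔡 : HomogeneousIdeal 𝒜) :
    SES R (gamG 𝒜 X 𝔡).gr X.gr (quotG 𝒜 X 𝔡).gr where
  u := gamι 𝒜 X 𝔡
  p := quotπ 𝒜 X 𝔡
  hu := gamι_gr 𝒜 X 𝔡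
  hp := quotπ_gr 𝒜 X 𝔡
  inj := gamι_injective 𝒜 X 𝔡
  surj := quotπ_surjective 𝒜 X 𝔡
  exact := by
    rw [range_gamι]
    exact Submodule.ker_mkQ _

/-- a homogeneous element acts bijectively on the quotient by its torsion -/
theorem smul_bijective_quot (X : GMod.{u} 𝒜) (hX : Div 𝒜 X) {f : R} {j : ι} (hf : f ∈ 𝒜 j) :
    Function.Bijective (fun q : (quotG 𝒜 X (spanH 𝒜 hf)).carrier => f • q) := by
  constructor
  · intro q q' hqq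
    have hsub : f • (q - q') = 0 := by rw [smul_sub, sub_eq_zero]; exact hqq
    obtain ⟨x, hx⟩ := quotπ_surjective 𝒜 X (spanH 𝒜 hf) (q - q')
    rw [← hx, ← map_smul, quotπ_eq_zero, spanH_toIdeal, mem_gam_span_singleton] at hsub
    obtain ⟨n, hn⟩ := hsub
    have h0 : quotπ 𝒜 X (spanH 𝒜 hf) x = 0 := by
      rw [quotπ_eq_zero, spanH_toIdeal, mem_gam_span_singleton]
      exact ⟨n + 1, by rw [pow_succ, mul_smul]; exact hn⟩
    rw [h0] at hx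
    exact sub_eq_zero.1 hx.symm
  · intro q
    obtain ⟨x, rfl⟩ := quotπ_surjective 𝒜 X (spanH 𝒜 hf) q
    have hx : x ∈ gam (⊥ : HomogeneousIdeal 𝒜).toIdeal X.carrier := by
      rw [HomogeneousIdeal.toIdeal_bot, gam_bot_eq_top]
      trivial
    obtain ⟨n, z, -, e⟩ := hX ⊥ f j hf x hx
    refine ⟨quotπ 𝒜 X (spanH 𝒜 hf) z, ?_⟩
    show f • quotπ 𝒜 X (spanH 𝒜 hf) z = quotπ 𝒜 X (spanH 𝒜 hf) x
    rw [← map_smul, ← sub_eq_zero, ← map_sub, quotπ_eq_zero, spanH_toIdeal,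
      mem_gam_span_singleton]
    exact ⟨n, by rw [smul_sub, ← mul_smul, ← pow_succ, e, sub_self]⟩

end Groth.Agent.Lib.DivH1
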