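import Mathlib
import Groth.Prelude.Def_GrLC
import Groth.Agent.Lib.Div_helper1

/-! The direct sum of a sequence of graded modules, as a graded module, with its shift-type
endomorphisms (helper1).  APPEND-ONLY once landed. -/

set_option autoImplicit false

namespace Groth.Agent.Lib.BigGH1

open DirectSum GrLC Groth.Agent.Lib.GrLES1H1 Groth.Agent.Lib.DivH1

universe u

variable {ι : Type} [AddCommGroup ι] [DecidableEq ι]
variable {R : Type u} [CommRing R] {𝒜 : ι → AddSubgroup R} [GradedRing 𝒜]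
variable (X : ℕ → GMod.{u} 𝒜)

/-- the carrier of the direct sum -/
abbrev BigC : Type u := ⨁ i : ℕ, (X i).carrier

/-- the pieces of the direct sum -/
def bigGr (j : ι) : AddSubgroup (BigC X) where
  carrier := {x | ∀ i, x i ∈ (X i).gr j}
  zero_mem' := fun i => by rw [DirectSum.zero_apply]; exact zero_mem _
  add_mem' := fun {x y} hx hy i => by rw [DirectSum.add_apply]; exact add_mem (hx i) (hy i)
  neg_mem' := fun {x} hx i => by
    have h : (-x) i = - x i := rfl
    rw [h]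
    exact neg_mem (hx i)

theorem mem_bigGr {j : ι} {x : BigC X} : x ∈ bigGr X j ↔ ∀ i, x i ∈ (X i).gr j := Iff.rfl

/-- the inclusion of a summand -/
def bInc (i : ℕ) : (X i).carrier →ₗ[R] BigC X := DirectSum.lof R ℕ (fun i => (X i).carrier) i

/-- the projection to a summand -/
def bPrj (i : ℕ) : BigC X →ₗ[R] (X i).carrier :=
  DirectSum.component R ℕ (fun i => (X i).carrier) i

theorem bPrj_apply (i : ℕ) (x : BigC X) : bPrj X i x = x i := rfl

theorem bInc_eq_of (i : ℕ) (x : (X i).carrier) :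
    bInc X i x = DirectSum.of (fun i => (X i).carrier) i x := rfl

theorem bInc_same (i : ℕ) (x : (X i).carrier) : (bInc X i x) i = x := by
  rw [bInc_eq_of, DirectSum.of_eq_same]

theorem bInc_ne {i j : ℕ} (h : i ≠ j) (x : (X i).carrier) : (bInc X i x) j = 0 := by
  rw [bInc_eq_of]
  first
    | exact DirectSum.of_eq_of_ne _ _ _ h
    | exact DirectSum.of_eq_of_ne _ _ _ (Ne.symm h)

theorem bPrj_bInc_same (i : ℕ) (x : (X i).carrier) : bPrj X i (bInc X i x) = x :=
  bInc_same X i x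

theorem bPrj_bInc_ne {i j : ℕ} (h : i ≠ j) (x : (X i).carrier) : bPrj X j (bInc X i x) = 0 :=
  bInc_ne X h x

theorem big_ext {x y : BigC X} (h : ∀ i, x i = y i) : x = y := DFinsupp.ext h

theorem big_sum (x : BigC X) : ∃ F : Finset ℕ, x = ∑ i ∈ F, bInc X i (x i) := by
  classical
  exact ⟨DFinsupp.support x, (DirectSum.sum_support_of x).symm⟩

theorem big_lin_ext {N : Type u} [AddCommGroup N] [Module R N] {f g : BigC X →ₗ[R] N}
    (h : ∀ i x, f (bInc X i x) = g (bInc X i x)) : f = g :=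
  DirectSum.linearMap_ext R (fun i => LinearMap.ext (h i))

/-! ### the decomposition -/

/-- the inclusion on pieces -/
def incC (i : ℕ) (j : ι) : (X i).gr j →+ bigGr X j where
  toFun x := ⟨bInc X i x.1, fun i' => by
    by_cases h : i = i'
    · subst h
      rw [bInc_same]
      exact x.2
    · rw [bInc_ne X h]
      exact zero_mem _⟩
  map_zero' := by
    apply Subtype.ext
    show bInc X i ((0 : (X i).gr j) : (X i).carrier) = 0
    rw [ZeroMemClass.coe_zero, map_zero]
  map_add' a b := by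
    apply Subtype.ext
    show bInc X i ((a + b : (X i).gr j) : (X i).carrier) = bInc X i a.1 + bInc X i b.1
    rw [AddSubgroup.coe_add, map_add]

theorem incC_coe (i : ℕ) (j : ι) (x : (X i).gr j) : ((incC X i j x : bigGr X j) : BigC X) =
    bInc X i x.1 := rfl

/-- the decomposition map -/
noncomputable def bigDec : BigC X →+ ⨁ j, bigGr X j :=
  DirectSum.toAddMonoid (fun i =>
    (DirectSum.map (fun j => incC X i j)).comp (decomposeAddEquiv (X i).gr).toAddMonoidHom)

theorem bigDec_bInc (i : ℕ) (x : (X i).carrier) :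
    bigDec X (bInc X i x) = DirectSum.map (fun j => incC X i j) (decompose (X i).gr x) := by
  unfold bigDec
  rw [bInc_eq_of, DirectSum.toAddMonoid_of]
  rfl

theorem coe_map_incC (i : ℕ) (y : ⨁ j, (X i).gr j) :
    DirectSum.coeAddMonoidHom (bigGr X) (DirectSum.map (fun j => incC X i j) y) =
      bInc X i (DirectSum.coeAddMonoidHom (X i).gr y) := by
  induction y using DirectSum.induction_on with
  | zero => rw [map_zero, map_zero, map_zero, map_zero]
  | of g a =>
    rw [DirectSum.map_of, DirectSum.coeAddMonoidHom_of, DirectSum.coeAddMonoidHom_of]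
    rfl
  | add y y' hy hy' => rw [map_add, map_add, map_add, hy, hy', map_add]

theorem bigDec_of_mem {j : ι} {x : BigC X} (hx : x ∈ bigGr X j) :
    bigDec X x = DirectSum.of (fun j => bigGr X j) j ⟨x, hx⟩ := by
  classical
  obtain ⟨F, hF⟩ := big_sum X x
  have h1 : bigDec X x = ∑ i ∈ F, DirectSum.of (fun j => bigGr X j) j
      (incC X i j ⟨x i, hx i⟩) := by
    conv_lhs => rw [hF]
    rw [map_sum]
    refine Finset.sum_congr rfl (fun i _ => ?_)
    rw [bigDec_bInc, decompose_of_mem (X i).gr (hx i), DirectSum.map_of]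
  rw [h1, ← map_sum]
  congr 1
  apply Subtype.ext
  rw [AddSubmonoidClass.coe_finset_sum]
  exact hF.symm

/-- the decomposition of the direct sum -/
noncomputable def bigDecomp : Decomposition (bigGr X) :=
  Decomposition.ofAddHom _ (bigDec X)
    (by
      apply DirectSum.addHom_ext
      intro i x
      rw [AddMonoidHom.comp_apply, AddMonoidHom.id_apply]
      show DirectSum.coeAddMonoidHom (bigGr X) (bigDec X (bInc X i x)) = bInc X i x
      rw [bigDec_bInc, coe_map_incC]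
      have h1 : DirectSum.coeAddMonoidHom (X i).gr (decompose (X i).gr x) = x :=
        Decomposition.left_inv x
      rw [h1])
    (by
      apply DirectSum.addHom_ext
      rintro j ⟨x, hx⟩
      rw [AddMonoidHom.comp_apply, DirectSum.coeAddMonoidHom_of, AddMonoidHom.id_apply]
      exact bigDec_of_mem X hx)

theorem big_gsmul : SetLike.GradedSMul 𝒜 (bigGr X) where
  smul_mem := fun {a b} {r x} hr hx i => by
    have h : (r • x) i = r • x i := rfl
    rw [h]
    exact SetLike.GradedSMul.smul_mem (A := 𝒜) (B := (X i).gr) hr (hx i)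

/-- the direct sum of a sequence of graded modules -/
noncomputable def bigG : GMod.{u} 𝒜 :=
  letI := bigDecomp X
  letI := big_gsmul X
  { carrier := BigC X, gr := bigGr X }

theorem bInc_gr (i : ℕ) : IsGrHom (X i).gr (bigG X).gr (bInc X i) := by
  intro j x hx i'
  by_cases h : i = i'
  · subst h
    rw [bInc_same]
    exact hx
  · rw [bInc_ne X h]
    exact zero_mem _

theorem bPrj_gr (i : ℕ) : IsGrHom (bigG X).gr (X i).gr (bPrj X i) := fun _ _ hx => hx i

/-! ### torsion -/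

theorem mem_gam_big (a : Ideal R) (x : BigC X) :
    x ∈ gam a (BigC X) ↔ ∀ i, x i ∈ gam a (X i).carrier := by
  constructor
  · intro hx i
    exact map_mem_gam (bPrj X i) hx
  · intro hx
    obtain ⟨F, hF⟩ := big_sum X x
    rw [hF]
    exact Submodule.sum_mem _ (fun i _ => map_mem_gam (bInc X i) (hx i))

theorem div_big (hX : ∀ i, Div 𝒜 (X i)) : Div 𝒜 (bigG X) := by
  intro 𝔠 f j hf
  change ∀ y : BigC X, y ∈ gam 𝔠.toIdeal (BigC X) → ∃ (n : ℕ) (z : BigC X),
    z ∈ gam 𝔠.toIdeal (BigC X) ∧ f ^ (n + 1) • z = f ^ n • y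
  intro y hy
  have hadd : ∀ y₁ y₂ : BigC X,
      (∃ (n : ℕ) (z : BigC X), z ∈ gam 𝔠.toIdeal (BigC X) ∧ f ^ (n + 1) • z = f ^ n • y₁) →
      (∃ (n : ℕ) (z : BigC X), z ∈ gam 𝔠.toIdeal (BigC X) ∧ f ^ (n + 1) • z = f ^ n • y₂) →
      ∃ (n : ℕ) (z : BigC X), z ∈ gam 𝔠.toIdeal (BigC X) ∧
        f ^ (n + 1) • z = f ^ n • (y₁ + y₂) := by
    rintro y₁ y₂ ⟨n₁, z₁, hz₁, e₁⟩ ⟨n₂, z₂, hz₂, e₂⟩
    refine ⟨n₁ + n₂, z₁ + z₂, add_mem hz₁ hz₂, ?_⟩
    have a1 : f ^ (n₁ + n₂ + 1) = f ^ n₂ * f ^ (n₁ + 1) := by ring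
    have a2 : f ^ (n₁ + n₂ + 1) = f ^ n₁ * f ^ (n₂ + 1) := by ring
    have a3 : f ^ (n₁ + n₂) = f ^ n₂ * f ^ n₁ := by ring
    have a4 : f ^ (n₁ + n₂) = f ^ n₁ * f ^ n₂ := by ring
    calc f ^ (n₁ + n₂ + 1) • (z₁ + z₂)
        = f ^ (n₁ + n₂ + 1) • z₁ + f ^ (n₁ + n₂ + 1) • z₂ := smul_add _ _ _
      _ = f ^ n₂ • (f ^ (n₁ + 1) • z₁) + f ^ n₁ • (f ^ (n₂ + 1) • z₂) := by
          rw [← mul_smul, ← mul_smul, ← a1, ← a2]
      _ = f ^ n₂ • (f ^ n₁ • y₁) + f ^ n₁ • (f ^ n₂ • y₂) := by rw [e₁, e₂]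
      _ = f ^ (n₁ + n₂) • y₁ + f ^ (n₁ + n₂) • y₂ := by
          rw [← mul_smul, ← mul_smul, ← a3, ← a4]
      _ = f ^ (n₁ + n₂) • (y₁ + y₂) := (smul_add _ _ _).symm
  have hbase : ∀ (i : ℕ) (w : (X i).carrier), w ∈ gam 𝔠.toIdeal (X i).carrier →
      ∃ (n : ℕ) (z : BigC X), z ∈ gam 𝔠.toIdeal (BigC X) ∧
        f ^ (n + 1) • z = f ^ n • bInc X i w := by
    intro i w hw
    obtain ⟨n, z, hz, e⟩ := hX i 𝔠 f j hf w hw
    exact ⟨n, bInc X i z, map_mem_gam (bInc X i) hz, by rw [← map_smul, e, map_smul]⟩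
  have hy' : ∀ i, y i ∈ gam 𝔠.toIdeal (X i).carrier := (mem_gam_big X _ y).1 hy
  obtain ⟨F, hF⟩ := big_sum X y
  have key : ∃ (n : ℕ) (z : BigC X), z ∈ gam 𝔠.toIdeal (BigC X) ∧
      f ^ (n + 1) • z = f ^ n • (∑ i ∈ F, bInc X i (y i)) :=
    Finset.sum_induction _ (fun y' : BigC X => ∃ (n : ℕ) (z : BigC X),
      z ∈ gam 𝔠.toIdeal (BigC X) ∧ f ^ (n + 1) • z = f ^ n • y') hadd
      ⟨0, 0, zero_mem _, by rw [smul_zero, smul_zero]⟩ (fun i _ => hbase i _ (hy' i))
  rw [← hF] at key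
  exact key

/-! ### endomorphisms -/

section endo

variable (d : ∀ i : ℕ, (X i).carrier →ₗ[R] (X (i + 1)).carrier)

/-- the total differential -/
noncomputable def bD : BigC X →ₗ[R] BigC X :=
  DirectSum.toModule R ℕ _ (fun i => bInc X (i + 1) ∘ₗ d i)

theorem bD_bInc (i : ℕ) (x : (X i).carrier) : bD X d (bInc X i x) = bInc X (i + 1) (d i x) := by
  unfold bD bInc
  rw [DirectSum.toModule_lof]
  rfl

/-- the sign operator -/
noncomputable def bS : BigC X →ₗ[R] BigC X :=
  DirectSum.toModule R ℕ _ (fun i => ((-1 : R) ^ i) • bInc X i)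

theorem bS_bInc (i : ℕ) (x : (X i).carrier) :
    bS X (bInc X i x) = ((-1 : R) ^ i) • bInc X i x := by
  unfold bS bInc
  rw [DirectSum.toModule_lof]
  rfl

/-- the projection to the `i`-th summand, as an endomorphism -/
noncomputable def bP (i : ℕ) : BigC X →ₗ[R] BigC X := bInc X i ∘ₗ bPrj X i

theorem bP_apply (i : ℕ) (x : BigC X) : bP X i x = bInc X i (x i) := rfl

theorem bP_bInc_same (i : ℕ) (x : (X i).carrier) : bP X i (bInc X i x) = bInc X i x := by
  rw [bP_apply, bInc_same]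

theorem bP_bInc_ne {i j : ℕ} (h : i ≠ j) (x : (X j).carrier) : bP X i (bInc X j x) = 0 := by
  rw [bP_apply, bInc_ne X (Ne.symm h), map_zero]

theorem bD_bD (hd : ∀ i x, d (i + 1) (d i x) = 0) (v : BigC X) : bD X d (bD X d v) = 0 := by
  have h : bD X d ∘ₗ bD X d = 0 := big_lin_ext X (fun i x => by
    show bD X d (bD X d (bInc X i x)) = 0
    rw [bD_bInc, bD_bInc, hd, map_zero])
  exact LinearMap.congr_fun h v

theorem bP_bP (i j : ℕ) (v : BigC X) : bP X i (bP X j v) = if i = j then bP X j v else 0 := by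
  rw [bP_apply X j]
  split_ifs with h
  · subst h
    exact bP_bInc_same X i _
  · exact bP_bInc_ne X h _

theorem bP_fin (v : BigC X) : ∃ F : Finset ℕ, ∑ i ∈ F, bP X i v = v := by
  obtain ⟨F, hF⟩ := big_sum X v
  exact ⟨F, hF.symm⟩

theorem bD_bP (i : ℕ) (v : BigC X) : bD X d (bP X i v) = bP X (i + 1) (bD X d v) := by
  have h : bD X d ∘ₗ bP X i = bP X (i + 1) ∘ₗ bD X d := big_lin_ext X (fun j x => by
    show bD X d (bP X i (bInc X j x)) = bP X (i + 1) (bD X d (bInc X j x))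
    rw [bD_bInc]
    by_cases hij : i = j
    · subst hij
      rw [bP_bInc_same, bP_bInc_same, bD_bInc]
    · rw [bP_bInc_ne X hij, map_zero, bP_bInc_ne X (fun h => hij (Nat.succ_injective h))])
  exact LinearMap.congr_fun h v

theorem bP_zero_bD (v : BigC X) : bP X 0 (bD X d v) = 0 := by
  have h : bP X 0 ∘ₗ bD X d = 0 := big_lin_ext X (fun j x => by
    show bP X 0 (bD X d (bInc X j x)) = 0
    rw [bD_bInc, bP_bInc_ne X (Nat.succ_ne_zero j).symm])
  exact LinearMap.congr_fun h v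

theorem bS_bP (i : ℕ) (v : BigC X) : bS X (bP X i v) = ((-1 : R) ^ i) • bP X i v := by
  rw [bP_apply, bS_bInc]

theorem bP_bS (i : ℕ) (v : BigC X) : bP X i (bS X v) = ((-1 : R) ^ i) • bP X i v := by
  have h : bP X i ∘ₗ bS X = ((-1 : R) ^ i) • bP X i := big_lin_ext X (fun j x => by
    show bP X i (bS X (bInc X j x)) = ((-1 : R) ^ i) • bP X i (bInc X j x)
    rw [bS_bInc, map_smul]
    by_cases hij : i = j
    · subst hij
      rfl
    · rw [bP_bInc_ne X hij, smul_zero, smul_zero])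
  exact LinearMap.congr_fun h v

theorem bD_apply_succ (i : ℕ) (v : BigC X) : (bD X d v) (i + 1) = d i (v i) := by
  have h : bPrj X (i + 1) ∘ₗ bD X d = d i ∘ₗ bPrj X i := big_lin_ext X (fun j x => by
    show bPrj X (i + 1) (bD X d (bInc X j x)) = d i (bPrj X i (bInc X j x))
    rw [bD_bInc]
    by_cases hij : j = i
    · subst hij
      rw [bPrj_bInc_same, bPrj_bInc_same]
    · rw [bPrj_bInc_ne X hij, map_zero, bPrj_bInc_ne X (fun h => hij (Nat.succ_injective h))])
  exact LinearMap.congr_fun h v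

theorem bD_apply_zero (v : BigC X) : (bD X d v) 0 = 0 := by
  have h : bPrj X 0 ∘ₗ bD X d = 0 := big_lin_ext X (fun j x => by
    show bPrj X 0 (bD X d (bInc X j x)) = 0
    rw [bD_bInc, bPrj_bInc_ne X (Nat.succ_ne_zero j)])
  exact LinearMap.congr_fun h v

theorem bS_apply (i : ℕ) (v : BigC X) : (bS X v) i = ((-1 : R) ^ i) • v i := by
  have h : bPrj X i ∘ₗ bS X = ((-1 : R) ^ i) • bPrj X i := big_lin_ext X (fun j x => by
    show bPrj X i (bS X (bInc X j x)) = ((-1 : R) ^ i) • bPrj X i (bInc X j x)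
    rw [bS_bInc, map_smul]
    by_cases hij : j = i
    · subst hij
      rfl
    · rw [bPrj_bInc_ne X hij, smul_zero, smul_zero])
  exact LinearMap.congr_fun h v

theorem bD_gr (hd : ∀ i, IsGrHom (X i).gr (X (i + 1)).gr (d i)) :
    IsGrHom (bigG X).gr (bigG X).gr (bD X d) := by
  intro j x hx i
  cases i with
  | zero => rw [bD_apply_zero]; exact zero_mem _
  | succ i => rw [bD_apply_succ]; exact hd i j _ (hx i)

theorem bS_gr : IsGrHom (bigG X).gr (bigG X).gr (bS X) := by
  intro j x hx i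
  rw [bS_apply]
  rcases neg_one_pow_eq_or R i with h | h
  · rw [h, one_smul]; exact hx i
  · rw [h, neg_smul, one_smul]; exact neg_mem (hx i)

theorem bP_gr (i : ℕ) : IsGrHom (bigG X).gr (bigG X).gr (bP X i) :=
  fun j x hx => bInc_gr X i j _ (hx i)

end endo

end Groth.Agent.Lib.BigGH1
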