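import Mathlib
import Groth.Prelude.Def_GrLC

/-! Transfer of the `GrLC` notions from a grading valued in an arbitrary `SetLike` class
(e.g. submodules) to the same grading valued in additive subgroups (helper1). -/

set_option autoImplicit false

namespace Groth.Agent.Lib.GrXferH1

open DirectSum GrLC

universe u

variable {ι : Type} [AddCommGroup ι] [DecidableEq ι]
variable {R : Type u} [CommRing R] {σ : Type u} [SetLike σ R] [AddSubgroupClass σ R]
variable (𝒜 : ι → σ)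

/-- the same grading, valued in additive subgroups -/
def toAS : ι → AddSubgroup R := fun i => AddSubgroup.ofClass (𝒜 i)

theorem mem_toAS {i : ι} {x : R} : x ∈ toAS 𝒜 i ↔ x ∈ 𝒜 i := Iff.rfl

variable [GradedRing 𝒜]

/-- the identity on components -/
def compHom (i : ι) : 𝒜 i →+ toAS 𝒜 i where
  toFun x := ⟨x.1, x.2⟩
  map_zero' := rfl
  map_add' _ _ := rfl

/-- the decomposition map -/
noncomputable def decAux : R →+ ⨁ i, toAS 𝒜 i :=
  (DirectSum.map (compHom 𝒜)).comp (decomposeAddEquiv 𝒜).toAddMonoidHom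

theorem decAux_of_mem {i : ι} {x : R} (hx : x ∈ 𝒜 i) :
    decAux 𝒜 x = DirectSum.of (fun i => toAS 𝒜 i) i ⟨x, hx⟩ := by
  unfold decAux
  rw [AddMonoidHom.comp_apply]
  change DirectSum.map (compHom 𝒜) (decompose 𝒜 x) = _
  rw [decompose_of_mem 𝒜 hx, DirectSum.map_of]
  rfl

/-- the decomposition -/
noncomputable def decAS : Decomposition (toAS 𝒜) :=
  Decomposition.ofAddHom _ (decAux 𝒜)
    (by
      apply AddMonoidHom.ext
      intro x
      rw [AddMonoidHom.comp_apply, AddMonoidHom.id_apply]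
      induction x using DirectSum.Decomposition.inductionOn 𝒜 with
      | zero => simp
      | @homogeneous i x =>
        rw [decAux_of_mem 𝒜 x.2, DirectSum.coeAddMonoidHom_of]
      | add x y hx hy =>
        rw [map_add, map_add, hx, hy])
    (by
      apply DirectSum.addHom_ext
      rintro i ⟨x, hx⟩
      rw [AddMonoidHom.comp_apply, DirectSum.coeAddMonoidHom_of, AddMonoidHom.id_apply]
      exact decAux_of_mem 𝒜 hx)

theorem gmonAS : SetLike.GradedMonoid (toAS 𝒜) where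
  one_mem := (SetLike.GradedOne.one_mem : (1 : R) ∈ 𝒜 0)
  mul_mem := fun _ _ _ _ ha hb => SetLike.GradedMul.mul_mem (A := 𝒜) ha hb

noncomputable instance gringAS : GradedRing (toAS 𝒜) :=
  { gmonAS 𝒜, decAS 𝒜 with }

theorem decompose_toAS_coe (x : R) (i : ι) :
    ((decompose (toAS 𝒜) x) i : R) = ((decompose 𝒜 x) i : R) := by
  change ((decAux 𝒜 x) i : R) = _
  unfold decAux
  rw [AddMonoidHom.comp_apply, DirectSum.map_apply]
  rfl

theorem isHomogeneous_toAS {I : Ideal R} :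
    Ideal.IsHomogeneous (toAS 𝒜) I ↔ Ideal.IsHomogeneous 𝒜 I := by
  constructor
  · intro h i x hx
    have := h i hx
    rwa [decompose_toAS_coe] at this
  · intro h i x hx
    rw [decompose_toAS_coe]
    exact h i hx

/-- transfer of homogeneous ideals -/
noncomputable def idealAS (m : HomogeneousIdeal 𝒜) : HomogeneousIdeal (toAS 𝒜) :=
  ⟨m.toIdeal, (isHomogeneous_toAS 𝒜).2 m.isHomogeneous⟩

/-- transfer of homogeneous ideals, back -/
noncomputable def idealOf (m : HomogeneousIdeal (toAS 𝒜)) : HomogeneousIdeal 𝒜 :=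
  ⟨m.toIdeal, (isHomogeneous_toAS 𝒜).1 m.isHomogeneous⟩

theorem idealAS_toIdeal (m : HomogeneousIdeal 𝒜) : (idealAS 𝒜 m).toIdeal = m.toIdeal := rfl

theorem idealAS_idealOf (n : HomogeneousIdeal (toAS 𝒜)) : idealAS 𝒜 (idealOf 𝒜 n) = n :=
  HomogeneousIdeal.toIdeal_injective rfl

theorem idealOf_idealAS (n : HomogeneousIdeal 𝒜) : idealOf 𝒜 (idealAS 𝒜 n) = n :=
  HomogeneousIdeal.toIdeal_injective rfl

/-- the order isomorphism -/
noncomputable def idealIso : HomogeneousIdeal 𝒜 ≃o HomogeneousIdeal (toAS 𝒜) where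
  toFun := idealAS 𝒜
  invFun := idealOf 𝒜
  left_inv := idealOf_idealAS 𝒜
  right_inv := idealAS_idealOf 𝒜
  map_rel_iff' := Iff.rfl

theorem isStarLocal_AS {m : HomogeneousIdeal 𝒜} (hm : IsStarLocal 𝒜 m) :
    IsStarLocal (toAS 𝒜) (idealAS 𝒜 m) := by
  refine ⟨((idealIso 𝒜).isCoatom_iff m).2 hm.1, fun n hn => ?_⟩
  have h1 : idealAS 𝒜 (idealOf 𝒜 n) = n := idealAS_idealOf 𝒜 n
  have h2 : IsCoatom (idealOf 𝒜 n) := by
    rw [← (idealIso 𝒜).isCoatom_iff]
    change IsCoatom (idealAS 𝒜 (idealOf 𝒜 n))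
    rw [h1]
    exact hn
  rw [← h1, hm.2 _ h2]

/-! ### graded modules -/

section modules

variable {M : Type u} [AddCommGroup M] [Module R M] (ℳ : ι → AddSubgroup M)

instance gsmul_AS [SetLike.GradedSMul 𝒜 ℳ] : SetLike.GradedSMul (toAS 𝒜) ℳ where
  smul_mem := fun _ _ _ _ hr hm => SetLike.GradedSMul.smul_mem (A := 𝒜) (B := ℳ) hr hm

theorem gsmul_of [SetLike.GradedSMul (toAS 𝒜) ℳ] : SetLike.GradedSMul 𝒜 ℳ where
  smul_mem := fun _ _ _ _ hr hm =>
    SetLike.GradedSMul.smul_mem (A := toAS 𝒜) (B := ℳ) hr hm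

/-- transfer of bundled graded modules -/
def gmodAS (X : GMod.{u} 𝒜) : GMod.{u} (toAS 𝒜) :=
  { carrier := X.carrier, acg := X.acg, mod := X.mod, gr := X.gr, dec := X.dec,
    gsmul := gsmul_AS 𝒜 X.gr }

/-- transfer of bundled graded modules, back -/
def gmodOf (X : GMod.{u} (toAS 𝒜)) : GMod.{u} 𝒜 :=
  { carrier := X.carrier, acg := X.acg, mod := X.mod, gr := X.gr, dec := X.dec,
    gsmul := gsmul_of 𝒜 X.gr }

theorem starInj_AS [Decomposition ℳ] [SetLike.GradedSMul 𝒜 ℳ] (h : IsStarInj 𝒜 ℳ) :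
    IsStarInj (toAS 𝒜) ℳ := by
  intro A B f hf hinj g hg
  exact h (gmodOf 𝒜 A) (gmodOf 𝒜 B) f hf hinj g hg

end modules

/-! ### resolutions -/

/-- transfer of a *injective resolution of the ring -/
noncomputable def resAS (I : StarInjRes 𝒜 𝒜) : StarInjRes (toAS 𝒜) (toAS 𝒜) where
  X n := gmodAS 𝒜 (I.X n)
  d n := I.d n
  ε := I.ε
  d_grHom n := I.d_grHom n
  ε_grHom := I.ε_grHom
  ε_injective := I.ε_injective
  exact_zero := I.exact_zero
  exact_succ := I.exact_succ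
  starInj n := starInj_AS 𝒜 (I.X n).gr (I.starInj n)

section canonical

variable {C : Type u} [AddCommGroup C] [Module R C] (𝒞 : ι → AddSubgroup C) [Decomposition 𝒞]
  [SetLike.GradedSMul 𝒜 𝒞]
variable {E' : Type u} [AddCommGroup E'] [Module R E'] (𝓔 : ι → AddSubgroup E') [Decomposition 𝓔]
  [SetLike.GradedSMul 𝒜 𝓔]

theorem canonical_AS (m : HomogeneousIdeal 𝒜) (n : ℕ) (I : StarInjRes 𝒜 𝒜)
    (hC : IsStarCanonical 𝒜 𝒞 𝓔 m n I) :
    IsStarCanonical (toAS 𝒜) 𝒞 𝓔 (idealAS 𝒜 m) n (resAS 𝒜 I) := by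
  obtain ⟨hfin, φ, hφ⟩ := hC
  exact ⟨hfin, φ, fun d f hf => hφ d f hf⟩

theorem hull_AS (m : HomogeneousIdeal 𝒜) (e : (R ⧸ m.toIdeal) →ₗ[R] E')
    (he : IsStarInjHull 𝒜 (GrLC.quotGr 𝒜 m) 𝓔 e) :
    IsStarInjHull (toAS 𝒜) (GrLC.quotGr (toAS 𝒜) (idealAS 𝒜 m)) 𝓔 e where
  injective := he.injective
  grHom := by
    rintro g _ ⟨y, hy, rfl⟩
    exact he.grHom g _ ⟨y, hy, rfl⟩
  essential := he.essential
  starInj := starInj_AS 𝒜 𝓔 he.starInj

omit [Decomposition 𝒞] [SetLike.GradedSMul 𝒜 𝒞] in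
theorem isGrHomDeg_of_AS {f : R →ₗ[R] C} {d : ι} (h : IsGrHomDeg (toAS 𝒜) 𝒞 f d) :
    IsGrHomDeg 𝒜 𝒞 f d := fun g x hx => h g x hx

end canonical

end Groth.Agent.Lib.GrXferH1
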