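import Mathlib
import Groth.Prelude.Def_GrLC
import Groth.Prelude.Def_Wider
import Groth.Agent.Lib.GrLES2_helper1
import Groth.Agent.Lib.GrStarLC_helper1
import Groth.Agent.Lib.Div_helper1

/-! Vanishing criteria for graded local cohomology computed from *injective resolutions (helper1).
APPEND-ONLY once landed. -/

set_option autoImplicit false

namespace Groth.Agent.Lib.GrAcycH1

open CategoryTheory DirectSum GrLC Groth.Agent.Lib.GrLES1H1 Groth.Agent.Lib.GrLES2H1
  Groth.Agent.Lib.DivH1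

universe u

section ses

variable {ι : Type} [AddCommGroup ι] [DecidableEq ι]
variable {R : Type u} [CommRing R] {𝒜 : ι → AddSubgroup R} [GradedRing 𝒜]
variable {M' : Type u} [AddCommGroup M'] [Module R M'] {ℳ' : ι → AddSubgroup M'}
  [Decomposition ℳ'] [SetLike.GradedSMul 𝒜 ℳ']
variable {M : Type u} [AddCommGroup M] [Module R M] {ℳ : ι → AddSubgroup M} [Decomposition ℳ]
  [SetLike.GradedSMul 𝒜 ℳ]
variable {M'' : Type u} [AddCommGroup M''] [Module R M''] {ℳ'' : ι → AddSubgroup M''}
  [Decomposition ℳ''] [SetLike.GradedSMul 𝒜 ℳ'']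

/-- in a short exact sequence, vanishing of the outer terms gives vanishing of the middle term -/
theorem subsingleton_of_ses (S : SES R ℳ' ℳ ℳ'') (a : HomogeneousIdeal 𝒜) (q : ℕ)
    (h' : ∀ E' : StarInjRes 𝒜 ℳ', Subsingleton (E'.H a q))
    (h'' : ∀ E'' : StarInjRes 𝒜 ℳ'', Subsingleton (E''.H a q)) (E : StarInjRes 𝒜 ℳ) :
    Subsingleton (E.H a q) := by
  obtain ⟨E'⟩ := GrStar2H1.main13215 𝒜 ℳ'
  obtain ⟨E''⟩ := GrStar2H1.main13215 𝒜 ℳ''
  obtain ⟨φ, hφ⟩ := exists_lift E' E S.u S.hu
  obtain ⟨ψ, hψ⟩ := exists_lift E E'' S.p S.hp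
  obtain ⟨-, hles⟩ := les S E' E E'' φ hφ ψ hψ a
  obtain ⟨hker, -⟩ := hles q
  haveI := h' E'
  haveI := h'' E''
  refine subsingleton_of_forall_eq 0 (fun x => ?_)
  have h1 : x ∈ LinearMap.ker (ψ.H a q) := by
    rw [LinearMap.mem_ker]
    exact Subsingleton.elim _ _
  rw [hker] at h1
  obtain ⟨y, rfl⟩ := h1
  rw [Subsingleton.elim y 0, map_zero]

end ses

section vanish

variable {ι : Type} [AddCommGroup ι] [DecidableEq ι] [Module.Free ℤ ι] [Module.Finite ℤ ι]
variable {R : Type u} [CommRing R] [IsNoetherianRing R] {𝒜 : ι → AddSubgroup R} [GradedRing 𝒜]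
variable (a : HomogeneousIdeal 𝒜)
variable {M : Type u} [AddCommGroup M] [Module R M] {ℳ : ι → AddSubgroup M} [Decomposition ℳ]
  [SetLike.GradedSMul 𝒜 ℳ]

/-- torsion modules are acyclic -/
theorem H_subsingleton_of_torsion (htors : ∀ x : M, x ∈ gam a.toIdeal M)
    (E : StarInjRes 𝒜 ℳ) (q : ℕ) (hq : 1 ≤ q) : Subsingleton (E.H a q) := by
  obtain ⟨e⟩ := GrStarLCH1.main13224 R 𝒜 a M ℳ E q
  obtain ⟨p, rfl⟩ : ∃ p, q = p + 1 := ⟨q - 1, by omega⟩
  have := Groth.Agent.Lib.LocCohTorsVanishH7.H_subsingleton a.toIdeal M (fun x => htors x) p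
  exact e.toEquiv.subsingleton

/-- a module on which an element of the ideal acts bijectively has no local cohomology -/
theorem H_subsingleton_of_bijective {f : R} (hfm : f ∈ a.toIdeal)
    (hbij : Function.Bijective (fun x : M => f • x)) (E : StarInjRes 𝒜 ℳ) (q : ℕ) :
    Subsingleton (E.H a q) := by
  obtain ⟨e⟩ := GrStarLCH1.main13224 R 𝒜 a M ℳ E q
  suffices h : Subsingleton (LocCoh.H a.toIdeal q M) from e.toEquiv.subsingleton
  let φ : M ≃ₗ[R] M := LinearEquiv.ofBijective (LinearMap.lsmul R M f) hbij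
  have hφ : ModuleCat.ofHom φ.toLinearMap = f • 𝟙 (ModuleCat.of R M) := by
    apply ModuleCat.hom_ext
    apply LinearMap.ext
    intro x
    rfl
  have hmap : (localCohomology a.toIdeal q).map (ModuleCat.ofHom φ.toLinearMap) = f • 𝟙 _ := by
    rw [hφ, Groth.Agent.Lib.LocCohFunctH7.H_map_smul, CategoryTheory.Functor.map_id]
  have hiso : IsIso ((localCohomology a.toIdeal q).map (ModuleCat.ofHom φ.toLinearMap)) := by
    have : IsIso (ModuleCat.ofHom φ.toLinearMap) := (φ.toModuleIso).isIso_hom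
    infer_instance
  have hinj : ∀ x : LocCoh.H a.toIdeal q M, f • x = 0 → x = 0 := by
    intro x hx
    have h1 : ((localCohomology a.toIdeal q).map (ModuleCat.ofHom φ.toLinearMap)).hom x =
        f • x := by
      rw [hmap]; rfl
    have hinj' := (ModuleCat.mono_iff_injective _).mp
      (inferInstance : Mono ((localCohomology a.toIdeal q).map (ModuleCat.ofHom φ.toLinearMap)))
    apply hinj'
    rw [h1, hx, map_zero]
  have key : ∀ (n : ℕ) (x : LocCoh.H a.toIdeal q M), f ^ n • x = 0 → x = 0 := by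
    intro n
    induction n with
    | zero => intro x h; simpa using h
    | succ n ih =>
      intro x h
      apply ih
      apply hinj
      rw [smul_smul, ← pow_succ']
      exact h
  refine subsingleton_of_forall_eq 0 (fun x => ?_)
  obtain ⟨n, hn⟩ := Groth.Agent.Lib.LocCohTorsH7.main R a.toIdeal q M x
  exact key n x (hn _ (Ideal.pow_mem_pow hfm n))

end vanish

section gens

variable {R : Type u} [CommRing R] {X : Type u} [AddCommGroup X] [Module R X]

/-- torsion with respect to a finitely generated ideal can be tested on the generators -/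
theorem mem_gam_span_list (fs : List R) (x : X) :
    x ∈ gam (Ideal.span {f | f ∈ fs}) X ↔ ∀ f ∈ fs, ∃ n : ℕ, f ^ n • x = 0 := by
  induction fs with
  | nil =>
    have h0 : Ideal.span {f : R | f ∈ ([] : List R)} = ⊥ := by
      rw [Ideal.span_eq_bot]
      intro f hf
      simp at hf
    rw [h0, gam_bot_eq_top]
    simp
  | cons f₀ fs ih =>
    have h0 : Ideal.span {f : R | f ∈ f₀ :: fs} = Ideal.span {f₀} ⊔ Ideal.span {f | f ∈ fs} := by
      rw [← Ideal.span_union]
      congr 1
      ext f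
      simp
    rw [h0, mem_gam_sup, ih, mem_gam_span_singleton]
    simp

/-- the irrelevant ideal of a Noetherian graded ring is generated by finitely many homogeneous
elements of positive degrees -/
theorem exists_gens [IsNoetherianRing R] (𝒜 : ℤ → AddSubgroup R) (m : Ideal R)
    (hm : m = Ideal.span (⋃ n ∈ Set.Ioi (0 : ℤ), (𝒜 n : Set R))) :
    ∃ fs : List R, (∀ f ∈ fs, ∃ d : ℕ, 0 < d ∧ f ∈ 𝒜 (d : ℤ)) ∧ m = Ideal.span {f | f ∈ fs} := by
  classical
  have hfg : (Submodule.span R (⋃ n ∈ Set.Ioi (0 : ℤ), (𝒜 n : Set R))).FG :=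
    IsNoetherian.noetherian _
  obtain ⟨s, hs, hspan⟩ := (Submodule.fg_span_iff_fg_span_finset_subset _).1 hfg
  refine ⟨s.toList, fun f hf => ?_, ?_⟩
  · rw [Finset.mem_toList] at hf
    have h1 := hs hf
    rw [Set.mem_iUnion₂] at h1
    obtain ⟨n, hn, hfn⟩ := h1
    refine ⟨n.toNat, ?_, ?_⟩
    · have : 0 < n := hn
      omega
    · rw [Int.toNat_of_nonneg (le_of_lt hn)]
      exact hfn
  · rw [hm]
    have h2 : {f : R | f ∈ s.toList} = (s : Set R) := by
      ext f
      simp
    rw [h2]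
    exact hspan

end gens

end Groth.Agent.Lib.GrAcycH1
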