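import Mathlib
import Groth.Prelude.Def_GrSeg

/-!
# Segre products of graded modules (helper3)

* `decompose_smul`, `mem_of_smul_mem`: homogeneous components of `f • m` for homogeneous `f`.
* `exists_bijective`: if `f ∈ R_d`, `g ∈ S_e` act bijectively on `M`, `N` then the element of
  `T = R # S` mapping to `f ^ e ⊗ g ^ d` acts bijectively on `M # N`.
* `exists_smul_eq`: if `x # y` generates `M # N` and `N_{n+d} ≠ 0` then `R_d x = M_{n+d}`.
APPEND-ONLY once landed.
-/

set_option autoImplicit false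

namespace Groth.Agent.Lib.SegreH3

universe u

open scoped TensorProduct
open DirectSum

section Graded

variable {k : Type u} [Field k] {R : Type u} [CommRing R] [Algebra k R]
  (𝒜 : ℤ → Submodule k R) [GradedAlgebra 𝒜]
  {M : Type u} [AddCommGroup M] [Module R M] (ℳ : ℤ → AddSubgroup M)
  [DirectSum.Decomposition ℳ] [SetLike.GradedSMul 𝒜 ℳ]

theorem smul_mem {c i : ℤ} {f : R} (hf : f ∈ 𝒜 c) {m : M} (hm : m ∈ ℳ i) :
    f • m ∈ ℳ (c + i) :=
  SetLike.GradedSMul.smul_mem hf hm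

theorem decompose_smul {c : ℤ} {f : R} (hf : f ∈ 𝒜 c) (m : M) (j n : ℤ) (hn : c + j = n) :
    ((decompose ℳ (f • m) n : ℳ n) : M) = f • ((decompose ℳ m j : ℳ j) : M) := by
  subst hn
  refine DirectSum.Decomposition.inductionOn ℳ ?_ ?_ ?_ m
  · simp
  · intro i m
    have hfm : f • (m : M) ∈ ℳ (c + i) := smul_mem 𝒜 ℳ hf m.2
    by_cases hij : i = j
    · subst hij
      rw [decompose_of_mem_same ℳ hfm, decompose_of_mem_same ℳ m.2]
    · rw [decompose_of_mem_ne ℳ hfm (fun h => hij (add_left_cancel h)),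
        decompose_of_mem_ne ℳ m.2 hij, smul_zero]
  · intro m m' hm hm'
    rw [smul_add, decompose_add, decompose_add, DirectSum.add_apply, DirectSum.add_apply,
      AddSubgroup.coe_add, AddSubgroup.coe_add, hm, hm', smul_add]

theorem mem_of_smul_mem {c : ℤ} {f : R} (hf : f ∈ 𝒜 c)
    (hinj : Function.Injective (fun x : M => f • x)) {j : ℤ} {m : M}
    (hm : f • m ∈ ℳ (c + j)) : m ∈ ℳ j := by
  have h1 : f • ((decompose ℳ m j : ℳ j) : M) = f • m := by
    rw [← decompose_smul 𝒜 ℳ hf m j (c + j) rfl]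
    exact decompose_of_mem_same ℳ hm
  have h2 : ((decompose ℳ m j : ℳ j) : M) = m := hinj h1
  rw [← h2]
  exact SetLike.coe_mem _

end Graded

theorem bijective_pow_smul {R M : Type*} [Monoid R] [MulAction R M] (f : R)
    (h : Function.Bijective (fun x : M => f • x)) (e : ℕ) :
    Function.Bijective (fun x : M => f ^ e • x) := by
  induction e with
  | zero =>
    simp only [pow_zero, one_smul]
    exact Function.bijective_id
  | succ e ih =>
    have : (fun x : M => f ^ (e + 1) • x) = (fun x => f ^ e • x) ∘ (fun x => f • x) := by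
      funext x
      simp [pow_succ, mul_smul]
    rw [this]
    exact ih.comp h

section Main

variable (k : Type u) [Field k] (R : Type u) [CommRing R] [Algebra k R]
  (𝒜 : ℤ → Submodule k R) [GradedAlgebra 𝒜]
  (S : Type u) [CommRing S] [Algebra k S] (ℬ : ℤ → Submodule k S) [GradedAlgebra ℬ]
  (T : Type u) [CommRing T] [Algebra k T] (𝒯 : ℤ → Submodule k T) [GradedAlgebra 𝒯]
  (ψ : T →ₐ[k] TensorProduct k R S) (hT : GrSeg.IsSegreRing 𝒜 ℬ 𝒯 ψ)
  (M : Type u) [AddCommGroup M] [Module R M] [Module k M] [IsScalarTower k R M]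
  (ℳ : ℤ → AddSubgroup M) [DirectSum.Decomposition ℳ] [SetLike.GradedSMul 𝒜 ℳ]
  (N : Type u) [AddCommGroup N] [Module S N] [Module k N] [IsScalarTower k S N]
  (𝒩 : ℤ → AddSubgroup N) [DirectSum.Decomposition 𝒩] [SetLike.GradedSMul ℬ 𝒩]
  (P : Type u) [AddCommGroup P] [Module T P] [Module k P] [IsScalarTower k T P]
  (𝒬 : ℤ → AddSubgroup P) [DirectSum.Decomposition 𝒬]
  (φ : P →ₗ[k] TensorProduct k M N) (hP : GrSeg.IsSegreMod ψ ℳ 𝒩 𝒬 φ)

include hT hP in
theorem exists_bijective (d : ℕ) (hd : 0 < d) (f : R) (hf : f ∈ 𝒜 (d : ℤ))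
    (hfM : Function.Bijective (fun x : M => f • x)) (e : ℕ) (he : 0 < e) (g : S)
    (hg : g ∈ ℬ (e : ℤ)) (hgN : Function.Bijective (fun y : N => g • y)) :
    ∃ (c : ℤ) (t : T), 0 < c ∧ t ∈ 𝒯 c ∧ Function.Bijective (fun p : P => t • p) := by
  set c : ℤ := (e : ℤ) * (d : ℤ) with hc
  have hcpos : 0 < c := mul_pos (by exact_mod_cast he) (by exact_mod_cast hd)
  have hfe : f ^ e ∈ 𝒜 c := by
    have := SetLike.pow_mem_graded e hf
    simpa [nsmul_eq_mul, hc] using this
  have hgd : g ^ d ∈ ℬ c := by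
    have := SetLike.pow_mem_graded d hg
    simpa [nsmul_eq_mul, hc, mul_comm] using this
  have hmem : (f ^ e) ⊗ₜ[k] (g ^ d) ∈ GrSeg.segrePiece k 𝒜 ℬ c :=
    Submodule.subset_span ⟨f ^ e, hfe, g ^ d, hgd, rfl⟩
  rw [← hT.2 c] at hmem
  obtain ⟨t, htc, ht⟩ := hmem
  have ht' : ψ t = (f ^ e) ⊗ₜ[k] (g ^ d) := ht
  have hF := bijective_pow_smul f hfM e
  have hG := bijective_pow_smul g hgN d
  let eF : M ≃ₗ[k] M := LinearEquiv.ofBijective (Algebra.lsmul k k M (f ^ e)) hF
  let eG : N ≃ₗ[k] N := LinearEquiv.ofBijective (Algebra.lsmul k k N (g ^ d)) hG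
  let Θ : TensorProduct k M N ≃ₗ[k] TensorProduct k M N := TensorProduct.congr eF eG
  have hΘ : ∀ (m : M) (n : N), Θ (m ⊗ₜ[k] n) = (f ^ e • m) ⊗ₜ[k] (g ^ d • n) := by
    intro m n
    rfl
  have hact : ∀ z, GrSeg.act k R S M N (ψ t) z = Θ z := by
    rw [ht']
    intro z
    induction z using TensorProduct.induction_on with
    | zero => simp
    | tmul m n => rw [GrSeg.act_tmul, hΘ]
    | add x y hx hy => rw [map_add, map_add, hx, hy]
  refine ⟨c, t, hcpos, htc, ?_, ?_⟩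
  · intro p p' h
    apply hP.injective
    apply Θ.injective
    rw [← hact, ← hact, ← hP.map_smul, ← hP.map_smul]
    exact congrArg φ h
  · have hhom : ∀ (n : ℤ) (q : P), q ∈ 𝒬 n → ∃ p : P, t • p = q := by
      intro n q hq
      have h1 : φ q ∈ GrSeg.segrePiece k ℳ 𝒩 n := by
        have := hP.image_piece n
        rw [← SetLike.mem_coe, ← this]
        exact ⟨q, hq, rfl⟩
      have h2 : ∃ w ∈ GrSeg.segrePiece k ℳ 𝒩 (n - c), Θ w = φ q := by
        unfold GrSeg.segrePiece at h1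
        refine Submodule.span_induction
          (p := fun z _ => ∃ w ∈ GrSeg.segrePiece k ℳ 𝒩 (n - c), Θ w = z) ?_ ?_ ?_ ?_ h1
        · rintro _ ⟨a, ha, b, hb, rfl⟩
          obtain ⟨a', ha'⟩ := hF.2 a
          obtain ⟨b', hb'⟩ := hG.2 b
          have ha'' : a' ∈ ℳ (n - c) := by
            apply mem_of_smul_mem 𝒜 ℳ hfe hF.1
            show f ^ e • a' ∈ ℳ (c + (n - c))
            have h3 : f ^ e • a' = a := ha'
            rw [h3, add_sub_cancel]
            exact ha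
          have hb'' : b' ∈ 𝒩 (n - c) := by
            apply mem_of_smul_mem ℬ 𝒩 hgd hG.1
            show g ^ d • b' ∈ 𝒩 (c + (n - c))
            have h3 : g ^ d • b' = b := hb'
            rw [h3, add_sub_cancel]
            exact hb
          refine ⟨a' ⊗ₜ[k] b', Submodule.subset_span ⟨a', ha'', b', hb'', rfl⟩, ?_⟩
          have h3 : f ^ e • a' = a := ha'
          have h4 : g ^ d • b' = b := hb'
          rw [hΘ, h3, h4]
        · exact ⟨0, zero_mem _, map_zero _⟩
        · rintro x y _ _ ⟨w, hw, rfl⟩ ⟨w', hw', rfl⟩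
          exact ⟨w + w', add_mem hw hw', map_add _ _ _⟩
        · rintro r x _ ⟨w, hw, rfl⟩
          exact ⟨r • w, Submodule.smul_mem _ _ hw, map_smul _ _ _⟩
      obtain ⟨w, hw, hwq⟩ := h2
      have h3 : w ∈ φ '' (𝒬 (n - c) : Set P) := by
        rw [hP.image_piece]
        exact hw
      obtain ⟨p, _, rfl⟩ := h3
      refine ⟨p, hP.injective ?_⟩
      rw [hP.map_smul, hact, hwq]
    intro q
    refine DirectSum.Decomposition.inductionOn 𝒬 (motive := fun q => ∃ p : P, t • p = q)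
      ?_ ?_ ?_ q
    · exact ⟨0, smul_zero _⟩
    · intro i m
      exact hhom i m m.2
    · rintro m m' ⟨p, rfl⟩ ⟨p', rfl⟩
      exact ⟨p + p', smul_add _ _ _⟩

include hP in
theorem exists_smul_eq (n : ℤ) (x : M) (hx : x ∈ ℳ n) (y : N) (p : P)
    (hp : φ p = x ⊗ₜ[k] y) (hgen : Submodule.span T {p} = ⊤) (d : ℤ)
    (hNd : 𝒩 (n + d) ≠ ⊥) (hTseg : ∀ i : ℤ, (𝒯 i).map ψ.toLinearMap = GrSeg.segrePiece k 𝒜 ℬ i)
    (z : M) (hz : z ∈ ℳ (n + d)) :
    ∃ r ∈ 𝒜 d, r • x = z := by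
  classical
  obtain ⟨⟨w, hw⟩, hw0'⟩ := (AddSubgroup.ne_bot_iff_exists_ne_zero).1 hNd
  have hw0 : w ≠ 0 := fun h => hw0' (Subtype.ext h)
  obtain ⟨lam, hlam⟩ := Module.Projective.exists_dual_eq_one k hw0
  -- the `k`-linear projection of `M` onto its degree `n + d` component
  have hsm : ∀ (a : k) (m : M), ((decompose ℳ (a • m) (n + d) : ℳ (n + d)) : M) =
      a • ((decompose ℳ m (n + d) : ℳ (n + d)) : M) := by
    intro a m
    rw [← algebraMap_smul R a m, decompose_smul 𝒜 ℳ (SetLike.algebraMap_mem_graded 𝒜 a) m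
      (n + d) (n + d) (zero_add _), algebraMap_smul]
  let π : M →ₗ[k] M :=
    { toFun := fun m => ((decompose ℳ m (n + d) : ℳ (n + d)) : M)
      map_add' := fun m m' => by
        rw [decompose_add, DirectSum.add_apply, AddSubgroup.coe_add]
      map_smul' := fun a m => by
        rw [RingHom.id_apply]
        exact hsm a m }
  have hπ : ∀ m, π m = ((decompose ℳ m (n + d) : ℳ (n + d)) : M) := fun _ => rfl
  let Λ : TensorProduct k M N →ₗ[k] M :=
    (TensorProduct.rid k M).toLinearMap ∘ₗ TensorProduct.map π lam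
  have hΛ : ∀ (m : M) (n' : N), Λ (m ⊗ₜ[k] n') = lam n' • π m := by
    intro m n'
    simp [Λ]
  -- key claim on homogeneous pieces of `T`
  have hpiece : ∀ (i : ℤ) (u : TensorProduct k R S), u ∈ GrSeg.segrePiece k 𝒜 ℬ i →
      ∃ r ∈ 𝒜 d, Λ (GrSeg.act k R S M N u (x ⊗ₜ[k] y)) = r • x := by
    intro i u hu
    unfold GrSeg.segrePiece at hu
    refine Submodule.span_induction
      (p := fun u _ => ∃ r ∈ 𝒜 d, Λ (GrSeg.act k R S M N u (x ⊗ₜ[k] y)) = r • x) ?_ ?_ ?_ ?_ hu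
    · rintro _ ⟨a, ha, b, _, rfl⟩
      rw [GrSeg.act_tmul, hΛ, hπ]
      have hax : a • x ∈ ℳ (i + n) := smul_mem 𝒜 ℳ ha hx
      by_cases hid : i = d
      · subst hid
        have hax' : a • x ∈ ℳ (n + i) := by rw [add_comm]; exact hax
        rw [decompose_of_mem_same ℳ hax']
        refine ⟨lam (b • y) • a, Submodule.smul_mem _ _ ha, ?_⟩
        rw [smul_assoc]
      · have hne : i + n ≠ n + d := by
          intro h
          apply hid
          linarith
        rw [decompose_of_mem_ne ℳ hax hne, smul_zero]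
        exact ⟨0, zero_mem _, (zero_smul _ _).symm⟩
    · exact ⟨0, zero_mem _, by rw [map_zero, LinearMap.zero_apply, map_zero, zero_smul]⟩
    · rintro u v _ _ ⟨r, hr, hru⟩ ⟨r', hr', hrv⟩
      refine ⟨r + r', add_mem hr hr', ?_⟩
      rw [map_add, LinearMap.add_apply, map_add, hru, hrv, add_smul]
    · rintro a u _ ⟨r, hr, hru⟩
      refine ⟨a • r, Submodule.smul_mem _ _ hr, ?_⟩
      rw [map_smul, LinearMap.smul_apply, map_smul, hru, smul_assoc]
  have hall : ∀ t : T, ∃ r ∈ 𝒜 d, Λ (GrSeg.act k R S M N (ψ t) (x ⊗ₜ[k] y)) = r • x := by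
    intro t
    refine DirectSum.Decomposition.inductionOn 𝒯
      (motive := fun t => ∃ r ∈ 𝒜 d, Λ (GrSeg.act k R S M N (ψ t) (x ⊗ₜ[k] y)) = r • x)
      ?_ ?_ ?_ t
    · exact ⟨0, zero_mem _, by rw [map_zero, map_zero, LinearMap.zero_apply, map_zero, zero_smul]⟩
    · intro i m
      apply hpiece i
      rw [← hTseg i]
      exact ⟨m, m.2, rfl⟩
    · rintro u v ⟨r, hr, hru⟩ ⟨r', hr', hrv⟩
      refine ⟨r + r', add_mem hr hr', ?_⟩
      rw [map_add, map_add, LinearMap.add_apply, map_add, hru, hrv, add_smul]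
  -- `z ⊗ w` comes from `P`
  have hzw : z ⊗ₜ[k] w ∈ φ '' (𝒬 (n + d) : Set P) := by
    rw [hP.image_piece]
    exact Submodule.subset_span ⟨z, hz, w, hw, rfl⟩
  obtain ⟨q, _, hq⟩ := hzw
  have hqp : q ∈ Submodule.span T {p} := by rw [hgen]; trivial
  obtain ⟨t, rfl⟩ := Submodule.mem_span_singleton.1 hqp
  obtain ⟨r, hr, hrx⟩ := hall t
  refine ⟨r, hr, ?_⟩
  rw [← hrx, ← hp, ← hP.map_smul, hq, hΛ, hlam, one_smul, hπ, decompose_of_mem_same ℳ hz]

end Main

end Groth.Agent.Lib.SegreH3
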