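import Mathlib
import Groth.Prelude.Def_GrSeg
import Groth.Agent.Lib.Segre_helper3

/-!
# Segre products of finitely generated graded modules are finitely generated (helper3)

* `proj`: `k`-linear homogeneous projection of a graded module.
* `segModule`: the `R ⊗ S`-module structure on `M ⊗ N` (local use only).
* `biprojW`, `biprojA`: bihomogeneous projections, `biprojW_act`.
* `finite_segre`: `M # N` is a finite `R # S`-module.
APPEND-ONLY once landed.
-/

set_option autoImplicit false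

namespace Groth.Agent.Lib.SegreH3

universe u

open scoped TensorProduct
open DirectSum

section Proj

variable {k : Type u} [Field k] {R : Type u} [CommRing R] [Algebra k R]
  (𝒜 : ℤ → Submodule k R) [GradedAlgebra 𝒜]
  {M : Type u} [AddCommGroup M] [Module R M] [Module k M] [IsScalarTower k R M]
  (ℳ : ℤ → AddSubgroup M) [DirectSum.Decomposition ℳ] [SetLike.GradedSMul 𝒜 ℳ]

/-- the `k`-linear projection onto the degree-`i` component -/
noncomputable def proj (i : ℤ) : M →ₗ[k] M where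
  toFun m := ((decompose ℳ m i : ℳ i) : M)
  map_add' m m' := by rw [decompose_add, DirectSum.add_apply, AddSubgroup.coe_add]
  map_smul' a m := by
    rw [RingHom.id_apply, ← algebraMap_smul R a m,
      decompose_smul 𝒜 ℳ (SetLike.algebraMap_mem_graded 𝒜 a) m i i (zero_add _), algebraMap_smul]

theorem proj_apply (i : ℤ) (m : M) : proj 𝒜 ℳ i m = ((decompose ℳ m i : ℳ i) : M) := rfl

theorem proj_mem (i : ℤ) (m : M) : proj 𝒜 ℳ i m ∈ ℳ i := SetLike.coe_mem _

theorem proj_of_mem {i : ℤ} {m : M} (hm : m ∈ ℳ i) : proj 𝒜 ℳ i m = m :=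
  decompose_of_mem_same ℳ hm

theorem proj_of_mem_ne {i j : ℤ} {m : M} (hm : m ∈ ℳ i) (h : i ≠ j) : proj 𝒜 ℳ j m = 0 :=
  decompose_of_mem_ne ℳ hm h

theorem proj_smul_of_mem {u : ℤ} {m : M} (hm : m ∈ ℳ u) (r : R) (i j : ℤ) (hij : j + u = i) :
    proj 𝒜 ℳ i (r • m) = (GradedAlgebra.proj 𝒜 j r) • m := by
  subst hij
  refine DirectSum.Decomposition.inductionOn 𝒜 ?_ ?_ ?_ r
  · simp
  · intro l r
    have hrm : (r : R) • m ∈ ℳ (l + u) := smul_mem 𝒜 ℳ r.2 hm
    by_cases hlj : l = j
    · subst hlj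
      rw [proj_of_mem 𝒜 ℳ hrm, GradedAlgebra.proj_apply, decompose_of_mem_same 𝒜 r.2]
    · rw [proj_of_mem_ne 𝒜 ℳ hrm (fun h => hlj (add_right_cancel h)), GradedAlgebra.proj_apply,
        decompose_of_mem_ne 𝒜 r.2 hlj, zero_smul]
  · intro r r' hr hr'
    rw [add_smul, map_add, hr, hr', map_add, add_smul]

end Proj

section Act

variable (k : Type u) [Field k] (R : Type u) [CommRing R] [Algebra k R]
  (S : Type u) [CommRing S] [Algebra k S]
  (M : Type u) [AddCommGroup M] [Module R M] [Module k M] [IsScalarTower k R M]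
  (N : Type u) [AddCommGroup N] [Module S N] [Module k N] [IsScalarTower k S N]

theorem act_one : GrSeg.act k R S M N 1 = LinearMap.id := by
  apply TensorProduct.ext'
  intro m n
  rw [Algebra.TensorProduct.one_def, GrSeg.act_tmul, one_smul, one_smul]
  rfl

theorem act_mul (a a' : TensorProduct k R S) :
    GrSeg.act k R S M N (a * a') = (GrSeg.act k R S M N a) ∘ₗ (GrSeg.act k R S M N a') := by
  induction a using TensorProduct.induction_on with
  | zero => simp
  | tmul r s =>
    induction a' using TensorProduct.induction_on with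
    | zero => simp
    | tmul r' s' =>
      apply TensorProduct.ext'
      intro m n
      rw [Algebra.TensorProduct.tmul_mul_tmul, LinearMap.comp_apply, GrSeg.act_tmul,
        GrSeg.act_tmul, GrSeg.act_tmul, mul_smul, mul_smul]
    | add x y hx hy => rw [mul_add, map_add, hx, hy, map_add, LinearMap.comp_add]
  | add x y hx hy => rw [add_mul, map_add, hx, hy, map_add, LinearMap.add_comp]

/-- the action as a ring homomorphism into the endomorphism ring -/
noncomputable def actHom : TensorProduct k R S →+* Module.End k (TensorProduct k M N) where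
  toFun a := GrSeg.act k R S M N a
  map_one' := act_one k R S M N
  map_mul' a a' := act_mul k R S M N a a'
  map_zero' := map_zero _
  map_add' := map_add _

/-- the `R ⊗ S`-module structure on `M ⊗ N` (used locally, never as a global instance) -/
noncomputable def segModule : Module (TensorProduct k R S) (TensorProduct k M N) :=
  Module.compHom (TensorProduct k M N) (actHom k R S M N)

attribute [local instance] segModule

theorem seg_smul_def (a : TensorProduct k R S) (w : TensorProduct k M N) :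
    a • w = GrSeg.act k R S M N a w := rfl

theorem finite_seg [Module.Finite R M] [Module.Finite S N] :
    Module.Finite (TensorProduct k R S) (TensorProduct k M N) := by
  classical
  obtain ⟨sM, hsM⟩ := (Module.finite_def.1 (inferInstance : Module.Finite R M))
  obtain ⟨sN, hsN⟩ := (Module.finite_def.1 (inferInstance : Module.Finite S N))
  refine ⟨⟨Finset.image₂ (fun m n => m ⊗ₜ[k] n) sM sN, ?_⟩⟩
  set Sp := Submodule.span (TensorProduct k R S)
    (↑(Finset.image₂ (fun m n => m ⊗ₜ[k] n) sM sN) : Set (TensorProduct k M N)) with hSp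
  have h1 : ∀ n ∈ sN, ∀ m : M, m ⊗ₜ[k] n ∈ Sp := by
    intro n hn m
    have hm : m ∈ Submodule.span R (sM : Set M) := by rw [hsM]; trivial
    refine Submodule.span_induction (p := fun m _ => m ⊗ₜ[k] n ∈ Sp) ?_ ?_ ?_ ?_ hm
    · intro m hm
      exact Submodule.subset_span (Finset.mem_coe.2 (Finset.mem_image₂.2 ⟨m, hm, n, hn, rfl⟩))
    · rw [TensorProduct.zero_tmul]; exact zero_mem _
    · intro x y _ _ hx hy
      rw [TensorProduct.add_tmul]; exact add_mem hx hy
    · intro r x _ hx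
      have : (r • x) ⊗ₜ[k] n = (r ⊗ₜ[k] (1 : S)) • (x ⊗ₜ[k] n) := by
        rw [seg_smul_def, GrSeg.act_tmul, one_smul]
      rw [this]; exact Submodule.smul_mem _ _ hx
  have h2 : ∀ (m : M) (n : N), m ⊗ₜ[k] n ∈ Sp := by
    intro m n
    have hn : n ∈ Submodule.span S (sN : Set N) := by rw [hsN]; trivial
    refine Submodule.span_induction (p := fun n _ => m ⊗ₜ[k] n ∈ Sp) ?_ ?_ ?_ ?_ hn
    · intro n hn; exact h1 n hn m
    · rw [TensorProduct.tmul_zero]; exact zero_mem _
    · intro x y _ _ hx hy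
      rw [TensorProduct.tmul_add]; exact add_mem hx hy
    · intro s x _ hx
      have : m ⊗ₜ[k] (s • x) = ((1 : R) ⊗ₜ[k] s) • (m ⊗ₜ[k] x) := by
        rw [seg_smul_def, GrSeg.act_tmul, one_smul]
      rw [this]; exact Submodule.smul_mem _ _ hx
  rw [eq_top_iff]
  rintro w -
  induction w using TensorProduct.induction_on with
  | zero => exact zero_mem _
  | tmul m n => exact h2 m n
  | add x y hx hy => exact add_mem hx hy

end Act

section Biproj

variable {k : Type u} [Field k] {R : Type u} [CommRing R] [Algebra k R]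
  (𝒜 : ℤ → Submodule k R) [GradedAlgebra 𝒜]
  {S : Type u} [CommRing S] [Algebra k S] (ℬ : ℤ → Submodule k S) [GradedAlgebra ℬ]
  {M : Type u} [AddCommGroup M] [Module R M] [Module k M] [IsScalarTower k R M]
  (ℳ : ℤ → AddSubgroup M) [DirectSum.Decomposition ℳ] [SetLike.GradedSMul 𝒜 ℳ]
  {N : Type u} [AddCommGroup N] [Module S N] [Module k N] [IsScalarTower k S N]
  (𝒩 : ℤ → AddSubgroup N) [DirectSum.Decomposition 𝒩] [SetLike.GradedSMul ℬ 𝒩]

/-- bihomogeneous projection on `M ⊗ N` -/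
noncomputable def biprojW (i j : ℤ) : TensorProduct k M N →ₗ[k] TensorProduct k M N :=
  TensorProduct.map (proj 𝒜 ℳ i) (proj ℬ 𝒩 j)

/-- bihomogeneous projection on `R ⊗ S` -/
noncomputable def biprojA (i j : ℤ) : TensorProduct k R S →ₗ[k] TensorProduct k R S :=
  TensorProduct.map (GradedAlgebra.proj 𝒜 i) (GradedAlgebra.proj ℬ j)

theorem biprojW_act_tmul {u v : ℤ} {m : M} (hm : m ∈ ℳ u) {n : N} (hn : n ∈ 𝒩 v)
    (i j i' j' : ℤ) (hi : i' + u = i) (hj : j' + v = j) (a : TensorProduct k R S) :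
    biprojW 𝒜 ℬ ℳ 𝒩 i j (GrSeg.act k R S M N a (m ⊗ₜ[k] n)) =
      GrSeg.act k R S M N (biprojA 𝒜 ℬ i' j' a) (m ⊗ₜ[k] n) := by
  induction a using TensorProduct.induction_on with
  | zero => simp
  | tmul r s =>
    rw [GrSeg.act_tmul]
    unfold biprojW biprojA
    rw [TensorProduct.map_tmul, TensorProduct.map_tmul, GrSeg.act_tmul,
      proj_smul_of_mem 𝒜 ℳ hm r i i' hi, proj_smul_of_mem ℬ 𝒩 hn s j j' hj]
  | add x y hx hy =>
    rw [map_add, LinearMap.add_apply, map_add, hx, hy, map_add, map_add, LinearMap.add_apply]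

theorem biprojW_act {u : ℤ} {w : TensorProduct k M N} (hw : w ∈ GrSeg.segrePiece k ℳ 𝒩 u)
    (i i' : ℤ) (hi : i' + u = i) (a : TensorProduct k R S) :
    biprojW 𝒜 ℬ ℳ 𝒩 i i (GrSeg.act k R S M N a w) =
      GrSeg.act k R S M N (biprojA 𝒜 ℬ i' i' a) w := by
  unfold GrSeg.segrePiece at hw
  refine Submodule.span_induction
    (p := fun w _ => biprojW 𝒜 ℬ ℳ 𝒩 i i (GrSeg.act k R S M N a w) =
      GrSeg.act k R S M N (biprojA 𝒜 ℬ i' i' a) w) ?_ ?_ ?_ ?_ hw
  · rintro _ ⟨m, hm, n, hn, rfl⟩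
    exact biprojW_act_tmul 𝒜 ℬ ℳ 𝒩 hm hn i i i' i' hi hi a
  · simp
  · intro x y _ _ hx hy
    rw [map_add, map_add, hx, hy, map_add]
  · intro c x _ hx
    rw [map_smul, map_smul, hx, map_smul]

theorem biprojW_of_mem {n : ℤ} {w : TensorProduct k M N} (hw : w ∈ GrSeg.segrePiece k ℳ 𝒩 n) :
    biprojW 𝒜 ℬ ℳ 𝒩 n n w = w := by
  unfold GrSeg.segrePiece at hw
  refine Submodule.span_induction (p := fun w _ => biprojW 𝒜 ℬ ℳ 𝒩 n n w = w) ?_ ?_ ?_ ?_ hw
  · rintro _ ⟨m, hm, n', hn', rfl⟩
    unfold biprojW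
    rw [TensorProduct.map_tmul, proj_of_mem 𝒜 ℳ hm, proj_of_mem ℬ 𝒩 hn']
  · simp
  · intro x y _ _ hx hy
    rw [map_add, hx, hy]
  · intro c x _ hx
    rw [map_smul, hx]

theorem biprojA_mem (l : ℤ) (a : TensorProduct k R S) :
    biprojA 𝒜 ℬ l l a ∈ GrSeg.segrePiece k 𝒜 ℬ l := by
  induction a using TensorProduct.induction_on with
  | zero => rw [map_zero]; exact zero_mem _
  | tmul r s =>
    unfold biprojA
    rw [TensorProduct.map_tmul]
    exact Submodule.subset_span ⟨_, SetLike.coe_mem (decompose 𝒜 r l), _,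
      SetLike.coe_mem (decompose ℬ s l), rfl⟩
  | add x y hx hy => rw [map_add]; exact add_mem hx hy

end Biproj

section Main

variable (k : Type u) [Field k] (R : Type u) [CommRing R] [Algebra k R]
  (𝒜 : ℤ → Submodule k R) [GradedAlgebra 𝒜] [Algebra.FiniteType k R]
  (S : Type u) [CommRing S] [Algebra k S] (ℬ : ℤ → Submodule k S) [GradedAlgebra ℬ]
  [Algebra.FiniteType k S]
  (T : Type u) [CommRing T] [Algebra k T] (𝒯 : ℤ → Submodule k T) [GradedAlgebra 𝒯]
  (ψ : T →ₐ[k] TensorProduct k R S) (hT : GrSeg.IsSegreRing 𝒜 ℬ 𝒯 ψ)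
  (M : Type u) [AddCommGroup M] [Module R M] [Module k M] [IsScalarTower k R M]
  (ℳ : ℤ → AddSubgroup M) [DirectSum.Decomposition ℳ] [SetLike.GradedSMul 𝒜 ℳ]
  [Module.Finite R M]
  (N : Type u) [AddCommGroup N] [Module S N] [Module k N] [IsScalarTower k S N]
  (𝒩 : ℤ → AddSubgroup N) [DirectSum.Decomposition 𝒩] [SetLike.GradedSMul ℬ 𝒩]
  [Module.Finite S N]
  (P : Type u) [AddCommGroup P] [Module T P] [Module k P] [IsScalarTower k T P]
  (𝒬 : ℤ → AddSubgroup P) [DirectSum.Decomposition 𝒬]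
  (φ : P →ₗ[k] TensorProduct k M N) (hP : GrSeg.IsSegreMod ψ ℳ 𝒩 𝒬 φ)

include hT hP in
theorem finite_segre : Module.Finite T P := by
  classical
  letI := segModule k R S M N
  haveI : Algebra.FiniteType k (TensorProduct k R S) :=
    Algebra.FiniteType.trans (inferInstance : Algebra.FiniteType k R)
      (inferInstance : Algebra.FiniteType R (TensorProduct k R S))
  haveI : IsNoetherianRing (TensorProduct k R S) :=
    Algebra.FiniteType.isNoetherianRing k (TensorProduct k R S)
  haveI : Module.Finite (TensorProduct k R S) (TensorProduct k M N) := finite_seg k R S M N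
  haveI : IsNoetherian (TensorProduct k R S) (TensorProduct k M N) :=
    isNoetherian_of_isNoetherianRing_of_finite (TensorProduct k R S) (TensorProduct k M N)
  let H : Set (TensorProduct k M N) := {w | ∃ (n : ℤ) (p : P), p ∈ 𝒬 n ∧ φ p = w}
  have hfg : (Submodule.span (TensorProduct k R S) H).FG := IsNoetherian.noetherian _
  obtain ⟨H0, hH0, hspan⟩ := (Submodule.fg_span_iff_fg_span_finset_subset H).1 hfg
  have hch : ∀ h ∈ H0, ∃ (p : P) (n : ℤ), p ∈ 𝒬 n ∧ φ p = h := by
    intro h hh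
    obtain ⟨n, p, hp, rfl⟩ := hH0 hh
    exact ⟨p, n, hp, rfl⟩
  choose! pf nf hpf hφpf using hch
  have hpiece : ∀ (n : ℤ) (p : P), p ∈ 𝒬 n → φ p ∈ GrSeg.segrePiece k ℳ 𝒩 n := by
    intro n p hp
    have := hP.image_piece n
    rw [← SetLike.mem_coe, ← this]
    exact ⟨p, hp, rfl⟩
  have hhom : ∀ (n : ℤ) (p : P), p ∈ 𝒬 n → p ∈ Submodule.span T (pf '' (H0 : Set _)) := by
    intro n p hp
    have h1 : φ p ∈ Submodule.span (TensorProduct k R S) (H0 : Set (TensorProduct k M N)) := by
      rw [← hspan]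
      exact Submodule.subset_span ⟨n, p, hp, rfl⟩
    obtain ⟨c, -, hc⟩ := Submodule.mem_span_finset.1 h1
    have hseg := hpiece n p hp
    have e1 : φ p = ∑ h ∈ H0, biprojW 𝒜 ℬ ℳ 𝒩 n n (c h • h) := by
      rw [← map_sum, hc, biprojW_of_mem 𝒜 ℬ ℳ 𝒩 hseg]
    have e2 : ∀ h ∈ H0, ∃ t : T, biprojW 𝒜 ℬ ℳ 𝒩 n n (c h • h) = φ (t • pf h) := by
      intro h hh
      have hh' : h ∈ GrSeg.segrePiece k ℳ 𝒩 (nf h) := by
        have h4 := hpiece (nf h) (pf h) (hpf h hh)
        rwa [hφpf h hh] at h4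
      have h3 := biprojW_act 𝒜 ℬ ℳ 𝒩 hh' n (n - nf h) (sub_add_cancel _ _) (c h)
      have hmem := biprojA_mem 𝒜 ℬ (n - nf h) (c h)
      rw [← hT.2 (n - nf h)] at hmem
      obtain ⟨t, _, ht⟩ := hmem
      refine ⟨t, ?_⟩
      have ht' : ψ t = biprojA 𝒜 ℬ (n - nf h) (n - nf h) (c h) := ht
      rw [hP.map_smul, hφpf h hh, ht']
      exact h3
    choose! tf htf using e2
    have e3 : φ p = φ (∑ h ∈ H0, tf h • pf h) := by
      rw [map_sum, e1]
      exact Finset.sum_congr rfl htf
    rw [hP.injective e3]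
    exact Submodule.sum_mem _ fun h hh =>
      Submodule.smul_mem _ _ (Submodule.subset_span ⟨h, hh, rfl⟩)
  refine ⟨⟨H0.image pf, ?_⟩⟩
  rw [Finset.coe_image, eq_top_iff]
  rintro p -
  refine DirectSum.Decomposition.inductionOn 𝒬
    (motive := fun p => p ∈ Submodule.span T (pf '' (H0 : Set (TensorProduct k M N)))) ?_ ?_ ?_ p
  · exact zero_mem _
  · intro i m
    exact hhom i m m.2
  · intro m m' hm hm'
    exact add_mem hm hm'

end Main

end Groth.Agent.Lib.SegreH3
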