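import Mathlib
import Groth.Prelude.Def_GrLC
import Groth.Prelude.Def_GrSeg
import Groth.Agent.Lib.SegreFin_helper3

/-! The Segre product of two graded modules, as a graded module over the Segre ring (helper1).
APPEND-ONLY once landed. -/

set_option autoImplicit false

namespace Groth.Agent.Lib.SegF1H1

open scoped TensorProduct
open DirectSum GrLC Groth.Agent.Lib.SegreH3

universe u

variable {k : Type u} [Field k]
  {R : Type u} [CommRing R] [Algebra k R] {𝒜 : ℤ → Submodule k R} [GradedAlgebra 𝒜]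
  {S : Type u} [CommRing S] [Algebra k S] {ℬ : ℤ → Submodule k S} [GradedAlgebra ℬ]
  {T : Type u} [CommRing T] [Algebra k T] {𝒯 : ℤ → Submodule k T} [GradedAlgebra 𝒯]
  {ψ : T →ₐ[k] R ⊗[k] S}

/-! ### the underlying `k`-space -/
section basic

variable {X : Type u} [AddCommGroup X] [Module R X] [Module k X] [IsScalarTower k R X]
  (𝒳 : ℤ → AddSubgroup X)
  {Y : Type u} [AddCommGroup Y] [Module S Y] [Module k Y] [IsScalarTower k S Y]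
  (𝒴 : ℤ → AddSubgroup Y)

variable (k) in
/-- the span of all the diagonal pieces -/
def segK : Submodule k (X ⊗[k] Y) := ⨆ n : ℤ, GrSeg.segrePiece k 𝒳 𝒴 n

theorem piece_le_segK (n : ℤ) : GrSeg.segrePiece k 𝒳 𝒴 n ≤ segK k 𝒳 𝒴 :=
  le_iSup (fun n => GrSeg.segrePiece k 𝒳 𝒴 n) n

theorem tmul_mem_piece {n : ℤ} {x : X} (hx : x ∈ 𝒳 n) {y : Y} (hy : y ∈ 𝒴 n) :
    x ⊗ₜ[k] y ∈ GrSeg.segrePiece k 𝒳 𝒴 n :=
  Submodule.subset_span ⟨x, hx, y, hy, rfl⟩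

theorem psi_mem_piece (hT : GrSeg.IsSegreRing 𝒜 ℬ 𝒯 ψ) {c : ℤ} {t : T} (ht : t ∈ 𝒯 c) :
    ψ t ∈ GrSeg.segrePiece k 𝒜 ℬ c := by
  rw [← hT.2 c]
  exact ⟨t, ht, rfl⟩

/-- the Segre product `X # Y`, as a type -/
def SegM (_hT : GrSeg.IsSegreRing 𝒜 ℬ 𝒯 ψ) : Type u := ↥(segK k 𝒳 𝒴)

variable (hT : GrSeg.IsSegreRing 𝒜 ℬ 𝒯 ψ)

instance instACG : AddCommGroup (SegM 𝒳 𝒴 hT) := inferInstanceAs (AddCommGroup ↥(segK k 𝒳 𝒴))

instance instModK : Module k (SegM 𝒳 𝒴 hT) := inferInstanceAs (Module k ↥(segK k 𝒳 𝒴))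

/-- the inclusion into the tensor product -/
def segι : SegM 𝒳 𝒴 hT →ₗ[k] X ⊗[k] Y := (segK k 𝒳 𝒴).subtype

theorem segι_injective : Function.Injective (segι 𝒳 𝒴 hT) := Subtype.val_injective

theorem segι_mem (z : SegM 𝒳 𝒴 hT) : segι 𝒳 𝒴 hT z ∈ segK k 𝒳 𝒴 := z.2

/-- build an element -/
def segMk (z : X ⊗[k] Y) (hz : z ∈ segK k 𝒳 𝒴) : SegM 𝒳 𝒴 hT := ⟨z, hz⟩

theorem segι_segMk (z : X ⊗[k] Y) (hz : z ∈ segK k 𝒳 𝒴) :
    segι 𝒳 𝒴 hT (segMk 𝒳 𝒴 hT z hz) = z := rfl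

theorem segMk_segι (z : SegM 𝒳 𝒴 hT) :
    segMk 𝒳 𝒴 hT (segι 𝒳 𝒴 hT z) (segι_mem 𝒳 𝒴 hT z) = z := rfl

/-- the pieces -/
def segGr (n : ℤ) : AddSubgroup (SegM 𝒳 𝒴 hT) :=
  ((GrSeg.segrePiece k 𝒳 𝒴 n).comap (segι 𝒳 𝒴 hT)).toAddSubgroup

theorem mem_segGr {n : ℤ} {z : SegM 𝒳 𝒴 hT} :
    z ∈ segGr 𝒳 𝒴 hT n ↔ segι 𝒳 𝒴 hT z ∈ GrSeg.segrePiece k 𝒳 𝒴 n := Iff.rfl

end basic

/-! ### the module structure and the grading -/
section graded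

variable {X : Type u} [AddCommGroup X] [Module R X] [Module k X] [IsScalarTower k R X]
  (𝒳 : ℤ → AddSubgroup X) [Decomposition 𝒳] [SetLike.GradedSMul 𝒜 𝒳]
  {Y : Type u} [AddCommGroup Y] [Module S Y] [Module k Y] [IsScalarTower k S Y]
  (𝒴 : ℤ → AddSubgroup Y) [Decomposition 𝒴] [SetLike.GradedSMul ℬ 𝒴]

theorem act_piece {c n : ℤ} {w : R ⊗[k] S} (hw : w ∈ GrSeg.segrePiece k 𝒜 ℬ c)
    {z : X ⊗[k] Y} (hz : z ∈ GrSeg.segrePiece k 𝒳 𝒴 n) :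
    GrSeg.act k R S X Y w z ∈ GrSeg.segrePiece k 𝒳 𝒴 (c + n) := by
  unfold GrSeg.segrePiece at hw
  induction hw using Submodule.span_induction with
  | mem w hw =>
    obtain ⟨a, ha, b, hb, rfl⟩ := hw
    unfold GrSeg.segrePiece at hz
    induction hz using Submodule.span_induction with
    | mem z hz =>
      obtain ⟨x, hx, y, hy, rfl⟩ := hz
      rw [GrSeg.act_tmul]
      exact tmul_mem_piece 𝒳 𝒴 (SegreH3.smul_mem 𝒜 𝒳 ha hx) (SegreH3.smul_mem ℬ 𝒴 hb hy)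
    | zero => rw [map_zero]; exact zero_mem _
    | add z₁ z₂ _ _ h₁ h₂ => rw [map_add]; exact add_mem h₁ h₂
    | smul r z₁ _ h₁ => rw [map_smul]; exact Submodule.smul_mem _ r h₁
  | zero => rw [map_zero, LinearMap.zero_apply]; exact zero_mem _
  | add w₁ w₂ _ _ h₁ h₂ => rw [map_add, LinearMap.add_apply]; exact add_mem h₁ h₂
  | smul r w₁ _ h₁ => rw [map_smul, LinearMap.smul_apply]; exact Submodule.smul_mem _ r h₁

variable (hT : GrSeg.IsSegreRing 𝒜 ℬ 𝒯 ψ)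

include hT in
theorem act_mem_segK (t : T) {z : X ⊗[k] Y} (hz : z ∈ segK k 𝒳 𝒴) :
    GrSeg.act k R S X Y (ψ t) z ∈ segK k 𝒳 𝒴 := by
  induction t using DirectSum.Decomposition.inductionOn 𝒯 with
  | zero => rw [map_zero, map_zero, LinearMap.zero_apply]; exact zero_mem _
  | @homogeneous c t =>
    refine Submodule.iSup_induction (fun n => GrSeg.segrePiece k 𝒳 𝒴 n)
      (motive := fun z => GrSeg.act k R S X Y (ψ t) z ∈ segK k 𝒳 𝒴) hz ?_ ?_ ?_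
    · intro n z hz
      exact piece_le_segK 𝒳 𝒴 (c + n) (act_piece 𝒳 𝒴 (psi_mem_piece hT t.2) hz)
    · rw [map_zero]; exact zero_mem _
    · intro z₁ z₂ h₁ h₂
      rw [map_add]; exact add_mem h₁ h₂
  | add t t' h h' => rw [map_add, map_add, LinearMap.add_apply]; exact add_mem h h'

/-- the action of `T`, as a ring homomorphism into the endomorphisms -/
noncomputable def tEnd : T →+* Module.End k (SegM 𝒳 𝒴 hT) where
  toFun t := (GrSeg.act k R S X Y (ψ t)).restrict (p := segK k 𝒳 𝒴) (q := segK k 𝒳 𝒴)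
    (fun _ hz => act_mem_segK 𝒳 𝒴 hT t hz)
  map_one' := by
    apply LinearMap.ext
    intro z
    apply segι_injective 𝒳 𝒴 hT
    show GrSeg.act k R S X Y (ψ 1) (segι 𝒳 𝒴 hT z) = segι 𝒳 𝒴 hT z
    rw [map_one, act_one]
    rfl
  map_mul' t t' := by
    apply LinearMap.ext
    intro z
    apply segι_injective 𝒳 𝒴 hT
    show GrSeg.act k R S X Y (ψ (t * t')) (segι 𝒳 𝒴 hT z) =
      GrSeg.act k R S X Y (ψ t) (GrSeg.act k R S X Y (ψ t') (segι 𝒳 𝒴 hT z))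
    rw [map_mul, act_mul]
    rfl
  map_zero' := by
    apply LinearMap.ext
    intro z
    apply segι_injective 𝒳 𝒴 hT
    show GrSeg.act k R S X Y (ψ 0) (segι 𝒳 𝒴 hT z) = 0
    rw [map_zero, map_zero, LinearMap.zero_apply]
  map_add' t t' := by
    apply LinearMap.ext
    intro z
    apply segι_injective 𝒳 𝒴 hT
    show GrSeg.act k R S X Y (ψ (t + t')) (segι 𝒳 𝒴 hT z) =
      GrSeg.act k R S X Y (ψ t) (segι 𝒳 𝒴 hT z) + GrSeg.act k R S X Y (ψ t') (segι 𝒳 𝒴 hT z)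
    rw [map_add, map_add, LinearMap.add_apply]

noncomputable instance instModT : Module T (SegM 𝒳 𝒴 hT) :=
  Module.compHom (SegM 𝒳 𝒴 hT) (tEnd 𝒳 𝒴 hT)

theorem segι_smul (t : T) (z : SegM 𝒳 𝒴 hT) :
    segι 𝒳 𝒴 hT (t • z) = GrSeg.act k R S X Y (ψ t) (segι 𝒳 𝒴 hT z) := rfl

instance instTower : IsScalarTower k T (SegM 𝒳 𝒴 hT) where
  smul_assoc c t z := by
    apply segι_injective 𝒳 𝒴 hT
    rw [segι_smul, map_smul (segι 𝒳 𝒴 hT) c (t • z), segι_smul, map_smul ψ c t,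
      map_smul (GrSeg.act k R S X Y) c (ψ t), LinearMap.smul_apply]

theorem biproj_of_mem_ne {m n : ℤ} (h : m ≠ n) {z : X ⊗[k] Y}
    (hz : z ∈ GrSeg.segrePiece k 𝒳 𝒴 m) : biprojW 𝒜 ℬ 𝒳 𝒴 n n z = 0 := by
  unfold GrSeg.segrePiece at hz
  induction hz using Submodule.span_induction with
  | mem z hz =>
    obtain ⟨x, hx, y, hy, rfl⟩ := hz
    unfold biprojW
    rw [TensorProduct.map_tmul, proj_of_mem_ne 𝒜 𝒳 hx h, TensorProduct.zero_tmul]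
  | zero => rw [map_zero]
  | add z₁ z₂ _ _ h₁ h₂ => rw [map_add, h₁, h₂, add_zero]
  | smul r z₁ _ h₁ => rw [map_smul, h₁, smul_zero]

theorem rho_coe (x : ⨁ n, segGr 𝒳 𝒴 hT n) (n : ℤ) :
    biprojW 𝒜 ℬ 𝒳 𝒴 n n (segι 𝒳 𝒴 hT (DirectSum.coeAddMonoidHom (segGr 𝒳 𝒴 hT) x)) =
      segι 𝒳 𝒴 hT ((x n : segGr 𝒳 𝒴 hT n) : SegM 𝒳 𝒴 hT) := by
  induction x using DirectSum.induction_on with
  | zero =>
    rw [map_zero, map_zero, map_zero, DirectSum.zero_apply, ZeroMemClass.coe_zero, map_zero]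
  | of m y =>
    rw [DirectSum.coeAddMonoidHom_of]
    by_cases h : m = n
    · subst h
      rw [DirectSum.of_eq_same]
      exact biprojW_of_mem 𝒜 ℬ 𝒳 𝒴 y.2
    · rw [DirectSum.of_eq_of_ne _ _ _ (Ne.symm h), ZeroMemClass.coe_zero, map_zero]
      exact biproj_of_mem_ne 𝒳 𝒴 h y.2
  | add x y hx hy =>
    rw [map_add, map_add, map_add, hx, hy, DirectSum.add_apply, AddSubgroup.coe_add, map_add]

theorem seg_isInternal : DirectSum.IsInternal (segGr 𝒳 𝒴 hT) := by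
  constructor
  · rw [injective_iff_map_eq_zero]
    intro x hx
    apply DFinsupp.ext
    intro n
    apply Subtype.ext
    apply segι_injective 𝒳 𝒴 hT
    rw [← rho_coe 𝒳 𝒴 hT x n, hx, map_zero, map_zero, DirectSum.zero_apply,
      ZeroMemClass.coe_zero, map_zero]
  · intro z
    have key : ∀ (w : X ⊗[k] Y) (hw : w ∈ segK k 𝒳 𝒴),
        ∃ x : ⨁ n, segGr 𝒳 𝒴 hT n,
          DirectSum.coeAddMonoidHom (segGr 𝒳 𝒴 hT) x = segMk 𝒳 𝒴 hT w hw := by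
      intro w hw
      refine Submodule.iSup_induction' (fun n => GrSeg.segrePiece k 𝒳 𝒴 n)
        (motive := fun w hw => ∃ x : ⨁ n, segGr 𝒳 𝒴 hT n,
          DirectSum.coeAddMonoidHom (segGr 𝒳 𝒴 hT) x = segMk 𝒳 𝒴 hT w hw) ?_ ?_ ?_ hw
      · intro n w hw
        exact ⟨DirectSum.of (fun n => segGr 𝒳 𝒴 hT n) n
          ⟨segMk 𝒳 𝒴 hT w (piece_le_segK 𝒳 𝒴 n hw), hw⟩,
          by rw [DirectSum.coeAddMonoidHom_of]⟩
      · exact ⟨0, by rw [map_zero]; rfl⟩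
      · rintro w₁ w₂ h₁ h₂ ⟨x₁, e₁⟩ ⟨x₂, e₂⟩
        exact ⟨x₁ + x₂, by rw [map_add, e₁, e₂]; rfl⟩
    obtain ⟨x, hx⟩ := key (segι 𝒳 𝒴 hT z) (segι_mem 𝒳 𝒴 hT z)
    exact ⟨x, hx⟩

/-- the decomposition of the Segre product -/
noncomputable def segDecomp : Decomposition (segGr 𝒳 𝒴 hT) :=
  (seg_isInternal 𝒳 𝒴 hT).chooseDecomposition

theorem seg_gsmul : SetLike.GradedSMul 𝒯 (segGr 𝒳 𝒴 hT) where
  smul_mem := by
    intro c n t z ht hz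
    show segι 𝒳 𝒴 hT (t • z) ∈ GrSeg.segrePiece k 𝒳 𝒴 (c + n)
    rw [segι_smul]
    exact act_piece 𝒳 𝒴 (psi_mem_piece hT ht) hz

/-- the Segre product, bundled as a graded module over the Segre ring -/
noncomputable def SegG : GMod.{u} 𝒯 :=
  letI := segDecomp 𝒳 𝒴 hT
  letI := seg_gsmul 𝒳 𝒴 hT
  { carrier := SegM 𝒳 𝒴 hT, gr := segGr 𝒳 𝒴 hT }

theorem seg_isSegreMod :
    letI := segDecomp 𝒳 𝒴 hT
    GrSeg.IsSegreMod ψ 𝒳 𝒴 (segGr 𝒳 𝒴 hT) (segι 𝒳 𝒴 hT) := by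
  letI := segDecomp 𝒳 𝒴 hT
  refine ⟨segι_injective 𝒳 𝒴 hT, fun n => ?_, fun t p => segι_smul 𝒳 𝒴 hT t p⟩
  ext w
  constructor
  · rintro ⟨z, hz, rfl⟩
    exact hz
  · intro hw
    exact ⟨segMk 𝒳 𝒴 hT w (piece_le_segK 𝒳 𝒴 n hw), hw, rfl⟩

/-- every element of the Segre product is the sum of finitely many diagonal components -/
theorem exists_finset_sum (z : SegM 𝒳 𝒴 hT) : ∃ F : Finset ℤ,
    segι 𝒳 𝒴 hT z = ∑ n ∈ F, biprojW 𝒜 ℬ 𝒳 𝒴 n n (segι 𝒳 𝒴 hT z) := by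
  classical
  obtain ⟨x, hx⟩ := (seg_isInternal 𝒳 𝒴 hT).2 z
  refine ⟨x.support, ?_⟩
  have h1 : ∀ n, biprojW 𝒜 ℬ 𝒳 𝒴 n n (segι 𝒳 𝒴 hT z) =
      segι 𝒳 𝒴 hT ((x n : segGr 𝒳 𝒴 hT n) : SegM 𝒳 𝒴 hT) := by
    intro n
    rw [← hx]
    exact rho_coe 𝒳 𝒴 hT x n
  rw [Finset.sum_congr rfl (fun n _ => h1 n), ← map_sum, ← hx]
  congr 1
  conv_lhs => rw [← DirectSum.sum_support_of x]
  rw [map_sum]
  refine Finset.sum_congr rfl (fun n _ => ?_)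
  rw [DirectSum.coeAddMonoidHom_of]

end graded

end Groth.Agent.Lib.SegF1H1
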