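import Mathlib
import Groth.Agent.Lib.SegF1_helper1
import Groth.Agent.Lib.GrStar_helper1

/-! Functoriality and exactness of the Segre product of graded modules (helper1).
APPEND-ONLY once landed. -/

set_option autoImplicit false

namespace Groth.Agent.Lib.SegF2H1

open scoped TensorProduct
open DirectSum GrLC Groth.Agent.Lib.SegreH3 Groth.Agent.Lib.SegF1H1

universe u

variable {k : Type u} [Field k]
  {R : Type u} [CommRing R] [Algebra k R] {𝒜 : ℤ → Submodule k R} [GradedAlgebra 𝒜]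
  {S : Type u} [CommRing S] [Algebra k S] {ℬ : ℤ → Submodule k S} [GradedAlgebra ℬ]
  {T : Type u} [CommRing T] [Algebra k T] {𝒯 : ℤ → Submodule k T} [GradedAlgebra 𝒯]
  {ψ : T →ₐ[k] R ⊗[k] S}

/-! ### the tensor of two linear maps -/
section tmap

variable {X : Type u} [AddCommGroup X] [Module R X] [Module k X] [IsScalarTower k R X]
  {X' : Type u} [AddCommGroup X'] [Module R X'] [Module k X'] [IsScalarTower k R X']
  {Y : Type u} [AddCommGroup Y] [Module S Y] [Module k Y] [IsScalarTower k S Y]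
  {Y' : Type u} [AddCommGroup Y'] [Module S Y'] [Module k Y'] [IsScalarTower k S Y']

/-- tensor of an `R`-linear and an `S`-linear map -/
noncomputable def tmap (u : X →ₗ[R] X') (v : Y →ₗ[S] Y') : X ⊗[k] Y →ₗ[k] X' ⊗[k] Y' :=
  TensorProduct.map (u.restrictScalars k) (v.restrictScalars k)

theorem tmap_tmul (u : X →ₗ[R] X') (v : Y →ₗ[S] Y') (x : X) (y : Y) :
    tmap (k := k) u v (x ⊗ₜ[k] y) = u x ⊗ₜ[k] v y := rfl

theorem tmap_act (u : X →ₗ[R] X') (v : Y →ₗ[S] Y') (w : R ⊗[k] S) (z : X ⊗[k] Y) :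
    tmap u v (GrSeg.act k R S X Y w z) = GrSeg.act k R S X' Y' w (tmap u v z) := by
  induction w using TensorProduct.induction_on with
  | zero => simp
  | tmul a b =>
    induction z using TensorProduct.induction_on with
    | zero => simp
    | tmul x y =>
      rw [GrSeg.act_tmul, tmap_tmul, tmap_tmul, GrSeg.act_tmul, map_smul, map_smul]
    | add z₁ z₂ h₁ h₂ => rw [map_add, map_add, h₁, h₂, map_add, map_add]
  | add w₁ w₂ h₁ h₂ =>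
    rw [map_add, LinearMap.add_apply, map_add, h₁, h₂, map_add, LinearMap.add_apply]

theorem tmap_injective {u : X →ₗ[R] X'} (hu : Function.Injective u) {v : Y →ₗ[S] Y'}
    (hv : Function.Injective v) : Function.Injective (tmap (k := k) u v) :=
  TensorProduct.map_injective_of_flat_flat (u.restrictScalars k) (v.restrictScalars k) hu hv

theorem tmap_id : tmap (k := k) (LinearMap.id : X →ₗ[R] X) (LinearMap.id : Y →ₗ[S] Y) =
    LinearMap.id := by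
  apply TensorProduct.ext'
  intro x y
  rfl

variable {X'' : Type u} [AddCommGroup X''] [Module R X''] [Module k X''] [IsScalarTower k R X'']
  {Y'' : Type u} [AddCommGroup Y''] [Module S Y''] [Module k Y''] [IsScalarTower k S Y'']

theorem tmap_comp (u : X →ₗ[R] X') (u' : X' →ₗ[R] X'') (v : Y →ₗ[S] Y') (v' : Y' →ₗ[S] Y'')
    (z : X ⊗[k] Y) : tmap u' v' (tmap u v z) = tmap (k := k) (u' ∘ₗ u) (v' ∘ₗ v) z := by
  induction z using TensorProduct.induction_on with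
  | zero => simp
  | tmul x y => rfl
  | add z₁ z₂ h₁ h₂ => rw [map_add, map_add, h₁, h₂, map_add]

theorem tmap_exact_left {u : X' →ₗ[R] X} {p : X →ₗ[R] X''}
    (hex : LinearMap.ker p = LinearMap.range u) {z : X ⊗[k] Y}
    (hz : tmap p (LinearMap.id : Y →ₗ[S] Y) z = 0) :
    ∃ z' : X' ⊗[k] Y, tmap u (LinearMap.id : Y →ₗ[S] Y) z' = z := by
  have h1 : Function.Exact (u.restrictScalars k) (p.restrictScalars k) := by
    intro x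
    constructor
    · intro hx
      have : x ∈ LinearMap.ker p := hx
      rw [hex] at this
      exact this
    · intro hx
      have : x ∈ LinearMap.range u := hx
      rw [← hex] at this
      exact this
  have h2 := Module.Flat.rTensor_exact Y h1
  exact (h2 z).1 hz

theorem tmap_exact_right {v : Y' →ₗ[S] Y} {q : Y →ₗ[S] Y''}
    (hex : LinearMap.ker q = LinearMap.range v) {z : X ⊗[k] Y}
    (hz : tmap (LinearMap.id : X →ₗ[R] X) q z = 0) :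
    ∃ z' : X ⊗[k] Y', tmap (LinearMap.id : X →ₗ[R] X) v z' = z := by
  have h1 : Function.Exact (v.restrictScalars k) (q.restrictScalars k) := by
    intro x
    constructor
    · intro hx
      have : x ∈ LinearMap.ker q := hx
      rw [hex] at this
      exact this
    · intro hx
      have : x ∈ LinearMap.range v := hx
      rw [← hex] at this
      exact this
  have h2 := Module.Flat.lTensor_exact X h1
  exact (h2 z).1 hz

end tmap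

/-! ### the Segre product of two graded maps -/
section segmap

variable {X : Type u} [AddCommGroup X] [Module R X] [Module k X] [IsScalarTower k R X]
  (𝒳 : ℤ → AddSubgroup X) [Decomposition 𝒳] [SetLike.GradedSMul 𝒜 𝒳]
  {X' : Type u} [AddCommGroup X'] [Module R X'] [Module k X'] [IsScalarTower k R X']
  (𝒳' : ℤ → AddSubgroup X') [Decomposition 𝒳'] [SetLike.GradedSMul 𝒜 𝒳']
  {Y : Type u} [AddCommGroup Y] [Module S Y] [Module k Y] [IsScalarTower k S Y]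
  (𝒴 : ℤ → AddSubgroup Y) [Decomposition 𝒴] [SetLike.GradedSMul ℬ 𝒴]
  {Y' : Type u} [AddCommGroup Y'] [Module S Y'] [Module k Y'] [IsScalarTower k S Y']
  (𝒴' : ℤ → AddSubgroup Y') [Decomposition 𝒴'] [SetLike.GradedSMul ℬ 𝒴']

theorem proj_map {u : X →ₗ[R] X'} (hu : IsGrHom 𝒳 𝒳' u) (n : ℤ) (x : X) :
    proj 𝒜 𝒳' n (u x) = u (proj 𝒜 𝒳 n x) := by
  rw [proj_apply, proj_apply]
  exact GrStarH1.decompose_map 𝒳 𝒳' hu x n

theorem biproj_tmap {u : X →ₗ[R] X'} (hu : IsGrHom 𝒳 𝒳' u) {v : Y →ₗ[S] Y'}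
    (hv : IsGrHom 𝒴 𝒴' v) (i j : ℤ) (z : X ⊗[k] Y) :
    biprojW 𝒜 ℬ 𝒳' 𝒴' i j (tmap u v z) = tmap u v (biprojW 𝒜 ℬ 𝒳 𝒴 i j z) := by
  induction z using TensorProduct.induction_on with
  | zero => simp
  | tmul x y =>
    unfold biprojW
    rw [tmap_tmul, TensorProduct.map_tmul, TensorProduct.map_tmul, tmap_tmul,
      proj_map 𝒳 𝒳' hu, proj_map (𝒜 := ℬ) 𝒴 𝒴' hv]
  | add z₁ z₂ h₁ h₂ => rw [map_add, map_add, h₁, h₂, map_add, map_add]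

theorem biproj_mem_piece (n : ℤ) (z : X ⊗[k] Y) :
    biprojW 𝒜 ℬ 𝒳 𝒴 n n z ∈ GrSeg.segrePiece k 𝒳 𝒴 n := by
  induction z using TensorProduct.induction_on with
  | zero => rw [map_zero]; exact zero_mem _
  | tmul x y =>
    unfold biprojW
    rw [TensorProduct.map_tmul]
    exact tmul_mem_piece 𝒳 𝒴 (proj_mem 𝒜 𝒳 n x) (proj_mem ℬ 𝒴 n y)
  | add z₁ z₂ h₁ h₂ => rw [map_add]; exact add_mem h₁ h₂

theorem tmap_piece {u : X →ₗ[R] X'} (hu : IsGrHom 𝒳 𝒳' u) {v : Y →ₗ[S] Y'}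
    (hv : IsGrHom 𝒴 𝒴' v) {n : ℤ} {z : X ⊗[k] Y} (hz : z ∈ GrSeg.segrePiece k 𝒳 𝒴 n) :
    tmap u v z ∈ GrSeg.segrePiece k 𝒳' 𝒴' n := by
  unfold GrSeg.segrePiece at hz
  induction hz using Submodule.span_induction with
  | mem z hz =>
    obtain ⟨x, hx, y, hy, rfl⟩ := hz
    rw [tmap_tmul]
    exact tmul_mem_piece 𝒳' 𝒴' (hu n x hx) (hv n y hy)
  | zero => rw [map_zero]; exact zero_mem _
  | add z₁ z₂ _ _ h₁ h₂ => rw [map_add]; exact add_mem h₁ h₂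
  | smul r z₁ _ h₁ => rw [map_smul]; exact Submodule.smul_mem _ r h₁

theorem tmap_segK {u : X →ₗ[R] X'} (hu : IsGrHom 𝒳 𝒳' u) {v : Y →ₗ[S] Y'}
    (hv : IsGrHom 𝒴 𝒴' v) {z : X ⊗[k] Y} (hz : z ∈ segK k 𝒳 𝒴) :
    tmap u v z ∈ segK k 𝒳' 𝒴' := by
  refine Submodule.iSup_induction (fun n => GrSeg.segrePiece k 𝒳 𝒴 n)
    (motive := fun z => tmap u v z ∈ segK k 𝒳' 𝒴') hz ?_ ?_ ?_
  · intro n z hz
    exact piece_le_segK 𝒳' 𝒴' n (tmap_piece 𝒳 𝒳' 𝒴 𝒴' hu hv hz)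
  · rw [map_zero]; exact zero_mem _
  · intro z₁ z₂ h₁ h₂
    rw [map_add]; exact add_mem h₁ h₂

variable (hT : GrSeg.IsSegreRing 𝒜 ℬ 𝒯 ψ)

/-- the Segre product of two graded maps -/
noncomputable def segMap (u : X →ₗ[R] X') (hu : IsGrHom 𝒳 𝒳' u) (v : Y →ₗ[S] Y')
    (hv : IsGrHom 𝒴 𝒴' v) : SegM 𝒳 𝒴 hT →ₗ[T] SegM 𝒳' 𝒴' hT where
  toFun z := segMk 𝒳' 𝒴' hT (tmap u v (segι 𝒳 𝒴 hT z))
    (tmap_segK 𝒳 𝒳' 𝒴 𝒴' hu hv (segι_mem 𝒳 𝒴 hT z))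
  map_add' z z' := by
    apply segι_injective 𝒳' 𝒴' hT
    show tmap u v (segι 𝒳 𝒴 hT (z + z')) =
      tmap u v (segι 𝒳 𝒴 hT z) + tmap u v (segι 𝒳 𝒴 hT z')
    rw [map_add, map_add]
  map_smul' t z := by
    apply segι_injective 𝒳' 𝒴' hT
    show tmap u v (segι 𝒳 𝒴 hT (t • z)) =
      segι 𝒳' 𝒴' hT (t • segMk 𝒳' 𝒴' hT (tmap u v (segι 𝒳 𝒴 hT z))
        (tmap_segK 𝒳 𝒳' 𝒴 𝒴' hu hv (segι_mem 𝒳 𝒴 hT z)))
    rw [segι_smul, segι_smul, tmap_act]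
    rfl

theorem segι_segMap (u : X →ₗ[R] X') (hu : IsGrHom 𝒳 𝒳' u) (v : Y →ₗ[S] Y')
    (hv : IsGrHom 𝒴 𝒴' v) (z : SegM 𝒳 𝒴 hT) :
    segι 𝒳' 𝒴' hT (segMap 𝒳 𝒳' 𝒴 𝒴' hT u hu v hv z) = tmap u v (segι 𝒳 𝒴 hT z) := rfl

theorem segMap_gr (u : X →ₗ[R] X') (hu : IsGrHom 𝒳 𝒳' u) (v : Y →ₗ[S] Y')
    (hv : IsGrHom 𝒴 𝒴' v) :
    IsGrHom (segGr 𝒳 𝒴 hT) (segGr 𝒳' 𝒴' hT) (segMap 𝒳 𝒳' 𝒴 𝒴' hT u hu v hv) :=
  fun _ _ hz => tmap_piece 𝒳 𝒳' 𝒴 𝒴' hu hv hz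

theorem segMap_injective (u : X →ₗ[R] X') (hu : IsGrHom 𝒳 𝒳' u) (v : Y →ₗ[S] Y')
    (hv : IsGrHom 𝒴 𝒴' v) (hui : Function.Injective u) (hvi : Function.Injective v) :
    Function.Injective (segMap 𝒳 𝒳' 𝒴 𝒴' hT u hu v hv) := by
  intro z z' h
  apply segι_injective 𝒳 𝒴 hT
  apply tmap_injective (k := k) hui hvi
  rw [← segι_segMap 𝒳 𝒳' 𝒴 𝒴' hT u hu v hv, ← segι_segMap 𝒳 𝒳' 𝒴 𝒴' hT u hu v hv, h]

theorem exists_homog_preimage {u : X →ₗ[R] X'} (hu : IsGrHom 𝒳 𝒳' u)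
    (hus : Function.Surjective u) {n : ℤ} {x' : X'} (hx' : x' ∈ 𝒳' n) :
    ∃ x ∈ 𝒳 n, u x = x' := by
  obtain ⟨x₀, hx₀⟩ := hus x'
  refine ⟨((decompose 𝒳 x₀ n : 𝒳 n) : X), SetLike.coe_mem _, ?_⟩
  rw [← GrStarH1.decompose_map 𝒳 𝒳' hu x₀ n, hx₀, decompose_of_mem_same 𝒳' hx']

theorem segMap_surjective (u : X →ₗ[R] X') (hu : IsGrHom 𝒳 𝒳' u) (v : Y →ₗ[S] Y')
    (hv : IsGrHom 𝒴 𝒴' v) (hus : Function.Surjective u) (hvs : Function.Surjective v) :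
    Function.Surjective (segMap 𝒳 𝒳' 𝒴 𝒴' hT u hu v hv) := by
  have key : ∀ w' : X' ⊗[k] Y', w' ∈ segK k 𝒳' 𝒴' →
      ∃ w : X ⊗[k] Y, w ∈ segK k 𝒳 𝒴 ∧ tmap u v w = w' := by
    intro w' hw'
    refine Submodule.iSup_induction (fun n => GrSeg.segrePiece k 𝒳' 𝒴' n)
      (motive := fun w' => ∃ w : X ⊗[k] Y, w ∈ segK k 𝒳 𝒴 ∧ tmap u v w = w') hw' ?_ ?_ ?_
    · intro n w' hw'
      unfold GrSeg.segrePiece at hw'
      induction hw' using Submodule.span_induction with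
      | mem w' hw' =>
        obtain ⟨x', hx', y', hy', rfl⟩ := hw'
        obtain ⟨x, hx, rfl⟩ := exists_homog_preimage 𝒳 𝒳' hu hus hx'
        obtain ⟨y, hy, rfl⟩ := exists_homog_preimage 𝒴 𝒴' hv hvs hy'
        exact ⟨x ⊗ₜ[k] y, piece_le_segK 𝒳 𝒴 n (tmul_mem_piece 𝒳 𝒴 hx hy), rfl⟩
      | zero => exact ⟨0, zero_mem _, map_zero _⟩
      | add w₁ w₂ _ _ h₁ h₂ =>
        obtain ⟨z₁, hz₁, e₁⟩ := h₁
        obtain ⟨z₂, hz₂, e₂⟩ := h₂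
        exact ⟨z₁ + z₂, add_mem hz₁ hz₂, by rw [map_add, e₁, e₂]⟩
      | smul c w₁ _ h₁ =>
        obtain ⟨z₁, hz₁, e₁⟩ := h₁
        exact ⟨c • z₁, Submodule.smul_mem _ c hz₁, by rw [map_smul, e₁]⟩
    · exact ⟨0, zero_mem _, map_zero _⟩
    · rintro w₁ w₂ ⟨z₁, hz₁, e₁⟩ ⟨z₂, hz₂, e₂⟩
      exact ⟨z₁ + z₂, add_mem hz₁ hz₂, by rw [map_add, e₁, e₂]⟩
  intro z'
  obtain ⟨w, hw, hww⟩ := key (segι 𝒳' 𝒴' hT z') (segι_mem 𝒳' 𝒴' hT z')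
  refine ⟨segMk 𝒳 𝒴 hT w hw, ?_⟩
  apply segι_injective 𝒳' 𝒴' hT
  rw [segι_segMap, segι_segMk, hww]

/-- diagonal truncation of an arbitrary tensor, landing in the Segre product -/
theorem sum_biproj_mem (F : Finset ℤ) (w : X ⊗[k] Y) :
    ∑ n ∈ F, biprojW 𝒜 ℬ 𝒳 𝒴 n n w ∈ segK k 𝒳 𝒴 :=
  Submodule.sum_mem _ (fun n _ => piece_le_segK 𝒳 𝒴 n (biproj_mem_piece 𝒳 𝒴 n w))

end segmap

/-! ### exactness -/
section exact

variable {X : Type u} [AddCommGroup X] [Module R X] [Module k X] [IsScalarTower k R X]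
  (𝒳 : ℤ → AddSubgroup X) [Decomposition 𝒳] [SetLike.GradedSMul 𝒜 𝒳]
  {X' : Type u} [AddCommGroup X'] [Module R X'] [Module k X'] [IsScalarTower k R X']
  (𝒳' : ℤ → AddSubgroup X') [Decomposition 𝒳'] [SetLike.GradedSMul 𝒜 𝒳']
  {X'' : Type u} [AddCommGroup X''] [Module R X''] [Module k X''] [IsScalarTower k R X'']
  (𝒳'' : ℤ → AddSubgroup X'') [Decomposition 𝒳''] [SetLike.GradedSMul 𝒜 𝒳'']
  {Y : Type u} [AddCommGroup Y] [Module S Y] [Module k Y] [IsScalarTower k S Y]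
  (𝒴 : ℤ → AddSubgroup Y) [Decomposition 𝒴] [SetLike.GradedSMul ℬ 𝒴]
  {Y' : Type u} [AddCommGroup Y'] [Module S Y'] [Module k Y'] [IsScalarTower k S Y']
  (𝒴' : ℤ → AddSubgroup Y') [Decomposition 𝒴'] [SetLike.GradedSMul ℬ 𝒴']
  {Y'' : Type u} [AddCommGroup Y''] [Module S Y''] [Module k Y''] [IsScalarTower k S Y'']
  (𝒴'' : ℤ → AddSubgroup Y'') [Decomposition 𝒴''] [SetLike.GradedSMul ℬ 𝒴'']
  (hT : GrSeg.IsSegreRing 𝒜 ℬ 𝒯 ψ)

theorem id_gr : IsGrHom 𝒴 𝒴 (LinearMap.id : Y →ₗ[S] Y) := fun _ _ h => h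

theorem seg_exact_left {u : X' →ₗ[R] X} (hu : IsGrHom 𝒳' 𝒳 u) {p : X →ₗ[R] X''}
    (hp : IsGrHom 𝒳 𝒳'' p) (hex : LinearMap.ker p = LinearMap.range u) :
    LinearMap.ker (segMap 𝒳 𝒳'' 𝒴 𝒴 hT p hp LinearMap.id (id_gr 𝒴)) =
      LinearMap.range (segMap 𝒳' 𝒳 𝒴 𝒴 hT u hu LinearMap.id (id_gr 𝒴)) := by
  apply le_antisymm
  · intro z hz
    have hz0 : tmap p (LinearMap.id : Y →ₗ[S] Y) (segι 𝒳 𝒴 hT z) = 0 := by
      rw [← segι_segMap 𝒳 𝒳'' 𝒴 𝒴 hT p hp LinearMap.id (id_gr 𝒴), LinearMap.mem_ker.1 hz,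
        map_zero]
    obtain ⟨w', hw'⟩ := tmap_exact_left (k := k) hex hz0
    obtain ⟨F, hF⟩ := exists_finset_sum 𝒳 𝒴 hT z
    refine ⟨segMk 𝒳' 𝒴 hT (∑ n ∈ F, biprojW 𝒜 ℬ 𝒳' 𝒴 n n w') (sum_biproj_mem 𝒳' 𝒴 F w'), ?_⟩
    apply segι_injective 𝒳 𝒴 hT
    rw [segι_segMap, segι_segMk, map_sum, hF]
    refine Finset.sum_congr rfl (fun n _ => ?_)
    rw [← biproj_tmap 𝒳' 𝒳 𝒴 𝒴 hu (id_gr 𝒴), hw']
  · rintro _ ⟨z', rfl⟩
    rw [LinearMap.mem_ker]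
    apply segι_injective 𝒳'' 𝒴 hT
    rw [segι_segMap, segι_segMap, tmap_comp, map_zero]
    have h0 : p ∘ₗ u = 0 := by
      apply LinearMap.ext
      intro x
      have : u x ∈ LinearMap.ker p := by rw [hex]; exact ⟨x, rfl⟩
      exact this
    rw [h0]
    have : tmap (k := k) (0 : X' →ₗ[R] X'') ((LinearMap.id : Y →ₗ[S] Y) ∘ₗ LinearMap.id) = 0 := by
      apply TensorProduct.ext'
      intro x y
      rw [tmap_tmul, LinearMap.zero_apply, TensorProduct.zero_tmul, LinearMap.zero_apply]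
    rw [this, LinearMap.zero_apply]

theorem seg_exact_right {v : Y' →ₗ[S] Y} (hv : IsGrHom 𝒴' 𝒴 v) {q : Y →ₗ[S] Y''}
    (hq : IsGrHom 𝒴 𝒴'' q) (hex : LinearMap.ker q = LinearMap.range v) :
    LinearMap.ker (segMap 𝒳 𝒳 𝒴 𝒴'' hT LinearMap.id (id_gr 𝒳) q hq) =
      LinearMap.range (segMap 𝒳 𝒳 𝒴' 𝒴 hT LinearMap.id (id_gr 𝒳) v hv) := by
  apply le_antisymm
  · intro z hz
    have hz0 : tmap (LinearMap.id : X →ₗ[R] X) q (segι 𝒳 𝒴 hT z) = 0 := by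
      rw [← segι_segMap 𝒳 𝒳 𝒴 𝒴'' hT LinearMap.id (id_gr 𝒳) q hq,
        LinearMap.mem_ker.1 hz, map_zero]
    obtain ⟨w', hw'⟩ := tmap_exact_right (k := k) hex hz0
    obtain ⟨F, hF⟩ := exists_finset_sum 𝒳 𝒴 hT z
    refine ⟨segMk 𝒳 𝒴' hT (∑ n ∈ F, biprojW 𝒜 ℬ 𝒳 𝒴' n n w') (sum_biproj_mem 𝒳 𝒴' F w'), ?_⟩
    apply segι_injective 𝒳 𝒴 hT
    rw [segι_segMap, segι_segMk, map_sum, hF]
    refine Finset.sum_congr rfl (fun n _ => ?_)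
    rw [← biproj_tmap 𝒳 𝒳 𝒴' 𝒴 (id_gr 𝒳) hv, hw']
  · rintro _ ⟨z', rfl⟩
    rw [LinearMap.mem_ker]
    apply segι_injective 𝒳 𝒴'' hT
    rw [segι_segMap, segι_segMap, tmap_comp, map_zero]
    have h0 : q ∘ₗ v = 0 := by
      apply LinearMap.ext
      intro x
      have : v x ∈ LinearMap.ker q := by rw [hex]; exact ⟨x, rfl⟩
      exact this
    rw [h0]
    have : tmap (k := k) ((LinearMap.id : X →ₗ[R] X) ∘ₗ LinearMap.id) (0 : Y' →ₗ[S] Y'') = 0 := by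
      apply TensorProduct.ext'
      intro x y
      rw [tmap_tmul, LinearMap.zero_apply, TensorProduct.tmul_zero, LinearMap.zero_apply]
    rw [this, LinearMap.zero_apply]

end exact

end Groth.Agent.Lib.SegF2H1
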