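import Mathlib

/-! Coordinates in a tensor product with a free module, and subspaces of the form `W ⊗ N`
(helper1).  APPEND-ONLY once landed. -/

set_option autoImplicit false

namespace Groth.Agent.Lib.TCrdH1

open scoped TensorProduct
open Module

universe u

variable {k : Type u} [CommRing k] {X X' N N' : Type u} [AddCommGroup X] [Module k X]
  [AddCommGroup X'] [Module k X'] [AddCommGroup N] [Module k N] [AddCommGroup N'] [Module k N']

variable (N) in
/-- the image of `W ⊗ N` in `X ⊗ N` -/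
def imT (W : Submodule k X) : Submodule k (X ⊗[k] N) :=
  Submodule.span k {w | ∃ x ∈ W, ∃ y : N, w = x ⊗ₜ[k] y}

theorem tmul_mem_imT {W : Submodule k X} {x : X} (hx : x ∈ W) (y : N) :
    x ⊗ₜ[k] y ∈ imT N W := Submodule.subset_span ⟨x, hx, y, rfl⟩

theorem imT_mono {W W' : Submodule k X} (h : W ≤ W') : imT N W ≤ imT N W' :=
  Submodule.span_mono (by
    rintro _ ⟨x, hx, y, rfl⟩
    exact ⟨x, h hx, y, rfl⟩)

theorem map_mem_imT (l : X →ₗ[k] X') (v : N →ₗ[k] N') {W : Submodule k X} {W' : Submodule k X'}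
    (hl : ∀ x ∈ W, l x ∈ W') {z : X ⊗[k] N} (hz : z ∈ imT N W) :
    TensorProduct.map l v z ∈ imT N' W' := by
  unfold imT at hz
  induction hz using Submodule.span_induction with
  | mem w hw =>
    obtain ⟨x, hx, y, rfl⟩ := hw
    rw [TensorProduct.map_tmul]
    exact tmul_mem_imT (hl x hx) _
  | zero => rw [map_zero]; exact zero_mem _
  | add z₁ z₂ _ _ h₁ h₂ => rw [map_add]; exact add_mem h₁ h₂
  | smul c z₁ _ h₁ => rw [map_smul]; exact Submodule.smul_mem _ c h₁

theorem exists_preimage {W : Submodule k X} {z : X ⊗[k] N} (hz : z ∈ imT N W) :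
    ∃ w : ↥W ⊗[k] N, TensorProduct.map W.subtype LinearMap.id w = z := by
  unfold imT at hz
  induction hz using Submodule.span_induction with
  | mem w hw =>
    obtain ⟨x, hx, y, rfl⟩ := hw
    exact ⟨(⟨x, hx⟩ : ↥W) ⊗ₜ[k] y, rfl⟩
  | zero => exact ⟨0, map_zero _⟩
  | add z₁ z₂ _ _ h₁ h₂ =>
    obtain ⟨w₁, e₁⟩ := h₁
    obtain ⟨w₂, e₂⟩ := h₂
    exact ⟨w₁ + w₂, by rw [map_add, e₁, e₂]⟩
  | smul c z₁ _ h₁ =>
    obtain ⟨w₁, e₁⟩ := h₁
    exact ⟨c • w₁, by rw [map_smul, e₁]⟩

theorem mem_imT_of_preimage {W : Submodule k X} (w : ↥W ⊗[k] N) :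
    TensorProduct.map W.subtype LinearMap.id w ∈ imT N W := by
  induction w using TensorProduct.induction_on with
  | zero => rw [map_zero]; exact zero_mem _
  | tmul x y => exact tmul_mem_imT x.2 y
  | add w₁ w₂ h₁ h₂ => rw [map_add]; exact add_mem h₁ h₂

/-! ### coordinates -/
section crd

variable {κ : Type u} (b : Basis κ k N)

/-- the coordinate of an element of `X ⊗ N` along a basis vector of `N` -/
noncomputable def crd (β : κ) : X ⊗[k] N →ₗ[k] X :=
  (TensorProduct.rid k X).toLinearMap ∘ₗ LinearMap.lTensor X (b.coord β)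

theorem crd_tmul (β : κ) (x : X) (y : N) : crd b β (x ⊗ₜ[k] y) = b.repr y β • x := by
  unfold crd
  rw [LinearMap.comp_apply, LinearMap.lTensor_tmul, LinearEquiv.coe_coe, TensorProduct.rid_tmul,
    Basis.coord_apply]

theorem crd_map (l : X →ₗ[k] X') (β : κ) (z : X ⊗[k] N) :
    crd b β (TensorProduct.map l LinearMap.id z) = l (crd b β z) := by
  induction z using TensorProduct.induction_on with
  | zero => simp
  | tmul x y => rw [TensorProduct.map_tmul, LinearMap.id_apply, crd_tmul, crd_tmul, map_smul]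
  | add z z' h h' => rw [map_add, map_add, map_add, map_add, h, h']

theorem crd_eq [DecidableEq κ] (β : κ) (z : X ⊗[k] N) :
    crd b β z = TensorProduct.equivFinsuppOfBasisRight b z β :=
  (TensorProduct.equivFinsuppOfBasisRight_apply b z β).symm

theorem eq_zero_of_crd (z : X ⊗[k] N) (h : ∀ β, crd b β z = 0) : z = 0 := by
  classical
  apply (TensorProduct.equivFinsuppOfBasisRight b).injective
  rw [map_zero]
  ext β
  rw [← crd_eq, h]
  rfl

theorem sum_crd (z : X ⊗[k] N) : ∃ s : Finset κ, z = ∑ β ∈ s, crd b β z ⊗ₜ[k] b β := by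
  classical
  refine ⟨(TensorProduct.equivFinsuppOfBasisRight b z).support, ?_⟩
  have h1 : (TensorProduct.equivFinsuppOfBasisRight b).symm
      (TensorProduct.equivFinsuppOfBasisRight b z) = z := LinearEquiv.symm_apply_apply _ z
  rw [TensorProduct.equivFinsuppOfBasisRight_symm_apply] at h1
  calc z = (TensorProduct.equivFinsuppOfBasisRight b z).sum fun i m => m ⊗ₜ[k] b i := h1.symm
    _ = ∑ β ∈ (TensorProduct.equivFinsuppOfBasisRight b z).support,
          (TensorProduct.equivFinsuppOfBasisRight b z β) ⊗ₜ[k] b β := rfl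
    _ = _ := Finset.sum_congr rfl (fun β _ => by rw [crd_eq])

theorem crd_mem_of_mem_imT {W : Submodule k X} {z : X ⊗[k] N} (hz : z ∈ imT N W) (β : κ) :
    crd b β z ∈ W := by
  unfold imT at hz
  induction hz using Submodule.span_induction with
  | mem w hw =>
    obtain ⟨x, hx, y, rfl⟩ := hw
    rw [crd_tmul]
    exact W.smul_mem _ hx
  | zero => rw [map_zero]; exact W.zero_mem
  | add _ _ _ _ h h' => rw [map_add]; exact W.add_mem h h'
  | smul c _ _ h => rw [map_smul]; exact W.smul_mem c h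

theorem mem_imT_of_crd {W : Submodule k X} {z : X ⊗[k] N} (h : ∀ β, crd b β z ∈ W) :
    z ∈ imT N W := by
  obtain ⟨s, hs⟩ := sum_crd b z
  rw [hs]
  exact Submodule.sum_mem _ (fun β _ => tmul_mem_imT (h β) (b β))

end crd

/-! ### basis-free consequences -/
section free

variable [Module.Free k N]

theorem mem_imT_top (z : X ⊗[k] N) : z ∈ imT N (⊤ : Submodule k X) :=
  mem_imT_of_crd (Module.Free.chooseBasis k N) (fun _ => Submodule.mem_top)

theorem mem_imT_inf {W₁ W₂ : Submodule k X} {z : X ⊗[k] N} (h₁ : z ∈ imT N W₁)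
    (h₂ : z ∈ imT N W₂) : z ∈ imT N (W₁ ⊓ W₂) :=
  mem_imT_of_crd (Module.Free.chooseBasis k N) (fun β =>
    ⟨crd_mem_of_mem_imT _ h₁ β, crd_mem_of_mem_imT _ h₂ β⟩)

theorem map_eq_zero_iff (l : X →ₗ[k] X') (z : X ⊗[k] N) :
    TensorProduct.map l (LinearMap.id : N →ₗ[k] N) z = 0 ↔ z ∈ imT N (LinearMap.ker l) := by
  constructor
  · intro h
    apply mem_imT_of_crd (Module.Free.chooseBasis k N)
    intro β
    rw [LinearMap.mem_ker, ← crd_map, h, map_zero]
  · intro h
    unfold imT at h
    induction h using Submodule.span_induction with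
    | mem w hw =>
      obtain ⟨x, hx, y, rfl⟩ := hw
      rw [TensorProduct.map_tmul, LinearMap.mem_ker.1 hx, TensorProduct.zero_tmul]
    | zero => rw [map_zero]
    | add _ _ _ _ h h' => rw [map_add, h, h', add_zero]
    | smul c _ _ h => rw [map_smul, h, smul_zero]

end free

end Groth.Agent.Lib.TCrdH1
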