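import Mathlib
import Groth.Prelude.Def_GrLC
import Groth.Prelude.Def_GrSeg
import Groth.Agent.Lib.SegF2_helper1
import Groth.Agent.Lib.TCrd_helper1
import Groth.Agent.Lib.GrAcyc_helper1
import Groth.Agent.Lib.Segre_helper3

/-! Torsion in Segre products (helper1).  APPEND-ONLY once landed. -/

set_option autoImplicit false

namespace Groth.Agent.Lib.SegTorsH1

open scoped TensorProduct
open DirectSum GrLC Groth.Agent.Lib.SegreH3 Groth.Agent.Lib.SegF1H1 Groth.Agent.Lib.SegF2H1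
  Groth.Agent.Lib.TCrdH1 Groth.Agent.Lib.DivH1 Groth.Agent.Lib.GrAcycH1

universe u

variable {k : Type u} [Field k]
  {R : Type u} [CommRing R] [Algebra k R] {𝒜 : ℤ → Submodule k R} [GradedAlgebra 𝒜]
  {S : Type u} [CommRing S] [Algebra k S] {ℬ : ℤ → Submodule k S} [GradedAlgebra ℬ]
  {T : Type u} [CommRing T] [Algebra k T] {𝒯 : ℤ → Submodule k T} [GradedAlgebra 𝒯]
  {ψ : T →ₐ[k] R ⊗[k] S}

section tors

variable {X : Type u} [AddCommGroup X] [Module R X] [Module k X] [IsScalarTower k R X]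
  {X' : Type u} [AddCommGroup X'] [Module R X'] [Module k X'] [IsScalarTower k R X']
  {Y : Type u} [AddCommGroup Y] [Module S Y] [Module k Y] [IsScalarTower k S Y]

theorem tmap_id_right (u : X →ₗ[R] X') (z : X ⊗[k] Y) :
    tmap u (LinearMap.id : Y →ₗ[S] Y) z =
      TensorProduct.map (u.restrictScalars k) (LinearMap.id : Y →ₗ[k] Y) z := rfl

theorem act_tmul_eq (a : R) (b : S) (z : X ⊗[k] Y) :
    GrSeg.act k R S X Y (a ⊗ₜ[k] b) z =
      tmap (LinearMap.lsmul R X a) (LinearMap.lsmul S Y b) z := by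
  induction z using TensorProduct.induction_on with
  | zero => simp
  | tmul x y => rw [GrSeg.act_tmul, tmap_tmul]; rfl
  | add z z' h h' => rw [map_add, map_add, h, h']

/-- the annihilator of an element of the tensor product -/
def annT (z : X ⊗[k] Y) : Ideal (R ⊗[k] S) where
  carrier := {w | GrSeg.act k R S X Y w z = 0}
  zero_mem' := by
    show GrSeg.act k R S X Y 0 z = 0
    rw [map_zero, LinearMap.zero_apply]
  add_mem' := by
    intro w w' h h'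
    have h1 : GrSeg.act k R S X Y w z = 0 := h
    have h2 : GrSeg.act k R S X Y w' z = 0 := h'
    show GrSeg.act k R S X Y (w + w') z = 0
    rw [map_add, LinearMap.add_apply, h1, h2, add_zero]
  smul_mem' := by
    intro w' w h
    have h1 : GrSeg.act k R S X Y w z = 0 := h
    show GrSeg.act k R S X Y (w' • w) z = 0
    rw [smul_eq_mul, act_mul, LinearMap.comp_apply, h1, map_zero]

theorem mem_annT {z : X ⊗[k] Y} {w : R ⊗[k] S} :
    w ∈ annT z ↔ GrSeg.act k R S X Y w z = 0 := Iff.rfl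

variable (X Y ψ) in
/-- the elements of the tensor product killed by a power of an ideal of `T` -/
def TorsT (J : Ideal T) : Submodule k (X ⊗[k] Y) where
  carrier := {z | ∃ c : ℕ, ∀ t ∈ J ^ c, GrSeg.act k R S X Y (ψ t) z = 0}
  zero_mem' := ⟨0, fun t _ => map_zero _⟩
  add_mem' := by
    rintro z z' ⟨c, hc⟩ ⟨c', hc'⟩
    refine ⟨c + c', fun t ht => ?_⟩
    rw [map_add, hc t (Ideal.pow_le_pow_right (Nat.le_add_right c c') ht),
      hc' t (Ideal.pow_le_pow_right (Nat.le_add_left c' c) ht), add_zero]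
  smul_mem' := by
    rintro a z ⟨c, hc⟩
    exact ⟨c, fun t ht => by rw [map_smul, hc t ht, smul_zero]⟩

theorem mem_TorsT {J : Ideal T} {z : X ⊗[k] Y} :
    z ∈ TorsT ψ X Y J ↔ ∃ c : ℕ, ∀ t ∈ J ^ c, GrSeg.act k R S X Y (ψ t) z = 0 := Iff.rfl

theorem tmul_mem_TorsT {I : Ideal R} {J : Ideal T}
    (hIJ : Ideal.map ψ J ≤
      Ideal.map (Algebra.TensorProduct.includeLeftRingHom : R →+* R ⊗[k] S) I)
    {x : X} (hx : x ∈ gam I X) (y : Y) : x ⊗ₜ[k] y ∈ TorsT ψ X Y J := by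
  obtain ⟨a, ha⟩ := hx
  refine ⟨a, fun t ht => ?_⟩
  have h1 : ψ t ∈ Ideal.map ψ (J ^ a) := Ideal.mem_map_of_mem ψ ht
  rw [Ideal.map_pow] at h1
  have h2 : ψ t ∈ (Ideal.map
      (Algebra.TensorProduct.includeLeftRingHom : R →+* R ⊗[k] S) I) ^ a :=
    Ideal.pow_right_mono hIJ a h1
  rw [← Ideal.map_pow] at h2
  have h3 : Ideal.map (Algebra.TensorProduct.includeLeftRingHom : R →+* R ⊗[k] S) (I ^ a) ≤
      annT (x ⊗ₜ[k] y) := by
    rw [Ideal.map_le_iff_le_comap]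
    intro r hr
    show GrSeg.act k R S X Y (r ⊗ₜ[k] (1 : S)) (x ⊗ₜ[k] y) = 0
    rw [GrSeg.act_tmul, ha r hr, TensorProduct.zero_tmul]
  exact h3 h2

theorem map_psi_le (hT : GrSeg.IsSegreRing 𝒜 ℬ 𝒯 ψ) {mR : Ideal R}
    (hmR : mR = Ideal.span (⋃ n ∈ Set.Ioi (0 : ℤ), (𝒜 n : Set R))) {mT : Ideal T}
    (hmT : mT = Ideal.span (⋃ n ∈ Set.Ioi (0 : ℤ), (𝒯 n : Set T))) :
    Ideal.map ψ mT ≤
      Ideal.map (Algebra.TensorProduct.includeLeftRingHom : R →+* R ⊗[k] S) mR := by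
  rw [hmT, Ideal.map_span, Ideal.span_le]
  rintro _ ⟨t, ht, rfl⟩
  rw [Set.mem_iUnion₂] at ht
  obtain ⟨n, hn, htn⟩ := ht
  have h1 : ψ t ∈ GrSeg.segrePiece k 𝒜 ℬ n := psi_mem_piece hT htn
  have hle : GrSeg.segrePiece k 𝒜 ℬ n ≤ (Ideal.map
      (Algebra.TensorProduct.includeLeftRingHom : R →+* R ⊗[k] S) mR).restrictScalars k := by
    apply Submodule.span_le.2
    rintro _ ⟨a, ha, b, hb, rfl⟩
    show a ⊗ₜ[k] b ∈ Ideal.map
      (Algebra.TensorProduct.includeLeftRingHom : R →+* R ⊗[k] S) mR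
    have h2 : a ⊗ₜ[k] b = (Algebra.TensorProduct.includeLeftRingHom a : R ⊗[k] S) *
        ((1 : R) ⊗ₜ[k] b) := by
      show a ⊗ₜ[k] b = (a ⊗ₜ[k] (1 : S)) * ((1 : R) ⊗ₜ[k] b)
      rw [Algebra.TensorProduct.tmul_mul_tmul, mul_one, one_mul]
    rw [h2]
    apply Ideal.mul_mem_right
    apply Ideal.mem_map_of_mem
    rw [hmR]
    exact Ideal.subset_span (Set.mem_biUnion hn ha)
  exact hle h1

theorem exists_t (hT : GrSeg.IsSegreRing 𝒜 ℬ 𝒯 ψ) {mT : Ideal T}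
    (hmT : mT = Ideal.span (⋃ n ∈ Set.Ioi (0 : ℤ), (𝒯 n : Set T))) {d e : ℕ} (hd : 0 < d)
    (he : 0 < e) {f : R} (hf : f ∈ 𝒜 (d : ℤ)) {g : S} (hg : g ∈ ℬ (e : ℤ)) :
    ∃ t : T, t ∈ mT ∧ ψ t = (f ^ e) ⊗ₜ[k] (g ^ d) := by
  have hfe : f ^ e ∈ 𝒜 ((e * d : ℕ) : ℤ) := by
    have := SetLike.pow_mem_graded e hf
    rw [nsmul_eq_mul] at this
    push_cast
    exact this
  have hgd : g ^ d ∈ ℬ ((e * d : ℕ) : ℤ) := by
    have := SetLike.pow_mem_graded d hg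
    rw [nsmul_eq_mul] at this
    push_cast
    rw [mul_comm]
    exact this
  have hmem : (f ^ e) ⊗ₜ[k] (g ^ d) ∈ GrSeg.segrePiece k 𝒜 ℬ ((e * d : ℕ) : ℤ) :=
    Submodule.subset_span ⟨_, hfe, _, hgd, rfl⟩
  rw [← hT.2] at hmem
  obtain ⟨t, ht, e'⟩ := Submodule.mem_map.1 hmem
  refine ⟨t, ?_, e'⟩
  rw [hmT]
  refine Ideal.subset_span (Set.mem_biUnion (show ((e * d : ℕ) : ℤ) ∈ Set.Ioi (0 : ℤ) from ?_) ht)
  have : 0 < e * d := Nat.mul_pos he hd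
  show (0 : ℤ) < ((e * d : ℕ) : ℤ)
  exact_mod_cast this

theorem mem_imT_gam_list (fs : List R) {z : X ⊗[k] Y}
    (h : ∀ f ∈ fs, z ∈ imT Y ((gam (Ideal.span {f}) X).restrictScalars k)) :
    z ∈ imT Y ((gam (Ideal.span {f | f ∈ fs}) X).restrictScalars k) := by
  induction fs with
  | nil =>
    refine imT_mono ?_ (mem_imT_top z)
    intro x _
    show x ∈ gam _ X
    rw [mem_gam_span_list]
    intro f hf
    simp at hf
  | cons f₀ fs ih =>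
    have h1 := h f₀ List.mem_cons_self
    have h2 := ih (fun f hf => h f (List.mem_cons_of_mem _ hf))
    refine imT_mono ?_ (mem_imT_inf h1 h2)
    intro x hx
    obtain ⟨hx1, hx2⟩ := Submodule.mem_inf.1 hx
    show x ∈ gam _ X
    rw [mem_gam_span_list]
    intro f hf
    rcases List.mem_cons.1 hf with rfl | hf'
    · exact mem_gam_span_singleton.1 hx1
    · exact (mem_gam_span_list fs x).1 hx2 f hf'

theorem mem_imT_of_TorsT (hT : GrSeg.IsSegreRing 𝒜 ℬ 𝒯 ψ) {mR : Ideal R} {mT : Ideal T}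
    (hmT : mT = Ideal.span (⋃ n ∈ Set.Ioi (0 : ℤ), (𝒯 n : Set T))) (fs : List R)
    (hfs : ∀ f ∈ fs, ∃ d : ℕ, 0 < d ∧ f ∈ 𝒜 (d : ℤ)) (hmR' : mR = Ideal.span {f | f ∈ fs})
    {e : ℕ} (he : 0 < e) {g : S} (hg : g ∈ ℬ (e : ℤ))
    (hgY : Function.Bijective (fun y : Y => g • y)) {z : X ⊗[k] Y}
    (hz : z ∈ TorsT ψ X Y mT) : z ∈ imT Y ((gam mR X).restrictScalars k) := by
  obtain ⟨c, hc⟩ := hz
  rw [hmR']
  apply mem_imT_gam_list
  intro f hf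
  obtain ⟨d, hd, hfd⟩ := hfs f hf
  obtain ⟨t, htm, ht⟩ := exists_t hT hmT hd he hfd hg
  have h1 := hc (t ^ c) (Ideal.pow_mem_pow htm c)
  rw [map_pow, ht, Algebra.TensorProduct.tmul_pow, act_tmul_eq] at h1
  have h2 : tmap (LinearMap.id : X →ₗ[R] X) (LinearMap.lsmul S Y ((g ^ d) ^ c))
      (tmap (LinearMap.lsmul R X ((f ^ e) ^ c)) (LinearMap.id : Y →ₗ[S] Y) z) = 0 := by
    rw [tmap_comp, LinearMap.id_comp, LinearMap.comp_id]
    exact h1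
  have hinj : Function.Injective (tmap (k := k) (LinearMap.id : X →ₗ[R] X)
      (LinearMap.lsmul S Y ((g ^ d) ^ c))) :=
    tmap_injective Function.injective_id
      (bijective_pow_smul _ (bijective_pow_smul g hgY d) c).1
  have h3 : tmap (LinearMap.lsmul R X ((f ^ e) ^ c)) (LinearMap.id : Y →ₗ[S] Y) z = 0 :=
    hinj (by rw [h2, map_zero])
  rw [tmap_id_right, TCrdH1.map_eq_zero_iff] at h3
  refine imT_mono ?_ h3
  intro x hx
  have hx' : ((f ^ e) ^ c) • x = 0 := hx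
  show x ∈ gam (Ideal.span {f}) X
  rw [mem_gam_span_singleton]
  exact ⟨e * c, by rw [pow_mul]; exact hx'⟩

theorem exists_preimage_sub (W : Submodule R X) {z : X ⊗[k] Y}
    (hz : z ∈ imT Y (W.restrictScalars k)) :
    ∃ w : ↥W ⊗[k] Y, tmap W.subtype (LinearMap.id : Y →ₗ[S] Y) w = z := by
  unfold imT at hz
  induction hz using Submodule.span_induction with
  | mem w hw =>
    obtain ⟨x, hx, y, rfl⟩ := hw
    exact ⟨(⟨x, hx⟩ : ↥W) ⊗ₜ[k] y, rfl⟩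
  | zero => exact ⟨0, map_zero _⟩
  | add z₁ z₂ _ _ h₁ h₂ =>
    obtain ⟨w₁, e₁⟩ := h₁
    obtain ⟨w₂, e₂⟩ := h₂
    exact ⟨w₁ + w₂, by rw [map_add, e₁, e₂]⟩
  | smul c z₁ _ h₁ =>
    obtain ⟨w₁, e₁⟩ := h₁
    exact ⟨c • w₁, by rw [map_smul, e₁]⟩

end tors

/-! ### torsion in the Segre product -/
section seg

variable {X : Type u} [AddCommGroup X] [Module R X] [Module k X] [IsScalarTower k R X]
  (𝒳 : ℤ → AddSubgroup X) [Decomposition 𝒳] [SetLike.GradedSMul 𝒜 𝒳]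
  {Y : Type u} [AddCommGroup Y] [Module S Y] [Module k Y] [IsScalarTower k S Y]
  (𝒴 : ℤ → AddSubgroup Y) [Decomposition 𝒴] [SetLike.GradedSMul ℬ 𝒴]
  (hT : GrSeg.IsSegreRing 𝒜 ℬ 𝒯 ψ)

theorem mem_gam_seg_of {mR : Ideal R} {mT : Ideal T}
    (hIJ : Ideal.map ψ mT ≤
      Ideal.map (Algebra.TensorProduct.includeLeftRingHom : R →+* R ⊗[k] S) mR)
    (z : SegM 𝒳 𝒴 hT) (hz : segι 𝒳 𝒴 hT z ∈ imT Y ((gam mR X).restrictScalars k)) :
    z ∈ gam mT (SegM 𝒳 𝒴 hT) := by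
  have h1 : imT Y ((gam mR X).restrictScalars k) ≤ TorsT ψ X Y mT := by
    apply Submodule.span_le.2
    rintro _ ⟨x, hx, y, rfl⟩
    exact tmul_mem_TorsT hIJ hx y
  obtain ⟨c, hc⟩ := h1 hz
  refine ⟨c, fun t ht => ?_⟩
  apply segι_injective 𝒳 𝒴 hT
  rw [segι_smul, hc t ht, map_zero]

theorem imT_of_mem_gam_seg {mR : Ideal R} {mT : Ideal T}
    (hmT : mT = Ideal.span (⋃ n ∈ Set.Ioi (0 : ℤ), (𝒯 n : Set T))) (fs : List R)
    (hfs : ∀ f ∈ fs, ∃ d : ℕ, 0 < d ∧ f ∈ 𝒜 (d : ℤ)) (hmR' : mR = Ideal.span {f | f ∈ fs})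
    {e : ℕ} (he : 0 < e) {g : S} (hg : g ∈ ℬ (e : ℤ))
    (hgY : Function.Bijective (fun y : Y => g • y))
    (z : SegM 𝒳 𝒴 hT) (hz : z ∈ gam mT (SegM 𝒳 𝒴 hT)) :
    segι 𝒳 𝒴 hT z ∈ imT Y ((gam mR X).restrictScalars k) := by
  apply mem_imT_of_TorsT hT hmT fs hfs hmR' he hg hgY
  obtain ⟨c, hc⟩ := hz
  exact ⟨c, fun t ht => by rw [← segι_smul, hc t ht, map_zero]⟩

/-- the part of `W ⊗ Y` in a diagonal degree, for a homogeneous subspace `W` -/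
theorem mem_span_homog (W : Submodule k X) (hW : ∀ x ∈ W, ∀ n, proj 𝒜 𝒳 n x ∈ W) {j : ℤ}
    {v : X ⊗[k] Y} (hv : v ∈ imT Y W) (hvj : biprojW 𝒜 ℬ 𝒳 𝒴 j j v = v) :
    v ∈ Submodule.span k {w | ∃ x ∈ W, x ∈ 𝒳 j ∧ ∃ y ∈ 𝒴 j, w = x ⊗ₜ[k] y} := by
  have key : ∀ v ∈ imT Y W, biprojW 𝒜 ℬ 𝒳 𝒴 j j v ∈
      Submodule.span k {w | ∃ x ∈ W, x ∈ 𝒳 j ∧ ∃ y ∈ 𝒴 j, w = x ⊗ₜ[k] y} := by
    intro v hv
    unfold imT at hv
    induction hv using Submodule.span_induction with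
    | mem w hw =>
      obtain ⟨x, hx, y, rfl⟩ := hw
      unfold biprojW
      rw [TensorProduct.map_tmul]
      exact Submodule.subset_span ⟨_, hW x hx j, proj_mem 𝒜 𝒳 j x, _, proj_mem ℬ 𝒴 j y, rfl⟩
    | zero => rw [map_zero]; exact zero_mem _
    | add z₁ z₂ _ _ h₁ h₂ => rw [map_add]; exact add_mem h₁ h₂
    | smul c z₁ _ h₁ => rw [map_smul]; exact Submodule.smul_mem _ c h₁
  rw [← hvj]
  exact key v hv

end seg

end Groth.Agent.Lib.SegTorsH1
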