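import Mathlib
import Groth.Prelude.Def_GrLC
import Groth.Prelude.Def_GrSeg
import Groth.Agent.Lib.SegTors_helper1
import Groth.Agent.Lib.GrXfer_helper1

/-! Segre products of modules with the divisibility property are acyclic for the irrelevant ideal
of the Segre ring, when the second factor carries a bijective homogeneous element of positive
degree (helper1).  APPEND-ONLY once landed. -/

set_option autoImplicit false

namespace Groth.Agent.Lib.SegAcycH1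

open scoped TensorProduct
open DirectSum GrLC Groth.Agent.Lib.SegreH3 Groth.Agent.Lib.SegF1H1 Groth.Agent.Lib.SegF2H1
  Groth.Agent.Lib.TCrdH1 Groth.Agent.Lib.DivH1 Groth.Agent.Lib.GrAcycH1
  Groth.Agent.Lib.SegTorsH1 Groth.Agent.Lib.GrXferH1 Groth.Agent.Lib.GrLES1H1
  Groth.Agent.Lib.GrLES2H1

universe u

variable {k : Type u} [Field k]
  {R : Type u} [CommRing R] [Algebra k R] {𝒜 : ℤ → Submodule k R} [GradedAlgebra 𝒜]
  {S : Type u} [CommRing S] [Algebra k S] {ℬ : ℤ → Submodule k S} [GradedAlgebra ℬ]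
  {T : Type u} [CommRing T] [Algebra k T] {𝒯 : ℤ → Submodule k T} [GradedAlgebra 𝒯]
  {ψ : T →ₐ[k] R ⊗[k] S}

/-- the canonical `k`-structure on a graded `R`-module -/
@[reducible] noncomputable def kMod (X : GMod.{u} (toAS 𝒜)) : Module k X.carrier :=
  Module.compHom X.carrier (algebraMap k R)

attribute [local instance] kMod

theorem kTower (X : GMod.{u} (toAS 𝒜)) : IsScalarTower k R X.carrier :=
  IsScalarTower.of_algebraMap_smul fun _ _ => rfl

theorem gsmulX (X : GMod.{u} (toAS 𝒜)) : SetLike.GradedSMul 𝒜 X.gr := gsmul_of 𝒜 X.gr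

attribute [local instance] kTower gsmulX

variable {N : Type u} [AddCommGroup N] [Module S N] [Module k N] [IsScalarTower k S N]
  (𝒩 : ℤ → AddSubgroup N) [Decomposition 𝒩] [SetLike.GradedSMul ℬ 𝒩]
  (hT : GrSeg.IsSegreRing 𝒜 ℬ 𝒯 ψ)

/-- the Segre product with `N`, as a graded module over `toAS 𝒯` -/
noncomputable def segA (X : GMod.{u} (toAS 𝒜)) : GMod.{u} (toAS 𝒯) :=
  gmodAS 𝒯 (SegG X.gr 𝒩 hT)

variable [IsNoetherianRing T] (mR : HomogeneousIdeal 𝒜) (mT : HomogeneousIdeal 𝒯)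
  (hmR : mR.toIdeal = Ideal.span (⋃ n ∈ Set.Ioi (0 : ℤ), (𝒜 n : Set R)))
  (hmT : mT.toIdeal = Ideal.span (⋃ n ∈ Set.Ioi (0 : ℤ), (𝒯 n : Set T)))
  {e : ℕ} (he : 0 < e) {g : S} (hg : g ∈ ℬ (e : ℤ))
  (hgN : Function.Bijective (fun y : N => g • y))

include hmR hmT he hg hgN in
theorem acyc_seg (fs : List R) (hfs : ∀ f ∈ fs, ∃ d : ℕ, 0 < d ∧ f ∈ 𝒜 (d : ℤ)) :
    ∀ (X : GMod.{u} (toAS 𝒜)), Div (toAS 𝒜) X →
      (∀ x : X.carrier, (∀ f ∈ fs, ∃ n : ℕ, f ^ n • x = 0) → x ∈ gam mR.toIdeal X.carrier) →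
      ∀ (G : StarInjRes (toAS 𝒯) (segA 𝒩 hT X).gr) (p : ℕ), 1 ≤ p →
        Subsingleton (G.H (idealAS 𝒯 mT) p) := by
  induction fs with
  | nil =>
    intro X _ hrad G p hp
    have hIJ := map_psi_le hT hmR hmT
    refine H_subsingleton_of_torsion (idealAS 𝒯 mT) (fun z => ?_) G p hp
    refine mem_gam_seg_of X.gr 𝒩 hT hIJ z ?_
    refine imT_mono ?_ (mem_imT_top _)
    intro x _
    exact hrad x (fun f hf => by simp at hf)
  | cons f fs ih =>
    intro X hX hrad G p hp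
    obtain ⟨d, hd, hfd⟩ := hfs f List.mem_cons_self
    have hfd' : f ∈ toAS 𝒜 (d : ℤ) := hfd
    let Sx : SES T (segA 𝒩 hT (gamG (toAS 𝒜) X (spanH (toAS 𝒜) hfd'))).gr (segA 𝒩 hT X).gr
        (segA 𝒩 hT (quotG (toAS 𝒜) X (spanH (toAS 𝒜) hfd'))).gr :=
      { u := segMap (gamG (toAS 𝒜) X (spanH (toAS 𝒜) hfd')).gr X.gr 𝒩 𝒩 hT
          (gamι (toAS 𝒜) X (spanH (toAS 𝒜) hfd')) (gamι_gr (toAS 𝒜) X (spanH (toAS 𝒜) hfd'))
          LinearMap.id (id_gr 𝒩)
        p := segMap X.gr (quotG (toAS 𝒜) X (spanH (toAS 𝒜) hfd')).gr 𝒩 𝒩 hT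
          (quotπ (toAS 𝒜) X (spanH (toAS 𝒜) hfd')) (quotπ_gr (toAS 𝒜) X (spanH (toAS 𝒜) hfd'))
          LinearMap.id (id_gr 𝒩)
        hu := segMap_gr _ _ _ _ hT _ _ _ _
        hp := segMap_gr _ _ _ _ hT _ _ _ _
        inj := segMap_injective _ _ _ _ hT _ _ _ _
          (gamι_injective (toAS 𝒜) X (spanH (toAS 𝒜) hfd')) Function.injective_id
        surj := segMap_surjective _ _ _ _ hT _ _ _ _
          (quotπ_surjective (toAS 𝒜) X (spanH (toAS 𝒜) hfd')) Function.surjective_id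
        exact := seg_exact_left X.gr (gamG (toAS 𝒜) X (spanH (toAS 𝒜) hfd')).gr
          (quotG (toAS 𝒜) X (spanH (toAS 𝒜) hfd')).gr 𝒩 hT
          (gamι_gr (toAS 𝒜) X (spanH (toAS 𝒜) hfd')) (quotπ_gr (toAS 𝒜) X (spanH (toAS 𝒜) hfd'))
          (gamSES (toAS 𝒜) X (spanH (toAS 𝒜) hfd')).exact }
    refine subsingleton_of_ses Sx (idealAS 𝒯 mT) p (fun E' => ?_) (fun E'' => ?_) G
    · refine ih (fun f' hf' => hfs f' (List.mem_cons_of_mem _ hf'))
        (gamG (toAS 𝒜) X (spanH (toAS 𝒜) hfd')) (div_gamG (toAS 𝒜) X hX _) ?_ E' p hp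
      intro x hx
      apply mem_gam_of_injective (gamι (toAS 𝒜) X (spanH (toAS 𝒜) hfd'))
        (gamι_injective (toAS 𝒜) X (spanH (toAS 𝒜) hfd'))
      apply hrad
      intro f' hf'
      rcases List.mem_cons.1 hf' with hff | hf''
      · have h1 := gamι_mem (toAS 𝒜) X (spanH (toAS 𝒜) hfd') x
        rw [spanH_toIdeal, mem_gam_span_singleton] at h1
        rw [hff]
        exact h1
      · obtain ⟨n, hn⟩ := hx f' hf''
        exact ⟨n, by rw [← map_smul, hn, map_zero]⟩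
    · have hbij := smul_bijective_quot (toAS 𝒜) X hX hfd'
      have hex : ∃ (c : ℤ) (t : T), 0 < c ∧ t ∈ 𝒯 c ∧ Function.Bijective
          (fun p : SegM (quotG (toAS 𝒜) X (spanH (toAS 𝒜) hfd')).gr 𝒩 hT => t • p) := by
        letI := segDecomp (quotG (toAS 𝒜) X (spanH (toAS 𝒜) hfd')).gr 𝒩 hT
        exact SegreH3.exists_bijective k R 𝒜 S ℬ T 𝒯 ψ hT
          (quotG (toAS 𝒜) X (spanH (toAS 𝒜) hfd')).carrier
          (quotG (toAS 𝒜) X (spanH (toAS 𝒜) hfd')).gr N 𝒩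
          (SegM (quotG (toAS 𝒜) X (spanH (toAS 𝒜) hfd')).gr 𝒩 hT)
          (segGr (quotG (toAS 𝒜) X (spanH (toAS 𝒜) hfd')).gr 𝒩 hT)
          (segι (quotG (toAS 𝒜) X (spanH (toAS 𝒜) hfd')).gr 𝒩 hT)
          (seg_isSegreMod (quotG (toAS 𝒜) X (spanH (toAS 𝒜) hfd')).gr 𝒩 hT)
          d hd f hfd hbij e he g hg hgN
      obtain ⟨c, t, hc, htc, htbij⟩ := hex
      have htm : t ∈ (idealAS 𝒯 mT).toIdeal := by
        show t ∈ mT.toIdeal
        rw [hmT]
        exact Ideal.subset_span (Set.mem_biUnion (show c ∈ Set.Ioi (0 : ℤ) from hc) htc)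
      have htbij' : Function.Bijective (fun p :
          (segA 𝒩 hT (quotG (toAS 𝒜) X (spanH (toAS 𝒜) hfd'))).carrier => t • p) := htbij
      exact H_subsingleton_of_bijective (idealAS 𝒯 mT) htm htbij' E'' p

end Groth.Agent.Lib.SegAcycH1
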