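import Mathlib

/-! Graded differential vector spaces in "big" form (one vector space with a differential, a sign
operator and a locally finite family of orthogonal projections); contractions (helper1).
APPEND-ONLY once landed. -/

set_option autoImplicit false

namespace Groth.Agent.Lib.DVecH1

open scoped TensorProduct

universe u

/-- a graded differential vector space -/
structure GD (k : Type u) [Field k] (V : Type u) [AddCommGroup V] [Module k V] where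
  d : V →ₗ[k] V
  σ : V →ₗ[k] V
  π : ℕ → V →ₗ[k] V
  d_d : ∀ v, d (d v) = 0
  π_π : ∀ i j v, π i (π j v) = if i = j then π j v else 0
  fin : ∀ v, ∃ F : Finset ℕ, ∑ i ∈ F, π i v = v
  d_π : ∀ i v, d (π i v) = π (i + 1) (d v)
  π_zero_d : ∀ v, π 0 (d v) = 0
  σ_π : ∀ i v, σ (π i v) = (-1 : k) ^ i • π i v
  π_σ : ∀ i v, π i (σ v) = (-1 : k) ^ i • π i v

variable {k : Type u} [Field k] {V : Type u} [AddCommGroup V] [Module k V]

namespace GD

variable (G : GD k V)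

theorem π_same (i : ℕ) (v : V) : G.π i (G.π i v) = G.π i v := by rw [G.π_π, if_pos rfl]

theorem π_ne {i j : ℕ} (h : i ≠ j) (v : V) : G.π i (G.π j v) = 0 := by rw [G.π_π, if_neg h]

theorem π_eq_zero_of_notMem {F : Finset ℕ} {v : V} (hF : ∑ i ∈ F, G.π i v = v) {j : ℕ}
    (hj : j ∉ F) : G.π j v = 0 := by
  have h1 : G.π j (∑ i ∈ F, G.π i v) = 0 := by
    rw [map_sum]
    exact Finset.sum_eq_zero (fun i hi => G.π_ne (fun h => hj (by rw [h]; exact hi)) v)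
  rw [hF] at h1
  exact h1

theorem ext_π {v w : V} (h : ∀ i, G.π i v = G.π i w) : v = w := by
  obtain ⟨F, hF⟩ := G.fin (v - w)
  rw [← sub_eq_zero, ← hF]
  exact Finset.sum_eq_zero (fun i _ => by rw [map_sub, h i, sub_self])

theorem σ_σ (v : V) : G.σ (G.σ v) = v := by
  apply G.ext_π
  intro i
  rw [G.π_σ, G.π_σ, smul_smul, ← mul_pow]
  simp

theorem σ_d (v : V) : G.σ (G.d v) = - G.d (G.σ v) := by
  apply G.ext_π
  intro i
  cases i with
  | zero => rw [G.π_σ, G.π_zero_d, smul_zero, map_neg, G.π_zero_d, neg_zero]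
  | succ i =>
    rw [G.π_σ, ← G.d_π, map_neg, ← G.d_π, G.π_σ, map_smul, pow_succ, mul_neg_one, neg_smul]

theorem d_σ (v : V) : G.d (G.σ v) = - G.σ (G.d v) := by rw [G.σ_d, neg_neg]

/-- the homogeneous part of degree `n` -/
def Vn (n : ℕ) : Submodule k V := LinearMap.range (G.π n)

theorem mem_Vn {n : ℕ} {v : V} : v ∈ G.Vn n ↔ G.π n v = v := by
  constructor
  · rintro ⟨w, rfl⟩
    exact G.π_same n w
  · intro h
    exact ⟨v, h⟩

theorem π_mem_Vn (n : ℕ) (v : V) : G.π n v ∈ G.Vn n := ⟨v, rfl⟩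

theorem π_of_mem_Vn_ne {m n : ℕ} (h : n ≠ m) {v : V} (hv : v ∈ G.Vn m) : G.π n v = 0 := by
  rw [← G.mem_Vn.1 hv]
  exact G.π_ne h v

theorem d_mem_Vn {n : ℕ} {v : V} (hv : v ∈ G.Vn n) : G.d v ∈ G.Vn (n + 1) := by
  rw [G.mem_Vn] at hv ⊢
  rw [← G.d_π, hv]

theorem σ_of_mem_Vn {n : ℕ} {v : V} (hv : v ∈ G.Vn n) : G.σ v = (-1 : k) ^ n • v := by
  rw [G.mem_Vn] at hv
  rw [← hv, G.σ_π, hv]

/-- subspaces stable under the structure -/
structure Stable (A : Submodule k V) : Prop where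
  d_mem : ∀ a ∈ A, G.d a ∈ A
  π_mem : ∀ i, ∀ a ∈ A, G.π i a ∈ A

theorem stable_top : G.Stable ⊤ := ⟨fun _ _ => Submodule.mem_top, fun _ _ _ => Submodule.mem_top⟩

variable {G}

theorem Stable.mem_of_homog {A : Submodule k V} (_hA : G.Stable A) {V' : Type u}
    [AddCommGroup V'] [Module k V'] (f : V →ₗ[k] V') (A' : Submodule k V')
    (h : ∀ n, ∀ a ∈ A, f (G.π n a) ∈ A') : ∀ a ∈ A, f a ∈ A' := by
  intro a ha
  obtain ⟨F, hF⟩ := G.fin a
  rw [← hF, map_sum]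
  exact A'.sum_mem (fun n _ => h n a ha)

theorem Stable.ext_homog {A : Submodule k V} (_hA : G.Stable A) {V' : Type u}
    [AddCommGroup V'] [Module k V'] (f g : V →ₗ[k] V')
    (h : ∀ n, ∀ a ∈ A, f (G.π n a) = g (G.π n a)) : ∀ a ∈ A, f a = g a := by
  intro a ha
  obtain ⟨F, hF⟩ := G.fin a
  rw [← hF, map_sum, map_sum]
  exact Finset.sum_congr rfl (fun n _ => h n a ha)

theorem Stable.σ_mem {A : Submodule k V} (hA : G.Stable A) {a : V} (ha : a ∈ A) :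
    G.σ a ∈ A := by
  refine hA.mem_of_homog G.σ A (fun n a ha => ?_) a ha
  rw [G.σ_π]
  exact A.smul_mem _ (hA.π_mem n a ha)

variable (G)

/-! ### block-diagonal maps -/

theorem π_support_finite (v : V) : (Function.support fun i => G.π i v).Finite := by
  obtain ⟨F, hF⟩ := G.fin v
  refine F.finite_toSet.subset (fun i hi => ?_)
  by_contra h
  exact hi (G.π_eq_zero_of_notMem hF h)

theorem blk_fin {V' : Type u} [AddCommGroup V'] [Module k V'] (g : ℕ → V →ₗ[k] V') (v : V) :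
    (Function.support fun i => g i (G.π i v)).Finite := by
  refine (G.π_support_finite v).subset (fun i hi => ?_)
  intro h0
  apply hi
  show g i (G.π i v) = 0
  rw [show G.π i v = 0 from h0, map_zero]

/-- the map acting on the degree `i` part by `g i` -/
noncomputable def blk {V' : Type u} [AddCommGroup V'] [Module k V'] (g : ℕ → V →ₗ[k] V') :
    V →ₗ[k] V' where
  toFun v := ∑ᶠ i, g i (G.π i v)
  map_add' v w := by
    simp only [map_add]
    exact finsum_add_distrib (G.blk_fin g v) (G.blk_fin g w)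
  map_smul' c v := by
    simp only [map_smul, RingHom.id_apply]
    exact (smul_finsum' c (G.blk_fin g v)).symm

theorem blk_π {V' : Type u} [AddCommGroup V'] [Module k V'] (g : ℕ → V →ₗ[k] V') (i : ℕ)
    (v : V) : G.blk g (G.π i v) = g i (G.π i v) := by
  show ∑ᶠ j, g j (G.π j (G.π i v)) = _
  rw [finsum_eq_single _ i]
  · rw [G.π_same]
  · intro j hj
    rw [G.π_ne hj, map_zero]

/-! ### contractions -/

/-- contraction data for a stable subspace (projection not yet idempotent) -/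
structure PreContr (A : Submodule k V) where
  h : V →ₗ[k] V
  p : V →ₗ[k] V
  h_mem : ∀ a ∈ A, h a ∈ A
  p_mem : ∀ a ∈ A, p a ∈ A
  hom : ∀ a ∈ A, G.d (h a) + h (G.d a) = a - p a
  d_p : ∀ a ∈ A, G.d (p a) = 0
  p_d : ∀ a ∈ A, p (G.d a) = 0
  h_π_succ : ∀ i, ∀ a ∈ A, h (G.π (i + 1) a) = G.π i (h a)
  h_π_zero : ∀ a ∈ A, h (G.π 0 a) = 0
  p_π : ∀ i, ∀ a ∈ A, p (G.π i a) = G.π i (p a)

omit [Field k] in
theorem exists_geninv {K : Type u} [Field K] {U U' : Type u} [AddCommGroup U] [Module K U]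
    [AddCommGroup U'] [Module K U'] (f : U →ₗ[K] U') : ∃ g : U' →ₗ[K] U, ∀ u, f (g (f u)) = f u := by
  obtain ⟨g₁, hg₁⟩ := f.rangeRestrict.exists_rightInverse_of_surjective f.range_rangeRestrict
  obtain ⟨g, hg⟩ := LinearMap.exists_extend g₁
  refine ⟨g, fun u => ?_⟩
  have h1 : g (f u) = g₁ ⟨f u, LinearMap.mem_range_self f u⟩ :=
    LinearMap.congr_fun hg ⟨f u, LinearMap.mem_range_self f u⟩
  rw [h1]
  have h2 := LinearMap.congr_fun hg₁ ⟨f u, LinearMap.mem_range_self f u⟩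
  exact congrArg Subtype.val h2

/-- the family defining the graded homotopy -/
noncomputable def hfam (h₀ : V →ₗ[k] V) : ℕ → V →ₗ[k] V
  | 0 => 0
  | (i + 1) => G.π i ∘ₗ h₀

theorem exists_precontr {A : Submodule k V} (hA : G.Stable A) : Nonempty (G.PreContr A) := by
  obtain ⟨g, hg⟩ := exists_geninv (G.d.restrict hA.d_mem)
  obtain ⟨s, hs⟩ := LinearMap.exists_extend (A.subtype ∘ₗ g)
  have hs1 : ∀ (a : V) (ha : a ∈ A), s a = (g ⟨a, ha⟩ : V) := fun a ha =>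
    LinearMap.congr_fun hs ⟨a, ha⟩
  have hsA : ∀ a ∈ A, s a ∈ A := fun a ha => by rw [hs1 a ha]; exact (g ⟨a, ha⟩).2
  have hdsd : ∀ a ∈ A, G.d (s (G.d a)) = G.d a := by
    intro a ha
    rw [hs1 (G.d a) (hA.d_mem a ha)]
    have := hg ⟨a, ha⟩
    exact congrArg Subtype.val this
  let h₀ : V →ₗ[k] V := s ∘ₗ G.d ∘ₗ s
  let p₀ : V →ₗ[k] V := LinearMap.id - G.d ∘ₗ h₀ - h₀ ∘ₗ G.d
  have hh₀ : ∀ v, h₀ v = s (G.d (s v)) := fun v => rfl
  have hp₀ : ∀ v, p₀ v = v - G.d (h₀ v) - h₀ (G.d v) := fun v => rfl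
  have hh₀A : ∀ a ∈ A, h₀ a ∈ A := fun a ha => hsA _ (hA.d_mem _ (hsA a ha))
  have hp₀A : ∀ a ∈ A, p₀ a ∈ A := fun a ha => by
    rw [hp₀]
    exact A.sub_mem (A.sub_mem ha (hA.d_mem _ (hh₀A a ha))) (hh₀A _ (hA.d_mem a ha))
  have hhom₀ : ∀ v, G.d (h₀ v) + h₀ (G.d v) = v - p₀ v := fun v => by rw [hp₀]; abel
  have hdh₀d : ∀ a ∈ A, G.d (h₀ (G.d a)) = G.d a := by
    intro a ha
    rw [hh₀, hdsd _ (hsA _ (hA.d_mem a ha)), hdsd a ha]
  have hdp₀ : ∀ a ∈ A, G.d (p₀ a) = 0 := by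
    intro a ha
    rw [hp₀, map_sub, map_sub, G.d_d, sub_zero, hdh₀d a ha, sub_self]
  have hp₀d : ∀ a ∈ A, p₀ (G.d a) = 0 := by
    intro a ha
    rw [hp₀, G.d_d, map_zero, sub_zero, hdh₀d a ha, sub_self]
  have hhx : ∀ n, ∀ a ∈ A, G.blk (G.hfam h₀) (G.π (n + 1) a) = G.π n (h₀ (G.π (n + 1) a)) :=
    fun n a _ => G.blk_π _ _ _
  have hh0 : ∀ a ∈ A, G.blk (G.hfam h₀) (G.π 0 a) = 0 := fun a _ => by
    rw [G.blk_π]
    rfl
  have hpx : ∀ n, ∀ a ∈ A, G.blk (fun i => G.π i ∘ₗ p₀) (G.π n a) = G.π n (p₀ (G.π n a)) :=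
    fun n a _ => G.blk_π _ _ _
  have H_mem : ∀ a ∈ A, G.blk (G.hfam h₀) a ∈ A := by
    refine hA.mem_of_homog _ A (fun n a ha => ?_)
    cases n with
    | zero => rw [hh0 a ha]; exact A.zero_mem
    | succ n => rw [hhx n a ha]; exact hA.π_mem _ _ (hh₀A _ (hA.π_mem _ a ha))
  have P_mem : ∀ a ∈ A, G.blk (fun i => G.π i ∘ₗ p₀) a ∈ A := by
    refine hA.mem_of_homog _ A (fun n a ha => ?_)
    rw [hpx n a ha]
    exact hA.π_mem _ _ (hp₀A _ (hA.π_mem _ a ha))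
  have Hom : ∀ a ∈ A, G.d (G.blk (G.hfam h₀) a) + G.blk (G.hfam h₀) (G.d a) =
      a - G.blk (fun i => G.π i ∘ₗ p₀) a := by
    refine hA.ext_homog (G.d ∘ₗ G.blk (G.hfam h₀) + G.blk (G.hfam h₀) ∘ₗ G.d)
      (LinearMap.id - G.blk (fun i => G.π i ∘ₗ p₀)) (fun n a ha => ?_)
    show G.d (G.blk (G.hfam h₀) (G.π n a)) + G.blk (G.hfam h₀) (G.d (G.π n a)) =
      G.π n a - G.blk (fun i => G.π i ∘ₗ p₀) (G.π n a)
    have hda : G.d a ∈ A := hA.d_mem a ha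
    rw [hpx n a ha, G.d_π, hhx n (G.d a) hda, ← G.d_π]
    cases n with
    | zero =>
      rw [hh0 a ha, map_zero, zero_add]
      have := congrArg (G.π 0) (hhom₀ (G.π 0 a))
      rw [map_add, G.π_zero_d, zero_add, map_sub, G.π_same] at this
      exact this
    | succ n =>
      rw [hhx n a ha, G.d_π, ← map_add, hhom₀, map_sub, G.π_same]
  have D_p : ∀ a ∈ A, G.d (G.blk (fun i => G.π i ∘ₗ p₀) a) = 0 := by
    refine hA.ext_homog (G.d ∘ₗ G.blk (fun i => G.π i ∘ₗ p₀)) 0 (fun n a ha => ?_)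
    show G.d (G.blk (fun i => G.π i ∘ₗ p₀) (G.π n a)) = 0
    rw [hpx n a ha, G.d_π, hdp₀ _ (hA.π_mem n a ha), map_zero]
  have P_d : ∀ a ∈ A, G.blk (fun i => G.π i ∘ₗ p₀) (G.d a) = 0 := by
    refine hA.ext_homog (G.blk (fun i => G.π i ∘ₗ p₀) ∘ₗ G.d) 0 (fun n a ha => ?_)
    show G.blk (fun i => G.π i ∘ₗ p₀) (G.d (G.π n a)) = 0
    rw [G.d_π, hpx (n + 1) (G.d a) (hA.d_mem a ha), ← G.d_π, hp₀d _ (hA.π_mem n a ha), map_zero]
  have H_succ : ∀ i, ∀ a ∈ A, G.blk (G.hfam h₀) (G.π (i + 1) a) =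
      G.π i (G.blk (G.hfam h₀) a) := by
    intro i
    refine hA.ext_homog (G.blk (G.hfam h₀) ∘ₗ G.π (i + 1)) (G.π i ∘ₗ G.blk (G.hfam h₀))
      (fun n a ha => ?_)
    show G.blk (G.hfam h₀) (G.π (i + 1) (G.π n a)) = G.π i (G.blk (G.hfam h₀) (G.π n a))
    cases n with
    | zero =>
      rw [hh0 a ha, map_zero, G.π_ne (Nat.succ_ne_zero i), map_zero]
    | succ n =>
      rw [hhx n a ha]
      by_cases hin : i = n
      · subst hin
        rw [G.π_same, G.π_same, hhx i a ha]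
      · rw [G.π_ne (fun h => hin (Nat.succ_injective h)), map_zero, G.π_ne hin]
  have P_π : ∀ i, ∀ a ∈ A, G.blk (fun i => G.π i ∘ₗ p₀) (G.π i a) =
      G.π i (G.blk (fun i => G.π i ∘ₗ p₀) a) := by
    intro i
    refine hA.ext_homog (G.blk (fun i => G.π i ∘ₗ p₀) ∘ₗ G.π i)
      (G.π i ∘ₗ G.blk (fun i => G.π i ∘ₗ p₀)) (fun n a ha => ?_)
    show G.blk (fun i => G.π i ∘ₗ p₀) (G.π i (G.π n a)) =
      G.π i (G.blk (fun i => G.π i ∘ₗ p₀) (G.π n a))
    rw [hpx n a ha]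
    by_cases hin : i = n
    · subst hin
      rw [G.π_same, G.π_same, hpx i a ha]
    · rw [G.π_ne hin, map_zero, G.π_ne hin]
  exact ⟨⟨G.blk (G.hfam h₀), G.blk (fun i => G.π i ∘ₗ p₀), H_mem, P_mem, Hom, D_p, P_d, H_succ,
    hh0, P_π⟩⟩

/-- contraction data for a stable subspace -/
structure Contr (A : Submodule k V) where
  h : V →ₗ[k] V
  p : V →ₗ[k] V
  h_mem : ∀ a ∈ A, h a ∈ A
  p_mem : ∀ a ∈ A, p a ∈ A
  hom : ∀ a ∈ A, G.d (h a) + h (G.d a) = a - p a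
  d_p : ∀ a ∈ A, G.d (p a) = 0
  p_d : ∀ a ∈ A, p (G.d a) = 0
  h_π_succ : ∀ i, ∀ a ∈ A, h (G.π (i + 1) a) = G.π i (h a)
  h_π_zero : ∀ a ∈ A, h (G.π 0 a) = 0
  p_π : ∀ i, ∀ a ∈ A, p (G.π i a) = G.π i (p a)
  p_p : ∀ a ∈ A, p (p a) = p a

theorem exists_contr {A : Submodule k V} (hA : G.Stable A) : Nonempty (G.Contr A) := by
  obtain ⟨c⟩ := G.exists_precontr hA
  have hPP : ∀ z ∈ A, G.d z = 0 → c.p (c.p z) = c.p z := by
    intro z hz hdz
    have h1 := c.hom z hz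
    rw [hdz, map_zero, add_zero] at h1
    have h2 : c.p z = z - G.d (c.h z) := by rw [h1]; abel
    calc c.p (c.p z) = c.p (z - G.d (c.h z)) := by rw [← h2]
      _ = c.p z - c.p (G.d (c.h z)) := map_sub _ _ _
      _ = c.p z := by rw [c.p_d _ (c.h_mem z hz), sub_zero]
  have hPPP : ∀ a ∈ A, c.p (c.p (c.p a)) = c.p (c.p a) := fun a ha =>
    hPP (c.p a) (c.p_mem a ha) (c.d_p a ha)
  refine ⟨⟨c.h + c.h ∘ₗ c.p, c.p ∘ₗ c.p, ?_, ?_, ?_, ?_, ?_, ?_, ?_, ?_, ?_⟩⟩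
  · intro a ha
    show c.h a + c.h (c.p a) ∈ A
    exact A.add_mem (c.h_mem a ha) (c.h_mem _ (c.p_mem a ha))
  · intro a ha
    exact c.p_mem _ (c.p_mem a ha)
  · intro a ha
    show G.d (c.h a + c.h (c.p a)) + (c.h (G.d a) + c.h (c.p (G.d a))) = a - c.p (c.p a)
    have e1 := c.hom a ha
    have e2 := c.hom (c.p a) (c.p_mem a ha)
    rw [c.d_p a ha, map_zero, add_zero] at e2
    rw [c.p_d a ha, map_zero, add_zero, map_add]
    have e3 : G.d (c.h a) + G.d (c.h (c.p a)) + c.h (G.d a) =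
        (G.d (c.h a) + c.h (G.d a)) + G.d (c.h (c.p a)) := by abel
    rw [e3, e1, e2]
    abel
  · intro a ha
    exact c.d_p _ (c.p_mem a ha)
  · intro a ha
    show c.p (c.p (G.d a)) = 0
    rw [c.p_d a ha, map_zero]
  · intro i a ha
    show c.h (G.π (i + 1) a) + c.h (c.p (G.π (i + 1) a)) = G.π i (c.h a + c.h (c.p a))
    rw [c.h_π_succ i a ha, c.p_π (i + 1) a ha, c.h_π_succ i _ (c.p_mem a ha), map_add]
  · intro a ha
    show c.h (G.π 0 a) + c.h (c.p (G.π 0 a)) = 0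
    rw [c.h_π_zero a ha, c.p_π 0 a ha, c.h_π_zero _ (c.p_mem a ha), add_zero]
  · intro i a ha
    show c.p (c.p (G.π i a)) = G.π i (c.p (c.p a))
    rw [c.p_π i a ha, c.p_π i _ (c.p_mem a ha)]
  · intro a ha
    show c.p (c.p (c.p (c.p a))) = c.p (c.p a)
    rw [hPPP a ha, hPPP a ha]

theorem σ_π_comm (i : ℕ) (v : V) : G.σ (G.π i v) = G.π i (G.σ v) := by rw [G.σ_π, G.π_σ]

end GD

end Groth.Agent.Lib.DVecH1
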