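import Mathlib
import Groth.Agent.Lib.DVec1_helper1

/-! Graded differential vector spaces: cycles, boundaries, representatives of cohomology,
subspaces of tensor products spanned by pure tensors, and the tensor product structure
(helper1).  APPEND-ONLY once landed. -/

set_option autoImplicit false

namespace Groth.Agent.Lib.DVecH1

open scoped TensorProduct

universe u

variable {k : Type u} [Field k] {V : Type u} [AddCommGroup V] [Module k V]
  {W : Type u} [AddCommGroup W] [Module k W]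

namespace GD

variable (G : GD k V)

/-- homogeneous cycles of a subspace -/
def Zn (A : Submodule k V) (n : ℕ) : Submodule k V := A ⊓ G.Vn n ⊓ LinearMap.ker G.d

/-- homogeneous boundaries of a subspace -/
def Bn (A : Submodule k V) (n : ℕ) : Submodule k V := A.map G.d ⊓ G.Vn n

theorem mem_Zn {A : Submodule k V} {n : ℕ} {z : V} :
    z ∈ G.Zn A n ↔ z ∈ A ∧ z ∈ G.Vn n ∧ G.d z = 0 := by
  unfold Zn
  rw [Submodule.mem_inf, Submodule.mem_inf, LinearMap.mem_ker, and_assoc]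

theorem mem_Bn {A : Submodule k V} {n : ℕ} {z : V} :
    z ∈ G.Bn A n ↔ (∃ a ∈ A, G.d a = z) ∧ z ∈ G.Vn n := by
  unfold Bn
  rw [Submodule.mem_inf, Submodule.mem_map]

theorem Zn_mono {A A' : Submodule k V} (h : A ≤ A') (n : ℕ) : G.Zn A n ≤ G.Zn A' n := by
  intro z hz
  rw [mem_Zn] at hz ⊢
  exact ⟨h hz.1, hz.2⟩

theorem Bn_mono {A A' : Submodule k V} (h : A ≤ A') (n : ℕ) : G.Bn A n ≤ G.Bn A' n := by
  intro z hz
  rw [mem_Bn] at hz ⊢
  obtain ⟨⟨a, ha, e⟩, hn⟩ := hz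
  exact ⟨⟨a, h ha, e⟩, hn⟩

theorem Bn_zero (A : Submodule k V) : G.Bn A 0 = ⊥ := by
  rw [eq_bot_iff]
  intro z hz
  rw [mem_Bn] at hz
  obtain ⟨⟨a, _, rfl⟩, hn⟩ := hz
  rw [G.mem_Vn, G.π_zero_d] at hn
  rw [Submodule.mem_bot, ← hn]

/-- a space of representatives of the cohomology of a subspace -/
structure Rep (A : Submodule k V) (n : ℕ) (ℋ : Submodule k V) : Prop where
  le : ℋ ≤ G.Zn A n
  disj : ∀ x ∈ ℋ, x ∈ G.Bn A n → x = 0
  span : ∀ z ∈ G.Zn A n, ∃ h ∈ ℋ, z - h ∈ G.Bn A n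

theorem rep_zero (A : Submodule k V) : G.Rep A 0 (G.Zn A 0) := by
  refine ⟨le_rfl, ?_, ?_⟩
  · intro x _ hb
    rw [G.Bn_zero, Submodule.mem_bot] at hb
    exact hb
  · intro z hz
    exact ⟨z, hz, by rw [sub_self]; exact zero_mem _⟩

variable {G}

theorem Stable.π_mem_map_d {A : Submodule k V} (hA : G.Stable A) {x : V} (hx : x ∈ A.map G.d)
    (n : ℕ) : G.π n x ∈ A.map G.d := by
  obtain ⟨a, ha, rfl⟩ := hx
  cases n with
  | zero => rw [G.π_zero_d]; exact zero_mem _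
  | succ n => rw [← G.d_π]; exact ⟨G.π n a, hA.π_mem n a ha, rfl⟩

theorem Stable.sup {A B : Submodule k V} (hA : G.Stable A) (hB : G.Stable B) :
    G.Stable (A ⊔ B) := by
  constructor
  · intro x hx
    obtain ⟨a, ha, b, hb, rfl⟩ := Submodule.mem_sup.1 hx
    rw [map_add]
    exact Submodule.add_mem_sup (hA.d_mem a ha) (hB.d_mem b hb)
  · intro i x hx
    obtain ⟨a, ha, b, hb, rfl⟩ := Submodule.mem_sup.1 hx
    rw [map_add]
    exact Submodule.add_mem_sup (hA.π_mem i a ha) (hB.π_mem i b hb)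

namespace Contr

variable {A : Submodule k V} (c : G.Contr A)

/-- the representatives of cohomology given by a contraction -/
def ℋ (i : ℕ) : Submodule k V := (A ⊓ G.Vn i).map c.p

theorem p_mem_ℋ {a : V} (ha : a ∈ A) {i : ℕ} (hi : a ∈ G.Vn i) : c.p a ∈ c.ℋ i :=
  ⟨a, ⟨ha, hi⟩, rfl⟩

theorem p_π_mem_ℋ (hA : G.Stable A) {a : V} (ha : a ∈ A) (i : ℕ) : c.p (G.π i a) ∈ c.ℋ i :=
  c.p_mem_ℋ (hA.π_mem i a ha) (G.π_mem_Vn i a)

theorem p_of_mem_ℋ {i : ℕ} {x : V} (hx : x ∈ c.ℋ i) : c.p x = x := by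
  obtain ⟨a, ⟨ha, _⟩, rfl⟩ := hx
  exact c.p_p a ha

theorem ℋ_le (i : ℕ) : c.ℋ i ≤ G.Zn A i := by
  rintro _ ⟨a, ⟨ha, hi⟩, rfl⟩
  rw [G.mem_Zn]
  refine ⟨c.p_mem a ha, ?_, c.d_p a ha⟩
  have hi' := G.mem_Vn.1 hi
  rw [G.mem_Vn, ← c.p_π i a ha, hi']

theorem ℋ_le_Vn (i : ℕ) : c.ℋ i ≤ G.Vn i := fun _ hx => (G.mem_Zn.1 (c.ℋ_le i hx)).2.1

theorem rep (i : ℕ) : G.Rep A i (c.ℋ i) := by
  refine ⟨c.ℋ_le i, ?_, ?_⟩
  · intro x hx hb
    rw [G.mem_Bn] at hb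
    obtain ⟨⟨a, ha, rfl⟩, -⟩ := hb
    rw [← c.p_of_mem_ℋ hx, c.p_d a ha]
  · intro z hz
    rw [G.mem_Zn] at hz
    obtain ⟨hzA, hzn, hdz⟩ := hz
    refine ⟨c.p z, c.p_mem_ℋ hzA hzn, ?_⟩
    rw [G.mem_Bn]
    have h1 := c.hom z hzA
    rw [hdz, map_zero, add_zero] at h1
    exact ⟨⟨c.h z, c.h_mem z hzA, h1⟩,
      (G.Vn i).sub_mem hzn (c.ℋ_le_Vn i (c.p_mem_ℋ hzA hzn))⟩

theorem σ_h (hA : G.Stable A) : ∀ a ∈ A, G.σ (c.h a) = - c.h (G.σ a) := by
  refine hA.ext_homog (G.σ ∘ₗ c.h) (- (c.h ∘ₗ G.σ)) (fun n a ha => ?_)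
  show G.σ (c.h (G.π n a)) = - c.h (G.σ (G.π n a))
  rw [G.σ_π, map_smul]
  cases n with
  | zero => rw [c.h_π_zero a ha, smul_zero, map_zero, neg_zero]
  | succ n =>
    rw [c.h_π_succ n a ha, G.σ_π, pow_succ, mul_neg_one, neg_smul, neg_neg]

theorem p_eq_zero_of_exact {i : ℕ} (hex : G.Zn A (i + 1) ≤ G.Bn A (i + 1)) {a : V} (ha : a ∈ A)
    (hi : a ∈ G.Vn (i + 1)) : c.p a = 0 := by
  have h1 : c.p a ∈ c.ℋ (i + 1) := c.p_mem_ℋ ha hi
  exact (c.rep (i + 1)).disj _ h1 (hex (c.ℋ_le (i + 1) h1))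

theorem ℋ_succ_eq_bot {i : ℕ} (hex : G.Zn A (i + 1) ≤ G.Bn A (i + 1)) : c.ℋ (i + 1) = ⊥ := by
  rw [eq_bot_iff]
  rintro _ ⟨a, ⟨ha, hi⟩, rfl⟩
  rw [Submodule.mem_bot]
  exact c.p_eq_zero_of_exact hex ha hi

theorem ℋ_zero : c.ℋ 0 = G.Zn A 0 := by
  apply le_antisymm (c.ℋ_le 0)
  intro z hz
  obtain ⟨hzA, hzn, hdz⟩ := G.mem_Zn.1 hz
  have h1 := c.hom z hzA
  rw [hdz, map_zero, add_zero] at h1
  have h2 : c.h z = 0 := by
    rw [← G.mem_Vn.1 hzn]
    exact c.h_π_zero z hzA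
  rw [h2, map_zero] at h1
  have h3 : c.p z = z := (sub_eq_zero.1 h1.symm).symm
  rw [← h3]
  exact c.p_mem_ℋ hzA hzn

theorem ℋ_eq_bot_of_Zn {i : ℕ} (h : G.Zn A i = ⊥) : c.ℋ i = ⊥ :=
  eq_bot_iff.2 (h ▸ c.ℋ_le i)

end Contr

end GD

/-! ### spans of pure tensors -/

/-- the span of the pure tensors `a ⊗ b` with `a ∈ A`, `b ∈ B` -/
def T2 (A : Submodule k V) (B : Submodule k W) : Submodule k (V ⊗[k] W) :=
  Submodule.span k {z | ∃ a ∈ A, ∃ b ∈ B, z = a ⊗ₜ[k] b}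

theorem tmul_mem_T2 {A : Submodule k V} {B : Submodule k W} {a : V} (ha : a ∈ A) {b : W}
    (hb : b ∈ B) : a ⊗ₜ[k] b ∈ T2 A B :=
  Submodule.subset_span ⟨a, ha, b, hb, rfl⟩

theorem T2_le {A : Submodule k V} {B : Submodule k W} {C : Submodule k (V ⊗[k] W)}
    (h : ∀ a ∈ A, ∀ b ∈ B, a ⊗ₜ[k] b ∈ C) : T2 A B ≤ C :=
  Submodule.span_le.2 (by
    rintro _ ⟨a, ha, b, hb, rfl⟩
    exact h a ha b hb)

theorem T2_mono {A A' : Submodule k V} {B B' : Submodule k W} (hA : A ≤ A') (hB : B ≤ B') :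
    T2 A B ≤ T2 A' B' :=
  T2_le (fun _ ha _ hb => tmul_mem_T2 (hA ha) (hB hb))

theorem T2_bot_left (B : Submodule k W) : T2 (⊥ : Submodule k V) B = ⊥ :=
  eq_bot_iff.2 (T2_le (fun a ha b _ => by
    rw [(Submodule.mem_bot k).1 ha, TensorProduct.zero_tmul]; exact zero_mem _))

theorem T2_bot_right (A : Submodule k V) : T2 A (⊥ : Submodule k W) = ⊥ :=
  eq_bot_iff.2 (T2_le (fun a _ b hb => by
    rw [(Submodule.mem_bot k).1 hb, TensorProduct.tmul_zero]; exact zero_mem _))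

theorem T2_eqOn {U : Type u} [AddCommGroup U] [Module k U] {A : Submodule k V}
    {B : Submodule k W} (f g : V ⊗[k] W →ₗ[k] U)
    (h : ∀ a ∈ A, ∀ b ∈ B, f (a ⊗ₜ[k] b) = g (a ⊗ₜ[k] b)) : ∀ z ∈ T2 A B, f z = g z := by
  have h1 : T2 A B ≤ LinearMap.eqLocus f g :=
    T2_le (fun a ha b hb => LinearMap.mem_eqLocus.2 (h a ha b hb))
  exact fun z hz => LinearMap.mem_eqLocus.1 (h1 hz)

theorem T2_map_mem {U : Type u} [AddCommGroup U] [Module k U] {A : Submodule k V}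
    {B : Submodule k W} (f : V ⊗[k] W →ₗ[k] U) (C : Submodule k U)
    (h : ∀ a ∈ A, ∀ b ∈ B, f (a ⊗ₜ[k] b) ∈ C) : ∀ z ∈ T2 A B, f z ∈ C := by
  have h1 : T2 A B ≤ C.comap f := T2_le (fun a ha b hb => h a ha b hb)
  exact fun z hz => h1 hz

theorem map_mem_T2 {V' : Type u} [AddCommGroup V'] [Module k V'] {W' : Type u} [AddCommGroup W']
    [Module k W'] {A : Submodule k V} {B : Submodule k W} {A' : Submodule k V'}
    {B' : Submodule k W'} (f : V →ₗ[k] V') (g : W →ₗ[k] W') (hf : ∀ a ∈ A, f a ∈ A')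
    (hg : ∀ b ∈ B, g b ∈ B') : ∀ z ∈ T2 A B, TensorProduct.map f g z ∈ T2 A' B' :=
  T2_map_mem (TensorProduct.map f g) (T2 A' B') (fun a ha b hb => by
    rw [TensorProduct.map_tmul]
    exact tmul_mem_T2 (hf a ha) (hg b hb))

theorem T2_eq_range (A : Submodule k V) (B : Submodule k W) :
    T2 A B = LinearMap.range (TensorProduct.map A.subtype B.subtype) := by
  apply le_antisymm
  · exact T2_le (fun a ha b hb => ⟨(⟨a, ha⟩ : A) ⊗ₜ[k] (⟨b, hb⟩ : B), rfl⟩)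
  · rintro _ ⟨w, rfl⟩
    induction w using TensorProduct.induction_on with
    | zero => rw [map_zero]; exact zero_mem _
    | tmul a b => exact tmul_mem_T2 a.2 b.2
    | add w₁ w₂ h₁ h₂ => rw [map_add]; exact add_mem h₁ h₂

theorem mapIncl_injective (A : Submodule k V) (B : Submodule k W) :
    Function.Injective (TensorProduct.map A.subtype B.subtype) :=
  TensorProduct.map_injective_of_flat_flat _ _ A.subtype_injective B.subtype_injective

theorem T2_inf {A' A : Submodule k V} {B' B : Submodule k W} (hA : A' ≤ A) (hB : B' ≤ B) :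
    T2 A' B ⊓ T2 A B' = T2 A' B' := by
  apply le_antisymm
  · rintro z ⟨h1, h2⟩
    obtain ⟨r, hr⟩ := A'.subtype.exists_leftInverse_of_injective
      (LinearMap.ker_eq_bot.2 A'.subtype_injective)
    have hr' : ∀ a ∈ A', ((r a : A') : V) = a := fun a ha => by
      have := LinearMap.congr_fun hr ⟨a, ha⟩
      exact congrArg Subtype.val this
    have e1 : TensorProduct.map (A'.subtype ∘ₗ r) (LinearMap.id : W →ₗ[k] W) z = z :=
      T2_eqOn (TensorProduct.map (A'.subtype ∘ₗ r) (LinearMap.id : W →ₗ[k] W)) LinearMap.id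
        (fun a ha b _ => by
          rw [TensorProduct.map_tmul]
          show ((r a : A') : V) ⊗ₜ[k] b = a ⊗ₜ[k] b
          rw [hr' a ha]) z h1
    rw [← e1]
    exact map_mem_T2 (A'.subtype ∘ₗ r) LinearMap.id (fun a _ => (r a).2) (fun b hb => hb) z h2
  · exact le_inf (T2_mono le_rfl hB) (T2_mono hA le_rfl)

/-! ### the tensor product structure -/
section tens

variable (G : GD k V) (G' : GD k W)

/-- the total differential -/
noncomputable def tD : V ⊗[k] W →ₗ[k] V ⊗[k] W :=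
  TensorProduct.map G.d LinearMap.id + TensorProduct.map G.σ G'.d

/-- the total sign -/
noncomputable def tσ : V ⊗[k] W →ₗ[k] V ⊗[k] W := TensorProduct.map G.σ G'.σ

/-- the projections to total degree -/
noncomputable def tπ (n : ℕ) : V ⊗[k] W →ₗ[k] V ⊗[k] W :=
  ∑ p ∈ Finset.HasAntidiagonal.antidiagonal n, TensorProduct.map (G.π p.1) (G'.π p.2)

theorem tD_tmul (x : V) (y : W) :
    tD G G' (x ⊗ₜ[k] y) = G.d x ⊗ₜ[k] y + G.σ x ⊗ₜ[k] G'.d y := by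
  unfold tD
  rw [LinearMap.add_apply, TensorProduct.map_tmul, TensorProduct.map_tmul, LinearMap.id_apply]

theorem tπ_tmul (n : ℕ) (x : V) (y : W) :
    tπ G G' n (x ⊗ₜ[k] y) = ∑ p ∈ Finset.HasAntidiagonal.antidiagonal n, G.π p.1 x ⊗ₜ[k] G'.π p.2 y := by
  unfold tπ
  rw [LinearMap.sum_apply]
  exact Finset.sum_congr rfl (fun p _ => TensorProduct.map_tmul _ _ _ _)

theorem tπ_tmul_of_mem {a b : ℕ} {x : V} (hx : x ∈ G.Vn a) {y : W} (hy : y ∈ G'.Vn b) (n : ℕ) :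
    tπ G G' n (x ⊗ₜ[k] y) = if a + b = n then x ⊗ₜ[k] y else 0 := by
  rw [tπ_tmul]
  split_ifs with h
  · rw [Finset.sum_eq_single (a, b)]
    · show G.π a x ⊗ₜ[k] G'.π b y = _
      rw [G.mem_Vn.1 hx, G'.mem_Vn.1 hy]
    · intro p _ hp
      by_cases h1 : p.1 = a
      · have h2 : p.2 ≠ b := fun h2 => hp (Prod.ext h1 h2)
        rw [G'.π_of_mem_Vn_ne h2 hy, TensorProduct.tmul_zero]
      · rw [G.π_of_mem_Vn_ne h1 hx, TensorProduct.zero_tmul]
    · intro hn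
      exact absurd (Finset.HasAntidiagonal.mem_antidiagonal.2 h) hn
  · apply Finset.sum_eq_zero
    intro p hp
    have hp' := Finset.HasAntidiagonal.mem_antidiagonal.1 hp
    by_cases h1 : p.1 = a
    · have h2 : p.2 ≠ b := fun h2 => h (by rw [← h1, ← h2]; exact hp')
      rw [G'.π_of_mem_Vn_ne h2 hy, TensorProduct.tmul_zero]
    · rw [G.π_of_mem_Vn_ne h1 hx, TensorProduct.zero_tmul]

theorem tD_tD : tD G G' ∘ₗ tD G G' = 0 := by
  apply TensorProduct.ext'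
  intro x y
  show tD G G' (tD G G' (x ⊗ₜ[k] y)) = 0
  rw [tD_tmul, map_add, tD_tmul, tD_tmul, G.d_d, G'.d_d, G.d_σ, TensorProduct.zero_tmul,
    TensorProduct.tmul_zero, TensorProduct.neg_tmul]
  abel

theorem tπ_tπ_same (j : ℕ) : tπ G G' j ∘ₗ tπ G G' j = tπ G G' j := by
  apply TensorProduct.ext'
  intro x y
  show tπ G G' j (tπ G G' j (x ⊗ₜ[k] y)) = tπ G G' j (x ⊗ₜ[k] y)
  rw [tπ_tmul, map_sum]
  refine Finset.sum_congr rfl (fun p hp => ?_)
  rw [tπ_tmul_of_mem G G' (G.π_mem_Vn p.1 x) (G'.π_mem_Vn p.2 y) j,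
    if_pos (Finset.HasAntidiagonal.mem_antidiagonal.1 hp)]

theorem tπ_tπ_ne {i j : ℕ} (h : i ≠ j) : tπ G G' i ∘ₗ tπ G G' j = 0 := by
  apply TensorProduct.ext'
  intro x y
  show tπ G G' i (tπ G G' j (x ⊗ₜ[k] y)) = 0
  rw [tπ_tmul, map_sum]
  apply Finset.sum_eq_zero
  intro p hp
  rw [tπ_tmul_of_mem G G' (G.π_mem_Vn p.1 x) (G'.π_mem_Vn p.2 y) i, if_neg]
  rw [Finset.HasAntidiagonal.mem_antidiagonal.1 hp]
  exact fun e => h e.symm

theorem tπ_tπ (i j : ℕ) (v : V ⊗[k] W) :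
    tπ G G' i (tπ G G' j v) = if i = j then tπ G G' j v else 0 := by
  split_ifs with h
  · subst h
    exact LinearMap.congr_fun (tπ_tπ_same G G' i) v
  · exact LinearMap.congr_fun (tπ_tπ_ne G G' h) v

/-- finite decomposability with respect to a family of operators -/
def FinDec {U : Type u} [AddCommGroup U] [Module k U] (P : ℕ → U →ₗ[k] U) (v : U) : Prop :=
  ∃ F : Finset ℕ, ∑ n ∈ F, P n v = v

theorem finDec_zero {U : Type u} [AddCommGroup U] [Module k U] (P : ℕ → U →ₗ[k] U) :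
    FinDec P 0 := ⟨∅, by simp⟩

theorem finDec_range {U : Type u} [AddCommGroup U] [Module k U] (P : ℕ → U →ₗ[k] U)
    (hP : ∀ i j v, P i (P j v) = if i = j then P j v else 0) (n : ℕ) (w : U) :
    FinDec P (P n w) := ⟨{n}, by rw [Finset.sum_singleton, hP, if_pos rfl]⟩

theorem finDec_add {U : Type u} [AddCommGroup U] [Module k U] (P : ℕ → U →ₗ[k] U)
    (hP : ∀ i j v, P i (P j v) = if i = j then P j v else 0) {v w : U} (hv : FinDec P v)
    (hw : FinDec P w) : FinDec P (v + w) := by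
  obtain ⟨F, hF⟩ := hv
  obtain ⟨F', hF'⟩ := hw
  have ext : ∀ {v : U} {F F'' : Finset ℕ}, F ⊆ F'' → ∑ n ∈ F, P n v = v →
      ∑ n ∈ F'', P n v = v := by
    intro v F F'' hsub hF
    rw [← Finset.sum_subset hsub (fun n _ hn => ?_)]
    · exact hF
    · rw [← hF, map_sum]
      apply Finset.sum_eq_zero
      intro m hm
      rw [hP, if_neg]
      rintro rfl
      exact hn hm
  refine ⟨F ∪ F', ?_⟩
  simp only [map_add, Finset.sum_add_distrib]
  rw [ext Finset.subset_union_left hF, ext Finset.subset_union_right hF']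

theorem tπ_fin (v : V ⊗[k] W) : ∃ F : Finset ℕ, ∑ n ∈ F, tπ G G' n v = v := by
  show FinDec (tπ G G') v
  induction v using TensorProduct.induction_on with
  | zero => exact finDec_zero _
  | tmul x y =>
    obtain ⟨F₁, h₁⟩ := G.fin x
    obtain ⟨F₂, h₂⟩ := G'.fin y
    have e : x ⊗ₜ[k] y = ∑ i ∈ F₁, ∑ j ∈ F₂, G.π i x ⊗ₜ[k] G'.π j y := by
      conv_lhs => rw [← h₁, ← h₂]
      rw [TensorProduct.sum_tmul]
      refine Finset.sum_congr rfl (fun i _ => ?_)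
      rw [TensorProduct.tmul_sum]
    rw [e]
    refine Finset.sum_induction _ (FinDec (tπ G G')) (fun a b => finDec_add _ (tπ_tπ G G'))
      (finDec_zero _) (fun i _ => ?_)
    refine Finset.sum_induction _ (FinDec (tπ G G')) (fun a b => finDec_add _ (tπ_tπ G G'))
      (finDec_zero _) (fun j _ => ?_)
    have := tπ_tmul_of_mem G G' (G.π_mem_Vn i x) (G'.π_mem_Vn j y) (i + j)
    rw [if_pos rfl] at this
    rw [← this]
    exact finDec_range _ (tπ_tπ G G') _ _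
  | add v w hv hw => exact finDec_add _ (tπ_tπ G G') hv hw

theorem tD_tπ (i : ℕ) : tD G G' ∘ₗ tπ G G' i = tπ G G' (i + 1) ∘ₗ tD G G' := by
  apply TensorProduct.ext'
  intro x y
  show tD G G' (tπ G G' i (x ⊗ₜ[k] y)) = tπ G G' (i + 1) (tD G G' (x ⊗ₜ[k] y))
  rw [tπ_tmul, map_sum, tD_tmul, map_add, tπ_tmul, tπ_tmul]
  have h1 : ∑ p ∈ Finset.HasAntidiagonal.antidiagonal (i + 1), G.π p.1 (G.d x) ⊗ₜ[k] G'.π p.2 y =
      ∑ p ∈ Finset.HasAntidiagonal.antidiagonal i, G.π (p.1 + 1) (G.d x) ⊗ₜ[k] G'.π p.2 y := by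
    rw [Finset.Nat.sum_antidiagonal_succ]
    dsimp only
    rw [G.π_zero_d, TensorProduct.zero_tmul, zero_add]
  have h2 : ∑ p ∈ Finset.HasAntidiagonal.antidiagonal (i + 1), G.π p.1 (G.σ x) ⊗ₜ[k] G'.π p.2 (G'.d y) =
      ∑ p ∈ Finset.HasAntidiagonal.antidiagonal i, G.π p.1 (G.σ x) ⊗ₜ[k] G'.π (p.2 + 1) (G'.d y) := by
    rw [Finset.Nat.sum_antidiagonal_succ']
    dsimp only
    rw [G'.π_zero_d, TensorProduct.tmul_zero, zero_add]
  rw [h1, h2, ← Finset.sum_add_distrib]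
  refine Finset.sum_congr rfl (fun p _ => ?_)
  rw [tD_tmul, G.d_π, G'.d_π, G.σ_π_comm]

theorem tπ_zero_tD : tπ G G' 0 ∘ₗ tD G G' = 0 := by
  apply TensorProduct.ext'
  intro x y
  show tπ G G' 0 (tD G G' (x ⊗ₜ[k] y)) = 0
  rw [tD_tmul, map_add, tπ_tmul, tπ_tmul, Finset.Nat.antidiagonal_zero, Finset.sum_singleton,
    Finset.sum_singleton]
  dsimp only
  rw [G.π_zero_d, G'.π_zero_d, TensorProduct.zero_tmul, TensorProduct.tmul_zero, add_zero]

theorem tσ_tπ (i : ℕ) : tσ G G' ∘ₗ tπ G G' i = ((-1 : k) ^ i) • tπ G G' i := by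
  apply TensorProduct.ext'
  intro x y
  show tσ G G' (tπ G G' i (x ⊗ₜ[k] y)) = ((-1 : k) ^ i) • tπ G G' i (x ⊗ₜ[k] y)
  rw [tπ_tmul, map_sum, Finset.smul_sum]
  refine Finset.sum_congr rfl (fun p hp => ?_)
  show G.σ (G.π p.1 x) ⊗ₜ[k] G'.σ (G'.π p.2 y) = _
  rw [G.σ_π, G'.σ_π, TensorProduct.smul_tmul_smul, ← pow_add, Finset.HasAntidiagonal.mem_antidiagonal.1 hp]

theorem tπ_tσ (i : ℕ) : tπ G G' i ∘ₗ tσ G G' = ((-1 : k) ^ i) • tπ G G' i := by
  apply TensorProduct.ext'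
  intro x y
  show tπ G G' i (G.σ x ⊗ₜ[k] G'.σ y) = ((-1 : k) ^ i) • tπ G G' i (x ⊗ₜ[k] y)
  rw [tπ_tmul, tπ_tmul, Finset.smul_sum]
  refine Finset.sum_congr rfl (fun p hp => ?_)
  rw [G.π_σ, G'.π_σ, TensorProduct.smul_tmul_smul, ← pow_add, Finset.HasAntidiagonal.mem_antidiagonal.1 hp]

/-- the tensor product of two graded differential vector spaces -/
noncomputable def tens : GD k (V ⊗[k] W) where
  d := tD G G'
  σ := tσ G G'
  π := tπ G G'
  d_d := fun v => LinearMap.congr_fun (tD_tD G G') v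
  π_π := tπ_tπ G G'
  fin := tπ_fin G G'
  d_π := fun i v => LinearMap.congr_fun (tD_tπ G G' i) v
  π_zero_d := fun v => LinearMap.congr_fun (tπ_zero_tD G G') v
  σ_π := fun i v => LinearMap.congr_fun (tσ_tπ G G' i) v
  π_σ := fun i v => LinearMap.congr_fun (tπ_tσ G G' i) v

theorem tens_mem_Vn {n : ℕ} {z : V ⊗[k] W} : z ∈ (tens G G').Vn n ↔ tπ G G' n z = z :=
  (tens G G').mem_Vn

theorem tens_mem_Zn {X : Submodule k (V ⊗[k] W)} {n : ℕ} {z : V ⊗[k] W} :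
    z ∈ (tens G G').Zn X n ↔ z ∈ X ∧ tπ G G' n z = z ∧ tD G G' z = 0 :=
  (tens G G').mem_Zn.trans (and_congr Iff.rfl (and_congr (tens G G').mem_Vn Iff.rfl))

theorem tens_mem_Bn {X : Submodule k (V ⊗[k] W)} {n : ℕ} {z : V ⊗[k] W} :
    z ∈ (tens G G').Bn X n ↔ (∃ a ∈ X, tD G G' a = z) ∧ tπ G G' n z = z :=
  (tens G G').mem_Bn.trans (and_congr Iff.rfl (tens G G').mem_Vn)

theorem tD_tD_apply (v : V ⊗[k] W) : tD G G' (tD G G' v) = 0 := (tens G G').d_d v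

theorem tD_tπ_apply (i : ℕ) (v : V ⊗[k] W) :
    tD G G' (tπ G G' i v) = tπ G G' (i + 1) (tD G G' v) := (tens G G').d_π i v

theorem tπ_same_apply (i : ℕ) (v : V ⊗[k] W) : tπ G G' i (tπ G G' i v) = tπ G G' i v :=
  (tens G G').π_same i v

theorem stable_T2 {A : Submodule k V} {B : Submodule k W} (hA : G.Stable A) (hB : G'.Stable B) :
    (tens G G').Stable (T2 A B) := by
  constructor
  · exact T2_map_mem (tD G G') (T2 A B) (fun a ha b hb => by
      rw [tD_tmul]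
      exact add_mem (tmul_mem_T2 (hA.d_mem a ha) hb) (tmul_mem_T2 (hA.σ_mem ha) (hB.d_mem b hb)))
  · intro i
    exact T2_map_mem (tπ G G' i) (T2 A B) (fun a ha b hb => by
      rw [tπ_tmul]
      exact Submodule.sum_mem _ (fun p _ => tmul_mem_T2 (hA.π_mem p.1 a ha) (hB.π_mem p.2 b hb)))

theorem tD_mem_T2 {A : Submodule k V} {B : Submodule k W} (hA : G.Stable A) (hB : G'.Stable B)
    {z : V ⊗[k] W} (hz : z ∈ T2 A B) : tD G G' z ∈ T2 A B :=
  (stable_T2 G G' hA hB).d_mem z hz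

theorem tπ_mem_T2 {A : Submodule k V} {B : Submodule k W} (hA : G.Stable A) (hB : G'.Stable B)
    (i : ℕ) {z : V ⊗[k] W} (hz : z ∈ T2 A B) : tπ G G' i z ∈ T2 A B :=
  (stable_T2 G G' hA hB).π_mem i z hz

/-- projections to a bidegree on pure tensors of homogeneous subspaces -/
theorem pp_of_mem {a b : ℕ} {X : Submodule k V} {Y : Submodule k W} (hX : X ≤ G.Vn a)
    (hY : Y ≤ G'.Vn b) (i j : ℕ) : ∀ z ∈ T2 X Y,
      TensorProduct.map (G.π i) (G'.π j) z = if i = a ∧ j = b then z else 0 := by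
  split_ifs with h
  · obtain ⟨rfl, rfl⟩ := h
    exact T2_eqOn (TensorProduct.map (G.π i) (G'.π j)) LinearMap.id (fun x hx y hy => by
      rw [TensorProduct.map_tmul, G.mem_Vn.1 (hX hx), G'.mem_Vn.1 (hY hy)]
      rfl)
  · exact T2_eqOn (TensorProduct.map (G.π i) (G'.π j)) 0 (fun x hx y hy => by
      rw [TensorProduct.map_tmul, LinearMap.zero_apply]
      by_cases h1 : i = a
      · have h2 : j ≠ b := fun h2 => h ⟨h1, h2⟩
        rw [G'.π_of_mem_Vn_ne h2 (hY hy), TensorProduct.tmul_zero]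
      · rw [G.π_of_mem_Vn_ne h1 (hX hx), TensorProduct.zero_tmul])

end tens

end Groth.Agent.Lib.DVecH1
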