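import Mathlib
import Groth.Agent.Lib.DVec2_helper1

/-! Transfer of ranks along semilinear additive isomorphisms, and the rank of a space of
representatives of cohomology (helper1).  APPEND-ONLY once landed. -/

set_option autoImplicit false

namespace Groth.Agent.Lib.DVecH1

universe u

theorem finrank_semilin {k : Type u} [Field k] {D₀ : Type u} [Ring D₀] (i : k → D₀)
    (hi : Function.Bijective i) {X : Type u} [AddCommGroup X] [Module k X] {Y : Type u}
    [AddCommGroup Y] [Module D₀ Y] (j : X ≃+ Y) (hc : ∀ (c : k) (x : X), j (c • x) = i c • j x) :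
    Module.finrank k X = Module.finrank D₀ Y := by
  have h := rank_eq_of_equiv_equiv i j hi hc
  unfold Module.finrank
  rw [h]

theorem finite_semilin {k : Type u} [Field k] {D₀ : Type u} [CommRing D₀] (i : k → D₀)
    (hi : Function.Bijective i) {X : Type u} [AddCommGroup X] [Module k X] {Y : Type u}
    [AddCommGroup Y] [Module D₀ Y] (j : X ≃+ Y) (hc : ∀ (c : k) (x : X), j (c • x) = i c • j x)
    [Module.Finite D₀ Y] : Module.Finite k X := by
  haveI : Nontrivial D₀ := hi.1.nontrivial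
  have h1 := rank_eq_of_equiv_equiv i j hi hc
  have h2 : Module.rank D₀ Y < Cardinal.aleph0 := Module.rank_lt_aleph0 D₀ Y
  rw [← h1] at h2
  exact Module.rank_lt_aleph0_iff.1 h2

theorem rep_transfer {k : Type u} [Field k] {V : Type u} [AddCommGroup V] [Module k V]
    (G : GD k V) {X : Submodule k V} {n : ℕ} {ℋ : Submodule k V} (hℋ : G.Rep X n ℋ)
    {D₀ : Type u} [CommRing D₀] (i : k → D₀) (hi : Function.Bijective i)
    {Hc : Type u} [AddCommGroup Hc] [Module D₀ Hc]
    (F : ↥(G.Zn X n) →+ Hc) (hsm : ∀ (c : k) (z : ↥(G.Zn X n)), F (c • z) = i c • F z)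
    (hsurj : Function.Surjective F) (hker : ∀ z : ↥(G.Zn X n), F z = 0 ↔ (z : V) ∈ G.Bn X n) :
    Module.finrank k ↥ℋ = Module.finrank D₀ Hc ∧
      (Module.Finite D₀ Hc → Module.Finite k ↥ℋ) := by
  let f : ↥ℋ →+ Hc := F.comp (Submodule.inclusion hℋ.le).toAddMonoidHom
  have hf : ∀ x : ↥ℋ, f x = F (Submodule.inclusion hℋ.le x) := fun _ => rfl
  have hinj : Function.Injective f := by
    rw [injective_iff_map_eq_zero]
    intro x hx
    rw [hf] at hx
    have h1 := (hker _).1 hx
    exact Subtype.ext (hℋ.disj x x.2 h1)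
  have hsur : Function.Surjective f := by
    intro h
    obtain ⟨z, rfl⟩ := hsurj h
    obtain ⟨h', hh', hb⟩ := hℋ.span z z.2
    refine ⟨⟨h', hh'⟩, ?_⟩
    rw [hf]
    have h2 : F (z - Submodule.inclusion hℋ.le ⟨h', hh'⟩) = 0 := (hker _).2 hb
    rw [map_sub, sub_eq_zero] at h2
    exact h2.symm
  have hc : ∀ (c : k) (x : ↥ℋ), AddEquiv.ofBijective f ⟨hinj, hsur⟩ (c • x) =
      i c • AddEquiv.ofBijective f ⟨hinj, hsur⟩ x := by
    intro c x
    show f (c • x) = i c • f x
    rw [hf, hf, map_smul, hsm]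
  refine ⟨finrank_semilin i hi (AddEquiv.ofBijective f ⟨hinj, hsur⟩) hc, fun hfin => ?_⟩
  haveI := hfin
  exact finite_semilin i hi (AddEquiv.ofBijective f ⟨hinj, hsur⟩) hc

end Groth.Agent.Lib.DVecH1
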