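import Mathlib
import Groth.Prelude.Def_GrLC
import Groth.Agent.Lib.BigG_helper1
import Groth.Agent.Lib.SegAcyc_helper1
import Groth.Agent.Lib.SemiRank_helper1

/-! The total module of a *injective resolution over a graded algebra over a field, as a graded
differential vector space, and the comparison of its cohomology with graded local cohomology
(helper1).  APPEND-ONLY once landed. -/

set_option autoImplicit false

namespace Groth.Agent.Lib.BigResH1

open DirectSum GrLC Groth.Agent.Lib.GrLES1H1 Groth.Agent.Lib.GrXferH1 Groth.Agent.Lib.SegAcycH1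
  Groth.Agent.Lib.BigGH1 Groth.Agent.Lib.DVecH1 Groth.Agent.Lib.DivH1

universe u

variable {k : Type u} [Field k] {R : Type u} [CommRing R] [Algebra k R]
  {𝒜 : ℤ → Submodule k R} [GradedAlgebra 𝒜]

attribute [local instance] kMod kTower gsmulX

theorem kmod_smul (X : GMod.{u} (toAS 𝒜)) (c : k) (x : X.carrier) :
    c • x = algebraMap k R c • x := rfl

theorem neg_one_pow_smul (X : GMod.{u} (toAS 𝒜)) (i : ℕ) (w : X.carrier) :
    ((-1 : k) ^ i) • w = ((-1 : R) ^ i) • w := by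
  rw [kmod_smul, map_pow, map_neg, map_one]

theorem algebraMap_mem_zero (c : k) : algebraMap k R c ∈ toAS 𝒜 0 := by
  rw [Algebra.algebraMap_eq_smul_one]
  exact (𝒜 0).smul_mem c SetLike.GradedOne.one_mem

/-- a piece as a `k`-subspace -/
def pieceK (X : GMod.{u} (toAS 𝒜)) (d : ℤ) : Submodule k X.carrier where
  carrier := {x | x ∈ X.gr d}
  add_mem' := fun ha hb => (X.gr d).add_mem ha hb
  zero_mem' := (X.gr d).zero_mem
  smul_mem' := fun c x hx => by
    show algebraMap k R c • x ∈ X.gr d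
    have h := SetLike.GradedSMul.smul_mem (A := toAS 𝒜) (B := X.gr)
      (algebraMap_mem_zero (𝒜 := 𝒜) c) hx
    rw [vadd_eq_add, zero_add] at h
    exact h

theorem mem_pieceK {X : GMod.{u} (toAS 𝒜)} {d : ℤ} {x : X.carrier} :
    x ∈ pieceK X d ↔ x ∈ X.gr d := Iff.rfl

/-- torsion as a `k`-subspace -/
noncomputable def gamK (a : Ideal R) (X : GMod.{u} (toAS 𝒜)) : Submodule k X.carrier :=
  (gam a X.carrier).restrictScalars k

theorem mem_gamK {a : Ideal R} {X : GMod.{u} (toAS 𝒜)} {x : X.carrier} :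
    x ∈ gamK a X ↔ x ∈ gam a X.carrier := Iff.rfl

variable {M : Type u} [AddCommGroup M] [Module R M] {ℳ : ℤ → AddSubgroup M} [Decomposition ℳ]
  [SetLike.GradedSMul 𝒜 ℳ] (E : StarInjRes (toAS 𝒜) ℳ)

/-- the total module of a resolution -/
noncomputable def bigX : GMod.{u} (toAS 𝒜) := bigG E.X

/-- inclusion of a term -/
noncomputable def xInc (i : ℕ) : (E.X i).carrier →ₗ[R] (bigX E).carrier := bInc E.X i

/-- projection to a term -/
noncomputable def xPrj (i : ℕ) : (bigX E).carrier →ₗ[R] (E.X i).carrier := bPrj E.X i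

/-- the total differential -/
noncomputable def xD : (bigX E).carrier →ₗ[R] (bigX E).carrier := bD E.X E.d

/-- the sign operator -/
noncomputable def xS : (bigX E).carrier →ₗ[R] (bigX E).carrier := bS E.X

/-- the projections -/
noncomputable def xP (i : ℕ) : (bigX E).carrier →ₗ[R] (bigX E).carrier := bP E.X i

theorem xPrj_xInc_same (i : ℕ) (x : (E.X i).carrier) : xPrj E i (xInc E i x) = x :=
  bPrj_bInc_same E.X i x

theorem xPrj_xInc_ne {i j : ℕ} (h : i ≠ j) (x : (E.X i).carrier) : xPrj E j (xInc E i x) = 0 :=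
  bPrj_bInc_ne E.X h x

theorem xP_apply (i : ℕ) (v : (bigX E).carrier) : xP E i v = xInc E i (xPrj E i v) := rfl

theorem xP_xInc_same (i : ℕ) (x : (E.X i).carrier) : xP E i (xInc E i x) = xInc E i x :=
  bP_bInc_same E.X i x

theorem xD_xInc (i : ℕ) (x : (E.X i).carrier) : xD E (xInc E i x) = xInc E (i + 1) (E.d i x) :=
  bD_bInc E.X E.d i x

theorem xPrj_xD_succ (i : ℕ) (v : (bigX E).carrier) :
    xPrj E (i + 1) (xD E v) = E.d i (xPrj E i v) := bD_apply_succ E.X E.d i v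

theorem xPrj_xD_zero (v : (bigX E).carrier) : xPrj E 0 (xD E v) = 0 := bD_apply_zero E.X E.d v

theorem x_ext {x y : (bigX E).carrier} (h : ∀ i, xPrj E i x = xPrj E i y) : x = y :=
  big_ext E.X h

theorem xInc_injective (i : ℕ) : Function.Injective (xInc E i) := by
  intro x y h
  rw [← xPrj_xInc_same E i x, h, xPrj_xInc_same]

theorem xInc_gr (i : ℕ) : IsGrHom (E.X i).gr (bigX E).gr (xInc E i) := bInc_gr E.X i

theorem xPrj_gr (i : ℕ) : IsGrHom (bigX E).gr (E.X i).gr (xPrj E i) := bPrj_gr E.X i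

theorem xD_gr : IsGrHom (bigX E).gr (bigX E).gr (xD E) := bD_gr E.X E.d E.d_grHom

theorem xS_gr : IsGrHom (bigX E).gr (bigX E).gr (xS E) := bS_gr E.X

theorem xP_gr (i : ℕ) : IsGrHom (bigX E).gr (bigX E).gr (xP E i) := bP_gr E.X i

theorem mem_gam_x (a : Ideal R) (x : (bigX E).carrier) :
    x ∈ gam a (bigX E).carrier ↔ ∀ i, xPrj E i x ∈ gam a (E.X i).carrier :=
  mem_gam_big E.X a x

theorem div_bigX [IsNoetherianRing R] : Div (toAS 𝒜) (bigX E) :=
  div_big E.X (fun i => div_of_starInj (toAS 𝒜) (E.X i) (E.starInj i))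

/-- the graded differential vector space of a resolution -/
noncomputable def gdE : GD k (bigX E).carrier where
  d := (xD E).restrictScalars k
  σ := (xS E).restrictScalars k
  π := fun i => (xP E i).restrictScalars k
  d_d := fun v => bD_bD E.X E.d (fun i x => d_d E i x) v
  π_π := fun i j v => bP_bP E.X i j v
  fin := fun v => bP_fin E.X v
  d_π := fun i v => bD_bP E.X E.d i v
  π_zero_d := fun v => bP_zero_bD E.X E.d v
  σ_π := fun i v => by
    show xS E (xP E i v) = ((-1 : k) ^ i) • xP E i v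
    rw [neg_one_pow_smul]
    exact bS_bP E.X i v
  π_σ := fun i v => by
    show xP E i (xS E v) = ((-1 : k) ^ i) • xP E i v
    rw [neg_one_pow_smul]
    exact bP_bS E.X i v

theorem gdE_d (v : (bigX E).carrier) : (gdE E).d v = xD E v := rfl

theorem gdE_π (i : ℕ) (v : (bigX E).carrier) : (gdE E).π i v = xP E i v := rfl

theorem mem_Vn_gdE {i : ℕ} {v : (bigX E).carrier} :
    v ∈ (gdE E).Vn i ↔ xInc E i (xPrj E i v) = v := (gdE E).mem_Vn

/-- the degree `d` part -/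
noncomputable def AA (d : ℤ) : Submodule k (bigX E).carrier := pieceK (bigX E) d

/-- the torsion part of degree `d` -/
noncomputable def AA' (a : Ideal R) (d : ℤ) : Submodule k (bigX E).carrier :=
  pieceK (bigX E) d ⊓ gamK a (bigX E)

theorem mem_AA {d : ℤ} {x : (bigX E).carrier} : x ∈ AA E d ↔ x ∈ (bigX E).gr d := Iff.rfl

theorem mem_AA' {a : Ideal R} {d : ℤ} {x : (bigX E).carrier} :
    x ∈ AA' E a d ↔ x ∈ (bigX E).gr d ∧ x ∈ gam a (bigX E).carrier := Iff.rfl

theorem AA'_le (a : Ideal R) (d : ℤ) : AA' E a d ≤ AA E d := inf_le_left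

theorem stable_AA (d : ℤ) : (gdE E).Stable (AA E d) :=
  ⟨fun x hx => xD_gr E d x hx, fun i x hx => xP_gr E i d x hx⟩

theorem stable_AA' (a : Ideal R) (d : ℤ) : (gdE E).Stable (AA' E a d) :=
  ⟨fun x hx => ⟨xD_gr E d x hx.1, map_mem_gam (xD E) hx.2⟩,
    fun i x hx => ⟨xP_gr E i d x hx.1, map_mem_gam (xP E i) hx.2⟩⟩

theorem exact_AA (d : ℤ) (i : ℕ) :
    (gdE E).Zn (AA E d) (i + 1) ≤ (gdE E).Bn (AA E d) (i + 1) := by
  intro z hz
  obtain ⟨hzd, hzi, hdz⟩ := (gdE E).mem_Zn.1 hz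
  have hzi' : xInc E (i + 1) (xPrj E (i + 1) z) = z := (mem_Vn_gdE E).1 hzi
  have hdz' : xD E z = 0 := hdz
  have h1 : E.d (i + 1) (xPrj E (i + 1) z) = 0 := by
    rw [← xPrj_xD_succ, hdz', map_zero]
  obtain ⟨y, hy⟩ := exists_of_d_succ E i _ h1
  have hzgr : xPrj E (i + 1) z ∈ (E.X (i + 1)).gr d := xPrj_gr E (i + 1) d z hzd
  have h2 : E.d i ((decompose (E.X i).gr y d : (E.X i).gr d) : (E.X i).carrier) =
      xPrj E (i + 1) z := by
    rw [← GrStarH1.decompose_map (E.X i).gr (E.X (i + 1)).gr (E.d_grHom i) y d, hy,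
      decompose_of_mem_same _ hzgr]
  rw [(gdE E).mem_Bn]
  refine ⟨⟨xInc E i ((decompose (E.X i).gr y d : (E.X i).gr d) : (E.X i).carrier),
    xInc_gr E i d _ (SetLike.coe_mem _), ?_⟩, hzi⟩
  show xD E (xInc E i _) = z
  rw [xD_xInc, h2, hzi']

/-! ### comparison with graded local cohomology -/

section bridge

variable (a : HomogeneousIdeal (toAS 𝒜)) (i : ℕ) (d : ℤ)

theorem prj_mem_cocyc (z : ↥((gdE E).Zn (AA' E a.toIdeal d) i)) :
    xPrj E i z.1 ∈ E.cocyc a i := by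
  obtain ⟨hz1, -, hz3⟩ := (gdE E).mem_Zn.1 z.2
  refine ⟨map_mem_gam (xPrj E i) hz1.2, ?_⟩
  have hdz : xD E z.1 = 0 := hz3
  show E.d i (xPrj E i z.1) = 0
  rw [← xPrj_xD_succ, hdz, map_zero]

/-- the cocycle of a homogeneous cycle of the total module -/
noncomputable def brZ : ↥((gdE E).Zn (AA' E a.toIdeal d) i) →+ ↥(E.cocyc a i) :=
  AddMonoidHom.codRestrict
    ((xPrj E i).toAddMonoidHom.comp ((gdE E).Zn (AA' E a.toIdeal d) i).subtype.toAddMonoidHom)
    (E.cocyc a i) (prj_mem_cocyc E a i d)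

theorem brZ_coe (z : ↥((gdE E).Zn (AA' E a.toIdeal d) i)) :
    ((brZ E a i d z : ↥(E.cocyc a i)) : (E.X i).carrier) = xPrj E i z.1 := rfl

/-- the class of a homogeneous cycle of the total module -/
noncomputable def br : ↥((gdE E).Zn (AA' E a.toIdeal d) i) →+ E.H a i :=
  (E.toH a i).toAddMonoidHom.comp (brZ E a i d)

theorem br_apply (z : ↥((gdE E).Zn (AA' E a.toIdeal d) i)) :
    br E a i d z = E.toH a i (brZ E a i d z) := rfl

theorem br_smul (c : k) (z : ↥((gdE E).Zn (AA' E a.toIdeal d) i)) :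
    br E a i d (c • z) = algebraMap k R c • br E a i d z := by
  rw [br_apply, br_apply, ← map_smul]
  congr 1

theorem br_mem (z : ↥((gdE E).Zn (AA' E a.toIdeal d) i)) : br E a i d z ∈ E.Hgr a i d := by
  rw [mem_Hgr_iff]
  obtain ⟨hz1, -, -⟩ := (gdE E).mem_Zn.1 z.2
  exact ⟨brZ E a i d z, xPrj_gr E i d z.1 hz1.1, rfl⟩

theorem br_surj (h : E.H a i) (hh : h ∈ E.Hgr a i d) : ∃ z, br E a i d z = h := by
  rw [mem_Hgr_iff] at hh
  obtain ⟨w, hw, rfl⟩ := hh
  have hz : xInc E i w.1 ∈ (gdE E).Zn (AA' E a.toIdeal d) i := by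
    rw [(gdE E).mem_Zn]
    refine ⟨⟨xInc_gr E i d _ hw, map_mem_gam (xInc E i) w.2.1⟩, ?_, ?_⟩
    · rw [mem_Vn_gdE, xPrj_xInc_same]
    · show xD E (xInc E i w.1) = 0
      rw [xD_xInc]
      have : E.d i w.1 = 0 := w.2.2
      rw [this, map_zero]
  refine ⟨⟨_, hz⟩, ?_⟩
  rw [br_apply]
  congr 1
  apply Subtype.ext
  rw [brZ_coe]
  exact xPrj_xInc_same E i w.1

theorem br_ker (z : ↥((gdE E).Zn (AA' E a.toIdeal d) i)) :
    br E a i d z = 0 ↔ (z : (bigX E).carrier) ∈ (gdE E).Bn (AA' E a.toIdeal d) i := by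
  obtain ⟨hz1, hz2, hz3⟩ := (gdE E).mem_Zn.1 z.2
  have hzi : xInc E i (xPrj E i z.1) = z.1 := (mem_Vn_gdE E).1 hz2
  rw [br_apply, toH_eq_zero_iff, brZ_coe]
  cases i with
  | zero =>
    rw [mem_cobdy_zero, (gdE E).Bn_zero, Submodule.mem_bot]
    constructor
    · intro h
      rw [← hzi, h, map_zero]
    · intro h
      rw [h, map_zero]
  | succ n =>
    rw [mem_cobdy_succ, (gdE E).mem_Bn]
    constructor
    · rintro ⟨w, hw, hdw⟩
      have hgr : xPrj E (n + 1) z.1 ∈ (E.X (n + 1)).gr d := xPrj_gr E (n + 1) d _ hz1.1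
      have hwd : ((decompose (E.X n).gr w d : (E.X n).gr d) : (E.X n).carrier) ∈
          gam a.toIdeal (E.X n).carrier :=
        GrStar4H1.gam_isHomogeneous (toAS 𝒜) (E.X n).gr a d hw
      have h2 : E.d n ((decompose (E.X n).gr w d : (E.X n).gr d) : (E.X n).carrier) =
          xPrj E (n + 1) z.1 := by
        rw [← GrStarH1.decompose_map (E.X n).gr (E.X (n + 1)).gr (E.d_grHom n) w d, hdw,
          decompose_of_mem_same _ hgr]
      refine ⟨⟨xInc E n ((decompose (E.X n).gr w d : (E.X n).gr d) : (E.X n).carrier),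
        ⟨xInc_gr E n d _ (SetLike.coe_mem _), map_mem_gam (xInc E n) hwd⟩, ?_⟩, hz2⟩
      show xD E (xInc E n _) = z.1
      rw [xD_xInc, h2, hzi]
    · rintro ⟨⟨y, hy, hdy⟩, -⟩
      have hdy' : xD E y = z.1 := hdy
      refine ⟨xPrj E n y, map_mem_gam (xPrj E n) hy.2, ?_⟩
      rw [← xPrj_xD_succ, hdy']

end bridge

/-! ### the `0`-cocycles -/

section zero

variable (d : ℤ)

theorem prj_mem_range (z : ↥((gdE E).Zn (AA E d) 0)) : xPrj E 0 z.1 ∈ LinearMap.range E.ε := by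
  obtain ⟨-, -, hz3⟩ := (gdE E).mem_Zn.1 z.2
  have hdz : xD E z.1 = 0 := hz3
  rw [← E.exact_zero, LinearMap.mem_ker, ← xPrj_xD_succ, hdz, map_zero]

/-- the element of the module under a `0`-cocycle of the total module -/
noncomputable def br0 : ↥((gdE E).Zn (AA E d) 0) →+ M :=
  (LinearEquiv.ofInjective E.ε E.ε_injective).symm.toLinearMap.toAddMonoidHom.comp
    (AddMonoidHom.codRestrict
      ((xPrj E 0).toAddMonoidHom.comp ((gdE E).Zn (AA E d) 0).subtype.toAddMonoidHom)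
      (LinearMap.range E.ε) (prj_mem_range E d))

theorem ε_br0 (z : ↥((gdE E).Zn (AA E d) 0)) : E.ε (br0 E d z) = xPrj E 0 z.1 := by
  have h1 : ((LinearEquiv.ofInjective E.ε E.ε_injective) (br0 E d z) :
      (E.X 0).carrier) = E.ε (br0 E d z) := rfl
  rw [← h1]
  unfold br0
  rw [AddMonoidHom.comp_apply]
  show (((LinearEquiv.ofInjective E.ε E.ε_injective)
    ((LinearEquiv.ofInjective E.ε E.ε_injective).symm _) : LinearMap.range E.ε) :
      (E.X 0).carrier) = _
  rw [LinearEquiv.apply_symm_apply]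
  rfl

theorem br0_smul (c : k) (z : ↥((gdE E).Zn (AA E d) 0)) :
    br0 E d (c • z) = algebraMap k R c • br0 E d z := by
  apply E.ε_injective
  rw [LinearMap.map_smul E.ε, ε_br0, ε_br0, Submodule.coe_smul]
  show xPrj E 0 (algebraMap k R c • z.1) = algebraMap k R c • xPrj E 0 z.1
  exact map_smul _ _ _

theorem mem_of_ε_mem {m : M} (h : E.ε m ∈ (E.X 0).gr d) : m ∈ ℳ d := by
  have h1 : E.ε ((decompose ℳ m d : ℳ d) : M) = E.ε m := by
    rw [← GrStarH1.decompose_map ℳ (E.X 0).gr E.ε_grHom m d, decompose_of_mem_same _ h]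
  rw [← E.ε_injective h1]
  exact SetLike.coe_mem _

theorem br0_mem (z : ↥((gdE E).Zn (AA E d) 0)) : br0 E d z ∈ ℳ d := by
  apply mem_of_ε_mem E d
  rw [ε_br0]
  obtain ⟨hz1, -, -⟩ := (gdE E).mem_Zn.1 z.2
  exact xPrj_gr E 0 d _ hz1

theorem br0_surj (m : M) (hm : m ∈ ℳ d) : ∃ z, br0 E d z = m := by
  have hz : xInc E 0 (E.ε m) ∈ (gdE E).Zn (AA E d) 0 := by
    rw [(gdE E).mem_Zn]
    refine ⟨xInc_gr E 0 d _ (E.ε_grHom d m hm), ?_, ?_⟩
    · rw [mem_Vn_gdE, xPrj_xInc_same]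
    · show xD E (xInc E 0 (E.ε m)) = 0
      rw [xD_xInc, d_ε, map_zero]
  refine ⟨⟨_, hz⟩, ?_⟩
  apply E.ε_injective
  rw [ε_br0]
  exact xPrj_xInc_same E 0 _

theorem br0_ker (z : ↥((gdE E).Zn (AA E d) 0)) :
    br0 E d z = 0 ↔ (z : (bigX E).carrier) ∈ (gdE E).Bn (AA E d) 0 := by
  obtain ⟨-, hz2, -⟩ := (gdE E).mem_Zn.1 z.2
  have hzi : xInc E 0 (xPrj E 0 z.1) = z.1 := (mem_Vn_gdE E).1 hz2
  rw [(gdE E).Bn_zero, Submodule.mem_bot]
  constructor
  · intro h
    rw [← hzi, ← ε_br0, h, map_zero, map_zero]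
  · intro h
    apply E.ε_injective
    rw [ε_br0, h, map_zero, map_zero]

end zero

end Groth.Agent.Lib.BigResH1
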