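import Mathlib
import Groth.Prelude.Def_BigSite
import Groth.Prelude.Def_EtCore
import Groth.Agent.Lib.BigSmall_helper7
import Groth.Agent.Lib.AdjTripleUnit_helper7

/-!
# More on big/small étale sites (helper7)
-/

set_option autoImplicit false
set_option backward.isDefEq.respectTransparency false
universe u
open CategoryTheory CategoryTheory.Limits AlgebraicGeometry Opposite

namespace Groth.Agent.Lib.BigSmall2_helper7

open Groth.Agent.Lib.ExtAdj2_helper7 Groth.Agent.Lib.LanExact_helper7
  Groth.Agent.Lib.EtZarEquiv_helper7 Groth.Agent.Lib.BigSmall_helper7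

section Derived

variable {A B : Type*} [Category A] [Abelian A] [Category B] [Abelian B]
  [HasInjectiveResolutions A]

/-- the higher right derived functors of an exact functor vanish -/
theorem isZero_rightDerived_of_exact (F : A ⥤ B) [F.Additive] [PreservesFiniteLimits F]
    [PreservesFiniteColimits F] (X : A) (q : ℕ) : IsZero ((F.rightDerived (q + 1)).obj X) := by
  refine IsZero.of_iso ?_ ((injectiveResolution X).isoRightDerivedObj F (q + 1))
  refine (HomologicalComplex.exactAt_iff_isZero_homology _ _).1 ?_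
  have h := (injectiveResolution X).cocomplex_exactAt_succ q
  have h' : ((injectiveResolution X).cocomplex.sc (q + 1)).Exact := h
  exact h'.map F

end Derived

variable (S : Scheme.{u}) (K : Precoverage Scheme.{u})

theorem RresEt_isZero [BigSite.AEtCont K S] [BigSite.AEtCocont K S] (G : BigSite.Ab K S) (q : ℕ)
    (hq : 0 < q) : IsZero ((BigSite.RresEt K S q).obj G) := by
  obtain ⟨q, rfl⟩ := Nat.exists_eq_succ_of_ne_zero hq.ne'
  exact isZero_rightDerived_of_exact (BigSite.resEt K S) G q

variable {S} {T : Scheme.{u}} (f : T ⟶ S)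

/-- `(f_big,* G)|_{S_et} ≅ f_small,* (G|_{T_et})`. -/
noncomputable def pushResIso [BigSite.AEtCont K S] [BigSite.AEtCont K T] :
    BigSite.pushBig K f AddCommGrpCat.{u+1} ⋙ BigSite.resEt K S ≅
      BigSite.resEt K T ⋙ EtCoh.push f :=
  haveI : (EtCoh.bc f ⋙ EtFppf.a T).IsContinuous S.smallEtaleTopology (QuotSh.J K T) :=
    Functor.isContinuous_comp _ _ _ T.smallEtaleTopology _
  Functor.sheafPushforwardContinuousComp' (F := EtFppf.a S) (G := Over.pullback f)
      (FG := EtCoh.bc f ⋙ EtFppf.a T)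
      (MorphismProperty.Over.pullbackCompForgetIso (P := EtCoh.etaleMP) (Q := ⊤) f).symm
      AddCommGrpCat.{u+1} S.smallEtaleTopology (QuotSh.J K S) (QuotSh.J K T) ≪≫
    (Functor.sheafPushforwardContinuousComp' (F := EtCoh.bc f) (G := EtFppf.a T)
      (FG := EtCoh.bc f ⋙ EtFppf.a T) (Iso.refl _)
      AddCommGrpCat.{u+1} S.smallEtaleTopology T.smallEtaleTopology (QuotSh.J K T)).symm

theorem isIso_iEtAdj_counit (T : Scheme.{u}) [BigSite.AEtCont K T] [BigSite.AEtCocont K T] :
    IsIso (BigSite.iEtAdj K T).counit := by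
  haveI : (EtFppf.a T).Full := inferInstanceAs (Scheme.Etale.forget T).Full
  haveI : (EtFppf.a T).Faithful := inferInstanceAs (Scheme.Etale.forget T).Faithful
  exact Groth.Agent.Lib.AdjTripleUnit_helper7.isIso_counit_cocont (EtFppf.a T)
    AddCommGrpCat.{u+1} T.smallEtaleTopology (QuotSh.J K T)

/-- `(f_big⁻¹ π_S⁻¹ F)|_{T_et} ≅ f_small⁻¹ F`. -/
noncomputable def pullResIso [BigSite.AEtCont K S] [BigSite.AEtCont K T] [BigSite.AEtCocont K T] :
    BigSite.piEtPull K S ⋙ (BigSite.pullBig K f AddCommGrpCat.{u+1} ⋙ BigSite.resEt K T) ≅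
      EtCoh.pull f := by
  let adj := (BigSite.piEtAdj K S).comp
    ((BigSite.bigAdj K f AddCommGrpCat.{u+1}).comp (BigSite.iEtAdj K T))
  haveI := isIso_iEtAdj_counit K T
  let isoR : (BigSite.iEtPush K T ⋙ BigSite.pushBig K f AddCommGrpCat.{u+1}) ⋙ BigSite.resEt K S ≅
      EtCoh.push f :=
    Functor.associator _ _ _ ≪≫ Functor.isoWhiskerLeft _ (pushResIso K f) ≪≫
      (Functor.associator _ _ _).symm ≪≫
      Functor.isoWhiskerRight (asIso (BigSite.iEtAdj K T).counit) _ ≪≫ Functor.leftUnitor _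
  exact (adj.ofNatIsoRight isoR).leftAdjointUniq (EtCoh.pullPushAdj f)

/-- Cohomology is invariant under isomorphisms of the coefficient sheaf. -/
noncomputable def HCongr {C : Type*} [Category C] {J : GrothendieckTopology C}
    [HasSheafify J AddCommGrpCat.{u+1}] [HasExt.{u+1} (Sheaf J AddCommGrpCat.{u+1})]
    {F G : Sheaf J AddCommGrpCat.{u+1}} (e : F ≅ G) (n : ℕ) : Sheaf.H F n ≃+ Sheaf.H G n :=
  ((Sheaf.functorH J n).mapIso e).addCommGroupIsoToAddEquiv

theorem HU_main (n : ℕ) (F : EtCoh.Ab S) :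
    Nonempty (BigSite.HU Scheme.etalePrecoverage
        ((BigSite.piEtPull Scheme.etalePrecoverage S).obj F) n (Over.mk f) ≃+
      EtCoh.H T ((EtCoh.pull f).obj F) n) := by
  obtain ⟨e⟩ := Groth.Agent.Lib.BigSmall_helper7.main T Scheme.etalePrecoverage
    ((BigSite.pullBig Scheme.etalePrecoverage f AddCommGrpCat.{u+1}).obj
      ((BigSite.piEtPull Scheme.etalePrecoverage S).obj F)) n
  exact ⟨e.symm.trans (HCongr ((pullResIso Scheme.etalePrecoverage f).app F) n)⟩

end Groth.Agent.Lib.BigSmall2_helper7
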