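import Mathlib

/-!
# Right adjoints of exact functors preserve K-injective complexes (helper7)
-/

set_option autoImplicit false
open CategoryTheory CategoryTheory.Limits

namespace Groth.Agent.Lib.KInjAdj_helper7

variable {C D : Type*} [Category C] [Abelian C] [Category D] [Abelian D]
  {L : D ⥤ C} {G : C ⥤ D} (adj : L ⊣ G) [L.Additive] [G.Additive]
  [PreservesFiniteLimits L] [PreservesFiniteColimits L]

omit [Abelian C] [Abelian D] [L.Additive] [G.Additive] [PreservesFiniteLimits L]
  [PreservesFiniteColimits L] in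
theorem aux1 {X X' : D} {Y Y' : C} (a : X ⟶ G.obj Y) (b : X' ⟶ G.obj Y') (d : X ⟶ X')
    (δ : Y ⟶ Y') (h : a ≫ G.map δ = d ≫ b) :
    (L.map a ≫ adj.counit.app Y) ≫ δ = L.map d ≫ L.map b ≫ adj.counit.app Y' :=
  calc (L.map a ≫ adj.counit.app Y) ≫ δ = L.map a ≫ (adj.counit.app Y ≫ δ) :=
        Category.assoc _ _ _
    _ = L.map a ≫ (L.map (G.map δ) ≫ adj.counit.app Y') :=
        congrArg (L.map a ≫ ·) (adj.counit.naturality δ).symm
    _ = (L.map a ≫ L.map (G.map δ)) ≫ adj.counit.app Y' := (Category.assoc _ _ _).symm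
    _ = L.map (a ≫ G.map δ) ≫ adj.counit.app Y' :=
        congrArg (· ≫ adj.counit.app Y') (L.map_comp _ _).symm
    _ = L.map (d ≫ b) ≫ adj.counit.app Y' := by rw [h]
    _ = (L.map d ≫ L.map b) ≫ adj.counit.app Y' :=
        congrArg (· ≫ adj.counit.app Y') (L.map_comp _ _)
    _ = _ := Category.assoc _ _ _

omit [Abelian C] [Abelian D] [L.Additive] [G.Additive] [PreservesFiniteLimits L]
  [PreservesFiniteColimits L] in
theorem aux2 {X : D} {Y : C} (a : X ⟶ G.obj Y) :
    a = adj.unit.app X ≫ G.map (L.map a ≫ adj.counit.app Y) :=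
  calc a = a ≫ 𝟙 _ := (Category.comp_id a).symm
    _ = a ≫ (adj.unit.app (G.obj Y) ≫ G.map (adj.counit.app Y)) :=
        congrArg (a ≫ ·) (adj.right_triangle_components Y).symm
    _ = (a ≫ adj.unit.app (G.obj Y)) ≫ G.map (adj.counit.app Y) := (Category.assoc _ _ _).symm
    _ = (adj.unit.app X ≫ G.map (L.map a)) ≫ G.map (adj.counit.app Y) :=
        congrArg (· ≫ G.map (adj.counit.app Y)) (adj.unit.naturality a)
    _ = adj.unit.app X ≫ (G.map (L.map a) ≫ G.map (adj.counit.app Y)) := Category.assoc _ _ _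
    _ = _ := congrArg (adj.unit.app X ≫ ·) (G.map_comp _ _).symm

include adj in
theorem isKInjective_map (I : CochainComplex C ℤ) [I.IsKInjective] :
    CochainComplex.IsKInjective ((G.mapHomologicalComplex (ComplexShape.up ℤ)).obj I) where
  nonempty_homotopy_zero {K} φ hK := by
    let φ' : (L.mapHomologicalComplex (ComplexShape.up ℤ)).obj K ⟶ I :=
      { f := fun i => L.map (φ.f i) ≫ adj.counit.app (I.X i)
        comm' := fun i j _ => aux1 adj (φ.f i) (φ.f j) (K.d i j) (I.d i j) (φ.comm i j) }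
    have hLK : ((L.mapHomologicalComplex (ComplexShape.up ℤ)).obj K).Acyclic := fun i =>
      ((hK i : (K.sc i).Exact).map L)
    let h' := CochainComplex.IsKInjective.homotopyZero φ' hLK
    let η : K ⟶ (G.mapHomologicalComplex (ComplexShape.up ℤ)).obj
        ((L.mapHomologicalComplex (ComplexShape.up ℤ)).obj K) :=
      { f := fun i => adj.unit.app (K.X i)
        comm' := fun i j _ => (adj.unit.naturality (K.d i j)).symm }
    have e : φ = η ≫ (G.mapHomologicalComplex (ComplexShape.up ℤ)).map φ' := by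
      ext i
      exact aux2 adj (φ.f i)
    exact ⟨(Homotopy.ofEq e).trans (((G.mapHomotopy h').compLeft η).trans
      (Homotopy.ofEq (by simp)))⟩

end Groth.Agent.Lib.KInjAdj_helper7
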