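import Mathlib
import Groth.Prelude.Def_BigSite
import Groth.Agent.Lib.LanExact_helper7
import Groth.Agent.Lib.BigSmall_helper7

/-!
# `f_big!` is exact on abelian sheaves (helper7)

The comma categories computing the left Kan extension along `Over.map f` receive a final functor
from a discrete category, so the colimits are exact.
-/

set_option autoImplicit false
universe v₁ u₁ u
open CategoryTheory CategoryTheory.Limits Opposite

namespace Groth.Agent.Lib.OverMapExact_helper7

open Groth.Agent.Lib.LanExact_helper7

section General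

variable {𝒞 : Type u₁} [Category.{v₁} 𝒞] {X Y : 𝒞} (f : X ⟶ Y) (V : Over Y)

/-- liftings of the structure morphism of `V` through `f` -/
abbrev Idx : Type v₁ := {g : V.left ⟶ X // g ≫ f = V.hom}

/-- the object of the comma category attached to a lifting -/
def Φobj (g : Idx f V) : CostructuredArrow (Over.map f).op (op V) :=
  CostructuredArrow.mk (Y := op (Over.mk g.1))
    (Quiver.Hom.op (Over.homMk (𝟙 V.left) (by simp [g.2]) :
      V ⟶ (Over.map f).obj (Over.mk g.1)))

/-- the functor from the discrete category of liftings -/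
def Φ : Discrete (Idx f V) ⥤ CostructuredArrow (Over.map f).op (op V) :=
  Discrete.functor (Φobj f V)

variable {f V}

theorem left_eq {d : CostructuredArrow (Over.map f).op (op V)} {g : Idx f V}
    (ψ : d ⟶ Φobj f V g) : ψ.left.unop.left = d.hom.unop.left := by
  have w := CostructuredArrow.w ψ
  have w' := congrArg (fun m => m.unop.left) w
  simpa [Φobj] using w'

theorem idx_eq {d : CostructuredArrow (Over.map f).op (op V)} {g : Idx f V}
    (ψ : d ⟶ Φobj f V g) : g.1 = d.hom.unop.left ≫ d.left.unop.hom := by
  rw [← left_eq ψ]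
  exact (Over.w ψ.left.unop).symm

theorem hom_subsingleton {d : CostructuredArrow (Over.map f).op (op V)} {g : Idx f V}
    (ψ ψ' : d ⟶ Φobj f V g) : ψ = ψ' := by
  apply CostructuredArrow.hom_ext
  apply Quiver.Hom.unop_inj
  apply Over.OverMorphism.ext
  rw [left_eq ψ, left_eq ψ']

variable (f V)

instance final_Φ : (Φ f V).Final := by
  constructor
  intro d
  let φ : V ⟶ (Over.map f).obj d.left.unop := d.hom.unop
  have hφ : (φ.left ≫ d.left.unop.hom) ≫ f = V.hom := by
    rw [Category.assoc]
    simpa using Over.w φ
  let g₀ : Idx f V := ⟨φ.left ≫ d.left.unop.hom, hφ⟩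
  let k : Over.mk g₀.1 ⟶ d.left.unop := Over.homMk φ.left rfl
  let ψ₀ : d ⟶ Φobj f V g₀ := CostructuredArrow.homMk k.op (by
    apply Quiver.Hom.unop_inj
    apply Over.OverMorphism.ext
    simp [Φobj, k, φ])
  let x₀ : StructuredArrow d (Φ f V) :=
    StructuredArrow.mk (Y := (Discrete.mk g₀ : Discrete (Idx f V)))
      (show d ⟶ (Φ f V).obj (Discrete.mk g₀) from ψ₀)
  have hright : ∀ y : StructuredArrow d (Φ f V), x₀.right = y.right := by
    intro y
    have h1 : y.right.as = g₀ := Subtype.ext (idx_eq (g := y.right.as) y.hom)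
    exact Discrete.ext h1.symm
  refine isConnected_of_isInitial _ (x := x₀) (IsInitial.ofUniqueHom
    (fun y => StructuredArrow.homMk (eqToHom (hright y)) (hom_subsingleton (g := y.right.as) _ _))
    (fun y m => StructuredArrow.hom_ext _ _ (Subsingleton.elim _ _)))

theorem hasExactColimits (E : Type*) [Category E] [HasFiniteLimits E]
    [HasColimitsOfShape (CostructuredArrow (Over.map f).op (op V)) E]
    [HasColimitsOfShape (Discrete (Idx f V)) E]
    [HasExactColimitsOfShape (Discrete (Idx f V)) E] :
    HasExactColimitsOfShape (CostructuredArrow (Over.map f).op (op V)) E :=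
  hasExactColimitsOfShape_of_final E (Φ f V)

end General

section Scheme

open AlgebraicGeometry

variable {X Y : Scheme.{u}} (f : X ⟶ Y)

theorem lan_overMap_exact :
    PreservesFiniteLimits ((Over.map f).op.lan :
      ((Over X)ᵒᵖ ⥤ AddCommGrpCat.{u+1}) ⥤ (Over Y)ᵒᵖ ⥤ AddCommGrpCat.{u+1}) := by
  haveI : ∀ V : (Over Y)ᵒᵖ, HasExactColimitsOfShape (CostructuredArrow (Over.map f).op V)
      AddCommGrpCat.{u+1} := fun V => by
    haveI : HasExactColimitsOfShape (Discrete (Idx f V.unop)) AddCommGrpCat.{u+1} :=
      HasExactColimitsOfShape.of_domain_equivalence AddCommGrpCat.{u+1}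
        (Discrete.equivalence Equiv.ulift : Discrete (ULift.{u+1} (Idx f V.unop)) ≌ _)
    exact hasExactColimits f V.unop AddCommGrpCat.{u+1}
  exact lan_preservesFiniteLimits_of_exact AddCommGrpCat.{u+1} (Over.map f)

theorem shriekAb_exact (K : Precoverage Scheme.{u}) :
    PreservesFiniteLimits (BigSite.shriekAb K f) := by
  haveI := lan_overMap_exact f
  haveI : PreservesFiniteLimits (Functor.sheafPullbackConstruction.sheafPullback (Over.map f)
      AddCommGrpCat.{u+1} (QuotSh.J K X) (QuotSh.J K Y)) := by
    haveI : PreservesFiniteLimits ((Over.map f).op.lan ⋙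
        presheafToSheaf (QuotSh.J K Y) AddCommGrpCat.{u+1}) := comp_preservesFiniteLimits _ _
    exact comp_preservesFiniteLimits (sheafToPresheaf (QuotSh.J K X) AddCommGrpCat.{u+1})
      ((Over.map f).op.lan ⋙ presheafToSheaf (QuotSh.J K Y) AddCommGrpCat.{u+1})
  exact preservesFiniteLimits_of_natIso
    (Functor.sheafPullbackConstruction.sheafPullbackIso (Over.map f) AddCommGrpCat.{u+1}
      (QuotSh.J K X) (QuotSh.J K Y)).symm

instance pullBig_preservesInjectives (K : Precoverage Scheme.{u}) :
    (BigSite.pullBig K f AddCommGrpCat.{u+1}).PreservesInjectiveObjects := by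
  haveI := shriekAb_exact f K
  exact Functor.preservesInjectiveObjects_of_adjunction_of_preservesMonomorphisms
    (BigSite.shriekAbAdj K f)

end Scheme

end Groth.Agent.Lib.OverMapExact_helper7
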