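import Mathlib
import Groth.Prelude.Def_BigSite
import Groth.Agent.Lib.BigSmall_helper7
import Groth.Agent.Lib.OverMapExact_helper7
import Groth.Agent.Lib.KInjAdj_helper7

/-!
# Restriction to small étale sites preserves K-injective complexes (helper7)
-/

set_option autoImplicit false
set_option backward.isDefEq.respectTransparency false
universe u
open CategoryTheory CategoryTheory.Limits AlgebraicGeometry Opposite

namespace Groth.Agent.Lib.BigSmall3_helper7

open Groth.Agent.Lib.BigSmall_helper7 Groth.Agent.Lib.OverMapExact_helper7
  Groth.Agent.Lib.KInjAdj_helper7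

variable (S : Scheme.{u}) (K : Precoverage Scheme.{u}) [BigSite.AEtCont K S]

instance piEtPull_additive : (BigSite.piEtPull K S).Additive :=
  (BigSite.piEtAdj K S).left_adjoint_additive

instance piEtPull_preservesFiniteColimits : PreservesFiniteColimits (BigSite.piEtPull K S) := by
  haveI : PreservesColimitsOfSize.{0, 0} (BigSite.piEtPull K S) :=
    (BigSite.piEtAdj K S).leftAdjoint_preservesColimits
  exact PreservesColimitsOfSize.preservesFiniteColimits _

variable {S} {T : Scheme.{u}} (f : T ⟶ S)

instance shriekAb_additive : (BigSite.shriekAb K f).Additive :=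
  (BigSite.shriekAbAdj K f).left_adjoint_additive

instance shriekAb_preservesFiniteLimits : PreservesFiniteLimits (BigSite.shriekAb K f) :=
  shriekAb_exact f K

instance shriekAb_preservesFiniteColimits : PreservesFiniteColimits (BigSite.shriekAb K f) := by
  haveI : PreservesColimitsOfSize.{0, 0} (BigSite.shriekAb K f) :=
    (BigSite.shriekAbAdj K f).leftAdjoint_preservesColimits
  exact PreservesColimitsOfSize.preservesFiniteColimits _

theorem kinj_resEt (I : CochainComplex (BigSite.Ab K S) ℤ) [I.IsKInjective] :
    CochainComplex.IsKInjective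
      (((BigSite.resEt K S).mapHomologicalComplex (ComplexShape.up ℤ)).obj I) :=
  isKInjective_map (BigSite.piEtAdj K S) I

theorem kinj_resEtAlong [BigSite.AEtCont K T] (I : CochainComplex (BigSite.Ab K S) ℤ)
    [I.IsKInjective] :
    CochainComplex.IsKInjective
      (((BigSite.resEtAlong K f).mapHomologicalComplex (ComplexShape.up ℤ)).obj I) :=
  isKInjective_map (L := BigSite.piEtPull K T ⋙ BigSite.shriekAb K f)
    (G := BigSite.pullBig K f AddCommGrpCat.{u+1} ⋙ BigSite.resEt K T)
    ((BigSite.piEtAdj K T).comp (BigSite.shriekAbAdj K f)) I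

end Groth.Agent.Lib.BigSmall3_helper7
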