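import Mathlib

/-!
# Sibling functors agree on iterated extensions (helper7)

Abstract form of the "siblings" lemma: two triangulated functors `F F' : C ⥤ D` which are naturally
isomorphic on a class `H` of objects, with no negative maps between `F`-images of objects of `H`,
take isomorphic values on every object obtained from `H` by successive extensions
`K ⟶ B ⟶ W ⟶ K⟦1⟧` with `B ∈ H`.
-/

set_option autoImplicit false
universe v v' v'' u u' u''
open CategoryTheory Limits Pretriangulated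

namespace Groth.Agent.Lib.Siblings

variable {C : Type u} [Category.{v} C] {D : Type u'} [Category.{v'} D]
  [HasShift C ℤ] [HasShift D ℤ] [HasZeroObject C] [HasZeroObject D] [Preadditive C] [Preadditive D]
  [∀ n : ℤ, (shiftFunctor C n).Additive] [∀ n : ℤ, (shiftFunctor D n).Additive]
  [Pretriangulated C] [Pretriangulated D]

section Good

variable (H : ObjectProperty C)

/-- iterated extensions of objects of `H`, with `H`-objects as successive quotients -/
def Good : ℕ → C → Prop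
  | 0, K => IsZero K
  | n + 1, K => ∃ (B W : C) (q : K ⟶ B) (δ : B ⟶ W) (r : W ⟶ K⟦(1 : ℤ)⟧),
      Triangle.mk q δ r ∈ distTriang C ∧ H B ∧ Good n W

lemma good_zero (K : C) : Good H 0 K ↔ IsZero K := Iff.rfl

lemma good_succ (n : ℕ) (K : C) : Good H (n + 1) K ↔
    ∃ (B W : C) (q : K ⟶ B) (δ : B ⟶ W) (r : W ⟶ K⟦(1 : ℤ)⟧),
      Triangle.mk q δ r ∈ distTriang C ∧ H B ∧ Good H n W := Iff.rfl

lemma good_of_iso (n : ℕ) {K K' : C} (e : K ≅ K') (h : Good H n K) : Good H n K' := by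
  cases n with
  | zero => exact (good_zero H K').2 (((good_zero H K).1 h).of_iso e.symm)
  | succ n =>
    obtain ⟨B, W, q, δ, r, hT, hB, hW⟩ := (good_succ H n K).1 h
    refine (good_succ H n K').2 ⟨B, W, e.inv ≫ q, δ, r ≫ e.hom⟦(1 : ℤ)⟧', ?_, hB, hW⟩
    refine isomorphic_distinguished _ hT _ ?_
    refine Triangle.isoMk _ _ e.symm (Iso.refl _) (Iso.refl _) ?_ ?_ ?_
    · show (e.inv ≫ q) ≫ 𝟙 _ = e.inv ≫ q
      rw [Category.comp_id]
    · show δ ≫ 𝟙 _ = 𝟙 _ ≫ δ
      rw [Category.comp_id, Category.id_comp]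
    · show (r ≫ e.hom⟦(1 : ℤ)⟧') ≫ e.inv⟦(1 : ℤ)⟧' = 𝟙 _ ≫ r
      rw [Category.assoc, ← Functor.map_comp, e.hom_inv_id, CategoryTheory.Functor.map_id,
        Category.comp_id, Category.id_comp]

end Good

section Transfer

variable {C' : Type u''} [Category.{v''} C'] [HasShift C' ℤ] [HasZeroObject C'] [Preadditive C']
  [∀ n : ℤ, (shiftFunctor C' n).Additive] [Pretriangulated C']
  (ι : C ⥤ C') [ι.CommShift ℤ] [ι.IsTriangulated] [ι.Full] [ι.Faithful]
  (hrefl : ∀ T : Triangle C, ι.mapTriangle.obj T ∈ distTriang C' → T ∈ distTriang C)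
  (H : ObjectProperty C) (H' : ObjectProperty C') (hH' : ∀ Z, H' Z → ι.essImage Z)
  (hH : ∀ (B : C) (Z : C'), H' Z → (ι.obj B ≅ Z) → H B)

include hrefl hH' hH in
lemma good_of_good_map : ∀ (n : ℕ) (K : C), Good H' n (ι.obj K) → Good H n K := by
  intro n
  induction n with
  | zero =>
    intro K h
    have h0 : IsZero (ι.obj K) := (good_zero H' _).1 h
    refine (good_zero H K).2 ?_
    rw [IsZero.iff_id_eq_zero]
    apply ι.map_injective
    rw [ι.map_id, ι.map_zero]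
    exact h0.eq_of_src _ _
  | succ n ih =>
    intro K h
    obtain ⟨B', W', q', δ', r', hT, hB', hW'⟩ := (good_succ H' n _).1 h
    obtain ⟨B, ⟨eB⟩⟩ := hH' B' hB'
    have hW'ess : ι.essImage W' :=
      ι.essImage.ext_of_isTriangulatedClosed₃ _ hT (ι.obj_mem_essImage K) (hH' B' hB')
    obtain ⟨W, ⟨eW⟩⟩ := hW'ess
    refine (good_succ H n K).2 ⟨B, W, ι.preimage (q' ≫ eB.inv), ι.preimage (eB.hom ≫ δ' ≫ eW.inv),
      ι.preimage (eW.hom ≫ r' ≫ (ι.commShiftIso (1 : ℤ)).inv.app K), ?_, hH B B' hB' eB,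
      ih W (good_of_iso H' n eW.symm hW')⟩
    apply hrefl
    refine isomorphic_distinguished _ hT _ ?_
    refine Triangle.isoMk _ _ (Iso.refl _) eB eW ?_ ?_ ?_
    · show ι.map (ι.preimage (q' ≫ eB.inv)) ≫ eB.hom = 𝟙 _ ≫ q'
      rw [Functor.map_preimage, Category.assoc, eB.inv_hom_id, Category.comp_id, Category.id_comp]
    · show ι.map (ι.preimage (eB.hom ≫ δ' ≫ eW.inv)) ≫ eW.hom = eB.hom ≫ δ'
      rw [Functor.map_preimage, Category.assoc, Category.assoc, eW.inv_hom_id, Category.comp_id]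
    · show (ι.map (ι.preimage (eW.hom ≫ r' ≫ (ι.commShiftIso (1 : ℤ)).inv.app K)) ≫
        (ι.commShiftIso (1 : ℤ)).hom.app K) ≫ (𝟙 (ι.obj K))⟦(1 : ℤ)⟧' = eW.hom ≫ r'
      rw [Functor.map_preimage, CategoryTheory.Functor.map_id]
      erw [Category.comp_id]
      rw [Category.assoc, Category.assoc, Iso.inv_hom_id_app]
      erw [Category.comp_id]

end Transfer

section Main

variable (F F' : C ⥤ D) [F.CommShift ℤ] [F.IsTriangulated] [F'.CommShift ℤ] [F'.IsTriangulated]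
  (H : ObjectProperty C)

/-- vanishing of negative maps from `F`-images of `H`-objects -/
def VanProp (W : C) : Prop :=
  ∀ (B : C), H B → ∀ (j : ℤ), 0 < j → ∀ f : (F.obj B)⟦j⟧ ⟶ F.obj W, f = 0

variable (hV : ∀ B B', H B → H B' → ∀ j : ℤ, 0 < j → ∀ f : (F.obj B)⟦j⟧ ⟶ F.obj B', f = 0)

include hV in
set_option backward.isDefEq.respectTransparency false in
lemma vanProp_of_triangle {W B' W' : C} (q' : W ⟶ B') (δ' : B' ⟶ W') (r' : W' ⟶ W⟦(1 : ℤ)⟧)
    (hT : Triangle.mk q' δ' r' ∈ distTriang C) (hB' : H B') (hW' : VanProp F H W') :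
    VanProp F H W := by
  intro B hB j hj f
  have hTF := F.map_distinguished _ hT
  have hinv := inv_rot_of_distTriang _ hTF
  have h0 : f ≫ F.map q' = 0 := hV B B' hB hB' j hj _
  obtain ⟨g, hg⟩ : ∃ g : (F.obj B)⟦j⟧ ⟶ (F.obj W')⟦(-1 : ℤ)⟧,
      f = g ≫ (F.mapTriangle.obj (Triangle.mk q' δ' r')).invRotate.mor₁ :=
    Triangle.coyoneda_exact₂ _ hinv f h0
  have hg0 : g = 0 := by
    apply (shiftFunctor D (1 : ℤ)).map_injective
    rw [Functor.map_zero]
    have h1 := hW' B hB (j + 1) (by omega)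
      ((shiftFunctorAdd' D j 1 (j + 1) rfl).hom.app (F.obj B) ≫ g⟦(1 : ℤ)⟧' ≫
        (shiftEquiv D (1 : ℤ)).counitIso.hom.app (F.obj W'))
    have h1' : ((shiftFunctorAdd' D j 1 (j + 1) rfl).hom.app (F.obj B) ≫ g⟦(1 : ℤ)⟧') ≫
        (shiftEquiv D (1 : ℤ)).counitIso.hom.app (F.obj W') =
        0 ≫ (shiftEquiv D (1 : ℤ)).counitIso.hom.app (F.obj W') := by
      rw [Category.assoc, h1, zero_comp]
    have h1'' : (shiftFunctorAdd' D j 1 (j + 1) rfl).hom.app (F.obj B) ≫ g⟦(1 : ℤ)⟧' =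
        (shiftFunctorAdd' D j 1 (j + 1) rfl).hom.app (F.obj B) ≫ 0 := by
      rw [comp_zero]
      exact (cancel_mono _).1 h1'
    exact (cancel_epi _).1 h1''
  rw [hg, hg0, zero_comp]

include hV in
lemma vanProp_of_good : ∀ (n : ℕ) (W : C), Good H n W → VanProp F H W := by
  intro n
  induction n with
  | zero =>
    intro W hW B _ j _ f
    exact (F.map_isZero ((good_zero H W).1 hW)).eq_of_tgt _ _
  | succ n ih =>
    intro W hW
    obtain ⟨B', W', q', δ', r', hT, hB', hW'⟩ := (good_succ H n W).1 hW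
    exact vanProp_of_triangle F H hV q' δ' r' hT hB' (ih W' hW')

variable (t : ∀ B, H B → (F.obj B ≅ F'.obj B))
  (hnat : ∀ B B' (hB : H B) (hB' : H B') (g : B ⟶ B'),
    F.map g ≫ (t B' hB').hom = (t B hB).hom ≫ F'.map g)

include hV hnat in
set_option backward.isDefEq.respectTransparency false in
theorem main_aux : ∀ n : ℕ,
    (∀ (K B W : C) (q : K ⟶ B) (δ : B ⟶ W) (r : W ⟶ K⟦(1 : ℤ)⟧),
      Triangle.mk q δ r ∈ distTriang C → ∀ hB : H B, Good H n W →
      ∃ φ : F.obj K ≅ F'.obj K, F.map q ≫ (t B hB).hom = φ.hom ≫ F'.map q) ∧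
    (∀ K : C, Good H n K → Nonempty (F.obj K ≅ F'.obj K)) := by
  intro n
  induction n with
  | zero =>
    refine ⟨?_, ?_⟩
    · intro K B W q δ r hT hB hW
      haveI : IsIso q := (Triangle.isZero₃_iff_isIso₁ _ hT).1 ((good_zero H W).1 hW)
      refine ⟨F.mapIso (asIso q) ≪≫ t B hB ≪≫ (F'.mapIso (asIso q)).symm, ?_⟩
      show F.map q ≫ (t B hB).hom = (F.map q ≫ (t B hB).hom ≫ F'.map (inv q)) ≫ F'.map q
      rw [Category.assoc, Category.assoc, ← F'.map_comp, IsIso.inv_hom_id, F'.map_id,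
        Category.comp_id]
    · intro K hK
      exact ⟨IsZero.iso (F.map_isZero ((good_zero H K).1 hK))
        (F'.map_isZero ((good_zero H K).1 hK))⟩
  | succ n ih =>
    obtain ⟨ihR, ihE⟩ := ih
    have hE : ∀ K : C, Good H (n + 1) K → Nonempty (F.obj K ≅ F'.obj K) := by
      intro K hK
      obtain ⟨B, W, q, δ, r, hT, hB, hW⟩ := (good_succ H n K).1 hK
      obtain ⟨φ, -⟩ := ihR K B W q δ r hT hB hW
      exact ⟨φ⟩
    refine ⟨?_, hE⟩
    intro K B W q δ r hT hB hW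
    obtain ⟨B₁, W₂, q₁, δ₁, r₁, hT₁, hB₁, hW₂⟩ := (good_succ H n W).1 hW
    obtain ⟨φW, hφW⟩ := ihR W B₁ W₂ q₁ δ₁ r₁ hT₁ hB₁ hW₂
    obtain ⟨e⟩ := ihE W₂ hW₂
    have hvan := vanProp_of_good F H hV n W₂ hW₂
    have key : F.map δ ≫ φW.hom = (t B hB).hom ≫ F'.map δ := by
      rw [← sub_eq_zero]
      have h1 : (F.map δ ≫ φW.hom - (t B hB).hom ≫ F'.map δ) ≫ F'.map q₁ = 0 := by
        rw [Preadditive.sub_comp, Category.assoc, Category.assoc, ← hφW, ← F'.map_comp,
          ← hnat B B₁ hB hB₁ (δ ≫ q₁), F.map_comp, Category.assoc, sub_self]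
      have hTF' := F'.map_distinguished _ hT₁
      obtain ⟨g, hg⟩ : ∃ g : F.obj B ⟶ (F'.obj W₂)⟦(-1 : ℤ)⟧,
          F.map δ ≫ φW.hom - (t B hB).hom ≫ F'.map δ =
            g ≫ (F'.mapTriangle.obj (Triangle.mk q₁ δ₁ r₁)).invRotate.mor₁ :=
        Triangle.coyoneda_exact₂ _ (inv_rot_of_distTriang _ hTF') _ h1
      have hg0 : g = 0 := by
        apply (shiftFunctor D (1 : ℤ)).map_injective
        rw [Functor.map_zero]
        have h2 := hvan B hB 1 (by omega)
          (g⟦(1 : ℤ)⟧' ≫ (shiftEquiv D (1 : ℤ)).counitIso.hom.app (F'.obj W₂) ≫ e.inv)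
        have h2' : (g⟦(1 : ℤ)⟧' ≫ (shiftEquiv D (1 : ℤ)).counitIso.hom.app (F'.obj W₂)) ≫ e.inv =
            0 ≫ e.inv := by
          rw [Category.assoc, h2, zero_comp]
        have h2'' : g⟦(1 : ℤ)⟧' ≫ (shiftEquiv D (1 : ℤ)).counitIso.hom.app (F'.obj W₂) =
            0 ≫ (shiftEquiv D (1 : ℤ)).counitIso.hom.app (F'.obj W₂) := by
          rw [zero_comp]
          have := (cancel_mono _).1 h2'
          rw [this]
        exact (cancel_mono _).1 h2''
      rw [hg, hg0, zero_comp]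
    have hT₁' := F.map_distinguished _ hT
    have hT₂' := F'.map_distinguished _ hT
    obtain ⟨a, ha₁, ha₂⟩ := complete_distinguished_triangle_morphism₁ _ _ hT₁' hT₂'
      (t B hB).hom φW.hom key
    let ψ : F.mapTriangle.obj (Triangle.mk q δ r) ⟶ F'.mapTriangle.obj (Triangle.mk q δ r) :=
      { hom₁ := a
        hom₂ := (t B hB).hom
        hom₃ := φW.hom
        comm₁ := ha₁
        comm₂ := key
        comm₃ := ha₂ }
    haveI : IsIso a := isIso₁_of_isIso₂₃ ψ hT₁' hT₂' (inferInstanceAs (IsIso (t B hB).hom))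
      (inferInstanceAs (IsIso φW.hom))
    exact ⟨asIso a, ha₁⟩

include hV hnat in
/-- sibling functors take isomorphic values on iterated extensions of `H`-objects -/
theorem main (n : ℕ) (K : C) (hK : Good H n K) : Nonempty (F.obj K ≅ F'.obj K) :=
  (main_aux F F' H hV t hnat n).2 K hK

end Main

end Groth.Agent.Lib.Siblings
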