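import Mathlib
import Groth.Agent.Lib.Siblings_helper7

/-!
# Dévissage for full faithfulness of a triangulated functor (helper7)

`Bij G K L` says that `G` induces a bijection `Hom(K, L) → Hom(G K, G L)`. We prove two-out-of-three
statements along distinguished triangles in both variables, and deduce that `Bij G` holds on all
iterated extensions (`Siblings.Good`) if it holds on all shifts of the building blocks.
-/

set_option autoImplicit false
set_option backward.isDefEq.respectTransparency false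
universe v v' u u'
open CategoryTheory Limits Pretriangulated

namespace Groth.Agent.Lib.BijTri

variable {C : Type u} [Category.{v} C] {D : Type u'} [Category.{v'} D]
  [HasShift C ℤ] [HasShift D ℤ] [HasZeroObject C] [HasZeroObject D] [Preadditive C] [Preadditive D]
  [∀ n : ℤ, (shiftFunctor C n).Additive] [∀ n : ℤ, (shiftFunctor D n).Additive]
  [Pretriangulated C] [Pretriangulated D]
  (G : C ⥤ D) [G.CommShift ℤ] [G.IsTriangulated]

/-- `G` induces a bijection on `Hom(K, L)` -/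
def Bij (K L : C) : Prop := Function.Bijective (fun f : K ⟶ L => G.map f)

variable {G}

lemma Bij.inj {K L : C} (h : Bij G K L) {f f' : K ⟶ L} (hf : G.map f = G.map f') : f = f' := h.1 hf

lemma Bij.inj_zero {K L : C} (h : Bij G K L) {f : K ⟶ L} (hf : G.map f = 0) : f = 0 :=
  h.1 (by show G.map f = G.map 0; rw [hf, G.map_zero])

lemma Bij.surj {K L : C} (h : Bij G K L) (η : G.obj K ⟶ G.obj L) : ∃ f : K ⟶ L, G.map f = η := h.2 η

lemma bij_of_iso_left {K K' L : C} (e : K ≅ K') (h : Bij G K L) : Bij G K' L := by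
  constructor
  · intro f f' hff'
    have hff'' : G.map f = G.map f' := hff'
    have h1 : G.map (e.hom ≫ f) = G.map (e.hom ≫ f') := by
      rw [G.map_comp, G.map_comp, hff'']
    exact (cancel_epi e.hom).1 (h.inj h1)
  · intro η
    obtain ⟨u, hu⟩ := h.surj (G.map e.hom ≫ η)
    refine ⟨e.inv ≫ u, ?_⟩
    show G.map (e.inv ≫ u) = η
    rw [G.map_comp, hu, ← Category.assoc, ← G.map_comp, e.inv_hom_id, G.map_id, Category.id_comp]

lemma bij_of_iso_right {K L L' : C} (e : L ≅ L') (h : Bij G K L) : Bij G K L' := by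
  constructor
  · intro f f' hff'
    have hff'' : G.map f = G.map f' := hff'
    have h1 : G.map (f ≫ e.inv) = G.map (f' ≫ e.inv) := by
      rw [G.map_comp, G.map_comp, hff'']
    exact (cancel_mono e.inv).1 (h.inj h1)
  · intro η
    obtain ⟨u, hu⟩ := h.surj (η ≫ G.map e.inv)
    refine ⟨u ≫ e.hom, ?_⟩
    show G.map (u ≫ e.hom) = η
    rw [G.map_comp, hu, Category.assoc, ← G.map_comp, e.inv_hom_id, G.map_id, Category.comp_id]

lemma bij_shift {K L : C} (a : ℤ) (h : Bij G K L) : Bij G (K⟦a⟧) (L⟦a⟧) := by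
  have nat : ∀ g : K ⟶ L, G.map (g⟦a⟧') ≫ (G.commShiftIso a).hom.app L =
      (G.commShiftIso a).hom.app K ≫ (G.map g)⟦a⟧' :=
    fun g => (G.commShiftIso a).hom.naturality g
  constructor
  · intro f f' hff'
    obtain ⟨g, rfl⟩ := (shiftFunctor C a).map_surjective f
    obtain ⟨g', rfl⟩ := (shiftFunctor C a).map_surjective f'
    have hff'' : G.map (g⟦a⟧') = G.map (g'⟦a⟧') := hff'
    have h1 : (G.map g)⟦a⟧' = (G.map g')⟦a⟧' := by
      have e1 := nat g
      have e2 := nat g'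
      rw [hff'', e2] at e1
      exact ((cancel_epi _).1 e1).symm
    have h2 : G.map g = G.map g' := (shiftFunctor D a).map_injective h1
    rw [h.inj h2]
  · intro η
    obtain ⟨ζ, hζ⟩ := (shiftFunctor D a).map_surjective
      ((G.commShiftIso a).inv.app K ≫ η ≫ (G.commShiftIso a).hom.app L)
    obtain ⟨g, hg⟩ := h.surj ζ
    refine ⟨g⟦a⟧', ?_⟩
    show G.map (g⟦a⟧') = η
    have e1 := nat g
    rw [hg, hζ, Iso.hom_inv_id_app_assoc] at e1
    exact (cancel_mono _).1 e1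

lemma bij_of_isZero_left {K L : C} (hK : IsZero K) : Bij G K L := by
  constructor
  · intro f f' _
    exact hK.eq_of_src _ _
  · intro η
    exact ⟨0, (G.map_isZero hK).eq_of_src _ _⟩

lemma bij_of_isZero_right {K L : C} (hL : IsZero L) : Bij G K L := by
  constructor
  · intro f f' _
    exact hL.eq_of_tgt _ _
  · intro η
    exact ⟨0, (G.map_isZero hL).eq_of_tgt _ _⟩

/-- two out of three, in the first variable -/
lemma bij_mid_left (T : Triangle C) (hT : T ∈ distTriang C) (L : C)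
    (h1 : Bij G T.obj₁ L) (h3 : Bij G T.obj₃ L) (h1' : Bij G (T.obj₁⟦(1 : ℤ)⟧) L)
    (h3' : Bij G (T.obj₃⟦(-1 : ℤ)⟧) L) : Bij G T.obj₂ L := by
  have hTG := G.map_distinguished _ hT
  have hTR := G.map_distinguished _ (rot_of_distTriang _ hT)
  have hT' := inv_rot_of_distTriang _ hT
  have inj0 : ∀ w : T.obj₂ ⟶ L, G.map w = 0 → w = 0 := by
    intro w hw
    have e1 : T.mor₁ ≫ w = 0 := h1.inj_zero (by rw [G.map_comp, hw, comp_zero])
    obtain ⟨v, hv⟩ := Triangle.yoneda_exact₂ T hT w e1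
    have e2 : G.map T.mor₂ ≫ G.map v = 0 := by rw [← G.map_comp, ← hv, hw]
    obtain ⟨z, hz⟩ : ∃ z : G.obj (T.obj₁⟦(1 : ℤ)⟧) ⟶ G.obj L, G.map v = G.map T.mor₃ ≫ z :=
      Triangle.yoneda_exact₂ _ hTR (G.map v) e2
    obtain ⟨w₀, hw₀⟩ := h1'.surj z
    have e3 : v = T.mor₃ ≫ w₀ := h3.inj (by rw [hz, G.map_comp, hw₀])
    rw [hv, e3, ← Category.assoc, comp_distTriang_mor_zero₂₃ T hT, zero_comp]
  constructor
  · intro u u' huu'
    have huu'' : G.map u = G.map u' := huu'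
    have := inj0 (u - u') (by rw [G.map_sub, huu'', sub_self])
    exact sub_eq_zero.1 this
  · intro η
    obtain ⟨u₁, hu₁⟩ := h1.surj (G.map T.mor₁ ≫ η)
    have e1 : T.invRotate.mor₁ ≫ u₁ = 0 := by
      apply h3'.inj_zero
      rw [G.map_comp, hu₁, ← Category.assoc, ← G.map_comp]
      have : T.invRotate.mor₁ ≫ T.mor₁ = 0 := comp_distTriang_mor_zero₁₂ _ hT'
      rw [this, G.map_zero, zero_comp]
    obtain ⟨u₂, hu₂⟩ : ∃ u₂ : T.obj₂ ⟶ L, u₁ = T.mor₁ ≫ u₂ :=
      Triangle.yoneda_exact₂ _ hT' u₁ e1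
    have e2 : G.map T.mor₁ ≫ (η - G.map u₂) = 0 := by
      rw [Preadditive.comp_sub, ← hu₁, ← G.map_comp, ← hu₂, sub_self]
    obtain ⟨z, hz⟩ : ∃ z : G.obj T.obj₃ ⟶ G.obj L, η - G.map u₂ = G.map T.mor₂ ≫ z :=
      Triangle.yoneda_exact₂ _ hTG (η - G.map u₂) e2
    obtain ⟨w₀, hw₀⟩ := h3.surj z
    refine ⟨u₂ + T.mor₂ ≫ w₀, ?_⟩
    show G.map (u₂ + T.mor₂ ≫ w₀) = η
    rw [G.map_add, G.map_comp, hw₀, ← hz]
    abel

/-- two out of three, in the second variable -/
lemma bij_mid_right (T : Triangle C) (hT : T ∈ distTriang C) (K : C)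
    (h1 : Bij G K T.obj₁) (h3 : Bij G K T.obj₃) (h1' : Bij G K (T.obj₁⟦(1 : ℤ)⟧))
    (h3' : Bij G K (T.obj₃⟦(-1 : ℤ)⟧)) : Bij G K T.obj₂ := by
  have hTG := G.map_distinguished _ hT
  have hT' := inv_rot_of_distTriang _ hT
  have hTI := G.map_distinguished _ hT'
  have inj0 : ∀ w : K ⟶ T.obj₂, G.map w = 0 → w = 0 := by
    intro w hw
    have e1 : w ≫ T.mor₂ = 0 := h3.inj_zero (by rw [G.map_comp, hw, zero_comp])
    obtain ⟨v, hv⟩ := Triangle.coyoneda_exact₂ T hT w e1
    have e2 : G.map v ≫ G.map T.mor₁ = 0 := by rw [← G.map_comp, ← hv, hw]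
    obtain ⟨z, hz⟩ : ∃ z : G.obj K ⟶ G.obj (T.obj₃⟦(-1 : ℤ)⟧),
        G.map v = z ≫ G.map T.invRotate.mor₁ :=
      Triangle.coyoneda_exact₂ _ hTI (G.map v) e2
    obtain ⟨w₀, hw₀⟩ := h3'.surj z
    have e3 : v = w₀ ≫ T.invRotate.mor₁ := h1.inj (by rw [hz, G.map_comp, hw₀])
    have e4 : T.invRotate.mor₁ ≫ T.mor₁ = 0 := comp_distTriang_mor_zero₁₂ _ hT'
    rw [hv, e3, Category.assoc, e4, comp_zero]
  constructor
  · intro u u' huu'
    have huu'' : G.map u = G.map u' := huu'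
    have := inj0 (u - u') (by rw [G.map_sub, huu'', sub_self])
    exact sub_eq_zero.1 this
  · intro η
    obtain ⟨u₃, hu₃⟩ := h3.surj (η ≫ G.map T.mor₂)
    have e1 : u₃ ≫ T.mor₃ = 0 := by
      apply h1'.inj_zero
      rw [G.map_comp, hu₃, Category.assoc, ← G.map_comp, comp_distTriang_mor_zero₂₃ T hT,
        G.map_zero, comp_zero]
    obtain ⟨u₂, hu₂⟩ := Triangle.coyoneda_exact₃ T hT u₃ e1
    have e2 : (η - G.map u₂) ≫ G.map T.mor₂ = 0 := by
      rw [Preadditive.sub_comp, ← hu₃, ← G.map_comp, ← hu₂, sub_self]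
    obtain ⟨z, hz⟩ : ∃ z : G.obj K ⟶ G.obj T.obj₁, η - G.map u₂ = z ≫ G.map T.mor₁ :=
      Triangle.coyoneda_exact₂ _ hTG (η - G.map u₂) e2
    obtain ⟨w₀, hw₀⟩ := h1.surj z
    refine ⟨u₂ + w₀ ≫ T.mor₁, ?_⟩
    show G.map (u₂ + w₀ ≫ T.mor₁) = η
    rw [G.map_add, G.map_comp, hw₀, ← hz]
    abel

variable (G)

/-- `G` is bijective on maps from all shifts of `K` to `L` -/
def PL (L K : C) : Prop := ∀ i : ℤ, Bij G (K⟦i⟧) L

/-- `G` is bijective on maps from `K` to all shifts of `L` -/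
def QK (K L : C) : Prop := ∀ i : ℤ, Bij G K (L⟦i⟧)

variable {G}

lemma PL_of_iso {L K K' : C} (e : K ≅ K') (h : PL G L K) : PL G L K' :=
  fun i => bij_of_iso_left ((shiftFunctor C i).mapIso e) (h i)

lemma QK_of_iso {K L L' : C} (e : L ≅ L') (h : QK G K L) : QK G K L' :=
  fun i => bij_of_iso_right ((shiftFunctor C i).mapIso e) (h i)

lemma PL_shift {L K : C} (a : ℤ) (h : PL G L K) : PL G L (K⟦a⟧) :=
  fun i => bij_of_iso_left ((shiftFunctorAdd' C a i (a + i) rfl).app K) (h (a + i))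

lemma QK_shift {K L : C} (a : ℤ) (h : QK G K L) : QK G K (L⟦a⟧) :=
  fun i => bij_of_iso_right ((shiftFunctorAdd' C a i (a + i) rfl).app L) (h (a + i))

lemma PL_of_isZero {L K : C} (hK : IsZero K) : PL G L K :=
  fun i => bij_of_isZero_left ((shiftFunctor C i).map_isZero hK)

lemma QK_of_isZero {K L : C} (hL : IsZero L) : QK G K L :=
  fun i => bij_of_isZero_right ((shiftFunctor C i).map_isZero hL)

lemma PL_mid (T : Triangle C) (hT : T ∈ distTriang C) (L : C) (h1 : PL G L T.obj₁)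
    (h3 : PL G L T.obj₃) : PL G L T.obj₂ := by
  intro i
  have hTi := Triangle.shift_distinguished T hT i
  exact bij_mid_left _ hTi L (h1 i) (h3 i)
    (bij_of_iso_left ((shiftFunctorAdd' C i 1 (i + 1) rfl).app T.obj₁) (h1 (i + 1)))
    (bij_of_iso_left ((shiftFunctorAdd' C i (-1) (i - 1) (by omega)).app T.obj₃) (h3 (i - 1)))

lemma QK_mid (T : Triangle C) (hT : T ∈ distTriang C) (K : C) (h1 : QK G K T.obj₁)
    (h3 : QK G K T.obj₃) : QK G K T.obj₂ := by
  intro i
  have hTi := Triangle.shift_distinguished T hT i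
  exact bij_mid_right _ hTi K (h1 i) (h3 i)
    (bij_of_iso_right ((shiftFunctorAdd' C i 1 (i + 1) rfl).app T.obj₁) (h1 (i + 1)))
    (bij_of_iso_right ((shiftFunctorAdd' C i (-1) (i - 1) (by omega)).app T.obj₃) (h3 (i - 1)))

variable (H : ObjectProperty C)

lemma PL_of_good (L : C) (hH : ∀ B, H B → PL G L B) :
    ∀ (n : ℕ) (K : C), Siblings.Good H n K → PL G L K := by
  intro n
  induction n with
  | zero =>
    intro K hK
    exact PL_of_isZero ((Siblings.good_zero H K).1 hK)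
  | succ n ih =>
    intro K hK
    obtain ⟨B, W, q, δ, r, hT, hB, hW⟩ := (Siblings.good_succ H n K).1 hK
    exact PL_mid _ (inv_rot_of_distTriang _ hT) L (PL_shift (-1) (ih W hW)) (hH B hB)

lemma QK_of_good (K : C) (hH : ∀ B, H B → QK G K B) :
    ∀ (n : ℕ) (L : C), Siblings.Good H n L → QK G K L := by
  intro n
  induction n with
  | zero =>
    intro L hL
    exact QK_of_isZero ((Siblings.good_zero H L).1 hL)
  | succ n ih =>
    intro L hL
    obtain ⟨B, W, q, δ, r, hT, hB, hW⟩ := (Siblings.good_succ H n L).1 hL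
    exact QK_mid _ (inv_rot_of_distTriang _ hT) K (QK_shift (-1) (ih W hW)) (hH B hB)

end Groth.Agent.Lib.BijTri
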