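import Mathlib

set_option autoImplicit false
universe u

namespace Groth.Agent.Lib.BinForm

open MvPolynomial

variable {k : Type u} [Field k]

theorem aeval_monomial_scaled {σ τ : Type*} [Fintype σ] (b : σ → k) (Y : σ → MvPolynomial τ k)
    (m : σ →₀ ℕ) (r : k) :
    aeval (fun i => C (b i) * Y i) (monomial m r) = C (r * ∏ i, b i ^ m i) * ∏ i, Y i ^ m i := by
  rw [aeval_monomial, Finsupp.prod_fintype _ _ (fun i => pow_zero _)]
  simp only [mul_pow, Finset.prod_mul_distrib, algebraMap_eq, map_mul, map_prod, map_pow]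
  ring

theorem sum_eq_of_hom {σ : Type*} [Fintype σ] {F : MvPolynomial σ k} {d : ℕ}
    (hF : F.IsHomogeneous d) {m : σ →₀ ℕ} (hm : m ∈ F.support) : ∑ i, m i = d := by
  rw [← Finsupp.degree_eq_sum, Finsupp.degree_eq_weight_one]
  exact hF (mem_support_iff.mp hm)

theorem aeval_scale {σ : Type*} [Fintype σ] (F : MvPolynomial σ k) (d : ℕ)
    (hF : F.IsHomogeneous d) (c : k) :
    aeval (fun i => C c * X i) F = C (c ^ d) * F := by
  calc aeval (fun i => C c * X i) F
      = aeval (fun i => C c * X i) (∑ m ∈ F.support, monomial m (coeff m F)) := by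
        rw [support_sum_monomial_coeff]
    _ = ∑ m ∈ F.support, C (c ^ d) * monomial m (coeff m F) := by
        rw [map_sum]
        refine Finset.sum_congr rfl (fun m hm => ?_)
        have hdeg : ∑ i, m i = d := sum_eq_of_hom hF hm
        rw [aeval_monomial_scaled, monomial_eq, Finsupp.prod_fintype _ _ (fun i => pow_zero _),
          Finset.prod_pow_eq_pow_sum, hdeg, map_mul]
        ring
    _ = C (c ^ d) * F := by rw [← Finset.mul_sum, support_sum_monomial_coeff]

theorem aeval_line {σ : Type*} [Fintype σ] (F : MvPolynomial σ k) (d : ℕ)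
    (hF : F.IsHomogeneous d) (a : σ → k) (j : σ) :
    aeval (fun i => C (a i) * X j) F = C (eval a F) * X j ^ d := by
  calc aeval (fun i => C (a i) * X j) F
      = aeval (fun i => C (a i) * X j) (∑ m ∈ F.support, monomial m (coeff m F)) := by
        rw [support_sum_monomial_coeff]
    _ = ∑ m ∈ F.support, C (eval a (monomial m (coeff m F))) * X j ^ d := by
        rw [map_sum]
        refine Finset.sum_congr rfl (fun m hm => ?_)
        have hdeg : ∑ i, m i = d := sum_eq_of_hom hF hm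
        rw [aeval_monomial_scaled, eval_monomial, Finsupp.prod_fintype _ _ (fun i => pow_zero _),
          Finset.prod_pow_eq_pow_sum, hdeg]
    _ = C (eval a F) * X j ^ d := by
        rw [← Finset.sum_mul, ← map_sum (C : k →+* MvPolynomial σ k), ← map_sum (eval a),
          support_sum_monomial_coeff]

/-- the linear form vanishing at `a`. -/
noncomputable def Hlin (a : Fin 2 → k) : MvPolynomial (Fin 2) k := C (a 1) * X 0 - C (a 0) * X 1

theorem Hlin_not_isUnit (a : Fin 2 → k) : ¬ IsUnit (Hlin a) := by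
  intro hu
  have h := hu.map (eval a)
  have h0 : eval a (Hlin a) = 0 := by
    simp only [Hlin, map_sub, map_mul, eval_C, eval_X]
    ring
  rw [h0] at h
  exact not_isUnit_zero h

theorem diff_mem (a : Fin 2 → k) :
    ∀ j i : Fin 2, C (a j) * X i - C (a i) * X j ∈ Ideal.span {Hlin a} := by
  refine Fin.forall_fin_two.mpr ⟨Fin.forall_fin_two.mpr ⟨?_, ?_⟩, Fin.forall_fin_two.mpr ⟨?_, ?_⟩⟩
  · rw [sub_self]; exact Ideal.zero_mem _
  · have : C (a 0) * X 1 - C (a 1) * X 0 = -(Hlin a) := by unfold Hlin; ring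
    rw [this]
    exact neg_mem (Ideal.subset_span (Set.mem_singleton _))
  · exact Ideal.subset_span (Set.mem_singleton _)
  · rw [sub_self]; exact Ideal.zero_mem _

theorem Hlin_dvd (a : Fin 2 → k) (ha : a ≠ 0) (F : MvPolynomial (Fin 2) k) (d : ℕ)
    (hF : F.IsHomogeneous d) (hz : eval a F = 0) : Hlin a ∣ F := by
  obtain ⟨j, hj⟩ : ∃ j, a j ≠ 0 := by
    by_contra hcon
    push_neg at hcon
    exact ha (funext hcon)
  set I : Ideal (MvPolynomial (Fin 2) k) := Ideal.span {Hlin a} with hI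
  let q : MvPolynomial (Fin 2) k →ₐ[k] (MvPolynomial (Fin 2) k ⧸ I) := Ideal.Quotient.mkₐ k I
  have e1 : q (aeval (fun i => C (a j) * X i) F) = aeval (fun i => q (C (a j) * X i)) F := by
    rw [← comp_aeval]; rfl
  have e2 : q (aeval (fun i => C (a i) * X j) F) = aeval (fun i => q (C (a i) * X j)) F := by
    rw [← comp_aeval]; rfl
  have e3 : (fun i => q (C (a j) * X i)) = (fun i => q (C (a i) * X j)) := by
    funext i
    exact Ideal.Quotient.eq.mpr (diff_mem a j i)
  have e4 : q (aeval (fun i => C (a j) * X i) F) = q (aeval (fun i => C (a i) * X j) F) := by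
    rw [e1, e2, e3]
  have e5 : aeval (fun i => C (a j) * X i) F - aeval (fun i => C (a i) * X j) F ∈ I :=
    Ideal.Quotient.eq.mp e4
  rw [aeval_scale F d hF, aeval_line F d hF, hz, map_zero, zero_mul, sub_zero] at e5
  have e6 := I.mul_mem_left (C ((a j ^ d)⁻¹)) e5
  rw [← mul_assoc, ← C_mul, inv_mul_cancel₀ (pow_ne_zero d hj), C_1, one_mul] at e6
  exact Ideal.mem_span_singleton.mp e6

theorem not_X0_dvd_X1 : ¬ ((X 0 : MvPolynomial (Fin 2) k) ∣ X 1) := by
  rintro ⟨q, hq⟩
  have := congrArg (eval (![0, 1] : Fin 2 → k)) hq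
  simp at this

theorem isUnit_of_dvd_pows (H : MvPolynomial (Fin 2) k) (N0 N1 : ℕ)
    (h0 : H ∣ (X 0 : MvPolynomial (Fin 2) k) ^ N0) (h1 : H ∣ (X 1 : MvPolynomial (Fin 2) k) ^ N1) :
    IsUnit H := by
  have hp0 : Prime (X 0 : MvPolynomial (Fin 2) k) := X_prime
  have hp1 : Prime (X 1 : MvPolynomial (Fin 2) k) := X_prime
  obtain ⟨i0, -, a0⟩ := (dvd_prime_pow hp0 N0).mp h0
  obtain ⟨i1, -, a1⟩ := (dvd_prime_pow hp1 N1).mp h1
  rcases Nat.eq_zero_or_pos i0 with hi | hi
  · rw [hi, pow_zero] at a0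
    exact associated_one_iff_isUnit.mp a0
  · exfalso
    have d1 : (X 0 : MvPolynomial (Fin 2) k) ∣ X 0 ^ i0 := dvd_pow_self _ (by omega)
    have d2 : (X 0 : MvPolynomial (Fin 2) k) ^ i0 ∣ H := a0.symm.dvd
    have d3 : H ∣ (X 1 : MvPolynomial (Fin 2) k) ^ i1 := a1.dvd
    exact not_X0_dvd_X1 (hp0.dvd_of_dvd_pow (d1.trans (d2.trans d3)))

theorem main {k : Type u} [Field k] [IsAlgClosed k] {n : ℕ} (F : Fin n → MvPolynomial (Fin 2) k)
    (d : Fin n → ℕ) (hF : ∀ i, (F i).IsHomogeneous (d i)) :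
    (∃ H : MvPolynomial (Fin 2) k, ¬ IsUnit H ∧ ∀ i, H ∣ F i) ↔
      ∃ a : Fin 2 → k, a ≠ 0 ∧ ∀ i, MvPolynomial.eval a (F i) = 0 := by
  constructor
  · rintro ⟨H, hH, hdvd⟩
    by_contra hno
    push_neg at hno
    apply hH
    set I : Ideal (MvPolynomial (Fin 2) k) := Ideal.span (Set.range F) with hIdef
    have hI : I ≤ Ideal.span {H} := by
      apply Ideal.span_le.mpr
      rintro _ ⟨i, rfl⟩
      exact Ideal.mem_span_singleton.mpr (hdvd i)
    have hX : ∀ j : Fin 2, ∃ N : ℕ, H ∣ (X j : MvPolynomial (Fin 2) k) ^ N := by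
      intro j
      have hmem : (X j : MvPolynomial (Fin 2) k) ∈ vanishingIdeal k (zeroLocus k I) := by
        intro x hx
        have hx0 : x = 0 := by
          by_contra hne
          obtain ⟨i, hi⟩ := hno x hne
          exact hi (hx (F i) (Ideal.subset_span ⟨i, rfl⟩))
        rw [hx0, aeval_X]
        rfl
      rw [vanishingIdeal_zeroLocus_eq_radical] at hmem
      obtain ⟨N, hN⟩ := hmem
      exact ⟨N, Ideal.mem_span_singleton.mp (hI hN)⟩
    obtain ⟨N0, h0⟩ := hX 0
    obtain ⟨N1, h1⟩ := hX 1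
    exact isUnit_of_dvd_pows H N0 N1 h0 h1
  · rintro ⟨a, ha, hz⟩
    exact ⟨Hlin a, Hlin_not_isUnit a, fun i => Hlin_dvd a ha (F i) (d i) (hF i) (hz i)⟩

end Groth.Agent.Lib.BinForm
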