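import Mathlib
import Groth.Agent.Lib.BinForm_lead

set_option autoImplicit false
universe u

namespace Groth.Agent.Lib.BinForm

open MvPolynomial

variable {k : Type u} [Field k]

theorem comp_mul {σ : Type*} [DecidableEq σ] (F G : MvPolynomial σ k) (d m : ℕ)
    (hF : F.IsHomogeneous d) (hdm : d ≤ m) :
    homogeneousComponent m (F * G) = F * homogeneousComponent (m - d) G := by
  ext e
  rw [coeff_homogeneousComponent, coeff_mul, coeff_mul]
  split_ifs with he
  · refine Finset.sum_congr rfl (fun x hx => ?_)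
    rw [coeff_homogeneousComponent]
    by_cases hc : coeff x.1 F = 0
    · rw [hc, zero_mul, zero_mul]
    · have hd1 : x.1.degree = d := by
        rw [Finsupp.degree_eq_weight_one]; exact hF hc
      have hsum : x.1 + x.2 = e := Finset.HasAntidiagonal.mem_antidiagonal.mp hx
      have h2 : x.2.degree = m - d := by
        have := congrArg (fun z => Finsupp.degree z) hsum
        simp only [map_add] at this
        omega
      rw [if_pos h2]
  · symm
    refine Finset.sum_eq_zero (fun x hx => ?_)
    rw [coeff_homogeneousComponent]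
    by_cases hc : coeff x.1 F = 0
    · rw [hc, zero_mul]
    · have hd1 : x.1.degree = d := by
        rw [Finsupp.degree_eq_weight_one]; exact hF hc
      have hsum : x.1 + x.2 = e := Finset.HasAntidiagonal.mem_antidiagonal.mp hx
      have h2 : x.2.degree ≠ m - d := by
        intro h2
        apply he
        have := congrArg (fun z => Finsupp.degree z) hsum
        simp only [map_add] at this
        omega
      rw [if_neg h2, mul_zero]

theorem exists_pow_mem [IsAlgClosed k] {n : ℕ} (F : Fin n → MvPolynomial (Fin 2) k)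
    (hno : ∀ a : Fin 2 → k, a ≠ 0 → ∃ i, eval a (F i) ≠ 0) (j : Fin 2) :
    ∃ N : ℕ, (X j : MvPolynomial (Fin 2) k) ^ N ∈ Ideal.span (Set.range F) := by
  have hmem : (X j : MvPolynomial (Fin 2) k) ∈
      vanishingIdeal k (zeroLocus k (Ideal.span (Set.range F))) := by
    intro x hx
    have hx0 : x = 0 := by
      by_contra hne
      obtain ⟨i, hi⟩ := hno x hne
      exact hi (hx (F i) (Ideal.subset_span ⟨i, rfl⟩))
    rw [hx0, aeval_X]
    rfl
  rw [vanishingIdeal_zeroLocus_eq_radical] at hmem
  obtain ⟨N, hN⟩ := hmem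
  exact ⟨N, hN⟩

theorem monomial_mem {I : Ideal (MvPolynomial (Fin 2) k)} {j : Fin 2} {N : ℕ}
    (hN : (X j : MvPolynomial (Fin 2) k) ^ N ∈ I) (e : Fin 2 →₀ ℕ) (c : k) (he : N ≤ e j) :
    monomial e c ∈ I := by
  have hle : Finsupp.single j N ≤ e := Finsupp.single_le_iff.mpr he
  have h : monomial e c = monomial (e - Finsupp.single j N) c * X j ^ N := by
    rw [X_pow_eq_monomial, monomial_mul, mul_one, tsub_add_cancel_of_le hle]
  rw [h]
  exact I.mul_mem_left _ hN

theorem main2 {k : Type u} [Field k] [IsAlgClosed k] {n : ℕ}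
    (F : Fin n → MvPolynomial (Fin 2) k)
    (d : ℕ) (hF : ∀ i, (F i).IsHomogeneous d) :
    (¬ ∃ H : MvPolynomial (Fin 2) k, ¬ IsUnit H ∧ ∀ i, H ∣ F i) ↔
      ∃ m : ℕ, d ≤ m ∧ ∀ P : MvPolynomial (Fin 2) k, P.IsHomogeneous m →
        ∃ G : Fin n → MvPolynomial (Fin 2) k, (∀ i, (G i).IsHomogeneous (m - d)) ∧
          P = ∑ i, F i * G i := by
  rw [main F (fun _ => d) hF]
  constructor
  · intro hno
    have hno' : ∀ a : Fin 2 → k, a ≠ 0 → ∃ i, eval a (F i) ≠ 0 := by
      intro a ha
      by_contra hcon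
      push_neg at hcon
      exact hno ⟨a, ha, hcon⟩
    obtain ⟨N0, h0⟩ := exists_pow_mem F hno' 0
    obtain ⟨N1, h1⟩ := exists_pow_mem F hno' 1
    refine ⟨d + (N0 + N1), Nat.le_add_right _ _, fun P hP => ?_⟩
    have hPI : P ∈ Ideal.span (Set.range F) := by
      rw [← support_sum_monomial_coeff P]
      refine Ideal.sum_mem _ (fun e he => ?_)
      have hsum : ∑ i, e i = d + (N0 + N1) := sum_eq_of_hom hP he
      rw [Fin.sum_univ_two] at hsum
      by_cases hc : N0 ≤ e 0
      · exact monomial_mem h0 e _ hc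
      · exact monomial_mem h1 e _ (by omega)
    obtain ⟨c, hc⟩ := (Submodule.mem_span_range_iff_exists_fun (MvPolynomial (Fin 2) k)).mp hPI
    refine ⟨fun i => homogeneousComponent (d + (N0 + N1) - d) (c i),
      fun i => homogeneousComponent_isHomogeneous _ _, ?_⟩
    have hPm : P ∈ homogeneousSubmodule (Fin 2) k (d + (N0 + N1)) := hP
    have hP' : homogeneousComponent (d + (N0 + N1)) P = P := by
      rw [homogeneousComponent_of_mem hPm, if_pos rfl]
    rw [← hP', ← hc, map_sum]
    refine Finset.sum_congr rfl (fun i _ => ?_)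
    show homogeneousComponent (d + (N0 + N1)) (c i • F i) =
      F i * homogeneousComponent (d + (N0 + N1) - d) (c i)
    rw [smul_eq_mul, mul_comm (c i) (F i), comp_mul (F i) (c i) d _ (hF i) (Nat.le_add_right _ _)]
  · rintro ⟨m, hdm, hall⟩ ⟨a, ha, hz⟩
    obtain ⟨j, hj⟩ : ∃ j, a j ≠ 0 := by
      by_contra hcon
      push_neg at hcon
      exact ha (funext hcon)
    have hXm : (X j ^ m : MvPolynomial (Fin 2) k).IsHomogeneous m := by
      have := (isHomogeneous_X (R := k) j).pow m
      rwa [one_mul] at this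
    obtain ⟨G, -, hG⟩ := hall _ hXm
    have h := congrArg (eval a) hG
    rw [map_pow, eval_X, map_sum] at h
    have hzero : ∑ i, eval a (F i * G i) = 0 := by
      refine Finset.sum_eq_zero (fun i _ => ?_)
      rw [map_mul, hz i, zero_mul]
    rw [hzero] at h
    exact pow_ne_zero m hj h

end Groth.Agent.Lib.BinForm
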