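import Mathlib
import Groth.Prelude.Def_W4c6intromoduliQuartic
import Groth.Agent.S19391

set_option autoImplicit false
set_option linter.unusedVariables false
set_option linter.unusedTactic false
set_option linter.unreachableTactic false
set_option linter.unusedSectionVars false
set_option maxHeartbeats 1600000

universe u

namespace Groth.Agent.Lib.BinQuarticH4

section Coef

variable {R : Type u} [CommRing R]

lemma rootPoly_eq (la mu : Fin 4 → R) : W4c6intromoduli.rootPoly la mu =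
      Polynomial.C (mu 0 * mu 1 * mu 2 * mu 3)
      + Polynomial.C (-(la 0 * mu 1 * mu 2 * mu 3 + mu 0 * la 1 * mu 2 * mu 3
          + mu 0 * mu 1 * la 2 * mu 3 + mu 0 * mu 1 * mu 2 * la 3)) * Polynomial.X
      + Polynomial.C (la 0 * la 1 * mu 2 * mu 3 + la 0 * mu 1 * la 2 * mu 3
          + la 0 * mu 1 * mu 2 * la 3 + mu 0 * la 1 * la 2 * mu 3 + mu 0 * la 1 * mu 2 * la 3
          + mu 0 * mu 1 * la 2 * la 3) * Polynomial.X ^ 2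
      + Polynomial.C (-(la 0 * la 1 * la 2 * mu 3 + la 0 * la 1 * mu 2 * la 3
          + la 0 * mu 1 * la 2 * la 3 + mu 0 * la 1 * la 2 * la 3)) * Polynomial.X ^ 3
      + Polynomial.C (la 0 * la 1 * la 2 * la 3) * Polynomial.X ^ 4 := by
  unfold W4c6intromoduli.rootPoly
  rw [Fin.prod_univ_four]
  simp only [map_add, map_mul, map_neg]
  ring

lemma hcoef0 (a0 a1 a2 a3 a4 : R) : (Polynomial.C a0 + Polynomial.C a1 * Polynomial.X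
      + Polynomial.C a2 * Polynomial.X ^ 2 + Polynomial.C a3 * Polynomial.X ^ 3
      + Polynomial.C a4 * Polynomial.X ^ 4).coeff 0 = a0 := by
  simp [Polynomial.coeff_X, Polynomial.coeff_X_pow, Polynomial.coeff_C]

lemma hcoef1 (a0 a1 a2 a3 a4 : R) : (Polynomial.C a0 + Polynomial.C a1 * Polynomial.X
      + Polynomial.C a2 * Polynomial.X ^ 2 + Polynomial.C a3 * Polynomial.X ^ 3
      + Polynomial.C a4 * Polynomial.X ^ 4).coeff 1 = a1 := by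
  simp [Polynomial.coeff_X, Polynomial.coeff_X_pow, Polynomial.coeff_C]

lemma hcoef2 (a0 a1 a2 a3 a4 : R) : (Polynomial.C a0 + Polynomial.C a1 * Polynomial.X
      + Polynomial.C a2 * Polynomial.X ^ 2 + Polynomial.C a3 * Polynomial.X ^ 3
      + Polynomial.C a4 * Polynomial.X ^ 4).coeff 2 = a2 := by
  simp [Polynomial.coeff_X, Polynomial.coeff_X_pow, Polynomial.coeff_C]

lemma hcoef3 (a0 a1 a2 a3 a4 : R) : (Polynomial.C a0 + Polynomial.C a1 * Polynomial.X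
      + Polynomial.C a2 * Polynomial.X ^ 2 + Polynomial.C a3 * Polynomial.X ^ 3
      + Polynomial.C a4 * Polynomial.X ^ 4).coeff 3 = a3 := by
  simp [Polynomial.coeff_X, Polynomial.coeff_X_pow, Polynomial.coeff_C]

lemma hcoef4 (a0 a1 a2 a3 a4 : R) : (Polynomial.C a0 + Polynomial.C a1 * Polynomial.X
      + Polynomial.C a2 * Polynomial.X ^ 2 + Polynomial.C a3 * Polynomial.X ^ 3
      + Polynomial.C a4 * Polynomial.X ^ 4).coeff 4 = a4 := by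
  simp [Polynomial.coeff_X, Polynomial.coeff_X_pow, Polynomial.coeff_C]

lemma coef0 (la mu : Fin 4 → R) : W4c6intromoduli.coef la mu 0 = mu 0 * mu 1 * mu 2 * mu 3 := by
  unfold W4c6intromoduli.coef
  rw [rootPoly_eq]
  exact hcoef0 _ _ _ _ _

lemma coef1 (la mu : Fin 4 → R) : W4c6intromoduli.coef la mu 1 =
    -(la 0 * mu 1 * mu 2 * mu 3 + mu 0 * la 1 * mu 2 * mu 3
          + mu 0 * mu 1 * la 2 * mu 3 + mu 0 * mu 1 * mu 2 * la 3) := by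
  unfold W4c6intromoduli.coef
  rw [rootPoly_eq]
  exact hcoef1 _ _ _ _ _

lemma coef2 (la mu : Fin 4 → R) : W4c6intromoduli.coef la mu 2 =
    la 0 * la 1 * mu 2 * mu 3 + la 0 * mu 1 * la 2 * mu 3
          + la 0 * mu 1 * mu 2 * la 3 + mu 0 * la 1 * la 2 * mu 3 + mu 0 * la 1 * mu 2 * la 3
          + mu 0 * mu 1 * la 2 * la 3 := by
  unfold W4c6intromoduli.coef
  rw [rootPoly_eq]
  exact hcoef2 _ _ _ _ _

lemma coef3 (la mu : Fin 4 → R) : W4c6intromoduli.coef la mu 3 =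
    -(la 0 * la 1 * la 2 * mu 3 + la 0 * la 1 * mu 2 * la 3
          + la 0 * mu 1 * la 2 * la 3 + mu 0 * la 1 * la 2 * la 3) := by
  unfold W4c6intromoduli.coef
  rw [rootPoly_eq]
  exact hcoef3 _ _ _ _ _

lemma coef4 (la mu : Fin 4 → R) : W4c6intromoduli.coef la mu 4 = la 0 * la 1 * la 2 * la 3 := by
  unfold W4c6intromoduli.coef
  rw [rootPoly_eq]
  exact hcoef4 _ _ _ _ _

lemma disc_eq0 (la mu : Fin 4 → R) : W4c6intromoduli.disc la mu =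
      (la 1 * mu 0 - la 0 * mu 1) ^ 2 * (la 2 * mu 0 - la 0 * mu 2) ^ 2
      * (la 3 * mu 0 - la 0 * mu 3) ^ 2 * (la 2 * mu 1 - la 1 * mu 2) ^ 2
      * (la 3 * mu 1 - la 1 * mu 3) ^ 2 * (la 3 * mu 2 - la 2 * mu 3) ^ 2 := by
  unfold W4c6intromoduli.disc
  rw [Finset.prod_filter, Fintype.prod_prod_type]
  simp [Fin.prod_univ_four]
  ring

lemma invI_eq (la mu : Fin 4 → R) :
    W4c6intromoduli.invI (W4c6intromoduli.coef la mu) =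
      ((la 0 * mu 1 - la 1 * mu 0) * (la 2 * mu 3 - la 3 * mu 2)) ^ 2
      - ((la 0 * mu 1 - la 1 * mu 0) * (la 2 * mu 3 - la 3 * mu 2))
        * ((la 0 * mu 2 - la 2 * mu 0) * (la 1 * mu 3 - la 3 * mu 1))
      + ((la 0 * mu 2 - la 2 * mu 0) * (la 1 * mu 3 - la 3 * mu 1)) ^ 2 := by
  unfold W4c6intromoduli.invI
  rw [coef0 la mu, coef1 la mu, coef2 la mu, coef3 la mu, coef4 la mu]
  ring

lemma disc_eq (la mu : Fin 4 → R) :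
    W4c6intromoduli.disc la mu =
      ((la 0 * mu 1 - la 1 * mu 0) * (la 2 * mu 3 - la 3 * mu 2)) ^ 2
      * ((la 0 * mu 2 - la 2 * mu 0) * (la 1 * mu 3 - la 3 * mu 1)) ^ 2
      * (((la 0 * mu 2 - la 2 * mu 0) * (la 1 * mu 3 - la 3 * mu 1))
          - ((la 0 * mu 1 - la 1 * mu 0) * (la 2 * mu 3 - la 3 * mu 2))) ^ 2 := by
  rw [disc_eq0 la mu]
  ring

end Coef

variable {k : Type u} [Field k]

lemma brackets (la mu : Fin 4 → k) (hd : W4c6intromoduli.disc la mu ≠ 0) :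
    la 0 * mu 1 ≠ la 1 * mu 0 ∧ la 0 * mu 2 ≠ la 2 * mu 0 ∧ la 0 * mu 3 ≠ la 3 * mu 0 ∧
    la 1 * mu 2 ≠ la 2 * mu 1 ∧ la 1 * mu 3 ≠ la 3 * mu 1 ∧ la 2 * mu 3 ≠ la 3 * mu 2 := by
  refine ⟨?_, ?_, ?_, ?_, ?_, ?_⟩
  all_goals (intro e; apply hd; rw [disc_eq0, e]; ring)

/-- the linear form `m X₀ - l X₁` with root point `(l, m)` -/
noncomputable def L (l m : k) : MvPolynomial (Fin 2) k :=
  MvPolynomial.C m * MvPolynomial.X 0 - MvPolynomial.C l * MvPolynomial.X 1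

lemma binForm_eq (la mu : Fin 4 → k) : W4c6intromoduli.binForm la mu =
    L (la 0) (mu 0) * L (la 1) (mu 1) * L (la 2) (mu 2) * L (la 3) (mu 3) :=
  Fin.prod_univ_four (fun i => L (la i) (mu i))

lemma L_congr {a a' b b' : k} (h1 : a = a') (h2 : b = b') : L a b = L a' b' := by
  rw [h1, h2]

lemma L_smul (c l m : k) : L (c * l) (c * m) = MvPolynomial.C c * L l m := by
  unfold L
  simp only [map_mul]
  ring

lemma subst_L (M : Matrix (Fin 2) (Fin 2) k) (l m : k) :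
    W4c6intromoduli.subst M (L l m) = L (l * M 1 1 - m * M 0 1) (m * M 0 0 - l * M 1 0) := by
  unfold W4c6intromoduli.subst L
  simp only [map_sub, map_mul, MvPolynomial.aeval_C, MvPolynomial.aeval_X, Fin.sum_univ_two,
    MvPolynomial.algebraMap_eq]
  ring

lemma subst_L' (x y z w l m : k) :
    W4c6intromoduli.subst (!![x, y; z, w] : Matrix (Fin 2) (Fin 2) k) (L l m)
      = L (l * w - m * y) (m * x - l * z) :=
  subst_L _ l m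

lemma div_helper (d x y : k) (hd : d ≠ 0) (h : d * x = y) : x = y * d⁻¹ := by
  rw [← h, mul_comm d x, mul_assoc, mul_inv_cancel₀ hd, mul_one]

lemma assemble (f : MvPolynomial (Fin 2) k →ₐ[k] MvPolynomial (Fin 2) k)
    (A0 A1 A2 A3 B0 B1 B2 B3 : MvPolynomial (Fin 2) k) (c0 c1 c2 c3 : k)
    (h0 : c0 ≠ 0) (h1 : c1 ≠ 0) (h2 : c2 ≠ 0) (h3 : c3 ≠ 0)
    (e0 : f A0 = MvPolynomial.C c0 * B0) (e1 : f A1 = MvPolynomial.C c1 * B1)
    (e2 : f A2 = MvPolynomial.C c2 * B2) (e3 : f A3 = MvPolynomial.C c3 * B3) :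
    B0 * B1 * B2 * B3 = MvPolynomial.C (c0 * c1 * c2 * c3)⁻¹ * f (A0 * A1 * A2 * A3) := by
  have hc : c0 * c1 * c2 * c3 ≠ 0 := mul_ne_zero (mul_ne_zero (mul_ne_zero h0 h1) h2) h3
  have hC : MvPolynomial.C (c0 * c1 * c2 * c3)⁻¹ * (MvPolynomial.C c0 * MvPolynomial.C c1
      * MvPolynomial.C c2 * MvPolynomial.C c3) = (1 : MvPolynomial (Fin 2) k) := by
    rw [← MvPolynomial.C_mul, ← MvPolynomial.C_mul, ← MvPolynomial.C_mul, ← MvPolynomial.C_mul,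
      inv_mul_cancel₀ hc, MvPolynomial.C_1]
  rw [map_mul, map_mul, map_mul, e0, e1, e2, e3]
  linear_combination (-(B0 * B1 * B2 * B3)) * hC

lemma alg1 (I J D I' J' D' : k) (h27 : (27 : k) ≠ 0) (r : 27 * D = 4 * I ^ 3 - J ^ 2)
    (r' : 27 * D' = 4 * I' ^ 3 - J' ^ 2) (h : I ^ 3 * J' ^ 2 = I' ^ 3 * J ^ 2) :
    I ^ 3 * D' = I' ^ 3 * D := by
  apply mul_left_cancel₀ h27
  linear_combination (I ^ 3) * r' - (I' ^ 3) * r - h

lemma alg2 (P Q P' Q' : k)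
    (h : (P ^ 2 - P * Q + Q ^ 2) ^ 3 * (P' ^ 2 * Q' ^ 2 * (Q' - P') ^ 2)
      = (P' ^ 2 - P' * Q' + Q' ^ 2) ^ 3 * (P ^ 2 * Q ^ 2 * (Q - P) ^ 2)) :
    P' * Q - P * Q' = 0 ∨ P' * Q - (Q - P) * Q' = 0 ∨ P' * P - Q * Q' = 0 ∨
      P' * (Q - P) - Q * Q' = 0 ∨ P' * P + (Q - P) * Q' = 0 ∨ P' * (Q - P) + P * Q' = 0 := by
  have hprod : (P' * Q - P * Q') * (P' * Q - (Q - P) * Q') * (P' * P - Q * Q')
      * (P' * (Q - P) - Q * Q') * (P' * P + (Q - P) * Q') * (P' * (Q - P) + P * Q') = 0 := by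
    linear_combination (-1 : k) * h
  rcases mul_eq_zero.mp hprod with t5 | h6
  · rcases mul_eq_zero.mp t5 with t4 | h5
    · rcases mul_eq_zero.mp t4 with t3 | h4
      · rcases mul_eq_zero.mp t3 with t2 | h3
        · rcases mul_eq_zero.mp t2 with h1 | h2
          · exact Or.inl h1
          · exact Or.inr (Or.inl h2)
        · exact Or.inr (Or.inr (Or.inl h3))
      · exact Or.inr (Or.inr (Or.inr (Or.inl h4)))
    · exact Or.inr (Or.inr (Or.inr (Or.inr (Or.inl h5))))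
  · exact Or.inr (Or.inr (Or.inr (Or.inr (Or.inr h6))))

theorem core (l0 m0 l1 m1 l2 m2 l3 m3 p0 q0 p1 q1 p2 q2 p3 q3 : k)
    (h01 : l0 * m1 ≠ l1 * m0) (h02 : l0 * m2 ≠ l2 * m0)
    (h12 : l1 * m2 ≠ l2 * m1) (h13 : l1 * m3 ≠ l3 * m1)
    (g01 : p0 * q1 ≠ p1 * q0) (g02 : p0 * q2 ≠ p2 * q0)
    (g12 : p1 * q2 ≠ p2 * q1) (g13 : p1 * q3 ≠ p3 * q1)
    (hx : (l0 * m1 - l1 * m0) * (l2 * m3 - l3 * m2) * ((p0 * q2 - p2 * q0) * (p1 * q3 - p3 * q1)) = (p0 * q1 - p1 * q0) * (p2 * q3 - p3 * q2) * ((l0 * m2 - l2 * m0) * (l1 * m3 - l3 * m1))) :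
    ∃ (M : Matrix (Fin 2) (Fin 2) k) (c : k), IsUnit M.det ∧ c ≠ 0 ∧
      L p0 q0 * L p1 q1 * L p2 q2 * L p3 q3 =
        MvPolynomial.C c * W4c6intromoduli.subst M (L l0 m0 * L l1 m1 * L l2 m2 * L l3 m3) := by
  have b01 : (l0 * m1 - l1 * m0) ≠ 0 := sub_ne_zero.mpr h01
  have b02 : (l0 * m2 - l2 * m0) ≠ 0 := sub_ne_zero.mpr h02
  have b21 : (l2 * m1 - l1 * m2) ≠ 0 := sub_ne_zero.mpr (Ne.symm h12)
  have b31 : (l3 * m1 - l1 * m3) ≠ 0 := sub_ne_zero.mpr (Ne.symm h13)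
  have c01 : (p0 * q1 - p1 * q0) ≠ 0 := sub_ne_zero.mpr g01
  have c02 : (p0 * q2 - p2 * q0) ≠ 0 := sub_ne_zero.mpr g02
  have c21 : (p2 * q1 - p1 * q2) ≠ 0 := sub_ne_zero.mpr (Ne.symm g12)
  have c31 : (p3 * q1 - p1 * q3) ≠ 0 := sub_ne_zero.mpr (Ne.symm g13)
  have ha : ((p2 * q1 - p1 * q2) * (l0 * m2 - l2 * m0)) ≠ 0 := mul_ne_zero c21 b02
  have hb : ((p0 * q2 - p2 * q0) * (l2 * m1 - l1 * m2)) ≠ 0 := mul_ne_zero c02 b21
  have hc0 : (((p2 * q1 - p1 * q2) * (l0 * m2 - l2 * m0)) * (l0 * m1 - l1 * m0)) ≠ 0 := mul_ne_zero ha b01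
  have hc1 : (((p0 * q2 - p2 * q0) * (l2 * m1 - l1 * m2)) * (l0 * m1 - l1 * m0)) ≠ 0 := mul_ne_zero hb b01
  have hc2 : ((l2 * m1 - l1 * m2) * (l0 * m2 - l2 * m0) * (p0 * q1 - p1 * q0)) ≠ 0 := mul_ne_zero (mul_ne_zero b21 b02) c01
  have hc3 : (((p2 * q1 - p1 * q2) * (l0 * m2 - l2 * m0) * (l3 * m1 - l1 * m3)) * (p0 * q1 - p1 * q0) * (p3 * q1 - p1 * q3)⁻¹) ≠ 0 :=
    mul_ne_zero (mul_ne_zero (mul_ne_zero (mul_ne_zero c21 b02) b31) c01) (inv_ne_zero c31)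
  have hdet : (!![(((p0 * q2 - p2 * q0) * (l2 * m1 - l1 * m2)) * l0 * q1 - ((p2 * q1 - p1 * q2) * (l0 * m2 - l2 * m0)) * l1 * q0), -(((p0 * q2 - p2 * q0) * (l2 * m1 - l1 * m2)) * l0 * p1 - ((p2 * q1 - p1 * q2) * (l0 * m2 - l2 * m0)) * l1 * p0); -(((p2 * q1 - p1 * q2) * (l0 * m2 - l2 * m0)) * m1 * q0 - ((p0 * q2 - p2 * q0) * (l2 * m1 - l1 * m2)) * m0 * q1), (((p2 * q1 - p1 * q2) * (l0 * m2 - l2 * m0)) * m1 * p0 - ((p0 * q2 - p2 * q0) * (l2 * m1 - l1 * m2)) * m0 * p1)] : Matrix (Fin 2) (Fin 2) k).det = ((p2 * q1 - p1 * q2) * (l0 * m2 - l2 * m0)) * ((p0 * q2 - p2 * q0) * (l2 * m1 - l1 * m2)) * (l0 * m1 - l1 * m0) * (p0 * q1 - p1 * q0) := by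
    rw [Matrix.det_fin_two_of]; ring
  have e0 : W4c6intromoduli.subst (!![(((p0 * q2 - p2 * q0) * (l2 * m1 - l1 * m2)) * l0 * q1 - ((p2 * q1 - p1 * q2) * (l0 * m2 - l2 * m0)) * l1 * q0), -(((p0 * q2 - p2 * q0) * (l2 * m1 - l1 * m2)) * l0 * p1 - ((p2 * q1 - p1 * q2) * (l0 * m2 - l2 * m0)) * l1 * p0); -(((p2 * q1 - p1 * q2) * (l0 * m2 - l2 * m0)) * m1 * q0 - ((p0 * q2 - p2 * q0) * (l2 * m1 - l1 * m2)) * m0 * q1), (((p2 * q1 - p1 * q2) * (l0 * m2 - l2 * m0)) * m1 * p0 - ((p0 * q2 - p2 * q0) * (l2 * m1 - l1 * m2)) * m0 * p1)] : Matrix (Fin 2) (Fin 2) k) (L l0 m0) = MvPolynomial.C (((p2 * q1 - p1 * q2) * (l0 * m2 - l2 * m0)) * (l0 * m1 - l1 * m0)) * L p0 q0 :=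
    (subst_L' _ _ _ _ l0 m0).trans ((L_congr (by ring) (by ring)).trans (L_smul (((p2 * q1 - p1 * q2) * (l0 * m2 - l2 * m0)) * (l0 * m1 - l1 * m0)) p0 q0))
  have e1 : W4c6intromoduli.subst (!![(((p0 * q2 - p2 * q0) * (l2 * m1 - l1 * m2)) * l0 * q1 - ((p2 * q1 - p1 * q2) * (l0 * m2 - l2 * m0)) * l1 * q0), -(((p0 * q2 - p2 * q0) * (l2 * m1 - l1 * m2)) * l0 * p1 - ((p2 * q1 - p1 * q2) * (l0 * m2 - l2 * m0)) * l1 * p0); -(((p2 * q1 - p1 * q2) * (l0 * m2 - l2 * m0)) * m1 * q0 - ((p0 * q2 - p2 * q0) * (l2 * m1 - l1 * m2)) * m0 * q1), (((p2 * q1 - p1 * q2) * (l0 * m2 - l2 * m0)) * m1 * p0 - ((p0 * q2 - p2 * q0) * (l2 * m1 - l1 * m2)) * m0 * p1)] : Matrix (Fin 2) (Fin 2) k) (L l1 m1) = MvPolynomial.C (((p0 * q2 - p2 * q0) * (l2 * m1 - l1 * m2)) * (l0 * m1 - l1 * m0)) * L p1 q1 :=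
    (subst_L' _ _ _ _ l1 m1).trans ((L_congr (by ring) (by ring)).trans (L_smul (((p0 * q2 - p2 * q0) * (l2 * m1 - l1 * m2)) * (l0 * m1 - l1 * m0)) p1 q1))
  have e2 : W4c6intromoduli.subst (!![(((p0 * q2 - p2 * q0) * (l2 * m1 - l1 * m2)) * l0 * q1 - ((p2 * q1 - p1 * q2) * (l0 * m2 - l2 * m0)) * l1 * q0), -(((p0 * q2 - p2 * q0) * (l2 * m1 - l1 * m2)) * l0 * p1 - ((p2 * q1 - p1 * q2) * (l0 * m2 - l2 * m0)) * l1 * p0); -(((p2 * q1 - p1 * q2) * (l0 * m2 - l2 * m0)) * m1 * q0 - ((p0 * q2 - p2 * q0) * (l2 * m1 - l1 * m2)) * m0 * q1), (((p2 * q1 - p1 * q2) * (l0 * m2 - l2 * m0)) * m1 * p0 - ((p0 * q2 - p2 * q0) * (l2 * m1 - l1 * m2)) * m0 * p1)] : Matrix (Fin 2) (Fin 2) k) (L l2 m2) = MvPolynomial.C ((l2 * m1 - l1 * m2) * (l0 * m2 - l2 * m0) * (p0 * q1 - p1 * q0)) * L p2 q2 :=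
    (subst_L' _ _ _ _ l2 m2).trans ((L_congr (by ring) (by ring)).trans (L_smul ((l2 * m1 - l1 * m2) * (l0 * m2 - l2 * m0) * (p0 * q1 - p1 * q0)) p2 q2))
  have key1 : (p3 * q1 - p1 * q3) * (l3 * (((p2 * q1 - p1 * q2) * (l0 * m2 - l2 * m0)) * m1 * p0 - ((p0 * q2 - p2 * q0) * (l2 * m1 - l1 * m2)) * m0 * p1) - m3 * (-(((p0 * q2 - p2 * q0) * (l2 * m1 - l1 * m2)) * l0 * p1 - ((p2 * q1 - p1 * q2) * (l0 * m2 - l2 * m0)) * l1 * p0))) = ((p2 * q1 - p1 * q2) * (l0 * m2 - l2 * m0) * (l3 * m1 - l1 * m3)) * (p0 * q1 - p1 * q0) * p3 := by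
    first | linear_combination (-p1) * hx | linear_combination (p1) * hx
  have key2 : (p3 * q1 - p1 * q3) * (m3 * (((p0 * q2 - p2 * q0) * (l2 * m1 - l1 * m2)) * l0 * q1 - ((p2 * q1 - p1 * q2) * (l0 * m2 - l2 * m0)) * l1 * q0) - l3 * (-(((p2 * q1 - p1 * q2) * (l0 * m2 - l2 * m0)) * m1 * q0 - ((p0 * q2 - p2 * q0) * (l2 * m1 - l1 * m2)) * m0 * q1))) = ((p2 * q1 - p1 * q2) * (l0 * m2 - l2 * m0) * (l3 * m1 - l1 * m3)) * (p0 * q1 - p1 * q0) * q3 := by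
    first | linear_combination (-q1) * hx | linear_combination (q1) * hx
  have hl3 : (l3 * (((p2 * q1 - p1 * q2) * (l0 * m2 - l2 * m0)) * m1 * p0 - ((p0 * q2 - p2 * q0) * (l2 * m1 - l1 * m2)) * m0 * p1) - m3 * (-(((p0 * q2 - p2 * q0) * (l2 * m1 - l1 * m2)) * l0 * p1 - ((p2 * q1 - p1 * q2) * (l0 * m2 - l2 * m0)) * l1 * p0))) = (((p2 * q1 - p1 * q2) * (l0 * m2 - l2 * m0) * (l3 * m1 - l1 * m3)) * (p0 * q1 - p1 * q0) * (p3 * q1 - p1 * q3)⁻¹) * p3 := (div_helper _ _ _ c31 key1).trans (by ring)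
  have hm3 : (m3 * (((p0 * q2 - p2 * q0) * (l2 * m1 - l1 * m2)) * l0 * q1 - ((p2 * q1 - p1 * q2) * (l0 * m2 - l2 * m0)) * l1 * q0) - l3 * (-(((p2 * q1 - p1 * q2) * (l0 * m2 - l2 * m0)) * m1 * q0 - ((p0 * q2 - p2 * q0) * (l2 * m1 - l1 * m2)) * m0 * q1))) = (((p2 * q1 - p1 * q2) * (l0 * m2 - l2 * m0) * (l3 * m1 - l1 * m3)) * (p0 * q1 - p1 * q0) * (p3 * q1 - p1 * q3)⁻¹) * q3 := (div_helper _ _ _ c31 key2).trans (by ring)
  have e3 : W4c6intromoduli.subst (!![(((p0 * q2 - p2 * q0) * (l2 * m1 - l1 * m2)) * l0 * q1 - ((p2 * q1 - p1 * q2) * (l0 * m2 - l2 * m0)) * l1 * q0), -(((p0 * q2 - p2 * q0) * (l2 * m1 - l1 * m2)) * l0 * p1 - ((p2 * q1 - p1 * q2) * (l0 * m2 - l2 * m0)) * l1 * p0); -(((p2 * q1 - p1 * q2) * (l0 * m2 - l2 * m0)) * m1 * q0 - ((p0 * q2 - p2 * q0) * (l2 * m1 - l1 * m2)) * m0 * q1), (((p2 * q1 - p1 * q2) * (l0 * m2 - l2 * m0)) * m1 * p0 - ((p0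 * q2 - p2 * q0) * (l2 * m1 - l1 * m2)) * m0 * p1)] : Matrix (Fin 2) (Fin 2) k) (L l3 m3) = MvPolynomial.C (((p2 * q1 - p1 * q2) * (l0 * m2 - l2 * m0) * (l3 * m1 - l1 * m3)) * (p0 * q1 - p1 * q0) * (p3 * q1 - p1 * q3)⁻¹) * L p3 q3 :=
    (subst_L' _ _ _ _ l3 m3).trans ((L_congr hl3 hm3).trans (L_smul (((p2 * q1 - p1 * q2) * (l0 * m2 - l2 * m0) * (l3 * m1 - l1 * m3)) * (p0 * q1 - p1 * q0) * (p3 * q1 - p1 * q3)⁻¹) p3 q3))
  refine ⟨(!![(((p0 * q2 - p2 * q0) * (l2 * m1 - l1 * m2)) * l0 * q1 - ((p2 * q1 - p1 * q2) * (l0 * m2 - l2 * m0)) * l1 * q0), -(((p0 * q2 - p2 * q0) * (l2 * m1 - l1 * m2)) * l0 * p1 - ((p2 * q1 - p1 * q2) * (l0 * m2 - l2 * m0)) * l1 * p0); -(((p2 * q1 - p1 * q2) * (l0 * m2 - l2 * m0)) * m1 * q0 - ((p0 * q2 - p2 * q0) * (l2 * m1 - l1 * m2)) * m0 * q1), (((p2 * q1 - p1 * q2) * (l0 * m2 - l2 * m0)) * m1 * p0 - ((p0 * q2 - p2 * q0) * (l2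 * m1 - l1 * m2)) * m0 * p1)] : Matrix (Fin 2) (Fin 2) k), ((((p2 * q1 - p1 * q2) * (l0 * m2 - l2 * m0)) * (l0 * m1 - l1 * m0)) * (((p0 * q2 - p2 * q0) * (l2 * m1 - l1 * m2)) * (l0 * m1 - l1 * m0)) * ((l2 * m1 - l1 * m2) * (l0 * m2 - l2 * m0) * (p0 * q1 - p1 * q0)) * (((p2 * q1 - p1 * q2) * (l0 * m2 - l2 * m0) * (l3 * m1 - l1 * m3)) * (p0 * q1 - p1 * q0) * (p3 * q1 - p1 * q3)⁻¹))⁻¹, ?_, ?_, ?_⟩
  · rw [hdet]
    exact (mul_ne_zero (mul_ne_zero (mul_ne_zero ha hb) b01) c01).isUnit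
  · exact inv_ne_zero (mul_ne_zero (mul_ne_zero (mul_ne_zero hc0 hc1) hc2) hc3)
  · exact assemble _ _ _ _ _ _ _ _ _ _ _ _ _ hc0 hc1 hc2 hc3 e0 e1 e2 e3

theorem main19393 (h3 : (3 : k) ≠ 0) (la mu la' mu' : Fin 4 → k)
    (hd : W4c6intromoduli.disc la mu ≠ 0) (hd' : W4c6intromoduli.disc la' mu' ≠ 0)
    (h : W4c6intromoduli.invI (W4c6intromoduli.coef la mu) ^ 3
          * W4c6intromoduli.invJ (W4c6intromoduli.coef la' mu') ^ 2 =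
        W4c6intromoduli.invI (W4c6intromoduli.coef la' mu') ^ 3
          * W4c6intromoduli.invJ (W4c6intromoduli.coef la mu) ^ 2) :
    ∃ (M : Matrix (Fin 2) (Fin 2) k) (c : k), IsUnit M.det ∧ c ≠ 0 ∧
      W4c6intromoduli.binForm la' mu' =
        MvPolynomial.C c * W4c6intromoduli.subst M (W4c6intromoduli.binForm la mu) := by
  obtain ⟨h01, h02, h03, h12, h13, h23⟩ := brackets la mu hd
  obtain ⟨g01, g02, g03, g12, g13, g23⟩ := brackets la' mu' hd'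
  obtain ⟨P, hP⟩ : ∃ P : k, P = ((la 0 * mu 1 - la 1 * mu 0) * (la 2 * mu 3 - la 3 * mu 2)) := ⟨_, rfl⟩
  obtain ⟨Q, hQ⟩ : ∃ Q : k, Q = ((la 0 * mu 2 - la 2 * mu 0) * (la 1 * mu 3 - la 3 * mu 1)) := ⟨_, rfl⟩
  obtain ⟨P', hP'⟩ : ∃ P' : k, P' = ((la' 0 * mu' 1 - la' 1 * mu' 0) * (la' 2 * mu' 3 - la' 3 * mu' 2)) := ⟨_, rfl⟩
  obtain ⟨Q', hQ'⟩ : ∃ Q' : k, Q' = ((la' 0 * mu' 2 - la' 2 * mu' 0) * (la' 1 * mu' 3 - la' 3 * mu' 1)) := ⟨_, rfl⟩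
  have hI : W4c6intromoduli.invI (W4c6intromoduli.coef la mu) = P ^ 2 - P * Q + Q ^ 2 := by
    rw [hP, hQ]; exact invI_eq la mu
  have hI' : W4c6intromoduli.invI (W4c6intromoduli.coef la' mu') = P' ^ 2 - P' * Q' + Q' ^ 2 := by
    rw [hP', hQ']; exact invI_eq la' mu'
  have hD : W4c6intromoduli.disc la mu = P ^ 2 * Q ^ 2 * (Q - P) ^ 2 := by
    rw [hP, hQ]; exact disc_eq la mu
  have hD' : W4c6intromoduli.disc la' mu' = P' ^ 2 * Q' ^ 2 * (Q' - P') ^ 2 := by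
    rw [hP', hQ']; exact disc_eq la' mu'
  have h27 : (27 : k) ≠ 0 := by
    have e : (27 : k) = 3 ^ 3 := by norm_num
    rw [e]; exact pow_ne_zero 3 h3
  have r := Groth.Agent.S19391.result k la mu
  have r' := Groth.Agent.S19391.result k la' mu'
  have hID := alg1 _ _ _ _ _ _ h27 r r' h
  rw [hI, hI', hD, hD'] at hID
  rcases alg2 P Q P' Q' hID with c1 | c2 | c3 | c4 | c5 | c6
  · obtain ⟨M, c, hM, hc, e⟩ := core (la 0) (mu 0) (la 1) (mu 1) (la 2) (mu 2) (la 3) (mu 3)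
        (la' 0) (mu' 0) (la' 1) (mu' 1) (la' 2) (mu' 2) (la' 3) (mu' 3)
        h01 h02 h12 h13 g01 g02 g12 g13
        (by rw [hP, hQ, hP', hQ'] at c1; first | linear_combination c1 | linear_combination (-1 : k) * c1)
    exact ⟨M, c, hM, hc, by rw [binForm_eq la' mu', binForm_eq la mu]; exact e⟩
  · obtain ⟨M, c, hM, hc, e⟩ := core (la 0) (mu 0) (la 1) (mu 1) (la 2) (mu 2) (la 3) (mu 3)
        (la' 0) (mu' 0) (la' 3) (mu' 3) (la' 2) (mu' 2) (la' 1) (mu' 1)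
        h01 h02 h12 h13 g03 g02 (Ne.symm g23) (Ne.symm g13)
        (by rw [hP, hQ, hP', hQ'] at c2; first | linear_combination c2 | linear_combination (-1 : k) * c2)
    exact ⟨M, c, hM, hc, by rw [binForm_eq la' mu', binForm_eq la mu, ← e]; ring⟩
  · obtain ⟨M, c, hM, hc, e⟩ := core (la 0) (mu 0) (la 1) (mu 1) (la 2) (mu 2) (la 3) (mu 3)
        (la' 0) (mu' 0) (la' 2) (mu' 2) (la' 1) (mu' 1) (la' 3) (mu' 3)
        h01 h02 h12 h13 g02 g01 (Ne.symm g12) g23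
        (by rw [hP, hQ, hP', hQ'] at c3; first | linear_combination c3 | linear_combination (-1 : k) * c3)
    exact ⟨M, c, hM, hc, by rw [binForm_eq la' mu', binForm_eq la mu, ← e]; ring⟩
  · obtain ⟨M, c, hM, hc, e⟩ := core (la 0) (mu 0) (la 1) (mu 1) (la 2) (mu 2) (la 3) (mu 3)
        (la' 0) (mu' 0) (la' 3) (mu' 3) (la' 1) (mu' 1) (la' 2) (mu' 2)
        h01 h02 h12 h13 g03 g01 (Ne.symm g13) (Ne.symm g23)
        (by rw [hP, hQ, hP', hQ'] at c4; first | linear_combination c4 | linear_combination (-1 : k) * c4)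
    exact ⟨M, c, hM, hc, by rw [binForm_eq la' mu', binForm_eq la mu, ← e]; ring⟩
  · obtain ⟨M, c, hM, hc, e⟩ := core (la 0) (mu 0) (la 1) (mu 1) (la 2) (mu 2) (la 3) (mu 3)
        (la' 0) (mu' 0) (la' 2) (mu' 2) (la' 3) (mu' 3) (la' 1) (mu' 1)
        h01 h02 h12 h13 g02 g03 g23 (Ne.symm g12)
        (by rw [hP, hQ, hP', hQ'] at c5; first | linear_combination c5 | linear_combination (-1 : k) * c5)
    exact ⟨M, c, hM, hc, by rw [binForm_eq la' mu', binForm_eq la mu, ← e]; ring⟩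
  · obtain ⟨M, c, hM, hc, e⟩ := core (la 0) (mu 0) (la 1) (mu 1) (la 2) (mu 2) (la 3) (mu 3)
        (la' 0) (mu' 0) (la' 1) (mu' 1) (la' 3) (mu' 3) (la' 2) (mu' 2)
        h01 h02 h12 h13 g01 g03 g13 g12
        (by rw [hP, hQ, hP', hQ'] at c6; first | linear_combination c6 | linear_combination (-1 : k) * c6)
    exact ⟨M, c, hM, hc, by rw [binForm_eq la' mu', binForm_eq la mu, ← e]; ring⟩

end Groth.Agent.Lib.BinQuarticH4
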