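import Mathlib

namespace Groth.Agent.Lib.BinomSumRoot

open Polynomial

variable {k : Type*} [Field k]

/-- coefficient sequence -/
def aco (k : Type*) [Field k] (i j n r : ℕ) : k :=
  if r ≤ n then ((i.choose (n - r) * j.choose r : ℕ) : k) else 0

noncomputable def P (k : Type*) [Field k] (i j n : ℕ) : k[X] :=
  ∑ l ∈ Finset.range (n + 1), C (((i.choose l) * (j.choose (n - l)) : ℕ) : k) * X ^ (n - l)

lemma coeff_P (i j n r : ℕ) : (P k i j n).coeff r = aco k i j n r := by
  unfold P aco
  rw [finset_sum_coeff]
  simp only [coeff_C_mul_X_pow]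
  split_ifs with hr
  · rw [Finset.sum_eq_single (n - r)]
    · have e : n - (n - r) = r := by omega
      rw [e, if_pos rfl]
    · intro l hl hne
      rw [if_neg (by rw [Finset.mem_range] at hl; omega)]
    · intro hnot
      exfalso; apply hnot; rw [Finset.mem_range]; omega
  · apply Finset.sum_eq_zero
    intro l hl
    rw [if_neg (by omega)]

lemma coeff_theta (p : k[X]) (r : ℕ) : (X * derivative p).coeff r = (r : k) * p.coeff r := by
  rcases r with _ | r
  · simp
  · rw [coeff_X_mul, coeff_derivative]; push_cast; ring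

lemma choose_step (m s : ℕ) :
    ((m.choose (s + 1) : ℕ) : k) * ((s : k) + 1) = (m.choose s : k) * ((m : k) - s) := by
  by_cases h : s ≤ m
  · have h1 := Nat.choose_succ_right_eq m s
    have h2 := congrArg (Nat.cast : ℕ → k) h1
    push_cast [Nat.cast_sub h] at h2
    exact h2
  · push_neg at h
    rw [Nat.choose_eq_zero_of_lt h, Nat.choose_eq_zero_of_lt (Nat.lt_succ_of_lt h)]
    simp

lemma a_rec (i j n s : ℕ) :
    ((s : k) + 1) * ((s : k) + 1 + i - n) * aco k i j n (s + 1) =
      ((s : k) - n) * ((s : k) - j) * aco k i j n s := by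
  unfold aco
  rcases lt_trichotomy s n with hlt | heq | hgt
  · obtain ⟨t, rfl⟩ := Nat.exists_eq_add_of_lt hlt
    rw [if_pos (show s + 1 ≤ s + t + 1 by omega), if_pos (show s ≤ s + t + 1 by omega)]
    have e1 : s + t + 1 - (s + 1) = t := by omega
    have e2 : s + t + 1 - s = t + 1 := by omega
    rw [e1, e2]
    have h1 := choose_step (k := k) j s
    have h2 := choose_step (k := k) i t
    push_cast
    linear_combination ((i : k) - t) * (i.choose t : k) * h1 - ((j : k) - s) * (j.choose s : k) * h2
  · subst heq
    rw [if_neg (show ¬ (s + 1 ≤ s) by omega), if_pos (le_refl s)]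
    simp
  · rw [if_neg (show ¬ (s + 1 ≤ n) by omega), if_neg (show ¬ (s ≤ n) by omega)]
    simp

lemma theta_ode (i j n : ℕ) :
    X * derivative (X * derivative (P k i j n)) + C ((i : k) - n) * (X * derivative (P k i j n)) =
      X * (X * derivative (X * derivative (P k i j n)) -
        C ((n : k) + j) * (X * derivative (P k i j n)) + C ((n : k) * j) * P k i j n) := by
  ext r
  rcases r with _ | s
  · simp [coeff_theta]
  · rw [coeff_X_mul]
    simp only [coeff_add, coeff_sub, coeff_C_mul, coeff_theta, coeff_P]
    have h := a_rec (k := k) i j n s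
    push_cast
    linear_combination h

lemma ode (i j n : ℕ) :
    X * (1 - X) * derivative (derivative (P k i j n)) +
      (C (1 + (i : k) - n) + C ((n : k) + j - 1) * X) * derivative (P k i j n) -
      C ((n : k) * j) * P k i j n = 0 := by
  have h := theta_ode (k := k) i j n
  rw [derivative_mul, derivative_X, one_mul] at h
  have hX : (X : k[X]) ≠ 0 := X_ne_zero
  apply mul_left_cancel₀ hX
  rw [mul_zero]
  simp only [C_add, C_sub, C_mul, C_1] at h ⊢
  linear_combination h

lemma mult_le_one_of_ode [CharZero k] (p B D : k[X]) (c : k) (hc0 : c ≠ 0) (hc1 : c ≠ 1)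
    (hode : X * (1 - X) * derivative (derivative p) + B * derivative p - D * p = 0) :
    rootMultiplicity c p ≤ 1 := by
  by_contra hm
  push_neg at hm
  have hp0 : p ≠ 0 := by
    intro h0; rw [h0, rootMultiplicity_zero] at hm; omega
  have hroot : p.IsRoot c := (rootMultiplicity_pos hp0).mp (by omega)
  have hm1 : rootMultiplicity c (derivative p) = rootMultiplicity c p - 1 :=
    derivative_rootMultiplicity_of_root hroot
  have hd0 : (X - C c) ^ (rootMultiplicity c p - 1) ∣ p :=
    (pow_dvd_pow _ (Nat.sub_le _ 1)).trans (pow_rootMultiplicity_dvd p c)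
  have hd1 : (X - C c) ^ (rootMultiplicity c p - 1) ∣ derivative p := by
    have h3 := pow_rootMultiplicity_dvd (derivative p) c
    rwa [hm1] at h3
  have hroot1 : (derivative p).IsRoot c := by
    rw [← dvd_iff_isRoot]
    exact (dvd_pow_self _ (by omega)).trans hd1
  have hm2 : rootMultiplicity c (derivative (derivative p)) = rootMultiplicity c p - 1 - 1 := by
    rw [derivative_rootMultiplicity_of_root hroot1, hm1]
  have hdvd : (X - C c) ^ (rootMultiplicity c p - 1) ∣
      X * (1 - X) * derivative (derivative p) := by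
    have e : X * (1 - X) * derivative (derivative p) = D * p - B * derivative p := by
      linear_combination hode
    rw [e]
    exact dvd_sub (Dvd.dvd.mul_left hd0 _) (Dvd.dvd.mul_left hd1 _)
  have hcop : IsCoprime ((X - C c) ^ (rootMultiplicity c p - 1)) (X * (1 - X) : k[X]) := by
    apply IsCoprime.pow_left
    apply IsCoprime.mul_right
    · have h4 := isCoprime_X_sub_C_of_isUnit_sub (R := k) (a := c) (b := 0)
        (by rw [sub_zero]; exact isUnit_iff_ne_zero.mpr hc0)
      rwa [C_0, sub_zero] at h4
    · have h4 := isCoprime_X_sub_C_of_isUnit_sub (R := k) (a := c) (b := 1)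
        (isUnit_iff_ne_zero.mpr (sub_ne_zero.mpr hc1))
      have h2 : (1 - X : k[X]) = -(X - C 1) := by rw [C_1]; ring
      rw [h2]
      exact h4.neg_right
  have hdvd2 : (X - C c) ^ (rootMultiplicity c p - 1) ∣ derivative (derivative p) :=
    hcop.dvd_of_dvd_mul_left hdvd
  by_cases h20 : derivative (derivative p) = 0
  · have hnd : (derivative p).natDegree = 0 := Polynomial.derivative_eq_zero.mp h20
    have hC : derivative p = C ((derivative p).coeff 0) := eq_C_of_natDegree_eq_zero hnd
    have h0 : eval c (derivative p) = 0 := hroot1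
    rw [hC, eval_C] at h0
    have hd' : derivative p = 0 := by rw [hC, h0, C_0]
    rw [hd', rootMultiplicity_zero] at hm1
    omega
  · have h5 := (le_rootMultiplicity_iff h20).mpr hdvd2
    rw [hm2] at h5
    omega

theorem main (k : Type*) [Field k] [CharZero k] (i j n : ℕ) (c : k) (hc0 : c ≠ 0) (hc1 : c ≠ 1) :
    rootMultiplicity c (P k i j n) ≤ 1 :=
  mult_le_one_of_ode _ _ _ c hc0 hc1 (ode (k := k) i j n)

end Groth.Agent.Lib.BinomSumRoot
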