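import Mathlib

/-!
# Dimension of local rings is bounded by the dimension of the scheme (helper7)
-/

set_option autoImplicit false
universe u
open CategoryTheory AlgebraicGeometry TopologicalSpace

namespace Groth.Agent.Lib.StalkDimH7

theorem ringKrullDim_stalk_le_topologicalKrullDim (X : Scheme.{u}) (x : X) :
    ringKrullDim (X.presheaf.stalk x) ≤ topologicalKrullDim X := by
  rw [ringKrullDim_stalk_eq_coheight]
  refine (Order.coheight_le_krullDim x).trans ?_
  refine Order.krullDim_le_of_strictMono (fun y : X =>
    (⟨closure {y}, isIrreducible_singleton.closure, isClosed_closure⟩ : IrreducibleCloseds X)) ?_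
  intro a b hab
  have h1 : b ⤳ a := hab.le
  have h2 : ¬ a ⤳ b := fun h => hab.not_ge h
  refine lt_of_le_not_ge ?_ ?_
  · exact specializes_iff_closure_subset.mp h1
  · intro h
    exact h2 (specializes_iff_closure_subset.mpr h)

end Groth.Agent.Lib.StalkDimH7
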