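import Mathlib
import Groth.Prelude
import Groth.Agent.Lib.SmoothRegField_helper3
import Groth.Agent.Lib.Regular5_helper5
import Groth.Agent.Lib.StalkDim_helper7
import Groth.Agent.Lib.GenSmoothGR2_helper6

set_option autoImplicit false
open CategoryTheory CategoryTheory.Limits AlgebraicGeometry Opposite
universe u

namespace Groth.Agent.Lib.BiratCurveH6

/-- A local homomorphism out of a valuation ring `A` into a ring `B` embedded in a field `L`
which is (compatibly) the image of the fraction field of `A` is bijective. -/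
theorem bijective_of_valuationRing {A B K L : Type*} [CommRing A] [IsDomain A] [ValuationRing A]
    [CommRing B] [Field K] [Field L] [Algebra A K] [IsFractionRing A K]
    (φ : A →+* B) [IsLocalHom φ] (ιB : B →+* L) (hιB : Function.Injective ιB)
    (σ : K →+* L) (hσ : Function.Surjective σ)
    (hcomm : ιB.comp φ = σ.comp (algebraMap A K)) : Function.Bijective φ := by
  have hc : ∀ a, ιB (φ a) = σ (algebraMap A K a) := fun a => by
    have := congrArg (fun g : A →+* L => g a) hcomm
    simpa using this
  constructor
  · intro a a' h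
    have h1 : σ (algebraMap A K a) = σ (algebraMap A K a') := by rw [← hc, ← hc, h]
    exact IsFractionRing.injective A K (σ.injective h1)
  · intro b
    obtain ⟨c, hc'⟩ := hσ (ιB b)
    have key : ∀ a : A, algebraMap A K a = c → ∃ a', φ a' = b := fun a ha =>
      ⟨a, hιB (by rw [hc, ha, hc'])⟩
    rcases ValuationRing.isInteger_or_isInteger A c with ⟨a, ha⟩ | ⟨a, ha⟩
    · exact key a ha
    · by_cases hc0 : c = 0
      · exact key 0 (by rw [map_zero, hc0])
      · have h1 : ιB (φ a * b) = 1 := by
          rw [map_mul, hc, ha, ← hc', ← map_mul, inv_mul_cancel₀ hc0, map_one]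
        have h2 : φ a * b = 1 := hιB (by rw [h1, map_one])
        have hu : IsUnit (φ a) := IsUnit.of_mul_eq_one _ h2
        have hua : IsUnit a := isUnit_of_map_unit φ a hu
        obtain ⟨a', ha'⟩ := hua.exists_right_inv
        apply key a'
        have h3 : algebraMap A K a * algebraMap A K a' = 1 := by rw [← map_mul, ha', map_one]
        rw [ha] at h3
        exact ((inv_mul_eq_one₀ hc0).1 h3).symm

theorem isDominant_SpecMap {A K : CommRingCat.{u}} (a : A ⟶ K) (ha : Function.Injective a.hom) :
    IsDominant (Spec.map a) := by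
  constructor
  show DenseRange (PrimeSpectrum.comap a.hom)
  rw [PrimeSpectrum.denseRange_comap_iff_ker_le_nilRadical]
  rw [(RingHom.injective_iff_ker_eq_bot _).1 ha]
  exact bot_le

section stalks

variable (k : Type u) [Field k]

theorem valuationRing_stalk (Y : Scheme.{u}) [Y.Over (Spec (CommRingCat.of k))] [IsIntegral Y]
    [LocallyOfFiniteType (Y ↘ Spec (CommRingCat.of k))] [Smooth (Y ↘ Spec (CommRingCat.of k))]
    (hdim : topologicalKrullDim Y = 1) (y : Y) : ValuationRing (Y.presheaf.stalk y) := by
  haveI : IsLocallyNoetherian Y :=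
    LocallyOfFiniteType.isLocallyNoetherian (Y ↘ Spec (CommRingCat.of k))
  haveI : IsNoetherianRing (Y.presheaf.stalk y) := inferInstance
  by_cases hF : IsField (Y.presheaf.stalk y)
  · letI := hF.toField
    infer_instance
  · letI := Curv2.stalkAlgebra k Y y
    have hsm : Algebra.FormallySmooth k (Y.presheaf.stalk y) :=
      (Groth.Agent.Lib.GenSmoothGR2H6.mem_smoothLocus_iff k Y y).1
        (by rw [Scheme.Hom.smoothLocus_eq_top]; trivial)
    haveI := hsm
    have hreg : IsRegularLocalRing (Y.presheaf.stalk y) :=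
      Groth.Agent.Lib.SmoothRegFieldH3.regular_of_formallySmooth_field (k := k)
    have hle : ringKrullDim (Y.presheaf.stalk y) ≤ 1 :=
      hdim ▸ Groth.Agent.Lib.StalkDimH7.ringKrullDim_stalk_le_topologicalKrullDim Y y
    have hnle : ¬ ringKrullDim (Y.presheaf.stalk y) ≤ 0 := fun h => by
      have : Ring.KrullDimLE 0 (Y.presheaf.stalk y) := Ring.krullDimLE_iff.mpr h
      exact hF Ring.KrullDimLE.isField_of_isDomain
    have h1 : ringKrullDim (Y.presheaf.stalk y) = 1 :=
      le_antisymm hle (Order.succ_le_of_lt (lt_of_not_ge hnle))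
    obtain ⟨_, hdvr⟩ := (Groth.Agent.RegularLib.dvr_iff _).2 ⟨hreg, h1⟩
    infer_instance

end stalks

section birational

variable {X Y : Scheme.{u}} [IsIntegral X] [IsIntegral Y] (f : X ⟶ Y)
  (e : f (genericPoint X) = genericPoint Y)

theorem specX (x : X) : genericPoint X ⤳ x := (genericPoint_spec X).specializes trivial

/-- the commutative square of local rings and function fields -/
theorem sq (x : X) :
    f.stalkMap x ≫ X.presheaf.stalkSpecializes (specX x) =
      Y.presheaf.stalkSpecializes (specX (f x)) ≫
        (Y.presheaf.stalkSpecializes (specializes_of_eq e) ≫ f.stalkMap (genericPoint X)) := by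
  rw [← Category.assoc, TopCat.Presheaf.stalkSpecializes_comp]
  exact (Scheme.Hom.stalkSpecializes_stalkMap f (genericPoint X) x (specX x)).symm

theorem isIso_stalkMap_of_birational
    (hbir : Function.Bijective
      (Y.presheaf.stalkSpecializes (specializes_of_eq e) ≫ f.stalkMap (genericPoint X)).hom)
    (x : X) [ValuationRing (Y.presheaf.stalk (f x))] : IsIso (f.stalkMap x) := by
  rw [ConcreteCategory.isIso_iff_bijective]
  refine bijective_of_valuationRing (K := Y.functionField) (L := X.functionField)
    (f.stalkMap x).hom (algebraMap (X.presheaf.stalk x) X.functionField)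
    (IsFractionRing.injective _ _)
    (Y.presheaf.stalkSpecializes (specializes_of_eq e) ≫ f.stalkMap (genericPoint X)).hom
    hbir.2 ?_
  exact congrArg CommRingCat.Hom.hom (sq f e x)

theorem key_comp
    [IsIso (Y.presheaf.stalkSpecializes (specializes_of_eq e) ≫ f.stalkMap (genericPoint X))]
    (x : X) [IsIso (f.stalkMap x)] :
    Spec.map (Y.presheaf.stalkSpecializes (specX (f x))) ≫
      Spec.map (inv (f.stalkMap x)) ≫ X.fromSpecStalk x =
    Spec.map (inv (Y.presheaf.stalkSpecializes (specializes_of_eq e) ≫
      f.stalkMap (genericPoint X))) ≫ X.fromSpecStalk (genericPoint X) := by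
  have h : inv (f.stalkMap x) ≫ Y.presheaf.stalkSpecializes (specX (f x)) =
      X.presheaf.stalkSpecializes (specX x) ≫
        inv (Y.presheaf.stalkSpecializes (specializes_of_eq e) ≫ f.stalkMap (genericPoint X)) := by
    rw [IsIso.inv_comp_eq, ← Category.assoc, sq f e x, Category.assoc, IsIso.hom_inv_id,
      Category.comp_id]
  rw [← Spec.map_comp_assoc, h, Spec.map_comp_assoc,
    Scheme.SpecMap_stalkSpecializes_fromSpecStalk]

theorem apply_closedPoint (x : X) [IsIso (f.stalkMap x)] :
    (Spec.map (inv (f.stalkMap x)) ≫ X.fromSpecStalk x)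
      (IsLocalRing.closedPoint (Y.presheaf.stalk (f x))) = x := by
  rw [Scheme.Hom.comp_apply]
  have h : Spec.map (inv (f.stalkMap x)) (IsLocalRing.closedPoint (Y.presheaf.stalk (f x))) =
      IsLocalRing.closedPoint (X.presheaf.stalk x) :=
    IsLocalRing.comap_closedPoint (inv (f.stalkMap x)).hom
  rw [h, Scheme.fromSpecStalk_closedPoint]

theorem injective_of_birational [IsSeparated f]
    (hbir : Function.Bijective
      (Y.presheaf.stalkSpecializes (specializes_of_eq e) ≫ f.stalkMap (genericPoint X)).hom)
    (hiso : ∀ x, IsIso (f.stalkMap x)) : Function.Injective f := by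
  intro x₁ x₂ hy
  haveI := hiso x₁
  haveI := hiso x₂
  haveI hσ : IsIso (Y.presheaf.stalkSpecializes (specializes_of_eq e) ≫
      f.stalkMap (genericPoint X)) := (ConcreteCategory.isIso_iff_bijective _).2 hbir
  let τ := Y.presheaf.stalkSpecializes (specializes_of_eq hy)
  haveI : IsIso τ := ⟨⟨Y.presheaf.stalkSpecializes (specializes_of_eq hy.symm), by simp [τ],
    by simp [τ]⟩⟩
  haveI : IsReduced (Spec (Y.presheaf.stalk (f x₁))) := (affine_isReduced_iff _).2 inferInstance
  haveI : IsDominant (Spec.map (Y.presheaf.stalkSpecializes (specX (f x₁)))) :=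
    isDominant_SpecMap _ (IsFractionRing.injective (Y.presheaf.stalk (f x₁)) Y.functionField)
  have heq : Spec.map (inv (f.stalkMap x₁)) ≫ X.fromSpecStalk x₁ =
      Spec.map τ ≫ Spec.map (inv (f.stalkMap x₂)) ≫ X.fromSpecStalk x₂ := by
    refine ext_of_isDominant_of_isSeparated f ?_
      (Spec.map (Y.presheaf.stalkSpecializes (specX (f x₁)))) ?_
    · have h1 : ∀ x : X, ∀ [IsIso (f.stalkMap x)],
          (Spec.map (inv (f.stalkMap x)) ≫ X.fromSpecStalk x) ≫ f = Y.fromSpecStalk (f x) := by
        intro x _
        rw [Category.assoc, ← Scheme.SpecMap_stalkMap_fromSpecStalk, ← Spec.map_comp_assoc,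
          IsIso.hom_inv_id, Spec.map_id, Category.id_comp]
      rw [h1 x₁]
      have h2 := h1 x₂
      rw [Category.assoc] at h2
      rw [Category.assoc, Category.assoc, h2, Scheme.SpecMap_stalkSpecializes_fromSpecStalk]
    · rw [key_comp f e x₁, ← Spec.map_comp_assoc]
      have h3 : τ ≫ Y.presheaf.stalkSpecializes (specX (f x₁)) =
          Y.presheaf.stalkSpecializes (specX (f x₂)) :=
        TopCat.Presheaf.stalkSpecializes_comp _ _ _
      rw [h3, key_comp f e x₂]
  have h4 := congrArg (fun φ : Spec (Y.presheaf.stalk (f x₁)) ⟶ X =>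
    φ (IsLocalRing.closedPoint (Y.presheaf.stalk (f x₁)))) heq
  simp only at h4
  rw [apply_closedPoint f x₁, Scheme.Hom.comp_apply] at h4
  have h5 : Spec.map τ (IsLocalRing.closedPoint (Y.presheaf.stalk (f x₁))) =
      IsLocalRing.closedPoint (Y.presheaf.stalk (f x₂)) :=
    IsLocalRing.comap_closedPoint τ.hom
  rw [h5, apply_closedPoint f x₂] at h4
  exact h4

end birational

theorem main14519 (k : Type u) [Field k] [IsAlgClosed k]
    (X Y : Scheme.{u}) [X.Over (Spec (CommRingCat.of k))] [Y.Over (Spec (CommRingCat.of k))]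
    [IsIntegral X] [IsSeparated (X ↘ (Spec (CommRingCat.of k)))]
    [LocallyOfFiniteType (X ↘ (Spec (CommRingCat.of k)))]
    [QuasiCompact (X ↘ (Spec (CommRingCat.of k)))] [Smooth (X ↘ (Spec (CommRingCat.of k)))]
    (hdimX : topologicalKrullDim X = 1)
    [IsIntegral Y] [IsSeparated (Y ↘ (Spec (CommRingCat.of k)))]
    [LocallyOfFiniteType (Y ↘ (Spec (CommRingCat.of k)))]
    [QuasiCompact (Y ↘ (Spec (CommRingCat.of k)))] [Smooth (Y ↘ (Spec (CommRingCat.of k)))]
    (hdimY : topologicalKrullDim Y = 1)
    (f : X ⟶ Y) (hf : f ≫ (Y ↘ (Spec (CommRingCat.of k))) = (X ↘ (Spec (CommRingCat.of k))))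
    (e : f (genericPoint X) = genericPoint Y)
    (hbir : Function.Bijective
      (Y.presheaf.stalkSpecializes (specializes_of_eq e) ≫ f.stalkMap (genericPoint X)).hom) :
    IsOpenImmersion f := by
  haveI : IsLocallyNoetherian Y :=
    LocallyOfFiniteType.isLocallyNoetherian (Y ↘ Spec (CommRingCat.of k))
  haveI hsepc : IsSeparated (f ≫ (Y ↘ (Spec (CommRingCat.of k)))) := by rw [hf]; infer_instance
  haveI hftc : LocallyOfFiniteType (f ≫ (Y ↘ (Spec (CommRingCat.of k)))) := by
    rw [hf]; infer_instance
  haveI : IsSeparated f := IsSeparated.of_comp f (Y ↘ (Spec (CommRingCat.of k)))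
  haveI : LocallyOfFiniteType f := locallyOfFiniteType_of_comp f (Y ↘ (Spec (CommRingCat.of k)))
  haveI : LocallyOfFinitePresentation f := inferInstance
  have hiso : ∀ x, IsIso (f.stalkMap x) := fun x => by
    haveI := valuationRing_stalk k Y hdimY (f x)
    exact isIso_stalkMap_of_birational f e hbir x
  haveI : Flat f := Flat.of_stalkMap f (fun x => by
    haveI := hiso x
    exact RingHom.Flat.of_bijective ((ConcreteCategory.isIso_iff_bijective _).1 inferInstance))
  have hinj : Function.Injective f := injective_of_birational f e hbir hiso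
  have hopen : IsOpenMap f := f.isOpenMap
  haveI := hiso
  exact IsOpenImmersion.of_isIso_stalkMap f
    (Topology.IsOpenEmbedding.of_continuous_injective_isOpenMap f.continuous hinj hopen)

end Groth.Agent.Lib.BiratCurveH6
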