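import Mathlib
import Groth.Prelude

set_option autoImplicit false
set_option linter.style.haveILetI false
set_option linter.unusedVariables false

universe u
open CategoryTheory CategoryTheory.Limits AlgebraicGeometry TopologicalSpace Opposite

namespace Groth.Agent.Lib.BiratFlatH4

theorem surj_of_faithfullyFlat_of_frac {A B : Type*} [CommRing A] [CommRing B] [IsDomain B]
    (φ : A →+* B) (hff : letI := φ.toAlgebra; Module.FaithfullyFlat A B)
    (hfrac : ∀ b : B, ∃ a1 a2 : A, φ a2 ≠ 0 ∧ φ a2 * b = φ a1) : Function.Surjective φ := by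
  letI := φ.toAlgebra
  haveI : Module.FaithfullyFlat A B := hff
  intro b
  obtain ⟨a1, a2, h2, h⟩ := hfrac b
  have hmem : a1 ∈ Ideal.comap (algebraMap A B) (Ideal.map (algebraMap A B) (Ideal.span {a2})) := by
    rw [Ideal.mem_comap, Ideal.map_span, Set.image_singleton, Ideal.mem_span_singleton]
    exact ⟨b, h.symm⟩
  rw [Ideal.comap_map_eq_self_of_faithfullyFlat, Ideal.mem_span_singleton] at hmem
  obtain ⟨c, rfl⟩ := hmem
  refine ⟨c, ?_⟩
  have h3 : φ a2 * φ c = φ a2 * b := by rw [← map_mul]; exact h.symm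
  exact mul_left_cancel₀ h2 h3

section scheme

variable {X' X : Scheme.{u}}

theorem map_genericPoint [IsIntegral X'] [IsIntegral X] (f : X' ⟶ X) [Surjective f] :
    f (genericPoint X') = genericPoint X := by
  have h1 : IsGenericPoint (f (genericPoint X')) (closure (f '' Set.univ)) :=
    (genericPoint_spec X').image f.continuous
  rw [Set.image_univ, f.surjective.range_eq, closure_univ] at h1
  exact h1.eq (genericPoint_spec X)

theorem exists_frac [IsIntegral X] (x y : X) (h : y ⤳ x) (hy : y = genericPoint X)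
    (κ : X.presheaf.stalk y) : ∃ a1 a2 : X.presheaf.stalk x, a2 ≠ 0 ∧
      (X.presheaf.stalkSpecializes h).hom a2 * κ = (X.presheaf.stalkSpecializes h).hom a1 := by
  subst hy
  obtain ⟨⟨a1, s⟩, hs⟩ := IsLocalization.surj (nonZeroDivisors (X.presheaf.stalk x))
    (κ : X.functionField)
  refine ⟨a1, s.1, nonZeroDivisors.ne_zero s.2, ?_⟩
  rw [mul_comm]
  exact hs

theorem stalkSpecializes_injective [IsIntegral X] (x : X) (s : genericPoint X ⤳ x) :
    Function.Injective (X.presheaf.stalkSpecializes s).hom :=
  IsFractionRing.injective (X.presheaf.stalk x) X.functionField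

theorem stalkMap_bijective [IsIntegral X'] [IsIntegral X] (f : X' ⟶ X) [Surjective f] [Flat f]
    (hK : IsIso (f.stalkMap (genericPoint X'))) (x' : X') :
    Function.Bijective (f.stalkMap x').hom := by
  have hfl : (f.stalkMap x').hom.Flat := (Flat.iff_flat_stalkMap f).mp inferInstance x'
  have hff : letI := (f.stalkMap x').hom.toAlgebra
      Module.FaithfullyFlat (X.presheaf.stalk (f x')) (X'.presheaf.stalk x') := by
    letI := (f.stalkMap x').hom.toAlgebra
    haveI : Module.Flat (X.presheaf.stalk (f x')) (X'.presheaf.stalk x') := hfl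
    haveI : IsLocalHom (algebraMap (X.presheaf.stalk (f x')) (X'.presheaf.stalk x')) :=
      (inferInstance : IsLocalHom (f.stalkMap x').hom)
    exact Module.FaithfullyFlat.of_flat_of_isLocalHom
  have hinj : Function.Injective (f.stalkMap x').hom := by
    letI := (f.stalkMap x').hom.toAlgebra
    haveI := hff
    exact FaithfulSMul.algebraMap_injective (X.presheaf.stalk (f x')) (X'.presheaf.stalk x')
  refine ⟨hinj, surj_of_faithfullyFlat_of_frac _ hff ?_⟩
  intro b
  have s' : genericPoint X' ⤳ x' := genericPoint_specializes x'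
  obtain ⟨κ, hκ⟩ := (ConcreteCategory.bijective_of_isIso (f.stalkMap (genericPoint X'))).2
    ((X'.presheaf.stalkSpecializes s').hom b)
  have hκ' : (f.stalkMap (genericPoint X')).hom κ = (X'.presheaf.stalkSpecializes s').hom b := hκ
  obtain ⟨a1, a2, ha2, hfr⟩ := exists_frac (f x') (f (genericPoint X'))
    (f.base.hom.map_specializes s') (map_genericPoint f) κ
  refine ⟨a1, a2, fun h0 => ha2 (hinj (h0.trans (map_zero _).symm)), ?_⟩
  apply stalkSpecializes_injective x' s'
  rw [map_mul]
  have n1 : (f.stalkMap (genericPoint X')).hom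
      ((X.presheaf.stalkSpecializes (f.base.hom.map_specializes s')).hom a1) =
      (X'.presheaf.stalkSpecializes s').hom ((f.stalkMap x').hom a1) :=
    Scheme.Hom.stalkSpecializes_stalkMap_apply f (genericPoint X') x' s' a1
  have n2 : (f.stalkMap (genericPoint X')).hom
      ((X.presheaf.stalkSpecializes (f.base.hom.map_specializes s')).hom a2) =
      (X'.presheaf.stalkSpecializes s').hom ((f.stalkMap x').hom a2) :=
    Scheme.Hom.stalkSpecializes_stalkMap_apply f (genericPoint X') x' s' a2
  rw [← n2, ← n1, ← hκ', ← map_mul, hfr]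

theorem sec_comp (f : X' ⟶ X) (x' : X') [IsIso (f.stalkMap x')] :
    (Spec.map (inv (f.stalkMap x')) ≫ X'.fromSpecStalk x') ≫ f = X.fromSpecStalk (f x') := by
  rw [Category.assoc, ← Scheme.SpecMap_stalkMap_fromSpecStalk f (x := x'), ← Spec.map_comp_assoc,
    IsIso.hom_inv_id, Spec.map_id, Category.id_comp]

theorem gen_comp [IsIntegral X'] (f : X' ⟶ X) (x' : X') [IsIso (f.stalkMap x')]
    (s : genericPoint X' ⤳ x') :
    Spec.map (f.stalkMap x' ≫ X'.presheaf.stalkSpecializes s) ≫
      Spec.map (inv (f.stalkMap x')) ≫ X'.fromSpecStalk x' =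
      X'.fromSpecStalk (genericPoint X') := by
  rw [← Spec.map_comp_assoc, IsIso.inv_hom_id_assoc, Scheme.SpecMap_stalkSpecializes_fromSpecStalk]

theorem isLocalHom_stalkSpecializes_of_eq {a b : X} (h : a = b) (e : a ⤳ b) :
    IsLocalHom (X.presheaf.stalkSpecializes e).hom := by
  subst h
  have h1 : X.presheaf.stalkSpecializes e = 𝟙 _ := TopCat.Presheaf.stalkSpecializes_refl _ _
  rw [h1, CommRingCat.hom_id]
  infer_instance

theorem injective_of_stalk_iso [IsIntegral X'] [IsIntegral X] (f : X' ⟶ X) [IsSeparated f]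
    (hiso : ∀ x', IsIso (f.stalkMap x')) : Function.Injective f := by
  intro x1 x2 h12
  haveI := hiso x1
  haveI := hiso x2
  have s1 : genericPoint X' ⤳ x1 := genericPoint_specializes x1
  have s2 : genericPoint X' ⤳ x2 := genericPoint_specializes x2
  have e12 : f x1 ⤳ f x2 := specializes_of_eq h12
  have hg : (Spec.map (inv (f.stalkMap x1)) ≫ X'.fromSpecStalk x1) ≫ f =
      (Spec.map (X.presheaf.stalkSpecializes e12) ≫ Spec.map (inv (f.stalkMap x2)) ≫
        X'.fromSpecStalk x2) ≫ f := by
    have h2 := sec_comp f x2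
    calc (Spec.map (inv (f.stalkMap x1)) ≫ X'.fromSpecStalk x1) ≫ f
        = X.fromSpecStalk (f x1) := sec_comp f x1
      _ = Spec.map (X.presheaf.stalkSpecializes e12) ≫ X.fromSpecStalk (f x2) :=
          (Scheme.SpecMap_stalkSpecializes_fromSpecStalk e12).symm
      _ = Spec.map (X.presheaf.stalkSpecializes e12) ≫
            ((Spec.map (inv (f.stalkMap x2)) ≫ X'.fromSpecStalk x2) ≫ f) := by rw [h2]
      _ = _ := by simp only [Category.assoc]
  have hinjm : Function.Injective (f.stalkMap x1 ≫ X'.presheaf.stalkSpecializes s1).hom := by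
    rw [CommRingCat.hom_comp]
    exact (stalkSpecializes_injective x1 s1).comp
      ((ConcreteCategory.bijective_of_isIso (f.stalkMap x1)).1)
  haveI : IsDominant (Spec.map (f.stalkMap x1 ≫ X'.presheaf.stalkSpecializes s1)) := by
    refine ⟨?_⟩
    show DenseRange (PrimeSpectrum.comap (f.stalkMap x1 ≫ X'.presheaf.stalkSpecializes s1).hom)
    rw [PrimeSpectrum.denseRange_comap_iff_ker_le_nilRadical,
      (RingHom.injective_iff_ker_eq_bot _).mp hinjm]
    exact bot_le
  have hm : X.presheaf.stalkSpecializes e12 ≫ f.stalkMap x1 ≫ X'.presheaf.stalkSpecializes s1 =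
      f.stalkMap x2 ≫ X'.presheaf.stalkSpecializes s2 := by
    rw [← Scheme.Hom.stalkSpecializes_stalkMap f _ _ s1, ← Scheme.Hom.stalkSpecializes_stalkMap f _ _ s2,
      ← Category.assoc, TopCat.Presheaf.stalkSpecializes_comp]
  have hι : Spec.map (f.stalkMap x1 ≫ X'.presheaf.stalkSpecializes s1) ≫
      (Spec.map (inv (f.stalkMap x1)) ≫ X'.fromSpecStalk x1) =
      Spec.map (f.stalkMap x1 ≫ X'.presheaf.stalkSpecializes s1) ≫
        (Spec.map (X.presheaf.stalkSpecializes e12) ≫ Spec.map (inv (f.stalkMap x2)) ≫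
          X'.fromSpecStalk x2) := by
    rw [gen_comp f x1 s1]
    symm
    calc Spec.map (f.stalkMap x1 ≫ X'.presheaf.stalkSpecializes s1) ≫
          (Spec.map (X.presheaf.stalkSpecializes e12) ≫ Spec.map (inv (f.stalkMap x2)) ≫
            X'.fromSpecStalk x2)
        = (Spec.map (f.stalkMap x1 ≫ X'.presheaf.stalkSpecializes s1) ≫
            Spec.map (X.presheaf.stalkSpecializes e12)) ≫ Spec.map (inv (f.stalkMap x2)) ≫
            X'.fromSpecStalk x2 := (Category.assoc _ _ _).symm
      _ = Spec.map (X.presheaf.stalkSpecializes e12 ≫ f.stalkMap x1 ≫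
            X'.presheaf.stalkSpecializes s1) ≫ Spec.map (inv (f.stalkMap x2)) ≫
            X'.fromSpecStalk x2 := by rw [← Spec.map_comp]
      _ = Spec.map (f.stalkMap x2 ≫ X'.presheaf.stalkSpecializes s2) ≫
            Spec.map (inv (f.stalkMap x2)) ≫ X'.fromSpecStalk x2 := by rw [hm]
      _ = X'.fromSpecStalk (genericPoint X') := gen_comp f x2 s2
  have heq := ext_of_isDominant_of_isSeparated f hg
    (Spec.map (f.stalkMap x1 ≫ X'.presheaf.stalkSpecializes s1)) hι
  have c1 : (Spec.map (inv (f.stalkMap x1)) ≫ X'.fromSpecStalk x1)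
      (IsLocalRing.closedPoint (X.presheaf.stalk (f x1))) = x1 := by
    haveI : IsLocalHom (inv (f.stalkMap x1)).hom := isLocalHom_of_isIso _
    rw [Scheme.Hom.comp_apply, Spec.map_apply, IsLocalRing.comap_closedPoint,
      Scheme.fromSpecStalk_closedPoint]
  have c2 : (Spec.map (X.presheaf.stalkSpecializes e12) ≫ Spec.map (inv (f.stalkMap x2)) ≫
      X'.fromSpecStalk x2) (IsLocalRing.closedPoint (X.presheaf.stalk (f x1))) = x2 := by
    haveI : IsLocalHom (inv (f.stalkMap x2)).hom := isLocalHom_of_isIso _
    haveI : IsLocalHom (X.presheaf.stalkSpecializes e12).hom :=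
      isLocalHom_stalkSpecializes_of_eq h12 e12
    rw [Scheme.Hom.comp_apply, Scheme.Hom.comp_apply, Spec.map_apply, Spec.map_apply,
      IsLocalRing.comap_closedPoint, IsLocalRing.comap_closedPoint,
      Scheme.fromSpecStalk_closedPoint]
  calc x1 = _ := c1.symm
    _ = _ := by rw [heq]
    _ = x2 := c2

theorem main10879 [IsIntegral X'] [IsIntegral X]
    (f : X' ⟶ X) [Surjective f] [IsSeparated f] (hK : IsIso (f.stalkMap (genericPoint X')))
    (h : IsAffineHom f ∨ LocallyOfFinitePresentation f) :
    Flat f ↔ IsIso f := by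
  constructor
  · intro hfl
    haveI := hfl
    have hbij : ∀ x', Function.Bijective (f.stalkMap x').hom := stalkMap_bijective f hK
    have hiso : ∀ x', IsIso (f.stalkMap x') := fun x' =>
      (ConcreteCategory.isIso_iff_bijective _).mpr (hbij x')
    have hinj : Function.Injective f := injective_of_stalk_iso f hiso
    have hopen : IsOpenMap f := by
      rcases h with h | h
      · haveI := h
        have hq : Topology.IsQuotientMap f := Flat.isQuotientMap_of_surjective f
        intro U hU
        rw [← hq.isOpen_preimage, Set.preimage_image_eq _ hinj]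
        exact hU
      · haveI := h
        exact f.isOpenMap
    have hemb : Topology.IsOpenEmbedding f :=
      .of_continuous_injective_isOpenMap f.continuous hinj hopen
    haveI : ∀ x', IsIso (f.stalkMap x') := hiso
    haveI : IsOpenImmersion f := IsOpenImmersion.of_isIso_stalkMap f hemb
    exact (isIso_iff_isOpenImmersion_and_surjective f).mpr ⟨inferInstance, inferInstance⟩
  · intro hiso
    haveI := hiso
    infer_instance

end scheme

end Groth.Agent.Lib.BiratFlatH4
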