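import Mathlib
import Groth.Prelude
import Groth.Agent.Lib.SpreadIsoInt_helper7
import Groth.Agent.Lib.OverField_helper7

/-!
# Varieties with isomorphic function fields share a nonempty open (helper4)
-/

set_option autoImplicit false
set_option linter.unusedVariables false
set_option linter.unusedTactic false
set_option linter.unreachableTactic false
set_option linter.unusedSectionVars false
set_option linter.style.haveILetI false
set_option linter.deprecated false
set_option maxHeartbeats 1600000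

universe u
open CategoryTheory CategoryTheory.Limits AlgebraicGeometry

namespace Groth.Agent.Lib.BiratIsoH4

/-- Stalk-level compatibility from scheme-level compatibility. -/
theorem stalk_compat {X Y S : Scheme.{u}} (sX : X ⟶ S) (sY : Y ⟶ S) {x : X} {y : Y}
    (e : sX x = sY y) (φ : Y.presheaf.stalk y ⟶ X.presheaf.stalk x)
    (hcomp : Spec.map φ ≫ Y.fromSpecStalk y ≫ sY = X.fromSpecStalk x ≫ sX) :
    sY.stalkMap y ≫ φ =
      S.presheaf.stalkSpecializes (Inseparable.of_eq e).specializes ≫ sX.stalkMap x := by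
  apply Spec.map_injective
  rw [← cancel_mono (S.fromSpecStalk (sY y))]
  simp only [Spec.map_comp, Category.assoc, Scheme.SpecMap_stalkMap_fromSpecStalk,
    Scheme.SpecMap_stalkSpecializes_fromSpecStalk]
  exact hcomp

theorem main7629 (k : Type u) [Field k] (X : Scheme.{u}) [X.Over (Spec (CommRingCat.of k))]
    [IsIntegral X] [LocallyOfFiniteType (X ↘ (Spec (CommRingCat.of k)))]
    (Y : Scheme.{u}) [Y.Over (Spec (CommRingCat.of k))] [IsIntegral Y]
    [LocallyOfFiniteType (Y ↘ (Spec (CommRingCat.of k)))]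
    (e : X.functionField ≅ Y.functionField)
    (he : e.hom.hom.comp (Curv2.stalkMap k X (genericPoint X)) =
      Curv2.stalkMap k Y (genericPoint Y)) :
    ∃ (U : X.Opens) (V : Y.Opens), (U : Set ↥X).Nonempty ∧
      ∃ φ : (U : Scheme.{u}) ≅ (V : Scheme.{u}),
        φ.hom ≫ V.ι ≫ (Y ↘ (Spec (CommRingCat.of k))) = U.ι ≫ (X ↘ (Spec (CommRingCat.of k))) := by
  have e0 : (X ↘ Spec (CommRingCat.of k)) (genericPoint X) =
      (Y ↘ Spec (CommRingCat.of k)) (genericPoint Y) := Subsingleton.elim _ _
  have hmor : CommRingCat.ofHom (Curv2.stalkMap k Y (genericPoint Y)) ≫ e.inv =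
      CommRingCat.ofHom (Curv2.stalkMap k X (genericPoint X)) := by
    rw [Iso.comp_inv_eq]
    refine CommRingCat.hom_ext ?_
    exact he.symm
  have hcomp : Spec.map e.inv ≫ Y.fromSpecStalk (genericPoint Y) ≫ (Y ↘ Spec (CommRingCat.of k)) =
      X.fromSpecStalk (genericPoint X) ≫ (X ↘ Spec (CommRingCat.of k)) := by
    rw [Groth.Agent.Lib.OverFieldH7.fromSpecStalk_over, Groth.Agent.Lib.OverFieldH7.fromSpecStalk_over,
      ← Spec.map_comp, hmor]
  have h := stalk_compat (X ↘ Spec (CommRingCat.of k)) (Y ↘ Spec (CommRingCat.of k)) e0 e.inv hcomp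
  haveI : IsIso (e.inv : Y.presheaf.stalk (genericPoint Y) ⟶ X.presheaf.stalk (genericPoint X)) :=
    inferInstanceAs (IsIso e.inv)
  obtain ⟨U, hxU, V, hyV, f, hf, -, hcomm⟩ :=
    Groth.Agent.Lib.SpreadIsoIntH7.iso_spread_of_isIntegral
      (X ↘ Spec (CommRingCat.of k)) (Y ↘ Spec (CommRingCat.of k)) e0 e.inv h
  haveI := hf
  exact ⟨U, V, ⟨_, hxU⟩, asIso f, hcomm⟩

end Groth.Agent.Lib.BiratIsoH4
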