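import Mathlib
import Groth.Agent.Lib.NormalBirat_helper7
import Groth.Agent.Lib.LocOpenImm_helper7

set_option autoImplicit false
universe u
open CategoryTheory CategoryTheory.Limits AlgebraicGeometry TopologicalSpace

namespace Groth.Agent.Lib.BiratQFH7

open Groth.Agent.Lib.NormalBiratH7

/-- Stalks of an open subscheme of a normal scheme are integrally closed. -/
theorem isIntegrallyClosed_stalk_opens {Y : Scheme.{u}}
    (hN : ∀ y : Y, IsIntegrallyClosed (Y.presheaf.stalk y)) (V : Y.Opens) (v : V.toScheme) :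
    IsIntegrallyClosed (V.toScheme.presheaf.stalk v) := by
  haveI := hN (V.ι v)
  exact IsIntegrallyClosed.of_equiv (asIso (V.ι.stalkMap v)).commRingCatIsoToRingEquiv

/-- The only maximal point of an integral scheme is its generic point. -/
theorem eq_genericPoint_of_mem_irreducibleComponents {X : Scheme.{u}} [IsIntegral X] (p : X)
    (hp : closure ({p} : Set X) ∈ irreducibleComponents X) : p = genericPoint X := by
  have h1 : closure ({p} : Set X) = Set.univ := by
    rw [irreducibleComponents_eq_singleton] at hp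
    exact hp
  have h2 : IsGenericPoint p (Set.univ : Set X) := h1
  exact h2.eq (genericPoint_spec X)

/-- A birational locally quasi-finite morphism of integral schemes onto a normal scheme is, near
every point of the source, an open immersion. -/
theorem exists_isOpenImmersion_of_birational {X Y : Scheme.{u}} [IsIntegral X] [IsIntegral Y]
    (hN : ∀ y : Y, IsIntegrallyClosed (Y.presheaf.stalk y)) (f : X ⟶ Y) [LocallyQuasiFinite f]
    [LocallyOfFiniteType f] (hgen : f (genericPoint X) = genericPoint Y)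
    (hbir : IsIso (f.stalkMap (genericPoint X))) (x : X) :
    ∃ U : X.Opens, x ∈ U ∧ IsOpenImmersion (U.ι ≫ f) := by
  obtain ⟨_, ⟨(V : Y.Opens), hV, rfl⟩, hxV, -⟩ :=
    Y.isBasis_affineOpens.exists_subset_of_mem_open (Set.mem_univ (f x)) isOpen_univ
  obtain ⟨_, ⟨(U : X.Opens), hU, rfl⟩, hxU, hUV⟩ :=
    X.isBasis_affineOpens.exists_subset_of_mem_open (show x ∈ ((f ⁻¹ᵁ V : X.Opens) : Set X) from hxV)
      (f ⁻¹ᵁ V).2
  have e : U ≤ f ⁻¹ᵁ V := hUV
  refine ⟨U, hxU, ?_⟩
  haveI : IsAffine U.toScheme := hU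
  haveI : IsAffine V.toScheme := hV
  haveI : Nonempty U := ⟨⟨x, hxU⟩⟩
  haveI : Nonempty V := ⟨⟨f x, hxV⟩⟩
  haveI : Nonempty U.toScheme := ⟨⟨x, hxU⟩⟩
  haveI : Nonempty V.toScheme := ⟨⟨f x, hxV⟩⟩
  haveI : IsIntegral U.toScheme := inferInstance
  haveI : IsIntegral V.toScheme := inferInstance
  obtain ⟨h', hh'⟩ : ∃ h' : U.toScheme ⟶ V.toScheme, h' = f.resLE V U e := ⟨_, rfl⟩
  have hfac : h' ≫ V.ι = U.ι ≫ f := by rw [hh']; exact Scheme.Hom.resLE_comp_ι f e
  haveI : LocallyQuasiFinite h' := by rw [hh']; infer_instance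
  haveI : LocallyOfFiniteType h' := by rw [hh']; infer_instance
  haveI : IsAffineHom h' := isAffineHom_of_isAffine h'
  have hNV : ∀ v : V.toScheme, IsIntegrallyClosed (V.toScheme.presheaf.stalk v) :=
    isIntegrallyClosed_stalk_opens hN V
  obtain ⟨ξ, hξ⟩ : ∃ ξ : U.toScheme, ξ = genericPoint U.toScheme := ⟨_, rfl⟩
  have hξX : U.ι ξ = genericPoint X := by
    rw [hξ]; exact genericPoint_eq_of_isOpenImmersion U.ι
  have hstalk' : IsIso (h'.stalkMap ξ) := by
    rw [hh']
    refine ((MorphismProperty.isomorphisms _).arrow_mk_iso_iff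
      (Scheme.Hom.resLEStalkMap f e ξ)).mpr ?_
    change IsIso (f.stalkMap (U.ι ξ))
    have : ∀ x' (_ : x' = genericPoint X), IsIso (f.stalkMap x') := by
      rintro _ rfl; exact hbir
    exact this _ hξX
  have hgenV : h' ξ = genericPoint V.toScheme := by
    apply V.ι.injective
    rw [← Scheme.Hom.comp_apply, hfac, Scheme.Hom.comp_apply, hξX, hgen]
    exact (genericPoint_eq_of_isOpenImmersion V.ι).symm
  obtain ⟨τ, hτ⟩ : ∃ τ : U.toScheme ⟶ h'.normalization, τ = h'.toNormalization := ⟨_, rfl⟩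
  obtain ⟨ν, hν⟩ : ∃ ν : h'.normalization ⟶ V.toScheme, ν = h'.fromNormalization := ⟨_, rfl⟩
  have hτν : τ ≫ ν = h' := by rw [hτ, hν]; exact h'.toNormalization_fromNormalization
  haveI : IsOpenImmersion τ := by rw [hτ]; infer_instance
  haveI : IsIntegralHom ν := by rw [hν]; infer_instance
  haveI : IsIntegral h'.normalization := inferInstance
  have hτξ : τ ξ = genericPoint h'.normalization := by
    rw [hξ]; exact genericPoint_eq_of_isOpenImmersion τ
  have hνgen : ν (τ ξ) = genericPoint V.toScheme := by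
    rw [← Scheme.Hom.comp_apply, hτν]; exact hgenV
  have hνstalk : IsIso (ν.stalkMap (τ ξ)) := by
    have key : ∀ (m : U.toScheme ⟶ V.toScheme) (_ : m = τ ≫ ν), IsIso (m.stalkMap ξ) →
        IsIso (ν.stalkMap (τ ξ)) := by
      rintro _ rfl hm
      rw [Scheme.Hom.stalkMap_comp] at hm
      exact @IsIso.of_isIso_comp_right _ _ _ _ _ (ν.stalkMap (τ ξ)) (τ.stalkMap ξ) inferInstance hm
    exact key h' hτν.symm hstalk'
  haveI : IsIso ν := isIso_of_isIntegralHom_of_birational hNV ν (τ ξ) hτξ hνgen hνstalk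
  rw [← hfac, ← hτν]
  infer_instance

/-- A birational locally quasi-finite morphism of integral schemes onto a normal scheme is a local
isomorphism, and an open immersion if it is separated. -/
theorem isLocalIso_and_isOpenImmersion {X Y : Scheme.{u}} [IsIntegral X] [IsIntegral Y]
    (hN : ∀ y : Y, IsIntegrallyClosed (Y.presheaf.stalk y)) (f : X ⟶ Y) [LocallyQuasiFinite f]
    [LocallyOfFiniteType f] (hgen : f (genericPoint X) = genericPoint Y)
    (hbir : IsIso (f.stalkMap (genericPoint X))) :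
    IsLocalIso f ∧ (IsSeparated f → IsOpenImmersion f) := by
  have hloc := exists_isOpenImmersion_of_birational hN f hgen hbir
  refine ⟨⟨hloc⟩, fun hsep => ?_⟩
  haveI := hsep
  apply Groth.Agent.Lib.LocOpenImmH7.isOpenImmersion_of_separated_locally f hloc
  intro ξ ξ' hξ hξ' _
  rw [eq_genericPoint_of_mem_irreducibleComponents ξ hξ,
    eq_genericPoint_of_mem_irreducibleComponents ξ' hξ']

end Groth.Agent.Lib.BiratQFH7
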