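import Mathlib

/-!
# Birational ⇔ mutually inverse dominant rational maps (helper3)
-/

universe u

open CategoryTheory AlgebraicGeometry

namespace Groth.Agent.Lib.BiratRatH3

open AlgebraicGeometry.Scheme

variable {X Y Z : Scheme.{u}}

/-- Lifting a morphism through an open subscheme. -/
theorem exists_lift {A : Scheme.{u}} (h : A ⟶ Y) (V : Y.Opens) (hV : ∀ a, h a ∈ V) :
    ∃ l : A ⟶ V.toScheme, l ≫ V.ι = h := by
  have hr : Set.range h ⊆ Set.range V.ι := by
    rw [Scheme.Opens.range_ι]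
    rintro _ ⟨a, rfl⟩
    exact hV a
  exact ⟨IsOpenImmersion.lift V.ι h hr, IsOpenImmersion.lift_fac _ _ _⟩

/-- Key description of the composite of partial maps on a smaller open. -/
theorem key [PreirreducibleSpace X] [Nonempty Y] (f : X.PartialMap Y) [IsDominant f.hom]
    (g : Y.PartialMap Z) (A : X.Opens) (hA : A ≤ (f.comp g).domain) (hA' : A ≤ f.domain)
    (fA : A.toScheme ⟶ g.domain.toScheme) (hfA : fA ≫ g.domain.ι = X.homOfLE hA' ≫ f.hom) :
    X.homOfLE hA ≫ (f.comp g).hom = fA ≫ g.hom := by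
  have hA2 : A ≤ f.domain.ι ''ᵁ f.hom ⁻¹ᵁ g.domain := hA
  have h1 : X.homOfLE hA2 ≫ (f.domain.ι.isoImage (f.hom ⁻¹ᵁ g.domain)).inv ≫
      (f.hom ⁻¹ᵁ g.domain).ι = X.homOfLE hA' := by
    rw [← cancel_mono f.domain.ι]
    simp only [Category.assoc, Scheme.Hom.isoImage_inv_ι, Scheme.homOfLE_ι]
  have h2 : X.homOfLE hA2 ≫ (f.domain.ι.isoImage (f.hom ⁻¹ᵁ g.domain)).inv ≫
      f.hom ∣_ g.domain = fA := by
    rw [← cancel_mono g.domain.ι, hfA, Category.assoc, Category.assoc, morphismRestrict_ι,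
      ← h1]
    simp only [Category.assoc]
  have h3 := congrArg (· ≫ g.hom) h2
  simp only [Category.assoc] at h3
  exact h3

theorem isDominant_toPartialMap (φ : X.PartialIso Y) : IsDominant φ.toPartialMap.hom := by
  have := AlgebraicGeometry.Opens.isDominant_ι φ.dense_target
  show IsDominant (φ.iso.hom ≫ φ.target.ι)
  infer_instance

theorem comp_symm [PreirreducibleSpace X] [Nonempty Y] (φ : X.PartialIso Y)
    [IsDominant φ.toPartialMap.hom] :
    (φ.toPartialMap.comp φ.symm.toPartialMap).equiv (PartialMap.id X) := by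
  have hle : (φ.toPartialMap.comp φ.symm.toPartialMap).domain ≤ φ.source :=
    show φ.source.ι ''ᵁ _ ≤ φ.source from Scheme.Opens.ι_image_le _ _
  have hk := key φ.toPartialMap φ.symm.toPartialMap
    (φ.toPartialMap.comp φ.symm.toPartialMap).domain le_rfl hle
    (X.homOfLE hle ≫ φ.iso.hom) (by rw [Category.assoc]; rfl)
  refine ⟨(φ.toPartialMap.comp φ.symm.toPartialMap).domain,
    (φ.toPartialMap.comp φ.symm.toPartialMap).dense_domain, le_rfl, le_top, ?_⟩
  simp only [PartialMap.restrict_hom]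
  rw [hk]
  show (X.homOfLE hle ≫ φ.iso.hom) ≫ φ.iso.inv ≫ φ.source.ι =
    X.homOfLE le_top ≫ X.topIso.hom ≫ 𝟙 X
  simp

theorem forward [IrreducibleSpace X] [IrreducibleSpace Y] (φ : X.PartialIso Y) :
    ∃ (f : X ⤏ Y) (g : Y ⤏ X) (_ : f.IsDominant) (_ : g.IsDominant),
      f.comp g = Scheme.RationalMap.id X ∧ g.comp f = Scheme.RationalMap.id Y := by
  have := isDominant_toPartialMap φ
  have := isDominant_toPartialMap φ.symm
  refine ⟨φ.toRationalMap, φ.symm.toRationalMap, inferInstance, inferInstance, ?_, ?_⟩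
  · rw [RationalMap.toRationalMap_comp, PartialMap.toRationalMap_eq_iff]
    exact comp_symm φ
  · rw [RationalMap.toRationalMap_comp, PartialMap.toRationalMap_eq_iff]
    exact comp_symm φ.symm

theorem lemmaM [PreirreducibleSpace X] [Nonempty Y] (f : X.PartialMap Y) [IsDominant f.hom]
    (g : Y.PartialMap X)
    (W : X.Opens) (hW : W ≤ (f.comp g).domain) (hWf : W ≤ f.domain)
    (hWeq : X.homOfLE hW ≫ (f.comp g).hom = W.ι)
    (W' : Y.Opens) (hW'g : W' ≤ g.domain)
    (X₁ : X.Opens) (hX₁ : X₁ = W ⊓ f.domain.ι ''ᵁ (f.hom ⁻¹ᵁ W'))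
    (Y₁ : Y.Opens) (hY₁ : Y₁ = W' ⊓ g.domain.ι ''ᵁ (g.hom ⁻¹ᵁ W)) :
    ∃ (hXf : X₁ ≤ f.domain) (q : X₁.toScheme ⟶ Y₁.toScheme),
      q ≫ Y₁.ι = X.homOfLE hXf ≫ f.hom ∧
      ∀ (hYg : Y₁ ≤ g.domain) (r : Y₁.toScheme ⟶ X₁.toScheme),
        r ≫ X₁.ι = Y.homOfLE hYg ≫ g.hom → q ≫ r = 𝟙 _ := by
  have hXW : X₁ ≤ W := hX₁ ▸ inf_le_left
  have hXf : X₁ ≤ f.domain := hXW.trans hWf
  have hcomp : X.homOfLE (hXW.trans hW) ≫ (f.comp g).hom = X₁.ι := by
    rw [← Scheme.homOfLE_homOfLE X hXW hW, Category.assoc, hWeq, Scheme.homOfLE_ι]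
  have ha : ∀ x : X₁.toScheme, (X.homOfLE hXf ≫ f.hom) x ∈ W' := by
    intro x
    have hx : x.1 ∈ f.domain.ι ''ᵁ (f.hom ⁻¹ᵁ W') := by
      have hx0 : (x.1 : X) ∈ (W ⊓ f.domain.ι ''ᵁ (f.hom ⁻¹ᵁ W') : X.Opens) := hX₁.le x.2
      exact hx0.2
    obtain ⟨u, hu, hux⟩ := hx
    have hu2 : X.homOfLE hXf x = u := by
      apply Subtype.ext
      rw [Scheme.homOfLE_apply]
      exact hux.symm
    rw [Scheme.Hom.comp_apply, hu2]
    exact hu
  obtain ⟨p, hp⟩ := exists_lift _ W' ha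
  have star : p ≫ Y.homOfLE hW'g ≫ g.hom = X₁.ι := by
    have := key f g X₁ (hXW.trans hW) hXf (p ≫ Y.homOfLE hW'g) (by simp [hp])
    rw [hcomp] at this
    rw [this, Category.assoc]
  have hb : ∀ x : X₁.toScheme, (X.homOfLE hXf ≫ f.hom) x ∈ Y₁ := by
    intro x
    rw [hY₁]
    refine ⟨ha x, ⟨Y.homOfLE hW'g (p x), ?_, ?_⟩⟩
    · show g.hom (Y.homOfLE hW'g (p x)) ∈ W
      have h1 : g.hom (Y.homOfLE hW'g (p x)) = X₁.ι x := by
        rw [← star, Scheme.Hom.comp_apply, Scheme.Hom.comp_apply]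
      rw [h1]
      exact hXW x.2
    · have h1 : g.domain.ι (Y.homOfLE hW'g (p x)) = (p ≫ Y.homOfLE hW'g ≫ g.domain.ι) x := by
        rw [Scheme.Hom.comp_apply, Scheme.Hom.comp_apply]
      exact h1.trans (by rw [Scheme.homOfLE_ι, hp])
  obtain ⟨q, hq⟩ := exists_lift _ Y₁ hb
  refine ⟨hXf, q, hq, fun hYg r hr => ?_⟩
  rw [← cancel_mono X₁.ι, Category.assoc, hr, Category.id_comp]
  have := key f g X₁ (hXW.trans hW) hXf (q ≫ Y.homOfLE hYg) (by simp [hq])
  rw [hcomp] at this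
  rw [this, Category.assoc]

theorem equiv_id_iff [PreirreducibleSpace X] (c : X.PartialMap X) (W : X.Opens)
    (hWd : Dense (W : Set X)) (hW : W ≤ c.domain)
    (h : (c.restrict W hWd hW).hom = ((PartialMap.id X).restrict W hWd le_top).hom) :
    X.homOfLE hW ≫ c.hom = W.ι := by
  rw [PartialMap.restrict_hom, PartialMap.restrict_hom] at h
  rw [h]
  show X.homOfLE le_top ≫ X.topIso.hom ≫ 𝟙 X = W.ι
  simp

theorem backward [IrreducibleSpace X] [IrreducibleSpace Y]
    (f : X ⤏ Y) (g : Y ⤏ X) [f.IsDominant] [g.IsDominant]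
    (h1 : f.comp g = Scheme.RationalMap.id X) (h2 : g.comp f = Scheme.RationalMap.id Y) :
    Scheme.Birational X Y := by
  have e1 : (f.representative.comp g.representative).equiv (PartialMap.id X) := by
    rw [← PartialMap.toRationalMap_eq_iff, ← RationalMap.comp_def,
      g.toRationalMap_representative]
    exact h1
  have e2 : (g.representative.comp f.representative).equiv (PartialMap.id Y) := by
    rw [← PartialMap.toRationalMap_eq_iff, ← RationalMap.comp_def,
      f.toRationalMap_representative]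
    exact h2
  obtain ⟨W, hWd, hW, hWt, hWeq⟩ := e1
  obtain ⟨W', hW'd, hW', hW't, hW'eq⟩ := e2
  have hWeq' := equiv_id_iff _ W hWd hW hWeq
  have hW'eq' := equiv_id_iff _ W' hW'd hW' hW'eq
  have hWf : W ≤ f.representative.domain := hW.trans (Scheme.Opens.ι_image_le _ _)
  have hW'g : W' ≤ g.representative.domain := hW'.trans (Scheme.Opens.ι_image_le _ _)
  obtain ⟨hXf, q, hq, hqr⟩ := lemmaM f.representative g.representative W hW hWf hWeq' W' hW'g
    _ rfl _ rfl
  obtain ⟨hYg, r, hr, hrq⟩ := lemmaM g.representative f.representative W' hW' hW'g hW'eq' W hWf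
    _ rfl _ rfl
  have hd1 : Dense ((W ⊓ f.representative.domain.ι ''ᵁ
      (f.representative.hom ⁻¹ᵁ W') : X.Opens) : Set X) :=
    hWd.inter_of_isOpen_left
      (f.representative.comp (g.representative.restrict W' hW'd hW'g)).dense_domain W.2
  have hd2 : Dense ((W' ⊓ g.representative.domain.ι ''ᵁ
      (g.representative.hom ⁻¹ᵁ W) : Y.Opens) : Set Y) :=
    hW'd.inter_of_isOpen_left
      (g.representative.comp (f.representative.restrict W hWd hWf)).dense_domain W'.2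
  exact ⟨⟨_, hd1, _, hd2, ⟨q, r, hqr hYg r hr, hrq hXf q hq⟩⟩⟩

theorem main (X Y : Scheme.{u}) [IsIntegral X] [IsIntegral Y] :
    Scheme.Birational X Y ↔
      ∃ (f : X ⤏ Y) (g : Y ⤏ X) (_ : f.IsDominant) (_ : g.IsDominant),
        f.comp g = Scheme.RationalMap.id X ∧ g.comp f = Scheme.RationalMap.id Y := by
  constructor
  · rintro ⟨φ⟩
    exact forward φ
  · rintro ⟨f, g, hf, hg, h1, h2⟩
    exact backward f g h1 h2

end Groth.Agent.Lib.BiratRatH3
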