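import Mathlib

/-!
# Birkhoff factorization over a field (helper3)

Every `A ∈ GLₙ(k[T, T⁻¹])` can be written `A = P · diag(T^{dᵢ}) · Q⁻` with `P ∈ GLₙ(k[T])`,
`Q⁻ ∈ GLₙ(k[T⁻¹])` and `d` antitone.  Proof: among all `Q⁻` for which the columns of `A Q⁻` are
`T^{dᵢ} pᵢ` with `pᵢ` polynomial, take one with `∑ dᵢ` maximal; then the constant terms of the `pᵢ`
are linearly independent, which forces `P = (pᵢ)` to be invertible over `k[T]`.
-/

set_option autoImplicit false
set_option linter.unusedSectionVars false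

noncomputable section

open Polynomial LaurentPolynomial Matrix

universe u

namespace Groth.Agent.Lib.Birkhoff_helper3

variable {k : Type u} [Field k] {n : ℕ}

/-- `p ↦ p(T⁻¹)`. -/
def φm : k[X] →+* k[T;T⁻¹] :=
  ((LaurentPolynomial.invert : k[T;T⁻¹] ≃ₐ[k] k[T;T⁻¹]) : k[T;T⁻¹] →+* k[T;T⁻¹]).comp
    Polynomial.toLaurent

lemma φm_apply (p : k[X]) : φm p = LaurentPolynomial.invert (Polynomial.toLaurent p) := rfl

lemma φm_C (c : k) : φm (Polynomial.C c) = (LaurentPolynomial.C c : k[T;T⁻¹]) := by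
  rw [φm_apply, Polynomial.toLaurent_C, LaurentPolynomial.invert_C]

lemma φm_X_pow (e : ℕ) : φm (X ^ e : k[X]) = (T (-(e : ℤ)) : k[T;T⁻¹]) := by
  rw [φm_apply, Polynomial.toLaurent_X_pow, LaurentPolynomial.invert_T]

lemma bound (f : k[T;T⁻¹]) (hf : f ≠ 0) :
    ∃ m₀ : ℤ, ∀ (s : ℤ) (p : k[X]), Polynomial.toLaurent p = f * T (-s) → s ≤ m₀ := by
  obtain ⟨N, g, hg⟩ := LaurentPolynomial.exists_T_pow f
  have hg0 : g ≠ 0 := by
    intro h
    rw [h, map_zero] at hg
    apply hf
    have h1 := congrArg (· * (T (-(N : ℤ)) : k[T;T⁻¹])) hg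
    simp only [zero_mul, mul_T_assoc, add_neg_cancel, T_zero, mul_one] at h1
    exact h1.symm
  refine ⟨(g.natDegree : ℤ) - N, fun s p hp => ?_⟩
  by_contra hcon
  push_neg at hcon
  obtain ⟨e, he⟩ : ∃ e : ℕ, (e : ℤ) = N + s := ⟨(N + s).toNat, Int.toNat_of_nonneg (by omega)⟩
  have h1 : Polynomial.toLaurent (p * X ^ e) = Polynomial.toLaurent g := by
    rw [map_mul, hp, Polynomial.toLaurent_X_pow, hg, mul_T_assoc, he]
    congr 2
    ring
  have h2 : p * X ^ e = g := Polynomial.toLaurent_injective h1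
  have hp0 : p ≠ 0 := by
    intro h
    rw [h, zero_mul] at h2
    exact hg0 h2.symm
  have h3 : g.natDegree = p.natDegree + e := by
    rw [← h2, Polynomial.natDegree_mul_X_pow e hp0]
  omega

lemma dvd_X_pow_of_isUnit (p : k[X]) (h : IsUnit (Polynomial.toLaurent p)) :
    ∃ N : ℕ, p ∣ X ^ N := by
  obtain ⟨g, hg⟩ := h.exists_right_inv
  obtain ⟨N, q, hq⟩ := LaurentPolynomial.exists_T_pow g
  refine ⟨N, q, ?_⟩
  apply Polynomial.toLaurent_injective
  rw [map_mul, hq, ← mul_assoc, hg, one_mul, Polynomial.toLaurent_X_pow]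

lemma exists_good_init (A : Matrix (Fin n) (Fin n) k[T;T⁻¹]) :
    ∃ (N : ℕ) (P : Matrix (Fin n) (Fin n) k[X]),
      ∀ i j, Polynomial.toLaurent (P i j) = A i j * T N := by
  choose N p hp using fun i j => LaurentPolynomial.exists_T_pow (A i j)
  obtain ⟨S, hS⟩ : ∃ S : ℕ, ∀ i j, N i j ≤ S := by
    refine ⟨∑ i, ∑ j, N i j, fun i j => ?_⟩
    exact le_trans (Finset.single_le_sum (f := fun j => N i j) (fun _ _ => Nat.zero_le _)
      (Finset.mem_univ j)) (Finset.single_le_sum (f := fun i => ∑ j, N i j)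
      (fun _ _ => Nat.zero_le _) (Finset.mem_univ i))
  refine ⟨S, fun i j => p i j * X ^ (S - N i j), fun i j => ?_⟩
  rw [map_mul, hp, Polynomial.toLaurent_X_pow, mul_T_assoc]
  congr 2
  have := hS i j
  omega

/-- the columns of `A Q⁻` are `T^{dᵢ} pᵢ`. -/
def Good (A : Matrix (Fin n) (Fin n) k[T;T⁻¹]) (Q : (Matrix (Fin n) (Fin n) k[X])ˣ)
    (d : Fin n → ℤ) (P : Matrix (Fin n) (Fin n) k[X]) : Prop :=
  A * φm.mapMatrix (Q : Matrix (Fin n) (Fin n) k[X]) =
    Polynomial.toLaurent.mapMatrix P * diagonal (fun i => (T (d i) : k[T;T⁻¹]))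

lemma prod_T (d : Fin n → ℤ) : ∏ i, (T (d i) : k[T;T⁻¹]) = T (∑ i, d i) := by
  have : ∀ s : Finset (Fin n), ∏ i ∈ s, (T (d i) : k[T;T⁻¹]) = T (∑ i ∈ s, d i) := by
    intro s
    induction s using Finset.induction_on with
    | empty => simp [T_zero]
    | insert a s ha ih => rw [Finset.prod_insert ha, Finset.sum_insert ha, ih, T_add]
  exact this _

lemma det_good (A : Matrix (Fin n) (Fin n) k[T;T⁻¹]) (Q : (Matrix (Fin n) (Fin n) k[X])ˣ)
    (d : Fin n → ℤ) (P : Matrix (Fin n) (Fin n) k[X]) (h : Good A Q d P) :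
    A.det * φm (Q : Matrix (Fin n) (Fin n) k[X]).det =
      Polynomial.toLaurent P.det * T (∑ i, d i) := by
  have h1 := congrArg Matrix.det h
  rw [det_mul, det_mul, det_diagonal, prod_T, ← RingHom.map_det, ← RingHom.map_det] at h1
  exact h1

lemma good_bound (A : Matrix (Fin n) (Fin n) k[T;T⁻¹]) (hA : IsUnit A) :
    ∃ m₀ : ℤ, ∀ Q d P, Good A Q d P → ∑ i, d i ≤ m₀ := by
  have hdet : IsUnit A.det := (Matrix.isUnit_iff_isUnit_det A).1 hA
  obtain ⟨m₀, hm₀⟩ := bound A.det hdet.ne_zero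
  refine ⟨m₀, fun Q d P h => ?_⟩
  have h1 := det_good A Q d P h
  have hQ : IsUnit (Q : Matrix (Fin n) (Fin n) k[X]).det :=
    (Matrix.isUnit_iff_isUnit_det _).1 Q.isUnit
  obtain ⟨c, hc, hcQ⟩ := Polynomial.isUnit_iff.1 hQ
  rw [← hcQ, φm_C] at h1
  apply hm₀ _ (Polynomial.C c⁻¹ * P.det)
  rw [map_mul, Polynomial.toLaurent_C]
  have h2 : Polynomial.toLaurent P.det = A.det * LaurentPolynomial.C c * T (-(∑ i, d i)) := by
    rw [h1, mul_T_assoc, add_neg_cancel, T_zero, mul_one]
  rw [h2]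
  have h3 : (LaurentPolynomial.C c⁻¹ : k[T;T⁻¹]) * LaurentPolynomial.C c = 1 := by
    rw [← map_mul, inv_mul_cancel₀ hc.ne_zero, map_one]
  calc LaurentPolynomial.C c⁻¹ * (A.det * LaurentPolynomial.C c * T (-(∑ i, d i)))
      = (LaurentPolynomial.C c⁻¹ * LaurentPolynomial.C c) * A.det * T (-(∑ i, d i)) := by ring
    _ = A.det * T (-(∑ i, d i)) := by rw [h3, one_mul]

lemma improve (A : Matrix (Fin n) (Fin n) k[T;T⁻¹]) (Q : (Matrix (Fin n) (Fin n) k[X])ˣ)
    (d : Fin n → ℤ) (P : Matrix (Fin n) (Fin n) k[X]) (h : Good A Q d P)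
    (hdet : ((Polynomial.evalRingHom (0 : k)).mapMatrix P).det = 0) :
    ∃ Q' d' P', Good A Q' d' P' ∧ ∑ i, d' i = ∑ i, d i + 1 := by
  classical
  obtain ⟨c, hc0, hc⟩ := (Matrix.exists_mulVec_eq_zero_iff).2 hdet
  have hne : (Finset.univ.filter fun i => c i ≠ 0).Nonempty := by
    by_contra hcon
    rw [Finset.not_nonempty_iff_eq_empty] at hcon
    apply hc0
    funext i
    by_contra hi
    have : i ∈ Finset.univ.filter fun i => c i ≠ 0 :=
      Finset.mem_filter.2 ⟨Finset.mem_univ _, hi⟩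
    rw [hcon] at this
    exact absurd this (Finset.notMem_empty _)
  obtain ⟨i₀, hi₀, hmin⟩ := Finset.exists_min_image _ d hne
  rw [Finset.mem_filter] at hi₀
  have hmin' : ∀ i, c i ≠ 0 → d i₀ ≤ d i := fun i hi =>
    hmin i (Finset.mem_filter.2 ⟨Finset.mem_univ _, hi⟩)
  let u : Fin n → k[X] := fun i => Polynomial.C (c i) * X ^ ((d i - d i₀).toNat)
  let E₀ : Matrix (Fin n) (Fin n) k[X] := (1 : Matrix (Fin n) (Fin n) k[X]).updateCol i₀ u
  have hE₀det : E₀.det = Polynomial.C (c i₀) := by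
    show ((1 : Matrix (Fin n) (Fin n) k[X]).updateCol i₀ u).det = _
    rw [← Matrix.cramer_apply, Matrix.cramer_one, Module.End.one_apply]
    show Polynomial.C (c i₀) * X ^ ((d i₀ - d i₀).toNat) = _
    rw [sub_self, Int.toNat_zero, pow_zero, mul_one]
  have hE₀unit : IsUnit E₀ := by
    rw [Matrix.isUnit_iff_isUnit_det, hE₀det]
    exact Polynomial.isUnit_C.2 (isUnit_iff_ne_zero.2 hi₀.2)
  have hdiv : ∀ r, ∃ p' : k[X], ∑ i, P r i * Polynomial.C (c i) = X * p' := by
    intro r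
    have h1 := congrFun hc r
    have h2 : (∑ i, P r i * Polynomial.C (c i)).coeff 0 = 0 := by
      rw [Polynomial.coeff_zero_eq_eval_zero, Polynomial.eval_finset_sum]
      simp only [Polynomial.eval_mul, Polynomial.eval_C]
      exact h1
    exact Polynomial.X_dvd_iff.2 h2
  choose p' hp' using hdiv
  refine ⟨Q * hE₀unit.unit, Function.update d i₀ (d i₀ + 1), P.updateCol i₀ p', ?_, ?_⟩
  · unfold Good at h ⊢
    rw [Units.val_mul, map_mul, ← mul_assoc, h]
    refine Matrix.ext fun r j => ?_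
    rw [Matrix.mul_apply, Matrix.mul_diagonal]
    have hterm : ∀ i, (Polynomial.toLaurent.mapMatrix P *
        diagonal (fun i => (T (d i) : k[T;T⁻¹]))) r i = Polynomial.toLaurent (P r i) * T (d i) := by
      intro i
      rw [Matrix.mul_diagonal]
      rfl
    simp only [hterm]
    show ∑ i, Polynomial.toLaurent (P r i) * T (d i) * φm (E₀ i j) =
      Polynomial.toLaurent ((P.updateCol i₀ p') r j) * T (Function.update d i₀ (d i₀ + 1) j)
    by_cases hj : j = i₀
    · subst hj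
      rw [Matrix.updateCol_self, Function.update_self]
      have hE : ∀ i, E₀ i j = u i := fun i => by
        show ((1 : Matrix (Fin n) (Fin n) k[X]).updateCol j u) i j = u i
        rw [Matrix.updateCol_self]
      have hterm2 : ∀ i, Polynomial.toLaurent (P r i) * T (d i) * φm (E₀ i j) =
          Polynomial.toLaurent (P r i * Polynomial.C (c i)) * T (d j) := by
        intro i
        rw [hE]
        show _ * φm (Polynomial.C (c i) * X ^ ((d i - d j).toNat)) = _
        rw [map_mul, φm_C, φm_X_pow, map_mul, Polynomial.toLaurent_C]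
        by_cases hci : c i = 0
        · rw [hci, map_zero, zero_mul, mul_zero, mul_zero, zero_mul]
        · have hle := hmin' i hci
          rw [Int.toNat_of_nonneg (by omega)]
          calc Polynomial.toLaurent (P r i) * T (d i) * (LaurentPolynomial.C (c i) * T (-(d i - d j)))
              = Polynomial.toLaurent (P r i) * LaurentPolynomial.C (c i) *
                  (T (d i) * T (-(d i - d j))) := by ring
            _ = _ := by
              rw [← T_add]
              congr 2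
              ring
      simp only [hterm2]
      rw [← Finset.sum_mul, ← map_sum, hp' r, map_mul, Polynomial.toLaurent_X, mul_comm (T 1),
        mul_T_assoc, add_comm]
    · rw [Matrix.updateCol_ne hj, Function.update_of_ne hj]
      have hE : ∀ i, E₀ i j = (1 : Matrix (Fin n) (Fin n) k[X]) i j := fun i => by
        show ((1 : Matrix (Fin n) (Fin n) k[X]).updateCol i₀ u) i j = _
        rw [Matrix.updateCol_ne hj]
      simp only [hE]
      rw [Finset.sum_eq_single j]
      · rw [Matrix.one_apply_eq, map_one, mul_one]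
      · intro i _ hij
        rw [Matrix.one_apply_ne hij, map_zero, mul_zero]
      · intro h
        exact absurd (Finset.mem_univ j) h
  · rw [Finset.sum_update_of_mem (Finset.mem_univ i₀),
      ← Finset.add_sum_erase Finset.univ d (Finset.mem_univ i₀), Finset.sdiff_singleton_eq_erase]
    ring

lemma isUnit_of_good (A : Matrix (Fin n) (Fin n) k[T;T⁻¹]) (hA : IsUnit A)
    (Q : (Matrix (Fin n) (Fin n) k[X])ˣ)
    (d : Fin n → ℤ) (P : Matrix (Fin n) (Fin n) k[X]) (h : Good A Q d P)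
    (hdet : ((Polynomial.evalRingHom (0 : k)).mapMatrix P).det ≠ 0) : IsUnit P := by
  rw [Matrix.isUnit_iff_isUnit_det]
  have h1 : IsUnit (Polynomial.toLaurent P.det) := by
    have h2 := det_good A Q d P h
    have hu : IsUnit (A.det * φm (Q : Matrix (Fin n) (Fin n) k[X]).det) :=
      ((Matrix.isUnit_iff_isUnit_det A).1 hA).mul
        (((Matrix.isUnit_iff_isUnit_det _).1 Q.isUnit).map φm)
    rw [h2] at hu
    exact (IsUnit.mul_iff.1 hu).1
  obtain ⟨N, hN⟩ := dvd_X_pow_of_isUnit _ h1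
  obtain ⟨j, -, hj⟩ := (dvd_prime_pow Polynomial.prime_X N).1 hN
  have hcoeff : P.det.coeff 0 ≠ 0 := by
    rw [Polynomial.coeff_zero_eq_eval_zero]
    have h3 := RingHom.map_det (Polynomial.evalRingHom (0 : k)) P
    rw [Polynomial.coe_evalRingHom] at h3
    rw [h3]
    exact hdet
  cases j with
  | zero =>
    rw [pow_zero] at hj
    exact (associated_one_iff_isUnit).1 hj
  | succ j =>
    exfalso
    apply hcoeff
    have h4 : (X : k[X]) ∣ P.det := (dvd_pow_self X (Nat.succ_ne_zero j)).trans hj.symm.dvd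
    exact Polynomial.X_dvd_iff.1 h4

/-- **Birkhoff factorization.** -/
theorem birkhoff (A : Matrix (Fin n) (Fin n) k[T;T⁻¹]) (hA : IsUnit A) :
    ∃ (P Q : Matrix (Fin n) (Fin n) k[X]) (d : Fin n → ℤ),
      IsUnit P ∧ IsUnit Q ∧ Antitone d ∧
        A = P.map Polynomial.toLaurent * Matrix.diagonal (fun i => LaurentPolynomial.T (d i)) *
          (Q.map Polynomial.toLaurent).map LaurentPolynomial.invert := by
  classical
  obtain ⟨m₀, hm₀⟩ := good_bound A hA
  obtain ⟨N, P₀, hP₀⟩ := exists_good_init A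
  have hinit : Good A 1 (fun _ => -(N : ℤ)) P₀ := by
    unfold Good
    rw [Units.val_one, map_one, mul_one]
    refine Matrix.ext fun i j => ?_
    rw [Matrix.mul_diagonal]
    show A i j = Polynomial.toLaurent (P₀ i j) * T (-(N : ℤ))
    rw [hP₀, mul_T_assoc, add_neg_cancel, T_zero, mul_one]
  obtain ⟨s, ⟨Q, d, P, hgood, hsum⟩, hmax⟩ := Int.exists_greatest_of_bdd
    (P := fun s => ∃ Q d P, Good A Q d P ∧ ∑ i, d i = s)
    ⟨m₀, fun z ⟨Q, d, P, h, hz⟩ => hz ▸ hm₀ Q d P h⟩ ⟨_, 1, _, P₀, hinit, rfl⟩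
  have hdet : ((Polynomial.evalRingHom (0 : k)).mapMatrix P).det ≠ 0 := by
    intro h0
    obtain ⟨Q', d', P', hg', hs'⟩ := improve A Q d P hgood h0
    have := hmax _ ⟨Q', d', P', hg', rfl⟩
    omega
  have hPunit := isUnit_of_good A hA Q d P hgood hdet
  have hA' : A = Polynomial.toLaurent.mapMatrix P * diagonal (fun i => (T (d i) : k[T;T⁻¹])) *
      φm.mapMatrix ((Q⁻¹ : (Matrix (Fin n) (Fin n) k[X])ˣ) : Matrix (Fin n) (Fin n) k[X]) := by
    unfold Good at hgood
    rw [← hgood, mul_assoc, ← map_mul, ← Units.val_mul, mul_inv_cancel, Units.val_one, map_one,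
      mul_one]
  let σ : Equiv.Perm (Fin n) := Tuple.sort (fun i => - d i)
  have hmono : Monotone ((fun i => - d i) ∘ σ) := Tuple.monotone_sort _
  refine ⟨P.submatrix id σ,
    ((Q⁻¹ : (Matrix (Fin n) (Fin n) k[X])ˣ) : Matrix (Fin n) (Fin n) k[X]).submatrix σ id,
    d ∘ σ, ?_, ?_, ?_, ?_⟩
  · exact (Matrix.isUnit_submatrix_equiv (Equiv.refl _) σ).2 hPunit
  · exact (Matrix.isUnit_submatrix_equiv σ (Equiv.refl _)).2 (Q⁻¹).isUnit
  · intro a b hab
    have := hmono hab
    simp only [Function.comp] at this ⊢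
    linarith
  · refine hA'.trans ?_
    refine Matrix.ext fun r s => ?_
    rw [Matrix.mul_apply, Matrix.mul_apply]
    rw [← Equiv.sum_comp σ]
    refine Finset.sum_congr rfl fun i _ => ?_
    rw [Matrix.mul_diagonal, Matrix.mul_diagonal]
    rfl

end Groth.Agent.Lib.Birkhoff_helper3
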