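import Mathlib
import Groth.Prelude.Def_BlowUp2

/-! The affine blow-up algebra under a surjection of rings (lead). -/

set_option autoImplicit false

namespace Groth.Agent.Lib.BlowAff

open BlowUp

variable {B A : Type*} [CommRing B] [CommRing A] [Algebra B A]

lemma awayMap_algebraMap (π b : B) :
    Localization.awayMap (algebraMap B A) π (algebraMap B (Localization.Away π) b) =
      algebraMap A (Localization.Away (algebraMap B A π)) (algebraMap B A b) := by
  unfold Localization.awayMap IsLocalization.Away.map
  rw [IsLocalization.map_eq]

lemma awayMap_mk' (π b : B) (s : Submonoid.powers π) :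
    ∃ h, Localization.awayMap (algebraMap B A) π (IsLocalization.mk' (Localization.Away π) b s) =
      IsLocalization.mk' (Localization.Away (algebraMap B A π)) (algebraMap B A b)
        (⟨algebraMap B A s, h⟩ : Submonoid.powers (algebraMap B A π)) := by
  unfold Localization.awayMap IsLocalization.Away.map
  exact ⟨_, IsLocalization.map_mk' _ _ _⟩

theorem main {B A : Type*} [CommRing B] [CommRing A] [Algebra B A]
    (hq : Function.Surjective (algebraMap B A)) (I : Ideal B) (π : B) (hπ : π ∈ I)
    (ψ : affineAlgebra B I π →+*
      affineAlgebra A (I.map (algebraMap B A)) (algebraMap B A π))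
    (hψ : ∀ x : affineAlgebra B I π,
      ((ψ x : affineAlgebra A (I.map (algebraMap B A)) (algebraMap B A π)) :
          Localization.Away (algebraMap B A π)) =
        Localization.awayMap (algebraMap B A) π (x : Localization.Away π)) :
    Function.Surjective ψ ∧
      ∀ x : affineAlgebra B I π, x ∈ RingHom.ker ψ ↔
        ∃ n : ℕ, algebraMap B (affineAlgebra B I π) π ^ n * x ∈
          (RingHom.ker (algebraMap B A)).map (algebraMap B (affineAlgebra B I π)) := by
  constructor
  · intro y
    have key : ∀ z ∈ affineAlgebra A (I.map (algebraMap B A)) (algebraMap B A π),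
        ∃ x ∈ affineAlgebra B I π, Localization.awayMap (algebraMap B A) π x = z := by
      intro z hz
      unfold affineAlgebra at hz
      induction hz using Algebra.adjoin_induction with
      | mem z hz =>
        obtain ⟨y0, hy0, rfl⟩ := hz
        obtain ⟨x0, hx0, rfl⟩ := (Ideal.mem_map_iff_of_surjective _ hq).1 hy0
        refine ⟨IsLocalization.mk' _ x0 ⟨π, Submonoid.mem_powers π⟩,
          Algebra.subset_adjoin ⟨x0, hx0, rfl⟩, ?_⟩
        obtain ⟨h, e⟩ := awayMap_mk' (A := A) π x0 ⟨π, Submonoid.mem_powers π⟩
        exact e
      | algebraMap a =>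
        obtain ⟨b, rfl⟩ := hq a
        exact ⟨algebraMap B _ b, Subalgebra.algebraMap_mem _ b, awayMap_algebraMap π b⟩
      | add z w _ _ hz hw =>
        obtain ⟨x, hx, rfl⟩ := hz
        obtain ⟨x', hx', rfl⟩ := hw
        exact ⟨x + x', Subalgebra.add_mem _ hx hx', map_add _ _ _⟩
      | mul z w _ _ hz hw =>
        obtain ⟨x, hx, rfl⟩ := hz
        obtain ⟨x', hx', rfl⟩ := hw
        exact ⟨x * x', Subalgebra.mul_mem _ hx hx', map_mul _ _ _⟩
    obtain ⟨x, hx, hxy⟩ := key y y.2
    exact ⟨⟨x, hx⟩, Subtype.ext (by rw [hψ]; exact hxy)⟩
  · intro x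
    rw [RingHom.mem_ker]
    have hcoe : ψ x = 0 ↔
        Localization.awayMap (algebraMap B A) π (x : Localization.Away π) = 0 := by
      rw [← hψ]
      exact ⟨fun h => by rw [h]; rfl, fun h => Subtype.ext h⟩
    rw [hcoe]
    constructor
    · intro h0
      obtain ⟨b, s, hbs⟩ := IsLocalization.exists_mk'_eq (Submonoid.powers π)
        (x : Localization.Away π)
      obtain ⟨N, hN⟩ := (Submonoid.mem_powers_iff _ _).1 s.2
      obtain ⟨h, e⟩ := awayMap_mk' (A := A) π b s
      rw [← hbs, e, IsLocalization.mk'_eq_zero_iff] at h0
      obtain ⟨m, hm⟩ := h0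
      obtain ⟨n, hn⟩ := (Submonoid.mem_powers_iff _ _).1 m.2
      have hk : π ^ n * b ∈ RingHom.ker (algebraMap B A) := by
        rw [RingHom.mem_ker, map_mul, map_pow, hn]
        exact hm
      refine ⟨n + N, ?_⟩
      have heq : algebraMap B (affineAlgebra B I π) π ^ (n + N) * x =
          algebraMap B (affineAlgebra B I π) (π ^ n * b) := by
        apply Subtype.ext
        have h1 : algebraMap B (Localization.Away π) (s : B) * (x : Localization.Away π) =
            algebraMap B (Localization.Away π) b := by
          rw [← hbs]; exact IsLocalization.mk'_spec' _ _ _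
        show (algebraMap B (Localization.Away π) π) ^ (n + N) * (x : Localization.Away π) =
          algebraMap B (Localization.Away π) (π ^ n * b)
        rw [map_mul, ← h1, ← hN, map_pow, map_pow, pow_add]
        ring
      rw [heq]
      exact Ideal.mem_map_of_mem _ hk
    · rintro ⟨n, hn⟩
      have hle : (RingHom.ker (algebraMap B A)).map (algebraMap B (affineAlgebra B I π)) ≤
          RingHom.ker ψ := by
        rw [Ideal.map_le_iff_le_comap]
        intro k hk
        rw [Ideal.mem_comap, RingHom.mem_ker]
        apply Subtype.ext
        rw [hψ]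
        show Localization.awayMap (algebraMap B A) π (algebraMap B (Localization.Away π) k) = 0
        rw [awayMap_algebraMap, RingHom.mem_ker.1 hk, map_zero]
      have h1 := hle hn
      rw [RingHom.mem_ker, map_mul, map_pow] at h1
      have h2 : ((ψ (algebraMap B (affineAlgebra B I π) π) : affineAlgebra A _ _) :
          Localization.Away (algebraMap B A π)) ^ n *
          ((ψ x : affineAlgebra A _ _) : Localization.Away (algebraMap B A π)) = 0 := by
        have := congrArg Subtype.val h1
        simpa using this
      rw [hψ, hψ] at h2
      have h3 : ((algebraMap B (affineAlgebra B I π) π : affineAlgebra B I π) :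
          Localization.Away π) = algebraMap B (Localization.Away π) π := rfl
      rw [h3, awayMap_algebraMap] at h2
      have hu : IsUnit (algebraMap A (Localization.Away (algebraMap B A π)) (algebraMap B A π)) :=
        IsLocalization.Away.algebraMap_isUnit _
      exact (hu.pow n).mul_right_eq_zero.1 h2

end Groth.Agent.Lib.BlowAff
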