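import Mathlib
import Groth.Prelude.Def_BlowUp2
import Groth.Agent.Lib.BlowAff_lead

/-! The affine blow-up algebra commutes with localization away from an element (lead). -/

set_option autoImplicit false

namespace Groth.Agent.Lib.BlowAff

open BlowUp

theorem loc {A : Type*} [CommRing A] (I : Ideal A) (π a : A) (hπ : π ∈ I)
    (ψ : affineAlgebra A I π →+*
      affineAlgebra (Localization.Away a) (I.map (algebraMap A (Localization.Away a)))
        (algebraMap A (Localization.Away a) π))
    (hψ : ∀ x : affineAlgebra A I π,
      ((ψ x : affineAlgebra (Localization.Away a) (I.map (algebraMap A (Localization.Away a)))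
          (algebraMap A (Localization.Away a) π)) :
          Localization.Away (algebraMap A (Localization.Away a) π)) =
        Localization.awayMap (algebraMap A (Localization.Away a)) π
          (x : Localization.Away π)) :
    letI := ψ.toAlgebra
    IsLocalization.Away (algebraMap A (affineAlgebra A I π) a)
      (affineAlgebra (Localization.Away a) (I.map (algebraMap A (Localization.Away a)))
        (algebraMap A (Localization.Away a) π)) := by
  letI := ψ.toAlgebra
  -- abbreviations
  have hψalg : ∀ b : A, ψ (algebraMap A (affineAlgebra A I π) b) =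
      algebraMap (Localization.Away a) (affineAlgebra (Localization.Away a)
        (I.map (algebraMap A (Localization.Away a))) (algebraMap A (Localization.Away a) π))
        (algebraMap A (Localization.Away a) b) := by
    intro b
    apply Subtype.ext
    rw [hψ]
    exact awayMap_algebraMap π b
  have hua : IsUnit (algebraMap A (Localization.Away a) a) :=
    IsLocalization.Away.algebraMap_isUnit a
  refine (isLocalization_iff _ _).2 ⟨?_, ?_, ?_⟩
  · -- units
    rintro ⟨y, hy⟩
    obtain ⟨n, rfl⟩ := (Submonoid.mem_powers_iff _ _).1 hy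
    show IsUnit (ψ (algebraMap A (affineAlgebra A I π) a ^ n))
    rw [map_pow, hψalg]
    exact (hua.map _).pow n
  · -- surjectivity up to powers of a
    have key : ∀ z ∈ affineAlgebra (Localization.Away a)
        (I.map (algebraMap A (Localization.Away a))) (algebraMap A (Localization.Away a) π),
        ∃ (n : ℕ) (x : Localization.Away π), x ∈ affineAlgebra A I π ∧
          z * (algebraMap (Localization.Away a)
            (Localization.Away (algebraMap A (Localization.Away a) π))
            (algebraMap A (Localization.Away a) a)) ^ n =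
          Localization.awayMap (algebraMap A (Localization.Away a)) π x := by
      intro z hz
      unfold affineAlgebra at hz
      induction hz using Algebra.adjoin_induction with
      | mem z hz =>
        obtain ⟨y0, hy0, rfl⟩ := hz
        obtain ⟨⟨x0, s⟩, hs⟩ :=
          (IsLocalization.mem_map_algebraMap_iff (Submonoid.powers a) (Localization.Away a)).1 hy0
        obtain ⟨n, hn⟩ := (Submonoid.mem_powers_iff _ _).1 s.2
        refine ⟨n, IsLocalization.mk' _ (x0 : A) ⟨π, Submonoid.mem_powers π⟩,
          Algebra.subset_adjoin ⟨x0, x0.2, rfl⟩, ?_⟩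
        obtain ⟨h, e⟩ := awayMap_mk' (A := Localization.Away a) π (x0 : A)
          ⟨π, Submonoid.mem_powers π⟩
        rw [e, mul_comm, ← map_pow, ← map_pow, hn, IsLocalization.mul_mk'_eq_mk'_of_mul,
          mul_comm, hs]
      | algebraMap z0 =>
        obtain ⟨⟨b, s⟩, hs⟩ := IsLocalization.surj (Submonoid.powers a) z0
        obtain ⟨n, hn⟩ := (Submonoid.mem_powers_iff _ _).1 s.2
        refine ⟨n, algebraMap A _ b, Subalgebra.algebraMap_mem _ b, ?_⟩
        rw [awayMap_algebraMap, ← map_pow, ← map_pow, hn, ← map_mul, hs]
      | add z w _ _ hz hw =>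
        obtain ⟨n, x, hx, ex⟩ := hz
        obtain ⟨m, x', hx', ex'⟩ := hw
        refine ⟨n + m, x * algebraMap A _ a ^ m + x' * algebraMap A _ a ^ n,
          Subalgebra.add_mem _
            (Subalgebra.mul_mem _ hx (Subalgebra.pow_mem _ (Subalgebra.algebraMap_mem _ a) m))
            (Subalgebra.mul_mem _ hx' (Subalgebra.pow_mem _ (Subalgebra.algebraMap_mem _ a) n)),
          ?_⟩
        rw [map_add, map_mul, map_mul, map_pow, map_pow, awayMap_algebraMap, ← ex, ← ex',
          pow_add]
        ring
      | mul z w _ _ hz hw =>
        obtain ⟨n, x, hx, ex⟩ := hz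
        obtain ⟨m, x', hx', ex'⟩ := hw
        refine ⟨n + m, x * x', Subalgebra.mul_mem _ hx hx', ?_⟩
        rw [map_mul, ← ex, ← ex', pow_add]
        ring
    intro z
    obtain ⟨n, x, hx, ex⟩ := key z z.2
    refine ⟨(⟨x, hx⟩, ⟨algebraMap A (affineAlgebra A I π) a ^ n, n, rfl⟩), ?_⟩
    show z * ψ (algebraMap A (affineAlgebra A I π) a ^ n) = ψ ⟨x, hx⟩
    apply Subtype.ext
    rw [map_pow, hψalg]
    show (z : Localization.Away (algebraMap A (Localization.Away a) π)) *
      ((algebraMap (Localization.Away a) (affineAlgebra (Localization.Away a)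
        (I.map (algebraMap A (Localization.Away a))) (algebraMap A (Localization.Away a) π))
        (algebraMap A (Localization.Away a) a) ^ n :
        affineAlgebra (Localization.Away a) _ _) :
        Localization.Away (algebraMap A (Localization.Away a) π)) = _
    rw [hψ]
    rw [← ex]
    rfl
  · -- injectivity up to powers of a
    intro x y hxy
    have hxy' : ψ x = ψ y := hxy
    have h0 : Localization.awayMap (algebraMap A (Localization.Away a)) π
        ((x : Localization.Away π) - (y : Localization.Away π)) = 0 := by
      rw [map_sub, ← hψ, ← hψ, hxy', sub_self]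
    obtain ⟨b, s, hbs⟩ := IsLocalization.exists_mk'_eq (Submonoid.powers π)
      ((x : Localization.Away π) - (y : Localization.Away π))
    obtain ⟨h, e⟩ := awayMap_mk' (A := Localization.Away a) π b s
    rw [← hbs, e, IsLocalization.mk'_eq_zero_iff] at h0
    obtain ⟨m, hm⟩ := h0
    obtain ⟨n, hn⟩ := (Submonoid.mem_powers_iff _ _).1 m.2
    have hk : algebraMap A (Localization.Away a) (π ^ n * b) = 0 := by
      rw [map_mul, map_pow, hn]; exact hm
    rw [IsLocalization.map_eq_zero_iff (Submonoid.powers a)] at hk
    obtain ⟨c, hc⟩ := hk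
    obtain ⟨k, hk⟩ := (Submonoid.mem_powers_iff _ _).1 c.2
    refine ⟨⟨algebraMap A (affineAlgebra A I π) a ^ k, k, rfl⟩, ?_⟩
    apply Subtype.ext
    show (algebraMap A (Localization.Away π) a) ^ k * (x : Localization.Away π) =
      (algebraMap A (Localization.Away π) a) ^ k * (y : Localization.Away π)
    rw [← sub_eq_zero, ← mul_sub, ← hbs, ← map_pow, IsLocalization.mul_mk'_eq_mk'_of_mul,
      IsLocalization.mk'_eq_zero_iff]
    refine ⟨⟨π ^ n, n, rfl⟩, ?_⟩
    show π ^ n * (a ^ k * b) = 0
    rw [hk]
    rw [← hc]
    ring

end Groth.Agent.Lib.BlowAff
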