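import Mathlib
import Groth.Prelude.Def_RegImm
import Groth.Prelude.Def_BlowUp2
import Groth.Prelude.Def_CAlg
import Groth.Agent.Lib.BlowPerf2_helper2
import Groth.Agent.Lib.SyntCM1_helper2
import Groth.Agent.Lib.FlatCM2_helper9
import Groth.Agent.Lib.CMAscent_helper5
import Groth.Agent.Lib.CMEquiv_helper3
import Groth.Agent.Lib.KoszulFlat_helper9
import Groth.Agent.Lib.CMInterSch_helper2

/-!
# The blow-up of a Cohen–Macaulay scheme in a regular ideal is Cohen–Macaulay (helper2, S15713)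
-/

set_option autoImplicit false
set_option maxHeartbeats 400000
universe u

open AlgebraicGeometry CategoryTheory CategoryTheory.Limits TopologicalSpace Opposite

namespace Groth.Agent.Lib.BlowCM

open Groth.Agent.Lib.BlowPerf

section ring

/-- A Cohen–Macaulay ring modulo a Koszul-regular sequence is Cohen–Macaulay. -/
theorem isCMRing_quot_kreg (P : Type u) [CommRing P] [hP : LocCoh.IsCohenMacaulayRing P]
    (G : List P) (hG : LCI.IsKoszulRegularSeq P G) :
    LocCoh.IsCohenMacaulayRing (P ⧸ Ideal.ofList G) := by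
  haveI : IsNoetherianRing P := hP.toIsNoetherian
  apply Groth.Agent.Link9.isCMRing_quot_of_forall
  intro Q hQ hJQ
  haveI := hP.isCohenMacaulayLocalRing_localization Q
  haveI : IsNoetherianRing (Localization.AtPrime Q) :=
    IsLocalization.isNoetherianRing Q.primeCompl _ inferInstance
  have hflat : (algebraMap P (Localization.AtPrime Q)).Flat :=
    RingHom.flat_algebraMap_iff.mpr (IsLocalization.flat _ Q.primeCompl)
  have hmem : ∀ x ∈ G, algebraMap P (Localization.AtPrime Q) x ∈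
      IsLocalRing.maximalIdeal (Localization.AtPrime Q) :=
    fun x hx => (IsLocalization.AtPrime.to_map_mem_maximal_iff (Localization.AtPrime Q) Q x).mpr
      (hJQ (Ideal.subset_span hx))
  have hW := Groth.Agent.KoszulFlat9.isWeaklyRegular_map_of_koszulRegular
    (algebraMap P (Localization.AtPrime Q)) hflat G hG hmem
  have hmem' : ∀ y ∈ G.map (algebraMap P (Localization.AtPrime Q)),
      y ∈ IsLocalRing.maximalIdeal (Localization.AtPrime Q) := by
    intro y hy
    obtain ⟨x, hx, rfl⟩ := List.mem_map.1 hy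
    exact hmem x hx
  have h3 := Groth.Agent.Lib.SyntCM.cmLocal_quot_list (Localization.AtPrime Q) _ hmem' hW
  exact Groth.Agent.Lib.CMEquivH3.isCohenMacaulayLocalRing_of_ringEquiv
    (Ideal.quotEquivOfEq (by rw [Ideal.map_ofList])) h3

theorem isCMRing_affineAlgebra (A : Type u) [CommRing A] [LocCoh.IsCohenMacaulayRing A] (a : A)
    (l : List A) (h : LCI.IsKoszulRegularSeq A (a :: l)) (hI : Ideal.ofList (a :: l) ≠ ⊤) :
    LocCoh.IsCohenMacaulayRing ↥(BlowUp.affineAlgebra A (Ideal.ofList (a :: l)) a) := by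
  have hG := kreg_rel A a l h hI
  have h2 := kreg_cons_rel A a l h hI
  have hc : ∀ x, MvPolynomial.C a * x ∈ relIdeal A a l → x ∈ relIdeal A a l := by
    intro x hx
    rw [← ofList_rel] at hx ⊢
    exact mem_of_mul_mem_of_kreg_cons (MvPolynomial.C a) _ h2 x hx
  have hbij := theta_bijective A a l hc
  haveI := Groth.Agent.FlatCM.isCMRing_mvPolynomial A l.length
  have h3 := isCMRing_quot_kreg (MvPolynomial (Fin l.length) A) (List.ofFn (rel A a l)) hG
  rw [ofList_rel] at h3
  exact Groth.Agent.Lib.CMEquivH3.isCohenMacaulayRing_of_ringEquiv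
    (RingEquiv.ofBijective (theta A a l) hbij) h3

theorem isCMRing_affineAlgebra_of_mem (A : Type u) [CommRing A] [LocCoh.IsCohenMacaulayRing A]
    (rs : List A) (hrs : RingTheory.Sequence.IsRegular A rs) (a : A) (ha : a ∈ rs) :
    LocCoh.IsCohenMacaulayRing ↥(BlowUp.affineAlgebra A (Ideal.ofList rs) a) := by
  obtain ⟨s, t, rfl⟩ := List.append_of_mem ha
  have hperm : (s ++ a :: t).Perm (a :: (s ++ t)) := List.perm_middle
  have hK : LCI.IsKoszulRegularSeq A (s ++ a :: t) :=
    (Groth.Agent.Lib.KoszulTopH7.koszulRegular _ hrs.toIsWeaklyRegular).1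
  obtain ⟨e⟩ := Groth.Agent.Lib.KoszulSwap.koszul_perm A hperm
  have hK' : LCI.IsKoszulRegularSeq A (a :: (s ++ t)) := fun i hi =>
    IsZero.of_iso (hK i hi) ((HomologicalComplex.homologyFunctor _ _ i).mapIso e.symm)
  have hid : Ideal.ofList (a :: (s ++ t)) = Ideal.ofList (s ++ a :: t) := by
    show Ideal.span {r | r ∈ a :: (s ++ t)} = Ideal.span {r | r ∈ s ++ a :: t}
    congr 1
    ext r
    exact (hperm.mem_iff).symm
  have hne : Ideal.ofList (a :: (s ++ t)) ≠ ⊤ := by
    rw [hid]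
    intro htop
    apply hrs.top_ne_smul
    rw [htop, smul_eq_mul, Ideal.top_mul]
  have key := isCMRing_affineAlgebra A a (s ++ t) hK' hne
  rw [hid] at key
  exact key

end ring

section scheme

theorem cm_of_openImmersion {X Y : Scheme.{u}} (f : X ⟶ Y) [IsOpenImmersion f] (y : Y)
    (hy : y ∈ Set.range f)
    (h : ∀ x : X, LocCoh.IsCohenMacaulayLocalRing (X.presheaf.stalk x)) :
    LocCoh.IsCohenMacaulayLocalRing (Y.presheaf.stalk y) := by
  obtain ⟨x, rfl⟩ := hy
  exact Groth.Agent.Lib.CMEquivH3.isCohenMacaulayLocalRing_of_ringEquiv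
    (asIso (f.stalkMap x)).symm.commRingCatIsoToRingEquiv (h x)

theorem cm_of_openImmersion' {X Y : Scheme.{u}} (f : X ⟶ Y) [IsOpenImmersion f] (x : X)
    (h : LocCoh.IsCohenMacaulayLocalRing (Y.presheaf.stalk (f x))) :
    LocCoh.IsCohenMacaulayLocalRing (X.presheaf.stalk x) :=
  Groth.Agent.Lib.CMEquivH3.isCohenMacaulayLocalRing_of_ringEquiv
    (asIso (f.stalkMap x)).commRingCatIsoToRingEquiv h

theorem isCMRing_of_stalks {W : Scheme.{u}} [IsLocallyNoetherian W]
    (hcm : ∀ w : W, LocCoh.IsCohenMacaulayLocalRing (W.presheaf.stalk w)) {U : W.Opens}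
    (hU : IsAffineOpen U) : LocCoh.IsCohenMacaulayRing Γ(W, U) := by
  haveI : IsNoetherianRing Γ(W, U) := IsLocallyNoetherian.component_noetherian ⟨U, hU⟩
  refine { isCohenMacaulayLocalRing_localization := fun p hp => ?_ }
  have hxU := Groth.Agent.Lib.CMInterSch.fromSpec_mem hU ⟨p, hp⟩
  have hQ := Groth.Agent.Lib.CMInterSch.primeIdealOf_fromSpec hU ⟨p, hp⟩
  letI := TopCat.Presheaf.algebra_section_stalk W.presheaf (⟨hU.fromSpec ⟨p, hp⟩, hxU⟩ : U)
  have hloc : IsLocalization.AtPrime (W.presheaf.stalk (hU.fromSpec ⟨p, hp⟩)) p := by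
    have h1 := hU.isLocalization_stalk ⟨hU.fromSpec ⟨p, hp⟩, hxU⟩
    rw [hQ] at h1
    exact h1
  haveI := hloc
  exact Groth.Agent.Lib.CMEquivH3.isCohenMacaulayLocalRing_of_ringEquiv
    (IsLocalization.algEquiv p.primeCompl (W.presheaf.stalk (hU.fromSpec ⟨p, hp⟩))
      (Localization.AtPrime p)).toRingEquiv (hcm _)

theorem cm_of_isBlowUp_affine {A : Type u} [CommRing A] [LocCoh.IsCohenMacaulayRing A]
    (rs : List A) (hrs : RingTheory.Sequence.IsRegular A rs) {T : Scheme.{u}}
    (b : T ⟶ Spec (CommRingCat.of A))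
    (hb : BlowUp.IsBlowUp b (AffBlH8.idl (Ideal.ofList rs))) (t : T) :
    LocCoh.IsCohenMacaulayLocalRing (T.presheaf.stalk t) := by
  obtain ⟨a, ha, hta⟩ := BlowCov.exists_mem_W (Ideal.ofList rs) b {x | x ∈ rs} rfl hb.1 t
  obtain ⟨κ, hκ, hoi, hr⟩ :=
    BlowCov.exists_chart (Ideal.ofList rs) a b (Ideal.subset_span ha) hb
  haveI := hoi
  apply cm_of_openImmersion κ t (by rw [hr]; exact hta)
  intro s
  haveI : LocCoh.IsCohenMacaulayRing
      Γ(Spec (CommRingCat.of ↥(BlowUp.affineAlgebra A (Ideal.ofList rs) a)), ⊤) :=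
    Groth.Agent.Lib.CMEquivH3.isCohenMacaulayRing_of_ringEquiv
      (Scheme.ΓSpecIso _).symm.commRingCatIsoToRingEquiv
      (isCMRing_affineAlgebra_of_mem A rs hrs a ha)
  exact Groth.Agent.CMAscent.isCM_stalk_of_isAffine s

theorem main15713 (W T : Scheme.{u}) [IsLocallyNoetherian W]
    (hcm : ∀ w : W, LocCoh.IsCohenMacaulayLocalRing (W.presheaf.stalk w))
    (I : W.IdealSheafData) (hI : RegImm.IsRegularIdeal RegImm.Kind.regular I)
    (π : T ⟶ W) (hπ : BlowUp.IsBlowUp π I) (t : T) :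
    LocCoh.IsCohenMacaulayLocalRing (T.presheaf.stalk t) := by
  by_cases hx : π t ∈ I.support
  · obtain ⟨U, hxU, rs, hrs, hker⟩ := hI (π t) hx
    have hU : IsAffineOpen U.1 := U.2
    have sq0 := isPullback_morphismRestrict π U.1
    have sq1 : IsPullback hU.isoSpec.hom U.1.ι hU.fromSpec (𝟙 W) :=
      IsPullback.of_horiz_isIso ⟨by rw [hU.isoSpec_hom_fromSpec, Category.comp_id]⟩
    have sq : IsPullback ((π ∣_ U.1) ≫ hU.isoSpec.hom) (π ⁻¹ᵁ U.1).ι hU.fromSpec π := by
      have := sq0.paste_horiz sq1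
      rwa [Category.comp_id] at this
    have hb := isBlowUp_of_isPullback π I hπ hU.fromSpec _ _ sq
    have hker' : I.ideal ⟨U.1, hU⟩ = Ideal.ofList rs := hker
    rw [comap_fromSpec_eq_idl, hker'] at hb
    haveI := isCMRing_of_stalks hcm hU
    have hrs' : RingTheory.Sequence.IsRegular Γ(W, U.1) rs := hrs
    apply cm_of_openImmersion (π ⁻¹ᵁ U.1).ι t (by rw [Scheme.Opens.range_ι]; exact hxU)
    intro t'
    exact cm_of_isBlowUp_affine rs hrs' _ hb t'
  · have : IsIso (π ∣_ I.support.compl) := BlowIsoH8.isIso_restrict I π hπ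
    apply cm_of_openImmersion (π ⁻¹ᵁ I.support.compl).ι t
      (by rw [Scheme.Opens.range_ι]; exact hx)
    intro t'
    apply cm_of_openImmersion' (π ∣_ I.support.compl) t'
    apply cm_of_openImmersion' (Scheme.Opens.ι (X := W) I.support.compl)
    exact hcm _

end scheme

end Groth.Agent.Lib.BlowCM
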