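import Mathlib
import Groth.Prelude.Def_Coh
import Groth.Agent.Lib.BlowCov1_helper9
import Groth.Agent.Lib.MVVanish1_helper9

/-!
# Cohomology of a blow-up of `Spec A` in an ideal generated by two elements vanishes in degrees ≥ 2
(helper9).  APPEND-ONLY once landed.
-/

set_option autoImplicit false
universe u
open AlgebraicGeometry CategoryTheory CategoryTheory.Limits TopologicalSpace Opposite

namespace BlowCov

open AffBlH8

variable {A : Type u} [CommRing A] (I : Ideal A)
variable {X' : Scheme.{u}} (b : X' ⟶ Spec (CommRingCat.of A))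

theorem HH_eq_zero_of_span_pair (x y : A) (hI : Ideal.span {x, y} = I)
    (hb : BlowUp.IsBlowUp b (idl I)) (F : X'.Modules) [F.IsQuasicoherent] (p : ℕ) (hp : 2 ≤ p) :
    Subsingleton (Coh.HH X' F p) := by
  have hx : x ∈ I := hI ▸ Ideal.subset_span (by simp)
  have hy : y ∈ I := hI ▸ Ideal.subset_span (by simp)
  obtain ⟨B, hBdef⟩ : ∃ B : Set X'.Opens,
    B = {U | U = W I x b ∨ U = W I y b ∨ U = W I x b ⊓ W I y b} := ⟨_, rfl⟩
  have hB : ∀ U ∈ B, ∀ V ∈ B, U ⊓ V ∈ B := by
    subst hBdef
    rintro U (rfl | rfl | rfl) V (rfl | rfl | rfl)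
    · left; exact inf_idem _
    · right; right; rfl
    · right; right; exact inf_left_idem _ _
    · right; right; exact inf_comm _ _
    · right; left; exact inf_idem _
    · right; right; rw [inf_comm (W I x b), inf_left_idem]
    · right; right; rw [inf_comm, inf_left_idem]
    · right; right; exact inf_right_idem _ _
    · right; right; exact inf_idem _
  have hBaff : ∀ U ∈ B, IsAffineOpen U := by
    subst hBdef
    rintro U (rfl | rfl | rfl)
    · exact isAffineOpen_W I x b hx hb
    · exact isAffineOpen_W I y b hy hb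
    · exact isAffineOpen_W_inf I x b hx y hy hb
  refine MVVanish.HH_eq_zero_of_cover F B hB hBaff [W I x b, W I y b] ?_ ?_ p hp (by omega)
  · subst hBdef
    intro U hU
    simp only [List.mem_cons, List.not_mem_nil, or_false] at hU
    rcases hU with rfl | rfl
    · left; rfl
    · right; left; rfl
  · intro z
    obtain ⟨a, ha, hz⟩ := exists_mem_W I b {x, y} hI hb.1 z
    simp only [Set.mem_insert_iff, Set.mem_singleton_iff] at ha
    rcases ha with rfl | rfl
    · exact ⟨_, by simp, hz⟩
    · exact ⟨_, by simp, hz⟩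

theorem exists_span_pair_of_regular (A : Type u) [CommRing A] [IsRegularLocalRing A]
    (hA : ringKrullDim A = 2) :
    ∃ x y : A, Ideal.span {x, y} = IsLocalRing.maximalIdeal A := by
  have h1 : ((IsLocalRing.maximalIdeal A).spanFinrank : WithBot ℕ∞) = 2 := by
    rw [IsRegularLocalRing.spanFinrank_maximalIdeal, hA]
  have h2 : (IsLocalRing.maximalIdeal A).spanFinrank = 2 := by
    exact_mod_cast h1
  have hfg : (IsLocalRing.maximalIdeal A).FG := IsNoetherian.noetherian _
  have h3 := Submodule.FG.generators_ncard hfg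
  rw [h2, Set.ncard_eq_two] at h3
  obtain ⟨x, y, -, hxy⟩ := h3
  refine ⟨x, y, ?_⟩
  have := Submodule.span_generators (IsLocalRing.maximalIdeal A)
  rw [hxy] at this
  exact this

end BlowCov
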