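import Mathlib
import Groth.Prelude.Def_BlowUp2
import Groth.Agent.Lib.BlowCov1_helper9

/-!
# Functions on the standard charts of a blow-up of `Spec A` (helper9)

`sig`: the canonical ring map `A[I/a] → Γ(X', V)` for an open `V` on which `a` generates `I · O`
as a nonzerodivisor; every open of the chart `W a` is such; localisation description of
`Γ(X', W a ⊓ W c)`.
APPEND-ONLY once landed.
-/

set_option autoImplicit false
universe u
open AlgebraicGeometry CategoryTheory CategoryTheory.Limits TopologicalSpace Opposite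
open QcqsLoc

namespace BlowCov

open AffBlH8

variable {A : Type u} [CommRing A] (I : Ideal A) (a : A)
variable {X' : Scheme.{u}} (b : X' ⟶ Spec (CommRingCat.of A))

/-- The canonical ring map `A[I/a] → Γ(X', V)` on a good open. -/
noncomputable def sig (V : X'.Opens) (hV : Good I a b V) :
    ↥(BlowUp.affineAlgebra A I a) →+* Γ(X', V) :=
  (exists_ringHom I a (phi b V) hV.1 hV.2).choose

theorem sig_comp (V : X'.Opens) (hV : Good I a b V) :
    (sig I a b V hV).comp (algebraMap A ↥(BlowUp.affineAlgebra A I a)) = phi b V :=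
  (exists_ringHom I a (phi b V) hV.1 hV.2).choose_spec

theorem sig_algebraMap (V : X'.Opens) (hV : Good I a b V) (r : A) :
    sig I a b V hV (algebraMap A ↥(BlowUp.affineAlgebra A I a) r) = phi b V r :=
  RingHom.congr_fun (sig_comp I a b V hV) r

theorem sig_res {V V' : X'.Opens} (h : V' ≤ V) (hV : Good I a b V) (hV' : Good I a b V') :
    (rX h).comp (sig I a b V hV) = sig I a b V' hV' := by
  apply ringHom_ext I a
  · rw [RingHom.comp_assoc, sig_comp, sig_comp, phi_res b h]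
  · rw [sig_algebraMap]
    exact hV'.1

theorem sig_res_apply {V V' : X'.Opens} (h : V' ≤ V) (hV : Good I a b V) (hV' : Good I a b V')
    (t : ↥(BlowUp.affineAlgebra A I a)) :
    rX h (sig I a b V hV t) = sig I a b V' hV' t :=
  RingHom.congr_fun (sig_res I a b h hV hV') t

theorem sig_gen (V : X'.Opens) (hV : Good I a b V) (z : A) (hz : z ∈ I) :
    phi b V a * sig I a b V hV (gen I a z hz) = phi b V z := by
  rw [← sig_algebraMap I a b V hV, ← sig_algebraMap I a b V hV, ← map_mul, a_mul_gen]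

theorem sig_congr {V V' : X'.Opens} (e : V = V') (hV : Good I a b V) (hV' : Good I a b V') 
    (t : ↥(BlowUp.affineAlgebra A I a)) :
    rX e.ge (sig I a b V hV t) = sig I a b V' hV' t :=
  sig_res_apply I a b e.ge hV hV' t

section chart

variable (κ : Spec (CommRingCat.of ↥(BlowUp.affineAlgebra A I a)) ⟶ X') (hκ : κ ≫ b = cmap I a)
  [IsOpenImmersion κ]

include hκ in
/-- Images of opens of the chart are good. -/
theorem good_image (N : (Spec (CommRingCat.of ↥(BlowUp.affineAlgebra A I a))).Opens) :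
    Good I a b (κ ''ᵁ N) := by
  have hle : N ≤ κ ⁻¹ᵁ (κ ''ᵁ N) := (Scheme.Hom.preimage_image_eq κ N).ge
  obtain ⟨θ, hθ⟩ : ∃ θ, θ = (κ.appLE (κ ''ᵁ N) N hle).hom := ⟨_, rfl⟩
  have hθbij : Function.Bijective θ := by
    rw [hθ, ← Scheme.Hom.appIso_hom' κ N]
    exact ConcreteCategory.bijective_of_isIso (κ.appIso N).hom
  have hφ : phi (cmap I a) N = θ.comp (phi b (κ ''ᵁ N)) := by
    rw [hθ, ← hκ]
    exact phi_comp κ b (κ ''ᵁ N) N hle
  constructor
  · apply nzd_of_map_nzd θ hθbij.1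
    have : θ (phi b (κ ''ᵁ N) a) = phi (cmap I a) N a := by
      rw [hφ, RingHom.comp_apply]
    rw [this]
    exact phi_cmap_nzd I a N
  · intro x hx
    obtain ⟨y, hy⟩ := phi_cmap_mem I a N x hx
    obtain ⟨y', hy'⟩ := hθbij.2 y
    refine ⟨y', hθbij.1 ?_⟩
    rw [map_mul, hy']
    have e1 : θ (phi b (κ ''ᵁ N) x) = phi (cmap I a) N x := by
      rw [hφ, RingHom.comp_apply]
    have e2 : θ (phi b (κ ''ᵁ N) a) = phi (cmap I a) N a := by
      rw [hφ, RingHom.comp_apply]
    rw [e1, e2, hy]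

include hκ in
/-- On the image of an open `N` of the chart, `sig` is `rho` transported along `κ`. -/
theorem appLE_sig (N : (Spec (CommRingCat.of ↥(BlowUp.affineAlgebra A I a))).Opens)
    (t : ↥(BlowUp.affineAlgebra A I a)) :
    (κ.appLE (κ ''ᵁ N) N (Scheme.Hom.preimage_image_eq κ N).ge).hom
      (sig I a b (κ ''ᵁ N) (good_image I a b κ hκ N) t) = rho I a (𝟙 _) N t := by
  have hle : N ≤ κ ⁻¹ᵁ (κ ''ᵁ N) := (Scheme.Hom.preimage_image_eq κ N).ge
  have hφ : phi (cmap I a) N = (κ.appLE (κ ''ᵁ N) N hle).hom.comp (phi b (κ ''ᵁ N)) := by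
    rw [← hκ]
    exact phi_comp κ b (κ ''ᵁ N) N hle
  have h1 := rho_comp_algebraMap I a (𝟙 _) N
  rw [Category.id_comp] at h1
  have key : (κ.appLE (κ ''ᵁ N) N hle).hom.comp (sig I a b (κ ''ᵁ N) (good_image I a b κ hκ N)) =
      rho I a (𝟙 _) N := by
    apply ringHom_ext I a
    · rw [RingHom.comp_assoc, sig_comp, ← hφ, h1]
    · have h2 := RingHom.congr_fun h1 a
      rw [RingHom.comp_apply] at h2
      rw [h2]
      exact phi_cmap_nzd I a N
  exact RingHom.congr_fun key t

theorem rho_top_surjective :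
    Function.Surjective (rho I a (𝟙 (Spec (CommRingCat.of ↥(BlowUp.affineAlgebra A I a)))) ⊤) := by
  unfold rho
  rw [appLE_top_top]
  have : Scheme.Hom.appTop (𝟙 (Spec (CommRingCat.of ↥(BlowUp.affineAlgebra A I a)))) = 𝟙 _ := rfl
  rw [this]
  exact ((ConcreteCategory.isIso_iff_bijective
    (Scheme.ΓSpecIso (CommRingCat.of ↥(BlowUp.affineAlgebra A I a))).inv).mp inferInstance).2

include hκ in
/-- Functions on the image of the basic open `D(c/a)` of the chart are fractions with denominator a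
power of `c/a`. -/
theorem exists_sig_eq (c : A) (hc : c ∈ I)
    (g' : Γ(Spec (CommRingCat.of ↥(BlowUp.affineAlgebra A I a)), ⊤))
    (hg' : g' = rho I a (𝟙 _) ⊤ (gen I a c hc))
    (s : Γ(X', κ ''ᵁ ((Spec (CommRingCat.of ↥(BlowUp.affineAlgebra A I a))).basicOpen g'))) :
    ∃ (n : ℕ) (t : ↥(BlowUp.affineAlgebra A I a)),
      s * sig I a b _ (good_image I a b κ hκ _) (gen I a c hc) ^ n =
        sig I a b _ (good_image I a b κ hκ _) t := by
  have hle : (Spec (CommRingCat.of ↥(BlowUp.affineAlgebra A I a))).basicOpen g' ≤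
      κ ⁻¹ᵁ (κ ''ᵁ ((Spec (CommRingCat.of ↥(BlowUp.affineAlgebra A I a))).basicOpen g')) :=
    (Scheme.Hom.preimage_image_eq κ _).ge
  have hinj : Function.Injective (κ.appLE _ _ hle).hom := by
    rw [← Scheme.Hom.appIso_hom' κ _]
    exact (ConcreteCategory.bijective_of_isIso (κ.appIso _).hom).1
  haveI := (isAffineOpen_top (Spec (CommRingCat.of ↥(BlowUp.affineAlgebra A I a)))).isLocalization_basicOpen g'
  obtain ⟨⟨t, ⟨_, n, rfl⟩⟩, ht⟩ := IsLocalization.surj (Submonoid.powers g')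
    ((κ.appLE _ _ hle).hom s)
  obtain ⟨t₀, rfl⟩ := rho_top_surjective I a t
  refine ⟨n, t₀, hinj ?_⟩
  rw [map_mul, map_pow, appLE_sig I a b κ hκ, appLE_sig I a b κ hκ]
  have h1 : ∀ w : ↥(BlowUp.affineAlgebra A I a),
      rho I a (𝟙 _) ((Spec (CommRingCat.of ↥(BlowUp.affineAlgebra A I a))).basicOpen g') w =
      algebraMap Γ(Spec (CommRingCat.of ↥(BlowUp.affineAlgebra A I a)), ⊤)
        Γ(Spec (CommRingCat.of ↥(BlowUp.affineAlgebra A I a)),
          (Spec (CommRingCat.of ↥(BlowUp.affineAlgebra A I a))).basicOpen g') (rho I a (𝟙 _) ⊤ w) := by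
    intro w
    rw [rho_res I a (𝟙 _) (le_top : (Spec (CommRingCat.of ↥(BlowUp.affineAlgebra A I a))).basicOpen g' ≤ ⊤),
      RingHom.comp_apply]
    rfl
  rw [h1, h1, ← hg', ← map_pow]
  exact ht

include hκ in
/-- The image of `D(c/a)` is the intersection of the two charts. -/
theorem image_basicOpen_eq (ha : a ∈ I) (hr : Set.range κ = (W I a b : Set X')) (c : A) (hc : c ∈ I)
    (g' : Γ(Spec (CommRingCat.of ↥(BlowUp.affineAlgebra A I a)), ⊤))
    (hg' : g' = rho I a (𝟙 _) ⊤ (gen I a c hc)) :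
    κ ''ᵁ ((Spec (CommRingCat.of ↥(BlowUp.affineAlgebra A I a))).basicOpen g') =
      W I a b ⊓ W I c b := by
  obtain ⟨N, hNdef⟩ : ∃ N : (Spec (CommRingCat.of ↥(BlowUp.affineAlgebra A I a))).Opens,
    N = (Spec (CommRingCat.of ↥(BlowUp.affineAlgebra A I a))).basicOpen g' := ⟨_, rfl⟩
  rw [← hNdef]
  have hrho : ∀ N' : (Spec (CommRingCat.of ↥(BlowUp.affineAlgebra A I a))).Opens,
      rho I a (𝟙 _) N' (gen I a c hc) = rX (le_top : N' ≤ ⊤) g' := by
    intro N'
    rw [rho_res I a (𝟙 _) (le_top : N' ≤ ⊤), RingHom.comp_apply, hg']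
  apply le_antisymm
  · apply le_inf
    · rintro _ ⟨q, -, rfl⟩
      have : κ q ∈ Set.range κ := ⟨q, rfl⟩
      rw [hr] at this
      exact this
    · apply le_W
      have hle : N ≤ κ ⁻¹ᵁ (κ ''ᵁ N) := (Scheme.Hom.preimage_image_eq κ N).ge
      obtain ⟨θ, hθ⟩ : ∃ θ, θ = (κ.appLE (κ ''ᵁ N) N hle).hom := ⟨_, rfl⟩
      have hθbij : Function.Bijective θ := by
        rw [hθ, ← Scheme.Hom.appIso_hom' κ N]
        exact ConcreteCategory.bijective_of_isIso (κ.appIso N).hom
      have hφ : phi (cmap I a) N = θ.comp (phi b (κ ''ᵁ N)) := by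
        rw [hθ, ← hκ]
        exact phi_comp κ b (κ ''ᵁ N) N hle
      have hu : IsUnit (rho I a (𝟙 _) N (gen I a c hc)) := by
        rw [hrho N]
        subst hNdef
        exact (Spec (CommRingCat.of ↥(BlowUp.affineAlgebra A I a))).toRingedSpace.isUnit_res_basicOpen g'
      have hc' := phi_cmap_eq I a c hc N
      have hnzN : phi (cmap I a) N c ∈ nonZeroDivisors _ := by
        rw [hc']
        exact mul_mem hu.mem_nonZeroDivisors (phi_cmap_nzd I a N)
      constructor
      · apply nzd_of_map_nzd θ hθbij.1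
        have : θ (phi b (κ ''ᵁ N) c) = phi (cmap I a) N c := by
          rw [hφ, RingHom.comp_apply]
        rw [this]
        exact hnzN
      · intro x hx
        obtain ⟨y, hy⟩ := phi_cmap_mem I a N x hx
        obtain ⟨u, hu'⟩ := hu
        obtain ⟨y', hy'⟩ := hθbij.2 (y * ↑u⁻¹)
        refine ⟨y', hθbij.1 ?_⟩
        rw [map_mul, hy']
        have e1 : θ (phi b (κ ''ᵁ N) x) = phi (cmap I a) N x := by
          rw [hφ, RingHom.comp_apply]
        have e2 : θ (phi b (κ ''ᵁ N) c) = phi (cmap I a) N c := by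
          rw [hφ, RingHom.comp_apply]
        rw [e1, e2, hy, hc', ← hu']
        rw [mul_assoc, ← mul_assoc (↑u⁻¹ : Γ(Spec (CommRingCat.of ↥(BlowUp.affineAlgebra A I a)), N)),
          Units.inv_mul, one_mul]
  · rintro z ⟨hza, hzc⟩
    have hz' : z ∈ Set.range κ := by
      rw [hr]
      exact hza
    obtain ⟨q, rfl⟩ := hz'
    obtain ⟨V, hV, hzV⟩ := (mem_W_iff I c b _).mp hzc
    refine ⟨q, ?_, rfl⟩
    obtain ⟨N', hN'⟩ : ∃ N' : (Spec (CommRingCat.of ↥(BlowUp.affineAlgebra A I a))).Opens,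
      N' = κ ⁻¹ᵁ V := ⟨_, rfl⟩
    have hle : N' ≤ κ ⁻¹ᵁ V := hN'.le
    obtain ⟨θ, hθ⟩ : ∃ θ, θ = (κ.appLE V N' hle).hom := ⟨_, rfl⟩
    have hφ : phi (cmap I a) N' = θ.comp (phi b V) := by
      rw [hθ, ← hκ]
      exact phi_comp κ b V N' hle
    obtain ⟨y, hy⟩ := hV.2 a ha
    have h1 : phi (cmap I a) N' a = θ y * phi (cmap I a) N' c := by
      rw [hφ, RingHom.comp_apply, RingHom.comp_apply, hy, map_mul]
    rw [phi_cmap_eq I a c hc N'] at h1
    have hnz := phi_cmap_nzd I a N'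
    have h2 : phi (cmap I a) N' a * (θ y * rho I a (𝟙 _) N' (gen I a c hc) - 1) = 0 := by
      linear_combination -h1
    have h3 : θ y * rho I a (𝟙 _) N' (gen I a c hc) = 1 :=
      sub_eq_zero.mp ((mem_nonZeroDivisors_iff.mp hnz).1 _ h2)
    have hu : IsUnit (rX (le_top : N' ≤ ⊤) g') := by
      rw [← hrho N']
      exact IsUnit.of_mul_eq_one_right _ h3
    have h4 : (Spec (CommRingCat.of ↥(BlowUp.affineAlgebra A I a))).basicOpen
        (rX (le_top : N' ≤ ⊤) g') = N' := Scheme.basicOpen_of_isUnit _ hu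
    have h5 : (Spec (CommRingCat.of ↥(BlowUp.affineAlgebra A I a))).basicOpen
        (rX (le_top : N' ≤ ⊤) g') = N' ⊓ (Spec (CommRingCat.of ↥(BlowUp.affineAlgebra A I a))).basicOpen g' :=
      Scheme.basicOpen_res _ g' (homOfLE (le_top : N' ≤ ⊤)).op
    have hqN' : q ∈ N' := by
      rw [hN']
      exact hzV
    have h6 : q ∈ N' ⊓ (Spec (CommRingCat.of ↥(BlowUp.affineAlgebra A I a))).basicOpen g' := by
      rw [← h5, h4]
      exact hqN'
    rw [SetLike.mem_coe, hNdef]
    exact h6.2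

include hκ in
/-- Every open of the chart `W a` is good. -/
theorem good_of_le_W (hr : Set.range κ = (W I a b : Set X')) (V : X'.Opens) (hV : V ≤ W I a b) :
    Good I a b V := by
  have h1 : κ ''ᵁ (κ ⁻¹ᵁ V) = V := by
    rw [Scheme.Hom.image_preimage_eq_opensRange_inf]
    apply inf_eq_right.mpr
    intro z hz
    have : z ∈ (W I a b : Set X') := hV hz
    rw [← hr] at this
    exact this
  rw [← h1]
  exact good_image I a b κ hκ _

end chart

/-- Every open of the chart `W a` is good. -/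
theorem good_of_le_W' (ha : a ∈ I) (hb : BlowUp.IsBlowUp b (idl I)) (V : X'.Opens)
    (hV : V ≤ W I a b) : Good I a b V := by
  obtain ⟨κ, hκ, hoi, hr⟩ := exists_chart I a b ha hb
  haveI := hoi
  exact good_of_le_W I a b κ hκ hr V hV

/-- Functions on `W a ⊓ W c` are fractions with denominator a power of `c/a`. -/
theorem exists_sig_eq_inf (ha : a ∈ I) (c : A) (hc : c ∈ I) (hb : BlowUp.IsBlowUp b (idl I))
    (s : Γ(X', W I a b ⊓ W I c b)) :
    ∃ (n : ℕ) (t : ↥(BlowUp.affineAlgebra A I a)),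
      s * sig I a b _ (good_of_le_W' I a b ha hb _ inf_le_left) (gen I a c hc) ^ n =
        sig I a b _ (good_of_le_W' I a b ha hb _ inf_le_left) t := by
  obtain ⟨κ, hκ, hoi, hr⟩ := exists_chart I a b ha hb
  haveI := hoi
  have e := image_basicOpen_eq I a b κ hκ ha hr c hc _ rfl
  have key : ∀ (V : X'.Opens) (hV : Good I a b V) (hV' : Good I a b V),
      κ ''ᵁ ((Spec (CommRingCat.of ↥(BlowUp.affineAlgebra A I a))).basicOpen
        (rho I a (𝟙 _) ⊤ (gen I a c hc))) = V → ∀ s : Γ(X', V),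
      ∃ (n : ℕ) (t : ↥(BlowUp.affineAlgebra A I a)),
        s * sig I a b V hV (gen I a c hc) ^ n = sig I a b V hV' t := by
    rintro _ hV hV' rfl s
    exact exists_sig_eq I a b κ hκ c hc _ rfl s
  exact key _ _ _ e s

end BlowCov
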