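import Mathlib
import Groth.Agent.Lib.QCohCrit2_helper9

/-!
# Generating sections of a quasi-coherent module generate the sections over affine opens (helper9)

* `GenSec.G1`, `GenSec.G1_s`: restriction of generating sections along an open immersion.
* `GenSec.spec_span_eq_top`: on `Spec R`, generating sections of a quasi-coherent module span the
  global sections as an `R`-module.
* `GenSec.span_eq_top_of_isAffineOpen`: for quasi-coherent `F` on a scheme `X` with generating sections `G`
  (an epimorphism from a free module), `Γ(F, W)` is spanned over `Γ(X, W)` by the `G.s i` for affine `W`.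
APPEND-ONLY once landed.
-/

set_option autoImplicit false
universe u
open AlgebraicGeometry CategoryTheory CategoryTheory.Limits TopologicalSpace Opposite

namespace GenSec


variable {X Y : Scheme.{u}} (ψ : X ⟶ Y) [IsOpenImmersion ψ]

set_option backward.isDefEq.respectTransparency false in
noncomputable def G1 {M : Y.Modules} (G : SheafOfModules.GeneratingSections M) :
    SheafOfModules.GeneratingSections ((Scheme.Modules.restrictFunctor ψ).obj M) :=
  have : PreservesColimitsOfSize.{u, u} (Scheme.Modules.restrictFunctor ψ) := inferInstance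
  G.map (Scheme.Modules.restrictFunctor ψ) (Scheme.Modules.restrictUnitIso ψ).symm

theorem G1_I {M : Y.Modules} (G : SheafOfModules.GeneratingSections M) : (G1 ψ G).I = G.I := rfl

set_option backward.isDefEq.respectTransparency false in
theorem G1_s {M : Y.Modules} (G : SheafOfModules.GeneratingSections M) (i : G.I) (U : X.Opens) :
    ((G1 ψ G).s i).val (op U) = (G.s i).val (op (ψ ''ᵁ U)) := by
  have : PreservesColimitsOfSize.{u, u} (Scheme.Modules.restrictFunctor ψ) := inferInstance
  unfold G1
  simp only [SheafOfModules.GeneratingSections.map_s]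
  unfold SheafOfModules.GeneratingSections.mapFreeHom
  rw [SheafOfModules.freeHomEquiv_comp_apply]
  have h1 : ((Scheme.Modules.restrictFunctor ψ).obj (SheafOfModules.free G.I)).freeHomEquiv
      (SheafOfModules.mapFreeIso (Scheme.Modules.restrictFunctor ψ) G.I
        (Scheme.Modules.restrictUnitIso ψ).symm).hom i =
      SheafOfModules.unitHomEquiv _ ((Scheme.Modules.restrictUnitIso ψ).symm.hom ≫
        (Scheme.Modules.restrictFunctor ψ).map (SheafOfModules.ιFree i)) := by
    rw [← SheafOfModules.ιFree_mapFree, ← SheafOfModules.mapFreeIso_hom]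
    rfl
  rw [h1]
  have h2 : G.s i = SheafOfModules.unitHomEquiv _ (SheafOfModules.ιFree i ≫ G.π) := by
    have := SheafOfModules.unitHomEquiv_symm_freeHomEquiv_apply G.π i
    rw [← this, Equiv.apply_symm_apply]
    unfold SheafOfModules.GeneratingSections.π
    rw [Equiv.apply_symm_apply]
  rw [h2, ← SheafOfModules.unitHomEquiv_comp_apply, SheafOfModules.unitHomEquiv_apply_coe,
    SheafOfModules.unitHomEquiv_apply_coe]
  have h3 : ((Scheme.Modules.restrictUnitIso ψ).symm.hom).val.app (op U)
      (1 : X.ringCatSheaf.obj.obj (op U)) = (1 : Y.ringCatSheaf.obj.obj (op (ψ ''ᵁ U))) := by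
    have h4 : ((Scheme.Modules.restrictUnitIso ψ).hom).val.app (op U)
        (1 : Y.ringCatSheaf.obj.obj (op (ψ ''ᵁ U))) = (1 : X.ringCatSheaf.obj.obj (op U)) := by
      change (ψ.appIso U).hom (1 : Γ(Y, ψ ''ᵁ U)) = 1
      exact map_one _
    have h5 := congrArg (fun φ : (Scheme.Modules.restrict (SheafOfModules.unit Y.ringCatSheaf) ψ) ⟶
        (Scheme.Modules.restrict (SheafOfModules.unit Y.ringCatSheaf) ψ) =>
        φ.val.app (op U) (1 : Y.ringCatSheaf.obj.obj (op (ψ ''ᵁ U))))
        (Scheme.Modules.restrictUnitIso ψ).hom_inv_id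
    simp only at h5
    rw [← h4]
    exact h5
  rw [Category.assoc, ← Functor.map_comp]
  change (ConcreteCategory.hom ((SheafOfModules.ιFree i ≫ G.π).val.app (op (ψ ''ᵁ U))))
    ((ConcreteCategory.hom ((Scheme.Modules.restrictUnitIso ψ).symm.hom.val.app (op U)))
      (1 : X.ringCatSheaf.obj.obj (op U))) = _
  rw [h3]



variable {R : CommRingCat.{u}}

/-- value of a section over `U` is the restriction of its value over `⊤`. -/
theorem sections_val_eq {X : Scheme.{u}} {N : X.Modules} (s : SheafOfModules.sections N) (U : X.Opens) :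
    s.val (op U) = N.presheaf.map (homOfLE (le_top : U ≤ ⊤)).op (s.val (op ⊤)) :=
  (s.property (homOfLE (le_top : U ≤ ⊤)).op).symm

theorem spec_span_eq_top (N : (Spec R).Modules) [N.IsQuasicoherent]
    (G : SheafOfModules.GeneratingSections N) :
    Submodule.span R (@Set.range Γ(N, ⊤) G.I fun i => (G.s i).val (op ⊤)) = ⊤ := by
  obtain ⟨S, hS⟩ : ∃ S : Submodule R Γ(N, ⊤),
    S = Submodule.span R (@Set.range Γ(N, ⊤) G.I fun i => (G.s i).val (op ⊤)) := ⟨_, rfl⟩
  rw [← hS]
  let Q : ModuleCat R := ModuleCat.of R (Γ(N, ⊤) ⧸ S)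
  let q : ModuleCat.of R Γ(N, ⊤) ⟶ Q := ModuleCat.ofHom S.mkQ
  haveI : IsIso N.fromTildeΓ := inferInstance
  let c : N ⟶ tilde Q := inv N.fromTildeΓ ≫ tilde.map q
  -- value of `c` on global sections
  have hc : ∀ x : Γ(N, ⊤), c.app ⊤ x = (tilde.toOpen Q ⊤).hom (q.hom x) := by
    intro x
    have ha : (inv N.fromTildeΓ).app ⊤ x =
        (tilde.toOpen ((modulesSpecToSheaf.obj N).presheaf.obj (op ⊤)) ⊤).hom x := by
      have h1 := congrArg (fun f => f.hom x) (Scheme.Modules.toOpen_fromTildeΓ_app N ⊤)
      have h2 : N.fromTildeΓ.app ⊤ ((tilde.toOpen ((modulesSpecToSheaf.obj N).presheaf.obj (op ⊤)) ⊤).hom x)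
          = x := by
        refine Eq.trans h1 ?_
        change N.presheaf.map (𝟙 _) x = x
        rw [N.presheaf.map_id]
        rfl
      have h3 : N.fromTildeΓ.app ⊤ ((inv N.fromTildeΓ).app ⊤ x) = x := by
        have := congrArg (fun φ : N ⟶ N => φ.app ⊤ x) (IsIso.inv_hom_id N.fromTildeΓ)
        exact this
      have hinj : Function.Injective (N.fromTildeΓ.app ⊤) := by
        apply Function.LeftInverse.injective (g := (inv N.fromTildeΓ).app ⊤)
        intro y
        exact congrArg (fun φ : tilde ((modulesSpecToSheaf.obj N).presheaf.obj (op ⊤)) ⟶ _ => φ.app ⊤ y)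
          (IsIso.hom_inv_id N.fromTildeΓ)
      exact hinj (h3.trans h2.symm)
    have hb := congrArg (fun f => f.hom x) (tilde.toOpen_map_app q ⊤)
    change (tilde.map q).app ⊤ ((inv N.fromTildeΓ).app ⊤ x) = _
    rw [ha]
    exact hb
  have hq : ∀ i : G.I, q.hom ((G.s i).val (op ⊤)) = 0 := by
    intro i
    change S.mkQ ((G.s i).val (op ⊤)) = 0
    rw [Submodule.mkQ_apply, Submodule.Quotient.mk_eq_zero, hS]
    exact Submodule.subset_span ⟨i, rfl⟩
  have hzero : G.π ≫ c = 0 := by
    apply (SheafOfModules.freeHomEquiv _).injective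
    funext i
    rw [SheafOfModules.freeHomEquiv_comp_apply]
    have h1 : SheafOfModules.freeHomEquiv N G.π i = G.s i := by
      unfold SheafOfModules.GeneratingSections.π
      rw [Equiv.apply_symm_apply]
    rw [h1]
    apply PresheafOfModules.sections_ext
    rintro ⟨U⟩
    have h2 : (SheafOfModules.sectionsMap c (G.s i)).val (op U) = c.app U ((G.s i).val (op U)) := rfl
    have h3 : ((SheafOfModules.freeHomEquiv (tilde Q)) 0 i).val (op U) = 0 := by
      rw [SheafOfModules.freeHomEquiv_apply]
      rfl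
    rw [h2, h3, sections_val_eq (G.s i) U]
    have h4 := QCohCrit.app_naturality c (homOfLE (le_top : U ≤ ⊤)) ((G.s i).val (op ⊤))
    rw [h4, hc, hq, map_zero]
    exact map_zero _
  have hc0 : c = 0 := by
    haveI := G.epi
    exact (cancel_epi G.π).mp (hzero.trans Limits.comp_zero.symm)
  rw [eq_top_iff]
  intro x _
  have h5 : (tilde.toOpen Q ⊤).hom (q.hom x) = 0 := by
    rw [← hc, hc0]
    rfl
  have h6 : q.hom x = 0 := by
    have hbij := (ConcreteCategory.bijective_of_isIso (tilde.toOpen Q ⊤))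
    apply hbij.1
    rw [map_zero]
    exact h5
  have h7 : S.mkQ x = 0 := h6
  rwa [Submodule.mkQ_apply, Submodule.Quotient.mk_eq_zero] at h7


section transfer

theorem span_eq_top_of_smul {R A M : Type*} [CommRing R] [CommRing A] [AddCommGroup M] [Module R M]
    [Module A M] (h : ∀ (r : R) (x : M), ∃ a : A, r • x = a • x) (s : Set M)
    (hs : Submodule.span R s = ⊤) : Submodule.span A s = ⊤ := by
  rw [eq_top_iff]
  intro x hx0
  clear hx0
  have hx : x ∈ Submodule.span R s := by rw [hs]; trivial
  induction hx using Submodule.span_induction with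
  | mem y hy => exact Submodule.subset_span hy
  | zero => exact Submodule.zero_mem _
  | add y z _ _ hy hz => exact Submodule.add_mem _ hy hz
  | smul r y _ hy =>
    obtain ⟨a, ha⟩ := h r y
    rw [ha]
    exact Submodule.smul_mem _ a hy

theorem span_eq_top_of_isAffineOpen {X : Scheme.{u}} (F : X.Modules) [F.IsQuasicoherent]
    (G : SheafOfModules.GeneratingSections F) {W : X.Opens} (hW : IsAffineOpen W) :
    Submodule.span Γ(X, W) (@Set.range Γ(F, W) G.I fun i => (G.s i).val (op W)) = ⊤ := by
  have h1 := spec_span_eq_top ((Scheme.Modules.restrictFunctor hW.fromSpec).obj F) (G1 hW.fromSpec G)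
  have e : hW.fromSpec ''ᵁ ⊤ = W := by
    rw [Scheme.Hom.image_top_eq_opensRange, hW.opensRange_fromSpec]
  have h2 : Submodule.span Γ(X, hW.fromSpec ''ᵁ ⊤)
      (@Set.range Γ(F, hW.fromSpec ''ᵁ ⊤) G.I fun i => (G.s i).val (op (hW.fromSpec ''ᵁ ⊤))) = ⊤ := by
    have h3 : (@Set.range Γ(F, hW.fromSpec ''ᵁ ⊤) G.I fun i => (G.s i).val (op (hW.fromSpec ''ᵁ ⊤))) =
        (@Set.range Γ((Scheme.Modules.restrictFunctor hW.fromSpec).obj F, ⊤) G.I
          fun i => ((G1 hW.fromSpec G).s i).val (op ⊤)) := by
      congr 1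
      funext i
      exact (G1_s hW.fromSpec G i ⊤).symm
    rw [h3]
    refine @span_eq_top_of_smul Γ(X, W) Γ(X, hW.fromSpec ''ᵁ ⊤)
      Γ((Scheme.Modules.restrictFunctor hW.fromSpec).obj F, ⊤) _ _ _ _
      (show Module Γ(X, hW.fromSpec ''ᵁ ⊤) Γ(F, hW.fromSpec ''ᵁ ⊤) from inferInstance)
      ?_ _ h1
    intro r x
    refine ⟨(hW.fromSpec.appIso ⊤).inv ((Spec Γ(X, W)).presheaf.map (⊤ : (Spec Γ(X, W)).Opens).leTop.op
      ((Scheme.ΓSpecIso Γ(X, W)).inv r)), ?_⟩
    rfl
  have key : ∀ V : X.Opens, hW.fromSpec ''ᵁ ⊤ = V →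
      Submodule.span Γ(X, V) (@Set.range Γ(F, V) G.I fun i => (G.s i).val (op V)) = ⊤ := by
    rintro _ rfl
    exact h2
  exact key W e

end transfer

end GenSec
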