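import Mathlib
import Groth.Prelude.Def_Coh
import Groth.Agent.Lib.MVVanish1_helper9

/-!
# `H^1` of a union of two acyclic opens (helper9)

If every section over `U ⊓ V` is a difference of restrictions of sections over `U` and `V` and
`Ext^1(ℤ_U, F) = Ext^1(ℤ_V, F) = 0`, then `Ext^1(ℤ_{U ⊔ V}, F) = 0`.
APPEND-ONLY once landed.
-/

set_option autoImplicit false
universe u
open CategoryTheory CategoryTheory.Limits AlgebraicGeometry Opposite TopologicalSpace

namespace MVVanish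

open Groth.Agent.Lib.Cech Groth.Agent.Lib.FreeSheaf

section top

variable {X : TopCat.{u}} (F : CohTop.Ab X)

theorem lift_neg_desc {C : Type*} [Category C] [Preadditive C] [HasBinaryBiproducts C]
    {A B₁ B₂ G : C} (a : A ⟶ B₁) (b : A ⟶ B₂) (z₁ : B₁ ⟶ G) (z₂ : B₂ ⟶ G) :
    biprod.lift a (-b) ≫ biprod.desc z₁ z₂ = a ≫ z₁ - b ≫ z₂ := by
  rw [biprod.lift_desc, Preadditive.neg_comp, sub_eq_add_neg]

/-- Mayer–Vietoris in degree one. -/
theorem ext_one_fr_sup_eq_zero (U V : Opens X)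
    (hsurj : ∀ s : F.obj.obj (op (U ⊓ V)), ∃ (s₁ : F.obj.obj (op U)) (s₂ : F.obj.obj (op V)),
        s = F.obj.map (homOfLE (inf_le_left : U ⊓ V ≤ U)).op s₁ -
          F.obj.map (homOfLE (inf_le_right : U ⊓ V ≤ V)).op s₂)
    (h2 : ∀ x : Abelian.Ext (fr (X := X) U) F 1, x = 0)
    (h3 : ∀ x : Abelian.Ext (fr (X := X) V) F 1, x = 0)
    (x : Abelian.Ext (fr (X := X) (U ⊔ V)) F 1) : x = 0 := by
  let S := Opens.mayerVietorisSquare U V
  have hS := S.shortComplex_shortExact
  have hx : (Abelian.Ext.mk₀ S.shortComplex.g).comp x (zero_add 1) = 0 :=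
    ext_biprod_eq_zero 1 h2 h3 _
  obtain ⟨y, hy⟩ := Abelian.Ext.contravariant_sequence_exact₃ hS F x hx (add_comm 1 0)
  obtain ⟨φ, rfl⟩ := (Abelian.Ext.mk₀_bijective _ _).2 y
  obtain ⟨s₁, s₂, hs⟩ := hsurj (secAddEquiv (U ⊓ V) F φ)
  let z : fr (X := X) U ⊞ fr (X := X) V ⟶ F :=
    biprod.desc ((secAddEquiv U F).symm s₁) ((secAddEquiv V F).symm s₂)
  have hz : S.shortComplex.f ≫ z = φ := by
    apply (secAddEquiv (U ⊓ V) F).injective
    rw [hs]
    have h1 : S.shortComplex.f ≫ z =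
        freeSheafMap (Opens.grothendieckTopology X) (homOfLE (inf_le_left : U ⊓ V ≤ U)) ≫
          (secAddEquiv U F).symm s₁ -
        freeSheafMap (Opens.grothendieckTopology X) (homOfLE (inf_le_right : U ⊓ V ≤ V)) ≫
          (secAddEquiv V F).symm s₂ := by
      exact lift_neg_desc _ _ _ _
    rw [h1, map_sub]
    congr 1
    · have := freeSheafHomEquiv_map (Opens.grothendieckTopology X)
        (homOfLE (inf_le_left : U ⊓ V ≤ U)) F ((secAddEquiv U F).symm s₁)
      refine this.trans ?_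
      congr 1
      exact (secAddEquiv U F).apply_symm_apply s₁
    · have := freeSheafHomEquiv_map (Opens.grothendieckTopology X)
        (homOfLE (inf_le_right : U ⊓ V ≤ V)) F ((secAddEquiv V F).symm s₂)
      refine this.trans ?_
      congr 1
      exact (secAddEquiv V F).apply_symm_apply s₂
  rw [← hy, ← hz, ← Abelian.Ext.mk₀_comp_mk₀, ← Abelian.Ext.comp_assoc_of_second_deg_zero,
    hS.extClass_comp, Abelian.Ext.zero_comp]
  rfl

end top

section scheme

variable {X : Scheme.{u}}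

/-- `H^1(X, F) = 0` for quasi-coherent `F` if `X = U ∪ V` with `U`, `V` affine and every section
over `U ∩ V` a difference of restrictions. -/
theorem HH_one_eq_zero_of_cover_two (F : X.Modules) [F.IsQuasicoherent] (U V : X.Opens)
    (hU : IsAffineOpen U) (hV : IsAffineOpen V) (hcov : U ⊔ V = ⊤)
    (hsurj : ∀ s : Γ(F, U ⊓ V), ∃ (s₁ : Γ(F, U)) (s₂ : Γ(F, V)),
        s = F.presheaf.map (homOfLE (inf_le_left : U ⊓ V ≤ U)).op s₁ -
          F.presheaf.map (homOfLE (inf_le_right : U ⊓ V ≤ V)).op s₂) :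
    Subsingleton (Coh.HH X F 1) := by
  have h0 : ∀ x : Abelian.Ext (fr (X := X.toTopCat) (U ⊔ V)) (Coh.toAb F) 1, x = 0 :=
    ext_one_fr_sup_eq_zero (X := X.toTopCat) (Coh.toAb F) U V hsurj
      (fun x => ext_fr_eq_zero_of_isAffineOpen F U hU 0 x)
      (fun x => ext_fr_eq_zero_of_isAffineOpen F V hV 0 x)
  rw [hcov] at h0
  obtain ⟨e⟩ := QAffKos.nonempty_H_equiv (X := X.toTopCat) (Coh.toAb F) 1
  exact ⟨fun a b => e.symm.injective ((h0 _).trans (h0 _).symm)⟩

end scheme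

end MVVanish
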