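import Mathlib
import Groth.Prelude.Def_Coh
import Groth.Prelude.Def_Curv2
import Groth.Agent.Lib.BlowCov3_helper9
import Groth.Agent.Lib.BlowCov2_helper9
import Groth.Agent.Lib.GenSec1_helper9
import Groth.Agent.Lib.MVVanish3_helper9

/-!
# `H^1` of globally generated quasi-coherent modules on a blow-up of `Spec A` in `(x, y)` vanishes
(helper9).  APPEND-ONLY once landed.
-/

set_option autoImplicit false
universe u
open AlgebraicGeometry CategoryTheory CategoryTheory.Limits TopologicalSpace Opposite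
open QcqsLoc

namespace BlowCov

open AffBlH8

variable {A : Type u} [CommRing A] (I : Ideal A)

/-- `A[I/x]` is generated by `y/x` when `I = (x, y)`. -/
theorem adjoin_gen_eq_top (x y : A) (hI : Ideal.span {x, y} = I) (hy : y ∈ I) :
    Algebra.adjoin A ({gen I x y hy} : Set ↥(BlowUp.affineAlgebra A I x)) = ⊤ := by
  rw [eq_top_iff]
  rintro ⟨q, hq⟩ -
  induction hq using Algebra.adjoin_induction with
  | mem q hq =>
    obtain ⟨z, hz, rfl⟩ := hq
    have hz' : z ∈ Ideal.span {x, y} := hI ▸ hz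
    obtain ⟨α, β, hαβ⟩ := Ideal.mem_span_pair.mp hz'
    have h1 : gen I x z hz = algebraMap A _ α + algebraMap A _ β * gen I x y hy := by
      have hnz := a_nzd I x
      have h2 : algebraMap A ↥(BlowUp.affineAlgebra A I x) x *
          (gen I x z hz - (algebraMap A _ α + algebraMap A _ β * gen I x y hy)) = 0 := by
        have e1 := a_mul_gen I x z hz
        have e2 := a_mul_gen I x y hy
        have e3 : algebraMap A ↥(BlowUp.affineAlgebra A I x) z =
            algebraMap A _ α * algebraMap A _ x + algebraMap A _ β * algebraMap A _ y := by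
          rw [← hαβ, map_add, map_mul, map_mul]
        linear_combination e1 + e3 - (algebraMap A ↥(BlowUp.affineAlgebra A I x) β) * e2
      exact sub_eq_zero.mp ((mem_nonZeroDivisors_iff.mp hnz).1 _ h2)
    change gen I x z hz ∈ _
    rw [h1]
    exact add_mem (Subalgebra.algebraMap_mem _ _)
      (mul_mem (Subalgebra.algebraMap_mem _ _) (Algebra.subset_adjoin rfl))
  | algebraMap r => exact Subalgebra.algebraMap_mem _ r
  | add p q hp hq ihp ihq =>
    have : (⟨p + q, add_mem hp hq⟩ : ↥(BlowUp.affineAlgebra A I x)) = ⟨p, hp⟩ + ⟨q, hq⟩ := rfl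
    rw [this]
    exact add_mem ihp ihq
  | mul p q hp hq ihp ihq =>
    have : (⟨p * q, mul_mem hp hq⟩ : ↥(BlowUp.affineAlgebra A I x)) = ⟨p, hp⟩ * ⟨q, hq⟩ := rfl
    rw [this]
    exact mul_mem ihp ihq

variable {X' : Scheme.{u}} (b : X' ⟶ Spec (CommRingCat.of A))

/-- Every function on `W x ⊓ W y` is a sum of restrictions of functions on `W x` and `W y`. -/
theorem exists_add_of_inf (x y : A) (hI : Ideal.span {x, y} = I)
    (hb : BlowUp.IsBlowUp b (idl I)) (s : Γ(X', W I x b ⊓ W I y b)) :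
    ∃ (s₁ : Γ(X', W I x b)) (s₂ : Γ(X', W I y b)),
      s = rX (inf_le_left : W I x b ⊓ W I y b ≤ W I x b) s₁ +
        rX (inf_le_right : W I x b ⊓ W I y b ≤ W I y b) s₂ := by
  have hx : x ∈ I := hI ▸ Ideal.subset_span (by simp)
  have hy : y ∈ I := hI ▸ Ideal.subset_span (by simp)
  have gxU := good_of_le_W' I x b hx hb (W I x b) le_rfl
  have gyV := good_of_le_W' I y b hy hb (W I y b) le_rfl
  have gxT := good_of_le_W' I x b hx hb (W I x b ⊓ W I y b) inf_le_left
  have gyT := good_of_le_W' I y b hy hb (W I x b ⊓ W I y b) inf_le_right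
  obtain ⟨u, hu⟩ : ∃ u, u = sig I x b _ gxT (gen I x y hy) := ⟨_, rfl⟩
  obtain ⟨v, hv⟩ : ∃ v, v = sig I y b _ gyT (gen I y x hx) := ⟨_, rfl⟩
  have huv : u * v = 1 := by
    have e1 := sig_gen I x b _ gxT y hy
    have e2 := sig_gen I y b _ gyT x hx
    rw [← hu] at e1
    rw [← hv] at e2
    have h3 : phi b (W I x b ⊓ W I y b) x * (u * v - 1) = 0 := by
      linear_combination v * e1 + e2
    exact sub_eq_zero.mp ((mem_nonZeroDivisors_iff.mp gxT.1).1 _ h3)
  -- the set of sums
  let D : Set Γ(X', W I x b ⊓ W I y b) := {s | ∃ (s₁ : Γ(X', W I x b)) (s₂ : Γ(X', W I y b)),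
      s = rX (inf_le_left : W I x b ⊓ W I y b ≤ W I x b) s₁ +
        rX (inf_le_right : W I x b ⊓ W I y b ≤ W I y b) s₂}
  have hDadd : ∀ s t, s ∈ D → t ∈ D → s + t ∈ D := by
    rintro _ _ ⟨s₁, s₂, rfl⟩ ⟨t₁, t₂, rfl⟩
    exact ⟨s₁ + t₁, s₂ + t₂, by rw [map_add, map_add]; ring⟩
  have hD0 : (0 : Γ(X', W I x b ⊓ W I y b)) ∈ D := ⟨0, 0, by rw [map_zero, map_zero, add_zero]⟩
  have hDU : ∀ t : ↥(BlowUp.affineAlgebra A I x), sig I x b _ gxT t ∈ D := by
    intro t
    refine ⟨sig I x b _ gxU t, 0, ?_⟩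
    rw [map_zero, add_zero, sig_res_apply I x b inf_le_left gxU gxT]
  have hDV : ∀ t : ↥(BlowUp.affineAlgebra A I y), sig I y b _ gyT t ∈ D := by
    intro t
    refine ⟨0, sig I y b _ gyV t, ?_⟩
    rw [map_zero, zero_add, sig_res_apply I y b inf_le_right gyV gyT]
  -- monomials
  have hmono : ∀ (α : A) (k n : ℕ), phi b (W I x b ⊓ W I y b) α * u ^ k * v ^ n ∈ D := by
    intro α k n
    rcases le_total n k with h | h
    · obtain ⟨m, rfl⟩ := Nat.exists_eq_add_of_le h
      have e : phi b (W I x b ⊓ W I y b) α * u ^ (n + m) * v ^ n =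
          sig I x b _ gxT (algebraMap A _ α * gen I x y hy ^ m) := by
        rw [map_mul, map_pow, sig_algebraMap, ← hu, pow_add, mul_assoc, mul_assoc, mul_comm (u ^ m),
          ← mul_assoc (u ^ n), ← mul_pow, huv, one_pow, one_mul]
      rw [e]
      exact hDU _
    · obtain ⟨m, rfl⟩ := Nat.exists_eq_add_of_le h
      have e : phi b (W I x b ⊓ W I y b) α * u ^ k * v ^ (k + m) =
          sig I y b _ gyT (algebraMap A _ α * gen I y x hx ^ m) := by
        rw [map_mul, map_pow, sig_algebraMap, ← hv, pow_add, mul_assoc, ← mul_assoc (u ^ k),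
          ← mul_pow, huv, one_pow, one_mul]
      rw [e]
      exact hDV _
  have hpoly : ∀ (p : Polynomial A) (n : ℕ),
      sig I x b _ gxT (Polynomial.aeval (gen I x y hy) p) * v ^ n ∈ D := by
    intro p n
    induction p using Polynomial.induction_on' with
    | add p q hp hq =>
      rw [map_add, map_add, add_mul]
      exact hDadd _ _ hp hq
    | monomial k α =>
      rw [Polynomial.aeval_monomial, map_mul, map_pow, sig_algebraMap, ← hu]
      exact hmono α k n
  obtain ⟨n, t, ht⟩ := exists_sig_eq_inf I x b hx y hy hb s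
  rw [← hu] at ht
  have ht' : t ∈ Algebra.adjoin A ({gen I x y hy} : Set ↥(BlowUp.affineAlgebra A I x)) := by
    rw [adjoin_gen_eq_top I x y hI hy]
    trivial
  rw [Algebra.adjoin_singleton_eq_range_aeval] at ht'
  obtain ⟨p, rfl⟩ := ht'
  have hs : s = sig I x b _ gxT (Polynomial.aeval (gen I x y hy) p) * v ^ n := by
    have : (Polynomial.aeval (gen I x y hy)).toRingHom p = Polynomial.aeval (gen I x y hy) p := rfl
    rw [this] at ht
    rw [← ht, mul_assoc, ← mul_pow, huv, one_pow, mul_one]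
  rw [hs]
  exact hpoly p n

/-- The value of a global section over an open. -/
def secAt {X : Scheme.{u}} {F : X.Modules} (s : SheafOfModules.sections F) (U : X.Opens) : Γ(F, U) :=
  s.val (op U)

theorem sections_res {X : Scheme.{u}} {F : X.Modules} (s : SheafOfModules.sections F)
    {U V : X.Opens} (h : V ≤ U) : rF F h (secAt s U) = secAt s V :=
  s.property (homOfLE h).op

/-- Every section of a globally generated quasi-coherent module over `W x ⊓ W y` is a difference of
restrictions of sections over `W x` and `W y`. -/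
theorem exists_sub_of_inf_module (x y : A) (hI : Ideal.span {x, y} = I)
    (hb : BlowUp.IsBlowUp b (idl I)) (F : X'.Modules) [F.IsQuasicoherent]
    (G : SheafOfModules.GeneratingSections F) (s : Γ(F, W I x b ⊓ W I y b)) :
    ∃ (s₁ : Γ(F, W I x b)) (s₂ : Γ(F, W I y b)),
      s = F.presheaf.map (homOfLE (inf_le_left : W I x b ⊓ W I y b ≤ W I x b)).op s₁ -
        F.presheaf.map (homOfLE (inf_le_right : W I x b ⊓ W I y b ≤ W I y b)).op s₂ := by
  have hx : x ∈ I := hI ▸ Ideal.subset_span (by simp)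
  have hy : y ∈ I := hI ▸ Ideal.subset_span (by simp)
  have hT : IsAffineOpen (W I x b ⊓ W I y b) := isAffineOpen_W_inf I x b hx y hy hb
  have hspan := GenSec.span_eq_top_of_isAffineOpen F G hT
  have hs : s ∈ Submodule.span Γ(X', W I x b ⊓ W I y b)
      (@Set.range Γ(F, W I x b ⊓ W I y b) G.I fun i => (G.s i).val (op (W I x b ⊓ W I y b))) := by
    rw [hspan]
    trivial
  induction hs using Submodule.closure_induction with
  | zero => exact ⟨0, 0, by rw [map_zero, map_zero, sub_zero]⟩
  | add s t _ _ hs ht =>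
    obtain ⟨s₁, s₂, rfl⟩ := hs
    obtain ⟨t₁, t₂, rfl⟩ := ht
    exact ⟨s₁ + t₁, s₂ + t₂, by rw [map_add, map_add]; abel⟩
  | smul_mem a m hm =>
    obtain ⟨i, rfl⟩ := hm
    obtain ⟨a₁, a₂, ha⟩ := exists_add_of_inf I b x y hI hb a
    refine ⟨a₁ • secAt (G.s i) (W I x b), -(a₂ • secAt (G.s i) (W I y b)), ?_⟩
    rw [map_neg, sub_neg_eq_add]
    have e1 := rF_smul F (inf_le_left : W I x b ⊓ W I y b ≤ W I x b) a₁ (secAt (G.s i) (W I x b))
    have e2 := rF_smul F (inf_le_right : W I x b ⊓ W I y b ≤ W I y b) a₂ (secAt (G.s i) (W I y b))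
    rw [sections_res] at e1 e2
    change a • secAt (G.s i) (W I x b ⊓ W I y b) = rF F _ _ + rF F _ _
    rw [e1, e2, ← add_smul, ← ha]

/-- `H^1` of a globally generated quasi-coherent module on the blow-up of `Spec A` in `(x, y)`
vanishes. -/
theorem HH_one_eq_zero_of_span_pair (x y : A) (hI : Ideal.span {x, y} = I)
    (hb : BlowUp.IsBlowUp b (idl I)) (F : X'.Modules) [F.IsQuasicoherent]
    (hgg : Curv2.IsGloballyGenerated F) : Subsingleton (Coh.HH X' F 1) := by
  have hx : x ∈ I := hI ▸ Ideal.subset_span (by simp)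
  have hy : y ∈ I := hI ▸ Ideal.subset_span (by simp)
  obtain ⟨ι, p, hp⟩ := hgg
  let G : SheafOfModules.GeneratingSections F :=
    { I := ι
      s := SheafOfModules.freeHomEquiv F p
      epi := by rw [Equiv.symm_apply_apply]; exact hp }
  apply MVVanish.HH_one_eq_zero_of_cover_two F (W I x b) (W I y b)
    (isAffineOpen_W I x b hx hb) (isAffineOpen_W I y b hy hb)
  · rw [eq_top_iff]
    intro z _
    obtain ⟨a, ha, hz⟩ := exists_mem_W I b {x, y} hI hb.1 z
    simp only [Set.mem_insert_iff, Set.mem_singleton_iff] at ha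
    rcases ha with rfl | rfl
    · exact Or.inl hz
    · exact Or.inr hz
  · exact exists_sub_of_inf_module I b x y hI hb F G

end BlowCov
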