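import Mathlib
import Groth.Prelude.Def_BlowUp2
import Groth.Prelude.Def_Curv2
import Groth.Prelude.Def_FEt
import Groth.Agent.Lib.BlowExist_helper2
import Groth.Agent.Lib.AnUnram_helper3

/-!
# Admissible blow-ups of the completion descend (helper2, S7304)
-/

set_option autoImplicit false
open AlgebraicGeometry CategoryTheory CategoryTheory.Limits TopologicalSpace Opposite
open IsLocalRing AffBlH8
universe u

namespace Groth.Agent.Lib.BlowCpl

section algebra

variable (A : Type u) [CommRing A] [IsLocalRing A] [IsNoetherianRing A]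

theorem exists_sub_mem_pow (n : ℕ) (z : Curv2.cpl A) :
    ∃ a : A, z - algebraMap A (Curv2.cpl A) a ∈
      ((maximalIdeal A) ^ n).map (algebraMap A (Curv2.cpl A)) := by
  have fg : (maximalIdeal A).FG := IsNoetherian.noetherian _
  obtain ⟨a, ha⟩ := Submodule.Quotient.mk_surjective _
    (AdicCompletion.eval (maximalIdeal A) A n z)
  refine ⟨a, ?_⟩
  have h1 : z - algebraMap A (Curv2.cpl A) a ∈
      LinearMap.ker (AdicCompletion.eval (maximalIdeal A) A n) := by
    rw [LinearMap.mem_ker, map_sub, sub_eq_zero, ← ha]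
    rfl
  rw [← AdicCompletion.pow_smul_top_eq_ker_eval fg, Ideal.smul_top_eq_map] at h1
  exact h1

/-- An ideal of the completion containing a power of the maximal ideal is extended from `A`. -/
theorem map_comap_eq (J : Ideal (Curv2.cpl A)) (n : ℕ)
    (hn : ((maximalIdeal A) ^ n).map (algebraMap A (Curv2.cpl A)) ≤ J) :
    (J.comap (algebraMap A (Curv2.cpl A))).map (algebraMap A (Curv2.cpl A)) = J := by
  apply le_antisymm Ideal.map_comap_le
  intro z hz
  obtain ⟨a, ha⟩ := exists_sub_mem_pow A n z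
  have haJ : algebraMap A (Curv2.cpl A) a ∈ J := by
    have h1 : algebraMap A (Curv2.cpl A) a = z - (z - algebraMap A (Curv2.cpl A) a) := by ring
    rw [h1]
    exact J.sub_mem hz (hn ha)
  have h2 : ((maximalIdeal A) ^ n).map (algebraMap A (Curv2.cpl A)) ≤
      (J.comap (algebraMap A (Curv2.cpl A))).map (algebraMap A (Curv2.cpl A)) := by
    apply Ideal.map_mono
    intro x hx
    exact hn (Ideal.mem_map_of_mem _ hx)
  have h3 : z = algebraMap A (Curv2.cpl A) a + (z - algebraMap A (Curv2.cpl A) a) := by ring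
  rw [h3]
  exact Ideal.add_mem _ (Ideal.mem_map_of_mem _ haJ) (h2 ha)

end algebra

section scheme

/-- inverse image of `idl I` along `Spec` of a ring map. -/
theorem comap_idl_specMap {A B : Type u} [CommRing A] [CommRing B] (φ : A →+* B) (I : Ideal A) :
    (idl I).comap (Spec.map (CommRingCat.ofHom φ)) = idl (I.map φ) := by
  apply Scheme.IdealSheafData.ext_of_isAffine
  have hphi : phi (Spec.map (CommRingCat.ofHom φ)) ⊤ =
      ((Scheme.ΓSpecIso (CommRingCat.of B)).inv.hom).comp φ := by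
    unfold phi
    rw [appLE_top_top]
    have := Scheme.ΓSpecIso_inv_naturality (CommRingCat.ofHom φ)
    exact (congrArg CommRingCat.Hom.hom this).symm
  rw [comap_idl_ideal, hphi, ← Ideal.map_map]
  simp

/-- every ideal sheaf on an affine scheme `Spec A` is `idl` of an ideal. -/
theorem exists_eq_idl {A : Type u} [CommRing A] (J : (Spec (CommRingCat.of A)).IdealSheafData) :
    ∃ J₀ : Ideal A, J = idl J₀ := by
  refine ⟨(J.ideal ⟨⊤, isAffineOpen_top _⟩).comap (Scheme.ΓSpecIso (CommRingCat.of A)).inv.hom, ?_⟩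
  apply Scheme.IdealSheafData.ext_of_isAffine
  have hs : Function.Surjective (Scheme.ΓSpecIso (CommRingCat.of A)).inv.hom :=
    (ConcreteCategory.bijective_of_isIso (Scheme.ΓSpecIso (CommRingCat.of A)).inv).2
  rw [Scheme.IdealSheafData.ofIdealTop_ideal, Ideal.map_comap_of_surjective _ hs]
  simp

theorem coe_support_idl {A : Type u} [CommRing A] (I : Ideal A) :
    ((idl I).support : Set (Spec (CommRingCat.of A))) = PrimeSpectrum.zeroLocus (I : Set A) := by
  rw [Scheme.IdealSheafData.coe_support_ofIdealTop, Spec_zeroLocus]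
  congr 1
  ext x
  simp only [Set.mem_preimage, SetLike.mem_coe]
  constructor
  · intro hx
    have hi : Function.Injective (Scheme.ΓSpecIso (CommRingCat.of A)).inv.hom :=
      (ConcreteCategory.bijective_of_isIso (Scheme.ΓSpecIso (CommRingCat.of A)).inv).1
    rw [Ideal.mem_map_iff_of_surjective _
      (ConcreteCategory.bijective_of_isIso (Scheme.ΓSpecIso (CommRingCat.of A)).inv).2] at hx
    obtain ⟨y, hy, hyx⟩ := hx
    rw [← hi hyx]
    exact hy
  · intro hx
    exact Ideal.mem_map_of_mem _ hx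

end scheme

section main

variable (A : Type u) [CommRing A] [IsLocalRing A] [IsNoetherianRing A]

theorem main7304 (Y : Scheme.{u}) (c : Y ⟶ Spec (CommRingCat.of (Curv2.cpl A)))
    (J : (Spec (CommRingCat.of (Curv2.cpl A))).IdealSheafData)
    (hJ : BlowUp.IsAdmissibleFor (FEt.puncturedSpec (Curv2.cpl A)) J)
    (hc : BlowUp.IsBlowUp c J) :
    ∃ (I : (Spec (CommRingCat.of A)).IdealSheafData) (X : Scheme.{u})
      (b : X ⟶ Spec (CommRingCat.of A)),
      BlowUp.IsAdmissibleFor (FEt.puncturedSpec A) I ∧ BlowUp.IsBlowUp b I ∧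
      ∃ e : Y ≅ Curv2.bcCpl A b, e.hom ≫ Curv2.bcCplSnd A b = c := by
  obtain ⟨hloc, hnoeth, _, hff, _, hmax⟩ := Groth.Agent.Lib.AnUnramH3.completion_facts A
  obtain ⟨J₀, rfl⟩ := exists_eq_idl J
  have hsupp : ∀ q : PrimeSpectrum (Curv2.cpl A), q ∈ PrimeSpectrum.zeroLocus (J₀ : Set _) →
      q = closedPoint (Curv2.cpl A) := by
    intro q hq
    by_contra hne
    have h1 : q ∈ ((idl J₀).support : Set (Spec (CommRingCat.of (Curv2.cpl A)))) := by
      rw [coe_support_idl]
      exact hq
    have h2 : q ∈ (FEt.puncturedSpec (Curv2.cpl A) : Set (Spec (CommRingCat.of (Curv2.cpl A)))) :=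
      hne
    exact Set.disjoint_left.mp hJ.2 h1 h2
  have hrad : maximalIdeal (Curv2.cpl A) ≤ J₀.radical := by
    rw [Ideal.radical_eq_sInf]
    apply le_sInf
    rintro p ⟨hp1, hp2⟩
    have h1 := hsupp ⟨p, hp2⟩ hp1
    have h2 : p = maximalIdeal (Curv2.cpl A) := congrArg PrimeSpectrum.asIdeal h1
    rw [h2]
  obtain ⟨n, hn⟩ := Ideal.exists_pow_le_of_le_radical_of_fg hrad (IsNoetherian.noetherian _)
  have hn' : ((maximalIdeal A) ^ n).map (algebraMap A (Curv2.cpl A)) ≤ J₀ := by
    rw [Ideal.map_pow, hmax]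
    exact hn
  obtain ⟨I₀, hI₀def⟩ : ∃ I₀ : Ideal A, I₀ = J₀.comap (algebraMap A (Curv2.cpl A)) := ⟨_, rfl⟩
  have hI₀ : I₀.map (algebraMap A (Curv2.cpl A)) = J₀ := by
    rw [hI₀def]
    exact map_comap_eq A J₀ n hn'
  obtain ⟨X, b, hb⟩ := Groth.Agent.Lib.BlowExist.main8859 (Spec (CommRingCat.of A)) (idl I₀)
  refine ⟨idl I₀, X, b, ⟨?_, ?_⟩, hb, ?_⟩
  · intro U
    rw [Scheme.IdealSheafData.ofIdealTop_ideal]
    exact Ideal.FG.map (Ideal.FG.map (IsNoetherian.noetherian I₀) _) _
  · rw [Set.disjoint_left]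
    intro q hq hq2
    rw [coe_support_idl] at hq
    apply hq2
    have h1 : (maximalIdeal A) ^ n ≤ (q : PrimeSpectrum A).asIdeal := by
      intro x hx
      apply hq
      show x ∈ I₀
      rw [hI₀def]
      exact hn' (Ideal.mem_map_of_mem _ hx)
    have h2 : maximalIdeal A ≤ (q : PrimeSpectrum A).asIdeal := Ideal.IsPrime.le_of_pow_le h1
    have h3 : (q : PrimeSpectrum A).asIdeal = maximalIdeal A :=
      ((maximalIdeal.isMaximal A).eq_of_le (q : PrimeSpectrum A).isPrime.ne_top h2).symm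
    exact PrimeSpectrum.ext h3
  · haveI : Module.Flat A (Curv2.cpl A) := inferInstance
    haveI : Flat (Spec.map (CommRingCat.ofHom (algebraMap A (Curv2.cpl A)))) :=
      Flat.SpecMap_iff.mpr (RingHom.flat_algebraMap_iff.mpr inferInstance)
    have h1 : BlowUp.IsBlowUp (Curv2.bcCplSnd A b)
        ((idl I₀).comap (Spec.map (CommRingCat.ofHom (algebraMap A (Curv2.cpl A))))) :=
      Groth.Agent.Lib.BlowPerf.isBlowUp_of_isPullback b (idl I₀) hb _ (Curv2.bcCplSnd A b)
        (Curv2.bcCplFst A b) (IsPullback.of_hasPullback b _).flip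
    rw [comap_idl_specMap, hI₀] at h1
    exact StrictClH8.blowUp_unique _ c hc (Curv2.bcCplSnd A b) h1

end main

end Groth.Agent.Lib.BlowCpl
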