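import Mathlib
import Groth.Prelude.Def_BlowUp2
import Groth.Agent.Lib.BlowCpl_helper2
import Groth.Agent.Lib.NilThick2_helper6
import Groth.Agent.Lib.CartDim_helper8
import Groth.Agent.Lib.ComapId1_helper8
import Groth.Agent.Lib.BlowPerf2_helper2

/-!
# Ideals supported in the closed fibre descend from the completion of a DVR (helper2, S7927)
-/

set_option autoImplicit false
open AlgebraicGeometry CategoryTheory CategoryTheory.Limits TopologicalSpace Opposite
open IsLocalRing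
universe u

namespace Groth.Agent.Lib.BlowDvr

section algebra

/-- In a pushout square of commutative rings `P = S ⊗_R T`, if `T = g(R) + g(w) T` then
`P = inl(S) + inl(f w) P`. -/
theorem exists_add_of_isPushout {R S T P : CommRingCat.{u}} {f : R ⟶ S} {g : R ⟶ T}
    {inl : S ⟶ P} {inr : T ⟶ P} (h : CategoryTheory.IsPushout f g inl inr) (w : R)
    (hd : ∀ t : T, ∃ (r : R) (t' : T), t = g.hom r + g.hom w * t') (c : P) :
    ∃ (b : S) (c' : P), c = inl.hom b + inl.hom (f.hom w) * c' := by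
  have hw : ∀ x, inr.hom (g.hom x) = inl.hom (f.hom x) :=
    fun x => (congr($(h.1.1).hom x)).symm
  algebraize [f.hom, g.hom, inl.hom, inr.hom, inl.hom.comp f.hom]
  have : IsScalarTower R T P := .of_algebraMap_eq' <| congr($(h.1.1).hom)
  have hp : Algebra.IsPushout R S T P := CommRingCat.isPushout_iff_isPushout.mp h
  have hbc := hp.out
  refine hbc.inductionOn c
    (fun c => ∃ (b : S) (c' : P), c = inl.hom b + inl.hom (f.hom w) * c') ?_ ?_ ?_ ?_
  · exact ⟨0, 0, by simp⟩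
  · intro t
    obtain ⟨r, t', ht⟩ := hd t
    refine ⟨f.hom r, inr.hom t', ?_⟩
    show inr.hom t = _
    rw [ht, map_add, map_mul, hw, hw]
  · rintro s c ⟨b, c', hc⟩
    refine ⟨s * b, inl.hom s * c', ?_⟩
    rw [Algebra.smul_def]
    show inl.hom s * c = _
    rw [hc, map_mul]
    ring
  · rintro c₁ c₂ ⟨b₁, c₁', h₁⟩ ⟨b₂, c₂', h₂⟩
    exact ⟨b₁ + b₂, c₁' + c₂', by rw [h₁, h₂, map_add]; ring⟩

/-- In the situation of `exists_add_of_isPushout`, an ideal of `P` containing `inl (f w)` is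
extended from `S`. -/
theorem map_comap_eq_of_isPushout {R S T P : CommRingCat.{u}} {f : R ⟶ S} {g : R ⟶ T}
    {inl : S ⟶ P} {inr : T ⟶ P} (h : CategoryTheory.IsPushout f g inl inr) (w : R)
    (hd : ∀ t : T, ∃ (r : R) (t' : T), t = g.hom r + g.hom w * t') (K : Ideal P)
    (hK : inl.hom (f.hom w) ∈ K) :
    (K.comap inl.hom).map inl.hom = K := by
  apply le_antisymm Ideal.map_comap_le
  intro c hc
  obtain ⟨b, c', hbc⟩ := exists_add_of_isPushout h w hd c
  have hb : inl.hom b ∈ K := by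
    have h1 : inl.hom b = c - inl.hom (f.hom w) * c' := by rw [hbc]; ring
    rw [h1]
    exact K.sub_mem hc (K.mul_mem_right _ hK)
  rw [hbc]
  refine Ideal.add_mem _ (Ideal.mem_map_of_mem _ hb) (Ideal.mul_mem_right _ _ ?_)
  exact Ideal.mem_map_of_mem _ hK

end algebra

section scheme

theorem ker_comp_ideal {X Y : Scheme.{u}} (f : X ⟶ Y) [QuasiCompact f] (I : X.IdealSheafData)
    (V : Y.affineOpens) (W : X.affineOpens) (hW : W.1 = f ⁻¹ᵁ V.1) :
    (I.subschemeι ≫ f).ker.ideal V = (I.ideal W).comap (f.appLE V.1 W.1 hW.le).hom := by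
  obtain ⟨W, hWa⟩ := W
  dsimp only at hW
  subst hW
  rw [Scheme.Hom.ker_apply]
  ext b
  rw [RingHom.mem_ker, Ideal.mem_comap,
    ← Scheme.IdealSheafData.ker_subschemeι_app I ⟨f ⁻¹ᵁ V.1, hWa⟩, RingHom.mem_ker,
    Scheme.Hom.comp_app, Scheme.Hom.appLE_eq_app]
  rfl

variable (R : Type u) [CommRing R] [IsDomain R] [IsDiscreteValuationRing R]

theorem dense_top (ϖ : R) (hϖ : maximalIdeal R = Ideal.span {ϖ}) (n : ℕ)
    (t : Γ(Spec (CommRingCat.of (AdicCompletion (maximalIdeal R) R)), ⊤)) :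
    ∃ (r : Γ(Spec (CommRingCat.of R), ⊤))
      (t' : Γ(Spec (CommRingCat.of (AdicCompletion (maximalIdeal R) R)), ⊤)),
      t = ((Spec.map (CommRingCat.ofHom (algebraMap R
          (AdicCompletion (maximalIdeal R) R)))).appLE ⊤ ⊤ le_top).hom r +
        ((Spec.map (CommRingCat.ofHom (algebraMap R
          (AdicCompletion (maximalIdeal R) R)))).appLE ⊤ ⊤ le_top).hom
          ((Scheme.ΓSpecIso (CommRingCat.of R)).inv.hom ϖ ^ n) * t' := by
  have hnat : ∀ a : R, ((Spec.map (CommRingCat.ofHom (algebraMap R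
      (AdicCompletion (maximalIdeal R) R)))).appLE ⊤ ⊤ le_top).hom
      ((Scheme.ΓSpecIso (CommRingCat.of R)).inv.hom a) =
      (Scheme.ΓSpecIso (CommRingCat.of (AdicCompletion (maximalIdeal R) R))).inv.hom
        (algebraMap R (AdicCompletion (maximalIdeal R) R) a) := by
    intro a
    rw [AffBlH8.appLE_top_top]
    have := Scheme.ΓSpecIso_inv_naturality
      (CommRingCat.ofHom (algebraMap R (AdicCompletion (maximalIdeal R) R)))
    exact (congr($(this).hom a)).symm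
  have hs : Function.Surjective
      (Scheme.ΓSpecIso (CommRingCat.of (AdicCompletion (maximalIdeal R) R))).inv.hom :=
    (ConcreteCategory.bijective_of_isIso
      (Scheme.ΓSpecIso (CommRingCat.of (AdicCompletion (maximalIdeal R) R))).inv).2
  obtain ⟨z, rfl⟩ := hs t
  obtain ⟨a, ha⟩ := BlowCpl.exists_sub_mem_pow R n z
  have hpow : (maximalIdeal R) ^ n = Ideal.span {ϖ ^ n} := by
    rw [hϖ, Ideal.span_singleton_pow]
  rw [hpow, Ideal.map_span, Set.image_singleton, Ideal.mem_span_singleton'] at ha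
  obtain ⟨z', hz'⟩ := ha
  refine ⟨(Scheme.ΓSpecIso (CommRingCat.of R)).inv.hom a,
    (Scheme.ΓSpecIso (CommRingCat.of (AdicCompletion (maximalIdeal R) R))).inv.hom z', ?_⟩
  rw [← map_pow, hnat, hnat, ← map_mul, ← map_add]
  congr 1
  rw [mul_comm, hz']
  ring

theorem key {Y Yh : Scheme.{u}} (q : Y ⟶ Spec (CommRingCat.of R)) (π : Yh ⟶ Y)
    (σ : Yh ⟶ Spec (CommRingCat.of (AdicCompletion (maximalIdeal R) R)))
    (H : IsPullback π σ q (Spec.map (CommRingCat.ofHom (algebraMap R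
      (AdicCompletion (maximalIdeal R) R)))))
    (I : Yh.IdealSheafData)
    (hI : (I.support : Set Yh) ⊆ (π ≫ q).base ⁻¹' {closedPoint R}) :
    ∃ I₀ : Y.IdealSheafData, (I₀.support : Set Y) ⊆ q.base ⁻¹' {closedPoint R} ∧
      I₀.comap π = I ∧ Flat π := by
  haveI : Flat (Spec.map (CommRingCat.ofHom (algebraMap R
      (AdicCompletion (maximalIdeal R) R)))) :=
    Flat.SpecMap_iff.mpr (RingHom.flat_algebraMap_iff.mpr inferInstance)
  haveI hfl : Flat π := MorphismProperty.of_isPullback (P := @Flat) H.flip inferInstance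
  haveI haff : IsAffineHom π :=
    MorphismProperty.of_isPullback (P := @IsAffineHom) H.flip inferInstance
  obtain ⟨ϖ, hirr⟩ := IsDiscreteValuationRing.exists_irreducible R
  have hϖ : maximalIdeal R = Ideal.span {ϖ} := hirr.maximalIdeal_eq
  have hϖm : ϖ ∈ maximalIdeal R := by
    rw [hϖ]
    exact Ideal.mem_span_singleton_self ϖ
  refine ⟨(I.subschemeι ≫ π).ker, ?_, ?_, hfl⟩
  · rw [Scheme.Hom.support_ker]
    apply closure_minimal
    · rintro _ ⟨z, rfl⟩
      have hz : I.subschemeι z ∈ (I.support : Set Yh) := by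
        rw [← Scheme.IdealSheafData.range_subschemeι]
        exact ⟨z, rfl⟩
      have := hI hz
      simpa using this
    · exact (isClosed_singleton_closedPoint R).preimage q.continuous
  · have h1 : (⊤ : (Spec (CommRingCat.of (AdicCompletion (maximalIdeal R) R))).Opens) ≤
        (Spec.map (CommRingCat.ofHom (algebraMap R
          (AdicCompletion (maximalIdeal R) R)))) ⁻¹ᵁ ⊤ := fun _ _ => trivial
    have h2 : ∀ V : Y.affineOpens, V.1 ≤ q ⁻¹ᵁ ⊤ := fun _ _ _ => trivial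
    have hWaff : ∀ V : Y.affineOpens, IsAffineOpen (π ⁻¹ᵁ V.1 ⊓ σ ⁻¹ᵁ ⊤) := fun V =>
      (Groth.Agent.Lib.NilThick_helper6.isPushout_appLE_of_isPullback H (isAffineOpen_top _)
        (isAffineOpen_top _) V.2 h1 (h2 V)).1
    apply Scheme.IdealSheafData.ext_of_iSup_eq_top
      (fun V : Y.affineOpens => (⟨π ⁻¹ᵁ V.1 ⊓ σ ⁻¹ᵁ ⊤, hWaff V⟩ : Yh.affineOpens))
    · rw [eq_top_iff]
      intro x _
      obtain ⟨V, hV, hxV, -⟩ := exists_isAffineOpen_mem_and_subset (x := π x) (U := ⊤) trivial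
      exact Opens.mem_iSup.mpr ⟨⟨V, hV⟩, ⟨hxV, trivial⟩⟩
    · intro V
      obtain ⟨hW, po⟩ := Groth.Agent.Lib.NilThick_helper6.isPushout_appLE_of_isPullback H
        (isAffineOpen_top _) (isAffineOpen_top _) V.2 h1 (h2 V)
      have hWeq : π ⁻¹ᵁ V.1 ⊓ σ ⁻¹ᵁ ⊤ = π ⁻¹ᵁ V.1 := inf_eq_left.mpr (fun _ _ => trivial)
      rw [ComapIdH8.comap_ideal π _ ⟨_, hWaff V⟩ V inf_le_left,
        ker_comp_ideal π I V ⟨_, hWaff V⟩ hWeq]
      obtain ⟨K, hK⟩ : ∃ K, K = I.ideal ⟨π ⁻¹ᵁ V.1 ⊓ σ ⁻¹ᵁ ⊤, hWaff V⟩ := ⟨_, rfl⟩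
      rw [← hK]
      have hrad : (π.appLE V.1 (π ⁻¹ᵁ V.1 ⊓ σ ⁻¹ᵁ ⊤) inf_le_left).hom
          ((q.appLE ⊤ V.1 (h2 V)).hom ((Scheme.ΓSpecIso (CommRingCat.of R)).inv.hom ϖ)) ∈
          K.radical := by
        rw [Ideal.radical_eq_sInf, Ideal.mem_sInf]
        rintro 𝔭 ⟨hK𝔭, h𝔭⟩
        obtain ⟨Pt, hPt⟩ : ∃ Pt : PrimeSpectrum Γ(Yh, π ⁻¹ᵁ V.1 ⊓ σ ⁻¹ᵁ ⊤), Pt = ⟨𝔭, h𝔭⟩ :=
          ⟨_, rfl⟩
        have hxW : hW.fromSpec Pt ∈ (π ⁻¹ᵁ V.1 ⊓ σ ⁻¹ᵁ ⊤ : Yh.Opens) := by
          have := hW.range_fromSpec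
          rw [← SetLike.mem_coe, ← this]
          exact ⟨Pt, rfl⟩
        have hP : hW.primeIdealOf ⟨hW.fromSpec Pt, hxW⟩ = Pt :=
          hW.fromSpec.isOpenEmbedding.injective (hW.fromSpec_primeIdealOf ⟨_, hxW⟩)
        have hxs : hW.fromSpec Pt ∈ I.support := by
          rw [Scheme.IdealSheafData.mem_support_iff_of_mem (U := ⟨_, hWaff V⟩) hxW,
            Scheme.mem_zeroLocus_iff]
          intro f hf
          rw [← CartDimH8.mem_primeIdealOf_iff hW _ hxW f, hP, hPt]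
          apply hK𝔭
          rw [hK]
          exact hf
        have hcl : (π ≫ q) (hW.fromSpec Pt) = closedPoint R := hI hxs
        have hc1 := IsAffineOpen.comap_primeIdealOf_appLE (f := π) V.1 V.2 _ hW inf_le_left hxW
        have hc2 := IsAffineOpen.comap_primeIdealOf_appLE (f := q) ⊤ (isAffineOpen_top _) V.1 V.2
          (h2 V) (x := π (hW.fromSpec Pt)) (inf_le_left (a := π ⁻¹ᵁ V.1) hxW)
        have hmem : (Scheme.ΓSpecIso (CommRingCat.of R)).inv.hom ϖ ∈
            ((isAffineOpen_top (Spec (CommRingCat.of R))).primeIdealOf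
              ⟨q (π (hW.fromSpec Pt)), trivial⟩).asIdeal := by
          rw [CartDimH8.mem_primeIdealOf_iff, basicOpen_eq_of_affine]
          have : q (π (hW.fromSpec Pt)) = closedPoint R := hcl
          rw [this]
          intro hh
          exact hh hϖm
        rw [← hc2] at hmem
        have hmem2 : (q.appLE ⊤ V.1 (h2 V)).hom ((Scheme.ΓSpecIso (CommRingCat.of R)).inv.hom ϖ) ∈
            (V.2.primeIdealOf ⟨π (hW.fromSpec Pt), inf_le_left (a := π ⁻¹ᵁ V.1) hxW⟩).asIdeal :=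
          hmem
        rw [← hc1, hP, hPt] at hmem2
        exact hmem2
      obtain ⟨n, hn⟩ := hrad
      rw [← map_pow, ← map_pow] at hn
      exact map_comap_eq_of_isPushout po (((Scheme.ΓSpecIso (CommRingCat.of R)).inv.hom ϖ) ^ n)
        (dense_top R ϖ hϖ n) K hn

theorem main7927 {Y : Scheme.{u}} (q : Y ⟶ Spec (CommRingCat.of R)) [Flat q]
    [IsLocallyNoetherian Y]
    (I : (pullback q (Spec.map (CommRingCat.ofHom (algebraMap R
        (AdicCompletion (IsLocalRing.maximalIdeal R) R))))).IdealSheafData)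
    (hI : (I.support : Set ↥(pullback q (Spec.map (CommRingCat.ofHom (algebraMap R
        (AdicCompletion (IsLocalRing.maximalIdeal R) R)))))) ⊆
      (pullback.fst q (Spec.map (CommRingCat.ofHom (algebraMap R
        (AdicCompletion (IsLocalRing.maximalIdeal R) R)))) ≫ q).base ⁻¹'
          {IsLocalRing.closedPoint R}) :
    ∃ I₀ : Y.IdealSheafData, (I₀.support : Set Y) ⊆ q.base ⁻¹' {IsLocalRing.closedPoint R} ∧
      I₀.comap (pullback.fst q (Spec.map (CommRingCat.ofHom (algebraMap R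
        (AdicCompletion (IsLocalRing.maximalIdeal R) R))))) = I ∧
      ∀ (X : Scheme.{u}) (g : X ⟶ Y), BlowUp.IsBlowUp g I₀ →
        BlowUp.IsBlowUp (pullback.snd g (pullback.fst q (Spec.map (CommRingCat.ofHom (algebraMap R
          (AdicCompletion (IsLocalRing.maximalIdeal R) R)))))) I := by
  obtain ⟨I₀, h1, h2, hfl⟩ := key R q _ _ (IsPullback.of_hasPullback q (Spec.map
    (CommRingCat.ofHom (algebraMap R (AdicCompletion (IsLocalRing.maximalIdeal R) R))))) I hI
  refine ⟨I₀, h1, h2, ?_⟩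
  intro X g hg
  haveI := hfl
  have h3 := Groth.Agent.Lib.BlowPerf.isBlowUp_of_isPullback g I₀ hg
    (pullback.fst q (Spec.map (CommRingCat.ofHom (algebraMap R
      (AdicCompletion (IsLocalRing.maximalIdeal R) R)))))
    (pullback.snd g _) (pullback.fst g _) (IsPullback.of_hasPullback g _).flip
  rw [h2] at h3
  exact h3

end scheme

end Groth.Agent.Lib.BlowDvr
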