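import Mathlib
import Groth.Prelude.Def_BlowUp2
import Groth.Agent.Lib.BlowLocal_helper2
import Groth.Agent.Lib.BlowDvr_helper2
import Groth.Agent.Lib.CartDim_helper8
import Groth.Agent.Lib.ComapId1_helper8
import Groth.Agent.Lib.Cart1_helper8

/-!
# A finite birational morphism which is an isomorphism off an effective Cartier divisor is a
blow-up (helper2, S7894)
-/

set_option autoImplicit false
open AlgebraicGeometry CategoryTheory CategoryTheory.Limits TopologicalSpace Opposite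
universe u

namespace Groth.Agent.Lib.BlowFin

section algebra

variable {A B C : Type*} [CommRing A] [CommRing B] [CommRing C]
variable (φ : A →+* B) (ℓ : A) (n : ℕ)

/-- The ideal `φ⁻¹(ℓⁿ B)` of `A`. -/
def J : Ideal A := (Ideal.span {φ ℓ ^ n}).comap φ

theorem mem_J {a : A} : a ∈ J φ ℓ n ↔ ∃ b, φ a = φ ℓ ^ n * b := by
  unfold J
  rw [Ideal.mem_comap, Ideal.mem_span_singleton']
  constructor
  · rintro ⟨b, hb⟩
    exact ⟨b, by rw [← hb, mul_comm]⟩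
  · rintro ⟨b, hb⟩
    exact ⟨b, by rw [hb, mul_comm]⟩

theorem pow_mem_J : ℓ ^ n ∈ J φ ℓ n := (mem_J φ ℓ n).mpr ⟨1, by rw [map_pow, mul_one]⟩

theorem map_J : (J φ ℓ n).map φ = Ideal.span {φ ℓ ^ n} := by
  apply le_antisymm
  · unfold J
    exact Ideal.map_comap_le
  · rw [Ideal.span_singleton_le_iff_mem, ← map_pow]
    exact Ideal.mem_map_of_mem _ (pow_mem_J φ ℓ n)

theorem exists_uniform_pow (hfin : φ.Finite) (h : ∀ b, ∃ k a, φ a = φ ℓ ^ k * b) :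
    ∃ n, ∀ b, ∃ a, φ a = φ ℓ ^ n * b := by
  letI := φ.toAlgebra
  have hfin' : Module.Finite A B := hfin
  obtain ⟨S, hS⟩ := hfin'.fg_top
  choose k a hka using h
  refine ⟨S.sup k, fun b => ?_⟩
  have hb : b ∈ Submodule.span A (S : Set B) := by
    rw [hS]
    trivial
  induction hb using Submodule.span_induction with
  | mem s hs =>
    refine ⟨ℓ ^ (S.sup k - k s) * a s, ?_⟩
    rw [map_mul, map_pow, hka s, ← mul_assoc, ← pow_add,
      Nat.sub_add_cancel (Finset.le_sup (f := k) hs)]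
  | zero => exact ⟨0, by simp⟩
  | add x y _ _ hx hy =>
    obtain ⟨a₁, h₁⟩ := hx
    obtain ⟨a₂, h₂⟩ := hy
    exact ⟨a₁ + a₂, by rw [map_add, h₁, h₂, mul_add]⟩
  | smul r x _ hx =>
    obtain ⟨a₁, h₁⟩ := hx
    refine ⟨r * a₁, ?_⟩
    rw [map_mul, h₁, Algebra.smul_def]
    show φ r * (φ ℓ ^ S.sup k * x) = φ ℓ ^ S.sup k * (φ r * x)
    ring

variable (hinj : Function.Injective φ) (hr : ∀ b : B, ∃ a : A, φ a = φ ℓ ^ n * b)

include hinj hr in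
theorem J_mul {a a' : A} (ha : a ∈ J φ ℓ n) (ha' : a' ∈ J φ ℓ n) :
    ∃ a'' ∈ J φ ℓ n, a * a' = ℓ ^ n * a'' := by
  obtain ⟨b, hb⟩ := (mem_J φ ℓ n).mp ha
  obtain ⟨b', hb'⟩ := (mem_J φ ℓ n).mp ha'
  obtain ⟨a'', ha''⟩ := hr (b * b')
  refine ⟨a'', (mem_J φ ℓ n).mpr ⟨_, ha''⟩, hinj ?_⟩
  rw [map_mul, map_mul, map_pow, hb, hb', ha'']
  ring

include hinj hr in
theorem le_prime_iff (hn : 1 ≤ n) (𝔭 : Ideal A) (h𝔭 : 𝔭.IsPrime) : J φ ℓ n ≤ 𝔭 ↔ ℓ ∈ 𝔭 := by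
  constructor
  · intro h
    exact h𝔭.mem_of_pow_mem n (h (pow_mem_J φ ℓ n))
  · intro hℓ a ha
    obtain ⟨a'', -, h⟩ := J_mul φ ℓ n hinj hr ha ha
    have h2 : a * a ∈ 𝔭 := by
      rw [h]
      apply Ideal.mul_mem_right
      obtain ⟨m, rfl⟩ : ∃ m, n = m + 1 := ⟨n - 1, by omega⟩
      rw [pow_succ]
      exact Ideal.mul_mem_left _ _ hℓ
    rcases h𝔭.mem_or_mem h2 with h | h <;> exact h

variable (ψ : A →+* C) (c : C) (hc : c ∈ nonZeroDivisors C)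
  (hJc : (J φ ℓ n).map ψ = Ideal.span {c})

include hinj hr hc hJc in
theorem exists_v : ∃ v : C, c = ψ ℓ ^ n * v := by
  have h1 : J φ ℓ n * J φ ℓ n ≤ Ideal.span {ℓ ^ n} * J φ ℓ n := by
    rw [Ideal.mul_le]
    intro a ha a' ha'
    obtain ⟨a'', ha'', h⟩ := J_mul φ ℓ n hinj hr ha ha'
    rw [h]
    exact Ideal.mul_mem_mul (Ideal.mem_span_singleton_self _) ha''
  have h2 := Ideal.map_mono (f := ψ) h1
  rw [Ideal.map_mul, Ideal.map_mul, hJc, Ideal.map_span, Set.image_singleton,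
    Ideal.span_singleton_mul_span_singleton, Ideal.span_singleton_mul_span_singleton,
    Ideal.span_singleton_le_span_singleton] at h2
  obtain ⟨v, hv⟩ := h2
  refine ⟨v, ?_⟩
  have h3 : (c - ψ ℓ ^ n * v) * c = 0 := by
    have : c * c = ψ ℓ ^ n * c * v := by
      rw [← map_pow]
      exact hv
    linear_combination this
  exact sub_eq_zero.mp ((mem_nonZeroDivisors_iff.mp hc).2 _ h3)

include hinj hr hc hJc in
theorem e_nzd : ψ ℓ ^ n ∈ nonZeroDivisors C := by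
  obtain ⟨v, hv⟩ := exists_v φ ℓ n hinj hr ψ c hc hJc
  have key : ∀ x, ψ ℓ ^ n * x = 0 → x = 0 := by
    intro x hx
    apply (mem_nonZeroDivisors_iff.mp hc).1
    rw [hv]
    linear_combination v * hx
  rw [mem_nonZeroDivisors_iff]
  exact ⟨key, fun x hx => key x (by rwa [mul_comm])⟩

include hinj hr hc hJc in
theorem psi_mem {a : A} (ha : a ∈ J φ ℓ n) : ∃ y, ψ a = ψ ℓ ^ n * y := by
  obtain ⟨v, hv⟩ := exists_v φ ℓ n hinj hr ψ c hc hJc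
  have h1 : ψ a ∈ Ideal.span {c} := hJc ▸ Ideal.mem_map_of_mem _ ha
  rw [Ideal.mem_span_singleton'] at h1
  obtain ⟨w, hw⟩ := h1
  refine ⟨w * v, ?_⟩
  rw [← hw]
  linear_combination w * hv

include hinj hr hc hJc in
theorem exists_chi : ∃ χ : B →+* C, χ.comp φ = ψ := by
  have henz := e_nzd φ ℓ n hinj hr ψ c hc hJc
  have hcancel : ∀ y y', ψ ℓ ^ n * y = ψ ℓ ^ n * y' → y = y' := by
    intro y y' h
    have h0 : ψ ℓ ^ n * (y - y') = 0 := by rw [mul_sub, h, sub_self]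
    exact sub_eq_zero.mp ((mem_nonZeroDivisors_iff.mp henz).1 _ h0)
  have hex : ∀ b : B, ∃ y : C, ∃ a : A, φ a = φ ℓ ^ n * b ∧ ψ a = ψ ℓ ^ n * y := by
    intro b
    obtain ⟨a, ha⟩ := hr b
    obtain ⟨y, hy⟩ := psi_mem φ ℓ n hinj hr ψ c hc hJc ((mem_J φ ℓ n).mpr ⟨b, ha⟩)
    exact ⟨y, a, ha, hy⟩
  choose χf hχf using hex
  have spec : ∀ b a y, φ a = φ ℓ ^ n * b → ψ a = ψ ℓ ^ n * y → χf b = y := by
    intro b a y h1 h2
    obtain ⟨a', h1', h2'⟩ := hχf b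
    have h3 : a' = a := hinj (h1'.trans h1.symm)
    apply hcancel
    rw [← h2', h3, h2]
  refine ⟨{ toFun := χf, map_one' := ?_, map_mul' := ?_, map_zero' := ?_, map_add' := ?_ }, ?_⟩
  · exact spec 1 (ℓ ^ n) 1 (by rw [map_pow, mul_one]) (by rw [map_pow, mul_one])
  · intro b b'
    show χf (b * b') = χf b * χf b'
    obtain ⟨a, h1, h2⟩ := hχf b
    obtain ⟨a', h1', h2'⟩ := hχf b'
    obtain ⟨a'', h1'', h2''⟩ := hχf (b * b')
    have h3 : ℓ ^ n * a'' = a * a' :=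
      hinj (by rw [map_mul, map_mul, map_pow, h1, h1', h1'']; ring)
    apply hcancel
    apply hcancel
    have h4 : ψ (ℓ ^ n * a'') = ψ (a * a') := by rw [h3]
    rw [map_mul, map_mul, map_pow, h2, h2', h2''] at h4
    linear_combination h4
  · exact spec 0 0 0 (by simp) (by simp)
  · intro b b'
    show χf (b + b') = χf b + χf b'
    obtain ⟨a, h1, h2⟩ := hχf b
    obtain ⟨a', h1', h2'⟩ := hχf b'
    exact spec (b + b') (a + a') _ (by rw [map_add, h1, h1', mul_add])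
      (by rw [map_add, h2, h2', mul_add])
  · ext a₀
    show χf (φ a₀) = ψ a₀
    exact spec (φ a₀) (ℓ ^ n * a₀) (ψ a₀) (by rw [map_mul, map_pow]) (by rw [map_mul, map_pow])

include hinj hr hc hJc in
theorem chi_unique (χ₁ χ₂ : B →+* C) (h₁ : χ₁.comp φ = ψ) (h₂ : χ₂.comp φ = ψ) : χ₁ = χ₂ := by
  have henz := e_nzd φ ℓ n hinj hr ψ c hc hJc
  ext b
  obtain ⟨a, ha⟩ := hr b
  have k : ∀ χ : B →+* C, χ.comp φ = ψ → ψ ℓ ^ n * χ b = ψ a := by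
    intro χ hχ
    have h1 : ∀ x, χ (φ x) = ψ x := fun x => by rw [← hχ]; rfl
    rw [← h1 a, ha, map_mul, map_pow, h1]
  have h0 : ψ ℓ ^ n * (χ₁ b - χ₂ b) = 0 := by rw [mul_sub, k χ₁ h₁, k χ₂ h₂, sub_self]
  exact sub_eq_zero.mp ((mem_nonZeroDivisors_iff.mp henz).1 _ h0)

end algebra

section scheme

variable {X Y : Scheme.{u}} (f : X ⟶ Y)

theorem isIso_app_of_le (O : Y.Opens) [IsIso (f ∣_ O)] (D : Y.Opens) (hD : D ≤ O) :
    IsIso (f.app D) := by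
  have h1 : O.ι ''ᵁ (O.ι ⁻¹ᵁ D) = D := by
    ext x
    constructor
    · rintro ⟨y, hy, rfl⟩
      exact hy
    · intro hx
      exact ⟨⟨x, hD hx⟩, hx, rfl⟩
  obtain ⟨V', rfl⟩ : ∃ V', D = O.ι ''ᵁ V' := ⟨_, h1.symm⟩
  have h2 := morphismRestrict_app f O V'
  have h3 : IsIso ((f ∣_ O).app V') := inferInstance
  rw [h2] at h3
  exact @IsIso.of_isIso_comp_right _ _ _ _ _ (f.app (O.ι ''ᵁ V'))
    (X.presheaf.map (eqToHom (image_morphismRestrict_preimage f O V')).op) inferInstance h3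

theorem bij_appLE_of_eq (O : Y.Opens) [IsIso (f ∣_ O)] (D : Y.Opens) (hD : D ≤ O)
    (D' : X.Opens) (h : D' = f ⁻¹ᵁ D) : Function.Bijective (f.appLE D D' h.le).hom := by
  subst h
  rw [Scheme.Hom.appLE_eq_app]
  haveI := isIso_app_of_le f O D hD
  exact ConcreteCategory.bijective_of_isIso (f.app D)

theorem exists_small {T : Scheme.{u}} (𝓙 : T.IdealSheafData) (h𝓙 : BlowUp.IsEffCartierIdeal 𝓙)
    (t : T) (G : T.Opens) (ht : t ∈ G) :
    ∃ T' : T.affineOpens, t ∈ T'.1 ∧ T'.1 ≤ G ∧ ∃ c : Γ(T, T'.1),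
      c ∈ nonZeroDivisors Γ(T, T'.1) ∧ 𝓙.ideal T' = Ideal.span {c} := by
  obtain ⟨U₁, hx₁, c, hc, hIc⟩ := h𝓙 t
  obtain ⟨_, ⟨W, hW : IsAffineOpen W, rfl⟩, hxW, hWU⟩ :=
    (T.isBasis_affineOpens).exists_subset_of_mem_open
      (show t ∈ ((U₁.1 ⊓ G : T.Opens) : Set T) from ⟨hx₁, ht⟩) (U₁.1 ⊓ G).2
  have h1 : W ≤ U₁.1 := fun y hy => (hWU hy).1
  have h2 : W ≤ G := fun y hy => (hWU hy).2
  obtain ⟨hc', hIc'⟩ := CartH8.cartier_restrict 𝓙 U₁ ⟨W, hW⟩ h1 c hc hIc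
  exact ⟨⟨W, hW⟩, hxW, h2, _, hc', hIc'⟩

theorem ι_comp_eq {T X : Scheme.{u}} (m : T ⟶ X) (T' : T.Opens) (hT' : IsAffineOpen T')
    (W : X.Opens) (hW : IsAffineOpen W) (h : T' ≤ m ⁻¹ᵁ W) :
    T'.ι ≫ m = hT'.isoSpec.hom ≫ Spec.map (m.appLE W T' h) ≫ hW.fromSpec := by
  rw [IsAffineOpen.SpecMap_appLE_fromSpec m hW hT' h, ← Category.assoc]
  congr 1
  rw [IsAffineOpen.fromSpec, Iso.hom_inv_id_assoc]

theorem mem_zeroLocus_iff_le {X : Scheme.{u}} (U : X.affineOpens) (K : Ideal Γ(X, U.1)) (x : X)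
    (hx : x ∈ U.1) :
    x ∈ X.zeroLocus (U := U.1) (K : Set Γ(X, U.1)) ↔
      K ≤ ((show IsAffineOpen U.1 from U.2).primeIdealOf ⟨x, hx⟩).asIdeal := by
  rw [Scheme.mem_zeroLocus_iff]
  constructor
  · intro h g hg
    rw [CartDimH8.mem_primeIdealOf_iff U.2 x hx g]
    exact h g hg
  · intro h g hg
    rw [← CartDimH8.mem_primeIdealOf_iff U.2 x hx g]
    exact h hg

theorem local_facts [IsReduced X] [IsFinite f] (L : Y.IdealSheafData)
    (hiso : IsIso (f ∣_ L.support.compl))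
    (hdense : Dense (f.base ⁻¹' ((L.support : Set Y)ᶜ)))
    (V : Y.affineOpens) (ℓ : Γ(Y, V.1)) (hℓ : ℓ ∈ nonZeroDivisors Γ(Y, V.1))
    (hL : L.ideal V = Ideal.span {ℓ}) :
    Function.Injective (f.app V.1).hom ∧
      (f.app V.1).hom ℓ ∈ nonZeroDivisors Γ(X, f ⁻¹ᵁ V.1) ∧
      ∃ n, ∀ b, ∃ a, (f.app V.1).hom a = (f.app V.1).hom ℓ ^ n * b := by
  have hV : IsAffineOpen V.1 := V.2
  have hW : IsAffineOpen (f ⁻¹ᵁ V.1) := hV.preimage f
  obtain ⟨φ, hφ⟩ : ∃ φ : Γ(Y, V.1) →+* Γ(X, f ⁻¹ᵁ V.1), φ = (f.app V.1).hom := ⟨_, rfl⟩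
  rw [← hφ]
  have hDV : Y.basicOpen ℓ ≤ V.1 := Y.basicOpen_le ℓ
  have hDO : Y.basicOpen ℓ ≤ L.support.compl := by
    intro x hx hxs
    have hxs' : x ∈ L.support := hxs
    rw [Scheme.IdealSheafData.mem_support_iff_of_mem (U := V) (hDV hx),
      Scheme.mem_zeroLocus_iff] at hxs'
    exact hxs' ℓ (hL ▸ Ideal.mem_span_singleton_self ℓ) hx
  have hOD : ∀ x ∈ V.1, x ∉ L.support → x ∈ Y.basicOpen ℓ := by
    intro x hxV hxs
    rw [Scheme.IdealSheafData.mem_support_iff_of_mem (U := V) hxV,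
      Scheme.mem_zeroLocus_iff] at hxs
    push Not at hxs
    obtain ⟨g, hg, hxg⟩ := hxs
    have hg' : g ∈ Ideal.span {ℓ} := hL ▸ hg
    rw [Ideal.mem_span_singleton'] at hg'
    obtain ⟨c, rfl⟩ := hg'
    rw [Scheme.basicOpen_mul] at hxg
    exact hxg.2
  have hD'eq : X.basicOpen (φ ℓ) = f ⁻¹ᵁ (Y.basicOpen ℓ) := by
    rw [hφ]
    exact (Scheme.preimage_basicOpen f ℓ).symm
  haveI := hiso
  have hbij : Function.Bijective (f.appLE (Y.basicOpen ℓ) (X.basicOpen (φ ℓ)) hD'eq.le).hom :=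
    bij_appLE_of_eq f _ _ hDO _ hD'eq
  haveI locY : IsLocalization.Away ℓ Γ(Y, Y.basicOpen ℓ) := hV.isLocalization_basicOpen ℓ
  haveI locX : IsLocalization.Away (φ ℓ) Γ(X, X.basicOpen (φ ℓ)) :=
    hW.isLocalization_basicOpen (φ ℓ)
  have hnat : ∀ a : Γ(Y, V.1), (f.appLE (Y.basicOpen ℓ) (X.basicOpen (φ ℓ)) hD'eq.le).hom
      (algebraMap Γ(Y, V.1) Γ(Y, Y.basicOpen ℓ) a) =
      algebraMap Γ(X, f ⁻¹ᵁ V.1) Γ(X, X.basicOpen (φ ℓ)) (φ a) := by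
    intro a
    have h1 := Scheme.Hom.map_appLE f hD'eq.le (homOfLE hDV).op
    have h2 := Scheme.Hom.appLE_map f (le_refl (f ⁻¹ᵁ V.1))
      (homOfLE (X.basicOpen_le (φ ℓ))).op
    rw [Scheme.Hom.appLE_eq_app] at h2
    rw [show φ a = (f.app V.1).hom a from by rw [hφ]]
    exact (congr($(h1).hom a)).trans (congr($(h2).hom a)).symm
  have hinjY : Function.Injective (algebraMap Γ(Y, V.1) Γ(Y, Y.basicOpen ℓ)) :=
    IsLocalization.injective _ (Submonoid.powers_le.mpr hℓ)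
  have hinj : Function.Injective φ := by
    rw [injective_iff_map_eq_zero]
    intro a ha
    apply hinjY
    apply hbij.1
    rw [hnat, ha, map_zero, map_zero, map_zero]
  have hnzd : φ ℓ ∈ nonZeroDivisors Γ(X, f ⁻¹ᵁ V.1) := by
    have key : ∀ b, b * φ ℓ = 0 → b = 0 := by
      intro b hb
      rw [← basicOpen_eq_bot_iff]
      by_contra hne
      have hne' : ((X.basicOpen b : X.Opens) : Set X).Nonempty := by
        rw [Set.nonempty_iff_ne_empty]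
        intro h
        apply hne
        exact Opens.ext h
      obtain ⟨x, hx1, hx2⟩ := hdense.inter_open_nonempty _ (X.basicOpen b).2 hne'
      have hxV : f x ∈ V.1 := X.basicOpen_le b hx1
      have hxD : f x ∈ Y.basicOpen ℓ := hOD _ hxV hx2
      have hxD' : x ∈ X.basicOpen (φ ℓ) := by
        rw [hD'eq]
        exact hxD
      have h3 : x ∈ X.basicOpen (b * φ ℓ) := by
        rw [Scheme.basicOpen_mul]
        exact ⟨hx1, hxD'⟩
      rw [hb, Scheme.basicOpen_zero] at h3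
      exact h3
    rw [mem_nonZeroDivisors_iff]
    exact ⟨fun b hb => key b (by rwa [mul_comm]), key⟩
  have hinjX : Function.Injective (algebraMap Γ(X, f ⁻¹ᵁ V.1) Γ(X, X.basicOpen (φ ℓ))) :=
    IsLocalization.injective _ (Submonoid.powers_le.mpr hnzd)
  refine ⟨hinj, hnzd, ?_⟩
  apply exists_uniform_pow φ ℓ
  · rw [hφ]
    exact IsFinite.finite_app f V.1 hV
  · intro b
    obtain ⟨α, hα⟩ := hbij.2 (algebraMap _ Γ(X, X.basicOpen (φ ℓ)) b)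
    obtain ⟨k, a, hak⟩ := IsLocalization.Away.surj ℓ α
    refine ⟨k, a, hinjX ?_⟩
    rw [← hnat, ← hak, map_mul, hα, map_pow, hnat, map_mul, map_pow, mul_comm]

/-- local data package -/
def Pkg (L : Y.IdealSheafData) (n : ℕ) (V : Y.affineOpens) : Prop :=
  ∃ ℓ : Γ(Y, V.1), ℓ ∈ nonZeroDivisors Γ(Y, V.1) ∧ L.ideal V = Ideal.span {ℓ} ∧
    Function.Injective (f.app V.1).hom ∧
    (f.app V.1).hom ℓ ∈ nonZeroDivisors Γ(X, f ⁻¹ᵁ V.1) ∧
    ∀ b, ∃ a, (f.app V.1).hom a = (f.app V.1).hom ℓ ^ n * b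

theorem pkg_mono (L : Y.IdealSheafData) {n m : ℕ} (V : Y.affineOpens) (h : Pkg f L n V)
    (hnm : n ≤ m) : Pkg f L m V := by
  obtain ⟨ℓ, h1, h2, h3, h4, h5⟩ := h
  refine ⟨ℓ, h1, h2, h3, h4, fun b => ?_⟩
  obtain ⟨a, ha⟩ := h5 b
  refine ⟨ℓ ^ (m - n) * a, ?_⟩
  rw [map_mul, map_pow, ha, ← mul_assoc, ← pow_add, Nat.sub_add_cancel hnm]

/-- The ideal sheaf `O_Y ∩ Lⁿ f_* O_X`. -/
noncomputable def idealOf [QuasiCompact f] (L : Y.IdealSheafData) (n : ℕ) : Y.IdealSheafData :=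
  (((L ^ n).comap f).subschemeι ≫ f).ker

theorem idealOf_ideal [IsAffineHom f] (L : Y.IdealSheafData) (n : ℕ) (V : Y.affineOpens)
    (ℓ : Γ(Y, V.1)) (hL : L.ideal V = Ideal.span {ℓ}) :
    (idealOf f L n).ideal V = J (f.app V.1).hom ℓ n := by
  have hV : IsAffineOpen V.1 := V.2
  unfold idealOf J
  rw [Groth.Agent.Lib.BlowDvr.ker_comp_ideal f ((L ^ n).comap f) V
      ⟨f ⁻¹ᵁ V.1, hV.preimage f⟩ rfl,
    ComapIdH8.comap_ideal f (L ^ n) ⟨f ⁻¹ᵁ V.1, hV.preimage f⟩ V le_rfl,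
    Scheme.IdealSheafData.ideal_pow, Pi.pow_apply, hL, Ideal.span_singleton_pow, Ideal.map_span,
    Set.image_singleton, Scheme.Hom.appLE_eq_app, map_pow]

theorem appLE_hom_comp {T : Scheme.{u}} (m : T ⟶ X) (g : T ⟶ Y) (hg : m ≫ f = g) (V : Y.Opens)
    (T' : T.Opens) (h : T' ≤ g ⁻¹ᵁ V) (h' : T' ≤ m ⁻¹ᵁ (f ⁻¹ᵁ V)) :
    (m.appLE (f ⁻¹ᵁ V) T' h').hom.comp (f.app V).hom = (g.appLE V T' h).hom := by
  subst hg
  have h1 := Scheme.Hom.appLE_comp_appLE m f V (f ⁻¹ᵁ V) T' le_rfl h'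
  rw [Scheme.Hom.appLE_eq_app] at h1
  exact congrArg CommRingCat.Hom.hom h1

theorem main7894 {X Y : Scheme.{u}} [IsNoetherian X] [IsNoetherian Y]
    [IsReduced X] [IsReduced Y] (f : X ⟶ Y) [IsFinite f]
    (L : Y.IdealSheafData) (hL : BlowUp.IsEffCartierIdeal L)
    (hiso : IsIso (f ∣_ L.support.compl))
    (hdense : Dense (f.base ⁻¹' ((L.support : Set Y)ᶜ))) :
    ∃ I : Y.IdealSheafData, I.support = L.support ∧ BlowUp.IsBlowUp f I := by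
  have hloc : ∀ y : Y, ∃ V : Y.affineOpens, y ∈ V.1 ∧ ∃ n, Pkg f L n V := by
    intro y
    obtain ⟨V, hyV, ℓ, hℓ, hLV⟩ := hL y
    obtain ⟨h1, h2, n, h3⟩ := local_facts f L hiso hdense V ℓ hℓ hLV
    exact ⟨V, hyV, n, ℓ, hℓ, hLV, h1, h2, h3⟩
  choose Vf hyV nf hP using hloc
  obtain ⟨t, ht⟩ := isCompact_univ.elim_finite_subcover (fun y => ((Vf y).1 : Set Y))
    (fun y => (Vf y).1.2) (fun y _ => Set.mem_iUnion.mpr ⟨y, hyV y⟩)
  obtain ⟨n, hn⟩ : ∃ n, n = t.sup nf + 1 := ⟨_, rfl⟩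
  have hn1 : 1 ≤ n := by omega
  have hcov : ∀ y : Y, ∃ V : Y.affineOpens, y ∈ V.1 ∧ Pkg f L n V := by
    intro y
    have h1 := ht (Set.mem_univ y)
    simp only [Set.mem_iUnion] at h1
    obtain ⟨y₀, hy₀, hy⟩ := h1
    refine ⟨Vf y₀, hy, pkg_mono f L _ (hP y₀) ?_⟩
    rw [hn]
    exact (Finset.le_sup (f := nf) hy₀).trans (Nat.le_succ _)
  clear ht hP hyV
  obtain ⟨I, hIdef⟩ : ∃ I, I = idealOf f L n := ⟨_, rfl⟩
  have hI : ∀ (V : Y.affineOpens) (ℓ : Γ(Y, V.1)), L.ideal V = Ideal.span {ℓ} →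
      I.ideal V = J (f.app V.1).hom ℓ n := by
    intro V ℓ h
    rw [hIdef]
    exact idealOf_ideal f L n V ℓ h
  refine ⟨I, ?_, ?_⟩
  · apply SetLike.ext
    intro y
    obtain ⟨V, hyV, ℓ, hℓ, hLV, hinj, hnzd, hr⟩ := hcov y
    have hVa : IsAffineOpen V.1 := V.2
    rw [Scheme.IdealSheafData.mem_support_iff_of_mem hyV,
      Scheme.IdealSheafData.mem_support_iff_of_mem hyV, mem_zeroLocus_iff_le V _ y hyV,
      mem_zeroLocus_iff_le V _ y hyV, hI V ℓ hLV, hLV,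
      le_prime_iff _ ℓ n hinj hr hn1 _ (hVa.primeIdealOf ⟨y, hyV⟩).isPrime,
      Ideal.span_singleton_le_iff_mem]
  · have hdata : ∀ (T : Scheme.{u}) (g : T ⟶ Y), BlowUp.IsEffCartierIdeal (I.comap g) → ∀ t : T,
        ∃ (V : Y.affineOpens) (T' : T.affineOpens) (hle : T'.1 ≤ g ⁻¹ᵁ V.1) (ℓ : Γ(Y, V.1))
          (c : Γ(T, T'.1)), t ∈ T'.1 ∧ Function.Injective (f.app V.1).hom ∧
          (∀ b, ∃ a, (f.app V.1).hom a = (f.app V.1).hom ℓ ^ n * b) ∧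
          c ∈ nonZeroDivisors Γ(T, T'.1) ∧
          (J (f.app V.1).hom ℓ n).map (g.appLE V.1 T'.1 hle).hom = Ideal.span {c} := by
      intro T g hg t
      obtain ⟨V, hyV, ℓ, hℓ, hLV, hinj, hnzd, hr⟩ := hcov (g t)
      obtain ⟨T', htT', hle, c, hc, hIc⟩ := exists_small (I.comap g) hg t (g ⁻¹ᵁ V.1) hyV
      refine ⟨V, T', hle, ℓ, c, htT', hinj, hr, hc, ?_⟩
      rw [← hI V ℓ hLV, ← ComapIdH8.comap_ideal g I T' V hle, hIc]
    apply Groth.Agent.Lib.BlowLocal.isBlowUp_of_local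
    · intro x
      obtain ⟨V, hyV, ℓ, hℓ, hLV, hinj, hnzd, hr⟩ := hcov (f x)
      have hVa : IsAffineOpen V.1 := V.2
      refine ⟨⟨f ⁻¹ᵁ V.1, hVa.preimage f⟩, hyV, (f.app V.1).hom ℓ ^ n, pow_mem hnzd n, ?_⟩
      rw [ComapIdH8.comap_ideal f I ⟨f ⁻¹ᵁ V.1, hVa.preimage f⟩ V le_rfl, hI V ℓ hLV,
        Scheme.Hom.appLE_eq_app, map_J]
    · intro T m₁ m₂ hm hcart
      choose V T' hle ℓ c htT' hinj hr hc hJc using hdata T (m₁ ≫ f) hcart
      have hcover : IsOpenCover (fun t => (T' t).1) := by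
        apply eq_top_iff.mpr
        intro t _
        exact Opens.mem_iSup.mpr ⟨t, htT' t⟩
      have key : ∃ 𝒰 : T.OpenCover, ∀ x : 𝒰.I₀, 𝒰.f x ≫ m₁ = 𝒰.f x ≫ m₂ := by
        refine ⟨T.openCoverOfIsOpenCover _ hcover, fun t => ?_⟩
        show (T' t).1.ι ≫ m₁ = (T' t).1.ι ≫ m₂
        have hVa : IsAffineOpen (V t).1 := (V t).2
        have hW : IsAffineOpen (f ⁻¹ᵁ (V t).1) := hVa.preimage f
        have hT'a : IsAffineOpen (T' t).1 := (T' t).2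
        have hle₁ : (T' t).1 ≤ m₁ ⁻¹ᵁ (f ⁻¹ᵁ (V t).1) := hle t
        have hle₂ : (T' t).1 ≤ m₂ ⁻¹ᵁ (f ⁻¹ᵁ (V t).1) := by
          have h0 : (T' t).1 ≤ (m₂ ≫ f) ⁻¹ᵁ (V t).1 := by
            rw [← hm]
            exact hle t
          exact h0
        have heq : m₁.appLE (f ⁻¹ᵁ (V t).1) (T' t).1 hle₁ =
            m₂.appLE (f ⁻¹ᵁ (V t).1) (T' t).1 hle₂ := by
          apply CommRingCat.hom_ext
          exact chi_unique (f.app (V t).1).hom (ℓ t) n (hinj t) (hr t)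
            ((m₁ ≫ f).appLE (V t).1 (T' t).1 (hle t)).hom (c t) (hc t) (hJc t) _ _
            (appLE_hom_comp f m₁ (m₁ ≫ f) rfl (V t).1 (T' t).1 (hle t) hle₁)
            (appLE_hom_comp f m₂ (m₁ ≫ f) hm.symm (V t).1 (T' t).1 (hle t) hle₂)
        rw [ι_comp_eq m₁ _ hT'a _ hW hle₁, ι_comp_eq m₂ _ hT'a _ hW hle₂, heq]
      obtain ⟨𝒰, h𝒰⟩ := key
      exact 𝒰.hom_ext _ _ h𝒰
    · intro T g hg t
      obtain ⟨V, T', hle, ℓ, c, htT', hinj, hr, hc, hJc⟩ := hdata T g hg t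
      have hVa : IsAffineOpen V.1 := V.2
      have hW : IsAffineOpen (f ⁻¹ᵁ V.1) := hVa.preimage f
      have hT'a : IsAffineOpen T'.1 := T'.2
      obtain ⟨χ, hχ⟩ := exists_chi (f.app V.1).hom ℓ n hinj hr (g.appLE V.1 T'.1 hle).hom c hc hJc
      refine ⟨T'.1, htT', hT'a.isoSpec.hom ≫ Spec.map (CommRingCat.ofHom χ) ≫ hW.fromSpec, ?_⟩
      have hcomp : f.appLE V.1 (f ⁻¹ᵁ V.1) le_rfl ≫ CommRingCat.ofHom χ = g.appLE V.1 T'.1 hle := by
        apply CommRingCat.hom_ext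
        rw [Scheme.Hom.appLE_eq_app]
        exact hχ
      rw [Category.assoc, Category.assoc, ← IsAffineOpen.SpecMap_appLE_fromSpec f hVa hW le_rfl,
        ← Spec.map_comp_assoc, hcomp, ι_comp_eq g T'.1 hT'a V.1 hVa hle]

end scheme

end Groth.Agent.Lib.BlowFin
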