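import Mathlib
import Groth.Prelude.Def_MeroDiv
import Groth.Agent.Lib.WeakAssSch_helper4

/-!
# The sheaf of meromorphic functions: basic lemmas (helper4)

Bridging `LocalizedModule.mk` with `IsLocalization.mk'` in `K_{X,x}`, injectivity of `toK`,
sections killed on a basic open are killed by a power, and `K_X(U)` is the total ring of fractions
of `O_X(U)` for `U` affine in a locally Noetherian scheme.
-/

set_option autoImplicit false
universe u

namespace Groth.Agent.Lib.Mero_helper4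

open AlgebraicGeometry CategoryTheory TopologicalSpace Opposite
open Groth.Agent.Lib.WeakAssSch_helper4

section Stalk

variable {X : Scheme.{u}}

theorem mk_eq_mk' (y : X) (r : X.presheaf.stalk y) (s : Mero.regStalk X y) :
    (LocalizedModule.mk r s : Mero.KStalk X y) = IsLocalization.mk' (Mero.KStalk X y) r s := by
  rw [← Localization.mk_eq_mk']; rfl

theorem mk_one_eq_algebraMap (y : X) (r : X.presheaf.stalk y) :
    (LocalizedModule.mk r 1 : Mero.KStalk X y) = algebraMap _ (Mero.KStalk X y) r := by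
  rw [← Localization.mk_one_eq_algebraMap]; rfl

theorem mk_eq_zero_iff (y : X) (r : X.presheaf.stalk y) (s : Mero.regStalk X y) :
    (LocalizedModule.mk r s : Mero.KStalk X y) = 0 ↔ r = 0 := by
  rw [mk_eq_mk', IsLocalization.mk'_eq_zero_iff]
  constructor
  · rintro ⟨m, hm⟩
    have hm' := Mero.regStalk_le_nonZeroDivisors y m.2
    exact (mem_nonZeroDivisors_iff_right.mp hm') r (by rw [mul_comm]; exact hm)
  · rintro rfl
    exact ⟨1, mul_zero _⟩

theorem mk_eq_mk_iff (y : X) (r r' : X.presheaf.stalk y) (s s' : Mero.regStalk X y) :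
    (LocalizedModule.mk r s : Mero.KStalk X y) = LocalizedModule.mk r' s' ↔
      r * (s' : X.presheaf.stalk y) = r' * (s : X.presheaf.stalk y) := by
  rw [mk_eq_mk', mk_eq_mk', IsLocalization.mk'_eq_iff_eq]
  constructor
  · intro h
    have h' := Mero.algebraMap_KStalk_injective y h
    rw [mul_comm r, h', mul_comm]
  · intro h
    rw [mul_comm _ r, h, mul_comm r']

theorem mk_pow_mul_mk_eq_zero (y : X) (r a : X.presheaf.stalk y)
    (s : Mero.regStalk X y) (n : ℕ) (e : r ^ n * a = 0) :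
    (LocalizedModule.mk r 1 : Mero.KStalk X y) ^ n * LocalizedModule.mk a s = 0 := by
  rw [mk_one_eq_algebraMap, mk_eq_mk', ← map_pow, IsLocalization.mul_mk'_eq_mk'_of_mul, e,
    IsLocalization.mk'_zero]

theorem frac_identity {R : Type*} [CommRing R] (S : Submonoid R) (K : Type*) [CommRing K]
    [Algebra R K] [IsLocalization S K] (α γ : R) (β : S) (m n : ℕ) :
    algebraMap R K ((β : R) * γ ^ m * γ ^ n) * IsLocalization.mk' K α β =
      algebraMap R K (α * γ ^ n * γ ^ m) := by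
  have h := IsLocalization.mk'_spec K α β
  calc algebraMap R K ((β : R) * γ ^ m * γ ^ n) * IsLocalization.mk' K α β
      = algebraMap R K (γ ^ m * γ ^ n) * (IsLocalization.mk' K α β * algebraMap R K β) := by
        rw [map_mul, map_mul, map_mul]; ring
    _ = algebraMap R K (α * γ ^ n * γ ^ m) := by
        rw [h, ← map_mul]; congr 1; ring

end Stalk

section Sections

variable {X : Scheme.{u}}

theorem kmod_ext {U : X.Opens} {s t : Γ(Mero.kmod X, U)} (h : ∀ x : U, s.1 x = t.1 x) : s = t :=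
  Subtype.ext (funext h)

theorem toK_injective (U : X.Opens) : Function.Injective (Mero.toK X U) := by
  intro a b hab
  apply TopCat.Presheaf.section_ext X.sheaf U
  intro y hy
  have h1 : (Mero.toK X U a).1 ⟨y, hy⟩ = (Mero.toK X U b).1 ⟨y, hy⟩ := by rw [hab]
  rw [Mero.toK_apply, Mero.toK_apply, mk_one_eq_algebraMap, mk_one_eq_algebraMap] at h1
  exact Mero.algebraMap_KStalk_injective y h1

theorem mem_regSub_of_mem_nonZeroDivisors {U : X.Opens} (hU : IsAffineOpen U) {s : Γ(X, U)}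
    (hs : s ∈ nonZeroDivisors Γ(X, U)) : s ∈ Mero.regSub X U := by
  intro x
  letI := TopCat.Presheaf.algebra_section_stalk X.presheaf x
  haveI := hU.isLocalization_stalk x
  exact IsLocalization.map_nonZeroDivisors_le (hU.primeIdealOf x).asIdeal.primeCompl
    (X.presheaf.stalk x.1) ⟨s, hs, rfl⟩

/-- The inverse of a regular section in `K_X(U)`. -/
noncomputable def invK {U : X.Opens} (b : Mero.regSub X U) : Γ(Mero.kmod X, U) :=
  ⟨fun x => LocalizedModule.mk 1 (Mero.regGerm x b),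
    fun x => ⟨U, x.2, 𝟙 _, 1, b, fun _ => Mero.mk_congr (map_one _).symm rfl⟩⟩

theorem toK_mul_invK {U : X.Opens} (b : Mero.regSub X U) : Mero.toK X U b.1 * invK b = 1 := by
  apply kmod_ext
  intro x
  show (LocalizedModule.mk (X.presheaf.germ U x.1 x.2 b.1) 1 : Mero.KStalk X x.1) *
    LocalizedModule.mk 1 (Mero.regGerm x b) = 1
  rw [mk_one_eq_algebraMap, mk_eq_mk', IsLocalization.mul_mk'_eq_mk'_of_mul, mul_one]
  exact IsLocalization.mk'_self' (Mero.KStalk X x.1) (x := Mero.regGerm x b)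

theorem exists_pow_mul_eq_zero_of_germ {W : X.Opens} (hW : IsAffineOpen W)
    (h' a : Γ(X, W))
    (H : ∀ (y : X) (hy : y ∈ X.basicOpen h'),
      X.presheaf.germ W y (X.basicOpen_le h' hy) a = 0) :
    ∃ n : ℕ, h' ^ n * a = 0 := by
  apply exists_pow_mul_eq_zero_of_res_basicOpen_eq_zero_of_isAffineOpen X hW a h'
  apply TopCat.Presheaf.section_ext X.sheaf (X.basicOpen h')
  intro y hy
  have h0 : X.presheaf.germ (X.basicOpen h') y hy (0 : Γ(X, X.basicOpen h')) = 0 := map_zero _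
  exact ((TopCat.Presheaf.germ_res_apply X.presheaf (homOfLE (X.basicOpen_le h')) y hy a).trans
    (H y hy)).trans h0.symm

/-- A section of `K_X` over a quasi-compact open vanishing on `D(h)` is killed by a power of
`h`. -/
theorem exists_pow_mul_eq_zero_of_isCompact {U : X.Opens} (hU : IsCompact (U : Set X))
    (h : Γ(X, U)) (f : Γ(Mero.kmod X, U))
    (hf : ∀ (y : X) (hy : y ∈ U), y ∈ X.basicOpen h → f.1 ⟨y, hy⟩ = 0) :
    ∃ n : ℕ, Mero.toK X U h ^ n * f = 0 := by
  classical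
  have hloc : ∀ (x : X) (_ : x ∈ U), ∃ W : X.Opens, x ∈ W ∧ ∃ n : ℕ,
      ∀ (y : X) (hyU : y ∈ U), y ∈ W →
        (LocalizedModule.mk (X.presheaf.germ U y hyU h) 1 : Mero.KStalk X y) ^ n *
          f.1 ⟨y, hyU⟩ = 0 := by
    intro x hxU
    obtain ⟨V, hxV, i, a, b, hab⟩ := f.2 ⟨x, hxU⟩
    obtain ⟨W, hW, hxW, hWV⟩ := (Opens.isBasis_iff_nbhd.mp X.isBasis_affineOpens) hxV
    have hVU : V ≤ U := i.le
    have hWU : W ≤ U := hWV.trans hVU
    obtain ⟨n, hn⟩ := exists_pow_mul_eq_zero_of_germ hW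
      (X.presheaf.map (homOfLE hWU).op h)
      (X.presheaf.map (homOfLE hWV).op a) (by
        intro y hy
        have hy2 : y ∈ W ⊓ X.basicOpen h := (X.basicOpen_res h (homOfLE hWU).op).le hy
        have hyW : y ∈ W := (Opens.mem_inf.mp hy2).1
        have hyh : y ∈ X.basicOpen h := (Opens.mem_inf.mp hy2).2
        have hyV : y ∈ V := hWV hyW
        refine (TopCat.Presheaf.germ_res_apply X.presheaf (homOfLE hWV) y _ a).trans ?_
        have h1 : f.1 ⟨y, hVU hyV⟩ = LocalizedModule.mk (X.presheaf.germ V y hyV a)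
            (Mero.regGerm ⟨y, hyV⟩ b) := hab ⟨y, hyV⟩
        have h2 : f.1 ⟨y, hVU hyV⟩ = 0 := hf y (hVU hyV) hyh
        have h3 : (LocalizedModule.mk (X.presheaf.germ V y hyV a)
            (Mero.regGerm ⟨y, hyV⟩ b) : Mero.KStalk X y) = 0 := by
          rw [← h1]; exact h2
        exact (mk_eq_zero_iff y _ _).mp h3)
    refine ⟨W, hxW, n, fun y hyU hy => ?_⟩
    have hyV : y ∈ V := hWV hy
    have h1 : f.1 ⟨y, hyU⟩ = LocalizedModule.mk (X.presheaf.germ V y hyV a)
        (Mero.regGerm ⟨y, hyV⟩ b) := hab ⟨y, hyV⟩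
    rw [h1]
    have e1 : X.presheaf.germ U y hyU h =
        X.presheaf.germ W y hy (X.presheaf.map (homOfLE hWU).op h) :=
      (TopCat.Presheaf.germ_res_apply X.presheaf (homOfLE hWU) y hy h).symm
    have e2 : X.presheaf.germ V y hyV a =
        X.presheaf.germ W y hy (X.presheaf.map (homOfLE hWV).op a) :=
      (TopCat.Presheaf.germ_res_apply X.presheaf (homOfLE hWV) y hy a).symm
    have e3 : X.presheaf.germ U y hyU h ^ n * X.presheaf.germ V y hyV a = 0 := by
      rw [e1, e2, ← map_pow, ← map_mul, hn, map_zero]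
    exact mk_pow_mul_mk_eq_zero y _ _ _ n e3
  choose W hxW n hn using hloc
  obtain ⟨t, ht⟩ := hU.elim_nhds_subcover' (fun x hx => (W x hx : Set X))
    (fun x hx => (W x hx).2.mem_nhds (hxW x hx))
  refine ⟨t.sup (fun x => n x.1 x.2), ?_⟩
  apply kmod_ext
  rintro ⟨y, hy⟩
  have hy' := ht hy
  rw [Set.mem_iUnion₂] at hy'
  obtain ⟨x, hxt, hyx⟩ := hy'
  have hle : n x.1 x.2 ≤ t.sup (fun x => n x.1 x.2) :=
    Finset.le_sup (f := fun x => n x.1 x.2) hxt
  show Mero.evalK X U ⟨y, hy⟩ (Mero.toK X U h ^ t.sup (fun x => n x.1 x.2) * f) = 0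
  rw [map_mul, map_pow]
  have hk := hn x.1 x.2 y hy hyx
  have hz : Mero.evalK X U ⟨y, hy⟩ (Mero.toK X U h) =
      (LocalizedModule.mk (X.presheaf.germ U y hy h) 1 : Mero.KStalk X y) := rfl
  have hfy : Mero.evalK X U ⟨y, hy⟩ f = f.1 ⟨y, hy⟩ := rfl
  rw [hz, hfy, ← Nat.sub_add_cancel hle, pow_add, mul_assoc, hk, mul_zero]

end Sections

section Denominators

variable {X : Scheme.{u}}

/-- The ideal of denominators of a section of `K_X` over `U`. -/
def denom {U : X.Opens} (z : Γ(Mero.kmod X, U)) : Ideal Γ(X, U) where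
  carrier := {r | ∃ a : Γ(X, U), Mero.toK X U r * z = Mero.toK X U a}
  zero_mem' := ⟨0, by rw [map_zero, zero_mul]⟩
  add_mem' := by
    rintro r r' ⟨a, ha⟩ ⟨a', ha'⟩
    exact ⟨a + a', by rw [map_add, add_mul, ha, ha', map_add]⟩
  smul_mem' := by
    rintro c r ⟨a, ha⟩
    exact ⟨c * a, by rw [smul_eq_mul, map_mul, mul_assoc, ha, map_mul]⟩

theorem mem_denom {U : X.Opens} {z : Γ(Mero.kmod X, U)} {r : Γ(X, U)} :
    r ∈ denom z ↔ ∃ a : Γ(X, U), Mero.toK X U r * z = Mero.toK X U a := Iff.rfl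

theorem exists_le_associatedPrime_of_disjoint {A : Type*} [CommRing A] [IsNoetherianRing A]
    {I : Ideal A} (h : Disjoint (I : Set A) (nonZeroDivisors A)) :
    ∃ P ∈ associatedPrimes A A, I ≤ P :=
  (I.subset_union_prime_finite (associatedPrimes.finite ..) (f := id) 0 0
    fun _ h _ _ ↦ h.1).1 <|
    biUnion_associatedPrimes_eq_compl_nonZeroDivisors A ▸ h.subset_compl_right

theorem exists_nonZeroDivisor_mem_denom [IsLocallyNoetherian X] {U : X.Opens}
    (hU : IsAffineOpen U) (z : Γ(Mero.kmod X, U)) :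
    ∃ s ∈ nonZeroDivisors Γ(X, U), s ∈ denom z := by
  haveI : IsNoetherianRing Γ(X, U) := IsLocallyNoetherian.component_noetherian ⟨U, hU⟩
  by_contra hcon
  have hdis : Disjoint ((denom z : Ideal Γ(X, U)) : Set Γ(X, U))
      (nonZeroDivisors Γ(X, U) : Set Γ(X, U)) := by
    rw [Set.disjoint_left]
    intro r hr hnz
    exact hcon ⟨r, hnz, hr⟩
  obtain ⟨P, hPass, hDP⟩ := exists_le_associatedPrime_of_disjoint hdis
  rw [AssociatedPrimes.mem_iff, isAssociatedPrime_iff] at hPass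
  obtain ⟨hPprime, c, hPc⟩ := hPass
  obtain ⟨x, hx, hxP⟩ := exists_point_of_prime hU ⟨P, hPprime⟩
  obtain ⟨V, hxV, i, a, b, hab⟩ := z.2 ⟨x, hx⟩
  obtain ⟨g, hgV, hxg⟩ := hU.exists_basicOpen_le (⟨x, hxV⟩ : V) hx
  have hgP : g ∉ P := by
    have h1 := (notMem_primeIdealOf_iff hU hx g).mpr hxg
    rw [hxP] at h1
    exact h1
  have hWU : X.basicOpen g ≤ U := X.basicOpen_le g
  have hloc := hU.isLocalization_basicOpen g
  obtain ⟨⟨a', ⟨_, n, rfl⟩⟩, ha'⟩ := IsLocalization.surj (Submonoid.powers g)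
    (X.presheaf.map (homOfLE hgV).op a : Γ(X, X.basicOpen g))
  obtain ⟨⟨b', ⟨_, m, rfl⟩⟩, hb'⟩ := IsLocalization.surj (Submonoid.powers g)
    (X.presheaf.map (homOfLE hgV).op b.1 : Γ(X, X.basicOpen g))
  have ha'' : X.presheaf.map (homOfLE hgV).op a * X.presheaf.map (homOfLE hWU).op (g ^ n) =
      X.presheaf.map (homOfLE hWU).op a' := ha'
  have hb'' : X.presheaf.map (homOfLE hgV).op b.1 * X.presheaf.map (homOfLE hWU).op (g ^ m) =
      X.presheaf.map (homOfLE hWU).op b' := hb'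
  have e1 : ∀ (y : X) (hyU : y ∈ U) (hy : y ∈ X.basicOpen g),
      X.presheaf.germ V y (hgV hy) a * X.presheaf.germ U y hyU g ^ n =
        X.presheaf.germ U y hyU a' := by
    intro y hyU hy
    have h1 : X.presheaf.germ (X.basicOpen g) y hy
        (X.presheaf.map (homOfLE hgV).op a * X.presheaf.map (homOfLE hWU).op (g ^ n)) =
        X.presheaf.germ (X.basicOpen g) y hy (X.presheaf.map (homOfLE hWU).op a') := by
      rw [ha'']
    rw [map_mul, TopCat.Presheaf.germ_res_apply, TopCat.Presheaf.germ_res_apply,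
      TopCat.Presheaf.germ_res_apply, map_pow] at h1
    exact h1
  have e2 : ∀ (y : X) (hyU : y ∈ U) (hy : y ∈ X.basicOpen g),
      X.presheaf.germ V y (hgV hy) b.1 * X.presheaf.germ U y hyU g ^ m =
        X.presheaf.germ U y hyU b' := by
    intro y hyU hy
    have h1 : X.presheaf.germ (X.basicOpen g) y hy
        (X.presheaf.map (homOfLE hgV).op b.1 * X.presheaf.map (homOfLE hWU).op (g ^ m)) =
        X.presheaf.germ (X.basicOpen g) y hy (X.presheaf.map (homOfLE hWU).op b') := by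
      rw [hb'']
    rw [map_mul, TopCat.Presheaf.germ_res_apply, TopCat.Presheaf.germ_res_apply,
      TopCat.Presheaf.germ_res_apply, map_pow] at h1
    exact h1
  have hzero : ∀ (y : X) (hyU : y ∈ U), y ∈ X.basicOpen g →
      (Mero.toK X U (b' * g ^ n) * z - Mero.toK X U (a' * g ^ m)).1 ⟨y, hyU⟩ = 0 := by
    intro y hyU hy
    have hyV : y ∈ V := hgV hy
    have hz : z.1 ⟨y, hyU⟩ = LocalizedModule.mk (X.presheaf.germ V y hyV a)
        (Mero.regGerm ⟨y, hyV⟩ b) := hab ⟨y, hyV⟩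
    show Mero.evalK X U ⟨y, hyU⟩
      (Mero.toK X U (b' * g ^ n) * z - Mero.toK X U (a' * g ^ m)) = 0
    rw [map_sub, map_mul, sub_eq_zero]
    show (LocalizedModule.mk (X.presheaf.germ U y hyU (b' * g ^ n)) 1 : Mero.KStalk X y) *
      z.1 ⟨y, hyU⟩ = LocalizedModule.mk (X.presheaf.germ U y hyU (a' * g ^ m)) 1
    have e3 : X.presheaf.germ U y hyU (b' * g ^ n) =
        X.presheaf.germ V y hyV b.1 * X.presheaf.germ U y hyU g ^ m *
          X.presheaf.germ U y hyU g ^ n := by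
      rw [map_mul, map_pow, ← e2 y hyU hy]
    have e4 : X.presheaf.germ U y hyU (a' * g ^ m) =
        X.presheaf.germ V y hyV a * X.presheaf.germ U y hyU g ^ n *
          X.presheaf.germ U y hyU g ^ m := by
      rw [map_mul, map_pow, ← e1 y hyU hy]
    rw [hz, mk_one_eq_algebraMap, mk_one_eq_algebraMap, mk_eq_mk', e3, e4]
    exact frac_identity (Mero.regStalk X y) (Mero.KStalk X y) _ _ (Mero.regGerm ⟨y, hyV⟩ b) m n
  obtain ⟨N, hN⟩ := exists_pow_mul_eq_zero_of_isCompact hU.isCompact g _ hzero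
  have hmem : g ^ N * (b' * g ^ n) ∈ denom z := by
    rw [mem_denom]
    refine ⟨g ^ N * (a' * g ^ m), ?_⟩
    have h2 := hN
    simp only [map_mul, map_pow] at h2 ⊢
    linear_combination h2
  have hb'P : b' ∈ P := by
    have h1 := hDP hmem
    rcases hPprime.mem_or_mem h1 with h2 | h2
    · exact absurd (hPprime.mem_of_pow_mem N h2) hgP
    · rcases hPprime.mem_or_mem h2 with h3 | h3
      · exact h3
      · exact absurd (hPprime.mem_of_pow_mem n h3) hgP
  rw [hPc, Submodule.mem_colon_singleton, Submodule.mem_bot, smul_eq_mul] at hb'P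
  have hnzd : X.presheaf.germ U x hx b' ∈ nonZeroDivisors (X.presheaf.stalk x) := by
    rw [← e2 x hx hxg]
    exact Submonoid.mul_mem _ (b.2 ⟨x, hxV⟩)
      (Submonoid.pow_mem _ ((Scheme.mem_basicOpen X g x hx).mp hxg).mem_nonZeroDivisors m)
  have hgc : X.presheaf.germ U x hx c = 0 := by
    apply (mem_nonZeroDivisors_iff_right.mp hnzd)
    rw [← map_mul, mul_comm, hb'P, map_zero]
  letI := TopCat.Presheaf.algebra_section_stalk X.presheaf (⟨x, hx⟩ : U)
  haveI := hU.isLocalization_stalk ⟨x, hx⟩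
  obtain ⟨⟨t, ht⟩, htc⟩ := (IsLocalization.map_eq_zero_iff
    (hU.primeIdealOf ⟨x, hx⟩).asIdeal.primeCompl (X.presheaf.stalk x) c).mp hgc
  rw [hxP] at ht
  apply ht
  show t ∈ P
  rw [hPc, Submodule.mem_colon_singleton, Submodule.mem_bot, smul_eq_mul]
  exact htc

/-- For `U` affine in a locally Noetherian scheme, `K_X(U)` is the total ring of fractions of
`O_X(U)`. -/
theorem isLocalization_kmod [IsLocallyNoetherian X] (U : X.affineOpens) :
    @IsLocalization Γ(X, U.1) _ (nonZeroDivisors Γ(X, U.1)) Γ(Mero.kmod X, U.1) _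
      (Mero.toK X U.1).toAlgebra := by
  letI : Algebra Γ(X, U.1) Γ(Mero.kmod X, U.1) := (Mero.toK X U.1).toAlgebra
  refine (isLocalization_iff _ _).mpr ⟨?_, ?_, ?_⟩
  · rintro ⟨s, hs⟩
    have hreg := mem_regSub_of_mem_nonZeroDivisors U.2 hs
    show IsUnit (Mero.toK X U.1 s)
    exact isUnit_iff_exists_inv.mpr ⟨_, toK_mul_invK ⟨s, hreg⟩⟩
  · intro z
    obtain ⟨s, hs, hsd⟩ := exists_nonZeroDivisor_mem_denom U.2 z
    obtain ⟨a, ha⟩ := mem_denom.mp hsd
    refine ⟨(a, ⟨s, hs⟩), ?_⟩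
    show z * Mero.toK X U.1 s = Mero.toK X U.1 a
    rw [mul_comm]; exact ha
  · intro a b hab
    exact ⟨1, by rw [toK_injective U.1 hab]⟩

end Denominators

end Groth.Agent.Lib.Mero_helper4
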