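import Mathlib
import Groth.Prelude.Def_BlowUp2
import Groth.Agent.Lib.ComapIdeal_helper4
import Groth.Agent.Lib.Mero_helper4

/-!
# Blowing up via the universal property: basic consequences (helper4)

For `b : X' ⟶ X` a blowing up of `X` in `𝓘` (universal property `BlowUp.IsBlowUp`):
* `b` is an isomorphism over every open disjoint from the support of `𝓘`;
* `b` carries regular sections to regular sections;
* effective Cartier divisors pull back along `b`;
* `X'` is reduced if `X` is.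
-/

set_option autoImplicit false
universe u

namespace Groth.Agent.Lib.BlowUpBasic_helper4

open AlgebraicGeometry CategoryTheory CategoryTheory.Limits TopologicalSpace Opposite FlatCA
open Groth.Agent.Lib.WeakAss_helper4 Groth.Agent.Lib.QCohLoc_helper4
open Groth.Agent.Lib.WeakAssSch_helper4 Groth.Agent.Lib.WeakAssSch2_helper4
open Groth.Agent.Lib.WeakAssSch3_helper4 Groth.Agent.Lib.Mero_helper4
open Groth.Agent.Lib.ComapIdeal_helper4

section General

theorem isEffCartierIdeal_top (X : Scheme.{u}) :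
    BlowUp.IsEffCartierIdeal (⊤ : X.IdealSheafData) := by
  intro x
  obtain ⟨U, hU, hxU, -⟩ := (Opens.isBasis_iff_nbhd.mp X.isBasis_affineOpens)
    (show x ∈ (⊤ : X.Opens) from trivial)
  refine ⟨⟨U, hU⟩, hxU, 1, Submonoid.one_mem _, ?_⟩
  rw [Ideal.span_singleton_one]
  rfl

theorem mem_nonZeroDivisors_of_bijective {R S : Type*} [CommRing R] [CommRing S] (φ : R →+* S)
    (hφ : Function.Bijective φ) {r : R} (hr : r ∈ nonZeroDivisors R) :
    φ r ∈ nonZeroDivisors S := by
  rw [mem_nonZeroDivisors_iff_right]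
  intro z hz
  obtain ⟨z', rfl⟩ := hφ.2 z
  rw [← map_mul] at hz
  have h1 : z' * r = 0 := hφ.1 (by rw [hz, map_zero])
  rw [mem_nonZeroDivisors_iff_right.mp hr z' h1, map_zero]

theorem mem_nonZeroDivisors_of_mem_regSub {X : Scheme.{u}} {V : X.Opens} {t : Γ(X, V)}
    (ht : t ∈ Mero.regSub X V) : t ∈ nonZeroDivisors Γ(X, V) := by
  rw [mem_nonZeroDivisors_iff_right]
  intro z hz
  apply TopCat.Presheaf.section_ext X.sheaf V
  intro y hy
  have h0 : X.presheaf.germ V y hy (0 : Γ(X, V)) = 0 := map_zero _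
  have h1 : X.presheaf.germ V y hy z * X.presheaf.germ V y hy t = 0 := by
    rw [← map_mul, hz, map_zero]
  exact (mem_nonZeroDivisors_iff_right.mp (ht ⟨y, hy⟩) _ h1).trans h0.symm

end General

section BlowUp

variable {X X' : Scheme.{u}} {𝓘 : X.IdealSheafData} {b : X' ⟶ X}

theorem comap_eq_top_of_disjoint {Y : Scheme.{u}} (g : Y ⟶ X) (W : X.Opens)
    (hW : Disjoint (𝓘.support : Set X) (W : Set X)) (hg : ∀ y : Y, g y ∈ W) :
    𝓘.comap g = ⊤ := by
  rw [← Scheme.IdealSheafData.support_eq_bot_iff, Scheme.IdealSheafData.support_comap]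
  apply TopologicalSpace.Closeds.ext
  ext y
  constructor
  · intro hy
    exact (Set.disjoint_left.mp hW hy (hg y)).elim
  · intro hy
    exact absurd hy (Set.notMem_empty y)

theorem isIso_morphismRestrict_of_isBlowUp (hb : BlowUp.IsBlowUp b 𝓘) (W : X.Opens)
    (hW : Disjoint (𝓘.support : Set X) (W : Set X)) : IsIso (b ∣_ W) := by
  have hcart : ∀ {Y : Scheme.{u}} (g : Y ⟶ X), (∀ y : Y, g y ∈ W) →
      BlowUp.IsEffCartierIdeal (𝓘.comap g) := by
    intro Y g hg
    rw [comap_eq_top_of_disjoint g W hW hg]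
    exact isEffCartierIdeal_top Y
  obtain ⟨h, hh, -⟩ := hb.2 _ W.ι (hcart W.ι (fun y => y.2))
  have huniq := hb.2 _ ((b ⁻¹ᵁ W).ι ≫ b) (hcart _ (fun y => y.2))
  have e1 : (b ∣_ W) ≫ h = (b ⁻¹ᵁ W).ι := by
    apply huniq.unique
    · rw [Category.assoc, hh, morphismRestrict_ι]
    · rfl
  have hrange : Set.range h ⊆ Set.range (b ⁻¹ᵁ W).ι := by
    rintro _ ⟨w, rfl⟩
    rw [Scheme.Opens.range_ι]
    show b (h w) ∈ W
    have h1 : b (h w) = W.ι w := by rw [← hh]; rfl
    rw [h1]; exact w.2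
  refine ⟨⟨IsOpenImmersion.lift (b ⁻¹ᵁ W).ι h hrange, ?_, ?_⟩⟩
  · rw [← cancel_mono (b ⁻¹ᵁ W).ι, Category.assoc, IsOpenImmersion.lift_fac, e1,
      Category.id_comp]
  · rw [← cancel_mono W.ι, Category.assoc, morphismRestrict_ι, ← Category.assoc,
      IsOpenImmersion.lift_fac, hh, Category.id_comp]

theorem isIso_stalkMap_of_isBlowUp (hb : BlowUp.IsBlowUp b 𝓘) (y : X')
    (hy : b y ∉ 𝓘.support) : IsIso (b.stalkMap y) := by
  have hWdis : Disjoint (𝓘.support : Set X) ((𝓘.support.compl : X.Opens) : Set X) :=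
    disjoint_compl_right
  haveI := isIso_morphismRestrict_of_isBlowUp hb 𝓘.support.compl hWdis
  have e := morphismRestrictStalkMap b 𝓘.support.compl ⟨y, hy⟩
  have h1 : IsIso ((b ∣_ 𝓘.support.compl).stalkMap ⟨y, hy⟩) := inferInstance
  exact ((MorphismProperty.isomorphisms CommRingCat).arrow_mk_iso_iff e).mp h1

theorem notMem_support_of_mem_basicOpen (_hb : BlowUp.IsBlowUp b 𝓘) {V'' : X'.affineOpens}
    {e : Γ(X', V''.1)} (hIe : (𝓘.comap b).ideal V'' = Ideal.span {e}) {y : X'}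
    (hye : y ∈ X'.basicOpen e) : b y ∉ 𝓘.support := by
  intro hsup
  have hyV'' : y ∈ V''.1 := X'.basicOpen_le e hye
  have h1 : y ∈ (𝓘.comap b).support := by
    rw [Scheme.IdealSheafData.support_comap]; exact hsup
  rw [Scheme.IdealSheafData.mem_support_iff_of_mem hyV'', hIe, Scheme.zeroLocus_span,
    Scheme.zeroLocus_singleton] at h1
  exact h1 hye

/-- A blowing up carries regular sections to regular sections. -/
theorem map_mem_regSub_of_isBlowUp (hb : BlowUp.IsBlowUp b 𝓘) (U : X.Opens) (s : Γ(X, U))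
    (hs : s ∈ Mero.regSub X U) : b.app U s ∈ Mero.regSub X' (b ⁻¹ᵁ U) := by
  have hout : ∀ (y : X') (hy : y ∈ b ⁻¹ᵁ U), b y ∉ 𝓘.support →
      X'.presheaf.germ (b ⁻¹ᵁ U) y hy (b.app U s) ∈ nonZeroDivisors (X'.presheaf.stalk y) := by
    intro y hy hyW
    haveI := isIso_stalkMap_of_isBlowUp hb y hyW
    rw [← Scheme.Hom.germ_stalkMap_apply b U y hy s]
    exact mem_nonZeroDivisors_of_bijective (b.stalkMap y).hom
      (ConcreteCategory.bijective_of_isIso (b.stalkMap y)) (hs ⟨b y, hy⟩)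
  rintro ⟨x', hx'U⟩
  obtain ⟨V'', hx'V'', e, he, hIe⟩ := hb.1 x'
  obtain ⟨f, hfle, hx'f⟩ := V''.2.exists_basicOpen_le
    (⟨x', ⟨hx'U, hx'V''⟩⟩ : ↥((b ⁻¹ᵁ U) ⊓ V''.1)) hx'V''
  have hV' : IsAffineOpen (X'.basicOpen f) := V''.2.basicOpen f
  have hV'U : X'.basicOpen f ≤ b ⁻¹ᵁ U := hfle.trans inf_le_left
  have hV'V'' : X'.basicOpen f ≤ V''.1 := X'.basicOpen_le f
  have hloc := V''.2.isLocalization_basicOpen f
  have he' : X'.presheaf.map (homOfLE hV'V'').op e ∈
      nonZeroDivisors Γ(X', X'.basicOpen f) :=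
    IsLocalization.map_nonZeroDivisors_le (Submonoid.powers f) Γ(X', X'.basicOpen f)
      ⟨e, he, rfl⟩
  have ht' : X'.presheaf.map (homOfLE hV'U).op (b.app U s) ∈
      nonZeroDivisors Γ(X', X'.basicOpen f) := by
    rw [mem_nonZeroDivisors_iff_right]
    intro c hc
    obtain ⟨n, hn⟩ := exists_pow_mul_eq_zero_of_germ hV'
      (X'.presheaf.map (homOfLE hV'V'').op e) c (by
        intro y hy
        have hy2 : y ∈ X'.basicOpen f ⊓ X'.basicOpen e :=
          (X'.basicOpen_res e (homOfLE hV'V'').op).le hy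
        have hyV' : y ∈ X'.basicOpen f := (Opens.mem_inf.mp hy2).1
        have hye : y ∈ X'.basicOpen e := (Opens.mem_inf.mp hy2).2
        have hnot : b y ∉ 𝓘.support := notMem_support_of_mem_basicOpen hb hIe hye
        have hnz := hout y (hV'U hyV') hnot
        have h2 : X'.presheaf.germ (X'.basicOpen f) y hyV' c *
            X'.presheaf.germ (X'.basicOpen f) y hyV'
              (X'.presheaf.map (homOfLE hV'U).op (b.app U s)) = 0 := by
          rw [← map_mul, hc, map_zero]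
        rw [TopCat.Presheaf.germ_res_apply] at h2
        exact mem_nonZeroDivisors_iff_right.mp hnz _ h2)
    exact mem_nonZeroDivisors_iff_right.mp (pow_mem he' n) c (by rw [mul_comm]; exact hn)
  have hreg := mem_regSub_of_mem_nonZeroDivisors hV' ht'
  have h3 := hreg ⟨x', hx'f⟩
  have h4 : X'.presheaf.germ (X'.basicOpen f) x' hx'f
      (X'.presheaf.map (homOfLE hV'U).op (b.app U s)) =
      X'.presheaf.germ (b ⁻¹ᵁ U) x' hx'U (b.app U s) :=
    TopCat.Presheaf.germ_res_apply X'.presheaf (homOfLE hV'U) x' hx'f _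
  show X'.presheaf.germ (b ⁻¹ᵁ U) x' hx'U (b.app U s) ∈
    nonZeroDivisors (X'.presheaf.stalk x')
  rw [← h4]; exact h3

/-- Effective Cartier divisors pull back along a blowing up. -/
theorem isEffCartierIdeal_comap_of_isBlowUp (hb : BlowUp.IsBlowUp b 𝓘) (𝓓 : X.IdealSheafData)
    (hD : BlowUp.IsEffCartierIdeal 𝓓) : BlowUp.IsEffCartierIdeal (𝓓.comap b) := by
  apply isEffCartierIdeal_comap_of_weakAss_avoid b 𝓓 hD
  intro x' hwa hsupp
  obtain ⟨U, hxU, g, hg, hIg⟩ := hD (b x')
  have hgreg := mem_regSub_of_mem_nonZeroDivisors U.2 hg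
  have htreg := map_mem_regSub_of_isBlowUp hb U.1 g hgreg
  obtain ⟨V', hV', hx'V', hV'U⟩ := (Opens.isBasis_iff_nbhd.mp X'.isBasis_affineOpens)
    (show x' ∈ b ⁻¹ᵁ U.1 from hxU)
  have htV' := Mero.regSub_res (homOfLE hV'U) htreg
  have htnzd := mem_nonZeroDivisors_of_mem_regSub htV'
  have hp := (isWeakAssPoint_structureModule_iff hV' hx'V').mp hwa
  obtain ⟨c, hc⟩ := hp
  have htp : X'.presheaf.map (homOfLE hV'U).op (b.app U.1 g) ∈
      (hV'.primeIdealOf ⟨x', hx'V'⟩).asIdeal := by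
    by_contra hnot
    have h1 := (notMem_primeIdealOf_iff hV' hx'V' _).mp hnot
    have h1' : x' ∈ V' ⊓ X'.basicOpen (b.app U.1 g) :=
      (X'.basicOpen_res (b.app U.1 g) (homOfLE hV'U).op).le h1
    have h2 : x' ∈ X'.basicOpen (b.app U.1 g) := (Opens.mem_inf.mp h1').2
    rw [← Scheme.preimage_basicOpen] at h2
    rw [Scheme.IdealSheafData.mem_support_iff_of_mem hxU, hIg, Scheme.zeroLocus_span,
      Scheme.zeroLocus_singleton] at hsupp
    exact hsupp h2
  obtain ⟨s, hs, n, hsn⟩ := exists_mul_pow_mem hc htp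
  rw [mem_ann, smul_eq_mul] at hsn
  have hsc : s * c = 0 := by
    apply (mem_nonZeroDivisors_iff_right.mp (pow_mem htnzd n))
    rw [← hsn]; ring
  exact hs (hc.1.2 (mem_ann.mpr (by rw [smul_eq_mul]; exact hsc)))

/-- The blowing up of a reduced scheme is reduced. -/
theorem isReduced_of_isBlowUp [IsReduced X] (hb : BlowUp.IsBlowUp b 𝓘) : IsReduced X' := by
  haveI : ∀ x' : X', _root_.IsReduced (X'.presheaf.stalk x') := by
    intro x'
    obtain ⟨V'', hx'V'', e, he, hIe⟩ := hb.1 x'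
    have hB : _root_.IsReduced Γ(X', V''.1) := by
      constructor
      intro z hz
      obtain ⟨k, hk⟩ := hz
      obtain ⟨n, hn⟩ := exists_pow_mul_eq_zero_of_germ V''.2 e z (by
        intro y hy
        have hyV'' : y ∈ V''.1 := X'.basicOpen_le e hy
        have hnot : b y ∉ 𝓘.support := notMem_support_of_mem_basicOpen hb hIe hy
        haveI := isIso_stalkMap_of_isBlowUp hb y hnot
        have hbij := ConcreteCategory.bijective_of_isIso (b.stalkMap y)
        obtain ⟨w, hw⟩ := hbij.2 (X'.presheaf.germ V''.1 y hyV'' z)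
        have hwnil : IsNilpotent w := by
          refine ⟨k, hbij.1 ?_⟩
          rw [map_pow, hw, ← map_pow, hk, map_zero, map_zero]
        rw [← hw, hwnil.eq_zero, map_zero])
      exact mem_nonZeroDivisors_iff_right.mp (pow_mem he n) z (by rw [mul_comm]; exact hn)
    letI := TopCat.Presheaf.algebra_section_stalk X'.presheaf (⟨x', hx'V''⟩ : V''.1)
    haveI := V''.2.isLocalization_stalk ⟨x', hx'V''⟩
    exact isReduced_localizationPreserves
      (V''.2.primeIdealOf ⟨x', hx'V''⟩).asIdeal.primeCompl _ hB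
  exact isReduced_of_isReduced_stalk X'

end BlowUp

end Groth.Agent.Lib.BlowUpBasic_helper4
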