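import Mathlib
import Groth.Prelude
import Groth.Agent.Lib.BlowUpBasic_helper4

/-!
# A blowing up of an integral scheme in a nonzero ideal is integral and birational (S2348) — helper4
-/

set_option autoImplicit false
universe u
open CategoryTheory CategoryTheory.Limits AlgebraicGeometry TopologicalSpace

namespace Groth.Agent.Lib.BlowUpIntegralH4

open Groth.Agent.Lib.BlowUpBasic_helper4

variable {X Y : Scheme.{u}}

theorem dense_preimage_compl [IsReduced Y] (I : Y.IdealSheafData) (b : X ⟶ Y)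
    (hb : BlowUp.IsBlowUp b I) :
    Dense ((b ⁻¹ᵁ I.support.compl : X.Opens) : Set X) := by
  haveI : IsReduced X := isReduced_of_isBlowUp hb
  rw [dense_iff_inter_open]
  rintro O hO ⟨x, hxO⟩
  obtain ⟨V'', hxV'', e, he, hIe⟩ := hb.1 x
  obtain ⟨g, hgle, hxg⟩ := V''.2.exists_basicOpen_le
    (⟨x, ⟨hxO, hxV''⟩⟩ : ↥((⟨O, hO⟩ : X.Opens) ⊓ V''.1)) hxV''
  have hne : X.basicOpen (g * e) ≠ ⊥ := by
    intro h0
    rw [basicOpen_eq_bot_iff] at h0
    have hg0 : g = 0 := (mem_nonZeroDivisors_iff_right.mp he) g h0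
    rw [hg0, Scheme.basicOpen_zero] at hxg
    exact (show False from hxg)
  obtain ⟨y, hy⟩ := (Opens.ne_bot_iff_nonempty _).mp hne
  have hy' : y ∈ X.basicOpen g ⊓ X.basicOpen e := by
    rw [← Scheme.basicOpen_mul]; exact hy
  refine ⟨y, (hgle hy'.1).1, ?_⟩
  exact notMem_support_of_mem_basicOpen hb hIe hy'.2

set_option maxHeartbeats 1600000 in
theorem aux2348 [IsIntegral Y] (I : Y.IdealSheafData) (b : X ⟶ Y)
    (hb : BlowUp.IsBlowUp b I) (W : Y.Opens)
    (hWdis : Disjoint (I.support : Set Y) (W : Set Y)) (hWne : (W : Set Y).Nonempty)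
    (hdense : Dense ((b ⁻¹ᵁ W : X.Opens) : Set X)) (hWs : ∀ y ∈ W, y ∉ I.support) :
    ∃ (_ : IsIntegral X), ∃ hgen : b.base (genericPoint X) = genericPoint Y,
      Function.Bijective (b.residueFieldMap (genericPoint X)).hom := by
  haveI hred : IsReduced X := isReduced_of_isBlowUp hb
  haveI hiso : IsIso (b ∣_ W) := isIso_morphismRestrict_of_isBlowUp hb W hWdis
  haveI hWn : Nonempty (W : Scheme.{u}) := ⟨⟨hWne.some, hWne.some_mem⟩⟩
  haveI hWint : IsIntegral (W : Scheme.{u}) := isIntegral_of_isOpenImmersion W.ι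
  haveI hUn : Nonempty ((b ⁻¹ᵁ W : X.Opens) : Scheme.{u}) := ⟨(inv (b ∣_ W)) hWn.some⟩
  haveI hUint : IsIntegral ((b ⁻¹ᵁ W : X.Opens) : Scheme.{u}) :=
    isIntegral_of_isOpenImmersion (b ∣_ W)
  have hirrU : IsIrreducible ((b ⁻¹ᵁ W : X.Opens) : Set X) := by
    have h1 := (IrreducibleSpace.isIrreducible_univ ((b ⁻¹ᵁ W : X.Opens) : Scheme.{u})).image
      (b ⁻¹ᵁ W).ι (b ⁻¹ᵁ W).ι.continuous.continuousOn
    rw [Set.image_univ, Scheme.Opens.range_ι] at h1
    exact h1
  haveI hirrX : IrreducibleSpace X := by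
    rw [irreducibleSpace_def]
    have h2 := hirrU.closure
    rw [hdense.closure_eq] at h2
    exact h2
  haveI hXint : IsIntegral X := isIntegral_of_irreducibleSpace_of_isReduced X
  have h1 : (b ⁻¹ᵁ W).ι (genericPoint ((b ⁻¹ᵁ W : X.Opens) : Scheme.{u})) = genericPoint X :=
    genericPoint_eq_of_isOpenImmersion (b ⁻¹ᵁ W).ι
  have h2 : ((b ∣_ W) ≫ W.ι) (genericPoint ((b ⁻¹ᵁ W : X.Opens) : Scheme.{u})) = genericPoint Y :=
    genericPoint_eq_of_isOpenImmersion ((b ∣_ W) ≫ W.ι)
  have hcomm : (b ∣_ W) ≫ W.ι = (b ⁻¹ᵁ W).ι ≫ b := morphismRestrict_ι b W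
  have hgen : b (genericPoint X) = genericPoint Y := by
    rw [← h1, ← Scheme.Hom.comp_apply, ← hcomm]; exact h2
  have hmemW : genericPoint Y ∈ W := by
    rw [← h2, Scheme.Hom.comp_apply]
    exact ((b ∣_ W) (genericPoint ((b ⁻¹ᵁ W : X.Opens) : Scheme.{u}))).2
  have hns : b (genericPoint X) ∉ I.support := by
    rw [hgen]; exact hWs _ hmemW
  haveI hst : IsIso (b.stalkMap (genericPoint X)) :=
    isIso_stalkMap_of_isBlowUp hb (genericPoint X) hns
  refine ⟨hXint, hgen, (b.residueFieldMap (genericPoint X)).hom.injective, ?_⟩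
  intro z
  obtain ⟨t, rfl⟩ := X.residue_surjective (genericPoint X) z
  obtain ⟨t', rfl⟩ := (ConcreteCategory.bijective_of_isIso (b.stalkMap (genericPoint X))).2 t
  refine ⟨Y.residue (b (genericPoint X)) t', ?_⟩
  exact congrArg (fun k : Y.presheaf.stalk (b (genericPoint X)) ⟶
    X.residueField (genericPoint X) => k.hom t')
    (Scheme.residue_residueFieldMap b (genericPoint X))

theorem main2348 [IsIntegral Y] (I : Y.IdealSheafData) (hI : I ≠ ⊥) (b : X ⟶ Y)
    (hb : BlowUp.IsBlowUp b I) :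
    ∃ (_ : IsIntegral X), ∃ hgen : b.base (genericPoint X) = genericPoint Y,
      Function.Bijective (b.residueFieldMap (genericPoint X)).hom := by
  have hWdis : Disjoint (I.support : Set Y) ((I.support.compl : Y.Opens) : Set Y) :=
    disjoint_compl_right
  have hWne : ((I.support.compl : Y.Opens) : Set Y).Nonempty := by
    by_contra hcon
    rw [Set.not_nonempty_iff_eq_empty] at hcon
    apply hI
    rw [← Scheme.IdealSheafData.support_eq_top_iff]
    apply TopologicalSpace.Closeds.ext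
    have h1 : ((I.support : Set Y))ᶜ = ∅ := hcon
    rw [Set.compl_empty_iff] at h1
    exact h1
  exact aux2348 I b hb I.support.compl hWdis hWne (dense_preimage_compl I b hb)
    (fun y hy => hy)

end Groth.Agent.Lib.BlowUpIntegralH4
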