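import Mathlib
import Groth.Prelude.Def_BlowUp2
import Groth.Prelude.Def_Curv2
import Groth.Agent.Lib.BlowReg_helper2
import Groth.Agent.Lib.BlowUpIntegral_helper4

/-!
# Blow-up of a two-dimensional regular local ring in its closed point (helper2, S1622)
-/

set_option autoImplicit false
set_option maxHeartbeats 400000
universe u

open AlgebraicGeometry CategoryTheory CategoryTheory.Limits TopologicalSpace Opposite

namespace Groth.Agent.Lib.BlowRegSurf

open Groth.Agent.Lib.BlowReg IsLocalRing

theorem idl_ne_bot (A : Type u) [CommRing A] (I : Ideal A) (hI : I ≠ ⊥) :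
    AffBlH8.idl I ≠ ⊥ := by
  intro h
  apply hI
  have h1 : Scheme.IdealSheafData.equivOfIsAffine.symm
      (I.map (Scheme.ΓSpecIso (CommRingCat.of A)).inv.hom) = ⊥ := h
  rw [map_eq_bot_iff] at h1
  have hinj : Function.Injective (Scheme.ΓSpecIso (CommRingCat.of A)).inv.hom :=
    (ConcreteCategory.bijective_of_isIso (Scheme.ΓSpecIso (CommRingCat.of A)).inv).1
  exact (Ideal.map_eq_bot_iff_of_injective hinj).mp h1

theorem regular_stalks_of_regular_center (A : Type u) [CommRing A] [IsRegularLocalRing A]
    (I : Ideal A) [IsRegularLocalRing (A ⧸ I)]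
    (X : Scheme.{u}) (b : X ⟶ Spec (CommRingCat.of A))
    (hb : BlowUp.IsBlowUp b (AffBlH8.idl I)) (x : X) :
    IsRegularLocalRing (X.presheaf.stalk x) := by
  haveI : IsRegularRing A := Groth.Agent.Lib.NagataCritH3.isRegularRing_of_isRegularLocalRing A
  obtain ⟨rs, hrs, hI⟩ := Groth.Agent.RegularLib.exists_isRegular A I
  haveI : IsRegularRing (A ⧸ I) :=
    Groth.Agent.Lib.NagataCritH3.isRegularRing_of_isRegularLocalRing _
  haveI : IsRegularRing (A ⧸ Ideal.ofList rs) :=
    IsRegularRing.of_ringEquiv (Ideal.quotEquivOfEq hI.symm)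
  have hb' : BlowUp.IsBlowUp b (AffBlH8.idl (Ideal.ofList rs)) := by rw [hI]; exact hb
  exact stalk_of_isBlowUp_affine (fun R _ => IsRegularLocalRing R)
    (fun R R' _ _ e h => by haveI := h; exact IsRegularLocalRing.of_ringEquiv e) rs b hb'
    (fun a ha q _ => isRegularLocalRing_affineAlgebra_of_mem A rs hrs a ha q) x

theorem main1622 (A : Type u) [CommRing A] [IsRegularLocalRing A] (hA : ringKrullDim A = 2)
    (X : Scheme.{u}) (b : X ⟶ Spec (CommRingCat.of A))
    (hb : BlowUp.IsBlowUp b (Curv2.idealSheaf A (IsLocalRing.maximalIdeal A))) :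
    IrreducibleSpace X ∧ ∀ x : X, IsRegularLocalRing (X.presheaf.stalk x) := by
  haveI : IsDomain A := Groth.Agent.RegularLib.isDomain A
  have hb0 : BlowUp.IsBlowUp b (AffBlH8.idl (maximalIdeal A)) := hb
  constructor
  · have hm : maximalIdeal A ≠ ⊥ := by
      intro h
      have hf : IsField A := IsLocalRing.isField_iff_maximalIdeal_eq.mpr h
      rw [ringKrullDim_eq_zero_of_isField hf] at hA
      exact absurd hA (by norm_num)
    obtain ⟨hint, -⟩ := Groth.Agent.Lib.BlowUpIntegralH4.main2348 _
      (idl_ne_bot A _ hm) b hb0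
    infer_instance
  · haveI : IsRegularLocalRing (A ⧸ maximalIdeal A) := by
      letI := Ideal.Quotient.field (maximalIdeal A)
      infer_instance
    exact regular_stalks_of_regular_center A (maximalIdeal A) X b hb0

end Groth.Agent.Lib.BlowRegSurf
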