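import Mathlib
import Groth.Prelude.Def_BlowUp2
import Groth.Prelude.Def_CurvBase
import Groth.Agent.Lib.BlowBC_helper2
import Groth.Agent.Lib.BlowRegSurf_helper2
import Groth.Agent.Lib.BlowCov1_helper9
import Groth.Agent.Lib.CMInterSch_helper2

/-!
# Multiplicity of the exceptional divisor in the pull-back of a divisor (helper2, S7928)

Blow-up of a two-dimensional regular local ring `A` in its closed point: for `f ∈ 𝔪^μ \ 𝔪^{μ+1}`,
`f · O_X = I' · E^μ` with `I'` the (effective Cartier) strict transform, not containing `E`.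
APPEND-ONLY once landed.
-/

set_option autoImplicit false
set_option maxHeartbeats 400000
universe u

open AlgebraicGeometry CategoryTheory CategoryTheory.Limits TopologicalSpace Opposite

namespace Groth.Agent.Lib.BlowMult

open IsLocalRing Groth.Agent.Lib.BlowPerf

section alg

theorem exists_decomp {A : Type*} [CommRing A] (x y : A) (μ : ℕ) :
    ∀ g ∈ (Ideal.span {x, y} : Ideal A) ^ (μ + 1),
      ∃ g1 ∈ (Ideal.span {x, y} : Ideal A) ^ μ, ∃ c : A, g = x * g1 + c * y ^ (μ + 1) := by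
  induction μ with
  | zero =>
    intro g hg
    rw [zero_add, pow_one, Ideal.mem_span_pair] at hg
    obtain ⟨u, v, rfl⟩ := hg
    refine ⟨u, ?_, v, ?_⟩
    · rw [pow_zero, Ideal.one_eq_top]
      exact Submodule.mem_top
    · ring
  | succ μ ih =>
    intro g hg
    rw [pow_succ'] at hg
    refine Submodule.mul_induction_on
      (C := fun g => ∃ g1 ∈ (Ideal.span {x, y} : Ideal A) ^ (μ + 1), ∃ c : A,
        g = x * g1 + c * y ^ (μ + 1 + 1)) hg ?_ ?_
    · intro p hp q hq
      obtain ⟨q1, hq1, c, rfl⟩ := ih q hq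
      obtain ⟨u, v, rfl⟩ := Ideal.mem_span_pair.mp hp
      refine ⟨(u * x + v * y) * q1 + u * c * y ^ (μ + 1), ?_, v * c, by ring⟩
      apply Ideal.add_mem
      · rw [pow_succ']
        exact Ideal.mul_mem_mul (Ideal.mem_span_pair.mpr ⟨u, v, rfl⟩) hq1
      · apply Ideal.mul_mem_left
        exact Ideal.pow_mem_pow (Ideal.subset_span (by simp)) _
    · rintro p q ⟨p1, hp1, c, hp⟩ ⟨q1, hq1, d, hq⟩
      exact ⟨p1 + q1, Ideal.add_mem _ hp1 hq1, c + d, by rw [hp, hq]; ring⟩

theorem claim {A : Type*} [CommRing A] [IsLocalRing A] {R : Type*} [CommRing R] (φ : A →+* R)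
    (x y : A) (t : R) (ht : φ y = φ x * t)
    (ρ : R →+* Polynomial (ResidueField A))
    (hρ : ∀ c, ρ (φ c) = Polynomial.C (residue A c)) (hρt : ρ t = Polynomial.X)
    (hm : maximalIdeal A = Ideal.span {x, y}) (μ : ℕ) :
    ∀ g ∈ maximalIdeal A ^ μ, ∃ g' : R, φ g = φ x ^ μ * g' ∧ (ρ g').natDegree ≤ μ ∧
      (ρ g' = 0 → g ∈ maximalIdeal A ^ (μ + 1)) := by
  induction μ with
  | zero =>
    intro g _
    refine ⟨φ g, by rw [pow_zero, one_mul], ?_, ?_⟩
    · rw [hρ]
      exact (Polynomial.natDegree_C _).le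
    · intro h
      rw [hρ, Polynomial.C_eq_zero, residue_eq_zero_iff] at h
      rw [zero_add, pow_one]
      exact h
  | succ μ ih =>
    intro g hg
    rw [hm] at hg
    obtain ⟨g1, hg1, c, rfl⟩ := exists_decomp x y μ g hg
    rw [← hm] at hg1
    obtain ⟨g1', h1, h2, h3⟩ := ih g1 hg1
    have hx : x ∈ maximalIdeal A := by rw [hm]; exact Ideal.subset_span (by simp)
    have hy : y ∈ maximalIdeal A := by rw [hm]; exact Ideal.subset_span (by simp)
    refine ⟨g1' + φ c * t ^ (μ + 1), ?_, ?_, ?_⟩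
    · rw [map_add, map_mul, map_mul, map_pow, h1, ht]
      ring
    · rw [map_add, map_mul, map_pow, hρ, hρt]
      refine (Polynomial.natDegree_add_le _ _).trans (max_le (h2.trans (Nat.le_succ _)) ?_)
      exact Polynomial.natDegree_C_mul_X_pow_le _ _
    · intro h0
      rw [map_add, map_mul, map_pow, hρ, hρt] at h0
      have hc : residue A c = 0 := by
        have h4 := congrArg (fun p => Polynomial.coeff p (μ + 1)) h0
        simp only [Polynomial.coeff_add, Polynomial.coeff_C_mul_X_pow, Polynomial.coeff_zero,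
          if_true] at h4
        rw [Polynomial.coeff_eq_zero_of_natDegree_lt (Nat.lt_succ_of_le h2), zero_add] at h4
        exact h4
      rw [hc, map_zero, zero_mul, add_zero] at h0
      have hg1' := h3 h0
      have hcm : c ∈ maximalIdeal A := (residue_eq_zero_iff c).mp hc
      apply Ideal.add_mem
      · rw [pow_succ' _ (μ + 1)]
        exact Ideal.mul_mem_mul hx hg1'
      · rw [pow_succ' _ (μ + 1)]
        exact Ideal.mul_mem_mul hcm (Ideal.pow_mem_pow hy _)

theorem colon_span_mul {R : Type*} [CommRing R] (d f' : R) (hd : d ∈ nonZeroDivisors R) :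
    (Ideal.span {d * f'} : Ideal R).colon ((Ideal.span {d} : Ideal R) : Set R) =
      Ideal.span {f'} := by
  ext r
  rw [Ideal.mem_colon_span_singleton, Ideal.mem_span_singleton', Ideal.mem_span_singleton']
  constructor
  · rintro ⟨c, hc⟩
    refine ⟨c, ?_⟩
    have h : d * (c * f' - r) = 0 := by linear_combination hc
    exact sub_eq_zero.mp ((mem_nonZeroDivisors_iff.mp hd).1 _ h)
  · rintro ⟨c, rfl⟩
    exact ⟨c, by ring⟩

theorem map_colon_of_isLocalization {R S : Type*} [CommRing R] [CommRing S] [Algebra R S]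
    (M : Submonoid R) [IsLocalization M S] (N P : Ideal R) (hP : P.FG) :
    (N.colon (P : Set R)).map (algebraMap R S) =
      (N.map (algebraMap R S)).colon ((P.map (algebraMap R S) : Ideal S) : Set S) := by
  classical
  apply le_antisymm
  · rw [Ideal.map_le_iff_le_comap]
    intro r hr
    rw [Ideal.mem_comap]
    show algebraMap R S r ∈ (N.map (algebraMap R S)).colon
      ((Ideal.span (algebraMap R S '' (P : Set R)) : Ideal S) : Set S)
    rw [Ideal.colon_span, Submodule.mem_colon]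
    rintro _ ⟨p, hp, rfl⟩
    rw [smul_eq_mul, ← map_mul]
    apply Ideal.mem_map_of_mem
    have := Submodule.mem_colon.mp hr p hp
    rwa [smul_eq_mul] at this
  · intro s hs
    obtain ⟨T, hT⟩ := hP
    obtain ⟨r, m, rfl⟩ := IsLocalization.exists_mk'_eq M s
    rw [IsLocalization.mk'_mem_map_algebraMap_iff M S]
    have hr : algebraMap R S r ∈ (N.map (algebraMap R S)).colon
        ((P.map (algebraMap R S) : Ideal S) : Set S) := IsLocalization.mk'_mem_iff.mp hs
    have key : ∀ T' : Finset R, (∀ p ∈ T', p ∈ P) → ∃ m' ∈ M, ∀ p ∈ T', m' * r * p ∈ N := by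
      intro T'
      induction T' using Finset.induction_on with
      | empty => exact fun _ => ⟨1, M.one_mem, fun p hp => absurd hp (Finset.notMem_empty p)⟩
      | insert p T' hp ih =>
        intro hsub
        obtain ⟨m1, hm1, h1⟩ := ih (fun q hq => hsub q (Finset.mem_insert_of_mem hq))
        have hp' : algebraMap R S (r * p) ∈ N.map (algebraMap R S) := by
          rw [map_mul]
          have := Submodule.mem_colon.mp hr _
            (Ideal.mem_map_of_mem (algebraMap R S) (hsub p (Finset.mem_insert_self _ _)))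
          rwa [smul_eq_mul] at this
        obtain ⟨m2, hm2, h2⟩ :=
          (IsLocalization.algebraMap_mem_map_algebraMap_iff M S N (r * p)).mp hp'
        refine ⟨m1 * m2, M.mul_mem hm1 hm2, ?_⟩
        intro q hq
        rcases Finset.mem_insert.mp hq with rfl | hq
        · have : m1 * m2 * r * q = m1 * (m2 * (r * q)) := by ring
          rw [this]
          exact N.mul_mem_left _ h2
        · have : m1 * m2 * r * q = m2 * (m1 * r * q) := by ring
          rw [this]
          exact N.mul_mem_left _ (h1 q hq)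
    obtain ⟨m', hm', h⟩ := key T (fun p hp => by rw [← hT]; exact Submodule.subset_span hp)
    refine ⟨m', hm', ?_⟩
    rw [← hT]
    show m' * r ∈ N.colon ((Ideal.span (T : Set R) : Ideal R) : Set R)
    rw [Ideal.colon_span, Submodule.mem_colon]
    intro p hp
    rw [smul_eq_mul]
    exact h p hp

theorem ring_chart {A R : Type*} [CommRing A] [CommRing R] [IsDomain R] (φ : A →+* R)
    (hφ : Function.Injective φ) (m : Ideal A) (a : A) (ha : a ∈ m) (ha0 : a ≠ 0)
    (hm : ∀ c ∈ m, ∃ r, φ c = φ a * r) (f : A) (μ : ℕ) (hf : f ∈ m ^ μ) (hf0 : f ≠ 0) :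
    m.map φ = Ideal.span {φ a} ∧ ∃ f' : R, f' ≠ 0 ∧ φ f = φ a ^ μ * f' ∧
      (Ideal.span {φ f} : Ideal R).colon (((m.map φ) ^ μ : Ideal R) : Set R) =
        Ideal.span {f'} := by
  have h1 : m.map φ = Ideal.span {φ a} := by
    apply le_antisymm
    · rw [Ideal.map_le_iff_le_comap]
      intro c hc
      rw [Ideal.mem_comap, Ideal.mem_span_singleton']
      obtain ⟨r, hr⟩ := hm c hc
      exact ⟨r, by rw [hr, mul_comm]⟩
    · rw [Ideal.span_le, Set.singleton_subset_iff]
      exact Ideal.mem_map_of_mem _ ha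
  refine ⟨h1, ?_⟩
  have h2 : φ f ∈ Ideal.span {φ a ^ μ} := by
    rw [← Ideal.span_singleton_pow, ← h1, ← Ideal.map_pow]
    exact Ideal.mem_map_of_mem _ hf
  rw [Ideal.mem_span_singleton'] at h2
  obtain ⟨f', hf'⟩ := h2
  have hφa : φ a ≠ 0 := fun h => ha0 (hφ (by rw [h, map_zero]))
  refine ⟨f', ?_, by rw [← hf', mul_comm], ?_⟩
  · rintro rfl
    rw [zero_mul] at hf'
    exact hf0 (hφ (by rw [← hf', map_zero]))
  · rw [h1, Ideal.span_singleton_pow, ← hf', mul_comm f']
    exact colon_span_mul (φ a ^ μ) f' (mem_nonZeroDivisors_of_ne_zero (pow_ne_zero _ hφa))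

end alg

section sheaf

/-- The colon ideal sheaf `(J : E)` for `E` of finite type. -/
noncomputable def colonSheaf {X : Scheme.{u}} (J E : X.IdealSheafData)
    (hE : ∀ U : X.affineOpens, (E.ideal U).FG) : X.IdealSheafData where
  ideal U := (J.ideal U).colon ((E.ideal U : Ideal Γ(X, U.1)) : Set Γ(X, U.1))
  map_ideal_basicOpen U f := by
    have h1 : (X.presheaf.map (homOfLE (X.basicOpen_le f)).op).hom = algebraMap _ _ := rfl
    have inst := U.2.isLocalization_basicOpen f
    show Ideal.map (X.presheaf.map (homOfLE (X.basicOpen_le f)).op).hom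
      ((J.ideal U).colon ((E.ideal U : Ideal Γ(X, U.1)) : Set Γ(X, U.1))) =
      (J.ideal (X.affineBasicOpen f)).colon
        ((E.ideal (X.affineBasicOpen f) : Ideal _) : Set _)
    rw [← J.map_ideal_basicOpen U f, ← E.map_ideal_basicOpen U f, h1]
    exact map_colon_of_isLocalization (.powers f) _ _ (hE U)

theorem colonSheaf_ideal {X : Scheme.{u}} (J E : X.IdealSheafData)
    (hE : ∀ U : X.affineOpens, (E.ideal U).FG) (U : X.affineOpens) :
    (colonSheaf J E hE).ideal U =
      (J.ideal U).colon ((E.ideal U : Ideal Γ(X, U.1)) : Set Γ(X, U.1)) := rfl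

end sheaf

section chart

theorem exists_rho (A : Type u) [CommRing A] [IsLocalRing A] (x y : A) (I : Ideal A)
    (hI : Ideal.ofList [x, y] = I) (hIm : I ≤ maximalIdeal A)
    (hK : LCI.IsKoszulRegularSeq A [x, y]) (hne : Ideal.ofList [x, y] ≠ ⊤) (hy : y ∈ I) :
    ∃ ρ : ↥(BlowUp.affineAlgebra A I x) →+* Polynomial (ResidueField A),
      (∀ c, ρ (algebraMap A ↥(BlowUp.affineAlgebra A I x) c) = Polynomial.C (residue A c)) ∧
      ρ (AffBlH8.gen I x y hy) = Polynomial.X := by
  subst hI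
  have hbij := theta_bijective A x [y] (Groth.Agent.Lib.BlowBC.hc_of_kreg A x [y] hK hne)
  obtain ⟨ρ00, hρ00⟩ : ∃ ρ00 : MvPolynomial (Fin [y].length) A →+* Polynomial (ResidueField A),
      ρ00 = MvPolynomial.eval₂Hom (Polynomial.C.comp (residue A)) (fun _ => Polynomial.X) :=
    ⟨_, rfl⟩
  have hC : ∀ c, ρ00 (MvPolynomial.C c) = Polynomial.C (residue A c) := by
    intro c
    rw [hρ00, MvPolynomial.eval₂Hom_C]
    rfl
  have hX : ∀ j, ρ00 (MvPolynomial.X j) = Polynomial.X := by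
    intro j
    rw [hρ00, MvPolynomial.eval₂Hom_X']
  have hker : ∀ p ∈ relIdeal A x [y], ρ00 p = 0 := by
    have hle : relIdeal A x [y] ≤ RingHom.ker ρ00 := by
      unfold relIdeal
      rw [Ideal.span_le]
      rintro _ ⟨j, rfl⟩
      rw [SetLike.mem_coe, RingHom.mem_ker]
      unfold rel
      rw [map_sub, map_mul, hC, hC, hX]
      have h1 : residue A x = 0 := (residue_eq_zero_iff x).mpr (hIm (a_mem A x [y]))
      have h2 : residue A ([y].get j) = 0 :=
        (residue_eq_zero_iff _).mpr (hIm (get_mem A x [y] j))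
      rw [h1, h2, map_zero, zero_mul, sub_zero]
    exact fun p hp => hle hp
  obtain ⟨ρ0, hρ0⟩ : ∃ ρ0 : (MvPolynomial (Fin [y].length) A ⧸ relIdeal A x [y]) →+*
      Polynomial (ResidueField A), ∀ p, ρ0 (Ideal.Quotient.mk _ p) = ρ00 p :=
    ⟨Ideal.Quotient.lift (relIdeal A x [y]) ρ00 hker, fun p => Ideal.Quotient.lift_mk _ _ _⟩
  obtain ⟨θe, hθe⟩ : ∃ θe : (MvPolynomial (Fin [y].length) A ⧸ relIdeal A x [y]) ≃+*
      ↥(BlowUp.affineAlgebra A (Ideal.ofList [x, y]) x), ∀ z, θe z = theta A x [y] z :=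
    ⟨RingEquiv.ofBijective (theta A x [y]) hbij, fun _ => rfl⟩
  refine ⟨ρ0.comp θe.symm.toRingHom, ?_, ?_⟩
  · intro c
    have h1 : θe.symm (algebraMap A _ c) =
        Ideal.Quotient.mk (relIdeal A x [y]) (MvPolynomial.C c) := by
      rw [RingEquiv.symm_apply_eq, hθe, theta_mk, theta0_C]
    show ρ0 (θe.symm (algebraMap A _ c)) = _
    rw [h1, hρ0, hC]
  · have h1 : θe.symm (AffBlH8.gen (Ideal.ofList [x, y]) x y hy) =
        Ideal.Quotient.mk (relIdeal A x [y]) (MvPolynomial.X ⟨0, by simp⟩) := by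
      rw [RingEquiv.symm_apply_eq, hθe, theta_mk, theta0_X]
      rfl
    show ρ0 (θe.symm _) = _
    rw [h1, hρ0, hX]

theorem exists_chart_equiv {A : Type u} [CommRing A] (I : Ideal A) (a : A) (ha : a ∈ I)
    {X : Scheme.{u}} (b : X ⟶ Spec (CommRingCat.of A)) (hb : BlowUp.IsBlowUp b (AffBlH8.idl I)) :
    ∃ (U : X.affineOpens) (ψ : Γ(X, U.1) ≃+* ↥(BlowUp.affineAlgebra A I a)),
      U.1 = BlowCov.W I a b ∧
      ∀ c : A, ψ (AffBlH8.phi b U.1 c) = algebraMap A ↥(BlowUp.affineAlgebra A I a) c := by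
  obtain ⟨κ, hκ, hoi, hr⟩ := BlowCov.exists_chart I a b ha hb
  haveI := hoi
  have hU : IsAffineOpen κ.opensRange := isAffineOpen_opensRange κ
  have e : (⊤ : (Spec (CommRingCat.of ↥(BlowUp.affineAlgebra A I a))).Opens) ≤
      κ ⁻¹ᵁ κ.opensRange := fun t _ => ⟨t, rfl⟩
  have hε : Function.Bijective (κ.appLE κ.opensRange ⊤ e).hom :=
    CartH8.bijective_appLE_of_image_eq κ ⊤ κ.opensRange κ.image_top_eq_opensRange e
  have hσ : Function.Bijective (AffBlH8.rho I a (𝟙 _) ⊤) := by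
    unfold AffBlH8.rho
    rw [AffBlH8.appLE_top_top]
    have : Scheme.Hom.appTop (𝟙 (Spec (CommRingCat.of ↥(BlowUp.affineAlgebra A I a)))) = 𝟙 _ :=
      rfl
    rw [this]
    exact (ConcreteCategory.isIso_iff_bijective
      (Scheme.ΓSpecIso (CommRingCat.of ↥(BlowUp.affineAlgebra A I a))).inv).mp inferInstance
  obtain ⟨ε, hεdef⟩ : ∃ ε : Γ(X, κ.opensRange) ≃+*
      Γ(Spec (CommRingCat.of ↥(BlowUp.affineAlgebra A I a)), ⊤),
      ∀ z, ε z = (κ.appLE κ.opensRange ⊤ e).hom z := ⟨RingEquiv.ofBijective _ hε, fun _ => rfl⟩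
  obtain ⟨σ, hσdef⟩ : ∃ σ : ↥(BlowUp.affineAlgebra A I a) ≃+*
      Γ(Spec (CommRingCat.of ↥(BlowUp.affineAlgebra A I a)), ⊤),
      ∀ z, σ z = AffBlH8.rho I a (𝟙 _) ⊤ z := ⟨RingEquiv.ofBijective _ hσ, fun _ => rfl⟩
  refine ⟨⟨κ.opensRange, hU⟩, ε.trans σ.symm, TopologicalSpace.Opens.ext hr, ?_⟩
  intro c
  show σ.symm (ε (AffBlH8.phi b κ.opensRange c)) = _
  rw [RingEquiv.symm_apply_eq, hεdef, hσdef]
  have h1 := AffBlH8.phi_comp κ b κ.opensRange ⊤ e
  rw [hκ] at h1
  have h2 := AffBlH8.rho_comp_algebraMap I a (𝟙 _) ⊤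
  rw [Category.id_comp] at h2
  have h3 := RingHom.congr_fun h1 c
  have h4 := RingHom.congr_fun h2 c
  rw [RingHom.comp_apply] at h3 h4
  rw [← h3, ← h4]

theorem chart_data {A : Type u} [CommRing A] [IsDomain A] (I : Ideal A) (a : A) (ha : a ∈ I)
    (ha0 : a ≠ 0) {X : Scheme.{u}} (b : X ⟶ Spec (CommRingCat.of A))
    (hb : BlowUp.IsBlowUp b (AffBlH8.idl I)) :
    ∃ (U : X.affineOpens) (ψ : Γ(X, U.1) ≃+* ↥(BlowUp.affineAlgebra A I a)),
      U.1 = BlowCov.W I a b ∧
      (∀ c : A, ψ (AffBlH8.phi b U.1 c) = algebraMap A ↥(BlowUp.affineAlgebra A I a) c) ∧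
      IsDomain Γ(X, U.1) ∧ Function.Injective (AffBlH8.phi b U.1) ∧
      ∀ c ∈ I, ∃ r, AffBlH8.phi b U.1 c = AffBlH8.phi b U.1 a * r := by
  obtain ⟨U, ψ, hUW, hψ⟩ := exists_chart_equiv I a ha b hb
  have hpow : Submonoid.powers a ≤ nonZeroDivisors A :=
    powers_le_nonZeroDivisors_of_noZeroDivisors ha0
  haveI : IsDomain (Localization.Away a) :=
    IsLocalization.isDomain_of_le_nonZeroDivisors _ hpow
  haveI : IsDomain ↥(BlowUp.affineAlgebra A I a) := inferInstance
  refine ⟨U, ψ, hUW, hψ, ψ.toMulEquiv.isDomain _, ?_, ?_⟩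
  · intro c c' h
    have h' : algebraMap A ↥(BlowUp.affineAlgebra A I a) c = algebraMap A _ c' := by
      rw [← hψ, ← hψ, h]
    have h'' : algebraMap A (Localization.Away a) c = algebraMap A (Localization.Away a) c' :=
      congrArg Subtype.val h'
    exact IsLocalization.injective (Localization.Away a) hpow h''
  · intro c hc
    refine ⟨ψ.symm (AffBlH8.gen I a c hc), ?_⟩
    apply ψ.injective
    rw [map_mul, hψ, hψ, RingEquiv.apply_symm_apply, AffBlH8.a_mul_gen]

end chart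

section main

theorem chart_sheaf {A : Type u} [CommRing A] (m : Ideal A) (a : A) (ha : a ∈ m) (ha0 : a ≠ 0)
    {X : Scheme.{u}} (b : X ⟶ Spec (CommRingCat.of A)) (E J : X.IdealSheafData) (μ : ℕ)
    (hfgE : ∀ U : X.affineOpens, ((E ^ μ).ideal U).FG)
    (f : A) (hf : f ∈ m ^ μ) (hf0 : f ≠ 0)
    (U : X.affineOpens) [IsDomain Γ(X, U.1)]
    (hinj : Function.Injective (AffBlH8.phi b U.1))
    (hgen : ∀ c ∈ m, ∃ r, AffBlH8.phi b U.1 c = AffBlH8.phi b U.1 a * r)
    (hEU : E.ideal U = m.map (AffBlH8.phi b U.1))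
    (hJU : J.ideal U = Ideal.span {AffBlH8.phi b U.1 f}) :
    ∃ f' : Γ(X, U.1), f' ≠ 0 ∧ AffBlH8.phi b U.1 f = AffBlH8.phi b U.1 a ^ μ * f' ∧
      E.ideal U = Ideal.span {AffBlH8.phi b U.1 a} ∧
      (colonSheaf J (E ^ μ) hfgE).ideal U = Ideal.span {f'} ∧
      J.ideal U = (colonSheaf J (E ^ μ) hfgE * E ^ μ).ideal U := by
  obtain ⟨h1, f', hf'0, hff', hcolon⟩ :=
    ring_chart (AffBlH8.phi b U.1) hinj m a ha ha0 hgen f μ hf hf0
  have hE' : E.ideal U = Ideal.span {AffBlH8.phi b U.1 a} := hEU.trans h1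
  have hI' : (colonSheaf J (E ^ μ) hfgE).ideal U = Ideal.span {f'} := by
    show (J.ideal U).colon ((E.ideal U ^ μ : Ideal Γ(X, U.1)) : Set Γ(X, U.1)) = _
    rw [hJU, hEU]
    exact hcolon
  refine ⟨f', hf'0, hff', hE', hI', ?_⟩
  show J.ideal U = (colonSheaf J (E ^ μ) hfgE).ideal U * E.ideal U ^ μ
  rw [hI', hE', hJU, hff', Ideal.span_singleton_pow, Ideal.span_singleton_mul_span_singleton,
    mul_comm]

theorem core (A : Type u) [CommRing A] [IsRegularLocalRing A] (hA : ringKrullDim A = 2)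
    {X : Scheme.{u}} (b : X ⟶ Spec (CommRingCat.of A))
    (hb : BlowUp.IsBlowUp b (AffBlH8.idl (maximalIdeal A)))
    (f : A) (μ : ℕ) (hf : f ∈ maximalIdeal A ^ μ) (hf' : f ∉ maximalIdeal A ^ (μ + 1)) :
    (AffBlH8.idl (Ideal.span {f})).comap b ≤ ((AffBlH8.idl (maximalIdeal A)).comap b) ^ μ ∧
    ¬ (AffBlH8.idl (Ideal.span {f})).comap b ≤
      ((AffBlH8.idl (maximalIdeal A)).comap b) ^ (μ + 1) ∧
    ∃ I' : X.IdealSheafData, BlowUp.IsEffCartierIdeal I' ∧
      (AffBlH8.idl (Ideal.span {f})).comap b =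
        I' * ((AffBlH8.idl (maximalIdeal A)).comap b) ^ μ ∧
      ¬ ((((AffBlH8.idl (maximalIdeal A)).comap b).support : Set X) ⊆ (I'.support : Set X)) := by
  classical
  haveI : IsDomain A := Groth.Agent.RegularLib.isDomain A
  -- generators of the maximal ideal
  have hfg : (maximalIdeal A).FG := IsNoetherian.noetherian _
  have h2 : (maximalIdeal A).spanFinrank = 2 := by
    have h := Groth.Agent.RegularLib.spanFinrank_eq_dim A
    rw [hA] at h
    exact_mod_cast h
  obtain ⟨x, y, hxy, hgen⟩ :=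
    Set.ncard_eq_two.mp ((Submodule.FG.generators_ncard hfg).trans h2)
  have hm : maximalIdeal A = Ideal.span {x, y} := by
    rw [← hgen]
    exact (Submodule.span_generators (maximalIdeal A)).symm
  have hlist : Ideal.ofList [x, y] = maximalIdeal A := by
    rw [hm]
    show Ideal.span {r | r ∈ [x, y]} = Ideal.span {x, y}
    congr 1
    ext r
    simp
  have hreg := Groth.Agent.RegularLib.isRegular_of_ofList_eq A [x, y] hlist (by rw [h2]; rfl)
  have hK : LCI.IsKoszulRegularSeq A [x, y] :=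
    (Groth.Agent.Lib.KoszulTopH7.koszulRegular _ hreg.toIsWeaklyRegular).1
  have hne : Ideal.ofList [x, y] ≠ ⊤ := by
    rw [hlist]
    exact (maximalIdeal.isMaximal A).ne_top
  have hx : x ∈ maximalIdeal A := by rw [hm]; exact Ideal.subset_span (by simp)
  have hy : y ∈ maximalIdeal A := by rw [hm]; exact Ideal.subset_span (by simp)
  have hx0 : x ≠ 0 := by
    intro h0
    have h1 : maximalIdeal A = Ideal.ofList [y] := by
      rw [hm, h0, Ideal.ofList_singleton, Ideal.span_insert_zero]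
    have h3 := Groth.Agent.RegularLib.spanFinrank_ofList_le [y]
    rw [← h1, h2] at h3
    simp at h3
  have hy0 : y ≠ 0 := by
    intro h0
    have h1 : maximalIdeal A = Ideal.ofList [x] := by
      rw [hm, h0, Ideal.ofList_singleton, Set.pair_comm, Ideal.span_insert_zero]
    have h3 := Groth.Agent.RegularLib.spanFinrank_ofList_le [x]
    rw [← h1, h2] at h3
    simp at h3
  have hf0 : f ≠ 0 := by
    rintro rfl
    exact hf' (Ideal.zero_mem _)
  -- charts
  have hb1 := hb.1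
  obtain ⟨Ux, ψx, hUx, hψx, hdomx, hinjx, hgenx⟩ := chart_data (maximalIdeal A) x hx hx0 b hb
  obtain ⟨Uy, ψy, hUy, hψy, hdomy, hinjy, hgeny⟩ := chart_data (maximalIdeal A) y hy hy0 b hb
  haveI := hdomx
  haveI := hdomy
  have hcov : ∀ p : X, p ∈ Ux.1 ∨ p ∈ Uy.1 := by
    intro p
    obtain ⟨a, haS, hpW⟩ := BlowCov.exists_mem_W (maximalIdeal A) b {x, y} hm.symm hb1 p
    rcases Set.mem_insert_iff.mp haS with h | h
    · left
      rw [hUx, ← h]
      exact hpW
    · right
      rw [hUy, ← Set.mem_singleton_iff.mp h]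
      exact hpW
  -- the residue map on the x-chart
  obtain ⟨ρ, hρc, hρt⟩ := exists_rho A x y (maximalIdeal A) hlist le_rfl hK hne hy
  have hclaim := claim (AffBlH8.phi b Ux.1) x y (ψx.symm (AffBlH8.gen _ x y hy))
    (by
      apply ψx.injective
      rw [map_mul, hψx, hψx, RingEquiv.apply_symm_apply, AffBlH8.a_mul_gen])
    (ρ.comp ψx.toRingHom)
    (by
      intro c
      show ρ (ψx (AffBlH8.phi b Ux.1 c)) = _
      rw [hψx, hρc])
    (by
      show ρ (ψx (ψx.symm _)) = _
      rw [RingEquiv.apply_symm_apply, hρt])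
    hm μ f hf
  have hρx : (ρ.comp ψx.toRingHom) (AffBlH8.phi b Ux.1 x) = 0 := by
    show ρ (ψx (AffBlH8.phi b Ux.1 x)) = _
    rw [hψx, hρc, (residue_eq_zero_iff x).mpr hx, map_zero]
  -- ideal sheaf facts
  have hEU : ∀ U : X.affineOpens, ((AffBlH8.idl (maximalIdeal A)).comap b).ideal U =
      (maximalIdeal A).map (AffBlH8.phi b U.1) := fun U => AffBlH8.comap_idl_ideal _ b U
  have hJU : ∀ U : X.affineOpens, ((AffBlH8.idl (Ideal.span {f})).comap b).ideal U =
      Ideal.span {AffBlH8.phi b U.1 f} := fun U => by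
    rw [AffBlH8.comap_idl_ideal, Ideal.map_span, Set.image_singleton]
  generalize (AffBlH8.idl (maximalIdeal A)).comap b = E at hEU hb1 ⊢
  generalize (AffBlH8.idl (Ideal.span {f})).comap b = J at hJU ⊢
  have hfgE : ∀ U : X.affineOpens, ((E ^ μ).ideal U).FG := by
    intro U
    show (E.ideal U ^ μ).FG
    rw [hEU]
    exact Ideal.FG.pow (hfg.map _)
  obtain ⟨fx, hfx0, hffx, hEx, hIx, hJx⟩ := chart_sheaf (maximalIdeal A) x hx hx0 b E J μ hfgE f hf
    hf0 Ux hinjx hgenx (hEU Ux) (hJU Ux)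
  obtain ⟨fy, hfy0, hffy, hEy, hIy, hJy⟩ := chart_sheaf (maximalIdeal A) y hy hy0 b E J μ hfgE f hf
    hf0 Uy hinjy hgeny (hEU Uy) (hJU Uy)
  have hφx0 : AffBlH8.phi b Ux.1 x ≠ 0 := fun h => hx0 (hinjx (by rw [h, map_zero]))
  -- the strict transform does not vanish along the exceptional divisor
  have hρf : (ρ.comp ψx.toRingHom) fx ≠ 0 := by
    obtain ⟨g', hg1, -, hg3⟩ := hclaim
    have : fx = g' := by
      apply mul_left_cancel₀ (pow_ne_zero μ hφx0)
      rw [← hffx, ← hg1]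
    rw [this]
    exact fun h => hf' (hg3 h)
  refine ⟨?_, ?_, colonSheaf J (E ^ μ) hfgE, ?_, ?_, ?_⟩
  · -- J ≤ E ^ μ
    intro U
    show J.ideal U ≤ E.ideal U ^ μ
    rw [hJU, hEU, ← Ideal.map_pow, Ideal.span_le, Set.singleton_subset_iff]
    exact Ideal.mem_map_of_mem _ hf
  · -- ¬ J ≤ E ^ (μ + 1)
    intro hle
    have h : J.ideal Ux ≤ E.ideal Ux ^ (μ + 1) := hle Ux
    rw [hJU, hEx, Ideal.span_singleton_pow, Ideal.span_le, Set.singleton_subset_iff,
      SetLike.mem_coe, Ideal.mem_span_singleton'] at h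
    obtain ⟨c, hc⟩ := h
    have h3 : fx = c * AffBlH8.phi b Ux.1 x := by
      apply mul_left_cancel₀ (pow_ne_zero μ hφx0)
      rw [← hffx, ← hc]
      ring
    apply hρf
    rw [h3, map_mul, hρx, mul_zero]
  · -- effective Cartier
    intro p
    rcases hcov p with hp | hp
    · exact ⟨Ux, hp, fx, mem_nonZeroDivisors_of_ne_zero hfx0, hIx⟩
    · exact ⟨Uy, hp, fy, mem_nonZeroDivisors_of_ne_zero hfy0, hIy⟩
  · -- J = I' * E ^ μ
    refine Scheme.IdealSheafData.ext_of_iSup_eq_top (fun i : Bool => cond i Ux Uy) ?_ ?_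
    · rw [eq_top_iff]
      intro p _
      rw [TopologicalSpace.Opens.mem_iSup]
      rcases hcov p with hp | hp
      · exact ⟨true, hp⟩
      · exact ⟨false, hp⟩
    · rintro (_ | _)
      · exact hJy
      · exact hJx
  · -- the support
    obtain ⟨P, hPdef⟩ : ∃ P : Ideal Γ(X, Ux.1), P = RingHom.ker (ρ.comp ψx.toRingHom) :=
      ⟨_, rfl⟩
    have hPprime : P.IsPrime := by
      rw [hPdef]
      exact RingHom.ker_isPrime _
    obtain ⟨q, hq⟩ : ∃ q : PrimeSpectrum Γ(X, Ux.1), q.asIdeal = P := ⟨⟨P, hPprime⟩, rfl⟩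
    have hpU : Ux.2.fromSpec q ∈ Ux.1 := Groth.Agent.Lib.CMInterSch.fromSpec_mem Ux.2 q
    have hz : ∀ s : Set Γ(X, Ux.1),
        Ux.2.fromSpec q ∈ X.zeroLocus (U := Ux.1) s ↔ s ⊆ P := by
      intro s
      have h := Set.ext_iff.mp (Ux.2.fromSpec_preimage_zeroLocus s) q
      rw [← hq]
      exact h
    intro hsub
    have h1 : Ux.2.fromSpec q ∈ E.support := by
      rw [Scheme.IdealSheafData.mem_support_iff_of_mem hpU, hz, hEx]
      apply SetLike.coe_subset_coe.mpr
      rw [Ideal.span_le, Set.singleton_subset_iff, SetLike.mem_coe, hPdef, RingHom.mem_ker]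
      exact hρx
    have h4 : Ux.2.fromSpec q ∈ (colonSheaf J (E ^ μ) hfgE).support := hsub h1
    rw [Scheme.IdealSheafData.mem_support_iff_of_mem hpU, hz, hIx] at h4
    have h5 : fx ∈ P := h4 (Ideal.subset_span rfl)
    rw [hPdef, RingHom.mem_ker] at h5
    exact hρf h5

theorem main7928 (A : Type u) [CommRing A] [IsRegularLocalRing A] (hA : ringKrullDim A = 2)
    {X : Scheme.{u}} (b : X ⟶ Spec (CommRingCat.of A))
    (hb : BlowUp.IsBlowUp b (Curv2.idealSheaf A (IsLocalRing.maximalIdeal A)))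
    (f : A) (μ : ℕ) (hf : f ∈ IsLocalRing.maximalIdeal A ^ μ)
    (hf' : f ∉ IsLocalRing.maximalIdeal A ^ (μ + 1)) :
    (Curv2.idealSheaf A (Ideal.span {f})).comap b ≤
        BlowUp.exceptional b (Curv2.idealSheaf A (IsLocalRing.maximalIdeal A)) ^ μ ∧
      ¬ (Curv2.idealSheaf A (Ideal.span {f})).comap b ≤
        BlowUp.exceptional b (Curv2.idealSheaf A (IsLocalRing.maximalIdeal A)) ^ (μ + 1) ∧
      ∃ I' : X.IdealSheafData, BlowUp.IsEffCartierIdeal I' ∧
        (Curv2.idealSheaf A (Ideal.span {f})).comap b =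
          I' * BlowUp.exceptional b (Curv2.idealSheaf A (IsLocalRing.maximalIdeal A)) ^ μ ∧
        ¬ ((BlowUp.exceptional b (Curv2.idealSheaf A (IsLocalRing.maximalIdeal A))).support :
            Set X) ⊆ (I'.support : Set X) :=
  core A hA b hb f μ hf hf'

end main

end Groth.Agent.Lib.BlowMult
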