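import Mathlib
import Groth.Prelude.Def_CAlgX
import Groth.Agent.Lib.QuasiReg_helper5

/-!
# An `H_1`-regular sequence is quasi-regular (helper1)
-/

set_option autoImplicit false
set_option maxHeartbeats 1000000

universe u

namespace Groth.Agent.Lib.H1QRegH1

open MvPolynomial Groth.Agent.QuasiReg

variable {R : Type u} [CommRing R] {c : ℕ}

/-- the trivial relations -/
def trivSet {S : Type*} [CommRing S] (g : Fin c → S) : Set (Fin c → S) :=
  {v | ∃ i j : Fin c, v = Pi.single i (g j) - Pi.single j (g i)}

theorem isH1Regular_iff {S : Type u} [CommRing S] (g : Fin c → S) :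
    CAlgX.IsH1Regular g ↔ ∀ a : Fin c → S, ∑ i, a i * g i = 0 →
      a ∈ Submodule.span S (trivSet g) := Iff.rfl

/-- Part 1: base change to a polynomial ring. -/
theorem h1_poly (f : Fin c → R) (hf : CAlgX.IsH1Regular f) :
    CAlgX.IsH1Regular (fun i => (C (f i) : MvPolynomial (Fin c) R)) := by
  classical
  rw [isH1Regular_iff]
  intro a' ha'
  -- constants from trivial relations
  have hC : ∀ v : Fin c → R, v ∈ Submodule.span R (trivSet f) →
      (fun k => (C (v k) : MvPolynomial (Fin c) R)) ∈
        Submodule.span (MvPolynomial (Fin c) R)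
          (trivSet fun i => (C (f i) : MvPolynomial (Fin c) R)) := by
    intro v hv
    induction hv using Submodule.span_induction with
    | mem v hv =>
      obtain ⟨i, j, rfl⟩ := hv
      refine Submodule.subset_span ⟨i, j, ?_⟩
      funext k
      simp only [Pi.sub_apply, Pi.single_apply]
      split_ifs <;> simp
    | zero =>
      have : (fun k => (C ((0 : Fin c → R) k) : MvPolynomial (Fin c) R)) = 0 := by
        funext k; simp
      rw [this]; exact Submodule.zero_mem _
    | add u v _ _ hu hv =>
      have : (fun k => (C ((u + v) k) : MvPolynomial (Fin c) R)) =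
          (fun k => (C (u k) : MvPolynomial (Fin c) R)) + fun k => C (v k) := by
        funext k; simp
      rw [this]; exact Submodule.add_mem _ hu hv
    | smul b u _ hu =>
      have : (fun k => (C ((b • u) k) : MvPolynomial (Fin c) R)) =
          (C b : MvPolynomial (Fin c) R) • fun k => (C (u k) : MvPolynomial (Fin c) R) := by
        funext k; simp
      rw [this]; exact Submodule.smul_mem _ _ hu
  -- coefficientwise relations
  have hm : ∀ m : Fin c →₀ ℕ, (fun k => coeff m (a' k)) ∈ Submodule.span R (trivSet f) := by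
    intro m
    apply hf
    have h1 := congrArg (coeff m) ha'
    rw [coeff_sum, coeff_zero] at h1
    rw [← h1]
    refine Finset.sum_congr rfl fun k _ => ?_
    rw [mul_comm (a' k), coeff_C_mul, mul_comm]
  let s : Finset (Fin c →₀ ℕ) := Finset.univ.biUnion fun k => (a' k).support
  have hsum : a' = ∑ m ∈ s, (monomial m (1 : R) : MvPolynomial (Fin c) R) •
      fun k => (C (coeff m (a' k)) : MvPolynomial (Fin c) R) := by
    funext k
    rw [Finset.sum_apply]
    have h2 : ∀ m ∈ s, ((monomial m (1 : R) : MvPolynomial (Fin c) R) •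
        fun k => (C (coeff m (a' k)) : MvPolynomial (Fin c) R)) k =
        monomial m (coeff m (a' k)) := by
      intro m _
      rw [Pi.smul_apply, smul_eq_mul, mul_comm, C_mul_monomial, mul_one]
    rw [Finset.sum_congr rfl h2]
    have hsub : (a' k).support ⊆ s := by
      intro m hm
      exact Finset.mem_biUnion.2 ⟨k, Finset.mem_univ k, hm⟩
    rw [← Finset.sum_subset hsub, support_sum_monomial_coeff]
    intro m _ hm
    rw [notMem_support_iff.1 hm, monomial_zero]
  rw [hsum]
  exact Submodule.sum_mem _ fun m _ => Submodule.smul_mem _ _ (hC _ (hm m))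

section key

variable (f : Fin c → R) (i0 : Fin c)

/-- the polynomial ring in the auxiliary variables -/
abbrev SS (R : Type u) [CommRing R] (c : ℕ) := MvPolynomial (Fin c) R

/-- dehomogenising variables -/
noncomputable def yt : Fin c → SS R c := fun k => if k = i0 then 1 else X k

noncomputable def fc : Fin c → SS R c := fun k => C (f k)

/-- generators of the auxiliary ideal -/
noncomputable def gq : Fin c → SS R c := fun k => fc f k - yt i0 k * fc f i0

noncomputable def Iq : Ideal (SS R c) := Ideal.span (Set.range (gq f i0))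

theorem yt_i0 : yt (R := R) i0 i0 = 1 := by unfold yt; rw [if_pos rfl]

theorem gq_mem (k : Fin c) : gq f i0 k ∈ Iq f i0 := Ideal.subset_span ⟨k, rfl⟩

/-- Part 2 -/
theorem key_Q (hf : CAlgX.IsH1Regular f) (t : SS R c) (b : Fin c → SS R c)
    (h : t * fc f i0 + ∑ k, b k * gq f i0 k = 0) : t ∈ Iq f i0 := by
  classical
  have hfc : CAlgX.IsH1Regular (fc f) := h1_poly f hf
  rw [isH1Regular_iff] at hfc
  let a'' : Fin c → SS R c := b + Pi.single i0 (t - ∑ l, yt i0 l * b l)
  have hrel : ∑ k, a'' k * fc f k = 0 := by
    have h1 : ∑ k, a'' k * fc f k =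
        ∑ k, b k * fc f k + (t - ∑ l, yt i0 l * b l) * fc f i0 := by
      simp only [a'', Pi.add_apply, add_mul, Finset.sum_add_distrib]
      congr 1
      rw [Finset.sum_eq_single i0]
      · rw [Pi.single_eq_same]
      · intro k _ hk
        rw [Pi.single_eq_of_ne hk, zero_mul]
      · intro hk; exact absurd (Finset.mem_univ i0) hk
    rw [h1, ← h]
    simp only [gq, mul_sub, Finset.sum_sub_distrib, sub_mul, Finset.sum_mul]
    have : ∑ k, b k * (yt i0 k * fc f i0) = ∑ k, yt i0 k * b k * fc f i0 :=
      Finset.sum_congr rfl fun k _ => by ring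
    rw [this]
    ring
  have hmem := hfc a'' hrel
  let ℓ : (Fin c → SS R c) →ₗ[SS R c] SS R c := Fintype.linearCombination (SS R c) (yt i0)
  have hℓ : ∀ v, ℓ v = ∑ k, v k * yt i0 k := by
    intro v
    simp [ℓ, Fintype.linearCombination_apply]
  have hle : Submodule.span (SS R c) (trivSet (fc f)) ≤ Submodule.comap ℓ (Iq f i0) := by
    rw [Submodule.span_le]
    rintro v ⟨i, j, rfl⟩
    rw [SetLike.mem_coe, Submodule.mem_comap, hℓ]
    have h1 : ∑ k, (Pi.single i (fc f j) - Pi.single j (fc f i) : Fin c → SS R c) k * yt i0 k =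
        fc f j * yt i0 i - fc f i * yt i0 j := by
      simp only [Pi.sub_apply, sub_mul, Finset.sum_sub_distrib]
      congr 1
      · rw [Finset.sum_eq_single i]
        · rw [Pi.single_eq_same]
        · intro k _ hk
          rw [Pi.single_eq_of_ne hk, zero_mul]
        · intro hk; exact absurd (Finset.mem_univ i) hk
      · rw [Finset.sum_eq_single j]
        · rw [Pi.single_eq_same]
        · intro k _ hk
          rw [Pi.single_eq_of_ne hk, zero_mul]
        · intro hk; exact absurd (Finset.mem_univ j) hk
    rw [h1]
    have h2 : fc f j * yt i0 i - fc f i * yt i0 j =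
        yt i0 i * gq f i0 j - yt i0 j * gq f i0 i := by
      simp only [gq]; ring
    rw [h2]
    exact Ideal.sub_mem _ (Ideal.mul_mem_left _ _ (gq_mem f i0 j))
      (Ideal.mul_mem_left _ _ (gq_mem f i0 i))
  have h3 := hle hmem
  rw [Submodule.mem_comap, hℓ] at h3
  have h4 : ∑ k, a'' k * yt i0 k = t := by
    simp only [a'', Pi.add_apply, add_mul, Finset.sum_add_distrib]
    rw [Finset.sum_eq_single i0 (s := Finset.univ)
      (f := fun k => (Pi.single i0 (t - ∑ l, yt i0 l * b l) : Fin c → SS R c) k * yt i0 k)]
    · rw [Pi.single_eq_same, yt_i0, mul_one]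
      have : ∑ k, b k * yt i0 k = ∑ l, yt i0 l * b l :=
        Finset.sum_congr rfl fun k _ => mul_comm _ _
      rw [this]; ring
    · intro k _ hk
      rw [Pi.single_eq_of_ne hk, zero_mul]
    · intro hk; exact absurd (Finset.mem_univ i0) hk
  rw [h4] at h3
  exact h3

/-- Part 3: the power lemma -/
theorem key_pow (hf : CAlgX.IsH1Regular f) :
    ∀ (n : ℕ) (t : SS R c), t * fc f i0 ^ n ∈ Iq f i0 → t ∈ Iq f i0 := by
  intro n
  induction n with
  | zero =>
    intro t ht
    rwa [pow_zero, mul_one] at ht
  | succ n ih =>
    intro t ht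
    apply ih
    rw [pow_succ, ← mul_assoc] at ht
    obtain ⟨b, hb⟩ := Ideal.mem_span_range_iff_exists_fun.1 ht
    apply key_Q f i0 hf (t * fc f i0 ^ n) (fun k => -b k)
    rw [← hb]
    simp

end key

/-- homogeneity of evaluation -/
theorem eval_mul_right_of_isHomogeneous {S : Type*} [CommRing S] {n : ℕ}
    (P : MvPolynomial (Fin c) S) (hP : P.IsHomogeneous n) (v : Fin c → S) (t : S) :
    eval (fun k => v k * t) P = t ^ n * eval v P := by
  rw [eval_eq', eval_eq', Finset.mul_sum]
  refine Finset.sum_congr rfl fun d hd => ?_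
  have hdeg : ∑ k, d k = n := by
    rw [← Finsupp.degree_eq_sum]
    rw [Finsupp.degree_apply]
    exact (hP.degree_eq_sum_deg_support hd).symm
  have : ∏ k, (v k * t) ^ d k = (∏ k, v k ^ d k) * t ^ n := by
    simp only [mul_pow, Finset.prod_mul_distrib]
    rw [Finset.prod_pow_eq_pow_sum, hdeg]
  rw [this]
  ring

/-- congruence of evaluation modulo an ideal -/
theorem eval_sub_mem {S : Type*} [CommRing S] (I : Ideal S) (P : MvPolynomial (Fin c) S)
    (u w : Fin c → S) (h : ∀ k, u k - w k ∈ I) : eval u P - eval w P ∈ I := by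
  rw [← Ideal.Quotient.eq]
  have h1 : ∀ x : Fin c → S, Ideal.Quotient.mk I (eval x P) =
      eval₂ (Ideal.Quotient.mk I) (Ideal.Quotient.mk I ∘ x) P := by
    intro x
    have := eval₂_comp_left (Ideal.Quotient.mk I) (RingHom.id S) x P
    rw [RingHom.comp_id] at this
    exact this
  rw [h1, h1]
  congr 1
  funext k
  exact Ideal.Quotient.eq.2 (h k)

/-- S2103 -/
theorem main2103 (f : Fin c → R) (hf : CAlgX.IsH1Regular f) : CAlgX.IsQuasiRegular f := by
  classical
  rw [isQuasiRegular_iff]
  apply ZForm.qr
  intro n P hP hev d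
  rcases Nat.eq_zero_or_pos c with hc | hc
  · subst hc
    have h1 : P = C (coeff 0 P) := eq_C_of_isEmpty P
    rw [h1, eval_C] at hev
    have h2 : P = 0 := by rw [h1, hev, C_0]
    rw [h2, coeff_zero]
    exact Submodule.zero_mem _
  · let i0 : Fin c := ⟨0, hc⟩
    by_cases hdn : d.degree = n
    swap
    · rw [hP.coeff_eq_zero hdn]; exact Submodule.zero_mem _
    -- the evaluated polynomial
    let E : SS R c := eval (yt i0) (map C P)
    have hPh : (map (C : R →+* SS R c) P).IsHomogeneous n := hP.map C
    have hE : E ∈ Iq f i0 := by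
      apply key_pow f i0 hf n
      have h1 : eval (fc f) (map (C : R →+* SS R c) P) = 0 := by
        rw [eval_map]
        have := eval₂_comp_left (C : R →+* SS R c) (RingHom.id R) f P
        rw [RingHom.comp_id] at this
        have h0 : eval₂ (RingHom.id R) f P = eval f P := rfl
        rw [h0, hev, map_zero] at this
        exact this.symm
      have h2 := eval_sub_mem (Iq f i0) (map (C : R →+* SS R c) P) (fc f)
        (fun k => yt i0 k * fc f i0) (fun k => gq_mem f i0 k)
      rw [h1, zero_sub, eval_mul_right_of_isHomogeneous _ hPh] at h2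
      have h3 := Ideal.neg_mem_iff (Iq f i0) |>.1 h2
      rw [mul_comm] at h3
      exact h3
    -- `Iq ≤ map C J`
    have hIq : Iq f i0 ≤ Ideal.map (C : R →+* SS R c) (Ideal.span (Set.range f)) := by
      unfold Iq
      rw [Ideal.span_le]
      rintro _ ⟨k, rfl⟩
      have hk : ∀ k, fc f k ∈ Ideal.map (C : R →+* SS R c) (Ideal.span (Set.range f)) :=
        fun k => Ideal.mem_map_of_mem _ (Ideal.subset_span ⟨k, rfl⟩)
      exact Ideal.sub_mem _ (hk k) (Ideal.mul_mem_left _ _ (hk i0))
    have hcoef := mem_map_C_iff.1 (hIq hE) (Finsupp.erase i0 d)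
    -- compute the coefficient
    have hEsum : E = ∑ e ∈ P.support, monomial (Finsupp.erase i0 e) (coeff e P) := by
      show eval (yt i0) (map C P) = _
      rw [eval_map, eval₂_eq']
      refine Finset.sum_congr rfl fun e _ => ?_
      have hprod : ∏ k, yt (R := R) i0 k ^ e k = monomial (Finsupp.erase i0 e) 1 := by
        rw [monomial_eq, C_1, one_mul, Finsupp.prod_fintype _ _ (fun i => pow_zero _)]
        refine Finset.prod_congr rfl fun k _ => ?_
        unfold yt
        by_cases hk : k = i0
        · subst hk
          rw [if_pos rfl, one_pow, Finsupp.erase_same, pow_zero]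
        · rw [if_neg hk, Finsupp.erase_ne hk]
      rw [hprod, C_mul_monomial, mul_one]
    rw [hEsum, coeff_sum] at hcoef
    have hterm : ∀ e ∈ P.support, coeff (Finsupp.erase i0 d)
        (monomial (Finsupp.erase i0 e) (coeff e P) : SS R c) = if e = d then coeff e P else 0 := by
      intro e he
      rw [coeff_monomial]
      have hen : ∑ k, e k = n := by
        rw [← Finsupp.degree_eq_sum, Finsupp.degree_apply]
        exact (hP.degree_eq_sum_deg_support he).symm
      have hdn' : ∑ k, d k = n := by rw [← Finsupp.degree_eq_sum]; exact hdn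
      by_cases hed : e = d
      · rw [if_pos hed, if_pos (by rw [hed])]
      · rw [if_neg hed, if_neg]
        intro her
        apply hed
        ext k
        by_cases hk : k = i0
        · subst hk
          have h1 : ∀ g : Fin c →₀ ℕ, ∑ k, g k = g i0 + ∑ k ∈ Finset.univ.erase i0, g k :=
            fun g => (Finset.add_sum_erase _ _ (Finset.mem_univ i0)).symm
          have h2 : ∑ k ∈ Finset.univ.erase i0, e k = ∑ k ∈ Finset.univ.erase i0, d k := by
            refine Finset.sum_congr rfl fun k hk => ?_
            have hk' : k ≠ i0 := Finset.ne_of_mem_erase hk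
            have := congrArg (fun g : Fin c →₀ ℕ => g k) her
            simp only [Finsupp.erase_ne hk'] at this
            exact this
          have := h1 e
          have := h1 d
          omega
        · have := congrArg (fun g : Fin c →₀ ℕ => g k) her
          simp only [Finsupp.erase_ne hk] at this
          exact this
    rw [Finset.sum_congr rfl hterm, Finset.sum_ite_eq'] at hcoef
    by_cases hd : d ∈ P.support
    · rwa [if_pos hd] at hcoef
    · rw [notMem_support_iff.1 hd]; exact Submodule.zero_mem _

end Groth.Agent.Lib.H1QRegH1
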