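import Mathlib
import Groth.Prelude.Def_RegImm
import Groth.Agent.Lib.KoszulLow_helper2
import Groth.Agent.Lib.KoszulTop_helper7
import Groth.Agent.Lib.H1QReg_helper1

/-!
# Implications between the kinds of regular sequences / immersions.
-/

set_option autoImplicit false
universe u
open CategoryTheory AlgebraicGeometry

namespace Groth.Agent.Lib.RegImmKinds

theorem seq_regular_koszul (R : Type u) [CommRing R] (rs : List R)
    (h : RegImm.Kind.Seq .regular R rs) : RegImm.Kind.Seq .koszul R rs :=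
  (Groth.Agent.Lib.KoszulTopH7.koszulRegular rs
    (RingTheory.Sequence.IsRegular.toIsWeaklyRegular h)).1

theorem seq_koszul_h1 (R : Type u) [CommRing R] (rs : List R)
    (h : RegImm.Kind.Seq .koszul R rs) : RegImm.Kind.Seq .h1 R rs :=
  Groth.Agent.Lib.KoszulLow.h1_of_koszulRegular rs h

theorem seq_h1_quasi (R : Type u) [CommRing R] (rs : List R)
    (h : RegImm.Kind.Seq .h1 R rs) : RegImm.Kind.Seq .quasi R rs :=
  Groth.Agent.Lib.H1QRegH1.main2103 rs.get h

theorem isRegularImmersion_mono (k k' : RegImm.Kind)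
    (hkk : ∀ (R : Type u) [CommRing R] (rs : List R), k.Seq R rs → k'.Seq R rs)
    {Z X : Scheme.{u}} (i : Z ⟶ X) (h : RegImm.IsRegularImmersion k i) :
    RegImm.IsRegularImmersion k' i := by
  refine ⟨h.1, fun z => ?_⟩
  obtain ⟨U, hz, hcl, rs, hrs, hker⟩ := h.2 z
  exact ⟨U, hz, hcl, rs, hkk _ rs hrs, hker⟩

theorem regular_koszul {Z X : Scheme.{u}} (i : Z ⟶ X)
    (h : RegImm.IsRegularImmersion .regular i) : RegImm.IsRegularImmersion .koszul i :=
  isRegularImmersion_mono _ _ (fun R _ rs => seq_regular_koszul R rs) i h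

theorem koszul_h1 {Z X : Scheme.{u}} (i : Z ⟶ X)
    (h : RegImm.IsRegularImmersion .koszul i) : RegImm.IsRegularImmersion .h1 i :=
  isRegularImmersion_mono _ _ (fun R _ rs => seq_koszul_h1 R rs) i h

theorem h1_quasi {Z X : Scheme.{u}} (i : Z ⟶ X)
    (h : RegImm.IsRegularImmersion .h1 i) : RegImm.IsRegularImmersion .quasi i :=
  isRegularImmersion_mono _ _ (fun R _ rs => seq_h1_quasi R rs) i h

end Groth.Agent.Lib.RegImmKinds
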