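import Mathlib
import Groth.Prelude.Def_RegImm
import Groth.Agent.Lib.LCILocal_helper2
import Groth.Agent.Lib.KoszulLow_helper2
import Groth.Agent.Lib.H1QReg_helper1
import Groth.Agent.Lib.SyntTA3_helper2

/-!
# The conormal module of a syntomic localisation is finite projective (helper2): S9151.

* `LFD h m`: "local freeness data": the family `m` becomes a basis after inverting `h`;
* `lfd_localized`: local freeness data pass to localisations;
* `free_away_of_lfd`, `finite_projective_of_lfd`;
* `lfd_cotangent`: if `I` becomes generated by a quasi-regular sequence in `P_h` then `I/I²` has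
  local freeness data for `h`;
* `main9151`.
APPEND-ONLY once landed.
-/

set_option autoImplicit false
universe u

namespace Groth.Agent.Lib.SyntConormal

section lfd

variable {S : Type u} [CommRing S] {M : Type u} [AddCommGroup M] [Module S M]

/-- local freeness data: the family `m` becomes a basis of `M` after inverting `h`. -/
def LFD (h : S) {c : ℕ} (m : Fin c → M) : Prop :=
  (∀ x : M, ∃ K : ℕ, h ^ K • x ∈ Submodule.span S (Set.range m)) ∧
  (∀ a : Fin c → S, ∑ i, a i • m i = 0 → ∀ i, ∃ K : ℕ, h ^ K * a i = 0)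

theorem map_mem_span {A : Type u} [CommRing A] [Algebra S A] {N : Type u} [AddCommGroup N]
    [Module S N] [Module A N] [IsScalarTower S A N] (f : M →ₗ[S] N) {c : ℕ} (m : Fin c → M)
    (z : M) (hz : z ∈ Submodule.span S (Set.range m)) :
    f z ∈ Submodule.span A (Set.range (fun i => f (m i))) := by
  induction hz using Submodule.span_induction with
  | mem x hx =>
    obtain ⟨i, rfl⟩ := hx
    exact Submodule.subset_span ⟨i, rfl⟩
  | zero =>
    rw [map_zero]
    exact Submodule.zero_mem _
  | add x y _ _ hx hy =>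
    rw [map_add]
    exact Submodule.add_mem _ hx hy
  | smul a x _ hx =>
    rw [map_smul, ← algebraMap_smul A a (f x)]
    exact Submodule.smul_mem _ _ hx

theorem free_of_lfd_unit {A : Type u} [CommRing A] {N : Type u} [AddCommGroup N] [Module A N]
    (r : A) (hr : IsUnit r) {c : ℕ} (m : Fin c → N) (H : LFD r m) :
    Module.Free A N ∧ Module.Finite A N := by
  have hli : LinearIndependent A m := by
    rw [Fintype.linearIndependent_iff]
    intro a ha i
    obtain ⟨K, hK⟩ := H.2 a ha i
    exact (hr.pow K).mul_right_eq_zero.mp hK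
  have hsp : ⊤ ≤ Submodule.span A (Set.range m) := by
    intro x _
    obtain ⟨K, hK⟩ := H.1 x
    exact (Submodule.smul_mem_iff_of_isUnit _ (hr.pow K)).mp hK
  let b := Module.Basis.mk hli hsp
  exact ⟨Module.Free.of_basis b, Module.Finite.of_basis b⟩

theorem lfd_localized (W : Submonoid S) (A : Type u) [CommRing A] [Algebra S A]
    [IsLocalization W A] {N : Type u} [AddCommGroup N] [Module S N] [Module A N]
    [IsScalarTower S A N] (f : M →ₗ[S] N) [IsLocalizedModule W f] (h : S) {c : ℕ}
    (m : Fin c → M) (H : LFD h m) :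
    LFD (algebraMap S A h) (fun i => f (m i)) := by
  constructor
  · intro y
    obtain ⟨⟨x, w⟩, hxw⟩ := IsLocalizedModule.surj W f y
    have hxw' : (w : S) • y = f x := hxw
    obtain ⟨K, hK⟩ := H.1 x
    refine ⟨K, ?_⟩
    have h1 := map_mem_span (A := A) f m _ hK
    rw [map_smul, ← hxw'] at h1
    have hu : IsUnit (algebraMap S A w) := IsLocalization.map_units A w
    rw [← Submodule.smul_mem_iff_of_isUnit _ hu]
    have e : algebraMap S A (w : S) • (algebraMap S A h ^ K • y) = h ^ K • ((w : S) • y) := by
      rw [← map_pow, algebraMap_smul, algebraMap_smul, smul_comm]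
    rw [e]
    exact h1
  · intro a ha i
    obtain ⟨b, hb⟩ := IsLocalization.exist_integer_multiples_of_finite W a
    have hb' : ∀ j, ∃ cj : S, algebraMap S A cj = algebraMap S A b * a j := fun j => by
      obtain ⟨cj, hcj⟩ := hb j
      exact ⟨cj, by rw [hcj, Algebra.smul_def]⟩
    choose cc hcc using hb'
    have h0 : f (∑ j, cc j • m j) = 0 := by
      rw [map_sum]
      have e : ∀ j, f (cc j • m j) = algebraMap S A b • (a j • f (m j)) := fun j => by
        rw [map_smul, ← algebraMap_smul A (cc j), hcc j, mul_smul]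
      rw [Finset.sum_congr rfl (fun j _ => e j), ← Finset.smul_sum, ha, smul_zero]
    obtain ⟨w, hw⟩ := (IsLocalizedModule.eq_zero_iff W f).mp h0
    have h1 : ∑ j, ((w : S) * cc j) • m j = 0 := by
      rw [← hw, Submonoid.smul_def, Finset.smul_sum]
      exact Finset.sum_congr rfl (fun j _ => mul_smul _ _ _)
    obtain ⟨K, hK⟩ := H.2 _ h1 i
    refine ⟨K, ?_⟩
    have h2 : algebraMap S A (h ^ K * ((w : S) * cc i)) = 0 := by rw [hK, map_zero]
    rw [map_mul, map_mul, map_pow, hcc i] at h2
    have hu : IsUnit (algebraMap S A w * algebraMap S A b) :=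
      (IsLocalization.map_units A w).mul (IsLocalization.map_units A b)
    have h3 : (algebraMap S A w * algebraMap S A b) * ((algebraMap S A h) ^ K * a i) = 0 := by
      rw [← h2]
      ring
    exact hu.mul_right_eq_zero.mp h3

theorem free_away_of_lfd (h : S) {c : ℕ} (m : Fin c → M) (H : LFD h m) :
    Module.Free (Localization.Away h) (LocalizedModule.Away h M) ∧
      Module.Finite (Localization.Away h) (LocalizedModule.Away h M) := by
  have H' := lfd_localized (Submonoid.powers h) (Localization.Away h)
    (LocalizedModule.mkLinearMap (Submonoid.powers h) M) h m H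
  exact free_of_lfd_unit _ (IsLocalization.Away.algebraMap_isUnit h) _ H'

theorem finite_projective_of_lfd {A : Type u} [CommRing A] {N : Type u} [AddCommGroup N]
    [Module A N]
    (H : ∀ 𝔪 : Ideal A, 𝔪.IsMaximal → ∃ r : A, r ∉ 𝔪 ∧ ∃ (c : ℕ) (m : Fin c → N), LFD r m) :
    Module.Finite A N ∧ Module.Projective A N := by
  let s : Set A := {r | ∃ (c : ℕ) (m : Fin c → N), LFD r m}
  have hs : Ideal.span s = ⊤ := by
    by_contra hne
    obtain ⟨𝔪, hmax, hle⟩ := Ideal.exists_le_maximal _ hne
    obtain ⟨r, hr, c, m, hm⟩ := H 𝔪 hmax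
    exact hr (hle (Ideal.subset_span ⟨c, m, hm⟩))
  have key : ∀ r : s, Module.Free (Localization.Away r.1) (LocalizedModule.Away r.1 N) ∧
      Module.Finite (Localization.Away r.1) (LocalizedModule.Away r.1 N) := by
    rintro ⟨r, c, m, hm⟩
    exact free_away_of_lfd r m hm
  haveI hfp : Module.FinitePresentation A N := by
    refine Module.FinitePresentation.of_localizationSpan s hs (fun r => ?_)
    haveI := (key r).1
    haveI := (key r).2
    exact Module.finitePresentation_of_projective _ _
  haveI hfl : Module.Flat A N := by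
    refine Module.flat_of_localized_span A N s hs (fun r => ?_)
    haveI := (key r).1
    haveI : Module.Flat (Localization.Away r.1) (LocalizedModule.Away r.1 N) := inferInstance
    exact (Module.flat_iff_of_isLocalization (Localization.Away r.1) (Submonoid.powers r.1) _).mp
      this
  exact ⟨inferInstance, Module.Flat.projective_of_finitePresentation⟩

end lfd

section quasi

/-- degree one quasi-regularity. -/
theorem coeff_mem_of_qr {B : Type u} [CommRing B] {c : ℕ} (f : Fin c → B)
    (hq : CAlgX.IsQuasiRegular f) (a : Fin c → B)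
    (h : ∑ i, a i * f i ∈ Ideal.span (Set.range f) ^ 2) (i : Fin c) :
    a i ∈ Ideal.span (Set.range f) := by
  classical
  have hhom : (∑ j, MvPolynomial.C (a j) * MvPolynomial.X j :
      MvPolynomial (Fin c) B).IsHomogeneous 1 :=
    MvPolynomial.IsHomogeneous.sum _ _ _
      (fun j _ => (MvPolynomial.isHomogeneous_X B j).C_mul (a j))
  have hev : MvPolynomial.eval f (∑ j, MvPolynomial.C (a j) * MvPolynomial.X j) =
      ∑ j, a j * f j := by
    rw [map_sum]
    apply Finset.sum_congr rfl
    intro j _
    rw [map_mul, MvPolynomial.eval_C, MvPolynomial.eval_X]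
  have hcoeff : MvPolynomial.coeff (Finsupp.single i 1)
      (∑ j, MvPolynomial.C (a j) * MvPolynomial.X j : MvPolynomial (Fin c) B) = a i := by
    rw [MvPolynomial.coeff_sum, Finset.sum_eq_single i]
    · rw [MvPolynomial.coeff_C_mul, MvPolynomial.coeff_X', if_pos rfl, mul_one]
    · intro j _ hji
      rw [MvPolynomial.coeff_C_mul, MvPolynomial.coeff_X', if_neg, mul_zero]
      intro hh
      exact hji ((Finsupp.single_left_inj one_ne_zero).mp hh)
    · intro hi
      exact absurd (Finset.mem_univ i) hi
  have := hq 1 _ hhom (by rw [hev]; exact h) (Finsupp.single i 1)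
  rw [hcoeff] at this
  exact this

end quasi

section cotangent

theorem exists_pow_eq_mul {P : Type u} [CommRing P] (h : P) (w b : Submonoid.powers h) :
    ∃ K : ℕ, h ^ K = (w : P) * (b : P) := by
  obtain ⟨k1, hk1⟩ := w.2
  obtain ⟨k2, hk2⟩ := b.2
  have hk1' : h ^ k1 = (w : P) := hk1
  have hk2' : h ^ k2 = (b : P) := hk2
  exact ⟨k1 + k2, by rw [pow_add, hk1', hk2']⟩

theorem lfd_cotangent {P : Type u} [CommRing P] (I : Ideal P) (h : P) (T : Type u) [CommRing T]
    [Algebra P T] [IsLocalization.Away h T] {c : ℕ} (l : Fin c → T)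
    (hq : CAlgX.IsQuasiRegular l)
    (hI : I.map (algebraMap P T) = Ideal.span (Set.range l)) :
    ∃ m : Fin c → I.Cotangent, LFD (Ideal.Quotient.mk I h) m := by
  classical
  have hmem : ∀ i, ∃ (a : I) (s : Submonoid.powers h),
      l i * algebraMap P T (s : P) = algebraMap P T (a : P) := fun i => by
    have h1 : l i ∈ I.map (algebraMap P T) := by
      rw [hI]
      exact Ideal.subset_span ⟨i, rfl⟩
    obtain ⟨⟨a, s⟩, h2⟩ := (IsLocalization.mem_map_algebraMap_iff (Submonoid.powers h) T).mp h1
    exact ⟨a, s, h2⟩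
  choose a s has using hmem
  have hu : ∀ i, IsUnit (algebraMap P T (s i : P)) := fun i => IsLocalization.map_units T (s i)
  refine ⟨fun i => I.toCotangent (a i), ?_, ?_⟩
  · intro x
    obtain ⟨⟨y, hy⟩, rfl⟩ := I.toCotangent_surjective x
    have h1 : algebraMap P T y ∈ Ideal.span (Set.range l) := by
      rw [← hI]
      exact Ideal.mem_map_of_mem _ hy
    obtain ⟨t, ht⟩ := (Ideal.mem_span_range_iff_exists_fun).mp h1
    have hinv : ∀ i, ∃ v : T, v * algebraMap P T (s i : P) = 1 := fun i => by
      obtain ⟨v, hv⟩ := (hu i).exists_left_inv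
      exact ⟨v, hv⟩
    choose v hv using hinv
    have ht' : ∑ i, (t i * v i) * algebraMap P T (a i : P) = algebraMap P T y := by
      rw [← ht]
      apply Finset.sum_congr rfl
      intro i _
      rw [← has i]
      calc t i * v i * (l i * algebraMap P T (s i : P))
          = t i * l i * (v i * algebraMap P T (s i : P)) := by ring
        _ = t i * l i := by rw [hv i, mul_one]
    obtain ⟨b, hb⟩ := IsLocalization.exist_integer_multiples_of_finite (Submonoid.powers h)
      (fun i => t i * v i)
    have hb' : ∀ i, ∃ d : P, algebraMap P T d = algebraMap P T b * (t i * v i) := fun i => by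
      obtain ⟨d, hd⟩ := hb i
      exact ⟨d, by rw [hd, Algebra.smul_def]⟩
    choose d hd using hb'
    have h2 : algebraMap P T ((b : P) * y - ∑ i, d i * (a i : P)) = 0 := by
      rw [map_sub, map_mul, map_sum, ← ht', Finset.mul_sum, sub_eq_zero]
      apply Finset.sum_congr rfl
      intro i _
      rw [map_mul, hd i]
      ring
    obtain ⟨w, hw⟩ := (IsLocalization.map_eq_zero_iff (Submonoid.powers h) T _).mp h2
    obtain ⟨K, hK⟩ := exists_pow_eq_mul h w b
    refine ⟨K, ?_⟩
    have h3 : (h ^ K) • (⟨y, hy⟩ : I) = ∑ i, ((w : P) * d i) • a i := by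
      apply Subtype.ext
      rw [hK, AddSubmonoidClass.coe_finsetSum]
      show (w : P) * (b : P) * y = ∑ i, ((w : P) * d i) * (a i : P)
      have h4 : (w : P) * ((b : P) * y) = (w : P) * ∑ i, d i * (a i : P) := by
        linear_combination hw
      rw [mul_assoc, h4, Finset.mul_sum]
      exact Finset.sum_congr rfl (fun i _ => (mul_assoc _ _ _).symm)
    have e1 : (Ideal.Quotient.mk I h) ^ K • I.toCotangent ⟨y, hy⟩ =
        I.toCotangent ((h ^ K) • (⟨y, hy⟩ : I)) := by
      rw [← map_pow, map_smul]
      exact algebraMap_smul (P ⧸ I) (h ^ K) _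
    rw [e1, h3, map_sum]
    apply Submodule.sum_mem
    intro i _
    rw [map_smul]
    have e2 : ((w : P) * d i) • I.toCotangent (a i) =
        (Ideal.Quotient.mk I ((w : P) * d i)) • I.toCotangent (a i) :=
      (algebraMap_smul (P ⧸ I) _ _).symm
    rw [e2]
    exact Submodule.smul_mem _ _ (Submodule.subset_span ⟨i, rfl⟩)
  · intro e he i
    have hsurj : ∀ j, ∃ cj : P, Ideal.Quotient.mk I cj = e j :=
      fun j => Ideal.Quotient.mk_surjective (e j)
    choose cc hcc using hsurj
    have hmemI : ∑ j, cc j * (a j : P) ∈ I :=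
      Ideal.sum_mem _ (fun j _ => Ideal.mul_mem_left _ _ (a j).2)
    have hsum : ∑ j, e j • I.toCotangent (a j) =
        I.toCotangent ⟨∑ j, cc j * (a j : P), hmemI⟩ := by
      have h1 : (⟨∑ j, cc j * (a j : P), hmemI⟩ : I) = ∑ j, cc j • a j := by
        apply Subtype.ext
        rw [AddSubmonoidClass.coe_finsetSum]
        rfl
      rw [h1, map_sum]
      apply Finset.sum_congr rfl
      intro j _
      rw [map_smul, ← hcc j]
      exact algebraMap_smul (P ⧸ I) (cc j) _
    rw [hsum, Ideal.toCotangent_eq_zero] at he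
    have h1 : algebraMap P T (∑ j, cc j * (a j : P)) ∈ Ideal.span (Set.range l) ^ 2 := by
      rw [← hI, ← Ideal.map_pow]
      exact Ideal.mem_map_of_mem _ he
    have h2 : algebraMap P T (∑ j, cc j * (a j : P)) =
        ∑ j, (algebraMap P T (cc j) * algebraMap P T (s j : P)) * l j := by
      rw [map_sum]
      apply Finset.sum_congr rfl
      intro j _
      rw [map_mul, ← has j]
      ring
    rw [h2] at h1
    have h3 := coeff_mem_of_qr l hq _ h1 i
    rw [Ideal.mul_unit_mem_iff_mem _ (hu i), ← hI] at h3
    obtain ⟨⟨a', s'⟩, hs'⟩ :=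
      (IsLocalization.mem_map_algebraMap_iff (Submonoid.powers h) T).mp h3
    have h4 : algebraMap P T (cc i * (s' : P) - (a' : P)) = 0 := by
      rw [map_sub, map_mul]
      exact sub_eq_zero.mpr hs'
    obtain ⟨w, hw⟩ := (IsLocalization.map_eq_zero_iff (Submonoid.powers h) T _).mp h4
    obtain ⟨K, hK⟩ := exists_pow_eq_mul h w s'
    refine ⟨K, ?_⟩
    rw [← hcc i, ← map_pow, ← map_mul, Ideal.Quotient.eq_zero_iff_mem, hK]
    have e3 : (w : P) * (s' : P) * cc i = (w : P) * (a' : P) := by linear_combination hw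
    rw [e3]
    exact Ideal.mul_mem_left _ _ a'.2

end cotangent

section main

open Groth.Agent.Lib.LCILocal Groth.Agent.Lib.SyntTA Groth.Agent.Lib.KoszulLow

theorem main9151 (R : Type u) [CommRing R] (n : ℕ)
    (I : Ideal (MvPolynomial (Fin n) R)) (_hI : I.FG) (g : MvPolynomial (Fin n) R ⧸ I)
    (hg : Synt.IsSyntomic R (Localization.Away g)) :
    Module.Finite (Localization.Away g) (LocalizedModule (Submonoid.powers g) I.Cotangent) ∧
      Module.Projective (Localization.Away g)
        (LocalizedModule (Submonoid.powers g) I.Cotangent) := by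
  apply finite_projective_of_lfd
  intro 𝔪 hmax
  obtain ⟨G, rfl⟩ := Ideal.Quotient.mk_surjective g
  haveI := hmax.isPrime
  have hprime : (𝔪.comap ((algebraMap (MvPolynomial (Fin n) R ⧸ I)
      (Localization.Away (Ideal.Quotient.mk I G))).comp (Ideal.Quotient.mk I))).IsPrime :=
    Ideal.comap_isPrime _ _
  have hG : G ∉ 𝔪.comap ((algebraMap (MvPolynomial (Fin n) R ⧸ I)
      (Localization.Away (Ideal.Quotient.mk I G))).comp (Ideal.Quotient.mk I)) := fun hmem =>
    hmax.ne_top (Ideal.eq_top_of_isUnit_mem _ hmem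
      (IsLocalization.Away.algebraMap_isUnit (Ideal.Quotient.mk I G)))
  have hle : I ≤ 𝔪.comap ((algebraMap (MvPolynomial (Fin n) R ⧸ I)
      (Localization.Away (Ideal.Quotient.mk I G))).comp (Ideal.Quotient.mk I)) := by
    intro x hx
    show algebraMap _ _ (Ideal.Quotient.mk I x) ∈ 𝔪
    rw [Ideal.Quotient.eq_zero_iff_mem.mpr hx, map_zero]
    exact zero_mem _
  have hl : LCI.IsLCI R (Localization.Away (Ideal.Quotient.mk I G)) :=
    isLCI_of_isSyntomic _ _ hg
  have hker : RingHom.ker (Ideal.Quotient.mkₐ R I).toRingHom = I := Ideal.mk_ker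
  obtain ⟨h, hh, T, _, _, hloc, l, hkr, hmap⟩ := kr_at_of_isLCI_away R
    (MvPolynomial (Fin n) R ⧸ I) n (Ideal.Quotient.mkₐ R I) (Ideal.Quotient.mkₐ_surjective R I) G
    hl _ hG (by rw [hker]; exact hle)
  rw [hker] at hmap
  have hq : CAlgX.IsQuasiRegular l.get :=
    Groth.Agent.Lib.H1QRegH1.main2103 _ (h1_of_koszulRegular l hkr)
  have hI' : I.map (algebraMap (MvPolynomial (Fin n) R) T) = Ideal.span (Set.range l.get) := by
    rw [hmap, Set.range_list_get]
  obtain ⟨m, hm⟩ := lfd_cotangent I h T l.get hq hI'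
  refine ⟨algebraMap _ _ (Ideal.Quotient.mk I h), hh, l.length, _,
    lfd_localized (Submonoid.powers (Ideal.Quotient.mk I G))
      (Localization.Away (Ideal.Quotient.mk I G))
      (LocalizedModule.mkLinearMap (Submonoid.powers (Ideal.Quotient.mk I G)) I.Cotangent)
      (Ideal.Quotient.mk I h) m hm⟩

end main

end Groth.Agent.Lib.SyntConormal
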