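import Mathlib
import Groth.Prelude.Def_BlowUp2
import Groth.Prelude.Def_CAlgX
import Groth.Agent.Lib.BlowExc_helper2
import Groth.Agent.Lib.SyntConormal_helper2
import Groth.Agent.Lib.RegImmKinds_helper2

/-!
# The blow-up of a smooth scheme along a smooth centre is smooth (helper2, S9787): algebra
-/

set_option autoImplicit false
set_option maxHeartbeats 400000
universe u

open AlgebraicGeometry CategoryTheory CategoryTheory.Limits TopologicalSpace Opposite

namespace Groth.Agent.Lib.BlowSmooth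

open Groth.Agent.Lib.BlowPerf Groth.Agent.Lib.BlowBC

section derivations

open KaehlerDifferential TensorProduct

/-- Coordinate derivations for a quasi-regular sequence with formally smooth quotient. -/
theorem exists_derivations {R A : Type u} [CommRing R] [CommRing A] [Algebra R A]
    [Algebra.FormallySmooth R A] {c : ℕ} (f : Fin c → A) (hq : CAlgX.IsQuasiRegular f)
    (hsm : Algebra.FormallySmooth R (A ⧸ Ideal.span (Set.range f))) :
    ∃ ρ : Fin c → Derivation R A A, ∀ k m,
      ρ k (f m) - (if k = m then 1 else 0) ∈ Ideal.span (Set.range f) := by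
  classical
  obtain ⟨I, hI⟩ : ∃ I : Ideal A, I = Ideal.span (Set.range f) := ⟨_, rfl⟩
  rw [← hI] at hsm ⊢
  have hs : Function.Surjective (algebraMap A (A ⧸ I)) := Ideal.Quotient.mk_surjective
  obtain ⟨l, hl⟩ := (Algebra.FormallySmooth.iff_split_injection (R := R) (P := A)
    (A := A ⧸ I) hs).mp hsm
  have hK : RingHom.ker (algebraMap A (A ⧸ I)) = I := Ideal.mk_ker
  have hfK : ∀ m, f m ∈ RingHom.ker (algebraMap A (A ⧸ I)) := fun m => by
    rw [hK, hI]
    exact Ideal.subset_span ⟨m, rfl⟩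
  obtain ⟨Φ₀, hΦ₀⟩ : ∃ Φ₀ : (Fin c → A) →ₗ[A] (RingHom.ker (algebraMap A (A ⧸ I))).Cotangent,
      ∀ u, Φ₀ u = ∑ m, u m • (RingHom.ker (algebraMap A (A ⧸ I))).toCotangent ⟨f m, hfK m⟩ :=
    ⟨Fintype.linearCombination A
      (fun m => (RingHom.ker (algebraMap A (A ⧸ I))).toCotangent ⟨f m, hfK m⟩),
      fun u => Fintype.linearCombination_apply _ _ _⟩
  obtain ⟨π, hπ⟩ : ∃ π : (Fin c → A) →ₗ[A] (Fin c → A ⧸ I),
      ∀ u m, π u m = Ideal.Quotient.mk I (u m) :=
    ⟨(Ideal.Quotient.mkₐ A I).toLinearMap.compLeft (Fin c), fun u m => rfl⟩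
  have hΦsum : ∀ u : Fin c → A, Φ₀ u = (RingHom.ker (algebraMap A (A ⧸ I))).toCotangent
      ⟨∑ m, u m * f m, Ideal.sum_mem _ (fun m _ => Ideal.mul_mem_left _ _ (hfK m))⟩ := by
    intro u
    rw [hΦ₀]
    simp only [← map_smul, ← map_sum]
    congr 1
    apply Subtype.ext
    simp [Submodule.coe_sum]
  have hle : LinearMap.ker Φ₀ ≤ LinearMap.ker π := by
    intro u hu
    rw [LinearMap.mem_ker, hΦsum, Ideal.toCotangent_eq_zero] at hu
    rw [LinearMap.mem_ker]
    funext m
    rw [hπ, Pi.zero_apply, Ideal.Quotient.eq_zero_iff_mem, hI]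
    apply Groth.Agent.Lib.SyntConormal.coeff_mem_of_qr f hq u
    have : ∑ i, u i * f i ∈ RingHom.ker (algebraMap A (A ⧸ I)) ^ 2 := hu
    rwa [hK, hI] at this
  have hΦsurj : Function.Surjective Φ₀ := by
    intro x
    obtain ⟨⟨y, hy⟩, rfl⟩ := Ideal.toCotangent_surjective _ x
    have hy' : y ∈ Ideal.span (Set.range f) := by
      rw [← hI, ← hK]
      exact hy
    obtain ⟨u, hu⟩ := (Submodule.mem_span_range_iff_exists_fun A).mp hy'
    refine ⟨u, ?_⟩
    rw [hΦsum]
    congr 1
    apply Subtype.ext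
    simpa [smul_eq_mul] using hu
  obtain ⟨cc, hcc⟩ : ∃ cc : (RingHom.ker (algebraMap A (A ⧸ I))).Cotangent →ₗ[A] (Fin c → A ⧸ I),
      ∀ u, cc (Φ₀ u) = π u := by
    refine ⟨(Submodule.liftQ (LinearMap.ker Φ₀) π hle) ∘ₗ
      (Φ₀.quotKerEquivOfSurjective hΦsurj).symm.toLinearMap, fun u => ?_⟩
    have h1 : (Φ₀.quotKerEquivOfSurjective hΦsurj).symm (Φ₀ u) =
        Submodule.Quotient.mk u := by
      rw [LinearEquiv.symm_apply_eq]
      rfl
    rw [LinearMap.comp_apply]
    show (Submodule.liftQ (LinearMap.ker Φ₀) π hle)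
      ((Φ₀.quotKerEquivOfSurjective hΦsurj).symm (Φ₀ u)) = π u
    rw [h1, Submodule.liftQ_apply]
  have hπsurj : Function.Surjective π := by
    intro w
    choose u hu using fun m => Ideal.Quotient.mk_surjective (w m)
    exact ⟨u, funext fun m => by rw [hπ, hu]⟩
  obtain ⟨h, hh⟩ := Module.projective_lifting_property π
    (cc ∘ₗ l ∘ₗ (TensorProduct.mk A (A ⧸ I) Ω[A⁄R] 1)) hπsurj
  refine ⟨fun k => ((LinearMap.proj k : (Fin c → A) →ₗ[A] A) ∘ₗ h).compDer
    (KaehlerDifferential.D R A), fun k m => ?_⟩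
  have h1 : π (h (KaehlerDifferential.D R A (f m))) = π (Pi.single m 1) := by
    rw [← LinearMap.comp_apply, hh]
    show cc (l ((1 : A ⧸ I) ⊗ₜ[A] KaehlerDifferential.D R A (f m))) = _
    have h2 : (1 : A ⧸ I) ⊗ₜ[A] KaehlerDifferential.D R A (f m) =
        kerCotangentToTensor R A (A ⧸ I)
          ((RingHom.ker (algebraMap A (A ⧸ I))).toCotangent ⟨f m, hfK m⟩) := rfl
    rw [h2, ← LinearMap.comp_apply l, hl, LinearMap.id_apply, ← hcc]
    congr 1
    rw [hΦ₀, Finset.sum_eq_single m]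
    · rw [Pi.single_eq_same, one_smul]
    · intro b _ hb
      rw [Pi.single_eq_of_ne hb, zero_smul]
    · intro hm
      exact absurd (Finset.mem_univ m) hm
  have h3 := congrFun h1 k
  rw [hπ, hπ, Ideal.Quotient.eq, Pi.single_apply] at h3
  exact h3

end derivations

section lifting

open MvPolynomial

variable {R A : Type u} [CommRing R] [CommRing A] [Algebra R A]

theorem range_get_eq (a : A) (l : List A) :
    Ideal.span (Set.range (a :: l).get) = Ideal.ofList (a :: l) := by
  unfold Ideal.ofList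
  congr 1
  ext x
  constructor
  · rintro ⟨j, rfl⟩
    exact List.get_mem _ j
  · intro hx
    obtain ⟨j, rfl⟩ := List.get_of_mem hx
    exact ⟨j, rfl⟩

theorem formallySmooth_Qt [Algebra.FormallySmooth R A] (a : A) (l : List A)
    (hq : CAlgX.IsQuasiRegular (a :: l).get)
    (hsm : Algebra.FormallySmooth R (A ⧸ Ideal.ofList (a :: l))) :
    Algebra.FormallySmooth R (Qt A a l) := by
  classical
  rw [← range_get_eq] at hsm
  obtain ⟨ρ, hρ⟩ := exists_derivations (a :: l).get hq hsm
  rw [range_get_eq] at hρ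
  apply Algebra.FormallySmooth.of_comp_surjective
  intro B _ _ N hN ū
  have hNN : ∀ x ∈ N, ∀ y ∈ N, x * y = 0 := by
    intro x hx y hy
    have h1 : x * y ∈ N ^ 2 := by
      rw [pow_two]
      exact Ideal.mul_mem_mul hx hy
    rw [hN] at h1
    exact h1
  obtain ⟨v₀, hv₀⟩ := Algebra.FormallySmooth.comp_surjective R A N hN
    (ū.comp (IsScalarTower.toAlgHom R A (Qt A a l)))
  have hv₀' : ∀ x : A, Ideal.Quotient.mk N (v₀ x) = ū (algebraMap A (Qt A a l) x) :=
    fun x => AlgHom.congr_fun hv₀ x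
  choose t₀ ht₀ using fun j : Fin l.length =>
    Ideal.Quotient.mk_surjective (I := N) (ū (Ideal.Quotient.mk (relIdeal A a l) (X j)))
  obtain ⟨e, he⟩ : ∃ e : Fin l.length → B, ∀ j, e j = v₀ a * t₀ j - v₀ (l.get j) :=
    ⟨_, fun j => rfl⟩
  have heN : ∀ j, e j ∈ N := by
    intro j
    rw [← Ideal.Quotient.eq_zero_iff_mem, he, map_sub, map_mul, hv₀', hv₀', ht₀, algebraMap_quot,
      algebraMap_quot, mk_C_get, ← map_mul, ← map_mul, sub_self]
  -- the derivation
  obtain ⟨δ, hδ⟩ : ∃ δ : A → B, ∀ x, δ x = ∑ j : Fin l.length, v₀ (ρ j.succ x) * e j :=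
    ⟨_, fun x => rfl⟩
  have hδN : ∀ x, δ x ∈ N := by
    intro x
    rw [hδ]
    exact Ideal.sum_mem _ (fun j _ => Ideal.mul_mem_left _ _ (heN j))
  have hδadd : ∀ x y, δ (x + y) = δ x + δ y := by
    intro x y
    rw [hδ, hδ, hδ, ← Finset.sum_add_distrib]
    apply Finset.sum_congr rfl
    intro j _
    rw [map_add, map_add, add_mul]
  have hδmul : ∀ x y, δ (x * y) = v₀ x * δ y + v₀ y * δ x := by
    intro x y
    rw [hδ, hδ, hδ, Finset.mul_sum, Finset.mul_sum, ← Finset.sum_add_distrib]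
    apply Finset.sum_congr rfl
    intro j _
    rw [Derivation.leibniz, smul_eq_mul, smul_eq_mul, map_add, map_mul, map_mul]
    ring
  have hδalg : ∀ r : R, δ (algebraMap R A r) = 0 := by
    intro r
    rw [hδ]
    apply Finset.sum_eq_zero
    intro j _
    rw [Derivation.map_algebraMap, map_zero, zero_mul]
  have hδzero : δ 0 = 0 := by
    have := hδalg 0
    rwa [map_zero] at this
  have hδone : δ 1 = 0 := by
    have := hδalg 1
    rwa [map_one] at this
  obtain ⟨v, hv⟩ : ∃ v : A →ₐ[R] B, ∀ x, v x = v₀ x + δ x := by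
    refine ⟨
      { toFun := fun x => v₀ x + δ x
        map_one' := ?_
        map_mul' := ?_
        map_zero' := ?_
        map_add' := ?_
        commutes' := ?_ }, fun x => rfl⟩
    · show v₀ 1 + δ 1 = 1
      rw [hδone, map_one, add_zero]
    · intro x y
      show v₀ (x * y) + δ (x * y) = (v₀ x + δ x) * (v₀ y + δ y)
      rw [map_mul, hδmul]
      have h1 := hNN _ (hδN x) _ (hδN y)
      linear_combination (-1 : B) * h1
    · show v₀ 0 + δ 0 = 0
      rw [hδzero, map_zero, add_zero]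
    · intro x y
      show v₀ (x + y) + δ (x + y) = (v₀ x + δ x) + (v₀ y + δ y)
      rw [map_add, hδadd]
      ring
    · intro r
      show v₀ (algebraMap R A r) + δ (algebraMap R A r) = algebraMap R B r
      rw [hδalg, add_zero, AlgHom.commutes]
  -- absorption lemma
  have key : ∀ ι ∈ Ideal.ofList (a :: l), ∀ n ∈ N, ∃ n' ∈ N, v₀ ι * n = v₀ a * n' := by
    intro ι hι
    unfold Ideal.ofList at hι
    induction hι using Submodule.span_induction with
    | mem x hx =>
      intro n hn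
      rcases List.mem_cons.mp hx with rfl | hx
      · exact ⟨n, hn, rfl⟩
      · obtain ⟨j, rfl⟩ := List.get_of_mem hx
        refine ⟨t₀ j * n, Ideal.mul_mem_left _ _ hn, ?_⟩
        have h1 := he j
        have h2 := hNN _ (heN j) _ hn
        linear_combination n * h1 - h2
    | zero =>
      intro n hn
      exact ⟨0, N.zero_mem, by rw [map_zero, zero_mul, mul_zero]⟩
    | add x y _ _ hx hy =>
      intro n hn
      obtain ⟨n₁, hn₁, h₁⟩ := hx n hn
      obtain ⟨n₂, hn₂, h₂⟩ := hy n hn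
      exact ⟨n₁ + n₂, N.add_mem hn₁ hn₂, by rw [map_add, add_mul, h₁, h₂, mul_add]⟩
    | smul r x _ hx =>
      intro n hn
      obtain ⟨n₁, hn₁, h₁⟩ := hx n hn
      refine ⟨v₀ r * n₁, Ideal.mul_mem_left _ _ hn₁, ?_⟩
      rw [smul_eq_mul, map_mul, mul_assoc, h₁]
      ring
  have hA : ∀ (k j : Fin l.length), ∃ n' ∈ N,
      v₀ (ρ k.succ (l.get j) - (if k = j then 1 else 0)) * e k = v₀ a * n' := by
    intro k j
    apply key _ _ _ (heN k)
    have := hρ k.succ j.succ
    simpa [Fin.succ_inj] using this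
  have hB : ∀ k : Fin l.length, ∃ n' ∈ N, v₀ (ρ k.succ a) * e k = v₀ a * n' := by
    intro k
    apply key _ _ _ (heN k)
    have := hρ k.succ 0
    simpa [Fin.succ_ne_zero] using this
  choose nA hnA hA' using hA
  choose nB hnB hB' using hB
  obtain ⟨n, hn⟩ : ∃ n : Fin l.length → B, ∀ j, n j = ∑ k, nA k j - t₀ j * ∑ k, nB k :=
    ⟨_, fun j => rfl⟩
  have hnN : ∀ j, n j ∈ N := by
    intro j
    rw [hn]
    exact N.sub_mem (Ideal.sum_mem _ (fun k _ => hnA k j))
      (Ideal.mul_mem_left _ _ (Ideal.sum_mem _ (fun k _ => hnB k)))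
  have hnj : ∀ j, v₀ a * n j = δ (l.get j) - t₀ j * δ a - e j := by
    intro j
    have h1 : v₀ a * ∑ k, nA k j = δ (l.get j) - e j := by
      rw [Finset.mul_sum, hδ]
      have h2 : ∀ k, v₀ a * nA k j =
          v₀ (ρ k.succ (l.get j)) * e k - (if k = j then e k else 0) := by
        intro k
        rw [← hA' k j, map_sub, sub_mul]
        congr 1
        split_ifs with hkj
        · rw [map_one, one_mul]
        · rw [map_zero, zero_mul]
      rw [Finset.sum_congr rfl (fun k _ => h2 k), Finset.sum_sub_distrib,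
        Finset.sum_ite_eq' Finset.univ j e, if_pos (Finset.mem_univ j)]
    have h3 : v₀ a * ∑ k, nB k = δ a := by
      rw [Finset.mul_sum, hδ]
      exact Finset.sum_congr rfl (fun k _ => (hB' k).symm)
    rw [hn, mul_sub, h1, mul_left_comm, h3]
    ring
  obtain ⟨t, ht⟩ : ∃ t : Fin l.length → B, ∀ j, t j = t₀ j + n j := ⟨_, fun j => rfl⟩
  have hrel : ∀ j, v a * t j - v (l.get j) = 0 := by
    intro j
    rw [hv, hv, ht]
    have h1 := he j
    have h2 := hnj j
    have h3 := hNN _ (hδN a) _ (hnN j)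
    linear_combination (-1 : B) * h1 + h2 + h3
  -- the lift
  obtain ⟨u₀r, hu₀C, hu₀X⟩ : ∃ u₀r : MvPolynomial (Fin l.length) A →+* B,
      (∀ x, u₀r (C x) = v x) ∧ ∀ j, u₀r (X j) = t j :=
    ⟨MvPolynomial.eval₂Hom (v : A →+* B) t, fun x => MvPolynomial.eval₂Hom_C _ _ x,
      fun j => MvPolynomial.eval₂Hom_X' _ _ j⟩
  have hu₀rel : ∀ x ∈ relIdeal A a l, u₀r x = 0 := by
    have h1 : relIdeal A a l ≤ RingHom.ker u₀r := by
      unfold relIdeal
      rw [Ideal.span_le]
      rintro _ ⟨j, rfl⟩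
      rw [SetLike.mem_coe, RingHom.mem_ker]
      unfold rel
      rw [map_sub, map_mul, hu₀C, hu₀C, hu₀X]
      exact hrel j
    intro x hx
    exact h1 hx
  obtain ⟨ur, hur⟩ : ∃ ur : Qt A a l →+* B,
      ∀ x, ur (Ideal.Quotient.mk (relIdeal A a l) x) = u₀r x :=
    ⟨Ideal.Quotient.lift (relIdeal A a l) u₀r hu₀rel, fun x => Ideal.Quotient.lift_mk _ _ _⟩
  have hcomm : ∀ r : R, ur (algebraMap R (Qt A a l) r) = algebraMap R B r := by
    intro r
    rw [IsScalarTower.algebraMap_apply R A (Qt A a l), algebraMap_quot, hur, hu₀C,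
      AlgHom.commutes]
  refine ⟨{ ur with commutes' := hcomm }, ?_⟩
  apply AlgHom.coe_ringHom_injective
  apply Ideal.Quotient.ringHom_ext
  apply MvPolynomial.ringHom_ext
  · intro x
    show Ideal.Quotient.mk N (ur (Ideal.Quotient.mk _ (C x))) = ū (Ideal.Quotient.mk _ (C x))
    rw [hur, hu₀C, ← algebraMap_quot, ← hv₀', Ideal.Quotient.eq, hv, add_sub_cancel_left]
    exact hδN x
  · intro j
    show Ideal.Quotient.mk N (ur (Ideal.Quotient.mk _ (X j))) = ū (Ideal.Quotient.mk _ (X j))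
    rw [hur, hu₀X, ← ht₀, Ideal.Quotient.eq, ht, add_sub_cancel_left]
    exact hnN j

end lifting

section smooth

open MvPolynomial

theorem finitePresentation_Qt {A : Type u} [CommRing A] (a : A) (l : List A) :
    Algebra.FinitePresentation A (Qt A a l) := by
  apply Algebra.FinitePresentation.quotient
  unfold relIdeal
  exact Submodule.fg_span (Set.finite_range _)

theorem smooth_Qt_of_smooth {R A : Type u} [CommRing R] [CommRing A] (φ : R →+* A)
    (hφ : φ.Smooth) (a : A) (l : List A) (hK : LCI.IsKoszulRegularSeq A (a :: l))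
    (hsm : ((Ideal.Quotient.mk (Ideal.ofList (a :: l))).comp φ).Smooth) :
    ((algebraMap A (Qt A a l)).comp φ).Smooth := by
  letI := φ.toAlgebra
  have h1 : Algebra.Smooth R A := hφ
  have h2 : Algebra.Smooth R (A ⧸ Ideal.ofList (a :: l)) := by
    rw [← RingHom.smooth_algebraMap]
    exact hsm
  have hq : CAlgX.IsQuasiRegular (a :: l).get :=
    Groth.Agent.Lib.RegImmKinds.seq_h1_quasi A (a :: l)
      (Groth.Agent.Lib.RegImmKinds.seq_koszul_h1 A (a :: l) hK)
  haveI := h1.formallySmooth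
  haveI := h1.finitePresentation
  have h3 : Algebra.FormallySmooth R (Qt A a l) := formallySmooth_Qt a l hq h2.formallySmooth
  haveI := finitePresentation_Qt a l
  have h4 : Algebra.FinitePresentation R (Qt A a l) :=
    Algebra.FinitePresentation.trans R A (Qt A a l)
  have h5 : (algebraMap R (Qt A a l)).Smooth := RingHom.smooth_algebraMap.mpr ⟨h3, h4⟩
  exact h5

theorem smooth_affineAlgebra {R A : Type u} [CommRing R] [CommRing A] (φ : R →+* A)
    (hφ : φ.Smooth) (a : A) (l : List A) (hK : LCI.IsKoszulRegularSeq A (a :: l))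
    (hne : Ideal.ofList (a :: l) ≠ ⊤)
    (hsm : ((Ideal.Quotient.mk (Ideal.ofList (a :: l))).comp φ).Smooth) :
    ((algebraMap A ↥(BlowUp.affineAlgebra A (Ideal.ofList (a :: l)) a)).comp φ).Smooth := by
  have hbij := theta_bijective A a l (hc_of_kreg A a l hK hne)
  have h1 := smooth_Qt_of_smooth φ hφ a l hK hsm
  have h2 : (theta A a l).Smooth := RingHom.Smooth.of_bijective hbij
  have h3 := RingHom.Smooth.comp h1 h2
  have h4 : (theta A a l).comp ((algebraMap A (Qt A a l)).comp φ) =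
      (algebraMap A ↥(BlowUp.affineAlgebra A (Ideal.ofList (a :: l)) a)).comp φ := by
    exact RingHom.ext fun r => theta_algebraMap A a l (φ r)
  rw [← h4]
  exact h3

end smooth

end Groth.Agent.Lib.BlowSmooth
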