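import Mathlib
import Groth.Prelude.Def_BlowUp2
import Groth.Agent.Lib.BlowSmooth_helper2
import Groth.Agent.Lib.CancelSch_helper2
import Groth.Agent.Lib.LCIZar_helper2
import Groth.Agent.Lib.BlowIso1_helper8
import Groth.Agent.Lib.RegImmComp_helper2

/-!
# The blow-up of a smooth scheme along a smooth centre is smooth (helper2, S9787): schemes
-/

set_option autoImplicit false
set_option maxHeartbeats 400000
universe u

open AlgebraicGeometry CategoryTheory CategoryTheory.Limits TopologicalSpace Opposite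

namespace Groth.Agent.Lib.BlowSmoothSch

open Groth.Agent.Lib.BlowPerf Groth.Agent.Lib.BlowBC Groth.Agent.Lib.BlowExc
  Groth.Agent.Lib.BlowSmooth Groth.Agent.Lib.KRegIdeal

/-- The local hypothesis: around each point of the centre, the ideal is generated by a
Koszul-regular sequence on an affine open `U` lying over an affine open `V` of the base, with
`Γ(S,V) → Γ(X,U)` and `Γ(S,V) → Γ(X,U)/I` smooth. -/
def HLoc {X S : Scheme.{u}} (𝓘 : X.IdealSheafData) (q : X ⟶ S) : Prop :=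
  ∀ x ∈ 𝓘.support, ∃ (U : X.Opens) (hU : IsAffineOpen U) (V : S.Opens) (_ : IsAffineOpen V)
    (hUV : U ≤ q ⁻¹ᵁ V), x ∈ U ∧
    ∃ rs : List Γ(X, U), LCI.IsKoszulRegularSeq Γ(X, U) rs ∧
      𝓘.ideal ⟨U, hU⟩ = Ideal.ofList rs ∧ (q.appLE V U hUV).hom.Smooth ∧
      ((Ideal.Quotient.mk (Ideal.ofList rs)).comp (q.appLE V U hUV).hom).Smooth

theorem smooth_quot_of_eq {R A : Type u} [CommRing R] [CommRing A] (φ : R →+* A) {I J : Ideal A}
    (h : I = J) (hs : ((Ideal.Quotient.mk I).comp φ).Smooth) :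
    ((Ideal.Quotient.mk J).comp φ).Smooth := by
  subst h
  exact hs

theorem exists_smooth_chart_total {X X' S : Scheme.{u}} (𝓘 : X.IdealSheafData) (q : X ⟶ S)
    [Smooth q] (h𝓘 : HLoc 𝓘 q) (b : X' ⟶ X) (hb : BlowUp.IsBlowUp b 𝓘) (x' : X') :
    ∃ (T : Scheme.{u}) (j : T ⟶ X'), IsOpenImmersion j ∧ x' ∈ Set.range j ∧
      Smooth (j ≫ b ≫ q) := by
  by_cases hx : b x' ∈ 𝓘.support
  · obtain ⟨U, hU, V, hV, hUV, hxU, rs, hK, hker, hsm1, hsm2⟩ := h𝓘 _ hx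
    have hne0 : Ideal.ofList rs ≠ ⊤ :=
      hker ▸ ideal_ne_top_of_mem_support 𝓘 ⟨U, hU⟩ _ hxU hx
    have sq0 := isPullback_morphismRestrict b U
    have sq1 : IsPullback hU.isoSpec.hom U.ι hU.fromSpec (𝟙 X) :=
      IsPullback.of_horiz_isIso ⟨by rw [hU.isoSpec_hom_fromSpec, Category.comp_id]⟩
    have sq : IsPullback ((b ∣_ U) ≫ hU.isoSpec.hom) (b ⁻¹ᵁ U).ι hU.fromSpec b := by
      have := sq0.paste_horiz sq1
      rwa [Category.comp_id] at this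
    have hbU := isBlowUp_of_isPullback b 𝓘 hb hU.fromSpec _ _ sq
    rw [comap_fromSpec_eq_idl, hker] at hbU
    have hyU : x' ∈ b ⁻¹ᵁ U := hxU
    obtain ⟨a, ha, hya⟩ := BlowCov.exists_mem_W (Ideal.ofList rs) _ {x | x ∈ rs} rfl hbU.1
      (⟨x', hyU⟩ : ↥(b ⁻¹ᵁ U))
    obtain ⟨s, t, rfl⟩ := List.append_of_mem ha
    have hperm : (s ++ a :: t).Perm (a :: (s ++ t)) := List.perm_middle
    have hid : Ideal.ofList (s ++ a :: t) = Ideal.ofList (a :: (s ++ t)) := ofList_perm hperm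
    have hKp := kreg_of_perm hperm hK
    have hnep : Ideal.ofList (a :: (s ++ t)) ≠ ⊤ := hid ▸ hne0
    rw [hid] at hbU hya hker
    have hsm2' := smooth_quot_of_eq _ hid hsm2
    obtain ⟨κ, hκ, hoi, hr⟩ := BlowCov.exists_chart (Ideal.ofList (a :: (s ++ t))) a _
      (Ideal.subset_span List.mem_cons_self) hbU
    haveI := hoi
    refine ⟨_, κ ≫ (b ⁻¹ᵁ U).ι, inferInstance, ?_, ?_⟩
    · have hmem : (⟨x', hyU⟩ : ↥(b ⁻¹ᵁ U)) ∈ Set.range κ := by
        rw [hr]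
        exact hya
      obtain ⟨c, hc⟩ := hmem
      exact ⟨c, by rw [Scheme.Hom.comp_apply, hc]; rfl⟩
    · have h2 : (κ ≫ (b ⁻¹ᵁ U).ι) ≫ b =
          AffBlH8.cmap (Ideal.ofList (a :: (s ++ t))) a ≫ hU.fromSpec := by
        rw [Category.assoc, ← morphismRestrict_ι, ← hU.isoSpec_hom_fromSpec, ← hκ]
        simp only [Category.assoc]
      have h1 : (κ ≫ (b ⁻¹ᵁ U).ι) ≫ b ≫ q =
          Spec.map (q.appLE V U hUV ≫ CommRingCat.ofHom (algebraMap Γ(X, U)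
            ↥(BlowUp.affineAlgebra Γ(X, U) (Ideal.ofList (a :: (s ++ t))) a))) ≫
            hV.fromSpec := by
        have e1 : Spec.map (q.appLE V U hUV ≫ CommRingCat.ofHom (algebraMap Γ(X, U)
            ↥(BlowUp.affineAlgebra Γ(X, U) (Ideal.ofList (a :: (s ++ t))) a))) ≫ hV.fromSpec =
            AffBlH8.cmap (Ideal.ofList (a :: (s ++ t))) a ≫ hU.fromSpec ≫ q := by
          rw [Spec.map_comp, Category.assoc, IsAffineOpen.SpecMap_appLE_fromSpec q hV hU hUV]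
        rw [e1, ← Category.assoc, h2, Category.assoc]
      rw [h1]
      haveI : Smooth (Spec.map (q.appLE V U hUV ≫ CommRingCat.ofHom (algebraMap Γ(X, U)
          ↥(BlowUp.affineAlgebra Γ(X, U) (Ideal.ofList (a :: (s ++ t))) a)))) := by
        rw [HasRingHomProperty.Spec_iff (P := @Smooth)]
        exact smooth_affineAlgebra (q.appLE V U hUV).hom hsm1 a (s ++ t) hKp hnep hsm2'
      infer_instance
  · haveI := BlowIsoH8.isIso_restrict 𝓘 b hb
    refine ⟨_, (b ⁻¹ᵁ 𝓘.support.compl).ι, inferInstance, ?_, ?_⟩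
    · rw [Scheme.Opens.range_ι]
      exact hx
    · rw [← Category.assoc, ← morphismRestrict_ι, Category.assoc]
      infer_instance

theorem smooth_total {X X' S : Scheme.{u}} (𝓘 : X.IdealSheafData) (q : X ⟶ S)
    [Smooth q] (h𝓘 : HLoc 𝓘 q) (b : X' ⟶ X) (hb : BlowUp.IsBlowUp b 𝓘) : Smooth (b ≫ q) := by
  have H := exists_smooth_chart_total 𝓘 q h𝓘 b hb
  choose T j hoi hz hs using H
  let 𝒰 : X'.OpenCover := Scheme.Cover.mkOfCovers _ T j (fun z => ⟨z, hz z⟩) hoi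
  exact IsZariskiLocalAtSource.of_openCover (P := @Smooth) 𝒰 (fun z => hs z)

theorem smooth_quot_ker {R A B : Type u} [CommRing R] [CommRing A] [CommRing B] (φ : R →+* A)
    (ψ : A →+* B) (hψ : Function.Surjective ψ) (h : (ψ.comp φ).Smooth) :
    ((Ideal.Quotient.mk (RingHom.ker ψ)).comp φ).Smooth := by
  have h1 : (Ideal.Quotient.mk (RingHom.ker ψ)).comp φ =
      (RingHom.quotientKerEquivOfSurjective hψ).symm.toRingHom.comp (ψ.comp φ) := by
    apply RingHom.ext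
    intro r
    show Ideal.Quotient.mk _ (φ r) = (RingHom.quotientKerEquivOfSurjective hψ).symm (ψ (φ r))
    rw [eq_comm, RingEquiv.symm_apply_eq]
    rfl
  rw [h1]
  exact RingHom.Smooth.comp h
    (RingHom.Smooth.of_bijective (RingHom.quotientKerEquivOfSurjective hψ).symm.bijective)

theorem hloc_of_smooth_pair {Z X S : Scheme.{u}} (q : X ⟶ S) [Smooth q] (i : Z ⟶ X)
    [IsClosedImmersion i] [Smooth (i ≫ q)] : HLoc i.ker q := by
  have hreg : RegImm.IsRegularImmersion .koszul i :=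
    Groth.Agent.Lib.CancelSch.main8656 (i ≫ q)
      (fun z => Groth.Agent.Lib.LCIZar.koszulAt_of_smooth (i ≫ q) z) q i rfl
  intro x hx
  have h1 : (i.ker.support : Set X) = closure (Set.range i) := Scheme.Hom.support_ker i
  rw [i.isClosedEmbedding.isClosed_range.closure_eq] at h1
  obtain ⟨z, rfl⟩ : x ∈ Set.range i := by
    rw [← h1]
    exact hx
  obtain ⟨U₀, hzU₀, hcl, rs₀, hK₀, hker₀⟩ := hreg.2 z
  have hU₀ : IsAffineOpen U₀.1 := U₀.2
  obtain ⟨V, hV, hzV, -⟩ := exists_isAffineOpen_mem_and_subset (x := q (i z)) (U := ⊤) trivial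
  obtain ⟨g, hgle, hzg⟩ := hU₀.exists_basicOpen_le (V := U₀.1 ⊓ q ⁻¹ᵁ V)
    ⟨i z, ⟨hzU₀, hzV⟩⟩ hzU₀
  have hU : IsAffineOpen (X.basicOpen g) := hU₀.basicOpen g
  have hUV : X.basicOpen g ≤ q ⁻¹ᵁ V := hgle.trans inf_le_right
  haveI := hU₀.isLocalization_basicOpen g
  have hK : LCI.IsKoszulRegularSeq Γ(X, X.basicOpen g)
      (rs₀.map (algebraMap Γ(X, U₀.1) Γ(X, X.basicOpen g))) :=
    kreg_map_of_isLocalization (Submonoid.powers g) rs₀ hK₀
  have hideal : i.ker.ideal ⟨X.basicOpen g, hU⟩ =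
      Ideal.ofList (rs₀.map (algebraMap Γ(X, U₀.1) Γ(X, X.basicOpen g))) := by
    rw [← Ideal.map_ofList, ← hker₀, ← Scheme.Hom.ker_apply]
    exact (i.ker.map_ideal_basicOpen U₀ g).symm
  refine ⟨X.basicOpen g, hU, V, hV, hUV, hzg, _, hK, hideal, ?_, ?_⟩
  · exact HasRingHomProperty.appLE (P := @Smooth) q inferInstance ⟨V, hV⟩ ⟨_, hU⟩ hUV
  · refine smooth_quot_of_eq _ ((Scheme.Hom.ker_apply i ⟨_, hU⟩).symm.trans hideal) ?_
    have hZU : IsAffineOpen (i ⁻¹ᵁ X.basicOpen g) := hU.preimage i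
    have hle : i ⁻¹ᵁ X.basicOpen g ≤ (i ≫ q) ⁻¹ᵁ V := fun y hy => hUV hy
    have hsm : ((i ≫ q).appLE V (i ⁻¹ᵁ X.basicOpen g) hle).hom.Smooth :=
      HasRingHomProperty.appLE (P := @Smooth) (i ≫ q) inferInstance ⟨V, hV⟩ ⟨_, hZU⟩ hle
    have hcomp := Scheme.Hom.appLE_comp_appLE i q V (X.basicOpen g) (i ⁻¹ᵁ X.basicOpen g)
      hUV le_rfl
    rw [Scheme.Hom.appLE_eq_app] at hcomp
    have hsurj : Function.Surjective (i.app (X.basicOpen g)).hom :=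
      (Groth.Agent.Lib.RegImmComp.affine_and_surjective i hU inferInstance).2
    refine smooth_quot_ker _ _ hsurj ?_
    rw [← CommRingCat.hom_comp, hcomp]
    exact hsm

section exc

theorem exists_smooth_chart_k {X X' : Scheme.{u}} (𝓘 : X.IdealSheafData)
    (h𝓘 : ∀ x ∈ 𝓘.support, ∃ (U : X.Opens) (hU : IsAffineOpen U), x ∈ U ∧
      ∃ rs : List Γ(X, U), LCI.IsKoszulRegularSeq Γ(X, U) rs ∧
        𝓘.ideal ⟨U, hU⟩ = Ideal.ofList rs)
    (b : X' ⟶ X) (hb : BlowUp.IsBlowUp b 𝓘) (z : ↑(pullback b 𝓘.subschemeι)) :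
    ∃ (T : Scheme.{u}) (j : T ⟶ pullback b 𝓘.subschemeι), IsOpenImmersion j ∧ z ∈ Set.range j ∧
      Smooth (j ≫ pullback.snd b 𝓘.subschemeι) := by
  have hcond : b (pullback.fst b 𝓘.subschemeι z) =
      𝓘.subschemeι (pullback.snd b 𝓘.subschemeι z) := by
    rw [← Scheme.Hom.comp_apply, ← Scheme.Hom.comp_apply, pullback.condition]
  have hx : 𝓘.subschemeι (pullback.snd b 𝓘.subschemeι z) ∈ 𝓘.support := by
    have : 𝓘.subschemeι (pullback.snd b 𝓘.subschemeι z) ∈ Set.range 𝓘.subschemeι := ⟨_, rfl⟩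
    rw [Scheme.IdealSheafData.range_subschemeι] at this
    exact this
  obtain ⟨U, hU, hxU, rs, hK, hker⟩ := h𝓘 _ hx
  have hne0 : Ideal.ofList rs ≠ ⊤ :=
    hker ▸ ideal_ne_top_of_mem_support 𝓘 ⟨U, hU⟩ _ hxU hx
  have sq0 := isPullback_morphismRestrict b U
  have sq1 : IsPullback hU.isoSpec.hom U.ι hU.fromSpec (𝟙 X) :=
    IsPullback.of_horiz_isIso ⟨by rw [hU.isoSpec_hom_fromSpec, Category.comp_id]⟩
  have sq : IsPullback ((b ∣_ U) ≫ hU.isoSpec.hom) (b ⁻¹ᵁ U).ι hU.fromSpec b := by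
    have := sq0.paste_horiz sq1
    rwa [Category.comp_id] at this
  have hbU := isBlowUp_of_isPullback b 𝓘 hb hU.fromSpec _ _ sq
  rw [comap_fromSpec_eq_idl, hker] at hbU
  have hyU : pullback.fst b 𝓘.subschemeι z ∈ b ⁻¹ᵁ U := by
    show b (pullback.fst b 𝓘.subschemeι z) ∈ U
    rw [hcond]
    exact hxU
  obtain ⟨a, ha, hya⟩ := BlowCov.exists_mem_W (Ideal.ofList rs) _ {x | x ∈ rs} rfl hbU.1
    (⟨pullback.fst b 𝓘.subschemeι z, hyU⟩ : ↥(b ⁻¹ᵁ U))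
  obtain ⟨s, t, rfl⟩ := List.append_of_mem ha
  have hperm : (s ++ a :: t).Perm (a :: (s ++ t)) := List.perm_middle
  have hid : Ideal.ofList (s ++ a :: t) = Ideal.ofList (a :: (s ++ t)) := ofList_perm hperm
  have hKp := kreg_of_perm hperm hK
  have hnep : Ideal.ofList (a :: (s ++ t)) ≠ ⊤ := hid ▸ hne0
  rw [hid] at hbU hya hker
  obtain ⟨κ, hκ, hoi, hr⟩ := BlowCov.exists_chart (Ideal.ofList (a :: (s ++ t))) a _
    (Ideal.subset_span List.mem_cons_self) hbU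
  haveI := hoi
  have hψa : Ideal.Quotient.mk (𝓘.ideal ⟨U, hU⟩) a = 0 := by
    rw [Ideal.Quotient.eq_zero_iff_mem, hker]
    exact Ideal.subset_span List.mem_cons_self
  have hψl : ∀ r ∈ (s ++ t).map (Ideal.Quotient.mk (𝓘.ideal ⟨U, hU⟩)), r = 0 := by
    intro r hr
    obtain ⟨r0, hr0, rfl⟩ := List.mem_map.mp hr
    rw [Ideal.Quotient.eq_zero_iff_mem, hker]
    exact Ideal.subset_span (List.mem_cons_of_mem _ hr0)
  obtain ⟨iV, hiV⟩ : ∃ iV : Spec (CommRingCat.of (Γ(X, U) ⧸ 𝓘.ideal ⟨U, hU⟩)) ⟶ 𝓘.subscheme,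
      iV = 𝓘.subschemeCover.f ⟨U, hU⟩ := ⟨_, rfl⟩
  have hUV : Spec.map (CommRingCat.ofHom (Ideal.Quotient.mk (𝓘.ideal ⟨U, hU⟩))) ≫ hU.fromSpec =
      iV ≫ 𝓘.subschemeι := by
    have h1 := Scheme.IdealSheafData.subschemeCover_map_subschemeι 𝓘 ⟨U, hU⟩
    rw [Scheme.IdealSheafData.glueDataObjι_ι] at h1
    rw [hiV]
    exact h1.symm
  haveI : IsOpenImmersion iV := by
    rw [hiV]
    exact 𝓘.subschemeCover.map_prop ⟨U, hU⟩
  obtain ⟨j, hjo, hj2, hzj⟩ := chart (Ideal.Quotient.mk (𝓘.ideal ⟨U, hU⟩)) a (s ++ t) hKp hnep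
    𝓘.subschemeι b hU.fromSpec iV hUV (κ ≫ (b ⁻¹ᵁ U).ι)
    (by
      rw [Category.assoc, ← morphismRestrict_ι, ← hU.isoSpec_hom_fromSpec, ← hκ]
      simp only [Category.assoc]) z
    (by
      have hmem : (⟨pullback.fst b 𝓘.subschemeι z, hyU⟩ : ↥(b ⁻¹ᵁ U)) ∈ Set.range κ := by
        rw [hr]
        exact hya
      obtain ⟨c, hc⟩ := hmem
      exact ⟨c, by rw [Scheme.Hom.comp_apply, hc]; rfl⟩)
    (by
      have h1 : pullback.snd b 𝓘.subschemeι z ∈ (𝓘.subschemeCover.f ⟨U, hU⟩).opensRange := by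
        rw [Scheme.IdealSheafData.opensRange_subschemeCover_map]
        exact hxU
      rw [hiV]
      exact h1)
  refine ⟨_, j, hjo, hzj, ?_⟩
  rw [hj2]
  haveI : Smooth (Spec.map (CommRingCat.ofHom (algebraMap (Γ(X, U) ⧸ 𝓘.ideal ⟨U, hU⟩)
      (Qt (Γ(X, U) ⧸ 𝓘.ideal ⟨U, hU⟩) (Ideal.Quotient.mk (𝓘.ideal ⟨U, hU⟩) a)
        ((s ++ t).map (Ideal.Quotient.mk (𝓘.ideal ⟨U, hU⟩))))))) := by
    rw [HasRingHomProperty.Spec_iff (P := @Smooth)]
    exact smooth_Qt _ _ hψa hψl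
  infer_instance

theorem smooth_snd_k {X X' : Scheme.{u}} (𝓘 : X.IdealSheafData)
    (h𝓘 : ∀ x ∈ 𝓘.support, ∃ (U : X.Opens) (hU : IsAffineOpen U), x ∈ U ∧
      ∃ rs : List Γ(X, U), LCI.IsKoszulRegularSeq Γ(X, U) rs ∧
        𝓘.ideal ⟨U, hU⟩ = Ideal.ofList rs)
    (b : X' ⟶ X) (hb : BlowUp.IsBlowUp b 𝓘) : Smooth (pullback.snd b 𝓘.subschemeι) := by
  have H := exists_smooth_chart_k 𝓘 h𝓘 b hb
  choose T j hoi hz hs using H
  let 𝒰 : (pullback b 𝓘.subschemeι).OpenCover :=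
    Scheme.Cover.mkOfCovers _ T j (fun z => ⟨z, hz z⟩) hoi
  exact IsZariskiLocalAtSource.of_openCover (P := @Smooth) 𝒰 (fun z => hs z)

end exc

theorem main9787 {Z X X' S : Scheme.{u}} (q : X ⟶ S) [Smooth q] (i : Z ⟶ X)
    [IsClosedImmersion i] [Smooth (i ≫ q)] (b : X' ⟶ X) (hb : BlowUp.IsBlowUp b i.ker) :
    Smooth (b ≫ q) ∧ Smooth ((BlowUp.exceptional b i.ker).subschemeι ≫ b ≫ q) := by
  have hloc := hloc_of_smooth_pair q i
  refine ⟨smooth_total i.ker q hloc b hb, ?_⟩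
  have h𝓘 : ∀ x ∈ i.ker.support, ∃ (U : X.Opens) (hU : IsAffineOpen U), x ∈ U ∧
      ∃ rs : List Γ(X, U), LCI.IsKoszulRegularSeq Γ(X, U) rs ∧
        i.ker.ideal ⟨U, hU⟩ = Ideal.ofList rs := by
    intro x hx
    obtain ⟨U, hU, V, hV, hUV, hxU, rs, hK, hker, -, -⟩ := hloc x hx
    exact ⟨U, hU, hxU, rs, hK, hker⟩
  haveI hS : Smooth (pullback.snd b i.ker.subschemeι) := smooth_snd_k i.ker h𝓘 b hb
  have hι : i.ker.subschemeι = inv i.toImage ≫ i := by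
    rw [IsIso.eq_inv_comp]
    exact i.toImage_imageι
  have h5 : i.ker.subschemeι ≫ q = inv i.toImage ≫ i ≫ q := by
    rw [← Category.assoc, ← hι]
  haveI hS2 : Smooth (i.ker.subschemeι ≫ q) := by
    rw [h5]
    infer_instance
  have key : (i.ker.comap b).subschemeι ≫ b ≫ q =
      (i.ker.comapIso b).hom ≫ pullback.snd b i.ker.subschemeι ≫ i.ker.subschemeι ≫ q := by
    rw [← Scheme.IdealSheafData.comapIso_hom_fst, Category.assoc,
      ← Category.assoc (pullback.fst _ _), pullback.condition, Category.assoc]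
  show Smooth ((i.ker.comap b).subschemeι ≫ b ≫ q)
  rw [key]
  infer_instance

end Groth.Agent.Lib.BlowSmoothSch
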