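import Groth.Agent.Lib.TorLES_helper5

/-!
# The connecting map of `Tor` in the first variable, natural in the second variable (helper5)

For a short exact sequence `S : 0 → X₁ → X₂ → X₃ → 0` (first variable) we define
`torδ S hS n Y : Tor_{n+1}(X₃, Y) ⟶ Tor_n(X₁, Y)`, show that it is natural in `Y`
(`torδ_naturality`, `torδNat`), mono/epi/iso under the usual vanishing, and exact at `Tor_n(X₁,Y)`.
-/

set_option autoImplicit false
universe u
open CategoryTheory CategoryTheory.Limits MonoidalCategory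

namespace Groth.Agent.TorNat

open Groth.Agent.TorLES

variable {R : Type u} [CommRing R]

lemma scCX_f (S : ShortComplex (ModuleCat.{u} R)) (C : ChainComplex (ModuleCat.{u} R) ℕ) :
    (scCX S C).f = cxMap S.f C := rfl

lemma scCX_g (S : ShortComplex (ModuleCat.{u} R)) (C : ChainComplex (ModuleCat.{u} R) ℕ) :
    (scCX S C).g = cxMap S.g C := rfl

/-- `X ⊗ φ`. -/
noncomputable abbrev cxMapR (X : ModuleCat.{u} R) {C C' : ChainComplex (ModuleCat.{u} R) ℕ}
    (φ : C ⟶ C') : CX X C ⟶ CX X C' :=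
  (((tensoringLeft (ModuleCat.{u} R)).obj X).mapHomologicalComplex _).map φ

/-- the morphism of short complexes of complexes induced by `φ : C ⟶ C'`. -/
noncomputable def scCXMap (S : ShortComplex (ModuleCat.{u} R))
    {C C' : ChainComplex (ModuleCat.{u} R) ℕ} (φ : C ⟶ C') : scCX S C ⟶ scCX S C' where
  τ₁ := cxMapR S.X₁ φ
  τ₂ := cxMapR S.X₂ φ
  τ₃ := cxMapR S.X₃ φ
  comm₁₂ := by
    apply HomologicalComplex.hom_ext
    intro i
    rw [HomologicalComplex.comp_f, HomologicalComplex.comp_f, scCX_f, scCX_f, cxMap_f, cxMap_f,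
      Functor.mapHomologicalComplex_map_f, Functor.mapHomologicalComplex_map_f]
    exact whisker_exchange S.f (φ.f i)
  comm₂₃ := by
    apply HomologicalComplex.hom_ext
    intro i
    rw [HomologicalComplex.comp_f, HomologicalComplex.comp_f, scCX_g, scCX_g, cxMap_f, cxMap_f,
      Functor.mapHomologicalComplex_map_f, Functor.mapHomologicalComplex_map_f]
    exact whisker_exchange S.g (φ.f i)

/-- `Tor_n(X, Y) ≅ H_n(X ⊗ P•(Y))` for the chosen resolution of `Y`. -/
noncomputable def torIsoH (X Y : ModuleCat.{u} R) (n : ℕ) :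
    ((Tor (ModuleCat.{u} R) n).obj X).obj Y ≅
      (CX X (ProjectiveResolution.of Y).complex).homology n :=
  (ProjectiveResolution.of Y).isoLeftDerivedObj ((tensoringLeft (ModuleCat.{u} R)).obj X) n

lemma torIsoH_hom_naturality (X : ModuleCat.{u} R) {Y Y' : ModuleCat.{u} R} (f : Y ⟶ Y')
    (n : ℕ) :
    ((Tor (ModuleCat.{u} R) n).obj X).map f ≫ (torIsoH X Y' n).hom =
      (torIsoH X Y n).hom ≫ HomologicalComplex.homologyMap (cxMapR X
        (ProjectiveResolution.lift f (ProjectiveResolution.of Y) (ProjectiveResolution.of Y'))) n :=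
  ProjectiveResolution.isoLeftDerivedObj_hom_naturality f _ _ _
    (ProjectiveResolution.lift_commutes_zero f _ _)
    ((tensoringLeft (ModuleCat.{u} R)).obj X) n

lemma torIsoH_inv_naturality (X : ModuleCat.{u} R) {Y Y' : ModuleCat.{u} R} (f : Y ⟶ Y')
    (n : ℕ) :
    (torIsoH X Y n).inv ≫ ((Tor (ModuleCat.{u} R) n).obj X).map f =
      HomologicalComplex.homologyMap (cxMapR X
        (ProjectiveResolution.lift f (ProjectiveResolution.of Y) (ProjectiveResolution.of Y'))) n ≫
        (torIsoH X Y' n).inv :=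
  ProjectiveResolution.isoLeftDerivedObj_inv_naturality f _ _ _
    (ProjectiveResolution.lift_commutes_zero f _ _)
    ((tensoringLeft (ModuleCat.{u} R)).obj X) n

/-- first-variable functoriality of `Tor` through `torIsoH`. -/
lemma tor_map_app_eq {X X' : ModuleCat.{u} R} (g : X ⟶ X') (Y : ModuleCat.{u} R) (n : ℕ) :
    ((Tor (ModuleCat.{u} R) n).map g).app Y =
      (torIsoH X Y n).hom ≫
        HomologicalComplex.homologyMap (cxMap g (ProjectiveResolution.of Y).complex) n ≫
        (torIsoH X' Y n).inv :=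
  ProjectiveResolution.leftDerived_app_eq ((tensoringLeft (ModuleCat.{u} R)).map g)
    (ProjectiveResolution.of Y) n

variable (S : ShortComplex (ModuleCat.{u} R)) (hS : S.ShortExact)

/-- the short exact sequence of complexes attached to `S` and the chosen resolution of `Y`. -/
lemma sE (hS : S.ShortExact) (Y : ModuleCat.{u} R) :
    (scCX S (ProjectiveResolution.of Y).complex).ShortExact :=
  scCX_shortExact S hS _ (flat_of_projRes Y _)

/-- the connecting map on homology. -/
noncomputable def δH (hS : S.ShortExact) (n : ℕ) (Y : ModuleCat.{u} R) :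
    (CX S.X₃ (ProjectiveResolution.of Y).complex).homology (n + 1) ⟶
      (CX S.X₁ (ProjectiveResolution.of Y).complex).homology n :=
  (sE S hS Y).δ (n + 1) n (by simp)

lemma δH_naturality (n : ℕ) {Y Y' : ModuleCat.{u} R} (f : Y ⟶ Y') :
    δH S hS n Y ≫ HomologicalComplex.homologyMap (cxMapR S.X₁
        (ProjectiveResolution.lift f (ProjectiveResolution.of Y) (ProjectiveResolution.of Y'))) n =
      HomologicalComplex.homologyMap (cxMapR S.X₃
        (ProjectiveResolution.lift f (ProjectiveResolution.of Y) (ProjectiveResolution.of Y')))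
        (n + 1) ≫ δH S hS n Y' :=
  HomologicalComplex.HomologySequence.δ_naturality
    (scCXMap S (ProjectiveResolution.lift f (ProjectiveResolution.of Y)
      (ProjectiveResolution.of Y'))) (sE S hS Y) (sE S hS Y') (n + 1) n (by simp)

lemma δH_comp (n : ℕ) (Y : ModuleCat.{u} R) :
    δH S hS n Y ≫
      HomologicalComplex.homologyMap (cxMap S.f (ProjectiveResolution.of Y).complex) n = 0 :=
  (sE S hS Y).δ_comp (n + 1) n (by simp)

lemma δH_exact (n : ℕ) (Y : ModuleCat.{u} R)
    (y : (CX S.X₁ (ProjectiveResolution.of Y).complex).homology n)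
    (hy : HomologicalComplex.homologyMap (cxMap S.f (ProjectiveResolution.of Y).complex) n y = 0) :
    ∃ z, δH S hS n Y z = y :=
  (ShortComplex.moduleCat_exact_iff _).mp
    ((sE S hS Y).homology_exact₁ (n + 1) n (by simp)) y hy

lemma mono_δH (n : ℕ) (Y : ModuleCat.{u} R)
    (h2 : IsZero (((Tor (ModuleCat.{u} R) (n + 1)).obj S.X₂).obj Y)) : Mono (δH S hS n Y) := by
  rw [isZero_tor_iff Y _ (ProjectiveResolution.of Y)] at h2
  exact (sE S hS Y).mono_δ (n + 1) n (by simp) h2

lemma epi_δH (n : ℕ) (Y : ModuleCat.{u} R)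
    (h2 : IsZero (((Tor (ModuleCat.{u} R) n).obj S.X₂).obj Y)) : Epi (δH S hS n Y) := by
  rw [isZero_tor_iff Y _ (ProjectiveResolution.of Y)] at h2
  exact (sE S hS Y).epi_δ (n + 1) n (by simp) h2

/-- the connecting map `Tor_{n+1}(X₃, Y) ⟶ Tor_n(X₁, Y)`. -/
noncomputable def torδ (hS : S.ShortExact) (n : ℕ) (Y : ModuleCat.{u} R) :
    ((Tor (ModuleCat.{u} R) (n + 1)).obj S.X₃).obj Y ⟶ ((Tor (ModuleCat.{u} R) n).obj S.X₁).obj Y :=
  (torIsoH S.X₃ Y (n + 1)).hom ≫ δH S hS n Y ≫ (torIsoH S.X₁ Y n).inv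

lemma torδ_naturality (n : ℕ) {Y Y' : ModuleCat.{u} R} (f : Y ⟶ Y') :
    ((Tor (ModuleCat.{u} R) (n + 1)).obj S.X₃).map f ≫ torδ S hS n Y' =
      torδ S hS n Y ≫ ((Tor (ModuleCat.{u} R) n).obj S.X₁).map f := by
  unfold torδ
  rw [reassoc_of% (torIsoH_hom_naturality S.X₃ f (n + 1)), Category.assoc, Category.assoc,
    torIsoH_inv_naturality S.X₁ f n, reassoc_of% (δH_naturality S hS n f)]

/-- `torδ` as a natural transformation in the second variable. -/
noncomputable def torδNat (hS : S.ShortExact) (n : ℕ) :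
    (Tor (ModuleCat.{u} R) (n + 1)).obj S.X₃ ⟶ (Tor (ModuleCat.{u} R) n).obj S.X₁ where
  app Y := torδ S hS n Y
  naturality _ _ f := torδ_naturality S hS n f

lemma mono_torδ (n : ℕ) (Y : ModuleCat.{u} R)
    (h2 : IsZero (((Tor (ModuleCat.{u} R) (n + 1)).obj S.X₂).obj Y)) : Mono (torδ S hS n Y) := by
  haveI := mono_δH S hS n Y h2
  unfold torδ
  infer_instance

lemma epi_torδ (n : ℕ) (Y : ModuleCat.{u} R)
    (h2 : IsZero (((Tor (ModuleCat.{u} R) n).obj S.X₂).obj Y)) : Epi (torδ S hS n Y) := by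
  haveI := epi_δH S hS n Y h2
  unfold torδ
  infer_instance

lemma isIso_torδ (n : ℕ) (Y : ModuleCat.{u} R)
    (h2 : IsZero (((Tor (ModuleCat.{u} R) (n + 1)).obj S.X₂).obj Y))
    (h2' : IsZero (((Tor (ModuleCat.{u} R) n).obj S.X₂).obj Y)) : IsIso (torδ S hS n Y) := by
  haveI := mono_torδ S hS n Y h2
  haveI := epi_torδ S hS n Y h2'
  exact isIso_of_mono_of_epi _

lemma torδ_comp (n : ℕ) (Y : ModuleCat.{u} R) :
    torδ S hS n Y ≫ ((Tor (ModuleCat.{u} R) n).map S.f).app Y = 0 := by
  unfold torδ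
  rw [tor_map_app_eq, Category.assoc, Category.assoc, Iso.inv_hom_id_assoc,
    reassoc_of% (δH_comp S hS n Y), zero_comp, comp_zero]

/-- exactness at `Tor_n(X₁, Y)`. -/
lemma exists_torδ_eq (n : ℕ) (Y : ModuleCat.{u} R)
    (y : ((Tor (ModuleCat.{u} R) n).obj S.X₁).obj Y)
    (hy : ((Tor (ModuleCat.{u} R) n).map S.f).app Y y = 0) :
    ∃ x, torδ S hS n Y x = y := by
  rw [tor_map_app_eq] at hy
  have hy1 : (torIsoH S.X₂ Y n).inv (HomologicalComplex.homologyMap
      (cxMap S.f (ProjectiveResolution.of Y).complex) n ((torIsoH S.X₁ Y n).hom y)) = 0 := hy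
  have hy2 : HomologicalComplex.homologyMap
      (cxMap S.f (ProjectiveResolution.of Y).complex) n ((torIsoH S.X₁ Y n).hom y) = 0 := by
    have := congrArg (torIsoH S.X₂ Y n).hom hy1
    rwa [map_zero, ← ConcreteCategory.comp_apply, Iso.inv_hom_id, ConcreteCategory.id_apply]
      at this
  obtain ⟨z, hz⟩ := δH_exact S hS n Y _ hy2
  refine ⟨(torIsoH S.X₃ Y (n + 1)).inv z, ?_⟩
  change (torIsoH S.X₁ Y n).inv (δH S hS n Y ((torIsoH S.X₃ Y (n + 1)).hom
    ((torIsoH S.X₃ Y (n + 1)).inv z))) = y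
  rw [← ConcreteCategory.comp_apply (torIsoH S.X₃ Y (n + 1)).inv, Iso.inv_hom_id,
    ConcreteCategory.id_apply, hz, ← ConcreteCategory.comp_apply, Iso.hom_inv_id,
    ConcreteCategory.id_apply]

end Groth.Agent.TorNat
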