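import Mathlib
import Groth.Agent.Lib.TorNat_helper5
import Groth.Agent.Lib.TorKoszul_helper5
import Groth.Agent.Lib.TorAcyc_helper6

/-!
# Uniform annihilation of `Tor_i(N, -)` for `i ≥ s` by a power of an element (helper2)

`TorKilled r N s`: there is `c` with `r ^ c` killing `Tor_i(N, Y)` for all `Y` and all `i ≥ s`.
Dévissage rules along short exact sequences in the first variable.
APPEND-ONLY once landed.
-/

set_option autoImplicit false
universe u
open CategoryTheory CategoryTheory.Limits MonoidalCategory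

namespace Groth.Agent.Lib.TorAnn

open Groth.Agent.TorLES Groth.Agent.TorNat

variable {A : Type u} [CommRing A]

/-- exactness of the long exact `Tor` sequence (first variable) at `Tor_{n+1}(X₃, Y)`. -/
lemma exists_map_eq_of_torδ_eq_zero (S : ShortComplex (ModuleCat.{u} A)) (hS : S.ShortExact)
    (n : ℕ) (Y : ModuleCat.{u} A)
    (z : ((Tor (ModuleCat.{u} A) (n + 1)).obj S.X₃).obj Y)
    (hz : torδ S hS n Y z = 0) :
    ∃ w : ((Tor (ModuleCat.{u} A) (n + 1)).obj S.X₂).obj Y,
      ((Tor (ModuleCat.{u} A) (n + 1)).map S.g).app Y w = z := by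
  have hz1 : (torIsoH S.X₁ Y n).inv (δH S hS n Y ((torIsoH S.X₃ Y (n + 1)).hom z)) = 0 := hz
  have hz2 : δH S hS n Y ((torIsoH S.X₃ Y (n + 1)).hom z) = 0 := by
    have := congrArg (torIsoH S.X₁ Y n).hom hz1
    rwa [map_zero, ← ConcreteCategory.comp_apply, Iso.inv_hom_id, ConcreteCategory.id_apply]
      at this
  obtain ⟨w', hw'⟩ := (ShortComplex.moduleCat_exact_iff _).mp
    ((sE S hS Y).homology_exact₃ (n + 1) n (by simp)) _ hz2
  have hw'' : HomologicalComplex.homologyMap
      (cxMap S.g (ProjectiveResolution.of Y).complex) (n + 1) w' =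
      (torIsoH S.X₃ Y (n + 1)).hom z := hw'
  refine ⟨(torIsoH S.X₂ Y (n + 1)).inv w', ?_⟩
  rw [tor_map_app_eq]
  change (torIsoH S.X₃ Y (n + 1)).inv (HomologicalComplex.homologyMap
    (cxMap S.g (ProjectiveResolution.of Y).complex) (n + 1)
      ((torIsoH S.X₂ Y (n + 1)).hom ((torIsoH S.X₂ Y (n + 1)).inv w'))) = z
  rw [← ConcreteCategory.comp_apply (torIsoH S.X₂ Y (n + 1)).inv, Iso.inv_hom_id,
    ConcreteCategory.id_apply, hw'', ← ConcreteCategory.comp_apply, Iso.hom_inv_id,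
    ConcreteCategory.id_apply]

/-- a power of `r` kills `Tor_i(N, Y)` for all `Y` and all `i ≥ s`, uniformly. -/
def TorKilled (r : A) (N : ModuleCat.{u} A) (s : ℕ) : Prop :=
  ∃ c : ℕ, ∀ (Y : ModuleCat.{u} A) (i : ℕ), s ≤ i →
    ∀ y : ((Tor (ModuleCat.{u} A) i).obj N).obj Y, r ^ c • y = 0

namespace TorKilled

variable {r : A}

lemma mono {N : ModuleCat.{u} A} {s s' : ℕ} (hs : s ≤ s') (h : TorKilled r N s) :
    TorKilled r N s' := by
  obtain ⟨c, hc⟩ := h
  exact ⟨c, fun Y i hi y => hc Y i (hs.trans hi) y⟩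

lemma of_iso {N N' : ModuleCat.{u} A} (e : N ≅ N') {s : ℕ} (h : TorKilled r N s) :
    TorKilled r N' s := by
  obtain ⟨c, hc⟩ := h
  refine ⟨c, fun Y i hi y => ?_⟩
  let f := ((Tor (ModuleCat.{u} A) i).mapIso e).app Y
  have h1 : f.hom (f.inv y) = y := by
    rw [← ConcreteCategory.comp_apply, Iso.inv_hom_id, ConcreteCategory.id_apply]
  rw [← h1, ← map_smul, hc Y i hi, map_zero]

lemma of_flat (N : ModuleCat.{u} A) [Module.Flat A N] : TorKilled r N 1 := by
  refine ⟨0, fun Y i hi y => ?_⟩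
  obtain ⟨n, rfl⟩ : ∃ n, i = n + 1 := ⟨i - 1, by omega⟩
  have hz : IsZero (((Tor (ModuleCat.{u} A) (n + 1)).obj N).obj Y) :=
    isZero_tor_succ_of_flat_left N Y n
  haveI := ModuleCat.isZero_iff_subsingleton.mp hz
  exact Subsingleton.elim _ _

lemma of_smul_eq_zero (N : ModuleCat.{u} A) (e : ℕ) (h : ∀ x : N, r ^ e • x = 0) :
    TorKilled r N 0 :=
  ⟨e, fun Y i _ y => Groth.Agent.Lib.TorAcyc_helper6.smul_tor_eq_zero N Y (r ^ e) h i y⟩

/-- the dévissage rule: in `0 → X₁ → X₂ → X₃ → 0`, from `X₁` (degrees `≥ s`) and `X₂`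
(degrees `≥ s+1`) to `X₃` (degrees `≥ s+1`). -/
theorem of_shortExact (S : ShortComplex (ModuleCat.{u} A)) (hS : S.ShortExact) (s : ℕ)
    (h1 : TorKilled r S.X₁ s) (h2 : TorKilled r S.X₂ (s + 1)) : TorKilled r S.X₃ (s + 1) := by
  obtain ⟨c1, h1⟩ := h1
  obtain ⟨c2, h2⟩ := h2
  refine ⟨c2 + c1, fun Y i hi y => ?_⟩
  obtain ⟨n, rfl⟩ : ∃ n, i = n + 1 := ⟨i - 1, by omega⟩
  have hn : s ≤ n := by omega
  have hδ : torδ S hS n Y (r ^ c1 • y) = 0 := by
    rw [map_smul]
    exact h1 Y n hn _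
  obtain ⟨w, hw⟩ := exists_map_eq_of_torδ_eq_zero S hS n Y _ hδ
  rw [pow_add, mul_smul, ← hw, ← map_smul, h2 Y (n + 1) hi, map_zero]

end TorKilled

section types

variable {N N'' : Type u} [AddCommGroup N] [Module A N] [AddCommGroup N''] [Module A N'']

/-- quotient by a submodule killed by a power of `r`. -/
theorem TorKilled.quot {r : A} (π : N →ₗ[A] N'') (hπ : Function.Surjective π) (e : ℕ)
    (hker : ∀ x : N, π x = 0 → r ^ e • x = 0) (s : ℕ)
    (h : TorKilled r (ModuleCat.of A N) (s + 1)) : TorKilled r (ModuleCat.of A N'') (s + 1) := by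
  have hex : Function.Exact (LinearMap.ker π).subtype π := by
    intro x
    constructor
    · intro hx
      exact ⟨⟨x, hx⟩, rfl⟩
    · rintro ⟨y, rfl⟩
      exact y.2
  have hS := mk_shortExact (LinearMap.ker π).subtype π (Submodule.subtype_injective _) hex hπ
  have h1 : TorKilled r (ModuleCat.of A (LinearMap.ker π)) s := by
    refine TorKilled.mono (Nat.zero_le s) (TorKilled.of_smul_eq_zero _ e ?_)
    intro x
    apply Subtype.ext
    exact hker x.1 x.2
  exact TorKilled.of_shortExact _ hS s h1 h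

/-- cokernel of an endomorphism whose kernel is killed by a power of `r`. -/
theorem TorKilled.coker {r : A} (φ : N →ₗ[A] N) (π : N →ₗ[A] N'')
    (hπ : Function.Surjective π) (hφπ : ∀ x : N, π x = 0 ↔ ∃ y, φ y = x) (e : ℕ)
    (hker : ∀ x : N, φ x = 0 → r ^ e • x = 0) (s : ℕ)
    (h : TorKilled r (ModuleCat.of A N) (s + 1)) :
    TorKilled r (ModuleCat.of A N'') (s + 2) := by
  -- first sequence: 0 → ker φ → N → range φ → 0
  have hR : TorKilled r (ModuleCat.of A (LinearMap.range φ)) (s + 1) :=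
    TorKilled.quot φ.rangeRestrict φ.surjective_rangeRestrict e (by
      intro x hx
      apply hker
      have := congrArg Subtype.val hx
      simpa using this) s h
  -- second sequence: 0 → range φ → N → N'' → 0
  have hex : Function.Exact (LinearMap.range φ).subtype π := by
    intro x
    constructor
    · intro hx
      obtain ⟨y, hy⟩ := (hφπ x).mp hx
      exact ⟨⟨x, ⟨y, hy⟩⟩, rfl⟩
    · rintro ⟨⟨y, ⟨z, rfl⟩⟩, rfl⟩
      exact (hφπ _).mpr ⟨z, rfl⟩
  have hS := mk_shortExact (LinearMap.range φ).subtype π (Submodule.subtype_injective _) hex hπ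
  exact TorKilled.of_shortExact _ hS (s + 1) hR (TorKilled.mono (Nat.le_succ _) h)

end types

end Groth.Agent.Lib.TorAnn
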