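import Mathlib
import Groth.Prelude.Def_DRing2
import Groth.Prelude.Def_BlowUp2
import Groth.Agent.Lib.TorAnn_helper2
import Groth.Agent.Lib.BlowPerf1_helper2

/-!
# `Tor_i^A(A[I/a], M)` is killed by a power of `I` for `i > ` number of further generators (helper2)

`A` Noetherian, `I = (a, l_1, …, l_n)`.  One relation at a time: `T/J_{k+1} = (T/J_k)/(a X_k - l_k)` with
`T = A[X_1..X_n]`, the annihilator of each relation being `a`-power torsion (seen after inverting `a`
and translating the variables), and `T/J_n → A[I/a]` is surjective with `a`-power torsion kernel.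
APPEND-ONLY once landed.
-/

set_option autoImplicit false
universe u
open CategoryTheory MvPolynomial

namespace Groth.Agent.Lib.BlowTor

open Groth.Agent.Lib.TorAnn Groth.Agent.Lib.BlowPerf

attribute [local instance] MvPolynomial.algebraMvPolynomial

section generic

lemma exists_pow_mul_eq_zero_of_fg {R : Type*} [CommRing R] (s : R) (N : Ideal R) (hN : N.FG)
    (h : ∀ y ∈ N, ∃ m : ℕ, s ^ m * y = 0) : ∃ m : ℕ, ∀ y ∈ N, s ^ m * y = 0 := by
  obtain ⟨S, rfl⟩ := hN
  choose! f hf using h
  refine ⟨S.sup f, fun y hy => ?_⟩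
  refine Submodule.span_induction ?_ ?_ ?_ ?_ hy
  · intro g hg
    have hle : f g ≤ S.sup f := Finset.le_sup hg
    obtain ⟨d, hd⟩ := Nat.exists_eq_add_of_le hle
    rw [hd, pow_add, mul_comm (s ^ f g), mul_assoc, hf g (Ideal.subset_span hg), mul_zero]
  · rw [mul_zero]
  · intro x y _ _ hx hy
    rw [mul_add, hx, hy, add_zero]
  · intro r x _ hx
    rw [smul_eq_mul, mul_left_comm, hx, mul_zero]

end generic

section ring

variable (A : Type u) [CommRing A] (a : A) (l : List A)

/-- `l_j / a` in the localisation -/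
noncomputable def cfrac (j : Fin l.length) : Localization.Away a :=
  IsLocalization.mk' (Localization.Away a) (l.get j)
    (⟨a, Submonoid.mem_powers a⟩ : Submonoid.powers a)

lemma a_mul_cfrac (j : Fin l.length) :
    algebraMap A (Localization.Away a) a * cfrac A a l j =
      algebraMap A (Localization.Away a) (l.get j) := by
  rw [mul_comm]
  exact IsLocalization.mk'_spec (Localization.Away a) (l.get j) ⟨a, Submonoid.mem_powers a⟩

/-- `1 / a` -/
noncomputable def ainv : Localization.Away a :=
  IsLocalization.mk' (Localization.Away a) (1 : A)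
    (⟨a, Submonoid.mem_powers a⟩ : Submonoid.powers a)

lemma ainv_mul : ainv A a * algebraMap A (Localization.Away a) a = 1 := by
  have := IsLocalization.mk'_spec (Localization.Away a) (1 : A)
    (⟨a, Submonoid.mem_powers a⟩ : Submonoid.powers a)
  rw [map_one] at this
  exact this

/-- translation `X_j ↦ X_j + l_j / a` -/
noncomputable def sig : MvPolynomial (Fin l.length) (Localization.Away a) →ₐ[Localization.Away a]
    MvPolynomial (Fin l.length) (Localization.Away a) :=
  aeval (fun j => X j + C (cfrac A a l j))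

/-- translation `X_j ↦ X_j - l_j / a` -/
noncomputable def tau : MvPolynomial (Fin l.length) (Localization.Away a) →ₐ[Localization.Away a]
    MvPolynomial (Fin l.length) (Localization.Away a) :=
  aeval (fun j => X j - C (cfrac A a l j))

lemma sig_X (j : Fin l.length) : sig A a l (X j) = X j + C (cfrac A a l j) := aeval_X _ _

lemma tau_X (j : Fin l.length) : tau A a l (X j) = X j - C (cfrac A a l j) := aeval_X _ _

lemma sig_C (r : Localization.Away a) : sig A a l (C r) = C r := by
  unfold sig
  rw [aeval_C]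
  rfl

lemma tau_C (r : Localization.Away a) : tau A a l (C r) = C r := by
  unfold tau
  rw [aeval_C]
  rfl

lemma tau_sig (p : MvPolynomial (Fin l.length) (Localization.Away a)) :
    tau A a l (sig A a l p) = p := by
  have h : (tau A a l).comp (sig A a l) = AlgHom.id _ _ := by
    apply MvPolynomial.algHom_ext
    intro j
    rw [AlgHom.comp_apply, sig_X, map_add, tau_X, tau_C, AlgHom.id_apply, sub_add_cancel]
  exact AlgHom.congr_fun h p

/-- the ideal of the first `k` relations -/
noncomputable def Jk (k : ℕ) : Ideal (MvPolynomial (Fin l.length) A) :=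
  Ideal.span (rel A a l '' {j | j.val < k})

/-- the ideal of the first `k` variables -/
noncomputable def Kk (k : ℕ) : Ideal (MvPolynomial (Fin l.length) (Localization.Away a)) :=
  Ideal.span (X '' {j : Fin l.length | j.val < k})

lemma psi_rel (j : Fin l.length) :
    MvPolynomial.map (algebraMap A (Localization.Away a)) (rel A a l j) =
      C (algebraMap A (Localization.Away a) a) * (X j - C (cfrac A a l j)) := by
  unfold rel
  rw [map_sub, map_mul, MvPolynomial.map_C, MvPolynomial.map_C, MvPolynomial.map_X, mul_sub,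
    ← C_mul, a_mul_cfrac]

lemma sig_psi_rel (j : Fin l.length) :
    sig A a l (MvPolynomial.map (algebraMap A (Localization.Away a)) (rel A a l j)) =
      C (algebraMap A (Localization.Away a) a) * X j := by
  rw [psi_rel, map_mul, map_sub, sig_C, sig_C, sig_X, add_sub_cancel_right]

lemma sig_psi_mem (k : ℕ) (y : MvPolynomial (Fin l.length) A) (hy : y ∈ Jk A a l k) :
    sig A a l (MvPolynomial.map (algebraMap A (Localization.Away a)) y) ∈ Kk A a l k := by
  have h : Ideal.map ((sig A a l).toRingHom.comp
      (MvPolynomial.map (algebraMap A (Localization.Away a)))) (Jk A a l k) ≤ Kk A a l k := by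
    unfold Jk
    rw [Ideal.map_span, Ideal.span_le]
    rintro _ ⟨_, ⟨j, hj, rfl⟩, rfl⟩
    show sig A a l (MvPolynomial.map (algebraMap A (Localization.Away a)) (rel A a l j)) ∈ _
    rw [sig_psi_rel]
    exact Ideal.mul_mem_left _ _ (Ideal.subset_span ⟨j, hj, rfl⟩)
  exact h (Ideal.mem_map_of_mem _ hy)

/-- key lemma: membership after localisation and translation gives membership up to a power of
`a`. -/
lemma exists_pow_mul_mem (k : ℕ) (y : MvPolynomial (Fin l.length) A)
    (hy : sig A a l (MvPolynomial.map (algebraMap A (Localization.Away a)) y) ∈ Kk A a l k) :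
    ∃ m : ℕ, C (a ^ m) * y ∈ Jk A a l k := by
  have h1 : algebraMap (MvPolynomial (Fin l.length) A)
      (MvPolynomial (Fin l.length) (Localization.Away a)) y ∈
      Ideal.map (algebraMap (MvPolynomial (Fin l.length) A)
        (MvPolynomial (Fin l.length) (Localization.Away a))) (Jk A a l k) := by
    have h2 : Ideal.map (tau A a l).toRingHom (Kk A a l k) ≤
        Ideal.map (algebraMap (MvPolynomial (Fin l.length) A)
          (MvPolynomial (Fin l.length) (Localization.Away a))) (Jk A a l k) := by
      unfold Kk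
      rw [Ideal.map_span, Ideal.span_le]
      rintro _ ⟨_, ⟨j, hj, rfl⟩, rfl⟩
      show tau A a l (X j) ∈ _
      have h3 : tau A a l (X j) = C (ainv A a) * algebraMap (MvPolynomial (Fin l.length) A)
          (MvPolynomial (Fin l.length) (Localization.Away a)) (rel A a l j) := by
        rw [MvPolynomial.algebraMap_def, psi_rel, ← mul_assoc, ← C_mul, ainv_mul, C_1, one_mul,
          tau_X]
      rw [h3]
      exact Ideal.mul_mem_left _ _ (Ideal.mem_map_of_mem _ (Ideal.subset_span ⟨j, hj, rfl⟩))
    have h4 := h2 (Ideal.mem_map_of_mem (tau A a l).toRingHom hy)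
    have h5 : (tau A a l).toRingHom
        (sig A a l (MvPolynomial.map (algebraMap A (Localization.Away a)) y)) =
        MvPolynomial.map (algebraMap A (Localization.Away a)) y := tau_sig A a l _
    rw [h5] at h4
    exact h4
  rw [IsLocalization.mem_map_algebraMap_iff
    ((Submonoid.powers a).map (C : A →+* MvPolynomial (Fin l.length) A))
    (MvPolynomial (Fin l.length) (Localization.Away a))] at h1
  obtain ⟨⟨⟨i, hi⟩, ⟨s, hs⟩⟩, h⟩ := h1
  obtain ⟨_, ⟨m, rfl⟩, rfl⟩ := hs
  have h3 : algebraMap (MvPolynomial (Fin l.length) A)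
      (MvPolynomial (Fin l.length) (Localization.Away a)) (y * C (a ^ m)) =
      algebraMap (MvPolynomial (Fin l.length) A)
        (MvPolynomial (Fin l.length) (Localization.Away a)) i := by
    rw [map_mul]
    exact h
  obtain ⟨⟨s', hs'⟩, h4⟩ := (IsLocalization.eq_iff_exists
    ((Submonoid.powers a).map (C : A →+* MvPolynomial (Fin l.length) A))
    (MvPolynomial (Fin l.length) (Localization.Away a))).mp h3
  obtain ⟨_, ⟨m', rfl⟩, rfl⟩ := hs'
  refine ⟨m' + m, ?_⟩
  have h6 : C (a ^ (m' + m)) * y = C (a ^ m') * i := by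
    rw [pow_add, C_mul, mul_assoc, mul_comm (C (a ^ m)) y]
    exact h4
  rw [h6]
  exact Ideal.mul_mem_left _ _ hi

/-- the annihilator of the `k`-th relation modulo the previous ones is `a`-power torsion. -/
lemma ann_torsion (k : Fin l.length) (y : MvPolynomial (Fin l.length) A)
    (hy : rel A a l k * y ∈ Jk A a l k.val) : ∃ m : ℕ, C (a ^ m) * y ∈ Jk A a l k.val := by
  apply exists_pow_mul_mem
  have h1 := sig_psi_mem A a l k.val _ hy
  rw [map_mul, map_mul, sig_psi_rel] at h1
  have h2 : X k * sig A a l (MvPolynomial.map (algebraMap A (Localization.Away a)) y) ∈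
      Kk A a l k.val := by
    have := Ideal.mul_mem_left _ (C (ainv A a)) h1
    rwa [← mul_assoc, ← mul_assoc, ← C_mul, ainv_mul, C_1, one_mul] at this
  unfold Kk at h2 ⊢
  rw [mem_ideal_span_X_image] at h2 ⊢
  intro m hm
  obtain ⟨i, hi, hne⟩ := h2 (Finsupp.single k 1 + m) (by
    rw [support_X_mul]
    exact Finset.mem_map_of_mem _ hm)
  refine ⟨i, hi, ?_⟩
  have hik : k ≠ i := by
    intro h
    rw [← h] at hi
    exact lt_irrefl _ (show k.val < k.val from hi)
  rwa [Finsupp.add_apply, Finsupp.single_apply, if_neg hik, zero_add] at hne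

lemma constantCoeff_sig_psi (y : MvPolynomial (Fin l.length) A) :
    constantCoeff (sig A a l (MvPolynomial.map (algebraMap A (Localization.Away a)) y)) =
      ((theta0 A a l y : ↥(BlowUp.affineAlgebra A (Ideal.ofList (a :: l)) a)) :
        Localization.Away a) := by
  have h : (constantCoeff.comp ((sig A a l).toRingHom.comp
      (MvPolynomial.map (algebraMap A (Localization.Away a))))) =
      ((BlowUp.affineAlgebra A (Ideal.ofList (a :: l)) a).val.toRingHom.comp
        (theta0 A a l).toRingHom) := by
    apply MvPolynomial.ringHom_ext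
    · intro r
      show constantCoeff (sig A a l (MvPolynomial.map (algebraMap A (Localization.Away a)) (C r))) =
        ((theta0 A a l (C r) : ↥(BlowUp.affineAlgebra A (Ideal.ofList (a :: l)) a)) :
          Localization.Away a)
      rw [MvPolynomial.map_C, sig_C, constantCoeff_C, theta0_C]
      rfl
    · intro j
      show constantCoeff (sig A a l (MvPolynomial.map (algebraMap A (Localization.Away a)) (X j))) =
        ((theta0 A a l (X j) : ↥(BlowUp.affineAlgebra A (Ideal.ofList (a :: l)) a)) :
          Localization.Away a)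
      rw [MvPolynomial.map_X, sig_X, map_add, constantCoeff_X, constantCoeff_C, zero_add,
        theta0_X]
      rfl
  exact RingHom.congr_fun h y

lemma ker_torsion (y : MvPolynomial (Fin l.length) A) (hy : theta0 A a l y = 0) :
    ∃ m : ℕ, C (a ^ m) * y ∈ Jk A a l l.length := by
  apply exists_pow_mul_mem
  unfold Kk
  rw [mem_ideal_span_X_image]
  intro m hm
  have hc : coeff 0 (sig A a l (MvPolynomial.map (algebraMap A (Localization.Away a)) y)) = 0 := by
    have := constantCoeff_sig_psi A a l y
    rw [hy] at this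
    rw [← constantCoeff_eq]
    exact this
  have hm0 : m ≠ 0 := by
    rintro rfl
    exact (mem_support_iff.mp hm) hc
  obtain ⟨i, hi⟩ : ∃ i, m i ≠ 0 := by
    by_contra h
    push_neg at h
    exact hm0 (Finsupp.ext h)
  exact ⟨i, i.isLt, hi⟩

lemma Jk_length : Jk A a l l.length = relIdeal A a l := by
  unfold Jk relIdeal
  have : {j : Fin l.length | j.val < l.length} = Set.univ := by
    ext j
    simp [j.isLt]
  rw [this, Set.image_univ]

lemma Jk_zero : Jk A a l 0 = ⊥ := by
  unfold Jk
  have : {j : Fin l.length | j.val < 0} = ∅ := by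
    ext j
    simp
  rw [this, Set.image_empty, Ideal.span_empty]

lemma Jk_succ (k : Fin l.length) :
    Jk A a l (k.val + 1) = Jk A a l k.val ⊔ Ideal.span {rel A a l k} := by
  unfold Jk
  have : {j : Fin l.length | j.val < k.val + 1} = {j | j.val < k.val} ∪ {k} := by
    ext j
    simp only [Set.mem_setOf_eq, Set.mem_union, Set.mem_singleton_iff, Fin.ext_iff]
    omega
  rw [this, Set.image_union, Set.image_singleton, Ideal.span_union]

lemma Jk_le_succ (k : Fin l.length) : Jk A a l k.val ≤ Jk A a l (k.val + 1) := by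
  rw [Jk_succ]
  exact le_sup_left

variable [IsNoetherianRing A]

lemma ann_uniform (k : Fin l.length) : ∃ e : ℕ,
    ∀ x : MvPolynomial (Fin l.length) A ⧸ Jk A a l k.val,
      Ideal.Quotient.mk (Jk A a l k.val) (rel A a l k) * x = 0 → a ^ e • x = 0 := by
  let N : Ideal (MvPolynomial (Fin l.length) A ⧸ Jk A a l k.val) :=
    LinearMap.ker (LinearMap.mulLeft (MvPolynomial (Fin l.length) A ⧸ Jk A a l k.val)
      (Ideal.Quotient.mk (Jk A a l k.val) (rel A a l k)))
  have hN : N.FG := IsNoetherian.noetherian N
  obtain ⟨e, he⟩ := exists_pow_mul_eq_zero_of_fg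
    (Ideal.Quotient.mk (Jk A a l k.val) (C a)) N hN (by
      intro y hy
      obtain ⟨y', rfl⟩ := Ideal.Quotient.mk_surjective y
      have hy1 : Ideal.Quotient.mk (Jk A a l k.val) (rel A a l k) *
          Ideal.Quotient.mk (Jk A a l k.val) y' = 0 := hy
      rw [← map_mul, Ideal.Quotient.eq_zero_iff_mem] at hy1
      obtain ⟨m, hm⟩ := ann_torsion A a l k y' hy1
      refine ⟨m, ?_⟩
      rw [← map_pow, ← map_mul, Ideal.Quotient.eq_zero_iff_mem, ← C_pow]
      exact hm)
  refine ⟨e, fun x hx => ?_⟩
  have h0 : a ^ e • x = algebraMap A (MvPolynomial (Fin l.length) A ⧸ Jk A a l k.val) (a ^ e) * x :=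
    Algebra.smul_def (a ^ e) x
  have h1 : algebraMap A (MvPolynomial (Fin l.length) A ⧸ Jk A a l k.val) (a ^ e) =
      (Ideal.Quotient.mk (Jk A a l k.val) (C a)) ^ e := by
    rw [← map_pow, ← C_pow]
    rfl
  rw [h0, h1]
  exact he x hx

lemma ker_uniform : ∃ e : ℕ, ∀ x : MvPolynomial (Fin l.length) A ⧸ relIdeal A a l,
    theta A a l x = 0 → a ^ e • x = 0 := by
  let N : Ideal (MvPolynomial (Fin l.length) A ⧸ relIdeal A a l) := RingHom.ker (theta A a l)
  have hN : N.FG := IsNoetherian.noetherian N
  obtain ⟨e, he⟩ := exists_pow_mul_eq_zero_of_fg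
    (Ideal.Quotient.mk (relIdeal A a l) (C a)) N hN (by
      intro y hy
      obtain ⟨y', rfl⟩ := Ideal.Quotient.mk_surjective y
      have hy1 : theta A a l (Ideal.Quotient.mk (relIdeal A a l) y') = 0 := hy
      rw [theta_mk] at hy1
      obtain ⟨m, hm⟩ := ker_torsion A a l y' hy1
      rw [Jk_length] at hm
      refine ⟨m, ?_⟩
      rw [← map_pow, ← map_mul, Ideal.Quotient.eq_zero_iff_mem, ← C_pow]
      exact hm)
  refine ⟨e, fun x hx => ?_⟩
  have h0 : a ^ e • x = algebraMap A (MvPolynomial (Fin l.length) A ⧸ relIdeal A a l) (a ^ e) * x :=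
    Algebra.smul_def (a ^ e) x
  have h1 : algebraMap A (MvPolynomial (Fin l.length) A ⧸ relIdeal A a l) (a ^ e) =
      (Ideal.Quotient.mk (relIdeal A a l) (C a)) ^ e := by
    rw [← map_pow, ← C_pow]
    rfl
  rw [h0, h1]
  exact he x hx

end ring

section tor

variable (A : Type u) [CommRing A] [IsNoetherianRing A] (a : A) (l : List A)

theorem torKilled_quot_Jk : ∀ k : ℕ, k ≤ l.length →
    TorKilled a (ModuleCat.of A (MvPolynomial (Fin l.length) A ⧸ Jk A a l k)) (k + 1)
  | 0, _ => by
      haveI : Module.Flat A (MvPolynomial (Fin l.length) A ⧸ Jk A a l 0) :=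
        Module.Flat.of_linearEquiv
          ((Submodule.quotEquivOfEqBot (Jk A a l 0) (Jk_zero A a l)).restrictScalars A)
      haveI : Module.Flat A ↑(ModuleCat.of A (MvPolynomial (Fin l.length) A ⧸ Jk A a l 0)) :=
        this
      exact TorKilled.of_flat _
  | k + 1, hk => by
      have ih := torKilled_quot_Jk k (by omega)
      let kk : Fin l.length := ⟨k, by omega⟩
      obtain ⟨e, he⟩ := ann_uniform A a l kk
      have hle : Jk A a l k ≤ Jk A a l (k + 1) := Jk_le_succ A a l kk
      refine TorKilled.coker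
        (φ := LinearMap.mulLeft A (Ideal.Quotient.mk (Jk A a l k) (rel A a l kk)))
        (π := (Ideal.Quotient.factorₐ A hle).toLinearMap) ?_ ?_ e ?_ k ih
      · intro x
        obtain ⟨x', rfl⟩ := Ideal.Quotient.mk_surjective x
        exact ⟨Ideal.Quotient.mk _ x', rfl⟩
      · intro x
        obtain ⟨x', rfl⟩ := Ideal.Quotient.mk_surjective x
        have hfac : (Ideal.Quotient.factorₐ A hle).toLinearMap (Ideal.Quotient.mk _ x') =
            Ideal.Quotient.mk (Jk A a l (k + 1)) x' := rfl
        rw [hfac, Ideal.Quotient.eq_zero_iff_mem]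
        constructor
        · intro hx
          rw [show Jk A a l (k + 1) = Jk A a l kk.val ⊔ Ideal.span {rel A a l kk} from
            Jk_succ A a l kk, Submodule.mem_sup] at hx
          obtain ⟨j, hj, z, hz, rfl⟩ := hx
          obtain ⟨w, rfl⟩ := Ideal.mem_span_singleton'.mp hz
          refine ⟨Ideal.Quotient.mk _ w, ?_⟩
          rw [LinearMap.mulLeft_apply, ← map_mul, eq_comm, Ideal.Quotient.eq]
          have : j + w * rel A a l kk - rel A a l kk * w = j := by ring
          rw [this]
          exact hj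
        · rintro ⟨y, hy⟩
          obtain ⟨y', rfl⟩ := Ideal.Quotient.mk_surjective y
          rw [LinearMap.mulLeft_apply, ← map_mul, Ideal.Quotient.eq] at hy
          have h1 : rel A a l kk * y' ∈ Jk A a l (k + 1) := by
            apply Ideal.mul_mem_right
            rw [show Jk A a l (k + 1) = Jk A a l kk.val ⊔ Ideal.span {rel A a l kk} from
              Jk_succ A a l kk]
            exact Ideal.mem_sup_right (Ideal.mem_span_singleton_self _)
          have h2 := (Jk A a l (k + 1)).sub_mem h1 (hle hy)
          rwa [sub_sub_cancel] at h2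
      · intro x hx
        exact he x hx

/-- `theta` as an `A`-linear map. -/
noncomputable def thetaLin : (MvPolynomial (Fin l.length) A ⧸ relIdeal A a l) →ₗ[A]
    ↥(BlowUp.affineAlgebra A (Ideal.ofList (a :: l)) a) where
  toFun := theta A a l
  map_add' := map_add _
  map_smul' r x := by
    have h0 : r • x = algebraMap A (MvPolynomial (Fin l.length) A ⧸ relIdeal A a l) r * x :=
      Algebra.smul_def r x
    rw [h0, map_mul, theta_algebraMap, RingHom.id_apply]
    exact (Algebra.smul_def r _).symm

theorem torKilled_affineAlgebra :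
    TorKilled a (ModuleCat.of A ↥(BlowUp.affineAlgebra A (Ideal.ofList (a :: l)) a))
      (l.length + 1) := by
  have h := torKilled_quot_Jk A a l l.length le_rfl
  rw [Jk_length] at h
  obtain ⟨e, he⟩ := ker_uniform A a l
  exact TorKilled.quot (thetaLin A a l) (theta_surjective A a l) e he l.length h

omit [IsNoetherianRing A] in
lemma exists_eq_pow_mul (I : Ideal A) : ∀ (c : ℕ) (x : A), x ∈ I ^ c →
    ∃ b : ↥(BlowUp.affineAlgebra A I a), algebraMap A ↥(BlowUp.affineAlgebra A I a) x =
      algebraMap A ↥(BlowUp.affineAlgebra A I a) (a ^ c) * b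
  | 0, x, _ => ⟨algebraMap A _ x, by rw [pow_zero, map_one, one_mul]⟩
  | c + 1, x, hx => by
      rw [pow_succ] at hx
      refine Submodule.mul_induction_on hx ?_ ?_
      · intro u hu v hv
        obtain ⟨b', hb'⟩ := exists_eq_pow_mul I c u hu
        refine ⟨b' * AffBlH8.gen I a v hv, ?_⟩
        rw [map_mul, hb', ← AffBlH8.a_mul_gen I a v hv, pow_succ, map_mul]
        ring
      · rintro u v ⟨b1, h1⟩ ⟨b2, h2⟩
        exact ⟨b1 + b2, by rw [map_add, h1, h2, mul_add]⟩

theorem main_list : ∃ c : ℕ, ∀ (M : Type u) [AddCommGroup M] [Module A M] (i : ℕ),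
    l.length + 1 ≤ i → ∀ x ∈ Ideal.ofList (a :: l) ^ c,
      ∀ y : DRing.Tor A i ↥(BlowUp.affineAlgebra A (Ideal.ofList (a :: l)) a) M, x • y = 0 := by
  obtain ⟨c, hc⟩ := torKilled_affineAlgebra A a l
  refine ⟨c, fun M _ _ i hi x hx y => ?_⟩
  obtain ⟨b, hb⟩ := exists_eq_pow_mul A a (Ideal.ofList (a :: l)) c x hx
  rw [← Groth.Agent.TorKoszul.tor_map_smul
    (ModuleCat.of A ↥(BlowUp.affineAlgebra A (Ideal.ofList (a :: l)) a)) (ModuleCat.of A M) x i y]
  have hfac : ModuleCat.ofHom (LinearMap.lsmul A
      ↥(BlowUp.affineAlgebra A (Ideal.ofList (a :: l)) a) x) =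
      ModuleCat.ofHom (LinearMap.mulLeft A b) ≫ ModuleCat.ofHom (LinearMap.lsmul A
        ↥(BlowUp.affineAlgebra A (Ideal.ofList (a :: l)) a) (a ^ c)) := by
    apply ModuleCat.hom_ext
    apply LinearMap.ext
    intro z
    show x • z = a ^ c • (b * z)
    rw [Algebra.smul_def, Algebra.smul_def, hb, mul_assoc]
  rw [hfac, Functor.map_comp, NatTrans.comp_app]
  show ((Tor (ModuleCat.{u} A) i).map (ModuleCat.ofHom (LinearMap.lsmul A
    ↥(BlowUp.affineAlgebra A (Ideal.ofList (a :: l)) a) (a ^ c)))).app (ModuleCat.of A M)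
      (((Tor (ModuleCat.{u} A) i).map (ModuleCat.ofHom (LinearMap.mulLeft A b))).app
        (ModuleCat.of A M) y) = 0
  have h2 := Groth.Agent.TorKoszul.tor_map_smul
    (ModuleCat.of A ↥(BlowUp.affineAlgebra A (Ideal.ofList (a :: l)) a)) (ModuleCat.of A M)
    (a ^ c) i (((Tor (ModuleCat.{u} A) i).map (ModuleCat.ofHom (LinearMap.mulLeft A b))).app
        (ModuleCat.of A M) y)
  exact h2.trans (hc _ i hi _)

theorem main8938 (t : ℕ) (a : Fin (t + 1) → A) :
    ∃ c : ℕ, ∀ (M : Type u) [AddCommGroup M] [Module A M] (i : ℕ), t + 1 ≤ i →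
      ∀ x ∈ Ideal.span (Set.range a) ^ c,
        ∀ y : DRing.Tor A i (BlowUp.affineAlgebra A (Ideal.span (Set.range a)) (a 0)) M,
          x • y = 0 := by
  have hI : Ideal.ofList (a 0 :: List.ofFn (fun j : Fin t => a j.succ)) =
      Ideal.span (Set.range a) := by
    unfold Ideal.ofList
    congr 1
    ext x
    simp only [List.mem_cons, List.mem_ofFn, Set.mem_setOf_eq, Set.mem_range]
    constructor
    · rintro (rfl | ⟨j, rfl⟩)
      · exact ⟨0, rfl⟩
      · exact ⟨j.succ, rfl⟩
    · rintro ⟨j, rfl⟩
      refine Fin.cases ?_ ?_ j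
      · exact Or.inl rfl
      · intro j
        exact Or.inr ⟨j, rfl⟩
  have h := main_list A (a 0) (List.ofFn (fun j : Fin t => a j.succ))
  rw [List.length_ofFn, hI] at h
  exact h

end tor

end Groth.Agent.Lib.BlowTor
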