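import Mathlib

/-!
# An algebraic lemma on integral extensions (towards pushouts along integral morphisms)
-/

namespace Groth.Agent.IntegralNbhd

universe u

/-- an element avoiding all primes over `𝔮` of an integral extension divides an element of
`B ∖ 𝔮`. -/
theorem exists_mul_eq_of_avoid {B C : Type*} [CommRing B] [CommRing C] [Algebra B C]
    [Algebra.IsIntegral B C] (𝔮 : Ideal B) [𝔮.IsPrime] (c : C)
    (hc : ∀ 𝔓 : Ideal C, 𝔓.IsPrime → 𝔓.comap (algebraMap B C) = 𝔮 → c ∉ 𝔓) :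
    ∃ f : B, f ∉ 𝔮 ∧ ∃ c'' : C, c * c'' = algebraMap B C f := by
  by_contra hcon
  push Not at hcon
  have hdisj : Disjoint ((Ideal.span {c} : Ideal C) : Set C)
      (Submonoid.map (algebraMap B C) 𝔮.primeCompl : Set C) := by
    rw [Set.disjoint_left]
    rintro x hx ⟨f, hf, rfl⟩
    obtain ⟨c'', hc''⟩ := Ideal.mem_span_singleton'.mp hx
    exact hcon f hf c'' (by rw [mul_comm]; exact hc'')
  obtain ⟨𝔓₀, h𝔓₀, hle, hd⟩ := Ideal.exists_le_prime_disjoint _ _ hdisj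
  have hcomap : 𝔓₀.comap (algebraMap B C) ≤ 𝔮 := by
    intro f hf
    by_contra hfq
    exact Set.disjoint_left.mp hd hf ⟨f, hfq, rfl⟩
  obtain ⟨𝔓, h𝔓le, h𝔓, h𝔓q⟩ :=
    Ideal.exists_ideal_over_prime_of_isIntegral_of_isPrime 𝔮 𝔓₀ hcomap
  exact hc 𝔓 h𝔓 h𝔓q (h𝔓le (hle (Ideal.subset_span rfl)))

/-- finitely many elements generating the unit ideal after `ρ` have a combination avoiding all
primes over `𝔮` -/
theorem exists_avoid {B C A₀ : Type*} [CommRing B] [CommRing C] [CommRing A₀] [Algebra B C]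
    [Algebra.IsIntegral B C] (ρ : A₀ →+* C) (s : Finset A₀)
    (hs : Ideal.span (ρ '' (s : Set A₀)) = ⊤) (𝔮 : Ideal B) [𝔮.IsPrime] :
    ∃ g₀ ∈ Ideal.span (s : Set A₀), ∀ 𝔓 : Ideal C, 𝔓.IsPrime →
      𝔓.comap (algebraMap B C) = 𝔮 → ρ g₀ ∉ 𝔓 := by
  classical
  obtain ⟨B', hB'⟩ : ∃ B' : Subalgebra B C, B' = Algebra.adjoin B (ρ '' (s : Set A₀)) := ⟨_, rfl⟩
  haveI : Module.Finite B B' := by
    rw [hB']
    exact Module.Finite.iff_fg.mpr (fg_adjoin_of_finite (s.finite_toSet.image ρ)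
      (fun x _ => Algebra.IsIntegral.isIntegral x))
  have hfin : (𝔮.primesOver B').Finite := Algebra.QuasiFinite.finite_primesOver 𝔮
  haveI : Algebra.IsIntegral B' C := Algebra.IsIntegral.tower_top (R := B)
  have hmemB' : ∀ a ∈ s, ρ a ∈ B' := fun a ha => by
    rw [hB']
    exact Algebra.subset_adjoin ⟨a, ha, rfl⟩
  obtain ⟨Λ, hΛ⟩ : ∃ Λ : Subring A₀, Λ = B'.toSubring.comap ρ := ⟨_, rfl⟩
  have hΛmem0 : ∀ y : A₀, y ∈ Λ → ρ y ∈ B' := by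
    rw [hΛ]
    intro y hy
    exact hy
  have hΛmem : ∀ x : Λ, ρ x.1 ∈ B' := fun x => hΛmem0 x.1 x.2
  obtain ⟨ρ', hρ'⟩ : ∃ ρ' : Λ →+* B', ∀ x : Λ, (ρ' x : C) = ρ x.1 :=
    ⟨(ρ.comp Λ.subtype).codRestrict B' hΛmem, fun x => rfl⟩
  have hsΛ : ∀ a ∈ s, a ∈ Λ := fun a ha => by
    rw [hΛ]
    exact hmemB' a ha
  -- prime avoidance in Λ
  have hav : ∃ g' ∈ Ideal.span (Λ.subtype ⁻¹' (s : Set A₀)),
      ∀ 𝔫 ∈ 𝔮.primesOver B', g' ∉ Ideal.comap ρ' 𝔫 := by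
    by_contra hcon
    push Not at hcon
    have hsub : ((Ideal.span (Λ.subtype ⁻¹' (s : Set A₀)) : Ideal Λ) : Set Λ) ⊆
        ⋃ 𝔫 ∈ 𝔮.primesOver B', (Ideal.comap ρ' 𝔫 : Set Λ) := by
      intro g' hg'
      obtain ⟨𝔫, h𝔫, hmem⟩ := hcon g' hg'
      exact Set.mem_biUnion h𝔫 hmem
    obtain ⟨𝔫, h𝔫, hle⟩ := (Ideal.subset_union_prime_finite hfin (f := fun 𝔫 => Ideal.comap ρ' 𝔫)
      ⊥ ⊥ (fun 𝔫 h𝔫 _ _ => by
        haveI : 𝔫.IsPrime := h𝔫.1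
        exact Ideal.comap_isPrime ρ' 𝔫)).mp hsub
    haveI : 𝔫.IsPrime := h𝔫.1
    obtain ⟨𝔓, -, h𝔓, h𝔓𝔫⟩ := Ideal.exists_ideal_over_prime_of_isIntegral 𝔫 (⊥ : Ideal C) (by
      intro x hx
      have hx0 : algebraMap B' C x = 0 := hx
      have : x = 0 := Subtype.ext hx0
      rw [this]
      exact 𝔫.zero_mem)
    have hall : Ideal.span (ρ '' (s : Set A₀)) ≤ 𝔓 := by
      rw [Ideal.span_le]
      rintro _ ⟨a, ha, rfl⟩
      have h1 : (⟨a, hsΛ a ha⟩ : Λ) ∈ Ideal.comap ρ' 𝔫 :=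
        hle (Ideal.subset_span (show Λ.subtype ⟨a, hsΛ a ha⟩ ∈ (s : Set A₀) from ha))
      have h2 : ρ' ⟨a, hsΛ a ha⟩ ∈ 𝔫 := h1
      rw [← h𝔓𝔫] at h2
      have h3 : algebraMap B' C (ρ' ⟨a, hsΛ a ha⟩) ∈ 𝔓 := h2
      have h4 : algebraMap B' C (ρ' ⟨a, hsΛ a ha⟩) = ρ a := hρ' _
      rw [h4] at h3
      exact h3
    rw [hs] at hall
    exact h𝔓.ne_top (top_le_iff.mp hall)
  obtain ⟨g', hg', hg'av⟩ := hav
  refine ⟨g'.1, ?_, fun 𝔓 h𝔓 h𝔓q hmem => ?_⟩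
  · have h1 := Ideal.mem_map_of_mem Λ.subtype hg'
    rw [Ideal.map_span] at h1
    exact Ideal.span_mono (Set.image_preimage_subset _ _) h1
  · haveI := h𝔓
    have h𝔫 : 𝔓.comap (algebraMap B' C) ∈ 𝔮.primesOver B' := by
      refine ⟨Ideal.comap_isPrime _ _, ⟨?_⟩⟩
      rw [Ideal.under, Ideal.comap_comap, ← IsScalarTower.algebraMap_eq, h𝔓q]
    apply hg'av _ h𝔫
    show algebraMap B' C (ρ' g') ∈ 𝔓
    have h4 : algebraMap B' C (ρ' g') = ρ g'.1 := hρ' _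
    rw [h4]
    exact hmem

/-- combination of the two lemmas -/
theorem exists_combination {B C A₀ : Type*} [CommRing B] [CommRing C] [CommRing A₀]
    (φ : B →+* C) (hφ : φ.IsIntegral) (ρ : A₀ →+* C) (s : Finset A₀)
    (hs : Ideal.span (ρ '' (s : Set A₀)) = ⊤) (𝔮 : Ideal B) [𝔮.IsPrime] :
    ∃ g₀ ∈ Ideal.span (s : Set A₀), ∃ f : B, f ∉ 𝔮 ∧ ∃ c'' : C, ρ g₀ * c'' = φ f := by
  algebraize [φ]
  obtain ⟨g₀, hg₀, hav⟩ := exists_avoid (B := B) ρ s hs 𝔮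
  obtain ⟨f, hf, c'', hc''⟩ := exists_mul_eq_of_avoid 𝔮 (ρ g₀) hav
  exact ⟨g₀, hg₀, f, hf, c'', hc''⟩

end Groth.Agent.IntegralNbhd
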