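import Mathlib
import Groth.Agent.Lib.IntegralNbhd_helper5
import Groth.Agent.Lib.PrimeAvoidCoset_helper5

/-!
# Affine neighbourhoods adapted to a closed immersion and an integral morphism
-/

namespace Groth.Agent.IntegralNbhd

open CategoryTheory AlgebraicGeometry TopologicalSpace Opposite
open Groth.Agent.PrimeAvoidCoset

universe u

/-- basic opens of elements of an ideal span are covered by the basic opens of generators -/
theorem basicOpen_le_of_mem_span {Z : Scheme.{u}} {W₀ : Z.Opens} (hW₀ : IsAffineOpen W₀)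
    (t : Set Γ(Z, W₀)) (g : Γ(Z, W₀)) (hg : g ∈ Ideal.span t) (W : Z.Opens)
    (ht : ∀ a ∈ t, Z.basicOpen a ≤ W) : Z.basicOpen g ≤ W := by
  intro x hx
  have hxW₀ : x ∈ W₀ := Z.basicOpen_le g hx
  have h1 := (mem_basicOpen_iff hW₀ x hxW₀ g).mp hx
  have h2 : ¬ Ideal.span t ≤ (hW₀.primeIdealOf ⟨x, hxW₀⟩).asIdeal := fun hle => h1 (hle hg)
  rw [Ideal.span_le] at h2
  obtain ⟨a, hat, hax⟩ := Set.not_subset.mp h2
  exact ht a hat ((mem_basicOpen_iff hW₀ x hxW₀ a).mpr hax)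

theorem exists_affine_pair_integral {X Y Z : Scheme.{u}} (i : Z ⟶ X) [IsClosedImmersion i]
    (j : Z ⟶ Y) [IsIntegralHom j]
    (h : ∀ y : Y, ∃ U : X.Opens, IsAffineOpen U ∧ j ⁻¹' {y} ⊆ (i ⁻¹ᵁ U : Set ↑Z)) (y : Y) :
    ∃ (U : X.Opens) (V : Y.Opens), IsAffineOpen U ∧ IsAffineOpen V ∧ y ∈ V ∧
      i ⁻¹ᵁ U = j ⁻¹ᵁ V := by
  classical
  obtain ⟨U₀, hU₀, hfib⟩ := h y
  -- step 2 : the affine open V₀
  have hcl : IsClosed (j '' ((i ⁻¹ᵁ U₀ : Set Z)ᶜ)) :=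
    j.isClosedMap _ (i ⁻¹ᵁ U₀).isOpen.isClosed_compl
  have hy : y ∈ (j '' ((i ⁻¹ᵁ U₀ : Set Z)ᶜ))ᶜ := by
    rintro ⟨z, hz, rfl⟩
    exact hz (hfib rfl)
  obtain ⟨_, ⟨V₀, hV₀, rfl⟩, hyV₀, hV₀c⟩ := Y.isBasis_affineOpens.exists_subset_of_mem_open
    hy hcl.isOpen_compl
  have hWle : j ⁻¹ᵁ V₀ ≤ i ⁻¹ᵁ U₀ := by
    intro z hz
    by_contra hzU
    exact hV₀c hz ⟨z, hzU, rfl⟩
  have hA₀ : IsAffineOpen (i ⁻¹ᵁ U₀) := hU₀.preimage i
  have hW : IsAffineOpen (j ⁻¹ᵁ V₀) := hV₀.preimage j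
  -- step 4 : finitely many basic opens
  obtain ⟨T, hT⟩ : ∃ T : Set Γ(Z, i ⁻¹ᵁ U₀), T = {a | Z.basicOpen a ≤ j ⁻¹ᵁ V₀} := ⟨_, rfl⟩
  have hspan : Ideal.span ((Z.presheaf.map (homOfLE hWle).op).hom '' T) = ⊤ := by
    rw [← hW.self_le_iSup_basicOpen_iff]
    intro w hw
    obtain ⟨a, ha1, ha2⟩ := hA₀.exists_basicOpen_le (V := j ⁻¹ᵁ V₀) ⟨w, hw⟩ (hWle hw)
    rw [Opens.mem_iSup]
    refine ⟨⟨_, ⟨a, by rw [hT]; exact ha1, rfl⟩⟩, ?_⟩
    show w ∈ Z.basicOpen (Z.presheaf.map (homOfLE hWle).op a)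
    rw [Scheme.basicOpen_res]
    exact ⟨hw, ha2⟩
  obtain ⟨s', hs'sub, hs'span⟩ := (Ideal.span_eq_top_iff_finite _).mp hspan
  obtain ⟨t, htT, hts'⟩ := Finset.subset_set_image_iff.mp hs'sub
  have htspan : Ideal.span ((Z.presheaf.map (homOfLE hWle).op).hom '' (t : Set Γ(Z, i ⁻¹ᵁ U₀))) =
      ⊤ := by
    rw [← hs'span, ← hts', Finset.coe_image]
  -- step 5 : the algebraic lemma
  haveI : (hV₀.primeIdealOf ⟨y, hyV₀⟩).asIdeal.IsPrime := (hV₀.primeIdealOf ⟨y, hyV₀⟩).isPrime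
  obtain ⟨g₀, hg₀, f, hf, c'', hc''⟩ := exists_combination (j.app V₀).hom
    (IsIntegralHom.isIntegral_app j V₀ hV₀) (Z.presheaf.map (homOfLE hWle).op).hom t htspan
    (hV₀.primeIdealOf ⟨y, hyV₀⟩).asIdeal
  have hD_W : Z.basicOpen g₀ ≤ j ⁻¹ᵁ V₀ :=
    basicOpen_le_of_mem_span hA₀ _ g₀ hg₀ _ (fun a ha => by
      have := htT ha
      rw [hT] at this
      exact this)
  have hyf : y ∈ Y.basicOpen f := (mem_basicOpen_iff hV₀ y hyV₀ f).mpr hf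
  have hρg₀ : Z.basicOpen (Z.presheaf.map (homOfLE hWle).op g₀) = Z.basicOpen g₀ := by
    rw [Scheme.basicOpen_res]
    exact inf_eq_right.mpr hD_W
  have hφf_le : Z.basicOpen (j.app V₀ f) ≤ Z.basicOpen g₀ := by
    rw [← hρg₀]
    have h1 : Z.presheaf.map (homOfLE hWle).op g₀ * c'' = j.app V₀ f := hc''
    rw [← h1, Scheme.basicOpen_mul]
    exact inf_le_left
  -- step 6 : localization
  haveI := hA₀.isLocalization_basicOpen g₀
  obtain ⟨⟨x, m⟩, hxm⟩ := IsLocalization.surj (Submonoid.powers g₀)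
    (Z.presheaf.map (homOfLE hD_W).op (j.app V₀ f))
  obtain ⟨n, hn⟩ := m.2
  have hxm' : Z.presheaf.map (homOfLE hD_W).op (j.app V₀ f) *
      Z.presheaf.map (homOfLE (Z.basicOpen_le g₀)).op (m : Γ(Z, i ⁻¹ᵁ U₀)) =
      Z.presheaf.map (homOfLE (Z.basicOpen_le g₀)).op x := hxm
  have hunit : IsUnit (Z.presheaf.map (homOfLE (Z.basicOpen_le g₀)).op
      (m : Γ(Z, i ⁻¹ᵁ U₀))) := by
    rw [← hn]
    simp only
    rw [map_pow]
    exact (Z.toRingedSpace.isUnit_res_basicOpen g₀).pow n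
  -- the key equality of basic opens
  have hkey : Z.basicOpen (g₀ * x) = Z.basicOpen (j.app V₀ f) := by
    rw [Scheme.basicOpen_mul]
    have h1 : Z.basicOpen (Z.presheaf.map (homOfLE (Z.basicOpen_le g₀)).op x) =
        Z.basicOpen g₀ ⊓ Z.basicOpen x := Scheme.basicOpen_res _ _ _
    rw [← h1, ← hxm', Scheme.basicOpen_mul, Scheme.basicOpen_of_isUnit _ hunit,
      Scheme.basicOpen_res]
    rw [inf_comm (Z.basicOpen g₀), inf_assoc, inf_idem]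
    exact inf_eq_left.mpr hφf_le
  -- step 7
  obtain ⟨g, hg⟩ := Scheme.Hom.app_surjective i U₀ hU₀ (g₀ * x)
  refine ⟨X.basicOpen g, Y.basicOpen f, hU₀.basicOpen g, hV₀.basicOpen f, hyf, ?_⟩
  rw [Scheme.preimage_basicOpen, Scheme.preimage_basicOpen, hg, hkey]

end Groth.Agent.IntegralNbhd
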