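import Mathlib

/-!
# Fibre squares of commutative rings (elementwise form)

`FibSq π₁ π₂ q p` says that `P` is the fibre product `B ×_A A'` via `π₁ : P → B`, `π₂ : P → A'`.
We prove: localization at an element of `P` preserves fibre squares, lifting of ring maps,
and the description of `Spec P` as the union of the images of `Spec B` and `Spec A'` when
`p : A' → A` is surjective.
-/

open CategoryTheory Limits

namespace Groth.Agent.FibSqLib

universe u

/-- elementwise fibre square of commutative rings -/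
structure FibSq {P B A' A : Type*} [CommRing P] [CommRing B] [CommRing A'] [CommRing A]
    (π₁ : P →+* B) (π₂ : P →+* A') (q : B →+* A) (p : A' →+* A) : Prop where
  comm : ∀ x, q (π₁ x) = p (π₂ x)
  inj : ∀ x, π₁ x = 0 → π₂ x = 0 → x = 0
  surj : ∀ b a', q b = p a' → ∃ x, π₁ x = b ∧ π₂ x = a'

namespace FibSq

variable {P B A' A : Type*} [CommRing P] [CommRing B] [CommRing A'] [CommRing A]
  {π₁ : P →+* B} {π₂ : P →+* A'} {q : B →+* A} {p : A' →+* A}

theorem ext (sq : FibSq π₁ π₂ q p) (x y : P) (h1 : π₁ x = π₁ y) (h2 : π₂ x = π₂ y) : x = y := by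
  have := sq.inj (x - y) (by rw [map_sub, h1, sub_self]) (by rw [map_sub, h2, sub_self])
  exact sub_eq_zero.mp this

theorem surjective_fst (sq : FibSq π₁ π₂ q p) (hp : Function.Surjective p) :
    Function.Surjective π₁ := by
  intro b
  obtain ⟨a', ha'⟩ := hp (q b)
  obtain ⟨x, hx, _⟩ := sq.surj b a' ha'.symm
  exact ⟨x, hx⟩

theorem exists_lift (sq : FibSq π₁ π₂ q p) {R : Type*} [CommRing R] (γ : R →+* B) (φ : R →+* A')
    (h : ∀ r, q (γ r) = p (φ r)) :
    ∃ χ : R →+* P, (∀ r, π₁ (χ r) = γ r) ∧ (∀ r, π₂ (χ r) = φ r) := by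
  choose χ h1 h2 using fun r => sq.surj (γ r) (φ r) (h r)
  refine ⟨{ toFun := χ
            map_one' := sq.ext _ _ (by simp [h1]) (by simp [h2])
            map_mul' := fun x y => sq.ext _ _ (by simp [h1]) (by simp [h2])
            map_zero' := sq.ext _ _ (by simp [h1]) (by simp [h2])
            map_add' := fun x y => sq.ext _ _ (by simp [h1]) (by simp [h2]) }, h1, h2⟩

/-- a categorical pullback square of commutative rings is an elementwise fibre square -/
theorem of_isPullback {P B A' A : CommRingCat.{u}} {π₁ : P ⟶ B} {π₂ : P ⟶ A'} {q : B ⟶ A}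
    {p : A' ⟶ A} (h : IsPullback π₁ π₂ q p) : FibSq π₁.hom π₂.hom q.hom p.hom := by
  have h' := h.map (forget CommRingCat)
  refine ⟨fun x => ?_, fun x h1 h2 => ?_, fun b a' hba => ?_⟩
  · exact congr($(h.w) x)
  · exact Types.ext_of_isPullback h' (x₁ := x) (y₁ := (0 : P)) (by simpa using h1)
      (by simpa using h2)
  · exact Types.exists_of_isPullback h' b a' hba

/-- Localizing a fibre square at an element of `P` gives a fibre square. -/
theorem away (sq : FibSq π₁ π₂ q p) (k : P)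
    {Pk Bk A'k Ak : Type*} [CommRing Pk] [CommRing Bk] [CommRing A'k] [CommRing Ak]
    [Algebra P Pk] [Algebra B Bk] [Algebra A' A'k] [Algebra A Ak]
    [IsLocalization.Away k Pk] [IsLocalization.Away (π₁ k) Bk] [IsLocalization.Away (π₂ k) A'k]
    [IsLocalization.Away (q (π₁ k)) Ak]
    (π₁k : Pk →+* Bk) (π₂k : Pk →+* A'k) (qk : Bk →+* Ak) (pk : A'k →+* Ak)
    (h₁ : ∀ x, π₁k (algebraMap P Pk x) = algebraMap B Bk (π₁ x))
    (h₂ : ∀ x, π₂k (algebraMap P Pk x) = algebraMap A' A'k (π₂ x))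
    (h₃ : ∀ x, qk (algebraMap B Bk x) = algebraMap A Ak (q x))
    (h₄ : ∀ x, pk (algebraMap A' A'k x) = algebraMap A Ak (p x)) :
    FibSq π₁k π₂k qk pk := by
  have uP : IsUnit (algebraMap P Pk k) := IsLocalization.Away.algebraMap_isUnit k
  have uB : IsUnit (algebraMap B Bk (π₁ k)) := IsLocalization.Away.algebraMap_isUnit (π₁ k)
  have uA' : IsUnit (algebraMap A' A'k (π₂ k)) := IsLocalization.Away.algebraMap_isUnit (π₂ k)
  refine ⟨fun y => ?_, fun y hy1 hy2 => ?_, fun β α hβα => ?_⟩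
  · have : qk.comp π₁k = pk.comp π₂k := by
      apply IsLocalization.ringHom_ext (Submonoid.powers k)
      ext x
      simp [h₁, h₂, h₃, h₄, sq.comm]
    exact RingHom.congr_fun this y
  · obtain ⟨n, x, hx⟩ := IsLocalization.Away.surj k y
    have hB : algebraMap B Bk (π₁ x) = algebraMap B Bk 0 := by
      rw [← h₁, ← hx, map_mul, hy1, zero_mul, map_zero]
    have hA : algebraMap A' A'k (π₂ x) = algebraMap A' A'k 0 := by
      rw [← h₂, ← hx, map_mul, hy2, zero_mul, map_zero]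
    obtain ⟨m, hm⟩ := IsLocalization.Away.exists_of_eq (π₁ k) hB
    obtain ⟨m', hm'⟩ := IsLocalization.Away.exists_of_eq (π₂ k) hA
    have hkx : k ^ (m + m') * x = 0 := by
      apply sq.inj
      · have : π₁ (k ^ (m + m') * x) = (π₁ k) ^ m' * ((π₁ k) ^ m * π₁ x) := by
          simp only [map_mul, map_pow, pow_add]; ring
        rw [this, hm, mul_zero, mul_zero]
      · have : π₂ (k ^ (m + m') * x) = (π₂ k) ^ m * ((π₂ k) ^ m' * π₂ x) := by
          simp only [map_mul, map_pow, pow_add]; ring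
        rw [this, hm', mul_zero, mul_zero]
    have hx0 : algebraMap P Pk x = 0 := by
      have : algebraMap P Pk k ^ (m + m') * algebraMap P Pk x = 0 := by
        rw [← map_pow, ← map_mul, hkx, map_zero]
      exact ((uP.pow (m + m')).mul_right_eq_zero).mp this
    rw [hx0] at hx
    exact ((uP.pow n).mul_left_eq_zero).mp hx
  · obtain ⟨n, b, hb⟩ := IsLocalization.Away.surj (π₁ k) β
    obtain ⟨m, a, ha⟩ := IsLocalization.Away.surj (π₂ k) α
    have hc : p (π₂ k) = q (π₁ k) := (sq.comm k).symm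
    have hb1 : β * algebraMap B Bk (π₁ k) ^ (n + m) = algebraMap B Bk (b * (π₁ k) ^ m) := by
      rw [map_mul, map_pow, ← hb, pow_add]; ring
    have ha1 : α * algebraMap A' A'k (π₂ k) ^ (n + m) = algebraMap A' A'k (a * (π₂ k) ^ n) := by
      rw [map_mul, map_pow, ← ha, pow_add]; ring
    have hAk : algebraMap A Ak (q (b * (π₁ k) ^ m)) = algebraMap A Ak (p (a * (π₂ k) ^ n)) := by
      rw [← h₃, ← h₄, ← hb1, ← ha1, map_mul, map_mul, map_pow, map_pow, h₃, h₄, hβα, hc]
    obtain ⟨l, hl⟩ := IsLocalization.Away.exists_of_eq (q (π₁ k)) hAk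
    obtain ⟨x, hx1, hx2⟩ := sq.surj ((π₁ k) ^ l * (b * (π₁ k) ^ m)) ((π₂ k) ^ l * (a * (π₂ k) ^ n))
      (by rw [map_mul, map_mul p, map_pow, map_pow p, hc]; exact hl)
    refine ⟨IsLocalization.mk' Pk x (⟨k ^ (l + (n + m)), l + (n + m), rfl⟩ : Submonoid.powers k),
      ?_, ?_⟩
    · apply ((uB.pow (l + (n + m))).mul_left_inj).mp
      have e1 : π₁k (IsLocalization.mk' Pk x
          (⟨k ^ (l + (n + m)), l + (n + m), rfl⟩ : Submonoid.powers k)) *
          algebraMap B Bk (π₁ k) ^ (l + (n + m)) = algebraMap B Bk (π₁ x) := by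
        have hs := congrArg π₁k (IsLocalization.mk'_spec Pk x
          (⟨k ^ (l + (n + m)), l + (n + m), rfl⟩ : Submonoid.powers k))
        simpa only [map_mul, h₁, map_pow] using hs
      rw [e1, hx1, map_mul, map_pow, ← hb1, pow_add]; ring
    · apply ((uA'.pow (l + (n + m))).mul_left_inj).mp
      have e1 : π₂k (IsLocalization.mk' Pk x
          (⟨k ^ (l + (n + m)), l + (n + m), rfl⟩ : Submonoid.powers k)) *
          algebraMap A' A'k (π₂ k) ^ (l + (n + m)) = algebraMap A' A'k (π₂ x) := by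
        have hs := congrArg π₂k (IsLocalization.mk'_spec Pk x
          (⟨k ^ (l + (n + m)), l + (n + m), rfl⟩ : Submonoid.powers k))
        simpa only [map_mul, h₂, map_pow] using hs
      rw [e1, hx2, map_mul, map_pow, ← ha1, pow_add]; ring

/-- The concrete localized fibre square. -/
theorem exists_away (sq : FibSq π₁ π₂ q p) (k : P) :
    ∃ pk : Localization.Away (π₂ k) →+* Localization.Away (q (π₁ k)),
      (∀ x, pk (algebraMap A' _ x) = algebraMap A _ (p x)) ∧
      FibSq (Localization.awayMap π₁ k) (Localization.awayMap π₂ k)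
        (Localization.awayMap q (π₁ k)) pk := by
  haveI : IsLocalization.Away (p (π₂ k)) (Localization.Away (q (π₁ k))) := by
    rw [← sq.comm k]; infer_instance
  refine ⟨IsLocalization.Away.map (Localization.Away (π₂ k)) (Localization.Away (q (π₁ k))) p
    (π₂ k), fun x => IsLocalization.map_eq _ x, ?_⟩
  exact sq.away k _ _ _ _ (fun x => IsLocalization.map_eq _ x) (fun x => IsLocalization.map_eq _ x)
    (fun x => IsLocalization.map_eq _ x) (fun x => IsLocalization.map_eq _ x)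

/-- auxiliary: elements `(0, π₂ k₀ * a')` of `P` -/
theorem exists_zero_mul (sq : FibSq π₁ π₂ q p) {k₀ : P} (hk₀ : π₁ k₀ = 0) (a' : A') :
    ∃ t, π₁ t = 0 ∧ π₂ t = π₂ k₀ * a' := by
  apply sq.surj
  simp [← sq.comm k₀, hk₀]

/-- A prime of `P` not containing `ker π₁` is the contraction of a prime of `A'`. -/
theorem exists_comap_snd (sq : FibSq π₁ π₂ q p) (z : PrimeSpectrum P) {k₀ : P}
    (hk₀ : π₁ k₀ = 0) (hk₀z : k₀ ∉ z.asIdeal) :
    ∃ x : PrimeSpectrum A', PrimeSpectrum.comap π₂ x = z := by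
  have key : ∀ a' ∈ Ideal.map π₂ z.asIdeal, ∀ t, π₁ t = 0 → π₂ t = π₂ k₀ * a' → t ∈ z.asIdeal := by
    intro a' ha'
    unfold Ideal.map at ha'
    induction ha' using Submodule.span_induction with
    | mem a' ha' =>
      obtain ⟨z₁, hz₁, rfl⟩ := ha'
      intro t ht1 ht2
      have : t = k₀ * z₁ := sq.ext _ _ (by rw [ht1, map_mul, hk₀, zero_mul])
        (by rw [ht2, map_mul])
      rw [this]
      exact Ideal.mul_mem_left _ _ hz₁
    | zero =>
      intro t ht1 ht2
      have : t = 0 := sq.inj t ht1 (by rw [ht2, mul_zero])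
      rw [this]; exact zero_mem _
    | add a' b' _ _ iha ihb =>
      intro t ht1 ht2
      obtain ⟨t₁, ht₁1, ht₁2⟩ := sq.exists_zero_mul hk₀ a'
      obtain ⟨t₂, ht₂1, ht₂2⟩ := sq.exists_zero_mul hk₀ b'
      have : t = t₁ + t₂ := sq.ext _ _ (by rw [ht1, map_add, ht₁1, ht₂1, add_zero])
        (by rw [ht2, map_add, ht₁2, ht₂2, mul_add])
      rw [this]
      exact add_mem (iha t₁ ht₁1 ht₁2) (ihb t₂ ht₂1 ht₂2)
    | smul c a' _ iha =>
      intro t ht1 ht2
      obtain ⟨w, hw1, hw2⟩ := sq.exists_zero_mul hk₀ a'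
      obtain ⟨s, hs1, hs2⟩ := sq.exists_zero_mul hk₀ c
      have : k₀ * t = s * w := sq.ext _ _ (by rw [map_mul, map_mul, hk₀, hs1, zero_mul, zero_mul])
        (by rw [map_mul, map_mul, ht2, hs2, hw2, smul_eq_mul]; ring)
      have hmem : k₀ * t ∈ z.asIdeal := by
        rw [this]; exact Ideal.mul_mem_left _ _ (iha w hw1 hw2)
      exact (z.isPrime.mem_or_mem hmem).resolve_left hk₀z
  have hcm : (z.asIdeal.map π₂).comap π₂ = z.asIdeal := by
    refine le_antisymm (fun x hx => ?_) Ideal.le_comap_map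
    have hmem : k₀ * x ∈ z.asIdeal :=
      key (π₂ x) hx (k₀ * x) (by rw [map_mul, hk₀, zero_mul]) (by rw [map_mul])
    exact (z.isPrime.mem_or_mem hmem).resolve_left hk₀z
  obtain ⟨Q, hQ, hQeq⟩ := (Ideal.comap_map_eq_self_iff_of_isPrime z.asIdeal).mp hcm
  exact ⟨⟨Q, hQ⟩, PrimeSpectrum.ext hQeq⟩

/-- `Spec P` is the union of the images of `Spec B` and `Spec A'`. -/
theorem exists_comap_eq (sq : FibSq π₁ π₂ q p) (hp : Function.Surjective p)
    (z : PrimeSpectrum P) :
    (∃ y : PrimeSpectrum B, PrimeSpectrum.comap π₁ y = z) ∨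
    (∃ k₀ : P, π₁ k₀ = 0 ∧ k₀ ∉ z.asIdeal ∧ ∃ x : PrimeSpectrum A', PrimeSpectrum.comap π₂ x = z) := by
  by_cases hK : RingHom.ker π₁ ≤ z.asIdeal
  · left
    have : z ∈ Set.range (PrimeSpectrum.comap π₁) := by
      rw [range_comap_of_surjective _ _ (sq.surjective_fst hp)]
      exact hK
    exact this
  · right
    obtain ⟨k₀, hk₀, hk₀z⟩ := SetLike.not_le_iff_exists.mp hK
    exact ⟨k₀, hk₀, hk₀z, sq.exists_comap_snd z hk₀ hk₀z⟩

/-- neighbourhood lemma, case of a point coming from `Spec B` -/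
theorem exists_nhd_fst (sq : FibSq π₁ π₂ q p) (hp : Function.Surjective p)
    (Uf : Set (PrimeSpectrum A')) (Ug : Set (PrimeSpectrum B)) (hUf : IsOpen Uf) (hUg : IsOpen Ug)
    (hU : ∀ w : PrimeSpectrum A, PrimeSpectrum.comap q w ∈ Ug → PrimeSpectrum.comap p w ∈ Uf)
    (y : PrimeSpectrum B) (hy : y ∈ Ug) :
    ∃ k : P, k ∉ (PrimeSpectrum.comap π₁ y).asIdeal ∧
      (∀ x : PrimeSpectrum A', π₂ k ∉ x.asIdeal → x ∈ Uf) ∧
      (∀ y' : PrimeSpectrum B, π₁ k ∉ y'.asIdeal → y' ∈ Ug) := by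
  obtain ⟨_, ⟨b, rfl⟩, hyb, hbU⟩ :=
    PrimeSpectrum.isTopologicalBasis_basic_opens.exists_subset_of_mem_open hy hUg
  obtain ⟨s, hs⟩ := (PrimeSpectrum.isOpen_iff Uf).mp hUf
  have hrad : q b ∈ (Ideal.map p (Ideal.span s)).radical := by
    rw [Ideal.radical_eq_sInf, Ideal.mem_sInf]
    rintro J ⟨hJ, hJp⟩
    by_contra hqb
    have h1 : PrimeSpectrum.comap q ⟨J, hJp⟩ ∈ Ug := hbU (by
      show PrimeSpectrum.comap q ⟨J, hJp⟩ ∈ PrimeSpectrum.basicOpen b
      rw [PrimeSpectrum.mem_basicOpen]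
      exact hqb)
    have h2 := hU _ h1
    have h3 : PrimeSpectrum.comap p ⟨J, hJp⟩ ∈ Ufᶜ := by
      rw [hs, PrimeSpectrum.mem_zeroLocus]
      intro a ha
      exact Ideal.map_le_iff_le_comap.mp hJ (Ideal.subset_span ha)
    exact h3 h2
  obtain ⟨n, hn⟩ := hrad
  obtain ⟨j, hj, hjn⟩ := (Ideal.mem_map_iff_of_surjective p hp).mp hn
  obtain ⟨a'', ha''⟩ := hp (q b)
  obtain ⟨k, hk1, hk2⟩ := sq.surj (b ^ (n + 1)) (j * a'')
    (by rw [map_pow, pow_succ, map_mul, hjn, ha''])
  refine ⟨k, ?_, fun x hx => ?_, fun y' hy' => ?_⟩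
  · intro hk
    have : b ^ (n + 1) ∈ y.asIdeal := by rw [← hk1]; exact hk
    exact ((PrimeSpectrum.mem_basicOpen b y).mp hyb) (y.isPrime.mem_of_pow_mem _ this)
  · by_contra hxU
    have : x ∈ PrimeSpectrum.zeroLocus s := by rw [← hs]; exact hxU
    have hsx : Ideal.span s ≤ x.asIdeal := Ideal.span_le.mpr this
    apply hx
    rw [hk2]
    exact Ideal.mul_mem_right _ _ (hsx hj)
  · apply hbU
    show y' ∈ PrimeSpectrum.basicOpen b
    rw [PrimeSpectrum.mem_basicOpen]
    intro hb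
    apply hy'
    rw [hk1]
    exact Ideal.pow_mem_of_mem _ hb _ (Nat.succ_pos n)

/-- neighbourhood lemma, case of a point coming from `Spec A'` outside `Spec A` -/
theorem exists_nhd_snd (sq : FibSq π₁ π₂ q p)
    (Uf : Set (PrimeSpectrum A')) (hUf : IsOpen Uf) {k₀ : P} (hk₀ : π₁ k₀ = 0)
    (x : PrimeSpectrum A') (hx : x ∈ Uf) (hk₀x : k₀ ∉ (PrimeSpectrum.comap π₂ x).asIdeal) :
    ∃ k : P, k ∉ (PrimeSpectrum.comap π₂ x).asIdeal ∧
      (∀ x' : PrimeSpectrum A', π₂ k ∉ x'.asIdeal → x' ∈ Uf) ∧ π₁ k = 0 := by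
  obtain ⟨_, ⟨a', rfl⟩, hxa, haU⟩ :=
    PrimeSpectrum.isTopologicalBasis_basic_opens.exists_subset_of_mem_open hx hUf
  obtain ⟨k, hk1, hk2⟩ := sq.exists_zero_mul hk₀ a'
  refine ⟨k, ?_, fun x' hx' => ?_, hk1⟩
  · intro hk
    have hk' : π₂ k ∈ x.asIdeal := hk
    rw [hk2] at hk'
    rcases x.isPrime.mem_or_mem hk' with h | h
    · exact hk₀x h
    · exact ((PrimeSpectrum.mem_basicOpen a' x).mp hxa) h
  · apply haU
    show x' ∈ PrimeSpectrum.basicOpen a'
    rw [PrimeSpectrum.mem_basicOpen]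
    intro ha
    apply hx'
    rw [hk2]
    exact Ideal.mul_mem_left _ _ ha

/-- If `q` localized is bijective then so is `π₂` localized (used for open immersions). -/
theorem awayMap_snd_bijective (sq : FibSq π₁ π₂ q p) (k : P)
    (hq : Function.Bijective (Localization.awayMap q (π₁ k))) :
    Function.Bijective (Localization.awayMap π₂ k) := by
  constructor
  · rw [Localization.awayMap_injective_iff]
    intro x hx
    have h0 : q (π₁ x) = 0 := by rw [sq.comm, hx, map_zero]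
    obtain ⟨n, hn⟩ := (Localization.awayMap_injective_iff.mp hq.1) (π₁ x) h0
    refine ⟨n, sq.inj _ ?_ ?_⟩
    · rw [map_mul, map_pow]; exact hn
    · rw [map_mul, hx, mul_zero]
  · rw [Localization.awayMap_surjective_iff]
    intro a'
    obtain ⟨b, m, hb⟩ := (Localization.awayMap_surjective_iff.mp hq.2) (p a')
    obtain ⟨x, hx1, hx2⟩ := sq.surj b ((π₂ k) ^ m * a')
      (by rw [hb, map_mul, map_pow, ← sq.comm k])
    exact ⟨x, m, hx2⟩

end FibSq

end Groth.Agent.FibSqLib
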