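import Mathlib
import Groth.Agent.Lib.FibSq_helper5

/-!
# Sections of a pushout of ringed spaces

For a colimit cocone `t` of a span `F` of presheafed spaces (with values in commutative rings),
the sections of `t.pt` over an open `U` are the limit of the sections of the `F.obj j` over the
preimages of `U`: joint injectivity (`JointInj`) and gluing (`Glue`).
-/

namespace Groth.Agent.RSPushout

open CategoryTheory Limits AlgebraicGeometry TopologicalSpace Opposite

universe u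

section Step0

variable (F : WalkingSpan ⥤ PresheafedSpace.{_, _, u} CommRingCat.{u})

/-- joint injectivity of sections -/
def JointInj (t : Cocone F) : Prop :=
  ∀ (U : Opens t.pt) (s₁ s₂ : t.pt.presheaf.obj (op U)),
    (∀ j, (t.ι.app j).c.app (op U) s₁ = (t.ι.app j).c.app (op U) s₂) → s₁ = s₂

/-- gluing of sections -/
def Glue (t : Cocone F) : Prop :=
  ∀ (U : Opens t.pt)
    (a : ∀ j, (F.obj j).presheaf.obj (op ((Opens.map (t.ι.app j).base).obj U))),
    (∀ (j j' : WalkingSpan) (φ : j ⟶ j')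
      (hle : (Opens.map (t.ι.app j).base).obj U ≤
        (Opens.map (F.map φ).base).obj ((Opens.map (t.ι.app j').base).obj U)),
      (F.obj j).presheaf.map (homOfLE hle).op
        ((F.map φ).c.app (op ((Opens.map (t.ι.app j').base).obj U)) (a j')) = a j) →
    ∃ s : t.pt.presheaf.obj (op U), ∀ j, (t.ι.app j).c.app (op U) s = a j

/-- the cocone with legs `colimit.ι F j ≫ e.hom` -/
noncomputable def coconeOfIso {P : PresheafedSpace.{_, _, u} CommRingCat.{u}} (e : colimit F ≅ P) :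
    Cocone F where
  pt := P
  ι :=
    { app := fun j => colimit.ι F j ≫ e.hom
      naturality := fun j j' φ => by
        simp only [Functor.const_obj_obj, Functor.const_obj_map, Category.comp_id]
        rw [← Category.assoc, colimit.w] }

theorem jointInj_coconeOfIso {P : PresheafedSpace.{_, _, u} CommRingCat.{u}} (e : colimit F ≅ P) :
    JointInj F (coconeOfIso F e) := by
  intro U s₁ s₂ h
  haveI : IsIso e.hom.c := PresheafedSpace.c_isIso_of_iso e.hom
  haveI : IsIso (e.hom.c.app (op U)) := NatIso.isIso_app_of_isIso e.hom.c (op U)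
  have hinj : Function.Injective (e.hom.c.app (op U)) :=
    (ConcreteCategory.bijective_of_isIso (e.hom.c.app (op U))).injective
  apply hinj
  have hinj2 : Function.Injective
      (PresheafedSpace.colimitPresheafObjIsoComponentwiseLimit F
        ((Opens.map e.hom.base).obj U)).hom :=
    (ConcreteCategory.bijective_of_isIso _).injective
  apply hinj2
  refine Concrete.limit_ext _ _ _ fun k => ?_
  have hk : (PresheafedSpace.colimitPresheafObjIsoComponentwiseLimit F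
      ((Opens.map e.hom.base).obj U)).hom ≫ limit.π _ k =
      (colimit.ι F k.unop).c.app (op ((Opens.map e.hom.base).obj U)) :=
    PresheafedSpace.colimitPresheafObjIsoComponentwiseLimit_hom_π F _ k.unop
  have key : ∀ s : P.presheaf.obj (op U),
      limit.π (PresheafedSpace.componentwiseDiagram F ((Opens.map e.hom.base).obj U)) k
      ((PresheafedSpace.colimitPresheafObjIsoComponentwiseLimit F
        ((Opens.map e.hom.base).obj U)).hom (e.hom.c.app (op U) s)) =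
      ((coconeOfIso F e).ι.app k.unop).c.app (op U) s := by
    intro s
    rw [← ConcreteCategory.comp_apply, ← ConcreteCategory.comp_apply, hk]
    rfl
  rw [key, key]
  exact h k.unop

theorem glue_coconeOfIso {P : PresheafedSpace.{_, _, u} CommRingCat.{u}} (e : colimit F ≅ P) :
    Glue F (coconeOfIso F e) := by
  intro U a ha
  let D := PresheafedSpace.componentwiseDiagram F ((Opens.map e.hom.base).obj U)
  let x : (D ⋙ forget CommRingCat).sections :=
    ⟨fun k => a k.unop, by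
      intro k k' f
      have := ha k'.unop k.unop f.unop (eqToHom (by
        show _ = (Opens.map (F.map f.unop).base).obj _
        rw [← Opens.map_comp_obj]
        congr 2
        show (colimit.ι F k'.unop ≫ e.hom).base = (F.map f.unop).base ≫ (colimit.ι F k.unop ≫ e.hom).base
        rw [← PresheafedSpace.comp_base, ← Category.assoc, colimit.w])).le
      refine Eq.trans ?_ this
      show ((F.map f.unop).c.app _ ≫ (F.obj k'.unop).presheaf.map _) (a k.unop) = _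
      rw [ConcreteCategory.comp_apply]
      congr 2⟩
  let hl := isLimitOfPreserves (forget CommRingCat) (limit.isLimit D)
  let sL : ↑(limit D) := (Types.isLimitEquivSections hl).symm x
  have hsL : ∀ k, limit.π D k sL = a k.unop := fun k =>
    Types.isLimitEquivSections_symm_apply hl x k
  haveI : IsIso e.hom.c := PresheafedSpace.c_isIso_of_iso e.hom
  haveI : IsIso (e.hom.c.app (op U)) := NatIso.isIso_app_of_isIso e.hom.c (op U)
  refine ⟨inv (e.hom.c.app (op U))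
    ((PresheafedSpace.colimitPresheafObjIsoComponentwiseLimit F
      ((Opens.map e.hom.base).obj U)).inv sL), fun j => ?_⟩
  show (colimit.ι F j).c.app (op ((Opens.map e.hom.base).obj U))
    (e.hom.c.app (op U) (inv (e.hom.c.app (op U)) _)) = a j
  rw [← ConcreteCategory.comp_apply (inv (e.hom.c.app (op U))), IsIso.inv_hom_id,
    ConcreteCategory.id_apply, ← ConcreteCategory.comp_apply,
    PresheafedSpace.colimitPresheafObjIsoComponentwiseLimit_inv_ι_app]
  exact hsL (op j)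

theorem sections_of_isColimit (t : Cocone F) (ht : IsColimit t) : JointInj F t ∧ Glue F t := by
  have h_eq : coconeOfIso F (colimit.isoColimitCocone ⟨t, ht⟩) = t := by
    obtain ⟨pt, ι⟩ := t
    unfold coconeOfIso
    congr 1
    ext j : 2
    exact colimit.isoColimitCocone_ι_hom ⟨⟨pt, ι⟩, ht⟩ j
  have := (⟨jointInj_coconeOfIso F _, glue_coconeOfIso F _⟩ :
    JointInj F (coconeOfIso F (colimit.isoColimitCocone ⟨t, ht⟩)) ∧
      Glue F (coconeOfIso F (colimit.isoColimitCocone ⟨t, ht⟩)))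
  rw [h_eq] at this
  exact this

end Step0

section Schemes

theorem map_endo_apply {T : TopCat.{u}} (ℱ : T.Presheaf CommRingCat.{u}) (V : Opens T)
    (m : op V ⟶ op V) (x : ℱ.obj (op V)) : ℱ.map m x = x := by
  rw [Subsingleton.elim m (𝟙 _), ℱ.map_id]
  rfl

variable {X Z Z' X' : Scheme.{u}} (ι : Z ⟶ X) (q : Z ⟶ Z') (π : X ⟶ X') (ι' : Z' ⟶ X')

/-- the forgetful functor to sheafed spaces -/
abbrev G : Scheme.{u} ⥤ SheafedSpace CommRingCat.{u} :=
  Scheme.forgetToLocallyRingedSpace ⋙ LocallyRingedSpace.forgetToSheafedSpace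

variable (hpo : IsPushout (G.map ι) (G.map q) (G.map π) (G.map ι'))

include hpo in
theorem sections_inj (U' : X'.Opens) (s₁ s₂ : Γ(X', U')) (h1 : π.app U' s₁ = π.app U' s₂)
    (h2 : ι'.app U' s₁ = ι'.app U' s₂) : s₁ = s₂ := by
  have ht : IsColimit (SheafedSpace.forgetToPresheafedSpace.mapCocone hpo.cocone) :=
    isColimitOfPreserves SheafedSpace.forgetToPresheafedSpace hpo.isColimit
  obtain ⟨hJ, -⟩ := sections_of_isColimit _ _ ht
  refine hJ U' s₁ s₂ fun j => ?_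
  rcases j with _ | _ | _
  · show ι.app (π ⁻¹ᵁ U') (π.app U' s₁) = ι.app (π ⁻¹ᵁ U') (π.app U' s₂)
    rw [h1]
  · exact h1
  · exact h2

/-- the family of sections used for gluing -/
def fam (U' : X'.Opens) (a : Γ(X, π ⁻¹ᵁ U')) (b : Γ(Z', ι' ⁻¹ᵁ U')) :
    ∀ j : WalkingSpan, ((span (G.map ι) (G.map q) ⋙ SheafedSpace.forgetToPresheafedSpace).obj
      j).presheaf.obj (op ((Opens.map ((SheafedSpace.forgetToPresheafedSpace.mapCocone
        hpo.cocone).ι.app j).base).obj U'))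
  | none => ι.app (π ⁻¹ᵁ U') a
  | some .left => a
  | some .right => b

include hpo in
theorem sections_glue (U' : X'.Opens) (a : Γ(X, π ⁻¹ᵁ U')) (b : Γ(Z', ι' ⁻¹ᵁ U'))
    (hab : ∀ hle : ι ⁻¹ᵁ (π ⁻¹ᵁ U') ≤ q ⁻¹ᵁ (ι' ⁻¹ᵁ U'),
      Z.presheaf.map (homOfLE hle).op (q.app (ι' ⁻¹ᵁ U') b) = ι.app (π ⁻¹ᵁ U') a) :
    ∃ s : Γ(X', U'), π.app U' s = a ∧ ι'.app U' s = b := by
  have ht : IsColimit (SheafedSpace.forgetToPresheafedSpace.mapCocone hpo.cocone) :=
    isColimitOfPreserves SheafedSpace.forgetToPresheafedSpace hpo.isColimit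
  obtain ⟨-, hG⟩ := sections_of_isColimit _ _ ht
  obtain ⟨s, hs⟩ := hG U' (fam ι q π ι' hpo U' a b) (by
    intro j j' φ hle
    obtain ⟨φ', hφ⟩ : ∃ φ' : WidePushoutShape.Hom j j', φ = φ' := ⟨φ, rfl⟩
    revert hle
    rw [hφ]
    intro hle
    clear hφ φ
    cases φ' with
    | id j =>
      rcases j with _ | _ | _
      · refine Eq.trans (map_endo_apply _ _ _ _) ?_
        rfl
      · refine Eq.trans (map_endo_apply _ _ _ _) ?_
        rfl
      · refine Eq.trans (map_endo_apply _ _ _ _) ?_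
        rfl
    | init j =>
      rcases j with _ | _
      · refine Eq.trans (map_endo_apply _ _ _ _) ?_
        rfl
      · exact hab hle)
  exact ⟨s, hs (some .left), hs (some .right)⟩

end Schemes

section Algebra

theorem flat_of_injective_of_exact {R M N P : Type*} [CommRing R] [AddCommGroup M]
    [AddCommGroup N] [AddCommGroup P] [Module R M] [Module R N] [Module R P]
    (g : M →ₗ[R] N) (f : N →ₗ[R] P) (hg : Function.Injective g) (hf : Function.Surjective f)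
    (H : Function.Exact g f) [Module.Flat R N] [Module.Flat R P] : Module.Flat R M := by
  rw [Module.Flat.iff_rTensor_preserves_injective_linearMap]
  intro A B _ _ _ _ j hj
  rw [injective_iff_map_eq_zero]
  intro x hx
  have h1 : Function.Injective (g.lTensor A) :=
    LinearMap.lTensor_injective_of_exact_of_flat f hf g hg H A
  have h2 : Function.Injective (j.rTensor N) :=
    Module.Flat.rTensor_preserves_injective_linearMap j hj
  apply h1
  apply h2
  rw [map_zero, map_zero]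
  have : (j.rTensor N) ((g.lTensor A) x) = (g.lTensor B) ((j.rTensor M) x) := by
    rw [← LinearMap.comp_apply, ← LinearMap.comp_apply, LinearMap.rTensor_comp_lTensor,
      LinearMap.lTensor_comp_rTensor]
  rw [this, hx, map_zero]

theorem flat_prod {R M N : Type*} [CommRing R] [AddCommGroup M] [AddCommGroup N] [Module R M]
    [Module R N] [Module.Flat R M] [Module.Flat R N] : Module.Flat R (M × N) := by
  rw [Module.Flat.iff_rTensor_preserves_injective_linearMap]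
  intro A B _ _ _ _ j hj
  have hM : Function.Injective (j.rTensor M) :=
    Module.Flat.rTensor_preserves_injective_linearMap j hj
  have hN : Function.Injective (j.rTensor N) :=
    Module.Flat.rTensor_preserves_injective_linearMap j hj
  have hcomm : (TensorProduct.prodRight R R B M N).toLinearMap ∘ₗ (j.rTensor (M × N)) =
      ((j.rTensor M).prodMap (j.rTensor N)) ∘ₗ
        (TensorProduct.prodRight R R A M N).toLinearMap :=
    TensorProduct.ext' fun a m => by simp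
  intro x y hxy
  apply (TensorProduct.prodRight R R A M N).injective
  apply Prod.map_injective.mpr ⟨hM, hN⟩
  have hx := congr($hcomm x)
  have hy := congr($hcomm y)
  simp only [LinearMap.coe_comp, LinearEquiv.coe_coe, Function.comp_apply,
    LinearMap.prodMap_apply] at hx hy
  rw [Prod.map_apply', Prod.map_apply', ← hx, ← hy, hxy]

theorem flat_of_fibSq {R P B A' A : Type*} [CommRing R] [CommRing P] [CommRing B] [CommRing A']
    [CommRing A] [Algebra R P] [Algebra R B] [Algebra R A'] [Algebra R A]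
    (π₁ : P →ₐ[R] B) (π₂ : P →ₐ[R] A') (q : B →ₐ[R] A) (p : A' →ₐ[R] A)
    (sq : FibSqLib.FibSq π₁.toRingHom π₂.toRingHom q.toRingHom p.toRingHom)
    (hq : Function.Surjective q)
    [Module.Flat R B] [Module.Flat R A'] [Module.Flat R A] : Module.Flat R P := by
  haveI : Module.Flat R (B × A') := flat_prod
  refine flat_of_injective_of_exact (π₁.toLinearMap.prod π₂.toLinearMap)
    (q.toLinearMap.coprod (-p.toLinearMap)) ?_ ?_ ?_
  · rw [injective_iff_map_eq_zero]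
    intro x hx
    have h := Prod.ext_iff.mp hx
    exact sq.inj x h.1 h.2
  · intro a
    obtain ⟨b, hb⟩ := hq a
    exact ⟨(b, 0), by simp [hb]⟩
  · intro y
    constructor
    · intro hy
      obtain ⟨b, a'⟩ := y
      have hba : q b = p a' := by
        have : q b + -(p a') = 0 := by simpa using hy
        exact add_neg_eq_zero.mp this
      obtain ⟨x, hx1, hx2⟩ := sq.surj b a' hba
      exact ⟨x, Prod.ext hx1 hx2⟩
    · rintro ⟨x, rfl⟩
      have := sq.comm x
      simp only [LinearMap.prod_apply, AlgHom.toLinearMap_apply, LinearMap.coprod_apply,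
        LinearMap.neg_apply]
      exact add_neg_eq_zero.mpr this

end Algebra

section Final

theorem appLE_comp_app' {X Y S : Scheme.{u}} (f : X ⟶ Y) (g : Y ⟶ S) (V : S.Opens) (U : Y.Opens)
    (e : U ≤ g ⁻¹ᵁ V) (e' : f ⁻¹ᵁ U ≤ (f ≫ g) ⁻¹ᵁ V) (r : Γ(S, V)) :
    f.app U (g.appLE V U e r) = (f ≫ g).appLE V (f ⁻¹ᵁ U) e' r := by
  have : g.appLE V U e ≫ f.app U = (f ≫ g).appLE V (f ⁻¹ᵁ U) e' := by
    rw [Scheme.Hom.app_eq_appLE, Scheme.Hom.appLE_comp_appLE]
  exact congr($this r)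

theorem appLE_congr_hom {X S : Scheme.{u}} {f g : X ⟶ S} (h : f = g) (V : S.Opens) (U : X.Opens)
    (e : U ≤ f ⁻¹ᵁ V) (e' : U ≤ g ⁻¹ᵁ V) : f.appLE V U e = g.appLE V U e' := by
  subst h; rfl

theorem flat_of_isPushout {S X Z Z' X' : Scheme.{u}}
    (fX' : X' ⟶ S) (ι : Z ⟶ X) (q : Z ⟶ Z') (π : X ⟶ X') (ι' : Z' ⟶ X')
    [IsClosedImmersion ι] [IsClosedImmersion ι'] [IsAffineHom q] [IsAffineHom π]
    (hpo : IsPushout (G.map ι) (G.map q) (G.map π) (G.map ι'))
    [Flat (π ≫ fX')] [Flat (ι ≫ π ≫ fX')] [Flat (ι' ≫ fX')] : Flat fX' := by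
  have w : ι ≫ π = q ≫ ι' := G.map_injective (by rw [G.map_comp, G.map_comp]; exact hpo.w)
  rw [HasRingHomProperty.iff_appLE (P := @Flat)]
  intro V U' e
  have hU : IsAffineOpen (π ⁻¹ᵁ U'.1) := U'.2.preimage π
  have hW' : IsAffineOpen (ι' ⁻¹ᵁ U'.1) := U'.2.preimage ι'
  have hW : IsAffineOpen (ι ⁻¹ᵁ (π ⁻¹ᵁ U'.1)) := hU.preimage ι
  have hle : ι ⁻¹ᵁ (π ⁻¹ᵁ U'.1) ≤ q ⁻¹ᵁ (ι' ⁻¹ᵁ U'.1) := by
    rw [← Scheme.Hom.comp_preimage, ← Scheme.Hom.comp_preimage, w]
  have e₁ : π ⁻¹ᵁ U'.1 ≤ (π ≫ fX') ⁻¹ᵁ V.1 := fun x hx => e hx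
  have e₂ : ι' ⁻¹ᵁ U'.1 ≤ (ι' ≫ fX') ⁻¹ᵁ V.1 := fun x hx => e hx
  have e₃ : ι ⁻¹ᵁ (π ⁻¹ᵁ U'.1) ≤ (ι ≫ π ≫ fX') ⁻¹ᵁ V.1 := fun x hx => e hx
  letI algP : Algebra Γ(S, V.1) Γ(X', U'.1) := (fX'.appLE V.1 U'.1 e).hom.toAlgebra
  letI algB : Algebra Γ(S, V.1) Γ(X, π ⁻¹ᵁ U'.1) :=
    ((π ≫ fX').appLE V.1 (π ⁻¹ᵁ U'.1) e₁).hom.toAlgebra
  letI algA' : Algebra Γ(S, V.1) Γ(Z', ι' ⁻¹ᵁ U'.1) :=
    ((ι' ≫ fX').appLE V.1 (ι' ⁻¹ᵁ U'.1) e₂).hom.toAlgebra
  letI algA : Algebra Γ(S, V.1) Γ(Z, ι ⁻¹ᵁ (π ⁻¹ᵁ U'.1)) :=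
    ((ι ≫ π ≫ fX').appLE V.1 (ι ⁻¹ᵁ (π ⁻¹ᵁ U'.1)) e₃).hom.toAlgebra
  haveI flB : Module.Flat Γ(S, V.1) Γ(X, π ⁻¹ᵁ U'.1) :=
    HasRingHomProperty.appLE (P := @Flat) (π ≫ fX') inferInstance V ⟨_, hU⟩ e₁
  haveI flA' : Module.Flat Γ(S, V.1) Γ(Z', ι' ⁻¹ᵁ U'.1) :=
    HasRingHomProperty.appLE (P := @Flat) (ι' ≫ fX') inferInstance V ⟨_, hW'⟩ e₂
  haveI flA : Module.Flat Γ(S, V.1) Γ(Z, ι ⁻¹ᵁ (π ⁻¹ᵁ U'.1)) :=
    HasRingHomProperty.appLE (P := @Flat) (ι ≫ π ≫ fX') inferInstance V ⟨_, hW⟩ e₃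
  show Module.Flat Γ(S, V.1) Γ(X', U'.1)
  let π₁ : Γ(X', U'.1) →ₐ[Γ(S, V.1)] Γ(X, π ⁻¹ᵁ U'.1) :=
    { (π.app U'.1).hom with
      commutes' := fun r => appLE_comp_app' π fX' V.1 U'.1 e e₁ r }
  let π₂ : Γ(X', U'.1) →ₐ[Γ(S, V.1)] Γ(Z', ι' ⁻¹ᵁ U'.1) :=
    { (ι'.app U'.1).hom with
      commutes' := fun r => appLE_comp_app' ι' fX' V.1 U'.1 e e₂ r }
  let q₁ : Γ(X, π ⁻¹ᵁ U'.1) →ₐ[Γ(S, V.1)] Γ(Z, ι ⁻¹ᵁ (π ⁻¹ᵁ U'.1)) :=
    { (ι.app (π ⁻¹ᵁ U'.1)).hom with
      commutes' := fun r => appLE_comp_app' ι (π ≫ fX') V.1 (π ⁻¹ᵁ U'.1) e₁ e₃ r }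
  let p₁ : Γ(Z', ι' ⁻¹ᵁ U'.1) →ₐ[Γ(S, V.1)] Γ(Z, ι ⁻¹ᵁ (π ⁻¹ᵁ U'.1)) :=
    { (q.app (ι' ⁻¹ᵁ U'.1) ≫ Z.presheaf.map (homOfLE hle).op).hom with
      commutes' := fun r => by
        have h1 := appLE_comp_app' q (ι' ≫ fX') V.1 (ι' ⁻¹ᵁ U'.1) e₂ (fun x hx => e hx) r
        have h2 : (q ≫ ι' ≫ fX').appLE V.1 (q ⁻¹ᵁ (ι' ⁻¹ᵁ U'.1)) (fun x hx => e hx) ≫
            Z.presheaf.map (homOfLE hle).op =
            (q ≫ ι' ≫ fX').appLE V.1 (ι ⁻¹ᵁ (π ⁻¹ᵁ U'.1)) (fun x hx => e (hle hx)) :=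
          Scheme.Hom.appLE_map _ _ _
        have h3 : (q ≫ ι' ≫ fX').appLE V.1 (ι ⁻¹ᵁ (π ⁻¹ᵁ U'.1)) (fun x hx => e (hle hx)) =
            (ι ≫ π ≫ fX').appLE V.1 (ι ⁻¹ᵁ (π ⁻¹ᵁ U'.1)) e₃ :=
          appLE_congr_hom (by rw [← Category.assoc, ← w, Category.assoc]) _ _ _ _
        show (Z.presheaf.map (homOfLE hle).op) ((q.app (ι' ⁻¹ᵁ U'.1))
          (((ι' ≫ fX').appLE V.1 (ι' ⁻¹ᵁ U'.1) e₂) r)) = _
        rw [h1]
        exact (congr($h2 r)).trans congr($h3 r) }
  refine flat_of_fibSq π₁ π₂ q₁ p₁ ⟨?_, ?_, ?_⟩ ?_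
  · intro s
    show ι.app (π ⁻¹ᵁ U'.1) (π.app U'.1 s) =
      Z.presheaf.map (homOfLE hle).op (q.app (ι' ⁻¹ᵁ U'.1) (ι'.app U'.1 s))
    have h1 := Scheme.Hom.congr_app w U'.1
    rw [Scheme.Hom.comp_app, Scheme.Hom.comp_app] at h1
    have h2 := congr($h1 s)
    refine h2.trans ?_
    show (Z.presheaf.map _) (q.app (ι' ⁻¹ᵁ U'.1) (ι'.app U'.1 s)) = _
    congr 2
  · intro s h1 h2
    exact sections_inj ι q π ι' hpo U'.1 s 0 (by rw [map_zero]; exact h1)
      (by rw [map_zero]; exact h2)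
  · intro a b hab
    exact sections_glue ι q π ι' hpo U'.1 a b (fun _ => hab.symm)
  · exact Scheme.Hom.app_surjective ι _ hU

end Final

end Groth.Agent.RSPushout
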