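import Mathlib
import Groth.Agent.Lib.RSPushout_helper5

/-!
# A criterion for pushouts of ringed spaces

Converse of `RSPushout.sections_of_isColimit`: a cocone of a span of presheafed spaces whose
underlying cocone of spaces is a colimit and whose sections are the fibre products of sections
(`JointInj` and `Glue`) is a colimit cocone.  Then a version for commutative squares of schemes.
-/

namespace Groth.Agent.RSPushoutCrit

open CategoryTheory Limits AlgebraicGeometry TopologicalSpace Opposite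
open Groth.Agent.RSPushout

universe u

section Crit

variable (F : WalkingSpan ⥤ PresheafedSpace.{_, _, u} CommRingCat.{u})

/-- the cocone with legs `colimit.ι F j ≫ φ` -/
noncomputable def coconeOfHom {Q : PresheafedSpace.{_, _, u} CommRingCat.{u}}
    (φ : colimit F ⟶ Q) : Cocone F where
  pt := Q
  ι :=
    { app := fun j => colimit.ι F j ≫ φ
      naturality := fun j j' ψ => by
        simp only [Functor.const_obj_obj, Functor.const_obj_map, Category.comp_id]
        rw [← Category.assoc, colimit.w] }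

theorem coconeOfHom_desc (t : Cocone F) : coconeOfHom F (colimit.desc F t) = t := by
  obtain ⟨pt, ι⟩ := t
  unfold coconeOfHom
  congr 1
  ext j : 2
  exact colimit.ι_desc _ j

theorem map_congr_thin {T : TopCat.{u}} (ℱ : T.Presheaf CommRingCat.{u}) {V W : (Opens T)ᵒᵖ}
    (m m' : V ⟶ W) (x : ℱ.obj V) : ℱ.map m x = ℱ.map m' x := by
  rw [Subsingleton.elim m m']

theorem bijective_c_app {Q : PresheafedSpace.{_, _, u} CommRingCat.{u}} (φ : colimit F ⟶ Q)
    (hJ : JointInj F (coconeOfHom F φ)) (hG : Glue F (coconeOfHom F φ)) (U : Opens Q) :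
    Function.Bijective (φ.c.app (op U)) := by
  obtain ⟨hJ₀, -⟩ := sections_of_isColimit F (colimit.cocone F) (colimit.isColimit F)
  constructor
  · intro s₁ s₂ h
    refine hJ U s₁ s₂ fun j => ?_
    show (colimit.ι F j).c.app (op ((Opens.map φ.base).obj U)) (φ.c.app (op U) s₁) =
      (colimit.ι F j).c.app (op ((Opens.map φ.base).obj U)) (φ.c.app (op U) s₂)
    rw [h]
  · intro p
    obtain ⟨s, hs⟩ := hG U
      (fun j => (colimit.ι F j).c.app (op ((Opens.map φ.base).obj U)) p) (by
      intro j j' ψ hle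
      have hw : F.map ψ ≫ colimit.ι F j' = colimit.ι F j := colimit.w F ψ
      have key : (colimit.ι F j).c.app (op ((Opens.map φ.base).obj U)) p =
          (F.obj j).presheaf.map (eqToHom (by rw [← hw]; rfl))
            ((F.map ψ).c.app (op ((Opens.map (colimit.ι F j').base).obj
              ((Opens.map φ.base).obj U)))
              ((colimit.ι F j').c.app (op ((Opens.map φ.base).obj U)) p)) := by
        have := PresheafedSpace.congr_app hw.symm (op ((Opens.map φ.base).obj U))
        rw [this]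
        rfl
      refine Eq.trans ?_ key.symm
      exact map_congr_thin _ _ _ _)
    refine ⟨s, hJ₀ _ _ _ fun j => ?_⟩
    exact hs j

theorem isColimit_of_sections (t : Cocone F)
    (hbase : IsIso (colimit.desc F t).base)
    (hJ : JointInj F t) (hG : Glue F t) : Nonempty (IsColimit t) := by
  have ht' : coconeOfHom F (colimit.desc F t) = t := coconeOfHom_desc F t
  have hJ' : JointInj F (coconeOfHom F (colimit.desc F t)) := by rw [ht']; exact hJ
  have hG' : Glue F (coconeOfHom F (colimit.desc F t)) := by rw [ht']; exact hG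
  haveI : IsIso (colimit.desc F t).c := by
    haveI : ∀ U, IsIso ((colimit.desc F t).c.app U) := fun U => by
      have := bijective_c_app F (colimit.desc F t) hJ' hG' U.unop
      exact (ConcreteCategory.isIso_iff_bijective _).mpr this
    exact NatIso.isIso_of_isIso_app _
  haveI : IsIso (colimit.desc F t) := PresheafedSpace.isIso_of_components _
  haveI : IsIso ((colimit.isColimit F).desc t) := ‹IsIso (colimit.desc F t)›
  exact ⟨IsColimit.ofPointIso (colimit.isColimit F)⟩

end Crit

section Schemes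

variable {X Z Z' X' : Scheme.{u}} (ι : Z ⟶ X) (q : Z ⟶ Z') (π : X ⟶ X') (ι' : Z' ⟶ X')

/-- the span of presheafed spaces underlying `ι`, `q` -/
noncomputable abbrev Fsp : WalkingSpan ⥤ PresheafedSpace.{_, _, u} CommRingCat.{u} :=
  span (G.map ι) (G.map q) ⋙ SheafedSpace.forgetToPresheafedSpace

/-- the cocone underlying a commutative square -/
noncomputable abbrev tco (w' : G.map ι ≫ G.map π = G.map q ≫ G.map ι') : Cocone (Fsp ι q) :=
  SheafedSpace.forgetToPresheafedSpace.mapCocone (PushoutCocone.mk (G.map π) (G.map ι') w')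

theorem isIso_desc_base (w' : G.map ι ≫ G.map π = G.map q ≫ G.map ι')
    (T1 : ∀ x' : X', (∃ x : X, π x = x') ∨ ∃ z' : Z', ι' z' = x')
    (T2 : Function.Injective ι')
    (T3 : ∀ (x : X) (z' : Z'), π x = ι' z' → ∃ z : Z, ι z = x ∧ q z = z')
    (T4 : ∀ x₁ x₂ : X, π x₁ = π x₂ → x₁ ∉ Set.range ι → x₁ = x₂)
    (T5 : ∀ W : Set X', IsOpen (π ⁻¹' W) → IsOpen (ι' ⁻¹' W) → IsOpen W) :
    IsIso (colimit.desc (Fsp ι q) (tco ι q π ι' w')).base := by
  have h0 : IsColimit ((PresheafedSpace.forget CommRingCat.{u}).mapCocone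
      (colimit.cocone (Fsp ι q))) :=
    isColimitOfPreserves _ (colimit.isColimit (Fsp ι q))
  obtain ⟨φ, hφ⟩ : ∃ φ, φ = colimit.desc (Fsp ι q) (tco ι q π ι' w') := ⟨_, rfl⟩
  rw [← hφ]
  obtain ⟨jl, hjl⟩ : ∃ jl : X → ↥(colimit (Fsp ι q)),
      jl = fun x => (colimit.ι (Fsp ι q) (some WalkingPair.left)).base x := ⟨_, rfl⟩
  obtain ⟨jr, hjr⟩ : ∃ jr : Z' → ↥(colimit (Fsp ι q)),
      jr = fun z' => (colimit.ι (Fsp ι q) (some WalkingPair.right)).base z' := ⟨_, rfl⟩
  have f1 : ∀ x : X, φ.base (jl x) = π x := fun x => by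
    have h1 := colimit.ι_desc (tco ι q π ι' w') (some WalkingPair.left)
    have h2 := congrArg (fun m => m.base) h1
    rw [hjl, hφ]
    exact congr($h2 x)
  have f2 : ∀ z' : Z', φ.base (jr z') = ι' z' := fun z' => by
    have h1 := colimit.ι_desc (tco ι q π ι' w') (some WalkingPair.right)
    have h2 := congrArg (fun m => m.base) h1
    rw [hjr, hφ]
    exact congr($h2 z')
  have hl : (Fsp ι q).map WalkingSpan.Hom.fst ≫ colimit.ι (Fsp ι q) (some WalkingPair.left) =
      colimit.ι (Fsp ι q) none := colimit.w (Fsp ι q) _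
  have hr : (Fsp ι q).map WalkingSpan.Hom.snd ≫ colimit.ι (Fsp ι q) (some WalkingPair.right) =
      colimit.ι (Fsp ι q) none := colimit.w (Fsp ι q) _
  have f3l : ∀ z : Z, jl (ι z) = (colimit.ι (Fsp ι q) none).base z := fun z => by
    have h2 := congrArg (fun m => m.base) hl
    rw [hjl]
    exact congr($h2 z)
  have f3r : ∀ z : Z, jr (q z) = (colimit.ι (Fsp ι q) none).base z := fun z => by
    have h2 := congrArg (fun m => m.base) hr
    rw [hjr]
    exact congr($h2 z)
  have f3 : ∀ z : Z, jl (ι z) = jr (q z) := fun z => (f3l z).trans (f3r z).symm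
  have f4 : ∀ p : ↥(colimit (Fsp ι q)), (∃ x, jl x = p) ∨ (∃ z', jr z' = p) := by
    intro p
    obtain ⟨j, y, hy⟩ := Concrete.isColimit_exists_rep
      ((Fsp ι q) ⋙ PresheafedSpace.forget CommRingCat.{u}) h0 p
    rcases j with _ | _ | _
    · left
      refine ⟨ι y, ?_⟩
      rw [f3l]
      exact hy
    · left
      refine ⟨y, ?_⟩
      rw [hjl]
      exact hy
    · right
      refine ⟨y, ?_⟩
      rw [hjr]
      exact hy
  have hinj : Function.Injective φ.base := by
    intro p₁ p₂ h
    have key : ∀ (x₁ x₂ : X), π x₁ = π x₂ → jl x₁ = jl x₂ := by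
      intro x₁ x₂ hx
      by_cases h1 : x₁ ∈ Set.range ι
      · obtain ⟨z₁, rfl⟩ := h1
        have : π x₂ = ι' (q z₁) := by
          rw [← hx, ← f1, f3, f2]
        obtain ⟨z₂, hz₂, hq⟩ := T3 x₂ (q z₁) this
        rw [← hz₂, f3, f3, hq]
      · rw [T4 x₁ x₂ hx h1]
    have key2 : ∀ (x : X) (z' : Z'), π x = ι' z' → jl x = jr z' := by
      intro x z' hx
      obtain ⟨z, hz, hq⟩ := T3 x z' hx
      rw [← hz, ← hq, f3]
    rcases f4 p₁ with ⟨x₁, rfl⟩ | ⟨z₁, rfl⟩ <;> rcases f4 p₂ with ⟨x₂, rfl⟩ | ⟨z₂, rfl⟩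
    · rw [f1, f1] at h
      exact key x₁ x₂ h
    · rw [f1, f2] at h
      exact key2 x₁ z₂ h
    · rw [f2, f1] at h
      exact (key2 x₂ z₁ h.symm).symm
    · rw [f2, f2] at h
      rw [T2 h]
  have hsurj : Function.Surjective φ.base := by
    intro x'
    rcases T1 x' with ⟨x, rfl⟩ | ⟨z', rfl⟩
    · exact ⟨jl x, f1 x⟩
    · exact ⟨jr z', f2 z'⟩
  have hopen : IsOpenMap φ.base := by
    intro W hW
    apply T5
    · have : π ⁻¹' (φ.base '' W) = jl ⁻¹' W := by
        ext x
        constructor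
        · rintro ⟨p, hp, hpx⟩
          have : p = jl x := hinj (hpx.trans (f1 x).symm)
          rw [Set.mem_preimage, ← this]
          exact hp
        · intro hx
          exact ⟨jl x, hx, f1 x⟩
      refine (congrArg IsOpen this).mpr ?_
      rw [hjl]
      exact (colimit.ι (Fsp ι q) (some WalkingPair.left)).base.hom.continuous.isOpen_preimage W hW
    · have : ι' ⁻¹' (φ.base '' W) = jr ⁻¹' W := by
        ext z'
        constructor
        · rintro ⟨p, hp, hpx⟩
          have : p = jr z' := hinj (hpx.trans (f2 z').symm)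
          rw [Set.mem_preimage, ← this]
          exact hp
        · intro hx
          exact ⟨jr z', hx, f2 z'⟩
      refine (congrArg IsOpen this).mpr ?_
      rw [hjr]
      exact (colimit.ι (Fsp ι q) (some WalkingPair.right)).base.hom.continuous.isOpen_preimage W hW
  exact TopCat.isIso_of_bijective_of_isOpenMap φ.base ⟨hinj, hsurj⟩ hopen

/-- Criterion: a commutative square of schemes is a pushout of ringed spaces if it is one on
points (conditions `T1`-`T5`) and sections over opens are fibre products. -/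
theorem isPushout_of_sections (w : ι ≫ π = q ≫ ι')
    (T1 : ∀ x' : X', (∃ x : X, π x = x') ∨ ∃ z' : Z', ι' z' = x')
    (T2 : Function.Injective ι')
    (T3 : ∀ (x : X) (z' : Z'), π x = ι' z' → ∃ z : Z, ι z = x ∧ q z = z')
    (T4 : ∀ x₁ x₂ : X, π x₁ = π x₂ → x₁ ∉ Set.range ι → x₁ = x₂)
    (T5 : ∀ W : Set X', IsOpen (π ⁻¹' W) → IsOpen (ι' ⁻¹' W) → IsOpen W)
    (hinj : ∀ (U' : X'.Opens) (s₁ s₂ : Γ(X', U')), π.app U' s₁ = π.app U' s₂ →
      ι'.app U' s₁ = ι'.app U' s₂ → s₁ = s₂)
    (hglue : ∀ (U' : X'.Opens) (a : Γ(X, π ⁻¹ᵁ U')) (b : Γ(Z', ι' ⁻¹ᵁ U')),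
      (∀ hle : ι ⁻¹ᵁ (π ⁻¹ᵁ U') ≤ q ⁻¹ᵁ (ι' ⁻¹ᵁ U'),
        Z.presheaf.map (homOfLE hle).op (q.app (ι' ⁻¹ᵁ U') b) = ι.app (π ⁻¹ᵁ U') a) →
      ∃ s : Γ(X', U'), π.app U' s = a ∧ ι'.app U' s = b) :
    IsPushout (G.map ι) (G.map q) (G.map π) (G.map ι') := by
  have w' : G.map ι ≫ G.map π = G.map q ≫ G.map ι' := by
    rw [← G.map_comp, ← G.map_comp, w]
  have hbase := isIso_desc_base ι q π ι' w' T1 T2 T3 T4 T5
  have hJ : JointInj (Fsp ι q) (tco ι q π ι' w') := by
    intro U' s₁ s₂ h
    exact hinj U' s₁ s₂ (h (some WalkingPair.left)) (h (some WalkingPair.right))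
  have hG : Glue (Fsp ι q) (tco ι q π ι' w') := by
    intro U' a ha
    have h1 := ha none (some WalkingPair.left) WalkingSpan.Hom.fst (fun _ hx => hx)
    have h1' : ι.app (π ⁻¹ᵁ U') (a (some WalkingPair.left)) = a none :=
      Eq.trans (map_endo_apply _ _ _ _).symm h1
    obtain ⟨s, hs1, hs2⟩ := hglue U' (a (some WalkingPair.left)) (a (some WalkingPair.right))
      (fun hle => by
        have h2 := ha none (some WalkingPair.right) WalkingSpan.Hom.snd hle
        exact h2.trans h1'.symm)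
    refine ⟨s, fun j => ?_⟩
    rcases j with _ | _ | _
    · refine Eq.trans ?_ h1'
      show ι.app (π ⁻¹ᵁ U') (π.app U' s) = _
      rw [hs1]
    · exact hs1
    · exact hs2
  obtain ⟨ht⟩ := isColimit_of_sections (Fsp ι q) (tco ι q π ι' w') hbase hJ hG
  exact IsPushout.of_isColimit' ⟨w'⟩
    (isColimitOfReflects SheafedSpace.forgetToPresheafedSpace ht)

end Schemes

end Groth.Agent.RSPushoutCrit
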