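import Mathlib
import Groth.Agent.Lib.RSPushoutCrit_helper5

/-!
# Pushouts of ringed spaces from affine-local fibre squares of rings

A commutative square of schemes `ι : Z ⟶ X`, `q : Z ⟶ Z'`, `π : X ⟶ X'`, `ι' : Z' ⟶ X'` with
`ι`, `ι'` closed immersions, such that `X'` is covered by affine opens `U'` with affine preimage in
`X` over which the sections form a fibre square of rings, is a pushout square of ringed spaces.
-/

namespace Groth.Agent.PushoutLocal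

open CategoryTheory Limits AlgebraicGeometry TopologicalSpace Opposite
open Groth.Agent.RSPushout Groth.Agent.RSPushoutCrit Groth.Agent.FibSqLib

universe u

section Primes

variable {P B A' A : Type*} [CommRing P] [CommRing B] [CommRing A'] [CommRing A]
  {π₁ : P →+* B} {π₂ : P →+* A'} {q : B →+* A} {p : A' →+* A}

theorem comap_comm (sq : FibSq π₁ π₂ q p) (w : PrimeSpectrum A) :
    PrimeSpectrum.comap π₁ (PrimeSpectrum.comap q w) =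
      PrimeSpectrum.comap π₂ (PrimeSpectrum.comap p w) := by
  apply PrimeSpectrum.ext
  ext t
  show q (π₁ t) ∈ w.asIdeal ↔ p (π₂ t) ∈ w.asIdeal
  rw [sq.comm]

theorem exists_comap_of_eq (sq : FibSq π₁ π₂ q p) (hp : Function.Surjective p)
    (x : PrimeSpectrum A') (y : PrimeSpectrum B)
    (h : PrimeSpectrum.comap π₂ x = PrimeSpectrum.comap π₁ y) :
    ∃ w : PrimeSpectrum A, PrimeSpectrum.comap p w = x ∧ PrimeSpectrum.comap q w = y := by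
  have hker : RingHom.ker p ≤ x.asIdeal := by
    intro a' ha'
    obtain ⟨t, ht1, ht2⟩ := sq.surj 0 a' (by rw [map_zero]; exact ((RingHom.mem_ker).mp ha').symm)
    have h1 : t ∈ (PrimeSpectrum.comap π₁ y).asIdeal := by
      show π₁ t ∈ y.asIdeal
      rw [ht1]; exact zero_mem _
    rw [← h] at h1
    have h2 : π₂ t ∈ x.asIdeal := h1
    rwa [ht2] at h2
  have hx : x ∈ Set.range (PrimeSpectrum.comap p) := by
    rw [range_comap_of_surjective _ _ hp]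
    exact hker
  obtain ⟨w, rfl⟩ := hx
  refine ⟨w, rfl, ?_⟩
  apply PrimeSpectrum.comap_injective_of_surjective π₁ (sq.surjective_fst hp)
  rw [← h]
  exact comap_comm sq w

theorem eq_of_comap_snd_eq (sq : FibSq π₁ π₂ q p) (x₁ x₂ : PrimeSpectrum A')
    (h : PrimeSpectrum.comap π₂ x₁ = PrimeSpectrum.comap π₂ x₂)
    (hx₁ : ¬ RingHom.ker p ≤ x₁.asIdeal) : x₁ = x₂ := by
  obtain ⟨a₁, ha₁, ha₁x⟩ := SetLike.not_le_iff_exists.mp hx₁
  have hmem : ∀ t : P, π₂ t ∈ x₁.asIdeal ↔ π₂ t ∈ x₂.asIdeal := fun t => by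
    have := congrArg (fun z => t ∈ z.asIdeal) h
    exact iff_of_eq this
  have hz : ∀ a' : A', ∃ t, π₁ t = 0 ∧ π₂ t = a₁ * a' := fun a' =>
    sq.surj 0 (a₁ * a') (by rw [map_zero, map_mul, (RingHom.mem_ker).mp ha₁, zero_mul])
  have ha₁x₂ : a₁ ∉ x₂.asIdeal := by
    obtain ⟨t, _, ht2⟩ := hz 1
    rw [mul_one] at ht2
    intro hc
    apply ha₁x
    rw [← ht2] at hc ⊢
    exact (hmem t).mpr hc
  apply PrimeSpectrum.ext
  apply le_antisymm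
  · intro a' ha'
    obtain ⟨t, _, ht2⟩ := hz a'
    have h1 : π₂ t ∈ x₂.asIdeal := (hmem t).mp (by rw [ht2]; exact Ideal.mul_mem_left _ _ ha')
    rw [ht2] at h1
    exact (x₂.isPrime.mem_or_mem h1).resolve_left ha₁x₂
  · intro a' ha'
    obtain ⟨t, _, ht2⟩ := hz a'
    have h1 : π₂ t ∈ x₁.asIdeal := (hmem t).mpr (by rw [ht2]; exact Ideal.mul_mem_left _ _ ha')
    rw [ht2] at h1
    exact (x₁.isPrime.mem_or_mem h1).resolve_left ha₁x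

theorem isOpen_of_preimages (sq : FibSq π₁ π₂ q p) (hp : Function.Surjective p)
    (T : Set (PrimeSpectrum P)) (h2 : IsOpen (PrimeSpectrum.comap π₂ ⁻¹' T))
    (h1 : IsOpen (PrimeSpectrum.comap π₁ ⁻¹' T)) : IsOpen T := by
  rw [isOpen_iff_forall_mem_open]
  intro z hz
  have hU : ∀ w : PrimeSpectrum A, PrimeSpectrum.comap q w ∈ PrimeSpectrum.comap π₁ ⁻¹' T →
      PrimeSpectrum.comap p w ∈ PrimeSpectrum.comap π₂ ⁻¹' T := by
    intro w hw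
    show PrimeSpectrum.comap π₂ (PrimeSpectrum.comap p w) ∈ T
    rw [← comap_comm sq w]
    exact hw
  rcases sq.exists_comap_eq hp z with ⟨y, rfl⟩ | ⟨k₀, hk₀, hk₀z, x, rfl⟩
  · obtain ⟨k, hk, hkA, hkB⟩ := sq.exists_nhd_fst hp _ _ h2 h1 hU y hz
    refine ⟨PrimeSpectrum.basicOpen k, fun z' hz' => ?_, (PrimeSpectrum.basicOpen k).2, hk⟩
    have hz'' : k ∉ z'.asIdeal := (PrimeSpectrum.mem_basicOpen k z').mp hz'
    rcases sq.exists_comap_eq hp z' with ⟨y', rfl⟩ | ⟨_, _, _, x', rfl⟩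
    · exact hkB y' hz''
    · exact hkA x' hz''
  · obtain ⟨k, hk, hkA, hk1⟩ := sq.exists_nhd_snd _ h2 hk₀ x hz hk₀z
    refine ⟨PrimeSpectrum.basicOpen k, fun z' hz' => ?_, (PrimeSpectrum.basicOpen k).2, hk⟩
    have hz'' : k ∉ z'.asIdeal := (PrimeSpectrum.mem_basicOpen k z').mp hz'
    rcases sq.exists_comap_eq hp z' with ⟨y', rfl⟩ | ⟨_, _, _, x', rfl⟩
    · exfalso
      apply hz''
      show π₁ k ∈ y'.asIdeal
      rw [hk1]
      exact zero_mem _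
    · exact hkA x' hz''

end Primes

section Dict

theorem fromSpec_comap {X Y : Scheme.{u}} (f : X ⟶ Y) {U : Y.Opens} {V : X.Opens}
    (hU : IsAffineOpen U) (hV : IsAffineOpen V) (e : V ≤ f ⁻¹ᵁ U)
    (𝔭 : PrimeSpectrum Γ(X, V)) :
    f (hV.fromSpec 𝔭) = hU.fromSpec (PrimeSpectrum.comap (f.appLE U V e).hom 𝔭) := by
  have h1 := hU.SpecMap_appLE_fromSpec f hV e
  have h2 := congrArg (fun m => m 𝔭) h1
  simp only [Scheme.Hom.comp_apply] at h2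
  exact h2.symm

theorem fromSpec_comap_app {X Y : Scheme.{u}} (f : X ⟶ Y) {U : Y.Opens}
    (hU : IsAffineOpen U) (hV : IsAffineOpen (f ⁻¹ᵁ U))
    (𝔭 : PrimeSpectrum Γ(X, f ⁻¹ᵁ U)) :
    f (hV.fromSpec 𝔭) = hU.fromSpec (PrimeSpectrum.comap (f.app U).hom 𝔭) := by
  rw [fromSpec_comap f hU hV le_rfl, Scheme.Hom.appLE_eq_app]

theorem exists_fromSpec_eq {X : Scheme.{u}} {V : X.Opens} (hV : IsAffineOpen V) (x : X)
    (hx : x ∈ V) : ∃ 𝔭 : PrimeSpectrum Γ(X, V), hV.fromSpec 𝔭 = x := by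
  have : x ∈ Set.range hV.fromSpec := by rw [hV.range_fromSpec]; exact hx
  exact this

theorem fromSpec_injective {X : Scheme.{u}} {V : X.Opens} (hV : IsAffineOpen V) :
    Function.Injective hV.fromSpec :=
  hV.fromSpec.isOpenEmbedding.injective

end Dict

section Main

variable {X Z Z' X' : Scheme.{u}} (ι : Z ⟶ X) (q : Z ⟶ Z') (π : X ⟶ X') (ι' : Z' ⟶ X')

theorem hle (w : ι ≫ π = q ≫ ι') (U' : X'.Opens) :
    ι ⁻¹ᵁ (π ⁻¹ᵁ U') ≤ q ⁻¹ᵁ (ι' ⁻¹ᵁ U') := by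
  rw [← Scheme.Hom.comp_preimage, ← Scheme.Hom.comp_preimage, w]

/-- the sections over `U'` and its preimages form a fibre square of rings -/
def FS (w : ι ≫ π = q ≫ ι') (U' : X'.Opens) : Prop :=
  FibSq (ι'.app U').hom (π.app U').hom
    (q.appLE (ι' ⁻¹ᵁ U') (ι ⁻¹ᵁ (π ⁻¹ᵁ U')) (hle ι q π ι' w U')).hom (ι.app (π ⁻¹ᵁ U')).hom

/-- joint injectivity of sections over `U'` -/
def InjOn (U' : X'.Opens) : Prop :=
  ∀ s₁ s₂ : Γ(X', U'), π.app U' s₁ = π.app U' s₂ → ι'.app U' s₁ = ι'.app U' s₂ → s₁ = s₂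

/-- gluing of sections over `U'` -/
def GlueOn (U' : X'.Opens) : Prop :=
  ∀ (a : Γ(X, π ⁻¹ᵁ U')) (b : Γ(Z', ι' ⁻¹ᵁ U')),
    (∀ hle : ι ⁻¹ᵁ (π ⁻¹ᵁ U') ≤ q ⁻¹ᵁ (ι' ⁻¹ᵁ U'),
      Z.presheaf.map (homOfLE hle).op (q.app (ι' ⁻¹ᵁ U') b) = ι.app (π ⁻¹ᵁ U') a) →
    ∃ s : Γ(X', U'), π.app U' s = a ∧ ι'.app U' s = b

variable {ι q π ι'}

theorem FS.injOn {w : ι ≫ π = q ≫ ι'} {U' : X'.Opens} (sq : FS ι q π ι' w U') :
    InjOn π ι' U' := fun s₁ s₂ h1 h2 => FibSq.ext sq s₁ s₂ h2 h1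

theorem FS.glueOn {w : ι ≫ π = q ≫ ι'} {U' : X'.Opens} (sq : FS ι q π ι' w U') :
    GlueOn ι q π ι' U' := fun a b hab => by
  obtain ⟨s, hs1, hs2⟩ := FibSq.surj sq b a (hab (hle ι q π ι' w U'))
  exact ⟨s, hs2, hs1⟩

/-- a fibre square over an affine open localizes to basic opens -/
theorem FS.basicOpen {w : ι ≫ π = q ≫ ι'} {U' : X'.Opens} (sq : FS ι q π ι' w U')
    (hU' : IsAffineOpen U') (hU : IsAffineOpen (π ⁻¹ᵁ U')) (hV : IsAffineOpen (ι' ⁻¹ᵁ U'))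
    (hW : IsAffineOpen (ι ⁻¹ᵁ (π ⁻¹ᵁ U'))) (k : Γ(X', U')) :
    FS ι q π ι' w (X'.basicOpen k) := by
  have hDU : X'.basicOpen k ≤ U' := X'.basicOpen_le k
  obtain ⟨i0, -⟩ : ∃ i0 : X'.basicOpen k ⟶ U', i0 = homOfLE hDU := ⟨_, rfl⟩
  obtain ⟨iV, hiV⟩ : ∃ iV : ι' ⁻¹ᵁ (X'.basicOpen k) ⟶ ι' ⁻¹ᵁ U',
    iV = (Opens.map ι'.base).map i0 := ⟨_, rfl⟩
  obtain ⟨iU, hiU⟩ : ∃ iU : π ⁻¹ᵁ (X'.basicOpen k) ⟶ π ⁻¹ᵁ U',
    iU = (Opens.map π.base).map i0 := ⟨_, rfl⟩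
  obtain ⟨iW, hiW⟩ : ∃ iW : ι ⁻¹ᵁ (π ⁻¹ᵁ (X'.basicOpen k)) ⟶ ι ⁻¹ᵁ (π ⁻¹ᵁ U'),
    iW = (Opens.map ι.base).map iU := ⟨_, rfl⟩
  letI aP : Algebra Γ(X', U') Γ(X', X'.basicOpen k) := (X'.presheaf.map i0.op).hom.toAlgebra
  letI aB : Algebra Γ(Z', ι' ⁻¹ᵁ U') Γ(Z', ι' ⁻¹ᵁ (X'.basicOpen k)) :=
    (Z'.presheaf.map iV.op).hom.toAlgebra
  letI aA' : Algebra Γ(X, π ⁻¹ᵁ U') Γ(X, π ⁻¹ᵁ (X'.basicOpen k)) :=
    (X.presheaf.map iU.op).hom.toAlgebra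
  letI aA : Algebra Γ(Z, ι ⁻¹ᵁ (π ⁻¹ᵁ U')) Γ(Z, ι ⁻¹ᵁ (π ⁻¹ᵁ (X'.basicOpen k))) :=
    (Z.presheaf.map iW.op).hom.toAlgebra
  haveI lP : IsLocalization.Away k Γ(X', X'.basicOpen k) :=
    hU'.isLocalization_of_eq_basicOpen k i0 rfl
  haveI lB : IsLocalization.Away ((ι'.app U').hom k) Γ(Z', ι' ⁻¹ᵁ (X'.basicOpen k)) :=
    hV.isLocalization_of_eq_basicOpen _ iV (Scheme.preimage_basicOpen ι' k)
  haveI lA' : IsLocalization.Away ((π.app U').hom k) Γ(X, π ⁻¹ᵁ (X'.basicOpen k)) :=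
    hU.isLocalization_of_eq_basicOpen _ iU (Scheme.preimage_basicOpen π k)
  haveI lA : IsLocalization.Away
      ((q.appLE (ι' ⁻¹ᵁ U') (ι ⁻¹ᵁ (π ⁻¹ᵁ U')) (hle ι q π ι' w U')).hom ((ι'.app U').hom k))
      Γ(Z, ι ⁻¹ᵁ (π ⁻¹ᵁ (X'.basicOpen k))) :=
    hW.isLocalization_of_eq_basicOpen _ iW (by
      rw [Scheme.preimage_basicOpen π k, Scheme.preimage_basicOpen ι]
      congr 1
      exact (FibSq.comm sq k).symm)
  refine FibSq.away sq k _ _ _ _ (fun x => ?_) (fun x => ?_) (fun x => ?_) (fun x => ?_)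
  · exact congr($(ι'.naturality i0.op) x)
  · exact congr($(π.naturality i0.op) x)
  · have e1 := Scheme.Hom.map_appLE q (hle ι q π ι' w (X'.basicOpen k)) iV.op
    have e2 := Scheme.Hom.appLE_map q (hle ι q π ι' w U') iW.op
    exact (congr($e1 x)).trans (congr($e2 x)).symm
  · exact congr($(ι.naturality iU.op) x)

theorem app_res {X Y : Scheme.{u}} (f : X ⟶ Y) {U U' : Y.Opens} (i : U' ⟶ U) (s : Γ(Y, U)) :
    f.app U' (Y.presheaf.map i.op s) =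
      X.presheaf.map ((Opens.map f.base).map i).op (f.app U s) :=
  congr($(f.naturality i.op) s)

theorem map_map_thin {T : TopCat.{u}} (ℱ : T.Presheaf CommRingCat.{u}) {V W W' Y : (Opens T)ᵒᵖ}
    (m₁ : V ⟶ W) (m₂ : W ⟶ Y) (m₁' : V ⟶ W') (m₂' : W' ⟶ Y) (x : ℱ.obj V) :
    ℱ.map m₂ (ℱ.map m₁ x) = ℱ.map m₂' (ℱ.map m₁' x) := by
  rw [← ConcreteCategory.comp_apply, ← ConcreteCategory.comp_apply, ← Functor.map_comp,
    ← Functor.map_comp]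
  exact map_congr_thin _ _ _ _

variable (ι q π ι')

theorem injOn_of_basis
    (hB : ∀ (U'' : X'.Opens) (x' : X'), x' ∈ U'' →
      ∃ D : X'.Opens, D ≤ U'' ∧ x' ∈ D ∧ InjOn π ι' D)
    (U'' : X'.Opens) : InjOn π ι' U'' := by
  intro s₁ s₂ h1 h2
  choose D hDle hxD hD using fun x : U'' => hB U'' x.1 x.2
  refine X'.sheaf.eq_of_locally_eq' D U'' (fun x => homOfLE (hDle x)) ?_ s₁ s₂ fun x => ?_
  · intro x' hx'
    rw [Opens.mem_iSup]
    exact ⟨⟨x', hx'⟩, hxD ⟨x', hx'⟩⟩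
  · apply hD x
    · change π.app (D x) (X'.presheaf.map (homOfLE (hDle x)).op s₁) =
        π.app (D x) (X'.presheaf.map (homOfLE (hDle x)).op s₂)
      rw [app_res, app_res, h1]
    · change ι'.app (D x) (X'.presheaf.map (homOfLE (hDle x)).op s₁) =
        ι'.app (D x) (X'.presheaf.map (homOfLE (hDle x)).op s₂)
      rw [app_res, app_res, h2]

theorem glueOn_of_basis (w : ι ≫ π = q ≫ ι') (hI : ∀ U'' : X'.Opens, InjOn π ι' U'')
    (hB : ∀ (U'' : X'.Opens) (x' : X'), x' ∈ U'' →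
      ∃ D : X'.Opens, D ≤ U'' ∧ x' ∈ D ∧ GlueOn ι q π ι' D)
    (U'' : X'.Opens) : GlueOn ι q π ι' U'' := by
  intro a b hab
  choose D hDle hxD hD using fun x : U'' => hB U'' x.1 x.2
  have hcover : U'' ≤ iSup D := by
    intro x' hx'
    rw [Opens.mem_iSup]
    exact ⟨⟨x', hx'⟩, hxD ⟨x', hx'⟩⟩
  have hloc : ∀ x : U'', ∃ s : Γ(X', D x),
      π.app (D x) s = X.presheaf.map ((Opens.map π.base).map (homOfLE (hDle x))).op a ∧
      ι'.app (D x) s = Z'.presheaf.map ((Opens.map ι'.base).map (homOfLE (hDle x))).op b := by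
    intro x
    apply hD x
    intro hle'
    rw [app_res q, app_res ι, ← hab (hle ι q π ι' w U'')]
    exact map_map_thin _ _ _ _ _ _
  choose s hs1 hs2 using hloc
  have hcompat : TopCat.Presheaf.IsCompatible X'.sheaf.1 D s := by
    intro x y
    apply hI (D x ⊓ D y)
    · change π.app _ (X'.presheaf.map (Opens.infLELeft (D x) (D y)).op (s x)) =
        π.app _ (X'.presheaf.map (Opens.infLERight (D x) (D y)).op (s y))
      rw [app_res, app_res, hs1, hs1]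
      exact map_map_thin _ _ _ _ _ _
    · change ι'.app _ (X'.presheaf.map (Opens.infLELeft (D x) (D y)).op (s x)) =
        ι'.app _ (X'.presheaf.map (Opens.infLERight (D x) (D y)).op (s y))
      rw [app_res, app_res, hs2, hs2]
      exact map_map_thin _ _ _ _ _ _
  obtain ⟨s₀, hs₀, -⟩ := X'.sheaf.existsUnique_gluing' D U'' (fun x => homOfLE (hDle x)) hcover s
    hcompat
  have hs₀' : ∀ x, X'.presheaf.map (homOfLE (hDle x)).op s₀ = s x := hs₀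
  refine ⟨s₀, ?_, ?_⟩
  · refine X.sheaf.eq_of_locally_eq' (fun x => π ⁻¹ᵁ D x) (π ⁻¹ᵁ U'')
      (fun x => (Opens.map π.base).map (homOfLE (hDle x))) ?_ _ _ fun x => ?_
    · intro x0 hx0
      rw [Opens.mem_iSup]
      exact ⟨⟨π x0, hx0⟩, hxD ⟨π x0, hx0⟩⟩
    · refine Eq.trans (app_res π (homOfLE (hDle x)) s₀).symm ?_
      rw [hs₀' x, hs1]
      rfl
  · refine Z'.sheaf.eq_of_locally_eq' (fun x => ι' ⁻¹ᵁ D x) (ι' ⁻¹ᵁ U'')
      (fun x => (Opens.map ι'.base).map (homOfLE (hDle x))) ?_ _ _ fun x => ?_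
    · intro z0 hz0
      rw [Opens.mem_iSup]
      exact ⟨⟨ι' z0, hz0⟩, hxD ⟨ι' z0, hz0⟩⟩
    · refine Eq.trans (app_res ι' (homOfLE (hDle x)) s₀).symm ?_
      rw [hs₀' x, hs2]
      rfl

/-- **Master theorem**: affine-local fibre squares of rings give a pushout of ringed spaces. -/
theorem isPushout_of_local (w : ι ≫ π = q ≫ ι') [IsClosedImmersion ι] [IsClosedImmersion ι']
    (𝒰 : Set X'.Opens) (hcov : ∀ x' : X', ∃ U' ∈ 𝒰, x' ∈ U')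
    (haff : ∀ U' ∈ 𝒰, IsAffineOpen U' ∧ IsAffineOpen (π ⁻¹ᵁ U'))
    (hfib : ∀ U' ∈ 𝒰, FS ι q π ι' w U') :
    IsPushout (G.map ι) (G.map q) (G.map π) (G.map ι') := by
  have hV : ∀ U' ∈ 𝒰, IsAffineOpen (ι' ⁻¹ᵁ U') := fun U' h => (haff U' h).1.preimage ι'
  have hW : ∀ U' ∈ 𝒰, IsAffineOpen (ι ⁻¹ᵁ (π ⁻¹ᵁ U')) := fun U' h => (haff U' h).2.preimage ι
  have hp : ∀ U' ∈ 𝒰, Function.Surjective (ι.app (π ⁻¹ᵁ U')).hom := fun U' h =>
    Scheme.Hom.app_surjective ι _ (haff U' h).2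
  have T1 : ∀ x' : X', (∃ x : X, π x = x') ∨ ∃ z' : Z', ι' z' = x' := by
    intro x'
    obtain ⟨U', hU'm, hx'⟩ := hcov x'
    obtain ⟨hU', hU⟩ := haff U' hU'm
    obtain ⟨𝔭', rfl⟩ := exists_fromSpec_eq hU' x' hx'
    rcases FibSq.exists_comap_eq (hfib U' hU'm) (hp U' hU'm) 𝔭' with ⟨y, hy⟩ | ⟨_, _, _, x, hx⟩
    · right
      refine ⟨(hV U' hU'm).fromSpec y, ?_⟩
      rw [fromSpec_comap_app ι' hU' (hV U' hU'm), hy]
    · left
      refine ⟨hU.fromSpec x, ?_⟩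
      rw [fromSpec_comap_app π hU' hU, hx]
  have T2 : Function.Injective ι' := ι'.isClosedEmbedding.injective
  have T3 : ∀ (x : X) (z' : Z'), π x = ι' z' → ∃ z : Z, ι z = x ∧ q z = z' := by
    intro x z' h
    obtain ⟨U', hU'm, hx'⟩ := hcov (π x)
    obtain ⟨hU', hU⟩ := haff U' hU'm
    have hz'V : z' ∈ ι' ⁻¹ᵁ U' := by
      show ι' z' ∈ U'
      rw [← h]
      exact hx'
    obtain ⟨𝔭, rfl⟩ := exists_fromSpec_eq hU x hx'
    obtain ⟨𝔮, rfl⟩ := exists_fromSpec_eq (hV U' hU'm) z' hz'V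
    rw [fromSpec_comap_app π hU' hU, fromSpec_comap_app ι' hU' (hV U' hU'm)] at h
    have h' := fromSpec_injective hU' h
    obtain ⟨𝔯, h𝔯1, h𝔯2⟩ := exists_comap_of_eq (hfib U' hU'm) (hp U' hU'm) 𝔭 𝔮 h'
    refine ⟨(hW U' hU'm).fromSpec 𝔯, ?_, ?_⟩
    · rw [fromSpec_comap_app ι hU (hW U' hU'm), h𝔯1]
    · rw [fromSpec_comap q (hV U' hU'm) (hW U' hU'm) (hle ι q π ι' w U'), h𝔯2]
  have T4 : ∀ x₁ x₂ : X, π x₁ = π x₂ → x₁ ∉ Set.range ι → x₁ = x₂ := by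
    intro x₁ x₂ h hx₁
    obtain ⟨U', hU'm, hx'⟩ := hcov (π x₁)
    obtain ⟨hU', hU⟩ := haff U' hU'm
    have hx₂ : x₂ ∈ π ⁻¹ᵁ U' := by
      show π x₂ ∈ U'
      rw [← h]
      exact hx'
    obtain ⟨𝔭₁, rfl⟩ := exists_fromSpec_eq hU x₁ hx'
    obtain ⟨𝔭₂, rfl⟩ := exists_fromSpec_eq hU x₂ hx₂
    rw [fromSpec_comap_app π hU' hU, fromSpec_comap_app π hU' hU] at h
    have h' := fromSpec_injective hU' h
    have hker : ¬ RingHom.ker (ι.app (π ⁻¹ᵁ U')).hom ≤ 𝔭₁.asIdeal := by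
      intro hk
      have hr : 𝔭₁ ∈ Set.range (PrimeSpectrum.comap (ι.app (π ⁻¹ᵁ U')).hom) := by
        rw [range_comap_of_surjective _ _ (hp U' hU'm)]
        exact hk
      obtain ⟨𝔯, rfl⟩ := hr
      apply hx₁
      exact ⟨(hW U' hU'm).fromSpec 𝔯, fromSpec_comap_app ι hU (hW U' hU'm) 𝔯⟩
    rw [eq_of_comap_snd_eq (hfib U' hU'm) 𝔭₁ 𝔭₂ h' hker]
  have T5 : ∀ W : Set X', IsOpen (π ⁻¹' W) → IsOpen (ι' ⁻¹' W) → IsOpen W := by
    intro W hπ hι'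
    rw [isOpen_iff_forall_mem_open]
    intro x' hx'W
    obtain ⟨U', hU'm, hx'⟩ := hcov x'
    obtain ⟨hU', hU⟩ := haff U' hU'm
    have hT : IsOpen (hU'.fromSpec ⁻¹' W) := by
      refine isOpen_of_preimages (hfib U' hU'm) (hp U' hU'm) (hU'.fromSpec ⁻¹' W) ?_ ?_
      · have e : PrimeSpectrum.comap (π.app U').hom ⁻¹' (hU'.fromSpec ⁻¹' W) =
            hU.fromSpec ⁻¹' (π ⁻¹' W) := by
          ext 𝔭
          show hU'.fromSpec (PrimeSpectrum.comap (π.app U').hom 𝔭) ∈ W ↔ π (hU.fromSpec 𝔭) ∈ W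
          rw [fromSpec_comap_app π hU' hU]
        refine (congrArg IsOpen e).mpr ?_
        exact hU.fromSpec.continuous.isOpen_preimage _ hπ
      · have e : PrimeSpectrum.comap (ι'.app U').hom ⁻¹' (hU'.fromSpec ⁻¹' W) =
            (hV U' hU'm).fromSpec ⁻¹' (ι' ⁻¹' W) := by
          ext 𝔭
          show hU'.fromSpec (PrimeSpectrum.comap (ι'.app U').hom 𝔭) ∈ W ↔
            ι' ((hV U' hU'm).fromSpec 𝔭) ∈ W
          rw [fromSpec_comap_app ι' hU' (hV U' hU'm)]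
        refine (congrArg IsOpen e).mpr ?_
        exact (hV U' hU'm).fromSpec.continuous.isOpen_preimage _ hι'
    refine ⟨hU'.fromSpec '' (hU'.fromSpec ⁻¹' W), Set.image_preimage_subset _ _,
      hU'.fromSpec.isOpenEmbedding.isOpenMap _ hT, ?_⟩
    obtain ⟨𝔭', rfl⟩ := exists_fromSpec_eq hU' x' hx'
    exact ⟨𝔭', hx'W, rfl⟩
  have hbasisFS : ∀ (U'' : X'.Opens) (x' : X'), x' ∈ U'' →
      ∃ D : X'.Opens, D ≤ U'' ∧ x' ∈ D ∧ FS ι q π ι' w D := by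
    intro U'' x' hx''
    obtain ⟨U', hU'm, hx'⟩ := hcov x'
    obtain ⟨hU', hU⟩ := haff U' hU'm
    obtain ⟨k, hk1, hk2⟩ := hU'.exists_basicOpen_le (V := U'') ⟨x', hx''⟩ hx'
    exact ⟨X'.basicOpen k, hk1, hk2,
      (hfib U' hU'm).basicOpen hU' hU (hV U' hU'm) (hW U' hU'm) k⟩
  have hI : ∀ U'' : X'.Opens, InjOn π ι' U'' := injOn_of_basis π ι' (fun U'' x' hx' => by
    obtain ⟨D, h1, h2, h3⟩ := hbasisFS U'' x' hx'
    exact ⟨D, h1, h2, h3.injOn⟩)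
  have hGl : ∀ U'' : X'.Opens, GlueOn ι q π ι' U'' := glueOn_of_basis ι q π ι' w hI
    (fun U'' x' hx' => by
      obtain ⟨D, h1, h2, h3⟩ := hbasisFS U'' x' hx'
      exact ⟨D, h1, h2, h3.glueOn⟩)
  exact isPushout_of_sections ι q π ι' w T1 T2 T3 T4 T5 hI hGl

end Main

end Groth.Agent.PushoutLocal
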