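import Mathlib
import Groth.Agent.Lib.PushoutLocal_helper5

/-!
# Pushouts of schemes in sheafed spaces: points and sections

`X ←i− Z −j→ Y` a span of schemes, `P` a sheafed space with `a : X → P`, `b : Y → P`
a pushout in sheafed spaces.
-/

namespace Groth.Agent.ShPushout

open CategoryTheory Limits AlgebraicGeometry TopologicalSpace Opposite
open Groth.Agent.RSPushout Groth.Agent.RSPushoutCrit

universe u

variable {X Y Z : Scheme.{u}} (i : Z ⟶ X) (j : Z ⟶ Y) {P : SheafedSpace CommRingCat.{u}}
  (a : G.obj X ⟶ P) (b : G.obj Y ⟶ P) (hP : IsPushout (G.map i) (G.map j) a b)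

section Top

include hP

theorem comm_pt (z : Z) : a.hom.base (i z) = b.hom.base (j z) := by
  have h := congrArg (fun m => m.hom.base) hP.w
  exact congr($h z)

theorem isPushout_type : IsPushout
    ((forget TopCat).map ((SheafedSpace.forget CommRingCat).map (G.map i)))
    ((forget TopCat).map ((SheafedSpace.forget CommRingCat).map (G.map j)))
    ((forget TopCat).map ((SheafedSpace.forget CommRingCat).map a))
    ((forget TopCat).map ((SheafedSpace.forget CommRingCat).map b)) :=
  (hP.map (SheafedSpace.forget CommRingCat)).map (forget TopCat)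

theorem exists_pt (p : P) : (∃ x : X, a.hom.base x = p) ∨ ∃ y : Y, b.hom.base y = p :=
  Types.eq_or_eq_of_isPushout (isPushout_type i j a b hP) p

theorem eq_iff (hi : Function.Injective i) (x : X) (y : Y) :
    a.hom.base x = b.hom.base y ↔ ∃ z : Z, i z = x ∧ j z = y :=
  Types.pushoutCocone_inl_eq_inr_iff_of_isColimit (isPushout_type i j a b hP).isColimit hi x y

theorem injective_b (hi : Function.Injective i) : Function.Injective b.hom.base :=
  Types.pushoutCocone_inr_injective_of_isColimit (isPushout_type i j a b hP).isColimit hi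

theorem injective_a (hj : Function.Injective j) : Function.Injective a.hom.base :=
  Types.pushoutCocone_inr_injective_of_isColimit (isPushout_type i j a b hP).flip.isColimit hj

theorem isOpen_iff (W : Set P) :
    IsOpen W ↔ IsOpen (a.hom.base ⁻¹' W) ∧ IsOpen (b.hom.base ⁻¹' W) := by
  have hT := hP.map (SheafedSpace.forget CommRingCat)
  constructor
  · intro hW
    exact ⟨hW.preimage a.hom.base.hom.continuous, hW.preimage b.hom.base.hom.continuous⟩
  · rintro ⟨h1, h2⟩
    refine (TopCat.isOpen_iff_of_isColimit _ hT.isColimit W).mpr ?_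
    intro k
    rcases k with _ | _ | _
    · have : (hT.cocone.ι.app none) = (SheafedSpace.forget CommRingCat).map (G.map i) ≫
          (SheafedSpace.forget CommRingCat).map a := (hT.cocone.w WalkingSpan.Hom.fst).symm
      rw [this]
      exact h1.preimage ((SheafedSpace.forget CommRingCat).map (G.map i)).hom.continuous
    · exact h1
    · exact h2

end Top

section Sections

/-- preimage of an open under `a` -/
abbrev pre {W : Scheme.{u}} (c : G.obj W ⟶ P) (V : Opens P) : W.Opens :=
  (Opens.map c.hom.base).obj V

include hP in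
theorem sections_inj (V : Opens P) (s₁ s₂ : P.presheaf.obj (op V))
    (h1 : a.hom.c.app (op V) s₁ = a.hom.c.app (op V) s₂)
    (h2 : b.hom.c.app (op V) s₁ = b.hom.c.app (op V) s₂) : s₁ = s₂ := by
  have ht : IsColimit (SheafedSpace.forgetToPresheafedSpace.mapCocone hP.cocone) :=
    isColimitOfPreserves SheafedSpace.forgetToPresheafedSpace hP.isColimit
  obtain ⟨hJ, -⟩ := sections_of_isColimit _ _ ht
  refine hJ V s₁ s₂ fun k => ?_
  rcases k with _ | _ | _
  · show i.app (pre a V) (a.hom.c.app (op V) s₁) = i.app (pre a V) (a.hom.c.app (op V) s₂)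
    rw [h1]
  · exact h1
  · exact h2

/-- the family of sections used for gluing -/
def fam (V : Opens P) (α : Γ(X, pre a V)) (β : Γ(Y, pre b V)) :
    ∀ k : WalkingSpan, ((span (G.map i) (G.map j) ⋙ SheafedSpace.forgetToPresheafedSpace).obj
      k).presheaf.obj (op ((Opens.map ((SheafedSpace.forgetToPresheafedSpace.mapCocone
        hP.cocone).ι.app k).base).obj V))
  | none => i.app (pre a V) α
  | some .left => α
  | some .right => β

include hP in
theorem sections_glue (V : Opens P) (α : Γ(X, pre a V)) (β : Γ(Y, pre b V))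
    (hαβ : ∀ hle : i ⁻¹ᵁ (pre a V) ≤ j ⁻¹ᵁ (pre b V),
      Z.presheaf.map (homOfLE hle).op (j.app (pre b V) β) = i.app (pre a V) α) :
    ∃ s : P.presheaf.obj (op V), a.hom.c.app (op V) s = α ∧ b.hom.c.app (op V) s = β := by
  have ht : IsColimit (SheafedSpace.forgetToPresheafedSpace.mapCocone hP.cocone) :=
    isColimitOfPreserves SheafedSpace.forgetToPresheafedSpace hP.isColimit
  obtain ⟨-, hG⟩ := sections_of_isColimit _ _ ht
  obtain ⟨s, hs⟩ := hG V (fam i j a b hP V α β) (by
    intro k k' φ hle
    obtain ⟨φ', hφ⟩ : ∃ φ' : WidePushoutShape.Hom k k', φ = φ' := ⟨φ, rfl⟩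
    revert hle
    rw [hφ]
    intro hle
    clear hφ φ
    cases φ' with
    | id k =>
      rcases k with _ | _ | _
      · refine Eq.trans (map_endo_apply _ _ _ _) ?_
        rfl
      · refine Eq.trans (map_endo_apply _ _ _ _) ?_
        rfl
      · refine Eq.trans (map_endo_apply _ _ _ _) ?_
        rfl
    | init k =>
      rcases k with _ | _
      · refine Eq.trans (map_endo_apply _ _ _ _) ?_
        rfl
      · exact hαβ hle)
  exact ⟨s, hs (some .left), hs (some .right)⟩

end Sections

end Groth.Agent.ShPushout
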