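import Mathlib
import Groth.Agent.Lib.ShPushout_helper5
import Groth.Agent.Lib.PinchBC_helper5

/-!
# A morphism between pushouts of sheafed spaces induced by open immersions is an open immersion
-/

namespace Groth.Agent.ShPushout

open CategoryTheory Limits AlgebraicGeometry TopologicalSpace Opposite
open Groth.Agent.RSPushout Groth.Agent.RSPushoutCrit

universe u

section OpenImm

variable {X Y Z : Scheme.{u}} (i : Z ⟶ X) (j : Z ⟶ Y) {P : SheafedSpace CommRingCat.{u}}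
  (a : G.obj X ⟶ P) (b : G.obj Y ⟶ P) (hP : IsPushout (G.map i) (G.map j) a b)
  {X₀ Y₀ Z₀ P₀ : Scheme.{u}} (i₀ : Z₀ ⟶ X₀) (j₀ : Z₀ ⟶ Y₀) (a₀ : X₀ ⟶ P₀) (b₀ : Y₀ ⟶ P₀)
  (hP₀ : IsPushout (G.map i₀) (G.map j₀) (G.map a₀) (G.map b₀))
  (φX : X₀ ⟶ X) (φY : Y₀ ⟶ Y) (φZ : Z₀ ⟶ Z)
  (hiφ : φZ ≫ i = i₀ ≫ φX) (hjφ : φZ ≫ j = j₀ ≫ φY)
  (f : G.obj P₀ ⟶ P) (hfa : G.map a₀ ≫ f = G.map φX ≫ a) (hfb : G.map b₀ ≫ f = G.map φY ≫ b)

include hfa in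
theorem f_a₀ (x₀ : X₀) : f.hom.base (a₀ x₀) = a.hom.base (φX x₀) := by
  have h := congrArg (fun m => m.hom.base) hfa
  exact congr($h x₀)

include hfb in
theorem f_b₀ (y₀ : Y₀) : f.hom.base (b₀ y₀) = b.hom.base (φY y₀) := by
  have h := congrArg (fun m => m.hom.base) hfb
  exact congr($h y₀)

include hiφ in
theorem φX_i₀ (z₀ : Z₀) : φX (i₀ z₀) = i (φZ z₀) := by
  have h := congrArg (fun m => m.base) hiφ
  exact (congr($h z₀)).symm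

include hjφ in
theorem φY_j₀ (z₀ : Z₀) : φY (j₀ z₀) = j (φZ z₀) := by
  have h := congrArg (fun m => m.base) hjφ
  exact (congr($h z₀)).symm

include hfa in
theorem c_square_a (V : Opens P) (e : a₀ ⁻¹ᵁ ((Opens.map f.hom.base).obj V) ≤ φX ⁻¹ᵁ (pre a V)) :
    f.hom.c.app (op V) ≫ a₀.app ((Opens.map f.hom.base).obj V) =
      a.hom.c.app (op V) ≫ φX.appLE (pre a V) (a₀ ⁻¹ᵁ ((Opens.map f.hom.base).obj V)) e := by
  have h : (G.map a₀ ≫ f).hom = (G.map φX ≫ a).hom := congrArg (fun m => m.hom) hfa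
  have h2 := PresheafedSpace.congr_app h (op V)
  refine h2.trans ?_
  show (a.hom.c.app (op V) ≫ φX.app (pre a V)) ≫ _ = _
  rw [Category.assoc]
  rfl

include hfb in
theorem c_square_b (V : Opens P) (e : b₀ ⁻¹ᵁ ((Opens.map f.hom.base).obj V) ≤ φY ⁻¹ᵁ (pre b V)) :
    f.hom.c.app (op V) ≫ b₀.app ((Opens.map f.hom.base).obj V) =
      b.hom.c.app (op V) ≫ φY.appLE (pre b V) (b₀ ⁻¹ᵁ ((Opens.map f.hom.base).obj V)) e := by
  have h : (G.map b₀ ≫ f).hom = (G.map φY ≫ b).hom := congrArg (fun m => m.hom) hfb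
  have h2 := PresheafedSpace.congr_app h (op V)
  refine h2.trans ?_
  show (b.hom.c.app (op V) ≫ φY.app (pre b V)) ≫ _ = _
  rw [Category.assoc]
  rfl

variable [IsOpenImmersion φX] [IsOpenImmersion φY] [IsOpenImmersion φZ]
  (U : Opens P) (hUX : φX.opensRange = pre a U) (hUY : φY.opensRange = pre b U)
  (hUZ : φZ.opensRange = i ⁻¹ᵁ (pre a U))
  (hi : Function.Injective i) (hj : Function.Injective j)

include hUX in
theorem mem_range_φX (x : X) : x ∈ Set.range φX ↔ a.hom.base x ∈ U := by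
  have h := congrArg (fun W : X.Opens => x ∈ W) hUX
  exact iff_of_eq h

include hUY in
theorem mem_range_φY (y : Y) : y ∈ Set.range φY ↔ b.hom.base y ∈ U := by
  have h := congrArg (fun W : Y.Opens => y ∈ W) hUY
  exact iff_of_eq h

include hUZ in
theorem mem_range_φZ (z : Z) : z ∈ Set.range φZ ↔ a.hom.base (i z) ∈ U := by
  have h := congrArg (fun W : Z.Opens => z ∈ W) hUZ
  exact iff_of_eq h

include hP hP₀ hiφ hjφ hfa hfb hUX hUZ hi hj in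
theorem f_injective : Function.Injective f.hom.base := by
  have key : ∀ (x₀ : X₀) (y₀ : Y₀), f.hom.base (a₀ x₀) = f.hom.base (b₀ y₀) → a₀ x₀ = b₀ y₀ := by
    intro x₀ y₀ h
    rw [f_a₀ a a₀ φX f hfa, f_b₀ b b₀ φY f hfb] at h
    obtain ⟨z, hz1, hz2⟩ := (eq_iff i j a b hP hi _ _).mp h
    have hz : z ∈ Set.range φZ := by
      rw [mem_range_φZ i a φZ U hUZ, hz1, ← mem_range_φX a φX U hUX]
      exact ⟨x₀, rfl⟩
    obtain ⟨z₀, rfl⟩ := hz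
    have h1 : i₀ z₀ = x₀ := by
      apply φX.isOpenEmbedding.injective
      rw [φX_i₀ i i₀ φX φZ hiφ, hz1]
    have h2 : j₀ z₀ = y₀ := by
      apply φY.isOpenEmbedding.injective
      rw [φY_j₀ j j₀ φY φZ hjφ, hz2]
    rw [← h1, ← h2]
    exact comm_pt i₀ j₀ (G.map a₀) (G.map b₀) hP₀ z₀
  intro p p' h
  rcases exists_pt i₀ j₀ (G.map a₀) (G.map b₀) hP₀ p with ⟨x₀, rfl⟩ | ⟨y₀, rfl⟩
  · rcases exists_pt i₀ j₀ (G.map a₀) (G.map b₀) hP₀ p' with ⟨x₀', rfl⟩ | ⟨y₀', rfl⟩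
    · have h' : f.hom.base (a₀ x₀) = f.hom.base (a₀ x₀') := h
      rw [f_a₀ a a₀ φX f hfa, f_a₀ a a₀ φX f hfa] at h'
      have := φX.isOpenEmbedding.injective (injective_a i j a b hP hj h')
      rw [this]
    · exact key x₀ y₀' h
  · rcases exists_pt i₀ j₀ (G.map a₀) (G.map b₀) hP₀ p' with ⟨x₀', rfl⟩ | ⟨y₀', rfl⟩
    · exact (key x₀' y₀ h.symm).symm
    · have h' : f.hom.base (b₀ y₀) = f.hom.base (b₀ y₀') := h
      rw [f_b₀ b b₀ φY f hfb, f_b₀ b b₀ φY f hfb] at h'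
      have := φY.isOpenEmbedding.injective (injective_b i j a b hP hi h')
      rw [this]

include hP hP₀ hfa hfb hUX hUY in
theorem f_range : Set.range f.hom.base = (U : Set P) := by
  ext p
  constructor
  · rintro ⟨p₀, rfl⟩
    rcases exists_pt i₀ j₀ (G.map a₀) (G.map b₀) hP₀ p₀ with ⟨x₀, rfl⟩ | ⟨y₀, rfl⟩
    · have h : f.hom.base (a₀ x₀) ∈ U := by
        rw [f_a₀ a a₀ φX f hfa, ← mem_range_φX a φX U hUX]
        exact ⟨x₀, rfl⟩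
      exact h
    · have h : f.hom.base (b₀ y₀) ∈ U := by
        rw [f_b₀ b b₀ φY f hfb, ← mem_range_φY b φY U hUY]
        exact ⟨y₀, rfl⟩
      exact h
  · intro hp
    rcases exists_pt i j a b hP p with ⟨x, rfl⟩ | ⟨y, rfl⟩
    · obtain ⟨x₀, rfl⟩ := (mem_range_φX a φX U hUX x).mpr hp
      exact ⟨a₀ x₀, f_a₀ a a₀ φX f hfa x₀⟩
    · obtain ⟨y₀, rfl⟩ := (mem_range_φY b φY U hUY y).mpr hp
      exact ⟨b₀ y₀, f_b₀ b b₀ φY f hfb y₀⟩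

include hP hP₀ hiφ hjφ hfa hfb hUX hUY hUZ hi hj in
theorem f_isOpenMap : IsOpenMap f.hom.base := by
  have hinj := f_injective i j a b hP i₀ j₀ a₀ b₀ hP₀ φX φY φZ hiφ hjφ f hfa hfb U hUX hUZ hi hj
  have hrange := f_range i j a b hP i₀ j₀ a₀ b₀ hP₀ φX φY f hfa hfb U hUX hUY
  intro V₀ hV₀
  rw [isOpen_iff i j a b hP]
  constructor
  · have e : a.hom.base ⁻¹' (f.hom.base '' V₀) = φX '' (a₀ ⁻¹' V₀) := by
      ext x
      constructor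
      · rintro ⟨p₀, hp₀, hx⟩
        have hxU : a.hom.base x ∈ U := by
          have : a.hom.base x ∈ Set.range f.hom.base := ⟨p₀, hx⟩
          rw [hrange] at this
          exact this
        obtain ⟨x₀, rfl⟩ := (mem_range_φX a φX U hUX x).mpr hxU
        refine ⟨x₀, ?_, rfl⟩
        have : a₀ x₀ = p₀ := hinj ((f_a₀ a a₀ φX f hfa x₀).trans hx.symm)
        show a₀ x₀ ∈ V₀
        rw [this]
        exact hp₀
      · rintro ⟨x₀, hx₀, rfl⟩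
        exact ⟨a₀ x₀, hx₀, f_a₀ a a₀ φX f hfa x₀⟩
    rw [e]
    exact φX.isOpenEmbedding.isOpenMap _ (hV₀.preimage a₀.continuous)
  · have e : b.hom.base ⁻¹' (f.hom.base '' V₀) = φY '' (b₀ ⁻¹' V₀) := by
      ext y
      constructor
      · rintro ⟨p₀, hp₀, hy⟩
        have hyU : b.hom.base y ∈ U := by
          have : b.hom.base y ∈ Set.range f.hom.base := ⟨p₀, hy⟩
          rw [hrange] at this
          exact this
        obtain ⟨y₀, rfl⟩ := (mem_range_φY b φY U hUY y).mpr hyU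
        refine ⟨y₀, ?_, rfl⟩
        have : b₀ y₀ = p₀ := hinj ((f_b₀ b b₀ φY f hfb y₀).trans hy.symm)
        show b₀ y₀ ∈ V₀
        rw [this]
        exact hp₀
      · rintro ⟨y₀, hy₀, rfl⟩
        exact ⟨b₀ y₀, hy₀, f_b₀ b b₀ φY f hfb y₀⟩
    rw [e]
    exact φY.isOpenEmbedding.isOpenMap _ (hV₀.preimage b₀.continuous)

include hP hP₀ hiφ hjφ hfa hfb hUX hUY hUZ hi hj in
theorem f_isOpenEmbedding : Topology.IsOpenEmbedding f.hom.base :=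
  Topology.IsOpenEmbedding.of_continuous_injective_isOpenMap f.hom.base.hom.continuous
    (f_injective i j a b hP i₀ j₀ a₀ b₀ hP₀ φX φY φZ hiφ hjφ f hfa hfb U hUX hUZ hi hj)
    (f_isOpenMap i j a b hP i₀ j₀ a₀ b₀ hP₀ φX φY φZ hiφ hjφ f hfa hfb U hUX hUY hUZ hi hj)

theorem appLE_bijective_of_openImm {A B : Scheme.{u}} (φ : A ⟶ B) [IsOpenImmersion φ]
    (W : B.Opens) (W₀ : A.Opens) (e : W₀ = φ ⁻¹ᵁ W) (hW : W ≤ φ.opensRange) :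
    Function.Bijective (φ.appLE W W₀ e.le) := by
  subst e
  haveI := Scheme.Hom.isIso_app φ W hW
  have : φ.appLE W (φ ⁻¹ᵁ W) le_rfl = φ.app W := (Scheme.Hom.app_eq_appLE φ).symm
  rw [this]
  exact ConcreteCategory.bijective_of_isIso _

/-- preimage of an open under `f` -/
abbrev fpre (f : G.obj P₀ ⟶ P) (V : Opens P) : P₀.Opens := (Opens.map f.hom.base).obj V

include hP hP₀ hiφ hjφ hfa hfb hUX hUY hUZ in
theorem f_c_bijective (V : Opens P) (hV : V ≤ U) : Function.Bijective (f.hom.c.app (op V)) := by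
  have w₀ : i₀ ≫ a₀ = j₀ ≫ b₀ :=
    G.map_injective (by rw [G.map_comp, G.map_comp]; exact hP₀.w)
  -- opens
  have eX : a₀ ⁻¹ᵁ (fpre f V) = φX ⁻¹ᵁ (pre a V) := by
    ext x₀
    show f.hom.base (a₀ x₀) ∈ V ↔ a.hom.base (φX x₀) ∈ V
    rw [f_a₀ a a₀ φX f hfa]
  have eY : b₀ ⁻¹ᵁ (fpre f V) = φY ⁻¹ᵁ (pre b V) := by
    ext y₀
    show f.hom.base (b₀ y₀) ∈ V ↔ b.hom.base (φY y₀) ∈ V
    rw [f_b₀ b b₀ φY f hfb]
  have eZ : i₀ ⁻¹ᵁ (a₀ ⁻¹ᵁ (fpre f V)) = φZ ⁻¹ᵁ (i ⁻¹ᵁ (pre a V)) := by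
    rw [eX, ← Scheme.Hom.comp_preimage, ← hiφ, Scheme.Hom.comp_preimage]
  have hWX : pre a V ≤ φX.opensRange := by
    rw [hUX]
    exact fun x hx => hV hx
  have hWY : pre b V ≤ φY.opensRange := by
    rw [hUY]
    exact fun y hy => hV hy
  have hWZ : i ⁻¹ᵁ (pre a V) ≤ φZ.opensRange := by
    rw [hUZ]
    exact fun z hz => hV hz
  have bX := appLE_bijective_of_openImm φX (pre a V) (a₀ ⁻¹ᵁ (fpre f V)) eX hWX
  have bY := appLE_bijective_of_openImm φY (pre b V) (b₀ ⁻¹ᵁ (fpre f V)) eY hWY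
  have bZ := appLE_bijective_of_openImm φZ (i ⁻¹ᵁ (pre a V)) (i₀ ⁻¹ᵁ (a₀ ⁻¹ᵁ (fpre f V))) eZ hWZ
  have sqa : f.hom.c.app (op V) ≫ a₀.app (fpre f V) =
      a.hom.c.app (op V) ≫ φX.appLE (pre a V) (a₀ ⁻¹ᵁ (fpre f V)) eX.le := by
    exact c_square_a a a₀ φX f hfa V _
  have sqb : f.hom.c.app (op V) ≫ b₀.app (fpre f V) =
      b.hom.c.app (op V) ≫ φY.appLE (pre b V) (b₀ ⁻¹ᵁ (fpre f V)) eY.le := by
    exact c_square_b b b₀ φY f hfb V _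
  have sqa' : ∀ s, a₀.app (fpre f V) (f.hom.c.app (op V) s) =
      φX.appLE (pre a V) (a₀ ⁻¹ᵁ (fpre f V)) eX.le (a.hom.c.app (op V) s) := fun s => congr($sqa s)
  have sqb' : ∀ s, b₀.app (fpre f V) (f.hom.c.app (op V) s) =
      φY.appLE (pre b V) (b₀ ⁻¹ᵁ (fpre f V)) eY.le (b.hom.c.app (op V) s) := fun s => congr($sqb s)
  constructor
  · intro s₁ s₂ h
    refine sections_inj i j a b hP V s₁ s₂ ?_ ?_
    · apply bX.1
      rw [← sqa', ← sqa', h]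
    · apply bY.1
      rw [← sqb', ← sqb', h]
  · intro σ₀
    obtain ⟨σ, hσ⟩ : ∃ σ : Γ(P₀, fpre f V), σ = σ₀ := ⟨σ₀, rfl⟩
    obtain ⟨α, hα⟩ := bX.2 (a₀.app (fpre f V) σ)
    obtain ⟨β, hβ⟩ := bY.2 (b₀.app (fpre f V) σ)
    have hle₀ : i₀ ⁻¹ᵁ (a₀ ⁻¹ᵁ (fpre f V)) ≤ j₀ ⁻¹ᵁ (b₀ ⁻¹ᵁ (fpre f V)) := by
      rw [← Scheme.Hom.comp_preimage, ← Scheme.Hom.comp_preimage, w₀]
    obtain ⟨s, hs1, hs2⟩ := sections_glue i j a b hP V α β (by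
      intro hle
      apply bZ.1
      -- M1
      have M1 : i.app (pre a V) ≫ φZ.appLE (i ⁻¹ᵁ (pre a V)) (i₀ ⁻¹ᵁ (a₀ ⁻¹ᵁ (fpre f V))) eZ.le =
          φX.appLE (pre a V) (a₀ ⁻¹ᵁ (fpre f V)) eX.le ≫ i₀.app (a₀ ⁻¹ᵁ (fpre f V)) := by
        rw [Scheme.Hom.app_eq_appLE, Scheme.Hom.app_eq_appLE]
        exact Groth.Agent.PinchBC.appLE_square φZ i i₀ φX hiφ _ _ _ _
      have M2 : j.appLE (pre b V) (i ⁻¹ᵁ (pre a V)) hle ≫
          φZ.appLE (i ⁻¹ᵁ (pre a V)) (i₀ ⁻¹ᵁ (a₀ ⁻¹ᵁ (fpre f V))) eZ.le =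
          φY.appLE (pre b V) (b₀ ⁻¹ᵁ (fpre f V)) eY.le ≫ j₀.appLE (b₀ ⁻¹ᵁ (fpre f V)) (i₀ ⁻¹ᵁ (a₀ ⁻¹ᵁ (fpre f V))) hle₀ :=
        Groth.Agent.PinchBC.appLE_square φZ j j₀ φY hjφ _ _ _ _
      have M3 : a₀.app (fpre f V) ≫ i₀.app (a₀ ⁻¹ᵁ (fpre f V)) =
          b₀.app (fpre f V) ≫ j₀.appLE (b₀ ⁻¹ᵁ (fpre f V)) (i₀ ⁻¹ᵁ (a₀ ⁻¹ᵁ (fpre f V))) hle₀ := by
        rw [Scheme.Hom.app_eq_appLE, Scheme.Hom.app_eq_appLE, Scheme.Hom.app_eq_appLE]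
        exact Groth.Agent.PinchBC.appLE_square i₀ a₀ j₀ b₀ w₀ _ _ _ _
      have e1 : φZ.appLE (i ⁻¹ᵁ (pre a V)) (i₀ ⁻¹ᵁ (a₀ ⁻¹ᵁ (fpre f V))) eZ.le (i.app (pre a V) α) =
          i₀.app (a₀ ⁻¹ᵁ (fpre f V)) (a₀.app (fpre f V) σ) := by
        rw [← hα]
        exact congr($M1 α)
      have e2 : φZ.appLE (i ⁻¹ᵁ (pre a V)) (i₀ ⁻¹ᵁ (a₀ ⁻¹ᵁ (fpre f V))) eZ.le
          (Z.presheaf.map (homOfLE hle).op (j.app (pre b V) β)) =
          j₀.appLE (b₀ ⁻¹ᵁ (fpre f V)) (i₀ ⁻¹ᵁ (a₀ ⁻¹ᵁ (fpre f V))) hle₀ (b₀.app (fpre f V) σ) := by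
        rw [← hβ]
        exact congr($M2 β)
      rw [e1, e2]
      exact (congr($M3 σ)).symm)
    refine ⟨s, ?_⟩
    have hfin : f.hom.c.app (op V) s = σ := by
      refine Groth.Agent.RSPushout.sections_inj i₀ j₀ a₀ b₀ hP₀ _ _ _ ?_ ?_
      · rw [sqa', hs1, hα]
      · rw [sqb', hs2, hβ]
    rw [hfin]
    exact hσ

include hP hP₀ hiφ hjφ hfa hfb hUX hUY hUZ hi hj in
theorem f_isOpenImmersion : SheafedSpace.IsOpenImmersion f := by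
  have hemb := f_isOpenEmbedding i j a b hP i₀ j₀ a₀ b₀ hP₀ φX φY φZ hiφ hjφ f hfa hfb U hUX hUY
    hUZ hi hj
  have hrange := f_range i j a b hP i₀ j₀ a₀ b₀ hP₀ φX φY f hfa hfb U hUX hUY
  refine ⟨hemb, fun U₀ => ?_⟩
  have hle : hemb.functor.obj U₀ ≤ U := by
    rintro p ⟨p₀, -, rfl⟩
    have : f.hom.base p₀ ∈ Set.range f.hom.base := ⟨p₀, rfl⟩
    rw [hrange] at this
    exact this
  exact (ConcreteCategory.isIso_iff_bijective _).mpr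
    (f_c_bijective i j a b hP i₀ j₀ a₀ b₀ hP₀ φX φY φZ hiφ hjφ f hfa hfb U hUX hUY hUZ _ hle)

end OpenImm

end Groth.Agent.ShPushout
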