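import Mathlib
import Groth.Agent.Lib.ShPushoutImm_helper5

/-!
# Affine charts of a pushout of schemes along closed immersions
-/

namespace Groth.Agent.ShPushout

open CategoryTheory Limits AlgebraicGeometry TopologicalSpace Opposite
open Groth.Agent.RSPushout Groth.Agent.RSPushoutCrit Groth.Agent.FibSqLib Groth.Agent.PushoutLocal

universe u

/-- the spectrum of a fibre product ring is a pushout of sheafed spaces -/
theorem spec_isPushout {Rr B A' A : CommRingCat.{u}} (π₁ : Rr ⟶ B) (π₂ : Rr ⟶ A') (q : B ⟶ A)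
    (p : A' ⟶ A) (sq : FibSq π₁.hom π₂.hom q.hom p.hom) (hp : Function.Surjective p) :
    IsPushout (G.map (Spec.map p)) (G.map (Spec.map q)) (G.map (Spec.map π₂))
      (G.map (Spec.map π₁)) := by
  have w : Spec.map p ≫ Spec.map π₂ = Spec.map q ≫ Spec.map π₁ := by
    rw [← Spec.map_comp, ← Spec.map_comp]
    congr 1
    ext x
    exact (sq.comm x).symm
  haveI : IsClosedImmersion (Spec.map p) := IsClosedImmersion.spec_of_surjective p hp
  haveI : IsClosedImmersion (Spec.map π₁) :=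
    IsClosedImmersion.spec_of_surjective π₁ (sq.surjective_fst hp)
  refine isPushout_of_local _ _ _ _ w {⊤} (fun x => ⟨⊤, rfl, trivial⟩) ?_ ?_
  · rintro U' rfl
    exact ⟨isAffineOpen_top _, isAffineOpen_top _⟩
  · rintro U' rfl
    refine Groth.Agent.PinchBC.fibSq_of_iso (Scheme.ΓSpecIso Rr).symm (Scheme.ΓSpecIso B).symm
      (Scheme.ΓSpecIso A').symm (Scheme.ΓSpecIso A).symm ?_ ?_ ?_ ?_ sq
    · exact Scheme.ΓSpecIso_inv_naturality π₁
    · exact Scheme.ΓSpecIso_inv_naturality π₂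
    · refine (Scheme.ΓSpecIso_inv_naturality q).trans ?_
      congr 1
    · exact Scheme.ΓSpecIso_inv_naturality p

section Good

variable {X Y Z : Scheme.{u}} (i : Z ⟶ X) (j : Z ⟶ Y) {P : SheafedSpace CommRingCat.{u}}
  (a : G.obj X ⟶ P) (b : G.obj Y ⟶ P) (hP : IsPushout (G.map i) (G.map j) a b)

include hP in
theorem exists_open (hi : Function.Injective i) (hj : Function.Injective j) (UX : X.Opens)
    (UY : Y.Opens) (h : i ⁻¹ᵁ UX = j ⁻¹ᵁ UY) :
    ∃ U : Opens P, pre a U = UX ∧ pre b U = UY := by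
  have hmem : ∀ z : Z, i z ∈ UX ↔ j z ∈ UY := fun z => by
    have := congrArg (fun W : Z.Opens => z ∈ W) h
    exact iff_of_eq this
  have e1 : a.hom.base ⁻¹' (a.hom.base '' (UX : Set X) ∪ b.hom.base '' (UY : Set Y)) = (UX : Set X) := by
    ext x
    constructor
    · rintro (⟨x', hx', hxx'⟩ | ⟨y, hy, hxy⟩)
      · rw [← injective_a i j a b hP hj hxx']
        exact hx'
      · obtain ⟨z, rfl, rfl⟩ := (eq_iff i j a b hP hi x y).mp hxy.symm
        exact (hmem z).mpr hy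
    · intro hx
      exact Or.inl ⟨x, hx, rfl⟩
  have e2 : b.hom.base ⁻¹' (a.hom.base '' (UX : Set X) ∪ b.hom.base '' (UY : Set Y)) = (UY : Set Y) := by
    ext y
    constructor
    · rintro (⟨x, hx, hxy⟩ | ⟨y', hy', hyy'⟩)
      · obtain ⟨z, rfl, rfl⟩ := (eq_iff i j a b hP hi x y).mp hxy
        exact (hmem z).mp hx
      · rw [← injective_b i j a b hP hi hyy']
        exact hy'
    · intro hy
      exact Or.inr ⟨y, hy, rfl⟩
  have hopen : IsOpen (a.hom.base '' (UX : Set X) ∪ b.hom.base '' (UY : Set Y)) := by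
    rw [isOpen_iff i j a b hP, e1, e2]
    exact ⟨UX.isOpen, UY.isOpen⟩
  refine ⟨⟨_, hopen⟩, ?_, ?_⟩
  · ext x
    exact iff_of_eq (congrArg (fun S : Set X => x ∈ S) e1)
  · ext y
    exact iff_of_eq (congrArg (fun S : Set Y => y ∈ S) e2)

theorem exists_affine_pair [IsClosedImmersion i] [IsClosedImmersion j] (z : Z) :
    ∃ (UX : X.Opens) (UY : Y.Opens), IsAffineOpen UX ∧ IsAffineOpen UY ∧ i z ∈ UX ∧ j z ∈ UY ∧
      i ⁻¹ᵁ UX = j ⁻¹ᵁ UY := by
  obtain ⟨_, ⟨UY₁, hUY₁, rfl⟩, hzUY₁, -⟩ := Y.isBasis_affineOpens.exists_subset_of_mem_open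
    (Set.mem_univ (j z)) isOpen_univ
  have hT : IsAffineOpen (j ⁻¹ᵁ UY₁) := hUY₁.preimage j
  obtain ⟨VXs, hVXo, hVX⟩ := i.isEmbedding.isInducing.isOpen_iff.mp (j ⁻¹ᵁ UY₁).isOpen
  have hizV : i z ∈ VXs := by
    have : z ∈ i ⁻¹' VXs := by rw [hVX]; exact hzUY₁
    exact this
  obtain ⟨_, ⟨W, hW, rfl⟩, hzW, hWV⟩ := X.isBasis_affineOpens.exists_subset_of_mem_open
    hizV hVXo
  have hle : i ⁻¹ᵁ W ≤ j ⁻¹ᵁ UY₁ := by
    intro z' hz'
    have : z' ∈ i ⁻¹' VXs := hWV hz'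
    rw [hVX] at this
    exact this
  obtain ⟨t, ht1, ht2⟩ := hT.exists_basicOpen_le (V := i ⁻¹ᵁ W) ⟨z, hzW⟩ hzUY₁
  obtain ⟨f₁, hf₁⟩ := Scheme.Hom.app_surjective j UY₁ hUY₁ t
  obtain ⟨g, hg⟩ := Scheme.Hom.app_surjective i W hW (Z.presheaf.map (homOfLE hle).op t)
  have e1 : j ⁻¹ᵁ Y.basicOpen f₁ = Z.basicOpen t := by
    rw [Scheme.preimage_basicOpen, hf₁]
  have e2 : i ⁻¹ᵁ X.basicOpen g = Z.basicOpen t := by
    rw [Scheme.preimage_basicOpen, hg, Scheme.basicOpen_res]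
    exact inf_eq_right.mpr ht1
  refine ⟨X.basicOpen g, Y.basicOpen f₁, hW.basicOpen g, hUY₁.basicOpen f₁, ?_, ?_, ?_⟩
  · have : z ∈ i ⁻¹ᵁ X.basicOpen g := by rw [e2]; exact ht2
    exact this
  · have : z ∈ j ⁻¹ᵁ Y.basicOpen f₁ := by rw [e1]; exact ht2
    exact this
  · rw [e1, e2]

include hP in
theorem exists_good [IsClosedImmersion i] [IsClosedImmersion j] (p : P) :
    ∃ U : Opens P, p ∈ U ∧ IsAffineOpen (pre a U) ∧ IsAffineOpen (pre b U) := by
  have hi : Function.Injective i := i.isEmbedding.injective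
  have hj : Function.Injective j := j.isEmbedding.injective
  have key : ∀ z : Z, ∃ U : Opens P, a.hom.base (i z) ∈ U ∧ IsAffineOpen (pre a U) ∧
      IsAffineOpen (pre b U) := by
    intro z
    obtain ⟨UX, UY, hUX, hUY, hzX, hzY, h⟩ := exists_affine_pair i j z
    obtain ⟨U, rfl, rfl⟩ := exists_open i j a b hP hi hj UX UY h
    exact ⟨U, hzX, hUX, hUY⟩
  rcases exists_pt i j a b hP p with ⟨x, rfl⟩ | ⟨y, rfl⟩
  · by_cases hx : x ∈ Set.range i
    · obtain ⟨z, rfl⟩ := hx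
      exact key z
    · obtain ⟨_, ⟨UX, hUX, rfl⟩, hxUX, hUXc⟩ := X.isBasis_affineOpens.exists_subset_of_mem_open
        (show x ∈ (Set.range i)ᶜ from hx) i.isClosedEmbedding.isClosed_range.isOpen_compl
      obtain ⟨U, rfl, hb⟩ := exists_open i j a b hP hi hj UX ⊥ (by
        ext z
        constructor
        · intro hz
          exact (hUXc hz ⟨z, rfl⟩).elim
        · intro hz
          exact hz.elim)
      refine ⟨U, hxUX, hUX, ?_⟩
      rw [hb]
      exact isAffineOpen_bot Y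
  · by_cases hy : y ∈ Set.range j
    · obtain ⟨z, rfl⟩ := hy
      obtain ⟨U, hU1, hU2, hU3⟩ := key z
      refine ⟨U, ?_, hU2, hU3⟩
      rw [← comm_pt i j a b hP z]
      exact hU1
    · obtain ⟨_, ⟨UY, hUY, rfl⟩, hyUY, hUYc⟩ := Y.isBasis_affineOpens.exists_subset_of_mem_open
        (show y ∈ (Set.range j)ᶜ from hy) j.isClosedEmbedding.isClosed_range.isOpen_compl
      obtain ⟨U, ha, rfl⟩ := exists_open i j a b hP hi hj ⊥ UY (by
        ext z
        constructor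
        · intro hz
          exact hz.elim
        · intro hz
          exact (hUYc hz ⟨z, rfl⟩).elim)
      refine ⟨U, hyUY, ?_, hUY⟩
      rw [ha]
      exact isAffineOpen_bot X

include hP in
theorem hleZ (U : Opens P) : i ⁻¹ᵁ (pre a U) ≤ j ⁻¹ᵁ (pre b U) := by
  intro z hz
  show b.hom.base (j z) ∈ U
  rw [← comm_pt i j a b hP z]
  exact hz

include hP in
theorem fibSq_of_open (U : Opens P) :
    FibSq (b.hom.c.app (op U)).hom (a.hom.c.app (op U)).hom
      (j.appLE (pre b U) (i ⁻¹ᵁ (pre a U)) (hleZ i j a b hP U)).hom (i.app (pre a U)).hom := by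
  have hc := c_square_a b i j a hP.w U (hleZ i j a b hP U)
  refine ⟨fun s => ?_, fun s h1 h2 => ?_, fun β α hβα => ?_⟩
  · exact (congr($hc s)).symm
  · refine sections_inj i j a b hP U s 0 ?_ ?_
    · rw [map_zero]
      exact h2
    · rw [map_zero]
      exact h1
  · obtain ⟨s, hs1, hs2⟩ := sections_glue i j a b hP U α β (fun hle => hβα)
    exact ⟨s, hs2, hs1⟩

include hP in
theorem exists_chart [IsClosedImmersion i] [IsClosedImmersion j] (U : Opens P)
    (hXa : IsAffineOpen (pre a U)) (hYa : IsAffineOpen (pre b U)) :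
    ∃ f : G.obj (Spec (P.presheaf.obj (op U))) ⟶ P,
      SheafedSpace.IsOpenImmersion f ∧ Set.range f.hom.base = (U : Set P) := by
  have hi : Function.Injective i := i.isEmbedding.injective
  have hj : Function.Injective j := j.isEmbedding.injective
  have hZa : IsAffineOpen (i ⁻¹ᵁ (pre a U)) := hXa.preimage i
  have instX : IsOpenImmersion hXa.fromSpec := hXa.isOpenImmersion_fromSpec
  have instY : IsOpenImmersion hYa.fromSpec := hYa.isOpenImmersion_fromSpec
  have instZ : IsOpenImmersion hZa.fromSpec := hZa.isOpenImmersion_fromSpec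
  have sq := fibSq_of_open i j a b hP U
  have hp : Function.Surjective (i.app (pre a U)) := Scheme.Hom.app_surjective i _ hXa
  obtain ⟨π₁, hπ₁⟩ : ∃ π₁ : P.presheaf.obj (op U) ⟶ Γ(Y, pre b U), π₁ = b.hom.c.app (op U) :=
    ⟨_, rfl⟩
  obtain ⟨π₂, hπ₂⟩ : ∃ π₂ : P.presheaf.obj (op U) ⟶ Γ(X, pre a U), π₂ = a.hom.c.app (op U) :=
    ⟨_, rfl⟩
  rw [← hπ₁, ← hπ₂] at sq
  have hS0 := spec_isPushout π₁ π₂ _ _ sq hp
  have hiφ : hZa.fromSpec ≫ i = Spec.map (i.app (pre a U)) ≫ hXa.fromSpec := by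
    rw [Scheme.Hom.app_eq_appLE]
    exact (IsAffineOpen.SpecMap_appLE_fromSpec i hXa hZa le_rfl).symm
  have hjφ : hZa.fromSpec ≫ j =
      Spec.map (j.appLE (pre b U) (i ⁻¹ᵁ (pre a U)) (hleZ i j a b hP U)) ≫ hYa.fromSpec :=
    (IsAffineOpen.SpecMap_appLE_fromSpec j hYa hZa _).symm
  have hcompat : G.map (Spec.map (i.app (pre a U))) ≫ G.map hXa.fromSpec ≫ a =
      G.map (Spec.map (j.appLE (pre b U) (i ⁻¹ᵁ (pre a U)) (hleZ i j a b hP U))) ≫
        G.map hYa.fromSpec ≫ b := by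
    rw [← Category.assoc, ← G.map_comp, ← hiφ, ← Category.assoc, ← G.map_comp, ← hjφ,
      G.map_comp, G.map_comp, Category.assoc, Category.assoc, hP.w]
  refine ⟨hS0.desc (G.map hXa.fromSpec ≫ a) (G.map hYa.fromSpec ≫ b) hcompat, ?_, ?_⟩
  · exact f_isOpenImmersion i j a b hP _ _ _ _ hS0 hXa.fromSpec hYa.fromSpec hZa.fromSpec hiφ hjφ
      _ (hS0.inl_desc _ _ _) (hS0.inr_desc _ _ _) U hXa.opensRange_fromSpec
      hYa.opensRange_fromSpec hZa.opensRange_fromSpec hi hj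
  · exact f_range i j a b hP _ _ _ _ hS0 hXa.fromSpec hYa.fromSpec
      _ (hS0.inl_desc _ _ _) (hS0.inr_desc _ _ _) U hXa.opensRange_fromSpec
      hYa.opensRange_fromSpec

end Good

end Groth.Agent.ShPushout
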