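import Mathlib
import Groth.Agent.Lib.SchPushoutChart_helper5

/-!
# The pushout of two closed immersions of schemes
-/

namespace Groth.Agent.ShPushout

open CategoryTheory Limits AlgebraicGeometry TopologicalSpace Opposite
open Groth.Agent.RSPushout Groth.Agent.RSPushoutCrit Groth.Agent.FibSqLib Groth.Agent.PushoutLocal

universe u

section Construct

variable {X Y Z : Scheme.{u}} (i : Z ⟶ X) (j : Z ⟶ Y)

/-- the pushout as a locally ringed space -/
noncomputable def PL : LocallyRingedSpace.{u} := pushout i.toLRSHom j.toLRSHom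

theorem isPushout_PL : IsPushout (G.map i) (G.map j)
    (LocallyRingedSpace.forgetToSheafedSpace.map (pushout.inl i.toLRSHom j.toLRSHom))
    (LocallyRingedSpace.forgetToSheafedSpace.map (pushout.inr i.toLRSHom j.toLRSHom)) :=
  (IsPushout.of_hasPushout i.toLRSHom j.toLRSHom).map LocallyRingedSpace.forgetToSheafedSpace

variable [IsClosedImmersion i] [IsClosedImmersion j]

/-- the pushout as a scheme -/
noncomputable def PS : Scheme.{u} where
  toLocallyRingedSpace := PL i j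
  local_affine := by
    intro x
    obtain ⟨U, hxU, hXa, hYa⟩ := exists_good i j _ _ (isPushout_PL i j) x
    obtain ⟨f, hf, hrange⟩ := exists_chart i j _ _ (isPushout_PL i j) U hXa hYa
    refine ⟨⟨⟨_, hf.base_open.isOpen_range⟩, ?_⟩, (PL i j).presheaf.obj (op U), ⟨?_⟩⟩
    · show x ∈ Set.range f.hom.base
      rw [hrange]
      exact hxU
    · apply LocallyRingedSpace.isoOfSheafedSpaceIso
      refine SheafedSpace.forgetToPresheafedSpace.preimageIso ?_
      apply PresheafedSpace.IsOpenImmersion.isoOfRangeEq (PresheafedSpace.ofRestrict _ _) f.hom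
      exact Subtype.range_coe_subtype

/-- the first coprojection -/
noncomputable def inlS : X ⟶ PS i j := Scheme.Hom.mk (pushout.inl i.toLRSHom j.toLRSHom)

/-- the second coprojection -/
noncomputable def inrS : Y ⟶ PS i j := Scheme.Hom.mk (pushout.inr i.toLRSHom j.toLRSHom)

theorem isPushout_PS : IsPushout (G.map i) (G.map j) (G.map (inlS i j)) (G.map (inrS i j)) :=
  isPushout_PL i j

end Construct

section Structure

variable {X Y Z Q : Scheme.{u}} (i : Z ⟶ X) (j : Z ⟶ Y) (a : X ⟶ Q) (b : Y ⟶ Q)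
  (hQ : IsPushout (G.map i) (G.map j) (G.map a) (G.map b))

include hQ in
theorem comm_sch : i ≫ a = j ≫ b :=
  G.map_injective (by rw [G.map_comp, G.map_comp]; exact hQ.w)

/-- `G` reflects pushouts -/
theorem isPushout_of_G {X Y Z Q : Scheme.{u}} (i : Z ⟶ X) (j : Z ⟶ Y) (a : X ⟶ Q) (b : Y ⟶ Q)
    (hQ : IsPushout (G.map i) (G.map j) (G.map a) (G.map b)) : IsPushout i j a b := by
  haveI : ReflectsColimitsOfShape WalkingSpan LocallyRingedSpace.forgetToSheafedSpace.{u} :=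
    reflectsColimitsOfShape_of_reflectsIsomorphisms
  have h1 : IsPushout i.toLRSHom j.toLRSHom a.toLRSHom b.toLRSHom :=
    IsPushout.of_map LocallyRingedSpace.forgetToSheafedSpace
      (congrArg Scheme.Hom.toLRSHom (comm_sch i j a b hQ)) hQ
  exact IsPushout.of_map Scheme.forgetToLocallyRingedSpace (comm_sch i j a b hQ) h1

variable [IsClosedImmersion i] [IsClosedImmersion j]

include hQ in
theorem isAffineOpen_of_good (U : Q.Opens) (hXa : IsAffineOpen (a ⁻¹ᵁ U))
    (hYa : IsAffineOpen (b ⁻¹ᵁ U)) : IsAffineOpen U := by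
  obtain ⟨f, hf, hrange⟩ := exists_chart i j _ _ hQ U hXa hYa
  obtain ⟨f', hf'⟩ : ∃ f' : (Spec (Q.presheaf.obj (op U))).toPresheafedSpace ⟶
      Q.toPresheafedSpace, f' = f.hom := ⟨_, rfl⟩
  haveI : PresheafedSpace.IsOpenImmersion f' := by rw [hf']; exact hf
  have e₁ : (Spec (Q.presheaf.obj (op U))).toPresheafedSpace ≅
      (Q.toPresheafedSpace.restrict U.isOpenEmbedding) :=
    PresheafedSpace.IsOpenImmersion.isoOfRangeEq f' (PresheafedSpace.ofRestrict _ _)
      (by rw [hf']; exact hrange.trans Subtype.range_coe_subtype.symm)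
  have e₂ : (Spec (Q.presheaf.obj (op U))).toLocallyRingedSpace ≅
      Q.toLocallyRingedSpace.restrict U.isOpenEmbedding :=
    LocallyRingedSpace.isoOfSheafedSpaceIso (SheafedSpace.forgetToPresheafedSpace.preimageIso e₁)
  have e₃ : Spec (Q.presheaf.obj (op U)) ≅ U.toScheme :=
    Scheme.forgetToLocallyRingedSpace.preimageIso e₂
  show IsAffine U.toScheme
  exact IsAffine.of_isIso e₃.inv

theorem map_bijective_of_eq {W : Scheme.{u}} {V V' : W.Opens} (h : V = V') (hle : V ≤ V') :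
    Function.Bijective (W.presheaf.map (homOfLE hle).op) := by
  subst h
  have : W.presheaf.map (homOfLE hle).op = 𝟙 _ := by
    rw [Subsingleton.elim (homOfLE hle) (𝟙 _), op_id, W.presheaf.map_id]
  rw [this]
  exact Function.bijective_id

include hQ in
theorem eqZ (U : Q.Opens) : i ⁻¹ᵁ (a ⁻¹ᵁ U) = j ⁻¹ᵁ (b ⁻¹ᵁ U) := by
  rw [← Scheme.Hom.comp_preimage, ← Scheme.Hom.comp_preimage, comm_sch i j a b hQ]

include hQ in
theorem fibSq_sch (U : Q.Opens) :
    FibSq (b.app U).hom (a.app U).hom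
      (j.appLE (b ⁻¹ᵁ U) (i ⁻¹ᵁ (a ⁻¹ᵁ U)) (eqZ i j a b hQ U).le).hom (i.app (a ⁻¹ᵁ U)).hom :=
  fibSq_of_open i j (G.map a) (G.map b) hQ U

include hQ in
theorem appLE_surjective_j (U : Q.Opens) (hYa : IsAffineOpen (b ⁻¹ᵁ U)) :
    Function.Surjective (j.appLE (b ⁻¹ᵁ U) (i ⁻¹ᵁ (a ⁻¹ᵁ U)) (eqZ i j a b hQ U).le) := by
  have h1 : Function.Surjective (j.app (b ⁻¹ᵁ U)) := Scheme.Hom.app_surjective j _ hYa
  have h2 := (map_bijective_of_eq (eqZ i j a b hQ U) (eqZ i j a b hQ U).le).2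
  intro t
  obtain ⟨t', ht'⟩ := h2 t
  obtain ⟨β, hβ⟩ := h1 t'
  refine ⟨β, ?_⟩
  show Z.presheaf.map _ (j.app (b ⁻¹ᵁ U) β) = t
  rw [hβ]
  exact ht'

include hQ in
theorem app_surjective_inr (U : Q.Opens) (hXa : IsAffineOpen (a ⁻¹ᵁ U)) :
    Function.Surjective (b.app U) :=
  (fibSq_sch i j a b hQ U).surjective_fst (Scheme.Hom.app_surjective i _ hXa)

include hQ in
theorem app_surjective_inl (U : Q.Opens) (hYa : IsAffineOpen (b ⁻¹ᵁ U)) :
    Function.Surjective (a.app U) := by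
  intro α
  obtain ⟨β, hβ⟩ := appLE_surjective_j i j a b hQ U hYa (i.app (a ⁻¹ᵁ U) α)
  obtain ⟨s, -, hs⟩ := (fibSq_sch i j a b hQ U).surj β α hβ
  exact ⟨s, hs⟩

theorem app_surjective_of_eq {A B : Scheme.{u}} (f : A ⟶ B) {V V' : B.Opens} (h : V = V')
    (hs : Function.Surjective (f.app V)) : Function.Surjective (f.app V') := by
  subst h
  exact hs

include hQ in
theorem exists_good_sch (p : Q) : ∃ U : Q.Opens, p ∈ U ∧ IsAffineOpen U ∧
    IsAffineOpen (a ⁻¹ᵁ U) ∧ IsAffineOpen (b ⁻¹ᵁ U) := by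
  obtain ⟨U, hp, hXa, hYa⟩ := exists_good i j (G.map a) (G.map b) hQ p
  exact ⟨U, hp, isAffineOpen_of_good i j a b hQ U hXa hYa, hXa, hYa⟩

include hQ in
theorem isClosedImmersion_inl : IsClosedImmersion a := by
  choose U hU using fun p : Q => exists_good_sch i j a b hQ p
  refine HasAffineProperty.of_iSup_eq_top (P := @IsClosedImmersion)
    (fun p => ⟨U p, (hU p).2.1⟩) ?_ ?_
  · rw [eq_top_iff]
    intro p _
    exact Opens.mem_iSup.mpr ⟨p, (hU p).1⟩
  · intro p
    refine ⟨(hU p).2.2.1, ?_⟩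
    rw [morphismRestrict_appTop]
    have h1 : Function.Surjective (a.app ((U p).ι ''ᵁ ⊤)) :=
      app_surjective_of_eq a (by simp) (app_surjective_inl i j a b hQ (U p) (hU p).2.2.2)
    have h2 := (ConcreteCategory.bijective_of_isIso (X.presheaf.map
      (eqToHom (image_morphismRestrict_preimage a (U p) ⊤)).op)).2
    intro t
    obtain ⟨t', ht'⟩ := h2 t
    obtain ⟨s, hs⟩ := h1 t'
    refine ⟨s, ?_⟩
    rw [← ht', ← hs]
    rfl

include hQ in
theorem isClosedImmersion_inr : IsClosedImmersion b := by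
  choose U hU using fun p : Q => exists_good_sch i j a b hQ p
  refine HasAffineProperty.of_iSup_eq_top (P := @IsClosedImmersion)
    (fun p => ⟨U p, (hU p).2.1⟩) ?_ ?_
  · rw [eq_top_iff]
    intro p _
    exact Opens.mem_iSup.mpr ⟨p, (hU p).1⟩
  · intro p
    refine ⟨(hU p).2.2.2, ?_⟩
    rw [morphismRestrict_appTop]
    have h1 : Function.Surjective (b.app ((U p).ι ''ᵁ ⊤)) :=
      app_surjective_of_eq b (by simp) (app_surjective_inr i j a b hQ (U p) (hU p).2.2.1)
    have h2 := (ConcreteCategory.bijective_of_isIso (Y.presheaf.map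
      (eqToHom (image_morphismRestrict_preimage b (U p) ⊤)).op)).2
    intro t
    obtain ⟨t', ht'⟩ := h2 t
    obtain ⟨s, hs⟩ := h1 t'
    refine ⟨s, ?_⟩
    rw [← ht', ← hs]
    rfl

include hQ in
theorem exists_good_le (x : X) (W : X.Opens) (hxW : x ∈ W) :
    ∃ U : Q.Opens, a x ∈ U ∧ IsAffineOpen U ∧ IsAffineOpen (a ⁻¹ᵁ U) ∧
      IsAffineOpen (b ⁻¹ᵁ U) ∧ a ⁻¹ᵁ U ≤ W := by
  haveI := isClosedImmersion_inl i j a b hQ
  obtain ⟨U₁, hp, hU₁, hXa, hYa⟩ := exists_good_sch i j a b hQ (a x)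
  have hcl : IsClosed (a '' ((W : Set X)ᶜ)) :=
    a.isClosedEmbedding.isClosedMap _ W.isOpen.isClosed_compl
  have hpO : a x ∈ (a '' ((W : Set X)ᶜ))ᶜ := by
    rintro ⟨x', hx', hxx'⟩
    rw [a.isClosedEmbedding.injective hxx'] at hx'
    exact hx' hxW
  obtain ⟨r, hr1, hr2⟩ := hU₁.exists_basicOpen_le (V := ⟨_, hcl.isOpen_compl⟩) ⟨a x, hpO⟩ hp
  refine ⟨Q.basicOpen r, hr2, hU₁.basicOpen r, ?_, ?_, ?_⟩
  · rw [Scheme.preimage_basicOpen]
    exact hXa.basicOpen _
  · rw [Scheme.preimage_basicOpen]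
    exact hYa.basicOpen _
  · intro x' hx'
    by_contra hx'W
    exact hr1 hx' ⟨x', hx'W, rfl⟩

include hQ in
theorem ker_le {T : Scheme.{u}} (u : T ⟶ X) (v : T ⟶ Y) (huv : u ≫ a = v ≫ b) :
    i.ker ≤ u.ker := by
  refine Scheme.IdealSheafData.le_ofIdeals_iff.mpr fun W => ?_
  refine (i.ideal_ker_le W).trans ?_
  intro α hα
  rw [RingHom.mem_ker] at hα ⊢
  have hα' : i.app W.1 α = 0 := hα
  show u.app W.1 α = 0
  choose U hU using fun t : (u ⁻¹ᵁ W.1 : T.Opens) => exists_good_le i j a b hQ (u t.1) W.1 t.2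
  refine T.sheaf.eq_of_locally_eq' (fun t => u ⁻¹ᵁ (a ⁻¹ᵁ U t)) (u ⁻¹ᵁ W.1)
    (fun t => (Opens.map u.base).map (homOfLE (hU t).2.2.2.2)) ?_ _ _ fun t => ?_
  · intro t ht
    rw [Opens.mem_iSup]
    exact ⟨⟨t, ht⟩, (hU ⟨t, ht⟩).1⟩
  · change T.presheaf.map _ (u.app W.1 α) = T.presheaf.map _ 0
    rw [map_zero, ← app_res u (homOfLE (hU t).2.2.2.2) α]
    have h0 : i.app (a ⁻¹ᵁ U t) (X.presheaf.map (homOfLE (hU t).2.2.2.2).op α) = 0 := by
      rw [app_res, hα', map_zero]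
    obtain ⟨r, hr1, hr2⟩ := (fibSq_sch i j a b hQ (U t)).surj 0
      (X.presheaf.map (homOfLE (hU t).2.2.2.2).op α) (by rw [map_zero]; exact h0.symm)
    have hsq := Groth.Agent.PinchBC.appLE_square u a v b huv
      (U := U t) (V₁ := a ⁻¹ᵁ U t) (V₂ := b ⁻¹ᵁ U t) (W := u ⁻¹ᵁ (a ⁻¹ᵁ U t)) le_rfl le_rfl le_rfl
      (by rw [← Scheme.Hom.comp_preimage, ← Scheme.Hom.comp_preimage, huv])
    rw [← Scheme.Hom.app_eq_appLE, ← Scheme.Hom.app_eq_appLE, ← Scheme.Hom.app_eq_appLE] at hsq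
    have h1 := congr($hsq r)
    rw [CommRingCat.comp_apply, CommRingCat.comp_apply] at h1
    have hr1' : b.app (U t) r = 0 := hr1
    have hr2' : a.app (U t) r = X.presheaf.map (homOfLE (hU t).2.2.2.2).op α := hr2
    rw [hr1', hr2', map_zero] at h1
    exact h1

include hQ in
theorem isPullback_sch : IsPullback i j a b := by
  haveI := isClosedImmersion_inr i j a b hQ
  have w := comm_sch i j a b hQ
  refine ⟨⟨w⟩, ⟨PullbackCone.IsLimit.mk w
    (fun s => IsClosedImmersion.lift i s.fst (ker_le i j a b hQ s.fst s.snd s.condition))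
    (fun s => IsClosedImmersion.lift_fac _ _ _) (fun s => ?_) (fun s m h1 h2 => ?_)⟩⟩
  · rw [← cancel_mono b, Category.assoc, ← w, IsClosedImmersion.lift_fac_assoc, s.condition]
  · rw [← cancel_mono i, h1, IsClosedImmersion.lift_fac]

end Structure

end Groth.Agent.ShPushout
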