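import Mathlib
import Groth.Agent.Lib.SchPushout_helper5
import Groth.Agent.Lib.IntegralNbhdSch_helper5

/-!
# Pushouts of schemes along a closed immersion and an integral morphism: charts
-/

namespace Groth.Agent.ShPushoutInt

open CategoryTheory Limits AlgebraicGeometry TopologicalSpace Opposite
open Groth.Agent.RSPushout Groth.Agent.RSPushoutCrit Groth.Agent.FibSqLib Groth.Agent.PushoutLocal
open Groth.Agent.ShPushout

universe u

section TypesSec

open CategoryTheory.Limits.Types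

variable {S X₁ X₂ : Type u} {f : S ⟶ X₁} {g : S ⟶ X₂}

lemma pushoutCocone_inl_eq_inl_imp_of_iso {c c' : PushoutCocone f g} (e : c ≅ c')
    (x₁ y₁ : X₁) (h : c.inl x₁ = c.inl y₁) : c'.inl x₁ = c'.inl y₁ := by
  convert! congr_arg e.hom.hom h
  · exact ConcreteCategory.congr_hom (e.hom.w WalkingSpan.left).symm x₁
  · exact ConcreteCategory.congr_hom (e.hom.w WalkingSpan.left).symm y₁

lemma pushout_inl_eq_inl_iff [Mono f] (x₁ y₁ : X₁) :
    (Pushout.inl f g x₁ = Pushout.inl f g y₁) ↔ x₁ = y₁ ∨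
      ∃ (x₀ y₀ : S) (_ : g x₀ = g y₀), x₁ = f x₀ ∧ y₁ = f y₀ :=
  (Pushout.quot_mk_eq_iff f g (Sum.inl x₁) (Sum.inl y₁)).trans (Pushout.inl_rel'_inl_iff f g x₁ y₁)

set_option backward.isDefEq.respectTransparency false in
lemma pushoutCocone_inl_eq_inl_iff_of_isColimit {c : PushoutCocone f g} (hc : IsColimit c)
    (h₁ : Function.Injective f) (x₁ y₁ : X₁) :
    c.inl x₁ = c.inl y₁ ↔ x₁ = y₁ ∨
      ∃ (x₀ y₀ : S) (_ : g x₀ = g y₀), x₁ = f x₀ ∧ y₁ = f y₀ := by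
  have e : c ≅ Pushout.cocone f g :=
    (Cocone.ext (IsColimit.coconePointUniqueUpToIso hc (Pushout.isColimitCocone f g))
    (by simp))
  have := (mono_iff_injective f).2 h₁
  rw [← pushout_inl_eq_inl_iff]
  constructor
  · apply pushoutCocone_inl_eq_inl_imp_of_iso e
  · apply pushoutCocone_inl_eq_inl_imp_of_iso e.symm

end TypesSec

section Alg

open Polynomial

/-- in a fibre square of rings with `p` surjective and `q` integral, the second projection is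
integral -/
theorem isIntegral_snd {R B A' A : Type*} [CommRing R] [CommRing B] [CommRing A'] [CommRing A]
    {π₁ : R →+* B} {π₂ : R →+* A'} {q : B →+* A} {p : A' →+* A}
    (sq : FibSq π₁ π₂ q p) (hp : Function.Surjective p) (hq : q.IsIntegral) : π₂.IsIntegral := by
  intro α
  rcases subsingleton_or_nontrivial B with hB | hB
  · have hA : ∀ x : A, x = 0 := by
      intro x
      have h1 : (1 : A) = 0 := by
        rw [← map_one q, Subsingleton.elim (1 : B) 0, map_zero]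
      rw [← mul_one x, h1, mul_zero]
    obtain ⟨r, -, hr⟩ := sq.surj 0 α ((hA _).trans (hA _).symm)
    rw [← hr]
    exact π₂.isIntegralElem_map
  obtain ⟨P₀, hP₀m, hP₀⟩ := hq (p α)
  have hπ₁ : Function.Surjective π₁ := sq.surjective_fst hp
  have hPm : (P₀ * X).Monic := hP₀m.mul monic_X
  have hPe : eval₂ q (p α) (P₀ * X) = 0 := by rw [eval₂_mul, hP₀, zero_mul]
  obtain ⟨P', hP'map, hP'deg, hP'm⟩ := lifts_and_natDegree_eq_and_monic
    ((mem_lifts _).mpr (map_surjective π₁ hπ₁ (P₀ * X))) hPm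
  have hβ : p (eval₂ π₂ α P') = 0 := by
    rw [hom_eval₂]
    have : p.comp π₂ = q.comp π₁ := by
      ext r
      exact (sq.comm r).symm
    rw [this, ← eval₂_map, hP'map, hPe]
  obtain ⟨r₀, hr₀1, hr₀2⟩ := sq.surj 0 (eval₂ π₂ α P') (by rw [map_zero, hβ])
  have hdeg : 0 < P'.natDegree := by
    rw [hP'deg, hP₀m.natDegree_mul monic_X, natDegree_X]
    omega
  refine ⟨P' - C r₀, hP'm.sub_of_left ?_, ?_⟩
  · refine lt_of_le_of_lt degree_C_le ?_
    exact natDegree_pos_iff_degree_pos.mp hdeg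
  · rw [eval₂_sub, eval₂_C, hr₀2, sub_self]

end Alg

section Top

variable {X Y Z : Scheme.{u}} (i : Z ⟶ X) (j : Z ⟶ Y) {P : SheafedSpace CommRingCat.{u}}
  (a : G.obj X ⟶ P) (b : G.obj Y ⟶ P) (hP : IsPushout (G.map i) (G.map j) a b)

include hP in
theorem eq_iff_a (hi : Function.Injective i) (x x' : X) :
    a.hom.base x = a.hom.base x' ↔ x = x' ∨
      ∃ (z z' : Z) (_ : j z = j z'), x = i z ∧ x' = i z' :=
  pushoutCocone_inl_eq_inl_iff_of_isColimit (isPushout_type i j a b hP).isColimit hi x x'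

include hP in
theorem exists_open' (hi : Function.Injective i) (UX : X.Opens)
    (UY : Y.Opens) (h : i ⁻¹ᵁ UX = j ⁻¹ᵁ UY) :
    ∃ U : Opens P, pre a U = UX ∧ pre b U = UY := by
  have hmem : ∀ z : Z, i z ∈ UX ↔ j z ∈ UY := fun z => by
    have := congrArg (fun W : Z.Opens => z ∈ W) h
    exact iff_of_eq this
  have e1 : a.hom.base ⁻¹' (a.hom.base '' (UX : Set X) ∪ b.hom.base '' (UY : Set Y)) =
      (UX : Set X) := by
    ext x
    constructor
    · rintro (⟨x', hx', hxx'⟩ | ⟨y, hy, hxy⟩)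
      · rcases (eq_iff_a i j a b hP hi x' x).mp hxx' with rfl | ⟨z', z, hzz', rfl, rfl⟩
        · exact hx'
        · have h1 : j z' ∈ UY := (hmem z').mp hx'
          rw [hzz'] at h1
          exact (hmem z).mpr h1
      · obtain ⟨z, rfl, rfl⟩ := (eq_iff i j a b hP hi x y).mp hxy.symm
        exact (hmem z).mpr hy
    · intro hx
      exact Or.inl ⟨x, hx, rfl⟩
  have e2 : b.hom.base ⁻¹' (a.hom.base '' (UX : Set X) ∪ b.hom.base '' (UY : Set Y)) =
      (UY : Set Y) := by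
    ext y
    constructor
    · rintro (⟨x, hx, hxy⟩ | ⟨y', hy', hyy'⟩)
      · obtain ⟨z, rfl, rfl⟩ := (eq_iff i j a b hP hi x y).mp hxy
        exact (hmem z).mp hx
      · rw [← injective_b i j a b hP hi hyy']
        exact hy'
    · intro hy
      exact Or.inr ⟨y, hy, rfl⟩
  have hopen : IsOpen (a.hom.base '' (UX : Set X) ∪ b.hom.base '' (UY : Set Y)) := by
    rw [isOpen_iff i j a b hP, e1, e2]
    exact ⟨UX.isOpen, UY.isOpen⟩
  refine ⟨⟨_, hopen⟩, ?_, ?_⟩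
  · ext x
    exact iff_of_eq (congrArg (fun S : Set X => x ∈ S) e1)
  · ext y
    exact iff_of_eq (congrArg (fun S : Set Y => y ∈ S) e2)

end Top

section OpenImm

variable {X Y Z : Scheme.{u}} (i : Z ⟶ X) (j : Z ⟶ Y) {P : SheafedSpace CommRingCat.{u}}
  (a : G.obj X ⟶ P) (b : G.obj Y ⟶ P) (hP : IsPushout (G.map i) (G.map j) a b)
  {X₀ Y₀ Z₀ P₀ : Scheme.{u}} (i₀ : Z₀ ⟶ X₀) (j₀ : Z₀ ⟶ Y₀) (a₀ : X₀ ⟶ P₀) (b₀ : Y₀ ⟶ P₀)
  (hP₀ : IsPushout (G.map i₀) (G.map j₀) (G.map a₀) (G.map b₀))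
  (φX : X₀ ⟶ X) (φY : Y₀ ⟶ Y) (φZ : Z₀ ⟶ Z)
  (hiφ : φZ ≫ i = i₀ ≫ φX) (hjφ : φZ ≫ j = j₀ ≫ φY)
  (f : G.obj P₀ ⟶ P) (hfa : G.map a₀ ≫ f = G.map φX ≫ a) (hfb : G.map b₀ ≫ f = G.map φY ≫ b)
  [IsOpenImmersion φX] [IsOpenImmersion φY] [IsOpenImmersion φZ]
  (U : Opens P) (hUX : φX.opensRange = pre a U) (hUY : φY.opensRange = pre b U)
  (hUZ : φZ.opensRange = i ⁻¹ᵁ (pre a U))
  (hi : Function.Injective i)

include hP hP₀ hiφ hjφ hfa hfb hUX hUZ hi in
theorem f_injective' : Function.Injective f.hom.base := by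
  have hZ : ∀ (x₀ : X₀) (z : Z), i z = φX x₀ → ∃ z₀ : Z₀, φZ z₀ = z ∧ i₀ z₀ = x₀ := by
    intro x₀ z hz
    have hzr : z ∈ Set.range φZ := by
      rw [mem_range_φZ i a φZ U hUZ, hz, ← mem_range_φX a φX U hUX]
      exact ⟨x₀, rfl⟩
    obtain ⟨z₀, rfl⟩ := hzr
    refine ⟨z₀, rfl, ?_⟩
    apply φX.isOpenEmbedding.injective
    rw [φX_i₀ i i₀ φX φZ hiφ, hz]
  have key : ∀ (x₀ : X₀) (y₀ : Y₀), f.hom.base (a₀ x₀) = f.hom.base (b₀ y₀) → a₀ x₀ = b₀ y₀ := by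
    intro x₀ y₀ h
    rw [f_a₀ a a₀ φX f hfa, f_b₀ b b₀ φY f hfb] at h
    obtain ⟨z, hz1, hz2⟩ := (eq_iff i j a b hP hi _ _).mp h
    obtain ⟨z₀, rfl, h1⟩ := hZ x₀ z hz1
    have h2 : j₀ z₀ = y₀ := by
      apply φY.isOpenEmbedding.injective
      rw [φY_j₀ j j₀ φY φZ hjφ, hz2]
    rw [← h1, ← h2]
    exact comm_pt i₀ j₀ (G.map a₀) (G.map b₀) hP₀ z₀
  intro p p' h
  rcases exists_pt i₀ j₀ (G.map a₀) (G.map b₀) hP₀ p with ⟨x₀, rfl⟩ | ⟨y₀, rfl⟩
  · rcases exists_pt i₀ j₀ (G.map a₀) (G.map b₀) hP₀ p' with ⟨x₀', rfl⟩ | ⟨y₀', rfl⟩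
    · have h' : f.hom.base (a₀ x₀) = f.hom.base (a₀ x₀') := h
      rw [f_a₀ a a₀ φX f hfa, f_a₀ a a₀ φX f hfa] at h'
      rcases (eq_iff_a i j a b hP hi _ _).mp h' with h'' | ⟨z, z', hzz', hz, hz'⟩
      · rw [φX.isOpenEmbedding.injective h'']
      · obtain ⟨z₀, rfl, rfl⟩ := hZ x₀ z hz.symm
        obtain ⟨z₀', rfl, rfl⟩ := hZ x₀' z' hz'.symm
        have hj₀ : j₀ z₀ = j₀ z₀' := by
          apply φY.isOpenEmbedding.injective
          rw [φY_j₀ j j₀ φY φZ hjφ, φY_j₀ j j₀ φY φZ hjφ, hzz']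
        rw [comm_pt i₀ j₀ (G.map a₀) (G.map b₀) hP₀ z₀,
          comm_pt i₀ j₀ (G.map a₀) (G.map b₀) hP₀ z₀', hj₀]
    · exact key x₀ y₀' h
  · rcases exists_pt i₀ j₀ (G.map a₀) (G.map b₀) hP₀ p' with ⟨x₀', rfl⟩ | ⟨y₀', rfl⟩
    · exact (key x₀' y₀ h.symm).symm
    · have h' : f.hom.base (b₀ y₀) = f.hom.base (b₀ y₀') := h
      rw [f_b₀ b b₀ φY f hfb, f_b₀ b b₀ φY f hfb] at h'
      have := φY.isOpenEmbedding.injective (injective_b i j a b hP hi h')
      rw [this]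

include hP hP₀ hfa hfb hUX hUY in
theorem f_isOpenMap_of_injective (hinj : Function.Injective f.hom.base) :
    IsOpenMap f.hom.base := by
  have hrange := f_range i j a b hP i₀ j₀ a₀ b₀ hP₀ φX φY f hfa hfb U hUX hUY
  intro V₀ hV₀
  rw [isOpen_iff i j a b hP]
  constructor
  · have e : a.hom.base ⁻¹' (f.hom.base '' V₀) = φX '' (a₀ ⁻¹' V₀) := by
      ext x
      constructor
      · rintro ⟨p₀, hp₀, hx⟩
        have hxU : a.hom.base x ∈ U := by
          have : a.hom.base x ∈ Set.range f.hom.base := ⟨p₀, hx⟩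
          rw [hrange] at this
          exact this
        obtain ⟨x₀, rfl⟩ := (mem_range_φX a φX U hUX x).mpr hxU
        refine ⟨x₀, ?_, rfl⟩
        have : a₀ x₀ = p₀ := hinj ((f_a₀ a a₀ φX f hfa x₀).trans hx.symm)
        show a₀ x₀ ∈ V₀
        rw [this]
        exact hp₀
      · rintro ⟨x₀, hx₀, rfl⟩
        exact ⟨a₀ x₀, hx₀, f_a₀ a a₀ φX f hfa x₀⟩
    rw [e]
    exact φX.isOpenEmbedding.isOpenMap _ (hV₀.preimage a₀.continuous)
  · have e : b.hom.base ⁻¹' (f.hom.base '' V₀) = φY '' (b₀ ⁻¹' V₀) := by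
      ext y
      constructor
      · rintro ⟨p₀, hp₀, hy⟩
        have hyU : b.hom.base y ∈ U := by
          have : b.hom.base y ∈ Set.range f.hom.base := ⟨p₀, hy⟩
          rw [hrange] at this
          exact this
        obtain ⟨y₀, rfl⟩ := (mem_range_φY b φY U hUY y).mpr hyU
        refine ⟨y₀, ?_, rfl⟩
        have : b₀ y₀ = p₀ := hinj ((f_b₀ b b₀ φY f hfb y₀).trans hy.symm)
        show b₀ y₀ ∈ V₀
        rw [this]
        exact hp₀
      · rintro ⟨y₀, hy₀, rfl⟩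
        exact ⟨b₀ y₀, hy₀, f_b₀ b b₀ φY f hfb y₀⟩
    rw [e]
    exact φY.isOpenEmbedding.isOpenMap _ (hV₀.preimage b₀.continuous)

include hP hP₀ hiφ hjφ hfa hfb hUX hUY hUZ hi in
theorem f_isOpenImmersion' : SheafedSpace.IsOpenImmersion f := by
  have hinj := f_injective' i j a b hP i₀ j₀ a₀ b₀ hP₀ φX φY φZ hiφ hjφ f hfa hfb U hUX hUZ hi
  have hemb : Topology.IsOpenEmbedding f.hom.base :=
    Topology.IsOpenEmbedding.of_continuous_injective_isOpenMap f.hom.base.hom.continuous hinj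
      (f_isOpenMap_of_injective i j a b hP i₀ j₀ a₀ b₀ hP₀ φX φY f hfa hfb U hUX hUY hinj)
  have hrange := f_range i j a b hP i₀ j₀ a₀ b₀ hP₀ φX φY f hfa hfb U hUX hUY
  refine ⟨hemb, fun U₀ => ?_⟩
  have hle : hemb.functor.obj U₀ ≤ U := by
    rintro p ⟨p₀, -, rfl⟩
    have : f.hom.base p₀ ∈ Set.range f.hom.base := ⟨p₀, rfl⟩
    rw [hrange] at this
    exact this
  exact (ConcreteCategory.isIso_iff_bijective _).mpr
    (f_c_bijective i j a b hP i₀ j₀ a₀ b₀ hP₀ φX φY φZ hiφ hjφ f hfa hfb U hUX hUY hUZ _ hle)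

end OpenImm

section Good

variable {X Y Z : Scheme.{u}} (i : Z ⟶ X) (j : Z ⟶ Y) {P : SheafedSpace CommRingCat.{u}}
  (a : G.obj X ⟶ P) (b : G.obj Y ⟶ P) (hP : IsPushout (G.map i) (G.map j) a b)

include hP in
theorem exists_chart' [IsClosedImmersion i] (U : Opens P)
    (hXa : IsAffineOpen (pre a U)) (hYa : IsAffineOpen (pre b U)) :
    ∃ f : G.obj (Spec (P.presheaf.obj (op U))) ⟶ P,
      SheafedSpace.IsOpenImmersion f ∧ Set.range f.hom.base = (U : Set P) := by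
  have hi : Function.Injective i := i.isEmbedding.injective
  have hZa : IsAffineOpen (i ⁻¹ᵁ (pre a U)) := hXa.preimage i
  have instX : IsOpenImmersion hXa.fromSpec := hXa.isOpenImmersion_fromSpec
  have instY : IsOpenImmersion hYa.fromSpec := hYa.isOpenImmersion_fromSpec
  have instZ : IsOpenImmersion hZa.fromSpec := hZa.isOpenImmersion_fromSpec
  have sq := fibSq_of_open i j a b hP U
  have hp : Function.Surjective (i.app (pre a U)) := Scheme.Hom.app_surjective i _ hXa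
  obtain ⟨π₁, hπ₁⟩ : ∃ π₁ : P.presheaf.obj (op U) ⟶ Γ(Y, pre b U), π₁ = b.hom.c.app (op U) :=
    ⟨_, rfl⟩
  obtain ⟨π₂, hπ₂⟩ : ∃ π₂ : P.presheaf.obj (op U) ⟶ Γ(X, pre a U), π₂ = a.hom.c.app (op U) :=
    ⟨_, rfl⟩
  rw [← hπ₁, ← hπ₂] at sq
  have hS0 := spec_isPushout π₁ π₂ _ _ sq hp
  have hiφ : hZa.fromSpec ≫ i = Spec.map (i.app (pre a U)) ≫ hXa.fromSpec := by
    rw [Scheme.Hom.app_eq_appLE]
    exact (IsAffineOpen.SpecMap_appLE_fromSpec i hXa hZa le_rfl).symm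
  have hjφ : hZa.fromSpec ≫ j =
      Spec.map (j.appLE (pre b U) (i ⁻¹ᵁ (pre a U)) (hleZ i j a b hP U)) ≫ hYa.fromSpec :=
    (IsAffineOpen.SpecMap_appLE_fromSpec j hYa hZa _).symm
  have hcompat : G.map (Spec.map (i.app (pre a U))) ≫ G.map hXa.fromSpec ≫ a =
      G.map (Spec.map (j.appLE (pre b U) (i ⁻¹ᵁ (pre a U)) (hleZ i j a b hP U))) ≫
        G.map hYa.fromSpec ≫ b := by
    rw [← Category.assoc, ← G.map_comp, ← hiφ, ← Category.assoc, ← G.map_comp, ← hjφ,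
      G.map_comp, G.map_comp, Category.assoc, Category.assoc, hP.w]
  refine ⟨hS0.desc (G.map hXa.fromSpec ≫ a) (G.map hYa.fromSpec ≫ b) hcompat, ?_, ?_⟩
  · exact f_isOpenImmersion' i j a b hP _ _ _ _ hS0 hXa.fromSpec hYa.fromSpec hZa.fromSpec hiφ hjφ
      _ (hS0.inl_desc _ _ _) (hS0.inr_desc _ _ _) U hXa.opensRange_fromSpec
      hYa.opensRange_fromSpec hZa.opensRange_fromSpec hi
  · exact f_range i j a b hP _ _ _ _ hS0 hXa.fromSpec hYa.fromSpec
      _ (hS0.inl_desc _ _ _) (hS0.inr_desc _ _ _) U hXa.opensRange_fromSpec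
      hYa.opensRange_fromSpec

include hP in
theorem exists_good' [IsClosedImmersion i] [IsIntegralHom j]
    (haff : ∀ y : Y, ∃ U : X.Opens, IsAffineOpen U ∧ j ⁻¹' {y} ⊆ (i ⁻¹ᵁ U : Set ↑Z)) (p : P) :
    ∃ U : Opens P, p ∈ U ∧ IsAffineOpen (pre a U) ∧ IsAffineOpen (pre b U) := by
  have hi : Function.Injective i := i.isEmbedding.injective
  have keyY : ∀ y : Y, ∃ U : Opens P, b.hom.base y ∈ U ∧ IsAffineOpen (pre a U) ∧
      IsAffineOpen (pre b U) := by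
    intro y
    obtain ⟨UX, UY, hUX, hUY, hy, h⟩ :=
      Groth.Agent.IntegralNbhd.exists_affine_pair_integral i j haff y
    obtain ⟨U, rfl, rfl⟩ := exists_open' i j a b hP hi UX UY h
    exact ⟨U, hy, hUX, hUY⟩
  rcases exists_pt i j a b hP p with ⟨x, rfl⟩ | ⟨y, rfl⟩
  · by_cases hx : x ∈ Set.range i
    · obtain ⟨z, rfl⟩ := hx
      obtain ⟨U, h1, h2, h3⟩ := keyY (j z)
      refine ⟨U, ?_, h2, h3⟩
      rw [comm_pt i j a b hP z]
      exact h1
    · obtain ⟨_, ⟨UX, hUX, rfl⟩, hxUX, hUXc⟩ := X.isBasis_affineOpens.exists_subset_of_mem_open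
        (show x ∈ (Set.range i)ᶜ from hx) i.isClosedEmbedding.isClosed_range.isOpen_compl
      obtain ⟨U, rfl, hb⟩ := exists_open' i j a b hP hi UX ⊥ (by
        ext z
        constructor
        · intro hz
          exact (hUXc hz ⟨z, rfl⟩).elim
        · intro hz
          exact hz.elim)
      refine ⟨U, hxUX, hUX, ?_⟩
      rw [hb]
      exact isAffineOpen_bot Y
  · exact keyY y

end Good

end Groth.Agent.ShPushoutInt
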