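import Mathlib
import Groth.Agent.Lib.ShPushoutInt_helper5

/-!
# The pushout of a closed immersion and an integral morphism of schemes
-/

namespace Groth.Agent.ShPushoutInt

open CategoryTheory Limits AlgebraicGeometry TopologicalSpace Opposite
open Groth.Agent.RSPushout Groth.Agent.RSPushoutCrit Groth.Agent.FibSqLib Groth.Agent.PushoutLocal
open Groth.Agent.ShPushout

universe u

section Construct

variable {X Y Z : Scheme.{u}} (i : Z ⟶ X) (j : Z ⟶ Y) [IsClosedImmersion i] [IsIntegralHom j]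
  (haff : ∀ y : Y, ∃ U : X.Opens, IsAffineOpen U ∧ j ⁻¹' {y} ⊆ (i ⁻¹ᵁ U : Set ↑Z))

/-- the pushout as a scheme -/
noncomputable def PS' : Scheme.{u} where
  toLocallyRingedSpace := PL i j
  local_affine := by
    intro x
    obtain ⟨U, hxU, hXa, hYa⟩ := exists_good' i j _ _ (isPushout_PL i j) haff x
    obtain ⟨f, hf, hrange⟩ := exists_chart' i j _ _ (isPushout_PL i j) U hXa hYa
    refine ⟨⟨⟨_, hf.base_open.isOpen_range⟩, ?_⟩, (PL i j).presheaf.obj (op U), ⟨?_⟩⟩
    · show x ∈ Set.range f.hom.base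
      rw [hrange]
      exact hxU
    · apply LocallyRingedSpace.isoOfSheafedSpaceIso
      refine SheafedSpace.forgetToPresheafedSpace.preimageIso ?_
      apply PresheafedSpace.IsOpenImmersion.isoOfRangeEq (PresheafedSpace.ofRestrict _ _) f.hom
      exact Subtype.range_coe_subtype

/-- the first coprojection -/
noncomputable def inlS' : X ⟶ PS' i j haff := Scheme.Hom.mk (pushout.inl i.toLRSHom j.toLRSHom)

/-- the second coprojection -/
noncomputable def inrS' : Y ⟶ PS' i j haff := Scheme.Hom.mk (pushout.inr i.toLRSHom j.toLRSHom)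

theorem isPushout_PS' :
    IsPushout (G.map i) (G.map j) (G.map (inlS' i j haff)) (G.map (inrS' i j haff)) :=
  isPushout_PL i j

end Construct

section Structure

variable {X Y Z Q : Scheme.{u}} (i : Z ⟶ X) (j : Z ⟶ Y) (a : X ⟶ Q) (b : Y ⟶ Q)
  (hQ : IsPushout (G.map i) (G.map j) (G.map a) (G.map b))

include hQ in
theorem eqZ' (U : Q.Opens) : i ⁻¹ᵁ (a ⁻¹ᵁ U) = j ⁻¹ᵁ (b ⁻¹ᵁ U) := by
  rw [← Scheme.Hom.comp_preimage, ← Scheme.Hom.comp_preimage, comm_sch i j a b hQ]

include hQ in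
theorem fibSq_sch' (U : Q.Opens) :
    FibSq (b.app U).hom (a.app U).hom
      (j.appLE (b ⁻¹ᵁ U) (i ⁻¹ᵁ (a ⁻¹ᵁ U)) (eqZ' i j a b hQ U).le).hom (i.app (a ⁻¹ᵁ U)).hom :=
  fibSq_of_open i j (G.map a) (G.map b) hQ U

variable [IsClosedImmersion i]

include hQ in
theorem isAffineOpen_of_good' (U : Q.Opens) (hXa : IsAffineOpen (a ⁻¹ᵁ U))
    (hYa : IsAffineOpen (b ⁻¹ᵁ U)) : IsAffineOpen U := by
  obtain ⟨f, hf, hrange⟩ := exists_chart' i j _ _ hQ U hXa hYa
  obtain ⟨f', hf'⟩ : ∃ f' : (Spec (Q.presheaf.obj (op U))).toPresheafedSpace ⟶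
      Q.toPresheafedSpace, f' = f.hom := ⟨_, rfl⟩
  haveI : PresheafedSpace.IsOpenImmersion f' := by rw [hf']; exact hf
  have e₁ : (Spec (Q.presheaf.obj (op U))).toPresheafedSpace ≅
      (Q.toPresheafedSpace.restrict U.isOpenEmbedding) :=
    PresheafedSpace.IsOpenImmersion.isoOfRangeEq f' (PresheafedSpace.ofRestrict _ _)
      (by rw [hf']; exact hrange.trans Subtype.range_coe_subtype.symm)
  have e₂ : (Spec (Q.presheaf.obj (op U))).toLocallyRingedSpace ≅
      Q.toLocallyRingedSpace.restrict U.isOpenEmbedding :=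
    LocallyRingedSpace.isoOfSheafedSpaceIso (SheafedSpace.forgetToPresheafedSpace.preimageIso e₁)
  have e₃ : Spec (Q.presheaf.obj (op U)) ≅ U.toScheme :=
    Scheme.forgetToLocallyRingedSpace.preimageIso e₂
  show IsAffine U.toScheme
  exact IsAffine.of_isIso e₃.inv

include hQ in
theorem app_surjective_inr' (U : Q.Opens) (hXa : IsAffineOpen (a ⁻¹ᵁ U)) :
    Function.Surjective (b.app U) :=
  (fibSq_sch' i j a b hQ U).surjective_fst (Scheme.Hom.app_surjective i _ hXa)

theorem isIntegral_of_eq {A B : Scheme.{u}} (f : A ⟶ B) {V V' : B.Opens} (h : V = V')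
    (hs : (f.app V).hom.IsIntegral) : (f.app V').hom.IsIntegral := by
  subst h
  exact hs

variable [IsIntegralHom j]
  (haff : ∀ y : Y, ∃ U : X.Opens, IsAffineOpen U ∧ j ⁻¹' {y} ⊆ (i ⁻¹ᵁ U : Set ↑Z))

include hQ in
theorem app_isIntegral_inl' (U : Q.Opens) (hXa : IsAffineOpen (a ⁻¹ᵁ U))
    (hYa : IsAffineOpen (b ⁻¹ᵁ U)) : (a.app U).hom.IsIntegral := by
  refine isIntegral_snd (fibSq_sch' i j a b hQ U) (Scheme.Hom.app_surjective i _ hXa) ?_
  have h1 : (j.app (b ⁻¹ᵁ U)).hom.IsIntegral := IsIntegralHom.isIntegral_app j _ hYa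
  have h2 := (map_bijective_of_eq (eqZ' i j a b hQ U) (eqZ' i j a b hQ U).le).2
  have h3 : (Z.presheaf.map (homOfLE (eqZ' i j a b hQ U).le).op).hom.IsIntegral :=
    RingHom.isIntegral_of_surjective _ h2
  exact RingHom.IsIntegral.trans _ _ h1 h3

include hQ haff in
theorem exists_good_sch' (p : Q) : ∃ U : Q.Opens, p ∈ U ∧ IsAffineOpen U ∧
    IsAffineOpen (a ⁻¹ᵁ U) ∧ IsAffineOpen (b ⁻¹ᵁ U) := by
  obtain ⟨U, hp, hXa, hYa⟩ := exists_good' i j (G.map a) (G.map b) hQ haff p
  exact ⟨U, hp, isAffineOpen_of_good' i j a b hQ U hXa hYa, hXa, hYa⟩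

include hQ haff in
theorem isClosedImmersion_inr' : IsClosedImmersion b := by
  choose U hU using fun p : Q => exists_good_sch' i j a b hQ haff p
  refine HasAffineProperty.of_iSup_eq_top (P := @IsClosedImmersion)
    (fun p => ⟨U p, (hU p).2.1⟩) ?_ ?_
  · rw [eq_top_iff]
    intro p _
    exact Opens.mem_iSup.mpr ⟨p, (hU p).1⟩
  · intro p
    refine ⟨(hU p).2.2.2, ?_⟩
    rw [morphismRestrict_appTop]
    have h1 : Function.Surjective (b.app ((U p).ι ''ᵁ ⊤)) :=
      app_surjective_of_eq b (by simp) (app_surjective_inr' i j a b hQ (U p) (hU p).2.2.1)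
    have h2 := (ConcreteCategory.bijective_of_isIso (Y.presheaf.map
      (eqToHom (image_morphismRestrict_preimage b (U p) ⊤)).op)).2
    intro t
    obtain ⟨t', ht'⟩ := h2 t
    obtain ⟨s, hs⟩ := h1 t'
    refine ⟨s, ?_⟩
    rw [← ht', ← hs]
    rfl

include hQ haff in
theorem isIntegralHom_inl' : IsIntegralHom a := by
  choose U hU using fun p : Q => exists_good_sch' i j a b hQ haff p
  refine HasAffineProperty.of_iSup_eq_top (P := @IsIntegralHom)
    (fun p => ⟨U p, (hU p).2.1⟩) ?_ ?_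
  · rw [eq_top_iff]
    intro p _
    exact Opens.mem_iSup.mpr ⟨p, (hU p).1⟩
  · intro p
    refine ⟨(hU p).2.2.1, ?_⟩
    show ((a ∣_ U p).appTop).hom.IsIntegral
    rw [morphismRestrict_appTop]
    have h1 : (a.app ((U p).ι ''ᵁ ⊤)).hom.IsIntegral :=
      isIntegral_of_eq a (by simp)
        (app_isIntegral_inl' i j a b hQ (U p) (hU p).2.2.1 (hU p).2.2.2)
    have h2 := (ConcreteCategory.bijective_of_isIso (X.presheaf.map
      (eqToHom (image_morphismRestrict_preimage a (U p) ⊤)).op)).2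
    have h3 : ((a.app ((U p).ι ''ᵁ ⊤)) ≫ X.presheaf.map
        (eqToHom (image_morphismRestrict_preimage a (U p) ⊤)).op).hom.IsIntegral := by
      rw [CommRingCat.hom_comp]
      exact RingHom.IsIntegral.trans _ _ h1 (RingHom.isIntegral_of_surjective _ h2)
    exact h3

include hQ haff in
theorem ker_le' {T : Scheme.{u}} (u : T ⟶ X) (v : T ⟶ Y) [QuasiCompact u]
    (huv : u ≫ a = v ≫ b) : i.ker ≤ u.ker := by
  choose U hU using fun p : Q => exists_good_sch' i j a b hQ haff p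
  refine Scheme.IdealSheafData.le_of_iSup_eq_top
    (fun p : Q => (⟨a ⁻¹ᵁ U p, (hU p).2.2.1⟩ : X.affineOpens)) ?_ ?_
  · rw [eq_top_iff]
    intro x _
    exact Opens.mem_iSup.mpr ⟨a x, (hU (a x)).1⟩
  · intro p
    rw [Scheme.Hom.ker_apply, Scheme.Hom.ker_apply]
    intro α hα
    rw [RingHom.mem_ker] at hα ⊢
    have hα' : i.app (a ⁻¹ᵁ U p) α = 0 := hα
    show u.app (a ⁻¹ᵁ U p) α = 0
    obtain ⟨r, hr1, hr2⟩ := (fibSq_sch' i j a b hQ (U p)).surj 0 α
      (by rw [map_zero]; exact hα'.symm)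
    have hsq := Groth.Agent.PinchBC.appLE_square u a v b huv
      (U := U p) (V₁ := a ⁻¹ᵁ U p) (V₂ := b ⁻¹ᵁ U p) (W := u ⁻¹ᵁ (a ⁻¹ᵁ U p)) le_rfl le_rfl le_rfl
      (by rw [← Scheme.Hom.comp_preimage, ← Scheme.Hom.comp_preimage, huv])
    rw [← Scheme.Hom.app_eq_appLE, ← Scheme.Hom.app_eq_appLE, ← Scheme.Hom.app_eq_appLE] at hsq
    have h1 := congr($hsq r)
    rw [CommRingCat.comp_apply, CommRingCat.comp_apply] at h1
    have hr1' : b.app (U p) r = 0 := hr1
    have hr2' : a.app (U p) r = α := hr2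
    rw [hr1', hr2', map_zero] at h1
    exact h1

include hQ haff in
theorem isPullback_sch' : IsPullback i j a b := by
  haveI := isClosedImmersion_inr' i j a b hQ haff
  have w := comm_sch i j a b hQ
  have hk : i.ker ≤ (pullback.fst a b).ker :=
    ker_le' i j a b hQ haff (pullback.fst a b) (pullback.snd a b) pullback.condition
  refine ⟨⟨w⟩, ⟨PullbackCone.IsLimit.mk w
    (fun s => pullback.lift s.fst s.snd s.condition ≫
      IsClosedImmersion.lift i (pullback.fst a b) hk)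
    (fun s => ?_) (fun s => ?_) (fun s m h1 h2 => ?_)⟩⟩
  · rw [Category.assoc, IsClosedImmersion.lift_fac, pullback.lift_fst]
  · rw [← cancel_mono b, Category.assoc, Category.assoc, ← w, IsClosedImmersion.lift_fac_assoc,
      pullback.lift_fst_assoc, s.condition]
  · rw [← cancel_mono i, h1, Category.assoc, IsClosedImmersion.lift_fac, pullback.lift_fst]

end Structure

end Groth.Agent.ShPushoutInt
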