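import Mathlib
import Groth.Agent.Lib.SchPushoutInt_helper5

/-!
# Any pushout of a closed immersion and an integral morphism is a pushout of sheafed spaces
-/

namespace Groth.Agent.ShPushoutInt

open CategoryTheory Limits AlgebraicGeometry TopologicalSpace Opposite
open Groth.Agent.RSPushout Groth.Agent.RSPushoutCrit Groth.Agent.FibSqLib Groth.Agent.PushoutLocal
open Groth.Agent.ShPushout

universe u

/-- any pushout of schemes along a closed immersion and an integral morphism (with the affine
fibre condition) is a pushout of sheafed spaces -/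
theorem isPushout_G_of_isPushout' {X Y Z Q : Scheme.{u}} (i : Z ⟶ X) (j : Z ⟶ Y)
    [IsClosedImmersion i] [IsIntegralHom j]
    (haff : ∀ y : Y, ∃ U : X.Opens, IsAffineOpen U ∧ j ⁻¹' {y} ⊆ (i ⁻¹ᵁ U : Set ↑Z))
    (a : X ⟶ Q) (b : Y ⟶ Q) (h : IsPushout i j a b) :
    IsPushout (G.map i) (G.map j) (G.map a) (G.map b) := by
  have hQ := isPushout_PS' i j haff
  have hS := isPushout_of_G _ _ _ _ hQ
  have h1 : inlS' i j haff ≫ (hS.isoIsPushout _ _ h).hom = a := hS.inl_isoIsPushout_hom _ _ h
  have h2 : inrS' i j haff ≫ (hS.isoIsPushout _ _ h).hom = b := hS.inr_isoIsPushout_hom _ _ h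
  refine IsPushout.of_iso hQ (Iso.refl _) (Iso.refl _) (Iso.refl _)
    (G.mapIso (hS.isoIsPushout _ _ h)) (by simp) (by simp) ?_ ?_
  · rw [Iso.refl_hom, Category.id_comp, Functor.mapIso_hom, ← G.map_comp, h1]
  · rw [Iso.refl_hom, Category.id_comp, Functor.mapIso_hom, ← G.map_comp, h2]

end Groth.Agent.ShPushoutInt
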