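import Mathlib
import Groth.Agent.Lib.SchPushoutIntUniq_helper5

/-!
# The pushout of a closed immersion and an integral morphism is locally of finite type
-/

namespace Groth.Agent.ShPushoutInt

open CategoryTheory Limits AlgebraicGeometry TopologicalSpace Opposite
open Groth.Agent.RSPushout Groth.Agent.RSPushoutCrit Groth.Agent.FibSqLib Groth.Agent.PushoutLocal
open Groth.Agent.ShPushout

universe u

/-- a fibre product ring `B ×_A A'` (with `A' → A` surjective, `B → A` integral) of finite type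
algebras over a noetherian ring is of finite type (Artin--Tate) -/
theorem finiteType_of_fibSq {R₀ R B A' A : Type*} [CommRing R₀] [CommRing R] [CommRing B]
    [CommRing A'] [CommRing A] [IsNoetherianRing R₀]
    {π₁ : R →+* B} {π₂ : R →+* A'} {q : B →+* A} {p : A' →+* A}
    (sq : FibSq π₁ π₂ q p) (hp : Function.Surjective p) (hq : q.IsIntegral)
    (φ : R₀ →+* R) (h1 : (π₁.comp φ).FiniteType) (h2 : (π₂.comp φ).FiniteType) :
    φ.FiniteType := by
  letI : Algebra R₀ R := φ.toAlgebra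
  letI : Algebra R B := π₁.toAlgebra
  letI : Algebra R A' := π₂.toAlgebra
  letI : Algebra R₀ B := (π₁.comp φ).toAlgebra
  letI : Algebra R₀ A' := (π₂.comp φ).toAlgebra
  haveI : IsScalarTower R₀ R B := IsScalarTower.of_algebraMap_eq (fun _ => rfl)
  haveI : IsScalarTower R₀ R A' := IsScalarTower.of_algebraMap_eq (fun _ => rfl)
  haveI : IsScalarTower R₀ R (B × A') := IsScalarTower.of_algebraMap_eq (fun _ => rfl)
  haveI : Algebra.FiniteType R₀ B := h1
  haveI : Algebra.FiniteType R₀ A' := h2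
  have hπ₁ : Function.Surjective π₁ := sq.surjective_fst hp
  haveI : Module.Finite R B := Module.Finite.of_surjective (Algebra.linearMap R B) hπ₁
  haveI : Algebra.IsIntegral R A' := ⟨isIntegral_snd sq hp hq⟩
  haveI : Algebra.FiniteType R A' := Algebra.FiniteType.of_restrictScalars_finiteType R₀ R A'
  haveI : Module.Finite R A' := Algebra.IsIntegral.finite
  have hAC : (⊤ : Subalgebra R₀ (B × A')).FG :=
    (inferInstance : Algebra.FiniteType R₀ (B × A')).out
  have hBC : (⊤ : Submodule R (B × A')).FG := (inferInstance : Module.Finite R (B × A')).fg_top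
  have hinj : Function.Injective (algebraMap R (B × A')) := by
    intro x y hxy
    have := Prod.ext_iff.mp hxy
    exact sq.ext x y this.1 this.2
  exact ⟨fg_of_fg_of_fg R₀ R (B × A') hAC hBC hinj⟩

section Structure

variable {X Y Z Q : Scheme.{u}} (i : Z ⟶ X) (j : Z ⟶ Y) (a : X ⟶ Q) (b : Y ⟶ Q)
  (hQ : IsPushout (G.map i) (G.map j) (G.map a) (G.map b))

include hQ in
theorem appLE_isIntegral_j [IsIntegralHom j] (U : Q.Opens) (hYa : IsAffineOpen (b ⁻¹ᵁ U)) :
    (j.appLE (b ⁻¹ᵁ U) (i ⁻¹ᵁ (a ⁻¹ᵁ U)) (eqZ' i j a b hQ U).le).hom.IsIntegral := by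
  have h1 : (j.app (b ⁻¹ᵁ U)).hom.IsIntegral := IsIntegralHom.isIntegral_app j _ hYa
  have h2 := (map_bijective_of_eq (eqZ' i j a b hQ U) (eqZ' i j a b hQ U).le).2
  have h3 : (Z.presheaf.map (homOfLE (eqZ' i j a b hQ U).le).op).hom.IsIntegral :=
    RingHom.isIntegral_of_surjective _ h2
  exact RingHom.IsIntegral.trans _ _ h1 h3

variable [IsClosedImmersion i] [IsIntegralHom j]
  (haff : ∀ y : Y, ∃ U : X.Opens, IsAffineOpen U ∧ j ⁻¹' {y} ⊆ (i ⁻¹ᵁ U : Set ↑Z))

include hQ haff in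
theorem locallyOfFiniteType_of_pushout {S : Scheme.{u}} (r : Q ⟶ S) [IsLocallyNoetherian S]
    [LocallyOfFiniteType (a ≫ r)] [LocallyOfFiniteType (b ≫ r)] : LocallyOfFiniteType r := by
  rw [HasRingHomProperty.iff_exists_appLE (P := @LocallyOfFiniteType)
    (RingHom.finiteType_stableUnderComposition.stableUnderCompositionWithLocalizationAway
      RingHom.finiteType_holdsForLocalizationAway).1]
  intro t
  obtain ⟨_, ⟨V, hV, rfl⟩, htV, -⟩ := S.isBasis_affineOpens.exists_subset_of_mem_open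
    (Set.mem_univ (r t)) isOpen_univ
  obtain ⟨U₁, htU₁, hU₁, hXa, hYa⟩ := exists_good_sch' i j a b hQ haff t
  obtain ⟨s, hs1, hs2⟩ := hU₁.exists_basicOpen_le (V := r ⁻¹ᵁ V) ⟨t, htV⟩ htU₁
  have hD : IsAffineOpen (Q.basicOpen s) := hU₁.basicOpen s
  have hDX : IsAffineOpen (a ⁻¹ᵁ Q.basicOpen s) := by
    rw [Scheme.preimage_basicOpen]
    exact hXa.basicOpen _
  have hDY : IsAffineOpen (b ⁻¹ᵁ Q.basicOpen s) := by
    rw [Scheme.preimage_basicOpen]
    exact hYa.basicOpen _
  refine ⟨⟨V, hV⟩, ⟨Q.basicOpen s, hD⟩, hs2, hs1, ?_⟩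
  haveI : IsNoetherianRing Γ(S, V) := IsLocallyNoetherian.component_noetherian ⟨V, hV⟩
  refine finiteType_of_fibSq (fibSq_sch' i j a b hQ (Q.basicOpen s))
    (Scheme.Hom.app_surjective i _ hDX) (appLE_isIntegral_j i j a b hQ _ hDY)
    (r.appLE V (Q.basicOpen s) hs1).hom ?_ ?_
  · have e : r.appLE V (Q.basicOpen s) hs1 ≫ b.app (Q.basicOpen s) =
        (b ≫ r).appLE V (b ⁻¹ᵁ Q.basicOpen s)
          (le_rfl.trans ((Opens.map b.base).map (homOfLE hs1)).le) := by
      rw [Scheme.Hom.app_eq_appLE, Scheme.Hom.appLE_comp_appLE]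
    rw [← CommRingCat.hom_comp, e]
    exact LocallyOfFiniteType.finiteType_appLE (b ≫ r) hV hDY _
  · have e : r.appLE V (Q.basicOpen s) hs1 ≫ a.app (Q.basicOpen s) =
        (a ≫ r).appLE V (a ⁻¹ᵁ Q.basicOpen s)
          (le_rfl.trans ((Opens.map a.base).map (homOfLE hs1)).le) := by
      rw [Scheme.Hom.app_eq_appLE, Scheme.Hom.appLE_comp_appLE]
    rw [← CommRingCat.hom_comp, e]
    exact LocallyOfFiniteType.finiteType_appLE (a ≫ r) hV hDX _

end Structure

end Groth.Agent.ShPushoutInt
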