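import Mathlib
import Groth.Agent.Lib.PushoutLFT_helper5

/-!
# Flatness of a pushout of schemes over a base
-/

namespace Groth.Agent.ShPushoutInt

open CategoryTheory Limits AlgebraicGeometry TopologicalSpace Opposite
open Groth.Agent.RSPushout Groth.Agent.RSPushoutCrit Groth.Agent.FibSqLib Groth.Agent.PushoutLocal
open Groth.Agent.ShPushout

universe u

section Alg

variable {R : Type*} [CommRing R]

theorem flat_prod (M K : Type*) [AddCommGroup M] [Module R M] [AddCommGroup K] [Module R K]
    [Module.Flat R M] [Module.Flat R K] : Module.Flat R (M × K) := by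
  rw [Module.Flat.iff_rTensor_injective']
  intro J
  rw [injective_iff_map_eq_zero]
  intro x hx
  have h1 : LinearMap.lTensor J (LinearMap.fst R M K) x = 0 := by
    apply (Module.Flat.iff_rTensor_injective'.mp (inferInstance : Module.Flat R M) J)
    rw [_root_.map_zero, ← LinearMap.comp_apply, LinearMap.rTensor_comp_lTensor,
      ← LinearMap.lTensor_comp_rTensor, LinearMap.comp_apply, hx, _root_.map_zero]
  have h2 : LinearMap.lTensor J (LinearMap.snd R M K) x = 0 := by
    apply (Module.Flat.iff_rTensor_injective'.mp (inferInstance : Module.Flat R K) J)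
    rw [_root_.map_zero, ← LinearMap.comp_apply, LinearMap.rTensor_comp_lTensor,
      ← LinearMap.lTensor_comp_rTensor, LinearMap.comp_apply, hx, _root_.map_zero]
  have h3 : LinearMap.inl R M K ∘ₗ LinearMap.fst R M K + LinearMap.inr R M K ∘ₗ LinearMap.snd R M K
      = LinearMap.id := by
    ext x <;> simp
  have h4 : x = LinearMap.lTensor J (LinearMap.inl R M K ∘ₗ LinearMap.fst R M K +
      LinearMap.inr R M K ∘ₗ LinearMap.snd R M K) x := by
    rw [h3, LinearMap.lTensor_id, LinearMap.id_apply]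
  rw [h4, LinearMap.lTensor_add, LinearMap.add_apply, LinearMap.lTensor_comp,
    LinearMap.lTensor_comp, LinearMap.comp_apply, LinearMap.comp_apply, h1, h2, _root_.map_zero,
    _root_.map_zero, add_zero]

theorem flat_ker {F M : Type*} [AddCommGroup F] [Module R F] [AddCommGroup M]
    [Module R M] [Module.Flat R F] [Module.Flat R M] (π : F →ₗ[R] M) (hπ : Function.Surjective π) :
    Module.Flat R (LinearMap.ker π) := by
  rw [Module.Flat.iff_rTensor_injective']
  intro J
  have h1 : Function.Injective (LinearMap.lTensor J (LinearMap.ker π).subtype) :=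
    LinearMap.lTensor_injective_of_exact_of_flat π hπ _ (LinearMap.ker π).subtype_injective
      (LinearMap.exact_subtype_ker_map π) J
  have h2 : Function.Injective (LinearMap.rTensor F J.subtype) :=
    Module.Flat.iff_rTensor_injective'.mp inferInstance J
  have h3 : (LinearMap.lTensor R (LinearMap.ker π).subtype) ∘ₗ
      (LinearMap.rTensor (LinearMap.ker π) J.subtype) =
      (LinearMap.rTensor F J.subtype) ∘ₗ (LinearMap.lTensor J (LinearMap.ker π).subtype) := by
    rw [LinearMap.lTensor_comp_rTensor, LinearMap.rTensor_comp_lTensor]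
  have h4 : Function.Injective ((LinearMap.lTensor R (LinearMap.ker π).subtype) ∘ₗ
      (LinearMap.rTensor (LinearMap.ker π) J.subtype)) := by
    rw [h3]
    exact h2.comp h1
  exact Function.Injective.of_comp h4

/-- a fibre product of flat algebras over a flat algebra (with one leg surjective) is flat -/
theorem flat_of_fibSq {R₀ R B A' A : Type*} [CommRing R₀] [CommRing R] [CommRing B]
    [CommRing A'] [CommRing A]
    {π₁ : R →+* B} {π₂ : R →+* A'} {q : B →+* A} {p : A' →+* A}
    (sq : FibSq π₁ π₂ q p) (hp : Function.Surjective p)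
    (φ : R₀ →+* R) (h1 : (π₁.comp φ).Flat) (h2 : (π₂.comp φ).Flat)
    (h3 : (q.comp (π₁.comp φ)).Flat) : φ.Flat := by
  letI : Algebra R₀ R := φ.toAlgebra
  letI : Algebra R₀ B := (π₁.comp φ).toAlgebra
  letI : Algebra R₀ A' := (π₂.comp φ).toAlgebra
  letI : Algebra R₀ A := (q.comp (π₁.comp φ)).toAlgebra
  haveI : Module.Flat R₀ B := h1
  haveI : Module.Flat R₀ A' := h2
  haveI : Module.Flat R₀ A := h3
  haveI : Module.Flat R₀ (B × A') := flat_prod B A'
  let π₁l : R →ₗ[R₀] B :=
    { toFun := π₁, map_add' := map_add π₁, map_smul' := fun r x => by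
        rw [Algebra.smul_def, Algebra.smul_def, map_mul]; rfl }
  let π₂l : R →ₗ[R₀] A' :=
    { toFun := π₂, map_add' := map_add π₂, map_smul' := fun r x => by
        rw [Algebra.smul_def, Algebra.smul_def, map_mul]; rfl }
  let ql : B →ₗ[R₀] A :=
    { toFun := q, map_add' := map_add q, map_smul' := fun r x => by
        rw [Algebra.smul_def, Algebra.smul_def, map_mul]; rfl }
  let pl : A' →ₗ[R₀] A :=
    { toFun := p, map_add' := map_add p, map_smul' := fun r x => by
        rw [Algebra.smul_def, Algebra.smul_def, map_mul]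
        congr 1
        exact (sq.comm (φ r)).symm }
  let g : R →ₗ[R₀] B × A' := π₁l.prod π₂l
  let f : B × A' →ₗ[R₀] A := ql.coprod (-pl)
  have hf : Function.Surjective f := by
    intro a
    obtain ⟨a', ha'⟩ := hp a
    refine ⟨(0, -a'), ?_⟩
    show ql 0 + (-pl) (-a') = a
    rw [map_zero, zero_add, LinearMap.neg_apply, map_neg, neg_neg]
    exact ha'
  haveI := flat_ker f hf
  have hg : Function.Injective g := by
    rw [injective_iff_map_eq_zero]
    intro x hx
    have h := Prod.ext_iff.mp hx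
    exact sq.inj x h.1 h.2
  have hrange : LinearMap.range g = LinearMap.ker f := by
    ext y
    obtain ⟨b, a'⟩ := y
    constructor
    · rintro ⟨x, hx⟩
      have h := Prod.ext_iff.mp hx
      have hb : π₁ x = b := h.1
      have ha : π₂ x = a' := h.2
      show ql b + (-pl) a' = 0
      rw [LinearMap.neg_apply, ← hb, ← ha]
      exact add_neg_eq_zero.mpr (sq.comm x)
    · intro hy
      have hy' : q b + -(p a') = 0 := hy
      obtain ⟨x, hx1, hx2⟩ := sq.surj b a' (add_neg_eq_zero.mp hy')
      exact ⟨x, Prod.ext hx1 hx2⟩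
  have e : R ≃ₗ[R₀] LinearMap.ker f :=
    (LinearEquiv.ofInjective g hg).trans (LinearEquiv.ofEq _ _ hrange)
  exact Module.Flat.of_linearEquiv e

end Alg

section Structure

variable {X Y Z Q : Scheme.{u}} (i : Z ⟶ X) (j : Z ⟶ Y) (a : X ⟶ Q) (b : Y ⟶ Q)
  (hQ : IsPushout (G.map i) (G.map j) (G.map a) (G.map b))

include hQ in
theorem flat_of_pushout [IsClosedImmersion i] [IsAffineHom a] [IsAffineHom b]
    {S : Scheme.{u}} (r : Q ⟶ S)
    [Flat (a ≫ r)] [Flat (b ≫ r)] [Flat (j ≫ b ≫ r)] : Flat r := by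
  rw [HasRingHomProperty.iff_appLE (P := @Flat)]
  intro U V e
  have hXa : IsAffineOpen (a ⁻¹ᵁ V.1) := V.2.preimage a
  have hYa : IsAffineOpen (b ⁻¹ᵁ V.1) := V.2.preimage b
  have hZa : IsAffineOpen (i ⁻¹ᵁ (a ⁻¹ᵁ V.1)) := hXa.preimage i
  refine flat_of_fibSq (fibSq_sch' i j a b hQ V.1) (Scheme.Hom.app_surjective i _ hXa)
    (r.appLE U.1 V.1 e).hom ?_ ?_ ?_
  · have e1 : r.appLE U.1 V.1 e ≫ b.app V.1 =
        (b ≫ r).appLE U.1 (b ⁻¹ᵁ V.1)
          (le_rfl.trans ((Opens.map b.base).map (homOfLE e)).le) := by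
      rw [Scheme.Hom.app_eq_appLE, Scheme.Hom.appLE_comp_appLE]
    rw [← CommRingCat.hom_comp, e1]
    exact HasRingHomProperty.appLE (P := @Flat) (b ≫ r) inferInstance U ⟨_, hYa⟩ _
  · have e1 : r.appLE U.1 V.1 e ≫ a.app V.1 =
        (a ≫ r).appLE U.1 (a ⁻¹ᵁ V.1)
          (le_rfl.trans ((Opens.map a.base).map (homOfLE e)).le) := by
      rw [Scheme.Hom.app_eq_appLE, Scheme.Hom.appLE_comp_appLE]
    rw [← CommRingCat.hom_comp, e1]
    exact HasRingHomProperty.appLE (P := @Flat) (a ≫ r) inferInstance U ⟨_, hXa⟩ _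
  · have e1 : r.appLE U.1 V.1 e ≫ b.app V.1 ≫
        j.appLE (b ⁻¹ᵁ V.1) (i ⁻¹ᵁ (a ⁻¹ᵁ V.1)) (eqZ' i j a b hQ V.1).le =
        (j ≫ b ≫ r).appLE U.1 (i ⁻¹ᵁ (a ⁻¹ᵁ V.1))
          ((eqZ' i j a b hQ V.1).le.trans ((Opens.map j.base).map
            (homOfLE (le_rfl.trans ((Opens.map b.base).map (homOfLE e)).le))).le) := by
      rw [← Category.assoc, Scheme.Hom.app_eq_appLE, Scheme.Hom.appLE_comp_appLE,
        Scheme.Hom.appLE_comp_appLE]
    rw [← CommRingCat.hom_comp, ← CommRingCat.hom_comp, Category.assoc, e1]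
    exact HasRingHomProperty.appLE (P := @Flat) (j ≫ b ≫ r) inferInstance U ⟨_, hZa⟩ _

end Structure

end Groth.Agent.ShPushoutInt
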