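import Mathlib
import Groth.Agent.Lib.PushoutFlat_helper5

/-!
# Ring-level lemmas for "the blow-up of a pinching recovers the pair" (helper5)

* `AffBl' π I`: `π : A → B` injective and `I·B ⊆ π(I)` (so `I` is a `B`-module).  Then for every
  `ψ : A → C` with `I·C = tC`, `t` a nonzerodivisor, there is a unique section-wise extension.
* consequences of a fibre square `A = C ×_E B` with `B → E` surjective and `C → E` injective.
-/

set_option autoImplicit false

namespace Groth.Agent.BlowUpPinch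

open Groth.Agent.FibSqLib

section Act

variable {A B : Type*} [CommRing A] [CommRing B]

/-- `π` injective and `I·B ⊆ π(I)`. -/
structure AffBl' (π : A →+* B) (I : Ideal A) : Prop where
  inj : Function.Injective π
  sub : (Ideal.map π I : Set B) ⊆ π '' (I : Set A)

variable {π : A →+* B} {I : Ideal A} (h : AffBl' π I)

include h in
theorem exists_act (β : B) (a : A) (ha : a ∈ I) : ∃ a' ∈ I, π a' = β * π a := by
  have : β * π a ∈ Ideal.map π I := Ideal.mul_mem_left _ _ (Ideal.mem_map_of_mem _ ha)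
  obtain ⟨a', ha', e⟩ := h.sub this
  exact ⟨a', ha', e⟩

open Classical in
/-- the action of `B` on `I` -/
noncomputable def act (β : B) (a : A) : A :=
  if ha : a ∈ I then (exists_act h β a ha).choose else 0

theorem act_mem (β : B) (a : A) (ha : a ∈ I) : act h β a ∈ I := by
  rw [act, dif_pos ha]; exact (exists_act h β a ha).choose_spec.1

theorem map_act (β : B) (a : A) (ha : a ∈ I) : π (act h β a) = β * π a := by
  rw [act, dif_pos ha]; exact (exists_act h β a ha).choose_spec.2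

theorem act_mul_comm (β : B) (a a' : A) (ha : a ∈ I) (ha' : a' ∈ I) :
    act h β a * a' = a * act h β a' :=
  h.inj (by rw [map_mul, map_mul, map_act h β a ha, map_act h β a' ha']; ring)

theorem act_one (a : A) (ha : a ∈ I) : act h 1 a = a :=
  h.inj (by rw [map_act h 1 a ha, one_mul])

theorem act_mul (β β' : B) (a : A) (ha : a ∈ I) :
    act h (β * β') a = act h β (act h β' a) :=
  h.inj (by rw [map_act h _ a ha, map_act h β _ (act_mem h β' a ha), map_act h β' a ha, mul_assoc])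

theorem act_add (β β' : B) (a : A) (ha : a ∈ I) :
    act h (β + β') a = act h β a + act h β' a :=
  h.inj (by rw [map_add, map_act h _ a ha, map_act h β a ha, map_act h β' a ha, add_mul])

theorem act_zero (a : A) (ha : a ∈ I) : act h 0 a = 0 :=
  h.inj (by rw [map_act h 0 a ha, zero_mul, map_zero])

theorem act_map (a₀ a : A) (ha : a ∈ I) : act h (π a₀) a = a₀ * a :=
  h.inj (by rw [map_act h _ a ha, map_mul])

variable {C : Type*} [CommRing C] (ψ : A →+* C)

theorem exists_sec (t : C) (ht : t ∈ nonZeroDivisors C) (hI : I.map ψ = Ideal.span {t}) (β : B) :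
    ∃ s : C, ∀ a ∈ I, ψ (act h β a) = s * ψ a := by
  have key : ∀ x ∈ I.map ψ, ∃ y ∈ I.map ψ, ∀ a ∈ I, x * ψ (act h β a) = y * ψ a := by
    intro x hx
    refine Submodule.span_induction ?_ ?_ ?_ ?_ hx
    · rintro _ ⟨a₀, ha₀, rfl⟩
      refine ⟨ψ (act h β a₀), Ideal.mem_map_of_mem _ (act_mem h β a₀ ha₀), fun a ha => ?_⟩
      rw [← map_mul, ← map_mul, act_mul_comm h β a₀ a ha₀ ha]
    · exact ⟨0, zero_mem _, fun a _ => by rw [zero_mul, zero_mul]⟩
    · rintro x y _ _ ⟨y₁, hy₁, e₁⟩ ⟨y₂, hy₂, e₂⟩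
      exact ⟨y₁ + y₂, add_mem hy₁ hy₂, fun a ha => by rw [add_mul, add_mul, e₁ a ha, e₂ a ha]⟩
    · rintro c x _ ⟨y, hy, e⟩
      exact ⟨c * y, Ideal.mul_mem_left _ _ hy, fun a ha => by
        rw [smul_eq_mul, mul_assoc, e a ha, mul_assoc]⟩
  obtain ⟨y, hy, e⟩ := key t (hI ▸ Ideal.mem_span_singleton_self t)
  rw [hI] at hy
  obtain ⟨s, rfl⟩ := Ideal.mem_span_singleton'.1 hy
  refine ⟨s, fun a ha => ?_⟩
  have h3 : (ψ (act h β a) - s * ψ a) * t = 0 := by
    have := e a ha
    rw [sub_mul]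
    linear_combination this
  exact sub_eq_zero.1 (mem_nonZeroDivisors_iff_right.1 ht _ h3)

omit h in
theorem sec_eq_zero (t : C) (ht : t ∈ nonZeroDivisors C) (hI : I.map ψ = Ideal.span {t}) (s : C)
    (hs : ∀ a ∈ I, s * ψ a = 0) : s = 0 := by
  have key : ∀ x ∈ I.map ψ, s * x = 0 := by
    intro x hx
    refine Submodule.span_induction ?_ ?_ ?_ ?_ hx
    · rintro _ ⟨a₀, ha₀, rfl⟩
      exact hs a₀ ha₀
    · exact mul_zero s
    · rintro x y _ _ e₁ e₂
      rw [mul_add, e₁, e₂, add_zero]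
    · rintro c x _ e
      rw [smul_eq_mul, mul_left_comm, e, mul_zero]
  exact mem_nonZeroDivisors_iff_right.1 ht _ (key t (hI ▸ Ideal.mem_span_singleton_self t))

end Act

section Fib

variable {A C B E : Type*} [CommRing A] [CommRing C] [CommRing B] [CommRing E]
  {π₁ : A →+* C} {π₂ : A →+* B} {q : C →+* E} {p : B →+* E}
  (sq : FibSq π₁ π₂ q p)

include sq in
theorem pi2_injective (hq : Function.Injective q) : Function.Injective π₂ := by
  rw [injective_iff_map_eq_zero]
  intro a ha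
  refine sq.inj a (hq ?_) ha
  rw [sq.comm, ha, map_zero, map_zero]

include sq in
theorem pi1_surjective (hp : Function.Surjective p) : Function.Surjective π₁ := by
  intro c
  obtain ⟨β, hβ⟩ := hp (q c)
  obtain ⟨a, ha, -⟩ := sq.surj c β hβ.symm
  exact ⟨a, ha⟩

include sq in
theorem image_ker :
    π₂ '' (RingHom.ker π₁ : Set A) = (RingHom.ker p : Set B) := by
  ext β
  constructor
  · rintro ⟨a, ha, rfl⟩
    rw [SetLike.mem_coe, RingHom.mem_ker] at ha ⊢
    rw [← sq.comm, ha, map_zero]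
  · intro hβ
    rw [SetLike.mem_coe, RingHom.mem_ker] at hβ
    obtain ⟨a, ha1, ha2⟩ := sq.surj 0 β (by rw [map_zero, hβ])
    exact ⟨a, ha1, ha2⟩

include sq in
theorem map_ker : (RingHom.ker π₁).map π₂ = RingHom.ker p := by
  apply le_antisymm
  · rw [Ideal.map_le_iff_le_comap]
    intro a ha
    have : π₂ a ∈ π₂ '' (RingHom.ker π₁ : Set A) := ⟨a, ha, rfl⟩
    rw [image_ker sq] at this
    exact this
  · intro β hβ
    have : β ∈ π₂ '' (RingHom.ker π₁ : Set A) := by rw [image_ker sq]; exact hβ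
    obtain ⟨a, ha, rfl⟩ := this
    exact Ideal.mem_map_of_mem _ ha

include sq in
theorem affBl' (hq : Function.Injective q) : AffBl' π₂ (RingHom.ker π₁) where
  inj := pi2_injective sq hq
  sub := by rw [map_ker sq, image_ker sq]

include sq in
theorem exists_mem_pow (n : ℕ) (hn : 1 ≤ n) (β : B)
    (hβ : β ∈ (RingHom.ker p) ^ n) : ∃ a ∈ (RingHom.ker π₁) ^ n, π₂ a = β := by
  induction n, hn using Nat.le_induction generalizing β with
  | base =>
    rw [pow_one] at hβ
    have : β ∈ π₂ '' (RingHom.ker π₁ : Set A) := by rw [image_ker sq]; exact hβ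
    obtain ⟨a, ha, rfl⟩ := this
    exact ⟨a, by rw [pow_one]; exact ha, rfl⟩
  | succ n hn ih =>
    rw [pow_succ] at hβ
    refine Submodule.mul_induction_on hβ ?_ ?_
    · intro m hm k hk
      obtain ⟨a, ha, rfl⟩ := ih m hm
      have : k ∈ π₂ '' (RingHom.ker π₁ : Set A) := by rw [image_ker sq]; exact hk
      obtain ⟨a', ha', rfl⟩ := this
      exact ⟨a * a', by rw [pow_succ]; exact Ideal.mul_mem_mul ha ha', map_mul _ _ _⟩
    · rintro x y ⟨a, ha, rfl⟩ ⟨a', ha', rfl⟩
      exact ⟨a + a', add_mem ha ha', map_add _ _ _⟩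

include sq in
theorem ker_le_comap : RingHom.ker π₁ ≤ (RingHom.ker p).comap π₂ := by
  rw [← Ideal.map_le_iff_le_comap, map_ker sq]

include sq in
theorem pow_le_comap (n : ℕ) : (RingHom.ker π₁) ^ n ≤ ((RingHom.ker p) ^ n).comap π₂ :=
  (Ideal.pow_right_mono (ker_le_comap sq) n).trans (Ideal.le_comap_pow _ _)

/-- `A/I^n → C` -/
noncomputable def q1 (π₁ : A →+* C) (n : ℕ) (hn : 1 ≤ n) : A ⧸ (RingHom.ker π₁) ^ n →+* C :=
  Ideal.Quotient.lift _ π₁ (fun a ha => Ideal.pow_le_self (by omega) ha)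

/-- `A/I^n → B/J^n` -/
noncomputable def q2 (n : ℕ) : A ⧸ (RingHom.ker π₁) ^ n →+* B ⧸ (RingHom.ker p) ^ n :=
  Ideal.quotientMap _ π₂ (pow_le_comap sq n)

include sq in
theorem fibSq_quot (hq : Function.Injective q) (n : ℕ) (hn : 1 ≤ n) :
    FibSq (q1 π₁ n hn) (q2 sq n) q (q1 p n hn) where
  comm x := by
    obtain ⟨a, rfl⟩ := Ideal.Quotient.mk_surjective x
    simp only [q1, q2, Ideal.Quotient.lift_mk, Ideal.quotientMap_mk]
    exact sq.comm a
  inj x _ h2 := by
    obtain ⟨a, rfl⟩ := Ideal.Quotient.mk_surjective x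
    simp only [q2, Ideal.quotientMap_mk] at h2
    rw [Ideal.Quotient.eq_zero_iff_mem] at h2 ⊢
    obtain ⟨a', ha', e⟩ := exists_mem_pow sq n hn _ h2
    rw [← pi2_injective sq hq e]
    exact ha'
  surj c x hx := by
    obtain ⟨β, rfl⟩ := Ideal.Quotient.mk_surjective x
    simp only [q1, Ideal.Quotient.lift_mk] at hx
    obtain ⟨a, ha1, ha2⟩ := sq.surj c β hx
    refine ⟨Ideal.Quotient.mk _ a, ?_, ?_⟩
    · simp only [q1, Ideal.Quotient.lift_mk]; exact ha1
    · simp only [q2, Ideal.quotientMap_mk]; rw [ha2]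

include sq in
theorem flat_quot_pow (hp : Function.Surjective p) (hq : Function.Injective q) (n : ℕ)
    (hn : 1 ≤ n) {R₀ : Type*} [CommRing R₀] (φ₀ : R₀ →+* A)
    (h1 : (π₁.comp φ₀).Flat)
    (h2 : ((Ideal.Quotient.mk ((RingHom.ker p) ^ n)).comp (π₂.comp φ₀)).Flat)
    (h3 : (q.comp (π₁.comp φ₀)).Flat) :
    ((Ideal.Quotient.mk ((RingHom.ker π₁) ^ n)).comp φ₀).Flat := by
  have hp' : Function.Surjective (q1 p n hn) := by
    intro e
    obtain ⟨β, rfl⟩ := hp e
    exact ⟨Ideal.Quotient.mk _ β, by simp only [q1, Ideal.Quotient.lift_mk]⟩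
  refine Groth.Agent.ShPushoutInt.flat_of_fibSq (fibSq_quot sq hq n hn) hp'
    ((Ideal.Quotient.mk ((RingHom.ker π₁) ^ n)).comp φ₀) ?_ ?_ ?_
  · have : (q1 π₁ n hn).comp ((Ideal.Quotient.mk ((RingHom.ker π₁) ^ n)).comp φ₀) =
        π₁.comp φ₀ := by
      ext x; simp only [RingHom.comp_apply, q1, Ideal.Quotient.lift_mk]
    rw [this]; exact h1
  · have : (q2 sq n).comp ((Ideal.Quotient.mk ((RingHom.ker π₁) ^ n)).comp φ₀) =
        (Ideal.Quotient.mk ((RingHom.ker p) ^ n)).comp (π₂.comp φ₀) := by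
      ext x; simp only [RingHom.comp_apply, q2, Ideal.quotientMap_mk]
    rw [this]; exact h2
  · have : q.comp ((q1 π₁ n hn).comp ((Ideal.Quotient.mk ((RingHom.ker π₁) ^ n)).comp φ₀)) =
        q.comp (π₁.comp φ₀) := by
      ext x; simp only [RingHom.comp_apply, q1, Ideal.Quotient.lift_mk]
    rw [this]; exact h3

end Fib

end Groth.Agent.BlowUpPinch
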