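import Mathlib
import Groth.Agent.Lib.PinchBC_helper5

/-!
# Global sections of a pinching: `O_T → f'_* O_{X'}` is an isomorphism when `O_T → f_* O_X` is
-/

namespace Groth.Agent.PinchSections

open CategoryTheory Limits AlgebraicGeometry TopologicalSpace Opposite
open Groth.Agent.RSPushout

universe u

/-- a flat surjective morphism induces injective maps on sections -/
theorem app_injective_of_flat_of_surjective {Y Y' : Scheme.{u}} (h : Y ⟶ Y') [Flat h]
    [Surjective h] (V : Y'.Opens) : Function.Injective (h.app V) := by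
  intro s₁ s₂ e
  refine TopCat.Presheaf.section_ext Y'.sheaf V s₁ s₂ ?_
  intro x hx
  obtain ⟨y, rfl⟩ := h.surjective x
  have hinj : Function.Injective (h.stalkMap y) := by
    algebraize [(h.stalkMap y).hom]
    have : Module.FaithfullyFlat (Y'.presheaf.stalk (h y)) (Y.presheaf.stalk y) :=
      @Module.FaithfullyFlat.of_flat_of_isLocalHom _ _ _ _ _ _ _
        (Flat.stalkMap h y) (h.toLRSHom.prop y)
    exact ‹RingHom.FaithfullyFlat _›.injective
  apply hinj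
  have e1 := Scheme.Hom.germ_stalkMap_apply h V y hx s₁
  have e2 := Scheme.Hom.germ_stalkMap_apply h V y hx s₂
  rw [e] at e1
  exact e1.trans e2.symm

theorem isIso_app_of_isPushout {X Z Z' X' T : Scheme.{u}} (ι : Z ⟶ X) (q : Z ⟶ Z') (π : X ⟶ X')
    (ι' : Z' ⟶ X') (hpo : IsPushout (G.map ι) (G.map q) (G.map π) (G.map ι'))
    [Flat q] [Surjective q] (fX : X ⟶ T) (fX' : X' ⟶ T) (hπ : π ≫ fX' = fX)
    (U : T.Opens) (hX : IsIso (fX.app U)) : IsIso (fX'.app U) := by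
  subst hπ
  have w : ι ≫ π = q ≫ ι' := G.map_injective (by rw [G.map_comp, G.map_comp]; exact hpo.w)
  rw [Scheme.Hom.comp_app] at hX
  have hbij : Function.Bijective (fX'.app U ≫ π.app (fX' ⁻¹ᵁ U)) :=
    (ConcreteCategory.isIso_iff_bijective _).mp hX
  have key : ∀ x : Γ(X', fX' ⁻¹ᵁ U), q.app _ (ι'.app (fX' ⁻¹ᵁ U) x) =
      Z.presheaf.map (eqToHom (show q ⁻¹ᵁ ι' ⁻¹ᵁ fX' ⁻¹ᵁ U = ι ⁻¹ᵁ π ⁻¹ᵁ fX' ⁻¹ᵁ U from by
        rw [← Scheme.Hom.comp_preimage, ← w, Scheme.Hom.comp_preimage])).op (ι.app _ (π.app (fX' ⁻¹ᵁ U) x)) := by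
    intro x
    have h1 := Scheme.Hom.congr_app w.symm (fX' ⁻¹ᵁ U)
    rw [Scheme.Hom.comp_app, Scheme.Hom.comp_app] at h1
    exact congr($h1 x)
  rw [ConcreteCategory.isIso_iff_bijective]
  constructor
  · intro s₁ s₂ e
    apply hbij.1
    simp only [CommRingCat.comp_apply]
    rw [e]
  · intro s
    obtain ⟨t, ht⟩ := hbij.2 (π.app (fX' ⁻¹ᵁ U) s)
    refine ⟨t, ?_⟩
    simp only [CommRingCat.comp_apply] at ht
    refine sections_inj ι q π ι' hpo (fX' ⁻¹ᵁ U) _ _ ht ?_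
    apply app_injective_of_flat_of_surjective q
    rw [key, key, ht]

theorem isIso_snd_app {S X Z Z' X' T : Scheme.{u}}
    (fX : X ⟶ S) (fZ' : Z' ⟶ S) (fX' : X' ⟶ S) (fZ : Z ⟶ S)
    (ι : Z ⟶ X) (q : Z ⟶ Z') (π : X ⟶ X') (ι' : Z' ⟶ X')
    [IsClosedImmersion ι] [IsClosedImmersion ι'] [IsAffineHom π] [Flat q] [Surjective q]
    (hι : ι ≫ fX = fZ) (hq : q ≫ fZ' = fZ) (hπ : π ≫ fX' = fX) (hι' : ι' ≫ fX' = fZ')
    (hpo : IsPushout (G.map ι) (G.map q) (G.map π) (G.map ι')) [Flat fZ]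
    (g : T ⟶ S)
    (ιT : pullback fZ g ⟶ pullback fX g) (qT : pullback fZ g ⟶ pullback fZ' g)
    (πT : pullback fX g ⟶ pullback fX' g) (ι'T : pullback fZ' g ⟶ pullback fX' g)
    (hιT1 : ιT ≫ pullback.fst fX g = pullback.fst fZ g ≫ ι)
    (hιT2 : ιT ≫ pullback.snd fX g = pullback.snd fZ g)
    (hqT1 : qT ≫ pullback.fst fZ' g = pullback.fst fZ g ≫ q)
    (hqT2 : qT ≫ pullback.snd fZ' g = pullback.snd fZ g)
    (hπT1 : πT ≫ pullback.fst fX' g = pullback.fst fX g ≫ π)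
    (hπT2 : πT ≫ pullback.snd fX' g = pullback.snd fX g)
    (hι'T1 : ι'T ≫ pullback.fst fX' g = pullback.fst fZ' g ≫ ι')
    (hι'T2 : ι'T ≫ pullback.snd fX' g = pullback.snd fZ' g)
    (U : T.Opens) (hX : IsIso ((pullback.snd fX g).app U)) :
    IsIso ((pullback.snd fX' g).app U) := by
  have hpoT := Groth.Agent.PinchBC.isPushout_baseChange fX fZ' fX' fZ ι q π ι' hι hq hπ hι' hpo g
    ιT qT πT ι'T hιT1 hιT2 hqT1 hqT2 hπT1 hπT2 hι'T1 hι'T2
  have hpb : IsPullback qT (pullback.fst fZ g) (pullback.fst fZ' g) q := by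
    have s : IsPullback (qT ≫ pullback.snd fZ' g) (pullback.fst fZ g) g (q ≫ fZ') := by
      rw [hqT2, hq]
      exact (IsPullback.of_hasPullback fZ g).flip
    exact (IsPullback.of_right s hqT1 (IsPullback.of_hasPullback fZ' g).flip)
  haveI : Flat qT := MorphismProperty.of_isPullback (P := @Flat) hpb.flip inferInstance
  haveI : Surjective qT := MorphismProperty.of_isPullback (P := @Surjective) hpb.flip inferInstance
  exact isIso_app_of_isPushout ιT qT πT ι'T hpoT (pullback.snd fX g) (pullback.snd fX' g) hπT2 U hX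

end Groth.Agent.PinchSections
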