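import Mathlib
import Groth.Agent.Lib.SchPushoutInt_helper5

/-!
# The pushout of a closed immersion and an arbitrary morphism, given adapted affine pairs
-/

namespace Groth.Agent.ShPushoutInt

open CategoryTheory Limits AlgebraicGeometry TopologicalSpace Opposite
open Groth.Agent.RSPushout Groth.Agent.RSPushoutCrit Groth.Agent.FibSqLib Groth.Agent.PushoutLocal
open Groth.Agent.ShPushout

universe u

section Good

variable {X Y Z : Scheme.{u}} (i : Z ⟶ X) (j : Z ⟶ Y) {P : SheafedSpace CommRingCat.{u}}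
  (a : G.obj X ⟶ P) (b : G.obj Y ⟶ P) (hP : IsPushout (G.map i) (G.map j) a b)

include hP in
theorem exists_good_pair [IsClosedImmersion i]
    (hpair : ∀ y : Y, ∃ (UX : X.Opens) (UY : Y.Opens), IsAffineOpen UX ∧ IsAffineOpen UY ∧
      y ∈ UY ∧ i ⁻¹ᵁ UX = j ⁻¹ᵁ UY) (p : P) :
    ∃ U : Opens P, p ∈ U ∧ IsAffineOpen (pre a U) ∧ IsAffineOpen (pre b U) := by
  have hi : Function.Injective i := i.isEmbedding.injective
  have keyY : ∀ y : Y, ∃ U : Opens P, b.hom.base y ∈ U ∧ IsAffineOpen (pre a U) ∧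
      IsAffineOpen (pre b U) := by
    intro y
    obtain ⟨UX, UY, hUX, hUY, hy, h⟩ := hpair y
    obtain ⟨U, rfl, rfl⟩ := exists_open' i j a b hP hi UX UY h
    exact ⟨U, hy, hUX, hUY⟩
  rcases exists_pt i j a b hP p with ⟨x, rfl⟩ | ⟨y, rfl⟩
  · by_cases hx : x ∈ Set.range i
    · obtain ⟨z, rfl⟩ := hx
      obtain ⟨U, h1, h2, h3⟩ := keyY (j z)
      refine ⟨U, ?_, h2, h3⟩
      rw [comm_pt i j a b hP z]
      exact h1
    · obtain ⟨_, ⟨UX, hUX, rfl⟩, hxUX, hUXc⟩ := X.isBasis_affineOpens.exists_subset_of_mem_open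
        (show x ∈ (Set.range i)ᶜ from hx) i.isClosedEmbedding.isClosed_range.isOpen_compl
      obtain ⟨U, rfl, hb⟩ := exists_open' i j a b hP hi UX ⊥ (by
        ext z
        constructor
        · intro hz
          exact (hUXc hz ⟨z, rfl⟩).elim
        · intro hz
          exact hz.elim)
      refine ⟨U, hxUX, hUX, ?_⟩
      rw [hb]
      exact isAffineOpen_bot Y
  · exact keyY y

end Good

section Construct

variable {X Y Z : Scheme.{u}} (i : Z ⟶ X) (j : Z ⟶ Y) [IsClosedImmersion i]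
  (hpair : ∀ y : Y, ∃ (UX : X.Opens) (UY : Y.Opens), IsAffineOpen UX ∧ IsAffineOpen UY ∧
      y ∈ UY ∧ i ⁻¹ᵁ UX = j ⁻¹ᵁ UY)

/-- the pushout as a scheme -/
noncomputable def PSp : Scheme.{u} where
  toLocallyRingedSpace := PL i j
  local_affine := by
    intro x
    obtain ⟨U, hxU, hXa, hYa⟩ := exists_good_pair i j _ _ (isPushout_PL i j) hpair x
    obtain ⟨f, hf, hrange⟩ := exists_chart' i j _ _ (isPushout_PL i j) U hXa hYa
    refine ⟨⟨⟨_, hf.base_open.isOpen_range⟩, ?_⟩, (PL i j).presheaf.obj (op U), ⟨?_⟩⟩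
    · show x ∈ Set.range f.hom.base
      rw [hrange]
      exact hxU
    · apply LocallyRingedSpace.isoOfSheafedSpaceIso
      refine SheafedSpace.forgetToPresheafedSpace.preimageIso ?_
      apply PresheafedSpace.IsOpenImmersion.isoOfRangeEq (PresheafedSpace.ofRestrict _ _) f.hom
      exact Subtype.range_coe_subtype

/-- the first coprojection -/
noncomputable def inlSp : X ⟶ PSp i j hpair := Scheme.Hom.mk (pushout.inl i.toLRSHom j.toLRSHom)

/-- the second coprojection -/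
noncomputable def inrSp : Y ⟶ PSp i j hpair := Scheme.Hom.mk (pushout.inr i.toLRSHom j.toLRSHom)

theorem isPushout_PSp :
    IsPushout (G.map i) (G.map j) (G.map (inlSp i j hpair)) (G.map (inrSp i j hpair)) :=
  isPushout_PL i j

include hpair in
/-- any pushout of schemes along a closed immersion and a morphism with adapted affine pairs is a
pushout of sheafed spaces -/
theorem isPushout_G_of_isPushout_pair {Q : Scheme.{u}}
    (a : X ⟶ Q) (b : Y ⟶ Q) (h : IsPushout i j a b) :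
    IsPushout (G.map i) (G.map j) (G.map a) (G.map b) := by
  have hQ := isPushout_PSp i j hpair
  have hS := isPushout_of_G _ _ _ _ hQ
  have h1 : inlSp i j hpair ≫ (hS.isoIsPushout _ _ h).hom = a := hS.inl_isoIsPushout_hom _ _ h
  have h2 : inrSp i j hpair ≫ (hS.isoIsPushout _ _ h).hom = b := hS.inr_isoIsPushout_hom _ _ h
  refine IsPushout.of_iso hQ (Iso.refl _) (Iso.refl _) (Iso.refl _)
    (G.mapIso (hS.isoIsPushout _ _ h)) (by simp) (by simp) ?_ ?_
  · rw [Iso.refl_hom, Category.id_comp, Functor.mapIso_hom, ← G.map_comp, h1]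
  · rw [Iso.refl_hom, Category.id_comp, Functor.mapIso_hom, ← G.map_comp, h2]

end Construct

section YBase

/-- the hypotheses of the pinching over a base `Y` give adapted affine pairs -/
theorem pair_of_std {X Y T Z : Scheme.{u}} (f : X ⟶ Y) (t : T ⟶ Y) (ξ : Z ⟶ T) (ι : Z ⟶ X)
    [IsAffineHom t] (hsq : ι ≫ f = ξ ≫ t)
    (hstd : ∀ y : Y, ∃ U : Y.Opens, IsAffineOpen U ∧ y ∈ U ∧ ∃ V : X.Opens, IsAffineOpen V ∧
      V ≤ f ⁻¹ᵁ U ∧ ∀ z : Z, (ξ ≫ t).base z ∈ U → ι.base z ∈ V) (y' : T) :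
    ∃ (UX : X.Opens) (UY : T.Opens), IsAffineOpen UX ∧ IsAffineOpen UY ∧
      y' ∈ UY ∧ ι ⁻¹ᵁ UX = ξ ⁻¹ᵁ UY := by
  obtain ⟨U, hU, hyU, V, hV, hVU, hZ⟩ := hstd (t y')
  refine ⟨V, t ⁻¹ᵁ U, hV, hU.preimage t, hyU, ?_⟩
  ext z
  constructor
  · intro hz
    have h1 : ι z ∈ f ⁻¹ᵁ U := hVU hz
    have h2 : (ι ≫ f) z ∈ U := h1
    rw [hsq] at h2
    exact h2
  · intro hz
    exact hZ z hz

/-- the hypotheses of the pinching over a base `Y` give the affine fibre condition -/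
theorem haff_of_std {X Y T Z : Scheme.{u}} (f : X ⟶ Y) (t : T ⟶ Y) (ξ : Z ⟶ T) (ι : Z ⟶ X)
    (hstd : ∀ y : Y, ∃ U : Y.Opens, IsAffineOpen U ∧ y ∈ U ∧ ∃ V : X.Opens, IsAffineOpen V ∧
      V ≤ f ⁻¹ᵁ U ∧ ∀ z : Z, (ξ ≫ t).base z ∈ U → ι.base z ∈ V) (y' : T) :
    ∃ U : X.Opens, IsAffineOpen U ∧ ξ ⁻¹' {y'} ⊆ (ι ⁻¹ᵁ U : Set ↑Z) := by
  obtain ⟨U, hU, hyU, V, hV, hVU, hZ⟩ := hstd (t y')
  refine ⟨V, hV, ?_⟩
  intro z hz
  have hz' : ξ z = y' := hz
  apply hZ z
  show t (ξ z) ∈ U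
  rw [hz']
  exact hyU

end YBase

end Groth.Agent.ShPushoutInt
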