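import Mathlib
import Groth.Prelude.Def_BlowUp2
import Groth.Agent.Lib.SchPushoutPair_helper5
import Groth.Agent.Lib.PinchSections_helper5
import Groth.Agent.Lib.BlowUpPinchRing_helper5
import Groth.Agent.Lib.ComapIdeal_helper4
import Groth.Agent.Lib.CartierFlat_helper9

/-!
# The blow-up of a pinching along the pinched divisor recovers the pair (helper5)

`ι : D̃ → X̃` closed immersion with effective Cartier ideal, `h : D̃ → D` flat surjective,
`(ι, h, b, j)` a pushout (of ringed spaces) with `b` affine and `j` a closed immersion.  Then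
`b` is the blowing up of `X` in the ideal of `D`, `I_D · O_X̃ = I_D̃`, and the `V(I_D^n)` are flat
over a base if `X̃`, `D`, `D̃` are.
-/

set_option autoImplicit false
universe u

namespace Groth.Agent.BlowUpPinch

open CategoryTheory Limits AlgebraicGeometry TopologicalSpace Opposite
open Groth.Agent.RSPushout Groth.Agent.RSPushoutCrit Groth.Agent.FibSqLib Groth.Agent.PushoutLocal
open Groth.Agent.ShPushout Groth.Agent.ShPushoutInt

section General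

theorem comap_of_flat' {X Y : Scheme.{u}} (f : X ⟶ Y) [Flat f]
    (𝓘 : Y.IdealSheafData) (hD : BlowUp.IsEffCartierIdeal 𝓘) :
    BlowUp.IsEffCartierIdeal (𝓘.comap f) := by
  intro x
  obtain ⟨U, hxU, g, hg, hIU⟩ := hD (f x)
  obtain ⟨V, hxV, hVU⟩ := Groth.Agent.Lib.CartierFlat.exists_affine_le x (f ⁻¹ᵁ U.1) hxU
  refine ⟨V, hxV, (f.appLE U.1 V.1 hVU).hom g, ?_, ?_⟩
  · exact Groth.Agent.Lib.CartierFlat.map_mem_nonZeroDivisors_of_flat _
      (HasRingHomProperty.appLE (P := @Flat) f inferInstance U V hVU) hg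
  · rw [Groth.Agent.Lib.ComapIdeal_helper4.comap_ideal_eq f 𝓘 U V hVU, hIU, Ideal.map_span,
      Set.image_singleton]

/-- a morphism whose restriction to `W` lands in the affine open `V` -/
theorem ι_comp_eq {Z T : Scheme.{u}} (H : Z ⟶ T) {V : T.Opens} (hV : IsAffineOpen V)
    (W : Z.Opens) (e : W ≤ H ⁻¹ᵁ V) :
    W.ι ≫ H = W.toSpecΓ ≫ Spec.map (H.appLE V W e) ≫ hV.fromSpec := by
  rw [Scheme.Opens.toSpecΓ_SpecMap_appLE_assoc, hV.toSpecΓ_fromSpec, Scheme.Hom.resLE_comp_ι]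

theorem appLE_congr {Z T : Scheme.{u}} {g₁ g₂ : Z ⟶ T} (e : g₁ = g₂) (U : T.Opens) (W : Z.Opens)
    (e₁ : W ≤ g₁ ⁻¹ᵁ U) (e₂ : W ≤ g₂ ⁻¹ᵁ U) : g₁.appLE U W e₁ = g₂.appLE U W e₂ := by
  subst e; rfl

end General

section Setup

variable {Xt Dt D X : Scheme.{u}} (ι : Dt ⟶ Xt) (h : Dt ⟶ D) (b : Xt ⟶ X) (j : D ⟶ X)
  (hQ : IsPushout (G.map ι) (G.map h) (G.map b) (G.map j))

include hQ in
theorem appLE_injective_h [Flat h] [Surjective h] (U : X.Opens) :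
    Function.Injective (h.appLE (j ⁻¹ᵁ U) (ι ⁻¹ᵁ (b ⁻¹ᵁ U)) (eqZ' ι h b j hQ U).le) := by
  have h1 : Function.Injective (h.app (j ⁻¹ᵁ U)) :=
    Groth.Agent.PinchSections.app_injective_of_flat_of_surjective h _
  have h2 := (map_bijective_of_eq (eqZ' ι h b j hQ U) (eqZ' ι h b j hQ U).le).1
  intro s s' e
  apply h1
  apply h2
  exact e

include hQ in
theorem affBl [Flat h] [Surjective h] (U : X.Opens) :
    AffBl' (b.app U).hom (RingHom.ker (j.app U).hom) :=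
  affBl' (fibSq_sch' ι h b j hQ U) (appLE_injective_h ι h b j hQ U)

end Setup

section Sheafy

variable {Xt D X : Scheme.{u}} (b : Xt ⟶ X) (j : D ⟶ X) [IsClosedImmersion j]
  {Y : Scheme.{u}} (g : Y ⟶ X) (hc : BlowUp.IsEffCartierIdeal (j.ker.comap g))
  (U : X.affineOpens) (hA : AffBl' (b.app U.1).hom (RingHom.ker (j.app U.1).hom))

omit [IsClosedImmersion j] in
theorem res_psi {W W' : Y.Opens} (e : W ≤ g ⁻¹ᵁ U.1) (e' : W' ≤ W) (a : Γ(X, U.1)) :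
    (Y.presheaf.map (homOfLE e').op).hom ((g.appLE U.1 W e).hom a) =
      (g.appLE U.1 W' (e'.trans e)).hom a := by
  rw [← RingHom.comp_apply, ← CommRingCat.hom_comp, Scheme.Hom.appLE_map]

include hc in
theorem exists_affine_good (y : Y) (W : Y.Opens) (e : W ≤ g ⁻¹ᵁ U.1) (hy : y ∈ W) :
    ∃ (V : Y.affineOpens) (eV : V.1 ≤ W), y ∈ V.1 ∧ ∃ t ∈ nonZeroDivisors Γ(Y, V.1),
      (RingHom.ker (j.app U.1).hom).map (g.appLE U.1 V.1 (eV.trans e)).hom = Ideal.span {t} := by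
  obtain ⟨U₀, hyU, hU₀⟩ := Groth.Agent.Lib.CartierFlat.exists_affine_principal _ hc y
  obtain ⟨V, hyV, hVle⟩ := Groth.Agent.Lib.CartierFlat.exists_affine_le y (U₀.1 ⊓ W) ⟨hyU, hy⟩
  obtain ⟨t, ht, hI⟩ := hU₀ V (hVle.trans inf_le_left)
  refine ⟨V, hVle.trans inf_le_right, hyV, t, ht, ?_⟩
  rw [Groth.Agent.Lib.ComapIdeal_helper4.comap_ideal_eq g j.ker U V
    ((hVle.trans inf_le_right).trans e), Scheme.Hom.ker_apply] at hI
  exact hI

include hc in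
theorem sec_zero_sheaf (W : Y.Opens) (e : W ≤ g ⁻¹ᵁ U.1) (s : Γ(Y, W))
    (hs : ∀ a ∈ RingHom.ker (j.app U.1).hom, s * (g.appLE U.1 W e).hom a = 0) : s = 0 := by
  choose V eV hyV t ht hI using fun y : W => exists_affine_good j g hc U y.1 W e y.2
  refine Y.sheaf.eq_of_locally_eq' (fun y : W => (V y).1) W (fun y => homOfLE (eV y)) ?_ s 0
    fun y => ?_
  · intro y hy
    rw [Opens.mem_iSup]
    exact ⟨⟨y, hy⟩, hyV ⟨y, hy⟩⟩
  · change (Y.presheaf.map (homOfLE (eV y)).op).hom s = (Y.presheaf.map _).hom 0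
    rw [map_zero]
    refine sec_eq_zero _ (t y) (ht y) (hI y) _ fun a ha => ?_
    rw [← res_psi g U e (eV y), ← map_mul, hs a ha, map_zero]

include hc hA in
theorem existsUnique_sec (W : Y.Opens) (e : W ≤ g ⁻¹ᵁ U.1) (β : Γ(Xt, b ⁻¹ᵁ U.1)) :
    ∃! s : Γ(Y, W), ∀ a ∈ RingHom.ker (j.app U.1).hom,
      (g.appLE U.1 W e).hom (act hA β a) = s * (g.appLE U.1 W e).hom a := by
  have huniq : ∀ (W' : Y.Opens) (e' : W' ≤ g ⁻¹ᵁ U.1) (s s' : Γ(Y, W')),
      (∀ a ∈ RingHom.ker (j.app U.1).hom,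
        (g.appLE U.1 W' e').hom (act hA β a) = s * (g.appLE U.1 W' e').hom a) →
      (∀ a ∈ RingHom.ker (j.app U.1).hom,
        (g.appLE U.1 W' e').hom (act hA β a) = s' * (g.appLE U.1 W' e').hom a) → s = s' := by
    intro W' e' s s' h1 h2
    refine sub_eq_zero.1 (sec_zero_sheaf j g hc U W' e' _ fun a ha => ?_)
    rw [sub_mul, ← h1 a ha, ← h2 a ha, sub_self]
  choose V eV hyV t ht hI using fun y : W => exists_affine_good j g hc U y.1 W e y.2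
  choose sf hsf using fun y : W => exists_sec hA (g.appLE U.1 (V y).1 ((eV y).trans e)).hom (t y)
    (ht y) (hI y) β
  have hcompat : TopCat.Presheaf.IsCompatible Y.sheaf.1 (fun y : W => (V y).1) sf := by
    intro y y'
    refine huniq ((V y).1 ⊓ (V y').1) ((inf_le_left.trans (eV y)).trans e) _ _ ?_ ?_
    · intro a ha
      change _ = (Y.presheaf.map (homOfLE inf_le_left).op).hom (sf y) * _
      rw [← res_psi g U ((eV y).trans e) inf_le_left, ← res_psi g U ((eV y).trans e) inf_le_left,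
        ← map_mul, hsf y a ha]
    · intro a ha
      change _ = (Y.presheaf.map (homOfLE inf_le_right).op).hom (sf y') * _
      rw [← res_psi g U ((eV y').trans e) inf_le_right,
        ← res_psi g U ((eV y').trans e) inf_le_right, ← map_mul, hsf y' a ha]
  have hcover : W ≤ iSup fun y : W => (V y).1 := by
    intro y hy
    rw [Opens.mem_iSup]
    exact ⟨⟨y, hy⟩, hyV ⟨y, hy⟩⟩
  obtain ⟨s₀, hs, -⟩ := Y.sheaf.existsUnique_gluing' (fun y : W => (V y).1) W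
    (fun y => homOfLE (eV y)) hcover sf hcompat
  obtain ⟨s, rfl⟩ : ∃ s : Γ(Y, W), s = s₀ := ⟨s₀, rfl⟩
  have hs' : ∀ a ∈ RingHom.ker (j.app U.1).hom,
      (g.appLE U.1 W e).hom (act hA β a) = s * (g.appLE U.1 W e).hom a := by
    intro a ha
    refine Y.sheaf.eq_of_locally_eq' (fun y : W => (V y).1) W (fun y => homOfLE (eV y)) hcover _ _
      fun y => ?_
    change (Y.presheaf.map (homOfLE (eV y)).op).hom _ = (Y.presheaf.map (homOfLE (eV y)).op).hom _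
    have := hs y
    change (Y.presheaf.map (homOfLE (eV y)).op).hom s = sf y at this
    rw [map_mul, res_psi, res_psi, this, hsf y a ha]
  exact ⟨s, hs', fun s' h' => huniq W e _ _ h' hs'⟩

/-- the section attached to `β` -/
noncomputable def secW (W : Y.Opens) (e : W ≤ g ⁻¹ᵁ U.1) (β : Γ(Xt, b ⁻¹ᵁ U.1)) : Γ(Y, W) :=
  (existsUnique_sec b j g hc U hA W e β).exists.choose

theorem secW_spec (W : Y.Opens) (e : W ≤ g ⁻¹ᵁ U.1) (β : Γ(Xt, b ⁻¹ᵁ U.1)) (a : Γ(X, U.1))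
    (ha : a ∈ RingHom.ker (j.app U.1).hom) :
    (g.appLE U.1 W e).hom (act hA β a) = secW b j g hc U hA W e β * (g.appLE U.1 W e).hom a :=
  (existsUnique_sec b j g hc U hA W e β).exists.choose_spec a ha

theorem secW_eq (W : Y.Opens) (e : W ≤ g ⁻¹ᵁ U.1) (β : Γ(Xt, b ⁻¹ᵁ U.1)) (s : Γ(Y, W))
    (hs : ∀ a ∈ RingHom.ker (j.app U.1).hom,
      (g.appLE U.1 W e).hom (act hA β a) = s * (g.appLE U.1 W e).hom a) :
    secW b j g hc U hA W e β = s :=
  (existsUnique_sec b j g hc U hA W e β).unique (secW_spec b j g hc U hA W e β) hs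

/-- the ring homomorphism `Γ(X̃, b⁻¹U) → Γ(Y, W)` -/
noncomputable def ringHomW (W : Y.Opens) (e : W ≤ g ⁻¹ᵁ U.1) : Γ(Xt, b ⁻¹ᵁ U.1) →+* Γ(Y, W) where
  toFun := secW b j g hc U hA W e
  map_one' := secW_eq b j g hc U hA W e 1 1 fun a ha => by rw [act_one hA a ha, one_mul]
  map_mul' β β' := secW_eq b j g hc U hA W e _ _ fun a ha => by
    rw [act_mul hA β β' a ha, secW_spec b j g hc U hA W e β _ (act_mem hA β' a ha),
      secW_spec b j g hc U hA W e β' a ha, mul_assoc]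
  map_zero' := secW_eq b j g hc U hA W e 0 0 fun a ha => by
    rw [act_zero hA a ha, map_zero, zero_mul]
  map_add' β β' := secW_eq b j g hc U hA W e _ _ fun a ha => by
    rw [act_add hA β β' a ha, map_add, secW_spec b j g hc U hA W e β a ha,
      secW_spec b j g hc U hA W e β' a ha, add_mul]

theorem ringHomW_comp (W : Y.Opens) (e : W ≤ g ⁻¹ᵁ U.1) :
    (ringHomW b j g hc U hA W e).comp (b.app U.1).hom = (g.appLE U.1 W e).hom := by
  ext a₀
  exact secW_eq b j g hc U hA W e _ _ fun a ha => by rw [act_map hA a₀ a ha, map_mul]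

theorem ringHomW_unique (W : Y.Opens) (e : W ≤ g ⁻¹ᵁ U.1) (χ : Γ(Xt, b ⁻¹ᵁ U.1) →+* Γ(Y, W))
    (hχ : χ.comp (b.app U.1).hom = (g.appLE U.1 W e).hom) : χ = ringHomW b j g hc U hA W e := by
  ext β
  refine (secW_eq b j g hc U hA W e β (χ β) fun a ha => ?_).symm
  rw [← hχ, RingHom.comp_apply, RingHom.comp_apply, map_act hA β a ha, map_mul]

end Sheafy

section Lift

variable {Xt D X : Scheme.{u}} (b : Xt ⟶ X) [IsAffineHom b] (j : D ⟶ X) [IsClosedImmersion j]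
  (hA : ∀ U : X.affineOpens, AffBl' (b.app U.1).hom (RingHom.ker (j.app U.1).hom))

include hA in
theorem lift_unique {Z : Scheme.{u}} (H H' : Z ⟶ Xt) (e : H ≫ b = H' ≫ b)
    (hc : BlowUp.IsEffCartierIdeal (j.ker.comap (H ≫ b))) : H = H' := by
  refine Scheme.hom_ext_of_forall _ _ fun z => ?_
  obtain ⟨_, ⟨U, hU, rfl⟩, hzU, -⟩ := X.isBasis_affineOpens.exists_subset_of_mem_open
      (Set.mem_univ ((H ≫ b) z)) isOpen_univ
  refine ⟨(H ≫ b) ⁻¹ᵁ U, hzU, ?_⟩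
  have e₁ : (H ≫ b) ⁻¹ᵁ U ≤ H ⁻¹ᵁ (b ⁻¹ᵁ U) := le_rfl
  have e₂ : (H ≫ b) ⁻¹ᵁ U ≤ H' ⁻¹ᵁ (b ⁻¹ᵁ U) := by rw [e]; exact le_rfl
  rw [ι_comp_eq H (hU.preimage b) _ e₁, ι_comp_eq H' (hU.preimage b) _ e₂]
  have h1 := ringHomW_unique b j (H ≫ b) hc ⟨U, hU⟩ (hA ⟨U, hU⟩) _ le_rfl
    (H.appLE (b ⁻¹ᵁ U) _ e₁).hom (by
      rw [← CommRingCat.hom_comp, ← Scheme.Hom.comp_appLE])
  have h2 := ringHomW_unique b j (H ≫ b) hc ⟨U, hU⟩ (hA ⟨U, hU⟩) _ le_rfl
    (H'.appLE (b ⁻¹ᵁ U) _ e₂).hom (by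
      rw [← CommRingCat.hom_comp, ← Scheme.Hom.comp_appLE]
      exact congrArg CommRingCat.Hom.hom (appLE_congr e.symm U _ _ _))
  have h3 : H.appLE (b ⁻¹ᵁ U) _ e₁ = H'.appLE (b ⁻¹ᵁ U) _ e₂ :=
    CommRingCat.hom_ext (h1.trans h2.symm)
  rw [h3]

/-- the local lift over an affine open of `X` -/
noncomputable def liftU {Y : Scheme.{u}} (g : Y ⟶ X)
    (hc : BlowUp.IsEffCartierIdeal (j.ker.comap g)) (U : X.affineOpens) :
    (g ⁻¹ᵁ U.1).toScheme ⟶ Xt :=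
  (g ⁻¹ᵁ U.1).toSpecΓ ≫
    Spec.map (CommRingCat.ofHom (ringHomW b j g hc U (hA U) (g ⁻¹ᵁ U.1) le_rfl)) ≫
    (U.2.preimage b).fromSpec

theorem liftU_comp {Y : Scheme.{u}} (g : Y ⟶ X)
    (hc : BlowUp.IsEffCartierIdeal (j.ker.comap g)) (U : X.affineOpens) :
    liftU b j hA g hc U ≫ b = (g ⁻¹ᵁ U.1).ι ≫ g := by
  have key : b.appLE U.1 (b ⁻¹ᵁ U.1) le_rfl ≫
      CommRingCat.ofHom (ringHomW b j g hc U (hA U) (g ⁻¹ᵁ U.1) le_rfl) =
      g.appLE U.1 (g ⁻¹ᵁ U.1) le_rfl := by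
    apply CommRingCat.hom_ext
    rw [CommRingCat.hom_comp, CommRingCat.hom_ofHom, ← Scheme.Hom.app_eq_appLE, ringHomW_comp]
  rw [liftU, Category.assoc, Category.assoc,
    ← IsAffineOpen.SpecMap_appLE_fromSpec b U.2 (U.2.preimage b) le_rfl, ← Spec.map_comp_assoc,
    ι_comp_eq g U.2 _ le_rfl, key]

include hA in
theorem exists_lift {Y : Scheme.{u}} (g : Y ⟶ X)
    (hc : BlowUp.IsEffCartierIdeal (j.ker.comap g)) : ∃ H : Y ⟶ Xt, H ≫ b = g := by
  have hcov : IsOpenCover (fun U : X.affineOpens => g ⁻¹ᵁ U.1) := by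
    refine top_le_iff.mp fun y _ => ?_
    obtain ⟨_, ⟨U, hU, rfl⟩, hyU, -⟩ := X.isBasis_affineOpens.exists_subset_of_mem_open
      (Set.mem_univ (g y)) isOpen_univ
    rw [Opens.mem_iSup]
    exact ⟨⟨U, hU⟩, hyU⟩
  obtain ⟨𝒰, h𝒰⟩ : ∃ 𝒰 : Y.OpenCover, 𝒰 = Y.openCoverOfIsOpenCover _ hcov := ⟨_, rfl⟩
  have key : ∀ U U' : X.affineOpens,
      pullback.fst (g ⁻¹ᵁ U.1).ι (g ⁻¹ᵁ U'.1).ι ≫ liftU b j hA g hc U =
        pullback.snd (g ⁻¹ᵁ U.1).ι (g ⁻¹ᵁ U'.1).ι ≫ liftU b j hA g hc U' := by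
    intro U U'
    apply lift_unique b j hA
    · rw [Category.assoc, Category.assoc, liftU_comp, liftU_comp, ← Category.assoc,
        ← Category.assoc, pullback.condition]
    · rw [Category.assoc, liftU_comp, ← Category.assoc, Scheme.IdealSheafData.comap_comp]
      exact comap_of_flat' _ _ hc
  subst h𝒰
  refine ⟨(Y.openCoverOfIsOpenCover _ hcov).glueMorphisms (fun U => liftU b j hA g hc U) key, ?_⟩
  apply (Y.openCoverOfIsOpenCover _ hcov).hom_ext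
  intro U
  rw [← Category.assoc, Scheme.Cover.ι_glueMorphisms]
  exact liftU_comp b j hA g hc U

end Lift

section Main

variable {Xt Dt D X : Scheme.{u}} (ι : Dt ⟶ Xt) [IsClosedImmersion ι] (h : Dt ⟶ D) [Flat h]
  [Surjective h] (b : Xt ⟶ X) [IsAffineHom b] (j : D ⟶ X) [IsClosedImmersion j]
  (hQ : IsPushout (G.map ι) (G.map h) (G.map b) (G.map j))

include hQ in
theorem comap_ker : j.ker.comap b = ι.ker := by
  refine Scheme.IdealSheafData.ext_of_iSup_eq_top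
    (fun U : X.affineOpens => (⟨b ⁻¹ᵁ U.1, U.2.preimage b⟩ : Xt.affineOpens)) ?_ fun U => ?_
  · refine top_le_iff.mp fun y _ => ?_
    obtain ⟨_, ⟨U, hU, rfl⟩, hyU, -⟩ := X.isBasis_affineOpens.exists_subset_of_mem_open
      (Set.mem_univ (b y)) isOpen_univ
    rw [Opens.mem_iSup]
    exact ⟨⟨U, hU⟩, hyU⟩
  · rw [Groth.Agent.Lib.ComapIdeal_helper4.comap_ideal_eq b j.ker U ⟨b ⁻¹ᵁ U.1, U.2.preimage b⟩
      le_rfl, Scheme.Hom.ker_apply, Scheme.Hom.ker_apply, ← Scheme.Hom.app_eq_appLE]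
    exact map_ker (fibSq_sch' ι h b j hQ U.1)

include hQ in
theorem isBlowUp (hι : BlowUp.IsEffCartierIdeal ι.ker) : BlowUp.IsBlowUp b j.ker := by
  have hA := fun U : X.affineOpens => affBl ι h b j hQ U.1
  refine ⟨by rw [comap_ker ι h b j hQ]; exact hι, fun Y g hc => ?_⟩
  obtain ⟨H, hH⟩ := exists_lift b j hA g hc
  refine ⟨H, hH, fun H' hH' => ?_⟩
  have hH'' : H' ≫ b = g := hH'
  exact (lift_unique b j hA H H' (hH.trans hH''.symm) (by rw [hH]; exact hc)).symm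

omit [IsAffineHom b] [IsClosedImmersion j] [Flat h] [Surjective h] in
theorem flat_pow_source {S : Scheme.{u}} (r : Xt ⟶ S) [Flat r] [Flat (ι ≫ r)]
    (hι : BlowUp.IsEffCartierIdeal ι.ker) (n : ℕ) (hn : 1 ≤ n) :
    Flat ((ι.ker ^ n).subschemeι ≫ r) := by
  have hK : Flat (ι.ker.subschemeι ≫ r) := by
    have : ι.ker.subschemeι ≫ r = inv ι.toImage ≫ ι ≫ r := by
      rw [IsIso.eq_inv_comp, ← Category.assoc, Scheme.Hom.toImage_imageι]
    rw [this]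
    infer_instance
  refine Groth.Agent.Lib.CartierFlat.flat_of_forall_exists (ι.ker ^ n) r fun x => ?_
  obtain ⟨U₀, hxU₀, hU₀⟩ := Groth.Agent.Lib.CartierFlat.exists_affine_principal _ hι x
  obtain ⟨_, ⟨V, hV, rfl⟩, hxV, -⟩ := S.isBasis_affineOpens.exists_subset_of_mem_open
      (Set.mem_univ (r x)) isOpen_univ
  obtain ⟨W, hxW, hWle⟩ := Groth.Agent.Lib.CartierFlat.exists_affine_le x (U₀.1 ⊓ r ⁻¹ᵁ V)
    ⟨hxU₀, hxV⟩
  obtain ⟨t, ht, hI⟩ := hU₀ W (hWle.trans inf_le_left)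
  refine ⟨⟨V, hV⟩, W, hxW, hWle.trans inf_le_right, ?_⟩
  have h1 := Groth.Agent.Lib.CartierFlat.flat_quot_of_flat ι.ker r hK ⟨V, hV⟩ W
    (hWle.trans inf_le_right)
  rw [hI] at h1
  have hpow : (ι.ker ^ n).ideal W = Ideal.span {t} ^ n := by
    rw [Scheme.IdealSheafData.ideal_pow, Pi.pow_apply, hI]
  rw [hpow]
  induction n, hn using Nat.le_induction with
  | base => rw [pow_one]; exact h1
  | succ n hn ih =>
    rw [pow_succ']
    exact Groth.Agent.Lib.CartierFlat.flat_quot_mul _ t ht _ h1 (ih (by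
      rw [Scheme.IdealSheafData.ideal_pow, Pi.pow_apply, hI]))

include hQ in
theorem flat_pow {S : Scheme.{u}} (sX : X ⟶ S) [Flat (b ≫ sX)] [Flat (j ≫ sX)]
    [Flat (ι ≫ b ≫ sX)] (hι : BlowUp.IsEffCartierIdeal ι.ker) (n : ℕ) (hn : 1 ≤ n) :
    Flat ((j.ker ^ n).subschemeι ≫ sX) := by
  have hF2 := flat_pow_source ι (b ≫ sX) hι n hn
  refine Groth.Agent.Lib.CartierFlat.flat_of_forall_exists (j.ker ^ n) sX fun x => ?_
  obtain ⟨_, ⟨V, hV, rfl⟩, hxV, -⟩ := S.isBasis_affineOpens.exists_subset_of_mem_open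
      (Set.mem_univ (sX x)) isOpen_univ
  obtain ⟨U, hxU, hUle⟩ := Groth.Agent.Lib.CartierFlat.exists_affine_le x (sX ⁻¹ᵁ V) hxV
  refine ⟨⟨V, hV⟩, U, hxU, hUle, ?_⟩
  have hpow : (j.ker ^ n).ideal U = RingHom.ker (j.app U.1).hom ^ n := by
    rw [Scheme.IdealSheafData.ideal_pow, Pi.pow_apply, Scheme.Hom.ker_apply]
  rw [hpow]
  have sq := fibSq_sch' ι h b j hQ U.1
  have hXa : IsAffineOpen (b ⁻¹ᵁ U.1) := U.2.preimage b
  have hDa : IsAffineOpen (j ⁻¹ᵁ U.1) := U.2.preimage j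
  have hDta : IsAffineOpen (ι ⁻¹ᵁ (b ⁻¹ᵁ U.1)) := hXa.preimage ι
  refine flat_quot_pow sq (Scheme.Hom.app_surjective ι _ hXa) (appLE_injective_h ι h b j hQ U.1)
    n hn (sX.appLE V U.1 hUle).hom ?_ ?_ ?_
  · rw [← CommRingCat.hom_comp, Scheme.Hom.app_eq_appLE, Scheme.Hom.appLE_comp_appLE]
    exact HasRingHomProperty.appLE (P := @Flat) (j ≫ sX) inferInstance ⟨V, hV⟩ ⟨_, hDa⟩ _
  · have h2 := Groth.Agent.Lib.CartierFlat.flat_quot_of_flat (ι.ker ^ n) (b ≫ sX) hF2 ⟨V, hV⟩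
      ⟨_, hXa⟩ (fun z hz => hUle hz)
    rw [Scheme.IdealSheafData.ideal_pow, Pi.pow_apply, Scheme.Hom.ker_apply] at h2
    have h3 : sX.appLE V U.1 hUle ≫ b.app U.1 =
        (b ≫ sX).appLE V (b ⁻¹ᵁ U.1) (fun z hz => hUle hz) := by
      rw [Scheme.Hom.app_eq_appLE, Scheme.Hom.appLE_comp_appLE]
    rw [← CommRingCat.hom_comp, h3]
    exact h2
  · have hcomm : (h.appLE (j ⁻¹ᵁ U.1) (ι ⁻¹ᵁ (b ⁻¹ᵁ U.1)) (eqZ' ι h b j hQ U.1).le).hom.comp
        (j.app U.1).hom = (ι.app (b ⁻¹ᵁ U.1)).hom.comp (b.app U.1).hom := by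
      ext a; exact sq.comm a
    rw [← RingHom.comp_assoc, hcomm, RingHom.comp_assoc, ← CommRingCat.hom_comp,
      ← CommRingCat.hom_comp, Scheme.Hom.app_eq_appLE, Scheme.Hom.app_eq_appLE,
      Scheme.Hom.appLE_comp_appLE, Scheme.Hom.appLE_comp_appLE]
    exact HasRingHomProperty.appLE (P := @Flat) (ι ≫ b ≫ sX) inferInstance ⟨V, hV⟩ ⟨_, hDta⟩ _

end Main

end Groth.Agent.BlowUpPinch
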