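import Mathlib
import Groth.Prelude.Def_W4c1nerontoraddGraph

/-! Cartier functions decompose along edge-label classes when circuits are monochromatic (helper1). -/

set_option autoImplicit false
universe u v

namespace Groth.Agent.Lib.CartierLab_helper1
open LabGraph

variable {V E : Type u} [Fintype V] [Fintype E] [DecidableEq V] [DecidableEq E]
variable (ends : E → V × V)

/-- contribution of one edge to the end count. -/
def ec (e : E) (v : V) : ℕ :=
  (if (ends e).1 = v then 1 else 0) + (if (ends e).2 = v then 1 else 0)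

theorem endCount_eq (C : Finset E) (v : V) : endCount ends C v = ∑ e ∈ C, ec ends e v := rfl

theorem endCount_insert {C : Finset E} {e : E} (h : e ∉ C) (v : V) :
    endCount ends (insert e C) v = ec ends e v + endCount ends C v := by
  rw [endCount_eq, Finset.sum_insert h]; rfl

theorem endCount_erase {C : Finset E} {e : E} (h : e ∈ C) (v : V) :
    ec ends e v + endCount ends (C.erase e) v = endCount ends C v := by
  rw [endCount_eq, endCount_eq]; exact Finset.add_sum_erase C (fun e => ec ends e v) h

theorem endCount_sdiff {C C' : Finset E} (h : C' ⊆ C) (v : V) :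
    endCount ends (C \ C') v + endCount ends C' v = endCount ends C v := by
  rw [endCount_eq, endCount_eq, endCount_eq]; exact Finset.sum_sdiff h

/-- adjacency through an edge of `S`. -/
def adjS (S : Finset E) (v w : V) : Prop := ∃ e ∈ S, ends e = (v, w) ∨ ends e = (w, v)

theorem path_even (S : Finset E) (x y : V) (h : Relation.ReflTransGen (adjS ends S) x y) :
    ∃ P : Finset E, P ⊆ S ∧ ∀ v : V, Even (endCount ends P v + (if x = v then 1 else 0)
      + (if y = v then 1 else 0)) := by
  induction h with
  | refl =>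
    refine ⟨∅, Finset.empty_subset _, fun v => ?_⟩
    have : endCount ends ∅ v = 0 := by rw [endCount_eq, Finset.sum_empty]
    rw [this, Nat.even_iff]; omega
  | tail hxz hzy ih =>
    rename_i z y
    obtain ⟨P, hPS, hP⟩ := ih
    obtain ⟨e', he'S, he'⟩ := hzy
    have hec : ∀ v, ec ends e' v = (if z = v then 1 else 0) + (if y = v then 1 else 0) := by
      intro v
      rcases he' with h | h
      · unfold ec; rw [h]
      · unfold ec; rw [h]; exact add_comm _ _
    by_cases hmem : e' ∈ P
    · refine ⟨P.erase e', (Finset.erase_subset _ _).trans hPS, fun v => ?_⟩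
      have h1 := endCount_erase ends hmem v
      have h2 := hec v
      have h3 := hP v
      rw [Nat.even_iff] at h3 ⊢
      omega
    · refine ⟨insert e' P, Finset.insert_subset he'S hPS, fun v => ?_⟩
      have h1 := endCount_insert ends hmem v
      have h2 := hec v
      have h3 := hP v
      rw [Nat.even_iff] at h3 ⊢
      omega

/-- every even edge set containing `e0` contains a circuit through `e0`. -/
theorem exists_circuit (e0 : E) : ∀ (D0 : Finset E), e0 ∈ D0 →
    (∀ v, Even (endCount ends D0 v)) → ∃ C : Finset E, C ⊆ D0 ∧ e0 ∈ C ∧ IsCircuit ends C := by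
  intro D0
  induction D0 using Finset.strongInduction with
  | _ D0 ih =>
    intro he0 hev
    by_cases hmin : ∃ D' : Finset E, D' ⊂ D0 ∧ e0 ∈ D' ∧ ∀ v, Even (endCount ends D' v)
    · obtain ⟨D', hD', he0', hev'⟩ := hmin
      obtain ⟨C, hC, h1, h2⟩ := ih D' hD' he0' hev'
      exact ⟨C, hC.trans hD'.subset, h1, h2⟩
    · push Not at hmin
      refine ⟨D0, Finset.Subset.refl _, he0, ⟨e0, he0⟩, hev, ?_⟩
      intro C' hC' hne
      by_contra hall
      push Not at hall
      by_cases hmem : e0 ∈ C'
      · obtain ⟨v, hv⟩ := hmin C' hC' hmem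
        exact hv (hall v)
      · have hsd : D0 \ C' ⊂ D0 := by
          refine ⟨Finset.sdiff_subset, ?_⟩
          intro hsub
          obtain ⟨a, ha⟩ := hne
          have := hsub (hC'.subset ha)
          rw [Finset.mem_sdiff] at this
          exact this.2 ha
        obtain ⟨v, hv⟩ := hmin (D0 \ C') hsd (Finset.mem_sdiff.mpr ⟨he0, hmem⟩)
        apply hv
        have h1 := endCount_sdiff ends hC'.subset v
        have h2 := hev v
        have h3 := hall v
        rw [Nat.even_iff] at h2 h3 ⊢
        omega

/-- an even set cannot cross a cut in exactly one edge. -/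
theorem even_cut (C : Finset E) (hC : ∀ v, Even (endCount ends C v)) (e0 : E) (he0 : e0 ∈ C)
    (A : V → Prop) [DecidablePred A]
    (hA : ∀ e ∈ C, e ≠ e0 → (A (ends e).1 ↔ A (ends e).2)) :
    A (ends e0).1 ↔ A (ends e0).2 := by
  have h1 : Even (∑ v ∈ Finset.univ.filter A, endCount ends C v) :=
    Finset.even_sum _ (fun v _ => hC v)
  have h2 : ∀ e : E, ∑ v ∈ Finset.univ.filter A, ec ends e v
      = (if A (ends e).1 then 1 else 0) + (if A (ends e).2 then 1 else 0) := by
    intro e
    unfold ec
    rw [Finset.sum_add_distrib, Finset.sum_ite_eq, Finset.sum_ite_eq]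
    simp only [Finset.mem_filter, Finset.mem_univ, true_and]
  have h3 : ∑ v ∈ Finset.univ.filter A, endCount ends C v
      = ∑ e ∈ C, ((if A (ends e).1 then 1 else 0) + (if A (ends e).2 then 1 else 0)) := by
    simp only [endCount_eq]
    rw [Finset.sum_comm]
    exact Finset.sum_congr rfl (fun e _ => h2 e)
  rw [h3, ← Finset.add_sum_erase C _ he0] at h1
  have h4 : Even (∑ e ∈ C.erase e0,
      ((if A (ends e).1 then 1 else 0) + (if A (ends e).2 then 1 else 0) : ℕ)) := by
    apply Finset.even_sum
    intro e he
    rw [Finset.mem_erase] at he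
    have := hA e he.2 he.1
    by_cases ha : A (ends e).1
    · rw [if_pos ha, if_pos (this.mp ha)]; exact ⟨1, rfl⟩
    · rw [if_neg ha, if_neg (fun h => ha (this.mpr h))]; exact ⟨0, rfl⟩
  have h5 : Even ((if A (ends e0).1 then 1 else 0) + (if A (ends e0).2 then 1 else 0) : ℕ) := by
    rw [Nat.even_iff] at h1 h4 ⊢
    omega
  by_cases ha : A (ends e0).1 <;> by_cases hb : A (ends e0).2
  · exact ⟨fun _ => hb, fun _ => ha⟩
  · rw [if_pos ha, if_neg hb] at h5; exact absurd h5 (by decide)
  · rw [if_neg ha, if_pos hb] at h5; exact absurd h5 (by decide)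
  · exact ⟨fun h => absurd h ha, fun h => absurd h hb⟩

section decomp
variable {L : Type v} (lab : E → L) (n : E → ℕ)

open Classical in
/-- the difference across `e0` of the `λ0`-component. -/
theorem lam0_diff (Λ : Finset L) (lam0 : L) (h0 : lam0 ∈ Λ) (f c : V → ℤ) (g : L → V → ℤ)
    (hsum : ∀ v, f v = c v + ∑ μ ∈ Λ, g μ v) (x y : V) (hc : c x = c y)
    (hg : ∀ μ, μ ≠ lam0 → g μ x = g μ y) :
    g lam0 x - g lam0 y = f x - f y := by
  have hx := hsum x
  have hy := hsum y
  rw [← Finset.add_sum_erase Λ _ h0] at hx hy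
  have : ∑ μ ∈ Λ.erase lam0, g μ x = ∑ μ ∈ Λ.erase lam0, g μ y :=
    Finset.sum_congr rfl (fun μ hμ => hg μ (Finset.ne_of_mem_erase hμ))
  rw [this] at hx
  linarith

open Classical in
theorem decomp (S : Finset E) :
    (∀ C : Finset E, C ⊆ S → IsCircuit ends C → ∀ e ∈ C, ∀ e' ∈ C, lab e = lab e') →
    ∀ f : V → ℤ, (∀ e ∈ S, (n e : ℤ) ∣ f (ends e).1 - f (ends e).2) →
    ∃ (c : V → ℤ) (g : L → V → ℤ), (∀ e ∈ S, c (ends e).1 = c (ends e).2) ∧
      (∀ μ, ∀ e ∈ S, (n e : ℤ) ∣ g μ (ends e).1 - g μ (ends e).2) ∧
      (∀ μ, ∀ e ∈ S, lab e ≠ μ → g μ (ends e).1 = g μ (ends e).2) ∧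
      (∀ v, f v = c v + ∑ μ ∈ Finset.univ.image lab, g μ v) := by
  induction S using Finset.induction_on with
  | empty =>
    intro _ f _
    refine ⟨f, fun _ _ => 0, fun e he => absurd he (Finset.notMem_empty e),
      fun _ e he => absurd he (Finset.notMem_empty e),
      fun _ e he => absurd he (Finset.notMem_empty e), fun v => by simp⟩
  | insert e0 S' he0 ih =>
    intro hcirc f hf
    obtain ⟨c', g', hc', hg'1, hg'2, hsum'⟩ :=
      ih (fun C hC => hcirc C (hC.trans (Finset.subset_insert _ _))) f
        (fun e he => hf e (Finset.mem_insert_of_mem he))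
    obtain ⟨x, hx⟩ : ∃ x, x = (ends e0).1 := ⟨_, rfl⟩
    obtain ⟨y, hy⟩ : ∃ y, y = (ends e0).2 := ⟨_, rfl⟩
    obtain ⟨lam0, hlam0⟩ : ∃ lam0, lam0 = lab e0 := ⟨_, rfl⟩
    have hlamΛ : lam0 ∈ Finset.univ.image lab := by
      rw [hlam0]; exact Finset.mem_image_of_mem _ (Finset.mem_univ _)
    have hfe0 : (n e0 : ℤ) ∣ f x - f y := by
      rw [hx, hy]; exact hf e0 (Finset.mem_insert_self _ _)
    -- common conclusion
    have finish : ∀ (c : V → ℤ) (g : L → V → ℤ), (∀ e ∈ S', c (ends e).1 = c (ends e).2) →
        (∀ μ, ∀ e ∈ S', (n e : ℤ) ∣ g μ (ends e).1 - g μ (ends e).2) →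
        (∀ μ, ∀ e ∈ S', lab e ≠ μ → g μ (ends e).1 = g μ (ends e).2) →
        (∀ v, f v = c v + ∑ μ ∈ Finset.univ.image lab, g μ v) →
        c x = c y → (∀ μ, μ ≠ lam0 → g μ x = g μ y) →
        ∃ (c : V → ℤ) (g : L → V → ℤ), (∀ e ∈ insert e0 S', c (ends e).1 = c (ends e).2) ∧
          (∀ μ, ∀ e ∈ insert e0 S', (n e : ℤ) ∣ g μ (ends e).1 - g μ (ends e).2) ∧
          (∀ μ, ∀ e ∈ insert e0 S', lab e ≠ μ → g μ (ends e).1 = g μ (ends e).2) ∧
          (∀ v, f v = c v + ∑ μ ∈ Finset.univ.image lab, g μ v) := by
      intro c g h1 h2 h3 h4 h5 h6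
      refine ⟨c, g, ?_, ?_, ?_, h4⟩
      · intro e he
        rcases Finset.mem_insert.mp he with rfl | he
        · rw [← hx, ← hy]; exact h5
        · exact h1 e he
      · intro μ e he
        rcases Finset.mem_insert.mp he with rfl | he
        · rw [← hx, ← hy]
          by_cases hμ : μ = lam0
          · rw [hμ, lam0_diff (Finset.univ.image lab) lam0 hlamΛ f c g h4 x y h5 h6]
            exact hfe0
          · rw [h6 μ hμ, sub_self]; exact dvd_zero _
        · exact h2 μ e he
      · intro μ e he hne
        rcases Finset.mem_insert.mp he with rfl | he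
        · rw [← hx, ← hy]
          exact h6 μ (fun h => hne (by rw [h, hlam0]))
        · exact h3 μ e he hne
    by_cases hxy : Relation.ReflTransGen (adjS ends S') x y
    · -- a circuit through e0
      obtain ⟨P, hPS, hP⟩ := path_even ends S' x y hxy
      have he0P : e0 ∉ P := fun h => he0 (hPS h)
      have hD0 : ∀ v, Even (endCount ends (insert e0 P) v) := by
        intro v
        rw [endCount_insert ends he0P]
        have h1 := hP v
        have h2 : ec ends e0 v = (if x = v then 1 else 0) + (if y = v then 1 else 0) := by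
          unfold ec; rw [hx, hy]
        rw [Nat.even_iff] at h1 ⊢
        omega
      obtain ⟨C, hCD, he0C, hCirc⟩ :=
        exists_circuit ends e0 (insert e0 P) (Finset.mem_insert_self _ _) hD0
      have hCS : C ⊆ insert e0 S' := hCD.trans (Finset.insert_subset_insert _ hPS)
      have hmono := hcirc C hCS hCirc
      have hconst : ∀ u : V → ℤ, (∀ e ∈ S', lab e = lam0 → u (ends e).1 = u (ends e).2) →
          u x = u y := by
        intro u hu
        have := even_cut ends C hCirc.2.1 e0 he0C (fun v => u v = u x) (by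
          intro e he hne
          have heP : e ∈ P := by
            rcases Finset.mem_insert.mp (hCD he) with h | h
            · exact absurd h hne
            · exact h
          have : u (ends e).1 = u (ends e).2 :=
            hu e (hPS heP) (by rw [hlam0]; exact hmono e he e0 he0C)
          show u (ends e).1 = u x ↔ u (ends e).2 = u x
          rw [this])
        rw [← hx, ← hy] at this
        exact (this.mp rfl).symm
      apply finish c' g' hc' hg'1 hg'2 hsum'
      · exact hconst c' (fun e he _ => hc' e he)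
      · intro μ hμ
        exact hconst (g' μ) (fun e he hl => hg'2 μ e he (by rw [hl]; exact fun h => hμ h.symm))
    · -- e0 is a bridge of insert e0 S'
      obtain ⟨ind, hind⟩ : ∃ ind : V → ℤ,
          ind = fun v => if Relation.ReflTransGen (adjS ends S') x v then 1 else 0 := ⟨_, rfl⟩
      have hindx : ind x = 1 := by rw [hind]; simp [Relation.ReflTransGen.refl]
      have hindy : ind y = 0 := by rw [hind]; simp [hxy]
      have hinde : ∀ e ∈ S', ind (ends e).1 = ind (ends e).2 := by
        intro e he
        have h1 : Relation.ReflTransGen (adjS ends S') x (ends e).1 ↔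
            Relation.ReflTransGen (adjS ends S') x (ends e).2 := by
          constructor
          · intro h; exact h.tail ⟨e, he, Or.inl rfl⟩
          · intro h; exact h.tail ⟨e, he, Or.inr rfl⟩
        rw [hind]
        show (if _ then (1 : ℤ) else 0) = (if _ then (1 : ℤ) else 0)
        by_cases h : Relation.ReflTransGen (adjS ends S') x (ends e).1
        · rw [if_pos h, if_pos (h1.mp h)]
        · rw [if_neg h, if_neg (fun h' => h (h1.mpr h'))]
      obtain ⟨kc, hkc⟩ : ∃ kc : ℤ, kc = c' y - c' x := ⟨_, rfl⟩
      obtain ⟨k, hk⟩ : ∃ k : L → ℤ, k = fun μ =>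
          if μ = lam0 then -(kc + ∑ ν ∈ (Finset.univ.image lab).erase lam0, (g' ν y - g' ν x))
          else g' μ y - g' μ x := ⟨_, rfl⟩
      have hksum : kc + ∑ μ ∈ Finset.univ.image lab, k μ = 0 := by
        rw [← Finset.add_sum_erase _ _ hlamΛ]
        have h1 : k lam0 = -(kc + ∑ ν ∈ (Finset.univ.image lab).erase lam0, (g' ν y - g' ν x)) := by
          rw [hk]; simp
        have h2 : ∑ μ ∈ (Finset.univ.image lab).erase lam0, k μ
            = ∑ ν ∈ (Finset.univ.image lab).erase lam0, (g' ν y - g' ν x) := by
          apply Finset.sum_congr rfl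
          intro μ hμ
          rw [hk]
          simp [Finset.ne_of_mem_erase hμ]
        rw [h1, h2]; ring
      apply finish (fun v => c' v + kc * ind v) (fun μ v => g' μ v + k μ * ind v)
      · intro e he
        show c' (ends e).1 + kc * ind (ends e).1 = c' (ends e).2 + kc * ind (ends e).2
        rw [hc' e he, hinde e he]
      · intro μ e he
        show (n e : ℤ) ∣ (g' μ (ends e).1 + k μ * ind (ends e).1)
          - (g' μ (ends e).2 + k μ * ind (ends e).2)
        rw [hinde e he]
        have : g' μ (ends e).1 + k μ * ind (ends e).2 - (g' μ (ends e).2 + k μ * ind (ends e).2)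
            = g' μ (ends e).1 - g' μ (ends e).2 := by ring
        rw [this]; exact hg'1 μ e he
      · intro μ e he hne
        show g' μ (ends e).1 + k μ * ind (ends e).1 = g' μ (ends e).2 + k μ * ind (ends e).2
        rw [hg'2 μ e he hne, hinde e he]
      · intro v
        show f v = c' v + kc * ind v + ∑ μ ∈ Finset.univ.image lab, (g' μ v + k μ * ind v)
        rw [Finset.sum_add_distrib, ← Finset.sum_mul, hsum' v]
        linear_combination (-(ind v)) * hksum
      · show c' x + kc * ind x = c' y + kc * ind y
        rw [hindx, hindy, hkc]; ring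
      · intro μ hμ
        show g' μ x + k μ * ind x = g' μ y + k μ * ind y
        rw [hindx, hindy, hk]
        simp only [if_neg hμ]; ring

open Classical in
/-- S17724. -/
theorem main (hconn : LabGraph.Connected ends)
    (hcirc : ∀ C : Finset E, IsCircuit ends C → ∀ e ∈ C, ∀ e' ∈ C, lab e = lab e')
    (f : V → ℤ) (hf : IsCartier ends n f) :
    f ∈ AddSubmonoid.closure {g : V → ℤ | IsCartier ends n g ∧ (∃ B : Finset E,
      (∀ e ∈ B, ∀ e' ∈ B, lab e = lab e') ∧ ∀ e, e ∉ B → g (ends e).1 = g (ends e).2)} ∧
    ∀ v₀ : V, f v₀ = 0 →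
      f ∈ AddSubmonoid.closure {g : V → ℤ | IsCartier ends n g ∧ (∃ B : Finset E,
        (∀ e ∈ B, ∀ e' ∈ B, lab e = lab e') ∧ ∀ e, e ∉ B → g (ends e).1 = g (ends e).2) ∧
        g v₀ = 0} := by
  obtain ⟨c, g, hc, hg1, hg2, hsum⟩ := decomp ends lab n Finset.univ
    (fun C _ => hcirc C) f (fun e _ => hf e)
  -- c is constant
  have hcconst : ∀ v w, c v = c w := by
    intro v w
    have h := hconn.2 v w
    induction h with
    | refl => rfl
    | tail _ hzw ih =>
      obtain ⟨e, he | he⟩ := hzw
      · have := hc e (Finset.mem_univ _); rw [he] at this; exact ih.trans this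
      · have := hc e (Finset.mem_univ _); rw [he] at this; exact ih.trans this.symm
  have hfun : f = c + ∑ μ ∈ Finset.univ.image lab, g μ := by
    funext v; rw [hsum v]; simp [Finset.sum_apply]
  constructor
  · rw [hfun]
    apply add_mem
    · apply AddSubmonoid.subset_closure
      refine ⟨fun e => ?_, ∅, fun e he => absurd he (Finset.notMem_empty e), fun e _ => ?_⟩
      · rw [hc e (Finset.mem_univ _), sub_self]; exact dvd_zero _
      · exact hc e (Finset.mem_univ _)
    · apply AddSubmonoid.sum_mem
      intro μ _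
      apply AddSubmonoid.subset_closure
      refine ⟨fun e => hg1 μ e (Finset.mem_univ _), Finset.univ.filter (fun e => lab e = μ), ?_, ?_⟩
      · intro e he e' he'
        rw [(Finset.mem_filter.mp he).2, (Finset.mem_filter.mp he').2]
      · intro e he
        exact hg2 μ e (Finset.mem_univ _) (fun h => he (Finset.mem_filter.mpr ⟨Finset.mem_univ _, h⟩))
  · intro v₀ hv₀
    have hfun' : f = ∑ μ ∈ Finset.univ.image lab, (fun v => g μ v - g μ v₀) := by
      funext v
      rw [Finset.sum_apply, Finset.sum_sub_distrib]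
      have h1 := hsum v
      have h2 := hsum v₀
      have h3 := hcconst v v₀
      rw [hv₀] at h2
      linarith
    rw [hfun']
    apply AddSubmonoid.sum_mem
    intro μ _
    apply AddSubmonoid.subset_closure
    refine ⟨fun e => ?_, ⟨Finset.univ.filter (fun e => lab e = μ), ?_, ?_⟩, ?_⟩
    · have := hg1 μ e (Finset.mem_univ _)
      show (n e : ℤ) ∣ (g μ (ends e).1 - g μ v₀) - (g μ (ends e).2 - g μ v₀)
      have h : (g μ (ends e).1 - g μ v₀) - (g μ (ends e).2 - g μ v₀)
          = g μ (ends e).1 - g μ (ends e).2 := by ring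
      rw [h]; exact this
    · intro e he e' he'
      rw [(Finset.mem_filter.mp he).2, (Finset.mem_filter.mp he').2]
    · intro e he
      show g μ (ends e).1 - g μ v₀ = g μ (ends e).2 - g μ v₀
      rw [hg2 μ e (Finset.mem_univ _)
        (fun h => he (Finset.mem_filter.mpr ⟨Finset.mem_univ _, h⟩))]
    · show g μ v₀ - g μ v₀ = 0
      exact sub_self _

end decomp

end Groth.Agent.Lib.CartierLab_helper1
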