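import Mathlib
import Groth.Agent.Lib.CartierLab_helper1

/-! Circuit-coprime labelled graphs and orthogonality to integer cycles (helper1). -/

set_option autoImplicit false
universe u

namespace Groth.Agent.Lib.CircuitCoprime_helper1
open LabGraph Groth.Agent.Lib.CartierLab_helper1

variable {V E : Type u} [Fintype V] [Fintype E] [DecidableEq V] [DecidableEq E]
variable (ends : E → V × V)

theorem boundary_add (γ γ' : E → ℤ) (v : V) :
    boundary ends (γ + γ') v = boundary ends γ v + boundary ends γ' v := by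
  unfold boundary
  rw [← Finset.sum_add_distrib]
  apply Finset.sum_congr rfl
  intro e _
  simp only [Pi.add_apply]
  split_ifs <;> ring

theorem boundary_single (e0 : E) (s : ℤ) (v : V) :
    boundary ends (Pi.single e0 s) v
      = s * ((if (ends e0).2 = v then 1 else 0) - (if (ends e0).1 = v then 1 else 0)) := by
  unfold boundary
  rw [Finset.sum_eq_single e0]
  · simp only [Pi.single_eq_same]
    split_ifs <;> ring
  · intro e _ hne
    simp only [Pi.single_eq_of_ne hne]
    split_ifs <;> ring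
  · intro h; exact absurd (Finset.mem_univ _) h

/-- a walk inside `S` gives an integer chain with boundary `δ_b - δ_a`. -/
theorem walk_chain (S : Finset E) (a b : V) (h : Relation.ReflTransGen (adjS ends S) a b) :
    ∃ γ : E → ℤ, (∀ e, e ∉ S → γ e = 0) ∧
      ∀ v, boundary ends γ v = (if b = v then 1 else 0) - (if a = v then 1 else 0) := by
  induction h with
  | refl =>
    refine ⟨0, fun _ _ => rfl, fun v => ?_⟩
    unfold boundary
    simp
  | tail haz hzb ih =>
    rename_i z b
    obtain ⟨γ, hγS, hγ⟩ := ih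
    obtain ⟨e', he'S, he'⟩ := hzb
    rcases he' with h | h
    · refine ⟨γ + Pi.single e' 1, ?_, ?_⟩
      · intro e he
        have hne : e ≠ e' := fun h' => he (h' ▸ he'S)
        simp [hγS e he, Pi.single_eq_of_ne hne]
      · intro v
        rw [boundary_add, boundary_single, hγ v, h]
        simp only
        ring
    · refine ⟨γ + Pi.single e' (-1), ?_, ?_⟩
      · intro e he
        have hne : e ≠ e' := fun h' => he (h' ▸ he'S)
        simp [hγS e he, Pi.single_eq_of_ne hne]
      · intro v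
        rw [boundary_add, boundary_single, hγ v, h]
        simp only
        ring

/-- summation by parts: coboundaries are orthogonal to cycles. -/
theorem sum_mul_coboundary (γ : E → ℤ) (g : V → ℤ) :
    ∑ e : E, γ e * (g (ends e).2 - g (ends e).1) = ∑ v : V, g v * boundary ends γ v := by
  unfold boundary
  simp only [Finset.mul_sum]
  rw [Finset.sum_comm]
  apply Finset.sum_congr rfl
  intro e _
  have h1 : ∀ v : V, g v * ((if (ends e).2 = v then γ e else 0) - (if (ends e).1 = v then γ e else 0))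
      = (if (ends e).2 = v then g v * γ e else 0) - (if (ends e).1 = v then g v * γ e else 0) := by
    intro v; split_ifs <;> ring
  simp only [h1]
  rw [Finset.sum_sub_distrib, Finset.sum_ite_eq, Finset.sum_ite_eq]
  simp only [Finset.mem_univ, if_true]
  ring

/-- (⇐) -/
theorem coprime_of_orth (l : E → ℕ)
    (H : ∀ x : E → ℤ, ∃ y : E → ℤ, ∀ γ : E → ℤ, (∀ v : V, boundary ends γ v = 0) →
      ∑ e : E, γ e * (x e - (l e : ℤ) * y e) = 0) :
    IsCircuitCoprime ends l := by
  classical
  intro C hC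
  obtain ⟨e0, he0⟩ := hC.1
  obtain ⟨a, ha⟩ : ∃ a, a = (ends e0).1 := ⟨_, rfl⟩
  obtain ⟨b, hb⟩ : ∃ b, b = (ends e0).2 := ⟨_, rfl⟩
  have hreach : Relation.ReflTransGen (adjS ends (C.erase e0)) a b := by
    have := even_cut ends C hC.2.1 e0 he0
      (fun v => Relation.ReflTransGen (adjS ends (C.erase e0)) a v) (by
        intro e he hne
        have hmem : e ∈ C.erase e0 := Finset.mem_erase.mpr ⟨hne, he⟩
        constructor
        · intro h; exact h.tail ⟨e, hmem, Or.inl rfl⟩
        · intro h; exact h.tail ⟨e, hmem, Or.inr rfl⟩)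
    rw [← ha, ← hb] at this
    exact this.mp Relation.ReflTransGen.refl
  obtain ⟨γ0, hγ0S, hγ0⟩ := walk_chain ends (C.erase e0) a b hreach
  obtain ⟨γ, hγdef⟩ : ∃ γ : E → ℤ, γ = γ0 + Pi.single e0 (-1) := ⟨_, rfl⟩
  have hγcyc : ∀ v, boundary ends γ v = 0 := by
    intro v
    rw [hγdef, boundary_add, boundary_single, hγ0 v, ← ha, ← hb]
    ring
  have hγe0 : γ e0 = -1 := by
    rw [hγdef]
    simp [hγ0S e0 (Finset.notMem_erase e0 C)]
  have hγC : ∀ e, e ∉ C → γ e = 0 := by
    intro e he
    have hne : e ≠ e0 := fun h => he (h ▸ he0)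
    rw [hγdef]
    simp [hγ0S e (fun h => he (Finset.mem_of_mem_erase h)), Pi.single_eq_of_ne hne]
  obtain ⟨y, hy⟩ := H (Pi.single e0 1)
  have h1 := hy γ hγcyc
  have h2 : ∑ e : E, γ e * ((Pi.single e0 (1 : ℤ) : E → ℤ) e - (l e : ℤ) * y e)
      = γ e0 - ∑ e : E, γ e * ((l e : ℤ) * y e) := by
    simp only [mul_sub, Finset.sum_sub_distrib]
    congr 1
    rw [Finset.sum_eq_single e0]
    · simp
    · intro e _ hne; simp [Pi.single_eq_of_ne hne]
    · intro h; exact absurd (Finset.mem_univ _) h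
  rw [h2, hγe0] at h1
  have h3 : ((C.gcd l : ℕ) : ℤ) ∣ ∑ e : E, γ e * ((l e : ℤ) * y e) := by
    apply Finset.dvd_sum
    intro e _
    by_cases heC : e ∈ C
    · have : ((C.gcd l : ℕ) : ℤ) ∣ (l e : ℤ) := Int.natCast_dvd_natCast.mpr (Finset.gcd_dvd heC)
      exact Dvd.dvd.mul_left (Dvd.dvd.mul_right this _) _
    · rw [hγC e heC, zero_mul]; exact dvd_zero _
  have h4 : ((C.gcd l : ℕ) : ℤ) ∣ 1 := by
    have : (1 : ℤ) = -(∑ e : E, γ e * ((l e : ℤ) * y e)) := by linarith
    rw [this]; exact (dvd_neg).mpr h3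
  have h5 : C.gcd l ∣ 1 := by exact_mod_cast h4
  exact Nat.dvd_one.mp h5

/-- solvability of the difference system modulo `m`. -/
def Q (m : E → ℕ) : Prop :=
  ∀ x : E → ℤ, ∃ g : V → ℤ, ∀ e, (m e : ℤ) ∣ g (ends e).2 - g (ends e).1 - x e

theorem forest_solve (F : Finset E) :
    (∀ C : Finset E, C ⊆ F → ¬ IsCircuit ends C) →
    ∀ x : E → ℤ, ∃ g : V → ℤ, ∀ e ∈ F, g (ends e).2 - g (ends e).1 = x e := by
  classical
  induction F using Finset.induction_on with
  | empty =>
    intro _ x
    exact ⟨0, fun e he => absurd he (Finset.notMem_empty e)⟩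
  | insert e0 F' he0 ih =>
    intro hF x
    obtain ⟨g', hg'⟩ := ih (fun C hC => hF C (hC.trans (Finset.subset_insert _ _))) x
    obtain ⟨a, ha⟩ : ∃ a, a = (ends e0).1 := ⟨_, rfl⟩
    obtain ⟨b, hb⟩ : ∃ b, b = (ends e0).2 := ⟨_, rfl⟩
    have hab : ¬ Relation.ReflTransGen (adjS ends F') a b := by
      intro hreach
      obtain ⟨P, hPS, hP⟩ := path_even ends F' a b hreach
      have he0P : e0 ∉ P := fun h => he0 (hPS h)
      have hD0 : ∀ v, Even (endCount ends (insert e0 P) v) := by
        intro v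
        rw [endCount_insert ends he0P]
        have h1 := hP v
        have h2 : ec ends e0 v = (if a = v then 1 else 0) + (if b = v then 1 else 0) := by
          unfold ec; rw [ha, hb]
        rw [Nat.even_iff] at h1 ⊢
        omega
      obtain ⟨C, hCD, _, hCirc⟩ :=
        exists_circuit ends e0 (insert e0 P) (Finset.mem_insert_self _ _) hD0
      exact hF C (hCD.trans (Finset.insert_subset_insert _ hPS)) hCirc
    obtain ⟨ind, hind⟩ : ∃ ind : V → ℤ,
        ind = fun v => if Relation.ReflTransGen (adjS ends F') a v then 1 else 0 := ⟨_, rfl⟩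
    have hinda : ind a = 1 := by rw [hind]; simp [Relation.ReflTransGen.refl]
    have hindb : ind b = 0 := by rw [hind]; simp [hab]
    have hinde : ∀ e ∈ F', ind (ends e).1 = ind (ends e).2 := by
      intro e he
      have h1 : Relation.ReflTransGen (adjS ends F') a (ends e).1 ↔
          Relation.ReflTransGen (adjS ends F') a (ends e).2 := by
        constructor
        · intro h; exact h.tail ⟨e, he, Or.inl rfl⟩
        · intro h; exact h.tail ⟨e, he, Or.inr rfl⟩
      rw [hind]
      show (if _ then (1 : ℤ) else 0) = (if _ then (1 : ℤ) else 0)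
      by_cases h : Relation.ReflTransGen (adjS ends F') a (ends e).1
      · rw [if_pos h, if_pos (h1.mp h)]
      · rw [if_neg h, if_neg (fun h' => h (h1.mpr h'))]
    refine ⟨fun v => g' v + (g' b - g' a - x e0) * ind v, ?_⟩
    intro e he
    rcases Finset.mem_insert.mp he with rfl | he
    · show g' (ends e).2 + (g' b - g' a - x e) * ind (ends e).2
        - (g' (ends e).1 + (g' b - g' a - x e) * ind (ends e).1) = x e
      rw [← ha, ← hb, hinda, hindb]; ring
    · show g' (ends e).2 + (g' b - g' a - x e0) * ind (ends e).2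
        - (g' (ends e).1 + (g' b - g' a - x e0) * ind (ends e).1) = x e
      rw [hinde e he, ← hg' e he]; ring

theorem Q_of_forest (m : E → ℕ)
    (hF : ∀ C : Finset E, C ⊆ Finset.univ.filter (fun e => m e ≠ 1) → ¬ IsCircuit ends C) :
    Q ends m := by
  intro x
  obtain ⟨g, hg⟩ := forest_solve ends _ hF x
  refine ⟨g, fun e => ?_⟩
  by_cases he : m e = 1
  · rw [he]; simp
  · rw [hg e (Finset.mem_filter.mpr ⟨Finset.mem_univ _, he⟩), sub_self]; exact dvd_zero _

theorem Q_mul (m₁ m₂ : E → ℕ) (M₁ M₂ : ℕ) (h1 : ∀ e, m₁ e ∣ M₁) (h2 : ∀ e, m₂ e ∣ M₂)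
    (hcop : Nat.Coprime M₁ M₂) (hQ1 : Q ends m₁) (hQ2 : Q ends m₂) :
    Q ends (fun e => m₁ e * m₂ e) := by
  intro x
  obtain ⟨g₁, hg₁⟩ := hQ1 x
  obtain ⟨g₂, hg₂⟩ := hQ2 x
  obtain ⟨u, w, huw⟩ : IsCoprime (M₁ : ℤ) (M₂ : ℤ) := Nat.isCoprime_iff_coprime.mpr hcop
  refine ⟨fun v => w * M₂ * g₁ v + u * M₁ * g₂ v, fun e => ?_⟩
  show ((m₁ e * m₂ e : ℕ) : ℤ) ∣ (w * M₂ * g₁ (ends e).2 + u * M₁ * g₂ (ends e).2)
    - (w * M₂ * g₁ (ends e).1 + u * M₁ * g₂ (ends e).1) - x e
  have key : (w * M₂ * g₁ (ends e).2 + u * M₁ * g₂ (ends e).2)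
      - (w * M₂ * g₁ (ends e).1 + u * M₁ * g₂ (ends e).1) - x e
      = w * ((M₂ : ℤ) * (g₁ (ends e).2 - g₁ (ends e).1 - x e))
        + u * ((M₁ : ℤ) * (g₂ (ends e).2 - g₂ (ends e).1 - x e)) := by
    linear_combination (x e) * huw
  rw [key]
  push_cast
  apply dvd_add
  · apply Dvd.dvd.mul_left
    rw [mul_comm (m₁ e : ℤ)]
    exact mul_dvd_mul (Int.natCast_dvd_natCast.mpr (h2 e)) (hg₁ e)
  · apply Dvd.dvd.mul_left
    exact mul_dvd_mul (Int.natCast_dvd_natCast.mpr (h1 e)) (hg₂ e)

theorem Q_of_coprime : ∀ (N : ℕ) (l : E → ℕ), (∀ e, 0 < l e) → ∏ e, l e = N →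
    IsCircuitCoprime ends l → Q ends l := by
  intro N
  induction N using Nat.strong_induction_on with
  | _ N ih =>
    intro l hl hN hcc
    have hNpos : 0 < N := by rw [← hN]; exact Finset.prod_pos (fun e _ => hl e)
    rcases Nat.lt_or_ge N 2 with h | h
    · have hN1 : N = 1 := by omega
      intro x
      refine ⟨0, fun e => ?_⟩
      have : l e ∣ 1 := by
        rw [← hN1, ← hN]; exact Finset.dvd_prod_of_mem l (Finset.mem_univ e)
      rw [Nat.dvd_one.mp this]; simp
    · obtain ⟨p, hpdef⟩ : ∃ p, p = N.minFac := ⟨_, rfl⟩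
      have hp : p.Prime := by rw [hpdef]; exact Nat.minFac_prime (by omega)
      have hpN : p ∣ N := by rw [hpdef]; exact Nat.minFac_dvd N
      obtain ⟨m₁, hm₁⟩ : ∃ m₁ : E → ℕ, m₁ = fun e => p ^ (l e).factorization p := ⟨_, rfl⟩
      obtain ⟨m₂, hm₂⟩ : ∃ m₂ : E → ℕ, m₂ = fun e => l e / p ^ (l e).factorization p := ⟨_, rfl⟩
      have hmul : ∀ e, m₁ e * m₂ e = l e := by
        intro e; rw [hm₁, hm₂]; exact Nat.ordProj_mul_ordCompl_eq_self (l e) p
      have hm₂pos : ∀ e, 0 < m₂ e := by
        intro e; rw [hm₂]; exact Nat.ordCompl_pos p (hl e).ne'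
      have hm₂p : ∀ e, ¬ p ∣ m₂ e := by
        intro e; rw [hm₂]; exact Nat.not_dvd_ordCompl hp (hl e).ne'
      have hprod : (∏ e, m₁ e) * (∏ e, m₂ e) = N := by
        rw [← Finset.prod_mul_distrib, ← hN]
        exact Finset.prod_congr rfl (fun e _ => hmul e)
      -- some edge has p ∣ l e
      obtain ⟨e1, -, he1⟩ : ∃ e ∈ Finset.univ, p ∣ l e := by
        rw [← hN] at hpN
        exact (Prime.dvd_finsetProd_iff hp.prime l).mp hpN
      have hM1 : 2 ≤ ∏ e, m₁ e := by
        have h1 : p ∣ m₁ e1 := by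
          rw [hm₁]
          exact dvd_pow_self p (Nat.Prime.factorization_pos_of_dvd hp (hl e1).ne' he1).ne'
        have h2 : m₁ e1 ∣ ∏ e, m₁ e := Finset.dvd_prod_of_mem m₁ (Finset.mem_univ e1)
        have h3 : 0 < ∏ e, m₁ e := by
          apply Finset.prod_pos; intro e _; rw [hm₁]; exact pow_pos hp.pos _
        exact le_trans hp.two_le (Nat.le_of_dvd h3 (h1.trans h2))
      have hM2pos : 0 < ∏ e, m₂ e := Finset.prod_pos (fun e _ => hm₂pos e)
      have hM2lt : ∏ e, m₂ e < N := by rw [← hprod]; nlinarith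
      have hQ2 : Q ends m₂ := by
        apply ih _ hM2lt m₂ hm₂pos rfl
        intro C hC
        have h1 : C.gcd m₂ ∣ C.gcd l := Finset.gcd_mono_fun (fun e _ => by
          rw [← hmul e]; exact Dvd.intro_left _ rfl)
        rw [hcc C hC] at h1
        exact Nat.dvd_one.mp h1
      have hQ1 : Q ends m₁ := by
        apply Q_of_forest
        intro C hCsub hC
        have h1 : p ∣ C.gcd l := by
          apply Finset.dvd_gcd
          intro e he
          have hne : m₁ e ≠ 1 := (Finset.mem_filter.mp (hCsub he)).2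
          have hpos : (l e).factorization p ≠ 0 := by
            intro h0; apply hne; rw [hm₁]; simp [h0]
          have : p ∣ m₁ e := by rw [hm₁]; exact dvd_pow_self p hpos
          exact this.trans (by rw [← hmul e]; exact Dvd.intro _ rfl)
        rw [hcc C hC] at h1
        exact hp.one_lt.ne' (Nat.dvd_one.mp h1)
      have hcop : Nat.Coprime (∏ e, m₁ e) (∏ e, m₂ e) := by
        apply Nat.Coprime.prod_left
        intro i _
        apply Nat.Coprime.prod_right
        intro j _
        rw [hm₁]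
        exact Nat.Coprime.pow_left _ ((Nat.Prime.coprime_iff_not_dvd hp).mpr (hm₂p j))
      have := Q_mul ends m₁ m₂ _ _ (fun e => Finset.dvd_prod_of_mem m₁ (Finset.mem_univ e))
        (fun e => Finset.dvd_prod_of_mem m₂ (Finset.mem_univ e)) hcop hQ1 hQ2
      have hfun : (fun e => m₁ e * m₂ e) = l := funext hmul
      rwa [hfun] at this

/-- S13758 (connectedness not needed). -/
theorem main (l : E → ℕ) (hl : ∀ e, 0 < l e) :
    IsCircuitCoprime ends l ↔
      ∀ x : E → ℤ, ∃ y : E → ℤ, ∀ γ : E → ℤ, (∀ v : V, boundary ends γ v = 0) →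
        ∑ e : E, γ e * (x e - (l e : ℤ) * y e) = 0 := by
  constructor
  · intro hcc x
    obtain ⟨g, hg⟩ := Q_of_coprime ends _ l hl rfl hcc x
    choose y hy using hg
    refine ⟨fun e => -y e, fun γ hγ => ?_⟩
    have h1 : ∀ e, x e - (l e : ℤ) * (-y e) = g (ends e).2 - g (ends e).1 := by
      intro e; have := hy e; linarith
    simp only [h1]
    rw [sum_mul_coboundary]
    apply Finset.sum_eq_zero
    intro v _
    rw [hγ v, mul_zero]
  · exact coprime_of_orth ends l

end Groth.Agent.Lib.CircuitCoprime_helper1
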