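import Mathlib
import Groth.Agent.Lib.CircuitCoprime_helper1

/-! The total blow-up graph and circuit-coprimality (helper1). -/

set_option autoImplicit false
universe u

namespace Groth.Agent.Lib.BlowupGraph_helper1
open LabGraph Groth.Agent.Lib.CartierLab_helper1 Groth.Agent.Lib.CircuitCoprime_helper1

variable {V E : Type u} [Fintype V] [Fintype E] [DecidableEq V] [DecidableEq E]
variable (ends : E → V × V) (l : E → ℕ)

theorem pathVert_zero (e : E) : pathVert ends l e 0 = Sum.inl (ends e).1 := by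
  unfold pathVert; rw [dif_pos rfl]

theorem pathVert_last (e : E) (hl : 0 < l e) : pathVert ends l e (l e) = Sum.inl (ends e).2 := by
  unfold pathVert; rw [dif_neg hl.ne', dif_neg (lt_irrefl _)]

theorem pathVert_mid (e : E) (j : Fin (l e - 1)) :
    pathVert ends l e (j.val + 1) = Sum.inr ⟨e, j⟩ := by
  unfold pathVert
  have hj := j.isLt
  rw [dif_neg (Nat.succ_ne_zero _), dif_pos (by omega : j.val + 1 < l e)]
  congr 2

theorem pathVert_eq_inr (e' : E) (i : ℕ) (e : E) (j : Fin (l e - 1))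
    (h : pathVert ends l e' i = Sum.inr ⟨e, j⟩) : e' = e ∧ i = j.val + 1 := by
  unfold pathVert at h
  split_ifs at h with h0 h1
  · have := Sum.inr.inj h
    obtain ⟨rfl, h2⟩ := Sigma.mk.inj_iff.mp this
    have h3 := eq_of_heq h2
    have h4 := congrArg Fin.val h3
    simp only at h4
    exact ⟨rfl, by omega⟩

/-- multidegree of the blow-up graph at a new vertex: the second difference along the path. -/
theorem mdeg_new (ψ : BlVert V E l → ℤ) (e : E) (j : Fin (l e - 1)) :
    mdeg (blEnds ends l) (fun _ => 1) ψ (Sum.inr ⟨e, j⟩)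
      = (ψ (pathVert ends l e (j.val + 2)) - ψ (pathVert ends l e (j.val + 1)))
        + (ψ (pathVert ends l e j.val) - ψ (pathVert ends l e (j.val + 1))) := by
  have hj := j.isLt
  unfold mdeg
  rw [Finset.sum_add_distrib]
  congr 1
  · rw [Finset.sum_eq_single (⟨e, ⟨j.val + 1, by omega⟩⟩ : BlEdge E l)]
    · have : (blEnds ends l ⟨e, ⟨j.val + 1, by omega⟩⟩).1 = Sum.inr ⟨e, j⟩ := pathVert_mid ends l e j
      rw [if_pos this]
      simp only [Nat.cast_one, Int.ediv_one]
      rfl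
    · intro p _ hp
      rw [if_neg]
      intro h
      apply hp
      obtain ⟨e', k⟩ := p
      obtain ⟨rfl, hk⟩ := pathVert_eq_inr ends l e' k.val e j h
      congr 1
      exact Fin.ext hk
    · intro h; exact absurd (Finset.mem_univ _) h
  · rw [Finset.sum_eq_single (⟨e, ⟨j.val, by omega⟩⟩ : BlEdge E l)]
    · have : (blEnds ends l ⟨e, ⟨j.val, by omega⟩⟩).2 = Sum.inr ⟨e, j⟩ := pathVert_mid ends l e j
      rw [if_pos this]
      simp only [Nat.cast_one, Int.ediv_one]
      rfl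
    · intro p _ hp
      rw [if_neg]
      intro h
      apply hp
      obtain ⟨e', k⟩ := p
      obtain ⟨rfl, hk⟩ := pathVert_eq_inr ends l e' (k.val + 1) e j h
      congr 1
      exact Fin.ext (by show k.val = j.val; omega)
    · intro h; exact absurd (Finset.mem_univ _) h

/-- (⇒): blow-up surjectivity gives solvability of the difference system. -/
theorem Q_of_blowup (hl : ∀ e, 0 < l e)
    (H : ∀ β : BlVert V E l → ℤ, ∃ (ψ : BlVert V E l → ℤ) (α : V → ℤ),
      ∀ w : BlVert V E l,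
        mdeg (blEnds ends l) (fun _ => 1) ψ w + β w = Sum.elim α (fun _ => (0 : ℤ)) w) :
    Q ends l := by
  intro x
  obtain ⟨ψ, α, hψ⟩ := H (Sum.elim (fun _ => 0)
    (fun p => if p.2.val + 2 = l p.1 then -x p.1 else 0))
  refine ⟨fun v => ψ (Sum.inl v), fun e => ?_⟩
  obtain ⟨u, hu⟩ : ∃ u : ℕ → ℤ, u = fun i => ψ (pathVert ends l e i) := ⟨_, rfl⟩
  have hu0 : u 0 = ψ (Sum.inl (ends e).1) := by rw [hu]; simp only; rw [pathVert_zero]
  have hul : u (l e) = ψ (Sum.inl (ends e).2) := by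
    rw [hu]; simp only; rw [pathVert_last ends l e (hl e)]
  have hrec : ∀ i, i + 2 ≤ l e → u (i + 2) = 2 * u (i + 1) - u i + (if i + 2 = l e then x e else 0) := by
    intro i hi
    have h1 := hψ (Sum.inr ⟨e, ⟨i, by omega⟩⟩)
    rw [mdeg_new] at h1
    simp only [Sum.elim_inr] at h1
    rw [hu]
    simp only
    split_ifs at h1 ⊢ <;> linarith
  have hlin : ∀ i, i + 1 ≤ l e → u i = u 0 + i * (u 1 - u 0) := by
    intro i
    induction i using Nat.twoStepInduction with
    | zero => intro _; simp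
    | one => intro _; simp
    | more i ih1 ih2 =>
      intro hi
      rw [hrec i (by omega), ih1 (by omega), ih2 (by omega), if_neg (by omega)]
      push_cast; ring
  show (l e : ℤ) ∣ ψ (Sum.inl (ends e).2) - ψ (Sum.inl (ends e).1) - x e
  rw [← hu0, ← hul]
  rcases Nat.lt_or_ge (l e) 2 with h2 | h2
  · have : l e = 1 := by have := hl e; omega
    rw [this]; simp
  · obtain ⟨i, hi⟩ : ∃ i, l e = i + 2 := ⟨l e - 2, by omega⟩
    rw [hi, hrec i (by omega), hlin i (by omega), hlin (i + 1) (by omega), if_pos hi.symm]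
    exact ⟨u 1 - u 0, by push_cast; ring⟩

/-- the correction sequence along a path. -/
def Phi (B : ℕ → ℤ) : ℕ → ℤ
  | 0 => 0
  | 1 => 0
  | i + 2 => 2 * Phi B (i + 1) - Phi B i + B (i + 1)

theorem Phi_ss (B : ℕ → ℤ) (i : ℕ) : Phi B (i + 2) = 2 * Phi B (i + 1) - Phi B i + B (i + 1) := by
  rw [Phi]

/-- (⇐): solvability gives blow-up surjectivity. -/
theorem blowup_of_Q (hl : ∀ e, 0 < l e) (hQ : Q ends l) (β : BlVert V E l → ℤ) :
    ∃ (ψ : BlVert V E l → ℤ) (α : V → ℤ), ∀ w : BlVert V E l,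
      mdeg (blEnds ends l) (fun _ => 1) ψ w + β w = Sum.elim α (fun _ => (0 : ℤ)) w := by
  obtain ⟨B, hB⟩ : ∃ B : E → ℕ → ℤ, B = fun e i =>
      if h : 0 < i ∧ i < l e then -β (Sum.inr ⟨e, ⟨i - 1, by omega⟩⟩) else 0 := ⟨_, rfl⟩
  obtain ⟨g, hg⟩ := hQ (fun e => Phi (B e) (l e))
  choose d hd using hg
  obtain ⟨Ψ, hΨ⟩ : ∃ Ψ : E → ℕ → ℤ, Ψ = fun e i => g (ends e).1 + i * d e + Phi (B e) i := ⟨_, rfl⟩
  have hΨ0 : ∀ e, Ψ e 0 = g (ends e).1 := by
    intro e; rw [hΨ]; simp [Phi]
  have hΨl : ∀ e, Ψ e (l e) = g (ends e).2 := by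
    intro e; rw [hΨ]; simp only; have := hd e; linarith
  have hΨrec : ∀ e i, Ψ e (i + 2) = 2 * Ψ e (i + 1) - Ψ e i + B e (i + 1) := by
    intro e i; rw [hΨ]; simp only; rw [Phi_ss]; push_cast; ring
  obtain ⟨ψ, hψ⟩ : ∃ ψ : BlVert V E l → ℤ, ψ = Sum.elim g (fun p => Ψ p.1 (p.2.val + 1)) := ⟨_, rfl⟩
  have hψpath : ∀ e i, i ≤ l e → ψ (pathVert ends l e i) = Ψ e i := by
    intro e i hi
    rcases Nat.eq_zero_or_pos i with h0 | h0
    · subst h0; rw [pathVert_zero, hψ, hΨ0]; rfl
    · rcases Nat.lt_or_ge i (l e) with h1 | h1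
      · obtain ⟨j, rfl⟩ : ∃ j, i = j + 1 := ⟨i - 1, by omega⟩
        have := pathVert_mid ends l e ⟨j, by omega⟩
        simp only at this
        rw [this, hψ]; rfl
      · have : i = l e := le_antisymm hi h1
        subst this
        rw [pathVert_last ends l e (hl e), hψ, hΨl]; rfl
  refine ⟨ψ, fun v => mdeg (blEnds ends l) (fun _ => 1) ψ (Sum.inl v) + β (Sum.inl v), ?_⟩
  intro w
  rcases w with v | ⟨e, j⟩
  · rfl
  · have hj := j.isLt
    rw [mdeg_new, hψpath e _ (by omega), hψpath e _ (by omega), hψpath e _ (by omega), hΨrec]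
    simp only [Sum.elim_inr]
    have hBj : B e (j.val + 1) = -β (Sum.inr ⟨e, j⟩) := by
      rw [hB]; simp only
      rw [dif_pos ⟨Nat.succ_pos _, by omega⟩]
      congr 3
    rw [hBj]; ring

/-- S13760. -/
theorem main60 (hl : ∀ e, 0 < l e) :
    (∀ β : BlVert V E l → ℤ, ∃ (ψ : BlVert V E l → ℤ) (α : V → ℤ),
        ∀ w : BlVert V E l,
          mdeg (blEnds ends l) (fun _ => 1) ψ w + β w = Sum.elim α (fun _ => (0 : ℤ)) w) ↔
      IsCircuitCoprime ends l := by
  constructor
  · intro H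
    have hQ := Q_of_blowup ends l hl H
    apply coprime_of_orth ends l
    intro x
    obtain ⟨g, hg⟩ := hQ x
    choose y hy using hg
    refine ⟨fun e => -y e, fun γ hγ => ?_⟩
    have h1 : ∀ e, x e - (l e : ℤ) * (-y e) = g (ends e).2 - g (ends e).1 := by
      intro e; have := hy e; linarith
    simp only [h1]
    rw [sum_mul_coboundary]
    apply Finset.sum_eq_zero
    intro v _
    rw [hγ v, mul_zero]
  · intro hcc β
    exact blowup_of_Q ends l hl (Q_of_coprime ends _ l hl rfl hcc) β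

end Groth.Agent.Lib.BlowupGraph_helper1
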