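import Mathlib
import Groth.Agent.Lib.BlowupGraph_helper1

/-! Injectivity of the blow-up map on multidegree cokernels (helper1). -/

set_option autoImplicit false
universe u

namespace Groth.Agent.Lib.BlowupGraph2_helper1
open LabGraph Groth.Agent.Lib.BlowupGraph_helper1

variable {V E : Type u} [Fintype V] [Fintype E] [DecidableEq V] [DecidableEq E]
variable (ends : E → V × V) (l : E → ℕ)

theorem pathVert_ne_inl_of_mid (e : E) (i : ℕ) (h0 : i ≠ 0) (h1 : i < l e) (v : V) :
    pathVert ends l e i ≠ Sum.inl v := by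
  unfold pathVert
  rw [dif_neg h0, dif_pos h1]
  exact Sum.inr_ne_inl

/-- multidegree of the blow-up graph at an old vertex. -/
theorem mdeg_old (hl : ∀ e, 0 < l e) (ψ : BlVert V E l → ℤ) (v : V) :
    mdeg (blEnds ends l) (fun _ => 1) ψ (Sum.inl v)
      = ∑ e : E, ((if (ends e).1 = v then
            ψ (pathVert ends l e 1) - ψ (pathVert ends l e 0) else 0)
          + (if (ends e).2 = v then
            ψ (pathVert ends l e (l e - 1)) - ψ (pathVert ends l e (l e)) else 0)) := by
  unfold mdeg
  rw [Fintype.sum_sigma]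
  apply Finset.sum_congr rfl
  intro e _
  rw [Finset.sum_add_distrib]
  congr 1
  · rw [Finset.sum_eq_single (⟨0, hl e⟩ : Fin (l e))]
    · show (if pathVert ends l e 0 = Sum.inl v then
          (ψ (pathVert ends l e (0 + 1)) - ψ (pathVert ends l e 0)) / ((1 : ℕ) : ℤ) else 0) = _
      rw [pathVert_zero]
      by_cases h : (ends e).1 = v
      · rw [if_pos h, if_pos (by rw [h])]
        simp only [Nat.cast_one, Int.ediv_one, zero_add]
      · rw [if_neg h, if_neg (fun h' => h (Sum.inl.inj h'))]
    · intro k _ hk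
      rw [if_neg]
      exact pathVert_ne_inl_of_mid ends l e k.val (fun h => hk (Fin.ext h)) k.isLt v
    · intro h; exact absurd (Finset.mem_univ _) h
  · rw [Finset.sum_eq_single (⟨l e - 1, by have := hl e; omega⟩ : Fin (l e))]
    · show (if pathVert ends l e (l e - 1 + 1) = Sum.inl v then
          (ψ (pathVert ends l e (l e - 1)) - ψ (pathVert ends l e (l e - 1 + 1))) / ((1 : ℕ) : ℤ)
          else 0) = _
      have h1 : l e - 1 + 1 = l e := by have := hl e; omega
      rw [h1, pathVert_last ends l e (hl e)]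
      by_cases h : (ends e).2 = v
      · rw [if_pos h, if_pos (by rw [h])]
        simp only [Nat.cast_one, Int.ediv_one]
      · rw [if_neg h, if_neg (fun h' => h (Sum.inl.inj h'))]
    · intro k _ hk
      rw [if_neg]
      apply pathVert_ne_inl_of_mid ends l e (k.val + 1) (Nat.succ_ne_zero _)
      have h1 := k.isLt
      have h2 : k.val ≠ l e - 1 := fun h => hk (Fin.ext h)
      omega
    · intro h; exact absurd (Finset.mem_univ _) h

/-- S13759. -/
theorem main59 (hl : ∀ e, 0 < l e) (α : V → ℤ) (ψ : BlVert V E l → ℤ)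
    (hψ : ∀ w : BlVert V E l,
      mdeg (blEnds ends l) (fun _ => 1) ψ w = Sum.elim α (fun _ => (0 : ℤ)) w) :
    ∃ φ : V → ℤ, IsCartier ends l φ ∧ ∀ v : V, mdeg ends l φ v = α v := by
  -- linearity along each path
  have hlin : ∀ e : E, ∀ i, i ≤ l e → ψ (pathVert ends l e i)
      = ψ (pathVert ends l e 0) + i * (ψ (pathVert ends l e 1) - ψ (pathVert ends l e 0)) := by
    intro e i
    induction i using Nat.twoStepInduction with
    | zero => intro _; simp
    | one => intro _; simp
    | more i ih1 ih2 =>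
      intro hi
      have h1 := hψ (Sum.inr ⟨e, ⟨i, by omega⟩⟩)
      rw [mdeg_new] at h1
      simp only [Sum.elim_inr] at h1
      have h2 := ih1 (by omega)
      have h3 := ih2 (by omega)
      push_cast at h3 ⊢
      linear_combination h1 + 2 * h3 - h2
  refine ⟨fun v => ψ (Sum.inl v), ?_, ?_⟩
  · intro e
    have h1 := hlin e (l e) le_rfl
    rw [pathVert_last ends l e (hl e), pathVert_zero] at h1
    show (l e : ℤ) ∣ ψ (Sum.inl (ends e).1) - ψ (Sum.inl (ends e).2)
    exact ⟨-(ψ (pathVert ends l e 1) - ψ (Sum.inl (ends e).1)), by rw [h1]; ring⟩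
  · intro v
    have h1 := hψ (Sum.inl v)
    rw [mdeg_old ends l hl] at h1
    simp only [Sum.elim_inl] at h1
    rw [← h1]
    unfold mdeg
    apply Finset.sum_congr rfl
    intro e _
    have hle := hl e
    have hlZ : (l e : ℤ) ≠ 0 := by exact_mod_cast hle.ne'
    have h2 := hlin e (l e) le_rfl
    have h3 := hlin e (l e - 1) (by omega)
    have h4 : ((l e - 1 : ℕ) : ℤ) = (l e : ℤ) - 1 := by
      rw [Nat.cast_sub hle]; simp
    rw [h4] at h3
    rw [pathVert_last ends l e hle, pathVert_zero] at h2
    rw [pathVert_zero] at h3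
    have e1 : (ψ (Sum.inl (ends e).2) - ψ (Sum.inl (ends e).1)) / (l e : ℤ)
        = ψ (pathVert ends l e 1) - ψ (pathVert ends l e 0) := by
      rw [pathVert_zero, h2]
      have : ψ (Sum.inl (ends e).1) + (l e : ℤ) * (ψ (pathVert ends l e 1) - ψ (Sum.inl (ends e).1))
          - ψ (Sum.inl (ends e).1) = (l e : ℤ) * (ψ (pathVert ends l e 1) - ψ (Sum.inl (ends e).1)) := by
        ring
      rw [this, Int.mul_ediv_cancel_left _ hlZ]
    have e2 : (ψ (Sum.inl (ends e).1) - ψ (Sum.inl (ends e).2)) / (l e : ℤ)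
        = ψ (pathVert ends l e (l e - 1)) - ψ (pathVert ends l e (l e)) := by
      rw [pathVert_last ends l e hle, h3, h2]
      have : ψ (Sum.inl (ends e).1) - (ψ (Sum.inl (ends e).1)
          + (l e : ℤ) * (ψ (pathVert ends l e 1) - ψ (Sum.inl (ends e).1)))
          = (l e : ℤ) * (-(ψ (pathVert ends l e 1) - ψ (Sum.inl (ends e).1))) := by ring
      rw [this, Int.mul_ediv_cancel_left _ hlZ]; ring
    show (if (ends e).1 = v then (ψ (Sum.inl (ends e).2) - ψ (Sum.inl (ends e).1)) / (l e : ℤ) else 0)
      + (if (ends e).2 = v then (ψ (Sum.inl (ends e).1) - ψ (Sum.inl (ends e).2)) / (l e : ℤ) else 0) = _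
    rw [e1, e2]

end Groth.Agent.Lib.BlowupGraph2_helper1
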