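import Mathlib
import Groth.Prelude.Def_W4c2arithlefschetzGraph

/-!
# Blow-up dual graphs: `M⁻¹ = -TᵀT`, Schur complement, and `lNum = rNum`
-/

namespace Groth.Agent.Lib.BlowupL
open ArLef ArLef.BlowupGraph Matrix

variable {n : ℕ} (G : BlowupGraph n)

theorem ttN_eq (k m : ℕ) : G.ttN k m = if m < k then 0 else if m = k then 1 else
    ∑ p ∈ (G.parN m).attach, G.ttN k p.1 := by
  rw [ttN]

theorem ttN_of_lt {k m : ℕ} (h : m < k) : G.ttN k m = 0 := by
  rw [ttN_eq, if_pos h]

theorem ttN_self (k : ℕ) : G.ttN k k = 1 := by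
  rw [ttN_eq, if_neg (lt_irrefl k), if_pos rfl]

theorem ttN_of_gt {k m : ℕ} (h : k < m) : G.ttN k m = ∑ p ∈ G.parN m, G.ttN k p := by
  rw [ttN_eq, if_neg (not_lt.mpr h.le), if_neg (Nat.ne_of_gt h)]
  exact Finset.sum_attach (G.parN m) (fun p => G.ttN k p)

theorem parN_val (m : Fin n) : G.parN m.1 = (G.par m).map Fin.valEmbedding := by
  unfold parN
  rw [dif_pos m.2]

theorem tt_rec (k m : Fin n) :
    G.tt k m = (if k = m then 1 else 0) + ∑ p ∈ G.par m, G.tt k p := by
  unfold tt
  rcases lt_trichotomy m.1 k.1 with h | h | h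
  · have hkm : ¬ k = m := by
      intro e; rw [e] at h; exact lt_irrefl _ h
    have hs : ∑ p ∈ G.par m, G.ttN k.1 p.1 = 0 := by
      apply Finset.sum_eq_zero
      intro p hp
      exact ttN_of_lt G (lt_trans (Fin.lt_def.mp (G.par_lt m p hp)) h)
    rw [ttN_of_lt G h, if_neg hkm, zero_add, hs]
  · have e : k = m := Fin.ext h.symm
    subst e
    have hs : ∑ p ∈ G.par k, G.ttN k.1 p.1 = 0 := by
      apply Finset.sum_eq_zero
      intro p hp
      exact ttN_of_lt G (Fin.lt_def.mp (G.par_lt k p hp))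
    rw [ttN_self, if_pos rfl, hs, add_zero]
  · have hkm : ¬ k = m := by
      intro e; rw [e] at h; exact lt_irrefl _ h
    rw [ttN_of_gt G h, if_neg hkm, zero_add, parN_val, Finset.sum_map]
    rfl

/-- the "parent" matrix -/
def Pq : Matrix (Fin n) (Fin n) ℚ := fun p m => if p ∈ G.par m then 1 else 0
/-- total transform matrix -/
def Tq : Matrix (Fin n) (Fin n) ℚ := fun k m => (G.tt k m : ℚ)
/-- `1 - P` -/
def Aq : Matrix (Fin n) (Fin n) ℚ := 1 - Pq G

theorem Tq_rec (k m : Fin n) :
    Tq G k m = (1 : Matrix (Fin n) (Fin n) ℚ) k m + (Tq G * Pq G) k m := by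
  have h := congrArg (Int.cast : ℤ → ℚ) (tt_rec G k m)
  push_cast at h
  simp only [Tq, Pq, Matrix.mul_apply, Matrix.one_apply, mul_ite, mul_one, mul_zero,
    Finset.sum_ite_mem, Finset.univ_inter]
  exact h

theorem Tq_mul_Aq : Tq G * Aq G = 1 := by
  have h : Tq G = 1 + Tq G * Pq G := by
    ext k m
    rw [Matrix.add_apply]
    exact Tq_rec G k m
  unfold Aq
  rw [Matrix.mul_sub, Matrix.mul_one, sub_eq_iff_eq_add]
  exact h

theorem Aq_mul_Tq : Aq G * Tq G = 1 := mul_eq_one_comm.mp (Tq_mul_Aq G)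

theorem Pq_of_ge {p q : Fin n} (h : q ≤ p) : Pq G p q = 0 := by
  unfold Pq
  rw [if_neg]
  intro h'
  exact absurd (G.par_lt q p h') (not_lt.mpr h)

theorem Pq_self (p : Fin n) : Pq G p p = 0 := Pq_of_ge G le_rfl

theorem sum_Pq_mul (p q : Fin n) :
    ∑ m, Pq G p m * Pq G q m =
      ((Finset.univ.filter fun m => p ∈ G.par m ∧ q ∈ G.par m).card : ℚ) := by
  have : ∀ m, Pq G p m * Pq G q m = if (p ∈ G.par m ∧ q ∈ G.par m) then (1:ℚ) else 0 := by
    intro m
    unfold Pq
    by_cases h1 : p ∈ G.par m <;> by_cases h2 : q ∈ G.par m <;> simp [h1, h2]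
  simp only [this]
  exact Finset.sum_boole _ _

theorem AAt_eq : Aq G * (Aq G)ᵀ = 1 - (Pq G)ᵀ - Pq G + Pq G * (Pq G)ᵀ := by
  unfold Aq
  simp only [Matrix.transpose_sub, Matrix.transpose_one, Matrix.sub_mul, Matrix.mul_sub,
    Matrix.one_mul, Matrix.mul_one]
  abel

theorem AAt_apply (p q : Fin n) :
    (Aq G * (Aq G)ᵀ) p q =
      (if p = q then 1 else 0) - Pq G q p - Pq G p q + ∑ m, Pq G p m * Pq G q m := by
  rw [AAt_eq]
  simp only [Matrix.add_apply, Matrix.sub_apply, Matrix.transpose_apply, Matrix.mul_apply,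
    Matrix.one_apply]

theorem adj_ite_comm (p q : Fin n) :
    (if G.Adj p q then (1:ℚ) else 0) = if G.Adj q p then 1 else 0 := by
  have e : G.Adj p q ↔ G.Adj q p := by unfold Adj; exact Or.comm
  by_cases h : G.Adj p q
  · rw [if_pos h, if_pos (e.mp h)]
  · rw [if_neg h, if_neg (fun h' => h (e.mpr h'))]

theorem offdiag {p q : Fin n} (h : p < q) :
    (if G.Adj p q then (1:ℚ) else 0) =
      Pq G p q - ((Finset.univ.filter fun m => p ∈ G.par m ∧ q ∈ G.par m).card : ℚ) := by
  have hne : p ≠ q := ne_of_lt h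
  have key : ∀ m, p ∈ G.par m → q ∈ G.par m → G.par m = {p, q} ∧ q < m ∧ p ∈ G.par q ∧
      ∀ m', q < m' → m' < m → G.par m' ≠ {p, q} := by
    intro m hp hq
    refine ⟨?_, G.par_lt m q hq, (G.meet_of_two m p q hp hq h).1,
      (G.meet_of_two m p q hp hq h).2⟩
    symm
    apply Finset.eq_of_subset_of_card_le
    · intro x hx
      rw [Finset.mem_insert, Finset.mem_singleton] at hx
      rcases hx with rfl | rfl
      · exact hp
      · exact hq
    · rw [Finset.card_pair hne]
      exact G.card_le_two m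
  have hAdj : G.Adj p q ↔ (p ∈ G.par q ∧ ∀ m, q < m → G.par m ≠ {p, q}) := by
    unfold Adj
    constructor
    · rintro (h1 | h1)
      · exact h1
      · exact absurd (G.par_lt p q h1.1) (not_lt.mpr h.le)
    · intro h1; exact Or.inl h1
  by_cases hpq : p ∈ G.par q
  · have hP : Pq G p q = 1 := by unfold Pq; rw [if_pos hpq]
    by_cases hA : G.Adj p q
    · have hF0 : (Finset.univ.filter fun m => p ∈ G.par m ∧ q ∈ G.par m) = ∅ := by
        rw [Finset.filter_eq_empty_iff]
        intro m _ hm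
        obtain ⟨e, hqm, -, -⟩ := key m hm.1 hm.2
        exact (hAdj.mp hA).2 m hqm e
      rw [if_pos hA, hP, hF0]
      simp
    · have : ∃ m, q < m ∧ G.par m = {p, q} := by
        by_contra hcon
        apply hA
        rw [hAdj]
        exact ⟨hpq, fun m hm e => hcon ⟨m, hm, e⟩⟩
      obtain ⟨m0, hm0, e0⟩ := this
      have hF1 : (Finset.univ.filter fun m => p ∈ G.par m ∧ q ∈ G.par m) = {m0} := by
        ext m
        rw [Finset.mem_filter, Finset.mem_singleton]
        constructor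
        · rintro ⟨-, hp, hq⟩
          obtain ⟨e, hqm, -, hbetween⟩ := key m hp hq
          have hp0 : p ∈ G.par m0 := by rw [e0]; simp
          have hq0 : q ∈ G.par m0 := by rw [e0]; simp
          obtain ⟨-, -, -, hbetween0⟩ := key m0 hp0 hq0
          rcases lt_trichotomy m m0 with hlt | heq | hgt
          · exact absurd e (hbetween0 m hqm hlt)
          · exact heq
          · exact absurd e0 (hbetween m0 hm0 hgt)
        · rintro rfl
          refine ⟨Finset.mem_univ _, ?_, ?_⟩ <;> rw [e0] <;> simp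
      rw [if_neg hA, hP, hF1]
      simp
  · have hP : Pq G p q = 0 := by unfold Pq; rw [if_neg hpq]
    have hA : ¬ G.Adj p q := fun hA => hpq (hAdj.mp hA).1
    have hF0 : (Finset.univ.filter fun m => p ∈ G.par m ∧ q ∈ G.par m) = ∅ := by
      rw [Finset.filter_eq_empty_iff]
      intro m _ hm
      exact hpq (key m hm.1 hm.2).2.2.1
    rw [if_neg hA, hP, hF0]
    simp

theorem mat_eq : G.mat = -(Aq G * (Aq G)ᵀ) := by
  ext p q
  rw [Matrix.neg_apply, AAt_apply, sum_Pq_mul]
  unfold mat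
  by_cases hpq : p = q
  · subst hpq
    rw [if_pos rfl, if_pos rfl, Pq_self]
    unfold selfInt
    have : (Finset.univ.filter fun m => p ∈ G.par m ∧ p ∈ G.par m) =
        Finset.univ.filter fun m => p ∈ G.par m := by
      ext m; simp
    rw [this]
    push_cast
    ring
  · rw [if_neg hpq, if_neg hpq]
    rcases lt_or_gt_of_ne hpq with h | h
    · rw [Pq_of_ge G h.le, offdiag G h]
      ring
    · have hs : (Finset.univ.filter fun m => p ∈ G.par m ∧ q ∈ G.par m) =
          Finset.univ.filter fun m => q ∈ G.par m ∧ p ∈ G.par m := by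
        ext m; simp [and_comm]
      rw [Pq_of_ge G h.le, hs, adj_ite_comm, offdiag G h]
      ring

/-- `TᵀT`, the multiplicity matrix over `ℚ`. -/
def Nq : Matrix (Fin n) (Fin n) ℚ := (Tq G)ᵀ * Tq G

theorem mult_cast (i j : Fin n) : (G.mult i j : ℚ) = Nq G i j := by
  unfold mult Nq Tq
  rw [Matrix.mul_apply]
  push_cast
  rfl

theorem mat_mul_Nq : G.mat * Nq G = -1 := by
  rw [mat_eq]
  unfold Nq
  rw [Matrix.neg_mul]
  congr 1
  rw [Matrix.mul_assoc, ← Matrix.mul_assoc (Aq G)ᵀ, ← Matrix.transpose_mul, Tq_mul_Aq,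
    Matrix.transpose_one, Matrix.one_mul, Aq_mul_Tq]

theorem Nq_symm (i j : Fin n) : Nq G i j = Nq G j i := by
  unfold Nq
  rw [Matrix.mul_apply, Matrix.mul_apply]
  apply Finset.sum_congr rfl
  intro k _
  rw [Matrix.transpose_apply, Matrix.transpose_apply, mul_comm]

theorem quad_form (w : Fin n → ℚ) :
    w ⬝ᵥ (G.mat *ᵥ w) = -((w ᵥ* (Aq G)) ⬝ᵥ (w ᵥ* (Aq G))) := by
  rw [mat_eq, Matrix.neg_mulVec, dotProduct_neg, ← Matrix.mulVec_mulVec, Matrix.dotProduct_mulVec,
    Matrix.mulVec_transpose]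

theorem eq_zero_of_quad (w : Fin n → ℚ) (h : w ⬝ᵥ (G.mat *ᵥ w) = 0) : w = 0 := by
  rw [quad_form, neg_eq_zero, dotProduct_self_eq_zero] at h
  have h2 := congrArg (fun u => u ᵥ* (Tq G)) h
  simp only [Matrix.vecMul_vecMul, Aq_mul_Tq, Matrix.vecMul_one, Matrix.zero_vecMul] at h2
  exact h2

theorem det_sub_ne_zero (I : Finset (Fin n)) :
    (G.mat.submatrix (fun x : I => x.1) (fun x : I => x.1)).det ≠ 0 := by
  classical
  intro hdet
  obtain ⟨v, hv, hBv⟩ := Matrix.exists_mulVec_eq_zero_iff.mpr hdet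
  apply hv
  have hw0 : (fun x : Fin n => if hx : x ∈ I then v ⟨x, hx⟩ else 0) = 0 := by
    apply eq_zero_of_quad G
    have hsum : ∀ x : Fin n,
        (G.mat *ᵥ (fun x : Fin n => if hx : x ∈ I then v ⟨x, hx⟩ else 0)) x =
          ∑ b : I, G.mat x b.1 * v b := by
      intro x
      calc (G.mat *ᵥ (fun x : Fin n => if hx : x ∈ I then v ⟨x, hx⟩ else 0)) x
          = ∑ y, G.mat x y * (if hx : y ∈ I then v ⟨y, hx⟩ else 0) := rfl
        _ = ∑ y ∈ I, G.mat x y * (if hx : y ∈ I then v ⟨y, hx⟩ else 0) :=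
            (Finset.sum_subset (Finset.subset_univ I) (by
              intro y _ hy
              simp only [dif_neg hy, mul_zero])).symm
        _ = ∑ b : I, G.mat x b.1 * (if hx : b.1 ∈ I then v ⟨b.1, hx⟩ else 0) :=
            (Finset.sum_coe_sort I
              (fun y => G.mat x y * (if hx : y ∈ I then v ⟨y, hx⟩ else 0))).symm
        _ = ∑ b : I, G.mat x b.1 * v b := by
            apply Finset.sum_congr rfl
            intro b _
            simp only [dif_pos b.2, Subtype.coe_eta]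
    rw [dotProduct]
    apply Finset.sum_eq_zero
    intro x _
    by_cases hx : x ∈ I
    · rw [hsum x]
      have h1 := congrFun hBv ⟨x, hx⟩
      have h2 : ∑ b : I, G.mat x b.1 * v b = 0 := h1
      rw [h2, mul_zero]
    · simp only [dif_neg hx, zero_mul]
  funext a
  have h3 := congrFun hw0 a.1
  simp only [dif_pos a.2, Subtype.coe_eta, Pi.zero_apply] at h3
  exact h3

theorem schur_identity (I : Finset (Fin n)) (a i : Fin n) (hi : i ∉ I) :
    ∑ j ∈ Finset.univ.filter (fun j => j ∉ I), G.pairing I a j * Nq G j i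
      = -(if a = i then 1 else 0) := by
  classical
  have hdet : IsUnit (G.mat.submatrix (fun x : I => x.1) (fun x : I => x.1)).det :=
    isUnit_iff_ne_zero.mpr (det_sub_ne_zero G I)
  have hinv := Matrix.nonsing_inv_mul _ hdet
  generalize hBi : (G.mat.submatrix (fun x : I => x.1) (fun x : I => x.1))⁻¹ = Bi at hinv
  have hpair : ∀ j, G.pairing I a j =
      G.mat a j - ∑ c : I, ∑ d : I, G.mat a c.1 * Bi c d * G.mat d.1 j := by
    intro j
    rw [← hBi]
    rfl
  have hMN : ∀ x y : Fin n, ∑ z, G.mat x z * Nq G z y = -(if x = y then 1 else 0) := by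
    intro x y
    have h0 := congrFun (congrFun (mat_mul_Nq G) x) y
    rw [Matrix.mul_apply, Matrix.neg_apply, Matrix.one_apply] at h0
    exact h0
  have hsplit : ∀ f : Fin n → ℚ,
      ∑ x, f x = ∑ c : I, f c.1 + ∑ j ∈ Finset.univ.filter (fun j => j ∉ I), f j := by
    intro f
    rw [Finset.sum_coe_sort I f,
      ← Finset.sum_filter_add_sum_filter_not Finset.univ (fun x => x ∈ I) f]
    congr 2
    ext x; simp
  have hr' : (fun d : I => ∑ j ∈ Finset.univ.filter (fun j => j ∉ I), G.mat d.1 j * Nq G j i) =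
      -((G.mat.submatrix (fun x : I => x.1) (fun x : I => x.1)) *ᵥ
        (fun e : I => Nq G e.1 i)) := by
    funext d
    have h1 := hMN d.1 i
    rw [hsplit (fun z => G.mat d.1 z * Nq G z i)] at h1
    have hne : ¬ (d.1 = i) := fun e => hi (e ▸ d.2)
    rw [if_neg hne, neg_zero] at h1
    have h2 : ((G.mat.submatrix (fun x : I => x.1) (fun x : I => x.1)) *ᵥ
        (fun e : I => Nq G e.1 i)) d = ∑ c : I, G.mat d.1 c.1 * Nq G c.1 i := rfl
    rw [Pi.neg_apply, h2]
    linarith
  have hBr : Bi *ᵥ (fun d : I =>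
        ∑ j ∈ Finset.univ.filter (fun j => j ∉ I), G.mat d.1 j * Nq G j i) =
      -(fun e : I => Nq G e.1 i) := by
    rw [hr', Matrix.mulVec_neg, Matrix.mulVec_mulVec, hinv, Matrix.one_mulVec]
  calc ∑ j ∈ Finset.univ.filter (fun j => j ∉ I), G.pairing I a j * Nq G j i
      = ∑ j ∈ Finset.univ.filter (fun j => j ∉ I), G.mat a j * Nq G j i -
          ∑ c : I, G.mat a c.1 * (Bi *ᵥ (fun d : I =>
            ∑ j ∈ Finset.univ.filter (fun j => j ∉ I), G.mat d.1 j * Nq G j i)) c := by
        simp only [hpair, sub_mul, Finset.sum_sub_distrib]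
        congr 1
        simp only [Finset.sum_mul]
        rw [Finset.sum_comm]
        apply Finset.sum_congr rfl
        intro c _
        rw [Finset.sum_comm]
        show _ = G.mat a c.1 * ∑ d : I, Bi c d *
          ∑ j ∈ Finset.univ.filter (fun j => j ∉ I), G.mat d.1 j * Nq G j i
        rw [Finset.mul_sum]
        apply Finset.sum_congr rfl
        intro d _
        rw [Finset.mul_sum, Finset.mul_sum]
        apply Finset.sum_congr rfl
        intro j _
        ring
    _ = ∑ j ∈ Finset.univ.filter (fun j => j ∉ I), G.mat a j * Nq G j i +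
          ∑ c : I, G.mat a c.1 * Nq G c.1 i := by
        rw [hBr]
        simp only [Pi.neg_apply, mul_neg, Finset.sum_neg_distrib, sub_neg_eq_add]
    _ = ∑ z, G.mat a z * Nq G z i := by
        rw [hsplit (fun z => G.mat a z * Nq G z i), add_comm]
    _ = _ := hMN a i

theorem lNum_eq_rNum (I : Finset (Fin n)) (σ : Equiv.Perm (Fin n)) :
    G.lNum I σ = rNum I σ := by
  classical
  unfold lNum rNum
  have h1 : ∀ i ∈ Finset.univ.filter (fun i : Fin n => i ∉ I),
      ∑ j ∈ Finset.univ.filter (fun j => j ∉ I), (G.mult i j : ℚ) * G.pairing I (σ i) j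
        = -(if σ i = i then 1 else 0) := by
    intro i hi
    rw [← schur_identity G I (σ i) i (Finset.mem_filter.mp hi).2]
    apply Finset.sum_congr rfl
    intro j _
    rw [mult_cast, Nq_symm, mul_comm]
  rw [Finset.sum_congr rfl h1, Finset.sum_neg_distrib, Finset.sum_boole, Finset.filter_filter]

end Groth.Agent.Lib.BlowupL
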