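import Mathlib
import Groth.Prelude.Def_AlgGrp
import Groth.Agent.Lib.FlatClosed_helper4
import Groth.Agent.Lib.GrpConnIrr_helper4
import Groth.Agent.Lib.GrpPtIrr_helper4
import Groth.Agent.Lib.GrpIdComp_helper4

set_option autoImplicit false
set_option linter.unusedVariables false
set_option linter.unusedTactic false
set_option linter.unreachableTactic false
set_option linter.unusedSectionVars false
set_option linter.style.haveILetI false
set_option linter.deprecated false
set_option maxHeartbeats 1600000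

/-!
# Homogeneous spaces under a group scheme over a field: the sets `C⁰ · U`
-/

universe v u

namespace Groth.Agent.Lib.HomogSpH4

open CategoryTheory CategoryTheory.Limits AlgebraicGeometry MonoidalCategory
  CartesianMonoidalCategory MonObj GrpObj TopologicalSpace

section abstract

variable {C : Type u} [Category.{v} C] [CartesianMonoidalCategory C]

lemma isPullback_whiskerLeft {A K : C} (f : A ⟶ K) (B : C) :
    IsPullback (snd B A) (B ◁ f) f (snd B K) := by
  have w : snd B A ≫ f = (B ◁ f) ≫ snd B K := (whiskerLeft_snd B f).symm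
  refine ⟨⟨w⟩, ⟨PullbackCone.IsLimit.mk w (fun s => lift (s.snd ≫ fst B K) s.fst) ?_ ?_ ?_⟩⟩
  · intro s
    exact lift_snd _ _
  · intro s
    apply CartesianMonoidalCategory.hom_ext
    · rw [Category.assoc, whiskerLeft_fst, lift_fst]
    · rw [Category.assoc, whiskerLeft_snd, ← Category.assoc, lift_snd, s.condition]
  · intro s m h1 h2
    apply CartesianMonoidalCategory.hom_ext
    · rw [lift_fst, ← h2, Category.assoc, whiskerLeft_fst]
    · rw [lift_snd, h1]

lemma isPullback_section {G X : C} (x : 𝟙_ C ⟶ X) :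
    IsPullback (toUnit G) (lift (𝟙 G) (toUnit G ≫ x)) x (snd G X) := by
  have w : toUnit G ≫ x = lift (𝟙 G) (toUnit G ≫ x) ≫ snd G X := (lift_snd _ _).symm
  refine ⟨⟨w⟩, ⟨PullbackCone.IsLimit.mk w (fun s => s.snd ≫ fst G X) ?_ ?_ ?_⟩⟩
  · intro s
    exact toUnit_unique _ _
  · intro s
    apply CartesianMonoidalCategory.hom_ext
    · rw [Category.assoc, lift_fst, Category.comp_id]
    · rw [Category.assoc, lift_snd, ← s.condition, ← Category.assoc]
      congr 1
      exact toUnit_unique _ _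
  · intro s m h1 h2
    rw [← h2, Category.assoc, lift_fst, Category.comp_id]

end abstract

section act

variable {S : Scheme.{u}} {G X : Over S} [GrpObj G] (a : AlgGrp.Action G X)

theorem smul_one {T : Over S} (x : T ⟶ X) : lift (1 : T ⟶ G) x ≫ a.act = x := by
  have e : lift (1 : T ⟶ G) x = lift (toUnit T) x ≫ (η[G] ▷ X) := by
    rw [lift_whiskerRight, Hom.one_def]
  rw [e, Category.assoc, a.one_act, leftUnitor_hom, lift_snd]

theorem smul_mul {T : Over S} (g h : T ⟶ G) (x : T ⟶ X) :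
    lift (g * h) x ≫ a.act = lift g (lift h x ≫ a.act) ≫ a.act := by
  have e1 : lift (lift g h) x ≫ (μ[G] ▷ X) = lift (g * h) x := by
    rw [lift_whiskerRight, ← Hom.mul_def]
  have e2 : lift (lift g h) x ≫ (α_ G G X).hom ≫ (G ◁ a.act) =
      lift g (lift h x ≫ a.act) := by
    rw [lift_lift_associator_hom_assoc, lift_whiskerLeft]
  calc lift (g * h) x ≫ a.act = (lift (lift g h) x ≫ (μ[G] ▷ X)) ≫ a.act := by rw [e1]
    _ = lift (lift g h) x ≫ ((α_ G G X).hom ≫ (G ◁ a.act) ≫ a.act) := by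
        rw [Category.assoc, a.mul_act]
    _ = (lift (lift g h) x ≫ (α_ G G X).hom ≫ (G ◁ a.act)) ≫ a.act := by
        simp only [Category.assoc]
    _ = lift g (lift h x ≫ a.act) ≫ a.act := by rw [e2]

theorem isPullback_act : IsPullback (fst G X) a.act (toUnit G) (toUnit X) := by
  have w : fst G X ≫ toUnit G = a.act ≫ toUnit X := toUnit_unique _ _
  refine ⟨⟨w⟩, ⟨PullbackCone.IsLimit.mk w
    (fun s => lift s.fst (lift (s.fst)⁻¹ s.snd ≫ a.act)) ?_ ?_ ?_⟩⟩
  · intro s
    exact lift_fst _ _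
  · intro s
    rw [← smul_mul a, mul_inv_cancel]
    exact smul_one a s.snd
  · intro s m h1 h2
    apply CartesianMonoidalCategory.hom_ext
    · rw [lift_fst, h1]
    · rw [lift_snd, ← h2, ← h1]
      have hm : m ≫ a.act = lift (m ≫ fst G X) (m ≫ snd G X) ≫ a.act := by
        rw [lift_comp_fst_snd]
      rw [hm, ← smul_mul a, inv_mul_cancel]
      exact (smul_one a _).symm

end act

section ring

theorem exists_mul_pow_eq_zero {A : Type u} [CommRing A] (p : Ideal A) [hp : p.IsPrime] (f : A)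
    (h : ∀ q : Ideal A, q.IsPrime → q ≤ p → f ∈ q) :
    ∃ s : A, s ∉ p ∧ ∃ n : ℕ, s * f ^ (n + 1) = 0 := by
  by_contra hne
  have hne' : ∀ s : A, s ∉ p → ∀ n : ℕ, s * f ^ (n + 1) ≠ 0 := fun s hs n h0 =>
    hne ⟨s, hs, n, h0⟩
  let T : Submonoid A :=
    { carrier := {t | ∃ s : A, s ∉ p ∧ ∃ n : ℕ, t = s * f ^ n}
      one_mem' := ⟨1, (Ideal.ne_top_iff_one p).mp hp.ne_top, 0, by simp⟩
      mul_mem' := by
        rintro _ _ ⟨s, hs, n, rfl⟩ ⟨s', hs', n', rfl⟩
        refine ⟨s * s', fun hss => ?_, n + n', by ring⟩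
        exact (hp.mem_or_mem hss).elim hs hs' }
  have hTmem : ∀ t, t ∈ T ↔ ∃ s : A, s ∉ p ∧ ∃ n : ℕ, t = s * f ^ n := fun t => Iff.rfl
  have h0 : (0 : A) ∉ T := by
    intro h0T
    obtain ⟨s, hs, n, h0⟩ := (hTmem 0).mp h0T
    apply hne' s hs n
    rw [pow_succ, ← _root_.mul_assoc, ← h0, zero_mul]
  have hdisj : Disjoint ((⊥ : Ideal A) : Set A) (T : Set A) := by
    rw [Set.disjoint_left]
    intro x hx hxT
    have hx0 : x = 0 := (Submodule.mem_bot A).mp hx
    exact h0 (hx0 ▸ hxT)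
  obtain ⟨q, hq, -, hqT⟩ := Ideal.exists_le_prime_disjoint (⊥ : Ideal A) T hdisj
  have hfq : f ∉ q := fun hf =>
    Set.disjoint_left.mp hqT hf
      ((hTmem f).mpr ⟨1, (Ideal.ne_top_iff_one p).mp hp.ne_top, 1, by simp⟩)
  have hqp : q ≤ p := by
    intro x hx
    by_contra hxp
    exact Set.disjoint_left.mp hqT hx ((hTmem x).mpr ⟨x, hxp, 0, by simp⟩)
  exact hfq (h q hq hqp)

end ring

section geom

theorem exists_of_isPullback {P A B S' : Scheme.{u}} {p : P ⟶ A} {q : P ⟶ B} {f : A ⟶ S'}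
    {g : B ⟶ S'} (h : IsPullback p q f g) (a' : A) (b : B) (hab : f a' = g b) :
    ∃ z : P, p z = a' ∧ q z = b := by
  obtain ⟨z, hz1, hz2⟩ := Scheme.Pullback.exists_preimage_pullback (f := f) (g := g) a' b hab
  refine ⟨h.isoPullback.inv z, ?_, ?_⟩
  · rw [← Scheme.Hom.comp_apply, h.isoPullback_inv_fst]
    exact hz1
  · rw [← Scheme.Hom.comp_apply, h.isoPullback_inv_snd]
    exact hz2

/-- In a retrocompact open subset, every point of the closure is a specialisation of a point of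
the open set. -/
theorem exists_specializes_of_mem_closure (X : Scheme.{u}) (U : X.Opens)
    (hretro : IsRetrocompact (U : Set X)) (y : X) (hy : y ∈ closure (U : Set X)) :
    ∃ u ∈ U, u ⤳ y := by
  by_contra hne
  have hne' : ∀ u : X, u ∈ U → ¬ u ⤳ y := fun u hu hs => hne ⟨u, hu, hs⟩
  obtain ⟨O, hO, hyO, -⟩ := exists_isAffineOpen_mem_and_subset (x := y) (U := ⊤) trivial
  have hcomp : IsCompact ((U : Set X) ∩ (O : Set X)) := hretro hO.isCompact O.2
  have hcov : ∀ u : X, u ∈ (U : Set X) ∩ (O : Set X) →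
      ∃ f : Γ(X, O), u ∈ X.basicOpen f ∧ X.basicOpen f ≤ U ⊓ O := by
    intro u hu
    obtain ⟨f, hf1, hf2⟩ := hO.exists_basicOpen_le (V := U ⊓ O) ⟨u, hu⟩ hu.2
    exact ⟨f, hf2, hf1⟩
  have hN : ∀ f : Γ(X, O), X.basicOpen f ≤ U ⊓ O →
      ∃ N : X.Opens, y ∈ N ∧ Disjoint (N : Set X) (X.basicOpen f : Set X) := by
    intro f hf
    obtain ⟨p, hpdef⟩ : ∃ p : PrimeSpectrum Γ(X, O), p = hO.primeIdealOf ⟨y, hyO⟩ := ⟨_, rfl⟩
    have hp : hO.fromSpec p = y := by rw [hpdef]; exact hO.fromSpec_primeIdealOf ⟨y, hyO⟩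
    have hall : ∀ q : Ideal Γ(X, O), q.IsPrime → q ≤ p.asIdeal → f ∈ q := by
      intro q hq hqp
      by_contra hfq
      have h1 : hO.fromSpec (⟨q, hq⟩ : PrimeSpectrum Γ(X, O)) ∈ X.basicOpen f :=
        (Groth.Agent.Lib.FlatClosedH4.mem_basicOpen_iff_notMem hO f ⟨q, hq⟩).mpr hfq
      have h2 : hO.fromSpec (⟨q, hq⟩ : PrimeSpectrum Γ(X, O)) ⤳ hO.fromSpec p :=
        ((PrimeSpectrum.le_iff_specializes (⟨q, hq⟩ : PrimeSpectrum Γ(X, O)) p).mp hqp).map
          hO.fromSpec.continuous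
      rw [hp] at h2
      exact hne' _ (hf h1).1 h2
    haveI : p.asIdeal.IsPrime := p.isPrime
    obtain ⟨s, hs, n, hsn⟩ := exists_mul_pow_eq_zero p.asIdeal f hall
    refine ⟨X.basicOpen s, ?_, ?_⟩
    · rw [← hp]
      exact (Groth.Agent.Lib.FlatClosedH4.mem_basicOpen_iff_notMem hO s p).mpr hs
    · have e1 : X.basicOpen (s * f ^ (n + 1)) = X.basicOpen s ⊓ X.basicOpen f := by
        rw [Scheme.basicOpen_mul, X.basicOpen_pow f (Nat.succ_pos n)]
      have e : X.basicOpen s ⊓ X.basicOpen f = ⊥ := by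
        rw [← e1, hsn, Scheme.basicOpen_zero]
      rw [Set.disjoint_left]
      intro v hv1 hv2
      have hv : v ∈ X.basicOpen s ⊓ X.basicOpen f := ⟨hv1, hv2⟩
      rw [e] at hv
      exact hv
  choose! F hF1 hF2 using hcov
  choose! N hN1 hN2 using hN
  obtain ⟨t, htsub, htcov⟩ := hcomp.elim_nhds_subcover (fun u => (X.basicOpen (F u) : Set X))
    (fun u hu => (X.basicOpen (F u)).2.mem_nhds (hF1 u hu))
  have hMopen : IsOpen (⋂ u ∈ t, (N (F u) : Set X)) :=
    isOpen_biInter_finset (fun u _ => (N (F u)).2)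
  have hyM : y ∈ ⋂ u ∈ t, (N (F u) : Set X) :=
    Set.mem_iInter₂.mpr (fun u hu => hN1 (F u) (hF2 u (htsub u hu)))
  obtain ⟨v, ⟨hvM, hvO⟩, hvU⟩ := mem_closure_iff.mp hy _ (hMopen.inter O.2) ⟨hyM, hyO⟩
  obtain ⟨u, hut, hvu⟩ : ∃ u ∈ t, v ∈ (X.basicOpen (F u) : Set X) := by
    have h1 := htcov ⟨hvU, hvO⟩
    obtain ⟨u, hu1⟩ := Set.mem_iUnion.mp h1
    obtain ⟨hut, hu2⟩ := Set.mem_iUnion.mp hu1
    exact ⟨u, hut, hu2⟩
  have hvN : v ∈ (N (F u) : Set X) := Set.mem_iInter₂.mp hvM u hut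
  exact Set.disjoint_left.mp (hN2 (F u) (hF2 u (htsub u hut))) hvN hvu

variable {k : Type u} [Field k]

/-- Generalisation of `GrpConnIrrH4.isOpen_image_of_isPullback` to a product of two different
schemes. -/
theorem isOpen_image' {P A B : Scheme.{u}}
    (p : P ⟶ A) (q : P ⟶ B) (tA : A ⟶ Spec (CommRingCat.of k))
    (tB : B ⟶ Spec (CommRingCat.of k)) (hsq : IsPullback p q tA tB)
    (Z : Set A) (hZcl : IsClosed Z) (O : Set P) (hO : IsOpen O) :
    IsOpen (q '' (p ⁻¹' Z ∩ O)) := by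
  haveI : Subsingleton ↥(Spec (CommRingCat.of k)) :=
    (inferInstance : Subsingleton (PrimeSpectrum k))
  let Bc : TopologicalSpace.Closeds ↥A := ⟨Z, hZcl⟩
  have hrB : Set.range (Scheme.IdealSheafData.vanishingIdeal Bc).subschemeι = Z := by
    rw [Scheme.IdealSheafData.range_subschemeι, Scheme.IdealSheafData.coe_support_vanishingIdeal]
    rfl
  obtain ⟨Zs, jj, hjj, hrjj⟩ : ∃ (Zs : Scheme.{u}) (jj : Zs ⟶ A),
      IsClosedImmersion jj ∧ Set.range jj = Z :=
    ⟨_, (Scheme.IdealSheafData.vanishingIdeal Bc).subschemeι, inferInstance, hrB⟩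
  have sq1 : IsPullback (pullback.snd p jj) (pullback.fst p jj) jj p :=
    (IsPullback.of_hasPullback p jj).flip
  have sq := sq1.paste_vert hsq
  haveI : UniversallyOpen (jj ≫ tA) := inferInstance
  haveI : UniversallyOpen (pullback.fst p jj ≫ q) :=
    MorphismProperty.of_isPullback (P := @UniversallyOpen) sq inferInstance
  have hopen : IsOpenMap (pullback.fst p jj ≫ q) := Scheme.Hom.isOpenMap _
  have hra : Set.range (pullback.fst p jj) = p ⁻¹' Z := by
    rw [Scheme.Pullback.range_fst, hrjj]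
  have himg : q '' (p ⁻¹' Z ∩ O) =
      (pullback.fst p jj ≫ q) '' (pullback.fst p jj ⁻¹' O) := by
    ext x
    constructor
    · rintro ⟨z, ⟨hzZ, hzO⟩, rfl⟩
      have hz : z ∈ Set.range (pullback.fst p jj) := by rw [hra]; exact hzZ
      obtain ⟨w, rfl⟩ := hz
      refine ⟨w, hzO, ?_⟩
      rw [Scheme.Hom.comp_apply]
    · rintro ⟨w, hw, rfl⟩
      refine ⟨pullback.fst p jj w, ⟨?_, hw⟩, ?_⟩
      · have hz : pullback.fst p jj w ∈ Set.range (pullback.fst p jj) :=
          Set.mem_range_self w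
        rw [hra] at hz
        exact hz
      · rw [Scheme.Hom.comp_apply]
  rw [himg]
  exact hopen _ (hO.preimage (pullback.fst p jj).continuous)

/-- A box `A × B` of irreducible closed subsets is irreducible when `A` is geometrically
irreducible. -/
theorem isIrreducible_box' {X Y : Scheme.{u}}
    (f : X ⟶ Spec (CommRingCat.of k)) (g : Y ⟶ Spec (CommRingCat.of k))
    (A : Set X) (B : Set Y) (hAcl : IsClosed A) (hBcl : IsClosed B)
    (hAi : IsIrreducible A) (hBi : IsIrreducible B)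
    (hgeom : ∀ (Zs : Scheme.{u}) (incl : Zs ⟶ X) [IsClosedImmersion incl] [IrreducibleSpace Zs],
      Set.range incl = A → GeometricallyIrreducible (incl ≫ f)) :
    IsIrreducible (pullback.fst f g ⁻¹' A ∩ pullback.snd f g ⁻¹' B) := by
  haveI : Subsingleton ↥(Spec (CommRingCat.of k)) :=
    (inferInstance : Subsingleton (PrimeSpectrum k))
  let Ac : TopologicalSpace.Closeds ↥X := ⟨A, hAcl⟩
  let Bc : TopologicalSpace.Closeds ↥Y := ⟨B, hBcl⟩
  have hrA : Set.range (Scheme.IdealSheafData.vanishingIdeal Ac).subschemeι = A := by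
    rw [Scheme.IdealSheafData.range_subschemeι, Scheme.IdealSheafData.coe_support_vanishingIdeal]
    rfl
  have hrB : Set.range (Scheme.IdealSheafData.vanishingIdeal Bc).subschemeι = B := by
    rw [Scheme.IdealSheafData.range_subschemeι, Scheme.IdealSheafData.coe_support_vanishingIdeal]
    rfl
  haveI : IrreducibleSpace ↥((Scheme.IdealSheafData.vanishingIdeal Ac).subscheme) := by
    have h1 : IsIrreducible (Set.range (Scheme.IdealSheafData.vanishingIdeal Ac).subschemeι) := by
      rw [hrA]; exact hAi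
    haveI : IrreducibleSpace ↥(Set.range (Scheme.IdealSheafData.vanishingIdeal Ac).subschemeι) :=
      isIrreducible_iff_irreducibleSpace.mp h1
    exact ((Scheme.IdealSheafData.vanishingIdeal Ac).subschemeι.isClosedEmbedding.isEmbedding.toHomeomorph).irreducibleSpace_iff.mpr
      inferInstance
  haveI : IrreducibleSpace ↥((Scheme.IdealSheafData.vanishingIdeal Bc).subscheme) := by
    have h1 : IsIrreducible (Set.range (Scheme.IdealSheafData.vanishingIdeal Bc).subschemeι) := by
      rw [hrB]; exact hBi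
    haveI : IrreducibleSpace ↥(Set.range (Scheme.IdealSheafData.vanishingIdeal Bc).subschemeι) :=
      isIrreducible_iff_irreducibleSpace.mp h1
    exact ((Scheme.IdealSheafData.vanishingIdeal Bc).subschemeι.isClosedEmbedding.isEmbedding.toHomeomorph).irreducibleSpace_iff.mpr
      inferInstance
  haveI : GeometricallyIrreducible
      ((Scheme.IdealSheafData.vanishingIdeal Ac).subschemeι ≫ f) := hgeom _ _ hrA
  haveI : UniversallyOpen
      ((Scheme.IdealSheafData.vanishingIdeal Ac).subschemeι ≫ f) := inferInstance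
  haveI : IrreducibleSpace ↥(pullback
      ((Scheme.IdealSheafData.vanishingIdeal Ac).subschemeι ≫ f)
      ((Scheme.IdealSheafData.vanishingIdeal Bc).subschemeι ≫ g)) := inferInstance
  have hrange := Scheme.Pullback.range_map
    (f := (Scheme.IdealSheafData.vanishingIdeal Ac).subschemeι ≫ f)
    (g := (Scheme.IdealSheafData.vanishingIdeal Bc).subschemeι ≫ g) f g
    (Scheme.IdealSheafData.vanishingIdeal Ac).subschemeι
    (Scheme.IdealSheafData.vanishingIdeal Bc).subschemeι (𝟙 _)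
    (by rw [Category.comp_id]) (by rw [Category.comp_id])
  rw [hrA, hrB] at hrange
  rw [← hrange, ← Set.image_univ]
  exact (IrreducibleSpace.isIrreducible_univ _).image _
    (Scheme.Hom.continuous _).continuousOn

end geom

end Groth.Agent.Lib.HomogSpH4
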