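import Mathlib
import Groth.Agent.Lib.CommClosed_helper4
import Groth.Agent.Lib.GeomIrrSch_helper4

/-! # Borel's closedness argument for quasi-compact groups, and connected families (helper4)

* `chain_stabilizes'`: increasing chains of irreducible closed subsets of a locally Noetherian
  scheme are stationary.
* `closed_pts'`: Borel's closedness argument for a quasi-compact group scheme locally of finite
  type over an algebraically closed field (not necessarily affine).
* `exists_family`: the product family attached to the irreducible components of a scheme of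
  finite type.
* `core_closed`: for `X` reduced, connected, of finite type and `f : X ⟶ G` through the unit, the
  subgroup of `G(k)` generated by `f(X(k))` is the group of rational points of a closed subgroup
  scheme through which `f` factors. -/

set_option autoImplicit false
set_option linter.unusedVariables false
set_option linter.unusedTactic false
set_option linter.unreachableTactic false
set_option linter.unusedSectionVars false
set_option linter.style.haveILetI false
set_option linter.deprecated false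
set_option maxHeartbeats 1600000

universe u

open CategoryTheory CategoryTheory.Limits MonoidalCategory CartesianMonoidalCategory MonObj GrpObj
  AlgebraicGeometry TensorProduct Topology

namespace Groth.Agent.Lib.BorelQCH4

open Groth.Agent.Lib Groth.Agent.Lib.GenSubgrpH4 Groth.Agent.Lib.CommClosedH4

/-- An increasing chain of irreducible closed subsets of a locally Noetherian scheme is
stationary. -/
theorem chain_stabilizes' {X : Scheme.{u}} [IsLocallyNoetherian X]
    (Z : ℕ → Set X) (hcl : ∀ n, IsClosed (Z n)) (hirr : ∀ n, IsIrreducible (Z n))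
    (hmono : ∀ n, Z n ⊆ Z (n + 1)) : ∃ N, ∀ n, N ≤ n → Z n = Z N := by
  obtain ⟨x, hx⟩ := (hirr 0).nonempty
  have hZm : Monotone Z := monotone_nat_of_le_succ hmono
  obtain ⟨V, j, hj, hV, hxj⟩ : ∃ (V : Scheme.{u}) (j : V ⟶ X), IsOpenImmersion j ∧ IsAffine V ∧
      x ∈ Set.range j.base :=
    ⟨X.affineCover.X (X.affineCover.idx x), X.affineCover.f (X.affineCover.idx x), inferInstance,
      inferInstance, X.affineCover.covers x⟩
  haveI := hj
  haveI := hV
  haveI : IsLocallyNoetherian V := isLocallyNoetherian_of_isOpenImmersion j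
  have hemb : IsOpenEmbedding j.base := j.isOpenEmbedding
  have hne : ∀ n, (Z n ∩ Set.range j.base).Nonempty :=
    fun n => ⟨x, hZm (Nat.zero_le n) hx, hxj⟩
  obtain ⟨N, hN⟩ := chain_stabilizes (fun n => j.base ⁻¹' Z n)
    (fun n => (hcl n).preimage j.continuous)
    (fun n => (hirr n).preimage hemb (hne n))
    (fun n => Set.preimage_mono (hmono n))
  refine ⟨N, fun n hn => ?_⟩
  have hcl_eq : ∀ m, Z m = closure (j.base '' (j.base ⁻¹' Z m)) := by
    intro m
    apply Set.Subset.antisymm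
    · have h1 : Z m ⊆ closure (Z m ∩ Set.range j.base) :=
        subset_closure_inter_of_isPreirreducible_of_isOpen (hirr m).isPreirreducible
          hemb.isOpen_range (hne m)
      rw [Set.image_preimage_eq_inter_range]
      exact h1
    · refine closure_minimal ?_ (hcl m)
      exact Set.image_preimage_subset _ _
  have e : j.base ⁻¹' Z n = j.base ⁻¹' Z N := hN n hn
  calc Z n = closure (j.base '' (j.base ⁻¹' Z n)) := hcl_eq n
    _ = closure (j.base '' (j.base ⁻¹' Z N)) := by rw [e]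
    _ = Z N := (hcl_eq N).symm

variable {k : Type u} [Field k]

local notation "𝟙ₖ" => 𝟙_ (Over (Spec (CommRingCat.of k)))

/-- Morphisms from a reduced scheme lift through a closed immersion containing their range. -/
theorem lift_red {G D T : Over (Spec (CommRingCat.of k))} (i : D ⟶ G)
    [IsClosedImmersion i.left] (g : T ⟶ G) [AlgebraicGeometry.IsReduced T.left]
    (h : Set.range g.left.base ⊆ Set.range i.left.base) : ∃ d : T ⟶ D, d ≫ i = g := by
  have k1 : i.left.ker ≤ g.left.ker := ker_le_ker_of_range_subset i.left g.left h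
  obtain ⟨j, hj⟩ : ∃ j : T.left ⟶ D.left, j ≫ i.left = g.left :=
    ⟨IsClosedImmersion.lift i.left g.left k1, IsClosedImmersion.lift_fac _ _ _⟩
  have wJ : j ≫ D.hom = T.hom := by
    rw [← Over.w i, ← Category.assoc, hj]; exact Over.w g
  refine ⟨Over.homMk j wJ, ?_⟩
  ext1
  exact hj

/-- Rational points lying in the range of an open immersion lift through it. -/
theorem kpt_lift_imm {X Uo : Over (Spec (CommRingCat.of k))} (jU : Uo ⟶ X)
    [IsOpenImmersion jU.left] (x : 𝟙ₖ ⟶ X)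
    (hx : x.left.base (IsLocalRing.closedPoint k) ∈ Set.range jU.left.base) :
    ∃ xU : 𝟙ₖ ⟶ Uo, xU ≫ jU = x := by
  haveI hsub : Subsingleton ↥(Spec (CommRingCat.of k)) :=
    (inferInstance : Subsingleton (PrimeSpectrum k))
  have hr : Set.range x.left.base ⊆ Set.range jU.left.base := by
    rintro _ ⟨t, rfl⟩
    have ht : t = IsLocalRing.closedPoint k := @Subsingleton.elim _ hsub _ _
    exact (congrArg (fun q => x.left.base q ∈ Set.range jU.left.base) ht).mpr hx
  refine ⟨Over.homMk (IsOpenImmersion.lift jU.left x.left hr) ?_, ?_⟩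
  · rw [← Over.w jU, IsOpenImmersion.lift_fac_assoc]
    exact Over.w x
  · ext1
    exact IsOpenImmersion.lift_fac jU.left x.left hr

/-- The source of an open immersion with irreducible range is irreducible. -/
theorem irr_of_openImm {T Y : Scheme.{u}} (j : T ⟶ Y) [IsOpenImmersion j] (V : Set Y)
    (hV : IsIrreducible V) (hr : Set.range j.base = V) : IrreducibleSpace T := by
  have hne : (V ∩ Set.range j.base).Nonempty := by
    rw [hr, Set.inter_self]; exact hV.nonempty
  have h1 : IsIrreducible (j.base ⁻¹' V) := hV.preimage j.isOpenEmbedding hne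
  have h2 : j.base ⁻¹' V = Set.univ := by
    apply Set.eq_univ_of_forall
    intro t
    show j.base t ∈ V
    rw [← hr]
    exact ⟨t, rfl⟩
  rw [h2] at h1
  exact (irreducibleSpace_def _).mpr h1

set_option maxHeartbeats 6400000 in
/-- **Borel's closedness argument**, for a quasi-compact group scheme locally of finite type. -/
theorem closed_pts' [IsAlgClosed k] (G X : Over (Spec (CommRingCat.of k))) [GrpObj G]
    [CompactSpace G.left] [LocallyOfFiniteType G.hom] [IrreducibleSpace X.left]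
    [LocallyOfFiniteType X.hom] [QuasiCompact X.hom] (c : X ⟶ G) (σ : X ⟶ X)
    (hσ : σ ≫ c = c⁻¹)
    (e₀ : 𝟙_ (Over (Spec (CommRingCat.of k))) ⟶ X) (he : e₀ ≫ c = 1)
    (D : Over (Spec (CommRingCat.of k))) [GrpObj D] (i : D ⟶ G) [IsMonHom i]
    [IsClosedImmersion i.left]
    (hrange : Set.range i.left.base =
      closure ((fun s : (𝟙_ (Over (Spec (CommRingCat.of k))) ⟶ G) =>
        s.left.base (IsLocalRing.closedPoint k)) ''
          ((Subgroup.closure
            (Set.range fun x : 𝟙_ (Over (Spec (CommRingCat.of k))) ⟶ X => x ≫ c) :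
            Subgroup (𝟙_ (Over (Spec (CommRingCat.of k))) ⟶ G)) :
              Set (𝟙_ (Over (Spec (CommRingCat.of k))) ⟶ G))))
    (d : 𝟙_ (Over (Spec (CommRingCat.of k))) ⟶ D) :
    d ≫ i ∈ Subgroup.closure
      (Set.range fun x : 𝟙_ (Over (Spec (CommRingCat.of k))) ⟶ X => x ≫ c) := by
  haveI hsub : Subsingleton ↥(Spec (CommRingCat.of k)) :=
    (inferInstance : Subsingleton (PrimeSpectrum k))
  obtain ⟨Γa, hΓa⟩ : ∃ Γa : Subgroup (𝟙_ (Over (Spec (CommRingCat.of k))) ⟶ G),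
      Γa = Subgroup.closure
        (Set.range fun x : 𝟙_ (Over (Spec (CommRingCat.of k))) ⟶ X => x ≫ c) := ⟨_, rfl⟩
  rw [← hΓa] at hrange ⊢
  obtain ⟨P, hP⟩ : ∃ P : Set G.left,
      P = (fun s : (𝟙_ (Over (Spec (CommRingCat.of k))) ⟶ G) =>
        s.left.base (IsLocalRing.closedPoint k)) ''
          (Γa : Set (𝟙_ (Over (Spec (CommRingCat.of k))) ⟶ G)) := ⟨_, rfl⟩
  rw [← hP] at hrange
  have hPmem : ∀ s : 𝟙_ (Over (Spec (CommRingCat.of k))) ⟶ G, s ∈ Γa →
      s.left.base (IsLocalRing.closedPoint k) ∈ P := by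
    intro s hs
    rw [hP]
    exact ⟨s, hs, rfl⟩
  haveI hqcG : QuasiCompact G.hom := (quasiCompact_iff_compactSpace G.hom).mpr inferInstance
  haveI hgiX : GeometricallyIrreducible X.hom := Groth.Agent.Lib.GeomIrrSchH4.main2500 X.hom
  haveI hNG : IsNoetherian G.left := Groth.Agent.Lib.GenFlatHom.isNoetherian_of_ft G
  haveI hJG : JacobsonSpace ↥G.left := LocallyOfFiniteType.jacobsonSpace G.hom
  -- the chain of closures of word images
  obtain ⟨Z, hZ⟩ : ∃ Z : ℕ → Set G.left,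
      Z = fun n => closure (Set.range (ww c n).left.base) := ⟨_, rfl⟩
  have hZcl : ∀ n, IsClosed (Z n) := by
    intro n; rw [hZ]; exact isClosed_closure
  have hZirr : ∀ n, IsIrreducible (Z n) := by
    intro n
    rw [hZ]
    haveI := irr_YY X n
    have h0 : IsIrreducible (Set.range (ww c n).left.base) := by
      rw [← Set.image_univ]
      exact (IrreducibleSpace.isIrreducible_univ _).image _
        (ww c n).left.continuous.continuousOn
    exact h0.closure
  have hZmono : ∀ n, Z n ⊆ Z (n + 1) := by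
    intro n; rw [hZ]; exact closure_mono (range_ww_mono c e₀ he n)
  have hZm : Monotone Z := monotone_nat_of_le_succ hZmono
  have hWZ : ∀ n, Set.range (ww c n).left.base ⊆ Z n := by
    intro n; rw [hZ]; exact subset_closure
  obtain ⟨N, hN⟩ := chain_stabilizes' Z hZcl hZirr hZmono
  have hZN : ∀ n, Z n ⊆ Z N := by
    intro n
    rcases le_total n N with h | h
    · exact hZm h
    · exact (hN n h).subset
  have hΓmem : ∀ n (y : 𝟙_ (Over (Spec (CommRingCat.of k))) ⟶ YY X n),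
      y ≫ ww c n ∈ Γa := by
    intro n y; rw [hΓa]; exact ww_pts_mem c n y
  have hC : IsClosed (Set.range i.left.base) := i.left.isClosedEmbedding.isClosed_range
  have hri : Set.range i.left.base = Z N := by
    apply Set.Subset.antisymm
    · rw [hrange]
      refine closure_minimal ?_ (hZcl N)
      rw [hP]
      rintro _ ⟨s, hs, rfl⟩
      have hs' : s ∈ Subgroup.closure
          (Set.range fun x : 𝟙_ (Over (Spec (CommRingCat.of k))) ⟶ X => x ≫ c) := by
        rw [← hΓa]; exact hs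
      obtain ⟨n, y, rfl⟩ := mem_ww_pts c σ hσ s hs'
      exact hZN n (hWZ n ⟨y.left.base (IsLocalRing.closedPoint k), rfl⟩)
    · have h1 : Set.range (ww c N).left.base ⊆ Set.range i.left.base := by
        rintro _ ⟨t, rfl⟩
        by_contra hcon
        haveI := lft_YY X N
        obtain ⟨y, hy⟩ := kpt_in_lc (YY X N)
          ((ww c N).left.base ⁻¹' (Set.range i.left.base)ᶜ)
          ((hC.isOpen_compl.preimage (ww c N).left.continuous).isLocallyClosed) ⟨t, hcon⟩
        apply hy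
        show (y ≫ ww c N).left.base (IsLocalRing.closedPoint k) ∈ Set.range i.left.base
        rw [hrange]
        exact subset_closure (hPmem _ (hΓmem N y))
      rw [hZ]
      exact closure_minimal h1 hC
  -- constructibility of the word image
  haveI hlftY := lft_YY X N
  haveI hqcY := qc_YY X N
  haveI hNY : IsNoetherian (YY X N).left :=
    Groth.Agent.Lib.GenFlatHom.isNoetherian_of_ft (YY X N)
  haveI : LocallyOfFiniteType (ww c N).left := Groth.Agent.Lib.GenFlatHom.lft_hom (ww c N)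
  have hc : IsConstructible (Set.range (ww c N).left.base) := by
    rw [← Set.image_univ]
    exact (ww c N).left.isConstructible_image IsConstructible.univ
  have hne0 : (Set.range (ww c N).left.base).Nonempty := by
    haveI := irr_YY X N
    obtain ⟨t⟩ := (inferInstance : Nonempty (YY X N).left)
    exact ⟨_, t, rfl⟩
  obtain ⟨U₀, hU₀, hne, hsubU⟩ :=
    (Groth.Agent.Lib.ConstrNF.finLC_of_isConstructible hc).exists_open hne0
  have hZNdef : Z N = closure (Set.range (ww c N).left.base) := by rw [hZ]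
  rw [← hZNdef] at hne hsubU
  -- translations
  obtain ⟨z, hz⟩ : ∃ z : 𝟙_ (Over (Spec (CommRingCat.of k))) ⟶ G, z = d ≫ i := ⟨_, rfl⟩
  rw [← hz]
  obtain ⟨φD, hφD⟩ : ∃ φD : D ⟶ D, φD = (toUnit D ≫ d) * (𝟙 D)⁻¹ := ⟨_, rfl⟩
  obtain ⟨ψD, hψD⟩ : ∃ ψD : D ⟶ D, ψD = (𝟙 D)⁻¹ * (toUnit D ≫ d) := ⟨_, rfl⟩
  obtain ⟨φG, hφG⟩ : ∃ φG : G ⟶ G, φG = (toUnit G ≫ z) * (𝟙 G)⁻¹ := ⟨_, rfl⟩
  have h1 : ψD ≫ φD = 𝟙 D := by
    rw [hφD, MonObj.comp_mul, GrpObj.comp_inv, Category.comp_id, ← Category.assoc,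
      toUnit_unique (ψD ≫ toUnit D) (toUnit D), hψD]
    group
  have h2 : φD ≫ i = i ≫ φG := by
    have eL : φD ≫ i = (toUnit D ≫ z) * i⁻¹ := by
      rw [hφD, MonObj.mul_comp, GrpObj.inv_comp, Category.id_comp, Category.assoc, ← hz]
    have eR : i ≫ φG = (toUnit D ≫ z) * i⁻¹ := by
      rw [hφG, MonObj.comp_mul, GrpObj.comp_inv, Category.comp_id, ← Category.assoc,
        toUnit_unique (i ≫ toUnit G) (toUnit D)]
    rw [eL, eR]
  obtain ⟨u₀, hu₀Z, hu₀U⟩ := hne
  have hu₀r : u₀ ∈ Set.range i.left.base := by rw [hri]; exact hu₀Z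
  obtain ⟨d₀, hd₀⟩ := hu₀r
  have hφψ : ∀ t : D.left,
      φG.left.base (i.left.base (ψD.left.base t)) = i.left.base t := by
    intro t
    have e1 : (ψD ≫ φD ≫ i).left.base t = i.left.base t := by
      rw [← Category.assoc, h1, Category.id_comp]
    rw [h2] at e1
    exact e1
  have hφr : ∀ t : D.left, φG.left.base (i.left.base t) ∈ Set.range i.left.base := by
    intro t
    exact ⟨φD.left.base t, congrArg (fun w : D ⟶ G => w.left.base t) h2⟩
  have hx₀ : (Z N ∩ φG.left.base ⁻¹' U₀).Nonempty := by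
    refine ⟨i.left.base (ψD.left.base d₀), ?_, ?_⟩
    · rw [← hri]; exact ⟨_, rfl⟩
    · show φG.left.base (i.left.base (ψD.left.base d₀)) ∈ U₀
      rw [hφψ d₀, hd₀]; exact hu₀U
  have hLne : (Z N ∩ (U₀ ∩ φG.left.base ⁻¹' U₀)).Nonempty :=
    (hZirr N).isPreirreducible U₀ (φG.left.base ⁻¹' U₀) hU₀
      (hU₀.preimage φG.left.continuous) ⟨u₀, hu₀Z, hu₀U⟩ hx₀
  have hLlc : IsLocallyClosed (Z N ∩ (U₀ ∩ φG.left.base ⁻¹' U₀)) :=
    (hZcl N).isLocallyClosed.inter
      (hU₀.inter (hU₀.preimage φG.left.continuous)).isLocallyClosed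
  obtain ⟨v, hvZ, hvU, hvφ⟩ := kpt_in_lc G _ hLlc hLne
  have hv : v ∈ Γa := by
    rw [hΓa]
    exact mem_of_pt_range c N v _ (hsubU ⟨hvZ, hvU⟩)
  have hvφ' : v ≫ φG = z * v⁻¹ := by
    rw [hφG, MonObj.comp_mul, GrpObj.comp_inv, Category.comp_id, ← Category.assoc,
      toUnit_unique (v ≫ toUnit G) (𝟙 _), Category.id_comp]
  have hv2 : z * v⁻¹ ∈ Γa := by
    rw [← hvφ', hΓa]
    refine mem_of_pt_range c N (v ≫ φG) (IsLocalRing.closedPoint k) (hsubU ⟨?_, hvφ⟩)
    have hvr : v.left.base (IsLocalRing.closedPoint k) ∈ Set.range i.left.base := by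
      rw [hri]; exact hvZ
    obtain ⟨d₁, hd₁⟩ := hvr
    rw [← hri]
    show φG.left.base (v.left.base (IsLocalRing.closedPoint k)) ∈ Set.range i.left.base
    rw [← hd₁]
    exact hφr d₁
  have hfin := Γa.mul_mem hv2 hv
  rwa [inv_mul_cancel_right] at hfin


/-- The open part of an irreducible component not meeting the other components, as a scheme. -/
theorem exists_piece (X : Over (Spec (CommRingCat.of k)))
    [LocallyOfFiniteType X.hom] [QuasiCompact X.hom] (Z : Set X.left)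
    (hZ : Z ∈ irreducibleComponents ↥X.left) :
    ∃ (V : Set X.left) (Uo : Over (Spec (CommRingCat.of k))) (jU : Uo ⟶ X), IsOpen V ∧
      closure V = Z ∧ IsOpenImmersion jU.left ∧ Set.range jU.left.base = V ∧
      IrreducibleSpace ↥Uo.left ∧ LocallyOfFiniteType Uo.hom ∧ QuasiCompact Uo.hom ∧
      V.Nonempty := by
  haveI hNX : IsNoetherian X.left := Groth.Agent.Lib.GenFlatHom.isNoetherian_of_ft X
  have hfin : (irreducibleComponents ↥X.left).Finite :=
    finite_irreducibleComponents_of_isNoetherian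
  obtain ⟨V, hVdef⟩ : ∃ V : Set X.left,
      V = (⋃₀ (irreducibleComponents ↥X.left \ {Z}))ᶜ := ⟨_, rfl⟩
  have hVcl : closure V = Z := by
    rw [hVdef]
    exact closure_sUnion_irreducibleComponents_sdiff_singleton hfin Z hZ
  have hVopen : IsOpen V := by
    rw [hVdef, isOpen_compl_iff, Set.sUnion_eq_biUnion]
    exact hfin.sdiff.isClosed_biUnion fun W hW => isClosed_of_mem_irreducibleComponents W hW.1
  have hVirr : IsIrreducible V := by
    rw [← isIrreducible_iff_closure, hVcl]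
    exact hZ.1
  obtain ⟨U, hU⟩ : ∃ U : X.left.Opens, (U : Set X.left) = V := ⟨⟨V, hVopen⟩, rfl⟩
  have hrU : Set.range U.ι.base = V := (Scheme.Opens.range_ι U).trans hU
  refine ⟨V, Over.mk (U.ι ≫ X.hom), Over.homMk U.ι rfl, hVopen, hVcl, ?_, hrU, ?_, ?_, ?_,
    hVirr.nonempty⟩
  · show IsOpenImmersion U.ι
    infer_instance
  · exact irr_of_openImm U.ι V hVirr hrU
  · show LocallyOfFiniteType (U.ι ≫ X.hom)
    infer_instance
  · show QuasiCompact (U.ι ≫ X.hom)
    infer_instance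

set_option maxHeartbeats 6400000 in
/-- The product family attached to a list of irreducible components. -/
theorem exists_family [IsAlgClosed k] (G X : Over (Spec (CommRingCat.of k))) [GrpObj G]
    [LocallyOfFiniteType X.hom] [QuasiCompact X.hom] (f : X ⟶ G)
    (L : List (Set X.left)) (hL : ∀ Z ∈ L, Z ∈ irreducibleComponents ↥X.left) :
    ∃ (Y : Over (Spec (CommRingCat.of k))) (F : Y ⟶ G) (y₀ : 𝟙ₖ ⟶ Y),
      y₀ ≫ F = 1 ∧ IrreducibleSpace ↥Y.left ∧ LocallyOfFiniteType Y.hom ∧ QuasiCompact Y.hom ∧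
      (∀ w : 𝟙ₖ ⟶ Y, w ≫ F ∈ Subgroup.closure (Set.range fun x : 𝟙ₖ ⟶ X => x ≫ f)) ∧
      ∀ Z ∈ L, ∃ V : Set X.left, IsOpen V ∧ closure V = Z ∧
        ∃ y : 𝟙ₖ ⟶ X, ∀ x : 𝟙ₖ ⟶ X, x.left.base (IsLocalRing.closedPoint k) ∈ V →
          ∃ w : 𝟙ₖ ⟶ Y, w ≫ F = (y ≫ f)⁻¹ * (x ≫ f) := by
  haveI hsub : Subsingleton ↥(Spec (CommRingCat.of k)) :=
    (inferInstance : Subsingleton (PrimeSpectrum k))
  induction L with
  | nil =>
    refine ⟨𝟙ₖ, 1, 𝟙 _, ?_, ?_, ?_, ?_, ?_, ?_⟩
    · exact Category.id_comp _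
    · show IrreducibleSpace ↥(Spec (CommRingCat.of k))
      exact (inferInstance : IrreducibleSpace (PrimeSpectrum k))
    · show LocallyOfFiniteType (𝟙 (Spec (CommRingCat.of k)))
      infer_instance
    · show QuasiCompact (𝟙 (Spec (CommRingCat.of k)))
      infer_instance
    · intro w
      rw [MonObj.comp_one]
      exact Subgroup.one_mem _
    · intro Z hZ
      cases hZ
  | cons Z L ih =>
    obtain ⟨Y, F, y₀, hy₀, hYirr, hYlft, hYqc, hYA, hYL⟩ :=
      ih (fun Z' h => hL Z' (List.mem_cons.mpr (Or.inr h)))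
    have hZ : Z ∈ irreducibleComponents ↥X.left := hL Z (List.mem_cons.mpr (Or.inl rfl))
    obtain ⟨V, Uo, jU, hVopen, hVcl, hjUo, hrU, hUirr, hUlft, hUqc, hVne⟩ := exists_piece X Z hZ
    haveI := hjUo
    haveI := hUirr
    haveI := hUlft
    haveI := hUqc
    haveI := hYirr
    haveI := hYlft
    haveI := hYqc
    obtain ⟨y, hyV⟩ := kpt_in_lc X V hVopen.isLocallyClosed hVne
    obtain ⟨yU, hyU⟩ := kpt_lift_imm jU y (by rw [hrU]; exact hyV)
    obtain ⟨φ, hφ⟩ : ∃ φ : Uo ⟶ G, φ = (toUnit Uo ≫ (y ≫ f))⁻¹ * (jU ≫ f) := ⟨_, rfl⟩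
    have hφpt : ∀ u : 𝟙ₖ ⟶ Uo, u ≫ φ = (y ≫ f)⁻¹ * ((u ≫ jU) ≫ f) := by
      intro u
      rw [hφ, MonObj.comp_mul, GrpObj.comp_inv, ← Category.assoc u (toUnit Uo) (y ≫ f),
        toUnit_unique (u ≫ toUnit Uo) (𝟙 _), Category.id_comp, Category.assoc]
    have hyUφ : yU ≫ φ = 1 := by
      rw [hφpt, hyU, _root_.inv_mul_cancel]
    obtain ⟨F', hF'⟩ : ∃ F' : Y ⊗ Uo ⟶ G, F' = (fst Y Uo ≫ F) * (snd Y Uo ≫ φ) := ⟨_, rfl⟩
    have hF'pt : ∀ w : 𝟙ₖ ⟶ Y ⊗ Uo,
        w ≫ F' = ((w ≫ fst Y Uo) ≫ F) * ((w ≫ snd Y Uo) ≫ φ) := by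
      intro w
      rw [hF', MonObj.comp_mul, Category.assoc, Category.assoc]
    refine ⟨Y ⊗ Uo, F', lift y₀ yU, ?_, ?_, ?_, ?_, ?_, ?_⟩
    · rw [hF'pt, lift_fst, lift_snd, hy₀, hyUφ, _root_.one_mul]
    · haveI : GeometricallyIrreducible Uo.hom := Groth.Agent.Lib.GeomIrrSchH4.main2500 Uo.hom
      haveI : UniversallyOpen Uo.hom := inferInstance
      show IrreducibleSpace ↥(pullback Y.hom Uo.hom)
      infer_instance
    · show LocallyOfFiniteType (pullback.fst Y.hom Uo.hom ≫ Y.hom)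
      infer_instance
    · show QuasiCompact (pullback.fst Y.hom Uo.hom ≫ Y.hom)
      infer_instance
    · intro w
      rw [hF'pt, hφpt]
      exact Subgroup.mul_mem _ (hYA _)
        (Subgroup.mul_mem _ (Subgroup.inv_mem _ (Subgroup.subset_closure ⟨y, rfl⟩))
          (Subgroup.subset_closure ⟨(w ≫ snd Y Uo) ≫ jU, rfl⟩))
    · intro Z' hZ'
      rcases List.mem_cons.mp hZ' with h | h
      · rw [h]
        refine ⟨V, hVopen, hVcl, y, fun x hx => ?_⟩
        obtain ⟨xU, hxU⟩ := kpt_lift_imm jU x (by rw [hrU]; exact hx)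
        refine ⟨lift y₀ xU, ?_⟩
        rw [hF'pt, lift_fst, lift_snd, hy₀, hφpt, hxU, _root_.one_mul]
      · obtain ⟨V', hV'o, hV'cl, y', hy'⟩ := hYL Z' h
        refine ⟨V', hV'o, hV'cl, y', fun x hx => ?_⟩
        obtain ⟨w, hw⟩ := hy' x hx
        refine ⟨lift w yU, ?_⟩
        rw [hF'pt, lift_fst, lift_snd, hw, hyUφ, _root_.mul_one]


set_option maxHeartbeats 12800000 in
/-- **Connected families.** Over an algebraically closed field, let `X` be reduced, connected and
of finite type and `f : X ⟶ G` a morphism to a quasi-compact group locally of finite type whose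
image contains the unit. Then there is a closed subgroup scheme `D` of `G` through which `f`
factors and all of whose rational points are words in the `f(x)^{±1}`, `x ∈ X(k)`. -/
theorem core_closed [IsAlgClosed k] (G X : Over (Spec (CommRingCat.of k))) [GrpObj G]
    [LocallyOfFiniteType G.hom] [CompactSpace G.left]
    [LocallyOfFiniteType X.hom] [QuasiCompact X.hom] [AlgebraicGeometry.IsReduced X.left]
    [ConnectedSpace X.left] (f : X ⟶ G)
    (he : ∃ x : X.left, f.left.base x ∈ Set.range (η[G] : 𝟙ₖ ⟶ G).left.base) :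
    ∃ (D : Over (Spec (CommRingCat.of k))) (_ : GrpObj D) (i : D ⟶ G), IsMonHom i ∧
      IsClosedImmersion i.left ∧ (∃ f' : X ⟶ D, f' ≫ i = f) ∧
      ∀ d : 𝟙ₖ ⟶ D, d ≫ i ∈ Subgroup.closure (Set.range fun x : 𝟙ₖ ⟶ X => x ≫ f) := by
  haveI hsub : Subsingleton ↥(Spec (CommRingCat.of k)) :=
    (inferInstance : Subsingleton (PrimeSpectrum k))
  haveI hNX : IsNoetherian X.left := Groth.Agent.Lib.GenFlatHom.isNoetherian_of_ft X
  have hfin : (irreducibleComponents ↥X.left).Finite :=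
    finite_irreducibleComponents_of_isNoetherian
  obtain ⟨Y, F, y₀, hy₀, hYirr, hYlft, hYqc, hYA, hYL⟩ :=
    exists_family G X f hfin.toFinset.toList
      (fun Z hZ => hfin.mem_toFinset.mp (Finset.mem_toList.mp hZ))
  haveI := hYirr
  haveI := hYlft
  haveI := hYqc
  have hYL' : ∀ Z ∈ irreducibleComponents ↥X.left, ∃ V : Set X.left, IsOpen V ∧ closure V = Z ∧
      ∃ y : 𝟙ₖ ⟶ X, ∀ x : 𝟙ₖ ⟶ X, x.left.base (IsLocalRing.closedPoint k) ∈ V →
        ∃ w : 𝟙ₖ ⟶ Y, w ≫ F = (y ≫ f)⁻¹ * (x ≫ f) :=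
    fun Z hZ => hYL Z (Finset.mem_toList.mpr (hfin.mem_toFinset.mpr hZ))
  obtain ⟨A, hA⟩ : ∃ A : Subgroup (𝟙ₖ ⟶ G),
      A = Subgroup.closure (Set.range fun x : 𝟙ₖ ⟶ X => x ≫ f) := ⟨_, rfl⟩
  rw [← hA]
  rw [← hA] at hYA
  -- the symmetric family on `Y ⊗ Y`
  obtain ⟨c, hc⟩ : ∃ c : Y ⊗ Y ⟶ G, c = (fst Y Y ≫ F) * (snd Y Y ≫ F)⁻¹ := ⟨_, rfl⟩
  obtain ⟨σ, hσd⟩ : ∃ σ : Y ⊗ Y ⟶ Y ⊗ Y, σ = lift (snd Y Y) (fst Y Y) := ⟨_, rfl⟩
  have hσ : σ ≫ c = c⁻¹ := by
    rw [hc, hσd, MonObj.comp_mul, GrpObj.comp_inv, lift_fst_assoc, lift_snd_assoc,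
      _root_.mul_inv_rev, _root_.inv_inv]
  have hcpt : ∀ w : 𝟙ₖ ⟶ Y ⊗ Y,
      w ≫ c = ((w ≫ fst Y Y) ≫ F) * ((w ≫ snd Y Y) ≫ F)⁻¹ := by
    intro w
    rw [hc, MonObj.comp_mul, GrpObj.comp_inv, Category.assoc, Category.assoc]
  have he₀ : lift y₀ y₀ ≫ c = 1 := by
    rw [hcpt, lift_fst, lift_snd, hy₀, _root_.inv_one, _root_.mul_one]
  obtain ⟨Ac, hAc⟩ : ∃ Ac : Subgroup (𝟙ₖ ⟶ G),
      Ac = Subgroup.closure (Set.range fun x : 𝟙ₖ ⟶ Y ⊗ Y => x ≫ c) := ⟨_, rfl⟩
  obtain ⟨D, grpD, i, hmon, hcl, -, hrange⟩ :=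
    Groth.Agent.Lib.ZarClosSubH4.exists_closure_of_subgroup k G Ac
  haveI := hmon
  haveI := hcl
  haveI hYYirr : IrreducibleSpace ↥(Y ⊗ Y).left := by
    haveI : GeometricallyIrreducible Y.hom := Groth.Agent.Lib.GeomIrrSchH4.main2500 Y.hom
    haveI : UniversallyOpen Y.hom := inferInstance
    show IrreducibleSpace ↥(pullback Y.hom Y.hom)
    infer_instance
  haveI hYYlft : LocallyOfFiniteType (Y ⊗ Y).hom := by
    show LocallyOfFiniteType (pullback.fst Y.hom Y.hom ≫ Y.hom)
    infer_instance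
  haveI hYYqc : QuasiCompact (Y ⊗ Y).hom := by
    show QuasiCompact (pullback.fst Y.hom Y.hom ≫ Y.hom)
    infer_instance
  have hB : ∀ d : 𝟙ₖ ⟶ D, d ≫ i ∈ Ac := by
    intro d
    rw [hAc]
    exact closed_pts' G (Y ⊗ Y) c σ hσ (lift y₀ y₀) he₀ D i (by rw [← hAc]; exact hrange) d
  have hAcA : Ac ≤ A := by
    rw [hAc]
    refine (Subgroup.closure_le A).mpr ?_
    rintro _ ⟨w, rfl⟩
    show w ≫ c ∈ A
    rw [hcpt]
    exact A.mul_mem (hYA _) (A.inv_mem (hYA _))
  have hFAc : ∀ w : 𝟙ₖ ⟶ Y, w ≫ F ∈ Ac := by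
    intro w
    rw [hAc]
    refine Subgroup.subset_closure ⟨lift w y₀, ?_⟩
    show lift w y₀ ≫ c = w ≫ F
    rw [hcpt, lift_fst, lift_snd, hy₀, _root_.inv_one, _root_.mul_one]
  -- rational points of `D`
  have hC : IsClosed (Set.range i.left.base) := i.left.isClosedEmbedding.isClosed_range
  have ha : ∀ a : 𝟙ₖ ⟶ G, a ∈ Ac →
      a.left.base (IsLocalRing.closedPoint k) ∈ Set.range i.left.base := by
    intro a haA
    rw [hrange]
    exact subset_closure ⟨a, haA, rfl⟩
  haveI hredk : AlgebraicGeometry.IsReduced (𝟙ₖ).left := by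
    show AlgebraicGeometry.IsReduced (Spec (CommRingCat.of k))
    infer_instance
  have hb : ∀ g : 𝟙ₖ ⟶ G,
      g.left.base (IsLocalRing.closedPoint k) ∈ Set.range i.left.base → g ∈ Ac := by
    intro g hg
    have hr : Set.range g.left.base ⊆ Set.range i.left.base := by
      rintro _ ⟨t, rfl⟩
      have ht : t = IsLocalRing.closedPoint k := @Subsingleton.elim _ hsub _ _
      exact (congrArg (fun q => g.left.base q ∈ Set.range i.left.base) ht).mpr hg
    obtain ⟨d, hd⟩ := lift_red i g hr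
    rw [← hd]
    exact hB d
  -- each component is mapped into a coset of `D`
  have hcomp : ∀ Z ∈ irreducibleComponents ↥X.left, ∃ y : 𝟙ₖ ⟶ X, ∀ x : 𝟙ₖ ⟶ X,
      x.left.base (IsLocalRing.closedPoint k) ∈ Z → (y ≫ f)⁻¹ * (x ≫ f) ∈ Ac := by
    intro Z hZ
    obtain ⟨V, hVo, hVcl, y, hy⟩ := hYL' Z hZ
    refine ⟨y, ?_⟩
    obtain ⟨m, hm⟩ : ∃ m : X ⟶ G, m = (toUnit X ≫ (y ≫ f))⁻¹ * f := ⟨_, rfl⟩
    have hmpt : ∀ x : 𝟙ₖ ⟶ X, x ≫ m = (y ≫ f)⁻¹ * (x ≫ f) := by
      intro x
      rw [hm, MonObj.comp_mul, GrpObj.comp_inv, ← Category.assoc x (toUnit X) (y ≫ f),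
        toUnit_unique (x ≫ toUnit X) (𝟙 _), Category.id_comp]
    have hVsub : V ⊆ m.left.base ⁻¹' Set.range i.left.base := by
      intro v hv
      by_contra hcon
      obtain ⟨x, hx⟩ := kpt_in_lc X (V ∩ m.left.base ⁻¹' (Set.range i.left.base)ᶜ)
        ((hVo.inter (hC.isOpen_compl.preimage m.left.continuous)).isLocallyClosed)
        ⟨v, hv, hcon⟩
      obtain ⟨w, hw⟩ := hy x hx.1
      have h1 : x ≫ m ∈ Ac := by
        rw [hmpt, ← hw]
        exact hFAc w
      exact hx.2 (ha _ h1)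
    have hZsub : Z ⊆ m.left.base ⁻¹' Set.range i.left.base := by
      rw [← hVcl]
      exact closure_minimal hVsub (hC.preimage m.left.continuous)
    intro x hx
    rw [← hmpt]
    exact hb _ (hZsub hx)
  -- the preimage of `D` is open and closed
  obtain ⟨S, hS⟩ : ∃ S : Set X.left, S = f.left.base ⁻¹' Set.range i.left.base := ⟨_, rfl⟩
  have hScl : IsClosed S := by
    rw [hS]
    exact hC.preimage f.left.continuous
  have hSpt : ∀ x : 𝟙ₖ ⟶ X, x.left.base (IsLocalRing.closedPoint k) ∈ S ↔ x ≫ f ∈ Ac := by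
    intro x
    rw [hS]
    exact ⟨fun h => hb _ h, fun h => ha _ h⟩
  have hdich : ∀ Z ∈ irreducibleComponents ↥X.left, Z ⊆ S ∨ Z ⊆ Sᶜ := by
    intro Z hZ
    obtain ⟨y, hy⟩ := hcomp Z hZ
    have hZcl : IsClosed Z := isClosed_of_mem_irreducibleComponents Z hZ
    by_cases hyA : y ≫ f ∈ Ac
    · left
      intro z hz
      by_contra hcon
      obtain ⟨x, hx⟩ := kpt_in_lc X (Z ∩ Sᶜ)
        (hZcl.isLocallyClosed.inter hScl.isOpen_compl.isLocallyClosed) ⟨z, hz, hcon⟩
      have h1 := hy x hx.1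
      have h2 : x ≫ f ∈ Ac := by
        have h3 := Ac.mul_mem hyA h1
        rwa [_root_.mul_inv_cancel_left] at h3
      exact hx.2 ((hSpt x).mpr h2)
    · right
      intro z hz hzS
      obtain ⟨x, hx⟩ := kpt_in_lc X (Z ∩ S) (hZcl.inter hScl).isLocallyClosed ⟨z, hz, hzS⟩
      have h1 := hy x hx.1
      have h2 : x ≫ f ∈ Ac := (hSpt x).mp hx.2
      apply hyA
      have h3 := Ac.mul_mem h2 (Ac.inv_mem h1)
      have e : (x ≫ f) * ((y ≫ f)⁻¹ * (x ≫ f))⁻¹ = y ≫ f := by group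
      rwa [e] at h3
  have hScompl : IsClosed Sᶜ := by
    have e : Sᶜ = ⋃₀ {Z | Z ∈ irreducibleComponents ↥X.left ∧ Z ⊆ Sᶜ} := by
      apply Set.Subset.antisymm
      · intro p hp
        have hZ := irreducibleComponent_mem_irreducibleComponents p
        rcases hdich _ hZ with h | h
        · exact absurd (h mem_irreducibleComponent) hp
        · exact Set.mem_sUnion.mpr ⟨irreducibleComponent p, ⟨hZ, h⟩, mem_irreducibleComponent⟩
      · apply Set.sUnion_subset
        rintro Z ⟨-, hZ⟩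
        exact hZ
    rw [e, Set.sUnion_eq_biUnion]
    exact (hfin.subset (fun Z hZ => hZ.1)).isClosed_biUnion
      fun Z hZ => isClosed_of_mem_irreducibleComponents Z hZ.1
  have hSne : S.Nonempty := by
    obtain ⟨x, t, ht⟩ := he
    refine ⟨x, ?_⟩
    rw [hS]
    show f.left.base x ∈ Set.range i.left.base
    rw [← ht]
    refine ⟨(η[D] : 𝟙ₖ ⟶ D).left.base t, ?_⟩
    exact congrArg (fun q : 𝟙ₖ ⟶ G => q.left.base t) (IsMonHom.one_hom i)
  have hSuniv : S = Set.univ :=
    IsClopen.eq_univ ⟨hScl, isClosed_compl_iff.mp hScompl⟩ hSne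
  have hrf : Set.range f.left.base ⊆ Set.range i.left.base := by
    rintro _ ⟨x, rfl⟩
    have h1 : x ∈ S := by rw [hSuniv]; trivial
    rw [hS] at h1
    exact h1
  obtain ⟨f', hf'⟩ := lift_red i f hrf
  exact ⟨D, grpD, i, hmon, hcl, ⟨f', hf'⟩, fun d => hAcA (hB d)⟩

end Groth.Agent.Lib.BorelQCH4
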