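import Mathlib

/-!
# Maximal ideals of a finite product decomposition; transport of normalizations (helper6)
-/

set_option autoImplicit false
universe u v w

namespace Groth.Agent.Lib.Branches

theorem enat_card_sigma {ι : Type u} [Fintype ι] (β : ι → Type v) :
    ENat.card (Σ i, β i) = ∑ i, ENat.card (β i) := by
  classical
  by_cases hinf : ∃ i, Infinite (β i)
  · obtain ⟨i, hi⟩ := hinf
    have h1 : ∑ i, ENat.card (β i) = ⊤ :=
      ENat.sum_eq_top.2 ⟨i, Finset.mem_univ _, ENat.card_eq_top_of_infinite⟩
    haveI : Infinite (Σ i, β i) := Infinite.of_injective (Sigma.mk i) sigma_mk_injective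
    rw [h1, ENat.card_eq_top_of_infinite]
  · push_neg at hinf
    haveI : ∀ i, Finite (β i) := hinf
    haveI : ∀ i, Fintype (β i) := fun i => Fintype.ofFinite _
    rw [ENat.card_eq_coe_fintype_card, Fintype.card_sigma, Nat.cast_sum]
    refine Finset.sum_congr rfl fun i _ => ?_
    rw [ENat.card_eq_coe_fintype_card]

section Congr

variable {R₁ R₂ : Type u} [CommRing R₁] [CommRing R₂] (e : R₁ ≃+* R₂)

/-- The isomorphism of total fraction rings induced by a ring isomorphism. -/
noncomputable def fracCongr : FractionRing R₁ ≃+* FractionRing R₂ :=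
  IsFractionRing.ringEquivOfRingEquiv e

theorem fracCongr_algebraMap (a : R₁) :
    fracCongr e (algebraMap R₁ (FractionRing R₁) a) = algebraMap R₂ (FractionRing R₂) (e a) :=
  IsFractionRing.ringEquivOfRingEquiv_algebraMap _ a

theorem fracCongr_symm_algebraMap (b : R₂) :
    (fracCongr e).symm (algebraMap R₂ (FractionRing R₂) b) =
      algebraMap R₁ (FractionRing R₁) (e.symm b) := by
  rw [RingEquiv.symm_apply_eq, fracCongr_algebraMap, RingEquiv.apply_symm_apply]

theorem isIntegral_fracCongr (x : FractionRing R₁) (hx : IsIntegral R₁ x) :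
    IsIntegral R₂ (fracCongr e x) := by
  refine IsIntegral.map_of_comp_eq e.toRingHom (fracCongr e).toRingHom ?_ hx
  ext a
  exact (fracCongr_algebraMap e a).symm

theorem isIntegral_fracCongr_symm (y : FractionRing R₂) (hy : IsIntegral R₂ y) :
    IsIntegral R₁ ((fracCongr e).symm y) := by
  refine IsIntegral.map_of_comp_eq e.symm.toRingHom (fracCongr e).symm.toRingHom ?_ hy
  ext b
  exact (fracCongr_symm_algebraMap e b).symm

/-- The isomorphism of normalizations induced by a ring isomorphism. -/
noncomputable def integralClosureCongr :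
    integralClosure R₁ (FractionRing R₁) ≃+* integralClosure R₂ (FractionRing R₂) where
  toFun x := ⟨fracCongr e x.1, isIntegral_fracCongr e x.1 x.2⟩
  invFun y := ⟨(fracCongr e).symm y.1, isIntegral_fracCongr_symm e y.1 y.2⟩
  left_inv x := Subtype.ext ((fracCongr e).symm_apply_apply x.1)
  right_inv y := Subtype.ext ((fracCongr e).apply_symm_apply y.1)
  map_mul' x y := Subtype.ext (map_mul (fracCongr e) x.1 y.1)
  map_add' x y := Subtype.ext (map_add (fracCongr e) x.1 y.1)

theorem integralClosureCongr_algebraMap (a : R₁) :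
    integralClosureCongr e (algebraMap R₁ _ a) =
      algebraMap R₂ (integralClosure R₂ (FractionRing R₂)) (e a) := by
  apply Subtype.ext
  change fracCongr e (algebraMap R₁ (FractionRing R₁) a) = _
  rw [fracCongr_algebraMap]
  rfl

end Congr

section MaxSpec

/-- The bijection on maximal spectra induced by a ring isomorphism. -/
noncomputable def maximalSpectrumCongr {N₁ : Type u} {N₂ : Type v} [CommRing N₁] [CommRing N₂]
    (e : N₁ ≃+* N₂) : MaximalSpectrum N₁ ≃ MaximalSpectrum N₂ where
  toFun m := ⟨m.asIdeal.comap e.symm.toRingHom,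
    Ideal.comap_isMaximal_of_surjective _ e.symm.surjective⟩
  invFun m := ⟨m.asIdeal.comap e.toRingHom,
    Ideal.comap_isMaximal_of_surjective _ e.surjective⟩
  left_inv m := by
    apply MaximalSpectrum.ext
    ext x
    change e.symm (e x) ∈ m.asIdeal ↔ x ∈ m.asIdeal
    rw [e.symm_apply_apply]
  right_inv m := by
    apply MaximalSpectrum.ext
    ext x
    change e (e.symm x) ∈ m.asIdeal ↔ x ∈ m.asIdeal
    rw [e.apply_symm_apply]

theorem maximalSpectrum_sigma_bijective {N : Type u} [CommRing N] {ι : Type v} [Fintype ι]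
    (M : ι → Type w) [∀ i, CommRing (M i)] (ψ : ∀ i, N →+* M i)
    (hψ : ∀ i, Function.Surjective (ψ i))
    (e : ι → N) (hsum : ∑ i, e i = 1) (h1 : ∀ i, ψ i (e i) = 1)
    (h0 : ∀ i j, i ≠ j → ψ i (e j) = 0)
    (hker : ∀ i x, ψ i x = 0 → x * e i = 0) :
    Function.Bijective (fun x : Σ i, MaximalSpectrum (M i) =>
      (⟨Ideal.comap (ψ x.1) x.2.asIdeal,
        Ideal.comap_isMaximal_of_surjective _ (hψ x.1)⟩ : MaximalSpectrum N)) := by
  constructor
  · rintro ⟨i, m⟩ ⟨j, n⟩ hmn
    have hmn' : Ideal.comap (ψ i) m.asIdeal = Ideal.comap (ψ j) n.asIdeal :=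
      congrArg MaximalSpectrum.asIdeal hmn
    have hij : i = j := by
      by_contra hne
      have h2 : e j ∈ Ideal.comap (ψ i) m.asIdeal := by
        rw [Ideal.mem_comap, h0 i j hne]; exact zero_mem _
      rw [hmn', Ideal.mem_comap, h1 j] at h2
      exact n.isMaximal.ne_top ((Ideal.eq_top_iff_one _).2 h2)
    subst hij
    have := Ideal.comap_injective_of_surjective (ψ i) (hψ i) hmn'
    have h3 : m = n := MaximalSpectrum.ext this
    rw [h3]
  · intro n
    obtain ⟨i, hi⟩ : ∃ i, e i ∉ n.asIdeal := by
      by_contra hcon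
      push_neg at hcon
      have : ∑ i, e i ∈ n.asIdeal := Ideal.sum_mem _ fun i _ => hcon i
      rw [hsum] at this
      exact n.isMaximal.ne_top ((Ideal.eq_top_iff_one _).2 this)
    have hkerle : Ideal.comap (ψ i) ⊥ ≤ n.asIdeal := by
      intro x hx
      have hx0 : ψ i x = 0 := by simpa [Ideal.mem_comap] using hx
      have h2 : x * e i ∈ n.asIdeal := by rw [hker i x hx0]; exact zero_mem _
      rcases n.isMaximal.isPrime.mem_or_mem h2 with h | h
      · exact h
      · exact absurd h hi
    have hcm : Ideal.comap (ψ i) (Ideal.map (ψ i) n.asIdeal) = n.asIdeal := by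
      rw [Ideal.comap_map_of_surjective _ (hψ i)]
      exact sup_eq_left.2 hkerle
    have hmax : (Ideal.map (ψ i) n.asIdeal).IsMaximal := by
      rcases Ideal.map_eq_top_or_isMaximal_of_surjective (ψ i) (hψ i) n.isMaximal with h | h
      · exfalso
        rw [h, Ideal.comap_top] at hcm
        exact n.isMaximal.ne_top hcm.symm
      · exact h
    refine ⟨⟨i, ⟨Ideal.map (ψ i) n.asIdeal, hmax⟩⟩, ?_⟩
    exact MaximalSpectrum.ext hcm

end MaxSpec

end Groth.Agent.Lib.Branches
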