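import Mathlib

/-!
# Total fraction ring of a reduced ring with finitely many minimal primes (helper6), part 1

For a minimal prime `p` of `A` we have `piMin p : FractionRing A →ₐ[A] FractionRing (A ⧸ p)`;
for `A` reduced these are jointly injective, and when there are finitely many minimal primes
one can prescribe the component at one minimal prime and zero at the others.
-/

set_option autoImplicit false
universe u

namespace Groth.Agent.Lib.RedNorm

open scoped nonZeroDivisors

variable {A : Type u} [CommRing A]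

theorem algebraMap_fracQuot_eq_zero_iff (p : Ideal A) [p.IsPrime] (x : A) :
    algebraMap A (FractionRing (A ⧸ p)) x = 0 ↔ x ∈ p := by
  rw [IsScalarTower.algebraMap_apply A (A ⧸ p) (FractionRing (A ⧸ p)),
    map_eq_zero_iff _ (IsFractionRing.injective (A ⧸ p) (FractionRing (A ⧸ p))),
    Ideal.Quotient.algebraMap_eq, Ideal.Quotient.eq_zero_iff_mem]

/-- The canonical map from the total fraction ring to the fraction field of `A/p`, `p` minimal. -/
noncomputable def piMin (p : Ideal A) [p.IsPrime] (hp : p ∈ minimalPrimes A) :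
    FractionRing A →ₐ[A] FractionRing (A ⧸ p) :=
  IsLocalization.liftAlgHom (M := A⁰) (f := Algebra.ofId A (FractionRing (A ⧸ p))) (by
    intro y
    have hy : (y : A) ∉ p := fun h =>
      (Set.disjoint_left.1 (Ideal.disjoint_nonZeroDivisors_of_mem_minimalPrimes hp)) h y.2
    rw [Algebra.ofId_apply, isUnit_iff_ne_zero, Ne, algebraMap_fracQuot_eq_zero_iff]
    exact hy)

theorem piMin_mul_algebraMap (p : Ideal A) [p.IsPrime] (hp : p ∈ minimalPrimes A)
    (a : A) (s : A⁰) :
    piMin p hp (IsLocalization.mk' (FractionRing A) a s) *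
      algebraMap A (FractionRing (A ⧸ p)) (s : A) = algebraMap A (FractionRing (A ⧸ p)) a := by
  have h := IsLocalization.mk'_spec (FractionRing A) a s
  have h2 := congrArg (piMin p hp) h
  rw [map_mul, AlgHom.commutes, AlgHom.commutes] at h2
  exact h2

theorem algebraMap_ne_zero_of_mem_nonZeroDivisors (p : Ideal A) [p.IsPrime]
    (hp : p ∈ minimalPrimes A) (s : A⁰) :
    algebraMap A (FractionRing (A ⧸ p)) (s : A) ≠ 0 := by
  rw [Ne, algebraMap_fracQuot_eq_zero_iff]
  exact fun h =>
    (Set.disjoint_left.1 (Ideal.disjoint_nonZeroDivisors_of_mem_minimalPrimes hp)) h s.2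

/-- Joint injectivity of the `piMin p` for a reduced ring. -/
theorem eq_zero_of_forall_piMin [IsReduced A] (x : FractionRing A)
    (h : ∀ (p : Ideal A) [p.IsPrime] (hp : p ∈ minimalPrimes A), piMin p hp x = 0) : x = 0 := by
  obtain ⟨a, s, rfl⟩ := IsLocalization.exists_mk'_eq A⁰ x
  have ha : a ∈ sInf (minimalPrimes A) := by
    rw [Ideal.mem_sInf]
    intro p hp
    haveI : p.IsPrime := hp.1.1
    have h1 := piMin_mul_algebraMap p hp a s
    rw [h p hp, zero_mul] at h1
    exact (algebraMap_fracQuot_eq_zero_iff p a).1 h1.symm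
  have h0 : a = 0 := by
    have h2 : sInf (minimalPrimes A) = (⊥ : Ideal A) := by
      have := Ideal.sInf_minimalPrimes (I := (⊥ : Ideal A))
      rw [Ideal.radical_bot_of_isReduced] at this  -- may need adjusting
      exact this
    rw [h2] at ha
    exact ha
  rw [h0, IsLocalization.mk'_zero]

theorem eq_of_forall_piMin [IsReduced A] (x y : FractionRing A)
    (h : ∀ (p : Ideal A) [p.IsPrime] (hp : p ∈ minimalPrimes A), piMin p hp x = piMin p hp y) :
    x = y := by
  rw [← sub_eq_zero]
  apply eq_zero_of_forall_piMin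
  intro p _ hp
  rw [map_sub, h p hp, sub_self]

/-- In a reduced ring an element outside all minimal primes is a nonzerodivisor. -/
theorem mem_nonZeroDivisors_of_forall_notMem [IsReduced A] (s : A)
    (h : ∀ p ∈ minimalPrimes A, s ∉ p) : s ∈ A⁰ := by
  rw [mem_nonZeroDivisors_iff_right]
  intro b hb
  have hb' : b ∈ sInf (minimalPrimes A) := by
    rw [Ideal.mem_sInf]
    intro p hp
    haveI : p.IsPrime := hp.1.1
    have : b * s ∈ p := by rw [hb]; exact p.zero_mem
    exact (Ideal.IsPrime.mem_or_mem ‹_› this).resolve_right (h p hp)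
  have h2 : sInf (minimalPrimes A) = (⊥ : Ideal A) := by
    have := Ideal.sInf_minimalPrimes (I := (⊥ : Ideal A))
    rw [Ideal.radical_bot_of_isReduced] at this
    exact this
  rw [h2] at hb'
  exact hb'


/-- For finitely many minimal primes: elements `a p ∉ p` lying in all other minimal primes. -/
theorem exists_separators (hfin : (minimalPrimes A).Finite) :
    ∃ a : Ideal A → A, ∀ p ∈ minimalPrimes A, a p ∉ p ∧
      ∀ q ∈ minimalPrimes A, q ≠ p → a p ∈ q := by
  classical
  have key : ∀ p : Ideal A, ∃ a : A, p ∈ minimalPrimes A → (a ∉ p ∧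
      ∀ q ∈ minimalPrimes A, q ≠ p → a ∈ q) := by
    intro p
    by_cases hp : p ∈ minimalPrimes A
    · haveI : p.IsPrime := hp.1.1
      have hnle : ¬ ((hfin.toFinset.erase p).inf id ≤ p) := by
        intro hle
        obtain ⟨q, hq, hqp⟩ := (Ideal.IsPrime.inf_le' ‹p.IsPrime›).1 hle
        rw [Finset.mem_erase, Set.Finite.mem_toFinset] at hq
        have hq1 : q.IsPrime ∧ ⊥ ≤ q := hq.2.1
        exact hq.1 (le_antisymm hqp (hp.2 hq1 hqp))
      obtain ⟨a, ha, hap⟩ := SetLike.not_le_iff_exists.1 hnle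
      refine ⟨a, fun _ => ⟨hap, fun q hq hqp => ?_⟩⟩
      have hq' : q ∈ hfin.toFinset.erase p := by
        rw [Finset.mem_erase, Set.Finite.mem_toFinset]
        exact ⟨hqp, hq⟩
      exact (Finset.inf_le (f := id) hq') ha
    · exact ⟨0, fun h => absurd h hp⟩
  choose a ha using key
  exact ⟨a, fun p hp => ha p hp⟩

/-- Prescribing the component at one minimal prime and zero at the others. -/
theorem exists_lift [IsReduced A] (hfin : (minimalPrimes A).Finite)
    (p₀ : Ideal A) [p₀.IsPrime] (hp₀ : p₀ ∈ minimalPrimes A) (a b : A) (hb : b ∉ p₀) :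
    ∃ u : FractionRing A,
      piMin p₀ hp₀ u = algebraMap A (FractionRing (A ⧸ p₀)) a /
        algebraMap A (FractionRing (A ⧸ p₀)) b ∧
      ∀ (q : Ideal A) [q.IsPrime] (hq : q ∈ minimalPrimes A), q ≠ p₀ → piMin q hq u = 0 := by
  classical
  obtain ⟨c, hc⟩ := exists_separators hfin
  set F := hfin.toFinset with hF
  set d : A := b * c p₀ + ∑ q ∈ F.erase p₀, c q with hd
  have hsum_mem : ∑ q ∈ F.erase p₀, c q ∈ p₀ := by
    apply Ideal.sum_mem
    intro q hq
    rw [Finset.mem_erase, hF, Set.Finite.mem_toFinset] at hq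
    exact (hc q hq.2).2 p₀ hp₀ (Ne.symm hq.1)
  have hd_p₀ : d ∉ p₀ := by
    intro h
    have h1 : b * c p₀ ∈ p₀ := by
      have := p₀.sub_mem h hsum_mem
      rwa [hd, add_sub_cancel_right] at this
    rcases Ideal.IsPrime.mem_or_mem ‹p₀.IsPrime› h1 with h2 | h2
    · exact hb h2
    · exact (hc p₀ hp₀).1 h2
  have hd_q : ∀ q ∈ minimalPrimes A, q ≠ p₀ → d ∉ q := by
    intro q hq hne h
    haveI : q.IsPrime := hq.1.1
    have hqF : q ∈ F.erase p₀ := by
      rw [Finset.mem_erase, hF, Set.Finite.mem_toFinset]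
      exact ⟨hne, hq⟩
    have h1 : d = c q + (b * c p₀ + ∑ q' ∈ (F.erase p₀).erase q, c q') := by
      rw [hd, ← Finset.add_sum_erase _ _ hqF]
      ring
    have h2 : b * c p₀ + ∑ q' ∈ (F.erase p₀).erase q, c q' ∈ q := by
      apply q.add_mem
      · exact q.mul_mem_left _ ((hc p₀ hp₀).2 q hq hne)
      · apply Ideal.sum_mem
        intro q' hq'
        rw [Finset.mem_erase, Finset.mem_erase, hF, Set.Finite.mem_toFinset] at hq'
        exact (hc q' hq'.2.2).2 q hq (Ne.symm hq'.1)
    have h3 : c q ∈ q := by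
      have := q.sub_mem h h2
      rwa [h1, add_sub_cancel_right] at this
    exact (hc q hq).1 h3
  have hdnz : d ∈ A⁰ := by
    apply mem_nonZeroDivisors_of_forall_notMem
    intro q hq
    by_cases hne : q = p₀
    · rw [hne]; exact hd_p₀
    · exact hd_q q hq hne
  refine ⟨IsLocalization.mk' (FractionRing A) (a * c p₀) ⟨d, hdnz⟩, ?_, ?_⟩
  · have h1 := piMin_mul_algebraMap p₀ hp₀ (a * c p₀) ⟨d, hdnz⟩
    have h2 : algebraMap A (FractionRing (A ⧸ p₀)) d =
        algebraMap A (FractionRing (A ⧸ p₀)) (b * c p₀) := by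
      rw [← sub_eq_zero, ← map_sub, algebraMap_fracQuot_eq_zero_iff, hd, add_sub_cancel_left]
      exact hsum_mem
    have hb' : algebraMap A (FractionRing (A ⧸ p₀)) b ≠ 0 := by
      rw [Ne, algebraMap_fracQuot_eq_zero_iff]; exact hb
    have hc' : algebraMap A (FractionRing (A ⧸ p₀)) (c p₀) ≠ 0 := by
      rw [Ne, algebraMap_fracQuot_eq_zero_iff]; exact (hc p₀ hp₀).1
    simp only [] at h1
    rw [h2, map_mul, map_mul] at h1
    rw [eq_div_iff hb']
    apply mul_right_cancel₀ hc'
    rw [mul_assoc, h1]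
  · intro q _ hq hne
    have h1 := piMin_mul_algebraMap q hq (a * c p₀) ⟨d, hdnz⟩
    have h2 : algebraMap A (FractionRing (A ⧸ q)) (a * c p₀) = 0 := by
      rw [algebraMap_fracQuot_eq_zero_iff]
      exact q.mul_mem_left _ ((hc p₀ hp₀).2 q hq hne)
    have h3 : algebraMap A (FractionRing (A ⧸ q)) d ≠ 0 := by
      rw [Ne, algebraMap_fracQuot_eq_zero_iff]; exact hd_q q hq hne
    rw [h2] at h1
    exact (mul_eq_zero.1 h1).resolve_right h3

end Groth.Agent.Lib.RedNorm
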