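import Mathlib
import Groth.Agent.Lib.RedNorm1_helper6

/-!
# Normalization of a reduced ring with finitely many minimal primes (helper6), part 2
-/

set_option autoImplicit false
universe u

namespace Groth.Agent.Lib.RedNorm

open scoped nonZeroDivisors

variable {A : Type u} [CommRing A]

/-- Finiteness of the integral closure in the total fraction ring from N-1 of the `A/p`. -/
theorem finite_integralClosure [IsReduced A] [IsNoetherianRing A]
    (hN1 : ∀ (p : Ideal A) [p.IsPrime], p ∈ minimalPrimes A →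
       Module.Finite (A ⧸ p) (integralClosure (A ⧸ p) (FractionRing (A ⧸ p)))) :
    Module.Finite A (integralClosure A (FractionRing A)) := by
  classical
  have hfin := minimalPrimes.finite_of_isNoetherianRing A
  haveI : Finite ↥(minimalPrimes A) := hfin.to_subtype
  haveI hprime : ∀ i : ↥(minimalPrimes A), i.1.IsPrime := fun i => i.2.1.1
  let Φ : integralClosure A (FractionRing A) →ₗ[A]
      (∀ i : ↥(minimalPrimes A), FractionRing (A ⧸ i.1)) :=
    LinearMap.pi (fun i => (piMin i.1 i.2).toLinearMap ∘ₗ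
      (integralClosure A (FractionRing A)).val.toLinearMap)
  have hΦ : ∀ x i, Φ x i = piMin i.1 i.2 x.1 := fun x i => rfl
  have hinj : Function.Injective Φ := by
    rw [injective_iff_map_eq_zero]
    intro x hx
    apply Subtype.ext
    apply eq_zero_of_forall_piMin
    intro p _ hp
    have := congrFun hx ⟨p, hp⟩
    rw [hΦ] at this
    exact this
  let S : ∀ i : ↥(minimalPrimes A), Submodule A (FractionRing (A ⧸ i.1)) := fun i =>
    (Subalgebra.toSubmodule (integralClosure (A ⧸ i.1) (FractionRing (A ⧸ i.1)))).restrictScalars A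
  have hS : ∀ i, (S i).FG := by
    intro i
    apply Submodule.FG.restrictScalars
    have := hN1 i.1 i.2
    rw [← Module.Finite.iff_fg]
    exact this
  have hpi : (Submodule.pi Set.univ S).FG := Submodule.fg_pi hS
  have hle : LinearMap.range Φ ≤ Submodule.pi Set.univ S := by
    rintro _ ⟨x, rfl⟩
    rw [Submodule.mem_pi]
    intro i _
    rw [hΦ]
    change piMin i.1 i.2 x.1 ∈ integralClosure (A ⧸ i.1) (FractionRing (A ⧸ i.1))
    exact IsIntegral.tower_top (IsIntegral.map (piMin i.1 i.2) x.2)
  have hfg : (LinearMap.range Φ).FG := Submodule.FG.of_le hpi hle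
  haveI : Module.Finite A (LinearMap.range Φ) := Module.Finite.iff_fg.2 hfg
  exact Module.Finite.equiv (LinearEquiv.ofInjective Φ hinj).symm

/-- Lifting an integral element of one component to an integral element of the total fraction
ring vanishing at the other components. -/
theorem exists_integral_lift [IsReduced A] (hfin : (minimalPrimes A).Finite)
    (p₀ : Ideal A) [p₀.IsPrime] (hp₀ : p₀ ∈ minimalPrimes A)
    (w : FractionRing (A ⧸ p₀)) (hw : IsIntegral A w) :
    ∃ u : FractionRing A, IsIntegral A u ∧ piMin p₀ hp₀ u = w ∧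
      ∀ (q : Ideal A) [q.IsPrime] (hq : q ∈ minimalPrimes A), q ≠ p₀ → piMin q hq u = 0 := by
  obtain ⟨x, y, hxy⟩ := IsLocalization.exists_mk'_eq (A ⧸ p₀)⁰ w
  obtain ⟨a, rfl⟩ := Ideal.Quotient.mk_surjective x
  obtain ⟨b, hb⟩ := Ideal.Quotient.mk_surjective (y : A ⧸ p₀)
  have hbp : b ∉ p₀ := by
    intro h
    have : (y : A ⧸ p₀) = 0 := by rw [← hb]; exact Ideal.Quotient.eq_zero_iff_mem.2 h
    exact nonZeroDivisors.coe_ne_zero y this
  have hw' : w = algebraMap A (FractionRing (A ⧸ p₀)) a /
      algebraMap A (FractionRing (A ⧸ p₀)) b := by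
    rw [← hxy, IsFractionRing.mk'_eq_div, ← hb,
      IsScalarTower.algebraMap_apply A (A ⧸ p₀) (FractionRing (A ⧸ p₀)) a,
      IsScalarTower.algebraMap_apply A (A ⧸ p₀) (FractionRing (A ⧸ p₀)) b,
      Ideal.Quotient.algebraMap_eq]
  obtain ⟨u, hu1, hu2⟩ := exists_lift hfin p₀ hp₀ a b hbp
  refine ⟨u, ?_, by rw [hu1, hw'], hu2⟩
  obtain ⟨F, hF, hFw⟩ := hw
  refine ⟨Polynomial.X * F, Polynomial.monic_X.mul hF, ?_⟩
  rw [← Polynomial.aeval_def]
  apply eq_zero_of_forall_piMin
  intro q _ hq
  rw [← Polynomial.aeval_algHom_apply, map_mul, Polynomial.aeval_X]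
  by_cases hqp : q = p₀
  · subst hqp
    rw [hu1, ← hw', Polynomial.aeval_def, hFw, mul_zero]
  · rw [hu2 q hq hqp, zero_mul]

end Groth.Agent.Lib.RedNorm
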