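import Mathlib
import Groth.Agent.Lib.RedNorm2_helper6
import Groth.Agent.Lib.Branches9_helper6

/-!
# The normalization of a reduced ring with finitely many minimal primes decomposes (helper6)
-/

set_option autoImplicit false
universe u

namespace Groth.Agent.Lib.Branches

open RedNorm

variable {R : Type u} [CommRing R]

/-- The component map on normalizations at a minimal prime. -/
noncomputable def compMap (q : Ideal R) [q.IsPrime] (hq : q ∈ minimalPrimes R) :
    integralClosure R (FractionRing R) →+* integralClosure (R ⧸ q) (FractionRing (R ⧸ q)) where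
  toFun x := ⟨piMin q hq x.1, IsIntegral.tower_top (IsIntegral.map (piMin q hq) x.2)⟩
  map_one' := Subtype.ext (map_one _)
  map_mul' x y := Subtype.ext (map_mul _ _ _)
  map_zero' := Subtype.ext (map_zero _)
  map_add' x y := Subtype.ext (map_add _ _ _)

theorem compMap_coe (q : Ideal R) [q.IsPrime] (hq : q ∈ minimalPrimes R)
    (x : integralClosure R (FractionRing R)) :
    ((compMap q hq x : integralClosure (R ⧸ q) (FractionRing (R ⧸ q))) : FractionRing (R ⧸ q)) =
      piMin q hq x.1 := rfl

theorem compMap_algebraMap (q : Ideal R) [q.IsPrime] (hq : q ∈ minimalPrimes R) (a : R) :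
    compMap q hq (algebraMap R _ a) =
      algebraMap (R ⧸ q) (integralClosure (R ⧸ q) (FractionRing (R ⧸ q)))
        (Ideal.Quotient.mk q a) := by
  apply Subtype.ext
  change piMin q hq (algebraMap R (FractionRing R) a) = _
  rw [AlgHom.commutes]
  rfl

theorem compMap_surjective [IsReduced R] (hfin : (minimalPrimes R).Finite)
    (q : Ideal R) [q.IsPrime] (hq : q ∈ minimalPrimes R) :
    Function.Surjective (compMap q hq) := by
  intro y
  haveI : Algebra.IsIntegral R (R ⧸ q) :=
    Algebra.isIntegral_of_surjective Ideal.Quotient.mk_surjective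
  have hy : IsIntegral R (y.1 : FractionRing (R ⧸ q)) := isIntegral_trans _ y.2
  obtain ⟨u, hu1, hu2, -⟩ := exists_integral_lift hfin q hq y.1 hy
  exact ⟨⟨u, hu1⟩, Subtype.ext hu2⟩

/-- The component map indexed by the subtype of minimal primes. -/
noncomputable def compMapSub (q : minimalPrimes R) :
    integralClosure R (FractionRing R) →+*
      integralClosure (R ⧸ q.1) (FractionRing (R ⧸ q.1)) :=
  haveI : q.1.IsPrime := q.2.1.1
  compMap q.1 q.2

theorem compMapSub_algebraMap (q : minimalPrimes R) (a : R) :
    compMapSub q (algebraMap R _ a) =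
      algebraMap (R ⧸ q.1) (integralClosure (R ⧸ q.1) (FractionRing (R ⧸ q.1)))
        (Ideal.Quotient.mk q.1 a) := by
  haveI : q.1.IsPrime := q.2.1.1
  exact compMap_algebraMap q.1 q.2 a

theorem compMapSub_surjective [IsReduced R] (hfin : (minimalPrimes R).Finite)
    (q : minimalPrimes R) : Function.Surjective (compMapSub q) := by
  haveI : q.1.IsPrime := q.2.1.1
  exact compMap_surjective hfin q.1 q.2

theorem eq_of_forall_compMapSub [IsReduced R]
    (x y : integralClosure R (FractionRing R))
    (h : ∀ q : minimalPrimes R, compMapSub q x = compMapSub q y) : x = y := by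
  apply Subtype.ext
  apply eq_of_forall_piMin
  intro p _ hp
  exact congrArg Subtype.val (h ⟨p, hp⟩)

/-- The orthogonal idempotents of the normalization. -/
theorem exists_idempotents [IsReduced R] (hfin : (minimalPrimes R).Finite) :
    ∃ e : minimalPrimes R → integralClosure R (FractionRing R),
      (∀ q, compMapSub q (e q) = 1) ∧ (∀ q r, q ≠ r → compMapSub q (e r) = 0) := by
  have hex : ∀ q : minimalPrimes R, ∃ u : integralClosure R (FractionRing R),
      compMapSub q u = 1 ∧ ∀ r : minimalPrimes R, r ≠ q → compMapSub r u = 0 := by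
    intro q
    haveI : q.1.IsPrime := q.2.1.1
    obtain ⟨u, hu1, hu2, hu3⟩ := exists_integral_lift hfin q.1 q.2 1 isIntegral_one
    refine ⟨⟨u, hu1⟩, Subtype.ext hu2, ?_⟩
    intro r hr
    haveI : r.1.IsPrime := r.2.1.1
    apply Subtype.ext
    exact hu3 r.1 r.2 (fun h => hr (Subtype.ext h))
  choose e he1 he2 using hex
  exact ⟨e, he1, fun q r hqr => he2 r q hqr⟩

/-- The orthogonal idempotents of the normalization, with all their properties. -/
theorem exists_idempotents_full [IsReduced R] [Fintype (minimalPrimes R)] :
    ∃ e : minimalPrimes R → integralClosure R (FractionRing R),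
      ∑ q, e q = 1 ∧ (∀ q, compMapSub q (e q) = 1) ∧
      (∀ q r, q ≠ r → compMapSub q (e r) = 0) ∧
      (∀ (q : minimalPrimes R) (x : integralClosure R (FractionRing R)),
        compMapSub q x = 0 → x * e q = 0) := by
  classical
  have hfin : (minimalPrimes R).Finite := Set.toFinite _
  obtain ⟨e, he1, he0⟩ := exists_idempotents hfin
  have hsum : ∑ q, e q = 1 := by
    apply eq_of_forall_compMapSub
    intro q
    rw [map_sum, map_one, Finset.sum_eq_single q, he1]
    · intro r _ hr
      exact he0 q r hr.symm
    · intro h; exact absurd (Finset.mem_univ q) h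
  have hker : ∀ (q : minimalPrimes R) (x : integralClosure R (FractionRing R)),
      compMapSub q x = 0 → x * e q = 0 := by
    intro q x hx
    apply eq_of_forall_compMapSub
    intro r
    rw [map_mul, map_zero]
    by_cases hrq : r = q
    · subst hrq
      rw [hx, zero_mul]
    · rw [he0 r q hrq, mul_zero]
  exact ⟨e, hsum, he1, he0, hker⟩

theorem compMapSub_sigma_bijective [IsReduced R] (hfin : (minimalPrimes R).Finite) :
    Function.Bijective (fun x : Σ q : minimalPrimes R,
        MaximalSpectrum (integralClosure (R ⧸ q.1) (FractionRing (R ⧸ q.1))) =>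
      (⟨Ideal.comap (compMapSub x.1) x.2.asIdeal,
        Ideal.comap_isMaximal_of_surjective _ (compMapSub_surjective hfin x.1)⟩ :
        MaximalSpectrum (integralClosure R (FractionRing R)))) := by
  classical
  haveI : Fintype (minimalPrimes R) := hfin.fintype
  obtain ⟨e, hsum, he1, he0, hker⟩ := exists_idempotents_full (R := R)
  exact maximalSpectrum_sigma_bijective
    (M := fun q : minimalPrimes R => integralClosure (R ⧸ q.1) (FractionRing (R ⧸ q.1)))
    (fun q => compMapSub q)
    (fun q => compMapSub_surjective hfin q) e hsum he1 he0 hker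

end Groth.Agent.Lib.Branches
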