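import Mathlib
import Groth.Prelude.Def_CAlg2
import Groth.Agent.Lib.RedNorm2_helper6

/-!
# Minimal primes of `A_red`; a local normalization forces a unique minimal prime (helper6)
-/

set_option autoImplicit false
universe u

namespace Groth.Agent.Lib.Branches

theorem minimalPrimes_eq_image_red (A : Type u) [CommRing A] :
    minimalPrimes A =
      Ideal.comap (Ideal.Quotient.mk (nilradical A)) '' minimalPrimes (CAlg2.red A) := by
  rw [← Ideal.minimalPrimes_eq_comap, nilradical, Ideal.radical_minimalPrimes]
  rfl

theorem finite_minimalPrimes_red_iff (A : Type u) [CommRing A] :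
    (minimalPrimes (CAlg2.red A)).Finite ↔ (minimalPrimes A).Finite := by
  rw [minimalPrimes_eq_image_red A]
  refine (Set.finite_image_iff ?_).symm
  exact (Ideal.comap_injective_of_surjective _ Ideal.Quotient.mk_surjective).injOn

instance isReduced_red (A : Type u) [CommRing A] : IsReduced (CAlg2.red A) :=
  (Ideal.isRadical_iff_quotient_reduced _).1 (Ideal.radical_isRadical (⊥ : Ideal A))

instance nontrivial_red (A : Type u) [CommRing A] [Nontrivial A] : Nontrivial (CAlg2.red A) :=
  Ideal.Quotient.nontrivial_iff.2 (fun htop => by
    have h1 : (1 : A) ∈ nilradical A := htop ▸ Submodule.mem_top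
    exact not_isNilpotent_one h1)

theorem eq_zero_or_eq_one_of_isIdempotentElem {R : Type u} [CommRing R] [IsLocalRing R] (e : R)
    (he : IsIdempotentElem e) : e = 0 ∨ e = 1 := by
  have h : e * (1 - e) = 0 := by rw [mul_sub, mul_one, he.eq, sub_self]
  rcases IsLocalRing.isUnit_or_isUnit_one_sub_self e with hu | hu
  · right
    have := (hu.mul_right_eq_zero).1 h
    exact (sub_eq_zero.1 this).symm
  · left
    exact (hu.mul_left_eq_zero).1 h

/-- If the normalization of a nontrivial reduced ring with finitely many minimal primes is local,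
the ring is a domain. -/
theorem isDomain_of_isLocalRing_integralClosure {R : Type u} [CommRing R] [IsReduced R]
    [Nontrivial R] (hfin : (minimalPrimes R).Finite)
    [IsLocalRing (integralClosure R (FractionRing R))] : IsDomain R := by
  obtain ⟨p, hp⟩ : ∃ p, p ∈ minimalPrimes R := by
    obtain ⟨m, hm⟩ := Ideal.exists_maximal R
    obtain ⟨p, hp, -⟩ := Ideal.exists_minimalPrimes_le (I := (⊥ : Ideal R)) (J := m) bot_le
    exact ⟨p, hp⟩
  haveI : p.IsPrime := hp.1.1
  have huniq : ∀ q ∈ minimalPrimes R, q = p := by
    intro q hq
    by_contra hne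
    haveI : q.IsPrime := hq.1.1
    obtain ⟨e, he1, he2, he3⟩ := RedNorm.exists_integral_lift hfin p hp 1 isIntegral_one
    have hidem : IsIdempotentElem (⟨e, he1⟩ : integralClosure R (FractionRing R)) := by
      apply Subtype.ext
      change e * e = e
      apply RedNorm.eq_of_forall_piMin
      intro r _ hr
      rw [map_mul]
      by_cases hrp : r = p
      · subst hrp
        rw [he2, mul_one]
      · rw [he3 r hr hrp, mul_zero]
    rcases eq_zero_or_eq_one_of_isIdempotentElem _ hidem with h0 | h1
    · have : e = 0 := congrArg Subtype.val h0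
      rw [this, map_zero] at he2
      exact zero_ne_one he2
    · have : e = 1 := congrArg Subtype.val h1
      have h2 := he3 q hq hne
      rw [this, map_one] at h2
      exact one_ne_zero h2
  have h1 : sInf (minimalPrimes R) = p :=
    le_antisymm (sInf_le hp) (le_sInf fun q hq => (huniq q hq).ge)
  have h2 : sInf (minimalPrimes R) = nilradical R := Ideal.sInf_minimalPrimes
  have hp0 : p = ⊥ := by
    rw [← h1, h2, nilradical_eq_zero]; rfl
  haveI : (⊥ : Ideal R).IsPrime := hp0 ▸ ‹p.IsPrime›
  exact IsDomain.of_bot_isPrime R

end Groth.Agent.Lib.Branches
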