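import Mathlib
import Groth.Prelude.Def_Brnch
import Groth.Prelude.Def_EGA4b
import Groth.Agent.Lib.Branches8_helper6
import Groth.Agent.Lib.Branches10_helper6

/-!
# Branches of a local ring and of its irreducible components (helper6)
-/

set_option autoImplicit false
universe u

namespace Groth.Agent.Lib.Branches

section KerEq

variable {A R₁ R₂ : Type u} [CommRing A] [CommRing R₁] [CommRing R₂]

/-- Two surjections with the same kernel have isomorphic targets. -/
noncomputable def equivOfKerEq (f₁ : A →+* R₁) (f₂ : A →+* R₂)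
    (h₁ : Function.Surjective f₁) (h₂ : Function.Surjective f₂)
    (h : RingHom.ker f₁ = RingHom.ker f₂) : R₁ ≃+* R₂ :=
  (RingHom.quotientKerEquivOfSurjective h₁).symm.trans
    ((Ideal.quotEquivOfEq h).trans (RingHom.quotientKerEquivOfSurjective h₂))

theorem equivOfKerEq_apply (f₁ : A →+* R₁) (f₂ : A →+* R₂)
    (h₁ : Function.Surjective f₁) (h₂ : Function.Surjective f₂)
    (h : RingHom.ker f₁ = RingHom.ker f₂) (a : A) :
    equivOfKerEq f₁ f₂ h₁ h₂ h (f₁ a) = f₂ a := by
  unfold equivOfKerEq
  have h3 : (RingHom.quotientKerEquivOfSurjective h₁).symm (f₁ a) =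
      Ideal.Quotient.mk _ a := by
    rw [RingEquiv.symm_apply_eq]
    rfl
  rw [RingEquiv.trans_apply, h3, RingEquiv.trans_apply, Ideal.quotEquivOfEq_mk]
  rfl

end KerEq

variable (A : Type u) [CommRing A]

/-- The minimal prime of `A` corresponding to a minimal prime of `A_red`. -/
def primeOf (q : minimalPrimes (CAlg2.red A)) : Ideal A :=
  Ideal.comap (Ideal.Quotient.mk (nilradical A)) q.1

instance primeOf_isPrime (q : minimalPrimes (CAlg2.red A)) : (primeOf A q).IsPrime :=
  haveI : q.1.IsPrime := q.2.1.1
  Ideal.comap_isPrime _ _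

theorem primeOf_mem (q : minimalPrimes (CAlg2.red A)) : primeOf A q ∈ minimalPrimes A := by
  rw [minimalPrimes_eq_image_red A]
  exact ⟨q.1, q.2, rfl⟩

theorem primeOf_bijective :
    Function.Bijective (fun q : minimalPrimes (CAlg2.red A) =>
      (⟨primeOf A q, primeOf_mem A q⟩ : minimalPrimes A)) := by
  constructor
  · intro q r hqr
    have h1 : primeOf A q = primeOf A r := congrArg Subtype.val hqr
    exact Subtype.ext
      (Ideal.comap_injective_of_surjective _ Ideal.Quotient.mk_surjective h1)
  · rintro ⟨p, hp⟩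
    have hp' := hp
    rw [minimalPrimes_eq_image_red A] at hp'
    obtain ⟨q, hq, rfl⟩ := hp'
    exact ⟨⟨q, hq⟩, rfl⟩

/-- `A_red / q ≅ (A / p)_red` where `p` is the preimage of `q`. -/
noncomputable def quotIso (q : minimalPrimes (CAlg2.red A)) :
    (CAlg2.red A ⧸ q.1) ≃+* CAlg2.red (A ⧸ primeOf A q) :=
  equivOfKerEq
    ((Ideal.Quotient.mk q.1).comp (Ideal.Quotient.mk (nilradical A)))
    ((Ideal.Quotient.mk (nilradical (A ⧸ primeOf A q))).comp (Ideal.Quotient.mk (primeOf A q)))
    (Ideal.Quotient.mk_surjective.comp Ideal.Quotient.mk_surjective)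
    (Ideal.Quotient.mk_surjective.comp Ideal.Quotient.mk_surjective)
    (by
      rw [← RingHom.comap_ker, ← RingHom.comap_ker, Ideal.mk_ker, Ideal.mk_ker,
        nilradical_eq_zero (A ⧸ primeOf A q)]
      change primeOf A q = Ideal.comap _ ⊥
      rw [← RingHom.ker_eq_comap_bot, Ideal.mk_ker])

theorem quotIso_apply (q : minimalPrimes (CAlg2.red A)) (a : A) :
    quotIso A q (Ideal.Quotient.mk q.1 (Ideal.Quotient.mk (nilradical A) a)) =
      Ideal.Quotient.mk (nilradical (A ⧸ primeOf A q)) (Ideal.Quotient.mk (primeOf A q) a) :=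
  equivOfKerEq_apply _ _ _ _ _ a

/-- The surjection from the normalization of `A_red` onto that of `(A/p)_red`. -/
noncomputable def Psi (q : minimalPrimes (CAlg2.red A)) :
    CAlg2.normRed A →+* CAlg2.normRed (A ⧸ primeOf A q) :=
  (integralClosureCongr (quotIso A q)).toRingHom.comp (compMapSub q)

theorem Psi_apply (q : minimalPrimes (CAlg2.red A)) (x : CAlg2.normRed A) :
    Psi A q x = integralClosureCongr (quotIso A q) (compMapSub q x) := rfl

theorem Psi_surjective (h : (minimalPrimes A).Finite) (q : minimalPrimes (CAlg2.red A)) :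
    Function.Surjective (Psi A q) :=
  (integralClosureCongr (quotIso A q)).surjective.comp
    (compMapSub_surjective ((finite_minimalPrimes_red_iff A).2 h) q)

theorem Psi_algebraMap (q : minimalPrimes (CAlg2.red A)) (a : A) :
    Psi A q (algebraMap A (CAlg2.normRed A) a) =
      algebraMap (A ⧸ primeOf A q) (CAlg2.normRed (A ⧸ primeOf A q))
        (Ideal.Quotient.mk (primeOf A q) a) := by
  have h1 : algebraMap A (CAlg2.normRed A) a =
      algebraMap (CAlg2.red A) (CAlg2.normRed A) (Ideal.Quotient.mk (nilradical A) a) := rfl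
  rw [Psi_apply, h1, compMapSub_algebraMap, integralClosureCongr_algebraMap, quotIso_apply]
  rfl

theorem Psi_sigma_bijective (h : (minimalPrimes A).Finite) :
    Function.Bijective (fun x : Σ q : minimalPrimes (CAlg2.red A),
        MaximalSpectrum (CAlg2.normRed (A ⧸ primeOf A q)) =>
      (⟨Ideal.comap (Psi A x.1) x.2.asIdeal,
        Ideal.comap_isMaximal_of_surjective _ (Psi_surjective A h x.1)⟩ :
        MaximalSpectrum (CAlg2.normRed A))) := by
  classical
  have hfin : (minimalPrimes (CAlg2.red A)).Finite := (finite_minimalPrimes_red_iff A).2 h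
  haveI : Fintype (minimalPrimes (CAlg2.red A)) := hfin.fintype
  obtain ⟨e, hsum, he1, he0, hker⟩ := exists_idempotents_full (R := CAlg2.red A)
  refine maximalSpectrum_sigma_bijective
    (M := fun q : minimalPrimes (CAlg2.red A) => CAlg2.normRed (A ⧸ primeOf A q))
    (fun q => Psi A q)
    (fun q => Psi_surjective A h q) e hsum ?_ ?_ ?_
  · intro q
    rw [Psi_apply, he1, map_one]
  · intro q r hqr
    rw [Psi_apply, he0 q r hqr, map_zero]
  · intro q x hx
    apply hker
    rw [Psi_apply] at hx
    exact (integralClosureCongr (quotIso A q)).injective (by rw [hx, map_zero])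

theorem finite_minimalPrimes_of_isDomain (B : Type u) [CommRing B] [IsDomain B] :
    (minimalPrimes B).Finite := by
  rw [IsDomain.minimalPrimes_eq_singleton_bot]
  exact Set.finite_singleton _

theorem numBranches_eq_finsum [IsLocalRing A] (h : (minimalPrimes A).Finite) :
    Brnch.numBranches A =
      ∑ᶠ q : minimalPrimes (CAlg2.red A), Brnch.numBranches (A ⧸ primeOf A q) := by
  classical
  have hfin : (minimalPrimes (CAlg2.red A)).Finite := (finite_minimalPrimes_red_iff A).2 h
  haveI : Fintype (minimalPrimes (CAlg2.red A)) := hfin.fintype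
  rw [finsum_eq_sum_of_fintype]
  have h1 : ∀ q : minimalPrimes (CAlg2.red A), Brnch.numBranches (A ⧸ primeOf A q) =
      ENat.card (MaximalSpectrum (CAlg2.normRed (A ⧸ primeOf A q))) := by
    intro q
    unfold Brnch.numBranches
    rw [if_pos (finite_minimalPrimes_of_isDomain _)]
  simp_rw [h1]
  rw [← enat_card_sigma]
  unfold Brnch.numBranches
  rw [if_pos h]
  exact (ENat.card_congr (Equiv.ofBijective _ (Psi_sigma_bijective A h))).symm

end Groth.Agent.Lib.Branches
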