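import Mathlib
import Groth.Prelude.Def_CAlg2

/-!
# Comparing the normalization of `A` and of `A_red` for reduced `A` (helper6)
-/

set_option autoImplicit false
universe u

namespace Groth.Agent.Lib.Branches

variable (A : Type u) [CommRing A] [IsReduced A]

/-- For reduced `A` the quotient map to `A_red` is an isomorphism. -/
noncomputable def redEquiv : A ≃+* CAlg2.red A :=
  RingEquiv.ofBijective (Ideal.Quotient.mk (nilradical A))
    ⟨(RingHom.injective_iff_ker_eq_bot _).2 (by rw [Ideal.mk_ker]; exact nilradical_eq_zero A),
      Ideal.Quotient.mk_surjective⟩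

theorem redEquiv_apply (a : A) : redEquiv A a = Ideal.Quotient.mk (nilradical A) a := rfl

/-- The induced isomorphism of total fraction rings. -/
noncomputable def fracEquiv : FractionRing A ≃+* FractionRing (CAlg2.red A) :=
  IsFractionRing.ringEquivOfRingEquiv (redEquiv A)

theorem fracEquiv_algebraMap (a : A) :
    fracEquiv A (algebraMap A (FractionRing A) a) =
      algebraMap (CAlg2.red A) (FractionRing (CAlg2.red A)) (redEquiv A a) :=
  IsFractionRing.ringEquivOfRingEquiv_algebraMap _ a

theorem fracEquiv_symm_algebraMap (b : CAlg2.red A) :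
    (fracEquiv A).symm (algebraMap (CAlg2.red A) (FractionRing (CAlg2.red A)) b) =
      algebraMap A (FractionRing A) ((redEquiv A).symm b) := by
  rw [RingEquiv.symm_apply_eq, fracEquiv_algebraMap, RingEquiv.apply_symm_apply]

theorem exists_linearMap_normRed :
    ∃ g : integralClosure A (FractionRing A) →ₗ[A] CAlg2.normRed A, Function.Surjective g ∧
      ∀ a : A, g (algebraMap A _ a) = algebraMap A (CAlg2.normRed A) a := by
  have hint : ∀ x : FractionRing A, IsIntegral A x → IsIntegral (CAlg2.red A) (fracEquiv A x) := by
    intro x hx
    refine IsIntegral.map_of_comp_eq (redEquiv A).toRingHom (fracEquiv A).toRingHom ?_ hx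
    ext a
    exact (fracEquiv_algebraMap A a).symm
  have hint' : ∀ y : FractionRing (CAlg2.red A), IsIntegral (CAlg2.red A) y →
      IsIntegral A ((fracEquiv A).symm y) := by
    intro y hy
    refine IsIntegral.map_of_comp_eq (redEquiv A).symm.toRingHom (fracEquiv A).symm.toRingHom ?_ hy
    ext b
    exact (fracEquiv_symm_algebraMap A b).symm
  let g : integralClosure A (FractionRing A) →ₗ[A] CAlg2.normRed A :=
    { toFun := fun x => ⟨fracEquiv A x.1, hint x.1 x.2⟩
      map_add' := by
        intro x y
        apply Subtype.ext
        exact map_add (fracEquiv A) x.1 y.1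
      map_smul' := by
        intro a x
        apply Subtype.ext
        change fracEquiv A (a • x.1) = a • (fracEquiv A x.1)
        rw [Algebra.smul_def, map_mul, fracEquiv_algebraMap, Algebra.smul_def]
        rfl }
  refine ⟨g, ?_, ?_⟩
  · intro y
    refine ⟨⟨(fracEquiv A).symm y.1, hint' y.1 y.2⟩, ?_⟩
    apply Subtype.ext
    exact (fracEquiv A).apply_symm_apply y.1
  · intro a
    apply Subtype.ext
    change fracEquiv A (algebraMap A (FractionRing A) a) = _
    rw [fracEquiv_algebraMap]
    rfl

end Groth.Agent.Lib.Branches
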