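import Mathlib
import Groth.Agent.Lib.Branches3_helper6

/-!
# The ring isomorphism between the normalizations of `A` and of `A_red` for reduced `A` (helper6)
-/

set_option autoImplicit false
universe u

namespace Groth.Agent.Lib.Branches

variable (A : Type u) [CommRing A] [IsReduced A]

theorem isIntegral_fracEquiv (x : FractionRing A) (hx : IsIntegral A x) :
    IsIntegral (CAlg2.red A) (fracEquiv A x) := by
  refine IsIntegral.map_of_comp_eq (redEquiv A).toRingHom (fracEquiv A).toRingHom ?_ hx
  ext a
  exact (fracEquiv_algebraMap A a).symm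

theorem isIntegral_fracEquiv_symm (y : FractionRing (CAlg2.red A))
    (hy : IsIntegral (CAlg2.red A) y) : IsIntegral A ((fracEquiv A).symm y) := by
  refine IsIntegral.map_of_comp_eq (redEquiv A).symm.toRingHom (fracEquiv A).symm.toRingHom ?_ hy
  ext b
  exact (fracEquiv_symm_algebraMap A b).symm

/-- The ring isomorphism between the normalization of `A` and `CAlg2.normRed A`, `A` reduced. -/
noncomputable def normRedEquiv : integralClosure A (FractionRing A) ≃+* CAlg2.normRed A where
  toFun x := ⟨fracEquiv A x.1, isIntegral_fracEquiv A x.1 x.2⟩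
  invFun y := ⟨(fracEquiv A).symm y.1, isIntegral_fracEquiv_symm A y.1 y.2⟩
  left_inv x := Subtype.ext ((fracEquiv A).symm_apply_apply x.1)
  right_inv y := Subtype.ext ((fracEquiv A).apply_symm_apply y.1)
  map_mul' x y := Subtype.ext (map_mul (fracEquiv A) x.1 y.1)
  map_add' x y := Subtype.ext (map_add (fracEquiv A) x.1 y.1)

theorem normRedEquiv_algebraMap (a : A) :
    normRedEquiv A (algebraMap A _ a) = algebraMap A (CAlg2.normRed A) a := by
  apply Subtype.ext
  change fracEquiv A (algebraMap A (FractionRing A) a) = _
  rw [fracEquiv_algebraMap]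
  rfl

/-- The `A`-linear version. -/
noncomputable def normRedLinearEquiv :
    integralClosure A (FractionRing A) ≃ₗ[A] CAlg2.normRed A :=
  { (normRedEquiv A).toAddEquiv with
    map_smul' := by
      intro a x
      change normRedEquiv A (a • x) = a • normRedEquiv A x
      rw [Algebra.smul_def, map_mul, normRedEquiv_algebraMap, Algebra.smul_def] }

theorem normRedLinearEquiv_apply (x : integralClosure A (FractionRing A)) :
    normRedLinearEquiv A x = normRedEquiv A x := rfl

/-- The lengths of `A'/A` computed with the two normalizations agree. -/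
theorem length_quotient_normRed_eq :
    Module.length A (CAlg2.normRed A ⧸ LinearMap.range (Algebra.linearMap A (CAlg2.normRed A))) =
      Module.length A (integralClosure A (FractionRing A) ⧸
        LinearMap.range (Algebra.linearMap A (integralClosure A (FractionRing A)))) := by
  symm
  apply LinearEquiv.length_eq
  refine Submodule.Quotient.equiv _ _ (normRedLinearEquiv A) ?_
  apply le_antisymm
  · rintro _ ⟨_, ⟨a, rfl⟩, rfl⟩
    exact ⟨a, (normRedEquiv_algebraMap A a).symm⟩
  · rintro _ ⟨a, rfl⟩
    exact ⟨algebraMap A _ a, ⟨a, rfl⟩, normRedEquiv_algebraMap A a⟩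

end Groth.Agent.Lib.Branches
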