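import Mathlib
import Groth.Prelude.Def_Hensel
import Groth.Agent.Lib.IndEtale4_helper3

/-!
# Local structure of ind-étale algebras (helper3)

For an ind-étale `A`-algebra `B` and a prime `Q` of `B` over `P`:
* primes over the same prime of `A` are incomparable;
* `P B_Q = Q B_Q`.
-/

set_option autoImplicit false
set_option maxSynthPendingDepth 3
universe u

namespace Groth.Agent.Lib.IndEtaleH3

open IsLocalRing TensorProduct

variable {A B : Type u} [CommRing A] [CommRing B] [Algebra A B]

/-- Primes of an ind-étale algebra over the same prime of the base are incomparable. -/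
theorem prime_eq_of_le_of_isIndEtale (h : EtPBC.IsIndEtale A B) (Q Q' : Ideal B) [Q.IsPrime]
    [Q'.IsPrime] (hle : Q ≤ Q')
    (hc : Q.comap (algebraMap A B) = Q'.comap (algebraMap A B)) : Q = Q' := by
  refine le_antisymm hle fun z hz => ?_
  obtain ⟨C, _, _, _, f, c, rfl⟩ := exists_of_isIndEtale h z
  have h1 : Q.comap f.toRingHom ≤ Q'.comap f.toRingHom := Ideal.comap_mono hle
  have h2 : (Q.comap f.toRingHom).under A = (Q'.comap f.toRingHom).under A := by
    rw [Ideal.under_def, Ideal.under_def, Ideal.comap_comap, Ideal.comap_comap]
    have : f.toRingHom.comp (algebraMap A C) = algebraMap A B := f.comp_algebraMap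
    rw [this, hc]
  have h3 := Algebra.QuasiFinite.eq_of_le_of_under_eq (R := A) _ _ h1 h2
  have h4 : c ∈ Q'.comap f.toRingHom := hz
  rw [← h3] at h4
  exact h4

/-- For an ind-étale `A`-algebra `B` and a prime `Q` of `B` over `P`, `P B_Q = Q B_Q`. -/
theorem map_comap_atPrime_of_isIndEtale (h : EtPBC.IsIndEtale A B) (Q : Ideal B) [Q.IsPrime] :
    (Q.comap (algebraMap A B)).map (algebraMap A (Localization.AtPrime Q)) =
      maximalIdeal (Localization.AtPrime Q) := by
  apply le_antisymm
  · rw [Ideal.map_le_iff_le_comap]
    intro x hx
    rw [Ideal.mem_comap, IsScalarTower.algebraMap_apply A B (Localization.AtPrime Q),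
      ← Localization.AtPrime.map_eq_maximalIdeal]
    exact Ideal.mem_map_of_mem _ hx
  · rw [← Localization.AtPrime.map_eq_maximalIdeal, Ideal.map_le_iff_le_comap]
    intro z hz
    obtain ⟨C, _, _, _, f, c, rfl⟩ := exists_of_isIndEtale h z
    set P : Ideal A := Q.comap (algebraMap A B) with hP
    let q : Ideal C := Q.comap f.toRingHom
    haveI : q.IsPrime := Ideal.comap_isPrime _ _
    have hfa : f.toRingHom.comp (algebraMap A C) = algebraMap A B := f.comp_algebraMap
    haveI : q.LiesOver P := ⟨by
      rw [Ideal.under_def, Ideal.comap_comap, hfa]⟩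
    letI := Localization.AtPrime.algebraOfLiesOver P q
    have hun : Algebra.IsUnramifiedAt A q := inferInstance
    have hmap := ((Algebra.isUnramifiedAt_iff_map_eq A P q).mp hun).2
    have hc : algebraMap C (Localization.AtPrime q) c ∈ maximalIdeal (Localization.AtPrime q) := by
      rw [← Localization.AtPrime.map_eq_maximalIdeal]
      exact Ideal.mem_map_of_mem _ hz
    rw [← hmap] at hc
    let φ : Localization.AtPrime q →+* Localization.AtPrime Q :=
      Localization.localRingHom q Q f.toRingHom rfl
    have hφ : φ.comp (algebraMap A (Localization.AtPrime q)) =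
        algebraMap A (Localization.AtPrime Q) := by
      ext a
      simp only [RingHom.comp_apply, φ]
      rw [IsScalarTower.algebraMap_apply A C (Localization.AtPrime q),
        Localization.localRingHom_to_map,
        IsScalarTower.algebraMap_apply A B (Localization.AtPrime Q)]
      congr 1
      exact f.commutes a
    have h5 := Ideal.mem_map_of_mem φ hc
    rw [Ideal.map_map, hφ] at h5
    rw [Ideal.mem_comap]
    have h6 : φ (algebraMap C (Localization.AtPrime q) c) =
        algebraMap B (Localization.AtPrime Q) (f c) := Localization.localRingHom_to_map _ _ _ _ _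
    rw [← h6]
    exact h5

end Groth.Agent.Lib.IndEtaleH3
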