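import Mathlib
import Groth.Prelude.Def_Hensel
import Groth.Prelude.Def_CAlg
import Groth.Agent.Lib.IndEtaleLoc1_helper3
import Groth.Agent.Lib.DepthDescent_helper5
import Groth.Agent.Lib.CompletionRegular_helper5

/-!
# Ind-étale algebras: heights, depth, `(S_k)` and `(R_k)` (helper3)
-/

set_option autoImplicit false
set_option maxSynthPendingDepth 3
universe u

namespace Groth.Agent.Lib.IndEtaleH3

open IsLocalRing TensorProduct

variable {A B : Type u} [CommRing A] [CommRing B] [Algebra A B]

theorem comap_strictMono_of_isIndEtale (h : EtPBC.IsIndEtale A B) :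
    StrictMono (PrimeSpectrum.comap (algebraMap A B)) := by
  intro a b hab
  have hle : a.asIdeal ≤ b.asIdeal := hab.le
  refine lt_of_le_of_ne (Ideal.comap_mono hle) fun heq => ?_
  have h1 : a.asIdeal.comap (algebraMap A B) = b.asIdeal.comap (algebraMap A B) :=
    congrArg PrimeSpectrum.asIdeal heq
  have h2 := prime_eq_of_le_of_isIndEtale h a.asIdeal b.asIdeal hle h1
  exact hab.ne (PrimeSpectrum.ext h2)

theorem height_comap_of_isIndEtale (h : EtPBC.IsIndEtale A B) (Q : Ideal B) [Q.IsPrime] :
    (Q.comap (algebraMap A B)).height = Q.height := by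
  haveI : Module.Flat A B := flat_of_isIndEtale h
  let p : PrimeSpectrum A := ⟨Q.comap (algebraMap A B), inferInstance⟩
  let q : PrimeSpectrum B := ⟨Q, inferInstance⟩
  show p.asIdeal.height = q.asIdeal.height
  rw [PrimeSpectrum.height_eq_orderHeight, PrimeSpectrum.height_eq_orderHeight]
  apply le_antisymm
  · rw [Order.height_eq_iSup_last_eq]
    apply iSup₂_le
    intro l hl
    haveI : Q.LiesOver l.last.asIdeal := ⟨by rw [hl]⟩
    obtain ⟨L, hlen, hlast, -⟩ := Ideal.exists_ltSeries_of_hasGoingDown l Q
    rw [← hlen]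
    exact Order.length_le_height hlast.le
  · exact Order.height_le_height_apply_of_strictMono _ (comap_strictMono_of_isIndEtale h) q

theorem mem_minimalPrimes_map_comap_of_isIndEtale (h : EtPBC.IsIndEtale A B) (Q : Ideal B)
    [Q.IsPrime] : Q ∈ ((Q.comap (algebraMap A B)).map (algebraMap A B)).minimalPrimes := by
  refine ⟨⟨inferInstance, Ideal.map_comap_le⟩, fun Q' ⟨hQ'p, hQ'⟩ hle => ?_⟩
  haveI := hQ'p
  have h1 : Q'.comap (algebraMap A B) = Q.comap (algebraMap A B) :=
    le_antisymm (Ideal.comap_mono hle) (Ideal.map_le_iff_le_comap.mp hQ')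
  exact (prime_eq_of_le_of_isIndEtale h Q' Q hle h1).ge

theorem depth_atPrime_of_isIndEtale [IsNoetherianRing A] [IsNoetherianRing B]
    (h : EtPBC.IsIndEtale A B) (Q : Ideal B) [Q.IsPrime] :
    LocCoh.depth (Localization.AtPrime Q) (Localization.AtPrime Q) =
      LocCoh.depth (Localization.AtPrime (Q.comap (algebraMap A B)))
        (Localization.AtPrime (Q.comap (algebraMap A B))) := by
  haveI : Module.Flat A B := flat_of_isIndEtale h
  haveI : Q.LiesOver (Q.comap (algebraMap A B)) := ⟨rfl⟩
  exact (Groth.Agent.DepthLib.depth_localization_eq_of_minimalPrimes A B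
    (Q.comap (algebraMap A B)) Q (mem_minimalPrimes_map_comap_of_isIndEtale h Q)).symm

theorem hasSk_iff_of_isIndEtale [IsNoetherianRing A] [IsNoetherianRing B]
    [Module.FaithfullyFlat A B] (h : EtPBC.IsIndEtale A B) (k : ℕ) :
    LocCoh.HasSk k B B ↔ LocCoh.HasSk k A A := by
  refine ⟨Groth.Agent.DepthLib.hasSk_of_faithfullyFlat A B k, fun hA Q _ => ?_⟩
  have h1 := hA (Q.comap (algebraMap A B))
  rw [Groth.Agent.DepthLib.supportDim_locSelf, Groth.Agent.DepthLib.depth_locSelf] at h1 ⊢
  rw [depth_atPrime_of_isIndEtale h Q, ← height_comap_of_isIndEtale h Q]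
  exact h1

/-- Regularity transfers along flat local maps with `𝔪_R S = 𝔪_S` and equal dimensions. -/
theorem isRegularLocalRing_iff_of_map_eq (R S : Type u) [CommRing R] [CommRing S] [IsLocalRing R]
    [IsLocalRing S] [IsNoetherianRing R] [IsNoetherianRing S] [Algebra R S]
    [Module.FaithfullyFlat R S]
    (hmap : (maximalIdeal R).map (algebraMap R S) = maximalIdeal S)
    (hdim : ringKrullDim S = ringKrullDim R) :
    IsRegularLocalRing S ↔ IsRegularLocalRing R := by
  have hspan : (maximalIdeal S).spanFinrank = (maximalIdeal R).spanFinrank := by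
    apply le_antisymm
    · rw [← hmap]
      exact Ideal.spanFinrank_map_le_of_fg _ (IsNoetherian.noetherian _)
    · exact Groth.Agent.RegularLib.spanFinrank_le_of_faithfullyFlat R S hmap
  rw [isRegularLocalRing_iff, isRegularLocalRing_iff, hdim, hspan]

theorem isRegularLocalRing_atPrime_iff_of_isIndEtale [IsNoetherianRing A] [IsNoetherianRing B]
    (h : EtPBC.IsIndEtale A B) (Q : Ideal B) [Q.IsPrime] :
    IsRegularLocalRing (Localization.AtPrime Q) ↔
      IsRegularLocalRing (Localization.AtPrime (Q.comap (algebraMap A B))) := by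
  haveI : Module.Flat A B := flat_of_isIndEtale h
  set P := Q.comap (algebraMap A B) with hP
  haveI : Q.LiesOver P := ⟨rfl⟩
  letI := Localization.AtPrime.algebraOfLiesOver P Q
  haveI : IsLocalHom (algebraMap (Localization.AtPrime P) (Localization.AtPrime Q)) :=
    Localization.isLocalHom_localRingHom P Q (algebraMap A B) Ideal.LiesOver.over
  haveI : Module.FaithfullyFlat (Localization.AtPrime P) (Localization.AtPrime Q) :=
    Module.FaithfullyFlat.of_flat_of_isLocalHom
  apply isRegularLocalRing_iff_of_map_eq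
  · rw [← Localization.AtPrime.map_eq_maximalIdeal, Ideal.map_map,
      ← IsScalarTower.algebraMap_eq]
    exact map_comap_atPrime_of_isIndEtale h Q
  · rw [IsLocalization.AtPrime.ringKrullDim_eq_height Q,
      IsLocalization.AtPrime.ringKrullDim_eq_height P, hP, height_comap_of_isIndEtale h Q]

theorem hasRk_iff_of_isIndEtale [IsNoetherianRing A] [IsNoetherianRing B]
    [Module.FaithfullyFlat A B] (h : EtPBC.IsIndEtale A B) (k : ℕ) :
    LocCoh.HasRk k B ↔ LocCoh.HasRk k A := by
  constructor
  · intro hB P _ hP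
    obtain ⟨Q, hQ, hQP⟩ := Ideal.exists_isPrime_liesOver_of_faithfullyFlat (B := B) P
    have hPQ : P = Q.comap (algebraMap A B) := hQP.over
    have h1 := hB Q (by rw [← height_comap_of_isIndEtale h Q, ← hPQ]; exact hP)
    have h2 := (isRegularLocalRing_atPrime_iff_of_isIndEtale h Q).mp h1
    subst hPQ
    exact h2
  · intro hA Q _ hQ
    exact (isRegularLocalRing_atPrime_iff_of_isIndEtale h Q).mpr
      (hA _ (by rw [height_comap_of_isIndEtale h Q]; exact hQ))

end Groth.Agent.Lib.IndEtaleH3
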