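import Mathlib
import Groth.Prelude.Def_PBC
import Groth.Agent.Lib.IndEtale2_helper3
set_option autoImplicit false
universe u
open CategoryTheory Limits TensorProduct

namespace Groth.Agent.Lib.IndEtaleH3

theorem isIndEtale_baseChange (A B A' : Type u) [CommRing A] [CommRing B] [CommRing A']
    [Algebra A B] [Algebra A A'] (h : EtPBC.IsIndEtale A B) :
    EtPBC.IsIndEtale A' (A' ⊗[A] B) := by
  obtain ⟨J, i1, i2, D, c, hc, het, ⟨ι⟩⟩ := h
  let F : Under (CommRingCat.of A) ⥤ Under (CommRingCat.of A') :=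
    CommRingCat.tensorProd (CommRingCat.of A) (CommRingCat.of A')
  haveI : PreservesColimitsOfSize.{u, u} (Under.pushout (CommRingCat.ofHom (algebraMap A A'))) :=
    (Under.mapPushoutAdj _).leftAdjoint_preservesColimits
  haveI : PreservesColimitsOfSize.{u, u} F :=
    preservesColimits_of_natIso
      (CommRingCat.tensorProdIsoPushout (CommRingCat.of A) (CommRingCat.of A')).symm
  let X : Under (CommRingCat.of A) := Under.mk (CommRingCat.ofHom (algebraMap A B))
  letI instX : Algebra A X.right := CommRingCat.instAlgebraCarrierRight X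
  have h1 : EtPBC.IsIndEtale A' (A' ⊗[A] X.right) := by
    refine ⟨J, i1, i2, D ⋙ F, F.mapCocone c, isColimitOfPreserves F hc, ?_,
      ⟨F.mapIso ι ≪≫ Iso.refl _⟩⟩
    intro j
    letI := (D.obj j).hom.hom.toAlgebra
    have hj : Algebra.Etale A (D.obj j).right := het j
    have : ((D ⋙ F).obj j).hom.hom.toAlgebra =
        (inferInstance : Algebra A' (A' ⊗[A] (D.obj j).right)) :=
      Algebra.algebra_ext _ _ (fun r => rfl)
    show @Algebra.Etale A' (A' ⊗[A] (D.obj j).right) _ _ ((D ⋙ F).obj j).hom.hom.toAlgebra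
    rw [this]
    exact @Algebra.Etale.baseChange A (D.obj j).right A' _ _ _ _ _ hj
  let e₀ : @AlgEquiv A X.right B _ _ _ instX _ :=
    { RingEquiv.refl B with commutes' := fun r => rfl }
  let e₁ : (A' ⊗[A] X.right) ≃ₐ[A'] A' ⊗[A] B :=
    Algebra.TensorProduct.congr AlgEquiv.refl e₀
  exact isIndEtale_of_ringEquiv e₁.toRingEquiv (fun r => e₁.commutes r) h1

end Groth.Agent.Lib.IndEtaleH3
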