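import Mathlib
import Groth.Prelude.Def_Hensel
import Groth.Agent.Lib.IndEtale4_helper3

/-!
# Ind-étale algebras over normal domains: integral elements with denominators from the base
(helper3)
-/

set_option autoImplicit false
set_option maxSynthPendingDepth 3
universe u

namespace Groth.Agent.Lib.IndEtaleH3

open Polynomial TensorProduct

variable {R : Type u} [CommRing R] [IsDomain R] [IsIntegrallyClosed R]

/-- Étale stage: if `c / r` (with `r` from the base) is integral over an étale algebra `C` over a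
normal domain, then `r ∣ c`. -/
theorem dvd_of_eval_scaleRoots_eq_zero_of_etale (C : Type u) [CommRing C] [Algebra R C]
    [Algebra.Etale R C] {c : C} {r : R} (hr : r ≠ 0) {f : C[X]} (hf : f.Monic)
    (h : (f.scaleRoots (algebraMap R C r)).eval c = 0) : algebraMap R C r ∣ c := by
  let K := FractionRing R
  have hrK : algebraMap R K r ≠ 0 :=
    (map_ne_zero_iff _ (IsFractionRing.injective R K)).mpr hr
  let φ : C →+* C ⊗[R] K := algebraMap C (C ⊗[R] K)
  set z : C ⊗[R] K := c ⊗ₜ[R] (algebraMap R K r)⁻¹ with hz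
  have h1 : φ (algebraMap R C r) * z = φ c := by
    show (algebraMap R C r ⊗ₜ[R] (1 : K)) * (c ⊗ₜ[R] (algebraMap R K r)⁻¹) = c ⊗ₜ[R] (1 : K)
    rw [Algebra.TensorProduct.tmul_mul_tmul, one_mul, Algebra.algebraMap_eq_smul_one,
      smul_mul_assoc, one_mul, TensorProduct.smul_tmul, Algebra.smul_def,
      mul_inv_cancel₀ hrK]
  have hunit : IsUnit (φ (algebraMap R C r)) := by
    refine IsUnit.of_mul_eq_one ((1 : C) ⊗ₜ[R] (algebraMap R K r)⁻¹) ?_
    show (algebraMap R C r ⊗ₜ[R] (1 : K)) * ((1 : C) ⊗ₜ[R] (algebraMap R K r)⁻¹) = 1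
    rw [Algebra.TensorProduct.tmul_mul_tmul, one_mul, mul_one, Algebra.algebraMap_eq_smul_one,
      TensorProduct.smul_tmul, Algebra.smul_def, mul_inv_cancel₀ hrK]
    rfl
  have h2 : eval₂ φ (φ (algebraMap R C r) * z) (f.scaleRoots (algebraMap R C r)) =
      φ (algebraMap R C r) ^ f.natDegree * eval₂ φ z f := scaleRoots_eval₂_mul φ z _
  rw [h1, Polynomial.eval₂_at_apply, h, map_zero] at h2
  have h3 : eval₂ φ z f = 0 := by
    have := (hunit.pow f.natDegree).mul_right_eq_zero.mp h2.symm
    exact this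
  have hint : IsIntegral C z := ⟨f, hf, h3⟩
  have hw' : ∀ w : C ⊗[R] integralClosure R K, ∃ c'' : C, w = c'' ⊗ₜ[R] 1 := by
    intro w
    induction w using TensorProduct.induction_on with
    | zero => exact ⟨0, by simp⟩
    | tmul x y =>
      have hy : (y : K) ∈ (⊥ : Subalgebra R K) := by
        rw [← IsIntegrallyClosed.integralClosure_eq_bot R K]
        exact y.2
      obtain ⟨r₁, hr₁⟩ := Algebra.mem_bot.mp hy
      refine ⟨r₁ • x, ?_⟩
      rw [TensorProduct.smul_tmul]
      congr 1
      apply Subtype.ext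
      rw [← hr₁]
      simp [Algebra.smul_def]
    | add x y hx hy =>
      obtain ⟨c₁, rfl⟩ := hx
      obtain ⟨c₂, rfl⟩ := hy
      exact ⟨c₁ + c₂, by rw [TensorProduct.add_tmul]⟩
  obtain ⟨w, hw⟩ := (TensorProduct.toIntegralClosure_bijective_of_smooth (R := R) (S := C)
    (B := K)).2 ⟨z, hint⟩
  obtain ⟨c'', rfl⟩ := hw' w
  have h4 : z = c'' ⊗ₜ[R] (1 : K) := by
    have := congrArg Subtype.val hw
    simpa [TensorProduct.toIntegralClosure] using this.symm
  refine ⟨c'', ?_⟩
  apply Algebra.TensorProduct.includeLeft_injective (R := R) (S := R) (A := C) (B := K)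
    (IsFractionRing.injective R K)
  show c ⊗ₜ[R] (1 : K) = (algebraMap R C r * c'') ⊗ₜ[R] (1 : K)
  have h5 : φ (algebraMap R C r) * z = (algebraMap R C r * c'') ⊗ₜ[R] (1 : K) := by
    rw [h4]
    show (algebraMap R C r ⊗ₜ[R] (1 : K)) * (c'' ⊗ₜ[R] (1 : K)) = _
    rw [Algebra.TensorProduct.tmul_mul_tmul, one_mul]
  rw [← h5, h1]
  rfl

/-- transport of a homogenized relation along a ring hom -/
theorem eval_scaleRoots_map {A B : Type*} [CommRing A] [CommRing B] [Nontrivial B] (g : A →+* B)
    {f : A[X]} (hf : f.Monic) (a b : A) :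
    ((f.map g).scaleRoots (g b)).eval (g a) = g ((f.scaleRoots b).eval a) := by
  rw [← map_scaleRoots _ _ _ (by rw [hf.leadingCoeff, map_one]; exact one_ne_zero),
    eval_map, eval₂_at_apply]

/-- Ind-étale version: if `s / r` (with `r` from the base) is integral over an ind-étale algebra
`S` over a normal domain, then `r ∣ s`. -/
theorem dvd_of_eval_scaleRoots_eq_zero_of_isIndEtale {S : Type u} [CommRing S] [Algebra R S]
    [Nontrivial S] (h : EtPBC.IsIndEtale R S) {s : S} {r : R} (hr : r ≠ 0) {f : S[X]}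
    (hf : f.Monic) (hfs : (f.scaleRoots (algebraMap R S r)).eval s = 0) :
    algebraMap R S r ∣ s := by
  classical
  obtain ⟨C, _, _, _, g, hg⟩ := exists_finset_of_isIndEtale h (insert s f.coeffs)
  obtain ⟨c, hc⟩ := hg s (Finset.mem_insert_self _ _)
  have hlift : f ∈ Polynomial.lifts g.toRingHom := by
    rw [Polynomial.lifts_iff_coeff_lifts]
    intro n
    by_cases hn : f.coeff n = 0
    · rw [hn]
      exact ⟨0, map_zero _⟩
    · exact hg _ (Finset.mem_insert_of_mem (Polynomial.coeff_mem_coeffs hn))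
  obtain ⟨fC, hfC, -, hfCm⟩ := Polynomial.lifts_and_natDegree_eq_and_monic hlift hf
  set y := (fC.scaleRoots (algebraMap R C r)).eval c with hy_def
  have hy : g y = 0 := by
    have h1 := eval_scaleRoots_map g.toRingHom hfCm c (algebraMap R C r)
    rw [hfC] at h1
    have h2 : g.toRingHom (algebraMap R C r) = algebraMap R S r := g.commutes r
    have h3 : g.toRingHom c = s := hc
    rw [h2, h3, hfs] at h1
    exact h1.symm
  obtain ⟨C', _, _, _, g', f', hgf, hg'⟩ := exists_factor_of_isIndEtale h C g y hy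
  haveI : Nontrivial C' := f'.toRingHom.domain_nontrivial
  have h2 : ((fC.map g'.toRingHom).scaleRoots (algebraMap R C' r)).eval (g' c) = 0 := by
    have h1 := eval_scaleRoots_map g'.toRingHom hfCm c (algebraMap R C r)
    have h3 : g'.toRingHom (algebraMap R C r) = algebraMap R C' r := g'.commutes r
    rw [h3] at h1
    rw [show g' c = g'.toRingHom c from rfl, h1]
    exact hg'
  obtain ⟨c'', hc''⟩ := dvd_of_eval_scaleRoots_eq_zero_of_etale C' hr (hfCm.map _) h2
  refine ⟨f' c'', ?_⟩
  have h4 : s = f' (g' c) := by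
    rw [← hc, ← hgf]
    rfl
  rw [h4, hc'', map_mul, f'.commutes]

end Groth.Agent.Lib.IndEtaleH3
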