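import Mathlib

/-!
# Elementary criteria for integrally closed domains; faithfully flat descent (helper3)
-/

set_option autoImplicit false
set_option maxSynthPendingDepth 3
universe u

namespace Groth.Agent.Lib.NormalCritH3

open Polynomial

variable {D : Type*} [CommRing D]

/-- In an integrally closed domain, a homogenized integral relation for `a / b` gives `b ∣ a`. -/
theorem dvd_of_eval_scaleRoots_eq_zero [IsDomain D] [IsIntegrallyClosed D] {a b : D} (hb : b ≠ 0)
    {f : D[X]} (hf : f.Monic) (h : (f.scaleRoots b).eval a = 0) : b ∣ a := by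
  let K := FractionRing D
  let ι := algebraMap D K
  have hιb : ι b ≠ 0 := (map_ne_zero_iff ι (IsFractionRing.injective D K)).mpr hb
  set z : K := ι a / ι b with hz
  have h1 : ι b * z = ι a := by rw [hz, mul_comm, div_mul_cancel₀ _ hιb]
  have h2 : eval₂ ι (ι b * z) (f.scaleRoots b) = ι b ^ f.natDegree * eval₂ ι z f :=
    scaleRoots_eval₂_mul ι z b
  rw [h1, Polynomial.eval₂_at_apply, h, map_zero] at h2
  have h3 : eval₂ ι z f = 0 := by
    rcases mul_eq_zero.mp h2.symm with h4 | h4
    · exact absurd (pow_eq_zero_iff (M₀ := K) (by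
        intro h0; rw [h0, pow_zero] at h4; exact one_ne_zero h4) |>.mp h4) hιb
    · exact h4
  have hint : IsIntegral D z := ⟨f, hf, h3⟩
  obtain ⟨d, hd⟩ := (isIntegrallyClosed_iff K).mp inferInstance hint
  refine ⟨d, ?_⟩
  apply IsFractionRing.injective D K
  rw [map_mul, hd]
  exact h1.symm

/-- Converse criterion. -/
theorem isIntegrallyClosed_of_forall_dvd [IsDomain D]
    (H : ∀ (a b : D), b ≠ 0 → ∀ f : D[X], f.Monic → (f.scaleRoots b).eval a = 0 → b ∣ a) :
    IsIntegrallyClosed D := by
  rw [isIntegrallyClosed_iff (FractionRing D)]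
  intro x hx
  obtain ⟨f, hf, hfx⟩ := hx
  obtain ⟨a, b, hb, rfl⟩ := IsFractionRing.div_surjective (A := D) x
  have h1 : aeval (algebraMap D (FractionRing D) a) (f.scaleRoots b) = 0 :=
    scaleRoots_aeval_eq_zero_of_aeval_div_eq_zero (IsFractionRing.injective D _) hfx hb
  rw [aeval_algebraMap_apply] at h1
  have h2 : (f.scaleRoots b).eval a = 0 := by
    apply IsFractionRing.injective D (FractionRing D)
    rw [map_zero]
    exact h1
  have hb0 : b ≠ 0 := nonZeroDivisors.ne_zero hb
  obtain ⟨d, hd⟩ := H a b hb0 f hf h2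
  refine ⟨d, ?_⟩
  have hιb : algebraMap D (FractionRing D) b ≠ 0 :=
    (map_ne_zero_iff _ (IsFractionRing.injective D _)).mpr hb0
  rw [hd, map_mul]
  field_simp

/-- Normal domains descend along faithfully flat ring maps. -/
theorem isIntegrallyClosed_of_faithfullyFlat (A B : Type*) [CommRing A] [CommRing B] [Algebra A B]
    [Module.FaithfullyFlat A B] [IsDomain B] [IsIntegrallyClosed B] :
    ∃ _ : IsDomain A, IsIntegrallyClosed A := by
  have hinj : Function.Injective (algebraMap A B) := FaithfulSMul.algebraMap_injective A B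
  haveI : IsDomain A := hinj.isDomain (algebraMap A B)
  refine ⟨inferInstance, isIntegrallyClosed_of_forall_dvd fun a b hb f hf h => ?_⟩
  have hb' : algebraMap A B b ≠ 0 := (map_ne_zero_iff _ hinj).mpr hb
  have h1 : ((f.map (algebraMap A B)).scaleRoots (algebraMap A B b)).eval (algebraMap A B a) = 0 := by
    rw [← map_scaleRoots _ _ _ (by rw [hf.leadingCoeff, map_one]; exact one_ne_zero),
      eval_map, eval₂_at_apply, h, map_zero]
  obtain ⟨d, hd⟩ := dvd_of_eval_scaleRoots_eq_zero hb' (hf.map _) h1
  have h2 : algebraMap A B a ∈ (Ideal.span {b}).map (algebraMap A B) := by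
    rw [Ideal.map_span, Set.image_singleton, Ideal.mem_span_singleton]
    exact ⟨d, hd⟩
  have h3 : a ∈ ((Ideal.span {b}).map (algebraMap A B)).comap (algebraMap A B) := h2
  rw [Ideal.comap_map_eq_self_of_faithfullyFlat] at h3
  exact Ideal.mem_span_singleton.mp h3

end Groth.Agent.Lib.NormalCritH3
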