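import Mathlib
import Groth.Prelude.Def_Hensel
import Groth.Agent.Lib.IndEtale3_helper3
import Groth.Agent.Lib.IndEtaleNormal1_helper3
import Groth.Agent.Lib.NormalCrit_helper3

/-!
# A local ind-étale algebra over a normal domain is a normal domain (helper3)
-/

set_option autoImplicit false
set_option maxSynthPendingDepth 3
universe u

namespace Groth.Agent.Lib.IndEtaleH3

open Polynomial TensorProduct

theorem eq_zero_or_eq_one_of_isIdempotentElem {A : Type*} [CommRing A] [IsLocalRing A] {e : A}
    (he : IsIdempotentElem e) : e = 0 ∨ e = 1 := by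
  have h0 : e * (1 - e) = 0 := by rw [mul_sub, mul_one, he.eq, sub_self]
  rcases IsLocalRing.isUnit_or_isUnit_one_sub_self e with h | h
  · right
    have := h.mul_right_eq_zero.mp h0
    exact (sub_eq_zero.mp this).symm
  · left
    exact h.mul_left_eq_zero.mp h0

/-- Ind-étale algebras over a field are von Neumann regular. -/
theorem exists_mul_mul_eq_of_isIndEtale_field {K L : Type u} [Field K] [CommRing L] [Algebra K L]
    (h : EtPBC.IsIndEtale K L) (x : L) : ∃ y, x * x * y = x := by
  obtain ⟨E, _, _, _, g, e, rfl⟩ := exists_of_isIndEtale h x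
  obtain ⟨I, _, Ai, _, _, ε, -⟩ :=
    (Algebra.FormallyEtale.iff_exists_algEquiv_prod K E).mp inferInstance
  refine ⟨g (ε.symm (fun i => (ε e i)⁻¹)), ?_⟩
  rw [← map_mul, ← map_mul]
  congr 1
  apply ε.injective
  ext i
  simp only [map_mul, Pi.mul_apply, AlgEquiv.apply_symm_apply]
  by_cases h0 : ε e i = 0
  · simp [h0]
  · rw [mul_assoc, mul_inv_cancel₀ h0, mul_one]

theorem isField_of_forall_exists_of_idempotent {L : Type*} [CommRing L] [Nontrivial L]
    (h1 : ∀ x : L, ∃ y, x * x * y = x) (h2 : ∀ e : L, IsIdempotentElem e → e = 0 ∨ e = 1) :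
    IsField L := by
  refine ⟨exists_pair_ne L, mul_comm, fun {x} hx => ?_⟩
  obtain ⟨y, hy⟩ := h1 x
  have hid : IsIdempotentElem (x * y) := by
    show x * y * (x * y) = x * y
    calc x * y * (x * y) = (x * x * y) * y := by ring
      _ = x * y := by rw [hy]
  rcases h2 _ hid with h0 | h1'
  · exfalso
    apply hx
    rw [← hy, mul_assoc, h0, mul_zero]
  · exact ⟨y, h1'⟩

theorem isIntegral_of_isIdempotentElem {A T : Type*} [CommRing A] [CommRing T] [Algebra A T]
    {e : T} (he : IsIdempotentElem e) : IsIntegral A e := by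
  rcases subsingleton_or_nontrivial A with hA | hA
  · haveI : Subsingleton T := (algebraMap A T).codomain_trivial
    exact ⟨1, monic_one, Subsingleton.elim _ _⟩
  refine ⟨X ^ 2 - X, monic_X_pow_sub (by rw [degree_X]; norm_num), ?_⟩
  rw [eval₂_sub, eval₂_X_pow, eval₂_X, pow_two, he.eq, sub_self]

section

variable {R : Type u} [CommRing R] [IsDomain R] [IsIntegrallyClosed R]
variable {S : Type u} [CommRing S] [Algebra R S]

/-- overring form of `dvd_of_eval_scaleRoots_eq_zero_of_isIndEtale` -/
theorem dvd_of_isIntegral_of_isIndEtale [Nontrivial S] (h : EtPBC.IsIndEtale R S) {T : Type*}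
    [CommRing T] [Algebra S T] (hinj : Function.Injective (algebraMap S T)) {s : S} {r : R}
    (hr : r ≠ 0) {z : T} (hz : algebraMap S T (algebraMap R S r) * z = algebraMap S T s)
    (hint : IsIntegral S z) : algebraMap R S r ∣ s := by
  obtain ⟨f, hf, hfz⟩ := hint
  refine dvd_of_eval_scaleRoots_eq_zero_of_isIndEtale h hr hf ?_
  have h1 : aeval (algebraMap S T (algebraMap R S r) * z) (f.scaleRoots (algebraMap R S r)) = 0 :=
    scaleRoots_aeval_eq_zero hfz
  rw [hz, aeval_algebraMap_apply] at h1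
  apply hinj
  rw [map_zero]
  exact h1

/-- every element of `Frac R ⊗ S` is of the form `(1/r) ⊗ s` -/
theorem exists_inv_tmul (x : FractionRing R ⊗[R] S) :
    ∃ (r : R) (_ : r ≠ 0) (s : S), x = (algebraMap R (FractionRing R) r)⁻¹ ⊗ₜ[R] s := by
  induction x using TensorProduct.induction_on with
  | zero => exact ⟨1, one_ne_zero, 0, by simp⟩
  | tmul k s =>
    obtain ⟨a, b, hb, rfl⟩ := IsFractionRing.div_surjective (A := R) k
    refine ⟨b, nonZeroDivisors.ne_zero hb, a • s, ?_⟩
    rw [TensorProduct.tmul_smul, TensorProduct.smul_tmul']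
    congr 1
    rw [Algebra.smul_def, div_eq_mul_inv]
  | add x y hx hy =>
    obtain ⟨r₁, hr₁, s₁, rfl⟩ := hx
    obtain ⟨r₂, hr₂, s₂, rfl⟩ := hy
    have h1 : algebraMap R (FractionRing R) r₁ ≠ 0 :=
      (map_ne_zero_iff _ (IsFractionRing.injective R _)).mpr hr₁
    have h2 : algebraMap R (FractionRing R) r₂ ≠ 0 :=
      (map_ne_zero_iff _ (IsFractionRing.injective R _)).mpr hr₂
    refine ⟨r₁ * r₂, mul_ne_zero hr₁ hr₂, r₂ • s₁ + r₁ • s₂, ?_⟩
    rw [TensorProduct.tmul_add, TensorProduct.tmul_smul, TensorProduct.tmul_smul,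
      TensorProduct.smul_tmul', TensorProduct.smul_tmul']
    congr 1
    · congr 1
      rw [Algebra.smul_def, map_mul]
      field_simp
    · congr 1
      rw [Algebra.smul_def, map_mul]
      field_simp

/-- **A local ind-étale algebra over a normal domain is a normal domain.** -/
theorem isDomain_and_isIntegrallyClosed_of_isIndEtale [IsLocalRing S]
    (h : EtPBC.IsIndEtale R S) : ∃ _ : IsDomain S, IsIntegrallyClosed S := by
  let K := FractionRing R
  let L := K ⊗[R] S
  haveI : Module.Flat R S := flat_of_isIndEtale h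
  let ι : S →ₐ[R] L := Algebra.TensorProduct.includeRight
  have hι : Function.Injective ι :=
    Algebra.TensorProduct.includeRight_injective (IsFractionRing.injective R K)
  letI : Algebra S L := ι.toRingHom.toAlgebra
  have hL : EtPBC.IsIndEtale K L := isIndEtale_baseChange R S K h
  haveI : Nontrivial L := hι.nontrivial
  have key : ∀ (r : R) (k : K) (s : S),
      k ⊗ₜ[R] (algebraMap R S r * s) = (algebraMap R K r * k) ⊗ₜ[R] s := by
    intro r k s
    rw [← Algebra.smul_def r s, TensorProduct.tmul_smul, TensorProduct.smul_tmul',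
      Algebra.smul_def r k]
  have hu : ∀ (r : R) (_ : r ≠ 0) (s : S),
      ι (algebraMap R S r) * ((algebraMap R K r)⁻¹ ⊗ₜ[R] s) = ι s := by
    intro r hr s
    have hrK : algebraMap R K r ≠ 0 :=
      (map_ne_zero_iff _ (IsFractionRing.injective R K)).mpr hr
    show ((1 : K) ⊗ₜ[R] algebraMap R S r) * ((algebraMap R K r)⁻¹ ⊗ₜ[R] s) = (1 : K) ⊗ₜ[R] s
    rw [Algebra.TensorProduct.tmul_mul_tmul, one_mul, key, mul_inv_cancel₀ hrK]
  have hrS : ∀ r : R, r ≠ 0 → algebraMap R S r ≠ 0 := by
    intro r hr h0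
    have := hu r hr 1
    rw [h0, map_zero, zero_mul, map_one] at this
    exact zero_ne_one this
  have hidem : ∀ e : L, IsIdempotentElem e → e = 0 ∨ e = 1 := by
    intro e he
    obtain ⟨r, hr, s, rfl⟩ := exists_inv_tmul e
    have hdvd : algebraMap R S r ∣ s :=
      dvd_of_isIntegral_of_isIndEtale h (T := L) hι hr (hu r hr s)
        (isIntegral_of_isIdempotentElem he)
    obtain ⟨t, rfl⟩ := hdvd
    have hrK : algebraMap R K r ≠ 0 :=
      (map_ne_zero_iff _ (IsFractionRing.injective R K)).mpr hr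
    have he' : (algebraMap R K r)⁻¹ ⊗ₜ[R] (algebraMap R S r * t) = ι t := by
      show _ = (1 : K) ⊗ₜ[R] t
      rw [key, mul_inv_cancel₀ hrK]
    rw [he'] at he ⊢
    have ht : IsIdempotentElem t := hι (by rw [map_mul]; exact he.eq)
    rcases eq_zero_or_eq_one_of_isIdempotentElem ht with rfl | rfl
    · left
      exact map_zero ι
    · right
      exact map_one ι
  have hfield : IsField L :=
    isField_of_forall_exists_of_idempotent (exists_mul_mul_eq_of_isIndEtale_field hL) hidem
  haveI : IsDomain S := by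
    letI := hfield.toField
    exact hι.isDomain ι.toRingHom
  refine ⟨inferInstance,
    Groth.Agent.Lib.NormalCritH3.isIntegrallyClosed_of_forall_dvd fun a b hb f hf hfa => ?_⟩
  obtain ⟨w, hw⟩ := hfield.mul_inv_cancel (a := ι b) ((map_ne_zero_iff _ hι).mpr hb)
  obtain ⟨r, hr, t, rfl⟩ := exists_inv_tmul w
  have hbt : b * t = algebraMap R S r := by
    apply hι
    rw [map_mul, ← hu r hr t, ← mul_assoc, mul_comm (ι b), mul_assoc, hw, mul_one]
  have ht0 : t ≠ 0 := by
    rintro rfl
    rw [mul_zero] at hbt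
    exact hrS r hr hbt.symm
  have h1 : (f.scaleRoots (algebraMap R S r)).eval (t * a) = 0 := by
    rw [← hbt, scaleRoots_mul, scaleRoots_eval_mul, hfa, mul_zero]
  obtain ⟨u', hu'⟩ := dvd_of_eval_scaleRoots_eq_zero_of_isIndEtale h hr hf h1
  refine ⟨u', ?_⟩
  have h2 : t * (a - b * u') = 0 := by
    rw [mul_sub, hu', ← hbt]
    ring
  rcases mul_eq_zero.mp h2 with h3 | h3
  · exact absurd h3 ht0
  · exact sub_eq_zero.mp h3

end

end Groth.Agent.Lib.IndEtaleH3
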