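import Mathlib
import Groth.Prelude.Def_Hensel
import Groth.Agent.Lib.IndEtaleNormal2_helper3
import Groth.Agent.Lib.IndEtaleLoc2_helper3
import Groth.Agent.Lib.HensIntDom_lead

/-!
# Minimal primes of the henselization of a local domain (helper3)

For a local domain `D` with normalization `D'` and a henselian local ring `S` which is ind-étale and
faithfully flat over `D` with `S = D + 𝔪_S` (e.g. the henselization of `D`), the minimal primes of
`S` are in bijection with the maximal ideals of `D'`.
-/

set_option autoImplicit false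
set_option maxSynthPendingDepth 3
universe u

namespace Groth.Agent.Lib.HensBranchesH3

open Polynomial TensorProduct IsLocalRing Groth.Agent.Lib.IndEtaleH3

section Idem

variable {R : Type u} [CommRing R] [IsDomain R] [IsIntegrallyClosed R]
variable {S : Type u} [CommRing S] [Algebra R S]

/-- In an ind-étale algebra `S` over a normal domain `R`, every element `x` has an idempotent `t`
with `x t = x` and `r t = x s` for some `0 ≠ r ∈ R`, `s ∈ S` ("`t` generates the same ideal as `x`
generically"). -/
theorem exists_idempotent_of_isIndEtale [Nontrivial S] (h : EtPBC.IsIndEtale R S) (x : S) :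
    ∃ t : S, IsIdempotentElem t ∧ x * t = x ∧
      ∃ (r : R) (s : S), r ≠ 0 ∧ algebraMap R S r * t = x * s := by
  let K := FractionRing R
  let L := K ⊗[R] S
  haveI : Module.Flat R S := flat_of_isIndEtale h
  let ι : S →ₐ[R] L := Algebra.TensorProduct.includeRight
  have hι : Function.Injective ι :=
    Algebra.TensorProduct.includeRight_injective (IsFractionRing.injective R K)
  letI : Algebra S L := ι.toRingHom.toAlgebra
  have hL : EtPBC.IsIndEtale K L := isIndEtale_baseChange R S K h
  have key : ∀ (r : R) (k : K) (s : S),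
      k ⊗ₜ[R] (algebraMap R S r * s) = (algebraMap R K r * k) ⊗ₜ[R] s := by
    intro r k s
    rw [← Algebra.smul_def r s, TensorProduct.tmul_smul, TensorProduct.smul_tmul',
      Algebra.smul_def r k]
  have hu : ∀ (r : R) (_ : r ≠ 0) (s : S),
      ι (algebraMap R S r) * ((algebraMap R K r)⁻¹ ⊗ₜ[R] s) = ι s := by
    intro r hr s
    have hrK : algebraMap R K r ≠ 0 :=
      (map_ne_zero_iff _ (IsFractionRing.injective R K)).mpr hr
    show ((1 : K) ⊗ₜ[R] algebraMap R S r) * ((algebraMap R K r)⁻¹ ⊗ₜ[R] s) = (1 : K) ⊗ₜ[R] s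
    rw [Algebra.TensorProduct.tmul_mul_tmul, one_mul, key, mul_inv_cancel₀ hrK]
  obtain ⟨y, hy⟩ := exists_mul_mul_eq_of_isIndEtale_field hL (ι x)
  have he : IsIdempotentElem (ι x * y) := by
    show ι x * y * (ι x * y) = ι x * y
    calc ι x * y * (ι x * y) = (ι x * ι x * y) * y := by ring
      _ = ι x * y := by rw [hy]
  obtain ⟨r, hr, s, hrs⟩ := exists_inv_tmul (ι x * y)
  have hdvd : algebraMap R S r ∣ s := by
    refine dvd_of_isIntegral_of_isIndEtale h (T := L) hι hr (z := ι x * y) ?_
      (isIntegral_of_isIdempotentElem he)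
    rw [hrs]
    exact hu r hr s
  obtain ⟨t, rfl⟩ := hdvd
  have hrK : algebraMap R K r ≠ 0 :=
    (map_ne_zero_iff _ (IsFractionRing.injective R K)).mpr hr
  have he' : ι x * y = ι t := by
    rw [hrs]
    show _ = (1 : K) ⊗ₜ[R] t
    rw [key, mul_inv_cancel₀ hrK]
  have ht : IsIdempotentElem t := hι (by rw [map_mul, ← he']; exact he.eq)
  refine ⟨t, ht, ?_, ?_⟩
  · apply hι
    rw [map_mul, ← he', ← mul_assoc, hy]
  · obtain ⟨r', hr', s', hrs'⟩ := exists_inv_tmul y
    refine ⟨r', s', hr', ?_⟩
    apply hι
    rw [map_mul, map_mul, ← he', hrs', ← hu r' hr' s']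
    ring

end Idem

section Core

attribute [local instance] Algebra.TensorProduct.rightAlgebra

variable (D : Type u) [CommRing D] [IsDomain D] [IsLocalRing D]
  (S : Type u) [CommRing S] [HenselianLocalRing S] [Algebra D S] [Module.FaithfullyFlat D S]
  [IsLocalHom (algebraMap D S)]

theorem injective_algebraMap_integralClosure :
    Function.Injective (algebraMap D (integralClosure D (FractionRing D))) := by
  intro a b hab
  apply IsFractionRing.injective D (FractionRing D)
  exact congrArg (Subtype.val) hab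

theorem algebraMap_right_apply (s : S) :
    algebraMap S (integralClosure D (FractionRing D) ⊗[D] S) s = 1 ⊗ₜ[D] s := rfl

theorem algebraMap_right_comp (d : D) :
    algebraMap S (integralClosure D (FractionRing D) ⊗[D] S) (algebraMap D S d) =
      algebraMap (integralClosure D (FractionRing D)) (integralClosure D (FractionRing D) ⊗[D] S)
        (algebraMap D (integralClosure D (FractionRing D)) d) := by
  show (1 : integralClosure D (FractionRing D)) ⊗ₜ[D] (algebraMap D S d) =
    (algebraMap D (integralClosure D (FractionRing D)) d) ⊗ₜ[D] (1 : S)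
  rw [Algebra.algebraMap_eq_smul_one (R := D) (A := S) d,
    Algebra.algebraMap_eq_smul_one (R := D) (A := integralClosure D (FractionRing D)) d,
    TensorProduct.tmul_smul, TensorProduct.smul_tmul']

theorem beta_injective :
    Function.Injective (algebraMap S (integralClosure D (FractionRing D) ⊗[D] S)) :=
  Algebra.TensorProduct.includeRight_injective (A := integralClosure D (FractionRing D)) (B := S)
    (R := D) (injective_algebraMap_integralClosure D)

theorem isIntegral_T : Algebra.IsIntegral S (integralClosure D (FractionRing D) ⊗[D] S) := by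
  refine ⟨fun z => ?_⟩
  induction z using TensorProduct.induction_on with
  | zero => exact isIntegral_zero
  | tmul a s =>
    have h1 : IsIntegral S (algebraMap (integralClosure D (FractionRing D))
        (integralClosure D (FractionRing D) ⊗[D] S) a) := by
      have ha : IsIntegral D a := Algebra.IsIntegral.isIntegral (R := D) a
      exact ha.map_of_comp_eq (algebraMap D S) (algebraMap (integralClosure D (FractionRing D))
        (integralClosure D (FractionRing D) ⊗[D] S))
        (RingHom.ext fun d => algebraMap_right_comp D S d)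
    have h2 : IsIntegral S (algebraMap S (integralClosure D (FractionRing D) ⊗[D] S) s) :=
      isIntegral_algebraMap
    have h3 : a ⊗ₜ[D] s = algebraMap (integralClosure D (FractionRing D))
        (integralClosure D (FractionRing D) ⊗[D] S) a *
        algebraMap S (integralClosure D (FractionRing D) ⊗[D] S) s := by
      show a ⊗ₜ[D] s = (a ⊗ₜ[D] (1 : S)) * ((1 : integralClosure D (FractionRing D)) ⊗ₜ[D] s)
      rw [Algebra.TensorProduct.tmul_mul_tmul, mul_one, one_mul]
    rw [h3]
    exact h1.mul h2
  | add a b ha hb => exact ha.add hb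

theorem exists_sub_mem_J (hres : ∀ s : S, ∃ d : D, s - algebraMap D S d ∈ maximalIdeal S)
    (x : integralClosure D (FractionRing D) ⊗[D] S) :
    ∃ d'' : integralClosure D (FractionRing D),
      x - algebraMap (integralClosure D (FractionRing D)) _ d'' ∈
        (maximalIdeal S).map (algebraMap S (integralClosure D (FractionRing D) ⊗[D] S)) := by
  induction x using TensorProduct.induction_on with
  | zero => exact ⟨0, by simp⟩
  | tmul a s =>
    obtain ⟨d, hd⟩ := hres s
    refine ⟨d • a, ?_⟩
    have h1 : a ⊗ₜ[D] s - algebraMap (integralClosure D (FractionRing D))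
        (integralClosure D (FractionRing D) ⊗[D] S) (d • a) =
        algebraMap (integralClosure D (FractionRing D)) _ a *
          algebraMap S (integralClosure D (FractionRing D) ⊗[D] S) (s - algebraMap D S d) := by
      show a ⊗ₜ[D] s - (d • a) ⊗ₜ[D] (1 : S) =
        (a ⊗ₜ[D] (1 : S)) * ((1 : integralClosure D (FractionRing D)) ⊗ₜ[D] (s - algebraMap D S d))
      rw [Algebra.TensorProduct.tmul_mul_tmul, mul_one, one_mul, TensorProduct.tmul_sub,
        TensorProduct.smul_tmul, Algebra.smul_def, mul_one]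
    rw [h1]
    exact Ideal.mul_mem_left _ _ (Ideal.mem_map_of_mem _ hd)
  | add a b ha hb =>
    obtain ⟨a'', ha''⟩ := ha
    obtain ⟨b'', hb''⟩ := hb
    refine ⟨a'' + b'', ?_⟩
    have : a + b - algebraMap (integralClosure D (FractionRing D)) _ (a'' + b'') =
        (a - algebraMap (integralClosure D (FractionRing D)) _ a'') +
        (b - algebraMap (integralClosure D (FractionRing D)) _ b'') := by rw [map_add]; ring
    rw [this]
    exact Ideal.add_mem _ ha'' hb''

theorem comap_beta_eq_maximalIdeal (N : Ideal (integralClosure D (FractionRing D) ⊗[D] S))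
    [hN : N.IsMaximal] :
    N.comap (algebraMap S (integralClosure D (FractionRing D) ⊗[D] S)) = maximalIdeal S := by
  haveI := isIntegral_T D S
  have hmax : (N.comap (algebraMap S (integralClosure D (FractionRing D) ⊗[D] S))).IsMaximal :=
    Ideal.isMaximal_comap_of_isIntegral_of_isMaximal N
  exact IsLocalRing.eq_maximalIdeal hmax

theorem J_le_maximal (N : Ideal (integralClosure D (FractionRing D) ⊗[D] S)) [hN : N.IsMaximal] :
    (maximalIdeal S).map (algebraMap S (integralClosure D (FractionRing D) ⊗[D] S)) ≤ N := by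
  rw [Ideal.map_le_iff_le_comap, comap_beta_eq_maximalIdeal D S N]

theorem comap_comap_eq (I : Ideal (integralClosure D (FractionRing D) ⊗[D] S)) :
    (I.comap (algebraMap (integralClosure D (FractionRing D)) _)).comap
      (algebraMap D (integralClosure D (FractionRing D))) =
    (I.comap (algebraMap S (integralClosure D (FractionRing D) ⊗[D] S))).comap
      (algebraMap D S) := by
  ext d
  simp only [Ideal.mem_comap]
  rw [algebraMap_right_comp]

theorem comap_alpha_isMaximal (N : Ideal (integralClosure D (FractionRing D) ⊗[D] S))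
    [hN : N.IsMaximal] :
    (N.comap (algebraMap (integralClosure D (FractionRing D))
      (integralClosure D (FractionRing D) ⊗[D] S))).IsMaximal := by
  apply Ideal.isMaximal_of_isIntegral_of_isMaximal_comap (R := D)
  rw [comap_comap_eq, comap_beta_eq_maximalIdeal D S N]
  have h1 : (maximalIdeal S).comap (algebraMap D S) = maximalIdeal D :=
    ((IsLocalRing.local_hom_TFAE (algebraMap D S)).out 0 4).mp
      (inferInstance : IsLocalHom (algebraMap D S))
  rw [h1]
  exact maximalIdeal.isMaximal D

theorem comap_alpha_injective (hres : ∀ s : S, ∃ d : D, s - algebraMap D S d ∈ maximalIdeal S)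
    (N₁ N₂ : Ideal (integralClosure D (FractionRing D) ⊗[D] S)) [N₁.IsMaximal] [N₂.IsMaximal]
    (h : N₁.comap (algebraMap (integralClosure D (FractionRing D)) _) =
      N₂.comap (algebraMap (integralClosure D (FractionRing D)) _)) : N₁ = N₂ := by
  have key : ∀ (N N' : Ideal (integralClosure D (FractionRing D) ⊗[D] S)) [N.IsMaximal]
      [N'.IsMaximal], N.comap (algebraMap (integralClosure D (FractionRing D)) _) =
      N'.comap (algebraMap (integralClosure D (FractionRing D)) _) → N ≤ N' := by
    intro N N' _ _ hNN x hx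
    obtain ⟨d'', hd''⟩ := exists_sub_mem_J D S hres x
    have h1 : algebraMap (integralClosure D (FractionRing D)) _ d'' ∈ N := by
      have := N.sub_mem hx (J_le_maximal D S N hd'')
      rwa [sub_sub_cancel] at this
    have h2 : d'' ∈ N'.comap (algebraMap (integralClosure D (FractionRing D)) _) := by
      rw [← hNN]; exact h1
    have h3 := N'.add_mem (J_le_maximal D S N' hd'') h2
    rwa [sub_add_cancel] at h3
  exact le_antisymm (key N₁ N₂ h) (key N₂ N₁ h.symm)

theorem exists_maximal_comap_alpha (m' : Ideal (integralClosure D (FractionRing D)))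
    [hm : m'.IsMaximal] :
    ∃ N : Ideal (integralClosure D (FractionRing D) ⊗[D] S), N.IsMaximal ∧
      N.comap (algebraMap (integralClosure D (FractionRing D)) _) = m' := by
  obtain ⟨P, hP, hPover⟩ := Ideal.exists_isPrime_liesOver_of_faithfullyFlat
    (B := integralClosure D (FractionRing D) ⊗[D] S) m'
  obtain ⟨N, hN, hPN⟩ := Ideal.exists_le_maximal P hP.ne_top
  refine ⟨N, hN, ?_⟩
  have h1 : m' ≤ N.comap (algebraMap (integralClosure D (FractionRing D)) _) := by
    rw [hPover.over]
    exact Ideal.comap_mono hPN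
  exact (hm.eq_of_le (Ideal.comap_ne_top _ hN.ne_top) h1).symm

theorem isIndEtale_T (hie : EtPBC.IsIndEtale D S) :
    EtPBC.IsIndEtale (integralClosure D (FractionRing D))
      (integralClosure D (FractionRing D) ⊗[D] S) :=
  isIndEtale_baseChange D S _ hie

theorem nontrivial_T : Nontrivial (integralClosure D (FractionRing D) ⊗[D] S) :=
  (beta_injective D S).nontrivial

theorem comap_alpha_eq_bot (hie : EtPBC.IsIndEtale D S)
    (Q : Ideal (integralClosure D (FractionRing D) ⊗[D] S))
    (hQ : Q ∈ minimalPrimes (integralClosure D (FractionRing D) ⊗[D] S)) :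
    Q.comap (algebraMap (integralClosure D (FractionRing D)) _) = ⊥ := by
  haveI : Q.IsPrime := hQ.1.1
  have h1 := height_comap_of_isIndEtale (isIndEtale_T D S hie) Q
  rw [Ideal.height_eq_zero_iff.mpr hQ] at h1
  have h2 : Q.comap (algebraMap (integralClosure D (FractionRing D)) _) ∈
      minimalPrimes (integralClosure D (FractionRing D)) := Ideal.height_eq_zero_iff.mp h1
  rw [IsDomain.minimalPrimes_eq_singleton_bot] at h2
  exact h2

theorem comap_D_eq_bot (hie : EtPBC.IsIndEtale D S)
    (Q : Ideal (integralClosure D (FractionRing D) ⊗[D] S))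
    (hQ : Q ∈ minimalPrimes (integralClosure D (FractionRing D) ⊗[D] S)) :
    (Q.comap (algebraMap S (integralClosure D (FractionRing D) ⊗[D] S))).comap
      (algebraMap D S) = ⊥ := by
  rw [← comap_comap_eq, comap_alpha_eq_bot D S hie Q hQ]
  rw [← RingHom.ker_eq_comap_bot, (RingHom.injective_iff_ker_eq_bot _).mp
    (injective_algebraMap_integralClosure D)]

theorem comap_beta_mem_minimalPrimes (hie : EtPBC.IsIndEtale D S)
    (Q : Ideal (integralClosure D (FractionRing D) ⊗[D] S))
    (hQ : Q ∈ minimalPrimes (integralClosure D (FractionRing D) ⊗[D] S)) :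
    Q.comap (algebraMap S (integralClosure D (FractionRing D) ⊗[D] S)) ∈ minimalPrimes S := by
  haveI : Q.IsPrime := hQ.1.1
  haveI : (Q.comap (algebraMap S (integralClosure D (FractionRing D) ⊗[D] S))).IsPrime :=
    Ideal.comap_isPrime _ _
  have h1 := height_comap_of_isIndEtale hie
    (Q.comap (algebraMap S (integralClosure D (FractionRing D) ⊗[D] S)))
  rw [comap_D_eq_bot D S hie Q hQ] at h1
  have h2 : (⊥ : Ideal D).height = 0 :=
    Ideal.height_eq_zero_iff.mpr (by rw [IsDomain.minimalPrimes_eq_singleton_bot]; rfl)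
  rw [h2] at h1
  exact Ideal.height_eq_zero_iff.mp h1.symm

/-- clearing denominators: `d • x ∈ β(S)` -/
theorem exists_mul_eq_beta (x : integralClosure D (FractionRing D) ⊗[D] S) :
    ∃ d : D, d ≠ 0 ∧ ∃ s : S,
      algebraMap S (integralClosure D (FractionRing D) ⊗[D] S) (algebraMap D S d) * x =
        algebraMap S _ s := by
  induction x using TensorProduct.induction_on with
  | zero => exact ⟨1, one_ne_zero, 0, by simp⟩
  | tmul a s =>
    obtain ⟨c, d, hd, hcd⟩ := IsFractionRing.div_surjective (A := D) (a : FractionRing D)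
    have hd0 : d ≠ 0 := nonZeroDivisors.ne_zero hd
    have hdK : algebraMap D (FractionRing D) d ≠ 0 :=
      (map_ne_zero_iff _ (IsFractionRing.injective D _)).mpr hd0
    have h1 : d • a = algebraMap D (integralClosure D (FractionRing D)) c := by
      apply Subtype.ext
      show d • (a : FractionRing D) = algebraMap D (FractionRing D) c
      rw [← hcd, Algebra.smul_def, mul_div_cancel₀ _ hdK]
    refine ⟨d, hd0, c • s, ?_⟩
    rw [algebraMap_right_apply, algebraMap_right_apply, Algebra.TensorProduct.tmul_mul_tmul,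
      one_mul, Algebra.algebraMap_eq_smul_one, smul_mul_assoc, one_mul,
      TensorProduct.tmul_smul, TensorProduct.smul_tmul', h1, TensorProduct.tmul_smul,
      Algebra.algebraMap_eq_smul_one, TensorProduct.smul_tmul']
  | add x y hx hy =>
    obtain ⟨d₁, hd₁, s₁, h₁⟩ := hx
    obtain ⟨d₂, hd₂, s₂, h₂⟩ := hy
    refine ⟨d₁ * d₂, mul_ne_zero hd₁ hd₂, algebraMap D S d₂ * s₁ + algebraMap D S d₁ * s₂, ?_⟩
    have e1 : algebraMap S (integralClosure D (FractionRing D) ⊗[D] S)
        (algebraMap D S (d₁ * d₂)) =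
        algebraMap S (integralClosure D (FractionRing D) ⊗[D] S) (algebraMap D S d₁) *
        algebraMap S (integralClosure D (FractionRing D) ⊗[D] S) (algebraMap D S d₂) := by
      rw [map_mul, map_mul]
    have e2 : algebraMap S (integralClosure D (FractionRing D) ⊗[D] S)
        (algebraMap D S d₂ * s₁ + algebraMap D S d₁ * s₂) =
        algebraMap S (integralClosure D (FractionRing D) ⊗[D] S) (algebraMap D S d₂) *
          algebraMap S (integralClosure D (FractionRing D) ⊗[D] S) s₁ +
        algebraMap S (integralClosure D (FractionRing D) ⊗[D] S) (algebraMap D S d₁) *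
          algebraMap S (integralClosure D (FractionRing D) ⊗[D] S) s₂ := by
      rw [map_add, map_mul, map_mul]
    rw [e1, e2, ← h₁, ← h₂]
    ring

theorem algebraMap_D_notMem (hie : EtPBC.IsIndEtale D S)
    (Q : Ideal (integralClosure D (FractionRing D) ⊗[D] S))
    (hQ : Q ∈ minimalPrimes (integralClosure D (FractionRing D) ⊗[D] S)) {d : D} (hd : d ≠ 0) :
    algebraMap S (integralClosure D (FractionRing D) ⊗[D] S) (algebraMap D S d) ∉ Q := by
  intro hmem
  have h1 : d ∈ (Q.comap (algebraMap S (integralClosure D (FractionRing D) ⊗[D] S))).comap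
      (algebraMap D S) := hmem
  rw [comap_D_eq_bot D S hie Q hQ] at h1
  exact hd h1

theorem comap_beta_injective (hie : EtPBC.IsIndEtale D S)
    (Q₁ Q₂ : Ideal (integralClosure D (FractionRing D) ⊗[D] S))
    (hQ₁ : Q₁ ∈ minimalPrimes (integralClosure D (FractionRing D) ⊗[D] S))
    (hQ₂ : Q₂ ∈ minimalPrimes (integralClosure D (FractionRing D) ⊗[D] S))
    (h : Q₁.comap (algebraMap S (integralClosure D (FractionRing D) ⊗[D] S)) =
      Q₂.comap (algebraMap S (integralClosure D (FractionRing D) ⊗[D] S))) : Q₁ = Q₂ := by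
  have key : ∀ (Q Q' : Ideal (integralClosure D (FractionRing D) ⊗[D] S)),
      Q ∈ minimalPrimes (integralClosure D (FractionRing D) ⊗[D] S) →
      Q' ∈ minimalPrimes (integralClosure D (FractionRing D) ⊗[D] S) →
      Q.comap (algebraMap S (integralClosure D (FractionRing D) ⊗[D] S)) =
        Q'.comap (algebraMap S (integralClosure D (FractionRing D) ⊗[D] S)) → Q ≤ Q' := by
    intro Q Q' hQ hQ' hQQ x hx
    haveI : Q'.IsPrime := hQ'.1.1
    obtain ⟨d, hd, s, hds⟩ := exists_mul_eq_beta D S x
    have h1 : s ∈ Q.comap (algebraMap S (integralClosure D (FractionRing D) ⊗[D] S)) := by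
      rw [Ideal.mem_comap, ← hds]
      exact Q.mul_mem_left _ hx
    rw [hQQ, Ideal.mem_comap, ← hds] at h1
    rcases Ideal.IsPrime.mem_or_mem inferInstance h1 with h2 | h2
    · exact absurd h2 (algebraMap_D_notMem D S hie Q' hQ' hd)
    · exact h2
  exact le_antisymm (key Q₁ Q₂ hQ₁ hQ₂ h) (key Q₂ Q₁ hQ₂ hQ₁ h.symm)

theorem exists_minimal_comap_beta (q : Ideal S) (hq : q ∈ minimalPrimes S) :
    ∃ Q ∈ minimalPrimes (integralClosure D (FractionRing D) ⊗[D] S),
      Q.comap (algebraMap S (integralClosure D (FractionRing D) ⊗[D] S)) = q := by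
  haveI := isIntegral_T D S
  haveI : q.IsPrime := hq.1.1
  obtain ⟨Q', -, hQ'p, hQ'⟩ := Ideal.exists_ideal_over_prime_of_isIntegral q
    (⊥ : Ideal (integralClosure D (FractionRing D) ⊗[D] S)) (by
      rw [← RingHom.ker_eq_comap_bot, (RingHom.injective_iff_ker_eq_bot _).mp (beta_injective D S)]
      exact bot_le)
  haveI := hQ'p
  obtain ⟨Q, hQ, hQQ'⟩ := Ideal.exists_minimalPrimes_le (bot_le : ⊥ ≤ Q')
  refine ⟨Q, hQ, ?_⟩
  haveI : Q.IsPrime := hQ.1.1
  have h1 : Q.comap (algebraMap S (integralClosure D (FractionRing D) ⊗[D] S)) ≤ q := by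
    rw [← hQ']; exact Ideal.comap_mono hQQ'
  exact le_antisymm h1 (hq.2 ⟨Ideal.comap_isPrime _ _, bot_le⟩ h1)

theorem maximal_unique_of_prime_le (Q : Ideal (integralClosure D (FractionRing D) ⊗[D] S))
    [Q.IsPrime] (N₁ N₂ : Ideal (integralClosure D (FractionRing D) ⊗[D] S)) [N₁.IsMaximal]
    [N₂.IsMaximal] (h₁ : Q ≤ N₁) (h₂ : Q ≤ N₂) : N₁ = N₂ := by
  haveI := isIntegral_T D S
  haveI : IsDomain ((integralClosure D (FractionRing D) ⊗[D] S) ⧸ Q) := Ideal.Quotient.isDomain Q
  haveI : Algebra.IsIntegral S ((integralClosure D (FractionRing D) ⊗[D] S) ⧸ Q) :=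
    Algebra.IsIntegral.trans (integralClosure D (FractionRing D) ⊗[D] S)
  haveI : IsLocalRing ((integralClosure D (FractionRing D) ⊗[D] S) ⧸ Q) :=
    Groth.Agent.Lib.HensIntDom.isLocalRing_of_integral_domain S _
  have key : ∀ (N : Ideal (integralClosure D (FractionRing D) ⊗[D] S)) [N.IsMaximal], Q ≤ N →
      N = (maximalIdeal ((integralClosure D (FractionRing D) ⊗[D] S) ⧸ Q)).comap
        (Ideal.Quotient.mk Q) := by
    intro N hN hQN
    refine hN.eq_of_le (Ideal.comap_ne_top _ (maximalIdeal.isMaximal _).ne_top) ?_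
    intro x hx
    rw [Ideal.mem_comap, mem_maximalIdeal, mem_nonunits_iff]
    intro hu
    obtain ⟨y, hy⟩ := hu.exists_right_inv
    obtain ⟨y, rfl⟩ := Ideal.Quotient.mk_surjective y
    rw [← map_mul, ← map_one (Ideal.Quotient.mk Q), Ideal.Quotient.eq] at hy
    have h1 : x * y - 1 ∈ N := hQN hy
    have h2 : (1 : integralClosure D (FractionRing D) ⊗[D] S) ∈ N := by
      have := N.sub_mem (N.mul_mem_right y hx) h1
      rwa [sub_sub_cancel] at this
    exact hN.ne_top ((Ideal.eq_top_iff_one _).mpr h2)
  rw [key N₁ h₁, key N₂ h₂]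

theorem minimal_unique_of_le_maximal (hie : EtPBC.IsIndEtale D S)
    (Q₁ Q₂ : Ideal (integralClosure D (FractionRing D) ⊗[D] S))
    (hQ₁ : Q₁ ∈ minimalPrimes (integralClosure D (FractionRing D) ⊗[D] S))
    (hQ₂ : Q₂ ∈ minimalPrimes (integralClosure D (FractionRing D) ⊗[D] S))
    (N : Ideal (integralClosure D (FractionRing D) ⊗[D] S)) [hN : N.IsMaximal]
    (h₁ : Q₁ ≤ N) (h₂ : Q₂ ≤ N) : Q₁ = Q₂ := by
  by_contra hne
  haveI : Q₁.IsPrime := hQ₁.1.1
  haveI : Q₂.IsPrime := hQ₂.1.1
  have hnle : ¬ Q₁ ≤ Q₂ := fun hle => hne (le_antisymm hle (hQ₂.2 ⟨inferInstance, bot_le⟩ hle))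
  obtain ⟨x, hx₁, hx₂⟩ := Set.not_subset.mp hnle
  haveI := nontrivial_T D S
  haveI : IsIntegrallyClosed (integralClosure D (FractionRing D)) :=
    integralClosure.isIntegrallyClosedOfFiniteExtension (R := D) (FractionRing D)
      (L := FractionRing D)
  obtain ⟨t, ht, hxt, r, s, hr, hrt⟩ := exists_idempotent_of_isIndEtale (isIndEtale_T D S hie) x
  have ht₁ : t ∈ Q₁ := by
    have h1 : algebraMap (integralClosure D (FractionRing D)) _ r * t ∈ Q₁ := by
      rw [hrt]; exact Q₁.mul_mem_right _ hx₁
    rcases Ideal.IsPrime.mem_or_mem inferInstance h1 with h2 | h2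
    · exfalso
      have h3 : r ∈ Q₁.comap (algebraMap (integralClosure D (FractionRing D)) _) := h2
      rw [comap_alpha_eq_bot D S hie Q₁ hQ₁] at h3
      exact hr h3
    · exact h2
  have ht₂ : 1 - t ∈ Q₂ := by
    have h1 : x * (1 - t) ∈ Q₂ := by
      rw [mul_sub, mul_one, hxt, sub_self]; exact Q₂.zero_mem
    rcases Ideal.IsPrime.mem_or_mem inferInstance h1 with h2 | h2
    · exact absurd h2 hx₂
    · exact h2
  have h1 : (1 : integralClosure D (FractionRing D) ⊗[D] S) ∈ N := by
    have := N.add_mem (h₁ ht₁) (h₂ ht₂)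
    rwa [add_sub_cancel] at this
  exact hN.ne_top ((Ideal.eq_top_iff_one _).mpr h1)

/-- **Main count (domain case).** -/
theorem card_minimalPrimes_eq (hie : EtPBC.IsIndEtale D S)
    (hres : ∀ s : S, ∃ d : D, s - algebraMap D S d ∈ maximalIdeal S) :
    ENat.card (minimalPrimes S) =
      ENat.card (MaximalSpectrum (integralClosure D (FractionRing D))) := by
  let f₃ : minimalPrimes (integralClosure D (FractionRing D) ⊗[D] S) → minimalPrimes S :=
    fun Q => ⟨Q.1.comap (algebraMap S (integralClosure D (FractionRing D) ⊗[D] S)),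
      comap_beta_mem_minimalPrimes D S hie Q.1 Q.2⟩
  have hf₃ : Function.Bijective f₃ := by
    constructor
    · intro Q₁ Q₂ h
      exact Subtype.ext (comap_beta_injective D S hie Q₁.1 Q₂.1 Q₁.2 Q₂.2
        (congrArg Subtype.val h))
    · intro q
      obtain ⟨Q, hQ, hQq⟩ := exists_minimal_comap_beta D S q.1 q.2
      exact ⟨⟨Q, hQ⟩, Subtype.ext hQq⟩
  have hex : ∀ Q : minimalPrimes (integralClosure D (FractionRing D) ⊗[D] S),
      ∃ N : MaximalSpectrum (integralClosure D (FractionRing D) ⊗[D] S), Q.1 ≤ N.asIdeal := by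
    intro Q
    haveI : Q.1.IsPrime := Q.2.1.1
    obtain ⟨N, hN, hQN⟩ := Ideal.exists_le_maximal Q.1 (Ideal.IsPrime.ne_top inferInstance)
    exact ⟨⟨N, hN⟩, hQN⟩
  choose f₂ hf₂le using hex
  have hf₂ : Function.Bijective f₂ := by
    constructor
    · intro Q₁ Q₂ h
      apply Subtype.ext
      haveI := (f₂ Q₁).isMaximal
      exact minimal_unique_of_le_maximal D S hie Q₁.1 Q₂.1 Q₁.2 Q₂.2 (f₂ Q₁).asIdeal
        (hf₂le Q₁) (by rw [h]; exact hf₂le Q₂)
    · intro N
      haveI := N.isMaximal
      obtain ⟨Q, hQ, hQN⟩ := Ideal.exists_minimalPrimes_le (bot_le : ⊥ ≤ N.asIdeal)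
      refine ⟨⟨Q, hQ⟩, ?_⟩
      haveI : Q.IsPrime := hQ.1.1
      haveI := (f₂ ⟨Q, hQ⟩).isMaximal
      exact MaximalSpectrum.ext (maximal_unique_of_prime_le D S Q _ _ (hf₂le ⟨Q, hQ⟩) hQN)
  let f₁ : MaximalSpectrum (integralClosure D (FractionRing D) ⊗[D] S) →
      MaximalSpectrum (integralClosure D (FractionRing D)) :=
    fun N => ⟨N.asIdeal.comap (algebraMap (integralClosure D (FractionRing D)) _),
      haveI := N.isMaximal
      comap_alpha_isMaximal D S N.asIdeal⟩
  have hf₁ : Function.Bijective f₁ := by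
    constructor
    · intro N₁ N₂ h
      haveI := N₁.isMaximal
      haveI := N₂.isMaximal
      exact MaximalSpectrum.ext (comap_alpha_injective D S hres N₁.asIdeal N₂.asIdeal
        (congrArg MaximalSpectrum.asIdeal h))
    · intro m'
      haveI := m'.isMaximal
      obtain ⟨N, hN, hNm⟩ := exists_maximal_comap_alpha D S m'.asIdeal
      exact ⟨⟨N, hN⟩, MaximalSpectrum.ext hNm⟩
  rw [← ENat.card_congr (Equiv.ofBijective f₃ hf₃), ENat.card_congr (Equiv.ofBijective f₂ hf₂),
    ENat.card_congr (Equiv.ofBijective f₁ hf₁)]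

end Core

end Groth.Agent.Lib.HensBranchesH3
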