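import Mathlib
import Groth.Prelude.Def_Hensel
import Groth.Agent.Lib.Henselization10_helper3

/-!
# Henselization of a local ring, part 11: `Hens R` is the henselization of each `i.A`;
injectivity of `ofH` (helper3)
-/

set_option autoImplicit false
set_option maxSynthPendingDepth 3
universe u

namespace Groth.Agent.Lib.HenselizationH3

open IsLocalRing EGA4loc TensorProduct Polynomial

variable {R : Type u} [CommRing R] [IsLocalRing R]

/-- The `i.A`-algebra structure on the henselization. -/
noncomputable abbrev algIdx (i : Idx R) : Algebra i.A (Hens R) := (ofH i).toAlgebra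

theorem isLocalHom_algebraMap_idx (i : Idx R) :
    letI := algIdx i
    IsLocalHom (algebraMap i.A (Hens R)) := isLocalHom_ofH i

theorem isHenselization_idx (i : Idx R) :
    letI := algIdx i
    haveI := isLocalHom_algebraMap_idx i
    Hensel.IsHenselization i.A (Hens R) := by
  letI := algIdx i
  haveI := isLocalHom_algebraMap_idx i
  refine ⟨inferInstance, fun T _ _ f hf => ?_⟩
  haveI := hf
  haveI : IsLocalHom (f.comp (algebraMap R i.A)) := RingHom.isLocalHom_comp _ _
  obtain ⟨g, hg, hguniq⟩ := hens_universal T (f.comp (algebraMap R i.A)) inferInstance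
  obtain ⟨ψ, -, hψuniq⟩ := existsUnique_lift_idx i T (f.comp (algebraMap R i.A))
  have h1 : g.comp (ofH i) = ψ := hψuniq _ (by
    ext r
    have := congr($hg r)
    simp only [RingHom.coe_comp, Function.comp_apply] at this ⊢
    rw [ofH_algebraMap, this])
  have h2 : f = ψ := hψuniq _ rfl
  refine ⟨g, ?_, fun g' hg' => hguniq g' ?_⟩
  · show g.comp (ofH i) = f
    rw [h1, h2]
  · have hg'' : g'.comp (ofH i) = f := hg'
    ext r
    simp only [RingHom.coe_comp, Function.comp_apply]
    rw [← ofH_algebraMap i, ← hg'']
    rfl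

theorem faithfullyFlat_idx (i : Idx R) :
    letI := algIdx i
    Module.FaithfullyFlat i.A (Hens R) := by
  letI := algIdx i
  haveI := isLocalHom_algebraMap_idx i
  haveI := isHenselization_idx i
  exact faithfullyFlat_of_isHenselization (R := i.A) (Hens R)

theorem ofH_injective (i : Idx R) : Function.Injective (ofH i) := by
  letI := algIdx i
  haveI := faithfullyFlat_idx i
  exact FaithfulSMul.algebraMap_injective i.A (Hens R)

theorem ofC_eq_zero {k : Idx R} {c : k.C} (h : ofC k c = 0) :
    ∃ s : k.C, k.pt s ≠ 0 ∧ s * c = 0 := by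
  rw [ofC_apply] at h
  have h0 : algebraMap k.C k.A c = 0 := ofH_injective k (by rw [h, map_zero])
  obtain ⟨s, hs⟩ := (IsLocalization.map_eq_zero_iff (RingHom.ker k.pt).primeCompl k.A c).mp h0
  exact ⟨s.1, fun h' => s.2 (RingHom.mem_ker.mpr h'), hs⟩

end Groth.Agent.Lib.HenselizationH3
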