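import Mathlib
import Groth.Prelude.Def_Hensel
import Groth.Prelude.Def_PBC
import Groth.Agent.Lib.Henselization11_helper3
import Groth.Agent.Lib.IndEtale1_helper3

/-!
# Henselization of a local ring, part 12: the henselization is ind-étale (helper3)
-/

set_option autoImplicit false
set_option maxSynthPendingDepth 3
universe u

namespace Groth.Agent.Lib.HenselizationH3

open IsLocalRing EGA4loc TensorProduct Polynomial CategoryTheory

variable {R : Type u} [CommRing R] [IsLocalRing R]

/-- The residue field identification. -/
noncomputable def resEquiv : ResidueField R ≃+* ResidueField (Hens R) :=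
  RingEquiv.ofBijective _ residueField_map_bijective_hens

theorem resEquiv_residue (r : R) :
    resEquiv (residue R r) = residue (Hens R) (algebraMap R (Hens R) r) := rfl

/-- The point of an étale algebra mapping to the henselization. -/
noncomputable def ptOf {C : Type u} [CommRing C] [Algebra R C] (f : C →ₐ[R] Hens R) :
    C →ₐ[R] ResidueField R :=
  { (resEquiv.symm.toRingHom.comp (residue (Hens R))).comp f.toRingHom with
    commutes' := fun r => by
      show resEquiv.symm (residue (Hens R) (f (algebraMap R C r))) = algebraMap R _ r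
      rw [f.commutes, ← resEquiv_residue, RingEquiv.symm_apply_apply]
      rfl }

theorem resEquiv_ptOf {C : Type u} [CommRing C] [Algebra R C] (f : C →ₐ[R] Hens R) (c : C) :
    resEquiv (ptOf f c) = residue (Hens R) (f c) := by
  show resEquiv (resEquiv.symm (residue (Hens R) (f c))) = _
  rw [RingEquiv.apply_symm_apply]

/-- Every algebra map from an étale algebra to the henselization is one of the canonical ones. -/
theorem exists_idx_of_algHom (C : Type u) [CommRing C] [Algebra R C] [Algebra.Etale R C]
    (f : C →ₐ[R] Hens R) : ∃ (k : Idx R) (e : C ≃ₐ[R] k.C), (ofC k).comp e.toAlgHom = f := by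
  obtain ⟨k, e, he⟩ := exists_idx_equiv C (ptOf f)
  refine ⟨k, e, ?_⟩
  apply Groth.Agent.Lib.EssEt.algHom_eq_of_residue_eq
  intro c
  obtain ⟨r, hr⟩ := residue_surjective (ptOf f c)
  have h1 : ofC k (e c - algebraMap R k.C r) ∈ maximalIdeal (Hens R) := by
    rw [ofC_mem_maximalIdeal_iff, map_sub, AlgHom.commutes]
    have := congr($he c)
    simp only [AlgHom.coe_comp, Function.comp_apply] at this
    have h2 : k.pt (e c) = ptOf f c := this
    rw [h2, ← hr]
    exact sub_self _
  have h2 : f c - algebraMap R (Hens R) r ∈ maximalIdeal (Hens R) := by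
    rw [← residue_eq_zero_iff, map_sub, ← resEquiv_ptOf, ← hr, resEquiv_residue, sub_self]
  have : ((ofC k).comp e.toAlgHom) c - f c =
      ofC k (e c - algebraMap R k.C r) - (f c - algebraMap R (Hens R) r) := by
    rw [map_sub, AlgHom.commutes]
    simp
  rw [this]
  exact Ideal.sub_mem _ h1 h2

theorem isIndEtale_hens : EtPBC.IsIndEtale R (Hens R) := by
  apply Groth.Agent.Lib.IndEtaleH3.isIndEtale_of_exists
  · intro b
    obtain ⟨j, c, hc⟩ := exists_ofC b
    exact ⟨j.C, inferInstance, inferInstance, inferInstance, ofC j, c, hc⟩
  · intro C _ _ _ f c hc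
    obtain ⟨k, e, rfl⟩ := exists_idx_of_algHom C f
    have hc' : ofC k (e c) = 0 := hc
    obtain ⟨s, hs, hsc⟩ := ofC_eq_zero hc'
    have hu : IsUnit (ofC k s) := by
      by_contra hn
      exact hs ((ofC_mem_maximalIdeal_iff k s).mp hn)
    have : Algebra.Etale k.C (Localization.Away s) := Algebra.Etale.of_isLocalizationAway s
    have : Algebra.Etale R (Localization.Away s) := Algebra.Etale.comp R k.C _
    refine ⟨Localization.Away s, inferInstance, inferInstance, inferInstance,
      (IsScalarTower.toAlgHom R k.C (Localization.Away s)).comp e.toAlgHom,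
      IsLocalization.liftAlgHom (M := Submonoid.powers s) (f := ofC k) (by
        rintro ⟨_, n, rfl⟩
        rw [map_pow]
        exact hu.pow n), ?_, ?_⟩
    · ext x
      simp only [AlgHom.coe_comp, Function.comp_apply, IsScalarTower.coe_toAlgHom']
      erw [IsLocalization.coe_liftAlgHom, IsLocalization.lift_eq]
      rfl
    · show algebraMap k.C (Localization.Away s) (e c) = 0
      rw [IsLocalization.map_eq_zero_iff (Submonoid.powers s)]
      exact ⟨⟨s, Submonoid.mem_powers s⟩, hsc⟩

end Groth.Agent.Lib.HenselizationH3
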