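import Mathlib
import Groth.Prelude.Def_Hensel
import Groth.Agent.Lib.IndEtale4_helper3
import Groth.Agent.Lib.EtaleReduced_helper7

/-!
# Ind-étale algebras: nilradical (helper3)
-/

set_option autoImplicit false
set_option maxSynthPendingDepth 3
universe u

namespace Groth.Agent.Lib.IndEtaleH3

open IsLocalRing TensorProduct

variable {A B : Type u} [CommRing A] [CommRing B] [Algebra A B]

/-- The nilradical of an étale algebra is the extension of the nilradical of the base. -/
theorem mem_map_nilradical_of_etale (C : Type u) [CommRing C] [Algebra A C] [Algebra.Etale A C]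
    (c : C) (hc : IsNilpotent c) : c ∈ (nilradical A).map (algebraMap A C) := by
  set N := nilradical A with hN
  haveI : IsReduced (A ⧸ N) := (Ideal.isRadical_iff_quotient_reduced N).mp
    (Ideal.radical_isRadical _)
  haveI : Algebra.Etale (A ⧸ N) ((A ⧸ N) ⊗[A] C) := inferInstance
  haveI : IsReduced ((A ⧸ N) ⊗[A] C) :=
    Groth.Agent.Lib.EtaleReduced_helper7.isReduced_of_etale (A ⧸ N) _
  have h0 : (1 : A ⧸ N) ⊗ₜ[A] c = 0 := by
    have : IsNilpotent ((1 : A ⧸ N) ⊗ₜ[A] c) :=
      hc.map (Algebra.TensorProduct.includeRight : C →ₐ[A] (A ⧸ N) ⊗[A] C)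
    exact this.eq_zero
  rw [← Ideal.Quotient.eq_zero_iff_mem]
  apply (Algebra.TensorProduct.quotIdealMapEquivQuotTensor C N).injective
  rw [map_zero]
  exact h0

theorem nilradical_map_of_isIndEtale (h : EtPBC.IsIndEtale A B) :
    (nilradical A).map (algebraMap A B) = nilradical B := by
  apply le_antisymm
  · rw [Ideal.map_le_iff_le_comap]
    intro x hx
    exact (mem_nilradical.mp hx).map (algebraMap A B)
  · intro b hb
    obtain ⟨n, hn⟩ := mem_nilradical.mp hb
    obtain ⟨C, _, _, _, f, c, rfl⟩ := exists_of_isIndEtale h b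
    obtain ⟨C', _, _, _, g, f', hgf, hg⟩ :=
      exists_factor_of_isIndEtale h C f (c ^ n) (by rw [map_pow, hn])
    have hc' : IsNilpotent (g c) := ⟨n, by rw [← map_pow, hg]⟩
    have h1 := mem_map_nilradical_of_etale (A := A) C' (g c) hc'
    have h3 : f c = f' (g c) := by rw [← hgf]; rfl
    rw [h3]
    have h2 := Ideal.mem_map_of_mem f'.toRingHom h1
    rw [Ideal.map_map] at h2
    have h4 : f'.toRingHom.comp (algebraMap A C') = algebraMap A B := f'.comp_algebraMap
    rw [h4] at h2
    exact h2

end Groth.Agent.Lib.IndEtaleH3
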