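import Mathlib
import Groth.Prelude.Def_Hensel
import Groth.Agent.Lib.IndEtale3_helper3

/-!
# Quotients as base change: flatness and ind-étaleness pass to `A ⧸ I → B ⧸ I B` (helper3)
-/

set_option autoImplicit false
set_option maxSynthPendingDepth 3
universe u

namespace Groth.Agent.Lib.IndEtaleH3

open TensorProduct

variable {A B : Type u} [CommRing A] [CommRing B] [Algebra A B]

theorem faithfullyFlat_quotient [Module.FaithfullyFlat A B] (I : Ideal A) :
    Module.FaithfullyFlat (A ⧸ I) (B ⧸ I.map (algebraMap A B)) :=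
  Module.FaithfullyFlat.of_linearEquiv (A ⧸ I) ((A ⧸ I) ⊗[A] B)
    (Algebra.TensorProduct.quotIdealMapEquivQuotTensor B I).toLinearEquiv

theorem isIndEtale_quotient (h : EtPBC.IsIndEtale A B) (I : Ideal A) :
    EtPBC.IsIndEtale (A ⧸ I) (B ⧸ I.map (algebraMap A B)) := by
  have h1 : EtPBC.IsIndEtale (A ⧸ I) ((A ⧸ I) ⊗[A] B) := isIndEtale_baseChange A B (A ⧸ I) h
  let e := Algebra.TensorProduct.quotIdealMapEquivQuotTensor B I
  exact isIndEtale_of_ringEquiv e.symm.toRingEquiv (fun r => e.symm.commutes r) h1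

end Groth.Agent.Lib.IndEtaleH3
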