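import Mathlib
import Groth.Prelude.Def_Hensel
import Groth.Agent.Lib.HenselFinite_helper3

/-!
# Unibranch local domains and henselian faithfully flat extensions, part 1 (helper3)

If `D` is a local domain and `S` a henselian local domain, faithfully flat over `D`, then the
integral closure of `D` in its fraction field is a local ring.
-/

set_option autoImplicit false
set_option maxSynthPendingDepth 3
universe u

namespace Groth.Agent.Lib.UnibranchH3

open Polynomial TensorProduct

theorem isUnit_of_isUnit_algebraMap_of_faithfullyFlat {A B : Type*} [CommRing A] [CommRing B]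
    [Algebra A B] [Module.FaithfullyFlat A B] {a : A} (h : IsUnit (algebraMap A B a)) :
    IsUnit a := by
  have h1 : (Ideal.span {a}).map (algebraMap A B) = ⊤ := by
    rw [Ideal.map_span, Set.image_singleton]
    exact Ideal.span_singleton_eq_top.mpr h
  have h2 := Ideal.comap_map_eq_self_of_faithfullyFlat (B := B) (Ideal.span {a})
  rw [h1, Ideal.comap_top] at h2
  exact Ideal.span_singleton_eq_top.mp h2.symm

/-- A domain which is a finite product of local rings is local. -/
theorem isLocalRing_of_isDomain_of_ringEquiv_pi {T : Type*} [CommRing T] [IsDomain T]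
    {ι : Type*} [Fintype ι] (A : ι → Type*) [∀ i, CommRing (A i)] [∀ i, IsLocalRing (A i)]
    (e : T ≃+* (∀ i, A i)) : IsLocalRing T := by
  classical
  have hne : Nonempty ι := by
    by_contra hemp
    rw [not_nonempty_iff] at hemp
    have : (1 : T) = 0 := e.injective (Subsingleton.elim _ _)
    exact one_ne_zero this
  obtain ⟨i₀⟩ := hne
  have huniq : ∀ j, j = i₀ := by
    intro j
    by_contra hj
    have hprod : (Pi.single i₀ (1 : A i₀) : ∀ i, A i) * Pi.single j (1 : A j) = 0 := by
      ext k
      simp only [Pi.mul_apply, Pi.zero_apply]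
      by_cases hk : k = i₀
      · subst hk
        rw [Pi.single_eq_of_ne (Ne.symm hj), mul_zero]
      · rw [Pi.single_eq_of_ne hk, zero_mul]
    have h0 : e.symm (Pi.single i₀ 1) * e.symm (Pi.single j 1) = 0 := by
      rw [← map_mul, hprod, map_zero]
    have hsingle : ∀ k, e.symm (Pi.single k (1 : A k)) ≠ 0 := by
      intro k hk0
      have h1 : (Pi.single k (1 : A k) : ∀ i, A i) = 0 := by
        have := congrArg e hk0
        rwa [RingEquiv.apply_symm_apply, map_zero] at this
      have h2 := congrFun h1 k
      rw [Pi.single_eq_same, Pi.zero_apply] at h2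
      exact one_ne_zero h2
    rcases mul_eq_zero.mp h0 with h | h
    · exact hsingle _ h
    · exact hsingle _ h
  refine IsLocalRing.of_isUnit_or_isUnit_one_sub_self fun a => ?_
  rcases IsLocalRing.isUnit_or_isUnit_one_sub_self (e a i₀) with h | h
  · left
    have h1 : IsUnit (e a) := Pi.isUnit_iff.mpr (fun j => by
      have := huniq j
      subst this
      exact h)
    exact (isUnit_map_iff e a).mp h1
  · right
    have h1 : IsUnit (e (1 - a)) := Pi.isUnit_iff.mpr (fun j => by
      have := huniq j
      subst this
      rw [map_sub, map_one]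
      exact h)
    exact (isUnit_map_iff e (1 - a)).mp h1

/-- If a henselian local domain `S` is faithfully flat over the local domain `D`, the integral
closure of `D` in its fraction field is local. -/
theorem isLocalRing_integralClosure_of_isDomain_henselian (D : Type u) [CommRing D] [IsDomain D]
    (S : Type u) [CommRing S] [IsDomain S] [HenselianLocalRing S] [Algebra D S]
    [Module.FaithfullyFlat D S] : IsLocalRing (integralClosure D (FractionRing D)) := by
  let K := FractionRing D
  have hinjDS : Function.Injective (algebraMap D S) := FaithfulSMul.algebraMap_injective D S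
  -- `S ⊗ K` is a domain
  haveI hdomSK : IsDomain (S ⊗[D] K) := by
    haveI : IsLocalization (Algebra.algebraMapSubmonoid S (nonZeroDivisors D)) (S ⊗[D] K) :=
      inferInstance
    refine IsLocalization.isDomain_of_le_nonZeroDivisors (S ⊗[D] K)
      (M := Algebra.algebraMapSubmonoid S (nonZeroDivisors D)) ?_
    rintro _ ⟨d, hd, rfl⟩
    exact mem_nonZeroDivisors_of_ne_zero
      ((map_ne_zero_iff _ hinjDS).mpr (nonZeroDivisors.ne_zero hd))
  refine IsLocalRing.of_isUnit_or_isUnit_one_sub_self fun x => ?_
  let D₁ : Subalgebra D K := Algebra.adjoin D {(x : K)}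
  have hD₁le : D₁ ≤ integralClosure D K := Algebra.adjoin_le (by
    intro y hy
    rw [Set.mem_singleton_iff] at hy
    rw [hy]
    exact x.2)
  haveI : Module.Finite D D₁ :=
    Module.Finite.iff_fg.mpr (IsIntegral.fg_adjoin_singleton x.2)
  let x₁ : D₁ := ⟨x, Algebra.subset_adjoin (Set.mem_singleton _)⟩
  have key : IsUnit x₁ ∨ IsUnit (1 - x₁) := by
    -- `S ⊗ D₁` is a finite `S`-algebra and a domain, hence local
    let f : S ⊗[D] D₁ →ₐ[S] S ⊗[D] K := Algebra.TensorProduct.map (AlgHom.id S S) D₁.val
    have hf : Function.Injective f := by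
      have : (f : S ⊗[D] D₁ → S ⊗[D] K) = LinearMap.lTensor S D₁.val.toLinearMap := by
        ext z
        induction z using TensorProduct.induction_on with
        | zero => simp
        | tmul a b => simp [f]
        | add a b ha hb => simp only [map_add, ha, hb]
      rw [this]
      exact Module.Flat.lTensor_preserves_injective_linearMap _ Subtype.val_injective
    haveI : IsDomain (S ⊗[D] D₁) := hf.isDomain f.toRingHom
    obtain ⟨ι, _, A, _, hA, ⟨e⟩⟩ := Groth.Agent.Lib.HenselFiniteH3.exists_pi_local S (S ⊗[D] D₁)
    haveI := hA
    haveI : IsLocalRing (S ⊗[D] D₁) := isLocalRing_of_isDomain_of_ringEquiv_pi A e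
    haveI : IsLocalRing (D₁ ⊗[D] S) :=
      (Algebra.TensorProduct.comm D S D₁).toRingEquiv.isLocalRing
    rcases IsLocalRing.isUnit_or_isUnit_one_sub_self (algebraMap D₁ (D₁ ⊗[D] S) x₁) with h | h
    · left
      exact isUnit_of_isUnit_algebraMap_of_faithfullyFlat h
    · right
      rw [← map_one (algebraMap D₁ (D₁ ⊗[D] S)), ← map_sub] at h
      exact isUnit_of_isUnit_algebraMap_of_faithfullyFlat h
  let incl : D₁ →ₐ[D] integralClosure D K := Subalgebra.inclusion hD₁le
  rcases key with h | h
  · left
    have h2 := h.map incl
    have h3 : incl x₁ = x := Subtype.ext rfl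
    rwa [h3] at h2
  · right
    have h2 := h.map incl
    have h3 : incl (1 - x₁) = 1 - x := Subtype.ext rfl
    rwa [h3] at h2

end Groth.Agent.Lib.UnibranchH3
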