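import Mathlib
import Groth.Prelude.Def_Hensel
import Groth.Agent.Lib.IndEtaleNormal2_helper3

/-!
# Unibranch local domains, part 2 (helper3)

If the normalization `D'` of a local domain `D` is local and `S` is a local, faithfully flat,
ind-étale `D`-algebra with `S = D + 𝔪_S`, then `S` is a domain.
-/

set_option autoImplicit false
set_option maxSynthPendingDepth 3
universe u

namespace Groth.Agent.Lib.UnibranchH3

open Polynomial TensorProduct IsLocalRing Groth.Agent.Lib.IndEtaleH3

theorem isDomain_of_isLocalRing_integralClosure (D : Type u) [CommRing D] [IsDomain D]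
    (hloc : IsLocalRing (integralClosure D (FractionRing D)))
    (S : Type u) [CommRing S] [IsLocalRing S] [Algebra D S] [Module.FaithfullyFlat D S]
    (hie : EtPBC.IsIndEtale D S)
    (hres : ∀ s : S, ∃ d : D, s - algebraMap D S d ∈ maximalIdeal S) : IsDomain S := by
  let K := FractionRing D
  let D' := integralClosure D K
  haveI := hloc
  haveI : IsIntegrallyClosed D' :=
    integralClosure.isIntegrallyClosedOfFiniteExtension (R := D) K (L := K)
  let T := D' ⊗[D] S
  have hT : EtPBC.IsIndEtale D' T := isIndEtale_baseChange D S D' hie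
  let α : D' →+* T := algebraMap D' T
  let β : S →ₐ[D] T := Algebra.TensorProduct.includeRight
  have hinjDD' : Function.Injective (algebraMap D D') := by
    intro a b hab
    apply IsFractionRing.injective D K
    exact congrArg (Subtype.val) hab
  have hβ : Function.Injective β :=
    Algebra.TensorProduct.includeRight_injective (A := D') (B := S) (R := D) hinjDD'
  letI : Algebra S T := β.toRingHom.toAlgebra
  haveI : Algebra.IsIntegral S T := ⟨fun z => by
    induction z using TensorProduct.induction_on with
    | zero => exact isIntegral_zero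
    | tmul a s =>
      have h1 : IsIntegral S (α a) := by
        have ha : IsIntegral D a := Algebra.IsIntegral.isIntegral (R := D) a
        exact ha.map_of_comp_eq (algebraMap D S) α (by
          ext d
          show β (algebraMap D S d) = algebraMap D' T (algebraMap D D' d)
          rw [β.commutes, ← IsScalarTower.algebraMap_apply])
      have h2 : IsIntegral S (algebraMap S T s) := isIntegral_algebraMap
      have h3 : a ⊗ₜ[D] s = α a * algebraMap S T s := by
        show a ⊗ₜ[D] s = (a ⊗ₜ[D] (1 : S)) * ((1 : D') ⊗ₜ[D] s)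
        rw [Algebra.TensorProduct.tmul_mul_tmul, mul_one, one_mul]
      rw [h3]
      exact h1.mul h2
    | add a b ha hb => exact ha.add hb⟩
  let J : Ideal T := (maximalIdeal S).map (algebraMap S T)
  have hJ : ∀ N : Ideal T, N.IsMaximal → J ≤ N := by
    intro N hN
    haveI := hN
    have hmax : (N.comap (algebraMap S T)).IsMaximal :=
      Ideal.isMaximal_comap_of_isIntegral_of_isMaximal N
    have h1 : N.comap (algebraMap S T) = maximalIdeal S := IsLocalRing.eq_maximalIdeal hmax
    rw [Ideal.map_le_iff_le_comap, h1]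
  have hdec : ∀ x : T, ∃ d'' : D', x - α d'' ∈ J := by
    intro x
    induction x using TensorProduct.induction_on with
    | zero => exact ⟨0, by simp⟩
    | tmul a s =>
      obtain ⟨d, hd⟩ := hres s
      refine ⟨d • a, ?_⟩
      have h1 : a ⊗ₜ[D] s - α (d • a) = α a * algebraMap S T (s - algebraMap D S d) := by
        show a ⊗ₜ[D] s - (d • a) ⊗ₜ[D] (1 : S) =
          (a ⊗ₜ[D] (1 : S)) * ((1 : D') ⊗ₜ[D] (s - algebraMap D S d))
        rw [Algebra.TensorProduct.tmul_mul_tmul, mul_one, one_mul, TensorProduct.tmul_sub,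
          TensorProduct.smul_tmul, Algebra.smul_def, mul_one]
      rw [h1]
      exact J.mul_mem_left _ (Ideal.mem_map_of_mem _ hd)
    | add a b ha hb =>
      obtain ⟨a'', ha''⟩ := ha
      obtain ⟨b'', hb''⟩ := hb
      refine ⟨a'' + b'', ?_⟩
      have : a + b - α (a'' + b'') = (a - α a'') + (b - α b'') := by rw [map_add]; ring
      rw [this]
      exact J.add_mem ha'' hb''
  have hJjac : ∀ y ∈ J, ∀ u : T, IsUnit u → IsUnit (u + y) := by
    intro y hy u hu
    by_contra hcon
    obtain ⟨N, hN, hmem⟩ := exists_max_ideal_of_mem_nonunits hcon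
    have h1 : u ∈ N := by
      have := N.sub_mem hmem (hJ N hN hy)
      rwa [add_sub_cancel_right] at this
    exact hN.ne_top (Ideal.eq_top_of_isUnit_mem _ h1 hu)
  obtain ⟨P, hP, hPover⟩ :=
    Ideal.exists_isPrime_liesOver_of_faithfullyFlat (B := T) (maximalIdeal D')
  obtain ⟨N₀, hN₀, hPN₀⟩ := Ideal.exists_le_maximal P hP.ne_top
  have hN₀α : ∀ d'' ∈ maximalIdeal D', α d'' ∈ N₀ := by
    intro d'' hd
    apply hPN₀
    rw [hPover.over] at hd
    exact hd
  haveI : Nontrivial T := hβ.nontrivial
  have hnonunit : ∀ a : T, a ∈ nonunits T → ∃ a'' ∈ maximalIdeal D', a - α a'' ∈ J := by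
    intro a ha
    obtain ⟨a'', ha''⟩ := hdec a
    refine ⟨a'', ?_, ha''⟩
    by_contra hcon
    have hu : IsUnit a'' := by
      rwa [mem_maximalIdeal, mem_nonunits_iff, not_not] at hcon
    apply ha
    have := hJjac _ ha'' (α a'') (hu.map α)
    rwa [add_sub_cancel] at this
  haveI : IsLocalRing T := IsLocalRing.of_nonunits_add (by
    intro a b ha hb
    obtain ⟨a'', ha3, ha''⟩ := hnonunit a ha
    obtain ⟨b'', hb3, hb''⟩ := hnonunit b hb
    have hab : a'' + b'' ∈ maximalIdeal D' := Ideal.add_mem _ ha3 hb3
    have hmem : a + b ∈ N₀ := by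
      have e : a + b = α (a'' + b'') + ((a - α a'') + (b - α b'')) := by rw [map_add]; ring
      rw [e]
      exact N₀.add_mem (hN₀α _ hab) (hJ N₀ hN₀ (J.add_mem ha'' hb''))
    intro hunit
    exact hN₀.ne_top (Ideal.eq_top_of_isUnit_mem _ hmem hunit))
  obtain ⟨hdom, -⟩ := isDomain_and_isIntegrallyClosed_of_isIndEtale hT
  exact hβ.isDomain β.toRingHom

end Groth.Agent.Lib.UnibranchH3
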