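import Mathlib
import Groth.Prelude.Def_Hensel
import Groth.Prelude.Def_CAlg2
import Groth.Agent.Lib.Unibranch1_helper3
import Groth.Agent.Lib.Unibranch2_helper3
import Groth.Agent.Lib.QuotBaseChange_helper3
import Groth.Agent.Lib.Henselization12_helper3
import Groth.Agent.Lib.IndEtaleNil_helper3
import Groth.Agent.S0505

/-!
# Unibranch local rings and the henselization (helper3)
-/

set_option autoImplicit false
set_option maxSynthPendingDepth 3
universe u

namespace Groth.Agent.Lib.UnibranchH3

open Polynomial TensorProduct IsLocalRing Groth.Agent.Lib.IndEtaleH3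

section quot

variable {B : Type u} [CommRing B] [IsLocalRing B] (J : Ideal B)

theorem isLocalRing_quotient (hJ : J ≤ maximalIdeal B) : IsLocalRing (B ⧸ J) := by
  haveI : Nontrivial (B ⧸ J) := Ideal.Quotient.nontrivial_iff.mpr (fun h => by
    rw [h] at hJ
    exact (maximalIdeal.isMaximal B).ne_top (top_le_iff.mp hJ))
  exact IsLocalRing.of_surjective' (Ideal.Quotient.mk J) Ideal.Quotient.mk_surjective

theorem mk_mem_maximalIdeal_quotient (hJ : J ≤ maximalIdeal B) (x : B)
    (hx : x ∈ maximalIdeal B) :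
    haveI := isLocalRing_quotient J hJ
    Ideal.Quotient.mk J x ∈ maximalIdeal (B ⧸ J) := by
  haveI := isLocalRing_quotient J hJ
  rw [mem_maximalIdeal, mem_nonunits_iff]
  intro hu
  obtain ⟨y, hy⟩ := hu.exists_right_inv
  obtain ⟨y, rfl⟩ := Ideal.Quotient.mk_surjective y
  rw [← map_mul, ← map_one (Ideal.Quotient.mk J), Ideal.Quotient.eq] at hy
  have h1 : x * y - 1 ∈ maximalIdeal B := hJ hy
  have h2 : x * y ∈ maximalIdeal B := Ideal.mul_mem_right _ _ hx
  have h3 : (1 : B) ∈ maximalIdeal B := by
    have := Ideal.sub_mem _ h2 h1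
    rwa [sub_sub_cancel] at this
  exact (maximalIdeal.isMaximal B).ne_top ((Ideal.eq_top_iff_one _).mpr h3)

end quot

variable (A : Type u) [CommRing A] [IsLocalRing A] (Ah : Type u) [CommRing Ah] [IsLocalRing Ah]
  [Algebra A Ah] [IsLocalHom (algebraMap A Ah)] [Hensel.IsHenselization A Ah]

theorem isIndEtale_of_isHenselization : EtPBC.IsIndEtale A Ah := by
  obtain ⟨e, he⟩ := Groth.Agent.Lib.HenselizationH3.exists_ringEquiv_hens (R := A) Ah
  exact isIndEtale_of_ringEquiv e.symm (fun r => by
    rw [← he r, RingEquiv.symm_apply_apply]) Groth.Agent.Lib.HenselizationH3.isIndEtale_hens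

theorem map_nilradical_le : (nilradical A).map (algebraMap A Ah) ≤ maximalIdeal Ah := by
  rw [Ideal.map_le_iff_le_comap]
  intro x hx
  have hx' : x ∈ maximalIdeal A := by
    have h1 : nilradical A ≤ maximalIdeal A := nilradical_le_prime _
    exact h1 hx
  rw [Ideal.mem_comap]
  have h2 : (maximalIdeal A).map (algebraMap A Ah) ≤ maximalIdeal Ah :=
    ((local_hom_TFAE (algebraMap A Ah)).out 0 2).mp
      (inferInstance : IsLocalHom (algebraMap A Ah))
  exact h2 (Ideal.mem_map_of_mem _ hx')

/-- `A` is unibranch iff `A^h / nil(A) A^h` is a domain. -/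
theorem isUnibranch_iff_isDomain_quotient :
    CAlg2.IsUnibranch A ↔ IsDomain (Ah ⧸ (nilradical A).map (algebraMap A Ah)) := by
  set J := (nilradical A).map (algebraMap A Ah) with hJdef
  have hJ : J ≤ maximalIdeal Ah := map_nilradical_le A Ah
  haveI := isLocalRing_quotient J hJ
  haveI hfl := Groth.Agent.Lib.HenselizationH3.faithfullyFlat_of_isHenselization (R := A) Ah
  haveI : Module.FaithfullyFlat (A ⧸ nilradical A) (Ah ⧸ J) := faithfullyFlat_quotient _
  have hie : EtPBC.IsIndEtale (A ⧸ nilradical A) (Ah ⧸ J) :=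
    isIndEtale_quotient (isIndEtale_of_isHenselization A Ah) _
  constructor
  · rintro ⟨hdom, hloc⟩
    haveI : IsDomain (A ⧸ nilradical A) := hdom
    refine isDomain_of_isLocalRing_integralClosure (A ⧸ nilradical A) hloc (Ah ⧸ J) hie ?_
    intro s
    obtain ⟨s, rfl⟩ := Ideal.Quotient.mk_surjective s
    obtain ⟨a, ha⟩ := Groth.Agent.Lib.HenselizationH3.exists_sub_mem_of_isHenselization A Ah s
    refine ⟨Ideal.Quotient.mk _ a, ?_⟩
    have := mk_mem_maximalIdeal_quotient J hJ _ ha
    rw [map_sub] at this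
    exact this
  · intro hdom
    haveI := hdom
    haveI : HenselianLocalRing Ah := Hensel.IsHenselization.henselian A
    haveI : HenselianLocalRing (Ah ⧸ J) := Groth.Agent.S0505.result Ah (Ah ⧸ J)
    have hinj : Function.Injective (algebraMap (A ⧸ nilradical A) (Ah ⧸ J)) :=
      FaithfulSMul.algebraMap_injective _ _
    haveI : IsDomain (A ⧸ nilradical A) := hinj.isDomain _
    exact ⟨inferInstance,
      isLocalRing_integralClosure_of_isDomain_henselian (A ⧸ nilradical A) (Ah ⧸ J)⟩

end Groth.Agent.Lib.UnibranchH3
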