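import Mathlib
import Groth.Prelude.Def_Brnch
import Groth.Agent.Lib.HensBranches_helper3
import Groth.Agent.Lib.Unibranch3_helper3
import Groth.Agent.Lib.Branches11_helper6
import Groth.Agent.Lib.Branches7_helper6
import Groth.Agent.Lib.Branches9_helper6
import Groth.Agent.S9810

/-!
# Minimal primes of a henselian ind-étale cover and the number of branches (helper3)

`card_minimalPrimes_eq_numBranches`: for a local ring `A` and a henselian local ring `S` which is
ind-étale and faithfully flat over `A` with `S = A + 𝔪_S`, the number of minimal primes of `S` is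
`Brnch.numBranches A`.
-/

set_option autoImplicit false
set_option maxSynthPendingDepth 3
universe u

namespace Groth.Agent.Lib.HensBranchesH3

open TensorProduct IsLocalRing Groth.Agent.Lib.IndEtaleH3

section Basic

variable {A B : Type u} [CommRing A] [CommRing B] [Algebra A B]

theorem comap_mem_minimalPrimes' (h : EtPBC.IsIndEtale A B) (q : Ideal B)
    (hq : q ∈ minimalPrimes B) : q.comap (algebraMap A B) ∈ minimalPrimes A := by
  haveI : q.IsPrime := hq.1.1
  have h1 := height_comap_of_isIndEtale h q
  rw [Ideal.height_eq_zero_iff.mpr hq] at h1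
  exact Ideal.height_eq_zero_iff.mp h1

theorem mem_minimalPrimes_of_comap' (h : EtPBC.IsIndEtale A B) (q : Ideal B) [q.IsPrime]
    (hq : q.comap (algebraMap A B) ∈ minimalPrimes A) : q ∈ minimalPrimes B := by
  have h1 := height_comap_of_isIndEtale h q
  rw [Ideal.height_eq_zero_iff.mpr hq] at h1
  exact Ideal.height_eq_zero_iff.mp h1.symm

end Basic

section General

variable (A : Type u) [CommRing A] [IsLocalRing A]
  (S : Type u) [CommRing S] [HenselianLocalRing S] [Algebra A S] [Module.FaithfullyFlat A S]
  [IsLocalHom (algebraMap A S)]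

theorem comap_mem_minimalPrimes (hie : EtPBC.IsIndEtale A S) (q : Ideal S)
    (hq : q ∈ minimalPrimes S) : q.comap (algebraMap A S) ∈ minimalPrimes A := by
  haveI : q.IsPrime := hq.1.1
  have h1 := height_comap_of_isIndEtale hie q
  rw [Ideal.height_eq_zero_iff.mpr hq] at h1
  exact Ideal.height_eq_zero_iff.mp h1

theorem exists_minimalPrimes_comap_eq (p : Ideal A) (hp : p ∈ minimalPrimes A) :
    ∃ q ∈ minimalPrimes S, q.comap (algebraMap A S) = p := by
  haveI : p.IsPrime := hp.1.1
  obtain ⟨P, hP, hPover⟩ := Ideal.exists_isPrime_liesOver_of_faithfullyFlat (B := S) p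
  obtain ⟨q, hq, hqP⟩ := Ideal.exists_minimalPrimes_le (bot_le : ⊥ ≤ P)
  refine ⟨q, hq, ?_⟩
  haveI : q.IsPrime := hq.1.1
  have h1 : q.comap (algebraMap A S) ≤ p := by
    rw [hPover.over]; exact Ideal.comap_mono hqP
  exact le_antisymm h1 (hp.2 ⟨Ideal.comap_isPrime _ _, bot_le⟩ h1)

/-- the contraction map on minimal primes -/
noncomputable def contr (hie : EtPBC.IsIndEtale A S) : minimalPrimes S → minimalPrimes A :=
  fun q => ⟨q.1.comap (algebraMap A S), comap_mem_minimalPrimes A S hie q.1 q.2⟩

theorem contr_surjective (hie : EtPBC.IsIndEtale A S) : Function.Surjective (contr A S hie) := by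
  intro p
  obtain ⟨q, hq, hqp⟩ := exists_minimalPrimes_comap_eq A S p.1 p.2
  exact ⟨⟨q, hq⟩, Subtype.ext hqp⟩

theorem map_le_maximalIdeal (p : Ideal A) [p.IsPrime] :
    p.map (algebraMap A S) ≤ maximalIdeal S := by
  rw [Ideal.map_le_iff_le_comap]
  have h1 : (maximalIdeal S).comap (algebraMap A S) = maximalIdeal A :=
    ((IsLocalRing.local_hom_TFAE (algebraMap A S)).out 0 4).mp
      (inferInstance : IsLocalHom (algebraMap A S))
  rw [h1]
  exact IsLocalRing.le_maximalIdeal (Ideal.IsPrime.ne_top inferInstance)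

/-- The count for the quotient by a prime. -/
theorem card_minimalPrimes_quotient (hie : EtPBC.IsIndEtale A S)
    (hres : ∀ s : S, ∃ a : A, s - algebraMap A S a ∈ maximalIdeal S)
    (p : Ideal A) [p.IsPrime] :
    ENat.card (minimalPrimes (S ⧸ p.map (algebraMap A S))) = Brnch.numBranches (A ⧸ p) := by
  have hJ := map_le_maximalIdeal A S p
  haveI := Groth.Agent.Lib.UnibranchH3.isLocalRing_quotient (p.map (algebraMap A S)) hJ
  haveI : HenselianLocalRing (S ⧸ p.map (algebraMap A S)) := Groth.Agent.S0505.result S _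
  haveI : Module.FaithfullyFlat (A ⧸ p) (S ⧸ p.map (algebraMap A S)) := faithfullyFlat_quotient p
  haveI : IsLocalHom (algebraMap (A ⧸ p) (S ⧸ p.map (algebraMap A S))) :=
    ⟨fun a h => Groth.Agent.Lib.UnibranchH3.isUnit_of_isUnit_algebraMap_of_faithfullyFlat h⟩
  have hie' : EtPBC.IsIndEtale (A ⧸ p) (S ⧸ p.map (algebraMap A S)) := isIndEtale_quotient hie p
  have hres' : ∀ s : S ⧸ p.map (algebraMap A S), ∃ d : A ⧸ p,
      s - algebraMap (A ⧸ p) (S ⧸ p.map (algebraMap A S)) d ∈
        maximalIdeal (S ⧸ p.map (algebraMap A S)) := by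
    intro s
    obtain ⟨s, rfl⟩ := Ideal.Quotient.mk_surjective s
    obtain ⟨a, ha⟩ := hres s
    refine ⟨Ideal.Quotient.mk _ a, ?_⟩
    have := Groth.Agent.Lib.UnibranchH3.mk_mem_maximalIdeal_quotient (p.map (algebraMap A S)) hJ _ ha
    rw [map_sub] at this
    exact this
  rw [card_minimalPrimes_eq (A ⧸ p) (S ⧸ p.map (algebraMap A S)) hie' hres']
  unfold Brnch.numBranches
  rw [if_pos (Groth.Agent.Lib.Branches.finite_minimalPrimes_of_isDomain _)]
  exact ENat.card_congr (Groth.Agent.Lib.Branches.maximalSpectrumCongr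
    (Groth.Agent.Lib.Branches.normRedEquiv (A ⧸ p)))

theorem quotient_comap_comap (p : Ideal A) (I : Ideal (S ⧸ p.map (algebraMap A S))) :
    (I.comap (Ideal.Quotient.mk (p.map (algebraMap A S)))).comap (algebraMap A S) =
      (I.comap (algebraMap (A ⧸ p) (S ⧸ p.map (algebraMap A S)))).comap (Ideal.Quotient.mk p) := by
  ext a
  simp only [Ideal.mem_comap]
  rfl

/-- the fibre of `contr` over `p` is the set of minimal primes of `S ⧸ p S` -/
theorem card_fibre (hie : EtPBC.IsIndEtale A S) (p : minimalPrimes A) :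
    ENat.card {q : minimalPrimes S // contr A S hie q = p} =
      ENat.card (minimalPrimes (S ⧸ p.1.map (algebraMap A S))) := by
  haveI : p.1.IsPrime := p.2.1.1
  haveI : IsDomain (A ⧸ p.1) := Ideal.Quotient.isDomain p.1
  have hie' : EtPBC.IsIndEtale (A ⧸ p.1) (S ⧸ p.1.map (algebraMap A S)) :=
    isIndEtale_quotient hie p.1
  have hcontr : ∀ Q : Ideal (S ⧸ p.1.map (algebraMap A S)),
      Q ∈ minimalPrimes (S ⧸ p.1.map (algebraMap A S)) →
      (Q.comap (Ideal.Quotient.mk (p.1.map (algebraMap A S)))).comap (algebraMap A S) = p.1 := by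
    intro Q hQ
    have h1 := comap_mem_minimalPrimes' hie' Q hQ
    have h1' : Q.comap (algebraMap (A ⧸ p.1) (S ⧸ p.1.map (algebraMap A S))) = ⊥ := by
      have h2 : minimalPrimes (A ⧸ p.1) = {⊥} := IsDomain.minimalPrimes_eq_singleton_bot _
      have h3 := h1
      rw [h2] at h3
      exact h3
    rw [quotient_comap_comap, h1', ← RingHom.ker_eq_comap_bot, Ideal.mk_ker]
  have hmin : ∀ Q : Ideal (S ⧸ p.1.map (algebraMap A S)),
      Q ∈ minimalPrimes (S ⧸ p.1.map (algebraMap A S)) →
      Q.comap (Ideal.Quotient.mk (p.1.map (algebraMap A S))) ∈ minimalPrimes S := by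
    intro Q hQ
    haveI : Q.IsPrime := hQ.1.1
    haveI : (Q.comap (Ideal.Quotient.mk (p.1.map (algebraMap A S)))).IsPrime :=
      Ideal.comap_isPrime _ _
    apply mem_minimalPrimes_of_comap' hie
    rw [hcontr Q hQ]
    exact p.2
  let φ : minimalPrimes (S ⧸ p.1.map (algebraMap A S)) →
      {q : minimalPrimes S // contr A S hie q = p} :=
    fun Q => ⟨⟨Q.1.comap (Ideal.Quotient.mk (p.1.map (algebraMap A S))), hmin Q.1 Q.2⟩,
      Subtype.ext (hcontr Q.1 Q.2)⟩
  have hφ : Function.Bijective φ := by
    constructor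
    · intro Q₁ Q₂ h
      have h1 : Q₁.1.comap (Ideal.Quotient.mk (p.1.map (algebraMap A S))) =
          Q₂.1.comap (Ideal.Quotient.mk (p.1.map (algebraMap A S))) :=
        congrArg (fun x => x.1.1) h
      exact Subtype.ext (Ideal.comap_injective_of_surjective _ Ideal.Quotient.mk_surjective h1)
    · rintro ⟨⟨q, hq⟩, hqp⟩
      haveI : q.IsPrime := hq.1.1
      have hqp' : q.comap (algebraMap A S) = p.1 := congrArg Subtype.val hqp
      have hJq : p.1.map (algebraMap A S) ≤ q := by
        rw [Ideal.map_le_iff_le_comap, hqp']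
      have hker : RingHom.ker (Ideal.Quotient.mk (p.1.map (algebraMap A S))) ≤ q := by
        rw [Ideal.mk_ker]; exact hJq
      have hcm : (q.map (Ideal.Quotient.mk (p.1.map (algebraMap A S)))).comap
          (Ideal.Quotient.mk (p.1.map (algebraMap A S))) = q := by
        rw [Ideal.comap_map_of_surjective _ Ideal.Quotient.mk_surjective,
          ← RingHom.ker_eq_comap_bot]
        exact sup_eq_left.mpr hker
      have hprime : (q.map (Ideal.Quotient.mk (p.1.map (algebraMap A S)))).IsPrime :=
        Ideal.map_isPrime_of_surjective Ideal.Quotient.mk_surjective hker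
      have hQmin : q.map (Ideal.Quotient.mk (p.1.map (algebraMap A S))) ∈
          minimalPrimes (S ⧸ p.1.map (algebraMap A S)) := by
        refine ⟨⟨hprime, bot_le⟩, fun Q' ⟨hQ'p, _⟩ hle => ?_⟩
        haveI := hQ'p
        have h1 : Q'.comap (Ideal.Quotient.mk (p.1.map (algebraMap A S))) ≤ q := by
          rw [← hcm]; exact Ideal.comap_mono hle
        have h2 : q ≤ Q'.comap (Ideal.Quotient.mk (p.1.map (algebraMap A S))) :=
          hq.2 ⟨Ideal.comap_isPrime _ _, bot_le⟩ h1
        calc q.map (Ideal.Quotient.mk (p.1.map (algebraMap A S)))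
            ≤ (Q'.comap (Ideal.Quotient.mk (p.1.map (algebraMap A S)))).map
              (Ideal.Quotient.mk (p.1.map (algebraMap A S))) := Ideal.map_mono h2
          _ = Q' := Ideal.map_comap_of_surjective _ Ideal.Quotient.mk_surjective Q'
      refine ⟨⟨_, hQmin⟩, ?_⟩
      apply Subtype.ext
      apply Subtype.ext
      exact hcm
  exact (ENat.card_congr (Equiv.ofBijective φ hφ)).symm

/-- **The number of minimal primes of a henselization-like cover is the number of branches.** -/
theorem card_minimalPrimes_eq_numBranches (hie : EtPBC.IsIndEtale A S)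
    (hres : ∀ s : S, ∃ a : A, s - algebraMap A S a ∈ maximalIdeal S) :
    ENat.card (minimalPrimes S) = Brnch.numBranches A := by
  by_cases hfin : (minimalPrimes A).Finite
  · haveI : Fintype (minimalPrimes A) := hfin.fintype
    rw [Groth.Agent.S9810.result A hfin, finsum_eq_sum_of_fintype,
      ← ENat.card_congr (Equiv.sigmaFiberEquiv (contr A S hie)),
      Groth.Agent.Lib.Branches.enat_card_sigma]
    refine Finset.sum_congr rfl fun p _ => ?_
    haveI : p.1.IsPrime := p.2.1.1
    rw [card_fibre A S hie p]
    exact card_minimalPrimes_quotient A S hie hres p.1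
  · haveI : Infinite (minimalPrimes A) := Set.infinite_coe_iff.mpr hfin
    haveI : Infinite (minimalPrimes S) := Infinite.of_surjective _ (contr_surjective A S hie)
    unfold Brnch.numBranches
    rw [if_neg hfin, ENat.card_eq_top_of_infinite]

end General

end Groth.Agent.Lib.HensBranchesH3

namespace Groth.Agent.Lib.HensBranchesH3

/-- **The number of minimal primes of a henselization is the number of branches.** -/
theorem card_minimalPrimes_henselization (A S : Type u) [CommRing A]
    [IsLocalRing A] [CommRing S] [IsLocalRing S] [Algebra A S] [IsLocalHom (algebraMap A S)]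
    [Hensel.IsHenselization A S] :
    ENat.card (minimalPrimes S) = Brnch.numBranches A := by
  haveI hS : HenselianLocalRing S := Hensel.IsHenselization.henselian A
  haveI := Groth.Agent.Lib.HenselizationH3.faithfullyFlat_of_isHenselization (R := A) S
  have hie := Groth.Agent.Lib.UnibranchH3.isIndEtale_of_isHenselization A S
  have hres := fun s => Groth.Agent.Lib.HenselizationH3.exists_sub_mem_of_isHenselization A S s
  have key := @card_minimalPrimes_eq_numBranches A _ _ S _ hS _ _ _ hie
  exact key hres

end Groth.Agent.Lib.HensBranchesH3
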