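import Mathlib
import Groth.Prelude.Def_Hensel
import Groth.Agent.Lib.Henselization8_helper3

/-!
# Induction principle for the henselization of a local ring (helper3)

A subring of a henselization `Ah` of a local ring `A` containing the image of `A`, closed under
inverses of units and under simple roots of monic polynomials, is everything.
-/

set_option autoImplicit false
set_option maxSynthPendingDepth 3
universe u

namespace Groth.Agent.Lib.HensInductionH3

open IsLocalRing Polynomial

/-- a ring hom out of a henselization whose restriction to the base is local, is local -/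
theorem isLocalHom_of_comp (A Ah : Type u) [CommRing A] [IsLocalRing A] [CommRing Ah]
    [IsLocalRing Ah] [Algebra A Ah] [IsLocalHom (algebraMap A Ah)] [Hensel.IsHenselization A Ah]
    {T : Type*} [CommRing T] [IsLocalRing T] (h : Ah →+* T)
    (hloc : IsLocalHom (h.comp (algebraMap A Ah))) : IsLocalHom h := by
  refine ((local_hom_TFAE h).out 0 3).mpr ?_
  rw [← Groth.Agent.Lib.HenselizationH3.map_maximalIdeal_of_isHenselization (R := A) Ah,
    Ideal.map_le_iff_le_comap]
  intro x hx
  rw [Ideal.mem_comap, Ideal.mem_comap, ← RingHom.comp_apply]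
  rw [mem_maximalIdeal, mem_nonunits_iff] at hx ⊢
  exact fun hu => hx (hloc.map_nonunit x hu)

section

variable (A Ah : Type u) [CommRing A] [IsLocalRing A] [CommRing Ah]
    [IsLocalRing Ah] [Algebra A Ah] [IsLocalHom (algebraMap A Ah)] [Hensel.IsHenselization A Ah]

theorem subring_eq_top (T : Subring Ah) (hA : ∀ a : A, algebraMap A Ah a ∈ T)
    (hinv : ∀ x ∈ T, IsUnit x → ∃ y ∈ T, x * y = 1)
    (hroot : ∀ (n : ℕ) (c : Fin n → Ah) (a : Ah), (∀ i, c i ∈ T) →
      (X ^ n + ∑ i : Fin n, C (c i) * X ^ (i : ℕ) : Ah[X]).eval a = 0 →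
      IsUnit ((X ^ n + ∑ i : Fin n, C (c i) * X ^ (i : ℕ) : Ah[X]).derivative.eval a) → a ∈ T) :
    T = ⊤ := by
  haveI hAh : HenselianLocalRing Ah := Hensel.IsHenselization.henselian A
  haveI hι : IsLocalHom T.subtype := by
    constructor
    intro x hx
    obtain ⟨y, hy, hxy⟩ := hinv x x.2 hx
    exact IsUnit.of_mul_eq_one (⟨y, hy⟩ : T) (Subtype.ext hxy)
  haveI : IsLocalRing T := RingHom.domain_isLocalRing T.subtype
  have hmem : ∀ x : T, x ∈ maximalIdeal T ↔ (x : Ah) ∈ maximalIdeal Ah := by
    intro x
    rw [mem_maximalIdeal, mem_maximalIdeal, mem_nonunits_iff, mem_nonunits_iff]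
    constructor
    · intro h hu; exact h (hι.map_nonunit x hu)
    · intro h hu; exact h (hu.map T.subtype)
  haveI : HenselianLocalRing T := by
    refine ⟨fun f hf a₀ h₁ h₂ => ?_⟩
    have hfm : (f.map T.subtype).Monic := hf.map _
    have e₁ : (f.map T.subtype).eval (a₀ : Ah) = ((f.eval a₀ : T) : Ah) := by
      rw [eval_map, ← T.subtype_apply a₀, eval₂_at_apply]
      rfl
    have e₂ : (f.map T.subtype).derivative.eval (a₀ : Ah) = ((f.derivative.eval a₀ : T) : Ah) := by
      rw [derivative_map, eval_map, ← T.subtype_apply a₀, eval₂_at_apply]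
      rfl
    obtain ⟨a, ha, haa₀⟩ := HenselianLocalRing.is_henselian (f.map T.subtype) hfm (a₀ : Ah)
      (by rw [e₁]; exact (hmem _).mp h₁) (by rw [e₂]; exact h₂.map T.subtype)
    have hder : IsUnit ((f.map T.subtype).derivative.eval a) := by
      have hdvd : a - (a₀ : Ah) ∣ (f.map T.subtype).derivative.eval a -
          (f.map T.subtype).derivative.eval (a₀ : Ah) := sub_dvd_eval_sub _ _ _
      have hmem' : (f.map T.subtype).derivative.eval a -
          (f.map T.subtype).derivative.eval (a₀ : Ah) ∈ maximalIdeal Ah :=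
        Ideal.mem_of_dvd _ hdvd haa₀
      by_contra hnu
      have h3 : (f.map T.subtype).derivative.eval a ∈ maximalIdeal Ah := hnu
      have h4 : (f.map T.subtype).derivative.eval (a₀ : Ah) ∈ maximalIdeal Ah := by
        have := (maximalIdeal Ah).sub_mem h3 hmem'
        rwa [sub_sub_cancel] at this
      rw [e₂] at h4
      exact h4 (h₂.map T.subtype)
    have hsum : f.map T.subtype = X ^ f.natDegree +
        ∑ i : Fin f.natDegree, C ((f.coeff i : T) : Ah) * X ^ (i : ℕ) := by
      conv_lhs => rw [hfm.as_sum]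
      rw [natDegree_map_eq_of_injective (Subtype.val_injective) f]
      congr 1
      rw [← Fin.sum_univ_eq_sum_range (fun i => C ((f.map T.subtype).coeff i) * X ^ i) f.natDegree]
      simp only [coeff_map, Subring.subtype_apply]
    have haT : a ∈ T := by
      refine hroot f.natDegree (fun i => ((f.coeff i : T) : Ah)) a (fun i => (f.coeff i).2) ?_ ?_
      · rw [← hsum]; exact ha
      · rw [← hsum]; exact hder
    refine ⟨⟨a, haT⟩, ?_, ?_⟩
    · have h5 : ((f.eval (⟨a, haT⟩ : T) : T) : Ah) = 0 := by
        have : (f.map T.subtype).eval ((⟨a, haT⟩ : T) : Ah) = ((f.eval (⟨a, haT⟩ : T) : T) : Ah) := by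
          rw [eval_map, ← T.subtype_apply ⟨a, haT⟩, eval₂_at_apply]
          rfl
        rw [← this]; exact ha
      exact Subtype.ext h5
    · rw [hmem]
      exact haa₀
  let g₀ : A →+* T := (algebraMap A Ah).codRestrict T hA
  have hg₀ : IsLocalHom g₀ := by
    constructor
    intro a ha
    have : IsUnit (algebraMap A Ah a) := ha.map T.subtype
    exact isUnit_of_map_unit (algebraMap A Ah) a this
  obtain ⟨g, hg, -⟩ := Hensel.IsHenselization.universal (R := A) (S := Ah) T g₀ hg₀
  obtain ⟨k, -, hk⟩ := Hensel.IsHenselization.universal (R := A) (S := Ah) Ah (algebraMap A Ah)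
    inferInstance
  have h1 : T.subtype.comp g = k := hk _ (by
    show (T.subtype.comp g).comp (algebraMap A Ah) = algebraMap A Ah
    rw [RingHom.comp_assoc, hg]; ext a; rfl)
  have h2 : RingHom.id Ah = k := hk _ (by
    show (RingHom.id Ah).comp (algebraMap A Ah) = algebraMap A Ah
    ext a; rfl)
  rw [eq_top_iff]
  intro x _
  have : x = T.subtype (g x) := by
    rw [← RingHom.comp_apply, h1, ← h2]; rfl
  rw [this]
  exact (g x).2

end

end Groth.Agent.Lib.HensInductionH3
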