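import Mathlib
import Groth.Prelude.Def_Hensel
import Groth.Agent.Lib.Henselization11_helper3
import Groth.Agent.Lib.NoethApprox_helper3

/-!
# Henselization of a local ring, part 13: Noetherianity (helper3)
-/

set_option autoImplicit false
set_option maxSynthPendingDepth 3
universe u

namespace Groth.Agent.Lib.HenselizationH3

open IsLocalRing EGA4loc TensorProduct Polynomial

variable {R : Type u} [CommRing R] [IsLocalRing R]

instance isNoetherianRing_idxC [IsNoetherianRing R] (i : Idx R) : IsNoetherianRing i.C :=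
  Algebra.FiniteType.isNoetherianRing R i.C

instance isNoetherianRing_idxA [IsNoetherianRing R] (i : Idx R) : IsNoetherianRing i.A :=
  IsLocalization.isNoetherianRing (RingHom.ker i.pt).primeCompl i.A inferInstance

theorem map_maximalIdeal_ofH (i : Idx R) :
    (maximalIdeal i.A).map (ofH i) = maximalIdeal (Hens R) := by
  rw [← map_maximalIdeal_idx, Ideal.map_map, ← map_maximalIdeal_hens]
  congr 1
  ext r
  exact ofH_algebraMap i r

instance isNoetherianRing_hens [IsNoetherianRing R] : IsNoetherianRing (Hens R) := by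
  apply Groth.Agent.Lib.NoethApproxH3.isNoetherianRing_of_closed
  · rw [← map_maximalIdeal_hens]
    exact Ideal.FG.map (IsNoetherian.noetherian _) _
  · intro 𝔞 h𝔞 x hx
    obtain ⟨l, g, hg⟩ := Submodule.fg_iff_exists_fin_generating_family.mp h𝔞
    obtain ⟨i, a, ha⟩ := exists_ofH_fin (Fin.cons x g : Fin (l + 1) → Hens R)
    have ha0 : ofH i (a 0) = x := by rw [ha 0]; rfl
    have hak : ∀ k : Fin l, ofH i (a k.succ) = g k := fun k => by rw [ha k.succ]; rfl
    let 𝔞i : Ideal i.A := Ideal.span (Set.range (fun k : Fin l => a k.succ))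
    have hmap : 𝔞i.map (ofH i) = 𝔞 := by
      rw [Ideal.map_span, ← Set.range_comp, ← hg]
      congr 2
      ext k
      exact hak k
    letI := algIdx i
    haveI := faithfullyFlat_idx i
    have hcomap : ∀ K : Ideal i.A, (K.map (ofH i)).comap (ofH i) = K := fun K =>
      Ideal.comap_map_eq_self_of_faithfullyFlat (B := Hens R) K
    have hx' : ∀ n, a 0 ∈ 𝔞i ⊔ maximalIdeal i.A ^ n := by
      intro n
      rw [← hcomap (𝔞i ⊔ maximalIdeal i.A ^ n), Ideal.mem_comap, Ideal.map_sup, Ideal.map_pow,
        hmap, map_maximalIdeal_ofH, ha0]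
      exact hx n
    have h1 := Groth.Agent.Lib.NoethApproxH3.mem_of_forall_mem_sup_pow 𝔞i (a 0) hx'
    rw [← ha0, ← hmap]
    exact Ideal.mem_map_of_mem _ h1

end Groth.Agent.Lib.HenselizationH3
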