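import Mathlib
import Groth.Prelude.Def_Brnch
import Groth.Agent.Lib.HensBranches2_helper3
import Groth.Agent.Lib.HensInduction_helper3
import Groth.Agent.Lib.FlatIndEtale_helper3
import Groth.Agent.Lib.Henselization13_helper3
import Groth.Agent.Lib.AnUnram_helper3
import Groth.Agent.Lib.CompleteFinite_helper3
import Groth.Agent.Lib.HensJointFin_helper3

/-!
# Branches of a Noetherian local ring and of its completion (helper3)
-/

set_option autoImplicit false
set_option maxSynthPendingDepth 3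
universe u

namespace Groth.Agent.Lib.HensBranchesH3

open IsLocalRing

section Fibre

variable {S B : Type u} [CommRing S] [CommRing B] [Algebra S B] [Module.Flat S B]

theorem comap_mem_minimalPrimes_of_flat (P : Ideal B) (hP : P ∈ minimalPrimes B) :
    P.comap (algebraMap S B) ∈ minimalPrimes S := by
  haveI hPp : P.IsPrime := hP.1.1
  refine ⟨⟨Ideal.comap_isPrime _ P, bot_le⟩, ?_⟩
  rintro Q ⟨hQ, -⟩ hQle
  haveI := hQ
  haveI : P.LiesOver (Ideal.comap (algebraMap S B) P) := ⟨rfl⟩
  obtain ⟨Q', hQ'le, hQ'p, hQ'o⟩ := Ideal.exists_ideal_le_liesOver_of_le (p := Q)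
    (q := Ideal.comap (algebraMap S B) P) P hQle
  have h1 : P ≤ Q' := hP.2 ⟨hQ'p, bot_le⟩ hQ'le
  have h2 : Q' = P := le_antisymm hQ'le h1
  rw [hQ'o.over, h2]

theorem mem_minimalPrimes_map_iff (q : Ideal S) (hq : q ∈ minimalPrimes S) (P : Ideal B) :
    P ∈ (q.map (algebraMap S B)).minimalPrimes ↔
      P ∈ minimalPrimes B ∧ P.comap (algebraMap S B) = q := by
  haveI hqp : q.IsPrime := hq.1.1
  constructor
  · rintro ⟨⟨hPp, hPle⟩, hPmin⟩
    haveI := hPp
    have hqle : q ≤ P.comap (algebraMap S B) := Ideal.map_le_iff_le_comap.mp hPle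
    haveI : P.LiesOver (Ideal.comap (algebraMap S B) P) := ⟨rfl⟩
    obtain ⟨Q, hQle, hQp, hQo⟩ := Ideal.exists_ideal_le_liesOver_of_le (p := q)
      (q := Ideal.comap (algebraMap S B) P) P hqle
    have hQo' : Q.comap (algebraMap S B) = q := hQo.over.symm
    have h1 : q.map (algebraMap S B) ≤ Q := by
      rw [Ideal.map_le_iff_le_comap, hQo']
    have h2 : P ≤ Q := hPmin ⟨hQp, h1⟩ hQle
    have h3 : Q = P := le_antisymm hQle h2
    have hcomap : P.comap (algebraMap S B) = q := by rw [← h3]; exact hQo'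
    refine ⟨⟨⟨hPp, bot_le⟩, ?_⟩, hcomap⟩
    rintro P'' ⟨hP''p, -⟩ hP''le
    haveI := hP''p
    have h4 : P''.comap (algebraMap S B) ≤ q := by
      rw [← hcomap]; exact Ideal.comap_mono hP''le
    have h5 : q ≤ P''.comap (algebraMap S B) :=
      hq.2 ⟨Ideal.comap_isPrime _ _, bot_le⟩ h4
    exact hPmin ⟨hP''p, Ideal.map_le_iff_le_comap.mpr h5⟩ hP''le
  · rintro ⟨hP, hcomap⟩
    haveI hPp : P.IsPrime := hP.1.1
    refine ⟨⟨hPp, ?_⟩, ?_⟩
    · rw [Ideal.map_le_iff_le_comap, hcomap]
    · rintro P' ⟨hP'p, -⟩ hP'le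
      exact hP.2 ⟨hP'p, bot_le⟩ hP'le

theorem radical_map_isPrime_iff (q : Ideal S) (hq : q ∈ minimalPrimes S) :
    (q.map (algebraMap S B)).radical.IsPrime ↔
      ∃! P : Ideal B, P ∈ minimalPrimes B ∧ P.comap (algebraMap S B) = q := by
  constructor
  · intro hR
    haveI := hR
    obtain ⟨P, hP, hPle⟩ := Ideal.exists_minimalPrimes_le
      (I := q.map (algebraMap S B)) (J := (q.map (algebraMap S B)).radical) Ideal.le_radical
    have hRle : ∀ P' ∈ (q.map (algebraMap S B)).minimalPrimes,
        (q.map (algebraMap S B)).radical ≤ P' := by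
      intro P' hP'
      rw [← Ideal.sInf_minimalPrimes]
      exact sInf_le hP'
    have hRP : (q.map (algebraMap S B)).radical = P := le_antisymm (hRle P hP) hPle
    refine ⟨P, (mem_minimalPrimes_map_iff q hq P).mp hP, ?_⟩
    rintro P' hP'
    have h1 := (mem_minimalPrimes_map_iff q hq P').mpr hP'
    have h2 : P ≤ P' := hRP ▸ hRle P' h1
    have h3 : P' ≤ P := hP'.1.2 ⟨hP.1.1, bot_le⟩ h2
    exact le_antisymm h3 h2
  · rintro ⟨P, hP, huniq⟩
    have h1 : (q.map (algebraMap S B)).minimalPrimes = {P} := by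
      ext P'
      rw [mem_minimalPrimes_map_iff q hq P', Set.mem_singleton_iff]
      constructor
      · intro h; exact huniq P' h
      · rintro rfl; exact hP
    rw [← Ideal.sInf_minimalPrimes, h1, sInf_singleton]
    exact hP.1.1.1

variable [Module.FaithfullyFlat S B]

theorem exists_minimalPrimes_comap_eq_of_faithfullyFlat (q : Ideal S) (hq : q ∈ minimalPrimes S) :
    ∃ P ∈ minimalPrimes B, P.comap (algebraMap S B) = q := by
  haveI hqp : q.IsPrime := hq.1.1
  obtain ⟨Q₀, hQ₀p, hQ₀o⟩ := Ideal.exists_isPrime_liesOver_of_faithfullyFlat (B := B) q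
  obtain ⟨P, hP, hPle⟩ := Ideal.exists_minimalPrimes_le (I := ⊥) (J := Q₀) bot_le
  refine ⟨P, hP, ?_⟩
  have h1 : Ideal.comap (algebraMap S B) P ≤ q := by
    rw [hQ₀o.over]
    exact Ideal.comap_mono hPle
  have h2 := comap_mem_minimalPrimes_of_flat (S := S) P hP
  exact le_antisymm h1 (hq.2 ⟨h2.1.1, bot_le⟩ h1)

theorem card_minimalPrimes_eq_iff (hB : (minimalPrimes B).Finite) :
    ENat.card (minimalPrimes S) = ENat.card (minimalPrimes B) ↔
      ∀ q ∈ minimalPrimes S, (q.map (algebraMap S B)).radical.IsPrime := by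
  let c : minimalPrimes B → minimalPrimes S := fun P =>
    ⟨P.1.comap (algebraMap S B), comap_mem_minimalPrimes_of_flat P.1 P.2⟩
  have hc : Function.Surjective c := by
    rintro ⟨q, hq⟩
    obtain ⟨P, hP, hPq⟩ := exists_minimalPrimes_comap_eq_of_faithfullyFlat (B := B) q hq
    exact ⟨⟨P, hP⟩, Subtype.ext hPq⟩
  haveI : Finite (minimalPrimes B) := hB.to_subtype
  haveI : Finite (minimalPrimes S) := Finite.of_surjective c hc
  constructor
  · intro hcard
    rw [ENat.card_eq_coe_natCard, ENat.card_eq_coe_natCard, Nat.cast_inj] at hcard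
    have hbij : Function.Bijective c := hc.bijective_of_nat_card_le hcard.symm.le
    intro q hq
    rw [radical_map_isPrime_iff q hq]
    obtain ⟨⟨P, hP⟩, hPq⟩ := hc ⟨q, hq⟩
    have hPq' : P.comap (algebraMap S B) = q := congrArg Subtype.val hPq
    refine ⟨P, ⟨hP, hPq'⟩, ?_⟩
    rintro P' ⟨hP', hP'q⟩
    have : c ⟨P', hP'⟩ = c ⟨P, hP⟩ := Subtype.ext (hP'q.trans hPq'.symm)
    exact congrArg Subtype.val (hbij.1 this)
  · intro h
    have hinj : Function.Injective c := by
      rintro ⟨P₁, hP₁⟩ ⟨P₂, hP₂⟩ h12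
      have h12' : P₁.comap (algebraMap S B) = P₂.comap (algebraMap S B) :=
        congrArg Subtype.val h12
      have hq := comap_mem_minimalPrimes_of_flat (S := S) P₂ hP₂
      obtain ⟨P, -, huniq⟩ := (radical_map_isPrime_iff _ hq).mp (h _ hq)
      apply Subtype.ext
      show P₁ = P₂
      rw [huniq P₁ ⟨hP₁, h12'⟩, huniq P₂ ⟨hP₂, rfl⟩]
    exact (ENat.card_congr (Equiv.ofBijective c ⟨hinj, hc⟩)).symm

end Fibre

section Main

variable (A S : Type u) [CommRing A] [IsLocalRing A]
    [IsNoetherianRing A] [CommRing S] [IsLocalRing S] [Algebra A S] [IsLocalHom (algebraMap A S)]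
    [Hensel.IsHenselization A S]

theorem numBranches_completion_eq_card :
    Brnch.numBranches (AdicCompletion (maximalIdeal A) A) =
      ENat.card (minimalPrimes (AdicCompletion (maximalIdeal A) A)) := by
  obtain ⟨hloc, hnoeth, hcompl, hff, hlh, hmax⟩ := AnUnramH3.completion_facts A
  haveI := hloc
  haveI := hcompl
  haveI hh : HenselianLocalRing (AdicCompletion (maximalIdeal A) A) :=
    Groth.Agent.Lib.CompleteFiniteH3.henselianLocalRing_of_isAdicComplete _
  haveI := Groth.Agent.Lib.HensJointH3.isHenselization_self (AdicCompletion (maximalIdeal A) A)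
  exact (card_minimalPrimes_henselization (AdicCompletion (maximalIdeal A) A)
    (AdicCompletion (maximalIdeal A) A)).symm

theorem numBranches_eq_iff
    (ψ : S →+* AdicCompletion (IsLocalRing.maximalIdeal A) A)
    (hψ : ψ.comp (algebraMap A S) = algebraMap A (AdicCompletion (IsLocalRing.maximalIdeal A) A)) :
    Brnch.numBranches A = Brnch.numBranches (AdicCompletion (IsLocalRing.maximalIdeal A) A) ↔
      ∀ q ∈ minimalPrimes S, (Ideal.map ψ q).radical.IsPrime := by
  obtain ⟨hloc, hnoeth, hcompl, hff, hlh, hmax⟩ := AnUnramH3.completion_facts A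
  haveI := hloc
  haveI := hnoeth
  haveI hloc0 : IsLocalHom (ψ.comp (algebraMap A S)) := by
    rw [hψ]; exact hlh
  haveI : IsLocalHom ψ := Groth.Agent.Lib.HensInductionH3.isLocalHom_of_comp A S ψ hloc0
  letI : Algebra S (AdicCompletion (IsLocalRing.maximalIdeal A) A) := ψ.toAlgebra
  haveI : IsScalarTower A S (AdicCompletion (IsLocalRing.maximalIdeal A) A) :=
    IsScalarTower.of_algebraMap_eq (fun a => (DFunLike.congr_fun hψ a).symm)
  haveI : Module.Flat S (AdicCompletion (IsLocalRing.maximalIdeal A) A) :=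
    Groth.Agent.Lib.IndEtaleH3.flat_of_flat_of_isIndEtale
      (Groth.Agent.Lib.UnibranchH3.isIndEtale_of_isHenselization A S) _
  haveI : IsLocalHom (algebraMap S (AdicCompletion (IsLocalRing.maximalIdeal A) A)) :=
    (inferInstance : IsLocalHom ψ)
  haveI : Module.FaithfullyFlat S (AdicCompletion (IsLocalRing.maximalIdeal A) A) :=
    Module.FaithfullyFlat.of_flat_of_isLocalHom
  rw [numBranches_completion_eq_card A, ← card_minimalPrimes_henselization A S]
  exact card_minimalPrimes_eq_iff (S := S) (B := AdicCompletion (IsLocalRing.maximalIdeal A) A)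
    (minimalPrimes.finite_of_isNoetherianRing _)

end Main

end Groth.Agent.Lib.HensBranchesH3
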