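import Mathlib
import Groth.Prelude.Def_Hensel
import Groth.Prelude.Def_PBC
import Groth.Agent.Lib.StrictHens6_lead
import Groth.Agent.Lib.NoethApprox_helper3
import Groth.Agent.Lib.IndEtale1_helper3

/-!
# Strict henselization (lead's model `SH R K`): it is the strict henselization of each `i.A`;
injectivity of `ofH`, Noetherianity, ind-étaleness (helper3)
-/

set_option autoImplicit false
set_option maxSynthPendingDepth 3
universe u

namespace Groth.Agent.Lib.StrictHens

open IsLocalRing EGA4loc TensorProduct Polynomial

variable {R : Type u} [CommRing R] [IsLocalRing R]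
variable {K : Type u} [Field K] [Algebra R K] [Algebra (ResidueField R) K]
  [IsScalarTower R (ResidueField R) K]

/-- The `i.A`-algebra structure on the colimit. -/
noncomputable abbrev algIdx (i : Idx R K) : Algebra i.A (SH R K) := (ofH i).toAlgebra

theorem isLocalHom_algebraMap_idx (i : Idx R K) :
    letI := algIdx i
    IsLocalHom (algebraMap i.A (SH R K)) := isLocalHom_ofH i

theorem isScalarTower_idx (i : Idx R K) :
    letI := algIdx i
    IsScalarTower R i.A (SH R K) :=
  letI := algIdx i
  IsScalarTower.of_algebraMap_eq (fun r => (ofH_algebraMap i r).symm)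

theorem isStrictHenselization_idx [IsSepClosure (ResidueField R) K] (i : Idx R K) :
    letI := algIdx i
    haveI := isLocalHom_algebraMap_idx i
    Hensel.IsStrictHenselization i.A (SH R K) := by
  letI := algIdx i
  haveI := isLocalHom_algebraMap_idx i
  haveI := isScalarTower_idx i
  haveI hsc : IsSepClosure (ResidueField R) (ResidueField (SH R K)) := isSepClosure_residue
  refine ⟨inferInstance, ⟨hsc.sep_closed, ?_⟩, fun T _ _ f _ τ hτ => ?_⟩
  · haveI := hsc.separable
    exact Algebra.isSeparable_tower_top_of_isSeparable (ResidueField R) (ResidueField i.A)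
      (ResidueField (SH R K))
  · haveI : IsLocalHom (f.comp (algebraMap R i.A)) := RingHom.isLocalHom_comp _ _
    have hmapcomp : ResidueField.map (f.comp (algebraMap R i.A)) =
        (ResidueField.map f).comp (ResidueField.map (algebraMap R i.A)) := by
      ext k
      obtain ⟨r, rfl⟩ := residue_surjective k
      simp only [RingHom.coe_comp, Function.comp_apply, ResidueField.map_residue]
    have hτ' : τ.comp (ResidueField.map (algebraMap R (SH R K))) =
        ResidueField.map (f.comp (algebraMap R i.A)) := by
      rw [hmapcomp, ← hτ, RingHom.comp_assoc]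
      congr 1
      ext k
      obtain ⟨r, rfl⟩ := residue_surjective k
      simp only [RingHom.coe_comp, Function.comp_apply, ResidueField.map_residue]
      congr 1
      exact (ofH_algebraMap i r).symm
    obtain ⟨g, ⟨hg1, hg2⟩, hguniq⟩ := sh_universal T (f.comp (algebraMap R i.A)) τ hτ'
    obtain ⟨ψ, -, hψuniq⟩ := Groth.Agent.Lib.EssEt.existsUnique_lift i.essEtale T
      (f.comp (algebraMap R i.A)) (ResidueField.map f) hmapcomp.symm
    have hgloc : IsLocalHom g := by
      refine ⟨fun z hz => ?_⟩
      by_contra hnz
      have h1 : residue (SH R K) z = 0 :=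
        (residue_eq_zero_iff z).mpr ((mem_maximalIdeal z).mpr hnz)
      have h2 : residue T (g z) = 0 := by rw [hg2, h1, map_zero]
      rw [residue_eq_zero_iff] at h2
      exact h2 hz
    have h1 : g.comp (ofH i) = ψ := hψuniq _ ⟨RingHom.isLocalHom_comp g (ofH i), by
      ext r
      have := congr($hg1 r)
      simp only [RingHom.coe_comp, Function.comp_apply] at this ⊢
      rw [ofH_algebraMap, this], fun x => by
      show residue T (g (ofH i x)) = _
      rw [hg2]
      have := congr($hτ (residue i.A x))
      simp only [RingHom.coe_comp, Function.comp_apply, ResidueField.map_residue] at this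
      exact this⟩
    have h2 : f = ψ := hψuniq _ ⟨inferInstance, rfl, fun x => by
      rw [ResidueField.map_residue]⟩
    refine ⟨g, ⟨?_, hg2⟩, fun g' hg' => hguniq g' ⟨?_, hg'.2⟩⟩
    · show g.comp (ofH i) = f
      rw [h1, h2]
    · have hg'' : g'.comp (ofH i) = f := hg'.1
      ext r
      simp only [RingHom.coe_comp, Function.comp_apply]
      rw [← ofH_algebraMap i, ← hg'']
      rfl

theorem faithfullyFlat_idx [IsSepClosure (ResidueField R) K] (i : Idx R K) :
    letI := algIdx i
    Module.FaithfullyFlat i.A (SH R K) := by
  letI := algIdx i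
  haveI := isLocalHom_algebraMap_idx i
  haveI := isStrictHenselization_idx i
  exact faithfullyFlat_of_isStrictHenselization (R := i.A) (SH R K)

theorem ofH_injective [IsSepClosure (ResidueField R) K] (i : Idx R K) :
    Function.Injective (ofH i : i.A →+* SH R K) := by
  letI := algIdx i
  haveI := faithfullyFlat_idx i
  exact FaithfulSMul.algebraMap_injective i.A (SH R K)

end Groth.Agent.Lib.StrictHens
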