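import Mathlib
import Groth.Prelude.Def_Brnch
import Groth.Prelude.Def_EGA4b
import Groth.Agent.Lib.Branches11_helper6

/-!
# Geometric branches of a local ring and of its irreducible components (helper6)
-/

set_option autoImplicit false
universe u

namespace Groth.Agent.Lib.Branches

open IsLocalRing

section EmbEquiv

variable {A B : Type u} [CommRing A] [CommRing B] [IsLocalRing A] [IsLocalRing B]
  (π : A →+* B) (hπ : Function.Surjective π)

/-- A surjection of local rings induces an isomorphism of residue fields. -/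
noncomputable def resEquiv : ResidueField A ≃+* ResidueField B :=
  haveI : IsLocalHom π := IsLocalHom.of_surjective π hπ
  RingEquiv.ofBijective (ResidueField.map π) ⟨(ResidueField.map π).injective, by
    intro y
    obtain ⟨b, rfl⟩ := residue_surjective y
    obtain ⟨a, rfl⟩ := hπ b
    exact ⟨residue A a, ResidueField.map_residue π a⟩⟩

theorem resEquiv_residue (a : A) : resEquiv π hπ (residue A a) = residue B (π a) := by
  haveI : IsLocalHom π := IsLocalHom.of_surjective π hπ
  exact ResidueField.map_residue π a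

/-- The induced isomorphism of algebraic closures of the residue fields. -/
noncomputable def closEquiv :
    AlgebraicClosure (ResidueField A) ≃+* AlgebraicClosure (ResidueField B) :=
  IsAlgClosure.equivOfEquiv _ _ (resEquiv π hπ)

theorem closEquiv_toClosure (a : A) :
    closEquiv π hπ (Brnch.toClosure A a) = Brnch.toClosure B (π a) := by
  unfold Brnch.toClosure closEquiv
  rw [RingHom.comp_apply, RingHom.comp_apply]
  erw [IsAlgClosure.equivOfEquiv_algebraMap]
  rw [resEquiv_residue]

theorem closEquiv_symm_toClosure (a : A) :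
    (closEquiv π hπ).symm (Brnch.toClosure B (π a)) = Brnch.toClosure A a := by
  rw [RingEquiv.symm_apply_eq, closEquiv_toClosure]

variable (Ψ : CAlg2.normRed A →+* CAlg2.normRed B) (hΨ : Function.Surjective Ψ)
  (hcomp : ∀ a, Ψ (algebraMap A (CAlg2.normRed A) a) = algebraMap B (CAlg2.normRed B) (π a))
  (m : MaximalSpectrum (CAlg2.normRed B))

/-- The pulled back maximal ideal. -/
def pullMax : MaximalSpectrum (CAlg2.normRed A) :=
  ⟨Ideal.comap Ψ m.asIdeal, Ideal.comap_isMaximal_of_surjective _ hΨ⟩

/-- The residue fields at corresponding maximal ideals are isomorphic. -/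
noncomputable def quotEquiv :
    (CAlg2.normRed A ⧸ (pullMax Ψ hΨ m).asIdeal) ≃+* (CAlg2.normRed B ⧸ m.asIdeal) :=
  RingEquiv.ofBijective (Ideal.quotientMap m.asIdeal Ψ le_rfl)
    ⟨Ideal.quotientMap_injective, Ideal.quotientMap_surjective hΨ⟩

include hcomp in
theorem quotEquiv_toResidue (a : A) :
    quotEquiv Ψ hΨ m (Brnch.toResidue A (pullMax Ψ hΨ m) a) = Brnch.toResidue B m (π a) := by
  have h1 : Brnch.toResidue A (pullMax Ψ hΨ m) a =
      Ideal.Quotient.mk _ (algebraMap A (CAlg2.normRed A) a) := rfl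
  have h2 : Brnch.toResidue B m (π a) =
      Ideal.Quotient.mk _ (algebraMap B (CAlg2.normRed B) (π a)) := rfl
  rw [h1, h2, ← hcomp]
  exact Ideal.quotientMap_mk (I := m.asIdeal) (f := Ψ) (H := le_rfl)

include hcomp in
theorem quotEquiv_symm_toResidue (a : A) :
    (quotEquiv Ψ hΨ m).symm (Brnch.toResidue B m (π a)) =
      Brnch.toResidue A (pullMax Ψ hΨ m) a := by
  rw [RingEquiv.symm_apply_eq, quotEquiv_toResidue π Ψ hΨ hcomp]

include hπ hcomp in
/-- The embeddings at corresponding maximal ideals correspond. -/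
noncomputable def embEquiv : Brnch.Emb B m ≃ Brnch.Emb A (pullMax Ψ hΨ m) where
  toFun σ := ⟨((closEquiv π hπ).symm.toRingHom.comp σ.1).comp (quotEquiv Ψ hΨ m).toRingHom, by
    ext a
    have h1 := RingHom.congr_fun σ.2 (π a)
    rw [RingHom.comp_apply] at h1
    change (closEquiv π hπ).symm (σ.1 (quotEquiv Ψ hΨ m (Brnch.toResidue A _ a))) = _
    rw [quotEquiv_toResidue π Ψ hΨ hcomp, h1, closEquiv_symm_toClosure]⟩
  invFun σ := ⟨((closEquiv π hπ).toRingHom.comp σ.1).comp (quotEquiv Ψ hΨ m).symm.toRingHom, by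
    ext b
    obtain ⟨a, rfl⟩ := hπ b
    have h1 := RingHom.congr_fun σ.2 a
    rw [RingHom.comp_apply] at h1
    change (closEquiv π hπ) (σ.1 ((quotEquiv Ψ hΨ m).symm (Brnch.toResidue B m (π a)))) = _
    rw [quotEquiv_symm_toResidue π Ψ hΨ hcomp, h1, closEquiv_toClosure]⟩
  left_inv σ := by
    apply Subtype.ext
    ext x
    change (closEquiv π hπ) ((closEquiv π hπ).symm (σ.1 ((quotEquiv Ψ hΨ m)
      ((quotEquiv Ψ hΨ m).symm x)))) = σ.1 x
    rw [RingEquiv.apply_symm_apply, RingEquiv.apply_symm_apply]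
  right_inv σ := by
    apply Subtype.ext
    ext x
    change (closEquiv π hπ).symm ((closEquiv π hπ) (σ.1 ((quotEquiv Ψ hΨ m).symm
      ((quotEquiv Ψ hΨ m) x)))) = σ.1 x
    rw [RingEquiv.symm_apply_apply, RingEquiv.symm_apply_apply]

end EmbEquiv

variable (A : Type u) [CommRing A] [IsLocalRing A]

theorem numGeomBranches_eq_finsum (h : (minimalPrimes A).Finite) :
    Brnch.numGeomBranches A =
      ∑ᶠ q : minimalPrimes (CAlg2.red A), Brnch.numGeomBranches (A ⧸ primeOf A q) := by
  classical
  have hfin : (minimalPrimes (CAlg2.red A)).Finite := (finite_minimalPrimes_red_iff A).2 h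
  haveI : Fintype (minimalPrimes (CAlg2.red A)) := hfin.fintype
  rw [finsum_eq_sum_of_fintype]
  have h1 : ∀ q : minimalPrimes (CAlg2.red A), Brnch.numGeomBranches (A ⧸ primeOf A q) =
      ENat.card (Σ m : MaximalSpectrum (CAlg2.normRed (A ⧸ primeOf A q)),
        Brnch.Emb (A ⧸ primeOf A q) m) := by
    intro q
    unfold Brnch.numGeomBranches
    rw [if_pos (finite_minimalPrimes_of_isDomain _)]
  simp_rw [h1]
  rw [← enat_card_sigma]
  unfold Brnch.numGeomBranches
  rw [if_pos h]
  symm
  apply ENat.card_congr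
  let Φ : (Σ q : minimalPrimes (CAlg2.red A),
      MaximalSpectrum (CAlg2.normRed (A ⧸ primeOf A q))) ≃ MaximalSpectrum (CAlg2.normRed A) :=
    Equiv.ofBijective _ (Psi_sigma_bijective A h)
  refine (Equiv.sigmaAssoc _).symm.trans (Equiv.trans ?_
    (Equiv.sigmaCongrLeft (β := fun m' => Brnch.Emb A m') Φ))
  refine Equiv.sigmaCongrRight fun x => ?_
  exact embEquiv (Ideal.Quotient.mk (primeOf A x.1)) Ideal.Quotient.mk_surjective
    (Psi A x.1) (Psi_surjective A h x.1) (Psi_algebraMap A x.1) x.2

end Groth.Agent.Lib.Branches
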