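import Mathlib
import Groth.Prelude.Def_Brnch
import Groth.Agent.Lib.HensBranches2_helper3
import Groth.Agent.Lib.Branches12_helper6

/-!
# Minimal primes of a strictly henselian ind-étale cover and geometric branches (helper3)
-/

set_option autoImplicit false
set_option maxSynthPendingDepth 3
universe u

namespace Groth.Agent.Lib.HensBranchesH3

open Polynomial TensorProduct IsLocalRing Groth.Agent.Lib.IndEtaleH3

section CoreA

attribute [local instance] Algebra.TensorProduct.rightAlgebra

variable (D : Type u) [CommRing D] [IsDomain D] [IsLocalRing D]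
  (S : Type u) [CommRing S] [HenselianLocalRing S] [Algebra D S] [Module.FaithfullyFlat D S]
  [IsLocalHom (algebraMap D S)]

/-- minimal primes of `S` correspond to maximal ideals of `T = D' ⊗ S` -/
theorem card_minimalPrimes_eq_card_maximalSpectrum (hie : EtPBC.IsIndEtale D S) :
    ENat.card (minimalPrimes S) =
      ENat.card (MaximalSpectrum (integralClosure D (FractionRing D) ⊗[D] S)) := by
  let f₃ : minimalPrimes (integralClosure D (FractionRing D) ⊗[D] S) → minimalPrimes S :=
    fun Q => ⟨Q.1.comap (algebraMap S (integralClosure D (FractionRing D) ⊗[D] S)),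
      comap_beta_mem_minimalPrimes D S hie Q.1 Q.2⟩
  have hf₃ : Function.Bijective f₃ := by
    constructor
    · intro Q₁ Q₂ h
      exact Subtype.ext (comap_beta_injective D S hie Q₁.1 Q₂.1 Q₁.2 Q₂.2
        (congrArg Subtype.val h))
    · intro q
      obtain ⟨Q, hQ, hQq⟩ := exists_minimal_comap_beta D S q.1 q.2
      exact ⟨⟨Q, hQ⟩, Subtype.ext hQq⟩
  have hex : ∀ Q : minimalPrimes (integralClosure D (FractionRing D) ⊗[D] S),
      ∃ N : MaximalSpectrum (integralClosure D (FractionRing D) ⊗[D] S), Q.1 ≤ N.asIdeal := by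
    intro Q
    haveI : Q.1.IsPrime := Q.2.1.1
    obtain ⟨N, hN, hQN⟩ := Ideal.exists_le_maximal Q.1 (Ideal.IsPrime.ne_top inferInstance)
    exact ⟨⟨N, hN⟩, hQN⟩
  choose f₂ hf₂le using hex
  have hf₂ : Function.Bijective f₂ := by
    constructor
    · intro Q₁ Q₂ h
      apply Subtype.ext
      haveI := (f₂ Q₁).isMaximal
      exact minimal_unique_of_le_maximal D S hie Q₁.1 Q₂.1 Q₁.2 Q₂.2 (f₂ Q₁).asIdeal
        (hf₂le Q₁) (by rw [h]; exact hf₂le Q₂)
    · intro N
      haveI := N.isMaximal
      obtain ⟨Q, hQ, hQN⟩ := Ideal.exists_minimalPrimes_le (bot_le : ⊥ ≤ N.asIdeal)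
      refine ⟨⟨Q, hQ⟩, ?_⟩
      haveI : Q.IsPrime := hQ.1.1
      haveI := (f₂ ⟨Q, hQ⟩).isMaximal
      exact MaximalSpectrum.ext (maximal_unique_of_prime_le D S Q _ _ (hf₂le ⟨Q, hQ⟩) hQN)
  rw [← ENat.card_congr (Equiv.ofBijective f₃ hf₃), ENat.card_congr (Equiv.ofBijective f₂ hf₂)]

end CoreA

section PointsH

variable (D : Type u) [CommRing D] [IsLocalRing D]

theorem ker_toClosure : RingHom.ker (Brnch.toClosure D) = maximalIdeal D := by
  ext x
  rw [RingHom.mem_ker]
  unfold Brnch.toClosure
  rw [RingHom.comp_apply, map_eq_zero_iff _ (RingHom.injective _), residue_eq_zero_iff]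

/-- ring maps from a `D`-algebra `B` to the algebraic closure of the residue field of `D`,
compatible with the canonical map on `D` -/
abbrev HPts (B : Type u) [CommRing B] (φ : D →+* B) : Type u :=
  {h : B →+* AlgebraicClosure (ResidueField D) // h.comp φ = Brnch.toClosure D}

variable (B : Type u) [CommRing B] (φ : D →+* B)

/-- a maximal ideal with an embedding of its residue field gives a point -/
noncomputable def sigmaToH :
    (Σ m : MaximalSpectrum B, {σ : B ⧸ m.asIdeal →+* AlgebraicClosure (ResidueField D) //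
      σ.comp ((Ideal.Quotient.mk m.asIdeal).comp φ) = Brnch.toClosure D}) → HPts D B φ :=
  fun x => ⟨x.2.1.comp (Ideal.Quotient.mk x.1.asIdeal), by
    rw [RingHom.comp_assoc]; exact x.2.2⟩

theorem sigmaToH_bijective (hφ : φ.IsIntegral) : Function.Bijective (sigmaToH D B φ) := by
  constructor
  · rintro ⟨m₁, σ₁, h₁⟩ ⟨m₂, σ₂, h₂⟩ h
    have hh : σ₁.comp (Ideal.Quotient.mk m₁.asIdeal) = σ₂.comp (Ideal.Quotient.mk m₂.asIdeal) :=
      congrArg Subtype.val h
    have hinj : ∀ (m : MaximalSpectrum B)
        (σ : B ⧸ m.asIdeal →+* AlgebraicClosure (ResidueField D)) (b : B),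
        σ (Ideal.Quotient.mk m.asIdeal b) = 0 ↔ b ∈ m.asIdeal := by
      intro m σ b
      haveI := m.isMaximal
      letI := Ideal.Quotient.field m.asIdeal
      rw [map_eq_zero_iff σ (RingHom.injective σ), Ideal.Quotient.eq_zero_iff_mem]
    have hm : m₁ = m₂ := by
      apply MaximalSpectrum.ext
      ext b
      rw [← hinj m₁ σ₁ b, ← hinj m₂ σ₂ b]
      have := RingHom.congr_fun hh b
      simp only [RingHom.comp_apply] at this
      rw [this]
    subst hm
    have hσ : σ₁ = σ₂ := Ideal.Quotient.ringHom_ext hh
    subst hσ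
    rfl
  · rintro ⟨h, hh⟩
    have hcomap : (RingHom.ker h).comap φ = maximalIdeal D := by
      rw [← ker_toClosure, ← hh]
      rfl
    haveI : (RingHom.ker h).IsPrime := RingHom.ker_isPrime h
    have hmax : (RingHom.ker h).IsMaximal :=
      Ideal.isMaximal_of_isIntegral_of_isMaximal_comap' φ hφ _
        (by rw [hcomap]; exact maximalIdeal.isMaximal D)
    refine ⟨⟨⟨RingHom.ker h, hmax⟩, ⟨Ideal.Quotient.lift (RingHom.ker h) h (fun a ha => ha), ?_⟩⟩, ?_⟩
    · ext d
      simp only [RingHom.comp_apply, Ideal.Quotient.lift_mk]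
      exact RingHom.congr_fun hh d
    · apply Subtype.ext
      ext b
      simp only [sigmaToH, RingHom.comp_apply, Ideal.Quotient.lift_mk]

end PointsH

section GeomDomain

variable (D : Type u) [CommRing D] [IsDomain D] [IsLocalRing D]

theorem isIntegral_toNormRed :
    ((algebraMap (CAlg2.red D) (CAlg2.normRed D)).comp
      (Ideal.Quotient.mk (nilradical D))).IsIntegral := by
  intro x
  obtain ⟨y, rfl⟩ := (Groth.Agent.Lib.Branches.normRedEquiv D).surjective x
  obtain ⟨p, hp, hpy⟩ := (Algebra.IsIntegral.isIntegral (R := D) y)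
  refine ⟨p, hp, ?_⟩
  have h1 : ((algebraMap (CAlg2.red D) (CAlg2.normRed D)).comp
      (Ideal.Quotient.mk (nilradical D))) =
      ((Groth.Agent.Lib.Branches.normRedEquiv D) : _ →+* _).comp
        (algebraMap D (integralClosure D (FractionRing D))) := by
    ext d
    rw [RingHom.comp_apply, RingHom.comp_apply, RingHom.coe_coe,
      Groth.Agent.Lib.Branches.normRedEquiv_algebraMap]
    rfl
  rw [h1]
  have h2 := Polynomial.hom_eval₂ p (algebraMap D (integralClosure D (FractionRing D)))
    (Groth.Agent.Lib.Branches.normRedEquiv D).toRingHom y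
  rw [hpy, map_zero] at h2
  exact h2.symm

/-- geometric branches of a local domain, via points of the normalization -/
theorem numGeomBranches_eq_card_HPts :
    Brnch.numGeomBranches D =
      ENat.card (HPts D (integralClosure D (FractionRing D))
        (algebraMap D (integralClosure D (FractionRing D)))) := by
  unfold Brnch.numGeomBranches
  rw [if_pos (Groth.Agent.Lib.Branches.finite_minimalPrimes_of_isDomain D)]
  have e1 : (Σ m' : MaximalSpectrum (CAlg2.normRed D), Brnch.Emb D m') ≃
      HPts D (CAlg2.normRed D) ((algebraMap (CAlg2.red D) (CAlg2.normRed D)).comp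
        (Ideal.Quotient.mk (nilradical D))) :=
    Equiv.ofBijective (sigmaToH D (CAlg2.normRed D) _)
      (sigmaToH_bijective D (CAlg2.normRed D) _ (isIntegral_toNormRed D))
  rw [ENat.card_congr e1]
  apply ENat.card_congr
  have hcomp : ∀ d : D, (Groth.Agent.Lib.Branches.normRedEquiv D)
      (algebraMap D (integralClosure D (FractionRing D)) d) =
      ((algebraMap (CAlg2.red D) (CAlg2.normRed D)).comp
        (Ideal.Quotient.mk (nilradical D))) d := by
    intro d
    rw [Groth.Agent.Lib.Branches.normRedEquiv_algebraMap]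
    rfl
  exact
    { toFun := fun h => ⟨h.1.comp (Groth.Agent.Lib.Branches.normRedEquiv D).toRingHom, by
        ext d
        have h3 := RingHom.congr_fun h.2 d
        simp only [RingHom.comp_apply] at h3 ⊢
        rw [← h3]
        congr 1
        have := hcomp d
        simp only [RingHom.comp_apply] at this
        exact this⟩
      invFun := fun h => ⟨h.1.comp (Groth.Agent.Lib.Branches.normRedEquiv D).symm.toRingHom, by
        ext d
        have h3 := RingHom.congr_fun h.2 d
        simp only [RingHom.comp_apply] at h3 ⊢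
        rw [← h3]
        congr 1
        have := hcomp d
        simp only [RingHom.comp_apply] at this
        rw [← this]
        exact RingEquiv.symm_apply_apply _ _⟩
      left_inv := fun h => by
        apply Subtype.ext
        ext x
        simp only [RingHom.comp_apply]
        congr 1
        exact RingEquiv.apply_symm_apply _ _
      right_inv := fun h => by
        apply Subtype.ext
        ext x
        simp only [RingHom.comp_apply]
        congr 1
        exact RingEquiv.symm_apply_apply _ _ }

end GeomDomain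

section CoreB

attribute [local instance] Algebra.TensorProduct.rightAlgebra

variable (D : Type u) [CommRing D] [IsDomain D] [IsLocalRing D]
  (S : Type u) [CommRing S] [HenselianLocalRing S] [Algebra D S] [Module.FaithfullyFlat D S]
  [IsLocalHom (algebraMap D S)]
  (ι : S →+* AlgebraicClosure (ResidueField D))

/-- ring maps `T → κ̄` extending the given point `ι` of `S` -/
abbrev GPts : Type u :=
  {g : integralClosure D (FractionRing D) ⊗[D] S →+* AlgebraicClosure (ResidueField D) //
    g.comp (algebraMap S (integralClosure D (FractionRing D) ⊗[D] S)) = ι}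

variable {D S ι}

theorem tmul_eq_mul (a : integralClosure D (FractionRing D)) (s : S) :
    a ⊗ₜ[D] s = algebraMap (integralClosure D (FractionRing D))
        (integralClosure D (FractionRing D) ⊗[D] S) a *
        algebraMap S (integralClosure D (FractionRing D) ⊗[D] S) s := by
  show a ⊗ₜ[D] s = (a ⊗ₜ[D] (1 : S)) * ((1 : integralClosure D (FractionRing D)) ⊗ₜ[D] s)
  rw [Algebra.TensorProduct.tmul_mul_tmul, mul_one, one_mul]

/-- `G ≃ H`: the universal property of the tensor product -/
theorem gToH_bijective (hι : ι.comp (algebraMap D S) = Brnch.toClosure D) :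
    Function.Bijective (fun g : GPts D S ι =>
      (⟨g.1.comp (algebraMap (integralClosure D (FractionRing D))
        (integralClosure D (FractionRing D) ⊗[D] S)), by
          ext d
          have h1 := RingHom.congr_fun g.2 (algebraMap D S d)
          have h2 := RingHom.congr_fun hι d
          simp only [RingHom.comp_apply] at h1 h2 ⊢
          rw [← algebraMap_right_comp, h1, h2]⟩ :
        HPts D (integralClosure D (FractionRing D))
          (algebraMap D (integralClosure D (FractionRing D))))) := by
  constructor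
  · intro g₁ g₂ h
    have h' : g₁.1.comp (algebraMap (integralClosure D (FractionRing D))
        (integralClosure D (FractionRing D) ⊗[D] S)) =
        g₂.1.comp (algebraMap (integralClosure D (FractionRing D))
        (integralClosure D (FractionRing D) ⊗[D] S)) := congrArg Subtype.val h
    apply Subtype.ext
    refine RingHom.ext fun x => ?_
    induction x using TensorProduct.induction_on with
    | zero => rw [map_zero, map_zero]
    | tmul a s =>
      rw [tmul_eq_mul, map_mul, map_mul]
      have e1 := RingHom.congr_fun h' a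
      have e2 := RingHom.congr_fun g₁.2 s
      have e3 := RingHom.congr_fun g₂.2 s
      simp only [RingHom.comp_apply] at e1 e2 e3
      rw [e1, e2, e3]
    | add x y hx hy => rw [map_add, map_add, hx, hy]
  · rintro ⟨h, hh⟩
    letI : Algebra D (AlgebraicClosure (ResidueField D)) := (Brnch.toClosure D).toAlgebra
    let f₁ : integralClosure D (FractionRing D) →ₐ[D] AlgebraicClosure (ResidueField D) :=
      { h with
        commutes' := fun d => RingHom.congr_fun hh d }
    let f₂ : S →ₐ[D] AlgebraicClosure (ResidueField D) :=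
      { ι with
        commutes' := fun d => RingHom.congr_fun hι d }
    let g := Algebra.TensorProduct.lift f₁ f₂ (fun _ _ => Commute.all _ _)
    have hg : ∀ a s, g (a ⊗ₜ[D] s) = h a * ι s := fun a s =>
      Algebra.TensorProduct.lift_tmul f₁ f₂ _ a s
    refine ⟨⟨g.toRingHom, ?_⟩, ?_⟩
    · ext s
      show g ((1 : integralClosure D (FractionRing D)) ⊗ₜ[D] s) = ι s
      rw [hg, map_one, one_mul]
    · apply Subtype.ext
      ext a
      show g (a ⊗ₜ[D] (1 : S)) = h a
      rw [hg, map_one, mul_one]

variable (D S ι)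

theorem ker_isMaximal (hker : ∀ s, ι s = 0 ↔ s ∈ maximalIdeal S) (g : GPts D S ι) :
    (RingHom.ker g.1).IsMaximal := by
  haveI := isIntegral_T D S
  haveI : (RingHom.ker g.1).IsPrime := RingHom.ker_isPrime g.1
  apply Ideal.isMaximal_of_isIntegral_of_isMaximal_comap (R := S)
  have : (RingHom.ker g.1).comap (algebraMap S (integralClosure D (FractionRing D) ⊗[D] S)) =
      maximalIdeal S := by
    ext s
    rw [Ideal.mem_comap, RingHom.mem_ker, ← hker s]
    have := RingHom.congr_fun g.2 s
    simp only [RingHom.comp_apply] at this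
    rw [this]
  rw [this]
  exact maximalIdeal.isMaximal S

end CoreB

section CoreC

attribute [local instance] Algebra.TensorProduct.rightAlgebra

variable (D : Type u) [CommRing D] [IsDomain D] [IsLocalRing D]
  (S : Type u) [CommRing S] [HenselianLocalRing S] [Algebra D S] [Module.FaithfullyFlat D S]
  [IsLocalHom (algebraMap D S)]
  (ι : S →+* AlgebraicClosure (ResidueField D))

theorem exists_resAlg (N : Ideal (integralClosure D (FractionRing D) ⊗[D] S)) [N.IsMaximal] :
    ∃ φF : ResidueField S →+* (integralClosure D (FractionRing D) ⊗[D] S) ⧸ N,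
      ∀ s, φF (residue S s) = Ideal.Quotient.mk N
        (algebraMap S (integralClosure D (FractionRing D) ⊗[D] S) s) := by
  refine ⟨Ideal.Quotient.lift (maximalIdeal S) ((Ideal.Quotient.mk N).comp
    (algebraMap S (integralClosure D (FractionRing D) ⊗[D] S))) ?_, fun s => ?_⟩
  · intro s hs
    rw [RingHom.comp_apply, Ideal.Quotient.eq_zero_iff_mem]
    rw [← comap_beta_eq_maximalIdeal D S N] at hs
    exact hs
  · exact Ideal.Quotient.lift_mk _ _ _

theorem isAlgebraic_resAlg (N : Ideal (integralClosure D (FractionRing D) ⊗[D] S)) [N.IsMaximal]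
    (φF : ResidueField S →+* (integralClosure D (FractionRing D) ⊗[D] S) ⧸ N)
    (hφF : ∀ s, φF (residue S s) = Ideal.Quotient.mk N
        (algebraMap S (integralClosure D (FractionRing D) ⊗[D] S) s))
    (x : (integralClosure D (FractionRing D) ⊗[D] S) ⧸ N) : φF.IsIntegralElem x := by
  obtain ⟨t, rfl⟩ := Ideal.Quotient.mk_surjective x
  haveI := isIntegral_T D S
  obtain ⟨p, hp, hpt⟩ := Algebra.IsIntegral.isIntegral (R := S) t
  refine ⟨p.map (residue S), hp.map _, ?_⟩
  rw [Polynomial.eval₂_map]
  have h1 : φF.comp (residue S) = (Ideal.Quotient.mk N).comp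
      (algebraMap S (integralClosure D (FractionRing D) ⊗[D] S)) := by
    ext s
    exact hφF s
  rw [h1, ← Polynomial.hom_eval₂, hpt, map_zero]

theorem ringHom_ext_of_maximal [IsSepClosed (ResidueField S)]
    (N : Ideal (integralClosure D (FractionRing D) ⊗[D] S)) [N.IsMaximal]
    (g₁ g₂ : (integralClosure D (FractionRing D) ⊗[D] S) ⧸ N →+*
      AlgebraicClosure (ResidueField D))
    (h : ∀ s : S, g₁ (Ideal.Quotient.mk N
        (algebraMap S (integralClosure D (FractionRing D) ⊗[D] S) s)) =
      g₂ (Ideal.Quotient.mk N (algebraMap S (integralClosure D (FractionRing D) ⊗[D] S) s))) :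
    g₁ = g₂ := by
  obtain ⟨φF, hφF⟩ := exists_resAlg D S N
  letI : Field ((integralClosure D (FractionRing D) ⊗[D] S) ⧸ N) := Ideal.Quotient.field N
  letI : Algebra (ResidueField S) ((integralClosure D (FractionRing D) ⊗[D] S) ⧸ N) :=
    φF.toAlgebra
  haveI : Algebra.IsAlgebraic (ResidueField S)
      ((integralClosure D (FractionRing D) ⊗[D] S) ⧸ N) :=
    ⟨fun x => IsIntegral.isAlgebraic (isAlgebraic_resAlg D S N φF hφF x)⟩
  haveI : IsPurelyInseparable (ResidueField S)
      ((integralClosure D (FractionRing D) ⊗[D] S) ⧸ N) := inferInstance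
  apply IsPurelyInseparable.injective_comp_algebraMap (ResidueField S)
    ((integralClosure D (FractionRing D) ⊗[D] S) ⧸ N) (AlgebraicClosure (ResidueField D))
  ext x
  obtain ⟨s, rfl⟩ := residue_surjective x
  show g₁ (φF (residue S s)) = g₂ (φF (residue S s))
  rw [hφF]
  exact h s

theorem exists_gPt_of_maximal (hker : ∀ s, ι s = 0 ↔ s ∈ maximalIdeal S)
    (N : Ideal (integralClosure D (FractionRing D) ⊗[D] S)) [N.IsMaximal] :
    ∃ g : GPts D S ι, RingHom.ker g.1 = N := by
  obtain ⟨φF, hφF⟩ := exists_resAlg D S N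
  let ιF : ResidueField S →+* AlgebraicClosure (ResidueField D) :=
    Ideal.Quotient.lift (maximalIdeal S) ι (fun s hs => (hker s).mpr hs)
  have hιF : ∀ s, ιF (residue S s) = ι s := fun s => Ideal.Quotient.lift_mk _ _ _
  letI : Field ((integralClosure D (FractionRing D) ⊗[D] S) ⧸ N) := Ideal.Quotient.field N
  letI : Algebra (ResidueField S) ((integralClosure D (FractionRing D) ⊗[D] S) ⧸ N) :=
    φF.toAlgebra
  letI : Algebra (ResidueField S) (AlgebraicClosure (ResidueField D)) := ιF.toAlgebra
  haveI : Algebra.IsAlgebraic (ResidueField S)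
      ((integralClosure D (FractionRing D) ⊗[D] S) ⧸ N) :=
    ⟨fun x => IsIntegral.isAlgebraic (isAlgebraic_resAlg D S N φF hφF x)⟩
  let lam : (integralClosure D (FractionRing D) ⊗[D] S) ⧸ N →ₐ[ResidueField S]
      AlgebraicClosure (ResidueField D) := IsAlgClosed.lift
  refine ⟨⟨lam.toRingHom.comp (Ideal.Quotient.mk N), ?_⟩, ?_⟩
  · ext s
    show lam (Ideal.Quotient.mk N (algebraMap S _ s)) = ι s
    rw [← hφF, ← hιF]
    exact lam.commutes (residue S s)
  · ext x
    rw [RingHom.mem_ker]
    show lam (Ideal.Quotient.mk N x) = 0 ↔ x ∈ N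
    rw [map_eq_zero_iff lam (RingHom.injective _), Ideal.Quotient.eq_zero_iff_mem]

theorem kerMap_bijective [IsSepClosed (ResidueField S)]
    (hker : ∀ s, ι s = 0 ↔ s ∈ maximalIdeal S) :
    Function.Bijective (fun g : GPts D S ι =>
      (⟨RingHom.ker g.1, ker_isMaximal D S ι hker g⟩ :
        MaximalSpectrum (integralClosure D (FractionRing D) ⊗[D] S))) := by
  constructor
  · intro g₁ g₂ h
    have hk : RingHom.ker g₁.1 = RingHom.ker g₂.1 := congrArg MaximalSpectrum.asIdeal h
    haveI := ker_isMaximal D S ι hker g₁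
    let h₁ := Ideal.Quotient.lift (RingHom.ker g₁.1) g₁.1 (fun a ha => ha)
    let h₂ := Ideal.Quotient.lift (RingHom.ker g₁.1) g₂.1 (fun a ha => by
      rw [hk] at ha; exact ha)
    have h12 : h₁ = h₂ := by
      apply ringHom_ext_of_maximal D S (RingHom.ker g₁.1)
      intro s
      show h₁ (Ideal.Quotient.mk _ _) = h₂ (Ideal.Quotient.mk _ _)
      rw [Ideal.Quotient.lift_mk, Ideal.Quotient.lift_mk]
      have e1 := RingHom.congr_fun g₁.2 s
      have e2 := RingHom.congr_fun g₂.2 s
      simp only [RingHom.comp_apply] at e1 e2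
      rw [e1, e2]
    apply Subtype.ext
    refine RingHom.ext fun x => ?_
    have := RingHom.congr_fun h12 (Ideal.Quotient.mk _ x)
    rwa [Ideal.Quotient.lift_mk, Ideal.Quotient.lift_mk] at this
  · intro N
    haveI := N.isMaximal
    obtain ⟨g, hg⟩ := exists_gPt_of_maximal D S ι hker N.asIdeal
    exact ⟨g, MaximalSpectrum.ext hg⟩

theorem exists_iota (halg : ∀ s : S, ∃ p : D[X], p.Monic ∧
      Polynomial.eval₂ (algebraMap D S) s p ∈ maximalIdeal S) :
    ∃ ι : S →+* AlgebraicClosure (ResidueField D),
      ι.comp (algebraMap D S) = Brnch.toClosure D ∧ ∀ s, ι s = 0 ↔ s ∈ maximalIdeal S := by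
  haveI : Algebra.IsAlgebraic (ResidueField D) (ResidueField S) := by
    refine ⟨fun x => IsIntegral.isAlgebraic ?_⟩
    obtain ⟨s, rfl⟩ := residue_surjective x
    obtain ⟨p, hp, hps⟩ := halg s
    refine ⟨p.map (residue D), hp.map _, ?_⟩
    rw [Polynomial.eval₂_map]
    have h1 : (algebraMap (ResidueField D) (ResidueField S)).comp (residue D) =
        (residue S).comp (algebraMap D S) := by
      ext d
      rfl
    rw [h1, ← Polynomial.hom_eval₂, residue_eq_zero_iff]
    exact hps
  let ι₀ : ResidueField S →ₐ[ResidueField D] AlgebraicClosure (ResidueField D) :=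
    IsAlgClosed.lift
  refine ⟨ι₀.toRingHom.comp (residue S), ?_, fun s => ?_⟩
  · ext d
    show ι₀ (residue S (algebraMap D S d)) = _
    have : residue S (algebraMap D S d) =
        algebraMap (ResidueField D) (ResidueField S) (residue D d) := rfl
    rw [this, ι₀.commutes]
    rfl
  · show ι₀ (residue S s) = 0 ↔ _
    rw [map_eq_zero_iff ι₀ (RingHom.injective _), residue_eq_zero_iff]

/-- **Main count, strict domain case.** -/
theorem card_minimalPrimes_eq_numGeomBranches_domain (hie : EtPBC.IsIndEtale D S)
    [IsSepClosed (ResidueField S)]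
    (halg : ∀ s : S, ∃ p : D[X], p.Monic ∧
      Polynomial.eval₂ (algebraMap D S) s p ∈ maximalIdeal S) :
    ENat.card (minimalPrimes S) = Brnch.numGeomBranches D := by
  obtain ⟨ι, hι, hker⟩ := exists_iota D S halg
  rw [card_minimalPrimes_eq_card_maximalSpectrum D S hie, numGeomBranches_eq_card_HPts D,
    ← ENat.card_congr (Equiv.ofBijective _ (kerMap_bijective D S ι hker)),
    ENat.card_congr (Equiv.ofBijective _ (gToH_bijective hι))]

end CoreC

end Groth.Agent.Lib.HensBranchesH3
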