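import Mathlib
import Groth.Prelude.Def_Hensel
import Groth.Prelude.Def_PBC
import Groth.Agent.Lib.StrictHens7_helper3

/-!
# Strict henselization: Noetherianity and ind-étaleness (helper3)
-/

set_option autoImplicit false
set_option maxSynthPendingDepth 3
universe u

namespace Groth.Agent.Lib.StrictHens

open IsLocalRing EGA4loc TensorProduct Polynomial

variable {R : Type u} [CommRing R] [IsLocalRing R]
variable {K : Type u} [Field K] [Algebra R K] [Algebra (ResidueField R) K]
  [IsScalarTower R (ResidueField R) K]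

instance isNoetherianRing_idxC [IsNoetherianRing R] (i : Idx R K) : IsNoetherianRing i.C :=
  Algebra.FiniteType.isNoetherianRing R i.C

instance isNoetherianRing_idxA [IsNoetherianRing R] (i : Idx R K) : IsNoetherianRing i.A :=
  IsLocalization.isNoetherianRing (RingHom.ker i.pt).primeCompl i.A inferInstance

theorem map_maximalIdeal_ofH (i : Idx R K) :
    (maximalIdeal i.A).map (ofH i) = maximalIdeal (SH R K) := by
  rw [← map_maximalIdeal_idx, Ideal.map_map, ← map_maximalIdeal_sh]
  congr 1
  ext r
  exact ofH_algebraMap i r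

theorem isNoetherianRing_sh [IsSepClosure (ResidueField R) K] [IsNoetherianRing R] :
    IsNoetherianRing (SH R K) := by
  apply Groth.Agent.Lib.NoethApproxH3.isNoetherianRing_of_closed
  · rw [← map_maximalIdeal_sh]
    exact Ideal.FG.map (IsNoetherian.noetherian _) _
  · intro 𝔞 h𝔞 x hx
    obtain ⟨l, g, hg⟩ := Submodule.fg_iff_exists_fin_generating_family.mp h𝔞
    obtain ⟨i, a, ha⟩ := exists_ofH_fin (Fin.cons x g : Fin (l + 1) → SH R K)
    have ha0 : ofH i (a 0) = x := by rw [ha 0]; rfl
    have hak : ∀ k : Fin l, ofH i (a k.succ) = g k := fun k => by rw [ha k.succ]; rfl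
    let 𝔞i : Ideal i.A := Ideal.span (Set.range (fun k : Fin l => a k.succ))
    have hmap : 𝔞i.map (ofH i) = 𝔞 := by
      rw [Ideal.map_span, ← Set.range_comp, ← hg]
      congr 2
      ext k
      exact hak k
    letI := algIdx i
    haveI := faithfullyFlat_idx i
    have hcomap : ∀ I : Ideal i.A, (I.map (ofH i)).comap (ofH i) = I := fun I =>
      Ideal.comap_map_eq_self_of_faithfullyFlat (B := SH R K) I
    have hx' : ∀ n, a 0 ∈ 𝔞i ⊔ maximalIdeal i.A ^ n := by
      intro n
      rw [← hcomap (𝔞i ⊔ maximalIdeal i.A ^ n), Ideal.mem_comap, Ideal.map_sup, Ideal.map_pow,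
        hmap, map_maximalIdeal_ofH, ha0]
      exact hx n
    have h1 := Groth.Agent.Lib.NoethApproxH3.mem_of_forall_mem_sup_pow 𝔞i (a 0) hx'
    rw [← ha0, ← hmap]
    exact Ideal.mem_map_of_mem _ h1

theorem isNoetherianRing_iff_of_isStrictHenselization (S : Type u) [CommRing S] [IsLocalRing S]
    [Algebra R S] [IsLocalHom (algebraMap R S)] [Hensel.IsStrictHenselization R S] :
    IsNoetherianRing R ↔ IsNoetherianRing S := by
  constructor
  · intro h
    obtain ⟨e, -⟩ := exists_ringEquiv_shens (R := R) S
    haveI : IsNoetherianRing (SHens R) := isNoetherianRing_sh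
    exact isNoetherianRing_of_ringEquiv _ e.symm
  · intro h
    haveI := faithfullyFlat_of_isStrictHenselization (R := R) S
    have h1 : IsNoetherian S (S ⊗[R] R) :=
      isNoetherian_of_linearEquiv (TensorProduct.AlgebraTensorModule.rid R S S).symm
    exact Submodule.IsNoetherian.of_isNoetherian_tensorProduct_of_faithfullyFlat h1

theorem ofC_eq_zero [IsSepClosure (ResidueField R) K] {k : Idx R K} {c : k.C}
    (h : ofC k c = 0) : ∃ s : k.C, k.pt s ≠ 0 ∧ s * c = 0 := by
  rw [ofC_apply] at h
  have h0 : algebraMap k.C k.A c = 0 := ofH_injective k (by rw [h, map_zero])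
  obtain ⟨s, hs⟩ := (IsLocalization.map_eq_zero_iff (RingHom.ker k.pt).primeCompl k.A c).mp h0
  exact ⟨s.1, fun h' => s.2 (RingHom.mem_ker.mpr h'), hs⟩

/-- The point as an algebra map. -/
noncomputable def ptHₐ : SH R K →ₐ[R] K := { ptH with commutes' := ptH_algebraMap }

/-- Every algebra map from an étale algebra to the colimit is one of the canonical ones. -/
theorem exists_idx_of_algHom (C : Type u) [CommRing C] [Algebra R C] [Algebra.Etale R C]
    (f : C →ₐ[R] SH R K) : ∃ (k : Idx R K) (e : C ≃ₐ[R] k.C), (ofC k).comp e.toAlgHom = f := by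
  obtain ⟨k, e, he⟩ := exists_idx_equiv C (ptHₐ.comp f)
  refine ⟨k, e, ?_⟩
  apply Groth.Agent.Lib.EssEt.algHom_eq_of_residue_eq
  intro c
  rw [← ptH_eq_zero_iff, map_sub, sub_eq_zero]
  show ptH (ofC k (e c)) = ptH (f c)
  rw [ptH_ofC]
  exact congr($he c)

theorem isIndEtale_sh [IsSepClosure (ResidueField R) K] : EtPBC.IsIndEtale R (SH R K) := by
  apply Groth.Agent.Lib.IndEtaleH3.isIndEtale_of_exists
  · intro b
    obtain ⟨j, c, hc⟩ := exists_ofC b
    exact ⟨j.C, inferInstance, inferInstance, inferInstance, ofC j, c, hc⟩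
  · intro C _ _ _ f c hc
    obtain ⟨k, e, rfl⟩ := exists_idx_of_algHom C f
    have hc' : ofC k (e c) = 0 := hc
    obtain ⟨s, hs, hsc⟩ := ofC_eq_zero hc'
    have hu : IsUnit (ofC k s) := by
      by_contra hn
      exact hs ((ofC_mem_maximalIdeal_iff k s).mp hn)
    have : Algebra.Etale k.C (Localization.Away s) := Algebra.Etale.of_isLocalizationAway s
    have : Algebra.Etale R (Localization.Away s) := Algebra.Etale.comp R k.C _
    refine ⟨Localization.Away s, inferInstance, inferInstance, inferInstance,
      (IsScalarTower.toAlgHom R k.C (Localization.Away s)).comp e.toAlgHom,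
      IsLocalization.liftAlgHom (M := Submonoid.powers s) (f := ofC k) (by
        rintro ⟨_, n, rfl⟩
        rw [map_pow]
        exact hu.pow n), ?_, ?_⟩
    · ext x
      simp only [AlgHom.coe_comp, Function.comp_apply, IsScalarTower.coe_toAlgHom']
      erw [IsLocalization.coe_liftAlgHom, IsLocalization.lift_eq]
      rfl
    · show algebraMap k.C (Localization.Away s) (e c) = 0
      rw [IsLocalization.map_eq_zero_iff (Submonoid.powers s)]
      exact ⟨⟨s, Submonoid.mem_powers s⟩, hsc⟩

theorem isIndEtale_of_isStrictHenselization (S : Type u) [CommRing S] [IsLocalRing S]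
    [Algebra R S] [IsLocalHom (algebraMap R S)] [Hensel.IsStrictHenselization R S] :
    EtPBC.IsIndEtale R S := by
  obtain ⟨e, he⟩ := exists_ringEquiv_shens (R := R) S
  exact Groth.Agent.Lib.IndEtaleH3.isIndEtale_of_ringEquiv e.symm (fun r => by
    rw [← he r, RingEquiv.symm_apply_apply]) isIndEtale_sh

end Groth.Agent.Lib.StrictHens
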