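import Mathlib
import Groth.Prelude.Def_Hensel
import Groth.Agent.Lib.IndEtaleNormal2_helper3

/-!
# Geometrically unibranch local domains, part 1 (helper3)

If the normalization `D'` of a domain `D` is local with residue field purely inseparable over
that of `D` (in the `p`-power form), then every local, faithfully flat, ind-étale `D`-algebra `S`
is a domain.
-/

set_option autoImplicit false
set_option maxSynthPendingDepth 3
universe u

namespace Groth.Agent.Lib.UnibranchH3

open Polynomial TensorProduct IsLocalRing Groth.Agent.Lib.IndEtaleH3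

/-- For a faithfully flat algebra `D → S` with `S` local, the contraction of the maximal ideal of
`S` is a maximal ideal of `D`. -/
theorem isMaximal_comap_maximalIdeal_of_faithfullyFlat (D : Type*) [CommRing D]
    (S : Type*) [CommRing S] [IsLocalRing S] [Algebra D S] [Module.FaithfullyFlat D S] :
    ((maximalIdeal S).comap (algebraMap D S)).IsMaximal := by
  haveI : Nontrivial D := (algebraMap D S).domain_nontrivial
  obtain ⟨m, hm⟩ := Ideal.exists_maximal D
  have h1 : (m.map (algebraMap D S)).comap (algebraMap D S) = m :=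
    Ideal.comap_map_eq_self_of_faithfullyFlat (B := S) m
  have h2 : m.map (algebraMap D S) ≠ ⊤ := by
    intro h
    rw [h, Ideal.comap_top] at h1
    exact hm.ne_top h1.symm
  have h3 : m.map (algebraMap D S) ≤ maximalIdeal S := le_maximalIdeal h2
  have h4 : m ≤ (maximalIdeal S).comap (algebraMap D S) := by
    rw [← h1]
    exact Ideal.comap_mono h3
  have h5 : (maximalIdeal S).comap (algebraMap D S) ≠ ⊤ :=
    (Ideal.comap_ne_top _ (maximalIdeal.isMaximal S).ne_top)
  rw [← hm.eq_of_le h5 h4]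
  exact hm

theorem isDomain_of_isLocalRing_integralClosure_of_pow_mem (D : Type u) [CommRing D] [IsDomain D]
    [hloc : IsLocalRing (integralClosure D (FractionRing D))]
    (S : Type u) [CommRing S] [IsLocalRing S] [Algebra D S] [Module.FaithfullyFlat D S]
    (hie : EtPBC.IsIndEtale D S) (p : ℕ)
    (hp : p = 1 ∨ (p.Prime ∧
      (p : integralClosure D (FractionRing D)) ∈ maximalIdeal (integralClosure D (FractionRing D))))
    (hpow : ∀ x : integralClosure D (FractionRing D), ∃ (n : ℕ) (d : D),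
      x ^ p ^ n - algebraMap D (integralClosure D (FractionRing D)) d ∈
        maximalIdeal (integralClosure D (FractionRing D))) : IsDomain S := by
  let K := FractionRing D
  let D' := integralClosure D K
  haveI : IsIntegrallyClosed D' :=
    integralClosure.isIntegrallyClosedOfFiniteExtension (R := D) K (L := K)
  let T := D' ⊗[D] S
  have hT : EtPBC.IsIndEtale D' T := isIndEtale_baseChange D S D' hie
  let α : D' →+* T := algebraMap D' T
  let β : S →ₐ[D] T := Algebra.TensorProduct.includeRight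
  have hinjDD' : Function.Injective (algebraMap D D') := by
    intro a b hab
    apply IsFractionRing.injective D K
    exact congrArg (Subtype.val) hab
  have hβ : Function.Injective β :=
    Algebra.TensorProduct.includeRight_injective (A := D') (B := S) (R := D) hinjDD'
  letI : Algebra S T := β.toRingHom.toAlgebra
  have hαβ : ∀ d : D, α (algebraMap D D' d) = algebraMap S T (algebraMap D S d) := by
    intro d
    show algebraMap D' T (algebraMap D D' d) = β (algebraMap D S d)
    rw [β.commutes, ← IsScalarTower.algebraMap_apply]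
  haveI : Algebra.IsIntegral S T := ⟨fun z => by
    induction z using TensorProduct.induction_on with
    | zero => exact isIntegral_zero
    | tmul a s =>
      have h1 : IsIntegral S (α a) := by
        have ha : IsIntegral D a := Algebra.IsIntegral.isIntegral (R := D) a
        exact ha.map_of_comp_eq (algebraMap D S) α (by
          ext d
          exact (hαβ d).symm)
      have h2 : IsIntegral S (algebraMap S T s) := isIntegral_algebraMap
      have h3 : a ⊗ₜ[D] s = α a * algebraMap S T s := by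
        show a ⊗ₜ[D] s = (a ⊗ₜ[D] (1 : S)) * ((1 : D') ⊗ₜ[D] s)
        rw [Algebra.TensorProduct.tmul_mul_tmul, mul_one, one_mul]
      rw [h3]
      exact h1.mul h2
    | add a b ha hb => exact ha.add hb⟩
  have hNS : ∀ N : Ideal T, N.IsMaximal → N.comap (algebraMap S T) = maximalIdeal S := by
    intro N hN
    haveI := hN
    have hmax : (N.comap (algebraMap S T)).IsMaximal :=
      Ideal.isMaximal_comap_of_isIntegral_of_isMaximal N
    exact IsLocalRing.eq_maximalIdeal hmax
  have hmD := isMaximal_comap_maximalIdeal_of_faithfullyFlat D S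
  have hND' : ∀ N : Ideal T, N.IsMaximal → N.comap α = maximalIdeal D' := by
    intro N hN
    haveI := hN
    haveI : (N.comap α).IsPrime := Ideal.comap_isPrime α N
    have h1 : (N.comap α).comap (algebraMap D D') = (maximalIdeal S).comap (algebraMap D S) := by
      rw [← hNS N hN]
      ext d
      simp only [Ideal.mem_comap]
      rw [hαβ d]
    have h2 : (N.comap α).IsMaximal :=
      Ideal.isMaximal_of_isIntegral_of_isMaximal_comap (R := D) (N.comap α) (by
        rw [h1]
        exact hmD)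
    exact IsLocalRing.eq_maximalIdeal h2
  let 𝔞 : Ideal T := (maximalIdeal D').map α
  have h𝔞 : ∀ N : Ideal T, N.IsMaximal → 𝔞 ≤ N := by
    intro N hN
    rw [Ideal.map_le_iff_le_comap, hND' N hN]
  have hadd : ∀ (x y : T) (n : ℕ), (x + y) ^ p ^ n - (x ^ p ^ n + y ^ p ^ n) ∈ 𝔞 := by
    intro x y n
    rcases hp with h1 | ⟨hpr, hmem⟩
    · rw [h1, one_pow, pow_one, pow_one, pow_one, sub_self]
      exact 𝔞.zero_mem
    · obtain ⟨r, hr⟩ := exists_add_pow_prime_pow_eq hpr x y n
      rw [hr]
      have h2 : x ^ p ^ n + y ^ p ^ n + (p : T) * x * y * r - (x ^ p ^ n + y ^ p ^ n) =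
          (x * y * r) * α (p : D') := by
        rw [map_natCast]
        ring
      rw [h2]
      exact 𝔞.mul_mem_left _ (Ideal.mem_map_of_mem _ hmem)
  have hcong : ∀ (a b : T) (m : ℕ), a - b ∈ 𝔞 → a ^ m - b ^ m ∈ 𝔞 := by
    intro a b m hab
    obtain ⟨c, hc⟩ := sub_dvd_pow_sub_pow a b m
    rw [hc]
    exact 𝔞.mul_mem_right _ hab
  have hmain : ∀ x : T, ∃ (n : ℕ) (s : S), x ^ p ^ n - β s ∈ 𝔞 := by
    intro x
    induction x using TensorProduct.induction_on with
    | zero => exact ⟨0, 0, by simp⟩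
    | tmul a s =>
      obtain ⟨n, d, hd⟩ := hpow a
      refine ⟨n, d • s ^ p ^ n, ?_⟩
      have h1 : (a ⊗ₜ[D] s) ^ p ^ n - β (d • s ^ p ^ n) =
          (β (s ^ p ^ n)) * α (a ^ p ^ n - algebraMap D D' d) := by
        show (a ⊗ₜ[D] s) ^ p ^ n - (1 : D') ⊗ₜ[D] (d • s ^ p ^ n) =
          ((1 : D') ⊗ₜ[D] (s ^ p ^ n)) * ((a ^ p ^ n - algebraMap D D' d) ⊗ₜ[D] (1 : S))
        rw [Algebra.TensorProduct.tmul_pow, Algebra.TensorProduct.tmul_mul_tmul, mul_one, one_mul,
          TensorProduct.sub_tmul, TensorProduct.tmul_smul, TensorProduct.smul_tmul',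
          Algebra.smul_def, mul_one]
      rw [h1]
      exact 𝔞.mul_mem_left _ (Ideal.mem_map_of_mem _ hd)
    | add x y hx hy =>
      obtain ⟨n₁, s₁, h₁⟩ := hx
      obtain ⟨n₂, s₂, h₂⟩ := hy
      refine ⟨n₁ + n₂, s₁ ^ p ^ n₂ + s₂ ^ p ^ n₁, ?_⟩
      have e1 : x ^ p ^ (n₁ + n₂) - β (s₁ ^ p ^ n₂) ∈ 𝔞 := by
        rw [pow_add, pow_mul, map_pow]
        exact hcong _ _ _ h₁
      have e2 : y ^ p ^ (n₁ + n₂) - β (s₂ ^ p ^ n₁) ∈ 𝔞 := by
        rw [add_comm n₁ n₂, pow_add, pow_mul, map_pow]
        exact hcong _ _ _ h₂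
      have e3 := hadd x y (n₁ + n₂)
      have e4 : (x + y) ^ p ^ (n₁ + n₂) - β (s₁ ^ p ^ n₂ + s₂ ^ p ^ n₁) =
          ((x + y) ^ p ^ (n₁ + n₂) - (x ^ p ^ (n₁ + n₂) + y ^ p ^ (n₁ + n₂))) +
          ((x ^ p ^ (n₁ + n₂) - β (s₁ ^ p ^ n₂)) + (y ^ p ^ (n₁ + n₂) - β (s₂ ^ p ^ n₁))) := by
        rw [map_add]
        ring
      rw [e4]
      exact 𝔞.add_mem e3 (𝔞.add_mem e1 e2)
  haveI : Nontrivial T := hβ.nontrivial
  have hle : ∀ N₁ N₂ : Ideal T, N₁.IsMaximal → N₂.IsMaximal → N₁ ≤ N₂ := by
    intro N₁ N₂ hN₁ hN₂ x hx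
    obtain ⟨n, s, hs⟩ := hmain x
    have h1 : β s ∈ N₁ := by
      have := N₁.sub_mem (N₁.pow_mem_of_mem hx (p ^ n) (Nat.pos_of_ne_zero (by
        rcases hp with h1 | ⟨hpr, -⟩
        · rw [h1, one_pow]
          exact one_ne_zero
        · exact pow_ne_zero _ hpr.ne_zero))) (h𝔞 N₁ hN₁ hs)
      rwa [sub_sub_cancel] at this
    have h2 : s ∈ N₁.comap (algebraMap S T) := h1
    rw [hNS N₁ hN₁, ← hNS N₂ hN₂] at h2
    have h3 : β s ∈ N₂ := h2
    have h4 : x ^ p ^ n ∈ N₂ := by
      have := N₂.add_mem (h𝔞 N₂ hN₂ hs) h3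
      rwa [sub_add_cancel] at this
    exact hN₂.isPrime.mem_of_pow_mem _ h4
  haveI : IsLocalRing T := by
    obtain ⟨N₀, hN₀⟩ := Ideal.exists_maximal T
    refine IsLocalRing.of_unique_max_ideal ⟨N₀, hN₀, fun N hN => ?_⟩
    exact le_antisymm (hle N N₀ hN hN₀) (hle N₀ N hN₀ hN)
  obtain ⟨hdom, -⟩ := isDomain_and_isIntegrallyClosed_of_isIndEtale hT
  exact hβ.isDomain β.toRingHom

end Groth.Agent.Lib.UnibranchH3
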