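import Mathlib

/-!
# Geometrically unibranch: field-theoretic input (helper3)

If `k` is a field, `Ω/k` a separably closed extension and `E` a `k`-algebra such that
`E ⊗[k] Ω` is a local ring, then every element of `E` that is separable over `k` lies in `k`.
-/

set_option autoImplicit false
universe u

namespace Groth.Agent.Lib.UnibranchH3

open Polynomial TensorProduct

section field

variable {k Ω E : Type*} [Field k] [Field Ω] [CommRing E] [Algebra k Ω] [Algebra k E]

/-- In a local ring, if a product `∏ (x - i a)` over a multiset of elements with pairwise unit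
differences vanishes then `x = i a` for some `a`. -/
theorem exists_eq_of_prod_sub_eq_zero {L : Type*} [CommRing L] [IsLocalRing L] (i : Ω →+* L)
    (x : L) (s : Multiset Ω) (hs : s.Nodup) (h : (s.map (fun a => x - i a)).prod = 0) :
    ∃ a ∈ s, x = i a := by
  induction s using Multiset.induction_on with
  | empty =>
    simp only [Multiset.map_zero, Multiset.prod_zero] at h
    exact absurd h one_ne_zero
  | cons a t ih =>
    rw [Multiset.nodup_cons] at hs
    rw [Multiset.map_cons, Multiset.prod_cons] at h
    by_cases hu : IsUnit (x - i a)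
    · have h0 : (t.map (fun a => x - i a)).prod = 0 := hu.mul_right_eq_zero.mp h
      obtain ⟨b, hb, hxb⟩ := ih hs.2 h0
      exact ⟨b, Multiset.mem_cons_of_mem hb, hxb⟩
    · have hunits : IsUnit (t.map (fun a => x - i a)).prod := by
        by_contra hcon
        have hmem : (t.map (fun a => x - i a)).prod ∈ IsLocalRing.maximalIdeal L := hcon
        rw [(IsLocalRing.maximalIdeal.isMaximal L).isPrime.multiset_prod_mem_iff_exists_mem]
          at hmem
        obtain ⟨p, hp, hpm⟩ := hmem
        rw [Multiset.mem_map] at hp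
        obtain ⟨b, hb, rfl⟩ := hp
        have hab : a ≠ b := fun hab => hs.1 (hab ▸ hb)
        have h1 : x - i a ∈ IsLocalRing.maximalIdeal L := hu
        have h2 : i (b - a) ∈ IsLocalRing.maximalIdeal L := by
          have := Ideal.sub_mem _ h1 hpm
          rw [map_sub]
          convert this using 1
          ring
        have h3 : IsUnit (i (b - a)) := (IsUnit.mk0 _ (sub_ne_zero.mpr (Ne.symm hab))).map i
        exact h2 h3
      refine ⟨a, Multiset.mem_cons_self a t, ?_⟩
      have h0 : x - i a = 0 := hunits.mul_left_eq_zero.mp h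
      exact sub_eq_zero.mp h0

/-- If `E ⊗[k] Ω` is local with `Ω` separably closed, every separable element of `E` is in `k`. -/
theorem mem_range_of_isSeparable_of_isLocalRing_tensor [IsSepClosed Ω]
    [IsLocalRing (E ⊗[k] Ω)] (y : E) (hy : IsSeparable k y) :
    y ∈ (algebraMap k E).range := by
  let L := E ⊗[k] Ω
  let i : Ω →ₐ[k] L := Algebra.TensorProduct.includeRight
  let j : E →ₐ[k] L := Algebra.TensorProduct.includeLeft
  let g := minpoly k y
  have hg : g.Separable := hy
  have hint : IsIntegral k y := hy.isIntegral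
  let gΩ := g.map (algebraMap k Ω)
  have hsplit : gΩ.Splits := IsSepClosed.splits_codomain g hg
  have hmonic : gΩ.Monic := (minpoly.monic hint).map _
  have hnodup : gΩ.roots.Nodup := nodup_roots hg.map
  have hprod : gΩ = (gΩ.roots.map (fun a => X - C a)).prod :=
    hsplit.eq_prod_roots_of_monic hmonic
  have heval : eval₂ (i : Ω →+* L) (j y) gΩ = 0 := by
    show eval₂ (i : Ω →+* L) (j y) (g.map (algebraMap k Ω)) = 0
    rw [eval₂_map]
    have h1 : (i : Ω →+* L).comp (algebraMap k Ω) = algebraMap k L := i.comp_algebraMap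
    rw [h1, ← aeval_def, aeval_algHom_apply, minpoly.aeval, map_zero]
  have heval2 : (gΩ.roots.map (fun a => j y - (i : Ω →+* L) a)).prod = 0 := by
    rw [hprod] at heval
    rw [← heval, eval₂_multiset_prod, Multiset.map_map]
    congr 1
    apply Multiset.map_congr rfl
    intro a _
    simp
  obtain ⟨a, -, ha⟩ := exists_eq_of_prod_sub_eq_zero (i : Ω →+* L) (j y) _ hnodup heval2
  -- descend
  by_contra hcon
  have hnot : y ∉ Submodule.span k {(1 : E)} := by
    intro hmem
    rw [Submodule.mem_span_singleton] at hmem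
    obtain ⟨c, hc⟩ := hmem
    apply hcon
    exact ⟨c, by rw [← hc, Algebra.smul_def, mul_one]⟩
  obtain ⟨φ, hφy, hφ⟩ := Submodule.exists_dual_map_eq_bot_of_notMem hnot inferInstance
  have hφ1 : φ 1 = 0 := by
    have : φ 1 ∈ (Submodule.span k {(1 : E)}).map φ :=
      Submodule.mem_map_of_mem (Submodule.mem_span_singleton_self _)
    rw [hφ] at this
    exact (Submodule.mem_bot k).mp this
  let Φ : E ⊗[k] Ω →ₗ[k] k ⊗[k] Ω := LinearMap.rTensor Ω φ
  have h1 : Φ (j y) = (φ y) ⊗ₜ[k] (1 : Ω) := by
    show Φ (y ⊗ₜ[k] (1 : Ω)) = _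
    rw [LinearMap.rTensor_tmul]
  have h2 : Φ ((i : Ω →+* L) a) = 0 := by
    show Φ ((1 : E) ⊗ₜ[k] a) = _
    rw [LinearMap.rTensor_tmul, hφ1, zero_tmul]
  rw [ha, h2] at h1
  have h3 := congrArg (TensorProduct.lid k Ω) h1
  rw [map_zero, TensorProduct.lid_tmul] at h3
  have h4 : (φ y) • (1 : Ω) ≠ 0 := by
    rw [Algebra.smul_def, mul_one]
    exact (map_ne_zero_iff _ (algebraMap k Ω).injective).mpr hφy
  exact h4 h3.symm

end field

end Groth.Agent.Lib.UnibranchH3
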