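import Mathlib
import Groth.Prelude.Def_Hensel
import Groth.Agent.Lib.Unibranch1_helper3
import Groth.Agent.Lib.Unibranch4_helper3

/-!
# Geometrically unibranch local domains, part 2 (helper3)

If `S` is a strictly henselian local domain, faithfully flat over the local domain `D`, then the
normalization `D'` of `D` is local and its residue field is purely inseparable over that of `D`.
-/

set_option autoImplicit false
set_option maxSynthPendingDepth 3
universe u

namespace Groth.Agent.Lib.UnibranchH3

open Polynomial TensorProduct IsLocalRing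

/-- A domain integral over a henselian local ring is local. -/
theorem isLocalRing_of_isDomain_of_isIntegral_henselian (S : Type u) [CommRing S]
    [HenselianLocalRing S] (T : Type u) [CommRing T] [IsDomain T] [Algebra S T]
    [Algebra.IsIntegral S T] : IsLocalRing T := by
  refine IsLocalRing.of_isUnit_or_isUnit_one_sub_self fun x => ?_
  let S₁ : Subalgebra S T := Algebra.adjoin S {x}
  haveI : Module.Finite S S₁ :=
    Module.Finite.iff_fg.mpr (IsIntegral.fg_adjoin_singleton (Algebra.IsIntegral.isIntegral x))
  let x₁ : S₁ := ⟨x, Algebra.subset_adjoin (Set.mem_singleton _)⟩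
  obtain ⟨ι, _, A, _, hA, ⟨e⟩⟩ := Groth.Agent.Lib.HenselFiniteH3.exists_pi_local S S₁
  haveI := hA
  haveI : IsLocalRing S₁ := isLocalRing_of_isDomain_of_ringEquiv_pi A e
  rcases IsLocalRing.isUnit_or_isUnit_one_sub_self x₁ with h | h
  · left
    exact h.map S₁.val
  · right
    exact h.map S₁.val

/-- If `S` is a strictly henselian local domain, faithfully flat over the local domain `D` whose
normalization `D'` is local, then every element of `D'` has a `q`-power in `D + 𝔪_{D'}`. -/
theorem exists_pow_sub_mem_of_isDomain_strictHenselian (D : Type u) [CommRing D] [IsDomain D]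
    [IsLocalRing D] (S : Type u) [CommRing S] [IsDomain S] [HenselianLocalRing S]
    [IsSepClosed (ResidueField S)] [Algebra D S] [Module.FaithfullyFlat D S]
    [IsLocalRing (integralClosure D (FractionRing D))] (q : ℕ)
    [ExpChar (ResidueField (integralClosure D (FractionRing D))) q]
    (x : integralClosure D (FractionRing D)) :
    ∃ (n : ℕ) (d : D), x ^ q ^ n - algebraMap D (integralClosure D (FractionRing D)) d ∈
      maximalIdeal (integralClosure D (FractionRing D)) := by
  let K := FractionRing D
  let D' := integralClosure D K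
  have hinjDS : Function.Injective (algebraMap D S) := FaithfulSMul.algebraMap_injective D S
  have hinjDD' : Function.Injective (algebraMap D D') := by
    intro a b hab
    apply IsFractionRing.injective D K
    exact congrArg (Subtype.val) hab
  haveI : FaithfulSMul D D' := (faithfulSMul_iff_algebraMap_injective D D').mpr hinjDD'
  haveI : IsLocalHom (algebraMap D S) :=
    ⟨fun a ha => isUnit_of_isUnit_algebraMap_of_faithfullyFlat ha⟩
  haveI : IsLocalHom (algebraMap D D') := inferInstance
  -- `S ⊗ K` is a domain
  haveI hdomSK : IsDomain (S ⊗[D] K) := by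
    haveI : IsLocalization (Algebra.algebraMapSubmonoid S (nonZeroDivisors D)) (S ⊗[D] K) :=
      inferInstance
    refine IsLocalization.isDomain_of_le_nonZeroDivisors (S ⊗[D] K)
      (M := Algebra.algebraMapSubmonoid S (nonZeroDivisors D)) ?_
    rintro _ ⟨d, hd, rfl⟩
    exact mem_nonZeroDivisors_of_ne_zero
      ((map_ne_zero_iff _ hinjDS).mpr (nonZeroDivisors.ne_zero hd))
  -- `S ⊗ D'` is a domain
  let f : S ⊗[D] D' →ₐ[S] S ⊗[D] K := Algebra.TensorProduct.map (AlgHom.id S S) D'.val
  have hf : Function.Injective f := by
    have : (f : S ⊗[D] D' → S ⊗[D] K) = LinearMap.lTensor S D'.val.toLinearMap := by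
      ext z
      induction z using TensorProduct.induction_on with
      | zero => simp
      | tmul a b => simp [f]
      | add a b ha hb => simp only [map_add, ha, hb]
    rw [this]
    exact Module.Flat.lTensor_preserves_injective_linearMap _ Subtype.val_injective
  haveI : IsDomain (S ⊗[D] D') := hf.isDomain f.toRingHom
  haveI : IsLocalRing (S ⊗[D] D') := isLocalRing_of_isDomain_of_isIntegral_henselian S _
  -- residue fields
  let k := ResidueField D
  let E := ResidueField D'
  let Ω := ResidueField S
  let ψ : S ⊗[D] D' →ₐ[D] Ω ⊗[k] E :=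
    (Algebra.TensorProduct.mapOfCompatibleSMul k D D Ω E).comp
      (Algebra.TensorProduct.map (IsScalarTower.toAlgHom D S Ω) (IsScalarTower.toAlgHom D D' E))
  have hψ : Function.Surjective ψ := by
    intro z
    induction z using TensorProduct.induction_on with
    | zero => exact ⟨0, map_zero _⟩
    | tmul ω e =>
      obtain ⟨s, rfl⟩ := residue_surjective ω
      obtain ⟨d', rfl⟩ := residue_surjective e
      exact ⟨s ⊗ₜ[D] d', rfl⟩
    | add a b ha hb =>
      obtain ⟨a', rfl⟩ := ha
      obtain ⟨b', rfl⟩ := hb
      exact ⟨a' + b', map_add _ _ _⟩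
  haveI : Nontrivial (Ω ⊗[k] E) :=
    (Algebra.TensorProduct.includeLeft_injective (S := k) (A := Ω) (B := E) (R := k)
      (algebraMap k E).injective).nontrivial
  haveI : IsLocalRing (Ω ⊗[k] E) := IsLocalRing.of_surjective' ψ.toRingHom hψ
  haveI : IsLocalRing (E ⊗[k] Ω) := (Algebra.TensorProduct.comm k Ω E).toRingEquiv.isLocalRing
  haveI : Algebra.IsIntegral k E := ⟨fun e => by
    obtain ⟨d', rfl⟩ := residue_surjective e
    have h1 : IsIntegral D d' := Algebra.IsIntegral.isIntegral (R := D) d'
    have h2 : IsIntegral D (residue D' d') := h1.map (IsScalarTower.toAlgHom D D' E)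
    exact h2.tower_top⟩
  haveI : IsPurelyInseparable k E := (isPurelyInseparable_iff).mpr (fun e =>
    ⟨Algebra.IsIntegral.isIntegral e,
      fun hsep => mem_range_of_isSeparable_of_isLocalRing_tensor (Ω := Ω) e hsep⟩)
  haveI : ExpChar k q := RingHom.expChar (algebraMap k E) (algebraMap k E).injective q
  obtain ⟨n, c, hc⟩ := (isPurelyInseparable_iff_pow_mem k q).mp inferInstance (residue D' x)
  obtain ⟨d, rfl⟩ := residue_surjective c
  refine ⟨n, d, ?_⟩
  rw [← residue_eq_zero_iff, map_sub, map_pow, ← hc]
  exact sub_self _

end Groth.Agent.Lib.UnibranchH3
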