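import Mathlib
import Groth.Prelude.Def_Hensel
import Groth.Prelude.Def_CAlg2
import Groth.Agent.Lib.Unibranch3_helper3
import Groth.Agent.Lib.Unibranch5_helper3
import Groth.Agent.Lib.Unibranch6_helper3
import Groth.Agent.Lib.StrictHens8_helper3

/-!
# Geometrically unibranch local rings and the strict henselization (helper3)
-/

set_option autoImplicit false
set_option maxSynthPendingDepth 3
universe u

namespace Groth.Agent.Lib.UnibranchH3

open Polynomial TensorProduct IsLocalRing Groth.Agent.Lib.IndEtaleH3

theorem isSepClosed_of_ringEquiv {k k' : Type*} [Field k] [Field k'] (e : k ≃+* k')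
    [IsSepClosed k] : IsSepClosed k' := by
  refine ⟨fun p hp => ?_⟩
  have h1 : (p.map (e.symm : k' →+* k)).Separable := hp.map
  have h2 : (p.map (e.symm : k' →+* k)).Splits := IsSepClosed.splits_of_separable _ h1
  have h3 := h2.map (e : k →+* k')
  rw [Polynomial.map_map] at h3
  have h4 : (e : k →+* k').comp (e.symm : k' →+* k) = RingHom.id k' := by
    ext x
    simp
  rwa [h4, Polynomial.map_id] at h3

theorem isSepClosed_residueField_quotient {B : Type u} [CommRing B] [IsLocalRing B]
    (J : Ideal B) (hJ : J ≤ maximalIdeal B) [IsSepClosed (ResidueField B)]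
    [IsLocalRing (B ⧸ J)] : IsSepClosed (ResidueField (B ⧸ J)) := by
  haveI : IsLocalHom (Ideal.Quotient.mk J) :=
    IsLocalHom.of_surjective _ Ideal.Quotient.mk_surjective
  let g : ResidueField B →+* ResidueField (B ⧸ J) := ResidueField.map (Ideal.Quotient.mk J)
  have hg : Function.Bijective g := by
    refine ⟨g.injective, fun y => ?_⟩
    obtain ⟨y, rfl⟩ := residue_surjective y
    obtain ⟨y, rfl⟩ := Ideal.Quotient.mk_surjective y
    exact ⟨residue B y, rfl⟩
  exact isSepClosed_of_ringEquiv (RingEquiv.ofBijective g hg)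

variable (A : Type u) [CommRing A] [IsLocalRing A] (Ash : Type u) [CommRing Ash] [IsLocalRing Ash]
  [Algebra A Ash] [IsLocalHom (algebraMap A Ash)] [Hensel.IsStrictHenselization A Ash]

/-- `A` is geometrically unibranch iff `A^sh / nil(A) A^sh` is a domain. -/
theorem isGeomUnibranch_iff_isDomain_quotient :
    CAlg2.IsGeomUnibranch A ↔ IsDomain (Ash ⧸ (nilradical A).map (algebraMap A Ash)) := by
  set J := (nilradical A).map (algebraMap A Ash) with hJdef
  have hJ : J ≤ maximalIdeal Ash := by
    rw [Ideal.map_le_iff_le_comap]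
    intro x hx
    have hx' : x ∈ maximalIdeal A := by
      have h1 : nilradical A ≤ maximalIdeal A := nilradical_le_prime _
      exact h1 hx
    rw [Ideal.mem_comap]
    have h2 : (maximalIdeal A).map (algebraMap A Ash) ≤ maximalIdeal Ash :=
      ((local_hom_TFAE (algebraMap A Ash)).out 0 2).mp
        (inferInstance : IsLocalHom (algebraMap A Ash))
    exact h2 (Ideal.mem_map_of_mem _ hx')
  haveI := isLocalRing_quotient J hJ
  haveI hfl := Groth.Agent.Lib.StrictHens.faithfullyFlat_of_isStrictHenselization (R := A) Ash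
  haveI : Module.FaithfullyFlat (A ⧸ nilradical A) (Ash ⧸ J) := faithfullyFlat_quotient _
  have hie : EtPBC.IsIndEtale (A ⧸ nilradical A) (Ash ⧸ J) :=
    isIndEtale_quotient
      (Groth.Agent.Lib.StrictHens.isIndEtale_of_isStrictHenselization (R := A) Ash) _
  constructor
  · rintro ⟨⟨hdom, hloc⟩, hpi⟩
    haveI : IsDomain (A ⧸ nilradical A) := hdom
    haveI : IsLocalRing (integralClosure (A ⧸ nilradical A) (FractionRing (A ⧸ nilradical A))) :=
      hloc
    let D' := integralClosure (A ⧸ nilradical A) (FractionRing (A ⧸ nilradical A))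
    haveI : IsDomain (D' ⧸ maximalIdeal D') := Ideal.Quotient.isDomain _
    refine isDomain_of_isLocalRing_integralClosure_of_pow_mem (A ⧸ nilradical A) (Ash ⧸ J) hie
      (ringExpChar (D' ⧸ maximalIdeal D')) ?_ ?_
    · have hE : ExpChar (D' ⧸ maximalIdeal D') (ringExpChar (D' ⧸ maximalIdeal D')) :=
        inferInstance
      generalize ringExpChar (D' ⧸ maximalIdeal D') = q at hE ⊢
      cases hE with
      | zero => left; rfl
      | prime hprime =>
        rename_i hchar
        right
        refine ⟨hprime, ?_⟩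
        rw [← Ideal.Quotient.eq_zero_iff_mem, map_natCast]
        exact CharP.cast_eq_zero _ _
    · intro x
      obtain ⟨n, a, ha⟩ := hpi (maximalIdeal D') (Ideal.Quotient.mk _ x)
      refine ⟨n, Ideal.Quotient.mk _ a, ?_⟩
      rw [← Ideal.Quotient.eq_zero_iff_mem, map_sub, map_pow, sub_eq_zero]
      exact ha.symm
  · intro hdom
    haveI := hdom
    haveI : HenselianLocalRing Ash := Hensel.IsStrictHenselization.henselian A
    haveI : HenselianLocalRing (Ash ⧸ J) := Groth.Agent.S0505.result Ash (Ash ⧸ J)
    haveI : IsSepClosed (ResidueField Ash) :=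
      (Hensel.IsStrictHenselization.isSepClosure (R := A) (S := Ash)).sep_closed
    haveI : IsSepClosed (ResidueField (Ash ⧸ J)) := isSepClosed_residueField_quotient J hJ
    have hinj : Function.Injective (algebraMap (A ⧸ nilradical A) (Ash ⧸ J)) :=
      FaithfulSMul.algebraMap_injective _ _
    haveI : IsDomain (A ⧸ nilradical A) := hinj.isDomain _
    haveI : IsLocalRing (A ⧸ nilradical A) :=
      isLocalRing_quotient _ (nilradical_le_prime (maximalIdeal A))
    have hloc : IsLocalRing
        (integralClosure (A ⧸ nilradical A) (FractionRing (A ⧸ nilradical A))) :=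
      isLocalRing_integralClosure_of_isDomain_henselian (A ⧸ nilradical A) (Ash ⧸ J)
    haveI := hloc
    refine ⟨⟨inferInstance, hloc⟩, ?_⟩
    intro m' hm'
    have hm'eq : m' = maximalIdeal _ := IsLocalRing.eq_maximalIdeal hm'
    subst hm'eq
    intro x
    obtain ⟨x, rfl⟩ := Ideal.Quotient.mk_surjective x
    let D' := integralClosure (A ⧸ nilradical A) (FractionRing (A ⧸ nilradical A))
    haveI : IsDomain (D' ⧸ maximalIdeal D') := Ideal.Quotient.isDomain _
    haveI : ExpChar (ResidueField D') (ringExpChar (D' ⧸ maximalIdeal D')) :=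
      ringExpChar.expChar (D' ⧸ maximalIdeal D')
    obtain ⟨n, d, hd⟩ := exists_pow_sub_mem_of_isDomain_strictHenselian (A ⧸ nilradical A)
      (Ash ⧸ J) (ringExpChar (D' ⧸ maximalIdeal D')) x
    obtain ⟨a, rfl⟩ := Ideal.Quotient.mk_surjective d
    refine ⟨n, a, ?_⟩
    rw [← Ideal.Quotient.eq_zero_iff_mem, map_sub, map_pow, sub_eq_zero] at hd
    exact hd.symm

end Groth.Agent.Lib.UnibranchH3
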