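import Mathlib
import Groth.Prelude.Def_Brnch
import Groth.Agent.Lib.HensBranches5_helper3
import Groth.Agent.Lib.Unibranch7_helper3
import Groth.Agent.S9811

/-!
# Minimal primes of the strict henselization and geometric branches (helper3)
-/

set_option autoImplicit false
set_option maxSynthPendingDepth 3
universe u

namespace Groth.Agent.Lib.HensBranchesH3

open Polynomial TensorProduct IsLocalRing Groth.Agent.Lib.IndEtaleH3

section GeneralStrict

variable (A : Type u) [CommRing A] [IsLocalRing A]
  (S : Type u) [CommRing S] [HenselianLocalRing S] [Algebra A S] [Module.FaithfullyFlat A S]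
  [IsLocalHom (algebraMap A S)]

/-- The geometric count for the quotient by a prime. -/
theorem card_minimalPrimes_quotient_strict (hie : EtPBC.IsIndEtale A S)
    [IsSepClosed (ResidueField S)]
    (halg : ∀ s : S, ∃ p : A[X], p.Monic ∧
      Polynomial.eval₂ (algebraMap A S) s p ∈ maximalIdeal S)
    (p : Ideal A) [p.IsPrime] :
    ENat.card (minimalPrimes (S ⧸ p.map (algebraMap A S))) = Brnch.numGeomBranches (A ⧸ p) := by
  have hJ := map_le_maximalIdeal A S p
  haveI := Groth.Agent.Lib.UnibranchH3.isLocalRing_quotient (p.map (algebraMap A S)) hJ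
  haveI : HenselianLocalRing (S ⧸ p.map (algebraMap A S)) := Groth.Agent.S0505.result S _
  haveI : Module.FaithfullyFlat (A ⧸ p) (S ⧸ p.map (algebraMap A S)) := faithfullyFlat_quotient p
  haveI : IsLocalHom (algebraMap (A ⧸ p) (S ⧸ p.map (algebraMap A S))) :=
    ⟨fun a h => Groth.Agent.Lib.UnibranchH3.isUnit_of_isUnit_algebraMap_of_faithfullyFlat h⟩
  have hie' : EtPBC.IsIndEtale (A ⧸ p) (S ⧸ p.map (algebraMap A S)) := isIndEtale_quotient hie p
  haveI : IsSepClosed (ResidueField (S ⧸ p.map (algebraMap A S))) :=
    Groth.Agent.Lib.UnibranchH3.isSepClosed_residueField_quotient _ hJ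
  have halg' : ∀ s : S ⧸ p.map (algebraMap A S), ∃ q : (A ⧸ p)[X], q.Monic ∧
      Polynomial.eval₂ (algebraMap (A ⧸ p) (S ⧸ p.map (algebraMap A S))) s q ∈
        maximalIdeal (S ⧸ p.map (algebraMap A S)) := by
    intro s
    obtain ⟨s, rfl⟩ := Ideal.Quotient.mk_surjective s
    obtain ⟨q, hq, hqs⟩ := halg s
    refine ⟨q.map (Ideal.Quotient.mk p), hq.map _, ?_⟩
    rw [Polynomial.eval₂_map]
    have h1 : (algebraMap (A ⧸ p) (S ⧸ p.map (algebraMap A S))).comp (Ideal.Quotient.mk p) =
        (Ideal.Quotient.mk (p.map (algebraMap A S))).comp (algebraMap A S) := by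
      ext a
      rfl
    rw [h1, ← Polynomial.hom_eval₂]
    exact Groth.Agent.Lib.UnibranchH3.mk_mem_maximalIdeal_quotient (p.map (algebraMap A S)) hJ _ hqs
  exact card_minimalPrimes_eq_numGeomBranches_domain (A ⧸ p) (S ⧸ p.map (algebraMap A S))
    hie' halg'

/-- **The number of minimal primes of a strictly henselian ind-étale cover with algebraic residue
extension is the number of geometric branches.** -/
theorem card_minimalPrimes_eq_numGeomBranches (hie : EtPBC.IsIndEtale A S)
    [IsSepClosed (ResidueField S)]
    (halg : ∀ s : S, ∃ p : A[X], p.Monic ∧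
      Polynomial.eval₂ (algebraMap A S) s p ∈ maximalIdeal S) :
    ENat.card (minimalPrimes S) = Brnch.numGeomBranches A := by
  by_cases hfin : (minimalPrimes A).Finite
  · haveI : Fintype (minimalPrimes A) := hfin.fintype
    rw [Groth.Agent.S9811.result A hfin, finsum_eq_sum_of_fintype,
      ← ENat.card_congr (Equiv.sigmaFiberEquiv (contr A S hie)),
      Groth.Agent.Lib.Branches.enat_card_sigma]
    refine Finset.sum_congr rfl fun p _ => ?_
    haveI : p.1.IsPrime := p.2.1.1
    rw [card_fibre A S hie p]
    exact card_minimalPrimes_quotient_strict A S hie halg p.1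
  · haveI : Infinite (minimalPrimes A) := Set.infinite_coe_iff.mpr hfin
    haveI : Infinite (minimalPrimes S) := Infinite.of_surjective _ (contr_surjective A S hie)
    unfold Brnch.numGeomBranches
    rw [if_neg hfin, ENat.card_eq_top_of_infinite]

end GeneralStrict

/-- in a strict henselization, every element is integral over the base modulo the maximal ideal -/
theorem exists_monic_eval₂_mem_of_isStrictHenselization (A S : Type u) [CommRing A]
    [IsLocalRing A] [CommRing S] [IsLocalRing S] [Algebra A S] [IsLocalHom (algebraMap A S)]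
    [Hensel.IsStrictHenselization A S] (s : S) :
    ∃ p : A[X], p.Monic ∧ Polynomial.eval₂ (algebraMap A S) s p ∈ maximalIdeal S := by
  haveI hsc : IsSepClosure (ResidueField A) (ResidueField S) :=
    Hensel.IsStrictHenselization.isSepClosure
  haveI : Algebra.IsSeparable (ResidueField A) (ResidueField S) := hsc.separable
  obtain ⟨q, hq, hqs⟩ := Algebra.IsIntegral.isIntegral (R := ResidueField A) (residue S s)
  have hlift : q ∈ Polynomial.lifts (residue A) := by
    obtain ⟨p, hp⟩ := Polynomial.map_surjective (residue A) residue_surjective q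
    exact ⟨p, hp⟩
  obtain ⟨p, hpq, -, hp⟩ := Polynomial.lifts_and_natDegree_eq_and_monic hlift hq
  refine ⟨p, hp, ?_⟩
  rw [← residue_eq_zero_iff, Polynomial.hom_eval₂]
  have h1 : (residue S).comp (algebraMap A S) =
      (algebraMap (ResidueField A) (ResidueField S)).comp (residue A) := by
    ext a
    rfl
  rw [h1, ← Polynomial.eval₂_map, hpq]
  exact hqs

/-- **The number of minimal primes of a strict henselization is the number of geometric
branches.** -/
theorem card_minimalPrimes_strictHenselization (A S : Type u) [CommRing A]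
    [IsLocalRing A] [CommRing S] [IsLocalRing S] [Algebra A S] [IsLocalHom (algebraMap A S)]
    [Hensel.IsStrictHenselization A S] :
    ENat.card (minimalPrimes S) = Brnch.numGeomBranches A := by
  haveI hS : HenselianLocalRing S := Hensel.IsStrictHenselization.henselian A
  haveI := Groth.Agent.Lib.StrictHens.faithfullyFlat_of_isStrictHenselization (R := A) S
  have hie := Groth.Agent.Lib.StrictHens.isIndEtale_of_isStrictHenselization (R := A) S
  haveI hsc : IsSepClosed (ResidueField S) :=
    (Hensel.IsStrictHenselization.isSepClosure (R := A) (S := S)).sep_closed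
  have key := @card_minimalPrimes_eq_numGeomBranches A _ _ S _ hS _ _ _ hie
  exact key (exists_monic_eval₂_mem_of_isStrictHenselization A S)

end Groth.Agent.Lib.HensBranchesH3
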