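import Mathlib
import Groth.Prelude.Def_Brnch
import Groth.Agent.S9237
import Groth.Agent.S9238
import Groth.Agent.Lib.HensBranches3_helper3
import Groth.Agent.Lib.Henselization11_helper3
import Groth.Agent.Lib.StrictHens7_helper3

/-!
# Branches through étale neighbourhoods, ring level (helper3)

The number of minimal primes of a directed union-like colimit `S` of rings `A i` along flat,
"minimal-prime-surjective" maps is the supremum of the numbers of minimal primes of the `A i`.
Applied to the models of the henselization and of the strict henselization.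
-/

set_option autoImplicit false
set_option maxSynthPendingDepth 3
universe u

namespace Groth.Agent.Lib.BrEtNbhdH3

open IsLocalRing

section Generic

variable {S : Type u} [CommRing S] {ι : Type*} (A : ι → Type u) [∀ i, CommRing (A i)]
  (f : ∀ i, A i →+* S)

/-- the generic counting lemma -/
theorem encard_minimalPrimes_eq_iSup
    (hmin : ∀ i, ∀ P ∈ minimalPrimes S, P.comap (f i) ∈ minimalPrimes (A i))
    (hsurj : ∀ i, ∀ q ∈ minimalPrimes (A i), ∃ P ∈ minimalPrimes S, P.comap (f i) = q)
    (hfin : ∀ s : Finset S, ∃ i, (s : Set S) ⊆ Set.range (f i)) :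
    (minimalPrimes S).encard = ⨆ i, (minimalPrimes (A i)).encard := by
  classical
  apply le_antisymm
  · rw [← ENat.forall_natCast_le_iff_le]
    intro n hn
    obtain ⟨t, htS, htn⟩ := Set.exists_subset_encard_eq hn
    have htfin : t.Finite := Set.finite_of_encard_eq_coe htn
    -- separating elements
    have hsep : ∀ P ∈ t, ∀ Q ∈ t, P ≠ Q → ∃ x, x ∈ P ∧ x ∉ Q := by
      intro P hP Q hQ hPQ
      by_contra hcon
      push_neg at hcon
      have hle : P ≤ Q := fun x hx => hcon x hx
      have hQP : Q ≤ P := (htS hQ).2 (htS hP).1 hle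
      exact hPQ (le_antisymm hle hQP)
    let F : Ideal S → Ideal S → S := fun P Q =>
      if h : ∃ x, x ∈ P ∧ x ∉ Q then h.choose else 0
    have hF : ∀ P ∈ t, ∀ Q ∈ t, P ≠ Q → F P Q ∈ P ∧ F P Q ∉ Q := by
      intro P hP Q hQ hPQ
      have h := hsep P hP Q hQ hPQ
      simp only [F, dif_pos h]
      exact h.choose_spec
    obtain ⟨i, hi⟩ := hfin ((htfin.toFinset ×ˢ htfin.toFinset).image (fun pq => F pq.1 pq.2))
    have hinj : Set.InjOn (fun P : Ideal S => P.comap (f i)) t := by
      intro P hP Q hQ hPQ
      by_contra hne
      obtain ⟨h1, h2⟩ := hF P hP Q hQ hne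
      have hmem : F P Q ∈ Set.range (f i) := by
        apply hi
        rw [Finset.coe_image]
        refine ⟨(P, Q), ?_, rfl⟩
        rw [Finset.mem_coe, Finset.mem_product]
        exact ⟨htfin.mem_toFinset.mpr hP, htfin.mem_toFinset.mpr hQ⟩
      obtain ⟨y, hy⟩ := hmem
      have hy1 : y ∈ P.comap (f i) := by rw [Ideal.mem_comap, hy]; exact h1
      have hy2 : y ∉ Q.comap (f i) := by rw [Ideal.mem_comap, hy]; exact h2
      have hPQ' : P.comap (f i) = Q.comap (f i) := hPQ
      rw [hPQ'] at hy1
      exact hy2 hy1
    have hsub : (fun P : Ideal S => P.comap (f i)) '' t ⊆ minimalPrimes (A i) := by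
      rintro _ ⟨P, hP, rfl⟩
      exact hmin i P (htS hP)
    calc (n : ℕ∞) = t.encard := htn.symm
      _ = ((fun P : Ideal S => P.comap (f i)) '' t).encard := (hinj.encard_image).symm
      _ ≤ (minimalPrimes (A i)).encard := Set.encard_le_encard hsub
      _ ≤ ⨆ i, (minimalPrimes (A i)).encard := le_iSup (fun i => (minimalPrimes (A i)).encard) i
  · apply iSup_le
    intro i
    choose c hc1 hc2 using hsurj i
    refine Set.encard_le_encard_of_injOn (f := fun q => if h : q ∈ minimalPrimes (A i) then c q h
      else ⊥) ?_ ?_
    · intro q hq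
      simp only [dif_pos hq]
      exact hc1 q hq
    · intro q₁ h₁ q₂ h₂ h12
      simp only [dif_pos h₁, dif_pos h₂] at h12
      rw [← hc2 q₁ h₁, ← hc2 q₂ h₂, h12]

end Generic

section Hens

open Groth.Agent.Lib.HenselizationH3

variable (R : Type u) [CommRing R] [IsLocalRing R]

theorem exists_range_ofH_hens (s : Finset (Hens R)) :
    ∃ i : Idx R, (s : Set (Hens R)) ⊆ Set.range (ofH i) := by
  classical
  obtain ⟨i, a, ha⟩ := exists_ofH_fin (R := R) (fun k : Fin s.card => ((s.equivFin.symm k : s) : Hens R))
  refine ⟨i, fun x hx => ?_⟩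
  refine ⟨a (s.equivFin ⟨x, hx⟩), ?_⟩
  rw [ha, Equiv.symm_apply_apply]

/-- the number of branches as a supremum over the strictly essentially étale local algebras -/
theorem numBranches_eq_iSup :
    Brnch.numBranches R = ⨆ i : Idx R, (minimalPrimes i.A).encard := by
  haveI := isHenselization_hens (R := R)
  rw [← Groth.Agent.S9237.result R (Hens R)]
  show (minimalPrimes (Hens R)).encard = _
  apply encard_minimalPrimes_eq_iSup (fun i : Idx R => i.A) (fun i => ofH i)
  · intro i P hP
    letI := algIdx i
    haveI : Module.Flat i.A (Hens R) := (faithfullyFlat_idx i).toFlat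
    exact Groth.Agent.Lib.HensBranchesH3.comap_mem_minimalPrimes_of_flat (S := i.A) P hP
  · intro i q hq
    letI := algIdx i
    haveI : Module.FaithfullyFlat i.A (Hens R) := faithfullyFlat_idx i
    exact Groth.Agent.Lib.HensBranchesH3.exists_minimalPrimes_comap_eq_of_faithfullyFlat
      (S := i.A) (B := Hens R) q hq
  · exact exists_range_ofH_hens R

end Hens

section SHens

open Groth.Agent.Lib.StrictHens

variable (R : Type u) [CommRing R] [IsLocalRing R]

theorem exists_range_ofH_sh (s : Finset (SHens R)) :
    ∃ i : Idx R (SeparableClosure (ResidueField R)),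
      (s : Set (SHens R)) ⊆ Set.range (ofH i) := by
  classical
  obtain ⟨i, a, ha⟩ := exists_ofH_fin (R := R) (K := SeparableClosure (ResidueField R))
    (fun k : Fin s.card => ((s.equivFin.symm k : s) : SHens R))
  refine ⟨i, fun x hx => ?_⟩
  refine ⟨a (s.equivFin ⟨x, hx⟩), ?_⟩
  rw [ha, Equiv.symm_apply_apply]

/-- the number of geometric branches as a supremum over the essentially étale local algebras -/
theorem numGeomBranches_eq_iSup :
    Brnch.numGeomBranches R =
      ⨆ i : Idx R (SeparableClosure (ResidueField R)), (minimalPrimes i.A).encard := by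
  haveI := isStrictHenselization_shens (R := R)
  rw [← Groth.Agent.S9238.result R (SHens R)]
  show (minimalPrimes (SHens R)).encard = _
  apply encard_minimalPrimes_eq_iSup
    (fun i : Idx R (SeparableClosure (ResidueField R)) => i.A) (fun i => ofH i)
  · intro i P hP
    letI := algIdx i
    haveI : Module.Flat i.A (SH R (SeparableClosure (ResidueField R))) :=
      (faithfullyFlat_idx i).toFlat
    exact Groth.Agent.Lib.HensBranchesH3.comap_mem_minimalPrimes_of_flat (S := i.A) P hP
  · intro i q hq
    letI := algIdx i
    haveI : Module.FaithfullyFlat i.A (SH R (SeparableClosure (ResidueField R))) :=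
      faithfullyFlat_idx i
    exact Groth.Agent.Lib.HensBranchesH3.exists_minimalPrimes_comap_eq_of_faithfullyFlat
      (S := i.A) (B := SH R (SeparableClosure (ResidueField R))) q hq
  · exact exists_range_ofH_sh R

end SHens

end Groth.Agent.Lib.BrEtNbhdH3
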