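import Mathlib

/-!
# Irreducible components through a point of a scheme ↔ minimal primes of the local ring (helper3)
-/

set_option autoImplicit false
universe u

namespace Groth.Agent.Lib.BrEtNbhdH3

open AlgebraicGeometry

section Top

variable {X : Type*} [TopologicalSpace X] [T0Space X] [QuasiSober X]

theorem closure_singleton_mem_irreducibleComponents_iff (η : X) :
    closure {η} ∈ irreducibleComponents X ↔ ∀ y : X, y ⤳ η → y = η := by
  constructor
  · intro h y hy
    have h1 : closure {η} ⊆ closure {y} := by
      apply closure_minimal _ isClosed_closure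
      rw [Set.singleton_subset_iff]
      exact specializes_iff_mem_closure.mp hy
    have h2 : closure {y} ⊆ closure {η} := h.2 isIrreducible_singleton.closure h1
    have h3 : IsGenericPoint y (closure {η}) := le_antisymm h2 h1
    exact h3.eq isGenericPoint_closure
  · intro h
    refine ⟨isIrreducible_singleton.closure, fun Z' hZ' hle => ?_⟩
    have hgen := hZ'.closure.isGenericPoint_genericPoint_closure
    rw [closure_closure] at hgen
    -- `η' := generic point of closure Z'`
    have h1 : η ∈ closure Z' := subset_closure (hle (subset_closure (Set.mem_singleton η)))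
    have h2 : hZ'.closure.genericPoint ⤳ η := hgen.specializes h1
    have h3 := h _ h2
    rw [h3] at hgen
    calc Z' ⊆ closure Z' := subset_closure
      _ = closure {η} := hgen.def.symm

theorem encard_irreducibleComponents_through (u : X) :
    {Z : Set X | Z ∈ irreducibleComponents X ∧ u ∈ Z}.encard =
      {η : X | closure {η} ∈ irreducibleComponents X ∧ η ⤳ u}.encard := by
  have himg : {Z : Set X | Z ∈ irreducibleComponents X ∧ u ∈ Z} =
      (fun η : X => closure {η}) '' {η : X | closure {η} ∈ irreducibleComponents X ∧ η ⤳ u} := by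
    ext Z
    constructor
    · rintro ⟨hZ, hu⟩
      have hcl : IsClosed Z := isClosed_of_mem_irreducibleComponents Z hZ
      have hgen := hZ.1.isGenericPoint_genericPoint_closure
      rw [hcl.closure_eq] at hgen
      refine ⟨hZ.1.genericPoint, ⟨?_, ?_⟩, hgen.def⟩
      · rw [hgen.def]; exact hZ
      · exact hgen.specializes hu
    · rintro ⟨η, ⟨h1, h2⟩, rfl⟩
      exact ⟨h1, specializes_iff_mem_closure.mp h2⟩
  rw [himg]
  apply Set.InjOn.encard_image
  intro η₁ _ η₂ _ h12
  have h1 : IsGenericPoint η₁ (closure {η₂}) := h12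
  exact h1.eq isGenericPoint_closure

end Top

section Sch

/-- the number of irreducible components of a scheme through a point is the number of minimal
primes of the local ring. -/
theorem encard_components_through_eq (U : Scheme.{u}) (u : U) :
    {Z : Set U | Z ∈ irreducibleComponents U ∧ u ∈ Z}.encard =
      (minimalPrimes (U.presheaf.stalk u)).encard := by
  rw [encard_irreducibleComponents_through]
  have hemb : Topology.IsEmbedding (U.fromSpecStalk u) := (U.fromSpecStalk u).isEmbedding
  have hrange : Set.range (U.fromSpecStalk u) = {y | y ⤳ u} := Scheme.range_fromSpecStalk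
  -- step 1: pull back along `j`
  have h1 : {η : U | closure {η} ∈ irreducibleComponents U ∧ η ⤳ u} =
      (U.fromSpecStalk u) '' {ξ : PrimeSpectrum (U.presheaf.stalk u) |
        ξ.asIdeal ∈ minimalPrimes (U.presheaf.stalk u)} := by
    ext η
    constructor
    · rintro ⟨hη, hηu⟩
      have hmem : η ∈ Set.range (U.fromSpecStalk u) := by rw [hrange]; exact hηu
      obtain ⟨ξ, rfl⟩ := hmem
      refine ⟨ξ, ?_, rfl⟩
      rw [closure_singleton_mem_irreducibleComponents_iff] at hη
      refine ⟨⟨ξ.isPrime, bot_le⟩, ?_⟩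
      rintro Q ⟨hQ, -⟩ hQle
      have hspec : (⟨Q, hQ⟩ : PrimeSpectrum (U.presheaf.stalk u)) ⤳ ξ :=
        (PrimeSpectrum.le_iff_specializes ⟨Q, hQ⟩ ξ).mp hQle
      have h2 := hη _ (hspec.map hemb.continuous)
      have h3 : (⟨Q, hQ⟩ : PrimeSpectrum (U.presheaf.stalk u)) = ξ := hemb.injective h2
      rw [← h3]
    · rintro ⟨ξ, hξ, rfl⟩
      have hξu : (U.fromSpecStalk u) ξ ⤳ u := by
        have : (U.fromSpecStalk u) ξ ∈ Set.range (U.fromSpecStalk u) := ⟨ξ, rfl⟩
        rw [hrange] at this
        exact this
      refine ⟨?_, hξu⟩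
      rw [closure_singleton_mem_irreducibleComponents_iff]
      intro y hy
      have hyu : y ⤳ u := hy.trans hξu
      have hmem : y ∈ Set.range (U.fromSpecStalk u) := by rw [hrange]; exact hyu
      obtain ⟨ζ, rfl⟩ := hmem
      have hspec : ζ ⤳ ξ := hemb.toIsInducing.specializes_iff.mp hy
      have hle : ζ.asIdeal ≤ ξ.asIdeal := (PrimeSpectrum.le_iff_specializes ζ ξ).mpr hspec
      have hle' : ξ.asIdeal ≤ ζ.asIdeal := hξ.2 ⟨ζ.isPrime, bot_le⟩ hle
      have : ζ = ξ := PrimeSpectrum.ext (le_antisymm hle hle')
      rw [this]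
  rw [h1, Set.InjOn.encard_image hemb.injective.injOn]
  -- step 2: prime spectrum points ↔ ideals
  have h2 : minimalPrimes (U.presheaf.stalk u) =
      (fun ξ : PrimeSpectrum (U.presheaf.stalk u) => ξ.asIdeal) ''
        {ξ : PrimeSpectrum (U.presheaf.stalk u) |
          ξ.asIdeal ∈ minimalPrimes (U.presheaf.stalk u)} := by
    ext P
    constructor
    · intro hP
      exact ⟨⟨P, hP.1.1⟩, hP, rfl⟩
    · rintro ⟨ξ, hξ, rfl⟩
      exact hξ
  conv_rhs => rw [h2]
  refine (Set.InjOn.encard_image ?_).symm
  intro ξ₁ _ ξ₂ _ h12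
  exact PrimeSpectrum.ext h12

end Sch

end Groth.Agent.Lib.BrEtNbhdH3
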