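import Mathlib
import Groth.Prelude.Def_EssEt
import Groth.Agent.Lib.EssEt_lead
import Groth.Agent.Lib.StrictHens7_helper3
import Groth.Agent.Lib.Henselization11_helper3

/-!
# Branches through étale neighbourhoods: essentially étale local algebras and indices (helper3)
-/

set_option autoImplicit false
set_option maxSynthPendingDepth 3
universe u

namespace Groth.Agent.Lib.BrEtNbhdH3

open IsLocalRing EGA4loc TensorProduct

section SHIdx

open Groth.Agent.Lib.StrictHens

variable {R : Type u} [CommRing R] [IsLocalRing R]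
variable {K : Type u} [Field K] [Algebra R K] [Algebra (ResidueField R) K]
  [IsScalarTower R (ResidueField R) K]

theorem exists_idx_loc_sh (C : Type u) [CommRing C] [Algebra R C] [Algebra.Etale R C]
    (ρ : C →ₐ[R] K) :
    haveI := RingHom.ker_isPrime ρ
    ∃ k : Idx R K, Nonempty (Localization.AtPrime (RingHom.ker ρ) ≃ₐ[R] k.A) := by
  haveI := RingHom.ker_isPrime ρ
  obtain ⟨k, e, he⟩ := exists_idx_equiv C ρ
  refine ⟨k, ⟨?_⟩⟩
  refine IsLocalization.algEquivOfAlgEquiv (M := (RingHom.ker ρ).primeCompl)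
    (T := (RingHom.ker k.pt).primeCompl) (Localization.AtPrime (RingHom.ker ρ)) k.A e ?_
  have hρ : ∀ c, ρ c = k.pt (e c) := fun c => by rw [← he]; rfl
  ext c
  constructor
  · rintro ⟨x, hx, rfl⟩
    intro hc
    apply hx
    show ρ x = 0
    rw [hρ]
    exact hc
  · intro hc
    refine ⟨e.symm c, ?_, e.apply_symm_apply c⟩
    intro hx
    apply hc
    show k.pt c = 0
    have h1 : ρ (e.symm c) = 0 := hx
    rwa [hρ, e.apply_symm_apply] at h1

/-- the `K`-point of an essentially étale local algebra -/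
theorem exists_point_sh [IsSepClosed K] (B : Type u) [CommRing B] [IsLocalRing B] [Algebra R B]
    [IsLocalHom (algebraMap R B)] (h : IsEssentiallyEtale R B) :
    ∃ (C : Type u) (_ : CommRing C) (_ : Algebra R C) (q : Ideal C) (_ : q.IsPrime)
      (_ : Algebra.Etale R C) (_ : B ≃ₐ[R] Localization.AtPrime q) (ρ : C →ₐ[R] K),
      ∀ c, ρ c = 0 ↔ c ∈ q := by
  obtain ⟨hunr, hess⟩ := Groth.Agent.Lib.EssEt.inst_of_essEtale h
  haveI := hunr
  haveI := hess
  obtain ⟨C, _, _, q, _, hC, hq, ⟨e₁⟩⟩ := h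
  haveI := hC
  obtain ⟨σ, -⟩ : ∃ σ : ResidueField B →ₐ[ResidueField R] K, σ = IsSepClosed.lift := ⟨_, rfl⟩
  let ρr : C →+* K := σ.toRingHom.comp ((residue B).comp
    ((e₁.symm : Localization.AtPrime q →+* B).comp (algebraMap C (Localization.AtPrime q))))
  have hρr : ∀ c, ρr c = σ (residue B (e₁.symm (algebraMap C (Localization.AtPrime q) c))) :=
    fun c => rfl
  let ρ : C →ₐ[R] K :=
    { ρr with
      commutes' := fun a => by
        show ρr (algebraMap R C a) = algebraMap R K a
        rw [hρr, ← IsScalarTower.algebraMap_apply R C (Localization.AtPrime q), e₁.symm.commutes,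
          IsScalarTower.algebraMap_apply R (ResidueField R) K, ← σ.commutes]
        rfl }
  refine ⟨C, inferInstance, inferInstance, q, inferInstance, hC, e₁, ρ, fun c => ?_⟩
  show ρr c = 0 ↔ c ∈ q
  rw [hρr, map_eq_zero_iff σ (RingHom.injective (σ : ResidueField B →+* K)),
    residue_eq_zero_iff, mem_maximalIdeal,
    mem_nonunits_iff, Groth.Agent.Lib.EssEt.isUnit_algEquiv_iff e₁.symm,
    IsLocalization.AtPrime.isUnit_to_map_iff (Localization.AtPrime q) q, Ideal.mem_primeCompl_iff,
    not_not]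

/-- every essentially étale local algebra is realised by an index of the strict model -/
theorem exists_idx_of_essEtale [IsSepClosed K] (B : Type u) [CommRing B] [IsLocalRing B]
    [Algebra R B] [IsLocalHom (algebraMap R B)] (h : IsEssentiallyEtale R B) :
    ∃ k : Idx R K, Nonempty (B ≃ₐ[R] k.A) := by
  obtain ⟨C, _, _, q, _, hC, e₁, ρ, hρ⟩ := exists_point_sh (K := K) B h
  have hqk : q = RingHom.ker ρ := by
    ext c
    rw [RingHom.mem_ker, hρ]
  subst hqk
  obtain ⟨k, ⟨e₂⟩⟩ := exists_idx_loc_sh C ρ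
  exact ⟨k, ⟨e₁.trans e₂⟩⟩

end SHIdx

section RL1

variable (R : Type u) [CommRing R] (p : Ideal R) [p.IsPrime]
  (A : Type u) [CommRing A] [IsLocalRing A] [Algebra R A] [IsLocalization.AtPrime A p]
  (E : Type u) [CommRing E] [Algebra R E] [Algebra.Etale R E] (q : Ideal E) [q.IsPrime]
  (B : Type u) [CommRing B] [IsLocalRing B] [Algebra E B] [IsLocalization.AtPrime B q]
  [Algebra R B] [IsScalarTower R E B] [Algebra A B] [IsScalarTower R A B]

include p q in
/-- the local ring of an étale `R`-algebra at a prime over `p` is essentially étale over `R_p` -/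
theorem isEssentiallyEtale_of_isLocalization (hq : q.comap (algebraMap R E) = p) :
    IsEssentiallyEtale A B := by
  obtain ⟨ψ, hψ⟩ : ∃ ψ : A ⊗[R] E →ₐ[A] B, ∀ a e, ψ (a ⊗ₜ e) = algebraMap A B a * algebraMap E B e :=
    ⟨Algebra.TensorProduct.lift (Algebra.ofId A B) (IsScalarTower.toAlgHom R E B)
      (fun _ _ => Commute.all _ _), fun a e => by
        rw [Algebra.TensorProduct.lift_tmul]; rfl⟩
  obtain ⟨qC, hqC⟩ : ∃ qC : Ideal (A ⊗[R] E), qC = (maximalIdeal B).comap ψ.toRingHom := ⟨_, rfl⟩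
  haveI hqCp : qC.IsPrime := by rw [hqC]; exact Ideal.comap_isPrime _ _
  have hmem : ∀ c, c ∈ qC ↔ ¬ IsUnit (ψ c) := fun c => by
    rw [hqC, Ideal.mem_comap]
    exact mem_maximalIdeal _
  -- units from `E`
  have hunitE : ∀ e : E, IsUnit (algebraMap E B e) ↔ e ∉ q := fun e => by
    rw [IsLocalization.AtPrime.isUnit_to_map_iff B q]
    rfl
  -- units from `R`
  have hunitR : ∀ s : R, s ∈ p.primeCompl → IsUnit (algebraMap R B s) := fun s hs => by
    rw [IsScalarTower.algebraMap_apply R E B, hunitE]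
    intro hmem
    apply hs
    rw [← hq]
    exact hmem
  have hψ1 : ∀ e : E, ψ ((1 : A) ⊗ₜ[R] e) = algebraMap E B e := fun e => by
    rw [hψ, map_one, one_mul]
  have hψR : ∀ s : R, ψ (algebraMap R (A ⊗[R] E) s) = algebraMap R B s := fun s => by
    rw [IsScalarTower.algebraMap_apply R A (A ⊗[R] E), ψ.commutes,
      ← IsScalarTower.algebraMap_apply R A B]
  -- common denominators
  have hden : ∀ c : A ⊗[R] E, ∃ s ∈ p.primeCompl, ∃ e' : E,
      algebraMap R (A ⊗[R] E) s * c = (1 : A) ⊗ₜ[R] e' := by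
    intro c
    induction c using TensorProduct.induction_on with
    | zero => exact ⟨1, Submonoid.one_mem _, 0, by rw [mul_zero, TensorProduct.tmul_zero]⟩
    | tmul a e =>
      obtain ⟨⟨r, s⟩, hrs⟩ := IsLocalization.surj p.primeCompl a
      refine ⟨s, s.2, r • e, ?_⟩
      have h1 : (s : R) • a = algebraMap R A r := by
        rw [Algebra.smul_def, mul_comm]; exact hrs
      rw [Algebra.algebraMap_eq_smul_one, smul_mul_assoc, one_mul, TensorProduct.smul_tmul', h1,
        Algebra.algebraMap_eq_smul_one, TensorProduct.smul_tmul]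
    | add c₁ c₂ h₁ h₂ =>
      obtain ⟨s₁, hs₁, e₁, h₁⟩ := h₁
      obtain ⟨s₂, hs₂, e₂, h₂⟩ := h₂
      refine ⟨s₁ * s₂, mul_mem hs₁ hs₂, s₂ • e₁ + s₁ • e₂, ?_⟩
      have e1 : algebraMap R (A ⊗[R] E) (s₁ * s₂) * (c₁ + c₂) =
          algebraMap R (A ⊗[R] E) s₂ * (algebraMap R (A ⊗[R] E) s₁ * c₁) +
          algebraMap R (A ⊗[R] E) s₁ * (algebraMap R (A ⊗[R] E) s₂ * c₂) := by
        rw [map_mul]; ring
      rw [e1, h₁, h₂, TensorProduct.tmul_add, ← Algebra.smul_def, ← Algebra.smul_def,
        TensorProduct.tmul_smul, TensorProduct.tmul_smul]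
  letI algCB : Algebra (A ⊗[R] E) B := ψ.toRingHom.toAlgebra
  haveI tow : IsScalarTower A (A ⊗[R] E) B :=
    IsScalarTower.of_algebraMap_eq (fun a => (ψ.commutes a).symm)
  have hloc : IsLocalization.AtPrime B qC := by
    refine (isLocalization_iff _ _).mpr ⟨?_, ?_, ?_⟩
    · rintro ⟨c, hc⟩
      show IsUnit (ψ c)
      by_contra hnu
      exact hc ((hmem c).mpr hnu)
    · intro b
      obtain ⟨⟨e, s⟩, hes⟩ := IsLocalization.surj q.primeCompl b
      refine ⟨⟨(1 : A) ⊗ₜ[R] e, ⟨(1 : A) ⊗ₜ[R] (s : E), ?_⟩⟩, ?_⟩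
      · show (1 : A) ⊗ₜ[R] (s : E) ∉ qC
        rw [hmem, not_not, hψ1, hunitE]
        exact s.2
      · show b * ψ ((1 : A) ⊗ₜ[R] (s : E)) = ψ ((1 : A) ⊗ₜ[R] e)
        rw [hψ1, hψ1]
        exact hes
    · intro x y hxy
      have hxy' : ψ (x - y) = 0 := by
        have : ψ x = ψ y := hxy
        rw [map_sub, this, sub_self]
      obtain ⟨s, hs, e', he'⟩ := hden (x - y)
      have h1 : algebraMap E B e' = 0 := by
        rw [← hψ1, ← he', map_mul, hxy', mul_zero]
      obtain ⟨t, ht⟩ := (IsLocalization.map_eq_zero_iff q.primeCompl B e').mp h1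
      refine ⟨⟨((1 : A) ⊗ₜ[R] (t : E)) * algebraMap R (A ⊗[R] E) s, ?_⟩, ?_⟩
      · show _ ∉ qC
        rw [hmem, not_not, map_mul, hψ1, hψR]
        exact ((hunitE _).mpr t.2).mul (hunitR s hs)
      · show ((1 : A) ⊗ₜ[R] (t : E)) * algebraMap R (A ⊗[R] E) s * x =
          ((1 : A) ⊗ₜ[R] (t : E)) * algebraMap R (A ⊗[R] E) s * y
        rw [← sub_eq_zero, ← mul_sub, mul_assoc, he', Algebra.TensorProduct.tmul_mul_tmul, one_mul,
          ht, TensorProduct.tmul_zero]
  haveI := hloc
  refine ⟨A ⊗[R] E, inferInstance, inferInstance, qC, hqCp, inferInstance, ?_, ⟨?_⟩⟩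
  · -- `qC` lies over the maximal ideal of `A`
    ext a
    rw [Ideal.mem_comap, hmem, ψ.commutes, mem_maximalIdeal, mem_nonunits_iff, not_iff_not]
    obtain ⟨⟨r, s⟩, hrs⟩ := IsLocalization.surj p.primeCompl a
    have hsA : IsUnit (algebraMap R A (s : R)) := IsLocalization.map_units A s
    have hsB : IsUnit (algebraMap R B (s : R)) := hunitR s s.2
    have h1 : IsUnit a ↔ IsUnit (algebraMap R A r) := by
      rw [← hrs]
      exact (IsUnit.mul_iff.trans (and_iff_left hsA)).symm
    have h2 : IsUnit (algebraMap A B a) ↔ IsUnit (algebraMap R B r) := by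
      have : algebraMap R B r = algebraMap A B a * algebraMap R B (s : R) := by
        rw [IsScalarTower.algebraMap_apply R A B, ← hrs, map_mul,
          ← IsScalarTower.algebraMap_apply R A B]
      rw [this]
      exact (IsUnit.mul_iff.trans (and_iff_left hsB)).symm
    rw [h1, h2, IsLocalization.AtPrime.isUnit_to_map_iff A p,
      IsScalarTower.algebraMap_apply R E B, hunitE]
    show algebraMap R E r ∉ q ↔ r ∉ p
    have h3 : r ∈ p ↔ algebraMap R E r ∈ q := by
      constructor
      · intro hr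
        have : r ∈ q.comap (algebraMap R E) := by rw [hq]; exact hr
        exact this
      · intro hr
        have : r ∈ q.comap (algebraMap R E) := hr
        rwa [hq] at this
    rw [h3]
  · exact ((IsLocalization.algEquiv qC.primeCompl B (Localization.AtPrime qC)).restrictScalars A)

end RL1

end Groth.Agent.Lib.BrEtNbhdH3
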