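import Mathlib
import Groth.Prelude.Def_Brnch
import Groth.Agent.Lib.HensBranches3_helper3
import Groth.Agent.Lib.FSAdicCompl2_helper3
import Groth.Agent.Lib.QuotBaseChange_helper3

/-!
# Minimal primes of dimension one of the completion (helper3)

Core: if `R` is a Noetherian henselian local domain and `T` is a Noetherian local faithfully flat
`R`-algebra in which `R` is `𝔪`-adically dense (e.g. the completion), then a minimal prime `q` of
`T` with `dim T/q = 1` is the only minimal prime of `T`.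
-/

set_option autoImplicit false
set_option maxSynthPendingDepth 3
universe u

namespace Groth.Agent.Lib.HensBranchesH3

open IsLocalRing TensorProduct

section FlatKer

variable {R T : Type u} [CommRing R] [CommRing T] [Algebra R T]

/-- the colon ideal `(J : (s_i)_i)` as a kernel -/
noncomputable def colonMap {ι : Type} [Fintype ι] (s : ι → R) (J : Ideal R) :
    R →ₗ[R] (ι → R ⧸ J) :=
  LinearMap.pi (fun i => J.mkQ ∘ₗ LinearMap.lsmul R R (s i))

theorem colonMap_apply {ι : Type} [Fintype ι] (s : ι → R) (J : Ideal R) (x : R) (i : ι) :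
    colonMap s J x i = Ideal.Quotient.mk J (s i * x) := rfl

theorem mem_ker_colonMap {ι : Type} [Fintype ι] (s : ι → R) (J : Ideal R) (x : R) :
    x ∈ LinearMap.ker (colonMap s J) ↔ ∀ i, s i * x ∈ J := by
  rw [LinearMap.mem_ker, funext_iff]
  refine forall_congr' fun i => ?_
  rw [colonMap_apply, Pi.zero_apply, Ideal.Quotient.eq_zero_iff_mem]

theorem lid_rTensor_mem' (J : Ideal R) (z : J ⊗[R] T) :
    (TensorProduct.lid R T) (J.subtype.rTensor T z) ∈ J • (⊤ : Submodule R T) := by
  induction z using TensorProduct.induction_on with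
  | zero => simp
  | tmul j x =>
    simp only [LinearMap.rTensor_tmul, Submodule.coe_subtype, TensorProduct.lid_tmul]
    exact Submodule.smul_mem_smul j.2 trivial
  | add x y hx hy =>
    simp only [map_add]
    exact add_mem hx hy

theorem single_tmul_eq_zero {ι : Type} [Fintype ι] [DecidableEq ι] (J : Ideal R) (i : ι)
    (y : T) (hy : y ∈ J.map (algebraMap R T)) :
    (Pi.single i (1 : R ⧸ J) : ι → R ⧸ J) ⊗ₜ[R] y = 0 := by
  have hy' : y ∈ J • (⊤ : Submodule R T) := by
    rw [Ideal.smul_top_eq_map]; exact hy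
  refine Submodule.smul_induction_on hy' ?_ ?_
  · intro j hj z _
    rw [← TensorProduct.smul_tmul]
    have : j • (Pi.single i (1 : R ⧸ J) : ι → R ⧸ J) = 0 := by
      rw [← Pi.single_smul, Algebra.smul_def, mul_one]
      have : algebraMap R (R ⧸ J) j = 0 := Ideal.Quotient.eq_zero_iff_mem.mpr hj
      rw [this, Pi.single_zero]
    rw [this, TensorProduct.zero_tmul]
  · intro x y hx hy
    rw [TensorProduct.tmul_add, hx, hy, add_zero]

theorem mem_map_ker_colonMap [Module.Flat R T] {ι : Type} [Fintype ι] [DecidableEq ι]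
    (s : ι → R) (J : Ideal R) (x : T)
    (hx : ∀ i, algebraMap R T (s i) * x ∈ J.map (algebraMap R T)) :
    x ∈ Ideal.map (algebraMap R T) (LinearMap.ker (colonMap s J)) := by
  set φ := colonMap s J with hφ
  have hex : Function.Exact (LinearMap.ker φ).subtype φ := LinearMap.exact_subtype_ker_map φ
  have hex2 := Module.Flat.rTensor_exact T hex
  have h1 : φ.rTensor T ((1 : R) ⊗ₜ[R] x) = 0 := by
    rw [LinearMap.rTensor_tmul]
    have hφ1 : φ 1 = ∑ i, s i • (Pi.single i (1 : R ⧸ J) : ι → R ⧸ J) := by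
      ext i
      rw [hφ, colonMap_apply, mul_one, Finset.sum_apply]
      rw [Finset.sum_eq_single i]
      · rw [Pi.smul_apply, Pi.single_eq_same, Algebra.smul_def, mul_one]; rfl
      · intro j _ hji
        rw [Pi.smul_apply, Pi.single_eq_of_ne (Ne.symm hji), smul_zero]
      · intro h; exact absurd (Finset.mem_univ i) h
    rw [hφ1, TensorProduct.sum_tmul]
    refine Finset.sum_eq_zero fun i _ => ?_
    rw [TensorProduct.smul_tmul]
    apply single_tmul_eq_zero
    rw [Algebra.smul_def]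
    exact hx i
  obtain ⟨z, hz⟩ := (hex2 _).mp h1
  have := lid_rTensor_mem' (T := T) (LinearMap.ker φ) z
  rw [hz, TensorProduct.lid_tmul, one_smul, Ideal.smul_top_eq_map] at this
  exact this

end FlatKer

section Dense

variable {R T : Type u} [CommRing R] [CommRing T] [Algebra R T]

/-- density of `R` in `T` passes to extended ideals -/
theorem exists_sub_mem_map_mul (𝔪 : Ideal R) (k : ℕ)
    (hdense : ∀ x : T, ∃ r : R, x - algebraMap R T r ∈ Ideal.map (algebraMap R T) (𝔪 ^ k))
    (I : Ideal R) (x : T) (hx : x ∈ Ideal.map (algebraMap R T) I) :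
    ∃ x₀ ∈ I, x - algebraMap R T x₀ ∈ Ideal.map (algebraMap R T) (𝔪 ^ k * I) := by
  unfold Ideal.map at hx
  induction hx using Submodule.span_induction with
  | mem y hy =>
    obtain ⟨i, hi, rfl⟩ := hy
    exact ⟨i, hi, by rw [sub_self]; exact Ideal.zero_mem _⟩
  | zero => exact ⟨0, I.zero_mem, by rw [map_zero, sub_self]; exact Ideal.zero_mem _⟩
  | add y z _ _ hy hz =>
    obtain ⟨y₀, hy₀, hy'⟩ := hy
    obtain ⟨z₀, hz₀, hz'⟩ := hz
    refine ⟨y₀ + z₀, I.add_mem hy₀ hz₀, ?_⟩
    have : y + z - algebraMap R T (y₀ + z₀) =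
        (y - algebraMap R T y₀) + (z - algebraMap R T z₀) := by rw [map_add]; ring
    rw [this]
    exact Ideal.add_mem _ hy' hz'
  | smul a y _ hy =>
    obtain ⟨y₀, hy₀, hy'⟩ := hy
    obtain ⟨ρ, hρ⟩ := hdense a
    refine ⟨ρ * y₀, I.mul_mem_left _ hy₀, ?_⟩
    have h1 : a • y - algebraMap R T (ρ * y₀) =
        (a - algebraMap R T ρ) * algebraMap R T y₀ + a * (y - algebraMap R T y₀) := by
      rw [map_mul, smul_eq_mul]; ring
    rw [h1]
    refine Ideal.add_mem _ ?_ (Ideal.mul_mem_left _ _ hy')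
    rw [Ideal.map_mul]
    exact Ideal.mul_mem_mul hρ (Ideal.mem_map_of_mem _ hy₀)

end Dense

section Claim

variable {R T : Type u} [CommRing R] [IsDomain R] [HenselianLocalRing R] [IsNoetherianRing R]
  [CommRing T] [IsLocalRing T] [Algebra R T] [Module.FaithfullyFlat R T]

theorem idempotent_eq_zero_or_one {T : Type u} [CommRing T] [IsLocalRing T] (c : T)
    (hc : c * c = c) : c = 0 ∨ c = 1 := by
  rcases IsLocalRing.isUnit_or_isUnit_one_sub_self c with h | h
  · right
    have h1 : c * (c - 1) = 0 := by rw [mul_sub, hc, mul_one, sub_self]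
    have := (h.mul_right_eq_zero).mp h1
    exact sub_eq_zero.mp this
  · left
    have h1 : (1 - c) * c = 0 := by rw [sub_mul, hc, one_mul, sub_self]
    exact (h.mul_right_eq_zero).mp h1

theorem mul_cancel_of_flat (t : R) (ht0 : t ≠ 0) (n : ℕ) (x y : T)
    (h : algebraMap R T t ^ n * x = algebraMap R T t ^ n * y) : x = y := by
  have hreg : IsSMulRegular R (t ^ n) := by
    intro a b hab
    exact mul_left_cancel₀ (pow_ne_zero n ht0) hab
  have hreg' : IsSMulRegular T (algebraMap R T (t ^ n)) := hreg.of_flat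
  apply hreg'
  show algebraMap R T (t ^ n) * x = algebraMap R T (t ^ n) * y
  rw [map_pow]
  exact h

theorem exists_root (δ : R) (hδ : δ ∈ maximalIdeal R) :
    ∃ r₀ : R, r₀ ∈ maximalIdeal R ∧ r₀ * r₀ - r₀ - δ = 0 := by
  have hmonic : (Polynomial.X ^ 2 - Polynomial.X - Polynomial.C δ : Polynomial R).Monic := by
    have h1 : (Polynomial.X ^ 2 - Polynomial.X - Polynomial.C δ : Polynomial R) =
        Polynomial.X ^ 2 - (Polynomial.X + Polynomial.C δ) := by ring
    rw [h1]
    apply Polynomial.monic_X_pow_sub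
    rw [Polynomial.degree_X_add_C]
    norm_num
  obtain ⟨a, ha, ha0⟩ := HenselianLocalRing.is_henselian
    (Polynomial.X ^ 2 - Polynomial.X - Polynomial.C δ : Polynomial R) hmonic 0
    (by
      simp only [Polynomial.eval_sub, Polynomial.eval_pow, Polynomial.eval_X, Polynomial.eval_C]
      rw [zero_pow (by norm_num), sub_zero, zero_sub]
      exact neg_mem hδ)
    (by
      simp only [Polynomial.derivative_sub, Polynomial.derivative_X_pow, Polynomial.derivative_X,
        Polynomial.derivative_C, Polynomial.eval_sub, Polynomial.eval_mul, Polynomial.eval_pow,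
        Polynomial.eval_X, Polynomial.eval_C, Polynomial.eval_one, Polynomial.eval_zero]
      norm_num)
  rw [sub_zero] at ha0
  refine ⟨a, ha0, ?_⟩
  have := ha
  rw [Polynomial.IsRoot.def] at this
  simp only [Polynomial.eval_sub, Polynomial.eval_pow, Polynomial.eval_X, Polynomial.eval_C] at this
  rw [← this]; ring

/-- **Core claim**: an "idempotent section on the punctured spectrum of `T`" is trivial. -/
theorem eq_zero_or_eq_pow
    (hdense : ∀ (k : ℕ) (x : T), ∃ r : R,
      x - algebraMap R T r ∈ Ideal.map (algebraMap R T) (maximalIdeal R ^ k))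
    (t : R) (ht0 : t ≠ 0) (N : ℕ) (b : T)
    (hb2 : b * b = algebraMap R T t ^ N * b)
    (hbm : ∀ s ∈ maximalIdeal R ^ N, algebraMap R T s * b ∈
      Ideal.span {algebraMap R T t ^ N}) :
    b = 0 ∨ b = algebraMap R T t ^ N := by
  classical
  set f := algebraMap R T with hf
  set τ := f t with hτ
  -- generators of 𝔪^N
  obtain ⟨n, s, hs⟩ := Submodule.fg_iff_exists_fin_generating_family.mp
    (IsNoetherian.noetherian (maximalIdeal R ^ N))
  set I : Ideal R := LinearMap.ker (colonMap s (Ideal.span {t ^ N})) with hI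
  have hmapspan : ∀ k : ℕ, Ideal.map f (Ideal.span {t ^ k}) = Ideal.span {τ ^ k} := by
    intro k
    rw [Ideal.map_span, Set.image_singleton, map_pow]
  have hsmem : ∀ i, s i ∈ maximalIdeal R ^ N := fun i => by
    rw [← hs]; exact Submodule.subset_span ⟨i, rfl⟩
  have hbI : b ∈ Ideal.map f I := by
    apply mem_map_ker_colonMap
    intro i
    rw [hmapspan]
    exact hbm _ (hsmem i)
  -- 𝔪^N I ⊆ (t^N)
  have hmI : maximalIdeal R ^ N * I ≤ Ideal.span {t ^ N} := by
    rw [Ideal.mul_le]
    intro u hu y hy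
    rw [hI, mem_ker_colonMap] at hy
    rw [← hs] at hu
    induction hu using Submodule.span_induction with
    | mem v hv => obtain ⟨i, rfl⟩ := hv; exact hy i
    | zero => rw [zero_mul]; exact Ideal.zero_mem _
    | add v w _ _ hv hw => rw [add_mul]; exact Ideal.add_mem _ hv hw
    | smul a v _ hv => rw [smul_eq_mul, mul_assoc]; exact Ideal.mul_mem_left _ _ hv
  -- approximation
  obtain ⟨b₀, hb₀I, hb₀⟩ := exists_sub_mem_map_mul (maximalIdeal R) (2 * N + 1)
    (hdense (2 * N + 1)) I b hbI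
  have hle : maximalIdeal R ^ (2 * N + 1) * I ≤ maximalIdeal R ^ (N + 1) * Ideal.span {t ^ N} := by
    have : 2 * N + 1 = (N + 1) + N := by ring
    rw [this, pow_add, mul_assoc]
    exact Ideal.mul_mono_right hmI
  have hb₀' : b - f b₀ ∈ Ideal.map f (maximalIdeal R ^ (N + 1)) * Ideal.span {τ ^ N} := by
    rw [← hmapspan, ← Ideal.map_mul]
    exact Ideal.map_mono hle hb₀
  obtain ⟨ε, hε, hεb⟩ := Ideal.mem_mul_span_singleton.mp hb₀'
  -- 𝔪^N T · b ⊆ (τ^N)
  have hmb : ∀ u ∈ Ideal.map f (maximalIdeal R ^ N), u * b ∈ Ideal.span {τ ^ N} := by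
    intro u hu
    unfold Ideal.map at hu
    induction hu using Submodule.span_induction with
    | mem v hv => obtain ⟨w, hw, rfl⟩ := hv; exact hbm w hw
    | zero => rw [zero_mul]; exact Ideal.zero_mem _
    | add v w _ _ hv hw => rw [add_mul]; exact Ideal.add_mem _ hv hw
    | smul a v _ hv => rw [smul_eq_mul, mul_assoc]; exact Ideal.mul_mem_left _ _ hv
  have hεm : ε ∈ Ideal.map f (maximalIdeal R) := by
    refine Ideal.map_mono ?_ hε
    exact Ideal.pow_le_self (Nat.succ_ne_zero N)
  -- ε b = ζ τ^N with ζ ∈ 𝔪 T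
  have hεb' : ε * b ∈ Ideal.map f (maximalIdeal R) * Ideal.span {τ ^ N} := by
    rw [pow_succ', Ideal.map_mul] at hε
    refine Submodule.mul_induction_on hε ?_ ?_
    · intro u hu v hv
      rw [mul_assoc]
      exact Ideal.mul_mem_mul hu (hmb v hv)
    · intro u v hu hv
      rw [add_mul]; exact Ideal.add_mem _ hu hv
  obtain ⟨ζ, hζ, hζb⟩ := Ideal.mem_mul_span_singleton.mp hεb'
  -- the key computation
  set y := ε * ε + ε - 2 * ζ with hy
  have hym : y ∈ Ideal.map f (maximalIdeal R) :=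
    Ideal.sub_mem _ (Ideal.add_mem _ (Ideal.mul_mem_left _ _ hεm) hεm) (Ideal.mul_mem_left _ _ hζ)
  have hfb₀ : f b₀ = b - ε * τ ^ N := by rw [hεb]; ring
  have hcomp : f (b₀ * b₀ - t ^ N * b₀) = τ ^ (2 * N) * y := by
    rw [map_sub, map_mul, map_mul, map_pow, hfb₀, hy]
    have e1 : (b - ε * τ ^ N) * (b - ε * τ ^ N) - τ ^ N * (b - ε * τ ^ N) =
        (b * b - τ ^ N * b) - 2 * (ε * b) * τ ^ N + (ε * ε + ε) * (τ ^ N * τ ^ N) := by ring
    rw [e1, hb2, sub_self, ← hζb, two_mul N, pow_add]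
    ring
  -- descend
  have hmem : b₀ * b₀ - t ^ N * b₀ ∈ Ideal.span {t ^ (2 * N)} := by
    rw [← Ideal.comap_map_eq_self_of_faithfullyFlat (B := T) (Ideal.span {t ^ (2 * N)}),
      Ideal.mem_comap, hmapspan, hcomp]
    exact Ideal.mul_mem_right _ _ (Ideal.subset_span rfl)
  obtain ⟨δ, hδ⟩ := Ideal.mem_span_singleton'.mp hmem
  have hfδ : f δ = y := by
    apply mul_cancel_of_flat t ht0 (2 * N)
    rw [← hcomp, ← hδ, map_mul, map_pow, mul_comm]
  have hδm : δ ∈ maximalIdeal R := by
    rw [← Ideal.comap_map_eq_self_of_faithfullyFlat (B := T) (maximalIdeal R), Ideal.mem_comap,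
      hfδ]
    exact hym
  obtain ⟨r₀, hr₀m, hr₀⟩ := exists_root δ hδm
  have hprod : (b₀ - t ^ N * r₀) * (b₀ - t ^ N * (1 - r₀)) = 0 := by
    have e1 : (b₀ - t ^ N * r₀) * (b₀ - t ^ N * (1 - r₀)) =
        (b₀ * b₀ - t ^ N * b₀) - t ^ (2 * N) * (r₀ * r₀ - r₀) := by
      rw [two_mul N, pow_add]; ring
    have e2 : r₀ * r₀ - r₀ = δ := by
      have := hr₀; linear_combination this
    rw [e1, e2, ← hδ]; ring
  -- conclude
  have hfinal : ∀ r : R, b₀ = t ^ N * r → b = 0 ∨ b = τ ^ N := by
    intro r hr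
    have hb : b = τ ^ N * (f r + ε) := by
      have : b = f b₀ + ε * τ ^ N := by rw [hεb]; ring
      rw [this, hr, map_mul, map_pow]; ring
    have hc : (f r + ε) * (f r + ε) = f r + ε := by
      apply mul_cancel_of_flat t ht0 (2 * N)
      have e1 : τ ^ (2 * N) * ((f r + ε) * (f r + ε)) =
          (τ ^ N * (f r + ε)) * (τ ^ N * (f r + ε)) := by rw [two_mul N, pow_add]; ring
      have e2 : τ ^ (2 * N) * (f r + ε) = τ ^ N * (τ ^ N * (f r + ε)) := by
        rw [two_mul N, pow_add]; ring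
      rw [e1, e2, ← hb, hb2]
    rcases idempotent_eq_zero_or_one _ hc with h0 | h1
    · left; rw [hb, h0, mul_zero]
    · right; rw [hb, h1, mul_one]
  rcases mul_eq_zero.mp hprod with h | h
  · exact hfinal r₀ (sub_eq_zero.mp h)
  · exact hfinal (1 - r₀) (sub_eq_zero.mp h)

end Claim

section Unique

variable {R T : Type u} [CommRing R] [IsDomain R] [HenselianLocalRing R] [IsNoetherianRing R]
  [CommRing T] [IsLocalRing T] [IsNoetherianRing T] [Algebra R T] [Module.FaithfullyFlat R T]

/-- **A minimal prime of dimension one of `T` is the only minimal prime.** -/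
theorem minimalPrimes_unique_of_dim_one
    (hdense : ∀ (k : ℕ) (x : T), ∃ r : R,
      x - algebraMap R T r ∈ Ideal.map (algebraMap R T) (maximalIdeal R ^ k))
    (q : Ideal T) (hq : q ∈ minimalPrimes T) (hdim : ringKrullDim (T ⧸ q) = 1) :
    ∀ q₂ ∈ minimalPrimes T, q₂ = q := by
  classical
  by_contra hcon
  push_neg at hcon
  obtain ⟨q₂, hq₂, hne⟩ := hcon
  haveI hqp : q.IsPrime := hq.1.1
  haveI hq₂p : q₂.IsPrime := hq₂.1.1
  set f := algebraMap R T with hf
  have hfm : ∀ x ∈ maximalIdeal R, f x ∈ maximalIdeal T := by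
    intro x hx
    rw [mem_maximalIdeal, mem_nonunits_iff] at hx ⊢
    intro hu
    exact hx (Groth.Agent.Lib.UnibranchH3.isUnit_of_isUnit_algebraMap_of_faithfullyFlat hu)
  have hmne : maximalIdeal R ≠ ⊥ := by
    intro hbot
    have hsurj : Function.Surjective f := by
      intro x
      obtain ⟨r, hr⟩ := hdense 1 x
      rw [pow_one, hbot, Ideal.map_bot, Ideal.mem_bot, sub_eq_zero] at hr
      exact ⟨r, hr.symm⟩
    have hfield : IsField R := IsLocalRing.isField_iff_maximalIdeal_eq.mpr hbot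
    have h1 : ringKrullDim (T ⧸ q) ≤ ringKrullDim R :=
      ringKrullDim_le_of_surjective ((Ideal.Quotient.mk q).comp f)
        (Ideal.Quotient.mk_surjective.comp hsurj)
    rw [hdim, ringKrullDim_eq_zero_of_isField hfield] at h1
    exact absurd h1 (by norm_num)
  obtain ⟨t, htm, ht0⟩ := Submodule.exists_mem_ne_zero_of_ne_bot hmne
  have hτ : ∀ P ∈ minimalPrimes T, f t ∉ P := by
    intro P hP hmem
    have hnzd : f t ∈ nonZeroDivisors T := by
      rw [mem_nonZeroDivisors_iff_right]
      intro x hx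
      apply mul_cancel_of_flat t ht0 1 x 0
      rw [pow_one, mul_zero, mul_comm]; exact hx
    exact Set.disjoint_left.mp (Ideal.disjoint_nonZeroDivisors_of_mem_minimalPrimes hP) hmem hnzd
  have hfin : (minimalPrimes T).Finite := minimalPrimes.finite_of_isNoetherianRing T
  set Q : Set (Ideal T) := minimalPrimes T \ {q} with hQ
  have hQfin : Q.Finite := hfin.subset Set.diff_subset
  set 𝔟₁ : Ideal T := sInf Q with h𝔟₁
  have hq₂Q : q₂ ∈ Q := ⟨hq₂, hne⟩
  have h𝔟₁le : 𝔟₁ ≤ q₂ := sInf_le hq₂Q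
  have hinf : q ⊓ 𝔟₁ = nilradical T := by
    rw [h𝔟₁, ← sInf_insert, hQ, Set.insert_diff_singleton, Set.insert_eq_of_mem hq]
    exact Ideal.sInf_minimalPrimes
  obtain ⟨r, hr⟩ := IsNoetherianRing.isNilpotent_nilradical T
  have hrad : ∀ P : Ideal T, P.IsPrime → q ⊔ 𝔟₁ ≤ P → P = maximalIdeal T := by
    intro P hP hle
    haveI := hP
    have hqP : q ≤ P := le_sup_left.trans hle
    have hbP : 𝔟₁ ≤ P := le_sup_right.trans hle
    have hex : ∃ qi ∈ Q, qi ≤ P := by
      have h1 : hQfin.toFinset.inf id ≤ P := by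
        rw [Finset.inf_id_eq_sInf, Set.Finite.coe_toFinset]; exact hbP
      obtain ⟨qi, hqi, hle⟩ := (Ideal.IsPrime.inf_le' hP).mp h1
      exact ⟨qi, (Set.Finite.mem_toFinset hQfin).mp hqi, hle⟩
    obtain ⟨qi, hqiQ, hqiP⟩ := hex
    have hPq : P ≠ q := by
      rintro rfl
      have := hq.2 ⟨hqiQ.1.1.1, bot_le⟩ hqiP
      exact hqiQ.2 (le_antisymm hqiP this)
    haveI : Ring.KrullDimLE 1 (T ⧸ q) := Ring.krullDimLE_iff.mpr (by rw [hdim]; rfl)
    have hPmap : (P.map (Ideal.Quotient.mk q)).IsPrime :=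
      Ideal.map_isPrime_of_surjective Ideal.Quotient.mk_surjective (by rw [Ideal.mk_ker]; exact hqP)
    have hne' : P.map (Ideal.Quotient.mk q) ≠ ⊥ := by
      intro h
      apply hPq
      have : P ≤ q := by
        rw [← Ideal.mk_ker (I := q), ← Ideal.map_eq_bot_iff_le_ker]; exact h
      exact le_antisymm this hqP
    have hmax := hPmap.isMaximal_of_ne_bot hne'
    have hcomap : (P.map (Ideal.Quotient.mk q)).comap (Ideal.Quotient.mk q) = P := by
      rw [Ideal.comap_map_of_surjective _ Ideal.Quotient.mk_surjective, ← RingHom.ker_eq_comap_bot,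
        Ideal.mk_ker]
      exact sup_eq_left.mpr hqP
    have hPmax : P.IsMaximal := by
      rw [← hcomap]; exact Ideal.comap_isMaximal_of_surjective _ Ideal.Quotient.mk_surjective
    exact IsLocalRing.eq_maximalIdeal hPmax
  have hsup_le : q ⊔ 𝔟₁ ≤ maximalIdeal T :=
    sup_le (IsLocalRing.le_maximalIdeal hqp.ne_top)
      (h𝔟₁le.trans (IsLocalRing.le_maximalIdeal hq₂p.ne_top))
  have hradeq : (q ⊔ 𝔟₁).radical = maximalIdeal T := by
    rw [Ideal.radical_eq_sInf]
    apply le_antisymm
    · exact sInf_le ⟨hsup_le, inferInstance⟩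
    · apply le_sInf
      rintro P ⟨hle, hP⟩
      rw [hrad P hP hle]
  obtain ⟨N₀, hN₀⟩ := Ideal.exists_pow_le_of_le_radical_of_fg (I := maximalIdeal T)
    (J := q ⊔ 𝔟₁) hradeq.ge (IsNoetherian.noetherian _)
  have hab : q ^ (r + 1) * 𝔟₁ ^ (r + 1) = ⊥ := by
    rw [← mul_pow, eq_bot_iff]
    calc (q * 𝔟₁) ^ (r + 1) ≤ (q ⊓ 𝔟₁) ^ (r + 1) := Ideal.pow_right_mono Ideal.mul_le_inf (r + 1)
      _ = nilradical T ^ (r + 1) := by rw [hinf]
      _ = ⊥ := by rw [pow_succ, hr, Ideal.zero_eq_bot, Ideal.bot_mul]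
  set N := N₀ * ((r + 1) + (r + 1)) with hNdef
  have hN : maximalIdeal T ^ N ≤ q ^ (r + 1) ⊔ 𝔟₁ ^ (r + 1) := by
    rw [hNdef, pow_mul]
    exact (Ideal.pow_right_mono hN₀ _).trans Ideal.sup_pow_add_le_pow_sup_pow
  have hτN : f t ^ N ∈ q ^ (r + 1) ⊔ 𝔟₁ ^ (r + 1) := hN (Ideal.pow_mem_pow (hfm t htm) N)
  obtain ⟨a, ha, b, hb, hab'⟩ := Submodule.mem_sup.mp hτN
  have hzero : ∀ x ∈ q ^ (r + 1), ∀ y ∈ 𝔟₁ ^ (r + 1), x * y = 0 := by
    intro x hx y hy
    have := Ideal.mul_mem_mul hx hy
    rw [hab] at this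
    exact this
  have hb2 : b * b = f t ^ N * b := by
    rw [← hab', add_mul, hzero a ha b hb, zero_add]
  have hbm : ∀ s ∈ maximalIdeal R ^ N, f s * b ∈ Ideal.span {f t ^ N} := by
    intro s hs
    have hfs : f s ∈ maximalIdeal T ^ N := by
      have : Ideal.map f (maximalIdeal R ^ N) ≤ maximalIdeal T ^ N := by
        rw [Ideal.map_pow]
        exact Ideal.pow_right_mono (Ideal.map_le_iff_le_comap.mpr hfm) N
      exact this (Ideal.mem_map_of_mem _ hs)
    obtain ⟨as, has, bs, hbs, hs'⟩ := Submodule.mem_sup.mp (hN hfs)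
    rw [Ideal.mem_span_singleton']
    refine ⟨bs, ?_⟩
    rw [← hab', ← hs', mul_add, add_mul, hzero as has b hb, zero_add, mul_comm bs a,
      hzero a ha bs hbs, zero_add]
  rcases eq_zero_or_eq_pow hdense t ht0 N b hb2 hbm with h0 | h1
  · have : f t ^ N ∈ q := by
      rw [← hab', h0, add_zero]; exact Ideal.pow_le_self (Nat.succ_ne_zero r) ha
    exact hτ q hq (hqp.mem_of_pow_mem N this)
  · have : f t ^ N ∈ q₂ := by
      rw [← h1]; exact h𝔟₁le (Ideal.pow_le_self (Nat.succ_ne_zero r) hb)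
    exact hτ q₂ hq₂ (hq₂p.mem_of_pow_mem N this)

end Unique

section Main

variable (A S : Type u) [CommRing A] [IsLocalRing A]
    [IsNoetherianRing A] [CommRing S] [IsLocalRing S] [Algebra A S] [IsLocalHom (algebraMap A S)]
    [Hensel.IsHenselization A S]

include A in
theorem isNoetherianRing_of_isHenselization : IsNoetherianRing S := by
  obtain ⟨e, -⟩ := Groth.Agent.Lib.HenselizationH3.exists_ringEquiv_hens (R := A) S
  exact isNoetherianRing_of_ringEquiv _ e.symm

/-- **A minimal prime of dimension one of the completion is the radical of the extension of a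
minimal prime of the henselization.** -/
theorem exists_minimalPrime_radical_eq
    (ψ : S →+* AdicCompletion (maximalIdeal A) A)
    (hψ : ψ.comp (algebraMap A S) = algebraMap A (AdicCompletion (maximalIdeal A) A))
    (q : Ideal (AdicCompletion (maximalIdeal A) A))
    (hq : q ∈ minimalPrimes (AdicCompletion (maximalIdeal A) A))
    (hdim : ringKrullDim (AdicCompletion (maximalIdeal A) A ⧸ q) = 1) :
    ∃ q' ∈ minimalPrimes S, (Ideal.map ψ q').radical = q := by
  obtain ⟨hloc, hnoeth, hcompl, hff, hlh, hmax⟩ := AnUnramH3.completion_facts A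
  haveI := hloc
  haveI := hnoeth
  haveI hloc0 : IsLocalHom (ψ.comp (algebraMap A S)) := by
    rw [hψ]; exact hlh
  haveI : IsLocalHom ψ := Groth.Agent.Lib.HensInductionH3.isLocalHom_of_comp A S ψ hloc0
  letI : Algebra S (AdicCompletion (maximalIdeal A) A) := ψ.toAlgebra
  haveI : IsScalarTower A S (AdicCompletion (maximalIdeal A) A) :=
    IsScalarTower.of_algebraMap_eq (fun a => (DFunLike.congr_fun hψ a).symm)
  haveI : Module.Flat S (AdicCompletion (maximalIdeal A) A) :=
    Groth.Agent.Lib.IndEtaleH3.flat_of_flat_of_isIndEtale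
      (Groth.Agent.Lib.UnibranchH3.isIndEtale_of_isHenselization A S) _
  haveI : IsLocalHom (algebraMap S (AdicCompletion (maximalIdeal A) A)) :=
    (inferInstance : IsLocalHom ψ)
  haveI : Module.FaithfullyFlat S (AdicCompletion (maximalIdeal A) A) :=
    Module.FaithfullyFlat.of_flat_of_isLocalHom
  haveI hSh : HenselianLocalRing S := Hensel.IsHenselization.henselian A
  haveI : IsNoetherianRing S := isNoetherianRing_of_isHenselization A S
  haveI hqp : q.IsPrime := hq.1.1
  set q' := q.comap (algebraMap S (AdicCompletion (maximalIdeal A) A)) with hq'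
  have hq'min : q' ∈ minimalPrimes S := comap_mem_minimalPrimes_of_flat q hq
  haveI hq'p : q'.IsPrime := hq'min.1.1
  refine ⟨q', hq'min, ?_⟩
  show (Ideal.map (algebraMap S (AdicCompletion (maximalIdeal A) A)) q').radical = q
  set J := q'.map (algebraMap S (AdicCompletion (maximalIdeal A) A)) with hJ
  have hJq : J ≤ q := Ideal.map_comap_le
  have hJm : J ≤ maximalIdeal (AdicCompletion (maximalIdeal A) A) :=
    hJq.trans (le_maximalIdeal hqp.ne_top)
  have hq'm : q' ≤ maximalIdeal S := le_maximalIdeal hq'p.ne_top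
  haveI : IsLocalRing (S ⧸ q') := Groth.Agent.Lib.UnibranchH3.isLocalRing_quotient q' hq'm
  haveI : HenselianLocalRing (S ⧸ q') := Groth.Agent.S0505.result S _
  haveI : IsLocalRing (AdicCompletion (maximalIdeal A) A ⧸ J) :=
    Groth.Agent.Lib.UnibranchH3.isLocalRing_quotient J hJm
  haveI : Module.FaithfullyFlat (S ⧸ q') (AdicCompletion (maximalIdeal A) A ⧸ J) :=
    Groth.Agent.Lib.IndEtaleH3.faithfullyFlat_quotient q'
  -- density
  have hdense : ∀ (k : ℕ) (x : AdicCompletion (maximalIdeal A) A ⧸ J), ∃ r : S ⧸ q',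
      x - algebraMap (S ⧸ q') (AdicCompletion (maximalIdeal A) A ⧸ J) r ∈
        Ideal.map (algebraMap (S ⧸ q') (AdicCompletion (maximalIdeal A) A ⧸ J))
          (maximalIdeal (S ⧸ q') ^ k) := by
    intro k x
    obtain ⟨x, rfl⟩ := Ideal.Quotient.mk_surjective x
    obtain ⟨a, ha⟩ := Groth.Agent.Lib.FSAdicComplH3.exists_sub_mem_map_pow (maximalIdeal A)
      (IsNoetherian.noetherian _) k x
    refine ⟨Ideal.Quotient.mk q' (algebraMap A S a), ?_⟩
    have h1 : Ideal.Quotient.mk J x - algebraMap (S ⧸ q') (AdicCompletion (maximalIdeal A) A ⧸ J)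
        (Ideal.Quotient.mk q' (algebraMap A S a)) =
        Ideal.Quotient.mk J (x - algebraMap A (AdicCompletion (maximalIdeal A) A) a) := by
      rw [map_sub, IsScalarTower.algebraMap_apply A S (AdicCompletion (maximalIdeal A) A)]
      rfl
    rw [h1]
    set g : A →+* S ⧸ q' := (Ideal.Quotient.mk q').comp (algebraMap A S) with hg
    have hcomp : (Ideal.Quotient.mk J).comp (algebraMap A (AdicCompletion (maximalIdeal A) A)) =
        (algebraMap (S ⧸ q') (AdicCompletion (maximalIdeal A) A ⧸ J)).comp g := by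
      ext a
      simp only [RingHom.comp_apply, hg]
      rw [IsScalarTower.algebraMap_apply A S (AdicCompletion (maximalIdeal A) A)]
      rfl
    have hgm : Ideal.map g (maximalIdeal A) ≤ maximalIdeal (S ⧸ q') := by
      rw [Ideal.map_le_iff_le_comap]
      intro a ha
      rw [Ideal.mem_comap, hg, RingHom.comp_apply]
      apply Groth.Agent.Lib.UnibranchH3.mk_mem_maximalIdeal_quotient q' hq'm
      exact _root_.map_nonunit (algebraMap A S) a ha
    have h2 : Ideal.map (Ideal.Quotient.mk J)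
        (Ideal.map (algebraMap A (AdicCompletion (maximalIdeal A) A)) (maximalIdeal A ^ k)) ≤
        Ideal.map (algebraMap (S ⧸ q') (AdicCompletion (maximalIdeal A) A ⧸ J))
          (maximalIdeal (S ⧸ q') ^ k) := by
      rw [Ideal.map_map, hcomp, ← Ideal.map_map]
      apply Ideal.map_mono
      rw [Ideal.map_pow]
      exact Ideal.pow_right_mono hgm k
    exact h2 (Ideal.mem_map_of_mem _ ha)
  -- the prime `q̄`
  have hqmem : q ∈ J.minimalPrimes := (mem_minimalPrimes_map_iff q' hq'min q).mpr ⟨hq, rfl⟩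
  rw [Ideal.minimalPrimes_eq_comap] at hqmem
  obtain ⟨qb, hqb, hqbq⟩ := hqmem
  have hqb' : qb = q.map (Ideal.Quotient.mk J) := by
    rw [← hqbq, Ideal.map_comap_of_surjective _ Ideal.Quotient.mk_surjective]
  have hdim' : ringKrullDim ((AdicCompletion (maximalIdeal A) A ⧸ J) ⧸ qb) = 1 := by
    rw [hqb', ← hdim]
    exact ringKrullDim_eq_of_ringEquiv (DoubleQuot.quotQuotEquivQuotOfLE hJq)
  have huniq := minimalPrimes_unique_of_dim_one hdense qb hqb hdim'
  have hmin : J.minimalPrimes = {q} := by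
    rw [Ideal.minimalPrimes_eq_comap]
    ext P
    constructor
    · rintro ⟨Pb, hPb, rfl⟩
      rw [huniq Pb hPb, hqbq]; rfl
    · rintro rfl
      exact ⟨qb, hqb, hqbq⟩
  rw [← Ideal.sInf_minimalPrimes, hmin, sInf_singleton]

end Main

end Groth.Agent.Lib.HensBranchesH3
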