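import Mathlib
import Groth.Prelude.Def_Brnch
import Groth.Agent.Lib.HensBranches6_helper3
import Groth.Agent.Lib.IndEtaleNil_helper3

/-!
# One geometric branch iff geometrically unibranch (helper3)
-/

set_option autoImplicit false
set_option maxSynthPendingDepth 3
universe u

namespace Groth.Agent.Lib.HensBranchesH3

open IsLocalRing Groth.Agent.Lib.IndEtaleH3

theorem isDomain_quotient_nilradical_iff (B : Type u) [CommRing B] :
    IsDomain (B ⧸ nilradical B) ↔ ENat.card (minimalPrimes B) = 1 := by
  rw [ENat.card_eq_one_iff_unique]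
  constructor
  · intro hdom
    have hp : (nilradical B).IsPrime := (Ideal.Quotient.isDomain_iff_prime _).mp hdom
    refine ⟨⟨⟨⟨nilradical B, ⟨⟨hp, bot_le⟩, fun P hP _ => ?_⟩⟩⟩, ?_⟩⟩
    · haveI := hP.1
      exact nilradical_le_prime P
    · rintro ⟨q, hq⟩
      apply Subtype.ext
      haveI := hq.1.1
      exact le_antisymm (hq.2 ⟨hp, bot_le⟩ (nilradical_le_prime q)) (nilradical_le_prime q)
  · rintro ⟨u⟩
    obtain ⟨q₀, hq₀⟩ : ∃ q₀ : Ideal B, q₀ ∈ minimalPrimes B := ⟨u.default.1, u.default.2⟩
    have huniq : ∀ P ∈ minimalPrimes B, P = q₀ := fun P hP =>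
      congrArg Subtype.val ((u.uniq ⟨P, hP⟩).trans (u.uniq ⟨q₀, hq₀⟩).symm)
    have hmin : minimalPrimes B = {q₀} := by
      ext P
      constructor
      · intro hP
        exact huniq P hP
      · rintro rfl
        exact hq₀
    have hnil : nilradical B = q₀ := by
      have h1 : sInf (minimalPrimes B) = nilradical B := Ideal.sInf_minimalPrimes
      rw [← h1, hmin, sInf_singleton]
    have hp : (nilradical B).IsPrime := by
      rw [hnil]; exact hq₀.1.1
    exact (Ideal.Quotient.isDomain_iff_prime _).mpr hp

/-- **One geometric branch iff geometrically unibranch.** -/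
theorem numGeomBranches_eq_one_iff (A : Type u) [CommRing A] [IsLocalRing A] :
    Brnch.numGeomBranches A = 1 ↔ CAlg2.IsGeomUnibranch A := by
  haveI := Groth.Agent.Lib.StrictHens.isStrictHenselization_shens (R := A)
  have hie := Groth.Agent.Lib.StrictHens.isIndEtale_of_isStrictHenselization (R := A)
    (Groth.Agent.Lib.StrictHens.SHens A)
  have hJ : (nilradical A).map (algebraMap A (Groth.Agent.Lib.StrictHens.SHens A)) =
      nilradical (Groth.Agent.Lib.StrictHens.SHens A) := nilradical_map_of_isIndEtale hie
  rw [← card_minimalPrimes_strictHenselization A (Groth.Agent.Lib.StrictHens.SHens A),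
    Groth.Agent.Lib.UnibranchH3.isGeomUnibranch_iff_isDomain_quotient A
      (Groth.Agent.Lib.StrictHens.SHens A),
    ← isDomain_quotient_nilradical_iff]
  constructor
  · intro h
    rw [hJ]; exact h
  · intro h
    rw [hJ] at h; exact h

end Groth.Agent.Lib.HensBranchesH3
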