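import Mathlib
import Groth.Prelude.Def_Brnch
import Groth.Agent.Lib.HensBranches4_helper3
import Groth.Agent.Lib.HensBranches7_helper3

/-!
# The completion has at least as many (geometric) branches (helper3)
-/

set_option autoImplicit false
set_option maxSynthPendingDepth 3
universe u

namespace Groth.Agent.Lib.HensBranchesH3

open IsLocalRing Groth.Agent.Lib.IndEtaleH3

section LE

variable {S B : Type u} [CommRing S] [CommRing B] [Algebra S B] [Module.FaithfullyFlat S B]

theorem card_minimalPrimes_le_of_faithfullyFlat :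
    ENat.card (minimalPrimes S) ≤ ENat.card (minimalPrimes B) := by
  let c : minimalPrimes B → minimalPrimes S := fun P =>
    ⟨P.1.comap (algebraMap S B), comap_mem_minimalPrimes_of_flat P.1 P.2⟩
  have hc : Function.Surjective c := by
    rintro ⟨q, hq⟩
    obtain ⟨P, hP, hPq⟩ := exists_minimalPrimes_comap_eq_of_faithfullyFlat (B := B) q hq
    exact ⟨⟨P, hP⟩, Subtype.ext hPq⟩
  exact ENat.card_le_card_of_injective (Function.injective_surjInv hc)

end LE

section Main

variable (A : Type u) [CommRing A] [IsLocalRing A] [IsNoetherianRing A]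

theorem numBranches_le_completion :
    Brnch.numBranches A ≤ Brnch.numBranches (AdicCompletion (maximalIdeal A) A) := by
  obtain ⟨hloc, hnoeth, hcompl, hff, hlh, hmax⟩ := AnUnramH3.completion_facts A
  haveI := hloc
  haveI := hnoeth
  haveI := hcompl
  haveI hh : HenselianLocalRing (AdicCompletion (maximalIdeal A) A) :=
    Groth.Agent.Lib.CompleteFiniteH3.henselianLocalRing_of_isAdicComplete _
  haveI hH := Groth.Agent.Lib.HenselizationH3.isHenselization_hens (R := A)
  obtain ⟨ψ, hψ, -⟩ := hH.universal (AdicCompletion (maximalIdeal A) A)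
    (algebraMap A (AdicCompletion (maximalIdeal A) A)) hlh
  haveI hloc0 : IsLocalHom (ψ.comp (algebraMap A (Groth.Agent.Lib.HenselizationH3.Hens A))) := by
    rw [hψ]; exact hlh
  haveI : IsLocalHom ψ := Groth.Agent.Lib.HensInductionH3.isLocalHom_of_comp A
    (Groth.Agent.Lib.HenselizationH3.Hens A) ψ hloc0
  letI : Algebra (Groth.Agent.Lib.HenselizationH3.Hens A) (AdicCompletion (maximalIdeal A) A) :=
    ψ.toAlgebra
  haveI : IsScalarTower A (Groth.Agent.Lib.HenselizationH3.Hens A)
      (AdicCompletion (maximalIdeal A) A) :=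
    IsScalarTower.of_algebraMap_eq (fun a => (DFunLike.congr_fun hψ a).symm)
  haveI : Module.Flat (Groth.Agent.Lib.HenselizationH3.Hens A)
      (AdicCompletion (maximalIdeal A) A) :=
    flat_of_flat_of_isIndEtale
      (Groth.Agent.Lib.UnibranchH3.isIndEtale_of_isHenselization A
        (Groth.Agent.Lib.HenselizationH3.Hens A)) _
  haveI : IsLocalHom (algebraMap (Groth.Agent.Lib.HenselizationH3.Hens A)
      (AdicCompletion (maximalIdeal A) A)) := (inferInstance : IsLocalHom ψ)
  haveI : Module.FaithfullyFlat (Groth.Agent.Lib.HenselizationH3.Hens A)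
      (AdicCompletion (maximalIdeal A) A) := Module.FaithfullyFlat.of_flat_of_isLocalHom
  rw [numBranches_completion_eq_card A,
    ← card_minimalPrimes_henselization A (Groth.Agent.Lib.HenselizationH3.Hens A)]
  exact card_minimalPrimes_le_of_faithfullyFlat

theorem numGeomBranches_le_completion :
    Brnch.numGeomBranches A ≤ Brnch.numGeomBranches (AdicCompletion (maximalIdeal A) A) := by
  obtain ⟨hloc, hnoeth, hcompl, hff, hlh, hmax⟩ := AnUnramH3.completion_facts A
  haveI := hloc
  haveI := hlh
  haveI h₁ := Groth.Agent.Lib.StrictHens.isStrictHenselization_shens (R := A)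
  haveI h₂ := Groth.Agent.Lib.StrictHens.isStrictHenselization_shens
    (R := AdicCompletion (maximalIdeal A) A)
  let f : A →+* Groth.Agent.Lib.StrictHens.SHens (AdicCompletion (maximalIdeal A) A) :=
    (algebraMap (AdicCompletion (maximalIdeal A) A)
      (Groth.Agent.Lib.StrictHens.SHens (AdicCompletion (maximalIdeal A) A))).comp
      (algebraMap A (AdicCompletion (maximalIdeal A) A))
  haveI hfloc : IsLocalHom f := RingHom.isLocalHom_comp _ _
  letI : Algebra (ResidueField A)
      (ResidueField (Groth.Agent.Lib.StrictHens.SHens (AdicCompletion (maximalIdeal A) A))) :=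
    (ResidueField.map f).toAlgebra
  haveI : Algebra.IsSeparable (ResidueField A)
      (ResidueField (Groth.Agent.Lib.StrictHens.SHens A)) := h₁.isSepClosure.separable
  haveI : IsSepClosed
      (ResidueField (Groth.Agent.Lib.StrictHens.SHens (AdicCompletion (maximalIdeal A) A))) :=
    h₂.isSepClosure.sep_closed
  let τ₀ : ResidueField (Groth.Agent.Lib.StrictHens.SHens A) →ₐ[ResidueField A]
      ResidueField (Groth.Agent.Lib.StrictHens.SHens (AdicCompletion (maximalIdeal A) A)) :=
    IsSepClosed.lift
  have hτ : τ₀.toRingHom.comp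
      (ResidueField.map (algebraMap A (Groth.Agent.Lib.StrictHens.SHens A))) =
      ResidueField.map f := by
    ext x
    exact τ₀.commutes x
  obtain ⟨g, ⟨hg1, hg2⟩, -⟩ := h₁.universal
    (Groth.Agent.Lib.StrictHens.SHens (AdicCompletion (maximalIdeal A) A)) f τ₀.toRingHom hτ
  haveI hgloc : IsLocalHom g := by
    refine ((local_hom_TFAE g).out 0 3).mpr ?_
    intro x hx
    rw [Ideal.mem_comap, ← residue_eq_zero_iff, hg2]
    rw [← residue_eq_zero_iff] at hx
    rw [hx, map_zero]
  letI : Algebra (Groth.Agent.Lib.StrictHens.SHens A)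
      (Groth.Agent.Lib.StrictHens.SHens (AdicCompletion (maximalIdeal A) A)) := g.toAlgebra
  letI : Algebra A (Groth.Agent.Lib.StrictHens.SHens (AdicCompletion (maximalIdeal A) A)) :=
    f.toAlgebra
  haveI : IsScalarTower A (Groth.Agent.Lib.StrictHens.SHens A)
      (Groth.Agent.Lib.StrictHens.SHens (AdicCompletion (maximalIdeal A) A)) :=
    IsScalarTower.of_algebraMap_eq (fun a => (DFunLike.congr_fun hg1 a).symm)
  haveI : IsScalarTower A (AdicCompletion (maximalIdeal A) A)
      (Groth.Agent.Lib.StrictHens.SHens (AdicCompletion (maximalIdeal A) A)) :=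
    IsScalarTower.of_algebraMap_eq (fun a => rfl)
  haveI : Module.FaithfullyFlat (AdicCompletion (maximalIdeal A) A)
      (Groth.Agent.Lib.StrictHens.SHens (AdicCompletion (maximalIdeal A) A)) :=
    Groth.Agent.Lib.StrictHens.faithfullyFlat_of_isStrictHenselization
      (R := AdicCompletion (maximalIdeal A) A) _
  haveI := hff
  haveI : Module.Flat A (AdicCompletion (maximalIdeal A) A) := inferInstance
  haveI : Module.Flat A (Groth.Agent.Lib.StrictHens.SHens (AdicCompletion (maximalIdeal A) A)) :=
    Module.Flat.trans A (AdicCompletion (maximalIdeal A) A) _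
  haveI : Module.Flat (Groth.Agent.Lib.StrictHens.SHens A)
      (Groth.Agent.Lib.StrictHens.SHens (AdicCompletion (maximalIdeal A) A)) :=
    flat_of_flat_of_isIndEtale
      (Groth.Agent.Lib.StrictHens.isIndEtale_of_isStrictHenselization (R := A)
        (Groth.Agent.Lib.StrictHens.SHens A)) _
  haveI : IsLocalHom (algebraMap (Groth.Agent.Lib.StrictHens.SHens A)
      (Groth.Agent.Lib.StrictHens.SHens (AdicCompletion (maximalIdeal A) A))) := hgloc
  haveI : Module.FaithfullyFlat (Groth.Agent.Lib.StrictHens.SHens A)
      (Groth.Agent.Lib.StrictHens.SHens (AdicCompletion (maximalIdeal A) A)) :=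
    Module.FaithfullyFlat.of_flat_of_isLocalHom
  rw [← card_minimalPrimes_strictHenselization A (Groth.Agent.Lib.StrictHens.SHens A),
    ← card_minimalPrimes_strictHenselization (AdicCompletion (maximalIdeal A) A)
      (Groth.Agent.Lib.StrictHens.SHens (AdicCompletion (maximalIdeal A) A))]
  exact card_minimalPrimes_le_of_faithfullyFlat

end Main

end Groth.Agent.Lib.HensBranchesH3
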