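import Mathlib
import Groth.Prelude.Def_Brnch
import Groth.Agent.Lib.HensBranches8_helper3

/-!
# Dimension one: abstract comparison of minimal primes along a dense faithfully flat map (helper3)
-/

set_option autoImplicit false
set_option maxSynthPendingDepth 3
universe u

namespace Groth.Agent.Lib.HensBranchesH3

open IsLocalRing Groth.Agent.Lib.IndEtaleH3

section Abstract

variable {S B : Type u} [CommRing S] [HenselianLocalRing S] [IsNoetherianRing S]
  [CommRing B] [IsLocalRing B] [IsNoetherianRing B] [Algebra S B] [Module.FaithfullyFlat S B]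

/-- **Abstract form**: a minimal prime `q` of `B` with `dim B/q = 1` is the radical of the
extension of its contraction. -/
theorem radical_map_comap_eq_of_dim_one
    (hdense : ∀ (k : ℕ) (x : B), ∃ r : S,
      x - algebraMap S B r ∈ Ideal.map (algebraMap S B) (maximalIdeal S ^ k))
    (q : Ideal B) (hq : q ∈ minimalPrimes B) (hdim : ringKrullDim (B ⧸ q) = 1) :
    (Ideal.map (algebraMap S B) (q.comap (algebraMap S B))).radical = q := by
  haveI hqp : q.IsPrime := hq.1.1
  set q' := q.comap (algebraMap S B) with hq'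
  have hq'min : q' ∈ minimalPrimes S := comap_mem_minimalPrimes_of_flat q hq
  haveI hq'p : q'.IsPrime := hq'min.1.1
  set J := q'.map (algebraMap S B) with hJ
  have hJq : J ≤ q := Ideal.map_comap_le
  have hJm : J ≤ maximalIdeal B := hJq.trans (le_maximalIdeal hqp.ne_top)
  have hq'm : q' ≤ maximalIdeal S := le_maximalIdeal hq'p.ne_top
  haveI : IsLocalRing (S ⧸ q') := Groth.Agent.Lib.UnibranchH3.isLocalRing_quotient q' hq'm
  haveI : HenselianLocalRing (S ⧸ q') := Groth.Agent.S0505.result S _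
  haveI : IsLocalRing (B ⧸ J) := Groth.Agent.Lib.UnibranchH3.isLocalRing_quotient J hJm
  haveI : Module.FaithfullyFlat (S ⧸ q') (B ⧸ J) := faithfullyFlat_quotient q'
  have hdense' : ∀ (k : ℕ) (x : B ⧸ J), ∃ r : S ⧸ q',
      x - algebraMap (S ⧸ q') (B ⧸ J) r ∈
        Ideal.map (algebraMap (S ⧸ q') (B ⧸ J)) (maximalIdeal (S ⧸ q') ^ k) := by
    intro k x
    obtain ⟨x, rfl⟩ := Ideal.Quotient.mk_surjective x
    obtain ⟨r, hr⟩ := hdense k x
    refine ⟨Ideal.Quotient.mk q' r, ?_⟩
    have h1 : Ideal.Quotient.mk J x - algebraMap (S ⧸ q') (B ⧸ J) (Ideal.Quotient.mk q' r) =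
        Ideal.Quotient.mk J (x - algebraMap S B r) := by
      rw [map_sub]
      rfl
    rw [h1]
    have hcomp : (Ideal.Quotient.mk J).comp (algebraMap S B) =
        (algebraMap (S ⧸ q') (B ⧸ J)).comp (Ideal.Quotient.mk q') := by
      ext a
      rfl
    have hgm : Ideal.map (Ideal.Quotient.mk q') (maximalIdeal S) ≤ maximalIdeal (S ⧸ q') := by
      rw [Ideal.map_le_iff_le_comap]
      intro a ha
      rw [Ideal.mem_comap]
      exact Groth.Agent.Lib.UnibranchH3.mk_mem_maximalIdeal_quotient q' hq'm _ ha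
    have h2 : Ideal.map (Ideal.Quotient.mk J)
        (Ideal.map (algebraMap S B) (maximalIdeal S ^ k)) ≤
        Ideal.map (algebraMap (S ⧸ q') (B ⧸ J)) (maximalIdeal (S ⧸ q') ^ k) := by
      rw [Ideal.map_map, hcomp, ← Ideal.map_map]
      apply Ideal.map_mono
      rw [Ideal.map_pow]
      exact Ideal.pow_right_mono hgm k
    exact h2 (Ideal.mem_map_of_mem _ hr)
  have hqmem : q ∈ J.minimalPrimes := (mem_minimalPrimes_map_iff q' hq'min q).mpr ⟨hq, rfl⟩
  rw [Ideal.minimalPrimes_eq_comap] at hqmem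
  obtain ⟨qb, hqb, hqbq⟩ := hqmem
  have hqb' : qb = q.map (Ideal.Quotient.mk J) := by
    rw [← hqbq, Ideal.map_comap_of_surjective _ Ideal.Quotient.mk_surjective]
  have hdim' : ringKrullDim ((B ⧸ J) ⧸ qb) = 1 := by
    rw [hqb', ← hdim]
    exact ringKrullDim_eq_of_ringEquiv (DoubleQuot.quotQuotEquivQuotOfLE hJq)
  have huniq := minimalPrimes_unique_of_dim_one hdense' qb hqb hdim'
  have hmin : J.minimalPrimes = {q} := by
    rw [Ideal.minimalPrimes_eq_comap]
    ext P
    constructor
    · rintro ⟨Pb, hPb, rfl⟩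
      rw [huniq Pb hPb, hqbq]; rfl
    · rintro rfl
      exact ⟨qb, hqb, hqbq⟩
  rw [← Ideal.sInf_minimalPrimes, hmin, sInf_singleton]

theorem card_minimalPrimes_eq_of_dim_one
    (hdense : ∀ (k : ℕ) (x : B), ∃ r : S,
      x - algebraMap S B r ∈ Ideal.map (algebraMap S B) (maximalIdeal S ^ k))
    (hdim : ∀ q ∈ minimalPrimes B, ringKrullDim (B ⧸ q) = 1) :
    ENat.card (minimalPrimes S) = ENat.card (minimalPrimes B) := by
  rw [card_minimalPrimes_eq_iff (minimalPrimes.finite_of_isNoetherianRing B)]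
  intro q' hq'
  obtain ⟨P, hP, hPq⟩ := exists_minimalPrimes_comap_eq_of_faithfullyFlat (B := B) q' hq'
  have h1 := radical_map_comap_eq_of_dim_one hdense P hP (hdim P hP)
  rw [hPq] at h1
  rw [h1]
  exact hP.1.1

end Abstract

section Dim

theorem eq_one_of_le_one_of_not_le_zero (d : WithBot ℕ∞) (h1 : d ≤ 1) (h0 : ¬ d ≤ 0) : d = 1 := by
  apply le_antisymm h1
  rw [not_le] at h0
  induction d using WithBot.recBotCoe with
  | bot => exact absurd h0 (by simp)
  | coe n =>
    have h0' : (0 : ℕ∞) < n := by exact_mod_cast h0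
    have : (1 : ℕ∞) ≤ n := Order.one_le_iff_pos.mpr h0'
    exact_mod_cast this

variable {A B : Type u} [CommRing A] [IsLocalRing A] [CommRing B] [IsLocalRing B] [Algebra A B]
  [Module.Flat A B] [IsLocalHom (algebraMap A B)]

theorem ringKrullDim_quotient_eq_one_of_flat (hA : ringKrullDim A = 1) (hB : ringKrullDim B = 1)
    (P : Ideal B) (hP : P ∈ minimalPrimes B) : ringKrullDim (B ⧸ P) = 1 := by
  haveI hPp : P.IsPrime := hP.1.1
  apply eq_one_of_le_one_of_not_le_zero
  · rw [← hB]; exact ringKrullDim_quotient_le P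
  · intro h0
    haveI : Ring.KrullDimLE 0 (B ⧸ P) := Ring.krullDimLE_iff.mpr h0
    haveI : IsDomain (B ⧸ P) := Ideal.Quotient.isDomain P
    have hfield : IsField (B ⧸ P) := Ring.KrullDimLE.isField_of_isDomain
    have hmax : P.IsMaximal := Ideal.Quotient.maximal_of_isField P hfield
    have hPm : P = maximalIdeal B := IsLocalRing.eq_maximalIdeal hmax
    have h1 : P.comap (algebraMap A B) ∈ minimalPrimes A :=
      comap_mem_minimalPrimes_of_flat P hP
    rw [hPm, IsLocalRing.maximalIdeal_comap] at h1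
    have h2 : (maximalIdeal A).height = 0 := Ideal.height_eq_zero_iff.mpr h1
    have h3 := IsLocalRing.maximalIdeal_height_eq_ringKrullDim (R := A)
    rw [h2, hA] at h3
    exact absurd h3 (by norm_num)

end Dim

end Groth.Agent.Lib.HensBranchesH3
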