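import Mathlib
import Groth.Prelude.Def_Brnch
import Groth.Agent.Lib.HensBranches9_helper3
import Groth.Agent.Lib.CompletionRegular_helper5
import Groth.Agent.S0541

/-!
# Dimension one: the completion has the same number of (geometric) branches (helper3)
-/

set_option autoImplicit false
set_option maxSynthPendingDepth 3
universe u

namespace Groth.Agent.Lib.HensBranchesH3

open IsLocalRing Groth.Agent.Lib.IndEtaleH3 Groth.Agent.Lib.StrictHens

section Comparison

variable (A : Type u) [CommRing A] [IsLocalRing A] [IsNoetherianRing A]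

/-- the comparison map between the strict henselizations of `A` and of its completion -/
theorem exists_strict_comparison :
    ∃ (g : SHens A →+* SHens (AdicCompletion (maximalIdeal A) A))
      (τ₀ : ResidueField (SHens A) →+* ResidueField (SHens (AdicCompletion (maximalIdeal A) A))),
      g.comp (algebraMap A (SHens A)) =
        (algebraMap (AdicCompletion (maximalIdeal A) A)
          (SHens (AdicCompletion (maximalIdeal A) A))).comp
          (algebraMap A (AdicCompletion (maximalIdeal A) A)) ∧
      Function.Bijective τ₀ ∧ ∀ x, residue _ (g x) = τ₀ (residue _ x) := by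
  haveI h₁ := isStrictHenselization_shens (R := A)
  haveI h₂ := isStrictHenselization_shens (R := AdicCompletion (maximalIdeal A) A)
  let f : A →+* SHens (AdicCompletion (maximalIdeal A) A) :=
    (algebraMap (AdicCompletion (maximalIdeal A) A)
      (SHens (AdicCompletion (maximalIdeal A) A))).comp
      (algebraMap A (AdicCompletion (maximalIdeal A) A))
  haveI hfloc : IsLocalHom f := RingHom.isLocalHom_comp _ _
  letI : Algebra A (SHens (AdicCompletion (maximalIdeal A) A)) := f.toAlgebra
  haveI : IsScalarTower A (AdicCompletion (maximalIdeal A) A)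
      (SHens (AdicCompletion (maximalIdeal A) A)) :=
    IsScalarTower.of_algebraMap_eq (fun a => rfl)
  haveI : IsLocalHom (algebraMap A (SHens (AdicCompletion (maximalIdeal A) A))) := hfloc
  haveI : Algebra.IsSeparable (ResidueField A) (ResidueField (SHens A)) :=
    h₁.isSepClosure.separable
  haveI : IsSepClosed (ResidueField (SHens A)) := h₁.isSepClosure.sep_closed
  haveI : IsSepClosed (ResidueField (SHens (AdicCompletion (maximalIdeal A) A))) :=
    h₂.isSepClosure.sep_closed
  haveI : Algebra.IsSeparable (ResidueField (AdicCompletion (maximalIdeal A) A))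
      (ResidueField (SHens (AdicCompletion (maximalIdeal A) A))) := h₂.isSepClosure.separable
  haveI : Algebra.IsSeparable (ResidueField A)
      (ResidueField (AdicCompletion (maximalIdeal A) A)) := by
    refine ⟨fun x => ?_⟩
    obtain ⟨y, rfl⟩ := (AdicCompletion.residueField_map_bijective A).2 x
    exact isSeparable_algebraMap y
  haveI : Algebra.IsSeparable (ResidueField A)
      (ResidueField (SHens (AdicCompletion (maximalIdeal A) A))) :=
    Algebra.IsSeparable.trans (ResidueField A) (ResidueField (AdicCompletion (maximalIdeal A) A))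
      (ResidueField (SHens (AdicCompletion (maximalIdeal A) A)))
  let τ₀ : ResidueField (SHens A) →ₐ[ResidueField A]
      ResidueField (SHens (AdicCompletion (maximalIdeal A) A)) := IsSepClosed.lift
  have hτ : τ₀.toRingHom.comp (ResidueField.map (algebraMap A (SHens A))) =
      ResidueField.map f := by
    ext x
    exact τ₀.commutes x
  obtain ⟨g, ⟨hg1, hg2⟩, -⟩ := h₁.universal
    (SHens (AdicCompletion (maximalIdeal A) A)) f τ₀.toRingHom hτ
  refine ⟨g, τ₀.toRingHom, hg1, ⟨τ₀.toRingHom.injective, ?_⟩, hg2⟩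
  letI : Algebra (ResidueField (SHens A))
      (ResidueField (SHens (AdicCompletion (maximalIdeal A) A))) := τ₀.toRingHom.toAlgebra
  haveI : IsScalarTower (ResidueField A) (ResidueField (SHens A))
      (ResidueField (SHens (AdicCompletion (maximalIdeal A) A))) :=
    IsScalarTower.of_algebraMap_eq (fun x => (τ₀.commutes x).symm)
  haveI : Algebra.IsSeparable (ResidueField (SHens A))
      (ResidueField (SHens (AdicCompletion (maximalIdeal A) A))) :=
    Algebra.isSeparable_tower_top_of_isSeparable (ResidueField A) _ _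
  exact IsSepClosed.algebraMap_surjective (ResidueField (SHens A))
    (ResidueField (SHens (AdicCompletion (maximalIdeal A) A)))

end Comparison

section Dense

variable (A : Type u) [CommRing A] [IsLocalRing A] [IsNoetherianRing A]

theorem residue_eq_of_sub_mem {R : Type*} [CommRing R] [IsLocalRing R] {x y : R}
    (h : x - y ∈ maximalIdeal R) : residue R x = residue R y := by
  have := (residue_eq_zero_iff (x - y)).mpr h
  rwa [map_sub, sub_eq_zero] at this

theorem sub_mem_of_residue_eq {R : Type*} [CommRing R] [IsLocalRing R] {x y : R}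
    (h : residue R x = residue R y) : x - y ∈ maximalIdeal R := by
  rw [← residue_eq_zero_iff, map_sub, h, sub_self]

/-- auxiliary: a ring map from the completion to a ring in which `𝔪^k` dies -/
theorem exists_map_of_completion {X : Type u} [CommRing X] (φ : A →+* X) (k : ℕ)
    (hφ : ∀ a ∈ maximalIdeal A ^ k, φ a = 0) :
    ∃ F : AdicCompletion (maximalIdeal A) A →+* X,
      (∀ a : A, F (algebraMap A (AdicCompletion (maximalIdeal A) A) a) = φ a) ∧
      ∀ y ∈ Ideal.map (algebraMap A (AdicCompletion (maximalIdeal A) A)) (maximalIdeal A ^ k),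
        F y = 0 := by
  let F₀ : A ⧸ maximalIdeal A ^ k →+* X := Ideal.Quotient.lift (maximalIdeal A ^ k) φ hφ
  let F : AdicCompletion (maximalIdeal A) A →+* X :=
    F₀.comp (AdicCompletion.evalₐ (maximalIdeal A) k).toRingHom
  have hF : ∀ a : A, F (algebraMap A (AdicCompletion (maximalIdeal A) A) a) = φ a := by
    intro a
    show F₀ (AdicCompletion.evalₐ (maximalIdeal A) k
      (algebraMap A (AdicCompletion (maximalIdeal A) A) a)) = _
    rw [(AdicCompletion.evalₐ (maximalIdeal A) k).commutes a]
    exact Ideal.Quotient.lift_mk _ _ _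
  refine ⟨F, hF, ?_⟩
  have : Ideal.map (algebraMap A (AdicCompletion (maximalIdeal A) A)) (maximalIdeal A ^ k) ≤
      RingHom.ker F := by
    rw [Ideal.map_le_iff_le_comap]
    intro a ha
    rw [Ideal.mem_comap, RingHom.mem_ker, hF]
    exact hφ a ha
  exact fun y hy => this hy

/-- `S₁` is `𝔪`-adically dense in `S₂` (abstract form: `S₁` henselian local over `A`, `S₂` a strict
henselization of `Â`, `g : S₁ → S₂` compatible, inducing a bijection on residue fields) -/
theorem strict_dense_aux (S₁ S₂ : Type u) [CommRing S₁] [CommRing S₂] [HenselianLocalRing S₁]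
    [IsLocalRing S₂] [Algebra A S₁] [IsLocalHom (algebraMap A S₁)]
    [Algebra (AdicCompletion (maximalIdeal A) A) S₂]
    [IsLocalHom (algebraMap (AdicCompletion (maximalIdeal A) A) S₂)]
    [h₂ : Hensel.IsStrictHenselization (AdicCompletion (maximalIdeal A) A) S₂]
    (g : S₁ →+* S₂)
    (τ₀ : ResidueField S₁ →+* ResidueField S₂)
    (hg1 : g.comp (algebraMap A S₁) =
        (algebraMap (AdicCompletion (maximalIdeal A) A) S₂).comp
          (algebraMap A (AdicCompletion (maximalIdeal A) A)))
    (hτ₀ : Function.Bijective τ₀) (hg2 : ∀ x, residue _ (g x) = τ₀ (residue _ x))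
    (k : ℕ) (hk : k ≠ 0) (x : S₂) :
    ∃ r : S₁, x - g r ∈
      Ideal.map g (Ideal.map (algebraMap A S₁) (maximalIdeal A ^ k)) := by
  haveI : HenselianLocalRing S₂ := h₂.henselian
  have hg1' : ∀ a : A, g (algebraMap A S₁ a) =
      algebraMap (AdicCompletion (maximalIdeal A) A) S₂
        (algebraMap A (AdicCompletion (maximalIdeal A) A) a) := fun a => RingHom.congr_fun hg1 a
  have hgloc : IsLocalHom g := by
    refine ((local_hom_TFAE g).out 0 3).mpr ?_
    intro y hy
    have h1 : residue S₁ y = 0 := (residue_eq_zero_iff y).mpr hy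
    have h2 : residue S₂ (g y) = 0 := by
      rw [hg2 y, h1, map_zero]
    exact (residue_eq_zero_iff (g y)).mp h2
  haveI := hgloc
  obtain ⟨J₁, hJ₁def⟩ : ∃ J₁ : Ideal S₁,
      J₁ = Ideal.map (algebraMap A S₁) (maximalIdeal A ^ k) := ⟨_, rfl⟩
  obtain ⟨J₂, hJ₂def⟩ : ∃ J₂ : Ideal S₂,
      J₂ = Ideal.map g J₁ := ⟨_, rfl⟩
  rw [← hJ₁def, ← hJ₂def]
  have hmk : maximalIdeal A ^ k ≤ maximalIdeal A := Ideal.pow_le_self hk
  have hJ₁ : J₁ ≤ maximalIdeal S₁ := by
    rw [hJ₁def, Ideal.map_le_iff_le_comap]
    intro a ha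
    exact map_nonunit (algebraMap A S₁) a (hmk ha)
  have hJ₂ : J₂ ≤ maximalIdeal S₂ := by
    rw [hJ₂def, Ideal.map_le_iff_le_comap]
    intro s hs
    exact map_nonunit g s (hJ₁ hs)
  have hJ₂mem : ∀ y ∈ Ideal.map (algebraMap A (AdicCompletion (maximalIdeal A) A))
      (maximalIdeal A ^ k),
      algebraMap (AdicCompletion (maximalIdeal A) A)
        S₂ y ∈ J₂ := by
    have : Ideal.map (algebraMap (AdicCompletion (maximalIdeal A) A)
        S₂)
        (Ideal.map (algebraMap A (AdicCompletion (maximalIdeal A) A)) (maximalIdeal A ^ k)) =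
        J₂ := by
      rw [hJ₂def, hJ₁def, Ideal.map_map, Ideal.map_map, hg1]
    intro y hy
    rw [← this]
    exact Ideal.mem_map_of_mem _ hy
  haveI : IsLocalRing (S₁ ⧸ J₁) := Groth.Agent.Lib.UnibranchH3.isLocalRing_quotient J₁ hJ₁
  haveI : HenselianLocalRing (S₁ ⧸ J₁) := Groth.Agent.S0505.result S₁ _
  haveI : IsLocalRing (S₂ ⧸ J₂) :=
    Groth.Agent.Lib.UnibranchH3.isLocalRing_quotient J₂ hJ₂
  haveI : HenselianLocalRing (S₂ ⧸ J₂) :=
    Groth.Agent.S0505.result S₂ _
  haveI hπ₁ : IsLocalHom (Ideal.Quotient.mk J₁) :=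
    IsLocalHom.of_surjective _ Ideal.Quotient.mk_surjective
  haveI hπ₂ : IsLocalHom (Ideal.Quotient.mk J₂) :=
    IsLocalHom.of_surjective _ Ideal.Quotient.mk_surjective
  -- the map `Â → S₁ / J₁`
  obtain ⟨F, hF, hFkill⟩ := exists_map_of_completion A
    ((Ideal.Quotient.mk J₁).comp (algebraMap A S₁)) k (fun a ha => by
      rw [RingHom.comp_apply, Ideal.Quotient.eq_zero_iff_mem, hJ₁def]
      exact Ideal.mem_map_of_mem _ ha)
  have hF' : ∀ a : A, F (algebraMap A (AdicCompletion (maximalIdeal A) A) a) =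
      Ideal.Quotient.mk J₁ (algebraMap A S₁ a) := hF
  haveI hFloc : IsLocalHom F := by
    refine ((local_hom_TFAE F).out 0 2).mpr ?_
    rw [AdicCompletion.maximalIdeal_eq_map, Ideal.map_map, Ideal.map_le_iff_le_comap]
    intro a ha
    rw [Ideal.mem_comap, RingHom.comp_apply, hF']
    exact map_nonunit (Ideal.Quotient.mk J₁) _ (map_nonunit (algebraMap A S₁) a ha)
  -- the residue field map
  obtain ⟨τ, hτres⟩ : ∃ τ : ResidueField S₂ →+*
      ResidueField (S₁ ⧸ J₁),
      ∀ s : S₁, τ (residue _ (g s)) = residue _ (Ideal.Quotient.mk J₁ s) := by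
    let τe := RingEquiv.ofBijective τ₀ hτ₀
    refine ⟨(ResidueField.map (Ideal.Quotient.mk J₁)).comp τe.symm.toRingHom, fun s => ?_⟩
    show ResidueField.map (Ideal.Quotient.mk J₁)
      (τe.symm (residue S₂ (g s))) = _
    rw [hg2 s]
    have : τe.symm (τ₀ (residue S₁ s)) = residue S₁ s := τe.symm_apply_apply _
    rw [this]
    rfl
  have hτ : τ.comp (ResidueField.map (algebraMap (AdicCompletion (maximalIdeal A) A)
      S₂)) = ResidueField.map F := by
    refine RingHom.ext fun y => ?_
    obtain ⟨b, hb⟩ := residue_surjective y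
    obtain ⟨a, ha⟩ := Groth.Agent.Lib.FSAdicComplH3.exists_sub_mem_map_pow (maximalIdeal A)
      (IsNoetherian.noetherian _) 1 b
    rw [pow_one, ← AdicCompletion.maximalIdeal_eq_map] at ha
    have hb1 : residue S₂
        (algebraMap (AdicCompletion (maximalIdeal A) A)
        S₂ b) =
        residue S₂ (g (algebraMap A S₁ a)) := by
      rw [hg1' a]
      apply residue_eq_of_sub_mem
      rw [← map_sub]
      exact map_nonunit (algebraMap (AdicCompletion (maximalIdeal A) A)
        S₂) _ ha
    have hb2 : residue (S₁ ⧸ J₁) (F b) =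
        residue (S₁ ⧸ J₁) (F (algebraMap A (AdicCompletion (maximalIdeal A) A) a)) := by
      apply residue_eq_of_sub_mem
      rw [← map_sub]
      exact map_nonunit F _ ha
    rw [← hb]
    show τ (residue S₂
      (algebraMap (AdicCompletion (maximalIdeal A) A)
        S₂ b)) = residue (S₁ ⧸ J₁) (F b)
    rw [hb1, hτres (algebraMap A S₁ a), hb2, hF' a]
  obtain ⟨u, ⟨hu1, hu2⟩, -⟩ := h₂.universal (S₁ ⧸ J₁) F τ hτ
  -- the map `S₁ / J₁ → S₂ / J₂`
  obtain ⟨gbar, hgbar⟩ : ∃ gbar : S₁ ⧸ J₁ →+*
      S₂ ⧸ J₂,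
      ∀ s, gbar (Ideal.Quotient.mk J₁ s) = Ideal.Quotient.mk J₂ (g s) := by
    refine ⟨Ideal.Quotient.lift J₁ ((Ideal.Quotient.mk J₂).comp g) (fun y hy => ?_),
      fun s => Ideal.Quotient.lift_mk _ _ _⟩
    rw [RingHom.comp_apply, Ideal.Quotient.eq_zero_iff_mem, hJ₂def]
    exact Ideal.mem_map_of_mem _ hy
  have hgbarloc : ∀ z, z ∈ maximalIdeal (S₁ ⧸ J₁) →
      gbar z ∈ maximalIdeal (S₂ ⧸ J₂) := by
    intro z hz
    obtain ⟨s, rfl⟩ := Ideal.Quotient.mk_surjective z
    rw [hgbar]
    apply map_nonunit (Ideal.Quotient.mk J₂)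
    apply map_nonunit g
    rw [mem_maximalIdeal, mem_nonunits_iff] at hz ⊢
    exact fun hs => hz (hs.map _)
  -- uniqueness
  haveI : IsLocalHom ((Ideal.Quotient.mk J₂).comp (algebraMap (AdicCompletion (maximalIdeal A) A)
      S₂)) := RingHom.isLocalHom_comp _ _
  obtain ⟨w, -, hwuniq⟩ := h₂.universal (S₂ ⧸ J₂)
    ((Ideal.Quotient.mk J₂).comp (algebraMap (AdicCompletion (maximalIdeal A) A)
      S₂))
    (ResidueField.map (Ideal.Quotient.mk J₂))
    (ResidueField.map_comp _ _).symm
  have h1 : Ideal.Quotient.mk J₂ = w :=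
    hwuniq _ ⟨rfl, fun z => rfl⟩
  have h2 : gbar.comp u = w := by
    apply hwuniq
    constructor
    · rw [RingHom.comp_assoc, hu1]
      apply Groth.Agent.Lib.FSAdicComplH3.ringHom_eq_of_kill (maximalIdeal A)
        (IsNoetherian.noetherian _) _ _ k
      · intro a
        rw [RingHom.comp_apply, hF', hgbar, hg1']
        rfl
      · intro y hy
        rw [RingHom.comp_apply, hFkill y hy, map_zero]
      · intro y hy
        rw [RingHom.comp_apply, Ideal.Quotient.eq_zero_iff_mem]
        exact hJ₂mem y hy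
    · intro z
      obtain ⟨y, hy⟩ := hτ₀.2 (residue S₂ z)
      obtain ⟨s, hs⟩ := residue_surjective y
      have hy' : residue S₂ (g s) =
          residue S₂ z := by
        rw [hg2 s, hs, hy]
      have hz1 : residue (S₁ ⧸ J₁) (u z) =
          residue (S₁ ⧸ J₁) (Ideal.Quotient.mk J₁ s) := by
        rw [hu2 z, ← hy', hτres s]
      have hz2 : u z - Ideal.Quotient.mk J₁ s ∈ maximalIdeal (S₁ ⧸ J₁) :=
        sub_mem_of_residue_eq hz1
      have hz3 := hgbarloc _ hz2
      rw [map_sub, hgbar s] at hz3
      have hz4 := residue_eq_of_sub_mem hz3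
      exact hz4.trans (congrArg (ResidueField.map (Ideal.Quotient.mk J₂)) hy')
  have hfinal : Ideal.Quotient.mk J₂ = gbar.comp u := h1.trans h2.symm
  obtain ⟨r, hr⟩ := Ideal.Quotient.mk_surjective (u x)
  refine ⟨r, ?_⟩
  rw [← Ideal.Quotient.eq_zero_iff_mem, map_sub, sub_eq_zero, ← hgbar, hr]
  exact RingHom.congr_fun hfinal x


/-- `A^sh` is `𝔪`-adically dense in `(Â)^sh` -/
theorem strict_dense
    (g : SHens A →+* SHens (AdicCompletion (maximalIdeal A) A))
    (τ₀ : ResidueField (SHens A) →+* ResidueField (SHens (AdicCompletion (maximalIdeal A) A)))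
    (hg1 : g.comp (algebraMap A (SHens A)) =
        (algebraMap (AdicCompletion (maximalIdeal A) A)
          (SHens (AdicCompletion (maximalIdeal A) A))).comp
          (algebraMap A (AdicCompletion (maximalIdeal A) A)))
    (hτ₀ : Function.Bijective τ₀) (hg2 : ∀ x, residue _ (g x) = τ₀ (residue _ x))
    (k : ℕ) (hk : k ≠ 0) (x : SHens (AdicCompletion (maximalIdeal A) A)) :
    ∃ r : SHens A, x - g r ∈
      Ideal.map g (Ideal.map (algebraMap A (SHens A)) (maximalIdeal A ^ k)) := by
  haveI h₂ := isStrictHenselization_shens (R := AdicCompletion (maximalIdeal A) A)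
  exact strict_dense_aux A (SHens A) (SHens (AdicCompletion (maximalIdeal A) A)) g τ₀ hg1 hτ₀ hg2
    k hk x

end Dense

end Groth.Agent.Lib.HensBranchesH3
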