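import Mathlib
import Groth.Prelude.Def_Brnch
import Groth.Agent.Lib.HensBranches10_helper3

/-!
# Dimension one: the completion has the same number of (geometric) branches, assembly (helper3)
-/

set_option autoImplicit false
set_option maxSynthPendingDepth 3
universe u

namespace Groth.Agent.Lib.HensBranchesH3

open IsLocalRing Groth.Agent.Lib.IndEtaleH3 Groth.Agent.Lib.StrictHens

section Branches

variable (A : Type u) [CommRing A] [IsLocalRing A] [IsNoetherianRing A]

theorem ringKrullDim_completion :
    ringKrullDim (AdicCompletion (maximalIdeal A) A) = ringKrullDim A :=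
  Groth.Agent.RegularLib.ringKrullDim_adicCompletion A _ (maximalIdeal.isMaximal A).ne_top

theorem numBranches_completion_eq_of_dim_one_aux (S : Type u) [CommRing S] [IsLocalRing S]
    [Algebra A S] [IsLocalHom (algebraMap A S)] [Hensel.IsHenselization A S]
    (ψ : S →+* AdicCompletion (maximalIdeal A) A)
    (hψ : ψ.comp (algebraMap A S) = algebraMap A (AdicCompletion (maximalIdeal A) A))
    (hA : ringKrullDim A = 1) :
    Brnch.numBranches (AdicCompletion (maximalIdeal A) A) = Brnch.numBranches A := by
  obtain ⟨hloc, hnoeth, hcompl, hff, hlh, hmax⟩ := AnUnramH3.completion_facts A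
  haveI := hnoeth
  haveI := hff
  haveI hloc0 : IsLocalHom (ψ.comp (algebraMap A S)) := by
    rw [hψ]; infer_instance
  haveI : IsLocalHom ψ := Groth.Agent.Lib.HensInductionH3.isLocalHom_of_comp A S ψ hloc0
  letI : Algebra S (AdicCompletion (maximalIdeal A) A) := ψ.toAlgebra
  haveI : IsScalarTower A S (AdicCompletion (maximalIdeal A) A) :=
    IsScalarTower.of_algebraMap_eq (fun a => (DFunLike.congr_fun hψ a).symm)
  haveI : Module.Flat S (AdicCompletion (maximalIdeal A) A) :=
    flat_of_flat_of_isIndEtale (Groth.Agent.Lib.UnibranchH3.isIndEtale_of_isHenselization A S) _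
  haveI : IsLocalHom (algebraMap S (AdicCompletion (maximalIdeal A) A)) :=
    (inferInstance : IsLocalHom ψ)
  haveI : Module.FaithfullyFlat S (AdicCompletion (maximalIdeal A) A) :=
    Module.FaithfullyFlat.of_flat_of_isLocalHom
  haveI hSh : HenselianLocalRing S := Hensel.IsHenselization.henselian A
  haveI : IsNoetherianRing S := isNoetherianRing_of_isHenselization A S
  rw [numBranches_completion_eq_card A, ← card_minimalPrimes_henselization A S]
  symm
  apply card_minimalPrimes_eq_of_dim_one
  · intro k x
    obtain ⟨a, ha⟩ := Groth.Agent.Lib.FSAdicComplH3.exists_sub_mem_map_pow (maximalIdeal A)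
      (IsNoetherian.noetherian _) k x
    refine ⟨algebraMap A S a, ?_⟩
    rw [← IsScalarTower.algebraMap_apply]
    have hle : Ideal.map (algebraMap A (AdicCompletion (maximalIdeal A) A)) (maximalIdeal A ^ k) ≤
        Ideal.map (algebraMap S (AdicCompletion (maximalIdeal A) A)) (maximalIdeal S ^ k) := by
      rw [IsScalarTower.algebraMap_eq A S (AdicCompletion (maximalIdeal A) A), ← Ideal.map_map]
      apply Ideal.map_mono
      rw [Ideal.map_pow]
      apply Ideal.pow_right_mono
      rw [Ideal.map_le_iff_le_comap]
      intro a ha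
      exact map_nonunit (algebraMap A S) a ha
    exact hle ha
  · intro q hq
    exact ringKrullDim_quotient_eq_one_of_flat (A := A) hA
      ((ringKrullDim_completion A).trans hA) q hq

theorem numBranches_completion_eq_of_dim_one (hA : ringKrullDim A = 1) :
    Brnch.numBranches (AdicCompletion (maximalIdeal A) A) = Brnch.numBranches A := by
  obtain ⟨hloc, hnoeth, hcompl, hff, hlh, hmax⟩ := AnUnramH3.completion_facts A
  haveI hh : HenselianLocalRing (AdicCompletion (maximalIdeal A) A) :=
    Groth.Agent.Lib.CompleteFiniteH3.henselianLocalRing_of_isAdicComplete _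
  haveI hH := Groth.Agent.Lib.HenselizationH3.isHenselization_hens (R := A)
  obtain ⟨ψ, hψ, -⟩ := hH.universal (AdicCompletion (maximalIdeal A) A)
    (algebraMap A (AdicCompletion (maximalIdeal A) A)) inferInstance
  exact numBranches_completion_eq_of_dim_one_aux A (Groth.Agent.Lib.HenselizationH3.Hens A) ψ hψ hA

end Branches

section GeomBranches

variable (A : Type u) [CommRing A] [IsLocalRing A] [IsNoetherianRing A]

theorem numGeomBranches_completion_eq_of_dim_one_aux (S₁ S₂ : Type u) [CommRing S₁] [CommRing S₂]
    [IsLocalRing S₁] [IsLocalRing S₂] [Algebra A S₁] [IsLocalHom (algebraMap A S₁)]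
    [Algebra (AdicCompletion (maximalIdeal A) A) S₂]
    [IsLocalHom (algebraMap (AdicCompletion (maximalIdeal A) A) S₂)]
    [h₁ : Hensel.IsStrictHenselization A S₁]
    [h₂ : Hensel.IsStrictHenselization (AdicCompletion (maximalIdeal A) A) S₂]
    (g : S₁ →+* S₂)
    (τ₀ : ResidueField S₁ →+* ResidueField S₂)
    (hg1 : g.comp (algebraMap A S₁) =
        (algebraMap (AdicCompletion (maximalIdeal A) A) S₂).comp
          (algebraMap A (AdicCompletion (maximalIdeal A) A)))
    (hτ₀ : Function.Bijective τ₀) (hg2 : ∀ x, residue _ (g x) = τ₀ (residue _ x))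
    (hA : ringKrullDim A = 1) :
    Brnch.numGeomBranches (AdicCompletion (maximalIdeal A) A) = Brnch.numGeomBranches A := by
  obtain ⟨hloc, hnoeth, hcompl, hff, hlh, hmax⟩ := AnUnramH3.completion_facts A
  haveI := hnoeth
  haveI := hff
  haveI hS₁h : HenselianLocalRing S₁ := h₁.henselian
  haveI hS₂h : HenselianLocalRing S₂ := h₂.henselian
  haveI : IsNoetherianRing S₁ :=
    (isNoetherianRing_iff_of_isStrictHenselization (R := A) S₁).mp inferInstance
  haveI : IsNoetherianRing S₂ :=
    (isNoetherianRing_iff_of_isStrictHenselization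
      (R := AdicCompletion (maximalIdeal A) A) S₂).mp inferInstance
  have hgloc : IsLocalHom g := by
    refine ((local_hom_TFAE g).out 0 3).mpr ?_
    intro y hy
    have h1 : residue S₁ y = 0 := (residue_eq_zero_iff y).mpr hy
    have h2 : residue S₂ (g y) = 0 := by
      rw [hg2 y, h1, map_zero]
    exact (residue_eq_zero_iff (g y)).mp h2
  let f : A →+* S₂ := (algebraMap (AdicCompletion (maximalIdeal A) A) S₂).comp
    (algebraMap A (AdicCompletion (maximalIdeal A) A))
  haveI hfloc : IsLocalHom f := RingHom.isLocalHom_comp _ _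
  letI : Algebra S₁ S₂ := g.toAlgebra
  letI : Algebra A S₂ := f.toAlgebra
  haveI : IsScalarTower A S₁ S₂ :=
    IsScalarTower.of_algebraMap_eq (fun a => (DFunLike.congr_fun hg1 a).symm)
  haveI : IsScalarTower A (AdicCompletion (maximalIdeal A) A) S₂ :=
    IsScalarTower.of_algebraMap_eq (fun a => rfl)
  haveI : Module.FaithfullyFlat (AdicCompletion (maximalIdeal A) A) S₂ :=
    faithfullyFlat_of_isStrictHenselization (R := AdicCompletion (maximalIdeal A) A) _
  haveI : Module.Flat A (AdicCompletion (maximalIdeal A) A) := inferInstance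
  haveI : Module.Flat A S₂ := Module.Flat.trans A (AdicCompletion (maximalIdeal A) A) _
  haveI : Module.Flat S₁ S₂ :=
    flat_of_flat_of_isIndEtale (isIndEtale_of_isStrictHenselization (R := A) S₁) _
  haveI : IsLocalHom (algebraMap S₁ S₂) := hgloc
  haveI : IsLocalHom (algebraMap A S₂) := hfloc
  haveI : Module.FaithfullyFlat S₁ S₂ := Module.FaithfullyFlat.of_flat_of_isLocalHom
  rw [← card_minimalPrimes_strictHenselization A S₁,
    ← card_minimalPrimes_strictHenselization (AdicCompletion (maximalIdeal A) A) S₂]
  symm
  apply card_minimalPrimes_eq_of_dim_one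
  · intro k x
    by_cases hk : k = 0
    · refine ⟨0, ?_⟩
      rw [hk, pow_zero, Ideal.one_eq_top, Ideal.map_top]
      exact Submodule.mem_top
    · obtain ⟨r, hr⟩ := strict_dense_aux A S₁ S₂ g τ₀ hg1 hτ₀ hg2 k hk x
      refine ⟨r, ?_⟩
      have hle : Ideal.map g (Ideal.map (algebraMap A S₁) (maximalIdeal A ^ k)) ≤
          Ideal.map (algebraMap S₁ S₂) (maximalIdeal S₁ ^ k) := by
        apply Ideal.map_mono
        rw [Ideal.map_pow]
        apply Ideal.pow_right_mono
        rw [Ideal.map_le_iff_le_comap]
        intro a ha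
        exact map_nonunit (algebraMap A S₁) a ha
      exact hle hr
  · intro q hq
    have hdimS₂ : ringKrullDim S₂ = 1 := by
      rw [Groth.Agent.S0541.result (AdicCompletion (maximalIdeal A) A) S₂,
        ringKrullDim_completion A, hA]
    exact ringKrullDim_quotient_eq_one_of_flat (A := A) hA hdimS₂ q hq

theorem numGeomBranches_completion_eq_of_dim_one (hA : ringKrullDim A = 1) :
    Brnch.numGeomBranches (AdicCompletion (maximalIdeal A) A) = Brnch.numGeomBranches A := by
  obtain ⟨g, τ₀, hg1, hτ₀, hg2⟩ := exists_strict_comparison A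
  haveI h₁ := isStrictHenselization_shens (R := A)
  haveI h₂ := isStrictHenselization_shens (R := AdicCompletion (maximalIdeal A) A)
  exact numGeomBranches_completion_eq_of_dim_one_aux A (SHens A)
    (SHens (AdicCompletion (maximalIdeal A) A)) g τ₀ hg1 hτ₀ hg2 hA

end GeomBranches

end Groth.Agent.Lib.HensBranchesH3
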