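import Mathlib
import Groth.Prelude.Def_Brnch
import Groth.Agent.Lib.HensBranches11_helper3

/-!
# Minimal primes of flat henselian covers whose normalized base change is locally irreducible
(helper3)

Generalization of the domain core of `HensBranches_helper3`: the ind-étale hypothesis is replaced
by the hypothesis that in `T = D' ⊗[D] S` any prime contains a unique minimal prime
(`UniqueMin T`), which holds as soon as `T` is a normal ring, or ind-étale over a normal ring.
-/

set_option autoImplicit false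
set_option maxSynthPendingDepth 3
universe u

namespace Groth.Agent.Lib.HensBranchesH3

open Polynomial TensorProduct IsLocalRing Groth.Agent.Lib.IndEtaleH3

section RingEquiv

variable {R R' : Type*} [CommRing R] [CommRing R']

theorem comap_mem_minimalPrimes_of_ringEquiv (e : R ≃+* R') {P : Ideal R'}
    (hP : P ∈ minimalPrimes R') : P.comap (e : R →+* R') ∈ minimalPrimes R := by
  haveI : P.IsPrime := hP.1.1
  refine ⟨⟨Ideal.comap_isPrime _ _, bot_le⟩, ?_⟩
  rintro Q ⟨hQ, -⟩ hQle
  haveI := hQ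
  have h1 : Q.comap (e.symm : R' →+* R) ≤ P := by
    intro x hx
    have h2 : e.symm x ∈ P.comap (e : R →+* R') := hQle hx
    have h3 : e (e.symm x) ∈ P := h2
    rwa [e.apply_symm_apply] at h3
  have h2 : P ≤ Q.comap (e.symm : R' →+* R) :=
    hP.2 ⟨Ideal.comap_isPrime _ _, bot_le⟩ h1
  intro x hx
  have h3 : e.symm (e x) ∈ Q := h2 hx
  rwa [e.symm_apply_apply] at h3

theorem card_minimalPrimes_of_ringEquiv (e : R ≃+* R') :
    ENat.card (minimalPrimes R) = ENat.card (minimalPrimes R') := by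
  let f : minimalPrimes R' → minimalPrimes R := fun P =>
    ⟨P.1.comap (e : R →+* R'), comap_mem_minimalPrimes_of_ringEquiv e P.2⟩
  have hf : Function.Bijective f := by
    constructor
    · intro P₁ P₂ h
      apply Subtype.ext
      exact Ideal.comap_injective_of_surjective (e : R →+* R') e.surjective
        (congrArg Subtype.val h)
    · intro Q
      refine ⟨⟨Q.1.comap (e.symm : R' →+* R), comap_mem_minimalPrimes_of_ringEquiv e.symm Q.2⟩, ?_⟩
      apply Subtype.ext
      ext x
      show e.symm (e x) ∈ Q.1 ↔ x ∈ Q.1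
      rw [e.symm_apply_apply]
  exact (ENat.card_congr (Equiv.ofBijective f hf)).symm

/-- every prime contains exactly (at most) one minimal prime -/
def UniqueMin (T : Type*) [CommRing T] : Prop :=
  ∀ Q₁ ∈ minimalPrimes T, ∀ Q₂ ∈ minimalPrimes T, ∀ N : Ideal T, N.IsPrime →
    Q₁ ≤ N → Q₂ ≤ N → Q₁ = Q₂

theorem uniqueMin_of_ringEquiv (e : R ≃+* R') (h : UniqueMin R) : UniqueMin R' := by
  intro Q₁ hQ₁ Q₂ hQ₂ N hN h₁ h₂
  haveI := hN
  have := h _ (comap_mem_minimalPrimes_of_ringEquiv e hQ₁) _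
    (comap_mem_minimalPrimes_of_ringEquiv e hQ₂) (N.comap (e : R →+* R'))
    (Ideal.comap_isPrime _ _) (Ideal.comap_mono h₁) (Ideal.comap_mono h₂)
  exact Ideal.comap_injective_of_surjective (e : R →+* R') e.surjective this

theorem uniqueMin_of_isDomain_localization {T : Type*} [CommRing T]
    (h : ∀ (N : Ideal T) [N.IsPrime], IsDomain (Localization.AtPrime N)) : UniqueMin T := by
  intro Q₁ hQ₁ Q₂ hQ₂ N hN h₁ h₂
  haveI := hN
  haveI := h N
  have hP₀ : (RingHom.ker (algebraMap T (Localization.AtPrime N))).IsPrime :=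
    RingHom.ker_isPrime _
  have key : ∀ Q ∈ minimalPrimes T, Q ≤ N →
      Q = RingHom.ker (algebraMap T (Localization.AtPrime N)) := by
    intro Q hQ hQN
    haveI : Q.IsPrime := hQ.1.1
    have h1 : RingHom.ker (algebraMap T (Localization.AtPrime N)) ≤ Q := by
      intro x hx
      rw [RingHom.mem_ker, IsLocalization.map_eq_zero_iff N.primeCompl] at hx
      obtain ⟨u, hu⟩ := hx
      have h2 : (u : T) * x ∈ Q := by rw [hu]; exact Q.zero_mem
      rcases Ideal.IsPrime.mem_or_mem inferInstance h2 with h3 | h3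
      · exact absurd (hQN h3) u.2
      · exact h3
    exact le_antisymm (hQ.2 ⟨hP₀, bot_le⟩ h1) h1
  rw [key Q₁ hQ₁ h₁, key Q₂ hQ₂ h₂]

theorem uniqueMin_of_isNormalRing {T : Type u} [CommRing T] (h : EGA4.IsNormalRing T) :
    UniqueMin T :=
  uniqueMin_of_isDomain_localization fun N _ => (h N).1

end RingEquiv

section IndEtaleNormal

/-- ind-étale over a normal domain: every proper ideal contains at most one minimal prime -/
theorem unique_minimalPrime_of_isIndEtale_normalDomain {R T : Type u} [CommRing R] [IsDomain R]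
    [IsIntegrallyClosed R] [CommRing T] [Algebra R T] (h : EtPBC.IsIndEtale R T)
    (Q₁ Q₂ : Ideal T) (hQ₁ : Q₁ ∈ minimalPrimes T) (hQ₂ : Q₂ ∈ minimalPrimes T)
    (N : Ideal T) (hN : N ≠ ⊤) (h₁ : Q₁ ≤ N) (h₂ : Q₂ ≤ N) : Q₁ = Q₂ := by
  by_contra hne
  haveI : Q₁.IsPrime := hQ₁.1.1
  haveI : Q₂.IsPrime := hQ₂.1.1
  haveI : Module.Flat R T := flat_of_isIndEtale h
  have hnle : ¬ Q₁ ≤ Q₂ := fun hle => hne (le_antisymm hle (hQ₂.2 ⟨inferInstance, bot_le⟩ hle))
  obtain ⟨x, hx₁, hx₂⟩ := Set.not_subset.mp hnle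
  haveI : Nontrivial T := by
    refine ⟨⟨0, 1, fun h01 => ?_⟩⟩
    apply (Ideal.IsPrime.ne_top (inferInstance : Q₁.IsPrime))
    rw [Ideal.eq_top_iff_one, ← h01]
    exact Q₁.zero_mem
  obtain ⟨t, ht, hxt, r, s, hr, hrt⟩ := exists_idempotent_of_isIndEtale h x
  have hbot : Q₁.comap (algebraMap R T) = ⊥ := by
    have h2 := comap_mem_minimalPrimes_of_flat (S := R) (B := T) Q₁ hQ₁
    rw [IsDomain.minimalPrimes_eq_singleton_bot] at h2
    exact h2
  have ht₁ : t ∈ Q₁ := by
    have h1 : algebraMap R T r * t ∈ Q₁ := by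
      rw [hrt]; exact Q₁.mul_mem_right _ hx₁
    rcases Ideal.IsPrime.mem_or_mem inferInstance h1 with h2 | h2
    · exfalso
      have h3 : r ∈ Q₁.comap (algebraMap R T) := h2
      rw [hbot] at h3
      exact hr h3
    · exact h2
  have ht₂ : 1 - t ∈ Q₂ := by
    have h1 : x * (1 - t) ∈ Q₂ := by
      rw [mul_sub, mul_one, hxt, sub_self]; exact Q₂.zero_mem
    rcases Ideal.IsPrime.mem_or_mem inferInstance h1 with h2 | h2
    · exact absurd h2 hx₂
    · exact h2
  have h1 : (1 : T) ∈ N := by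
    have := N.add_mem (h₁ ht₁) (h₂ ht₂)
    rwa [add_sub_cancel] at this
  exact hN ((Ideal.eq_top_iff_one _).mpr h1)

attribute [local instance] Algebra.TensorProduct.rightAlgebra in
/-- ind-étale over a normal ring: every prime contains a unique minimal prime -/
theorem uniqueMin_of_isIndEtale_isNormalRing {R T : Type u} [CommRing R] [CommRing T]
    [Algebra R T] (hR : EGA4.IsNormalRing R) (h : EtPBC.IsIndEtale R T) : UniqueMin T := by
  intro Q₁ hQ₁ Q₂ hQ₂ N hN h₁ h₂
  haveI := hN
  haveI : Q₁.IsPrime := hQ₁.1.1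
  haveI : Q₂.IsPrime := hQ₂.1.1
  obtain ⟨N₀, hN₀⟩ : ∃ N₀ : Ideal R, N₀ = N.comap (algebraMap R T) := ⟨_, rfl⟩
  haveI hN₀p : N₀.IsPrime := by rw [hN₀]; exact Ideal.comap_isPrime _ _
  obtain ⟨hdom, hic⟩ := hR N₀
  haveI := hdom
  haveI := hic
  have hie' : EtPBC.IsIndEtale (Localization.AtPrime N₀) (Localization.AtPrime N₀ ⊗[R] T) :=
    isIndEtale_baseChange R T (Localization.AtPrime N₀) h
  haveI hloc : IsLocalization (Algebra.algebraMapSubmonoid T N₀.primeCompl)
      (Localization.AtPrime N₀ ⊗[R] T) := IsLocalization.tensorRight _ N₀.primeCompl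
  have hdisjN : Disjoint (Algebra.algebraMapSubmonoid T N₀.primeCompl : Set T) (N : Set T) := by
    rw [Set.disjoint_left]
    rintro x ⟨r, hr, rfl⟩ hxN
    apply hr
    rw [hN₀]
    exact hxN
  have hdisj : ∀ Q : Ideal T, Q ≤ N →
      Disjoint (Algebra.algebraMapSubmonoid T N₀.primeCompl : Set T) (Q : Set T) :=
    fun Q hQ => Set.disjoint_of_subset_right hQ hdisjN
  have hprime : ∀ Q : Ideal T, Q.IsPrime → Q ≤ N →
      (Q.map (algebraMap T (Localization.AtPrime N₀ ⊗[R] T))).IsPrime :=
    fun Q hQ hQN => IsLocalization.isPrime_of_isPrime_disjoint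
      (Algebra.algebraMapSubmonoid T N₀.primeCompl) _ Q hQ (hdisj Q hQN)
  have hunder : ∀ Q : Ideal T, Q.IsPrime → Q ≤ N →
      (Q.map (algebraMap T (Localization.AtPrime N₀ ⊗[R] T))).comap
        (algebraMap T (Localization.AtPrime N₀ ⊗[R] T)) = Q :=
    fun Q hQ hQN => IsLocalization.comap_map_of_isPrime_disjoint
      (Algebra.algebraMapSubmonoid T N₀.primeCompl) _ hQ (hdisj Q hQN)
  have hmin : ∀ Q ∈ minimalPrimes T, Q ≤ N →
      Q.map (algebraMap T (Localization.AtPrime N₀ ⊗[R] T)) ∈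
        minimalPrimes (Localization.AtPrime N₀ ⊗[R] T) := by
    intro Q hQ hQN
    have h3 := IsLocalization.minimalPrimes_map (Algebra.algebraMapSubmonoid T N₀.primeCompl)
      (Localization.AtPrime N₀ ⊗[R] T) (⊥ : Ideal T)
    rw [Ideal.map_bot] at h3
    show Q.map _ ∈ (⊥ : Ideal (Localization.AtPrime N₀ ⊗[R] T)).minimalPrimes
    rw [h3, Set.mem_preimage]
    show (Q.map _).comap _ ∈ (⊥ : Ideal T).minimalPrimes
    rw [hunder Q hQ.1.1 hQN]
    exact hQ
  have hNtop : N.map (algebraMap T (Localization.AtPrime N₀ ⊗[R] T)) ≠ ⊤ :=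
    (hprime N hN le_rfl).ne_top
  have := unique_minimalPrime_of_isIndEtale_normalDomain hie' _ _ (hmin Q₁ hQ₁ h₁)
    (hmin Q₂ hQ₂ h₂) _ hNtop (Ideal.map_mono h₁) (Ideal.map_mono h₂)
  rw [← hunder Q₁ inferInstance h₁, ← hunder Q₂ inferInstance h₂, this]

end IndEtaleNormal

section CoreN

attribute [local instance] Algebra.TensorProduct.rightAlgebra

variable (D : Type u) [CommRing D] [IsDomain D] [IsLocalRing D]
  (S : Type u) [CommRing S] [HenselianLocalRing S] [Algebra D S] [Module.FaithfullyFlat D S]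
  [IsLocalHom (algebraMap D S)]

theorem comap_alpha_eq_bot'
    (Q : Ideal (integralClosure D (FractionRing D) ⊗[D] S))
    (hQ : Q ∈ minimalPrimes (integralClosure D (FractionRing D) ⊗[D] S)) :
    Q.comap (algebraMap (integralClosure D (FractionRing D)) _) = ⊥ := by
  have h2 := comap_mem_minimalPrimes_of_flat (S := integralClosure D (FractionRing D))
    (B := integralClosure D (FractionRing D) ⊗[D] S) Q hQ
  rw [IsDomain.minimalPrimes_eq_singleton_bot] at h2
  exact h2

theorem comap_D_eq_bot'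
    (Q : Ideal (integralClosure D (FractionRing D) ⊗[D] S))
    (hQ : Q ∈ minimalPrimes (integralClosure D (FractionRing D) ⊗[D] S)) :
    (Q.comap (algebraMap S (integralClosure D (FractionRing D) ⊗[D] S))).comap
      (algebraMap D S) = ⊥ := by
  rw [← comap_comap_eq, comap_alpha_eq_bot' D S Q hQ]
  rw [← RingHom.ker_eq_comap_bot, (RingHom.injective_iff_ker_eq_bot _).mp
    (injective_algebraMap_integralClosure D)]

theorem algebraMap_D_notMem'
    (Q : Ideal (integralClosure D (FractionRing D) ⊗[D] S))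
    (hQ : Q ∈ minimalPrimes (integralClosure D (FractionRing D) ⊗[D] S)) {d : D} (hd : d ≠ 0) :
    algebraMap S (integralClosure D (FractionRing D) ⊗[D] S) (algebraMap D S d) ∉ Q := by
  intro hmem
  have h1 : d ∈ (Q.comap (algebraMap S (integralClosure D (FractionRing D) ⊗[D] S))).comap
      (algebraMap D S) := hmem
  rw [comap_D_eq_bot' D S Q hQ] at h1
  exact hd h1

theorem comap_beta_mem_minimalPrimes'
    (Q : Ideal (integralClosure D (FractionRing D) ⊗[D] S))
    (hQ : Q ∈ minimalPrimes (integralClosure D (FractionRing D) ⊗[D] S)) :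
    Q.comap (algebraMap S (integralClosure D (FractionRing D) ⊗[D] S)) ∈ minimalPrimes S := by
  haveI : Q.IsPrime := hQ.1.1
  haveI : (Q.comap (algebraMap S (integralClosure D (FractionRing D) ⊗[D] S))).IsPrime :=
    Ideal.comap_isPrime _ _
  obtain ⟨q', hq', hq'le⟩ := Ideal.exists_minimalPrimes_le
    (bot_le : ⊥ ≤ Q.comap (algebraMap S (integralClosure D (FractionRing D) ⊗[D] S)))
  obtain ⟨Q'', hQ'', hQ''q'⟩ := exists_minimal_comap_beta D S q' hq'
  haveI : Q''.IsPrime := hQ''.1.1
  have hle : Q'' ≤ Q := by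
    intro x hx
    obtain ⟨d, hd, s, hds⟩ := exists_mul_eq_beta D S x
    have h1 : s ∈ Q''.comap (algebraMap S (integralClosure D (FractionRing D) ⊗[D] S)) := by
      rw [Ideal.mem_comap, ← hds]
      exact Q''.mul_mem_left _ hx
    rw [hQ''q'] at h1
    have h2 : algebraMap S (integralClosure D (FractionRing D) ⊗[D] S) s ∈ Q := hq'le h1
    rw [← hds] at h2
    rcases Ideal.IsPrime.mem_or_mem inferInstance h2 with h3 | h3
    · exact absurd h3 (algebraMap_D_notMem' D S Q hQ hd)
    · exact h3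
  have heq : Q = Q'' := le_antisymm (hQ.2 ⟨inferInstance, bot_le⟩ hle) hle
  rw [heq, hQ''q']
  exact hq'

theorem comap_beta_injective'
    (Q₁ Q₂ : Ideal (integralClosure D (FractionRing D) ⊗[D] S))
    (hQ₁ : Q₁ ∈ minimalPrimes (integralClosure D (FractionRing D) ⊗[D] S))
    (hQ₂ : Q₂ ∈ minimalPrimes (integralClosure D (FractionRing D) ⊗[D] S))
    (h : Q₁.comap (algebraMap S (integralClosure D (FractionRing D) ⊗[D] S)) =
      Q₂.comap (algebraMap S (integralClosure D (FractionRing D) ⊗[D] S))) : Q₁ = Q₂ := by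
  have key : ∀ (Q Q' : Ideal (integralClosure D (FractionRing D) ⊗[D] S)),
      Q ∈ minimalPrimes (integralClosure D (FractionRing D) ⊗[D] S) →
      Q' ∈ minimalPrimes (integralClosure D (FractionRing D) ⊗[D] S) →
      Q.comap (algebraMap S (integralClosure D (FractionRing D) ⊗[D] S)) =
        Q'.comap (algebraMap S (integralClosure D (FractionRing D) ⊗[D] S)) → Q ≤ Q' := by
    intro Q Q' hQ hQ' hQQ x hx
    haveI : Q'.IsPrime := hQ'.1.1
    obtain ⟨d, hd, s, hds⟩ := exists_mul_eq_beta D S x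
    have h1 : s ∈ Q.comap (algebraMap S (integralClosure D (FractionRing D) ⊗[D] S)) := by
      rw [Ideal.mem_comap, ← hds]
      exact Q.mul_mem_left _ hx
    rw [hQQ, Ideal.mem_comap, ← hds] at h1
    rcases Ideal.IsPrime.mem_or_mem inferInstance h1 with h2 | h2
    · exact absurd h2 (algebraMap_D_notMem' D S Q' hQ' hd)
    · exact h2
  exact le_antisymm (key Q₁ Q₂ hQ₁ hQ₂ h) (key Q₂ Q₁ hQ₂ hQ₁ h.symm)

/-- minimal primes of `S` correspond to maximal ideals of `T = D' ⊗ S` -/
theorem card_minimalPrimes_eq_card_maximalSpectrum'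
    (hU : UniqueMin (integralClosure D (FractionRing D) ⊗[D] S)) :
    ENat.card (minimalPrimes S) =
      ENat.card (MaximalSpectrum (integralClosure D (FractionRing D) ⊗[D] S)) := by
  let f₃ : minimalPrimes (integralClosure D (FractionRing D) ⊗[D] S) → minimalPrimes S :=
    fun Q => ⟨Q.1.comap (algebraMap S (integralClosure D (FractionRing D) ⊗[D] S)),
      comap_beta_mem_minimalPrimes' D S Q.1 Q.2⟩
  have hf₃ : Function.Bijective f₃ := by
    constructor
    · intro Q₁ Q₂ h
      exact Subtype.ext (comap_beta_injective' D S Q₁.1 Q₂.1 Q₁.2 Q₂.2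
        (congrArg Subtype.val h))
    · intro q
      obtain ⟨Q, hQ, hQq⟩ := exists_minimal_comap_beta D S q.1 q.2
      exact ⟨⟨Q, hQ⟩, Subtype.ext hQq⟩
  have hex : ∀ Q : minimalPrimes (integralClosure D (FractionRing D) ⊗[D] S),
      ∃ N : MaximalSpectrum (integralClosure D (FractionRing D) ⊗[D] S), Q.1 ≤ N.asIdeal := by
    intro Q
    haveI : Q.1.IsPrime := Q.2.1.1
    obtain ⟨N, hN, hQN⟩ := Ideal.exists_le_maximal Q.1 (Ideal.IsPrime.ne_top inferInstance)
    exact ⟨⟨N, hN⟩, hQN⟩
  choose f₂ hf₂le using hex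
  have hf₂ : Function.Bijective f₂ := by
    constructor
    · intro Q₁ Q₂ h
      apply Subtype.ext
      haveI := (f₂ Q₁).isMaximal
      exact hU Q₁.1 Q₁.2 Q₂.1 Q₂.2 (f₂ Q₁).asIdeal (f₂ Q₁).isMaximal.isPrime
        (hf₂le Q₁) (by rw [h]; exact hf₂le Q₂)
    · intro N
      haveI := N.isMaximal
      obtain ⟨Q, hQ, hQN⟩ := Ideal.exists_minimalPrimes_le (bot_le : ⊥ ≤ N.asIdeal)
      refine ⟨⟨Q, hQ⟩, ?_⟩
      haveI : Q.IsPrime := hQ.1.1
      haveI := (f₂ ⟨Q, hQ⟩).isMaximal
      exact MaximalSpectrum.ext (maximal_unique_of_prime_le D S Q _ _ (hf₂le ⟨Q, hQ⟩) hQN)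
  rw [← ENat.card_congr (Equiv.ofBijective f₃ hf₃), ENat.card_congr (Equiv.ofBijective f₂ hf₂)]

theorem card_maximalSpectrum_T_eq
    (hres : ∀ s : S, ∃ d : D, s - algebraMap D S d ∈ maximalIdeal S) :
    ENat.card (MaximalSpectrum (integralClosure D (FractionRing D) ⊗[D] S)) =
      ENat.card (MaximalSpectrum (integralClosure D (FractionRing D))) := by
  let f₁ : MaximalSpectrum (integralClosure D (FractionRing D) ⊗[D] S) →
      MaximalSpectrum (integralClosure D (FractionRing D)) :=
    fun N => ⟨N.asIdeal.comap (algebraMap (integralClosure D (FractionRing D)) _),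
      haveI := N.isMaximal
      comap_alpha_isMaximal D S N.asIdeal⟩
  have hf₁ : Function.Bijective f₁ := by
    constructor
    · intro N₁ N₂ h
      haveI := N₁.isMaximal
      haveI := N₂.isMaximal
      exact MaximalSpectrum.ext (comap_alpha_injective D S hres N₁.asIdeal N₂.asIdeal
        (congrArg MaximalSpectrum.asIdeal h))
    · intro m'
      haveI := m'.isMaximal
      obtain ⟨N, hN, hNm⟩ := exists_maximal_comap_alpha D S m'.asIdeal
      exact ⟨⟨N, hN⟩, MaximalSpectrum.ext hNm⟩
  exact ENat.card_congr (Equiv.ofBijective f₁ hf₁)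

theorem card_maximalSpectrum_eq_numBranches :
    ENat.card (MaximalSpectrum (integralClosure D (FractionRing D))) = Brnch.numBranches D := by
  unfold Brnch.numBranches
  rw [if_pos (Groth.Agent.Lib.Branches.finite_minimalPrimes_of_isDomain _)]
  exact ENat.card_congr (Groth.Agent.Lib.Branches.maximalSpectrumCongr
    (Groth.Agent.Lib.Branches.normRedEquiv D))

/-- **Main count (domain case), flat version.** -/
theorem card_minimalPrimes_eq_numBranches_domain'
    (hU : UniqueMin (integralClosure D (FractionRing D) ⊗[D] S))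
    (hres : ∀ s : S, ∃ d : D, s - algebraMap D S d ∈ maximalIdeal S) :
    ENat.card (minimalPrimes S) = Brnch.numBranches D := by
  rw [card_minimalPrimes_eq_card_maximalSpectrum' D S hU, card_maximalSpectrum_T_eq D S hres,
    card_maximalSpectrum_eq_numBranches D]

/-- **Main count, strict domain case, flat version.** -/
theorem card_minimalPrimes_eq_numGeomBranches_domain'
    (hU : UniqueMin (integralClosure D (FractionRing D) ⊗[D] S))
    [IsSepClosed (ResidueField S)]
    (halg : ∀ s : S, ∃ p : D[X], p.Monic ∧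
      Polynomial.eval₂ (algebraMap D S) s p ∈ maximalIdeal S) :
    ENat.card (minimalPrimes S) = Brnch.numGeomBranches D := by
  obtain ⟨ι, hι, hker⟩ := exists_iota D S halg
  rw [card_minimalPrimes_eq_card_maximalSpectrum' D S hU, numGeomBranches_eq_card_HPts D,
    ← ENat.card_congr (Equiv.ofBijective _ (kerMap_bijective D S ι hker)),
    ENat.card_congr (Equiv.ofBijective _ (gToH_bijective hι))]

end CoreN

end Groth.Agent.Lib.HensBranchesH3
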