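import Mathlib
import Groth.Prelude.Def_Brnch
import Groth.Prelude.Def_Hens2
import Groth.Agent.Lib.BrEtNbhd1_helper3
import Groth.Agent.Lib.BrEtNbhd2_helper3
import Groth.Agent.Lib.BrEtNbhd3_helper3
import Groth.Agent.Lib.HensBranches12_helper3
import Groth.Agent.Lib.Henselization2_helper3

/-!
# Branches through étale neighbourhoods: every étale neighbourhood is bounded by the number of
(geometric) branches (helper3)
-/

set_option autoImplicit false
set_option maxSynthPendingDepth 3
universe u

namespace Groth.Agent.Lib.BrEtNbhdH3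

open AlgebraicGeometry IsLocalRing EGA4loc CategoryTheory Opposite

section RingEquiv

theorem encard_minimalPrimes_le_of_ringEquiv {R R' : Type*} [CommRing R] [CommRing R']
    (e : R ≃+* R') : (minimalPrimes R').encard ≤ (minimalPrimes R).encard := by
  refine Set.encard_le_encard_of_injOn (f := fun P : Ideal R' => P.comap (e : R →+* R')) ?_ ?_
  · intro P hP
    exact Groth.Agent.Lib.HensBranchesH3.comap_mem_minimalPrimes_of_ringEquiv e hP
  · intro P _ Q _ hPQ
    exact Ideal.comap_injective_of_surjective (e : R →+* R') e.surjective hPQ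

theorem encard_minimalPrimes_eq_of_ringEquiv {R R' : Type*} [CommRing R] [CommRing R']
    (e : R ≃+* R') : (minimalPrimes R).encard = (minimalPrimes R').encard :=
  le_antisymm (encard_minimalPrimes_le_of_ringEquiv e.symm) (encard_minimalPrimes_le_of_ringEquiv e)

end RingEquiv

section StalkMap

variable {U X : Scheme.{u}} (g : U ⟶ X)

/-- the stalk map of an étale morphism is essentially étale -/
theorem isEssentiallyEtale_stalkMap [Etale g] (u : U) :
    letI := (g.stalkMap u).hom.toAlgebra
    IsEssentiallyEtale (X.presheaf.stalk (g u)) (U.presheaf.stalk u) := by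
  letI algAB : Algebra (X.presheaf.stalk (g u)) (U.presheaf.stalk u) :=
    (g.stalkMap u).hom.toAlgebra
  obtain ⟨V, hV, hxV, -⟩ := exists_isAffineOpen_mem_and_subset (x := g u) (U := ⊤) trivial
  have huV : u ∈ g ⁻¹ᵁ V := hxV
  obtain ⟨W, hW, huW, hWV⟩ := exists_isAffineOpen_mem_and_subset huV
  have e : W ≤ g ⁻¹ᵁ V := hWV
  letI algRE : Algebra Γ(X, V) Γ(U, W) := (g.appLE V W e).hom.toAlgebra
  haveI : Algebra.Etale Γ(X, V) Γ(U, W) := g.etale_appLE hV hW e
  letI algEB : Algebra Γ(U, W) (U.presheaf.stalk u) :=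
    U.presheaf.algebra_section_stalk ⟨u, huW⟩
  letI algRA : Algebra Γ(X, V) (X.presheaf.stalk (g u)) :=
    X.presheaf.algebra_section_stalk ⟨g u, hxV⟩
  haveI hlocA : IsLocalization.AtPrime (X.presheaf.stalk (g u))
      (hV.primeIdealOf ⟨g u, hxV⟩).asIdeal := hV.isLocalization_stalk ⟨g u, hxV⟩
  haveI hlocB : IsLocalization.AtPrime (U.presheaf.stalk u)
      (hW.primeIdealOf ⟨u, huW⟩).asIdeal := hW.isLocalization_stalk ⟨u, huW⟩
  letI algRB : Algebra Γ(X, V) (U.presheaf.stalk u) :=
    ((algebraMap Γ(U, W) (U.presheaf.stalk u)).comp (algebraMap Γ(X, V) Γ(U, W))).toAlgebra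
  haveI tow1 : IsScalarTower Γ(X, V) Γ(U, W) (U.presheaf.stalk u) :=
    IsScalarTower.of_algebraMap_eq (fun _ => rfl)
  haveI tow2 : IsScalarTower Γ(X, V) (X.presheaf.stalk (g u)) (U.presheaf.stalk u) :=
    IsScalarTower.of_algebraMap_eq (fun r => by
      show U.presheaf.germ W u huW (g.appLE V W e r) =
        g.stalkMap u (X.presheaf.germ V (g u) hxV r)
      rw [Scheme.Hom.germ_stalkMap_apply, Scheme.Hom.appLE, CommRingCat.comp_apply,
        TopCat.Presheaf.germ_res_apply])
  exact isEssentiallyEtale_of_isLocalization Γ(X, V) (hV.primeIdealOf ⟨g u, hxV⟩).asIdeal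
    (X.presheaf.stalk (g u)) Γ(U, W) (hW.primeIdealOf ⟨u, huW⟩).asIdeal (U.presheaf.stalk u)
    (congrArg PrimeSpectrum.asIdeal (IsAffineOpen.comap_primeIdealOf_appLE V hV W hW e huW))

/-- geometric branches bound the number of components through a point of an étale neighbourhood -/
theorem count_le_numGeomBranchesAt [Etale g] (u : U) :
    {Z : Set U | Z ∈ irreducibleComponents U ∧ u ∈ Z}.encard ≤
      Brnch.numGeomBranchesAt X (g u) := by
  rw [encard_components_through_eq]
  letI algAB : Algebra (X.presheaf.stalk (g u)) (U.presheaf.stalk u) :=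
    (g.stalkMap u).hom.toAlgebra
  haveI : IsLocalHom (algebraMap (X.presheaf.stalk (g u)) (U.presheaf.stalk u)) :=
    inferInstanceAs (IsLocalHom (g.stalkMap u).hom)
  have hess := isEssentiallyEtale_stalkMap g u
  obtain ⟨k, ⟨e⟩⟩ := exists_idx_of_essEtale
    (K := SeparableClosure (ResidueField (X.presheaf.stalk (g u)))) (U.presheaf.stalk u) hess
  rw [encard_minimalPrimes_eq_of_ringEquiv e.toRingEquiv]
  show _ ≤ Brnch.numGeomBranches (X.presheaf.stalk (g u))
  rw [numGeomBranches_eq_iSup]
  exact le_iSup (fun i : Groth.Agent.Lib.StrictHens.Idx (X.presheaf.stalk (g u))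
    (SeparableClosure (ResidueField (X.presheaf.stalk (g u)))) => (minimalPrimes i.A).encard) k

/-- branches bound the number of components through a point of an elementary étale
neighbourhood -/
theorem count_le_numBranchesAt [Etale g] (u : U)
    (hres : Function.Bijective (g.residueFieldMap u)) :
    {Z : Set U | Z ∈ irreducibleComponents U ∧ u ∈ Z}.encard ≤
      Brnch.numBranchesAt X (g u) := by
  rw [encard_components_through_eq]
  letI algAB : Algebra (X.presheaf.stalk (g u)) (U.presheaf.stalk u) :=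
    (g.stalkMap u).hom.toAlgebra
  haveI : IsLocalHom (algebraMap (X.presheaf.stalk (g u)) (U.presheaf.stalk u)) :=
    inferInstanceAs (IsLocalHom (g.stalkMap u).hom)
  have hess := isEssentiallyEtale_stalkMap g u
  have hstrict : IsStrictlyEssentiallyEtale (X.presheaf.stalk (g u)) (U.presheaf.stalk u) :=
    ⟨hess, hres⟩
  obtain ⟨k, ⟨e⟩⟩ := Groth.Agent.Lib.HenselizationH3.exists_idx_of_strict
    (U.presheaf.stalk u) hstrict
  rw [encard_minimalPrimes_eq_of_ringEquiv e.toRingEquiv]
  show _ ≤ Brnch.numBranches (X.presheaf.stalk (g u))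
  rw [numBranches_eq_iSup]
  exact le_iSup (fun i : Groth.Agent.Lib.HenselizationH3.Idx (X.presheaf.stalk (g u)) =>
    (minimalPrimes i.A).encard) k

end StalkMap

end Groth.Agent.Lib.BrEtNbhdH3
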