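import Mathlib
import Groth.Prelude.Def_Brnch
import Groth.Prelude.Def_Hens2
import Groth.Agent.Lib.BrEtNbhd4_helper3
import Groth.Agent.Lib.EssEtTrans_helper4

/-!
# Branches through étale neighbourhoods: spreading out an essentially étale local algebra of the
local ring to an étale neighbourhood (helper3)
-/

set_option autoImplicit false
set_option maxSynthPendingDepth 3
universe u

namespace Groth.Agent.Lib.BrEtNbhdH3

open AlgebraicGeometry IsLocalRing EGA4loc CategoryTheory Opposite

section RL2

variable (R : Type u) [CommRing R] (p : Ideal R) [p.IsPrime]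
  (A : Type u) [CommRing A] [IsLocalRing A] [Algebra R A] [IsLocalization.AtPrime A p]
  (E : Type u) [CommRing E] [Algebra R E] (q : Ideal E) [q.IsPrime]
  (D : Type u) [CommRing D] [IsLocalRing D] [Algebra A D] [IsLocalHom (algebraMap A D)]
  [Algebra R D] [IsScalarTower R A D]
  (κ : Localization.AtPrime q ≃ₐ[R] D)

include A D κ in
theorem comap_eq_of_algEquiv : p = q.comap (algebraMap R E) := by
  ext r
  rw [Ideal.mem_comap]
  have h1 : algebraMap R E r ∈ q ↔ ¬ IsUnit (algebraMap R (Localization.AtPrime q) r) := by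
    rw [IsScalarTower.algebraMap_apply R E (Localization.AtPrime q),
      IsLocalization.AtPrime.isUnit_to_map_iff (Localization.AtPrime q) q,
      Ideal.mem_primeCompl_iff, not_not]
  have h2 : IsUnit (algebraMap R (Localization.AtPrime q) r) ↔ IsUnit (algebraMap R D r) := by
    constructor
    · intro h
      have := h.map κ
      rwa [κ.commutes] at this
    · intro h
      have := h.map κ.symm
      rwa [κ.symm.commutes] at this
  have h3 : IsUnit (algebraMap R D r) ↔ IsUnit (algebraMap R A r) := by
    rw [IsScalarTower.algebraMap_apply R A D]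
    exact isUnit_map_iff (algebraMap A D) _
  have h4 : IsUnit (algebraMap R A r) ↔ r ∉ p := by
    rw [IsLocalization.AtPrime.isUnit_to_map_iff A p]
    rfl
  rw [h1, h2, h3, h4, not_not]

include A D κ in
theorem residueField_map_bijective_of_algEquiv
    (hres : ∀ d : D, ∃ a : A, d - algebraMap A D a ∈ maximalIdeal D)
    (hq : p = q.comap (algebraMap R E)) :
    Function.Bijective (Ideal.ResidueField.map p q (algebraMap R E) hq) := by
  refine ⟨RingHom.injective _, fun y => ?_⟩
  obtain ⟨b, rfl⟩ := IsLocalRing.residue_surjective y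
  obtain ⟨a, ha⟩ := hres (κ b)
  obtain ⟨⟨r, s⟩, hrs⟩ := IsLocalization.surj p.primeCompl a
  refine ⟨IsLocalRing.residue _ (IsLocalization.mk' (Localization.AtPrime p) r s), ?_⟩
  show IsLocalRing.ResidueField.map (Localization.localRingHom p q (algebraMap R E) hq)
    (IsLocalRing.residue _ (IsLocalization.mk' (Localization.AtPrime p) r s)) = _
  rw [IsLocalRing.ResidueField.map_residue, ← sub_eq_zero, ← map_sub,
    IsLocalRing.residue_eq_zero_iff]
  have hκ : ∀ z : Localization.AtPrime q,
      z ∈ maximalIdeal (Localization.AtPrime q) ↔ κ z ∈ maximalIdeal D := fun z => by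
    rw [mem_maximalIdeal, mem_maximalIdeal, mem_nonunits_iff, mem_nonunits_iff, not_iff_not]
    exact ⟨fun h => h.map κ, fun h => by
      have := h.map κ.symm
      rwa [κ.symm_apply_apply] at this⟩
  rw [hκ, map_sub]
  have hsA : IsUnit (algebraMap R A (s : R)) := IsLocalization.map_units A s
  have hsD : IsUnit (algebraMap R D (s : R)) := by
    rw [IsScalarTower.algebraMap_apply R A D]
    exact hsA.map _
  have e1 : Localization.localRingHom p q (algebraMap R E) hq
      (IsLocalization.mk' (Localization.AtPrime p) r s) *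
        algebraMap R (Localization.AtPrime q) (s : R) =
      algebraMap R (Localization.AtPrime q) r := by
    have h1 : ∀ t : R, algebraMap R (Localization.AtPrime q) t =
        Localization.localRingHom p q (algebraMap R E) hq
          (algebraMap R (Localization.AtPrime p) t) := fun t => by
      rw [Localization.localRingHom_to_map,
        ← IsScalarTower.algebraMap_apply R E (Localization.AtPrime q)]
    rw [h1, h1, ← map_mul, IsLocalization.mk'_spec]
  have e2 : κ (Localization.localRingHom p q (algebraMap R E) hq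
      (IsLocalization.mk' (Localization.AtPrime p) r s)) * algebraMap R D (s : R) =
      algebraMap R D r := by
    rw [← κ.commutes (s : R), ← map_mul, e1, κ.commutes]
  have e3 : algebraMap A D a * algebraMap R D (s : R) = algebraMap R D r := by
    rw [IsScalarTower.algebraMap_apply R A D, ← map_mul, hrs,
      ← IsScalarTower.algebraMap_apply R A D]
  have h5 : κ (Localization.localRingHom p q (algebraMap R E) hq
      (IsLocalization.mk' (Localization.AtPrime p) r s)) = algebraMap A D a :=
    hsD.mul_left_injective (e2.trans e3.symm)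
  rw [h5]
  have : algebraMap A D a - κ b = -(κ b - algebraMap A D a) := by ring
  rw [this]
  exact (maximalIdeal D).neg_mem ha

include p A D κ in
theorem residueField_map_surjective_of_algEquiv'
    (hres : ∀ d : D, ∃ a : A, d - algebraMap A D a ∈ maximalIdeal D) :
    Function.Surjective
      (Ideal.ResidueField.map (q.comap (algebraMap R E)) q (algebraMap R E) rfl) := by
  have hq := comap_eq_of_algEquiv R p A E q D κ
  subst hq
  exact (residueField_map_bijective_of_algEquiv R _ A E q D κ hres rfl).2

end RL2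

section SpecRes

theorem residueFieldMap_SpecMap_surjective {R E : Type u} [CommRing R] [CommRing E] (φ : R →+* E)
    (q : Ideal E) [hqp : q.IsPrime]
    (h : Function.Surjective (Ideal.ResidueField.map (q.comap φ) q φ rfl)) :
    Function.Surjective
      ((Spec.map (CommRingCat.ofHom φ)).residueFieldMap (⟨q, hqp⟩ : PrimeSpectrum E)) := by
  intro z
  obtain ⟨b, rfl⟩ := IsLocalRing.residue_surjective z
  obtain ⟨w, hw⟩ := h (IsLocalRing.residue _
    ((Spec.stalkIso (CommRingCat.of E) (⟨q, hqp⟩ : PrimeSpectrum E)).hom b))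
  obtain ⟨a', rfl⟩ := IsLocalRing.residue_surjective w
  refine ⟨IsLocalRing.residue _ ((Spec.stalkIso (CommRingCat.of R)
    ((⟨q, hqp⟩ : PrimeSpectrum E).comap φ)).inv a'), ?_⟩
  show IsLocalRing.ResidueField.map
    ((Spec.map (CommRingCat.ofHom φ)).stalkMap (⟨q, hqp⟩ : PrimeSpectrum E)).hom _ = _
  rw [IsLocalRing.ResidueField.map_residue]
  have key := Scheme.localRingHom_comp_stalkIso_apply (CommRingCat.ofHom φ)
    (⟨q, hqp⟩ : PrimeSpectrum E)
    ((Spec.stalkIso (CommRingCat.of R) ((⟨q, hqp⟩ : PrimeSpectrum E).comap φ)).inv a')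
  erw [← key]
  rw [← sub_eq_zero, ← map_sub, IsLocalRing.residue_eq_zero_iff]
  have hw' : Localization.localRingHom (q.comap φ) q φ rfl a' -
      (Spec.stalkIso (CommRingCat.of E) (⟨q, hqp⟩ : PrimeSpectrum E)).hom b ∈
      maximalIdeal (Localization.AtPrime q) := by
    rw [← IsLocalRing.residue_eq_zero_iff, map_sub, sub_eq_zero]
    exact hw
  have hloc : ∀ x : Localization.AtPrime q, x ∈ maximalIdeal (Localization.AtPrime q) →
      (Spec.stalkIso (CommRingCat.of E) (⟨q, hqp⟩ : PrimeSpectrum E)).inv x ∈
        maximalIdeal ((Spec (CommRingCat.of E)).presheaf.stalk (⟨q, hqp⟩ : PrimeSpectrum E)) := by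
    intro x hx
    rw [mem_maximalIdeal, mem_nonunits_iff] at hx ⊢
    intro hu
    apply hx
    have := hu.map (Spec.stalkIso (CommRingCat.of E) (⟨q, hqp⟩ : PrimeSpectrum E)).hom.hom
    erw [Iso.inv_hom_id_apply] at this
    exact this
  have hmem := hloc _ hw'
  rw [map_sub] at hmem
  erw [Iso.hom_inv_id_apply] at hmem
  erw [Iso.inv_hom_id_apply]
  exact hmem

end SpecRes

section Spread

variable (X : Scheme.{u}) (x : X)

/-- an étale algebra over the local ring with a prime over the closed point spreads out to an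
étale neighbourhood -/
theorem exists_etale_nbhd_of_etale_algebra
    (C : Type u) [CommRing C] [Algebra (X.presheaf.stalk x) C]
    [Algebra.Etale (X.presheaf.stalk x) C] (q₂ : Ideal C) [q₂.IsPrime]
    (hq₂ : q₂.comap (algebraMap (X.presheaf.stalk x) C) = maximalIdeal (X.presheaf.stalk x)) :
    ∃ (U : Scheme.{u}) (g : U ⟶ X) (u : U), Etale g ∧ g u = x ∧
      {Z : Set U | Z ∈ irreducibleComponents U ∧ u ∈ Z}.encard =
        (minimalPrimes (Localization.AtPrime q₂)).encard ∧
      ((∀ d : Localization.AtPrime q₂, ∃ a : X.presheaf.stalk x,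
          d - algebraMap (X.presheaf.stalk x) (Localization.AtPrime q₂) a ∈
            maximalIdeal (Localization.AtPrime q₂)) →
        Function.Bijective (g.residueFieldMap u)) := by
  obtain ⟨V, hV, hxV, -⟩ := exists_isAffineOpen_mem_and_subset (x := x) (U := ⊤) trivial
  letI algRA : Algebra Γ(X, V) (X.presheaf.stalk x) := X.presheaf.algebra_section_stalk ⟨x, hxV⟩
  haveI hlocA : IsLocalization.AtPrime (X.presheaf.stalk x)
      (hV.primeIdealOf ⟨x, hxV⟩).asIdeal := hV.isLocalization_stalk ⟨x, hxV⟩
  letI algRC : Algebra Γ(X, V) C :=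
    ((algebraMap (X.presheaf.stalk x) C).comp
      (algebraMap Γ(X, V) (X.presheaf.stalk x))).toAlgebra
  haveI tow : IsScalarTower Γ(X, V) (X.presheaf.stalk x) C :=
    IsScalarTower.of_algebraMap_eq (fun _ => rfl)
  obtain ⟨E, _, _, q, _, hE, ⟨κ⟩⟩ := Groth.Agent.Lib.EssEtTransH4.core Γ(X, V) Γ(X, V)
    (X.presheaf.stalk x) C (hV.primeIdealOf ⟨x, hxV⟩).asIdeal q₂
  haveI := hE
  haveI hlh : IsLocalHom (algebraMap (X.presheaf.stalk x) (Localization.AtPrime q₂)) :=
    Groth.Agent.Lib.EssEt.isLocalHom_of_comap q₂ hq₂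
  haveI tow2 : IsScalarTower Γ(X, V) (X.presheaf.stalk x) (Localization.AtPrime q₂) :=
    IsScalarTower.of_algebraMap_eq (fun r => by
      rw [IsScalarTower.algebraMap_apply Γ(X, V) C (Localization.AtPrime q₂),
        IsScalarTower.algebraMap_apply (X.presheaf.stalk x) C (Localization.AtPrime q₂),
        IsScalarTower.algebraMap_apply Γ(X, V) (X.presheaf.stalk x) C])
  have hq := comap_eq_of_algEquiv Γ(X, V) (hV.primeIdealOf ⟨x, hxV⟩).asIdeal
    (X.presheaf.stalk x) E q (Localization.AtPrime q₂) κ
  let φ : Γ(X, V) ⟶ CommRingCat.of E := CommRingCat.ofHom (algebraMap Γ(X, V) E)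
  haveI hetφ : Etale (Spec.map φ) :=
    (HasRingHomProperty.Spec_iff (P := @Etale)).mpr (RingHom.etale_algebraMap.mpr hE)
  refine ⟨Spec (CommRingCat.of E), Spec.map φ ≫ hV.fromSpec,
    (⟨q, inferInstance⟩ : PrimeSpectrum E), inferInstance, ?_, ?_, ?_⟩
  · have h1 : (Spec.map φ) (⟨q, inferInstance⟩ : PrimeSpectrum E) =
        hV.primeIdealOf ⟨x, hxV⟩ := PrimeSpectrum.ext hq.symm
    rw [Scheme.Hom.comp_apply, h1]
    exact hV.fromSpec_primeIdealOf ⟨x, hxV⟩
  · rw [encard_components_through_eq,
      encard_minimalPrimes_eq_of_ringEquiv (Spec.stalkIso (CommRingCat.of E)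
        (⟨q, inferInstance⟩ : PrimeSpectrum E)).commRingCatIsoToRingEquiv]
    exact encard_minimalPrimes_eq_of_ringEquiv κ.toRingEquiv
  · intro hres
    have hsurj0 := residueField_map_surjective_of_algEquiv' Γ(X, V)
      (hV.primeIdealOf ⟨x, hxV⟩).asIdeal (X.presheaf.stalk x) E q (Localization.AtPrime q₂) κ hres
    have hsurj := residueFieldMap_SpecMap_surjective (algebraMap Γ(X, V) E) q hsurj0
    refine ⟨((Spec.map φ ≫ hV.fromSpec).residueFieldMap _).hom.injective, fun w => ?_⟩
    obtain ⟨z₁, hz₁⟩ := hsurj w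
    obtain ⟨z₀, hz₀⟩ := (ConcreteCategory.bijective_of_isIso
      (hV.fromSpec.residueFieldMap ((Spec.map φ) (⟨q, inferInstance⟩ : PrimeSpectrum E)))).2 z₁
    refine ⟨z₀, ?_⟩
    rw [Scheme.residueFieldMap_comp]
    erw [CommRingCat.comp_apply, hz₀]
    exact hz₁

end Spread

end Groth.Agent.Lib.BrEtNbhdH3
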