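import Mathlib
import Groth.Prelude.Def_Brnch
import Groth.Prelude.Def_Hens2
import Groth.Agent.Lib.BrEtNbhd4_helper3
import Groth.Agent.Lib.EssEtTrans_helper4
import Groth.Agent.Lib.EtaleReduced_helper7
import Groth.Agent.S9236

/-!
# Geometric branches along essentially étale local homomorphisms (helper3)

* `numGeomBranches_le_of_essEtale`: the number of geometric branches does not increase along an
  essentially étale local homomorphism;
* `isDomain_and_isGeomUnibranch_of_essEtale`: an essentially étale local algebra over a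
  geometrically unibranch domain is a geometrically unibranch domain;
* `isEssentiallyEtale_stalkMap_of_etaleOn`: the stalk map at a point where the morphism is étale
  is essentially étale.
-/

set_option autoImplicit false
set_option maxSynthPendingDepth 3
universe u

namespace Groth.Agent.Lib.BrEtNbhdH3

open AlgebraicGeometry IsLocalRing EGA4loc CategoryTheory Opposite

section Ring

theorem isEssentiallyEtale_of_algEquiv {A B B' : Type u} [CommRing A] [IsLocalRing A]
    [CommRing B] [CommRing B'] [Algebra A B] [Algebra A B'] (e : B ≃ₐ[A] B')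
    (h : IsEssentiallyEtale A B) : IsEssentiallyEtale A B' := by
  obtain ⟨C, _, _, q, _, hC, hq, ⟨κ⟩⟩ := h
  exact ⟨C, _, _, q, _, hC, hq, ⟨e.symm.trans κ⟩⟩

theorem isEssentiallyEtale_self (B : Type u) [CommRing B] [IsLocalRing B] :
    IsEssentiallyEtale B B := by
  refine ⟨B, inferInstance, inferInstance, maximalIdeal B, inferInstance, inferInstance, ?_, ⟨?_⟩⟩
  · ext a
    simp
  · refine IsLocalization.atUnits B (maximalIdeal B).primeCompl ?_
    intro b hb
    have : b ∉ maximalIdeal B := hb
    rw [mem_maximalIdeal, mem_nonunits_iff, not_not] at this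
    exact this

variable (A B : Type u) [CommRing A] [IsLocalRing A] [CommRing B] [IsLocalRing B] [Algebra A B]
  [IsLocalHom (algebraMap A B)]

/-- the number of geometric branches does not increase along essentially étale local maps -/
theorem numGeomBranches_le_of_essEtale (h : IsEssentiallyEtale A B) :
    Brnch.numGeomBranches B ≤ Brnch.numGeomBranches A := by
  rw [numGeomBranches_eq_iSup B]
  refine iSup_le fun j => ?_
  have h1 : IsEssentiallyEtale B j.A := j.essEtale
  haveI : IsScalarTower A B j.A := inferInstance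
  haveI : IsLocalHom (algebraMap A j.A) := by
    rw [IsScalarTower.algebraMap_eq A B j.A]
    exact RingHom.isLocalHom_comp (algebraMap B j.A) (algebraMap A B)
  have h2 : IsEssentiallyEtale A j.A := Groth.Agent.Lib.EssEtTransH4.main A B j.A h h1
  obtain ⟨k, ⟨e⟩⟩ := exists_idx_of_essEtale (K := SeparableClosure (ResidueField A)) j.A h2
  rw [encard_minimalPrimes_eq_of_ringEquiv e.toRingEquiv, numGeomBranches_eq_iSup A]
  exact le_iSup (fun i : Groth.Agent.Lib.StrictHens.Idx A (SeparableClosure (ResidueField A)) =>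
    (minimalPrimes i.A).encard) k

omit [Algebra A B] [IsLocalHom (algebraMap A B)] in
theorem encard_minimalPrimes_le_numGeomBranches :
    (minimalPrimes B).encard ≤ Brnch.numGeomBranches B := by
  obtain ⟨k, ⟨e⟩⟩ := exists_idx_of_essEtale (K := SeparableClosure (ResidueField B)) B
    (isEssentiallyEtale_self B)
  rw [encard_minimalPrimes_eq_of_ringEquiv e.toRingEquiv, numGeomBranches_eq_iSup B]
  exact le_iSup (fun i : Groth.Agent.Lib.StrictHens.Idx B (SeparableClosure (ResidueField B)) =>
    (minimalPrimes i.A).encard) k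

omit [Algebra A B] [IsLocalHom (algebraMap A B)] in
theorem one_le_numGeomBranches : 1 ≤ Brnch.numGeomBranches B := by
  refine le_trans ?_ (encard_minimalPrimes_le_numGeomBranches B)
  rw [Set.one_le_encard_iff_nonempty]
  obtain ⟨P, hP, -⟩ := Ideal.exists_minimalPrimes_le (I := (⊥ : Ideal B))
    (J := maximalIdeal B) bot_le
  exact ⟨P, hP⟩

omit [IsLocalRing B] [IsLocalHom (algebraMap A B)] in
theorem isReduced_of_essEtale [IsReduced A] (h : IsEssentiallyEtale A B) : IsReduced B := by
  obtain ⟨C, _, _, q, _, hC, hq, ⟨κ⟩⟩ := h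
  haveI : IsReduced C := Groth.Agent.Lib.EtaleReduced_helper7.isReduced_of_etale A C
  exact isReduced_of_injective κ.toRingHom κ.injective

omit [Algebra A B] [IsLocalHom (algebraMap A B)] [IsLocalRing B] in
theorem isDomain_of_isReduced_of_encard_le_one [Nontrivial B] [IsReduced B]
    (h : (minimalPrimes B).encard ≤ 1) : IsDomain B := by
  obtain ⟨P, hP⟩ : (minimalPrimes B).Nonempty := by
    obtain ⟨M, hM⟩ := Ideal.exists_maximal B
    obtain ⟨P, hP, -⟩ := Ideal.exists_minimalPrimes_le (I := (⊥ : Ideal B)) (J := M) bot_le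
    exact ⟨P, hP⟩
  have hsingle : minimalPrimes B = {P} := by
    rw [Set.encard_le_one_iff] at h
    ext Q
    constructor
    · intro hQ
      exact h Q P hQ hP
    · rintro rfl
      exact hP
  have h1 : sInf (minimalPrimes B) = nilradical B := by
    show sInf ((⊥ : Ideal B).minimalPrimes) = _
    rw [Ideal.sInf_minimalPrimes]
    rfl
  rw [hsingle, sInf_singleton, nilradical_eq_zero] at h1
  haveI : P.IsPrime := hP.1.1
  haveI : (⊥ : Ideal B).IsPrime := by
    have : P = ⊥ := h1
    rw [← this]
    infer_instance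
  exact IsDomain.of_bot_isPrime B

/-- an essentially étale local algebra over a geometrically unibranch local domain is a
geometrically unibranch local domain -/
theorem isDomain_and_isGeomUnibranch_of_essEtale [IsDomain A] (hA : CAlg2.IsGeomUnibranch A)
    (h : IsEssentiallyEtale A B) : IsDomain B ∧ CAlg2.IsGeomUnibranch B := by
  rw [← Groth.Agent.S9236.result] at hA ⊢
  have hle : Brnch.numGeomBranches B ≤ 1 := hA ▸ numGeomBranches_le_of_essEtale A B h
  refine ⟨?_, le_antisymm hle (one_le_numGeomBranches B)⟩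
  haveI : IsReduced B := isReduced_of_essEtale A B h
  exact isDomain_of_isReduced_of_encard_le_one B
    (le_trans (encard_minimalPrimes_le_numGeomBranches B) hle)

end Ring

section Scheme

/-- the stalk map at a point near which the morphism is étale is essentially étale -/
theorem isEssentiallyEtale_stalkMap_of_etaleOn {X Y : Scheme.{u}} (f : X ⟶ Y) (x : X)
    (U : X.Opens) (hx : x ∈ U) [Etale (U.ι ≫ f)] :
    letI := (f.stalkMap x).hom.toAlgebra
    IsEssentiallyEtale (Y.presheaf.stalk (f x)) (X.presheaf.stalk x) := by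
  letI algAB : Algebra (Y.presheaf.stalk (f x)) (X.presheaf.stalk x) :=
    (f.stalkMap x).hom.toAlgebra
  have h0 := isEssentiallyEtale_stalkMap (U.ι ≫ f) ⟨x, hx⟩
  letI algAB' : Algebra (Y.presheaf.stalk (f x)) (U.toScheme.presheaf.stalk ⟨x, hx⟩) :=
    ((U.ι ≫ f).stalkMap ⟨x, hx⟩).hom.toAlgebra
  change IsEssentiallyEtale (Y.presheaf.stalk (f x)) (U.toScheme.presheaf.stalk ⟨x, hx⟩) at h0
  haveI : IsIso (U.ι.stalkMap ⟨x, hx⟩) := inferInstance
  let e' : X.presheaf.stalk x ≃+* U.toScheme.presheaf.stalk ⟨x, hx⟩ :=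
    (asIso (U.ι.stalkMap ⟨x, hx⟩)).commRingCatIsoToRingEquiv
  have he' : ∀ b, e' b = U.ι.stalkMap ⟨x, hx⟩ b := fun _ => rfl
  let e : X.presheaf.stalk x ≃ₐ[Y.presheaf.stalk (f x)] U.toScheme.presheaf.stalk ⟨x, hx⟩ :=
    AlgEquiv.ofRingEquiv (f := e') (fun a => by
      rw [he']
      show U.ι.stalkMap ⟨x, hx⟩ (f.stalkMap x a) = (U.ι ≫ f).stalkMap ⟨x, hx⟩ a
      rw [Scheme.Hom.stalkMap_comp]
      rfl)
  exact isEssentiallyEtale_of_algEquiv e.symm h0

end Scheme

end Groth.Agent.Lib.BrEtNbhdH3
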