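import Mathlib
import Groth.Agent.Lib.BrEtNbhd2_helper3
import Groth.Agent.Lib.EtDim1_helper8

/-!
# Irreducible components of a scheme étale over an irreducible scheme (helper3)

For `f : X ⟶ Y` étale with `Y` irreducible with generic point `η`:
* the maximal points of `X` are exactly the points of the generic fibre `f ⁻¹ {η}`;
* the generic fibre is locally finite in `X`;
* if every point of `X` lies on exactly one irreducible component, then every irreducible component
  is open and contains exactly one point of the generic fibre.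
-/

set_option autoImplicit false
universe u

namespace Groth.Agent.Lib.IrredCompEtaleH3

open AlgebraicGeometry CategoryTheory

/-- An unramified morphism of schemes is locally quasi-finite. -/
theorem locallyQuasiFinite_of_unramified {A B : Scheme.{u}} (g : A ⟶ B) [LocallyOfFiniteType g]
    [FormallyUnramified g] : LocallyQuasiFinite g := by
  constructor
  intro U hU V hV e
  have h1 := LocallyOfFiniteType.finiteType_appLE (f := g) hU hV e
  have h2 := FormallyUnramified.formallyUnramified_appLE (f := g) hU hV e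
  algebraize [(g.appLE U V e).hom]
  have : Algebra.EssFiniteType Γ(B, U) Γ(A, V) := inferInstance
  show Algebra.QuasiFinite _ _
  infer_instance

/-- affine-to-affine locally quasi-finite morphisms have finite fibres (restricted form) -/
theorem finite_inter_preimage_of_affine {W U : Scheme.{u}} (f : W ⟶ U) [LocallyQuasiFinite f]
    (U' : U.Opens) (hU' : IsAffineOpen U') (W' : W.Opens) (hW' : IsAffineOpen W')
    (e : W' ≤ f ⁻¹ᵁ U') (u : ↥U) : ((W' : Set ↥W) ∩ f ⁻¹' {u}).Finite := by
  by_cases hu : u ∈ U'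
  · haveI : IsAffine W'.toScheme := hW'
    haveI : IsAffine U'.toScheme := hU'
    have hfin := (f.resLE U' W' e).finite_preimage_singleton ⟨u, hu⟩
    refine (hfin.image W'.ι).subset ?_
    rintro w ⟨hwW, hwu⟩
    refine ⟨⟨w, hwW⟩, ?_, rfl⟩
    apply Subtype.ext
    have h1 : (f.resLE U' W' e ≫ U'.ι) ⟨w, hwW⟩ = (W'.ι ≫ f) ⟨w, hwW⟩ := by
      rw [Scheme.Hom.resLE_comp_ι]
    simpa using h1.trans hwu
  · convert Set.finite_empty
    ext w
    simp only [Set.mem_inter_iff, SetLike.mem_coe, Set.mem_preimage, Set.mem_singleton_iff,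
      Set.mem_empty_iff_false, iff_false, not_and]
    intro hw hwu
    exact hu (hwu ▸ e hw)

variable {X Y : Scheme.{u}} (f : X ⟶ Y)

/-- every point has an open neighbourhood meeting a given fibre of a locally quasi-finite
morphism in a finite set -/
theorem exists_open_finite_inter_fibre [LocallyQuasiFinite f] (x : X) (y : Y) :
    ∃ W : X.Opens, x ∈ W ∧ ((W : Set X) ∩ f ⁻¹' {y}).Finite := by
  obtain ⟨V, hV, hxV, -⟩ := exists_isAffineOpen_mem_and_subset (x := f x) (U := ⊤) trivial
  have hxV' : x ∈ f ⁻¹ᵁ V := hxV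
  obtain ⟨W, hW, hxW, hWV⟩ := exists_isAffineOpen_mem_and_subset hxV'
  exact ⟨W, hxW, finite_inter_preimage_of_affine f V hV W hW hWV y⟩

variable [IrreducibleSpace Y]

/-- points over the generic point are maximal -/
theorem eq_of_specializes_of_map_eq_genericPoint [LocallyQuasiFinite f] {x x' : X}
    (hx : f x = genericPoint Y) (h : x' ⤳ x) : x' = x := by
  by_contra hne
  have hmono := EtDimH8.strictMono_of_locallyQuasiFinite f
  -- in the specialization order `x ≤ x'` iff `x' ⤳ x`
  have hlt : x < x' := by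
    refine lt_of_le_not_ge h ?_
    intro h'
    have h'' : x ⤳ x' := h'
    exact hne ((h''.antisymm h).eq).symm
  have h2 : f x < f x' := hmono hlt
  have h3 : f x ⤳ f x' := by rw [hx]; exact genericPoint_specializes _
  exact (not_le_of_gt h2) h3

/-- maximal points map to the generic point -/
theorem map_eq_genericPoint_of_maximal [Flat f] {x : X} (hx : ∀ x' : X, x' ⤳ x → x' = x) :
    f x = genericPoint Y := by
  have hg : GeneralizingMap f := Flat.generalizingMap f
  obtain ⟨x', hx', hfx'⟩ := hg (genericPoint_specializes (f x))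
  rw [← hfx', hx x' hx']

/-- if every point lies on exactly one irreducible component, then the components are open and
each contains a unique point over the generic point -/
theorem isOpen_and_existsUnique_of_unique_component [Flat f] [LocallyQuasiFinite f]
    (huniq : ∀ x : X, ∀ Z₁ ∈ irreducibleComponents X, ∀ Z₂ ∈ irreducibleComponents X,
      x ∈ Z₁ → x ∈ Z₂ → Z₁ = Z₂)
    (Z : Set X) (hZ : Z ∈ irreducibleComponents X) :
    IsOpen Z ∧ ∃! x : X, x ∈ Z ∧ f x = genericPoint Y := by
  have hcl : IsClosed Z := isClosed_of_mem_irreducibleComponents Z hZ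
  have hgen := hZ.1.isGenericPoint_genericPoint_closure
  rw [hcl.closure_eq] at hgen
  obtain ⟨ξ, hξ⟩ : ∃ ξ, ξ = hZ.1.genericPoint := ⟨_, rfl⟩
  rw [← hξ] at hgen
  have hZeq : Z = closure {ξ} := hgen.def.symm
  have hξmax : ∀ x' : X, x' ⤳ ξ → x' = ξ := by
    rw [← Groth.Agent.Lib.BrEtNbhdH3.closure_singleton_mem_irreducibleComponents_iff, ← hZeq]
    exact hZ
  have hfξ : f ξ = genericPoint Y := map_eq_genericPoint_of_maximal f hξmax
  have hξZ : ξ ∈ Z := by rw [hZeq]; exact subset_closure rfl
  refine ⟨?_, ξ, ⟨hξZ, hfξ⟩, ?_⟩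
  · rw [isOpen_iff_mem_nhds]
    intro x hxZ
    obtain ⟨W, hxW, hfin⟩ := exists_open_finite_inter_fibre f x (genericPoint Y)
    -- the finitely many other maximal points in `W`
    set F : Set X := ((W : Set X) ∩ f ⁻¹' {genericPoint Y}) \ {ξ} with hF
    have hFfin : F.Finite := hfin.subset Set.diff_subset
    have hclosed : IsClosed (⋃ ζ ∈ F, closure ({ζ} : Set X)) :=
      hFfin.isClosed_biUnion fun _ _ => isClosed_closure
    have hmaxcomp : ∀ ζ : X, f ζ = genericPoint Y → closure ({ζ} : Set X) ∈ irreducibleComponents X := by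
      intro ζ hζ
      rw [Groth.Agent.Lib.BrEtNbhdH3.closure_singleton_mem_irreducibleComponents_iff]
      intro x' hx'
      exact eq_of_specializes_of_map_eq_genericPoint f hζ hx'
    have hxnot : x ∉ ⋃ ζ ∈ F, closure ({ζ} : Set X) := by
      intro hx
      obtain ⟨ζ, hζF, hxζ⟩ := Set.mem_iUnion₂.mp hx
      have hζcomp := hmaxcomp ζ hζF.1.2
      have heq : closure ({ζ} : Set X) = Z := huniq x _ hζcomp _ hZ hxζ hxZ
      have h1 : IsGenericPoint ζ (closure {ξ}) := by rw [← hZeq]; exact heq
      exact hζF.2 (h1.eq isGenericPoint_closure)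
    have hnhds : (W : Set X) ∩ (⋃ ζ ∈ F, closure ({ζ} : Set X))ᶜ ∈ nhds x :=
      Filter.inter_mem (W.isOpen.mem_nhds hxW) (hclosed.isOpen_compl.mem_nhds hxnot)
    refine Filter.mem_of_superset hnhds ?_
    rintro y ⟨hyW, hynot⟩
    -- the component through `y`
    obtain ⟨Zy, hZy, hyZy⟩ : ∃ Zy ∈ irreducibleComponents X, y ∈ Zy :=
      ⟨irreducibleComponent y, irreducibleComponent_mem_irreducibleComponents y,
        mem_irreducibleComponent⟩
    have hcly : IsClosed Zy := isClosed_of_mem_irreducibleComponents Zy hZy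
    have hgeny := hZy.1.isGenericPoint_genericPoint_closure
    rw [hcly.closure_eq] at hgeny
    obtain ⟨ζ, hζ⟩ : ∃ ζ, ζ = hZy.1.genericPoint := ⟨_, rfl⟩
    rw [← hζ] at hgeny
    have hZyeq : Zy = closure {ζ} := hgeny.def.symm
    have hζmax : ∀ x' : X, x' ⤳ ζ → x' = ζ := by
      rw [← Groth.Agent.Lib.BrEtNbhdH3.closure_singleton_mem_irreducibleComponents_iff, ← hZyeq]
      exact hZy
    have hfζ : f ζ = genericPoint Y := map_eq_genericPoint_of_maximal f hζmax
    have hζy : ζ ⤳ y := hgeny.specializes hyZy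
    have hζW : ζ ∈ (W : Set X) := hζy.mem_open W.isOpen hyW
    by_cases hζξ : ζ = ξ
    · rw [hZeq, ← hζξ, ← hZyeq]
      exact hyZy
    · exfalso
      apply hynot
      refine Set.mem_iUnion₂.mpr ⟨ζ, ⟨⟨hζW, hfζ⟩, hζξ⟩, ?_⟩
      rw [← hZyeq]
      exact hyZy
  · rintro x ⟨hxZ, hfx⟩
    have hξx : ξ ⤳ x := hgen.specializes hxZ
    exact (eq_of_specializes_of_map_eq_genericPoint f hfx hξx).symm

end Groth.Agent.Lib.IrredCompEtaleH3
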