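import Mathlib
import Groth.Agent.Lib.BrEtNbhd6_helper3
import Groth.Agent.Lib.EtaleReduced_helper7

/-!
# Unramified + injective on local rings over a geometrically unibranch domain ⇒ étale
(ring level, helper3)

Let `A → B` be of finite type, unramified at a prime `q` over `p`, with `A_p` a geometrically
unibranch domain and `A_p → B_q` injective.  If `A` is a domain or `B` is finitely presented, then
`B_g` is étale over `A` for some `g ∉ q`.
-/

set_option autoImplicit false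
set_option maxSynthPendingDepth 3
universe u

namespace Groth.Agent.Lib.UnramGUH3

open IsLocalRing

section LemmaU

variable {A E : Type u} [CommRing A] [CommRing E] [Algebra A E] [Algebra.QuasiFinite A E]
  (p : Ideal A) [p.IsPrime] (q' : Ideal E) [q'.IsPrime]

/-- the quasi-finite incomparability argument -/
theorem forall_exists_mul_eq_zero_of_mem (hpq : q'.comap (algebraMap A E) = p)
    [IsDomain (Localization.AtPrime p)] [IsDomain (Localization.AtPrime q')]
    (K : Ideal E)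
    (hinj : ∀ (a : A) (t : E), t ∉ q' → t * algebraMap A E a ∈ K → ∃ s : A, s ∉ p ∧ s * a = 0) :
    ∀ x ∈ K, ∃ s : E, s ∉ q' ∧ s * x = 0 := by
  obtain ⟨P₀, hP₀⟩ : ∃ P₀, P₀ = RingHom.ker (algebraMap E (Localization.AtPrime q')) := ⟨_, rfl⟩
  haveI hP₀p : P₀.IsPrime := by rw [hP₀]; exact RingHom.ker_isPrime _
  have hmemP₀ : ∀ x : E, x ∈ P₀ ↔ ∃ s : E, s ∉ q' ∧ s * x = 0 := by
    intro x
    rw [hP₀, RingHom.mem_ker, IsLocalization.map_eq_zero_iff q'.primeCompl]
    constructor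
    · rintro ⟨⟨s, hs⟩, hsx⟩
      exact ⟨s, hs, hsx⟩
    · rintro ⟨s, hs, hsx⟩
      exact ⟨⟨s, hs⟩, hsx⟩
  obtain ⟨𝔞, h𝔞⟩ : ∃ 𝔞, 𝔞 = RingHom.ker (algebraMap A (Localization.AtPrime p)) := ⟨_, rfl⟩
  haveI h𝔞p : 𝔞.IsPrime := by rw [h𝔞]; exact RingHom.ker_isPrime _
  have hmem𝔞 : ∀ a : A, a ∈ 𝔞 ↔ ∃ s : A, s ∉ p ∧ s * a = 0 := by
    intro a
    rw [h𝔞, RingHom.mem_ker, IsLocalization.map_eq_zero_iff p.primeCompl]
    constructor
    · rintro ⟨⟨s, hs⟩, hsx⟩
      exact ⟨s, hs, hsx⟩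
    · rintro ⟨s, hs, hsx⟩
      exact ⟨⟨s, hs⟩, hsx⟩
  obtain ⟨S, hS⟩ : ∃ S : Submonoid E,
      S = q'.primeCompl ⊔ (𝔞.primeCompl.map (algebraMap A E : A →* E)) := ⟨_, rfl⟩
  have hdisj : Disjoint (K : Set E) (S : Set E) := by
    rw [Set.disjoint_left]
    intro y hyK hyS
    rw [SetLike.mem_coe, hS, Submonoid.mem_sup] at hyS
    obtain ⟨t, ht, z, hz, rfl⟩ := hyS
    obtain ⟨a, ha, rfl⟩ := hz
    obtain ⟨s, hs, hsa⟩ := hinj a t ht hyK
    exact ha ((hmem𝔞 a).mpr ⟨s, hs, hsa⟩)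
  obtain ⟨Q₀, hQ₀p, hKQ₀, hQ₀S⟩ := Ideal.exists_le_prime_disjoint K S hdisj
  haveI := hQ₀p
  have hQ₀q' : Q₀ ≤ q' := by
    intro x hx
    by_contra hxq
    have : x ∈ S := by
      rw [hS]
      exact Submonoid.mem_sup_left hxq
    exact (Set.disjoint_left.mp hQ₀S) hx this
  have hQ₀𝔞 : Q₀.comap (algebraMap A E) ≤ 𝔞 := by
    intro a ha
    by_contra ha𝔞
    have : algebraMap A E a ∈ S := by
      rw [hS]
      exact Submonoid.mem_sup_right ⟨a, ha𝔞, rfl⟩
    exact (Set.disjoint_left.mp hQ₀S) ha this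
  have hP₀Q₀ : P₀ ≤ Q₀ := by
    intro x hx
    obtain ⟨s, hs, hsx⟩ := (hmemP₀ x).mp hx
    have hsQ : s ∉ Q₀ := fun h => hs (hQ₀q' h)
    have : s * x ∈ Q₀ := by rw [hsx]; exact Q₀.zero_mem
    exact (hQ₀p.mem_or_mem this).resolve_left hsQ
  have h𝔞P₀ : 𝔞 ≤ P₀.comap (algebraMap A E) := by
    intro a ha
    obtain ⟨s, hs, hsa⟩ := (hmem𝔞 a).mp ha
    rw [Ideal.mem_comap, hmemP₀]
    refine ⟨algebraMap A E s, ?_, ?_⟩
    · intro h
      apply hs
      rw [← hpq]
      exact h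
    · rw [← map_mul, hsa, map_zero]
  have hunder : P₀.under A = Q₀.under A :=
    le_antisymm (Ideal.comap_mono hP₀Q₀) (hQ₀𝔞.trans h𝔞P₀)
  have heq : P₀ = Q₀ := Algebra.QuasiFinite.eq_of_le_of_under_eq (R := A) P₀ Q₀ hP₀Q₀ hunder
  intro x hx
  exact (hmemP₀ x).mp (heq ▸ hKQ₀ hx)

end LemmaU

section Kill

variable {E : Type u} [CommRing E] (q' : Ideal E) [q'.IsPrime]

/-- finitely generated version -/
theorem exists_mul_eq_zero_of_fg (K : Ideal E) (hK : K.FG)
    (h : ∀ x ∈ K, ∃ s : E, s ∉ q' ∧ s * x = 0) :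
    ∃ g : E, g ∉ q' ∧ ∀ x ∈ K, g * x = 0 := by
  classical
  obtain ⟨T, hT⟩ := hK
  have key : ∀ T' : Finset E, (∀ t ∈ T', t ∈ K) → ∃ g : E, g ∉ q' ∧ ∀ t ∈ T', g * t = 0 := by
    intro T'
    induction T' using Finset.induction_on with
    | empty =>
      intro _
      exact ⟨1, fun h => (Ideal.IsPrime.ne_top inferInstance) ((Ideal.eq_top_iff_one _).mpr h),
        fun t ht => absurd ht (Finset.notMem_empty t)⟩
    | insert a T' _ ih =>
      intro hT'
      obtain ⟨g, hg, hgT⟩ := ih (fun t ht => hT' t (Finset.mem_insert_of_mem ht))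
      obtain ⟨s, hs, hsa⟩ := h a (hT' a (Finset.mem_insert_self a T'))
      refine ⟨g * s, fun hgs => ?_, fun t ht => ?_⟩
      · rcases (inferInstance : q'.IsPrime).mem_or_mem hgs with h1 | h1
        · exact hg h1
        · exact hs h1
      · rcases Finset.mem_insert.mp ht with rfl | ht'
        · rw [mul_assoc, hsa, mul_zero]
        · rw [mul_comm g s, mul_assoc, hgT t ht', mul_zero]
  obtain ⟨g, hg, hgT⟩ := key T (fun t ht => by
    rw [← hT]
    exact Ideal.subset_span ht)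
  refine ⟨g, hg, fun x hx => ?_⟩
  rw [← hT] at hx
  induction hx using Submodule.span_induction with
  | mem t ht => exact hgT t ht
  | zero => exact mul_zero g
  | add x y _ _ hx hy => rw [mul_add, hx, hy, add_zero]
  | smul c x _ hx => rw [smul_eq_mul, mul_left_comm, hx, mul_zero]

end Kill


section KillDomain

variable (A : Type u) {E : Type u} [CommRing A] [IsDomain A] [CommRing E] [Algebra A E]
  [Algebra.Etale A E] (q' : Ideal E) [q'.IsPrime]

include A in
/-- domain version: the other minimal primes can be avoided -/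
theorem exists_mul_eq_zero_of_isDomain [IsDomain (Localization.AtPrime q')] (K : Ideal E)
    (h : ∀ x ∈ K, ∃ s : E, s ∉ q' ∧ s * x = 0) :
    ∃ g : E, g ∉ q' ∧ ∀ x ∈ K, g * x = 0 := by
  classical
  haveI : IsReduced E := Groth.Agent.Lib.EtaleReduced_helper7.isReduced_of_etale A E
  haveI : Algebra.QuasiFinite A E := inferInstance
  -- minimal primes of `E` are finitely many
  have hfin : (minimalPrimes E).Finite := by
    refine (Algebra.QuasiFinite.finite_primesOver (R := A) (S := E) (⊥ : Ideal A)).subset ?_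
    intro P hP
    haveI : P.IsPrime := hP.1.1
    have h1 := Groth.Agent.Lib.HensBranchesH3.comap_mem_minimalPrimes_of_flat (S := A) P hP
    have h2 : P.comap (algebraMap A E) = ⊥ := by
      have : minimalPrimes A = {⊥} := IsDomain.minimalPrimes_eq_singleton_bot A
      rw [this] at h1
      exact h1
    exact ⟨inferInstance, ⟨h2.symm⟩⟩
  -- the smallest prime below `q'`
  obtain ⟨P₀, hP₀⟩ : ∃ P₀, P₀ = RingHom.ker (algebraMap E (Localization.AtPrime q')) := ⟨_, rfl⟩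
  haveI hP₀p : P₀.IsPrime := by rw [hP₀]; exact RingHom.ker_isPrime _
  have hmemP₀ : ∀ x : E, x ∈ P₀ ↔ ∃ s : E, s ∉ q' ∧ s * x = 0 := by
    intro x
    rw [hP₀, RingHom.mem_ker, IsLocalization.map_eq_zero_iff q'.primeCompl]
    constructor
    · rintro ⟨⟨s, hs⟩, hsx⟩
      exact ⟨s, hs, hsx⟩
    · rintro ⟨s, hs, hsx⟩
      exact ⟨⟨s, hs⟩, hsx⟩
  have hP₀le : ∀ P : Ideal E, P.IsPrime → P ≤ q' → P₀ ≤ P := by
    intro P hP hPq' x hx
    obtain ⟨s, hs, hsx⟩ := (hmemP₀ x).mp hx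
    have hsP : s ∉ P := fun h => hs (hPq' h)
    have : s * x ∈ P := by rw [hsx]; exact P.zero_mem
    exact (hP.mem_or_mem this).resolve_left hsP
  have hP₀q' : P₀ ≤ q' := by
    intro x hx
    obtain ⟨s, hs, hsx⟩ := (hmemP₀ x).mp hx
    have : s * x ∈ q' := by rw [hsx]; exact q'.zero_mem
    exact ((inferInstance : q'.IsPrime).mem_or_mem this).resolve_left hs
  have hP₀min : P₀ ∈ minimalPrimes E := by
    refine ⟨⟨hP₀p, bot_le⟩, ?_⟩
    rintro P ⟨hP, -⟩ hPle
    exact hP₀le P hP (hPle.trans hP₀q')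
  have hKP₀ : K ≤ P₀ := fun x hx => (hmemP₀ x).mpr (h x hx)
  have hother : ∀ P ∈ minimalPrimes E, P ≠ P₀ → ¬ P ≤ q' := by
    intro P hP hne hPq'
    have h1 : P₀ ≤ P := hP₀le P hP.1.1 hPq'
    exact hne (le_antisymm (hP.2 ⟨hP₀p, bot_le⟩ h1) h1)
  -- prime avoidance
  have hnot : ¬ (hfin.toFinset.erase P₀).inf id ≤ q' := by
    intro hle
    obtain ⟨P, hPmem, hPq'⟩ := (Ideal.IsPrime.inf_le' (inferInstance : q'.IsPrime)).mp hle
    rw [Finset.mem_erase, Set.Finite.mem_toFinset] at hPmem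
    exact hother P hPmem.2 hPmem.1 hPq'
  obtain ⟨g, hgI, hgq'⟩ := SetLike.not_le_iff_exists.mp hnot
  refine ⟨g, hgq', fun x hx => ?_⟩
  have hmem : g * x ∈ nilradical E := by
    show g * x ∈ (⊥ : Ideal E).radical
    rw [← Ideal.sInf_minimalPrimes, Ideal.mem_sInf]
    intro P hP
    by_cases hPP₀ : P = P₀
    · rw [hPP₀]
      exact Ideal.mul_mem_left _ _ (hKP₀ hx)
    · apply Ideal.mul_mem_right
      have h2 : (hfin.toFinset.erase P₀).inf id ≤ P :=
        Finset.inf_le (f := id) (by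
          rw [Finset.mem_erase, Set.Finite.mem_toFinset]
          exact ⟨hPP₀, hP⟩)
      exact h2 hgI
  rw [nilradical_eq_zero] at hmem
  exact hmem

end KillDomain

end Groth.Agent.Lib.UnramGUH3
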