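import Mathlib
import Groth.Agent.Lib.UnramGU1_helper3
import Groth.Agent.Lib.BrEtNbhd3_helper3

/-!
# Unramified + injective over a geometrically unibranch domain ⇒ étale: assembly (helper3)
-/

set_option autoImplicit false
set_option maxSynthPendingDepth 3
universe u

namespace Groth.Agent.Lib.UnramGUH3

open IsLocalRing

section Step7

variable {A B E : Type u} [CommRing A] [CommRing B] [CommRing E] [Algebra A B] [Algebra A E]
  [Algebra.Etale A E]

/-- from an étale algebra surjecting onto `B_f` with kernel killed by some `g` outside the prime,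
get a principal localization of `B` étale over `A` -/
theorem exists_etale_away_of_mul_ker_eq_zero (f : B) (φ : E →ₐ[A] Localization.Away f)
    (hφ : Function.Surjective φ) (q : Ideal B) [q.IsPrime] (hf : f ∉ q) (g : E)
    (hg : φ g ∉ q.map (algebraMap B (Localization.Away f)))
    (hgK : ∀ x : E, φ x = 0 → g * x = 0) :
    ∃ g' : B, g' ∉ q ∧ Algebra.Etale A (Localization.Away g') := by
  obtain ⟨a_f, ha_f⟩ := hφ (algebraMap B (Localization.Away f) f)
  obtain ⟨⟨b₀, ⟨_, n, rfl⟩⟩, hb₀⟩ := IsLocalization.surj (Submonoid.powers f) (φ g)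
  have hb₀' : φ g * algebraMap B (Localization.Away f) (f ^ n) =
      algebraMap B (Localization.Away f) b₀ := hb₀
  obtain ⟨g₁, hg₁def⟩ : ∃ g₁ : E, g₁ = g * a_f ^ n := ⟨_, rfl⟩
  have hφg₁ : φ g₁ = algebraMap B (Localization.Away f) b₀ := by
    rw [hg₁def, map_mul, map_pow, ha_f, ← map_pow]
    exact hb₀'
  have hunit : IsUnit (algebraMap B (Localization.Away f) (f ^ n)) :=
    IsLocalization.map_units (Localization.Away f) (⟨f ^ n, n, rfl⟩ : Submonoid.powers f)
  have hb₀q : b₀ ∉ q := by
    intro hb
    apply hg
    have h1 : algebraMap B (Localization.Away f) b₀ ∈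
        q.map (algebraMap B (Localization.Away f)) := Ideal.mem_map_of_mem _ hb
    rw [← hb₀'] at h1
    obtain ⟨u, hu⟩ := hunit
    have h2 := Ideal.mul_mem_right (↑u⁻¹ : Localization.Away f) _ h1
    rwa [← hu, mul_assoc, Units.mul_inv, mul_one] at h2
  have hg₁K : ∀ x : E, φ x = 0 → g₁ * x = 0 := by
    intro x hx
    rw [hg₁def, mul_right_comm, hgK x hx, zero_mul]
  -- the two localizations
  haveI hloc : IsLocalization.Away (φ g₁)
      (Localization.Away (algebraMap B (Localization.Away f) b₀)) := by
    rw [hφg₁]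
    infer_instance
  obtain ⟨ψ, hψ⟩ : ∃ ψ : Localization.Away g₁ →ₐ[A]
      Localization.Away (algebraMap B (Localization.Away f) b₀),
      ψ = IsLocalization.Away.mapₐ (Localization.Away g₁)
        (Localization.Away (algebraMap B (Localization.Away f) b₀)) φ g₁ := ⟨_, rfl⟩
  have hψsurj : Function.Surjective ψ := by
    rw [hψ]
    exact IsLocalization.Away.mapₐ_surjective_of_surjective g₁ hφ
  have hψinj : Function.Injective ψ := by
    rw [injective_iff_map_eq_zero]
    intro x hx
    obtain ⟨e, ⟨_, k, rfl⟩, rfl⟩ := IsLocalization.exists_mk'_eq (Submonoid.powers g₁) x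
    rw [hψ, IsLocalization.Away.mapₐ_apply, IsLocalization.Away.map, IsLocalization.map_mk',
      IsLocalization.mk'_eq_zero_iff] at hx
    obtain ⟨⟨_, m, rfl⟩, hm⟩ := hx
    have h1 : φ (g₁ ^ m * e) = 0 := by
      rw [map_mul, map_pow]
      exact hm
    have h2 := hg₁K _ h1
    rw [IsLocalization.mk'_eq_zero_iff]
    refine ⟨⟨g₁ ^ (m + 1), m + 1, rfl⟩, ?_⟩
    show g₁ ^ (m + 1) * e = 0
    rw [pow_succ', mul_assoc]
    exact h2
  let e₁ : Localization.Away g₁ ≃ₐ[A]
      Localization.Away (algebraMap B (Localization.Away f) b₀) :=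
    AlgEquiv.ofBijective ψ ⟨hψinj, hψsurj⟩
  haveI : Algebra.Etale A (Localization.Away (algebraMap B (Localization.Away f) b₀)) :=
    Algebra.Etale.of_equiv e₁
  haveI : IsLocalization.Away (f * b₀)
      (Localization.Away (algebraMap B (Localization.Away f) b₀)) :=
    IsLocalization.Away.mul' (Localization.Away f) _ f b₀
  let e₂ : Localization.Away (f * b₀) ≃ₐ[B]
      Localization.Away (algebraMap B (Localization.Away f) b₀) :=
    IsLocalization.algEquiv (Submonoid.powers (f * b₀)) _ _
  refine ⟨f * b₀, fun h => ?_, Algebra.Etale.of_equiv (e₂.restrictScalars A).symm⟩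
  rcases (inferInstance : q.IsPrime).mem_or_mem h with h1 | h1
  · exact hf h1
  · exact hb₀q h1

end Step7


section MainRing

open Groth.Agent.Lib.BrEtNbhdH3

variable (A B : Type u) [CommRing A] [CommRing B] [Algebra A B] [Algebra.FiniteType A B]
  (p : Ideal A) [p.IsPrime] (q : Ideal B) [q.IsPrime]

/-- the main ring-level statement -/
theorem exists_etale_away (hpq : q.comap (algebraMap A B) = p) [Algebra.IsUnramifiedAt A q]
    [IsDomain (Localization.AtPrime p)] (hGU : CAlg2.IsGeomUnibranch (Localization.AtPrime p))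
    (hinj : ∀ (a : A) (t : B), t ∉ q → t * algebraMap A B a = 0 → ∃ s : A, s ∉ p ∧ s * a = 0)
    (hcase : IsDomain A ∨ Algebra.FinitePresentation A B) :
    ∃ g : B, g ∉ q ∧ Algebra.Etale A (Localization.Away g) := by
  obtain ⟨f, hfq, P, φ, hφ⟩ := Algebra.IsUnramifiedAt.exists_hasStandardEtaleSurjectionOn (R := A) q
  -- the prime of `B_f` and of `E := P.Ring`
  have hdisj : Disjoint (Submonoid.powers f : Set B) (q : Set B) :=
    (Ideal.disjoint_powers_iff_notMem_of_isPrime f).mpr hfq
  obtain ⟨qf, hqfdef⟩ : ∃ qf : Ideal (Localization.Away f),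
      qf = q.map (algebraMap B (Localization.Away f)) := ⟨_, rfl⟩
  haveI hqfp : qf.IsPrime := by
    rw [hqfdef]
    exact IsLocalization.isPrime_of_isPrime_disjoint (Submonoid.powers f) _ q inferInstance hdisj
  have hqfcomap : qf.comap (algebraMap B (Localization.Away f)) = q := by
    rw [hqfdef]
    exact IsLocalization.comap_map_of_isPrime_disjoint (Submonoid.powers f) _ inferInstance hdisj
  obtain ⟨q', hq'def⟩ : ∃ q' : Ideal P.Ring, q' = qf.comap φ.toRingHom := ⟨_, rfl⟩
  haveI hq'p : q'.IsPrime := by rw [hq'def]; exact Ideal.comap_isPrime _ _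
  have hmemq' : ∀ x : P.Ring, x ∈ q' ↔ φ x ∈ qf := by
    intro x
    rw [hq'def]
    rfl
  have hq'p' : q'.comap (algebraMap A P.Ring) = p := by
    ext a
    rw [Ideal.mem_comap, hmemq', AlgHom.commutes, ← hpq, Ideal.mem_comap, ← hqfcomap,
      Ideal.mem_comap, ← IsScalarTower.algebraMap_apply]
  -- the local ring of `E` at `q'` is a domain
  haveI hdomE : IsDomain (Localization.AtPrime q') := by
    letI algloc : Algebra (Localization.AtPrime p) (Localization.AtPrime q') :=
      (Localization.localRingHom p q' (algebraMap A P.Ring) hq'p'.symm).toAlgebra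
    haveI : IsScalarTower A (Localization.AtPrime p) (Localization.AtPrime q') :=
      IsScalarTower.of_algebraMap_eq (fun a => by
        rw [RingHom.algebraMap_toAlgebra, Localization.localRingHom_to_map,
          ← IsScalarTower.algebraMap_apply])
    haveI : IsLocalHom (algebraMap (Localization.AtPrime p) (Localization.AtPrime q')) :=
      Localization.isLocalHom_localRingHom p q' (algebraMap A P.Ring) hq'p'.symm
    have hess := isEssentiallyEtale_of_isLocalization A p (Localization.AtPrime p) P.Ring q'
      (Localization.AtPrime q') hq'p'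
    exact (isDomain_and_isGeomUnibranch_of_essEtale (Localization.AtPrime p)
      (Localization.AtPrime q') hGU hess).1
  -- the injectivity hypothesis transported to `E`
  have hinjE : ∀ (a : A) (t : P.Ring), t ∉ q' → t * algebraMap A P.Ring a ∈ RingHom.ker φ.toRingHom →
      ∃ s : A, s ∉ p ∧ s * a = 0 := by
    intro a t ht hta
    rw [RingHom.mem_ker] at hta
    have hta' : φ t * algebraMap A (Localization.Away f) a = 0 := by
      have : φ (t * algebraMap A P.Ring a) = 0 := hta
      rwa [map_mul, AlgHom.commutes] at this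
    have htq : φ t ∉ qf := fun h => ht ((hmemq' t).mpr h)
    obtain ⟨⟨b, ⟨_, n, rfl⟩⟩, hb⟩ := IsLocalization.surj (Submonoid.powers f) (φ t)
    have hb' : φ t * algebraMap B (Localization.Away f) (f ^ n) =
        algebraMap B (Localization.Away f) b := hb
    have hbq : b ∉ q := by
      intro hbq
      apply htq
      have h1 : algebraMap B (Localization.Away f) b ∈ qf := by
        rw [hqfdef]
        exact Ideal.mem_map_of_mem _ hbq
      rw [← hb'] at h1
      rcases hqfp.mem_or_mem h1 with h2 | h2
      · exact h2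
      · exfalso
        have h3 : f ^ n ∈ q := by
          rw [← hqfcomap]
          exact h2
        exact hfq (Ideal.IsPrime.mem_of_pow_mem inferInstance n h3)
    have h0 : algebraMap B (Localization.Away f) (b * algebraMap A B a) = 0 := by
      rw [map_mul, ← hb', ← IsScalarTower.algebraMap_apply, mul_right_comm, hta', zero_mul]
    rw [IsLocalization.map_eq_zero_iff (Submonoid.powers f)] at h0
    obtain ⟨⟨_, m, rfl⟩, hm⟩ := h0
    have hm' : f ^ m * (b * algebraMap A B a) = 0 := hm
    refine hinj a (f ^ m * b) (fun h => ?_) (by rw [mul_assoc]; exact hm')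
    rcases (inferInstance : q.IsPrime).mem_or_mem h with h1 | h1
    · exact hfq (Ideal.IsPrime.mem_of_pow_mem inferInstance m h1)
    · exact hbq h1
  haveI : Algebra.QuasiFinite A P.Ring := inferInstance
  have hkill := forall_exists_mul_eq_zero_of_mem p q' hq'p' (RingHom.ker φ.toRingHom) hinjE
  -- kill the kernel
  obtain ⟨g, hgq', hgK⟩ : ∃ g : P.Ring, g ∉ q' ∧ ∀ x ∈ RingHom.ker φ.toRingHom, g * x = 0 := by
    rcases hcase with hdom | hfp
    · haveI := hdom
      exact exists_mul_eq_zero_of_isDomain A q' _ hkill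
    · haveI := hfp
      haveI : Algebra.FinitePresentation A (Localization.Away f) :=
        Algebra.FinitePresentation.trans A B _
      have hfg : (RingHom.ker φ.toRingHom).FG :=
        Algebra.FinitePresentation.ker_fG_of_surjective φ hφ
      exact exists_mul_eq_zero_of_fg q' _ hfg hkill
  refine exists_etale_away_of_mul_ker_eq_zero f φ hφ q hfq g ?_ (fun x hx => hgK x hx)
  rw [← hqfdef]
  exact fun h => hgq' ((hmemq' g).mpr h)

end MainRing

end Groth.Agent.Lib.UnramGUH3
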