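import Mathlib
import Groth.Agent.Lib.UnramGU2_helper3

/-!
# Unramified + injective over a geometrically unibranch domain ⇒ étale: scheme level (helper3)
-/

set_option autoImplicit false
set_option maxSynthPendingDepth 3
universe u

namespace Groth.Agent.Lib.UnramGUH3

open IsLocalRing AlgebraicGeometry CategoryTheory

section Transfer

open Groth.Agent.Lib.BrEtNbhdH3

/-- geometric unibranchness is invariant under ring isomorphisms -/
theorem isGeomUnibranch_of_ringEquiv {A B : Type u} [CommRing A] [IsLocalRing A] [CommRing B]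
    [IsLocalRing B] (e : A ≃+* B) (hA : CAlg2.IsGeomUnibranch A) : CAlg2.IsGeomUnibranch B := by
  letI : Algebra A B := e.toRingHom.toAlgebra
  haveI : IsLocalHom (algebraMap A B) := by
    show IsLocalHom e.toRingHom
    exact ⟨fun a ha => by
      have := ha.map e.symm.toRingHom
      simpa using this⟩
  have hess : EGA4loc.IsEssentiallyEtale A B :=
    isEssentiallyEtale_of_algEquiv (AlgEquiv.ofRingEquiv (f := e) (fun _ => rfl))
      (isEssentiallyEtale_self A)
  rw [← Groth.Agent.S9236.result] at hA ⊢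
  exact le_antisymm (hA ▸ numGeomBranches_le_of_essEtale A B hess) (one_le_numGeomBranches B)

end Transfer

section Ring'

variable (A B : Type u) [CommRing A] [CommRing B] [Algebra A B] [Algebra.FiniteType A B]
  (p : Ideal A) [p.IsPrime] (q : Ideal B) [q.IsPrime]

/-- ring-level statement with hypotheses on `Localization.localRingHom` -/
theorem exists_etale_away' (hpq : p = q.comap (algebraMap A B))
    (hunr : (Localization.localRingHom p q (algebraMap A B) hpq).FormallyUnramified)
    [IsDomain (Localization.AtPrime p)] (hGU : CAlg2.IsGeomUnibranch (Localization.AtPrime p))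
    (hinj : Function.Injective (Localization.localRingHom p q (algebraMap A B) hpq))
    (hcase : IsDomain A ∨ Algebra.FinitePresentation A B) :
    ∃ g : B, g ∉ q ∧ Algebra.Etale A (Localization.Away g) := by
  haveI : Algebra.IsUnramifiedAt A q := by
    letI algloc : Algebra (Localization.AtPrime p) (Localization.AtPrime q) :=
      (Localization.localRingHom p q (algebraMap A B) hpq).toAlgebra
    haveI : IsScalarTower A (Localization.AtPrime p) (Localization.AtPrime q) :=
      IsScalarTower.of_algebraMap_eq (fun a => by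
        rw [RingHom.algebraMap_toAlgebra, Localization.localRingHom_to_map,
          ← IsScalarTower.algebraMap_apply])
    haveI : Algebra.FormallyUnramified (Localization.AtPrime p) (Localization.AtPrime q) := hunr
    haveI : Algebra.FormallyUnramified A (Localization.AtPrime p) :=
      Algebra.FormallyUnramified.of_isLocalization p.primeCompl
    exact Algebra.FormallyUnramified.comp A (Localization.AtPrime p) (Localization.AtPrime q)
  refine exists_etale_away A B p q hpq.symm hGU ?_ hcase
  intro a t ht hta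
  have h1 : algebraMap B (Localization.AtPrime q) (t * algebraMap A B a) = 0 := by
    rw [hta, map_zero]
  rw [map_mul] at h1
  have hunit : IsUnit (algebraMap B (Localization.AtPrime q) t) :=
    IsLocalization.map_units (Localization.AtPrime q) (⟨t, ht⟩ : q.primeCompl)
  have h2 : algebraMap B (Localization.AtPrime q) (algebraMap A B a) = 0 :=
    (hunit.mul_right_eq_zero).mp h1
  have h3 : Localization.localRingHom p q (algebraMap A B) hpq
      (algebraMap A (Localization.AtPrime p) a) = 0 := by
    rw [Localization.localRingHom_to_map]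
    exact h2
  have h4 : algebraMap A (Localization.AtPrime p) a = 0 := hinj (h3.trans (map_zero _).symm)
  rw [IsLocalization.map_eq_zero_iff p.primeCompl] at h4
  obtain ⟨⟨s, hs⟩, hsa⟩ := h4
  exact ⟨s, hs, hsa⟩

end Ring'

section Sch

variable {X Y : Scheme.{u}} (f : X ⟶ Y)

/-- an étale principal localization gives an étale restriction to the basic open -/
theorem etale_basicOpen_ι_comp (V : Y.Opens) (hV : IsAffineOpen V) (W : X.Opens)
    (hW : IsAffineOpen W) (e : W ≤ f ⁻¹ᵁ V) (g : Γ(X, W))
    (h : letI := (f.appLE V W e).hom.toAlgebra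
      Algebra.Etale Γ(Y, V) (Localization.Away g)) :
    Etale ((X.basicOpen g).ι ≫ f) := by
  letI algAB : Algebra Γ(Y, V) Γ(X, W) := (f.appLE V W e).hom.toAlgebra
  have hD : IsAffineOpen (X.basicOpen g) := hW.basicOpen g
  have eD : X.basicOpen g ≤ f ⁻¹ᵁ V := (X.basicOpen_le g).trans e
  haveI hloc : IsLocalization.Away g Γ(X, X.basicOpen g) := hW.isLocalization_basicOpen g
  have hring : (f.appLE V (X.basicOpen g) eD).hom.Etale := by
    letI algAC : Algebra Γ(Y, V) Γ(X, X.basicOpen g) :=
      (f.appLE V (X.basicOpen g) eD).hom.toAlgebra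
    haveI : IsScalarTower Γ(Y, V) Γ(X, W) Γ(X, X.basicOpen g) :=
      IsScalarTower.of_algebraMap_eq (fun a => by
        show (f.appLE V (X.basicOpen g) eD).hom a =
          (X.presheaf.map (homOfLE (X.basicOpen_le g)).op).hom ((f.appLE V W e).hom a)
        rw [← Scheme.Hom.appLE_map f e (homOfLE (X.basicOpen_le g)).op]
        rfl)
    let e₂ : Localization.Away g ≃ₐ[Γ(X, W)] Γ(X, X.basicOpen g) :=
      IsLocalization.algEquiv (Submonoid.powers g) _ _
    haveI : Algebra.Etale Γ(Y, V) (Localization.Away g) := h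
    haveI : Algebra.Etale Γ(Y, V) Γ(X, X.basicOpen g) :=
      Algebra.Etale.of_equiv (e₂.restrictScalars Γ(Y, V))
    exact RingHom.etale_algebraMap.mpr inferInstance
  haveI : Etale (f.resLE V (X.basicOpen g) eD) := by
    haveI : IsAffine (X.basicOpen g).toScheme := hD
    haveI : IsAffine V.toScheme := hV
    rw [HasRingHomProperty.iff_of_isAffine (P := @Etale)]
    exact (RingHom.Etale.respectsIso.arrow_mk_iso_iff (arrowResLEAppIso f V _ eD)).mpr hring
  rw [← Scheme.Hom.resLE_comp_ι f eD]
  infer_instance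


theorem formallyUnramified_stalkMap_of_comp' {V : Scheme.{u}} (j : V ⟶ X) [IsOpenImmersion j]
    (v : V) (y : X) (hy : j v = y)
    (H : ((j ≫ f).stalkMap v).hom.FormallyUnramified) :
    (f.stalkMap y).hom.FormallyUnramified := by
  subst hy
  refine (RingHom.FormallyUnramified.respectsIso.cancel_right_isIso _ (j.stalkMap v)).mp ?_
  rw [← CommRingCat.hom_comp, ← Scheme.Hom.stalkMap_comp]
  exact H

/-- stalk-level formal unramifiedness from unramifiedness on an open neighbourhood -/
theorem formallyUnramified_stalkMap_of_nhd (x : X)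
    (hunr : ∃ U : X.Opens, x ∈ U ∧ FormallyUnramified (U.ι ≫ f)) :
    (f.stalkMap x).hom.FormallyUnramified := by
  obtain ⟨U, hxU, hU⟩ := hunr
  haveI := hU
  exact formallyUnramified_stalkMap_of_comp' f U.ι ⟨x, hxU⟩ x rfl
    (FormallyUnramified.stalkMap (U.ι ≫ f) ⟨x, hxU⟩)

/-- the scheme-level core statement -/
theorem exists_etale_nhd [LocallyOfFiniteType f] (x : X)
    (hdom : IsDomain (Y.presheaf.stalk (f x)))
    (hGU : CAlg2.IsGeomUnibranch (Y.presheaf.stalk (f x)))
    (hunr : (f.stalkMap x).hom.FormallyUnramified)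
    (hinj : Function.Injective (f.stalkMap x).hom)
    (hcase : IsIntegral Y ∨ LocallyOfFinitePresentation f) :
    ∃ U : X.Opens, x ∈ U ∧ Etale (U.ι ≫ f) := by
  obtain ⟨V, hV, hxV, -⟩ := exists_isAffineOpen_mem_and_subset (x := f x) (U := ⊤) trivial
  have hxV' : x ∈ f ⁻¹ᵁ V := hxV
  obtain ⟨W, hW, hxW, e⟩ := exists_isAffineOpen_mem_and_subset hxV'
  letI algAB : Algebra Γ(Y, V) Γ(X, W) := (f.appLE V W e).hom.toAlgebra
  haveI : Algebra.FiniteType Γ(Y, V) Γ(X, W) :=
    LocallyOfFiniteType.finiteType_appLE (f := f) hV hW e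
  have iso := IsAffineOpen.arrowStalkMapIso f V hV W hW e hxW
  have hpq : (hV.primeIdealOf ⟨f x, e hxW⟩).asIdeal =
      (hW.primeIdealOf ⟨x, hxW⟩).asIdeal.comap (algebraMap Γ(Y, V) Γ(X, W)) :=
    congr($(IsAffineOpen.comap_primeIdealOf_appLE V hV W hW e hxW).1).symm
  have hunr' : (Localization.localRingHom (hV.primeIdealOf ⟨f x, e hxW⟩).asIdeal
      (hW.primeIdealOf ⟨x, hxW⟩).asIdeal (algebraMap Γ(Y, V) Γ(X, W)) hpq).FormallyUnramified := by
    have := (RingHom.FormallyUnramified.respectsIso.arrow_mk_iso_iff iso).mp hunr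
    rw [CommRingCat.hom_ofHom] at this
    exact this
  -- the two isomorphisms
  have hw := iso.hom.w
  have hbl : Function.Bijective iso.hom.left.hom :=
    ConcreteCategory.bijective_of_isIso iso.hom.left
  have hbr : Function.Bijective iso.hom.right.hom :=
    ConcreteCategory.bijective_of_isIso iso.hom.right
  have hcomm : ∀ w : Y.presheaf.stalk (f x),
      Localization.localRingHom (hV.primeIdealOf ⟨f x, e hxW⟩).asIdeal
        (hW.primeIdealOf ⟨x, hxW⟩).asIdeal (algebraMap Γ(Y, V) Γ(X, W)) hpq (iso.hom.left.hom w) =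
      iso.hom.right.hom ((f.stalkMap x).hom w) := by
    intro w
    have := congrArg (fun φ => φ.hom w) hw
    exact this
  have hinj' : Function.Injective (Localization.localRingHom (hV.primeIdealOf ⟨f x, e hxW⟩).asIdeal
      (hW.primeIdealOf ⟨x, hxW⟩).asIdeal (algebraMap Γ(Y, V) Γ(X, W)) hpq) := by
    rw [injective_iff_map_eq_zero]
    intro z hz
    obtain ⟨w, rfl⟩ := hbl.2 z
    rw [hcomm] at hz
    have h1 : (f.stalkMap x).hom w = 0 := hbr.1 (hz.trans (map_zero _).symm)
    have h2 : w = 0 := hinj (h1.trans (map_zero _).symm)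
    rw [h2, map_zero]
  let eA : Y.presheaf.stalk (f x) ≃+*
      Localization.AtPrime (hV.primeIdealOf ⟨f x, e hxW⟩).asIdeal :=
    RingEquiv.ofBijective iso.hom.left.hom hbl
  haveI : IsDomain (Localization.AtPrime (hV.primeIdealOf ⟨f x, e hxW⟩).asIdeal) :=
    eA.symm.toMulEquiv.isDomain
  have hGU' := isGeomUnibranch_of_ringEquiv eA hGU
  have hcase' : IsDomain Γ(Y, V) ∨ Algebra.FinitePresentation Γ(Y, V) Γ(X, W) := by
    rcases hcase with h | h
    · haveI := h
      haveI : Nonempty V := ⟨⟨f x, hxV⟩⟩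
      exact Or.inl inferInstance
    · haveI := h
      exact Or.inr (f.finitePresentation_appLE hV hW e)
  obtain ⟨g, hgq, hEt⟩ := exists_etale_away' Γ(Y, V) Γ(X, W)
    (hV.primeIdealOf ⟨f x, e hxW⟩).asIdeal (hW.primeIdealOf ⟨x, hxW⟩).asIdeal hpq hunr' hGU'
    hinj' hcase'
  refine ⟨X.basicOpen g, ?_, etale_basicOpen_ι_comp f V hV W hW e g hEt⟩
  rw [Scheme.mem_basicOpen X g x hxW]
  letI := X.presheaf.algebra_section_stalk ⟨x, hxW⟩
  haveI := hW.isLocalization_stalk ⟨x, hxW⟩
  exact (IsLocalization.AtPrime.isUnit_to_map_iff (X.presheaf.stalk x)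
    (hW.primeIdealOf ⟨x, hxW⟩).asIdeal g).mpr hgq

theorem flat_stalkMap_of_comp' {V : Scheme.{u}} (j : V ⟶ X) [IsOpenImmersion j]
    (v : V) (y : X) (hy : j v = y)
    (H : ((j ≫ f).stalkMap v).hom.Flat) :
    (f.stalkMap y).hom.Flat := by
  subst hy
  refine (RingHom.Flat.respectsIso.cancel_right_isIso _ (j.stalkMap v)).mp ?_
  rw [← CommRingCat.hom_comp, ← Scheme.Hom.stalkMap_comp]
  exact H

/-- a flat local homomorphism of local rings is injective -/
theorem injective_of_flat_of_isLocalHom {A B : Type*} [CommRing A] [CommRing B]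
    [IsLocalRing A] [IsLocalRing B] (φ : A →+* B) [IsLocalHom φ] (hφ : φ.Flat) :
    Function.Injective φ := by
  letI := φ.toAlgebra
  haveI : Module.Flat A B := hφ
  haveI : IsLocalHom (algebraMap A B) := ‹IsLocalHom φ›
  haveI : Module.FaithfullyFlat A B := Module.FaithfullyFlat.of_flat_of_isLocalHom
  exact FaithfulSMul.algebraMap_injective A B

/-- the stalk map at a point where the morphism is flat nearby is injective -/
theorem injective_stalkMap_of_flat_nhd (x : X)
    (hfl : ∃ U : X.Opens, x ∈ U ∧ Flat (U.ι ≫ f)) :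
    Function.Injective (f.stalkMap x).hom := by
  obtain ⟨U, hxU, hU⟩ := hfl
  haveI := hU
  have hflat : (f.stalkMap x).hom.Flat :=
    flat_stalkMap_of_comp' f U.ι ⟨x, hxU⟩ x rfl (Flat.stalkMap (U.ι ≫ f) ⟨x, hxU⟩)
  exact injective_of_flat_of_isLocalHom _ hflat

end Sch

end Groth.Agent.Lib.UnramGUH3
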