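import Mathlib
import Groth.Agent.Lib.UnramGU3_helper3

/-!
# Injectivity of stalk maps from generizations over the generic point (helper3)
-/

set_option autoImplicit false
set_option maxSynthPendingDepth 3
universe u

namespace Groth.Agent.Lib.UnramGUH3

open IsLocalRing AlgebraicGeometry CategoryTheory

/-- a ring hom from an `IsField` ring to a nontrivial ring is injective -/
theorem injective_of_isField {K B : Type*} [CommRing K] [CommRing B] [Nontrivial B]
    (hK : IsField K) (φ : K →+* B) : Function.Injective φ := by
  rw [injective_iff_map_eq_zero]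
  intro a ha
  by_contra hne
  obtain ⟨b, hb⟩ := hK.mul_inv_cancel hne
  have h1 : φ (a * b) = 1 := by rw [hb, map_one]
  rw [map_mul, ha, zero_mul] at h1
  exact zero_ne_one h1

section Sch

variable {X Y : Scheme.{u}} (f : X ⟶ Y)

/-- on an integral scheme, specialization maps of stalks are injective -/
theorem stalkSpecializes_injective_of_isIntegral [IsIntegral Y] {y y' : Y} (h : y' ⤳ y) :
    Function.Injective (Y.presheaf.stalkSpecializes h).hom := by
  rw [injective_iff_map_eq_zero]
  intro a ha
  obtain ⟨U, hyU, s, rfl⟩ := Y.presheaf.exists_germ_eq a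
  have hy'U : y' ∈ U := h.mem_open U.isOpen hyU
  have h1 : (Y.presheaf.stalkSpecializes h).hom (Y.presheaf.germ U y hyU s) =
      Y.presheaf.germ U y' hy'U s := by
    exact TopCat.Presheaf.germ_stalkSpecializes_apply Y.presheaf hyU h s
  rw [h1] at ha
  have h2 : s = 0 := germ_injective_of_isIntegral (X := Y) y' hy'U (ha.trans (map_zero _).symm)
  rw [h2, map_zero]

/-- the stalk of an integral scheme at a point mapping to the generic point is a field -/
theorem isField_stalk_of_eq_genericPoint [IsIntegral Y] (y : Y) (hy : y = genericPoint Y) :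
    IsField (Y.presheaf.stalk y) := by
  subst hy
  exact isField_stalk_of_closure_mem_irreducibleComponents Y _
    (by simp [irreducibleComponents_eq_singleton])

/-- **Injectivity from a generization over the generic point.** -/
theorem injective_stalkMap_of_generization [IsIntegral Y] (x : X)
    (hsp : ∃ x' : X, x' ⤳ x ∧ f x' = genericPoint Y) :
    Function.Injective (f.stalkMap x).hom := by
  obtain ⟨x', hx'x, hfx'⟩ := hsp
  rw [injective_iff_map_eq_zero]
  intro a ha
  have hnat := Scheme.Hom.stalkSpecializes_stalkMap_apply f x' x hx'x a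
  have ha' : (f.stalkMap x) a = 0 := ha
  rw [ha', map_zero] at hnat
  have hfield := isField_stalk_of_eq_genericPoint (f x') hfx'
  have h1 : (Y.presheaf.stalkSpecializes (f.base.hom.map_specializes hx'x)) a = 0 :=
    injective_of_isField hfield (f.stalkMap x').hom (hnat.trans (map_zero _).symm)
  exact stalkSpecializes_injective_of_isIntegral (f.base.hom.map_specializes hx'x)
    (h1.trans (map_zero _).symm)

/-- **EGA IV 18.10.3-type statement** (integral base, locally of finite type). -/
theorem exists_etale_nhd_of_generization [IsIntegral Y] [LocallyOfFiniteType f] (x : X)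
    (hY : CAlg2.IsGeomUnibranch (Y.presheaf.stalk (f x)))
    (hsp : ∃ x' : X, x' ⤳ x ∧ f x' = genericPoint Y)
    (hunr : ∃ U : X.Opens, x ∈ U ∧ FormallyUnramified (U.ι ≫ f)) :
    ∃ U : X.Opens, x ∈ U ∧ Etale (U.ι ≫ f) :=
  exists_etale_nhd f x inferInstance hY (formallyUnramified_stalkMap_of_nhd f x hunr)
    (injective_stalkMap_of_generization f x hsp) (Or.inl inferInstance)

end Sch

end Groth.Agent.Lib.UnramGUH3
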