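import Mathlib
import Groth.Prelude.Def_Hens2

/-!
# Weakly étale morphisms of affine schemes; `Spec 𝒪_{X,x} ⟶ X` is weakly étale (helper3)
-/

set_option autoImplicit false
set_option maxSynthPendingDepth 3
universe u
open CategoryTheory CategoryTheory.Limits AlgebraicGeometry Opposite

namespace Groth.Agent.Lib.WeaklyEtaleSpecH3

/-- The canonical morphism from the spectrum of a local ring of a scheme is flat
(proof as in helper7's `AlgSpOnePt_helper7`). -/
theorem flat_fromSpecStalk (X : Scheme.{u}) (x : X) : Flat (X.fromSpecStalk x) := by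
  obtain ⟨_, ⟨U, hU, rfl⟩, hxU, -⟩ :=
    X.isBasis_affineOpens.exists_subset_of_mem_open (Set.mem_univ x) isOpen_univ
  rw [← hU.fromSpecStalk_eq_fromSpecStalk hxU]
  dsimp [IsAffineOpen.fromSpecStalk]
  have : Flat (Spec.map (X.presheaf.germ U x hxU)) := by
    rw [HasRingHomProperty.Spec_iff (P := @Flat)]
    letI : Algebra Γ(X, U) (X.presheaf.stalk x) := (X.presheaf.germ U x hxU).hom.toAlgebra
    haveI := hU.isLocalization_stalk ⟨x, hxU⟩
    exact IsLocalization.flat (X.presheaf.stalk x) (hU.primeIdealOf ⟨x, hxU⟩).asIdeal.primeCompl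
  infer_instance

theorem weaklyEtale_fromSpecStalk (X : Scheme.{u}) (x : X) : WeaklyEtale (X.fromSpecStalk x) := by
  haveI := flat_fromSpecStalk X x
  haveI : Mono (X.fromSpecStalk x) := inferInstance
  haveI : IsIso (pullback.diagonal (X.fromSpecStalk x)) := inferInstance
  exact ⟨inferInstance, inferInstance⟩

theorem weaklyEtale_SpecMap (R S : Type u) [CommRing R] [CommRing S] [Algebra R S]
    [Algebra.WeaklyEtale R S] :
    WeaklyEtale (Spec.map (CommRingCat.ofHom (algebraMap R S))) := by
  refine ⟨?_, ?_⟩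
  · rw [HasRingHomProperty.Spec_iff (P := @Flat)]
    exact RingHom.flat_algebraMap_iff.mpr inferInstance
  · rw [diagonal_SpecMap R S, MorphismProperty.cancel_right_of_respectsIso (P := @Flat),
      HasRingHomProperty.Spec_iff (P := @Flat)]
    exact Algebra.WeaklyEtale.flat_lmul' R S

end Groth.Agent.Lib.WeaklyEtaleSpecH3
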