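import Mathlib
import Groth.Agent.Lib.UnramGU5_helper3
import Groth.Agent.Lib.BrEtNbhd6_helper3
import Groth.Agent.Lib.WeaklyEtaleSpec_helper3
import Groth.Agent.S9236

/-!
# Irreducible components of schemes with geometrically unibranch local rings (helper3)
-/

set_option autoImplicit false
set_option maxSynthPendingDepth 3
universe u

namespace Groth.Agent.Lib.GUComponentsH3

open IsLocalRing AlgebraicGeometry CategoryTheory

/-- a geometrically unibranch local ring has at most one minimal prime -/
theorem encard_minimalPrimes_le_one_of_isGeomUnibranch (A : Type u) [CommRing A] [IsLocalRing A]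
    (hA : CAlg2.IsGeomUnibranch A) : (minimalPrimes A).encard ≤ 1 := by
  have h1 := Groth.Agent.Lib.BrEtNbhdH3.encard_minimalPrimes_le_numGeomBranches A
  rwa [(Groth.Agent.S9236.result A).mpr hA] at h1

/-- a point with geometrically unibranch local ring lies on at most one irreducible component -/
theorem component_unique_of_isGeomUnibranch (U : Scheme.{u}) (u : U)
    (hu : CAlg2.IsGeomUnibranch (U.presheaf.stalk u)) :
    ∀ Z₁ ∈ irreducibleComponents U, ∀ Z₂ ∈ irreducibleComponents U,
      u ∈ Z₁ → u ∈ Z₂ → Z₁ = Z₂ := by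
  intro Z₁ h₁ Z₂ h₂ hu₁ hu₂
  have hle : {Z : Set U | Z ∈ irreducibleComponents U ∧ u ∈ Z}.encard ≤ 1 := by
    rw [Groth.Agent.Lib.BrEtNbhdH3.encard_components_through_eq]
    exact encard_minimalPrimes_le_one_of_isGeomUnibranch _ hu
  exact Set.encard_le_one_iff.mp hle Z₁ Z₂ ⟨h₁, hu₁⟩ ⟨h₂, hu₂⟩

section Top

variable {X : Type*} [TopologicalSpace X]

/-- in a locally Noetherian space in which every point lies on a unique irreducible component, the
irreducible components are open -/
theorem isOpen_of_mem_irreducibleComponents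
    (hloc : ∀ x : X, ∃ W : TopologicalSpace.Opens X, x ∈ W ∧ TopologicalSpace.NoetherianSpace W)
    (huniq : ∀ x : X, ∀ Z₁ ∈ irreducibleComponents X, ∀ Z₂ ∈ irreducibleComponents X,
      x ∈ Z₁ → x ∈ Z₂ → Z₁ = Z₂)
    (Z : Set X) (hZ : Z ∈ irreducibleComponents X) : IsOpen Z := by
  rw [isOpen_iff_forall_mem_open]
  intro s hs
  obtain ⟨W, hsW, hW⟩ := hloc s
  haveI := hW
  have hfin : (irreducibleComponents W).Finite := TopologicalSpace.NoetherianSpace.finite_irreducibleComponents
  obtain ⟨bad, hbad⟩ : ∃ bad : Set (Set W), bad =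
      {T | T ∈ irreducibleComponents W ∧ s ∉ closure (Subtype.val '' T : Set X)} := ⟨_, rfl⟩
  have hbadfin : bad.Finite := hfin.subset (fun T hT => by rw [hbad] at hT; exact hT.1)
  obtain ⟨C, hC⟩ : ∃ C : Set X, C = ⋃ T ∈ bad, closure (Subtype.val '' T : Set X) := ⟨_, rfl⟩
  have hCcl : IsClosed C := by
    rw [hC]
    exact hbadfin.isClosed_biUnion fun _ _ => isClosed_closure
  have hsC : s ∉ C := by
    intro h
    rw [hC, Set.mem_iUnion₂] at h
    obtain ⟨T, hT, hsT⟩ := h
    rw [hbad] at hT
    exact hT.2 hsT
  refine ⟨(W : Set X) ∩ Cᶜ, ?_, W.isOpen.inter hCcl.isOpen_compl, ⟨hsW, hsC⟩⟩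
  rintro t ⟨htW, htC⟩
  have hT : irreducibleComponent (⟨t, htW⟩ : W) ∈ irreducibleComponents W :=
    irreducibleComponent_mem_irreducibleComponents _
  have htT : (⟨t, htW⟩ : W) ∈ irreducibleComponent (⟨t, htW⟩ : W) := mem_irreducibleComponent
  have htT' : t ∈ closure (Subtype.val '' irreducibleComponent (⟨t, htW⟩ : W) : Set X) :=
    subset_closure ⟨⟨t, htW⟩, htT, rfl⟩
  have hsT : s ∈ closure (Subtype.val '' irreducibleComponent (⟨t, htW⟩ : W) : Set X) := by
    by_contra hns
    apply htC
    rw [hC, Set.mem_iUnion₂]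
    refine ⟨irreducibleComponent (⟨t, htW⟩ : W), ?_, htT'⟩
    rw [hbad]
    exact ⟨hT, hns⟩
  have hirr : IsIrreducible
      (closure (Subtype.val '' irreducibleComponent (⟨t, htW⟩ : W) : Set X)) :=
    (hT.1.image Subtype.val continuous_subtype_val.continuousOn).closure
  obtain ⟨Z', hZ', hle⟩ := exists_mem_irreducibleComponents_subset_of_isIrreducible _ hirr
  have hZZ : Z' = Z := huniq s Z' hZ' Z hZ (hle hsT) hs
  rw [← hZZ]
  exact hle htT'

/-- if all irreducible components of `S` are open and a connected space maps to `S` with dense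
range, then `S` is irreducible -/
theorem irreducibleSpace_of_denseRange {S : Type*} [TopologicalSpace S]
    [ConnectedSpace X] (f : X → S) (hf : Continuous f) (hd : DenseRange f)
    (hopen : ∀ Z ∈ irreducibleComponents S, IsOpen Z) : IrreducibleSpace S := by
  obtain ⟨x₀⟩ := (inferInstance : Nonempty X)
  have hmem := irreducibleComponent_mem_irreducibleComponents (f x₀)
  have hcl : IsClosed (irreducibleComponent (f x₀)) := isClosed_irreducibleComponent
  have hop : IsOpen (irreducibleComponent (f x₀)) := hopen _ hmem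
  have hpre : f ⁻¹' (irreducibleComponent (f x₀)) = Set.univ :=
    IsClopen.eq_univ ⟨hcl.preimage hf, hop.preimage hf⟩ ⟨x₀, mem_irreducibleComponent⟩
  have hrange : Set.range f ⊆ irreducibleComponent (f x₀) := by
    rintro _ ⟨x, rfl⟩
    have : x ∈ f ⁻¹' (irreducibleComponent (f x₀)) := hpre ▸ Set.mem_univ x
    exact this
  have huniv : irreducibleComponent (f x₀) = Set.univ := by
    rw [← Set.univ_subset_iff, ← hd.closure_range]
    exact closure_minimal hrange hcl
  have hirr : IsIrreducible (Set.univ : Set S) := huniv ▸ isIrreducible_irreducibleComponent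
  exact { isPreirreducible_univ := hirr.2, toNonempty := ⟨f x₀⟩ }

end Top

section Sch

variable {X S : Scheme.{u}}

/-- locally Noetherian schemes are locally Noetherian spaces -/
theorem exists_noetherianSpace_nhd [IsLocallyNoetherian S] (s : S) :
    ∃ W : TopologicalSpace.Opens S, s ∈ W ∧ TopologicalSpace.NoetherianSpace W := by
  obtain ⟨W, hW, hsW, -⟩ := exists_isAffineOpen_mem_and_subset (x := s) (U := ⊤) trivial
  haveI : IsNoetherianRing Γ(S, W) := IsLocallyNoetherian.component_noetherian ⟨W, hW⟩
  exact ⟨W, hsW, noetherianSpace_of_isAffineOpen W hW⟩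

/-- the irreducible components of a locally Noetherian scheme with geometrically unibranch local
rings are open -/
theorem isOpen_of_mem_irreducibleComponents_of_isGeomUnibranch [IsLocallyNoetherian S]
    (hS : ∀ s : S, CAlg2.IsGeomUnibranch (S.presheaf.stalk s))
    (Z : Set S) (hZ : Z ∈ irreducibleComponents S) : IsOpen Z :=
  isOpen_of_mem_irreducibleComponents exists_noetherianSpace_nhd
    (fun s => component_unique_of_isGeomUnibranch S s (hS s)) Z hZ

/-- a quasi-compact dominant morphism to a reduced irreducible scheme hits the generic point -/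
theorem exists_map_eq_genericPoint (f : X ⟶ S) [QuasiCompact f] [IsDominant f] [IsReduced S]
    [IrreducibleSpace S] : ∃ x : X, f x = genericPoint S := by
  haveI : IsSchemeTheoreticallyDominant f := .of_isDominant f
  haveI : Flat (S.fromSpecStalk (genericPoint S)) :=
    Groth.Agent.Lib.WeaklyEtaleSpecH3.flat_fromSpecStalk S _
  haveI hdom : IsDominant (Limits.pullback.snd f (S.fromSpecStalk (genericPoint S))) :=
    inferInstance
  have hne : Nonempty ↥(Limits.pullback f (S.fromSpecStalk (genericPoint S))) := by
    by_contra hempty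
    rw [not_nonempty_iff] at hempty
    have hd := (Limits.pullback.snd f (S.fromSpecStalk (genericPoint S))).denseRange
    have hr : Set.range (Limits.pullback.snd f (S.fromSpecStalk (genericPoint S))) = ∅ :=
      Set.range_eq_empty _
    have := hd.closure_range
    rw [hr, closure_empty] at this
    exact (Set.empty_ne_univ this).elim
  obtain ⟨p⟩ := hne
  refine ⟨Limits.pullback.fst f (S.fromSpecStalk (genericPoint S)) p, ?_⟩
  have hcond : f (Limits.pullback.fst f (S.fromSpecStalk (genericPoint S)) p) =
      S.fromSpecStalk (genericPoint S)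
        (Limits.pullback.snd f (S.fromSpecStalk (genericPoint S)) p) := by
    rw [← Scheme.Hom.comp_apply, ← Scheme.Hom.comp_apply, Limits.pullback.condition]
  have hmem : f (Limits.pullback.fst f (S.fromSpecStalk (genericPoint S)) p) ∈
      Set.range (S.fromSpecStalk (genericPoint S)) := hcond ▸ Set.mem_range_self _
  rw [Scheme.range_fromSpecStalk] at hmem
  exact (hmem.antisymm (genericPoint_specializes _)).eq

end Sch

end Groth.Agent.Lib.GUComponentsH3
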