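import Groth.Agent.Lib.EtNormal_helper4
import Groth.Prelude.Def_EGA4b

/-!
# Smooth algebras over normal rings are normal (helper4)
-/

universe u

set_option linter.style.haveILetI false

open TensorProduct

namespace Groth.Agent.Lib.EtNormal3H4

/-- Polynomial rings in finitely many variables over an integrally closed domain are integrally
closed. -/
theorem isIntegrallyClosed_mvPolynomial_fin (A : Type u) [CommRing A] [IsDomain A]
    [IsIntegrallyClosed A] (n : ℕ) : IsIntegrallyClosed (MvPolynomial (Fin n) A) := by
  induction n with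
  | zero => exact IsIntegrallyClosed.of_equiv (MvPolynomial.isEmptyRingEquiv A (Fin 0)).symm
  | succ n ih =>
    haveI := ih
    exact IsIntegrallyClosed.of_equiv (MvPolynomial.finSuccEquiv A n).toRingEquiv.symm

section Core

variable {A B S : Type u} [CommRing A] [IsDomain A] [IsIntegrallyClosed A]
  [CommRing B] [Algebra A B]
  [CommRing S] [Algebra B S] [Algebra A S] [IsScalarTower A B S]

/-- A local ring which is a localization of a smooth algebra over an integrally closed domain is an
integrally closed domain. -/
theorem isDomain_and_isIntegrallyClosed_of_smooth [Algebra.Smooth A B] (M : Submonoid B)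
    [IsLocalization M S] [IsLocalRing S] : IsDomain S ∧ IsIntegrallyClosed S := by
  let 𝔮 : Ideal B := (IsLocalRing.maximalIdeal S).comap (algebraMap B S)
  haveI h𝔮 : 𝔮.IsPrime := Ideal.comap_isPrime _ _
  haveI hq : IsLocalization.AtPrime S 𝔮 := by
    refine IsLocalization.of_le (M := M) 𝔮.primeCompl ?_ ?_
    · intro m hm hmq
      exact (IsLocalRing.mem_maximalIdeal _).mp hmq (IsLocalization.map_units S ⟨m, hm⟩)
    · intro r hr
      by_contra h
      exact hr ((IsLocalRing.mem_maximalIdeal _).mpr h)
  haveI : Algebra.IsSmoothAt A 𝔮 := Algebra.FormallySmooth.comp A B (Localization.AtPrime 𝔮)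
  obtain ⟨f, hf, n, alg, htower, hstd⟩ :=
    Algebra.IsSmoothAt.exists_isStandardEtale_mvPolynomial (R := A) (p := 𝔮)
  letI := alg
  haveI := htower
  haveI := hstd
  have hfu : IsUnit (algebraMap B S f) := (IsLocalization.AtPrime.isUnit_to_map_iff S 𝔮 f).mpr hf
  letI : Algebra (Localization.Away f) S := (IsLocalization.Away.lift f hfu).toAlgebra
  haveI : IsScalarTower B (Localization.Away f) S :=
    IsScalarTower.of_algebraMap_eq (fun b => (IsLocalization.Away.lift_eq f hfu b).symm)
  have hle : Submonoid.powers f ≤ 𝔮.primeCompl := by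
    rintro _ ⟨k, rfl⟩
    exact fun h => hf (h𝔮.mem_of_pow_mem k h)
  haveI : IsLocalization (𝔮.primeCompl.map (algebraMap B (Localization.Away f))) S :=
    IsLocalization.isLocalization_of_submonoid_le (Localization.Away f) S (Submonoid.powers f)
      𝔮.primeCompl hle
  letI : Algebra (MvPolynomial (Fin n) A) S :=
    ((algebraMap (Localization.Away f) S).comp
      (algebraMap (MvPolynomial (Fin n) A) (Localization.Away f))).toAlgebra
  haveI : IsScalarTower (MvPolynomial (Fin n) A) (Localization.Away f) S :=
    IsScalarTower.of_algebraMap_eq (fun _ => rfl)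
  haveI : IsIntegrallyClosed (MvPolynomial (Fin n) A) := isIntegrallyClosed_mvPolynomial_fin A n
  exact Groth.Agent.Lib.EtNormalH4.isDomain_and_isIntegrallyClosed
    (A := MvPolynomial (Fin n) A) (B := Localization.Away f) (S := S)
    (𝔮.primeCompl.map (algebraMap B (Localization.Away f)))

end Core

section BaseChange

attribute [local instance] Algebra.TensorProduct.rightAlgebra

/-- Let `R → B` be smooth, `q` a prime of `B`, and `A` a localization of `R` which is an integrally
closed domain and through which `R → B_q` factors. Then `B_q` is an integrally closed domain. -/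
theorem normal_of_smooth {R B : Type u} [CommRing R] [CommRing B] [Algebra R B] [Algebra.Smooth R B]
    (q : Ideal B) [q.IsPrime] (Bq : Type u) [CommRing Bq] [Algebra B Bq]
    [IsLocalization.AtPrime Bq q]
    (M : Submonoid R) (A : Type u) [CommRing A] [Algebra R A] [IsLocalization M A] [IsDomain A]
    [IsIntegrallyClosed A] [Algebra A Bq] [Algebra R Bq] [IsScalarTower R A Bq]
    [IsScalarTower R B Bq] : IsDomain Bq ∧ IsIntegrallyClosed Bq := by
  haveI : IsLocalization (Algebra.algebraMapSubmonoid B M) (A ⊗[R] B) :=
    IsLocalization.tensorRight (R := R) (S := B) A M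
  let ψ : A ⊗[R] B →ₐ[A] Bq :=
    Algebra.TensorProduct.lift (Algebra.ofId A Bq) (IsScalarTower.toAlgHom R B Bq)
      (fun _ _ => Commute.all _ _)
  letI : Algebra (A ⊗[R] B) Bq := ψ.toRingHom.toAlgebra
  haveI : IsScalarTower A (A ⊗[R] B) Bq :=
    IsScalarTower.of_algebraMap_eq' (by
      ext a
      simp [RingHom.algebraMap_toAlgebra, ψ, Algebra.TensorProduct.algebraMap_apply,
        Algebra.ofId_apply])
  have hcompB : algebraMap B Bq = (algebraMap (A ⊗[R] B) Bq).comp (algebraMap B (A ⊗[R] B)) := by
    ext b
    simp [RingHom.algebraMap_toAlgebra, ψ]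
  haveI : IsScalarTower B (A ⊗[R] B) Bq := IsScalarTower.of_algebraMap_eq' hcompB
  have hle : Algebra.algebraMapSubmonoid B M ≤ q.primeCompl := by
    rintro _ ⟨r, hr, rfl⟩
    rw [← IsLocalization.AtPrime.isUnit_to_map_iff Bq q]
    have h1 : algebraMap B Bq (algebraMap R B r) = algebraMap A Bq (algebraMap R A r) := by
      rw [← IsScalarTower.algebraMap_apply, ← IsScalarTower.algebraMap_apply]
    rw [h1]
    exact (IsLocalization.map_units A ⟨r, hr⟩).map _
  haveI : IsLocalization (q.primeCompl.map (algebraMap B (A ⊗[R] B))) Bq :=
    IsLocalization.isLocalization_of_submonoid_le (A ⊗[R] B) Bq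
      (Algebra.algebraMapSubmonoid B M) q.primeCompl hle
  haveI : IsLocalRing Bq := IsLocalization.AtPrime.isLocalRing Bq q
  exact isDomain_and_isIntegrallyClosed_of_smooth (A := A) (B := A ⊗[R] B) (S := Bq)
    (q.primeCompl.map (algebraMap B (A ⊗[R] B)))

end BaseChange

theorem main1182 (A B : Type u) [CommRing A] [CommRing B] [Algebra A B] [Algebra.Smooth A B] :
    (EGA4.IsNormalRing A → EGA4.IsNormalRing B) ∧
    (Module.FaithfullyFlat A B → EGA4.IsNormalRing B → EGA4.IsNormalRing A) := by
  constructor
  · intro hA q hq
    let p : Ideal A := q.comap (algebraMap A B)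
    haveI : p.IsPrime := Ideal.comap_isPrime _ _
    obtain ⟨hdom, hic⟩ := hA p
    letI : Algebra (Localization.AtPrime p) (Localization.AtPrime q) :=
      (Localization.localRingHom p q (algebraMap A B) rfl).toAlgebra
    haveI : IsScalarTower A (Localization.AtPrime p) (Localization.AtPrime q) :=
      IsScalarTower.of_algebraMap_eq (fun a => by
        rw [RingHom.algebraMap_toAlgebra, Localization.localRingHom_to_map,
          ← IsScalarTower.algebraMap_apply])
    exact normal_of_smooth (R := A) (B := B) q (Localization.AtPrime q) p.primeCompl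
      (Localization.AtPrime p)
  · intro hff hB p hp
    obtain ⟨q, hq, hqp⟩ := Ideal.exists_isPrime_liesOver_of_faithfullyFlat (B := B) p
    obtain ⟨hdom, hic⟩ := hB q
    have hpq : p = q.comap (algebraMap A B) := hqp.over
    letI : Algebra (Localization.AtPrime p) (Localization.AtPrime q) :=
      (Localization.localRingHom p q (algebraMap A B) hpq).toAlgebra
    have hflat : (Localization.localRingHom p q (algebraMap A B) hpq).Flat :=
      RingHom.Flat.localRingHom (f := algebraMap A B)
        (by rw [RingHom.flat_algebraMap_iff]; infer_instance) q p hpq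
    haveI : Module.Flat (Localization.AtPrime p) (Localization.AtPrime q) := hflat
    haveI : IsLocalHom (algebraMap (Localization.AtPrime p) (Localization.AtPrime q)) :=
      Localization.isLocalHom_localRingHom p q (algebraMap A B) hpq
    haveI : Module.FaithfullyFlat (Localization.AtPrime p) (Localization.AtPrime q) :=
      Module.FaithfullyFlat.of_flat_of_isLocalHom
    exact Groth.Agent.Lib.EtNormalH4.isDomain_and_isIntegrallyClosed_of_faithfullyFlat
      (A := Localization.AtPrime p) (S := Localization.AtPrime q)

end Groth.Agent.Lib.EtNormal3H4
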