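import Mathlib
import Groth.Prelude.Def_CAlg2
import Groth.Prelude.Def_EGA4b
import Groth.Agent.Lib.EtNormal3_helper4
import Groth.Agent.Lib.HensBranches3_helper3

/-!
# Smooth algebras over a geometrically unibranch local ring: unique minimal prime (helper3)

Let `A` be a local ring and `A → A'` an integral homomorphism with nil kernel to a local
integrally closed domain `A'` whose residue field is purely inseparable over that of `A`.  Let `R'`
be a smooth `A`-algebra and `p` a prime of `R'` containing `m_A R'`.  Then `R'` has exactly one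
minimal prime contained in `p`, i.e. `R'_p` has a unique minimal prime.

Proof: `C = A' ⊗_A R'` is smooth over the normal domain `A'`, hence a normal ring; `R' → C` is
integral with nil kernel, and there is exactly one prime `p̃` of `C` over `p` (pure inseparability);
`C_p̃` is a domain, so contains a unique minimal prime of `C`.
-/

set_option autoImplicit false
set_option maxSynthPendingDepth 3
universe u

namespace Groth.Agent.Lib.SmoothUnibranchH3

open TensorProduct IsLocalRing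

attribute [local instance] Algebra.TensorProduct.rightAlgebra

section Kernel

variable (A A' R' : Type u) [CommRing A] [CommRing A'] [CommRing R'] [Algebra A A'] [Algebra A R']
  [Module.Flat A R']

theorem ker_algebraMap_tensor_le_nilradical
    (hker : RingHom.ker (algebraMap A A') ≤ nilradical A) :
    RingHom.ker (algebraMap R' (A' ⊗[A] R')) ≤ nilradical R' := by
  intro x hx
  have hx' : (1 : A') ⊗ₜ[A] x = 0 := hx
  obtain ⟨I, hI⟩ : ∃ I, I = RingHom.ker (algebraMap A A') := ⟨_, rfl⟩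
  have hIle : I ≤ nilradical A := hI ▸ hker
  let j : (A ⧸ I) →ₗ[A] A' :=
    (Ideal.Quotient.liftₐ I (Algebra.ofId A A') (fun a ha => by
      rw [hI] at ha
      exact ha)).toLinearMap
  have hjmk : ∀ a : A, j (Ideal.Quotient.mk I a) = algebraMap A A' a := fun a => rfl
  have hj : Function.Injective j := by
    rw [← LinearMap.ker_eq_bot, LinearMap.ker_eq_bot']
    intro y hy
    obtain ⟨a, rfl⟩ := Ideal.Quotient.mk_surjective y
    rw [hjmk] at hy
    rw [Ideal.Quotient.eq_zero_iff_mem, hI]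
    exact hy
  have hinj := Module.Flat.rTensor_preserves_injective_linearMap (M := R') j hj
  have h1 : (Ideal.Quotient.mk I 1) ⊗ₜ[A] x = (0 : (A ⧸ I) ⊗[A] R') := by
    apply hinj
    rw [LinearMap.rTensor_tmul, map_zero, hjmk, map_one]
    exact hx'
  have h2 := congrArg (TensorProduct.quotTensorEquivQuotSMul R' I) h1
  rw [TensorProduct.quotTensorEquivQuotSMul_mk_tmul, map_zero, one_smul,
    Submodule.Quotient.mk_eq_zero] at h2
  have hle : I • (⊤ : Submodule A R') ≤ (nilradical R').restrictScalars A := by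
    rw [Submodule.smul_le]
    intro a ha m _
    show a • m ∈ nilradical R'
    rw [Algebra.smul_def]
    apply Ideal.mul_mem_right
    have hnil : IsNilpotent a := hIle ha
    exact hnil.map (algebraMap A R')
  exact hle h2

end Kernel

theorem add_pow_q {E : Type*} [CommRing E] (q : ℕ) (hq : q = 1 ∨ (q.Prime ∧ (q : E) = 0))
    (x y : E) (n : ℕ) : (x + y) ^ q ^ n = x ^ q ^ n + y ^ q ^ n := by
  rcases hq with rfl | ⟨hp, h0⟩
  · simp
  · rcases subsingleton_or_nontrivial E with h | h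
    · exact Subsingleton.elim _ _
    · haveI : CharP E q := (CharP.charP_iff_prime_eq_zero hp).mpr h0
      haveI : ExpChar E q := ExpChar.prime hp
      exact add_pow_expChar_pow x y q n

section Main

variable (A A' R' : Type u) [CommRing A] [IsLocalRing A] [CommRing A'] [IsDomain A']
  [IsIntegrallyClosed A'] [IsLocalRing A'] [Algebra A A'] [Algebra.IsIntegral A A']
  [CommRing R'] [Algebra A R']

omit [IsLocalRing A] [IsDomain A'] [IsIntegrallyClosed A'] [Algebra.IsIntegral A A'] in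
/-- every element of `C / m̃ C` has a `q`-power in the image of `R'` -/
theorem exists_pow_sub_mem (q : ℕ) (hq : q = 1 ∨ (q.Prime ∧ (q : A') ∈ maximalIdeal A'))
    (hpi : ∀ x : A', ∃ (n : ℕ) (a : A), x ^ q ^ n - algebraMap A A' a ∈ maximalIdeal A')
    (c : A' ⊗[A] R') :
    ∃ (n : ℕ) (r : R'), c ^ q ^ n - algebraMap R' (A' ⊗[A] R') r ∈
      (maximalIdeal A').map (algebraMap A' (A' ⊗[A] R')) := by
  obtain ⟨J, hJ⟩ : ∃ J, J = (maximalIdeal A').map (algebraMap A' (A' ⊗[A] R')) := ⟨_, rfl⟩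
  rw [← hJ]
  have hmemJ : ∀ (d : A') (s : R'), d ∈ maximalIdeal A' → d ⊗ₜ[A] s ∈ J := by
    intro d s hd
    have h1 : d ⊗ₜ[A] s = algebraMap A' (A' ⊗[A] R') d * ((1 : A') ⊗ₜ[A] s) := by
      rw [Algebra.TensorProduct.algebraMap_apply, Algebra.TensorProduct.tmul_mul_tmul]
      simp
    rw [h1, hJ]
    exact Ideal.mul_mem_right _ _ (Ideal.mem_map_of_mem _ hd)
  have hqE : q = 1 ∨ (q.Prime ∧ ((q : ℕ) : (A' ⊗[A] R') ⧸ J) = 0) := by
    rcases hq with h | ⟨hp, hm⟩
    · exact Or.inl h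
    · refine Or.inr ⟨hp, ?_⟩
      have h1 : ((q : ℕ) : (A' ⊗[A] R') ⧸ J) =
          Ideal.Quotient.mk J (algebraMap A' (A' ⊗[A] R') (q : A')) := by
        rw [map_natCast, map_natCast]
      rw [h1, Ideal.Quotient.eq_zero_iff_mem, hJ]
      exact Ideal.mem_map_of_mem _ hm
  -- work in the quotient
  suffices h : ∃ (n : ℕ) (r : R'), (Ideal.Quotient.mk J c) ^ q ^ n =
      Ideal.Quotient.mk J (algebraMap R' (A' ⊗[A] R') r) by
    obtain ⟨n, r, hnr⟩ := h
    refine ⟨n, r, ?_⟩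
    rw [← Ideal.Quotient.eq_zero_iff_mem, map_sub, map_pow, hnr, sub_self]
  induction c using TensorProduct.induction_on with
  | zero =>
    refine ⟨0, 0, ?_⟩
    simp
  | tmul a s =>
    obtain ⟨n, α, hα⟩ := hpi a
    refine ⟨n, α • s ^ q ^ n, ?_⟩
    rw [← map_pow, ← sub_eq_zero, ← map_sub, Ideal.Quotient.eq_zero_iff_mem,
      Algebra.TensorProduct.tmul_pow]
    have h2 : algebraMap R' (A' ⊗[A] R') (α • s ^ q ^ n) =
        (algebraMap A A' α) ⊗ₜ[A] (s ^ q ^ n) := by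
      show (1 : A') ⊗ₜ[A] (α • s ^ q ^ n) = _
      rw [TensorProduct.tmul_smul, TensorProduct.smul_tmul', Algebra.smul_def, mul_one]
    rw [h2, ← TensorProduct.sub_tmul]
    exact hmemJ _ _ hα
  | add c₁ c₂ ih₁ ih₂ =>
    obtain ⟨n₁, r₁, h₁⟩ := ih₁
    obtain ⟨n₂, r₂, h₂⟩ := ih₂
    refine ⟨n₁ + n₂, r₁ ^ q ^ n₂ + r₂ ^ q ^ n₁, ?_⟩
    rw [map_add, add_pow_q q hqE, map_add, map_add, map_pow, map_pow, map_pow, map_pow, ← h₁, ← h₂,
      ← pow_mul, ← pow_mul, ← pow_add, ← pow_add, add_comm n₂ n₁]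

variable {A A' R'}

omit [IsDomain A'] [IsIntegrallyClosed A'] in
/-- a prime of `C` over a prime `p ⊇ m_A R'` contains `m̃ C` -/
theorem map_maximalIdeal_le (p : Ideal R') [p.IsPrime]
    (hp : (maximalIdeal A).map (algebraMap A R') ≤ p)
    (Q : Ideal (A' ⊗[A] R')) [Q.IsPrime] (hQ : Q.comap (algebraMap R' (A' ⊗[A] R')) = p) :
    (maximalIdeal A').map (algebraMap A' (A' ⊗[A] R')) ≤ Q := by
  rw [Ideal.map_le_iff_le_comap]
  haveI : (Q.comap (algebraMap A' (A' ⊗[A] R'))).IsPrime := Ideal.comap_isPrime _ _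
  have h1 : (Q.comap (algebraMap A' (A' ⊗[A] R'))).comap (algebraMap A A') =
      p.comap (algebraMap A R') := by
    rw [← hQ, Ideal.comap_comap, Ideal.comap_comap, ← IsScalarTower.algebraMap_eq,
      ← IsScalarTower.algebraMap_eq]
  have h2 : p.comap (algebraMap A R') = maximalIdeal A := by
    haveI : (p.comap (algebraMap A R')).IsPrime := Ideal.comap_isPrime _ _
    have hle : maximalIdeal A ≤ p.comap (algebraMap A R') := Ideal.map_le_iff_le_comap.mp hp
    exact ((maximalIdeal.isMaximal A).eq_of_le (Ideal.IsPrime.ne_top inferInstance) hle).symm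
  have h3 : (Q.comap (algebraMap A' (A' ⊗[A] R'))).IsMaximal := by
    apply Ideal.isMaximal_of_isIntegral_of_isMaximal_comap (R := A)
    rw [h1, h2]
    exact maximalIdeal.isMaximal A
  rw [IsLocalRing.eq_maximalIdeal h3]

omit [IsDomain A'] [IsIntegrallyClosed A'] in
theorem primes_over_le (q : ℕ) (hq : q = 1 ∨ (q.Prime ∧ (q : A') ∈ maximalIdeal A'))
    (hpi : ∀ x : A', ∃ (n : ℕ) (a : A), x ^ q ^ n - algebraMap A A' a ∈ maximalIdeal A')
    (p : Ideal R') [p.IsPrime] (hp : (maximalIdeal A).map (algebraMap A R') ≤ p)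
    (Q₁ Q₂ : Ideal (A' ⊗[A] R')) [Q₁.IsPrime] [Q₂.IsPrime]
    (h₁ : Q₁.comap (algebraMap R' (A' ⊗[A] R')) = p)
    (h₂ : Q₂.comap (algebraMap R' (A' ⊗[A] R')) = p) : Q₁ ≤ Q₂ := by
  intro c hc
  obtain ⟨n, r, hnr⟩ := exists_pow_sub_mem A A' R' q hq hpi c
  have hqpos : 0 < q ^ n := by
    apply pow_pos
    rcases hq with h | ⟨hp', -⟩
    · omega
    · exact hp'.pos
  have hJ₁ := map_maximalIdeal_le p hp Q₁ h₁ hnr
  have hJ₂ := map_maximalIdeal_le p hp Q₂ h₂ hnr
  have hc1 : c ^ q ^ n ∈ Q₁ := Ideal.pow_mem_of_mem Q₁ hc _ hqpos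
  have hr1 : algebraMap R' (A' ⊗[A] R') r ∈ Q₁ := by
    have := Q₁.sub_mem hc1 hJ₁
    rwa [sub_sub_cancel] at this
  have hrp : r ∈ p := by
    rw [← h₁]
    exact hr1
  have hr2 : algebraMap R' (A' ⊗[A] R') r ∈ Q₂ := by
    rw [← h₂] at hrp
    exact hrp
  have hc2 : c ^ q ^ n ∈ Q₂ := by
    have := Q₂.add_mem hJ₂ hr2
    rwa [sub_add_cancel] at this
  exact Ideal.IsPrime.mem_of_pow_mem inferInstance _ hc2

variable (A A' R')

/-- `R' → A' ⊗_A R'` is integral -/
theorem isIntegral_tensor : Algebra.IsIntegral R' (A' ⊗[A] R') := by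
  refine ⟨fun c => ?_⟩
  induction c using TensorProduct.induction_on with
  | zero => exact isIntegral_zero
  | tmul a s =>
    have h1 : a ⊗ₜ[A] s = s • (a ⊗ₜ[A] (1 : R')) := by
      rw [Algebra.smul_def]
      show _ = ((1 : A') ⊗ₜ[A] s) * _
      rw [Algebra.TensorProduct.tmul_mul_tmul, one_mul, mul_one]
    rw [h1]
    apply IsIntegral.smul
    have ha : IsIntegral A a := Algebra.IsIntegral.isIntegral a
    have := ha.map_of_comp_eq (algebraMap A R')
      (Algebra.TensorProduct.includeLeftRingHom : A' →+* A' ⊗[A] R') (by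
        ext x
        simp only [RingHom.comp_apply]
        show (1 : A') ⊗ₜ[A] (algebraMap A R' x) = (algebraMap A A' x) ⊗ₜ[A] (1 : R')
        rw [Algebra.algebraMap_eq_smul_one (A := R'), Algebra.algebraMap_eq_smul_one (A := A'),
          TensorProduct.smul_tmul])
    exact this
  | add x y hx hy => exact hx.add hy

variable [Algebra.Smooth A R']

/-- the key statement: at most one minimal prime of `R'` below `p` -/
theorem minimalPrimes_unique (q : ℕ) (hq : q = 1 ∨ (q.Prime ∧ (q : A') ∈ maximalIdeal A'))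
    (hpi : ∀ x : A', ∃ (n : ℕ) (a : A), x ^ q ^ n - algebraMap A A' a ∈ maximalIdeal A')
    (hker : RingHom.ker (algebraMap A A') ≤ nilradical A)
    (p : Ideal R') [p.IsPrime] (hp : (maximalIdeal A).map (algebraMap A R') ≤ p)
    (P₁ P₂ : Ideal R') (h₁ : P₁ ∈ minimalPrimes R') (h₂ : P₂ ∈ minimalPrimes R')
    (h₁p : P₁ ≤ p) (h₂p : P₂ ≤ p) : P₁ = P₂ := by
  haveI := isIntegral_tensor A A' R'
  have hkerφ := ker_algebraMap_tensor_le_nilradical A A' R' hker
  haveI hP₁ : P₁.IsPrime := h₁.1.1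
  haveI hP₂ : P₂.IsPrime := h₂.1.1
  obtain ⟨Q₁, -, hQ₁p, hQ₁⟩ := Ideal.exists_ideal_over_prime_of_isIntegral
    (S := A' ⊗[A] R') P₁ ⊥ (by
      rw [← RingHom.ker_eq_comap_bot]
      exact hkerφ.trans (nilradical_le_prime P₁))
  obtain ⟨Q₂, -, hQ₂p, hQ₂⟩ := Ideal.exists_ideal_over_prime_of_isIntegral
    (S := A' ⊗[A] R') P₂ ⊥ (by
      rw [← RingHom.ker_eq_comap_bot]
      exact hkerφ.trans (nilradical_le_prime P₂))
  obtain ⟨Q₁', hle₁, hQ₁'p, hQ₁'⟩ := Ideal.exists_ideal_over_prime_of_isIntegral_of_isPrime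
    (S := A' ⊗[A] R') p Q₁ (hQ₁.le.trans h₁p)
  obtain ⟨Q₂', hle₂, hQ₂'p, hQ₂'⟩ := Ideal.exists_ideal_over_prime_of_isIntegral_of_isPrime
    (S := A' ⊗[A] R') p Q₂ (hQ₂.le.trans h₂p)
  have heq : Q₁' = Q₂' := le_antisymm (primes_over_le q hq hpi p hp Q₁' Q₂' hQ₁' hQ₂')
    (primes_over_le q hq hpi p hp Q₂' Q₁' hQ₂' hQ₁')
  have hnormal : EGA4.IsNormalRing A' := by
    intro P hP
    exact ⟨inferInstance,
      isIntegrallyClosed_of_isLocalization _ P.primeCompl P.primeCompl_le_nonZeroDivisors⟩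
  obtain ⟨hdom, -⟩ := (Groth.Agent.Lib.EtNormal3H4.main1182 A' (A' ⊗[A] R')).1 hnormal Q₁'
  obtain ⟨Q₀, hQ₀⟩ : ∃ Q₀, Q₀ = RingHom.ker (algebraMap (A' ⊗[A] R') (Localization.AtPrime Q₁')) :=
    ⟨_, rfl⟩
  haveI : Q₀.IsPrime := by rw [hQ₀]; exact RingHom.ker_isPrime _
  have hQ₀le : ∀ Q : Ideal (A' ⊗[A] R'), Q.IsPrime → Q ≤ Q₁' → Q₀ ≤ Q := by
    intro Q hQ hQle x hx
    rw [hQ₀, RingHom.mem_ker, IsLocalization.map_eq_zero_iff Q₁'.primeCompl] at hx
    obtain ⟨⟨s, hs⟩, hsx⟩ := hx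
    have hsQ : s ∉ Q := fun h => hs (hQle h)
    have : s * x ∈ Q := by
      have h0 : s * x = 0 := hsx
      rw [h0]; exact Q.zero_mem
    exact (hQ.mem_or_mem this).resolve_left hsQ
  have hP₀ : (Q₀.comap (algebraMap R' (A' ⊗[A] R'))).IsPrime := Ideal.comap_isPrime _ _
  have e₁ : P₁ = Q₀.comap (algebraMap R' (A' ⊗[A] R')) := by
    apply le_antisymm
    · exact h₁.2 ⟨hP₀, bot_le⟩ (by
        rw [← hQ₁]
        exact Ideal.comap_mono (hQ₀le Q₁ hQ₁p hle₁))
    · rw [← hQ₁]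
      exact Ideal.comap_mono (hQ₀le Q₁ hQ₁p hle₁)
  have e₂ : P₂ = Q₀.comap (algebraMap R' (A' ⊗[A] R')) := by
    apply le_antisymm
    · exact h₂.2 ⟨hP₀, bot_le⟩ (by
        rw [← hQ₂]
        exact Ideal.comap_mono (hQ₀le Q₂ hQ₂p (heq ▸ hle₂)))
    · rw [← hQ₂]
      exact Ideal.comap_mono (hQ₀le Q₂ hQ₂p (heq ▸ hle₂))
  rw [e₁, e₂]

/-- the local ring `R'_p` has at most one minimal prime -/
theorem encard_minimalPrimes_localization_le_one (q : ℕ)
    (hq : q = 1 ∨ (q.Prime ∧ (q : A') ∈ maximalIdeal A'))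
    (hpi : ∀ x : A', ∃ (n : ℕ) (a : A), x ^ q ^ n - algebraMap A A' a ∈ maximalIdeal A')
    (hker : RingHom.ker (algebraMap A A') ≤ nilradical A)
    (p : Ideal R') [p.IsPrime] (hp : (maximalIdeal A).map (algebraMap A R') ≤ p) :
    (minimalPrimes (Localization.AtPrime p)).encard ≤ 1 := by
  rw [Set.encard_le_one_iff]
  intro 𝔓₁ 𝔓₂ h₁ h₂
  have hm₁ := Groth.Agent.Lib.HensBranchesH3.comap_mem_minimalPrimes_of_flat (S := R') 𝔓₁ h₁
  have hm₂ := Groth.Agent.Lib.HensBranchesH3.comap_mem_minimalPrimes_of_flat (S := R') 𝔓₂ h₂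
  haveI : 𝔓₁.IsPrime := h₁.1.1
  haveI : 𝔓₂.IsPrime := h₂.1.1
  have hle : ∀ 𝔓 : Ideal (Localization.AtPrime p), 𝔓.IsPrime →
      𝔓.comap (algebraMap R' (Localization.AtPrime p)) ≤ p := by
    intro 𝔓 h𝔓
    have h0 := IsLocalization.AtPrime.comap_maximalIdeal (Localization.AtPrime p) p
    exact le_of_le_of_eq (Ideal.comap_mono (le_maximalIdeal h𝔓.ne_top)) h0
  have heq := minimalPrimes_unique A A' R' q hq hpi hker p hp _ _ hm₁ hm₂
    (hle 𝔓₁ inferInstance) (hle 𝔓₂ inferInstance)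
  have h3 := congrArg (Ideal.map (algebraMap R' (Localization.AtPrime p))) heq
  rwa [IsLocalization.map_comap p.primeCompl (Localization.AtPrime p) 𝔓₁,
    IsLocalization.map_comap p.primeCompl (Localization.AtPrime p) 𝔓₂] at h3

end Main

end Groth.Agent.Lib.SmoothUnibranchH3
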