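import Mathlib
import Groth.Agent.Lib.SmoothUnibranch1_helper3
import Groth.Agent.Lib.BrEtNbhd5_helper3
import Groth.Agent.Lib.BrEtNbhd6_helper3

/-!
# Smooth algebras over a geometrically unibranch local ring are geometrically unibranch at primes
over the closed point (helper3)
-/

set_option autoImplicit false
set_option maxSynthPendingDepth 3
universe u

namespace Groth.Agent.Lib.SmoothUnibranchH3

open TensorProduct IsLocalRing

section NormRed

variable (A : Type u) [CommRing A] [IsLocalRing A]

/-- a localization of a smooth algebra over a geometrically unibranch local ring at a prime over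
the closed point has at most one minimal prime -/
theorem encard_le_one_of_isGeomUnibranch (hA : CAlg2.IsGeomUnibranch A)
    (R' : Type u) [CommRing R'] [Algebra A R'] [Algebra.Smooth A R'] (p : Ideal R') [p.IsPrime]
    (hp : (maximalIdeal A).map (algebraMap A R') ≤ p) :
    (minimalPrimes (Localization.AtPrime p)).encard ≤ 1 := by
  obtain ⟨⟨hdom, hloc⟩, hpi⟩ := hA
  haveI := hdom
  haveI := hloc
  letI algAA' : Algebra A (CAlg2.normRed A) :=
    ((algebraMap (CAlg2.red A) (CAlg2.normRed A)).comp
      (Ideal.Quotient.mk (nilradical A))).toAlgebra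
  haveI tow : IsScalarTower A (CAlg2.red A) (CAlg2.normRed A) :=
    IsScalarTower.of_algebraMap_eq (fun _ => rfl)
  haveI : IsIntegrallyClosed (CAlg2.normRed A) :=
    integralClosure.isIntegrallyClosedOfFiniteExtension (FractionRing (CAlg2.red A))
  haveI : Algebra.IsIntegral A (CAlg2.red A) :=
    Algebra.IsIntegral.of_surjective (Ideal.Quotient.mkₐ A (nilradical A))
      Ideal.Quotient.mk_surjective
  haveI : Algebra.IsIntegral A (CAlg2.normRed A) :=
    Algebra.IsIntegral.trans (R := A) (CAlg2.red A)
  have hker : RingHom.ker (algebraMap A (CAlg2.normRed A)) ≤ nilradical A := by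
    intro x hx
    rw [RingHom.mem_ker] at hx
    have h1 : algebraMap (CAlg2.red A) (CAlg2.normRed A) (Ideal.Quotient.mk (nilradical A) x)
        = 0 := hx
    have h2 : algebraMap (CAlg2.red A) (FractionRing (CAlg2.red A))
        (Ideal.Quotient.mk (nilradical A) x) = 0 := by
      have := congrArg (fun y : CAlg2.normRed A => (y : FractionRing (CAlg2.red A))) h1
      exact this
    have h3 : Ideal.Quotient.mk (nilradical A) x = 0 :=
      (IsFractionRing.injective (CAlg2.red A) (FractionRing (CAlg2.red A)))
        (by rw [h2, map_zero])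
    exact Ideal.Quotient.eq_zero_iff_mem.mp h3
  -- the exponent
  haveI hmax : (maximalIdeal (CAlg2.normRed A)).IsMaximal := maximalIdeal.isMaximal _
  letI : Field (CAlg2.normRed A ⧸ maximalIdeal (CAlg2.normRed A)) := Ideal.Quotient.field _
  obtain ⟨q, hqdef⟩ : ∃ q, q = ringExpChar (CAlg2.normRed A ⧸ maximalIdeal (CAlg2.normRed A)) :=
    ⟨_, rfl⟩
  have hexp : ExpChar (CAlg2.normRed A ⧸ maximalIdeal (CAlg2.normRed A)) q :=
    hqdef ▸ ringExpChar.expChar _
  have hq : q = 1 ∨ (q.Prime ∧ (q : CAlg2.normRed A) ∈ maximalIdeal (CAlg2.normRed A)) := by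
    rcases hexp with _ | ⟨hprime⟩
    · exact Or.inl rfl
    · refine Or.inr ⟨hprime, ?_⟩
      rw [← Ideal.Quotient.eq_zero_iff_mem, map_natCast]
      exact CharP.cast_eq_zero _ q
  have hpi' : ∀ x : CAlg2.normRed A, ∃ (n : ℕ) (a : A),
      x ^ q ^ n - algebraMap A (CAlg2.normRed A) a ∈ maximalIdeal (CAlg2.normRed A) := by
    intro x
    obtain ⟨n, a, ha⟩ := hpi (maximalIdeal (CAlg2.normRed A))
      (Ideal.Quotient.mk (maximalIdeal (CAlg2.normRed A)) x)
    refine ⟨n, a, ?_⟩
    rw [← Ideal.Quotient.eq_zero_iff_mem, map_sub, map_pow, sub_eq_zero, hqdef]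
    exact ha.symm
  exact encard_minimalPrimes_localization_le_one A (CAlg2.normRed A) R' q hq hpi' hker p hp

end NormRed

section Main

open Groth.Agent.Lib.BrEtNbhdH3

variable (A : Type u) [CommRing A] [IsLocalRing A]
  (R' : Type u) [CommRing R'] [Algebra A R'] [Algebra.Smooth A R'] (p : Ideal R') [p.IsPrime]

/-- a localization of a smooth algebra over a geometrically unibranch local ring at a prime over
the closed point is geometrically unibranch -/
theorem isGeomUnibranch_localization_of_smooth (hA : CAlg2.IsGeomUnibranch A)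
    (hp : (maximalIdeal A).map (algebraMap A R') ≤ p) :
    CAlg2.IsGeomUnibranch (Localization.AtPrime p) := by
  rw [← Groth.Agent.S9236.result]
  refine le_antisymm ?_ (one_le_numGeomBranches (Localization.AtPrime p))
  rw [numGeomBranches_eq_iSup (Localization.AtPrime p)]
  refine iSup_le fun j => ?_
  haveI : (RingHom.ker j.pt).IsPrime := Groth.Agent.Lib.StrictHens.ker_isPrime j.pt
  obtain ⟨E, _, _, q, _, hE, ⟨κ⟩⟩ := Groth.Agent.Lib.EssEtTransH4.core R' R'
    (Localization.AtPrime p) j.C p (RingHom.ker j.pt)
  haveI := hE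
  letI algAE : Algebra A E := ((algebraMap R' E).comp (algebraMap A R')).toAlgebra
  haveI : IsScalarTower A R' E := IsScalarTower.of_algebraMap_eq (fun _ => rfl)
  haveI : Algebra.Smooth A E := Algebra.Smooth.comp A R' E
  have hpq : p = q.comap (algebraMap R' E) :=
    comap_eq_of_algEquiv R' p (Localization.AtPrime p) E q j.A κ
  have hq : (maximalIdeal A).map (algebraMap A E) ≤ q := by
    rw [Ideal.map_le_iff_le_comap]
    intro a ha
    rw [Ideal.mem_comap, IsScalarTower.algebraMap_apply A R' E]
    have h1 : algebraMap A R' a ∈ p := hp (Ideal.mem_map_of_mem _ ha)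
    rw [hpq] at h1
    exact h1
  rw [← encard_minimalPrimes_eq_of_ringEquiv κ.toRingEquiv]
  exact encard_le_one_of_isGeomUnibranch A hA E q hq

/-- if moreover `A` is reduced, the localization is a domain -/
theorem isDomain_localization_of_smooth [IsReduced A] (hA : CAlg2.IsGeomUnibranch A)
    (hp : (maximalIdeal A).map (algebraMap A R') ≤ p) :
    IsDomain (Localization.AtPrime p) := by
  haveI : IsReduced R' := by
    have hsm : AlgebraicGeometry.Smooth
        (AlgebraicGeometry.Spec.map (CommRingCat.ofHom (algebraMap A R'))) := by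
      rw [AlgebraicGeometry.HasRingHomProperty.Spec_iff (P := @AlgebraicGeometry.Smooth)]
      exact RingHom.smooth_algebraMap.mpr inferInstance
    haveI : AlgebraicGeometry.IsReduced (AlgebraicGeometry.Spec (CommRingCat.of A)) :=
      (AlgebraicGeometry.affine_isReduced_iff (CommRingCat.of A)).2 inferInstance
    have := Groth.Agent.Lib.EtaleReduced_helper7.isReduced_of_smooth_scheme
      (AlgebraicGeometry.Spec.map (CommRingCat.ofHom (algebraMap A R')))
    exact (AlgebraicGeometry.affine_isReduced_iff (CommRingCat.of R')).1 this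
  exact isDomain_of_isReduced_of_encard_le_one (Localization.AtPrime p)
    (encard_le_one_of_isGeomUnibranch A hA R' p hp)

end Main

end Groth.Agent.Lib.SmoothUnibranchH3
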