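import Mathlib

/-!
# Mori–Nagata, abstract part (helper3)

A subring `S` of a field `K` which is the preimage of (the image of) a Noetherian ring `D` under a
ring homomorphism `K → L`, and which is "archimedean" (completely integrally closed), is the
intersection of its localisations at height-one primes: every `y ∉ S` is missed by some
`S_p` with `p` a minimal nonzero prime.
APPEND-ONLY once landed.
-/

set_option autoImplicit false

namespace Groth.Agent.Lib.MoriNagataH3

variable {A K : Type*} [CommRing A] [Field K] [Algebra A K] (S : Subalgebra A K)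

/-- The conductor-like ideal `(S : y) = {r ∈ S | r y ∈ S}`. -/
def colon (y : K) : Ideal S where
  carrier := {r | (r : K) * y ∈ S}
  add_mem' := by
    intro a b ha hb
    simp only [Set.mem_setOf_eq] at ha hb ⊢
    rw [Subalgebra.coe_add, add_mul]
    exact S.add_mem ha hb
  zero_mem' := by
    simp only [Set.mem_setOf_eq, ZeroMemClass.coe_zero, zero_mul]
    exact S.zero_mem
  smul_mem' := by
    intro c x hx
    simp only [Set.mem_setOf_eq] at hx ⊢
    rw [smul_eq_mul, Subalgebra.coe_mul, mul_assoc]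
    exact S.mul_mem c.2 hx

theorem mem_colon {y : K} {r : S} : r ∈ colon S y ↔ (r : K) * y ∈ S := Iff.rfl

/-- An ideal `𝔞 ≠ 0` of `S` stable under multiplication by `y` forces `y ∈ S` when `S` is
archimedean. -/
theorem mem_of_invariant
    (H2 : ∀ (y z : K), z ∈ S → z ≠ 0 → (∀ n : ℕ, y ^ n * z ∈ S) → y ∈ S)
    (y : K) (𝔞 : Ideal S) (h0 : 𝔞 ≠ ⊥)
    (hinv : ∀ z : S, z ∈ 𝔞 → ∃ h : (z : K) * y ∈ S, (⟨(z : K) * y, h⟩ : S) ∈ 𝔞) : y ∈ S := by
  obtain ⟨z, hz, hz0⟩ := Submodule.exists_mem_ne_zero_of_ne_bot h0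
  have key : ∀ n : ℕ, ∀ w : S, w ∈ 𝔞 → ∃ h : y ^ n * (w : K) ∈ S, (⟨y ^ n * (w : K), h⟩ : S) ∈ 𝔞 := by
    intro n
    induction n with
    | zero =>
      intro w hw
      refine ⟨by rw [pow_zero, one_mul]; exact w.2, ?_⟩
      have : (⟨y ^ 0 * (w : K), by rw [pow_zero, one_mul]; exact w.2⟩ : S) = w :=
        Subtype.ext (by simp)
      rw [this]; exact hw
    | succ n ih =>
      intro w hw
      obtain ⟨h1, h2⟩ := hinv w hw
      obtain ⟨h3, h4⟩ := ih ⟨(w : K) * y, h1⟩ h2
      have heq : y ^ (n + 1) * (w : K) = y ^ n * ((w : K) * y) := by rw [pow_succ]; ring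
      refine ⟨by rw [heq]; exact h3, ?_⟩
      have : (⟨y ^ (n + 1) * (w : K), by rw [heq]; exact h3⟩ : S) =
          ⟨y ^ n * ((w : K) * y), h3⟩ := Subtype.ext heq
      rw [this]; exact h4
  refine H2 y (z : K) z.2 (fun h => hz0 (Subtype.ext h)) (fun n => ?_)
  exact (key n z hz).1

variable {D L : Type*} [CommRing D] [CommRing L] (ψ : D →+* L) (φ : K →+* L)

/-- The denominator ideal of `φ y` in `D`. -/
def denomIdeal (y : K) : Ideal D where
  carrier := {d | ψ d * φ y ∈ ψ.range}
  add_mem' := by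
    intro a b ha hb
    simp only [Set.mem_setOf_eq] at ha hb ⊢
    rw [map_add, add_mul]
    exact ψ.range.add_mem ha hb
  zero_mem' := by
    simp only [Set.mem_setOf_eq, map_zero, zero_mul]
    exact ψ.range.zero_mem
  smul_mem' := by
    intro c x hx
    simp only [Set.mem_setOf_eq] at hx ⊢
    rw [smul_eq_mul, map_mul, mul_assoc]
    exact ψ.range.mul_mem ⟨c, rfl⟩ hx

theorem mem_denomIdeal {y : K} {d : D} : d ∈ denomIdeal ψ φ y ↔ ψ d * φ y ∈ ψ.range := Iff.rfl

/-- **Abstract Mori–Nagata lemma.** -/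
theorem exists_prime [IsNoetherianRing D]
    (H1 : ∀ x : K, x ∈ S ↔ φ x ∈ ψ.range)
    (H2 : ∀ (y z : K), z ∈ S → z ≠ 0 → (∀ n : ℕ, y ^ n * z ∈ S) → y ∈ S)
    (H3 : ∀ y : K, ∃ b ∈ S, b ≠ 0 ∧ b * y ∈ S) :
    ∀ y : K, y ∉ S → ∃ p : Ideal S, p.IsPrime ∧ p ≠ ⊥ ∧
      (∀ q : Ideal S, q.IsPrime → q < p → q = ⊥) ∧ ∀ s : S, s ∉ p → (s : K) * y ∉ S := by
  intro y
  suffices h : ∀ I : Ideal D, ∀ y : K, denomIdeal ψ φ y = I → y ∉ S →
      ∃ p : Ideal S, p.IsPrime ∧ p ≠ ⊥ ∧
        (∀ q : Ideal S, q.IsPrime → q < p → q = ⊥) ∧ ∀ s : S, s ∉ p → (s : K) * y ∉ S from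
    h _ y rfl
  intro I
  induction I using WellFoundedGT.induction with
  | ind I ih =>
  intro y hyI hy
  have hne : colon S y ≠ ⊤ := by
    intro h
    have h1 : (1 : S) ∈ colon S y := by rw [h]; trivial
    rw [mem_colon] at h1
    simp only [OneMemClass.coe_one, one_mul] at h1
    exact hy h1
  by_cases hprime : (colon S y).IsPrime
  · refine ⟨colon S y, hprime, ?_, ?_, fun s hs => hs⟩
    · obtain ⟨b, hbS, hb0, hby⟩ := H3 y
      intro hbot
      have h1 : (⟨b, hbS⟩ : S) ∈ colon S y := hby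
      rw [hbot, Ideal.mem_bot] at h1
      exact hb0 (congrArg Subtype.val h1)
    · intro q hq hqp
      by_contra hq0
      -- find `r ∈ p \ q` with `r y ∉ p`
      by_cases hB : ∀ r : S, ∀ hr : r ∈ colon S y, (⟨(r : K) * y, hr⟩ : S) ∈ colon S y
      · -- `p` itself is invariant
        apply hy
        refine mem_of_invariant S H2 y (colon S y) ?_ (fun z hz => ⟨hz, hB z hz⟩)
        obtain ⟨b, hbS, hb0, hby⟩ := H3 y
        intro hbot
        have h1 : (⟨b, hbS⟩ : S) ∈ colon S y := hby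
        rw [hbot, Ideal.mem_bot] at h1
        exact hb0 (congrArg Subtype.val h1)
      · push_neg at hB
        obtain ⟨r₀, hr₀, hr₀y⟩ := hB
        obtain ⟨r₁, hr₁p, hr₁q⟩ := Set.exists_of_ssubset hqp
        -- choose `r`
        obtain ⟨r, hrp, hrq, hry⟩ : ∃ r : S, ∃ hr : r ∈ colon S y, r ∉ q ∧
            (⟨(r : K) * y, hr⟩ : S) ∉ colon S y := by
          by_cases h0 : r₀ ∈ q
          · by_cases h1 : (⟨(r₁ : K) * y, hr₁p⟩ : S) ∈ colon S y
            · refine ⟨r₀ + r₁, Ideal.add_mem _ hr₀ hr₁p, ?_, ?_⟩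
              · intro h
                exact hr₁q (by simpa using Ideal.sub_mem _ h h0)
              · intro h
                apply hr₀y
                have h2 : (⟨((r₀ + r₁ : S) : K) * y, Ideal.add_mem _ hr₀ hr₁p⟩ : S) =
                    ⟨(r₀ : K) * y, hr₀⟩ + ⟨(r₁ : K) * y, hr₁p⟩ :=
                  Subtype.ext (by simp [add_mul])
                rw [h2] at h
                simpa using Ideal.sub_mem _ h h1
            · exact ⟨r₁, hr₁p, hr₁q, h1⟩
          · exact ⟨r₀, hr₀, h0, hr₀y⟩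
        -- `q` is invariant
        apply hy
        refine mem_of_invariant S H2 y q hq0 (fun z hz => ?_)
        have hzp : z ∈ colon S y := hqp.le hz
        refine ⟨hzp, ?_⟩
        have h1 : r * (⟨(z : K) * y, hzp⟩ : S) = (⟨(r : K) * y, hrp⟩ : S) * z :=
          Subtype.ext (by simp only [Subalgebra.coe_mul]; ring)
        have h2 : r * (⟨(z : K) * y, hzp⟩ : S) ∈ q := by
          rw [h1]; exact Ideal.mul_mem_left _ _ hz
        rcases hq.mem_or_mem h2 with h3 | h3
        · exact absurd h3 hrq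
        · exact h3
  · rw [Ideal.isPrime_iff] at hprime
    push_neg at hprime
    obtain ⟨r, s, hrs, hr, hs⟩ := hprime hne
    have hy' : (r : K) * y ∉ S := hr
    have hlt : I < denomIdeal ψ φ ((r : K) * y) := by
      obtain ⟨dr, hdr⟩ := (H1 (r : K)).mp r.2
      obtain ⟨ds, hds⟩ := (H1 (s : K)).mp s.2
      refine lt_of_le_of_ne ?_ ?_
      · intro d hd
        rw [← hyI, mem_denomIdeal] at hd
        rw [mem_denomIdeal, map_mul]
        have : ψ d * (φ (r : K) * φ y) = φ (r : K) * (ψ d * φ y) := by ring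
        rw [this, ← hdr]
        exact ψ.range.mul_mem ⟨dr, rfl⟩ hd
      · intro heq
        have h1 : ds ∈ denomIdeal ψ φ ((r : K) * y) := by
          rw [mem_denomIdeal, hds, ← map_mul]
          have h2 : ((r * s : S) : K) * y ∈ S := hrs
          rw [Subalgebra.coe_mul] at h2
          have h3 : (s : K) * ((r : K) * y) = (r : K) * (s : K) * y := by ring
          rw [h3]
          exact (H1 _).mp h2
        rw [← heq, ← hyI, mem_denomIdeal, hds, ← map_mul] at h1
        exact hs ((H1 _).mpr h1)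
    obtain ⟨p, hp, hp0, hmin, hmiss⟩ := ih _ hlt ((r : K) * y) rfl hy'
    refine ⟨p, hp, hp0, hmin, fun s' hs' hmem => ?_⟩
    apply hmiss s' hs'
    have : (s' : K) * ((r : K) * y) = (r : K) * ((s' : K) * y) := by ring
    rw [this]
    exact S.mul_mem r.2 hmem

end Groth.Agent.Lib.MoriNagataH3
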