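import Mathlib

/-!
# Mori–Nagata: integrality of a fraction `a / b` as an ideal membership `a^(k+1) ∈ (b)(a,b)^k`
(helper3)
APPEND-ONLY once landed.
-/

set_option autoImplicit false

namespace Groth.Agent.Lib.MoriNagataH3

open Polynomial

section Ideals

variable {R : Type*} [CommRing R]

/-- The ideal `(b)(a,b)^k`. -/
def II (a b : R) (k : ℕ) : Ideal R := Ideal.span {b} * Ideal.span {a, b} ^ k

theorem II_map {R' : Type*} [CommRing R'] (f : R →+* R') (a b : R) (k : ℕ) :
    (II a b k).map f = II (f a) (f b) k := by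
  unfold II
  rw [Ideal.map_mul, Ideal.map_pow, Ideal.map_span, Ideal.map_span, Set.image_singleton,
    Set.image_pair]

theorem mem_pair_left (a b : R) : a ∈ Ideal.span ({a, b} : Set R) :=
  Ideal.subset_span (Set.mem_insert _ _)

theorem mem_pair_right (a b : R) : b ∈ Ideal.span ({a, b} : Set R) :=
  Ideal.subset_span (Set.mem_insert_of_mem _ rfl)

theorem span_b_le (a b : R) : Ideal.span ({b} : Set R) ≤ Ideal.span ({a, b} : Set R) :=
  Ideal.span_mono (by intro x hx; rw [Set.mem_singleton_iff] at hx; rw [hx]; exact Set.mem_insert_of_mem _ rfl)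

theorem II_mul_pow (a b : R) (n m : ℕ) : II a b n * Ideal.span {a, b} ^ m = II a b (n + m) := by
  unfold II
  rw [mul_assoc, ← pow_add]

theorem pow_mul_II (a b : R) (n m : ℕ) : Ideal.span {a, b} ^ m * II a b n = II a b (n + m) := by
  rw [mul_comm, II_mul_pow]

theorem II_mul_II_le (a b : R) (n m : ℕ) : II a b n * II a b m ≤ II a b (n + m + 1) := by
  have h1 : II a b m ≤ Ideal.span {a, b} ^ (m + 1) := by
    unfold II
    rw [pow_succ']
    exact Ideal.mul_mono_left (span_b_le a b)
  calc II a b n * II a b m ≤ II a b n * Ideal.span {a, b} ^ (m + 1) := Ideal.mul_mono_right h1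
    _ = II a b (n + (m + 1)) := II_mul_pow a b n (m + 1)
    _ = II a b (n + m + 1) := by rw [add_assoc]

/-- `(a,b)^(k+1) ≤ (a^(k+1)) + (b)(a,b)^k`. -/
theorem pair_pow_succ_le (a b : R) (k : ℕ) :
    Ideal.span ({a, b} : Set R) ^ (k + 1) ≤ Ideal.span {a ^ (k + 1)} ⊔ II a b k := by
  induction k with
  | zero =>
    rw [zero_add, pow_one, pow_one]
    unfold II
    rw [pow_zero, mul_one, Ideal.span_le]
    intro x hx
    rcases hx with rfl | hx
    · exact Ideal.mem_sup_left (Ideal.mem_span_singleton_self _)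
    · rw [Set.mem_singleton_iff] at hx
      rw [hx]
      exact Ideal.mem_sup_right (Ideal.mem_span_singleton_self _)
  | succ k ih =>
    rw [pow_succ]
    calc Ideal.span ({a, b} : Set R) ^ (k + 1) * Ideal.span {a, b}
        ≤ (Ideal.span {a ^ (k + 1)} ⊔ II a b k) * Ideal.span {a, b} := Ideal.mul_mono_left ih
      _ = Ideal.span {a ^ (k + 1)} * Ideal.span {a, b} ⊔ II a b k * Ideal.span {a, b} :=
          Ideal.sup_mul _ _ _
      _ ≤ Ideal.span {a ^ (k + 1 + 1)} ⊔ II a b (k + 1) := by
          refine sup_le ?_ ?_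
          · rw [Ideal.span_singleton_mul_le_iff]
            intro z hz
            rw [Ideal.mem_span_pair] at hz
            obtain ⟨c, d, rfl⟩ := hz
            have h1 : a ^ (k + 1) * (c * a + d * b) = c * a ^ (k + 1 + 1) + d * (b * a ^ (k + 1)) := by
              ring
            rw [h1]
            refine Ideal.add_mem _ (Ideal.mem_sup_left
              (Ideal.mul_mem_left _ _ (Ideal.mem_span_singleton_self _))) (Ideal.mem_sup_right ?_)
            refine Ideal.mul_mem_left _ _ ?_
            unfold II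
            exact Ideal.mul_mem_mul (Ideal.mem_span_singleton_self _)
              (Ideal.pow_mem_pow (mem_pair_left a b) _)
          · have := II_mul_pow a b k 1
            rw [pow_one] at this
            rw [this]
            exact le_sup_right

/-- `a/b` is integral modulo `J` (in the sense of ideals). -/
def IntMod (a b : R) (J : Ideal R) : Prop := ∃ k : ℕ, a ^ (k + 1) ∈ II a b k ⊔ J

theorem IntMod.mono {a b : R} {J J' : Ideal R} (h : IntMod a b J) (hle : J ≤ J') :
    IntMod a b J' := by
  obtain ⟨k, hk⟩ := h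
  exact ⟨k, sup_le_sup_left hle _ hk⟩

theorem intMod_top (a b : R) : IntMod a b ⊤ := ⟨0, by rw [sup_top_eq]; trivial⟩

theorem IntMod.mul {a b : R} {J J' : Ideal R} (h : IntMod a b J) (h' : IntMod a b J') :
    IntMod a b (J * J') := by
  obtain ⟨n, hn⟩ := h
  obtain ⟨m, hm⟩ := h'
  obtain ⟨u, hu, j, hj, huj⟩ := Submodule.mem_sup.mp hn
  obtain ⟨u', hu', j', hj', huj'⟩ := Submodule.mem_sup.mp hm
  refine ⟨n + m + 1, ?_⟩
  have h1 : a ^ (n + m + 1 + 1) = u * a ^ (m + 1) + a ^ (n + 1) * u' - u * u' + j * j' := by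
    have e1 : a ^ (n + m + 1 + 1) = a ^ (n + 1) * a ^ (m + 1) := by rw [← pow_add]; congr 1; omega
    rw [e1, ← huj, ← huj']
    ring
  rw [h1]
  refine Ideal.add_mem _ (Ideal.mem_sup_left ?_) (Ideal.mem_sup_right (Ideal.mul_mem_mul hj hj'))
  refine Ideal.sub_mem _ (Ideal.add_mem _ ?_ ?_) ?_
  · have := Ideal.mul_mem_mul hu (Ideal.pow_mem_pow (mem_pair_left a b) (m + 1))
    rw [II_mul_pow] at this
    have e : n + (m + 1) = n + m + 1 := by omega
    rwa [e] at this
  · have := Ideal.mul_mem_mul (Ideal.pow_mem_pow (mem_pair_left a b) (n + 1)) hu'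
    rw [pow_mul_II] at this
    have e : m + (n + 1) = n + m + 1 := by omega
    rwa [e] at this
  · exact II_mul_II_le a b n m (Ideal.mul_mem_mul hu hu')

theorem IntMod.pow {a b : R} {J : Ideal R} (h : IntMod a b J) (N : ℕ) : IntMod a b (J ^ N) := by
  induction N with
  | zero => rw [pow_zero, Ideal.one_eq_top]; exact intMod_top a b
  | succ N ih => rw [pow_succ]; exact ih.mul h

theorem IntMod.prod {ι : Type*} {a b : R} (s : Finset ι) (P : ι → Ideal R)
    (h : ∀ i ∈ s, IntMod a b (P i)) : IntMod a b (∏ i ∈ s, P i) := by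
  classical
  induction s using Finset.induction_on with
  | empty => rw [Finset.prod_empty, Ideal.one_eq_top]; exact intMod_top a b
  | insert i s hi ih =>
    rw [Finset.prod_insert hi]
    exact (h i (Finset.mem_insert_self _ _)).mul
      (ih fun j hj => h j (Finset.mem_insert_of_mem hj))

/-- In a Noetherian ring, integrality modulo all minimal primes gives integrality. -/
theorem intMod_bot_of_minimalPrimes [IsNoetherianRing R] {a b : R}
    (h : ∀ P ∈ minimalPrimes R, IntMod a b P) : IntMod a b ⊥ := by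
  classical
  have hfin : (minimalPrimes R).Finite := minimalPrimes.finite_of_isNoetherianRing R
  have h1 : IntMod a b (∏ P ∈ hfin.toFinset, P) :=
    IntMod.prod hfin.toFinset id (fun P hP => h P (hfin.mem_toFinset.mp hP))
  have h2 : (∏ P ∈ hfin.toFinset, P) ≤ nilradical R := by
    refine Ideal.prod_le_inf.trans ?_
    have h3 : hfin.toFinset.inf (fun P => P) = sInf (minimalPrimes R) := by
      have := Finset.inf_id_eq_sInf hfin.toFinset
      rw [Set.Finite.coe_toFinset] at this
      exact this
    rw [h3]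
    have h4 : sInf (minimalPrimes R) = (⊥ : Ideal R).radical := Ideal.sInf_minimalPrimes
    rw [h4]
    exact le_rfl
  obtain ⟨N, hN⟩ := IsNoetherianRing.isNilpotent_nilradical R
  have h5 := (h1.mono h2).pow N
  rw [hN] at h5
  exact h5

end Ideals

section Domain

variable {R F : Type*} [CommRing R] [IsDomain R] [Field F] [Algebra R F]

/-- If `a^(k+1) ∈ (b)(a,b)^k` and `x b = a` then `x` is integral. -/
theorem isIntegral_of_mem (hinj : Function.Injective (algebraMap R F)) {a b : R} (hb : b ≠ 0)
    {x : F} (hx : x * algebraMap R F b = algebraMap R F a) {k : ℕ}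
    (h : a ^ (k + 1) ∈ II a b k) : IsIntegral R x := by
  have hb' : algebraMap R F b ≠ 0 := fun h0 => hb (hinj (by rw [h0, map_zero]))
  let N : Submodule R F :=
    Submodule.map (Algebra.linearMap R F) (Ideal.span ({a, b} : Set R) ^ k)
  have hle : Ideal.span ({a, b} : Set R) ^ (k + 1) ≤ II a b k := by
    refine (pair_pow_succ_le a b k).trans (sup_le ?_ le_rfl)
    rw [Ideal.span_singleton_le_iff_mem]
    exact h
  refine isIntegral_of_smul_mem_submodule (M := F) N ?_ ?_ x ?_
  · intro hbot
    have h1 : algebraMap R F (b ^ k) ∈ N :=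
      Submodule.mem_map_of_mem (Ideal.pow_mem_pow (mem_pair_right a b) k)
    rw [hbot, Submodule.mem_bot, map_pow] at h1
    exact hb' (eq_zero_of_pow_eq_zero h1)
  · refine Submodule.FG.map _ (Ideal.FG.pow ?_)
    classical
    exact ⟨{a, b}, by simp⟩
  · rintro _ ⟨c, hc, rfl⟩
    have h1 : a * c ∈ II a b k := by
      apply hle
      rw [pow_succ']
      exact Ideal.mul_mem_mul (mem_pair_left a b) hc
    unfold II at h1
    obtain ⟨c', hc', hbc⟩ := Ideal.mem_span_singleton_mul.mp h1
    refine ⟨c', hc', ?_⟩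
    apply mul_left_cancel₀ hb'
    rw [Algebra.linearMap_apply, Algebra.linearMap_apply, smul_eq_mul, ← map_mul, hbc, map_mul,
      ← hx]
    ring

/-- If `x = a/b` is integral then `a^(k+1) ∈ (b)(a,b)^k` for some `k`. -/
theorem exists_mem_of_isIntegral (hinj : Function.Injective (algebraMap R F)) {a b : R}
    (hb : b ≠ 0) (h : IsIntegral R (algebraMap R F a / algebraMap R F b)) :
    ∃ k : ℕ, a ^ (k + 1) ∈ II a b k := by
  obtain ⟨p, hp, hroot⟩ := h
  have hbz : b ∈ nonZeroDivisors R := mem_nonZeroDivisors_of_ne_zero hb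
  have h1 : aeval (algebraMap R F a) (scaleRoots p b) = 0 :=
    scaleRoots_aeval_eq_zero_of_aeval_div_eq_zero hinj (by rw [aeval_def]; exact hroot) hbz
  rw [aeval_algebraMap_apply] at h1
  have h2 : eval a (scaleRoots p b) = 0 := by
    apply hinj
    rw [map_zero, ← h1]
    simp [aeval_def]
  have hdeg : p.natDegree ≠ 0 := by
    intro h0
    have : p = 1 := eq_one_of_monic_natDegree_zero hp h0
    rw [this, eval₂_one] at hroot
    exact one_ne_zero hroot
  obtain ⟨k, hk⟩ := Nat.exists_eq_succ_of_ne_zero hdeg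
  refine ⟨k, ?_⟩
  rw [eval_eq_sum_range, natDegree_scaleRoots, hk, Finset.sum_range_succ, coeff_scaleRoots,
    hk, Nat.sub_self, pow_zero, mul_one] at h2
  have hlead : p.coeff (k + 1) = 1 := by
    have := hp.coeff_natDegree
    rwa [hk] at this
  rw [hlead, one_mul] at h2
  have h3 : a ^ (k + 1) = - ∑ i ∈ Finset.range (k + 1), (scaleRoots p b).coeff i * a ^ i := by
    linear_combination h2
  rw [h3]
  refine Ideal.neg_mem_iff _ |>.mpr (Ideal.sum_mem _ fun i hi => ?_)
  rw [Finset.mem_range] at hi
  rw [coeff_scaleRoots, hk]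
  have e1 : k + 1 - i = (k - i) + 1 := by omega
  have h4 : p.coeff i * b ^ (k + 1 - i) * a ^ i = p.coeff i * (b * (b ^ (k - i) * a ^ i)) := by
    rw [e1, pow_succ]; ring
  rw [h4]
  refine Ideal.mul_mem_left _ _ ?_
  unfold II
  refine Ideal.mul_mem_mul (Ideal.mem_span_singleton_self _) ?_
  have e2 : Ideal.span ({a, b} : Set R) ^ k =
      Ideal.span ({a, b} : Set R) ^ (k - i) * Ideal.span ({a, b} : Set R) ^ i := by
    rw [← pow_add]; congr 1; omega
  rw [e2]
  exact Ideal.mul_mem_mul (Ideal.pow_mem_pow (mem_pair_right a b) _)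
    (Ideal.pow_mem_pow (mem_pair_left a b) _)

end Domain

end Groth.Agent.Lib.MoriNagataH3
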