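import Mathlib
import Groth.Prelude.Def_Found
import Groth.Agent.Lib.MoriNagata1_helper3
import Groth.Agent.Lib.MoriNagata2_helper3
import Groth.Agent.Lib.AnUnram_helper3

/-!
# Mori–Nagata: the integral closure of a Noetherian local domain is the intersection of its
localisations at height-one primes (helper3)

Via the normalisations of the quotients of the completion by its minimal primes.
APPEND-ONLY once landed.
-/

set_option autoImplicit false
universe u

namespace Groth.Agent.Lib.MoriNagataH3

open IsLocalRing Polynomial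

section Setup

variable (A : Type u) [CommRing A] [IsDomain A] [IsNoetherianRing A] [IsLocalRing A]

/-- The minimal primes of the completion. -/
abbrev MinP : Type u :=
  {P : Ideal (AdicCompletion (maximalIdeal A) A) // P ∈ minimalPrimes (AdicCompletion (maximalIdeal A) A)}

instance (i : MinP A) : i.1.IsPrime := i.2.1.1

/-- The quotient of the completion by a minimal prime. -/
abbrev Qi (i : MinP A) : Type u := AdicCompletion (maximalIdeal A) A ⧸ i.1

/-- Its fraction field. -/
abbrev Li (i : MinP A) : Type u := FractionRing (Qi A i)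

/-- The map `A → Frac(Â/P)`. -/
noncomputable def gi (i : MinP A) : A →+* Li A i :=
  (algebraMap (Qi A i) (Li A i)).comp
    ((Ideal.Quotient.mk i.1).comp (algebraMap A (AdicCompletion (maximalIdeal A) A)))

theorem mk_ne_zero (i : MinP A) {a : A} (ha : a ≠ 0) :
    Ideal.Quotient.mk i.1 (algebraMap A (AdicCompletion (maximalIdeal A) A) a) ≠ 0 := by
  obtain ⟨hloc, hnoeth, hcompl, hff, -, -⟩ := Groth.Agent.Lib.AnUnramH3.completion_facts A
  haveI := hff
  have hreg : IsSMulRegular A a := fun x y hxy => mul_left_cancel₀ ha hxy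
  have hreg' : IsSMulRegular (AdicCompletion (maximalIdeal A) A)
      (algebraMap A (AdicCompletion (maximalIdeal A) A) a) := hreg.of_flat
  have hnzd : algebraMap A (AdicCompletion (maximalIdeal A) A) a ∈
      nonZeroDivisors (AdicCompletion (maximalIdeal A) A) := by
    rw [mem_nonZeroDivisors_iff_right]
    intro x hx
    apply hreg'
    change algebraMap A (AdicCompletion (maximalIdeal A) A) a • x =
      algebraMap A (AdicCompletion (maximalIdeal A) A) a • 0
    rw [smul_zero, smul_eq_mul, mul_comm, hx]
  intro h0
  rw [Ideal.Quotient.eq_zero_iff_mem] at h0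
  exact Set.disjoint_left.mp (Ideal.disjoint_nonZeroDivisors_of_mem_minimalPrimes i.2) h0 hnzd

theorem gi_injective (i : MinP A) : Function.Injective (gi A i) := by
  rw [injective_iff_map_eq_zero]
  intro a ha
  by_contra h
  apply mk_ne_zero A i h
  apply IsFractionRing.injective (Qi A i) (Li A i)
  rw [map_zero]
  exact ha

variable (K : Type u) [Field K] [Algebra A K] [IsFractionRing A K]

/-- The field embedding `K → Frac(Â/P)`. -/
noncomputable def phi (i : MinP A) : K →+* Li A i := IsFractionRing.lift (gi_injective A i)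

theorem phi_algebraMap (i : MinP A) (a : A) : phi A K i (algebraMap A K a) = gi A i a :=
  IsFractionRing.lift_algebraMap _ a

/-- (H1) -/
theorem mem_integralClosure_iff (x : K) :
    x ∈ integralClosure A K ↔ ∀ i : MinP A, IsIntegral (Qi A i) (phi A K i x) := by
  obtain ⟨hloc, hnoeth, hcompl, hff, -, -⟩ := Groth.Agent.Lib.AnUnramH3.completion_facts A
  haveI := hnoeth
  haveI := hff
  constructor
  · rintro ⟨p, hp, hroot⟩ i
    refine ⟨p.map ((Ideal.Quotient.mk i.1).comp
      (algebraMap A (AdicCompletion (maximalIdeal A) A))), hp.map _, ?_⟩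
    rw [eval₂_map]
    have h1 : (algebraMap (Qi A i) (Li A i)).comp ((Ideal.Quotient.mk i.1).comp
        (algebraMap A (AdicCompletion (maximalIdeal A) A))) = (phi A K i).comp (algebraMap A K) := by
      ext a
      exact (phi_algebraMap A K i a).symm
    rw [h1, ← hom_eval₂, hroot, map_zero]
  · intro h
    obtain ⟨a, b, hb, rfl⟩ := IsFractionRing.div_surjective A x
    have hb0 : b ≠ 0 := nonZeroDivisors.ne_zero hb
    have hint : IntMod (algebraMap A (AdicCompletion (maximalIdeal A) A) a)
        (algebraMap A (AdicCompletion (maximalIdeal A) A) b) ⊥ := by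
      apply intMod_bot_of_minimalPrimes
      intro P hP
      obtain ⟨i, rfl⟩ : ∃ i : MinP A, i.1 = P := ⟨⟨P, hP⟩, rfl⟩
      have hi := h i
      rw [map_div₀, phi_algebraMap, phi_algebraMap] at hi
      obtain ⟨k, hk⟩ := exists_mem_of_isIntegral (R := Qi A i) (F := Li A i)
        (a := Ideal.Quotient.mk i.1 (algebraMap A (AdicCompletion (maximalIdeal A) A) a))
        (IsFractionRing.injective _ _) (mk_ne_zero A i hb0) hi
      refine ⟨k, ?_⟩
      rw [← II_map, ← map_pow, Ideal.mem_quotient_iff_mem_sup] at hk
      exact hk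
    obtain ⟨k, hk⟩ := hint
    rw [sup_bot_eq, ← II_map, ← map_pow] at hk
    have hk' : a ^ (k + 1) ∈ II a b k := by
      rw [← Ideal.comap_map_eq_self_of_faithfullyFlat (B := AdicCompletion (maximalIdeal A) A)
        (II a b k)]
      exact hk
    refine isIntegral_of_mem (IsFractionRing.injective A K) hb0 ?_ hk'
    rw [div_mul_cancel₀]
    intro h0
    exact hb0 (IsFractionRing.injective A K (by rw [h0, map_zero]))

theorem finite_integralClosure (i : MinP A) :
    Module.Finite (Qi A i) (integralClosure (Qi A i) (Li A i)) := by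
  have hN := (Groth.Agent.Lib.AnUnramH3.isNagata_completion A).2 i.1
  exact hN (Li A i) inferInstance

/-- (H2): the integral closure is archimedean (completely integrally closed). -/
theorem mem_of_forall_pow_mul_mem (y z : K) (hz : z ∈ integralClosure A K) (hz0 : z ≠ 0)
    (h : ∀ n : ℕ, y ^ n * z ∈ integralClosure A K) : y ∈ integralClosure A K := by
  obtain ⟨hloc, hnoeth, hcompl, hff, -, -⟩ := Groth.Agent.Lib.AnUnramH3.completion_facts A
  haveI := hnoeth
  rw [mem_integralClosure_iff]
  intro i
  haveI := finite_integralClosure A i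
  haveI : IsNoetherianRing (integralClosure (Qi A i) (Li A i)) :=
    IsNoetherianRing.of_finite (Qi A i) _
  obtain ⟨w, hw⟩ : ∃ w, w = phi A K i y := ⟨_, rfl⟩
  obtain ⟨v, hv⟩ : ∃ v, v = phi A K i z := ⟨_, rfl⟩
  have hv0 : v ≠ 0 := by
    rw [hv]
    intro h0
    exact hz0 ((phi A K i).injective (by rw [h0, map_zero]))
  have hmem : ∀ n : ℕ, w ^ n * v ∈ integralClosure (Qi A i) (Li A i) := by
    intro n
    have := (mem_integralClosure_iff A K _).mp (h n) i
    rw [map_mul, map_pow, ← hw, ← hv] at this
    exact this
  let N : Submodule (integralClosure (Qi A i) (Li A i)) (Li A i) :=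
    Submodule.span _ (Set.range fun n : ℕ => w ^ n * v)
  have hNle : N ≤ LinearMap.range (Algebra.linearMap (integralClosure (Qi A i) (Li A i)) (Li A i)) := by
    rw [Submodule.span_le]
    rintro _ ⟨n, rfl⟩
    exact ⟨⟨_, hmem n⟩, rfl⟩
  have hNfg : N.FG := by
    exact (isNoetherian_submodule.mp (isNoetherian_range
      (Algebra.linearMap (integralClosure (Qi A i) (Li A i)) (Li A i)))) N hNle
  have hN0 : N ≠ ⊥ := by
    intro hbot
    have h1 : w ^ 0 * v ∈ N := Submodule.subset_span ⟨0, rfl⟩
    rw [hbot, Submodule.mem_bot, pow_zero, one_mul] at h1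
    exact hv0 h1
  have hstab : ∀ n ∈ N, w • n ∈ N := by
    intro n hn
    refine Submodule.span_induction (p := fun n _ => w • n ∈ N) ?_ ?_ ?_ ?_ hn
    · rintro _ ⟨m, rfl⟩
      have : w • (w ^ m * v) = w ^ (m + 1) * v := by rw [smul_eq_mul, pow_succ]; ring
      rw [this]
      exact Submodule.subset_span ⟨m + 1, rfl⟩
    · rw [smul_zero]; exact N.zero_mem
    · intro a b _ _ ha hb
      rw [smul_add]; exact N.add_mem ha hb
    · intro c a _ ha
      rw [smul_comm]; exact N.smul_mem c ha
  have h1 : IsIntegral (integralClosure (Qi A i) (Li A i)) w :=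
    isIntegral_of_smul_mem_submodule (M := Li A i) N hN0 hNfg w hstab
  rw [← hw]
  exact isIntegral_trans (R := Qi A i) (A := integralClosure (Qi A i) (Li A i)) w h1

/-- (H3) -/
theorem exists_denominator (y : K) :
    ∃ b ∈ integralClosure A K, b ≠ 0 ∧ b * y ∈ integralClosure A K := by
  obtain ⟨a, b, hb, rfl⟩ := IsFractionRing.div_surjective A y
  have hb0 : algebraMap A K b ≠ 0 := by
    intro h0
    exact nonZeroDivisors.ne_zero hb (IsFractionRing.injective A K (by rw [h0, map_zero]))
  refine ⟨algebraMap A K b, Subalgebra.algebraMap_mem _ b, hb0, ?_⟩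
  rw [mul_div_cancel₀ _ hb0]
  exact Subalgebra.algebraMap_mem _ a

/-- **Mori–Nagata (intersection form).** Every element of `K` outside the integral closure `A'`
of a Noetherian local domain `A` is outside `A'_p` for some prime `p` of `A'` which is minimal
among the nonzero primes. -/
theorem exists_prime_integralClosure (y : K) (hy : y ∉ integralClosure A K) :
    ∃ p : Ideal (integralClosure A K), p.IsPrime ∧ p ≠ ⊥ ∧
      (∀ q : Ideal (integralClosure A K), q.IsPrime → q < p → q = ⊥) ∧
      ∀ s : integralClosure A K, s ∉ p → (s : K) * y ∉ integralClosure A K := by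
  obtain ⟨hloc, hnoeth, hcompl, hff, -, -⟩ := Groth.Agent.Lib.AnUnramH3.completion_facts A
  haveI := hnoeth
  haveI : Finite (MinP A) :=
    (minimalPrimes.finite_of_isNoetherianRing (AdicCompletion (maximalIdeal A) A)).to_subtype
  haveI : ∀ i : MinP A, IsNoetherianRing (integralClosure (Qi A i) (Li A i)) := fun i => by
    haveI := finite_integralClosure A i
    exact IsNoetherianRing.of_finite (Qi A i) _
  let ψ : (∀ i : MinP A, integralClosure (Qi A i) (Li A i)) →+* (∀ i : MinP A, Li A i) :=
    Pi.ringHom fun i => (algebraMap (integralClosure (Qi A i) (Li A i)) (Li A i)).comp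
      (Pi.evalRingHom (fun i : MinP A => integralClosure (Qi A i) (Li A i)) i)
  let φ : K →+* (∀ i : MinP A, Li A i) := Pi.ringHom fun i => phi A K i
  refine exists_prime (integralClosure A K) ψ φ ?_ (mem_of_forall_pow_mul_mem A K)
    (exists_denominator A K) y hy
  intro x
  rw [mem_integralClosure_iff]
  constructor
  · intro h
    refine ⟨fun i => ⟨phi A K i x, h i⟩, ?_⟩
    funext i
    rfl
  · rintro ⟨d, hd⟩ i
    have h1 : phi A K i x = ((d i : integralClosure (Qi A i) (Li A i)) : Li A i) := by
      have := congrFun hd i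
      exact this.symm
    rw [h1]
    exact (d i).2

end Setup

end Groth.Agent.Lib.MoriNagataH3
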