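import Mathlib
import Groth.Agent.Lib.MoriNagata3_helper3
import Groth.Agent.Lib.GlueDimOne1_helper6

/-!
# Mori–Nagata in EGA form: the essential valuations come from a finite subalgebra (helper3)
APPEND-ONLY once landed.
-/

set_option autoImplicit false
universe u

namespace Groth.Agent.Lib.MoriNagataH3

open IsLocalRing

section Main

variable (A : Type u) [CommRing A] [IsDomain A] [IsNoetherianRing A] [IsLocalRing A]
  (K : Type u) [Field K] [Algebra A K] [IsFractionRing A K]
  (C : Subalgebra A K) [Module.Finite A C]

theorem coe_algebraMap (a : A) : ((algebraMap A C a : C) : K) = algebraMap A K a := rfl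

/-- Finiteness of the set of bad height-one primes. -/
theorem finite_bad (x : K) :
    {p : Ideal C | p.IsPrime ∧ p.height = 1 ∧
      ¬ ∃ s : C, s ∉ p ∧ IsIntegral C ((s : K) * x)}.Finite := by
  haveI : IsNoetherianRing C := IsNoetherianRing.of_finite A C
  obtain ⟨a, b, hb, rfl⟩ := IsFractionRing.div_surjective A x
  have hb0 : algebraMap A K b ≠ 0 := by
    intro h0
    exact nonZeroDivisors.ne_zero hb (IsFractionRing.injective A K (by rw [h0, map_zero]))
  have hbC : algebraMap A C b ≠ 0 := by
    intro h0
    apply hb0
    rw [← coe_algebraMap A K C, h0]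
    rfl
  refine (Ideal.finite_minimalPrimes_of_isNoetherianRing C
    (Ideal.span {algebraMap A C b})).subset ?_
  rintro p ⟨hp, hht, hbad⟩
  haveI := hp
  have hmem : algebraMap A C b ∈ p := by
    by_contra hnot
    apply hbad
    refine ⟨algebraMap A C b, hnot, ?_⟩
    have h1 : ((algebraMap A C b : C) : K) * (algebraMap A K a / algebraMap A K b) =
        algebraMap C K (algebraMap A C a) := by
      rw [coe_algebraMap, mul_div_cancel₀ _ hb0]
      rfl
    rw [h1]
    exact isIntegral_algebraMap
  refine Ideal.mem_minimalPrimes_of_height_le ((Ideal.span_singleton_le_iff_mem _).mpr hmem) ?_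
  rw [hht]
  exact Ideal.one_le_height_span_singleton_of_mem_nonZeroDivisors
    (mem_nonZeroDivisors_of_ne_zero hbC)

variable (hint : C ≤ integralClosure A K)
  (hinj : Function.Injective (PrimeSpectrum.comap (Subalgebra.inclusion hint).toRingHom))

include hinj in
/-- Minimal nonzero primes of the integral closure contract to height-one primes of `C`. -/
theorem height_comap_eq_one (p' : Ideal (integralClosure A K)) [p'.IsPrime] (h0 : p' ≠ ⊥)
    (hmin : ∀ q : Ideal (integralClosure A K), q.IsPrime → q < p' → q = ⊥) :
    (p'.comap (Subalgebra.inclusion hint).toRingHom).height = 1 := by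
  letI : Algebra C (integralClosure A K) := (Subalgebra.inclusion hint).toRingHom.toAlgebra
  haveI : IsScalarTower A C (integralClosure A K) :=
    IsScalarTower.of_algebraMap_eq fun a => ((Subalgebra.inclusion hint).commutes a).symm
  haveI : Algebra.IsIntegral C (integralClosure A K) :=
    ⟨fun s => (Algebra.IsIntegral.isIntegral (R := A) s).tower_top⟩
  have hιinj : Function.Injective (algebraMap C (integralClosure A K)) :=
    Subalgebra.inclusion_injective hint
  have hker : RingHom.ker (algebraMap C (integralClosure A K)) = ⊥ :=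
    (RingHom.injective_iff_ker_eq_bot _).mp hιinj
  change (p'.comap (algebraMap C (integralClosure A K))).height = 1
  obtain ⟨p, hpdef⟩ : ∃ p, p = p'.comap (algebraMap C (integralClosure A K)) := ⟨_, rfl⟩
  rw [← hpdef]
  haveI : p.IsPrime := by rw [hpdef]; exact Ideal.comap_isPrime _ _
  have hp0 : p ≠ ⊥ := by
    obtain ⟨x, hx, hx0⟩ := Submodule.exists_mem_ne_zero_of_ne_bot h0
    rw [hpdef]
    exact Ideal.comap_ne_bot_of_integral_mem hx0 hx (Algebra.IsIntegral.isIntegral x)
  apply le_antisymm
  · rw [show (1 : ℕ∞) = ((1 : ℕ) : ℕ∞) from rfl, Ideal.height_le_iff]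
    intro q hq hqp
    haveI := hq
    obtain ⟨Q', hQ'prime, hQ'⟩ := Ideal.exists_ideal_over_prime_of_isIntegral_of_isDomain
      (S := integralClosure A K) q (by rw [hker]; exact bot_le)
    haveI := hQ'prime
    obtain ⟨P'', hle, hP''prime, hP''⟩ :=
      Ideal.exists_ideal_over_prime_of_isIntegral_of_isPrime p Q' (by rw [hQ']; exact hqp.le)
    have heq : P'' = p' := by
      have := hinj (a₁ := ⟨P'', hP''prime⟩) (a₂ := ⟨p', inferInstance⟩)
        (PrimeSpectrum.ext (by
          change P''.comap (algebraMap C (integralClosure A K)) =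
            p'.comap (algebraMap C (integralClosure A K))
          rw [hP'', hpdef]))
      exact congrArg PrimeSpectrum.asIdeal this
    have hQlt : Q' < p' := by
      rw [← heq]
      refine lt_of_le_of_ne hle ?_
      intro h
      rw [h, hP''] at hQ'
      exact hqp.ne hQ'.symm
    have hQ0 := hmin Q' hQ'prime hQlt
    have hq0 : q = ⊥ := by
      rw [← hQ', hQ0]
      exact hker
    rw [hq0, Ideal.height_bot]
    exact zero_lt_one
  · rw [Order.one_le_iff_pos, pos_iff_ne_zero]
    intro h
    exact hp0 (Ideal.height_eq_zero_iff_eq_bot.mp h)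

include hinj in
/-- (b) -/
theorem mem_integralClosure_iff_forall (x : K) :
    x ∈ integralClosure A K ↔
      ∀ (p : Ideal C) [p.IsPrime], p.height = 1 →
        ∃ s : C, s ∉ p ∧ IsIntegral C ((s : K) * x) := by
  constructor
  · intro hx p hp _
    refine ⟨1, (Ideal.ne_top_iff_one p).mp hp.ne_top, ?_⟩
    rw [OneMemClass.coe_one, one_mul]
    exact IsIntegral.tower_top hx
  · intro h
    by_contra hx
    obtain ⟨p', hp', hp'0, hmin, hmiss⟩ := exists_prime_integralClosure A K x hx
    haveI := hp'
    have hht := height_comap_eq_one A K C hint hinj p' hp'0 hmin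
    obtain ⟨s, hs, hsint⟩ := h (p'.comap (Subalgebra.inclusion hint).toRingHom) hht
    haveI : Algebra.IsIntegral A C := Algebra.IsIntegral.of_finite A C
    have h1 : (s : K) * x ∈ integralClosure A K := isIntegral_trans _ hsint
    exact hmiss (Subalgebra.inclusion hint s) hs h1

end Main

end Groth.Agent.Lib.MoriNagataH3
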