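import Mathlib
import Groth.Agent.Lib.MoriNagata4_helper3

/-!
# Mori–Nagata in EGA form: the discrete valuation rings `V_p` (helper3)
APPEND-ONLY once landed.
-/

set_option autoImplicit false
universe u

namespace Groth.Agent.Lib.MoriNagataH3

open IsLocalRing

section Main

variable (A : Type u) [CommRing A] [IsDomain A] [IsNoetherianRing A] [IsLocalRing A]
  (K : Type u) [Field K] [Algebra A K] [IsFractionRing A K]
  (C : Subalgebra A K) [Module.Finite A C]
  (hint : C ≤ integralClosure A K)
  (hinj : Function.Injective (PrimeSpectrum.comap (Subalgebra.inclusion hint).toRingHom))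
  (hfrac : ∀ x : K, ∃ a b : C, (b : K) ≠ 0 ∧ x * b = a)

include hinj hfrac in
/-- (a) -/
theorem exists_dvr (p : Ideal C) [hpp : p.IsPrime] (hp : p.height = 1) :
    ∃ V : ValuationSubring K, IsDiscreteValuationRing V ∧
      ∀ x : K, x ∈ V ↔ ∃ s : C, s ∉ p ∧ IsIntegral C ((s : K) * x) := by
  haveI : IsNoetherianRing C := IsNoetherianRing.of_finite A C
  haveI : Algebra.IsIntegral A C := Algebra.IsIntegral.of_finite A C
  haveI : IsFractionRing C K := IsFractionRing.of_field (R := C) (K := K) (fun z => by
    obtain ⟨a, b, hb, h⟩ := hfrac z
    exact ⟨a, b, by rw [eq_div_iff (show algebraMap C K b ≠ 0 from hb)]; exact h⟩)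
  have hunits : ∀ y : p.primeCompl, IsUnit (algebraMap C K y) := fun y => by
    refine IsUnit.mk0 _ ?_
    intro h0
    apply y.2
    have : (y : C) = 0 := Subtype.ext h0
    rw [this]
    exact p.zero_mem
  letI : Algebra (Localization.AtPrime p) K :=
    (IsLocalization.lift (M := p.primeCompl) (g := algebraMap C K) hunits).toAlgebra
  haveI : IsScalarTower C (Localization.AtPrime p) K :=
    IsScalarTower.of_algebraMap_eq fun c => (IsLocalization.lift_eq hunits c).symm
  haveI : IsFractionRing (Localization.AtPrime p) K :=
    IsFractionRing.isFractionRing_of_isDomain_of_isLocalization p.primeCompl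
      (Localization.AtPrime p) K
  haveI : IsNoetherianRing (Localization.AtPrime p) :=
    IsLocalization.isNoetherianRing p.primeCompl _ inferInstance
  have hdim : ringKrullDim (Localization.AtPrime p) = 1 := by
    rw [IsLocalization.AtPrime.ringKrullDim_eq_height p (Localization.AtPrime p), hp]
    rfl
  haveI hDed : IsDedekindDomain (integralClosure (Localization.AtPrime p) K) :=
    Groth.Agent.Lib.GlueDimOne.isDedekindDomain_integralClosure (Localization.AtPrime p) K hdim
  haveI : IsFractionRing (integralClosure (Localization.AtPrime p) K) K :=
    integralClosure.isFractionRing_of_finite_extension K K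
  -- membership characterisation
  have hchar : ∀ x : K, x ∈ integralClosure (Localization.AtPrime p) K ↔
      ∃ s : C, s ∉ p ∧ IsIntegral C ((s : K) * x) := by
    intro x
    constructor
    · intro hx
      obtain ⟨m, hm⟩ := IsIntegral.exists_multiple_integral_of_isLocalization p.primeCompl
        (Rₘ := Localization.AtPrime p) x hx
      exact ⟨m.1, m.2, hm⟩
    · rintro ⟨s, hs, hsx⟩
      have h1 : IsIntegral (Localization.AtPrime p) ((s : K) * x) := IsIntegral.tower_top hsx
      obtain ⟨u, hu⟩ := IsLocalization.map_units (Localization.AtPrime p) (⟨s, hs⟩ : p.primeCompl)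
      have h2 : algebraMap (Localization.AtPrime p) K (u : Localization.AtPrime p) = (s : K) := by
        rw [hu, ← IsScalarTower.algebraMap_apply C (Localization.AtPrime p) K]
        rfl
      have h3 : x = algebraMap (Localization.AtPrime p) K ((u⁻¹ : (Localization.AtPrime p)ˣ) :
          Localization.AtPrime p) * ((s : K) * x) := by
        rw [← h2, ← mul_assoc, ← map_mul, Units.inv_mul, map_one, one_mul]
      rw [h3]
      exact IsIntegral.mul isIntegral_algebraMap h1
  -- the element of `T` attached to `s : C`
  have hmemC : ∀ s : C, (s : K) ∈ integralClosure (Localization.AtPrime p) K := fun s => by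
    rw [hchar]
    exact ⟨1, (Ideal.ne_top_iff_one p).mp hpp.ne_top, by
      rw [OneMemClass.coe_one, one_mul]
      exact isIntegral_algebraMap (R := C) (A := K) (x := s)⟩
  have hcoe : ∀ s : C, ((algebraMap (Localization.AtPrime p)
      (integralClosure (Localization.AtPrime p) K) (algebraMap C (Localization.AtPrime p) s) :
        integralClosure (Localization.AtPrime p) K) : K) = (s : K) := fun s => by
    change algebraMap (Localization.AtPrime p) K (algebraMap C (Localization.AtPrime p) s) = _
    rw [← IsScalarTower.algebraMap_apply C (Localization.AtPrime p) K]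
    rfl
  -- maximal ideals of `T` contract to `p`
  have hcontract : ∀ (M : Ideal (integralClosure (Localization.AtPrime p) K)) [M.IsMaximal]
      (s : C), (⟨(s : K), hmemC s⟩ : integralClosure (Localization.AtPrime p) K) ∈ M ↔ s ∈ p := by
    intro M hM s
    have h1 : (M.comap (algebraMap (Localization.AtPrime p)
        (integralClosure (Localization.AtPrime p) K))).IsMaximal :=
      Ideal.isMaximal_comap_of_isIntegral_of_isMaximal (R := Localization.AtPrime p)
        (S := integralClosure (Localization.AtPrime p) K) M
    have h2 := IsLocalRing.eq_maximalIdeal h1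
    have h3 : (⟨(s : K), hmemC s⟩ : integralClosure (Localization.AtPrime p) K) =
        algebraMap (Localization.AtPrime p) (integralClosure (Localization.AtPrime p) K)
          (algebraMap C (Localization.AtPrime p) s) := Subtype.ext (hcoe s).symm
    rw [h3, ← Ideal.mem_comap, h2]
    exact IsLocalization.AtPrime.to_map_mem_maximal_iff (Localization.AtPrime p) p s
  -- the map `A' → T`
  have hST : ∀ t : integralClosure A K, (t : K) ∈ integralClosure (Localization.AtPrime p) K :=
    fun t => by
      have h1 : IsIntegral C (t : K) := IsIntegral.tower_top t.2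
      exact IsIntegral.tower_top h1
  let j : integralClosure A K →+* integralClosure (Localization.AtPrime p) K :=
    RingHom.codRestrict (integralClosure A K).val.toRingHom
      (integralClosure (Localization.AtPrime p) K) hST
  have hj : ∀ t : integralClosure A K, ((j t : integralClosure (Localization.AtPrime p) K) : K) =
      (t : K) := fun _ => rfl
  -- uniqueness of the maximal ideal
  have hle : ∀ (M₁ M₂ : Ideal (integralClosure (Localization.AtPrime p) K)) [M₁.IsMaximal]
      [M₂.IsMaximal], M₁ ≤ M₂ := by
    intro M₁ M₂ hM₁ hM₂
    have hcomap : ∀ (M : Ideal (integralClosure (Localization.AtPrime p) K)) [M.IsMaximal],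
        (M.comap j).comap (Subalgebra.inclusion hint).toRingHom = p := by
      intro M hM
      ext s
      rw [Ideal.mem_comap, Ideal.mem_comap, ← hcontract M s]
      have : j ((Subalgebra.inclusion hint).toRingHom s) =
          (⟨(s : K), hmemC s⟩ : integralClosure (Localization.AtPrime p) K) := Subtype.ext rfl
      rw [this]
    have hP : M₁.comap j = M₂.comap j := by
      have := hinj (a₁ := ⟨M₁.comap j, Ideal.comap_isPrime _ _⟩)
        (a₂ := ⟨M₂.comap j, Ideal.comap_isPrime _ _⟩)
        (PrimeSpectrum.ext (by
          change (M₁.comap j).comap (Subalgebra.inclusion hint).toRingHom =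
            (M₂.comap j).comap (Subalgebra.inclusion hint).toRingHom
          rw [hcomap M₁, hcomap M₂]))
      exact congrArg PrimeSpectrum.asIdeal this
    intro e he
    obtain ⟨s, hs, hse⟩ := (hchar (e : K)).mp e.2
    have hse' : (s : K) * (e : K) ∈ integralClosure A K := isIntegral_trans _ hse
    have h1 : j ⟨(s : K) * (e : K), hse'⟩ =
        (⟨(s : K), hmemC s⟩ : integralClosure (Localization.AtPrime p) K) * e := Subtype.ext rfl
    have h2 : (⟨(s : K) * (e : K), hse'⟩ : integralClosure A K) ∈ M₁.comap j := by
      rw [Ideal.mem_comap, h1]
      exact Ideal.mul_mem_left _ _ he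
    rw [hP, Ideal.mem_comap, h1] at h2
    rcases hM₂.isPrime.mem_or_mem h2 with h3 | h3
    · exact absurd ((hcontract M₂ s).mp h3) hs
    · exact h3
  haveI hloc : IsLocalRing (integralClosure (Localization.AtPrime p) K) := by
    obtain ⟨M, hM⟩ := Ideal.exists_maximal (integralClosure (Localization.AtPrime p) K)
    refine IsLocalRing.of_unique_max_ideal ⟨M, hM, fun M' hM' => ?_⟩
    haveI := hM
    haveI : M'.IsMaximal := hM'
    exact le_antisymm (hle M' M) (hle M M')
  have hnf : ¬ IsField (integralClosure (Localization.AtPrime p) K) := by
    intro hf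
    have hinjB : Function.Injective (algebraMap (Localization.AtPrime p)
        (integralClosure (Localization.AtPrime p) K)) := by
      intro a a' h
      apply IsFractionRing.injective (Localization.AtPrime p) K
      exact congrArg (fun t : integralClosure (Localization.AtPrime p) K => (t : K)) h
    have hfB : IsField (Localization.AtPrime p) :=
      isField_of_isIntegral_of_isField (R := Localization.AtPrime p)
        (S := integralClosure (Localization.AtPrime p) K) hinjB hf
    rw [ringKrullDim_eq_zero_of_isField hfB] at hdim
    exact zero_ne_one hdim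
  haveI hDVR : IsDiscreteValuationRing (integralClosure (Localization.AtPrime p) K) :=
    ((IsDiscreteValuationRing.TFAE _ hnf).out 0 2).mpr hDed
  let V : ValuationSubring K :=
    { (integralClosure (Localization.AtPrime p) K).toSubring with
      mem_or_inv_mem' := fun x => by
        rcases ValuationRing.isInteger_or_isInteger
          (integralClosure (Localization.AtPrime p) K) x with ⟨t, ht⟩ | ⟨t, ht⟩
        · left
          rw [← ht]
          exact t.2
        · right
          rw [← ht]
          exact t.2 }
  have hV : ∀ x : K, x ∈ V ↔ x ∈ integralClosure (Localization.AtPrime p) K := fun _ => Iff.rfl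
  let e : integralClosure (Localization.AtPrime p) K ≃+* V :=
    { toFun := fun t => ⟨t.1, (hV _).mpr t.2⟩
      invFun := fun v => ⟨v.1, (hV _).mp v.2⟩
      left_inv := fun _ => rfl
      right_inv := fun _ => rfl
      map_mul' := fun _ _ => rfl
      map_add' := fun _ _ => rfl }
  refine ⟨V, IsDiscreteValuationRing.RingEquivClass.isDiscreteValuationRing e, fun x => ?_⟩
  rw [hV, hchar]

end Main

end Groth.Agent.Lib.MoriNagataH3
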