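import Mathlib
import Groth.Prelude.Def_Found

/-!
# Stabilisation of `(C ⊗_A B)_red` over finite subalgebras `C` of a finite field extension
(EGA IV 7.6.x) (helper3)
APPEND-ONLY once landed.
-/

set_option autoImplicit false
universe u

namespace Groth.Agent.Lib.RedStabH3

open TensorProduct

section GoingDown

variable {S B : Type*} [CommRing S] [CommRing B] [Algebra S B] [Module.Flat S B]

theorem comap_mem_minimalPrimes_of_flat (P : Ideal B) (hP : P ∈ minimalPrimes B) :
    P.comap (algebraMap S B) ∈ minimalPrimes S := by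
  haveI hPp : P.IsPrime := hP.1.1
  refine ⟨⟨Ideal.comap_isPrime _ P, bot_le⟩, ?_⟩
  rintro Q ⟨hQ, -⟩ hQle
  haveI := hQ
  haveI : P.LiesOver (Ideal.comap (algebraMap S B) P) := ⟨rfl⟩
  obtain ⟨Q', hQ'le, hQ'p, hQ'o⟩ := Ideal.exists_ideal_le_liesOver_of_le (p := Q)
    (q := Ideal.comap (algebraMap S B) P) P hQle
  have h1 : P ≤ Q' := hP.2 ⟨hQ'p, bot_le⟩ hQ'le
  have h2 : Q' = P := le_antisymm hQ'le h1
  rw [hQ'o.over, h2]

end GoingDown

section H

variable {A K' D B₁ F L : Type*} [CommRing A] [Field K'] [Algebra A K'] [CommRing D] [IsDomain D]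
  [CommRing B₁] [Algebra A B₁] [Algebra A D] [Algebra B₁ D] [IsScalarTower A B₁ D]
  [Field F] [Field L] [Algebra B₁ F] [Algebra D L] [IsFractionRing D L] [Algebra F L]
  [Algebra B₁ L] [IsScalarTower B₁ F L] [IsScalarTower B₁ D L]

/-- If `D` is generated over `B₁` by the image of a field `K'` which is the fraction field of a
finite `A`-subalgebra, then `Frac D` is finite over `Frac B₁`. -/
theorem finiteDimensional_of_gen (g : K' →ₐ[A] D) (C₀ : Subalgebra A K') [Module.Finite A C₀]
    (hfrac : ∀ x : K', ∃ a b : C₀, (b : K') ≠ 0 ∧ x * b = a)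
    (hgen : Algebra.adjoin B₁ (Set.range g) = ⊤) : FiniteDimensional F L := by
  classical
  obtain ⟨t, ht⟩ := (Module.Finite.fg_top : (⊤ : Submodule A C₀).FG)
  obtain ⟨ι, hι⟩ : ∃ ι : K' →+* L, ι = (algebraMap D L).comp g.toRingHom := ⟨_, rfl⟩
  have hι_apply : ∀ x, ι x = algebraMap D L (g x) := fun x => by rw [hι]; rfl
  have hι_inj : Function.Injective ι := ι.injective
  obtain ⟨S, hS⟩ : ∃ S : Set L, S = (fun c : C₀ => ι (c : K')) '' (t : Set C₀) := ⟨_, rfl⟩
  have hSfin : S.Finite := by rw [hS]; exact (Finset.finite_toSet t).image _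
  haveI : Finite S := hSfin.to_subtype
  have hint : ∀ c : C₀, IsIntegral F (ι (c : K')) := by
    intro c
    have h1 : IsIntegral A c := Algebra.IsIntegral.isIntegral c
    have h2 : IsIntegral A (c : K') := h1.map C₀.val
    have h3 : IsIntegral A (g (c : K')) := h2.map g
    have h4 : IsIntegral B₁ (g (c : K')) := h3.tower_top
    have h5 : IsIntegral B₁ (algebraMap D L (g (c : K'))) := h4.algebraMap
    rw [hι_apply]
    exact h5.tower_top
  obtain ⟨E, hE⟩ : ∃ E : IntermediateField F L, E = IntermediateField.adjoin F S := ⟨_, rfl⟩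
  have hEfin : FiniteDimensional F E := by
    rw [hE]
    exact IntermediateField.finiteDimensional_adjoin (by
      intro x hx
      rw [hS] at hx
      obtain ⟨c, -, rfl⟩ := hx
      exact hint c)
  have hB : ∀ b : B₁, algebraMap D L (algebraMap B₁ D b) ∈ E := by
    intro b
    rw [← IsScalarTower.algebraMap_apply B₁ D L, IsScalarTower.algebraMap_apply B₁ F L]
    exact E.algebraMap_mem _
  have hA : ∀ a : A, algebraMap D L (algebraMap A D a) ∈ E := by
    intro a
    rw [IsScalarTower.algebraMap_apply A B₁ D]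
    exact hB _
  have hC : ∀ c : C₀, ι (c : K') ∈ E := by
    intro c
    have hc : c ∈ Submodule.span A (t : Set C₀) := by rw [ht]; trivial
    induction hc using Submodule.span_induction with
    | mem x hx =>
      rw [hE]
      exact IntermediateField.subset_adjoin F S (by rw [hS]; exact ⟨x, hx, rfl⟩)
    | zero =>
      have : ι ((0 : C₀) : K') = 0 := by simp
      rw [this]; exact E.zero_mem
    | add x y _ _ hx hy =>
      have : ι ((x + y : C₀) : K') = ι (x : K') + ι (y : K') := by simp
      rw [this]; exact E.add_mem hx hy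
    | smul a x _ hx =>
      have : ι ((a • x : C₀) : K') = algebraMap D L (algebraMap A D a) * ι (x : K') := by
        rw [hι_apply, hι_apply, ← map_mul, ← g.commutes, ← map_mul]
        congr 2
        rw [Subalgebra.coe_smul, Algebra.smul_def]
      rw [this]; exact E.mul_mem (hA a) hx
  have hK' : ∀ x : K', ι x ∈ E := by
    intro x
    obtain ⟨a, b, hb, hab⟩ := hfrac x
    have hb' : ι (b : K') ≠ 0 := (map_ne_zero_iff ι hι_inj).mpr hb
    have : ι x = ι (a : K') / ι (b : K') := by
      rw [eq_div_iff hb', ← map_mul, hab]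
    rw [this]; exact E.div_mem (hC a) (hC b)
  have hD : ∀ d : D, algebraMap D L d ∈ E := by
    intro d
    have hd : d ∈ Algebra.adjoin B₁ (Set.range g) := by rw [hgen]; trivial
    induction hd using Algebra.adjoin_induction with
    | mem x hx =>
      obtain ⟨y, rfl⟩ := hx
      rw [← hι_apply]; exact hK' y
    | algebraMap r => exact hB r
    | add x y _ _ hx hy => rw [map_add]; exact E.add_mem hx hy
    | mul x y _ _ hx hy => rw [map_mul]; exact E.mul_mem hx hy
  have htop : E = ⊤ := by
    rw [eq_top_iff]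
    intro l _
    obtain ⟨d, s, -, rfl⟩ := IsFractionRing.div_surjective (A := D) l
    exact E.div_mem (hD d) (hD s)
  rw [htop] at hEfin
  exact Module.Finite.equiv (IntermediateField.topEquiv (F := F) (E := L)).toLinearEquiv

end H

section G

variable {A B K' T : Type u} [CommRing A] [CommRing B] [Algebra A B] [IsNoetherianRing B]
  [Field K'] [Algebra A K'] [CommRing T] [Algebra A T] [Algebra B T] [IsScalarTower A B T]

/-- For a prime `P'` of a `B`-algebra `T` generated by the image of a field `K'` finite over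
`Frac A`: if `B ⧸ (P' ∩ B)` is N-2 then the integral closure of `B` in `T ⧸ P'` is a Noetherian
`B`-module. -/
theorem isNoetherian_integralClosure_quotient (g : K' →ₐ[A] T)
    (hgen : Algebra.adjoin B (Set.range g) = ⊤)
    (C₀ : Subalgebra A K') [Module.Finite A C₀]
    (hfrac : ∀ x : K', ∃ a b : C₀, (b : K') ≠ 0 ∧ x * b = a)
    (P' : Ideal T) [P'.IsPrime] (hN2 : CAlg.IsN2 (B ⧸ P'.under B)) :
    IsNoetherian B (integralClosure B (T ⧸ P')) := by
  haveI : P'.LiesOver (P'.under B) := ⟨rfl⟩
  haveI hinjBD : FaithfulSMul (B ⧸ P'.under B) (T ⧸ P') := inferInstance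
  haveI : FaithfulSMul (B ⧸ P'.under B) (FractionRing (T ⧸ P')) := by
    rw [faithfulSMul_iff_algebraMap_injective,
      IsScalarTower.algebraMap_eq (B ⧸ P'.under B) (T ⧸ P') (FractionRing (T ⧸ P'))]
    exact (IsFractionRing.injective (T ⧸ P') (FractionRing (T ⧸ P'))).comp
      (FaithfulSMul.algebraMap_injective (B ⧸ P'.under B) (T ⧸ P'))
  letI := FractionRing.liftAlgebra (B ⧸ P'.under B) (FractionRing (T ⧸ P'))
  -- generation of the quotient
  have hgen' : Algebra.adjoin (B ⧸ P'.under B)
      (Set.range ((Ideal.Quotient.mkₐ A P').comp g)) = ⊤ := by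
    rw [eq_top_iff]
    rintro d -
    obtain ⟨t, rfl⟩ := Ideal.Quotient.mk_surjective d
    have ht : t ∈ Algebra.adjoin B (Set.range g) := by rw [hgen]; trivial
    induction ht using Algebra.adjoin_induction with
    | mem x hx =>
      obtain ⟨y, rfl⟩ := hx
      exact Algebra.subset_adjoin ⟨y, rfl⟩
    | algebraMap r =>
      have : Ideal.Quotient.mk P' (algebraMap B T r) =
          algebraMap (B ⧸ P'.under B) (T ⧸ P') (Ideal.Quotient.mk _ r) := rfl
      rw [this]
      exact Subalgebra.algebraMap_mem _ _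
    | add x y _ _ hx hy => rw [map_add]; exact Subalgebra.add_mem _ hx hy
    | mul x y _ _ hx hy => rw [map_mul]; exact Subalgebra.mul_mem _ hx hy
  have hfinF : FiniteDimensional (FractionRing (B ⧸ P'.under B)) (FractionRing (T ⧸ P')) :=
    finiteDimensional_of_gen (A := A) (B₁ := B ⧸ P'.under B) (D := T ⧸ P')
      ((Ideal.Quotient.mkₐ A P').comp g) C₀ hfrac hgen'
  have hfin1 : Module.Finite (B ⧸ P'.under B)
      (integralClosure (B ⧸ P'.under B) (FractionRing (T ⧸ P'))) :=
    hN2 (FractionRing (T ⧸ P')) hfinF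
  haveI : IsNoetherian (B ⧸ P'.under B)
      (integralClosure (B ⧸ P'.under B) (FractionRing (T ⧸ P'))) :=
    isNoetherian_of_isNoetherianRing_of_finite _ _
  -- the integral closure of `B₁` in `D` embeds
  let ψ : integralClosure (B ⧸ P'.under B) (T ⧸ P') →ₗ[B ⧸ P'.under B]
      integralClosure (B ⧸ P'.under B) (FractionRing (T ⧸ P')) :=
    { toFun := fun x => ⟨algebraMap (T ⧸ P') (FractionRing (T ⧸ P')) x.1, x.2.algebraMap⟩
      map_add' := fun x y => by ext; simp
      map_smul' := fun r x => by
        ext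
        simp [Algebra.smul_def, ← IsScalarTower.algebraMap_apply] }
  have hψ : Function.Injective ψ := by
    intro x y hxy
    have h1 := congrArg Subtype.val hxy
    exact Subtype.ext (IsFractionRing.injective (T ⧸ P') (FractionRing (T ⧸ P')) h1)
  haveI hN1 : IsNoetherian (B ⧸ P'.under B) (integralClosure (B ⧸ P'.under B) (T ⧸ P')) :=
    isNoetherian_of_injective ψ hψ
  haveI : Module.Finite (B ⧸ P'.under B) (integralClosure (B ⧸ P'.under B) (T ⧸ P')) :=
    Module.IsNoetherian.finite _ _
  haveI : Module.Finite B (B ⧸ P'.under B) :=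
    Module.Finite.of_surjective (Algebra.linearMap B (B ⧸ P'.under B)) Ideal.Quotient.mk_surjective
  haveI : Module.Finite B (integralClosure (B ⧸ P'.under B) (T ⧸ P')) :=
    Module.Finite.trans (B ⧸ P'.under B) _
  haveI : IsNoetherian B (integralClosure (B ⧸ P'.under B) (T ⧸ P')) :=
    isNoetherian_of_isNoetherianRing_of_finite _ _
  let φ : integralClosure B (T ⧸ P') →ₗ[B] integralClosure (B ⧸ P'.under B) (T ⧸ P') :=
    { toFun := fun x => ⟨x.1, x.2.tower_top⟩
      map_add' := fun x y => rfl
      map_smul' := fun r x => rfl }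
  refine isNoetherian_of_injective φ (fun x y hxy => ?_)
  have h1 : ((φ x : integralClosure (B ⧸ P'.under B) (T ⧸ P')) : T ⧸ P') = (φ y : T ⧸ P') :=
    congrArg _ hxy
  exact Subtype.ext h1

end G

section Main

variable {A B K' : Type u} [CommRing A] [IsDomain A] [Field K'] [Algebra A K']
  [Algebra (FractionRing A) K'] [IsScalarTower A (FractionRing A) K']
  [FiniteDimensional (FractionRing A) K']

/-- The family of finite subalgebras of `K'` with fraction field `K'`. -/
def PP (C : Subalgebra A K') : Prop :=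
  Module.Finite A C ∧ ∀ x : K', ∃ a b : C, (b : K') ≠ 0 ∧ x * b = a

theorem PP_mono {C C' : Subalgebra A K'} (h : PP C) (hle : C ≤ C') (hfin : Module.Finite A C') :
    PP C' :=
  ⟨hfin, fun x => by
    obtain ⟨a, b, hb, hab⟩ := h.2 x
    exact ⟨Subalgebra.inclusion hle a, Subalgebra.inclusion hle b, hb, hab⟩⟩

theorem algebraMap_injective' : Function.Injective (algebraMap A K') := by
  rw [IsScalarTower.algebraMap_eq A (FractionRing A) K']
  exact (algebraMap (FractionRing A) K').injective.comp (IsFractionRing.injective A (FractionRing A))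

theorem exists_PP : ∃ C₀ : Subalgebra A K', PP C₀ := by
  classical
  haveI : Algebra.IsAlgebraic (FractionRing A) K' := Algebra.IsAlgebraic.of_finite _ _
  haveI : Algebra.IsAlgebraic A K' :=
    (IsFractionRing.comap_isAlgebraic_iff (A := A) (K := FractionRing A) (C := K')).mpr
      inferInstance
  obtain ⟨s, hs⟩ := (Module.Finite.fg_top : (⊤ : Submodule (FractionRing A) K').FG)
  obtain ⟨y, hy0, hy⟩ := Algebra.IsAlgebraic.exists_integral_multiples A s
  have hinj : Function.Injective (algebraMap A K') := algebraMap_injective'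
  obtain ⟨S, hS⟩ : ∃ S : Set K', S = (fun z => y • z) '' (s : Set K') := ⟨_, rfl⟩
  have hSfin : S.Finite := by rw [hS]; exact (Finset.finite_toSet s).image _
  have hSint : ∀ x ∈ S, IsIntegral A x := by
    intro x hx
    rw [hS] at hx
    obtain ⟨z, hz, rfl⟩ := hx
    exact hy z hz
  refine ⟨Algebra.adjoin A S, Algebra.finite_adjoin_of_finite_of_isIntegral hSfin hSint, ?_⟩
  let Q : Submodule (FractionRing A) K' :=
    { carrier := {x | ∃ a b : Algebra.adjoin A S, (b : K') ≠ 0 ∧ x * b = a}
      zero_mem' := ⟨0, 1, by simp, by simp⟩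
      add_mem' := by
        rintro x x' ⟨a, b, hb, hab⟩ ⟨a', b', hb', hab'⟩
        refine ⟨a * b' + a' * b, b * b', by simpa using mul_ne_zero hb hb', ?_⟩
        push_cast
        rw [← hab, ← hab']; ring
      smul_mem' := by
        rintro k x ⟨a, b, hb, hab⟩
        obtain ⟨n, d, hd, rfl⟩ := IsFractionRing.div_surjective (A := A) k
        have hd0 : algebraMap A K' d ≠ 0 := fun h =>
          nonZeroDivisors.ne_zero hd (hinj (by rw [h, map_zero]))
        have hd1 : algebraMap A (FractionRing A) d ≠ 0 := fun h =>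
          nonZeroDivisors.ne_zero hd (IsFractionRing.injective A (FractionRing A)
            (by rw [h, map_zero]))
        refine ⟨n • a, d • b, ?_, ?_⟩
        · rw [Subalgebra.coe_smul, Algebra.smul_def]; exact mul_ne_zero hd0 hb
        · rw [Subalgebra.coe_smul, Subalgebra.coe_smul, Algebra.smul_def, Algebra.smul_def,
            Algebra.smul_def, ← hab]
          have h1 : algebraMap (FractionRing A) K'
              (algebraMap A (FractionRing A) n / algebraMap A (FractionRing A) d) *
                algebraMap A K' d = algebraMap A K' n := by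
            rw [IsScalarTower.algebraMap_apply A (FractionRing A) K' d, ← map_mul,
              div_mul_cancel₀ _ hd1, ← IsScalarTower.algebraMap_apply]
          calc algebraMap (FractionRing A) K'
                (algebraMap A (FractionRing A) n / algebraMap A (FractionRing A) d) * x *
                  (algebraMap A K' d * b)
              = (algebraMap (FractionRing A) K'
                (algebraMap A (FractionRing A) n / algebraMap A (FractionRing A) d) *
                  algebraMap A K' d) * (x * b) := by ring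
            _ = algebraMap A K' n * (x * b) := by rw [h1] }
  have hsQ : (s : Set K') ⊆ Q := by
    intro z hz
    refine ⟨⟨y • z, Algebra.subset_adjoin (by rw [hS]; exact ⟨z, hz, rfl⟩)⟩,
      algebraMap A _ y, ?_, ?_⟩
    · intro h
      apply hy0
      apply hinj
      rw [map_zero]
      exact h
    · change z * algebraMap A K' y = y • z
      rw [Algebra.smul_def, mul_comm]
  have hQtop : Q = ⊤ := eq_top_iff.mpr (hs ▸ Submodule.span_le.mpr hsQ)
  intro x
  have : x ∈ Q := by rw [hQtop]; trivial
  exact this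

variable [CommRing B] [Algebra A B]

/-- The comparison map `B ⊗ C → B ⊗ K'`. -/
noncomputable abbrev JJ (C : Subalgebra A K') : B ⊗[A] C →ₐ[B] B ⊗[A] K' :=
  Algebra.TensorProduct.map (AlgHom.id B B) C.val

theorem JJ_injective [Module.Flat A B] (C : Subalgebra A K') :
    Function.Injective (JJ (B := B) C) := by
  have h : ⇑(JJ (B := B) C) = ⇑(LinearMap.lTensor B C.val.toLinearMap) := by
    funext x
    induction x using TensorProduct.induction_on with
    | zero => simp
    | tmul b c => simp [JJ]
    | add x y hx hy => rw [map_add, map_add, hx, hy]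
  rw [h]
  exact Module.Flat.lTensor_preserves_injective_linearMap _ Subtype.val_injective

theorem JJ_comp {C C' : Subalgebra A K'} (hle : C ≤ C') (x : B ⊗[A] C) :
    JJ (B := B) C' (Algebra.TensorProduct.map (AlgHom.id B B) (Subalgebra.inclusion hle) x) =
      JJ C x := by
  induction x using TensorProduct.induction_on with
  | zero => simp
  | tmul b c => simp [JJ]
  | add x y hx hy => rw [map_add, map_add, map_add, hx, hy]

/-- The map to the product of the integral closures of `B` in the quotients of `B ⊗ K'` by its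
minimal primes. -/
noncomputable def Psi (C : Subalgebra A K') (hC : Module.Finite A C) :
    B ⊗[A] C →ₗ[B]
      (∀ i : minimalPrimes (B ⊗[A] K'), integralClosure B ((B ⊗[A] K') ⧸ i.1)) :=
  haveI := hC
  LinearMap.pi fun i =>
    LinearMap.codRestrict (integralClosure B ((B ⊗[A] K') ⧸ i.1)).toSubmodule
      ((Ideal.Quotient.mkₐ B i.1).toLinearMap ∘ₗ (JJ C).toLinearMap)
      (fun y => (Algebra.IsIntegral.isIntegral (R := B) y).map
        ((Ideal.Quotient.mkₐ B i.1).comp (JJ C)))

theorem Psi_apply (C : Subalgebra A K') (hC : Module.Finite A C) (y : B ⊗[A] C)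
    (i : minimalPrimes (B ⊗[A] K')) :
    ((Psi (B := B) C hC y i : integralClosure B ((B ⊗[A] K') ⧸ i.1)) : (B ⊗[A] K') ⧸ i.1) =
      Ideal.Quotient.mk i.1 (JJ C y) := rfl

theorem adjoin_includeRight_eq_top :
    Algebra.adjoin B (Set.range (Algebra.TensorProduct.includeRight : K' →ₐ[A] B ⊗[A] K')) =
      ⊤ := by
  rw [eq_top_iff]
  rintro t -
  induction t using TensorProduct.induction_on with
  | zero => exact Subalgebra.zero_mem _
  | tmul b x =>
    have : b ⊗ₜ[A] x = b • (Algebra.TensorProduct.includeRight (R := A) (A := B) x) := by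
      simp [TensorProduct.smul_tmul']
    rw [this]
    exact Subalgebra.smul_mem _ (Algebra.subset_adjoin (Set.mem_range_self x)) b
  | add x y hx hy => exact Subalgebra.add_mem _ hx hy

/-- Stabilisation of `(B ⊗ C)_red`. -/
theorem stab [IsNoetherianRing B] [Module.Flat A B]
    (hJ : ∀ (q : Ideal B) [q.IsPrime], q ∈ minimalPrimes B → CAlg.IsN2 (B ⧸ q)) :
    ∃ Cα : Subalgebra A K', PP Cα ∧ ∀ C : Subalgebra A K', PP C → ∀ hle : Cα ≤ C,
      ∀ y : B ⊗[A] C, ∃ x : B ⊗[A] Cα,
        IsNilpotent
          (Algebra.TensorProduct.map (AlgHom.id B B) (Subalgebra.inclusion hle) x - y) := by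
  classical
  obtain ⟨C₀, hC₀⟩ := exists_PP (A := A) (K' := K')
  haveI := hC₀.1
  haveI : Module.Flat A K' := Module.Flat.trans A (FractionRing A) K'
  haveI : Algebra.EssFiniteType A (FractionRing A) :=
    Algebra.EssFiniteType.of_isLocalization _ (nonZeroDivisors A)
  haveI : Algebra.EssFiniteType A K' := Algebra.EssFiniteType.comp A (FractionRing A) K'
  haveI : IsNoetherianRing (B ⊗[A] K') := Algebra.EssFiniteType.isNoetherianRing B _
  haveI : Finite (minimalPrimes (B ⊗[A] K')) :=
    (minimalPrimes.finite_of_isNoetherianRing _).to_subtype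
  haveI hG : ∀ i : minimalPrimes (B ⊗[A] K'),
      IsNoetherian B (integralClosure B ((B ⊗[A] K') ⧸ i.1)) := by
    intro i
    haveI : i.1.IsPrime := i.2.1.1
    have hq : i.1.under B ∈ minimalPrimes B := comap_mem_minimalPrimes_of_flat i.1 i.2
    have hN := hJ _ hq
    exact isNoetherian_integralClosure_quotient (A := A) (B := B) (K' := K') (T := B ⊗[A] K')
      (Algebra.TensorProduct.includeRight : K' →ₐ[A] B ⊗[A] K')
      adjoin_includeRight_eq_top C₀ hC₀.2 i.1 hN
  obtain ⟨𝒮, h𝒮⟩ : ∃ 𝒮 : Set (Submodule B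
      (∀ i : minimalPrimes (B ⊗[A] K'), integralClosure B ((B ⊗[A] K') ⧸ i.1))),
      𝒮 = {M | ∃ (C : Subalgebra A K') (hC : PP C),
        M = LinearMap.range (Psi (B := B) C hC.1)} := ⟨_, rfl⟩
  have hne : 𝒮.Nonempty := ⟨_, by rw [h𝒮]; exact ⟨C₀, hC₀, rfl⟩⟩
  obtain ⟨M', hM', hmax⟩ := (set_has_maximal_iff_noetherian.mpr inferInstance) 𝒮 hne
  rw [h𝒮] at hM'
  obtain ⟨Cα, hCα, rfl⟩ := hM'
  refine ⟨Cα, hCα, fun C hC hle y => ?_⟩
  have hmono : LinearMap.range (Psi (B := B) Cα hCα.1) ≤
      LinearMap.range (Psi (B := B) C hC.1) := by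
    rintro _ ⟨x, rfl⟩
    refine ⟨Algebra.TensorProduct.map (AlgHom.id B B) (Subalgebra.inclusion hle) x, ?_⟩
    funext i
    apply Subtype.ext
    rw [Psi_apply, Psi_apply, JJ_comp]
  have heq : LinearMap.range (Psi (B := B) C hC.1) =
      LinearMap.range (Psi (B := B) Cα hCα.1) := by
    by_contra hne'
    exact hmax _ (by rw [h𝒮]; exact ⟨C, hC, rfl⟩) (lt_of_le_of_ne hmono (Ne.symm hne'))
  have hy : Psi (B := B) C hC.1 y ∈ LinearMap.range (Psi (B := B) Cα hCα.1) := by
    rw [← heq]; exact ⟨y, rfl⟩
  obtain ⟨x, hx⟩ := hy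
  refine ⟨x, ?_⟩
  rw [← IsNilpotent.map_iff (JJ_injective (B := B) C), map_sub, JJ_comp, nilpotent_iff_mem_prime]
  intro Q hQ
  obtain ⟨p, hp, hpQ⟩ := Ideal.exists_minimalPrimes_le (bot_le : (⊥ : Ideal (B ⊗[A] K')) ≤ Q)
  apply hpQ
  have h1 : Ideal.Quotient.mk p (JJ (B := B) Cα x) = Ideal.Quotient.mk p (JJ (B := B) C y) := by
    have h2 := congrArg (fun f => ((f ⟨p, hp⟩ :
      integralClosure B ((B ⊗[A] K') ⧸ p)) : (B ⊗[A] K') ⧸ p)) hx
    exact h2
  exact Ideal.Quotient.eq.mp h1

end Main

end Groth.Agent.Lib.RedStabH3
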