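import Mathlib
import Groth.Prelude.Def_Found
import Groth.Agent.Lib.RedStab_helper3

/-!
# Stabilisation of `(C ⊗_A B)_red`: radicial part and the statement form (helper3)
APPEND-ONLY once landed.
-/

set_option autoImplicit false
universe u

namespace Groth.Agent.Lib.RedStabH3

open TensorProduct CategoryTheory AlgebraicGeometry

/-- Universal injectivity of `Spec.map φ` from uniqueness of extensions of field-valued points. -/
theorem universallyInjective_SpecMap_of' {R S : CommRingCat.{u}} (φ : R ⟶ S)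
    (huniq : ∀ (K : Type u) [Field K] (ψ₁ ψ₂ : S →+* K),
      ψ₁.comp φ.hom = ψ₂.comp φ.hom → ψ₁ = ψ₂) :
    UniversallyInjective (Spec.map φ) := by
  refine ((tfae_universallyInjective (Spec.map φ)).out 0 1).mpr ?_
  intro K _ g₁ g₂ hg
  dsimp only at hg
  obtain ⟨ψ₁, rfl⟩ : ∃ ψ, g₁ = Spec.map ψ := ⟨Spec.preimage g₁, (Spec.map_preimage g₁).symm⟩
  obtain ⟨ψ₂, rfl⟩ : ∃ ψ, g₂ = Spec.map ψ := ⟨Spec.preimage g₂, (Spec.map_preimage g₂).symm⟩
  rw [← Spec.map_comp, ← Spec.map_comp] at hg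
  have h1 := Spec.map_injective hg
  have h2 : ψ₁.hom = ψ₂.hom := huniq K ψ₁.hom ψ₂.hom (by
    have := congrArg CommRingCat.Hom.hom h1
    simpa using this)
  rw [CommRingCat.hom_ext h2]

section Main

variable {A B K' : Type u} [CommRing A] [IsDomain A] [Field K'] [Algebra A K']
  [Algebra (FractionRing A) K'] [IsScalarTower A (FractionRing A) K']
  [FiniteDimensional (FractionRing A) K'] [CommRing B] [Algebra A B]

/-- Field-valued points of the integral closure agreeing on `Cα` are equal. -/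
theorem eq_of_agree [Module.FaithfullyFlat A B] (Cα : Subalgebra A K') (hCα : PP Cα)
    (hstab : ∀ C : Subalgebra A K', PP C → ∀ hle : Cα ≤ C,
      ∀ y : B ⊗[A] C, ∃ x : B ⊗[A] Cα,
        IsNilpotent
          (Algebra.TensorProduct.map (AlgHom.id B B) (Subalgebra.inclusion hle) x - y))
    (hint : Cα ≤ integralClosure A K') (L : Type u) [Field L]
    (ψ₁ ψ₂ : integralClosure A K' →+* L)
    (h : ψ₁.comp (Subalgebra.inclusion hint).toRingHom =
      ψ₂.comp (Subalgebra.inclusion hint).toRingHom) : ψ₁ = ψ₂ := by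
  refine RingHom.ext fun ⟨x, hx⟩ => ?_
  haveI := hCα.1
  haveI : Module.Finite A (Algebra.adjoin A {x}) := Algebra.finite_adjoin_simple_of_isIntegral hx
  haveI hCfin : Module.Finite A ↥(Cα ⊔ Algebra.adjoin A {x}) := Subalgebra.finite_sup _ _
  obtain ⟨C, hCdef⟩ : ∃ C : Subalgebra A K', C = Cα ⊔ Algebra.adjoin A {x} := ⟨_, rfl⟩
  have hle : Cα ≤ C := by rw [hCdef]; exact le_sup_left
  have hxC : x ∈ C := by
    rw [hCdef]; exact (le_sup_right : Algebra.adjoin A {x} ≤ _) (Algebra.subset_adjoin rfl)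
  have hC : PP C := PP_mono hCα hle (by rw [hCdef]; exact hCfin)
  have hCint : C ≤ integralClosure A K' := by
    rw [hCdef]
    refine sup_le hint (Algebra.adjoin_le ?_)
    rintro _ rfl
    exact hx
  letI : Algebra A L := (ψ₁.comp (algebraMap A (integralClosure A K'))).toAlgebra
  have h12 : ∀ c : Cα, ψ₁ (Subalgebra.inclusion hint c) = ψ₂ (Subalgebra.inclusion hint c) :=
    fun c => congrArg (fun f => f c) h
  let φ₁ : C →ₐ[A] L :=
    { toRingHom := ψ₁.comp (Subalgebra.inclusion hCint).toRingHom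
      commutes' := fun a => rfl }
  let φ₂ : C →ₐ[A] L :=
    { toRingHom := ψ₂.comp (Subalgebra.inclusion hCint).toRingHom
      commutes' := fun a => (h12 (algebraMap A Cα a)).symm }
  have hφ₁ : ∀ c : C, φ₁ c = ψ₁ (Subalgebra.inclusion hCint c) := fun c => rfl
  have hφ₂ : ∀ c : C, φ₂ c = ψ₂ (Subalgebra.inclusion hCint c) := fun c => rfl
  have hφ12 : ∀ c : Cα, φ₁ (Subalgebra.inclusion hle c) = φ₂ (Subalgebra.inclusion hle c) :=
    fun c => h12 c
  have key : ∀ w : B ⊗[A] Cα,
      Algebra.TensorProduct.map (AlgHom.id B B) φ₁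
        (Algebra.TensorProduct.map (AlgHom.id B B) (Subalgebra.inclusion hle) w) =
      Algebra.TensorProduct.map (AlgHom.id B B) φ₂
        (Algebra.TensorProduct.map (AlgHom.id B B) (Subalgebra.inclusion hle) w) := by
    intro w
    induction w using TensorProduct.induction_on with
    | zero => simp
    | tmul b c =>
      simp only [Algebra.TensorProduct.map_tmul, AlgHom.coe_id, id_eq]
      rw [hφ12]
    | add x y hx hy => rw [map_add, map_add, map_add, hx, hy]
  obtain ⟨w, hw⟩ := hstab C hC hle ((1 : B) ⊗ₜ[A] (⟨x, hxC⟩ : C))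
  have hn1 := hw.map (Algebra.TensorProduct.map (AlgHom.id B B) φ₁)
  have hn2 := hw.map (Algebra.TensorProduct.map (AlgHom.id B B) φ₂)
  rw [map_sub] at hn1 hn2
  rw [key w] at hn1
  have hn3 := Commute.isNilpotent_sub (Commute.all _ _) hn2 hn1
  have hcalc : (Algebra.TensorProduct.map (AlgHom.id B B) φ₂
        (Algebra.TensorProduct.map (AlgHom.id B B) (Subalgebra.inclusion hle) w) -
      Algebra.TensorProduct.map (AlgHom.id B B) φ₂ ((1 : B) ⊗ₜ[A] (⟨x, hxC⟩ : C))) -
      (Algebra.TensorProduct.map (AlgHom.id B B) φ₂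
        (Algebra.TensorProduct.map (AlgHom.id B B) (Subalgebra.inclusion hle) w) -
      Algebra.TensorProduct.map (AlgHom.id B B) φ₁ ((1 : B) ⊗ₜ[A] (⟨x, hxC⟩ : C))) =
      (1 : B) ⊗ₜ[A] (ψ₁ ⟨x, hx⟩ - ψ₂ ⟨x, hx⟩) := by
    simp only [Algebra.TensorProduct.map_tmul, AlgHom.coe_id, id_eq, hφ₁, hφ₂]
    rw [TensorProduct.tmul_sub]
    have : Subalgebra.inclusion hCint (⟨x, hxC⟩ : C) = ⟨x, hx⟩ := rfl
    rw [this]
    abel
  rw [hcalc] at hn3
  by_contra hne
  have hd : ψ₁ ⟨x, hx⟩ - ψ₂ ⟨x, hx⟩ ≠ 0 := sub_ne_zero.mpr hne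
  haveI : Nontrivial (B ⊗[A] L) := inferInstance
  have hunit : IsUnit ((1 : B) ⊗ₜ[A] (ψ₁ ⟨x, hx⟩ - ψ₂ ⟨x, hx⟩) : B ⊗[A] L) := by
    refine IsUnit.of_mul_eq_one ((1 : B) ⊗ₜ[A] (ψ₁ ⟨x, hx⟩ - ψ₂ ⟨x, hx⟩)⁻¹) ?_
    rw [Algebra.TensorProduct.tmul_mul_tmul, mul_one, mul_inv_cancel₀ hd]
    rfl
  exact hunit.not_isNilpotent hn3

/-- The statement form (with `C` on the left of the tensor product). -/
theorem main [IsNoetherianRing B] [Module.Flat A B]
    (hJ : ∀ (q : Ideal B) [q.IsPrime], q ∈ minimalPrimes B → CAlg.IsN2 (B ⧸ q)) :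
    ∃ Cα : Subalgebra A K', PP Cα ∧
      (∀ C : Subalgebra A K', PP C → ∀ hle : Cα ≤ C,
        (∀ x : ↥Cα ⊗[A] B,
          IsNilpotent (Algebra.TensorProduct.map (Subalgebra.inclusion hle) (AlgHom.id A B) x) →
          IsNilpotent x) ∧
        (∀ y : ↥C ⊗[A] B, ∃ x : ↥Cα ⊗[A] B,
          IsNilpotent
            (Algebra.TensorProduct.map (Subalgebra.inclusion hle) (AlgHom.id A B) x - y))) ∧
      (Module.FaithfullyFlat A B → ∀ hint : Cα ≤ integralClosure A K',
        UniversallyInjective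
          (Spec.map (CommRingCat.ofHom (Subalgebra.inclusion hint).toRingHom))) := by
  obtain ⟨Cα, hCα, hstab⟩ := stab (A := A) (B := B) (K' := K') hJ
  refine ⟨Cα, hCα, fun C hC hle => ⟨fun x hx => ?_, fun y => ?_⟩, fun hff hint => ?_⟩
  · have hinj : Function.Injective
        (Algebra.TensorProduct.map (Subalgebra.inclusion hle) (AlgHom.id A B)) :=
      Module.Flat.rTensor_preserves_injective_linearMap _ (Subalgebra.inclusion_injective hle)
    exact (IsNilpotent.map_iff hinj).mp hx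
  · obtain ⟨x', hx'⟩ := hstab C hC hle (Algebra.TensorProduct.comm A C B y)
    refine ⟨(Algebra.TensorProduct.comm A Cα B).symm x', ?_⟩
    have hnat : ∀ z : B ⊗[A] Cα,
        Algebra.TensorProduct.map (Subalgebra.inclusion hle) (AlgHom.id A B)
          ((Algebra.TensorProduct.comm A Cα B).symm z) =
        (Algebra.TensorProduct.comm A C B).symm
          (Algebra.TensorProduct.map (AlgHom.id B B) (Subalgebra.inclusion hle) z) := by
      intro z
      induction z using TensorProduct.induction_on with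
      | zero => simp
      | tmul b c => simp
      | add x y hx hy => rw [map_add, map_add, map_add, map_add, hx, hy]
    have h1 := hx'.map (Algebra.TensorProduct.comm A C B).symm
    rw [map_sub, AlgEquiv.symm_apply_apply, ← hnat] at h1
    exact h1
  · haveI := hff
    refine universallyInjective_SpecMap_of' _ (fun L _ ψ₁ ψ₂ h => ?_)
    exact eq_of_agree (B := B) Cα hCα hstab hint L ψ₁ ψ₂ h

end Main

end Groth.Agent.Lib.RedStabH3
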