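import Mathlib
import Groth.Agent.Lib.MoriNagata4_helper3
import Groth.Agent.S4615

/-!
# Mori–Nagata, global form: `A' = ⋂ A'_p` over the height-one primes of `A` (helper3)
APPEND-ONLY once landed.
-/

set_option autoImplicit false
universe u

namespace Groth.Agent.Lib.MoriNagataH3

open IsLocalRing AlgebraicGeometry

section LocalPart

variable (B : Type u) [CommRing B] [IsDomain B] [IsNoetherianRing B] [IsLocalRing B]
  (K : Type u) [Field K] [Algebra B K] [IsFractionRing B K]

theorem exists_finite_height_one (x : K) (hx : x ∉ integralClosure B K) :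
    ∃ (Cα : Subalgebra B K) (_ : Module.Finite B Cα) (Qα : Ideal Cα) (_ : Qα.IsPrime),
      Qα.height = 1 ∧
      ∀ b : B, algebraMap B K b * x ∈ integralClosure B K → algebraMap B Cα b ∈ Qα := by
  obtain ⟨P'', hP'', hP''0, hmin, hmiss⟩ := exists_prime_integralClosure B K x hx
  haveI := hP''
  haveI : FaithfulSMul B K :=
    (faithfulSMul_iff_algebraMap_injective _ _).mpr (IsFractionRing.injective _ _)
  letI : Algebra (FractionRing B) K := FractionRing.liftAlgebra B K
  haveI : IsScalarTower B (FractionRing B) K :=
    IsScalarTower.of_algebraMap_eq (R := B) (S := FractionRing B) (A := K) fun x =>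
      (IsFractionRing.lift_algebraMap (FaithfulSMul.algebraMap_injective _ K) x).symm
  haveI : FiniteDimensional (FractionRing B) K := by
    refine Module.Finite.of_surjective (Algebra.linearMap (FractionRing B) K) ?_
    intro z
    obtain ⟨a, b, hb, rfl⟩ := IsFractionRing.div_surjective B z
    refine ⟨algebraMap _ _ a / algebraMap _ _ b, ?_⟩
    rw [Algebra.linearMap_apply, map_div₀,
      ← IsScalarTower.algebraMap_apply B (FractionRing B) K,
      ← IsScalarTower.algebraMap_apply B (FractionRing B) K]
  obtain ⟨Cα, hCα, -, h2⟩ := Groth.Agent.S4615.result (A := B) (K' := K)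
  obtain ⟨hfinα, hfracα⟩ := hCα
  haveI := hfinα
  haveI : Algebra.IsIntegral B Cα := Algebra.IsIntegral.of_finite _ Cα
  have hintα : Cα ≤ integralClosure B K := fun z hz => by
    have h1 : IsIntegral B (⟨z, hz⟩ : Cα) := Algebra.IsIntegral.isIntegral _
    exact h1.map (Cα.val)
  haveI := h2 hintα
  have hinjα : Function.Injective
      (PrimeSpectrum.comap (Subalgebra.inclusion hintα).toRingHom) := by
    intro P Q hPQ
    exact (Spec.map (CommRingCat.ofHom (Subalgebra.inclusion hintα).toRingHom)).injective hPQ
  have hht := height_comap_eq_one B K Cα hintα hinjα P'' hP''0 hmin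
  refine ⟨Cα, hfinα, P''.comap (Subalgebra.inclusion hintα).toRingHom,
    Ideal.comap_isPrime _ _, hht, ?_⟩
  intro b hb
  by_contra hmem
  have hsint : IsIntegral B (algebraMap B K b) := isIntegral_algebraMap
  apply hmiss ⟨algebraMap B K b, hsint⟩
  · intro hmem'
    apply hmem
    rw [Ideal.mem_comap]
    have : (Subalgebra.inclusion hintα).toRingHom (algebraMap B Cα b) =
        (⟨algebraMap B K b, hsint⟩ : integralClosure B K) :=
      Subtype.ext rfl
    rw [this]
    exact hmem'
  · exact hb

end LocalPart

section Global

variable (A : Type u) [CommRing A] [IsDomain A] [IsNoetherianRing A]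
  (K : Type u) [Field K] [Algebra A K] [IsFractionRing A K]

/-- The ideal of denominators in `A` of `x` with respect to the integral closure. -/
def denomA (x : K) : Ideal A where
  carrier := {a | algebraMap A K a * x ∈ integralClosure A K}
  add_mem' := by
    intro a b ha hb
    simp only [Set.mem_setOf_eq] at ha hb ⊢
    rw [map_add, add_mul]
    exact Subalgebra.add_mem _ ha hb
  zero_mem' := by
    simp only [Set.mem_setOf_eq, map_zero, zero_mul]
    exact Subalgebra.zero_mem _
  smul_mem' := by
    intro c a ha
    simp only [Set.mem_setOf_eq] at ha ⊢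
    rw [smul_eq_mul, map_mul, mul_assoc]
    exact Subalgebra.mul_mem _ (Subalgebra.algebraMap_mem _ c) ha

theorem mem_of_forall_height_one
    (h : ∀ C : Subalgebra A K, C ≤ integralClosure A K → Module.Finite A C →
      ∀ (q : Ideal C) [q.IsPrime], q.height = 1 → (q.comap (algebraMap A C)).height = 1)
    (x : K)
    (hx : ∀ p : Ideal A, p.IsPrime → p.height = 1 →
      ∃ s : A, s ∉ p ∧ algebraMap A K s * x ∈ integralClosure A K) :
    x ∈ integralClosure A K := by
  by_contra hxS
  have hI : denomA A K x ≠ ⊤ := by
    intro htop
    have h1 : (1 : A) ∈ denomA A K x := by rw [htop]; trivial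
    change algebraMap A K 1 * x ∈ integralClosure A K at h1
    rw [map_one, one_mul] at h1
    exact hxS h1
  obtain ⟨m, hm, hIm⟩ := Ideal.exists_le_maximal _ hI
  haveI := hm
  haveI : m.IsPrime := hm.isPrime
  -- the local ring `A_m` inside `K`
  have hunits : ∀ y : m.primeCompl, IsUnit (algebraMap A K y) := fun y => by
    refine IsUnit.mk0 _ ?_
    intro h0
    apply y.2
    have : (y : A) = 0 := IsFractionRing.injective A K (by rw [h0, map_zero])
    rw [this]
    exact m.zero_mem
  letI : Algebra (Localization.AtPrime m) K :=
    (IsLocalization.lift (M := m.primeCompl) (g := algebraMap A K) hunits).toAlgebra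
  haveI : IsScalarTower A (Localization.AtPrime m) K :=
    IsScalarTower.of_algebraMap_eq fun c => (IsLocalization.lift_eq hunits c).symm
  haveI : IsFractionRing (Localization.AtPrime m) K :=
    IsFractionRing.isFractionRing_of_isDomain_of_isLocalization m.primeCompl
      (Localization.AtPrime m) K
  haveI : IsNoetherianRing (Localization.AtPrime m) :=
    IsLocalization.isNoetherianRing m.primeCompl _ inferInstance
  -- `x` is not integral over `A_m`
  have hx_m : x ∉ integralClosure (Localization.AtPrime m) K := by
    intro hint
    obtain ⟨s, hs⟩ := IsIntegral.exists_multiple_integral_of_isLocalization m.primeCompl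
      (Rₘ := Localization.AtPrime m) x hint
    apply s.2
    apply hIm
    change algebraMap A K s * x ∈ integralClosure A K
    rw [← Algebra.smul_def]
    exact hs
  obtain ⟨Cα, hfinα, Qα, hQαp, hht, hQα⟩ :=
    exists_finite_height_one (Localization.AtPrime m) K x hx_m
  haveI := hfinα
  haveI := hQαp
  -- a finite `A`-subalgebra `C` with `C_m = Cα`
  obtain ⟨G, hG⟩ := (Module.Finite.fg_top : (⊤ : Submodule (Localization.AtPrime m) Cα).FG)
  have hsg : ∀ g : Cα, ∃ s : m.primeCompl, IsIntegral A (s • (g : K)) := fun g => by
    have h1 : IsIntegral (Localization.AtPrime m) (g : K) :=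
      (Algebra.IsIntegral.isIntegral (R := Localization.AtPrime m) g).map (Cα.val)
    exact IsIntegral.exists_multiple_integral_of_isLocalization m.primeCompl
      (Rₘ := Localization.AtPrime m) _ h1
  choose sg hsg' using hsg
  classical
  let T : Finset K := G.image fun g => sg g • (g : K)
  have hTint : ∀ z ∈ (T : Set K), IsIntegral A z := by
    intro z hz
    obtain ⟨g, -, rfl⟩ := Finset.mem_image.mp hz
    exact hsg' g
  let C : Subalgebra A K := Algebra.adjoin A (T : Set K)
  have hCS : C ≤ integralClosure A K := Algebra.adjoin_le hTint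
  haveI hCfin : Module.Finite A C :=
    Algebra.finite_adjoin_of_finite_of_isIntegral T.finite_toSet hTint
  have hAmem : ∀ a : A, algebraMap A K a ∈ Cα := fun a => by
    rw [IsScalarTower.algebraMap_apply A (Localization.AtPrime m) K]
    exact Subalgebra.algebraMap_mem _ _
  have hCle : ∀ z ∈ C, z ∈ Cα := by
    have : C ≤ Cα.restrictScalars A := by
      refine Algebra.adjoin_le ?_
      intro z hz
      obtain ⟨g, -, rfl⟩ := Finset.mem_image.mp hz
      change sg g • (g : K) ∈ Cα
      rw [Submonoid.smul_def, Algebra.smul_def]
      exact Subalgebra.mul_mem _ (hAmem _) g.2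
    exact fun z hz => this hz
  let incl : C →+* Cα := RingHom.codRestrict C.val.toRingHom Cα (fun c => hCle c c.2)
  letI : Algebra C Cα := incl.toAlgebra
  have hincl : ∀ c : C, ((algebraMap C Cα c : Cα) : K) = (c : K) := fun _ => rfl
  -- every element of `Cα` is a fraction with numerator in `C`
  have hfracC : ∀ z : Cα, ∃ s : m.primeCompl, algebraMap A K s * (z : K) ∈ C := by
    let N : Submodule (Localization.AtPrime m) K :=
      { carrier := {z | ∃ s : m.primeCompl, algebraMap A K s * z ∈ C}
        add_mem' := by
          rintro z₁ z₂ ⟨s₁, h₁⟩ ⟨s₂, h₂⟩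
          refine ⟨s₁ * s₂, ?_⟩
          have : algebraMap A K ((s₁ * s₂ : m.primeCompl) : A) * (z₁ + z₂) =
              algebraMap A K s₂ * (algebraMap A K s₁ * z₁) +
                algebraMap A K s₁ * (algebraMap A K s₂ * z₂) := by
            rw [Submonoid.coe_mul, map_mul]; ring
          rw [this]
          exact C.add_mem (C.mul_mem (C.algebraMap_mem _) h₁) (C.mul_mem (C.algebraMap_mem _) h₂)
        zero_mem' := ⟨1, by rw [mul_zero]; exact C.zero_mem⟩
        smul_mem' := by
          rintro c z ⟨s, hs⟩
          obtain ⟨⟨a, t⟩, hat⟩ := IsLocalization.surj m.primeCompl c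
          refine ⟨t * s, ?_⟩
          have h1 : algebraMap A K t * algebraMap (Localization.AtPrime m) K c =
              algebraMap A K a := by
            rw [IsScalarTower.algebraMap_apply A (Localization.AtPrime m) K,
              IsScalarTower.algebraMap_apply A (Localization.AtPrime m) K, ← map_mul, mul_comm]
            exact congrArg _ hat
          have : algebraMap A K ((t * s : m.primeCompl) : A) * (c • z) =
              algebraMap A K a * (algebraMap A K s * z) := by
            rw [Submonoid.coe_mul, map_mul, Algebra.smul_def, ← h1]; ring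
          rw [this]
          exact C.mul_mem (C.algebraMap_mem _) hs }
    have hGN : ∀ g ∈ G, (g : K) ∈ N := by
      intro g hg
      refine ⟨sg g, ?_⟩
      have : algebraMap A K (sg g) * (g : K) = sg g • (g : K) := by
        rw [Submonoid.smul_def, Algebra.smul_def]
      rw [this]
      exact Algebra.subset_adjoin (Finset.mem_image_of_mem _ hg)
    intro z
    have h1 : z ∈ Submodule.span (Localization.AtPrime m) (G : Set Cα) := by rw [hG]; trivial
    have h2 : (z : K) ∈ Submodule.map (Cα.val.toLinearMap)
        (Submodule.span (Localization.AtPrime m) (G : Set Cα)) := ⟨z, h1, rfl⟩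
    rw [Submodule.map_span] at h2
    have h3 : Submodule.span (Localization.AtPrime m) (Cα.val.toLinearMap '' (G : Set Cα)) ≤ N := by
      rw [Submodule.span_le]
      rintro _ ⟨g, hg, rfl⟩
      exact hGN g hg
    exact h3 h2
  haveI : IsLocalization (Algebra.algebraMapSubmonoid C m.primeCompl) Cα := by
    rw [isLocalization_iff]
    refine ⟨?_, ?_, ?_⟩
    · rintro ⟨_, s, hs, rfl⟩
      have h1 : algebraMap C Cα (algebraMap A C s) =
          algebraMap (Localization.AtPrime m) Cα (algebraMap A (Localization.AtPrime m) s) := by
        apply Subtype.ext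
        change algebraMap A K s = algebraMap (Localization.AtPrime m) K _
        rw [← IsScalarTower.algebraMap_apply A (Localization.AtPrime m) K]
      rw [h1]
      exact (IsLocalization.map_units (Localization.AtPrime m) (⟨s, hs⟩ : m.primeCompl)).map _
    · intro z
      obtain ⟨s, hs⟩ := hfracC z
      refine ⟨(⟨algebraMap A K s * (z : K), hs⟩, ⟨algebraMap A C s, s, s.2, rfl⟩), ?_⟩
      apply Subtype.ext
      change (z : K) * algebraMap A K s = algebraMap A K s * (z : K)
      ring
    · intro c₁ c₂ h12
      refine ⟨1, ?_⟩
      simp only [OneMemClass.coe_one, one_mul]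
      apply Subtype.ext
      exact congrArg (fun t : Cα => (t : K)) h12
  -- the height-one prime of `C`
  have hq1 : (Qα.under C).height = 1 := by
    rw [IsLocalization.height_under (Algebra.algebraMapSubmonoid C m.primeCompl) Qα]
    exact hht
  haveI : (Qα.under C).IsPrime := Ideal.comap_isPrime _ _
  have hp1 := h C hCS hCfin (Qα.under C) hq1
  obtain ⟨s, hs, hsx⟩ := hx _ (Ideal.comap_isPrime _ _) hp1
  -- contradiction
  apply hs
  change algebraMap C Cα (algebraMap A C s) ∈ Qα
  have h3 : algebraMap (Localization.AtPrime m) K (algebraMap A (Localization.AtPrime m) s) * x ∈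
      integralClosure (Localization.AtPrime m) K := by
    rw [← IsScalarTower.algebraMap_apply A (Localization.AtPrime m) K]
    exact IsIntegral.tower_top hsx
  have h4 := hQα _ h3
  have h5 : algebraMap C Cα (algebraMap A C s) =
      algebraMap (Localization.AtPrime m) Cα (algebraMap A (Localization.AtPrime m) s) := by
    apply Subtype.ext
    change algebraMap A K s = algebraMap (Localization.AtPrime m) K _
    rw [← IsScalarTower.algebraMap_apply A (Localization.AtPrime m) K]
  rw [h5]
  exact h4

end Global

end Groth.Agent.Lib.MoriNagataH3
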