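import Mathlib

/-!
# Normal base change for non-Noetherian normal rings (EGA IV 6.14.1), part 1 (helper3)

* `mem_range_of_isIntegralElem`: if `π` is a non-zero-divisor-like element with `R/π` reduced and
  `T = R[1/π]`, then `R` is integrally closed in `T`.
* `lmap`: the ring homomorphism `A' ⊗[A] V → A' ⊗[A] K` induced by a subalgebra `V ≤ K`.
* `dvr_step`: for a flat `A'` and a "discrete valuation" subalgebra `V` of a field `K` with
  `A' ⊗ V/ϖ` reduced, `A' ⊗ V` is integrally closed in `A' ⊗ K`.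
APPEND-ONLY once landed.
-/

set_option autoImplicit false
universe u

namespace Groth.Agent.Lib.NBCH3

open TensorProduct Polynomial

section P

/-- `R` is integrally closed in `R[1/π]` when `R/π` is reduced. -/
theorem mem_range_of_isIntegralElem {R T : Type*} [CommRing R] [CommRing T] (φ : R →+* T)
    (hφ : Function.Injective φ) (π : R) (hπ : IsUnit (φ π))
    (hT : ∀ t : T, ∃ n : ℕ, φ π ^ n * t ∈ φ.range)
    [IsReduced (R ⧸ Ideal.span {π})]
    (t : T) (ht : φ.IsIntegralElem t) : t ∈ φ.range := by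
  classical
  obtain ⟨p, hp, hpt⟩ := ht
  have hex := hT t
  obtain ⟨r, hr⟩ : φ π ^ Nat.find hex * t ∈ φ.range := Nat.find_spec hex
  rcases Nat.eq_zero_or_pos (Nat.find hex) with h0 | hpos
  · rw [h0, pow_zero, one_mul] at hr
    exact ⟨r, hr⟩
  · exfalso
    obtain ⟨m, hm⟩ : ∃ m, Nat.find hex = m + 1 := ⟨Nat.find hex - 1, by omega⟩
    have hdvd : π ^ (m + 1) ∣ r ^ p.natDegree :=
      Polynomial.dvd_pow_natDegree_of_eval₂_eq_zero hφ hp (π ^ (m + 1)) r t hpt
        (by rw [map_pow, ← hm]; exact hr.symm)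
    have hmem : r ^ p.natDegree ∈ Ideal.span {π} := by
      rw [Ideal.mem_span_singleton]
      exact (dvd_pow_self π (Nat.succ_ne_zero m)).trans hdvd
    have hnil : IsNilpotent (Ideal.Quotient.mk (Ideal.span {π}) r) :=
      ⟨p.natDegree, by rw [← map_pow, Ideal.Quotient.eq_zero_iff_mem]; exact hmem⟩
    have h0 := hnil.eq_zero
    rw [Ideal.Quotient.eq_zero_iff_mem, Ideal.mem_span_singleton] at h0
    obtain ⟨r', rfl⟩ := h0
    have h1 : φ π ^ m * t = φ r' := by
      apply hπ.mul_left_cancel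
      rw [← mul_assoc, ← pow_succ', ← hm, ← hr, map_mul]
    exact Nat.find_min hex (by omega : m < Nat.find hex) ⟨r', h1.symm⟩

end P

section L

variable {A : Type*} [CommRing A] (A' : Type*) [CommRing A'] [Algebra A A']
  {K : Type*} [CommRing K] [Algebra A K]

/-- The map `A' ⊗[A] V → A' ⊗[A] K` induced by a subalgebra `V ≤ K`. -/
noncomputable def lmap (V : Subalgebra A K) : A' ⊗[A] V →ₐ[A] A' ⊗[A] K :=
  Algebra.TensorProduct.map (AlgHom.id A A') V.val

theorem lmap_tmul (V : Subalgebra A K) (a : A') (v : V) :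
    lmap A' V (a ⊗ₜ[A] v) = a ⊗ₜ[A] (v : K) := by
  simp [lmap]

theorem lmap_eq_lTensor (V : Subalgebra A K) (x : A' ⊗[A] V) :
    lmap A' V x = LinearMap.lTensor A' V.val.toLinearMap x := by
  induction x using TensorProduct.induction_on with
  | zero => simp
  | tmul a v => simp [lmap]
  | add x y hx hy => rw [map_add, map_add, hx, hy]

theorem lmap_injective [Module.Flat A A'] (V : Subalgebra A K) :
    Function.Injective (lmap A' V) := by
  have h := Module.Flat.lTensor_preserves_injective_linearMap (M := A') V.val.toLinearMap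
    (Subtype.val_injective)
  intro x y hxy
  apply h
  rw [← lmap_eq_lTensor, ← lmap_eq_lTensor, hxy]

/-- Monotonicity of the ranges. -/
theorem range_lmap_mono {V W : Subalgebra A K} (h : V ≤ W) :
    (lmap A' V).range ≤ (lmap A' W).range := by
  rintro _ ⟨x, rfl⟩
  refine ⟨Algebra.TensorProduct.map (AlgHom.id A A') (Subalgebra.inclusion h) x, ?_⟩
  induction x using TensorProduct.induction_on with
  | zero => simp
  | tmul a v => simp [lmap]
  | add x y hx hy =>
    simp only [map_add] at hx hy ⊢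
    rw [hx, hy]

/-- Integrality over a smaller range implies integrality over a bigger one. -/
theorem isIntegralElem_mono {V W : Subalgebra A K} (h : V ≤ W) (t : A' ⊗[A] K)
    (ht : (lmap A' V).toRingHom.IsIntegralElem t) : (lmap A' W).toRingHom.IsIntegralElem t := by
  obtain ⟨p, hp, hpt⟩ := ht
  let ι : A' ⊗[A] V →ₐ[A] A' ⊗[A] W :=
    Algebra.TensorProduct.map (AlgHom.id A A') (Subalgebra.inclusion h)
  have hι : (lmap A' W).toRingHom.comp ι.toRingHom = (lmap A' V).toRingHom := by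
    apply RingHom.ext
    intro x
    induction x using TensorProduct.induction_on with
    | zero => simp
    | tmul a v => simp [lmap, ι]
    | add x y hx hy =>
      simp only [map_add] at hx hy ⊢
      rw [hx, hy]
  refine ⟨p.map ι.toRingHom, hp.map _, ?_⟩
  rw [Polynomial.eval₂_map, hι]
  exact hpt

end L

section DVR

variable {A : Type u} [CommRing A] (A' : Type u) [CommRing A'] [Algebra A A'] [Module.Flat A A']
  {K : Type u} [Field K] [Algebra A K]

/-- The discrete valuation step: `A' ⊗ V` is integrally closed in `A' ⊗ K`. -/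
theorem dvr_step (V : Subalgebra A K) (ϖ : V) (hϖ : (ϖ : K) ≠ 0)
    (hV : ∀ x : K, ∃ n : ℕ, (ϖ : K) ^ n * x ∈ V)
    (hred : IsReduced (A' ⊗[A] (V ⧸ Ideal.span {ϖ})))
    (t : A' ⊗[A] K) (ht : (lmap A' V).toRingHom.IsIntegralElem t) :
    t ∈ (lmap A' V).range := by
  have hmapspan : (Ideal.span {ϖ}).map
      (Algebra.TensorProduct.includeRight (R := A) (A := A') (B := V)) =
      Ideal.span {(1 : A') ⊗ₜ[A] ϖ} := by
    rw [Ideal.map_span, Set.image_singleton]
    rfl
  haveI : IsReduced ((A' ⊗[A] V) ⧸ Ideal.span {(1 : A') ⊗ₜ[A] ϖ}) := by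
    haveI := hred
    rw [← hmapspan]
    exact isReduced_of_injective
      (Algebra.TensorProduct.tensorQuotientEquiv (R := A) A V A' (Ideal.span {ϖ})).symm.toAlgHom
      (Algebra.TensorProduct.tensorQuotientEquiv (R := A) A V A' (Ideal.span {ϖ})).symm.injective
  have hunit : IsUnit ((lmap A' V).toRingHom ((1 : A') ⊗ₜ[A] ϖ)) := by
    change IsUnit (lmap A' V ((1 : A') ⊗ₜ[A] ϖ))
    rw [lmap_tmul]
    exact (IsUnit.mk0 _ hϖ).map (Algebra.TensorProduct.includeRight (R := A) (A := A') (B := K))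
  have hpow : ∀ n : ℕ, (lmap A' V).toRingHom ((1 : A') ⊗ₜ[A] ϖ) ^ n =
      (1 : A') ⊗ₜ[A] ((ϖ : K) ^ n) := by
    intro n
    change (lmap A' V ((1 : A') ⊗ₜ[A] ϖ)) ^ n = _
    rw [lmap_tmul, Algebra.TensorProduct.tmul_pow, one_pow]
  have hT : ∀ t : A' ⊗[A] K, ∃ n : ℕ,
      (lmap A' V).toRingHom ((1 : A') ⊗ₜ[A] ϖ) ^ n * t ∈ (lmap A' V).toRingHom.range := by
    intro t
    induction t using TensorProduct.induction_on with
    | zero => exact ⟨0, 0, by simp⟩
    | tmul a x =>
      obtain ⟨n, hn⟩ := hV x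
      refine ⟨n, a ⊗ₜ[A] ⟨_, hn⟩, ?_⟩
      rw [hpow]
      change lmap A' V _ = _
      rw [lmap_tmul, Algebra.TensorProduct.tmul_mul_tmul, one_mul]
    | add x y hx hy =>
      obtain ⟨n, u, hu⟩ := hx
      obtain ⟨m, v, hv⟩ := hy
      refine ⟨n + m, ((1 : A') ⊗ₜ[A] ϖ) ^ m * u + ((1 : A') ⊗ₜ[A] ϖ) ^ n * v, ?_⟩
      rw [map_add, map_mul, map_mul, hu, hv, map_pow, map_pow, mul_add, pow_add]
      ring
  have := mem_range_of_isIntegralElem (lmap A' V).toRingHom (lmap_injective A' V)
    ((1 : A') ⊗ₜ[A] ϖ) hunit hT t ht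
  obtain ⟨r, hr⟩ := this
  exact ⟨r, hr⟩

end DVR

end Groth.Agent.Lib.NBCH3
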