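import Mathlib

/-!
# Normal base change for non-Noetherian normal rings (EGA IV 6.14.1), part 2 (helper3)

Flat base change commutes with intersections of finite character:
* `mem_range_lTensor_inf`, `mem_range_lTensor_finset_inf`, `mem_range_lTensor_iInf`.
APPEND-ONLY once landed.
-/

set_option autoImplicit false

namespace Groth.Agent.Lib.NBCH3

open TensorProduct

section INT

variable {A : Type*} [CommRing A] (M : Type*) [AddCommGroup M] [Module A M] [Module.Flat A M]
  {K : Type*} [AddCommGroup K] [Module A K]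

theorem range_lTensor_mono {N₁ N₂ : Submodule A K} (h : N₁ ≤ N₂) :
    LinearMap.range (LinearMap.lTensor M N₁.subtype) ≤
      LinearMap.range (LinearMap.lTensor M N₂.subtype) := by
  rintro _ ⟨x, rfl⟩
  refine ⟨LinearMap.lTensor M (Submodule.inclusion h) x, ?_⟩
  rw [← LinearMap.comp_apply, ← LinearMap.lTensor_comp]
  rfl

/-- Flat base change commutes with pairwise intersections. -/
theorem mem_range_lTensor_inf (N₁ N₂ : Submodule A K) (t : M ⊗[A] K)
    (h₁ : t ∈ LinearMap.range (LinearMap.lTensor M N₁.subtype))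
    (h₂ : t ∈ LinearMap.range (LinearMap.lTensor M N₂.subtype)) :
    t ∈ LinearMap.range (LinearMap.lTensor M (N₁ ⊓ N₂).subtype) := by
  obtain ⟨t₁, rfl⟩ := h₁
  obtain ⟨t₂, ht₂⟩ := h₂
  let ιC : ↥(N₁ ⊓ N₂) →ₗ[A] N₁ := Submodule.inclusion inf_le_left
  let g : N₁ →ₗ[A] K ⧸ N₂ := N₂.mkQ ∘ₗ N₁.subtype
  have hex : Function.Exact ιC g := by
    intro x
    constructor
    · intro hx
      have h1 : (x : K) ∈ N₂ := by
        have : N₂.mkQ (x : K) = 0 := hx
        rwa [Submodule.mkQ_apply, Submodule.Quotient.mk_eq_zero] at this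
      exact ⟨⟨x, x.2, h1⟩, rfl⟩
    · rintro ⟨y, rfl⟩
      change N₂.mkQ ((y : K)) = 0
      rw [Submodule.mkQ_apply, Submodule.Quotient.mk_eq_zero]
      exact y.2.2
  have hex' := Module.Flat.lTensor_exact M hex
  have hzero : LinearMap.lTensor M g t₁ = 0 := by
    have h1 : LinearMap.lTensor M g t₁ =
        LinearMap.lTensor M N₂.mkQ (LinearMap.lTensor M N₁.subtype t₁) := by
      rw [← LinearMap.comp_apply, ← LinearMap.lTensor_comp]
    rw [h1, ← ht₂, ← LinearMap.comp_apply, ← LinearMap.lTensor_comp]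
    have h2 : N₂.mkQ ∘ₗ N₂.subtype = 0 := by
      ext y
      simp
    rw [h2, LinearMap.lTensor_zero, LinearMap.zero_apply]
  obtain ⟨w, hw⟩ := (hex' t₁).mp hzero
  refine ⟨w, ?_⟩
  rw [← hw, ← LinearMap.comp_apply, ← LinearMap.lTensor_comp]
  rfl

/-- Flat base change commutes with finite intersections. -/
theorem mem_range_lTensor_finset_inf {ι : Type*} (W : ι → Submodule A K) (F : Finset ι)
    (N : Submodule A K) (t : M ⊗[A] K)
    (hN : t ∈ LinearMap.range (LinearMap.lTensor M N.subtype))
    (hW : ∀ i ∈ F, t ∈ LinearMap.range (LinearMap.lTensor M (W i).subtype)) :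
    t ∈ LinearMap.range (LinearMap.lTensor M (N ⊓ ⨅ i ∈ F, W i).subtype) := by
  classical
  induction F using Finset.induction_on with
  | empty =>
    refine range_lTensor_mono M ?_ hN
    simp
  | insert i F hi ih =>
    have h1 := ih (fun j hj => hW j (Finset.mem_insert_of_mem hj))
    have h2 := hW i (Finset.mem_insert_self i F)
    have h3 := mem_range_lTensor_inf M _ _ t h1 h2
    refine range_lTensor_mono M ?_ h3
    rw [Finset.iInf_insert]
    refine le_inf (inf_le_left.trans inf_le_left) (le_inf inf_le_right ?_)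
    exact inf_le_left.trans inf_le_right

/-- Flat base change commutes with intersections of finite character. -/
theorem mem_range_lTensor_iInf {ι : Type*} (W : ι → Submodule A K)
    (hfin : ∀ x : K, {i | x ∉ W i}.Finite) (t : M ⊗[A] K)
    (ht : ∀ i, t ∈ LinearMap.range (LinearMap.lTensor M (W i).subtype)) :
    t ∈ LinearMap.range (LinearMap.lTensor M (⨅ i, W i).subtype) := by
  classical
  obtain ⟨S, hS⟩ := TensorProduct.exists_finset t
  -- the finite set of bad indices
  have hbad : (⋃ y ∈ S, {i | (y : M × K).2 ∉ W i}).Finite :=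
    Set.Finite.biUnion S.finite_toSet fun y _ => hfin y.2
  let F : Finset ι := hbad.toFinset
  have hF : ∀ i, i ∉ F → ∀ y ∈ S, (y : M × K).2 ∈ W i := by
    intro i hi y hy
    by_contra hyi
    apply hi
    rw [Set.Finite.mem_toFinset]
    exact Set.mem_biUnion hy hyi
  let N : Submodule A K := ⨅ i ∈ (↑F : Set ι)ᶜ, W i
  have hSN : ∀ y ∈ S, (y : M × K).2 ∈ N := by
    intro y hy
    rw [Submodule.mem_iInf]
    intro i
    rw [Submodule.mem_iInf]
    intro hi
    exact hF i (by simpa using hi) y hy
  have hN : t ∈ LinearMap.range (LinearMap.lTensor M N.subtype) := by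
    rw [hS]
    refine Submodule.sum_mem _ fun y hy => ?_
    exact ⟨y.1 ⊗ₜ[A] ⟨y.2, hSN y hy⟩, by simp⟩
  have h1 := mem_range_lTensor_finset_inf M W F N t hN (fun i _ => ht i)
  refine range_lTensor_mono M ?_ h1
  refine le_iInf fun i => ?_
  by_cases hi : i ∈ F
  · exact inf_le_right.trans (iInf₂_le i hi)
  · refine inf_le_left.trans ?_
    exact iInf₂_le (f := fun i (_ : i ∈ (↑F : Set ι)ᶜ) => W i) i (by simpa using hi)

end INT

end Groth.Agent.Lib.NBCH3
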