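import Mathlib
import Groth.Agent.Lib.NBC1_helper3
import Groth.Agent.Lib.NBC2_helper3
import Groth.Agent.Lib.MoriNagata5_helper3
import Groth.Agent.Lib.MoriNagata6_helper3
import Groth.Agent.S4615

/-!
# Normal base change for non-Noetherian normal rings (EGA IV 6.14.1), part 3 (helper3)

The heart: for a Noetherian domain `A` with fraction field `K` and a flat `A`-algebra `A'` with
reduced fibres, `A' ⊗ (integral closure of A in K)` is integrally closed in `A' ⊗ K`.
APPEND-ONLY once landed.
-/

set_option autoImplicit false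
universe u

namespace Groth.Agent.Lib.NBCH3

open TensorProduct Polynomial Groth.Agent.Lib.MoriNagataH3 AlgebraicGeometry

section Aux

variable {A : Type*} [CommRing A] (A' : Type*) [CommRing A'] [Algebra A A']
  {K : Type*} [CommRing K] [Algebra A K]

/-- Passing from `lmap` to `lTensor` of the underlying submodule. -/
theorem mem_range_lTensor_of_mem_range_lmap (V : Subalgebra A K) (t : A' ⊗[A] K)
    (ht : t ∈ (lmap A' V).range) :
    t ∈ LinearMap.range (LinearMap.lTensor A' (Subalgebra.toSubmodule V).subtype) := by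
  obtain ⟨y, hy⟩ := ht
  have hy' : lmap A' V y = t := hy
  let c : V →ₗ[A] Subalgebra.toSubmodule V :=
    LinearMap.codRestrict (Subalgebra.toSubmodule V) V.val.toLinearMap (fun v => v.2)
  refine ⟨LinearMap.lTensor A' c y, ?_⟩
  rw [← LinearMap.comp_apply, ← LinearMap.lTensor_comp, ← hy', lmap_eq_lTensor]
  rfl

/-- Clearing denominators. -/
theorem clear_denoms (W : Submodule A K) (C : Subalgebra A K) (S : Submonoid A)
    (h : ∀ w ∈ W, ∃ s ∈ S, s • w ∈ C) (y : A' ⊗[A] W) :
    ∃ s ∈ S, s • (LinearMap.lTensor A' W.subtype y) ∈ (lmap A' C).range := by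
  induction y using TensorProduct.induction_on with
  | zero => exact ⟨1, S.one_mem, by rw [map_zero, smul_zero]; exact Subalgebra.zero_mem _⟩
  | tmul a w =>
    obtain ⟨s, hs, hsw⟩ := h w w.2
    refine ⟨s, hs, a ⊗ₜ[A] ⟨s • (w : K), hsw⟩, ?_⟩
    change lmap A' C _ = _
    rw [lmap_tmul, LinearMap.lTensor_tmul, TensorProduct.tmul_smul]
    rfl
  | add x y hx hy =>
    obtain ⟨s₁, hs₁, h₁⟩ := hx
    obtain ⟨s₂, hs₂, h₂⟩ := hy
    refine ⟨s₁ * s₂, S.mul_mem hs₁ hs₂, ?_⟩
    have : (s₁ * s₂) • (LinearMap.lTensor A' W.subtype (x + y)) =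
        s₂ • (s₁ • LinearMap.lTensor A' W.subtype x) +
          s₁ • (s₂ • LinearMap.lTensor A' W.subtype y) := by
      rw [map_add, smul_add, mul_smul, mul_smul, smul_comm s₁ s₂]
    rw [this]
    exact Subalgebra.add_mem _ (Subalgebra.smul_mem _ h₁ _) (Subalgebra.smul_mem _ h₂ _)

end Aux

section DVRsub

variable {A : Type u} [CommRing A] (A' : Type u) [CommRing A'] [Algebra A A'] [Module.Flat A A']
  {K : Type u} [Field K] [Algebra A K]

/-- The discrete valuation step for a subalgebra that is a DVR and a valuation ring of `K`. -/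
theorem dvr_sub_step (V : Subalgebra A K) [IsDiscreteValuationRing V]
    (hval : ∀ x : K, x ∈ V ∨ x⁻¹ ∈ V)
    (hred : ∀ (κ : Type u) [Field κ] [Algebra A κ], IsReduced (A' ⊗[A] κ))
    (t : A' ⊗[A] K) (ht : (lmap A' V).toRingHom.IsIntegralElem t) :
    t ∈ (lmap A' V).range := by
  obtain ⟨ϖ, hϖ⟩ := IsDiscreteValuationRing.exists_irreducible V
  have hϖ0 : (ϖ : K) ≠ 0 := fun h0 => hϖ.ne_zero (Subtype.ext h0)
  have hV : ∀ x : K, ∃ n : ℕ, (ϖ : K) ^ n * x ∈ V := by
    intro x
    rcases hval x with hx | hx
    · exact ⟨0, by rw [pow_zero, one_mul]; exact hx⟩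
    · by_cases hx0 : x = 0
      · exact ⟨0, by rw [hx0, mul_zero]; exact Subalgebra.zero_mem _⟩
      · have hne : (⟨x⁻¹, hx⟩ : V) ≠ 0 := fun h0 =>
          inv_ne_zero hx0 (congrArg Subtype.val h0)
        obtain ⟨n, u, hu⟩ := IsDiscreteValuationRing.eq_unit_mul_pow_irreducible hne hϖ
        refine ⟨n, ?_⟩
        have h1 : x⁻¹ = ((u : V) : K) * (ϖ : K) ^ n := by
          have := congrArg Subtype.val hu
          simpa using this
        have h2 : (((u⁻¹ : Vˣ) : V) : K) * ((u : V) : K) = 1 := by
          rw [← Subalgebra.coe_mul, Units.inv_mul, Subalgebra.coe_one]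
        have hx1 : x⁻¹ * x = 1 := inv_mul_cancel₀ hx0
        have h3 : (ϖ : K) ^ n * x = (((u⁻¹ : Vˣ) : V) : K) := by
          calc (ϖ : K) ^ n * x
              = ((((u⁻¹ : Vˣ) : V) : K) * ((u : V) : K)) * ((ϖ : K) ^ n * x) := by
                rw [h2, one_mul]
            _ = (((u⁻¹ : Vˣ) : V) : K) * ((((u : V) : K) * (ϖ : K) ^ n) * x) := by ring
            _ = (((u⁻¹ : Vˣ) : V) : K) * (x⁻¹ * x) := by rw [h1]
            _ = (((u⁻¹ : Vˣ) : V) : K) := by rw [hx1, mul_one]
        rw [h3]
        exact Subtype.property _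
  haveI : (Ideal.span {ϖ}).IsMaximal := by
    rw [← (IsDiscreteValuationRing.irreducible_iff_uniformizer ϖ).mp hϖ]
    exact IsLocalRing.maximalIdeal.isMaximal V
  letI : Field (V ⧸ Ideal.span {ϖ}) := Ideal.Quotient.field _
  exact dvr_step A' V ϖ hϖ0 hV (hred (V ⧸ Ideal.span {ϖ})) t ht

end DVRsub

section VS

variable {A : Type*} [CommRing A] {K : Type*} [Field K] [Algebra A K]

/-- A valuation subring containing the image of `A`, as a subalgebra. -/
def vsub (V : ValuationSubring K) (hA : ∀ a : A, algebraMap A K a ∈ V) : Subalgebra A K :=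
  { V.toSubring.toSubsemiring with algebraMap_mem' := hA }

theorem mem_vsub (V : ValuationSubring K) (hA : ∀ a : A, algebraMap A K a ∈ V) (x : K) :
    x ∈ vsub V hA ↔ x ∈ V := Iff.rfl

/-- The identity ring isomorphism. -/
def vsubEquiv (V : ValuationSubring K) (hA : ∀ a : A, algebraMap A K a ∈ V) :
    V ≃+* vsub V hA where
  toFun x := ⟨x.1, x.2⟩
  invFun x := ⟨x.1, x.2⟩
  left_inv _ := rfl
  right_inv _ := rfl
  map_mul' _ _ := rfl
  map_add' _ _ := rfl

end VS

section Krull

variable (B : Type u) [CommRing B] [IsDomain B] [IsNoetherianRing B] [IsLocalRing B]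
  (K : Type u) [Field K] [Algebra B K] [IsFractionRing B K]

/-- Mori–Nagata: the integral closure of a Noetherian local domain in its fraction field is an
intersection of finite character of discrete valuation rings. -/
theorem local_family :
    ∃ (ι : Type u) (V : ι → ValuationSubring K), (∀ i, IsDiscreteValuationRing (V i)) ∧
      (∀ x : K, {i | x ∉ V i}.Finite) ∧
      (∀ x : K, x ∈ integralClosure B K ↔ ∀ i, x ∈ V i) := by
  classical
  haveI : FaithfulSMul B K :=
    (faithfulSMul_iff_algebraMap_injective _ _).mpr (IsFractionRing.injective _ _)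
  letI : Algebra (FractionRing B) K := FractionRing.liftAlgebra B K
  haveI : IsScalarTower B (FractionRing B) K :=
    IsScalarTower.of_algebraMap_eq (R := B) (S := FractionRing B) (A := K) fun x =>
      (IsFractionRing.lift_algebraMap (FaithfulSMul.algebraMap_injective _ K) x).symm
  haveI : FiniteDimensional (FractionRing B) K := by
    refine Module.Finite.of_surjective (Algebra.linearMap (FractionRing B) K) ?_
    intro z
    obtain ⟨a, b, hb, rfl⟩ := IsFractionRing.div_surjective B z
    refine ⟨algebraMap _ _ a / algebraMap _ _ b, ?_⟩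
    rw [Algebra.linearMap_apply, map_div₀,
      ← IsScalarTower.algebraMap_apply B (FractionRing B) K,
      ← IsScalarTower.algebraMap_apply B (FractionRing B) K]
  obtain ⟨Cα, hCα, -, h2⟩ := Groth.Agent.S4615.result (A := B) (K' := K)
  obtain ⟨hfinα, hfracα⟩ := hCα
  haveI := hfinα
  haveI : Algebra.IsIntegral B Cα := Algebra.IsIntegral.of_finite _ Cα
  have hintα : Cα ≤ integralClosure B K := fun z hz => by
    have h1 : IsIntegral B (⟨z, hz⟩ : Cα) := Algebra.IsIntegral.isIntegral _
    exact h1.map (Cα.val)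
  haveI := h2 hintα
  have hinjα : Function.Injective
      (PrimeSpectrum.comap (Subalgebra.inclusion hintα).toRingHom) := by
    intro P Q hPQ
    exact (Spec.map (CommRingCat.ofHom (Subalgebra.inclusion hintα).toRingHom)).injective hPQ
  -- the family of discrete valuation rings
  have hex : ∀ q : {q : Ideal Cα // q.IsPrime ∧ q.height = 1},
      ∃ V : ValuationSubring K, IsDiscreteValuationRing V ∧
        ∀ x : K, x ∈ V ↔ ∃ s : Cα, s ∉ q.1 ∧ IsIntegral Cα ((s : K) * x) := fun q => by
    haveI := q.2.1
    exact exists_dvr B K Cα hintα hinjα hfracα q.1 q.2.2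
  choose V hVdvr hVmem using hex
  refine ⟨{q : Ideal Cα // q.IsPrime ∧ q.height = 1}, V, hVdvr, ?_, ?_⟩
  · intro x
    have hb := finite_bad B K Cα x
    refine (hb.preimage (Subtype.val_injective.injOn)).subset ?_
    intro q hq
    simp only [Set.mem_preimage, Set.mem_setOf_eq]
    exact ⟨q.2.1, q.2.2, fun h => hq ((hVmem q x).mpr h)⟩
  · intro x
    constructor
    · intro hx q
      haveI := q.2.1
      rw [hVmem]
      exact (mem_integralClosure_iff_forall B K Cα hintα hinjα x).mp hx q.1 q.2.2
    · intro hx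
      refine (mem_integralClosure_iff_forall B K Cα hintα hinjα x).mpr ?_
      intro q hq hq1
      exact (hVmem ⟨q, hq, hq1⟩ x).mp (hx ⟨q, hq, hq1⟩)

end Krull

section Family

variable {A : Type u} [CommRing A] (A' : Type u) [CommRing A'] [Algebra A A'] [Module.Flat A A']
  {K : Type u} [Field K] [Algebra A K]

/-- The family step. -/
theorem family_step
    (hred : ∀ (κ : Type u) [Field κ] [Algebra A κ], IsReduced (A' ⊗[A] κ))
    {ι : Type*} (V : ι → ValuationSubring K) (hdvr : ∀ i, IsDiscreteValuationRing (V i))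
    (hAV : ∀ i (a : A), algebraMap A K a ∈ V i)
    (hfin : ∀ x : K, {i | x ∉ V i}.Finite)
    (C : Subalgebra A K) (hC : ∀ i, ∀ x ∈ C, x ∈ V i)
    (t : A' ⊗[A] K) (ht : (lmap A' C).toRingHom.IsIntegralElem t) :
    t ∈ LinearMap.range (LinearMap.lTensor A'
      (⨅ i, Subalgebra.toSubmodule (vsub (V i) (hAV i))).subtype) := by
  have hstep : ∀ i, t ∈ (lmap A' (vsub (V i) (hAV i))).range := by
    intro i
    haveI := hdvr i
    haveI : IsDiscreteValuationRing (vsub (V i) (hAV i)) :=
      IsDiscreteValuationRing.RingEquivClass.isDiscreteValuationRing (vsubEquiv (V i) (hAV i))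
    have hle : C ≤ vsub (V i) (hAV i) := fun x hx => hC i x hx
    exact dvr_sub_step A' (vsub (V i) (hAV i)) (fun x => (V i).mem_or_inv_mem x) hred t
      (isIntegralElem_mono A' hle t ht)
  refine mem_range_lTensor_iInf A' _ ?_ t ?_
  · intro x
    exact hfin x
  · intro i
    exact mem_range_lTensor_of_mem_range_lmap A' _ t (hstep i)

end Family

section Heart

variable (A : Type u) [CommRing A] [IsDomain A] [IsNoetherianRing A]
  (K : Type u) [Field K] [Algebra A K] [IsFractionRing A K]
  (A' : Type u) [CommRing A'] [Algebra A A'] [Module.Flat A A']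

/-- The heart at a prime. -/
theorem heart_at_prime
    (hred : ∀ (κ : Type u) [Field κ] [Algebra A κ], IsReduced (A' ⊗[A] κ))
    (p : Ideal A) [p.IsPrime] (t : A' ⊗[A] K)
    (ht : (lmap A' (integralClosure A K)).toRingHom.IsIntegralElem t) :
    ∃ s : A, s ∉ p ∧ s • t ∈ (lmap A' (integralClosure A K)).range := by
  classical
  have hunits : ∀ y : p.primeCompl, IsUnit (algebraMap A K y) := fun y => by
    refine IsUnit.mk0 _ ?_
    intro h0
    apply y.2
    have : (y : A) = 0 := IsFractionRing.injective A K (by rw [h0, map_zero])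
    rw [this]
    exact p.zero_mem
  letI : Algebra (Localization.AtPrime p) K :=
    (IsLocalization.lift (M := p.primeCompl) (g := algebraMap A K) hunits).toAlgebra
  haveI : IsScalarTower A (Localization.AtPrime p) K :=
    IsScalarTower.of_algebraMap_eq fun c => (IsLocalization.lift_eq hunits c).symm
  haveI : IsFractionRing (Localization.AtPrime p) K :=
    IsFractionRing.isFractionRing_of_isDomain_of_isLocalization p.primeCompl
      (Localization.AtPrime p) K
  haveI : IsNoetherianRing (Localization.AtPrime p) :=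
    IsLocalization.isNoetherianRing p.primeCompl _ inferInstance
  obtain ⟨ι, V, hVdvr, hfin, hVC⟩ := local_family (Localization.AtPrime p) K
  have hAV : ∀ i (a : A), algebraMap A K a ∈ V i := by
    intro i a
    refine (hVC _).mp ?_ i
    rw [IsScalarTower.algebraMap_apply A (Localization.AtPrime p) K]
    exact Subalgebra.algebraMap_mem _ _
  have hC : ∀ i, ∀ x ∈ integralClosure A K, x ∈ V i := by
    intro i x hx
    refine (hVC _).mp ?_ i
    exact IsIntegral.tower_top hx
  obtain ⟨y, rfl⟩ := family_step A' hred V hVdvr hAV hfin (integralClosure A K) hC t ht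
  have key : ∀ w ∈ (⨅ i, Subalgebra.toSubmodule (vsub (V i) (hAV i))),
      ∃ s ∈ p.primeCompl, s • w ∈ integralClosure A K := by
    intro w hw
    rw [Submodule.mem_iInf] at hw
    have h1 : w ∈ integralClosure (Localization.AtPrime p) K := (hVC w).mpr (fun i => hw i)
    obtain ⟨s, hs⟩ := IsIntegral.exists_multiple_integral_of_isLocalization p.primeCompl
      (Rₘ := Localization.AtPrime p) w h1
    exact ⟨s, s.2, hs⟩
  obtain ⟨s, hs, hst⟩ := clear_denoms A' _ (integralClosure A K) p.primeCompl key y
  exact ⟨s, hs, hst⟩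

/-- The heart: `A' ⊗ (integral closure)` is integrally closed in `A' ⊗ K`. -/
theorem heart
    (hred : ∀ (κ : Type u) [Field κ] [Algebra A κ], IsReduced (A' ⊗[A] κ))
    (t : A' ⊗[A] K)
    (ht : (lmap A' (integralClosure A K)).toRingHom.IsIntegralElem t) :
    t ∈ (lmap A' (integralClosure A K)).range := by
  let I : Ideal A :=
    { carrier := {s | s • t ∈ (lmap A' (integralClosure A K)).range}
      add_mem' := by
        intro a b ha hb
        simp only [Set.mem_setOf_eq] at ha hb ⊢
        rw [add_smul]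
        exact Subalgebra.add_mem _ ha hb
      zero_mem' := by
        simp only [Set.mem_setOf_eq, zero_smul]
        exact Subalgebra.zero_mem _
      smul_mem' := by
        intro c a ha
        simp only [Set.mem_setOf_eq] at ha ⊢
        rw [smul_eq_mul, mul_smul]
        exact Subalgebra.smul_mem _ ha _ }
  by_contra hnot
  have hI : I ≠ ⊤ := by
    intro htop
    have h1 : (1 : A) ∈ I := by rw [htop]; trivial
    have h2 : (1 : A) • t ∈ (lmap A' (integralClosure A K)).range := h1
    rw [one_smul] at h2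
    exact hnot h2
  obtain ⟨m, hm, hIm⟩ := Ideal.exists_le_maximal _ hI
  haveI := hm.isPrime
  obtain ⟨s, hs, hst⟩ := heart_at_prime A K A' hred m t ht
  exact hs (hIm hst)

end Heart

end Groth.Agent.Lib.NBCH3
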