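import Mathlib
import Groth.Prelude.Def_EGA4b
import Groth.Agent.Lib.NorComplT_helper3
import Groth.Agent.Lib.NormalDescent_helper9

/-!
# Integrally closed domains: `(1+J)⁻¹A` versus the `J`-adic completion (helper3)

* `connectedSpace_of_idem`, `idem_of_connectedSpace` : connectedness of `Spec R` ⇔ trivial
  idempotents.
* `isDomain_of_locally_domain` : a Noetherian ring with connected spectrum, all of whose local rings
  are domains, is a domain.
* `exists_idem_lift` : idempotent lifting in an adically complete ring.
APPEND-ONLY once landed.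
-/

set_option autoImplicit false
set_option maxSynthPendingDepth 3
universe u

open IsLocalRing TensorProduct Polynomial

namespace Groth.Agent.Lib.NorComplT2H3

open Groth.Agent.Lib.NorLocusH3 Groth.Agent.Lib.NormalFlatH3 Groth.Agent.Lib.GeomNormalH3
  Groth.Agent.Lib.RegComplTH3 Groth.Agent.Lib.NorComplTH3

section Idem

theorem connectedSpace_of_idem (R : Type*) [CommRing R] [Nontrivial R]
    (h : ∀ e : R, IsIdempotentElem e → e = 0 ∨ e = 1) : ConnectedSpace (PrimeSpectrum R) := by
  haveI : PreconnectedSpace (PrimeSpectrum R) := by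
    rw [preconnectedSpace_iff_clopen]
    intro s hs
    obtain ⟨e, he, rfl⟩ := PrimeSpectrum.isClopen_iff.mp hs
    rcases h e he with rfl | rfl
    · left; simp
    · right; simp
  exact ConnectedSpace.mk inferInstance

theorem idem_of_connectedSpace (R : Type*) [CommRing R] [ConnectedSpace (PrimeSpectrum R)]
    (e : R) (he : IsIdempotentElem e) : e = 0 ∨ e = 1 := by
  have key : ∀ e : R, IsIdempotentElem e → (PrimeSpectrum.basicOpen e : Set (PrimeSpectrum R)) = ∅ →
      e = 0 := by
    intro e he h
    have h1 : PrimeSpectrum.basicOpen e = ⊥ := by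
      ext1
      simpa using h
    rw [PrimeSpectrum.basicOpen_eq_bot_iff] at h1
    obtain ⟨n, hn⟩ := h1
    rcases Nat.eq_zero_or_pos n with rfl | hpos
    · rw [pow_zero] at hn
      rw [← mul_one e, hn, mul_zero]
    · obtain ⟨m, rfl⟩ := Nat.exists_eq_succ_of_ne_zero hpos.ne'
      rwa [he.pow_succ_eq] at hn
  have hclopen : IsClopen (PrimeSpectrum.basicOpen e : Set (PrimeSpectrum R)) :=
    PrimeSpectrum.isClopen_iff.mpr ⟨e, he, rfl⟩
  rcases isClopen_iff.mp hclopen with h | h
  · left; exact key e he h
  · right
    have h2 : (PrimeSpectrum.basicOpen (1 - e) : Set (PrimeSpectrum R)) = ∅ := by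
      rw [← PrimeSpectrum.zeroLocus_eq_basicOpen_of_isIdempotentElem e he]
      rw [PrimeSpectrum.basicOpen_eq_zeroLocus_compl] at h
      exact Set.compl_univ_iff.mp h
    have := key (1 - e) he.one_sub h2
    exact (sub_eq_zero.mp this).symm

end Idem

section LocDomain

variable (R : Type*) [CommRing R] [IsNoetherianRing R]

/-- a minimal prime of a locally-domain ring is idempotent as an ideal -/
theorem minimalPrime_sq (h : ∀ (m : Ideal R) [m.IsMaximal], IsDomain (Localization.AtPrime m))
    (p : Ideal R) (hp : p ∈ minimalPrimes R) : p * p = p := by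
  haveI hpp : p.IsPrime := hp.1.1
  refine le_antisymm Ideal.mul_le_left ?_
  intro x hx
  by_contra hx2
  let I : Ideal R := (p * p).colon {x}
  have hI : ∀ r : R, r ∈ I ↔ r * x ∈ p * p := fun r => Submodule.mem_colon_singleton
  have hItop : I ≠ ⊤ := by
    intro htop
    have : (1 : R) ∈ I := htop ▸ Submodule.mem_top
    rw [hI, one_mul] at this
    exact hx2 this
  obtain ⟨m, hm, hIm⟩ := Ideal.exists_le_maximal I hItop
  haveI := hm
  by_cases hpm : p ≤ m
  · haveI := h m
    let q : Ideal R := (⊥ : Ideal (Localization.AtPrime m)).comap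
      (algebraMap R (Localization.AtPrime m))
    haveI : (⊥ : Ideal (Localization.AtPrime m)).IsPrime := Ideal.isPrime_bot
    haveI : q.IsPrime := Ideal.comap_isPrime _ _
    have hqp : q ≤ p := by
      intro r hr
      have hr0 : algebraMap R (Localization.AtPrime m) r = 0 := hr
      obtain ⟨s, hs⟩ := (IsLocalization.map_eq_zero_iff m.primeCompl _ _).mp hr0
      have h1 : (s : R) * r ∈ p := by rw [hs]; exact p.zero_mem
      exact (hpp.mem_or_mem h1).resolve_left (fun hsp => s.2 (hpm hsp))
    have hpq : p ≤ q := hp.2 ⟨inferInstance, bot_le⟩ hqp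
    have hx0 : algebraMap R (Localization.AtPrime m) x = 0 := hpq hx
    obtain ⟨s, hs⟩ := (IsLocalization.map_eq_zero_iff m.primeCompl _ _).mp hx0
    have : (s : R) ∈ I := by
      rw [hI, hs]
      exact (p * p).zero_mem
    exact s.2 (hIm this)
  · obtain ⟨s, hsp, hsm⟩ := Set.not_subset.mp hpm
    have : s ∈ I := by
      rw [hI]
      exact Ideal.mul_mem_mul hsp hx
    exact hsm (hIm this)

theorem isDomain_of_locally_domain [ConnectedSpace (PrimeSpectrum R)]
    (h : ∀ (m : Ideal R) [m.IsMaximal], IsDomain (Localization.AtPrime m)) : IsDomain R := by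
  obtain ⟨x⟩ := (inferInstance : Nonempty (PrimeSpectrum R))
  obtain ⟨p, hp, -⟩ := Ideal.exists_minimalPrimes_le (bot_le : (⊥ : Ideal R) ≤ x.asIdeal)
  haveI hpp : p.IsPrime := hp.1.1
  have hsq := minimalPrime_sq R h p hp
  obtain ⟨e, he, hpe⟩ := (Ideal.isIdempotentElem_iff_of_fg p (IsNoetherian.noetherian p)).mp hsq
  rcases idem_of_connectedSpace R e he with rfl | rfl
  · have hbot : p = ⊥ := by rw [hpe]; simp
    haveI : (⊥ : Ideal R).IsPrime := hbot ▸ hpp
    exact IsDomain.of_bot_isPrime R
  · exfalso
    apply hpp.ne_top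
    rw [hpe]
    simp

end LocDomain

section Lift

theorem exists_idem_lift (R : Type*) [CommRing R] (I : Ideal R) [IsAdicComplete I R] (a : R)
    (ha : a * a - a ∈ I) : ∃ e : R, IsIdempotentElem e ∧ e - a ∈ I := by
  have hmonic : (X ^ 2 - X : R[X]).Monic := Polynomial.monic_X_pow_sub
    (lt_of_le_of_lt Polynomial.degree_X_le (by norm_num))
  have hder : Polynomial.derivative (X ^ 2 - X : R[X]) = 2 * X - 1 := by
    simp
    norm_num
  obtain ⟨e, he, hea⟩ := HenselianRing.is_henselian (I := I) (X ^ 2 - X) hmonic a
    (by simpa [pow_two] using ha) (by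
      rw [hder]
      simp only [eval_sub, eval_mul, eval_X, eval_one, eval_ofNat]
      apply IsUnit.of_mul_eq_one (Ideal.Quotient.mk I (2 * a - 1))
      rw [← map_mul, ← map_one (Ideal.Quotient.mk I), ← sub_eq_zero, ← map_sub,
        Ideal.Quotient.eq_zero_iff_mem]
      have : (2 * a - 1) * (2 * a - 1) - 1 = 4 * (a * a - a) := by ring
      rw [this]
      exact I.mul_mem_left _ ha)
  refine ⟨e, ?_, hea⟩
  have h1 : e ^ 2 - e = 0 := by simpa [Polynomial.IsRoot] using he
  unfold IsIdempotentElem
  rw [← sub_eq_zero, ← h1]
  ring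

end Lift

section Main

variable (A : Type u) [CommRing A] [IsNoetherianRing A] (J : Ideal A)

theorem idem_trivial_completion [ConnectedSpace (PrimeSpectrum (A ⧸ J))]
    (e : AdicCompletion J A) (he : IsIdempotentElem e) : e = 0 ∨ e = 1 := by
  have fg : J.FG := IsNoetherian.noetherian J
  haveI := AdicCompletion.isAdicComplete_self J fg
  have key : ∀ e : AdicCompletion J A, IsIdempotentElem e →
      AdicCompletion.evalOneₐ J e = 0 → e = 0 := by
    intro e he h0
    have h1 : e ∈ J.map (algebraMap A (AdicCompletion J A)) := by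
      rw [← AdicCompletion.ker_evalOneₐ_eq_map J fg]
      exact h0
    have h2 := (IsAdicComplete.le_jacobson_bot (J.map (algebraMap A (AdicCompletion J A)))) h1
    rw [Ideal.mem_jacobson_bot] at h2
    have h3 := h2 (-1)
    have h4 : e * (e * (-1) + 1) = 0 := by
      have := he.eq
      linear_combination (-1 : AdicCompletion J A) * this
    exact (h3.mul_left_eq_zero).mp h4
  have hi : IsIdempotentElem (AdicCompletion.evalOneₐ J e) := he.map _
  rcases idem_of_connectedSpace _ _ hi with h | h
  · left; exact key e he h
  · right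
    have := key (1 - e) he.one_sub (by rw [map_sub, map_one, h, sub_self])
    exact (sub_eq_zero.mp this).symm

theorem faithfullyFlat_localization (T : Submonoid A)
    (hT : T = MonoidHom.mker (Ideal.Quotient.mk J))
    [Algebra (Localization T) (AdicCompletion J A)]
    [IsScalarTower A (Localization T) (AdicCompletion J A)] :
    Module.FaithfullyFlat (Localization T) (AdicCompletion J A) := by
  haveI : Module.Flat A (AdicCompletion J A) := AdicCompletion.flat_of_isNoetherian J
  haveI : Module.Flat (Localization T) (AdicCompletion J A) := by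
    rw [Module.flat_iff_of_isLocalization (Localization T) T]
    infer_instance
  refine ⟨fun m hm ↦ ?_⟩
  haveI := hm
  obtain ⟨Q, hQmax, hQ⟩ := exists_prime_over A J T hT m
  have hmQ : m = Q.comap (algebraMap (Localization T) (AdicCompletion J A)) := by
    have h1 : (Q.comap (algebraMap (Localization T) (AdicCompletion J A))).comap
        (algebraMap A (Localization T)) = m.comap (algebraMap A (Localization T)) := by
      rw [Ideal.comap_comap, ← IsScalarTower.algebraMap_eq]
      exact hQ
    have h2 := congrArg (Ideal.map (algebraMap A (Localization T))) h1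
    rw [IsLocalization.map_comap T (Localization T), IsLocalization.map_comap T (Localization T)]
      at h2
    exact h2.symm
  rw [Ideal.smul_top_eq_map, hmQ]
  exact (Submodule.restrictScalars_eq_top_iff _ _ _).ne.mpr
    fun top ↦ hQmax.ne_top <| top_le_iff.mp <| top ▸ Ideal.map_comap_le

theorem main2 (hJ : J ≠ ⊤) (hf : EGA4.IsNormalHom A (AdicCompletion J A))
    (T : Submonoid A) (hT : T = MonoidHom.mker (Ideal.Quotient.mk J)) :
    (IsDomain (AdicCompletion J A) ∧ IsIntegrallyClosed (AdicCompletion J A)) ↔
      ((IsDomain (Localization T) ∧ IsIntegrallyClosed (Localization T)) ∧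
        ConnectedSpace (PrimeSpectrum (A ⧸ J))) := by
  have fg : J.FG := IsNoetherian.noetherian J
  haveI := AdicCompletion.isAdicComplete_self J fg
  haveI : Nontrivial (A ⧸ J) := Ideal.Quotient.nontrivial_iff.mpr hJ
  constructor
  · rintro ⟨hd, hic⟩
    haveI := hd
    haveI := hic
    have hunits : ∀ t : T, IsUnit (algebraMap A (AdicCompletion J A) t) :=
      fun t => isUnit_algebraMap_of_mem_mker A J t (hT ▸ t.2)
    letI : Algebra (Localization T) (AdicCompletion J A) :=
      (IsLocalization.lift (M := T) hunits).toAlgebra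
    haveI : IsScalarTower A (Localization T) (AdicCompletion J A) :=
      IsScalarTower.of_algebraMap_eq fun a => (IsLocalization.lift_eq hunits a).symm
    haveI := faithfullyFlat_localization A J T hT
    refine ⟨⟨Groth.Agent.Lib.NormalDescent.isDomain_of_faithfullyFlat (Localization T)
      (AdicCompletion J A),
      Groth.Agent.Lib.NormalDescent.isIntegrallyClosed_of_faithfullyFlat _
        (AdicCompletion J A)⟩, ?_⟩
    apply connectedSpace_of_idem
    intro ebar he
    obtain ⟨a, rfl⟩ := Ideal.Quotient.mk_surjective ebar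
    have ha : a * a - a ∈ J := by
      rw [← Ideal.Quotient.eq_zero_iff_mem, map_sub, map_mul, he.eq, sub_self]
    have ha' : algebraMap A (AdicCompletion J A) a * algebraMap A (AdicCompletion J A) a -
        algebraMap A (AdicCompletion J A) a ∈ J.map (algebraMap A (AdicCompletion J A)) := by
      rw [← map_mul, ← map_sub]
      exact Ideal.mem_map_of_mem _ ha
    obtain ⟨e, he', hea⟩ := exists_idem_lift (AdicCompletion J A)
      (J.map (algebraMap A (AdicCompletion J A))) _ ha'
    have hker : ∀ x ∈ J.map (algebraMap A (AdicCompletion J A)),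
        AdicCompletion.evalOneₐ J x = 0 := by
      intro x hx
      rw [← AdicCompletion.ker_evalOneₐ_eq_map J fg] at hx
      exact hx
    have h1 := hker _ hea
    rw [map_sub, AlgHom.commutes] at h1
    rcases IsIdempotentElem.iff_eq_zero_or_one.mp he' with rfl | rfl
    · left
      rw [map_zero, zero_sub, neg_eq_zero] at h1
      exact h1
    · right
      rw [map_one, sub_eq_zero] at h1
      exact h1.symm
  · rintro ⟨⟨hd, hic⟩, hconn⟩
    haveI := hd
    haveI := hic
    haveI := hconn
    haveI := ComplRegH3.isNoetherianRing_adicCompletion A J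
    have hnT : EGA4.IsNormalRing (Localization T) := by
      intro P hP
      exact ⟨inferInstance, isIntegrallyClosed_of_isLocalization _ P.primeCompl
        (Ideal.primeCompl_le_nonZeroDivisors P)⟩
    have hn := forward A J hf T hT hnT
    haveI : Nontrivial (AdicCompletion J A) :=
      (AdicCompletion.evalOneₐ_surjective J).nontrivial
    haveI : ConnectedSpace (PrimeSpectrum (AdicCompletion J A)) :=
      connectedSpace_of_idem _ (idem_trivial_completion A J)
    haveI hdom : IsDomain (AdicCompletion J A) :=
      isDomain_of_locally_domain _ (fun m _ => (hn m).1)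
    refine ⟨hdom, IsIntegrallyClosed.of_localization_maximal (fun m _ hm => ?_)⟩
    haveI := hm
    exact (hn m).2

end Main

end Groth.Agent.Lib.NorComplT2H3
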