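import Mathlib
import Groth.Prelude.Def_EGA4b
import Groth.Agent.Lib.GeomNormal2_helper3
import Groth.Agent.Lib.GeomNormalSep_helper3
import Groth.Agent.Lib.NorComplT2_helper3
import Groth.Agent.Lib.SepSmooth_helper3
import Groth.Agent.Lib.PInsepDescent_helper3

/-!
# Non-Noetherian base change of normality along separable field extensions (helper3)

Uses Mathlib's "smooth base change commutes with integral closure"
(`TensorProduct.toIntegralClosure_bijective_of_smooth`).

* `isNormalRing_of_isIntegrallyClosedIn` : a ring integrally closed in a Noetherian normal overring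
  is normal.
* `isNormalRing_tensor_of_formallySmooth'` : `A` normal `k`-algebra (arbitrary), `L/k` a finitely
  generated separable field extension ⇒ `L ⊗[k] A` normal.
APPEND-ONLY once landed.
-/

set_option autoImplicit false
set_option maxSynthPendingDepth 3
universe u

open TensorProduct Polynomial

namespace Groth.Agent.Lib.NormalSmoothBCH3

open Groth.Agent.Lib

theorem idem_of_isLocalRing (R : Type*) [CommRing R] [IsLocalRing R] (e : R)
    (he : IsIdempotentElem e) : e = 0 ∨ e = 1 := by
  have h0 : e * (1 - e) = 0 := by rw [mul_sub, mul_one, he.eq, sub_self]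
  rcases IsLocalRing.isUnit_or_isUnit_one_sub_self e with h | h
  · right
    have := (h.mul_right_eq_zero).mp h0
    exact (sub_eq_zero.mp this).symm
  · left
    exact (h.mul_left_eq_zero).mp h0

/-- an integrally closed domain is a normal ring -/
theorem isNormalRing_of_isIntegrallyClosed (R : Type u) [CommRing R] [IsDomain R]
    [IsIntegrallyClosed R] : EGA4.IsNormalRing R := by
  intro p hp
  exact ⟨inferInstance,
    isIntegrallyClosed_of_isLocalization _ p.primeCompl p.primeCompl_le_nonZeroDivisors⟩

section N1

variable (R T : Type u) [CommRing R] [CommRing T] [Algebra R T]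

/-- integral closedness in an overring localizes -/
theorem exists_of_isIntegral_localization
    (hic : ∀ t : T, IsIntegral R t → ∃ r : R, algebraMap R T r = t) (P : Ideal R) [P.IsPrime]
    (s : Localization (Algebra.algebraMapSubmonoid T P.primeCompl))
    (hs : IsIntegral (Localization.AtPrime P) s) :
    ∃ r : Localization.AtPrime P,
      algebraMap (Localization.AtPrime P)
        (Localization (Algebra.algebraMapSubmonoid T P.primeCompl)) r = s := by
  obtain ⟨⟨x, ⟨_, m₁, hm₁, rfl⟩⟩, e⟩ :=
    IsLocalization.surj (Algebra.algebraMapSubmonoid T P.primeCompl) s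
  obtain ⟨⟨m₂, hm₂⟩, hm₂s⟩ :=
    IsIntegral.exists_multiple_integral_of_isLocalization P.primeCompl s hs
  simp only at e
  have e' : s * algebraMap R (Localization (Algebra.algebraMapSubmonoid T P.primeCompl)) m₁ =
      algebraMap T _ x := by
    rw [IsScalarTower.algebraMap_apply R T]
    exact e
  have hm₂s' : IsIntegral R
      (algebraMap R (Localization (Algebra.algebraMapSubmonoid T P.primeCompl)) m₂ * s) := by
    have := hm₂s
    rw [Submonoid.smul_def, Algebra.smul_def] at this
    exact this
  have h3 : IsIntegral R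
      (algebraMap T (Localization (Algebra.algebraMapSubmonoid T P.primeCompl)) (m₂ • x)) := by
    have : algebraMap T (Localization (Algebra.algebraMapSubmonoid T P.primeCompl)) (m₂ • x) =
        (algebraMap R _ m₂ * s) * algebraMap R _ m₁ := by
      rw [Algebra.smul_def, map_mul, ← e', ← IsScalarTower.algebraMap_apply]
      ring
    rw [this]
    exact hm₂s'.mul isIntegral_algebraMap
  obtain ⟨m₃, hm₃, hm₃s⟩ := IsLocalization.exists_isIntegral_smul_of_isIntegral_map
    (Sₘ := Localization (Algebra.algebraMapSubmonoid T P.primeCompl)) P.primeCompl h3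
  obtain ⟨r, hr⟩ := hic _ hm₃s
  have hd : m₁ * m₂ * m₃ ∈ P.primeCompl := mul_mem (mul_mem hm₁ hm₂) hm₃
  refine ⟨IsLocalization.mk' _ r ⟨m₁ * m₂ * m₃, hd⟩, ?_⟩
  have hunit : IsUnit (algebraMap R
      (Localization (Algebra.algebraMapSubmonoid T P.primeCompl)) (m₁ * m₂ * m₃)) := by
    rw [IsScalarTower.algebraMap_apply R T]
    exact IsLocalization.map_units _
      (⟨algebraMap R T (m₁ * m₂ * m₃), ⟨_, hd, rfl⟩⟩ : Algebra.algebraMapSubmonoid T P.primeCompl)
  apply hunit.mul_left_injective
  show _ * _ = _ * _
  have h4 : algebraMap (Localization.AtPrime P)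
      (Localization (Algebra.algebraMapSubmonoid T P.primeCompl))
      (IsLocalization.mk' _ r ⟨m₁ * m₂ * m₃, hd⟩) *
      algebraMap R _ (m₁ * m₂ * m₃) = algebraMap R _ r := by
    rw [IsScalarTower.algebraMap_apply R (Localization.AtPrime P), ← map_mul,
      IsLocalization.mk'_spec, ← IsScalarTower.algebraMap_apply]
  rw [h4]
  have h5 : s * algebraMap R (Localization (Algebra.algebraMapSubmonoid T P.primeCompl))
      (m₁ * m₂ * m₃) = algebraMap T _ (m₃ • m₂ • x) := by
    calc s * algebraMap R (Localization (Algebra.algebraMapSubmonoid T P.primeCompl))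
          (m₁ * m₂ * m₃)
        = (s * algebraMap R _ m₁) * (algebraMap R _ m₂ * algebraMap R _ m₃) := by
          rw [map_mul, map_mul]; ring
      _ = algebraMap T _ x * (algebraMap R _ m₂ * algebraMap R _ m₃) := by rw [e']
      _ = algebraMap T _ (m₃ • m₂ • x) := by
          rw [Algebra.smul_def, Algebra.smul_def, map_mul, map_mul,
            ← IsScalarTower.algebraMap_apply, ← IsScalarTower.algebraMap_apply]
          ring
  rw [h5, ← hr, ← IsScalarTower.algebraMap_apply]

/-- A ring which is integrally closed in a Noetherian normal overring is normal. -/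
theorem isNormalRing_of_isIntegrallyClosedIn [IsNoetherianRing T]
    (hinj : Function.Injective (algebraMap R T))
    (hic : ∀ t : T, IsIntegral R t → ∃ r : R, algebraMap R T r = t)
    (hT : EGA4.IsNormalRing T) : EGA4.IsNormalRing R := by
  intro P hP
  have hinjP : Function.Injective (algebraMap (Localization.AtPrime P)
      (Localization (Algebra.algebraMapSubmonoid T P.primeCompl))) :=
    localizationAlgebra_injective (Localization.AtPrime P)
      (Localization (Algebra.algebraMapSubmonoid T P.primeCompl)) hinj
  have hicP := exists_of_isIntegral_localization R T hic P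
  haveI : IsNoetherianRing (Localization (Algebra.algebraMapSubmonoid T P.primeCompl)) :=
    IsLocalization.isNoetherianRing (Algebra.algebraMapSubmonoid T P.primeCompl) _ inferInstance
  have hTPn : EGA4.IsNormalRing (Localization (Algebra.algebraMapSubmonoid T P.primeCompl)) :=
    GeomNormalSepH3.isNormalRing_of_isLocalization T
      (Algebra.algebraMapSubmonoid T P.primeCompl) _ hT
  haveI : Nontrivial (Localization (Algebra.algebraMapSubmonoid T P.primeCompl)) :=
    hinjP.nontrivial
  haveI : ConnectedSpace
      (PrimeSpectrum (Localization (Algebra.algebraMapSubmonoid T P.primeCompl))) := by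
    apply NorComplT2H3.connectedSpace_of_idem
    intro e he
    have hint : IsIntegral (Localization.AtPrime P) e := by
      refine ⟨X ^ 2 - X, Polynomial.monic_X_pow_sub
        (lt_of_le_of_lt Polynomial.degree_X_le (by norm_num)), ?_⟩
      simp [pow_two, he.eq]
    obtain ⟨a, rfl⟩ := hicP e hint
    have ha : IsIdempotentElem a := hinjP (by rw [map_mul]; exact he)
    rcases idem_of_isLocalRing _ a ha with rfl | rfl
    · left; simp
    · right; simp
  haveI : IsDomain (Localization (Algebra.algebraMapSubmonoid T P.primeCompl)) :=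
    NorComplT2H3.isDomain_of_locally_domain _ (fun m _ => (hTPn m).1)
  haveI : IsIntegrallyClosed (Localization (Algebra.algebraMapSubmonoid T P.primeCompl)) :=
    IsIntegrallyClosed.of_localization_maximal (fun m _ _ => (hTPn m).2)
  haveI : IsDomain (Localization.AtPrime P) := hinjP.isDomain _
  refine ⟨inferInstance, ?_⟩
  have hinjF : Function.Injective (algebraMap (Localization.AtPrime P)
      (FractionRing (Localization (Algebra.algebraMapSubmonoid T P.primeCompl)))) := by
    rw [IsScalarTower.algebraMap_eq (Localization.AtPrime P)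
      (Localization (Algebra.algebraMapSubmonoid T P.primeCompl))
      (FractionRing (Localization (Algebra.algebraMapSubmonoid T P.primeCompl)))]
    exact (IsFractionRing.injective
      (Localization (Algebra.algebraMapSubmonoid T P.primeCompl)) _).comp hinjP
  rw [isIntegrallyClosed_iff (FractionRing (Localization.AtPrime P))]
  intro x hx
  let φ : FractionRing (Localization.AtPrime P) →ₐ[Localization.AtPrime P]
      FractionRing (Localization (Algebra.algebraMapSubmonoid T P.primeCompl)) :=
    { IsFractionRing.lift hinjF with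
      commutes' := fun r => IsFractionRing.lift_algebraMap hinjF r }
  have h1 : IsIntegral (Localization.AtPrime P) (φ x) := hx.map φ
  have h2 : IsIntegral (Localization (Algebra.algebraMapSubmonoid T P.primeCompl)) (φ x) :=
    h1.tower_top
  obtain ⟨t, ht⟩ := IsIntegrallyClosed.isIntegral_iff.mp h2
  have h3 : IsIntegral (Localization.AtPrime P) t := by
    rw [← ht] at h1
    exact (isIntegral_algebraMap_iff (IsFractionRing.injective _ _)).mp h1
  obtain ⟨r, hr⟩ := hicP t h3
  refine ⟨r, ?_⟩
  apply φ.toRingHom.injective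
  show φ (algebraMap _ _ r) = φ x
  rw [φ.commutes, ← ht, ← hr, ← IsScalarTower.algebraMap_apply]

end N1

section SmoothModel

/-- A finitely generated formally smooth field extension is a localization of a smooth algebra. -/
theorem exists_smooth_model (k L : Type u) [Field k] [Field L] [Algebra k L]
    [Algebra.EssFiniteType k L] [Algebra.FormallySmooth k L] :
    ∃ (S : Type u) (_ : CommRing S) (_ : Algebra k S) (_ : Algebra S L) (_ : IsScalarTower k S L)
      (M : Submonoid S), Algebra.Smooth k S ∧ IsLocalization M L := by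
  obtain ⟨S₀, M₀, hft, hloc⟩ := (Algebra.essFiniteType_iff_exists_subalgebra k L).mp
    (inferInstance : Algebra.EssFiniteType k L)
  haveI := hft
  haveI := hloc
  haveI : Algebra.FinitePresentation k S₀ := Algebra.FinitePresentation.of_finiteType.mp hft
  have hinj0 : Function.Injective (algebraMap S₀ L) := Subtype.val_injective
  haveI : FaithfulSMul S₀ L := (faithfulSMul_iff_algebraMap_injective S₀ L).mpr hinj0
  haveI : IsFractionRing S₀ L := by
    apply IsFractionRing.of_field
    intro z
    obtain ⟨a, m, rfl⟩ := IsLocalization.exists_mk'_eq M₀ z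
    refine ⟨a, m, ?_⟩
    have hm : algebraMap S₀ L m ≠ 0 := (IsLocalization.map_units L m).ne_zero
    rw [eq_div_iff hm, IsLocalization.mk'_spec]
  have hloc' : IsLocalization (⊥ : Ideal S₀).primeCompl L := by
    rw [Ideal.primeCompl_bot]
    infer_instance
  haveI : (⊥ : Ideal S₀).IsPrime := Ideal.bot_prime
  haveI : IsLocalization.AtPrime L (⊥ : Ideal S₀) := hloc'
  let e : Localization.AtPrime (⊥ : Ideal S₀) ≃ₐ[S₀] L :=
    IsLocalization.algEquiv (⊥ : Ideal S₀).primeCompl _ _
  haveI : Algebra.IsSmoothAt k (⊥ : Ideal S₀) :=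
    Algebra.FormallySmooth.of_equiv (e.restrictScalars k).symm
  obtain ⟨f, hf, hsm⟩ := Algebra.IsSmoothAt.exists_notMem_smooth k (⊥ : Ideal S₀)
  have hf0 : f ≠ 0 := fun h => hf (by rw [h]; exact Ideal.zero_mem _)
  have hunit : IsUnit (algebraMap S₀ L f) :=
    ((map_ne_zero_iff _ hinj0).mpr hf0).isUnit
  letI : Algebra (Localization.Away f) L := (IsLocalization.Away.lift f hunit).toAlgebra
  haveI : IsScalarTower S₀ (Localization.Away f) L := IsScalarTower.of_algebraMap_eq
    (fun x => (IsLocalization.Away.lift_eq f hunit x).symm)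
  haveI : IsScalarTower k (Localization.Away f) L := IsScalarTower.of_algebraMap_eq (fun x => by
    rw [IsScalarTower.algebraMap_apply k S₀ (Localization.Away f),
      ← IsScalarTower.algebraMap_apply S₀ (Localization.Away f) L,
      ← IsScalarTower.algebraMap_apply k S₀ L])
  have hle : Submonoid.powers f ≤ nonZeroDivisors S₀ :=
    powers_le_nonZeroDivisors_of_noZeroDivisors hf0
  have hlocL := IsLocalization.isLocalization_of_submonoid_le (Localization.Away f) L
    (Submonoid.powers f) (nonZeroDivisors S₀) hle
  exact ⟨Localization.Away f, inferInstance, inferInstance, inferInstance, inferInstance, _,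
    hsm, hlocL⟩

end SmoothModel

section Core

variable (k : Type u) [Field k] (L : Type u) [Field L] [Algebra k L] [Algebra.EssFiniteType k L]
  [Algebra.FormallySmooth k L]

/-- base change along `A' → A' ⊗[k] L` commutes with integral closure. -/
theorem toIntegralClosure_bijective (A' : Type u) [CommRing A'] [Algebra k A'] (B : Type u)
    [CommRing B] [Algebra A' B] :
    Function.Bijective (TensorProduct.toIntegralClosure A' (A' ⊗[k] L) B) := by
  obtain ⟨S₀, _, _, _, _, M, hsm, hloc⟩ := exists_smooth_model k L
  haveI := hsm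
  haveI := hloc
  obtain ⟨alg, hloc', hmap⟩ := RegHomBCH3.exists_isLocalization_tensor k A' S₀ M L
  letI := alg
  haveI := hloc'
  haveI : IsScalarTower A' (A' ⊗[k] S₀) (A' ⊗[k] L) := IsScalarTower.of_algebraMap_eq (fun a => by
    rw [hmap, Algebra.TensorProduct.algebraMap_apply, Algebra.TensorProduct.algebraMap_apply,
      Algebra.TensorProduct.map_tmul, map_one]
    rfl)
  exact TensorProduct.toIntegralClosure_bijective_of_tower (S := A' ⊗[k] S₀)
    TensorProduct.toIntegralClosure_bijective_of_smooth
    (TensorProduct.toIntegralClosure_bijective_of_isLocalization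
      (M.map (Algebra.TensorProduct.includeRight (R := k) (A := A'))))

/-- `L ⊗[k] A'` is normal for an integrally closed domain `A'`. -/
theorem isNormalRing_tensor_of_isIntegrallyClosed (A' : Type u) [CommRing A'] [IsDomain A']
    [IsIntegrallyClosed A'] [Algebra k A'] : EGA4.IsNormalRing (L ⊗[k] A') := by
  let e : (A' ⊗[k] L) ⊗[A'] (FractionRing A') ≃+* L ⊗[k] (FractionRing A') :=
    ((Algebra.TensorProduct.comm A' (A' ⊗[k] L) (FractionRing A')).toRingEquiv.trans
      (Algebra.TensorProduct.cancelBaseChange k A' (FractionRing A') (FractionRing A')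
        L).toRingEquiv).trans
      (Algebra.TensorProduct.comm k (FractionRing A') L).toRingEquiv
  haveI : IsNoetherianRing (L ⊗[k] (FractionRing A')) :=
    GeomRegFSH3.isNoetherianRing_tensor_of_essFiniteType (k := k) (S := FractionRing A') L
  haveI : IsNoetherianRing ((A' ⊗[k] L) ⊗[A'] (FractionRing A')) :=
    isNoetherianRing_of_ringEquiv _ e.symm
  have hK : EGA4.IsNormalRing (FractionRing A') := isNormalRing_of_isIntegrallyClosed _
  have hLK : EGA4.IsNormalRing (L ⊗[k] (FractionRing A')) :=
    GeomNormalH3.isNormalRing_tensor_of_formallySmooth k (FractionRing A') L hK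
  have hT : EGA4.IsNormalRing ((A' ⊗[k] L) ⊗[A'] (FractionRing A')) :=
    GeomNormalH3.isNormalRing_of_ringEquiv e.symm hLK
  have hinj : Function.Injective
      (algebraMap (A' ⊗[k] L) ((A' ⊗[k] L) ⊗[A'] (FractionRing A'))) :=
    Algebra.TensorProduct.includeLeft_injective (S := A' ⊗[k] L)
      (IsFractionRing.injective A' (FractionRing A'))
  have hic : ∀ t : (A' ⊗[k] L) ⊗[A'] (FractionRing A'), IsIntegral (A' ⊗[k] L) t →
      ∃ r : A' ⊗[k] L, algebraMap _ _ r = t := by
    intro t ht
    obtain ⟨y, hy⟩ := (toIntegralClosure_bijective k L A' (FractionRing A')).2 ⟨t, ht⟩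
    have key : ∀ y : (A' ⊗[k] L) ⊗[A'] integralClosure A' (FractionRing A'),
        ∃ r : A' ⊗[k] L, algebraMap (A' ⊗[k] L) ((A' ⊗[k] L) ⊗[A'] (FractionRing A')) r =
          (TensorProduct.toIntegralClosure A' (A' ⊗[k] L) (FractionRing A') y).1 := by
      intro y
      induction y using TensorProduct.induction_on with
      | zero => exact ⟨0, by simp⟩
      | tmul s c =>
        have hc : (c : FractionRing A') ∈ (⊥ : Subalgebra A' (FractionRing A')) := by
          rw [← IsIntegrallyClosed.integralClosure_eq_bot A' (FractionRing A')]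
          exact c.2
        obtain ⟨a, ha⟩ := Algebra.mem_bot.mp hc
        refine ⟨a • s, ?_⟩
        have h1 : (TensorProduct.toIntegralClosure A' (A' ⊗[k] L) (FractionRing A')
            (s ⊗ₜ c)).1 = s ⊗ₜ[A'] (c : FractionRing A') := by
          simp [TensorProduct.toIntegralClosure]
        rw [h1, ← ha, Algebra.TensorProduct.algebraMap_apply, Algebra.algebraMap_eq_smul_one a]
        show (a • s) ⊗ₜ[A'] (1 : FractionRing A') = s ⊗ₜ[A'] (a • 1)
        rw [TensorProduct.smul_tmul]
      | add x y hx hy =>
        obtain ⟨r1, h1⟩ := hx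
        obtain ⟨r2, h2⟩ := hy
        exact ⟨r1 + r2, by rw [map_add, map_add, h1, h2]; rfl⟩
    obtain ⟨r, hr⟩ := key y
    exact ⟨r, by rw [hr, hy]⟩
  have hS : EGA4.IsNormalRing (A' ⊗[k] L) :=
    isNormalRing_of_isIntegrallyClosedIn (A' ⊗[k] L) _ hinj hic hT
  exact GeomNormalH3.isNormalRing_of_ringEquiv (Algebra.TensorProduct.comm k A' L).toRingEquiv hS

end Core

section Reduction

/-- normality of `L ⊗[k] A` can be tested after localizing `A` at its primes. -/
theorem isNormalRing_tensor_of_forall_localization (k L A : Type u) [Field k] [CommRing L]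
    [Algebra k L] [CommRing A] [Algebra k A]
    (h : ∀ (q : Ideal A) [q.IsPrime], EGA4.IsNormalRing (L ⊗[k] Localization.AtPrime q)) :
    EGA4.IsNormalRing (L ⊗[k] A) := by
  intro Q hQ
  let ι : A →+* L ⊗[k] A := (Algebra.TensorProduct.includeRight : A →ₐ[k] L ⊗[k] A).toRingHom
  let q : Ideal A := Q.comap ι
  haveI : q.IsPrime := Ideal.comap_isPrime ι Q
  obtain ⟨alg, hloc, -⟩ :=
    RegHomBCH3.exists_isLocalization_tensor k L A q.primeCompl (Localization.AtPrime q)
  letI := alg
  haveI := hloc
  have hdisj : Disjoint
      (↑(q.primeCompl.map (Algebra.TensorProduct.includeRight (R := k) (A := L))) :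
        Set (L ⊗[k] A)) (Q : Set (L ⊗[k] A)) := by
    rw [Set.disjoint_left]
    rintro _ ⟨r, hr, rfl⟩ hrQ
    exact hr hrQ
  have hQprime := IsLocalization.isPrime_of_isPrime_disjoint
    (q.primeCompl.map (Algebra.TensorProduct.includeRight (R := k) (A := L)))
    (L ⊗[k] Localization.AtPrime q) Q hQ hdisj
  have hcomap := IsLocalization.under_map_of_isPrime_disjoint
    (q.primeCompl.map (Algebra.TensorProduct.includeRight (R := k) (A := L)))
    (L ⊗[k] Localization.AtPrime q) hQ hdisj
  have h1 := (NorLocusH3.mem_norLocus_under_iff (L ⊗[k] A)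
    (q.primeCompl.map (Algebra.TensorProduct.includeRight (R := k) (A := L)))
    (L ⊗[k] Localization.AtPrime q) ⟨_, hQprime⟩).2 (h q _)
  have h2 : PrimeSpectrum.comap (algebraMap (L ⊗[k] A) (L ⊗[k] Localization.AtPrime q))
      ⟨_, hQprime⟩ = ⟨Q, hQ⟩ := PrimeSpectrum.ext hcomap
  rw [h2] at h1
  exact h1

end Reduction

section Main

variable (k : Type u) [Field k]

/-- **EGA IV 6.14-type**: `A` a normal `k`-algebra (no finiteness assumption), `L/k` a finitely
generated separable field extension ⇒ `L ⊗[k] A` is normal. -/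
theorem isNormalRing_tensor_of_formallySmooth' (L : Type u) [Field L] [Algebra k L]
    [Algebra.EssFiniteType k L] [Algebra.FormallySmooth k L] (A : Type u) [CommRing A]
    [Algebra k A] (hA : EGA4.IsNormalRing A) : EGA4.IsNormalRing (L ⊗[k] A) := by
  apply isNormalRing_tensor_of_forall_localization
  intro q _
  obtain ⟨hd, hic⟩ := hA q
  haveI := hd
  haveI := hic
  exact isNormalRing_tensor_of_isIntegrallyClosed k L (Localization.AtPrime q)

/-- `A` normal, `k'/k` separable (geometrically reduced) ⇒ `k' ⊗[k] A` normal. -/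
theorem isNormalRing_tensor_of_isGeometricallyReduced (A k' : Type u) [CommRing A] [Algebra k A]
    (hA : EGA4.IsNormalRing A) [Field k'] [Algebra k k'] [Algebra.IsGeometricallyReduced k k'] :
    EGA4.IsNormalRing (k' ⊗[k] A) := by
  apply GeomNormal2H3.isNormalRing_tensor_of_forall_fg
  intro L hL
  haveI : Algebra.EssFiniteType k L := IntermediateField.essFiniteType_iff.mpr hL
  haveI : Algebra.IsGeometricallyReduced k L :=
    Algebra.IsGeometricallyReduced.of_injective L.val Subtype.val_injective
  haveI : Algebra.FormallySmooth k L := SepSmoothH3.formallySmooth_of_isGeometricallyReduced k L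
  exact isNormalRing_tensor_of_formallySmooth' k L A hA

end Main

end Groth.Agent.Lib.NormalSmoothBCH3

namespace Groth.Agent.Lib.NormalSmoothBCH3

open Groth.Agent.Lib Groth.Agent.Lib.PInsepDescentH3

section PI

/-- non-Noetherian EGA IV 6.7.7 b) ⇒ c): normality after finite purely inseparable extensions
implies normality after every finitely generated field extension. -/
theorem isNormalRing_tensor_of_forall_pi' (k S : Type u) [Field k] [CommRing S] [Algebra k S]
    (hb : ∀ (k' : Type u) [Field k'] [Algebra k k'], Module.Finite k k' →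
      IsPurelyInseparable k k' → EGA4.IsNormalRing (k' ⊗[k] S))
    (K : Type u) [Field K] [Algebra k K] [Algebra.EssFiniteType k K] :
    EGA4.IsNormalRing (K ⊗[k] S) := by
  obtain ⟨F, hFfin, hmax, hred⟩ := exists_finite_purelyInseparable k K
  haveI := hFfin
  haveI := hmax
  haveI : IsPurelyInseparable k F := IsPurelyInseparable.tower_bot k F (Cp k)
  letI : Field (Groth.Agent.Lib.J2CritH3.EE k K F) := Ideal.Quotient.field _
  letI iFE : Algebra F (Groth.Agent.Lib.J2CritH3.EE k K F) := Ideal.Quotient.algebra F
  letI iSMulFE : SMul F (Groth.Agent.Lib.J2CritH3.EE k K F) := iFE.toSMul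
  haveI : Algebra.IsGeometricallyReduced F (Groth.Agent.Lib.J2CritH3.EE k K F) :=
    (Algebra.isGeometricallyReduced_field_iff _ _).mpr hred
  haveI : Algebra.FormallySmooth F (Groth.Agent.Lib.J2CritH3.EE k K F) :=
    Groth.Agent.Lib.SepSmoothH3.formallySmooth_of_isGeometricallyReduced F _
  haveI : Algebra.EssFiniteType F (F ⊗[k] K) := inferInstance
  haveI : Algebra.FiniteType (F ⊗[k] K) (Groth.Agent.Lib.J2CritH3.EE k K F) :=
    Algebra.FiniteType.of_surjective (Ideal.Quotient.mkₐ (F ⊗[k] K) _)
      (Ideal.Quotient.mkₐ_surjective _ _)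
  haveI : Algebra.EssFiniteType F (Groth.Agent.Lib.J2CritH3.EE k K F) :=
    Algebra.EssFiniteType.comp F (F ⊗[k] K) _
  have hS' : EGA4.IsNormalRing (F ⊗[k] S) := hb F inferInstance inferInstance
  have h1 : EGA4.IsNormalRing ((Groth.Agent.Lib.J2CritH3.EE k K F) ⊗[F] (F ⊗[k] S)) :=
    isNormalRing_tensor_of_formallySmooth' F _ (F ⊗[k] S) hS'
  have h2 : EGA4.IsNormalRing ((Groth.Agent.Lib.J2CritH3.EE k K F) ⊗[k] S) :=
    GeomNormalH3.isNormalRing_of_ringEquiv (Algebra.TensorProduct.cancelBaseChange k F
      (Groth.Agent.Lib.J2CritH3.EE k K F) (Groth.Agent.Lib.J2CritH3.EE k K F) S).toRingEquiv h1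
  letI : Algebra K (Groth.Agent.Lib.J2CritH3.EE k K F) :=
    ((Ideal.Quotient.mk _).comp
      (Algebra.TensorProduct.includeRight : K →ₐ[k] F ⊗[k] K).toRingHom).toAlgebra
  haveI : IsScalarTower k K (Groth.Agent.Lib.J2CritH3.EE k K F) :=
    IsScalarTower.of_algebraMap_eq fun a => by
      change Ideal.Quotient.mk _ (algebraMap k (F ⊗[k] K) a) =
        Ideal.Quotient.mk _ ((1 : F) ⊗ₜ[k] (algebraMap k K a))
      congr 1
      rw [Algebra.TensorProduct.algebraMap_apply, Algebra.algebraMap_eq_smul_one,
        Algebra.algebraMap_eq_smul_one (A := K), TensorProduct.smul_tmul]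
  exact GeomNormal2H3.isNormalRing_of_fieldExt' k K (Groth.Agent.Lib.J2CritH3.EE k K F) S h2

/-- Geometric normality can be tested on finite purely inseparable extensions (no Noetherian
hypothesis). -/
theorem isNormalRing_tensor_of_forall_pi_of_field (k S : Type u) [Field k] [CommRing S]
    [Algebra k S]
    (hb : ∀ (k' : Type u) [Field k'] [Algebra k k'], Module.Finite k k' →
      IsPurelyInseparable k k' → EGA4.IsNormalRing (k' ⊗[k] S))
    (K : Type u) [Field K] [Algebra k K] : EGA4.IsNormalRing (K ⊗[k] S) := by
  apply GeomNormal2H3.isNormalRing_tensor_of_forall_fg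
  intro L hL
  haveI : Algebra.EssFiniteType k L := IntermediateField.essFiniteType_iff.mpr hL
  exact isNormalRing_tensor_of_forall_pi' k S hb L

end PI

end Groth.Agent.Lib.NormalSmoothBCH3
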