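import Mathlib
import Groth.Prelude.Def_EGA4b
import Groth.Agent.Lib.GeomNormal_helper3
import Groth.Agent.Lib.GeomNormal2_helper3
import Groth.Agent.Lib.NormalSmoothBC_helper3
import Groth.Agent.Lib.NorComplT_helper3
import Groth.Agent.Lib.AnUnram_helper3
import Groth.Agent.Lib.ComplTensor_helper3
import Groth.Agent.Lib.HensIntDom_lead
import Groth.Agent.Lib.RegFlat_helper3

/-!
# The completion of a local domain with geometrically normal formal fibres and local
normalization is a domain (helper3)
-/

set_option autoImplicit false

namespace Groth.Agent.Lib.NormalComplDomainH3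

universe u

open TensorProduct IsLocalRing

theorem isReduced_of_isNormalRing (T : Type u) [CommRing T] (h : EGA4.IsNormalRing T) :
    IsReduced T := by
  constructor
  intro x hx
  apply eq_zero_of_localization
  intro J hJ
  haveI : IsDomain (Localization.AtPrime J) := (h J).1
  exact (hx.map (algebraMap T (Localization.AtPrime J))).eq_zero

theorem isDomain_of_isNormalRing_of_isLocalRing (T : Type u) [CommRing T] [IsLocalRing T]
    (h : EGA4.IsNormalRing T) : IsDomain T := by
  haveI : IsDomain (Localization.AtPrime (maximalIdeal T)) := (h (maximalIdeal T)).1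
  have hinj : Function.Injective (algebraMap T (Localization.AtPrime (maximalIdeal T))) := by
    apply IsLocalization.injective (M := (maximalIdeal T).primeCompl)
    intro x hx
    have hu : IsUnit x := by
      by_contra hnu
      exact hx ((mem_maximalIdeal x).2 hnu)
    exact hu.mem_nonZeroDivisors
  exact hinj.isDomain _

section Core

variable (A : Type u) [CommRing A] [IsNoetherianRing A] [IsLocalRing A] [IsDomain A]

theorem injective_algebraMap_bot_residueField :
    Function.Injective (algebraMap A (⊥ : Ideal A).ResidueField) := by
  rw [RingHom.injective_iff_ker_eq_bot, Ideal.ker_algebraMap_residueField]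

theorem isReduced_cpl (hA : EGA4.HasGeomNormalFormalFibres A) : IsReduced (EGA4.Cpl A) := by
  obtain ⟨hloc, hnoeth, hcompl, hff, hlh, hmap⟩ := Groth.Agent.Lib.AnUnramH3.completion_facts A
  haveI := hff
  haveI : Module.Flat A (EGA4.Cpl A) := inferInstance
  have h1 : EGA4.IsNormalRing (EGA4.formalFibre A ⊥) :=
    Groth.Agent.Lib.NorComplTH3.isNormalRing_of_isGeomNormal _ _ (hA ⊥)
  haveI := isReduced_of_isNormalRing _ h1
  have hinj : Function.Injective (Algebra.TensorProduct.includeRight :
      EGA4.Cpl A →ₐ[A] (⊥ : Ideal A).ResidueField ⊗[A] EGA4.Cpl A) :=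
    Algebra.TensorProduct.includeRight_injective (injective_algebraMap_bot_residueField A)
  exact isReduced_of_injective _ hinj

/-- The normalization of `A` is finite. -/
theorem finite_integralClosure (hA : EGA4.HasGeomNormalFormalFibres A) :
    Module.Finite A (integralClosure A (FractionRing A)) := by
  haveI := isReduced_cpl A hA
  exact Groth.Agent.Lib.AnUnramH3.isN1_of_isReduced_completion A

/-- If the normalization `A'` of `A` is local then `Â` is a domain. -/
theorem isDomain_cpl_of_isLocalRing_integralClosure (hA : EGA4.HasGeomNormalFormalFibres A)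
    [IsLocalRing (integralClosure A (FractionRing A))] : IsDomain (EGA4.Cpl A) := by
  obtain ⟨hloc, hnoeth, hcompl, hff, hlh, hmap⟩ := Groth.Agent.Lib.AnUnramH3.completion_facts A
  haveI := hloc
  haveI := hnoeth
  haveI := hff
  haveI hflat : Module.Flat A (EGA4.Cpl A) := inferInstance
  haveI hfin := finite_integralClosure A hA
  haveI : IsNoetherianRing (integralClosure A (FractionRing A)) :=
    IsNoetherianRing.of_finite A _
  haveI : IsIntegrallyClosed (integralClosure A (FractionRing A)) :=
    integralClosure.isIntegrallyClosedOfFiniteExtension (FractionRing A)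
  have hA' : EGA4.IsNormalRing (integralClosure A (FractionRing A)) :=
    Groth.Agent.Lib.NormalSmoothBCH3.isNormalRing_of_isIntegrallyClosed _
  -- the tensor product
  letI algR : Algebra (EGA4.Cpl A) (integralClosure A (FractionRing A) ⊗[A] EGA4.Cpl A) :=
    Algebra.TensorProduct.rightAlgebra
  haveI : Module.Finite (EGA4.Cpl A) (integralClosure A (FractionRing A) ⊗[A] EGA4.Cpl A) :=
    Module.Finite.equiv
      (Algebra.TensorProduct.commRight A (EGA4.Cpl A)
        (integralClosure A (FractionRing A))).toLinearEquiv
  haveI : IsNoetherianRing (integralClosure A (FractionRing A) ⊗[A] EGA4.Cpl A) :=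
    Groth.Agent.Lib.RegFlatH3.isNoetherianRing_tensor_of_essFiniteType' A (EGA4.Cpl A)
      (integralClosure A (FractionRing A))
  have hnormal : EGA4.IsNormalRing (integralClosure A (FractionRing A) ⊗[A] EGA4.Cpl A) :=
    Groth.Agent.Lib.GeomNormal2H3.isNormalRing_baseChange' A (EGA4.Cpl A) ⟨hflat, hA⟩ _ hA'
  -- locality
  haveI : Algebra.IsIntegral A (integralClosure A (FractionRing A)) :=
    Algebra.IsIntegral.of_finite A _
  haveI hlh' : IsLocalHom (algebraMap A (integralClosure A (FractionRing A))) :=
    Groth.Agent.Lib.HensIntDom.isLocalHom_of_integral A _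
  have h1 : (maximalIdeal A).map (algebraMap A (integralClosure A (FractionRing A))) ≤
      maximalIdeal (integralClosure A (FractionRing A)) :=
    ((IsLocalRing.local_hom_TFAE (algebraMap A (integralClosure A (FractionRing A)))).out 0 2).mp
      hlh'
  obtain ⟨k, hk⟩ := Groth.Agent.Lib.ComplTensorH3.exists_jacobson_pow_le A
    (integralClosure A (FractionRing A))
  rw [IsLocalRing.jacobson_eq_maximalIdeal ⊥ bot_ne_top] at hk
  obtain ⟨e, -⟩ := Groth.Agent.Lib.ComplTensorH3.exists_ringEquiv A
    (integralClosure A (FractionRing A)) (maximalIdeal (integralClosure A (FractionRing A))) k h1 hk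
  obtain ⟨hloc', -, -, -, -, -⟩ := Groth.Agent.Lib.AnUnramH3.completion_facts
    (integralClosure A (FractionRing A))
  haveI : IsLocalRing (integralClosure A (FractionRing A) ⊗[A] EGA4.Cpl A) :=
    haveI := hloc'
    e.isLocalRing
  haveI := isDomain_of_isNormalRing_of_isLocalRing _ hnormal
  -- injectivity
  have hinjA : Function.Injective (algebraMap A (integralClosure A (FractionRing A))) := by
    have h2 : Function.Injective (algebraMap A (FractionRing A)) := IsFractionRing.injective A _
    intro x y hxy
    apply h2
    have := congrArg (algebraMap (integralClosure A (FractionRing A)) (FractionRing A)) hxy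
    rwa [← IsScalarTower.algebraMap_apply, ← IsScalarTower.algebraMap_apply] at this
  have hinj : Function.Injective (Algebra.TensorProduct.includeRight :
      EGA4.Cpl A →ₐ[A] integralClosure A (FractionRing A) ⊗[A] EGA4.Cpl A) :=
    Algebra.TensorProduct.includeRight_injective hinjA
  exact hinj.isDomain _

end Core

end Groth.Agent.Lib.NormalComplDomainH3
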