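import Mathlib
import Groth.Prelude
import Groth.Agent.Lib.NBC3_helper3
import Groth.Agent.Lib.GeomNormal2_helper3
import Groth.Agent.Lib.NormalSmoothBC_helper3
import Groth.Agent.Lib.NormalComplDomain_helper3

/-!
# Normal base change for non-Noetherian normal rings (EGA IV 6.14.1), part 4 (helper3)

* `thmN`: `A` Noetherian domain with fraction field `K`, `A → A'` normal with `A'` Noetherian;
  then `A' ⊗ (integral closure of A in K)` is a normal ring.
* `thmN'`: intrinsic version over a finite type `A`-domain `R`.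
APPEND-ONLY once landed.
-/

set_option autoImplicit false
universe u

namespace Groth.Agent.Lib.NBCH3

open TensorProduct Polynomial

section N

variable (A : Type u) [CommRing A] (A' : Type u) [CommRing A'] [Algebra A A']

/-- Fibres of a normal homomorphism over fields are reduced. -/
theorem isReduced_tensor_field_of_isNormalHom [IsNoetherianRing A']
    (h : EGA4.IsNormalHom A A') (κ : Type u) [Field κ] [Algebra A κ] :
    IsReduced (A' ⊗[A] κ) := by
  have h1 := Groth.Agent.Lib.GeomNormal2H3.isNormalRing_tensor_of_isNormalHom' A A' h κ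
  haveI := Groth.Agent.Lib.NormalComplDomainH3.isReduced_of_isNormalRing _ h1
  exact isReduced_of_injective (Algebra.TensorProduct.comm A A' κ).toAlgHom
    (Algebra.TensorProduct.comm A A' κ).injective

variable [IsDomain A] [IsNoetherianRing A]
  (K : Type u) [Field K] [Algebra A K] [IsFractionRing A K]

/-- **Theorem N**. -/
theorem thmN [IsNoetherianRing A'] (h : EGA4.IsNormalHom A A') :
    EGA4.IsNormalRing (A' ⊗[A] integralClosure A K) := by
  haveI : Module.Flat A A' := h.1
  letI : Algebra (A' ⊗[A] integralClosure A K) (A' ⊗[A] K) :=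
    (lmap A' (integralClosure A K)).toRingHom.toAlgebra
  haveI : IsNoetherianRing (A' ⊗[A] K) :=
    IsLocalization.isNoetherianRing (Algebra.algebraMapSubmonoid A' (nonZeroDivisors A))
      (A' ⊗[A] K) inferInstance
  have hT : EGA4.IsNormalRing (A' ⊗[A] K) :=
    Groth.Agent.Lib.GeomNormalH3.isNormalRing_of_ringEquiv
      (Algebra.TensorProduct.comm A K A').toRingEquiv
      (Groth.Agent.Lib.GeomNormal2H3.isNormalRing_tensor_of_isNormalHom' A A' h K)
  refine Groth.Agent.Lib.NormalSmoothBCH3.isNormalRing_of_isIntegrallyClosedIn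
    (A' ⊗[A] integralClosure A K) (A' ⊗[A] K) (lmap_injective A' _) ?_ hT
  intro t ht
  have := heart A K A' (fun κ _ _ => isReduced_tensor_field_of_isNormalHom A A' h κ) t ht
  obtain ⟨r, hr⟩ := this
  exact ⟨r, hr⟩

end N

section N'

variable (A : Type u) [CommRing A] [IsNoetherianRing A] (A' : Type u) [CommRing A'] [Algebra A A']
  [IsNoetherianRing A']
  (R : Type u) [CommRing R] [IsDomain R] [Algebra A R] [Algebra.FiniteType A R]
  (D : Type u) [CommRing D] [IsDomain D] [IsIntegrallyClosed D] [Algebra R D] [Algebra A D]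
  [IsScalarTower A R D] [Algebra.IsIntegral R D]

/-- **Theorem N'**: intrinsic version. -/
theorem thmN' (h : EGA4.IsNormalHom A A')
    (hinj : Function.Injective (algebraMap R D))
    (hfrac : ∀ d : D, ∃ x y : R, y ≠ 0 ∧ algebraMap R D y * d = algebraMap R D x) :
    EGA4.IsNormalRing (A' ⊗[A] D) := by
  haveI : IsNoetherianRing R := Algebra.FiniteType.isNoetherianRing A R
  have hN : EGA4.IsNormalHom R (R ⊗[A] A') :=
    Groth.Agent.Lib.GeomNormal2H3.isNormalHom_baseChange A A' R h
  haveI : IsNoetherianRing (R ⊗[A] A') := by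
    haveI : Algebra.FiniteType A' (A' ⊗[A] R) := inferInstance
    haveI : IsNoetherianRing (A' ⊗[A] R) := Algebra.FiniteType.isNoetherianRing A' _
    exact isNoetherianRing_of_ringEquiv (A' ⊗[A] R) (Algebra.TensorProduct.comm A A' R).toRingEquiv
  -- the fraction field
  let K := FractionRing D
  haveI : IsScalarTower R D K := inferInstance
  have hinjK : Function.Injective (algebraMap R K) := by
    rw [IsScalarTower.algebraMap_eq R D K]
    exact (IsFractionRing.injective D K).comp hinj
  haveI : FaithfulSMul R K := (faithfulSMul_iff_algebraMap_injective _ _).mpr hinjK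
  have hfracK : ∀ d : D, ∃ x y : R, algebraMap R K y ≠ 0 ∧
      algebraMap D K d = algebraMap R K x / algebraMap R K y := by
    intro d
    obtain ⟨x, y, hy, hxy⟩ := hfrac d
    have hy' : algebraMap R K y ≠ 0 := fun h0 => hy (hinjK (by rw [h0, map_zero]))
    refine ⟨x, y, hy', ?_⟩
    rw [eq_div_iff hy', IsScalarTower.algebraMap_apply R D K, IsScalarTower.algebraMap_apply R D K,
      ← map_mul, mul_comm, hxy]
  haveI : IsFractionRing R K := by
    refine IsFractionRing.of_field R K ?_
    intro z
    obtain ⟨d₁, d₂, hd₂, rfl⟩ := IsFractionRing.div_surjective (A := D) z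
    obtain ⟨x₁, y₁, hy₁, h₁⟩ := hfracK d₁
    obtain ⟨x₂, y₂, hy₂, h₂⟩ := hfracK d₂
    have hd₂' : algebraMap D K d₂ ≠ 0 := fun h0 =>
      nonZeroDivisors.ne_zero hd₂ (IsFractionRing.injective D K (by rw [h0, map_zero]))
    have hx₂ : algebraMap R K x₂ ≠ 0 := by
      intro h0
      apply hd₂'
      rw [h₂, h0, zero_div]
    refine ⟨x₁ * y₂, x₂ * y₁, ?_⟩
    rw [h₁, h₂, map_mul, map_mul, div_div_div_eq, mul_comm (algebraMap R K y₁)]
  haveI : IsIntegralClosure D R K :=
    { algebraMap_injective := IsFractionRing.injective D K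
      isIntegral_iff := by
        intro x
        constructor
        · intro hx
          exact IsIntegrallyClosed.isIntegral_iff.mp (IsIntegral.tower_top hx)
        · rintro ⟨y, rfl⟩
          exact (Algebra.IsIntegral.isIntegral (R := R) y).algebraMap }
  let e : D ≃ₐ[R] integralClosure R K := IsIntegralClosure.equiv R D K (integralClosure R K)
  have h1 : EGA4.IsNormalRing ((R ⊗[A] A') ⊗[R] integralClosure R K) := thmN R (R ⊗[A] A') K hN
  -- the chain of isomorphisms
  let e1 : (R ⊗[A] A') ⊗[R] integralClosure R K ≃ₐ[R] (R ⊗[A] A') ⊗[R] D :=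
    Algebra.TensorProduct.congr AlgEquiv.refl e.symm
  let e2 : (R ⊗[A] A') ⊗[R] D ≃ₐ[R] D ⊗[R] (R ⊗[A] A') := Algebra.TensorProduct.comm R _ _
  let e3 : D ⊗[R] (R ⊗[A] A') ≃ₐ[R] D ⊗[A] A' :=
    Algebra.TensorProduct.cancelBaseChange A R R D A'
  let e4 : D ⊗[A] A' ≃ₐ[A] A' ⊗[A] D := Algebra.TensorProduct.comm A D A'
  exact Groth.Agent.Lib.GeomNormalH3.isNormalRing_of_ringEquiv
    (((e1.toRingEquiv.trans e2.toRingEquiv).trans e3.toRingEquiv).trans e4.toRingEquiv) h1

end N'

end Groth.Agent.Lib.NBCH3
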