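import Mathlib
import Groth.Prelude
import Groth.Agent.Lib.NBC4_helper3
import Groth.Agent.Lib.NormalLimit_helper3
import Groth.Agent.Lib.RegHomBC_helper3
import Groth.Agent.Lib.NorLocus_helper3

/-!
# Normal base change for non-Noetherian normal rings (EGA IV 6.14.1), part 5 (helper3)

* `relNorm R`: for a subalgebra `R` of an integrally closed domain `B`, the elements of `B`
  integral over `R` and lying in the fraction field of `R`.
* `normal_tensor_of_domain`: `A' ⊗[A] B` is normal for `B` an integrally closed domain.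
* `main2670`: `A' ⊗[A] B` is normal for `B` a normal ring.
APPEND-ONLY once landed.
-/

set_option autoImplicit false
universe u

namespace Groth.Agent.Lib.NBCH3

open TensorProduct Polynomial

section RelNorm

variable {A : Type*} [CommRing A] {B : Type*} [CommRing B] [IsDomain B] [Algebra A B]

/-- The relative normalization of a subalgebra `R` in the domain `B`. -/
def relNorm (R : Subalgebra A B) : Subalgebra A B where
  carrier := {b | IsIntegral R b ∧ ∃ x y : R, y ≠ 0 ∧ (y : B) * b = x}
  mul_mem' := by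
    rintro b₁ b₂ ⟨h₁, x₁, y₁, hy₁, e₁⟩ ⟨h₂, x₂, y₂, hy₂, e₂⟩
    refine ⟨h₁.mul h₂, x₁ * x₂, y₁ * y₂, mul_ne_zero hy₁ hy₂, ?_⟩
    push_cast
    rw [← e₁, ← e₂]
    ring
  add_mem' := by
    rintro b₁ b₂ ⟨h₁, x₁, y₁, hy₁, e₁⟩ ⟨h₂, x₂, y₂, hy₂, e₂⟩
    refine ⟨h₁.add h₂, y₂ * x₁ + y₁ * x₂, y₁ * y₂, mul_ne_zero hy₁ hy₂, ?_⟩
    push_cast
    rw [← e₁, ← e₂]
    ring
  one_mem' := ⟨isIntegral_one, 1, 1, one_ne_zero, by simp⟩
  zero_mem' := ⟨isIntegral_zero, 0, 1, one_ne_zero, by simp⟩
  algebraMap_mem' := fun a => by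
    refine ⟨?_, algebraMap A R a, 1, one_ne_zero, by simp⟩
    have : algebraMap A B a = algebraMap R B (algebraMap A R a) := rfl
    rw [this]
    exact isIntegral_algebraMap

theorem mem_relNorm (R : Subalgebra A B) (b : B) :
    b ∈ relNorm R ↔ IsIntegral R b ∧ ∃ x y : R, y ≠ 0 ∧ (y : B) * b = x := Iff.rfl

theorem le_relNorm (R : Subalgebra A B) : R ≤ relNorm R := by
  intro x hx
  refine ⟨?_, ⟨x, hx⟩, 1, one_ne_zero, by simp⟩
  exact (isIntegral_algebraMap : IsIntegral R (algebraMap R B ⟨x, hx⟩))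

theorem isIntegral_of_le {R R' : Subalgebra A B} (h : R ≤ R') (b : B) (hb : IsIntegral R b) :
    IsIntegral R' b := by
  letI : Algebra R R' := (Subalgebra.inclusion h).toRingHom.toAlgebra
  haveI : IsScalarTower R R' B := IsScalarTower.of_algebraMap_eq fun _ => rfl
  exact IsIntegral.tower_top hb

theorem relNorm_mono {R R' : Subalgebra A B} (h : R ≤ R') : relNorm R ≤ relNorm R' := by
  rintro b ⟨hb, x, y, hy, e⟩
  refine ⟨isIntegral_of_le h b hb, Subalgebra.inclusion h x, Subalgebra.inclusion h y, ?_, e⟩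
  intro h0
  apply hy
  apply Subalgebra.inclusion_injective h
  rw [h0, map_zero]

/-- Elements of `relNorm R` are integral over `R` (inside `relNorm R`). -/
theorem isIntegral_relNorm (R : Subalgebra A B) :
    letI : Algebra R (relNorm R) := (Subalgebra.inclusion (le_relNorm R)).toRingHom.toAlgebra
    Algebra.IsIntegral R (relNorm R) := by
  letI : Algebra R (relNorm R) := (Subalgebra.inclusion (le_relNorm R)).toRingHom.toAlgebra
  refine ⟨fun d => ?_⟩
  let f : relNorm R →ₐ[R] B :=
    { (relNorm R).val.toRingHom with commutes' := fun _ => rfl }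
  have hf : Function.Injective f := Subtype.val_injective
  exact (isIntegral_algHom_iff f hf).mp d.2.1

theorem isIntegrallyClosed_relNorm [IsIntegrallyClosed B] (R : Subalgebra A B) :
    IsIntegrallyClosed (relNorm R) := by
  letI : Algebra R (relNorm R) := (Subalgebra.inclusion (le_relNorm R)).toRingHom.toAlgebra
  haveI : IsScalarTower R (relNorm R) B := IsScalarTower.of_algebraMap_eq fun _ => rfl
  haveI : Algebra.IsIntegral R (relNorm R) := isIntegral_relNorm R
  apply Groth.Agent.Lib.NormalLimitH3.isIntegrallyClosed_of_scaleRoots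
  intro p a b hp hb h
  have hb' : (b : B) ≠ 0 := fun h0 => hb (Subtype.ext h0)
  have hlc : (algebraMap (relNorm R) B) p.leadingCoeff ≠ 0 := by
    rw [hp.leadingCoeff, map_one]
    exact one_ne_zero
  have hB : ((p.map (algebraMap (relNorm R) B)).scaleRoots (b : B)).eval (a : B) = 0 := by
    have h1 := map_scaleRoots p b (algebraMap (relNorm R) B) hlc
    have h2 : (algebraMap (relNorm R) B) b = (b : B) := rfl
    rw [h2] at h1
    rw [← h1, eval_map]
    have h3 : (a : B) = algebraMap (relNorm R) B a := rfl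
    rw [h3, eval₂_at_apply, h, map_zero]
  obtain ⟨c, hc⟩ := Groth.Agent.Lib.NormalLimitH3.dvd_of_scaleRoots B
    (p.map (algebraMap (relNorm R) B)) (a : B) (b : B) (hp.map _) hb' hB
  -- `c` is integral over `relNorm R`
  have hcint : IsIntegral (relNorm R) c := by
    refine ⟨p, hp, ?_⟩
    have h1 := scaleRoots_eval₂_mul (p := p) (algebraMap (relNorm R) B) c b
    have h2 : (algebraMap (relNorm R) B) b * c = algebraMap (relNorm R) B a := hc.symm
    rw [h2, eval₂_at_apply, h, map_zero] at h1
    rcases mul_eq_zero.mp h1.symm with h4 | h4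
    · exact absurd (eq_zero_of_pow_eq_zero h4) hb'
    · exact h4
  have hcR : IsIntegral R c := isIntegral_trans c hcint
  obtain ⟨-, xa, ya, hya, ea⟩ := a.2
  obtain ⟨-, xb, yb, hyb, eb⟩ := b.2
  have hxb : xb ≠ 0 := by
    intro h0
    rw [h0] at eb
    have : (yb : B) * (b : B) = 0 := eb
    rcases mul_eq_zero.mp this with h5 | h5
    · exact hyb (Subtype.ext h5)
    · exact hb' h5
  refine ⟨⟨c, hcR, yb * xa, ya * xb, mul_ne_zero hya hxb, ?_⟩, Subtype.ext hc⟩
  push_cast
  rw [← ea, ← eb, hc]
  ring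

end RelNorm

section Step

variable (A : Type u) [CommRing A] [IsNoetherianRing A] (A' : Type u) [CommRing A'] [Algebra A A']
  [IsNoetherianRing A'] (B : Type u) [CommRing B] [IsDomain B] [IsIntegrallyClosed B] [Algebra A B]

/-- `A' ⊗ relNorm R` is normal for finitely generated `R`. -/
theorem normal_tensor_relNorm (h : EGA4.IsNormalHom A A') (R : Subalgebra A B) (hR : R.FG) :
    EGA4.IsNormalRing (A' ⊗[A] relNorm R) := by
  haveI : Algebra.FiniteType A R := (Subalgebra.fg_iff_finiteType R).mp hR
  letI : Algebra R (relNorm R) := (Subalgebra.inclusion (le_relNorm R)).toRingHom.toAlgebra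
  haveI : IsScalarTower A R (relNorm R) := IsScalarTower.of_algebraMap_eq fun _ => rfl
  haveI : Algebra.IsIntegral R (relNorm R) := isIntegral_relNorm R
  haveI : IsIntegrallyClosed (relNorm R) := isIntegrallyClosed_relNorm R
  refine thmN' A A' R (relNorm R) h (Subalgebra.inclusion_injective _) ?_
  rintro ⟨d, -, x, y, hy, e⟩
  exact ⟨x, y, hy, Subtype.ext e⟩

/-- **EGA IV 6.14.1** for an integrally closed domain `B`. -/
theorem normal_tensor_of_domain (h : EGA4.IsNormalHom A A') :
    EGA4.IsNormalRing (A' ⊗[A] B) := by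
  classical
  haveI : Module.Flat A A' := h.1
  let N : Finset B → Subalgebra A B := fun s => relNorm (Algebra.adjoin A (s : Set B))
  have hmono : ∀ s s' : Finset B, s ≤ s' → N s ≤ N s' := fun s s' hss' =>
    relNorm_mono (Algebra.adjoin_mono (by exact_mod_cast hss'))
  let ψ : ∀ s s' : Finset B, s ≤ s' → A' ⊗[A] N s →+* A' ⊗[A] N s' := fun s s' hss' =>
    (Algebra.TensorProduct.map (AlgHom.id A A')
      (Subalgebra.inclusion (hmono s s' hss'))).toRingHom
  have hφψ : ∀ s s' (hss' : s ≤ s') x,
      (lmap A' (N s')).toRingHom (ψ s s' hss' x) = (lmap A' (N s)).toRingHom x := by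
    intro s s' hss' x
    induction x using TensorProduct.induction_on with
    | zero => simp
    | tmul a v => simp [lmap, ψ]
    | add x y hx hy => rw [map_add, map_add, map_add, hx, hy]
  refine Groth.Agent.Lib.NormalLimitH3.isNormalRing_of_directed (ι := Finset B) (A' ⊗[A] B)
    (fun s => A' ⊗[A] N s) (fun s => (lmap A' (N s)).toRingHom) ψ hφψ ?_ ?_ ?_ ?_
  · intro s s' s'' h1 h2 x
    induction x using TensorProduct.induction_on with
    | zero => simp
    | tmul a v => simp [ψ]
    | add x y hx hy => rw [map_add, map_add, map_add, hx, hy]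
  · intro r
    induction r using TensorProduct.induction_on with
    | zero => exact ⟨∅, 0, map_zero _⟩
    | tmul a b =>
      have hb : b ∈ N {b} := le_relNorm _ (Algebra.subset_adjoin (by simp))
      refine ⟨{b}, a ⊗ₜ[A] ⟨b, hb⟩, ?_⟩
      change lmap A' (N {b}) _ = _
      rw [lmap_tmul]
    | add x y hx hy =>
      obtain ⟨s₁, x₁, h₁⟩ := hx
      obtain ⟨s₂, x₂, h₂⟩ := hy
      refine ⟨s₁ ∪ s₂, ψ s₁ (s₁ ∪ s₂) Finset.subset_union_left x₁ +
        ψ s₂ (s₁ ∪ s₂) Finset.subset_union_right x₂, ?_⟩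
      rw [map_add, hφψ s₁ _ Finset.subset_union_left, hφψ s₂ _ Finset.subset_union_right, h₁, h₂]
  · intro s x hx
    refine ⟨s, le_rfl, ?_⟩
    have : x = 0 := lmap_injective A' (N s) (by rw [map_zero]; exact hx)
    rw [this, map_zero]
  · intro s
    exact normal_tensor_relNorm A A' B h _ (Subalgebra.fg_adjoin_finset s)

end Step

section Reduction

/-- normality of `L ⊗[k] A` can be tested after localizing `A` at its primes (general base). -/
theorem isNormalRing_tensor_of_forall_localization_gen (k L A : Type u) [CommRing k] [CommRing L]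
    [Algebra k L] [CommRing A] [Algebra k A]
    (h : ∀ (q : Ideal A) [q.IsPrime], EGA4.IsNormalRing (L ⊗[k] Localization.AtPrime q)) :
    EGA4.IsNormalRing (L ⊗[k] A) := by
  intro Q hQ
  let ι : A →+* L ⊗[k] A := (Algebra.TensorProduct.includeRight : A →ₐ[k] L ⊗[k] A).toRingHom
  let q : Ideal A := Q.comap ι
  haveI : q.IsPrime := Ideal.comap_isPrime ι Q
  obtain ⟨alg, hloc, -⟩ :=
    Groth.Agent.Lib.RegHomBCH3.exists_isLocalization_tensor k L A q.primeCompl
      (Localization.AtPrime q)
  letI := alg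
  haveI := hloc
  have hdisj : Disjoint
      (↑(q.primeCompl.map (Algebra.TensorProduct.includeRight (R := k) (A := L))) :
        Set (L ⊗[k] A)) (Q : Set (L ⊗[k] A)) := by
    rw [Set.disjoint_left]
    rintro _ ⟨r, hr, rfl⟩ hrQ
    exact hr hrQ
  have hQprime := IsLocalization.isPrime_of_isPrime_disjoint
    (q.primeCompl.map (Algebra.TensorProduct.includeRight (R := k) (A := L)))
    (L ⊗[k] Localization.AtPrime q) Q hQ hdisj
  have hcomap := IsLocalization.under_map_of_isPrime_disjoint
    (q.primeCompl.map (Algebra.TensorProduct.includeRight (R := k) (A := L)))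
    (L ⊗[k] Localization.AtPrime q) hQ hdisj
  have h1 := (Groth.Agent.Lib.NorLocusH3.mem_norLocus_under_iff (L ⊗[k] A)
    (q.primeCompl.map (Algebra.TensorProduct.includeRight (R := k) (A := L)))
    (L ⊗[k] Localization.AtPrime q) ⟨_, hQprime⟩).2 (h q _)
  have h2 : PrimeSpectrum.comap (algebraMap (L ⊗[k] A) (L ⊗[k] Localization.AtPrime q))
      ⟨_, hQprime⟩ = ⟨Q, hQ⟩ := PrimeSpectrum.ext hcomap
  rw [h2] at h1
  exact h1

end Reduction

section Main

/-- **EGA IV 6.14.1**. -/
theorem main2670 (A A' : Type u) [CommRing A] [CommRing A'] [IsNoetherianRing A]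
    [IsNoetherianRing A'] [Algebra A A'] (h : EGA4.IsNormalHom A A') (B : Type u) [CommRing B]
    [Algebra A B] (hB : EGA4.IsNormalRing B) : EGA4.IsNormalRing (A' ⊗[A] B) := by
  apply isNormalRing_tensor_of_forall_localization_gen
  intro q hq
  obtain ⟨hdom, hic⟩ := hB q
  haveI := hdom
  haveI := hic
  exact normal_tensor_of_domain A A' (Localization.AtPrime q) h

end Main

end Groth.Agent.Lib.NBCH3
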