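import Mathlib
import Groth.Agent.Lib.SmoothUnibranch2_helper3
import Groth.Agent.S9782

/-!
# Smooth morphisms preserve geometric unibranchness of local rings (helper3)

* `encard_minimalPrimes_le_one_of_smooth_localization` (ring level, relative to a localization of
  the base);
* `encard_minimalPrimes_stalk_le_one_of_smooth`: for a smooth morphism `h : U ⟶ Y` and `u : U` with
  `O_{Y,h u}` geometrically unibranch, `O_{U,u}` has at most one minimal prime;
* `isGeomUnibranch_stalk_of_smooth`: then `O_{U,u}` is geometrically unibranch;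
* `smooth_affineSpace_over`: `𝔸(n; S) ⟶ S` is smooth for finite `n`.
-/

set_option autoImplicit false
set_option maxSynthPendingDepth 3
universe u

namespace Groth.Agent.Lib.SmoothUnibranchH3

open TensorProduct IsLocalRing

section RingL

attribute [local instance] Algebra.TensorProduct.rightAlgebra

open Groth.Agent.Lib.BrEtNbhdH3 in
theorem encard_minimalPrimes_le_one_of_smooth_localization
    {R B : Type u} [CommRing R] [CommRing B] [Algebra R B] [Algebra.Smooth R B]
    (q : Ideal B) [q.IsPrime] (Bq : Type u) [CommRing Bq] [Algebra B Bq]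
    [IsLocalization.AtPrime Bq q]
    (M : Submonoid R) (A : Type u) [CommRing A] [IsLocalRing A] [Algebra R A] [IsLocalization M A]
    (hA : CAlg2.IsGeomUnibranch A)
    [Algebra A Bq] [Algebra R Bq] [IsScalarTower R A Bq] [IsScalarTower R B Bq]
    (hloc : ∀ a ∈ maximalIdeal A, ¬ IsUnit (algebraMap A Bq a)) :
    (minimalPrimes Bq).encard ≤ 1 := by
  haveI : IsLocalization (Algebra.algebraMapSubmonoid B M) (A ⊗[R] B) :=
    IsLocalization.tensorRight (R := R) (S := B) A M
  let ψ : A ⊗[R] B →ₐ[A] Bq :=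
    Algebra.TensorProduct.lift (Algebra.ofId A Bq) (IsScalarTower.toAlgHom R B Bq)
      (fun _ _ => Commute.all _ _)
  letI : Algebra (A ⊗[R] B) Bq := ψ.toRingHom.toAlgebra
  haveI : IsScalarTower A (A ⊗[R] B) Bq :=
    IsScalarTower.of_algebraMap_eq' (by
      ext a
      simp [RingHom.algebraMap_toAlgebra, ψ, Algebra.TensorProduct.algebraMap_apply,
        Algebra.ofId_apply])
  have hcompB : algebraMap B Bq = (algebraMap (A ⊗[R] B) Bq).comp (algebraMap B (A ⊗[R] B)) := by
    ext b
    simp [RingHom.algebraMap_toAlgebra, ψ]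
  haveI : IsScalarTower B (A ⊗[R] B) Bq := IsScalarTower.of_algebraMap_eq' hcompB
  have hle : Algebra.algebraMapSubmonoid B M ≤ q.primeCompl := by
    rintro _ ⟨r, hr, rfl⟩
    rw [← IsLocalization.AtPrime.isUnit_to_map_iff Bq q]
    have h1 : algebraMap B Bq (algebraMap R B r) = algebraMap A Bq (algebraMap R A r) := by
      rw [← IsScalarTower.algebraMap_apply, ← IsScalarTower.algebraMap_apply]
    rw [h1]
    exact (IsLocalization.map_units A ⟨r, hr⟩).map _
  haveI hlocN : IsLocalization (q.primeCompl.map (algebraMap B (A ⊗[R] B))) Bq :=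
    IsLocalization.isLocalization_of_submonoid_le (A ⊗[R] B) Bq
      (Algebra.algebraMapSubmonoid B M) q.primeCompl hle
  haveI : IsLocalRing Bq := IsLocalization.AtPrime.isLocalRing Bq q
  obtain ⟨p'', hp''⟩ : ∃ p'' : Ideal (A ⊗[R] B),
      p'' = (maximalIdeal Bq).comap (algebraMap (A ⊗[R] B) Bq) := ⟨_, rfl⟩
  haveI : p''.IsPrime := by rw [hp'']; exact Ideal.comap_isPrime _ _
  haveI : IsLocalization.AtPrime Bq p'' := by
    refine IsLocalization.of_le (M := q.primeCompl.map (algebraMap B (A ⊗[R] B))) p''.primeCompl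
      ?_ ?_
    · rintro _ ⟨b, hb, rfl⟩
      show (algebraMap B (A ⊗[R] B)) b ∉ p''
      rw [hp'', Ideal.mem_comap, ← IsScalarTower.algebraMap_apply, mem_maximalIdeal,
        mem_nonunits_iff, not_not, IsLocalization.AtPrime.isUnit_to_map_iff Bq q]
      exact hb
    · intro r hr
      have hr' : r ∉ p'' := hr
      rw [hp'', Ideal.mem_comap, mem_maximalIdeal, mem_nonunits_iff, not_not] at hr'
      exact hr'
  let e : Localization.AtPrime p'' ≃ₐ[A ⊗[R] B] Bq :=
    IsLocalization.algEquiv p''.primeCompl _ _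
  rw [← encard_minimalPrimes_eq_of_ringEquiv e.toRingEquiv]
  apply encard_le_one_of_isGeomUnibranch A hA (A ⊗[R] B) p''
  rw [Ideal.map_le_iff_le_comap]
  intro a ha
  rw [Ideal.mem_comap, hp'', Ideal.mem_comap, ← IsScalarTower.algebraMap_apply, mem_maximalIdeal,
    mem_nonunits_iff]
  exact hloc a ha

end RingL

section Sch

open AlgebraicGeometry CategoryTheory Groth.Agent.Lib.BrEtNbhdH3

/-- for a smooth morphism, the local ring at a point over a geometrically unibranch point has at
most one minimal prime -/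
theorem encard_minimalPrimes_stalk_le_one_of_smooth {U Y : Scheme.{u}} (g : U ⟶ Y) [Smooth g]
    (u : U) (hY : CAlg2.IsGeomUnibranch (Y.presheaf.stalk (g u))) :
    (minimalPrimes (U.presheaf.stalk u)).encard ≤ 1 := by
  letI algAB : Algebra (Y.presheaf.stalk (g u)) (U.presheaf.stalk u) :=
    (g.stalkMap u).hom.toAlgebra
  obtain ⟨V, hV, hxV, -⟩ := exists_isAffineOpen_mem_and_subset (x := g u) (U := ⊤) trivial
  have huV : u ∈ g ⁻¹ᵁ V := hxV
  obtain ⟨W, hW, huW, hWV⟩ := exists_isAffineOpen_mem_and_subset huV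
  have e : W ≤ g ⁻¹ᵁ V := hWV
  letI algRE : Algebra Γ(Y, V) Γ(U, W) := (g.appLE V W e).hom.toAlgebra
  haveI : Algebra.Smooth Γ(Y, V) Γ(U, W) := by
    have h1 : (g.appLE V W e).hom.Smooth :=
      HasRingHomProperty.appLE (P := @Smooth) g inferInstance ⟨V, hV⟩ ⟨W, hW⟩ e
    exact RingHom.smooth_algebraMap.mp h1
  letI algEB : Algebra Γ(U, W) (U.presheaf.stalk u) :=
    U.presheaf.algebra_section_stalk ⟨u, huW⟩
  letI algRA : Algebra Γ(Y, V) (Y.presheaf.stalk (g u)) :=
    Y.presheaf.algebra_section_stalk ⟨g u, hxV⟩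
  haveI hlocA : IsLocalization.AtPrime (Y.presheaf.stalk (g u))
      (hV.primeIdealOf ⟨g u, hxV⟩).asIdeal := hV.isLocalization_stalk ⟨g u, hxV⟩
  haveI hlocB : IsLocalization.AtPrime (U.presheaf.stalk u)
      (hW.primeIdealOf ⟨u, huW⟩).asIdeal := hW.isLocalization_stalk ⟨u, huW⟩
  letI algRB : Algebra Γ(Y, V) (U.presheaf.stalk u) :=
    ((algebraMap Γ(U, W) (U.presheaf.stalk u)).comp (algebraMap Γ(Y, V) Γ(U, W))).toAlgebra
  haveI tow1 : IsScalarTower Γ(Y, V) Γ(U, W) (U.presheaf.stalk u) :=
    IsScalarTower.of_algebraMap_eq (fun _ => rfl)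
  haveI tow2 : IsScalarTower Γ(Y, V) (Y.presheaf.stalk (g u)) (U.presheaf.stalk u) :=
    IsScalarTower.of_algebraMap_eq (fun r => by
      show U.presheaf.germ W u huW (g.appLE V W e r) =
        g.stalkMap u (Y.presheaf.germ V (g u) hxV r)
      rw [Scheme.Hom.germ_stalkMap_apply, Scheme.Hom.appLE, CommRingCat.comp_apply,
        TopCat.Presheaf.germ_res_apply])
  refine encard_minimalPrimes_le_one_of_smooth_localization (R := Γ(Y, V)) (B := Γ(U, W))
    (hW.primeIdealOf ⟨u, huW⟩).asIdeal (U.presheaf.stalk u)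
    (hV.primeIdealOf ⟨g u, hxV⟩).asIdeal.primeCompl (Y.presheaf.stalk (g u)) hY ?_
  intro a ha hunit
  haveI : IsLocalHom (g.stalkMap u).hom := inferInstance
  have h1 : IsUnit a := isUnit_of_map_unit (g.stalkMap u).hom a hunit
  exact ha h1

/-- a smooth morphism preserves geometric unibranchness of local rings -/
theorem isGeomUnibranch_stalk_of_smooth {X Y : Scheme.{u}} (f : X ⟶ Y) [Smooth f] (x : X)
    (hY : CAlg2.IsGeomUnibranch (Y.presheaf.stalk (f x))) :
    CAlg2.IsGeomUnibranch (X.presheaf.stalk x) := by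
  rw [Groth.Agent.S9782.result X x]
  intro U g u hEt hgu
  haveI := hEt
  subst hgu
  apply le_antisymm
  · rw [encard_components_through_eq]
    haveI : Smooth (g ≫ f) := inferInstance
    exact encard_minimalPrimes_stalk_le_one_of_smooth (g ≫ f) u hY
  · rw [Set.one_le_encard_iff_nonempty]
    exact ⟨irreducibleComponent u, irreducibleComponent_mem_irreducibleComponents u,
      mem_irreducibleComponent⟩

end Sch

section Affine

open AlgebraicGeometry CategoryTheory Limits MvPolynomial

set_option backward.isDefEq.respectTransparency.types false in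
/-- affine space over `S` (finitely many variables) is smooth over `S` -/
theorem smooth_affineSpace_over (n : Type u) [Finite n] (S : Scheme.{u}) :
    Smooth (𝔸(n; S) ↘ S) :=
  MorphismProperty.pullback_fst _ _ <| by
  have := isIso_of_isTerminal specULiftZIsTerminal.{u} terminalIsTerminal
    (terminal.from (Spec (CommRingCat.of (ULift.{u} ℤ))))
  rw [← terminal.comp_from (Spec.map (CommRingCat.ofHom (C (R := ULift.{u} ℤ) (σ := n)))),
    MorphismProperty.cancel_right_of_respectsIso (P := @Smooth),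
    HasRingHomProperty.Spec_iff (P := @Smooth), RingHom.Smooth]
  have hsm : Algebra.Smooth (ULift.{u} ℤ) (MvPolynomial n (ULift.{u} ℤ)) := {}
  convert! hsm
  exact Algebra.algebra_ext _ _ fun _ ↦ rfl

end Affine

end Groth.Agent.Lib.SmoothUnibranchH3
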