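import Mathlib
import Groth.Prelude.Def_SchFin
import Groth.Prelude.Def_SchFin2

/-!
# Finite ringed posets: degree-zero cohomology of the standard complex is sections

Plumbing for the `SchFin` statements: `H φ M 0` is identified with the compatible families
(`SectC φ M`, the sections `M.sect U` with the `R`-module structure given by the coefficient
structure), compatibly with restriction, so that the degree-zero schematic condition becomes a
base-change statement about sections.
-/

set_option autoImplicit false

open TensorProduct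

namespace Groth.Agent.Lib.SchFin_helper3

open SchFin

universe u

section Chains

variable {X : RSpace.{u}} {U : Set X.pt}

/-- the one-point chain -/
def pt0 (q : U) : Chain U 0 :=
  ⟨⟨fun _ => q, fun a b _ => @Subsingleton.elim (Fin 1) _ a b⟩, by
    intro a b
    have : a = b := @Subsingleton.elim (Fin 1) _ a b
    subst this
    simp⟩

@[simp] lemma pt0_apply (q : U) (i : Fin 1) : pt0 q i = q := rfl

lemma chain0_eq (σ : Chain U 0) : σ = pt0 (σ (Fin.last 0)) := by
  apply RelEmbedding.ext
  intro i
  have : i = Fin.last 0 := @Subsingleton.elim (Fin 1) _ _ _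
  subst this
  rfl

/-- the two-point chain -/
def pt1 (q q' : U) (h : q < q') : Chain U 1 :=
  OrderEmbedding.ofStrictMono ![q, q'] (by
    rw [Fin.strictMono_iff_lt_succ]
    intro i
    fin_cases i
    simpa using h)

lemma pt1_last (q q' : U) (h : q < q') : pt1 q q' h (Fin.last 1) = q' := rfl

lemma pt1_face_zero (q q' : U) (h : q < q') : (pt1 q q' h).face 0 = pt0 q' := by
  apply RelEmbedding.ext
  intro i
  have : i = 0 := @Subsingleton.elim (Fin 1) _ _ _
  subst this
  rfl

lemma pt1_face_one (q q' : U) (h : q < q') : (pt1 q q' h).face 1 = pt0 q := by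
  apply RelEmbedding.ext
  intro i
  have : i = 0 := @Subsingleton.elim (Fin 1) _ _ _
  subst this
  rfl

end Chains

section H0

variable {X : RSpace.{u}} {U : Set X.pt} {R : Type u} [CommRing R] (φ : Coef X U R) (M : OMod X)

/-- the ring map from the coefficient ring to the ring of sections -/
def toSect : R →+* X.sectRing U where
  toFun a := ⟨fun q => φ.map q a, fun q q' h => φ.compat q q' h a⟩
  map_one' := by ext q; simp only [map_one]; rfl
  map_mul' a b := by ext q; simp only [map_mul]; rfl
  map_zero' := by ext q; simp only [map_zero]; rfl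
  map_add' a b := by ext q; simp only [map_add]; rfl

lemma toSect_apply (a : R) (q : U) : (toSect φ a).1 q = φ.map q a := rfl

/-- sections of a module over `U`, with the module structure over the coefficient ring -/
def SectC (_φ : Coef X U R) (M : OMod X) : Type u := M.sect U

instance : AddCommGroup (SectC φ M) := inferInstanceAs (AddCommGroup (M.sect U))

instance : Module R (SectC φ M) := Module.compHom (M.sect U) (toSect φ)

/-- the underlying family -/
def SectC.val {φ : Coef X U R} {M : OMod X} (s : SectC φ M) : ∀ q : U, M.carrier q.1 :=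
  (show M.sect U from s).1

lemma SectC.compat {φ : Coef X U R} {M : OMod X} (s : SectC φ M) (q q' : U) (h : q.1 ≤ q'.1) :
    M.res h (s.val q) = s.val q' := (show M.sect U from s).2 q q' h

/-- constructor -/
def SectC.mk {φ : Coef X U R} {M : OMod X} (f : ∀ q : U, M.carrier q.1)
    (hf : ∀ (q q' : U) (h : q.1 ≤ q'.1), M.res h (f q) = f q') : SectC φ M :=
  (⟨f, hf⟩ : M.sect U)

@[simp] lemma SectC.mk_val {φ : Coef X U R} {M : OMod X} (f : ∀ q : U, M.carrier q.1)
    (hf : ∀ (q q' : U) (h : q.1 ≤ q'.1), M.res h (f q) = f q') (q : U) :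
    (SectC.mk (φ := φ) f hf).val q = f q := rfl

@[ext] lemma SectC.ext {φ : Coef X U R} {M : OMod X} {s t : SectC φ M}
    (h : ∀ q, s.val q = t.val q) : s = t :=
  Subtype.ext (funext h)

@[simp] lemma SectC.add_val {φ : Coef X U R} {M : OMod X} (s t : SectC φ M) (q : U) :
    (s + t).val q = s.val q + t.val q := rfl

@[simp] lemma SectC.zero_val {φ : Coef X U R} {M : OMod X} (q : U) :
    (0 : SectC φ M).val q = 0 := rfl

@[simp] lemma SectC.smul_val {φ : Coef X U R} {M : OMod X} (a : R) (s : SectC φ M) (q : U) :
    (a • s).val q = φ.map q a • s.val q := rfl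

/-- the 0-cochain of a section -/
def toCochain (s : SectC φ M) : Cochain φ M 0 := fun σ => s.val (σ (Fin.last 0))

lemma toCochain_mem (s : SectC φ M) : toCochain φ M s ∈ cocycles φ M 0 := by
  change diff φ M 0 (toCochain φ M s) = 0
  funext τ
  change (∑ j : Fin 2, ((-1 : ℤ) ^ (j : ℕ)) • (toCochain φ M s).faceVal τ j) = 0
  have h : ∀ j, (toCochain φ M s).faceVal τ j = s.val (τ (Fin.last 1)) :=
    fun j => s.compat _ _ _
  simp only [h, Fin.sum_univ_two]
  simp

/-- sections to degree-zero cohomology -/
def toH : SectC φ M →ₗ[R] H φ M 0 where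
  toFun s := H.mk φ M 0 ⟨toCochain φ M s, toCochain_mem φ M s⟩
  map_add' s t := by
    rw [← map_add]
    rfl
  map_smul' a s := by
    rw [RingHom.id_apply, ← map_smul]
    rfl

lemma cocycle_compat (c : Cochain φ M 0) (hc : c ∈ cocycles φ M 0) (q q' : U) (h : q.1 ≤ q'.1) :
    M.res h (c (pt0 q)) = c (pt0 q') := by
  rcases eq_or_lt_of_le (show q ≤ q' from h) with he | hlt
  · subst he
    exact M.res_self _ _
  · have h0 : diff φ M 0 c = 0 := hc
    have h1 := congrFun h0 (pt1 q q' hlt)
    change (∑ j : Fin 2, ((-1 : ℤ) ^ (j : ℕ)) • c.faceVal (pt1 q q' hlt) j) = 0 at h1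
    have key : ∀ (j : Fin 2) (σ : Chain U 0) (hσ : (pt1 q q' hlt).face j = σ)
        (hle : (σ (Fin.last 0)).1 ≤ q'.1), c.faceVal (pt1 q q' hlt) j = M.res hle (c σ) := by
      intro j σ hσ hle
      subst hσ
      rfl
    have k0 : c.faceVal (pt1 q q' hlt) 0 = c (pt0 q') := by
      have := key 0 (pt0 q') (pt1_face_zero q q' hlt)
        (show ((pt0 q') (Fin.last 0)).1 ≤ q'.1 from le_refl q'.1)
      rw [this]
      exact M.res_self _ _
    have k1 : c.faceVal (pt1 q q' hlt) 1 = M.res h (c (pt0 q)) :=
      key 1 _ (pt1_face_one q q' hlt) h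
    rw [Fin.sum_univ_two, k0, k1] at h1
    simp only [Fin.val_zero, pow_zero, one_smul, Fin.val_one, pow_one, neg_smul] at h1
    exact (eq_of_sub_eq_zero (by rw [sub_eq_add_neg]; exact h1)).symm

lemma toH_bijective : Function.Bijective (toH φ M) := by
  constructor
  · rw [injective_iff_map_eq_zero]
    intro s hs
    have h1 : (⟨toCochain φ M s, toCochain_mem φ M s⟩ : cocycles φ M 0) ∈
        (cobdry φ M 0).comap (cocycles φ M 0).subtype :=
      (Submodule.Quotient.mk_eq_zero _).1 hs
    have h2 : toCochain φ M s = 0 := (Submodule.mem_bot R).1 h1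
    ext q
    exact congrFun h2 (pt0 q)
  · intro c
    obtain ⟨⟨c, hc⟩, rfl⟩ := Submodule.mkQ_surjective _ c
    refine ⟨SectC.mk (fun q => c (pt0 q)) (cocycle_compat φ M c hc), ?_⟩
    change H.mk φ M 0 _ = H.mk φ M 0 _
    congr 1
    apply Subtype.ext
    funext σ
    have key : ∀ σ τ : Chain U 0, σ = τ → HEq (c σ) (c τ) := by
      intro σ τ h
      subst h
      rfl
    exact eq_of_heq (key _ _ (chain0_eq σ).symm)

/-- degree-zero cohomology is sections -/
noncomputable def h0Equiv : SectC φ M ≃ₗ[R] H φ M 0 :=
  LinearEquiv.ofBijective (toH φ M) (toH_bijective φ M)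

variable {φ} {U' : Set X.pt} {R' : Type u} [CommRing R'] {φ' : Coef X U' R'}

/-- restriction of sections along a change of coefficients -/
def SectC.res (s : Coef.Sub φ φ') : SectC φ M →ₛₗ[s.hom] SectC φ' M where
  toFun c := SectC.mk (fun q => c.val ⟨q.1, s.le q.2⟩)
    (fun q q' h => c.compat ⟨q.1, s.le q.2⟩ ⟨q'.1, s.le q'.2⟩ h)
  map_add' _ _ := rfl
  map_smul' a c := by
    ext q
    change φ.map ⟨q.1, s.le q.2⟩ a • c.val ⟨q.1, s.le q.2⟩ =
      φ'.map q (s.hom a) • c.val ⟨q.1, s.le q.2⟩
    rw [s.compat]

@[simp] lemma SectC.res_val (s : Coef.Sub φ φ') (c : SectC φ M) (q : U') :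
    (SectC.res M s c).val q = c.val ⟨q.1, s.le q.2⟩ := rfl

lemma resH_toH (s : Coef.Sub φ φ') (c : SectC φ M) :
    resH M s 0 (toH φ M c) = toH φ' M (SectC.res M s c) := rfl

/-- The degree-zero schematic base-change condition, in terms of sections. -/
theorem isBCAlong_resH_zero_iff (s : Coef.Sub φ φ') :
    IsBCAlong s.hom (resH M s 0) ↔ IsBCAlong s.hom (SectC.res M s) := by
  unfold IsBCAlong
  letI : Algebra R R' := s.hom.toAlgebra
  letI : Module R (H φ' M 0) := Module.compHom _ s.hom
  letI : Module R (SectC φ' M) := Module.compHom _ s.hom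
  haveI : IsScalarTower R R' (H φ' M 0) := IsScalarTower.of_algebraMap_smul fun _ _ => rfl
  haveI : IsScalarTower R R' (SectC φ' M) := IsScalarTower.of_algebraMap_smul fun _ _ => rfl
  symm
  exact IsBaseChange.iff_of_equiv_comm (h0Equiv φ M) (h0Equiv φ' M) (LinearMap.ext fun c => rfl)

end H0

section FlatEpi

open CategoryTheory

/-- a faithfully flat ring epimorphism is bijective -/
theorem bijective_of_faithfullyFlat_of_isEpi (A B : Type u) [CommRing A] [CommRing B] [Algebra A B]
    [Module.FaithfullyFlat A B] [Algebra.IsEpi A B] : Function.Bijective (algebraMap A B) := by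
  constructor
  · exact (RingHom.faithfullyFlat_algebraMap_iff.2 (inferInstance :
      Module.FaithfullyFlat A B)).injective
  · have h1 : ∀ t : B ⊗[A] B, ∃ b : B, t = b ⊗ₜ[A] 1 := by
      intro t
      induction t using TensorProduct.induction_on with
      | zero => exact ⟨0, by simp⟩
      | tmul x y =>
        refine ⟨x * y, ?_⟩
        calc x ⊗ₜ[A] y = x ⊗ₜ[A] 1 * 1 ⊗ₜ[A] y := by simp
          _ = x ⊗ₜ[A] 1 * y ⊗ₜ[A] 1 := by
            rw [(Algebra.isEpi_iff_forall_one_tmul_eq A B).1 inferInstance y]
          _ = (x * y) ⊗ₜ[A] 1 := by simp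
      | add x y hx hy =>
        obtain ⟨a, rfl⟩ := hx
        obtain ⟨b, rfl⟩ := hy
        exact ⟨a + b, by simp [TensorProduct.add_tmul]⟩
    have h2 : Function.Surjective ((Algebra.linearMap A B).lTensor B) := by
      intro t
      obtain ⟨b, rfl⟩ := h1 t
      exact ⟨b ⊗ₜ[A] 1, by simp⟩
    exact (Module.FaithfullyFlat.lTensor_surjective_iff_surjective A B
      (Algebra.linearMap A B)).1 h2

/-- localisation at a prime of a flat ring epimorphism is bijective -/
theorem bijective_localRingHom_of_flat_of_isEpi {R S : Type u} [CommRing R] [CommRing S]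
    (f : R →+* S) (hf : f.Flat) (hepi : @Algebra.IsEpi R S _ _ f.toAlgebra)
    (P : Ideal S) [P.IsPrime] :
    Function.Bijective (Localization.localRingHom (P.comap f) P f rfl) := by
  letI : Algebra R S := f.toAlgebra
  set φ := Localization.localRingHom (P.comap f) P f rfl with hφ
  letI : Algebra (Localization.AtPrime (P.comap f)) (Localization.AtPrime P) := φ.toAlgebra
  haveI : Module.Flat (Localization.AtPrime (P.comap f)) (Localization.AtPrime P) :=
    RingHom.Flat.localRingHom hf P _ rfl
  haveI : IsLocalHom (algebraMap (Localization.AtPrime (P.comap f)) (Localization.AtPrime P)) :=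
    Localization.isLocalHom_localRingHom (P.comap f) P f rfl
  haveI : Module.FaithfullyFlat (Localization.AtPrime (P.comap f)) (Localization.AtPrime P) :=
    Module.FaithfullyFlat.of_flat_of_isLocalHom
  haveI : Algebra.IsEpi (Localization.AtPrime (P.comap f)) (Localization.AtPrime P) := by
    rw [← CommRingCat.epi_iff_epi]
    have e1 : Epi (CommRingCat.ofHom (algebraMap R S)) := CommRingCat.epi_iff_epi.2 hepi
    have e2 : Epi (CommRingCat.ofHom (algebraMap S (Localization.AtPrime P))) := by
      constructor
      intro Z g h w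
      ext x
      have w' : g.hom.comp (algebraMap S (Localization.AtPrime P)) =
          h.hom.comp (algebraMap S (Localization.AtPrime P)) := by
        ext y
        exact congr($(w).hom y)
      exact congr($(IsLocalization.ringHom_ext P.primeCompl w') x)
    have e3 : CommRingCat.ofHom (algebraMap R (Localization.AtPrime (P.comap f))) ≫
        CommRingCat.ofHom (algebraMap (Localization.AtPrime (P.comap f)) (Localization.AtPrime P)) =
        CommRingCat.ofHom (algebraMap R S) ≫
          CommRingCat.ofHom (algebraMap S (Localization.AtPrime P)) := by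
      ext x
      exact Localization.localRingHom_to_map (P.comap f) P f rfl x
    have e4 : Epi (CommRingCat.ofHom (algebraMap R (Localization.AtPrime (P.comap f))) ≫
        CommRingCat.ofHom (algebraMap (Localization.AtPrime (P.comap f))
          (Localization.AtPrime P))) := by
      rw [e3]
      exact epi_comp _ _
    exact epi_of_epi (CommRingCat.ofHom (algebraMap R (Localization.AtPrime (P.comap f)))) _
  exact bijective_of_faithfullyFlat_of_isEpi _ _

end FlatEpi

section Schematic

variable (X : RSpace.{u})

/-- In a schematic finite space the restriction maps are ring epimorphisms (degree-zero case of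
the schematic condition). -/
theorem isEpi_res (hX : X.IsSchematic) {x y : X.pt} (h : x ≤ y) :
    @Algebra.IsEpi (X.ring x) (X.ring y) _ _ (X.res h).toAlgebra := by
  letI : Algebra (X.ring x) (X.ring y) := (X.res h).toAlgebra
  have hb00 := (hX.2.2 0 x y h y y (le_refl y)).1
  have hb0 : IsBCAlong (X.res h) (SectC.res X.str ((Hom.id X).subSrc h y)) :=
    (isBCAlong_resH_zero_iff X.str ((Hom.id X).subSrc h y)).1 hb00
  unfold IsBCAlong at hb0
  letI : Module (X.ring x)
      (SectC (Coef.ofLE y ((Hom.id X).wedge y y) ((Hom.id X).wedge_subset_up y y)) X.str) :=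
    Module.compHom _ (X.res h)
  haveI : IsScalarTower (X.ring x) (X.ring y)
      (SectC (Coef.ofLE y ((Hom.id X).wedge y y) ((Hom.id X).wedge_subset_up y y)) X.str) :=
    IsScalarTower.of_algebraMap_smul fun _ _ => rfl
  -- the section attached to an element of the ring of `y`
  let ι : X.ring y →ₗ[X.ring x]
      SectC (Coef.ofLE x ((Hom.id X).wedge x y) ((Hom.id X).wedge_subset_up x y)) X.str :=
    { toFun := fun a => SectC.mk (fun q => X.res (show y ≤ q.1 from q.2.2) a)
        (fun q q' hq => X.res_comp _ _ a)
      map_add' := fun a b => by ext q; exact map_add _ _ _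
      map_smul' := fun r a => by
        ext q
        change X.res _ (X.res h r * a) = X.res _ r * X.res _ a
        rw [map_mul, X.res_comp] }
  let ev : SectC (Coef.ofLE x ((Hom.id X).wedge x y) ((Hom.id X).wedge_subset_up x y)) X.str
      →ₗ[X.ring x] X.ring y :=
    { toFun := fun c => c.val ⟨y, h, le_refl y⟩
      map_add' := fun _ _ => rfl
      map_smul' := fun _ _ => rfl }
  have hev : ∀ a, ev (ι a) = a := fun a => X.res_self y a
  rw [Algebra.isEpi_iff_forall_one_tmul_eq]
  intro a
  have key : (1 : X.ring y) ⊗ₜ[X.ring x] ι a = a ⊗ₜ[X.ring x] ι 1 := by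
    apply hb0.equiv.injective
    rw [IsBaseChange.equiv_tmul, IsBaseChange.equiv_tmul]
    ext q
    change X.res (show y ≤ q.1 from q.2.1) 1 • X.res (show y ≤ q.1 from q.2.2) a =
      X.res (show y ≤ q.1 from q.2.1) a • X.res (show y ≤ q.1 from q.2.2) (1 : X.ring y)
    rw [map_one, one_smul]
    exact (mul_one _).symm
  have := congrArg (LinearMap.lTensor (X.ring y) ev) key
  rw [LinearMap.lTensor_tmul, LinearMap.lTensor_tmul, hev, hev] at this
  exact this

end Schematic

end Groth.Agent.Lib.SchFin_helper3
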