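import Mathlib
import Groth.Agent.Lib.SchFin_helper3

/-!
# Finite ringed posets: primes in tensor products and in rings of sections
-/

set_option autoImplicit false

open TensorProduct

namespace Groth.Agent.Lib.SchFin_helper3

open SchFin

universe u

/-- Two primes with the same contraction come from a prime of the tensor product. -/
theorem exists_prime_tensor {R A B : Type u} [CommRing R] [CommRing A] [CommRing B] [Algebra R A]
    [Algebra R B] (P : PrimeSpectrum A) (Q : PrimeSpectrum B)
    (h : PrimeSpectrum.comap (algebraMap R A) P = PrimeSpectrum.comap (algebraMap R B) Q) :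
    ∃ r : PrimeSpectrum (A ⊗[R] B),
      PrimeSpectrum.comap (Algebra.TensorProduct.includeLeftRingHom) r = P ∧
      PrimeSpectrum.comap (Algebra.TensorProduct.includeRight.toRingHom) r = Q := by
  have hpb := AlgebraicGeometry.isPullback_SpecMap_of_isPushout _ _ _ _
    (CommRingCat.isPushout_tensorProduct R A B)
  obtain ⟨p, hp1, hp2⟩ :=
    AlgebraicGeometry.Scheme.exists_preimage_of_isPullback hpb P Q h
  exact ⟨p, hp1, hp2⟩

/-- If the product of the rings of the points of `U` is faithfully flat over the ring of
sections, every prime of the ring of sections comes from a prime at a point. -/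
theorem exists_point_prime (X : RSpace.{u}) (U : Set X.pt)
    (hff : Module.FaithfullyFlat (X.sectRing U) ((q : ↥U) → X.ring q.1))
    (r : PrimeSpectrum (X.sectRing U)) :
    ∃ (z : U) (rz : PrimeSpectrum (X.ring z.1)), PrimeSpectrum.comap (X.evalRing U z) rz = r := by
  obtain ⟨r', hr'⟩ := PrimeSpectrum.comap_surjective_of_faithfullyFlat
    (A := X.sectRing U) (B := (q : ↥U) → X.ring q.1) r
  obtain ⟨⟨z, rz⟩, hz⟩ := (PrimeSpectrum.sigmaToPi_bijective (fun q : ↥U => X.ring q.1)).2 r'
  refine ⟨z, rz, ?_⟩
  rw [← hr', ← hz]
  rfl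

lemma comap_res_self (X : RSpace.{u}) (p : X.pt) (h : p ≤ p) (r : PrimeSpectrum (X.ring p)) :
    PrimeSpectrum.comap (X.res h) r = r := by
  have : X.res h = RingHom.id _ := RingHom.ext (X.res_self p)
  rw [this]
  rfl

lemma comap_res_trans (X : RSpace.{u}) {p q t : X.pt} (h : p ≤ q) (h' : q ≤ t)
    (r : PrimeSpectrum (X.ring t)) :
    PrimeSpectrum.comap (X.res (h.trans h')) r =
      PrimeSpectrum.comap (X.res h) (PrimeSpectrum.comap (X.res h') r) := by
  have : X.res (h.trans h') = (X.res h').comp (X.res h) :=
    RingHom.ext fun a => (X.res_comp h h' a).symm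
  rw [this]
  rfl

end Groth.Agent.Lib.SchFin_helper3
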