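import Mathlib
import Groth.Agent.Lib.SmoothUnibranch2_helper3
import Groth.Agent.Lib.HensBranches6_helper3
import Groth.Agent.Lib.HensJointStrictFin_helper3
import Groth.Agent.Lib.Unibranch7_helper3
import Groth.Agent.Lib.IndEtaleNil_helper3
import Groth.Agent.S2750
import Groth.Agent.S0505

/-!
# A prime element of a strictly henselian local ring stays prime in the strict henselization of a
local ring of a smooth algebra (helper3)
-/

set_option autoImplicit false
set_option maxSynthPendingDepth 3
universe u

namespace Groth.Agent.Lib.SmoothUnibranchH3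

open TensorProduct IsLocalRing

section General

open Groth.Agent.Lib.BrEtNbhdH3

variable (A : Type u) [CommRing A] [IsLocalRing A]
  (R' : Type u) [CommRing R'] [Algebra A R'] [Algebra.Smooth A R'] (p : Ideal R') [p.IsPrime]
  (Bp : Type u) [CommRing Bp] [IsLocalRing Bp] [Algebra R' Bp] [IsLocalization.AtPrime Bp p]

/-- version of `isGeomUnibranch_localization_of_smooth` for an arbitrary model of the
localization -/
theorem isGeomUnibranch_of_isLocalization_of_smooth (hA : CAlg2.IsGeomUnibranch A)
    (hp : (maximalIdeal A).map (algebraMap A R') ≤ p) :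
    CAlg2.IsGeomUnibranch Bp := by
  rw [← Groth.Agent.S9236.result]
  refine le_antisymm ?_ (one_le_numGeomBranches Bp)
  rw [numGeomBranches_eq_iSup Bp]
  refine iSup_le fun j => ?_
  haveI : (RingHom.ker j.pt).IsPrime := Groth.Agent.Lib.StrictHens.ker_isPrime j.pt
  obtain ⟨E, _, _, q, _, hE, ⟨κ⟩⟩ := Groth.Agent.Lib.EssEtTransH4.core R' R'
    Bp j.C p (RingHom.ker j.pt)
  haveI := hE
  letI algAE : Algebra A E := ((algebraMap R' E).comp (algebraMap A R')).toAlgebra
  haveI : IsScalarTower A R' E := IsScalarTower.of_algebraMap_eq (fun _ => rfl)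
  haveI : Algebra.Smooth A E := Algebra.Smooth.comp A R' E
  have hpq : p = q.comap (algebraMap R' E) :=
    comap_eq_of_algEquiv R' p Bp E q j.A κ
  have hq : (maximalIdeal A).map (algebraMap A E) ≤ q := by
    rw [Ideal.map_le_iff_le_comap]
    intro a ha
    rw [Ideal.mem_comap, IsScalarTower.algebraMap_apply A R' E]
    have h1 : algebraMap A R' a ∈ p := hp (Ideal.mem_map_of_mem _ ha)
    rw [hpq] at h1
    exact h1
  rw [← encard_minimalPrimes_eq_of_ringEquiv κ.toRingEquiv]
  exact encard_le_one_of_isGeomUnibranch A hA E q hq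

theorem isDomain_of_isLocalization_of_smooth [IsReduced A] (hA : CAlg2.IsGeomUnibranch A)
    (hp : (maximalIdeal A).map (algebraMap A R') ≤ p) : IsDomain Bp := by
  haveI := isDomain_localization_of_smooth A R' p hA hp
  let e : Bp ≃ₐ[R'] Localization.AtPrime p := IsLocalization.algEquiv p.primeCompl _ _
  exact e.toMulEquiv.isDomain

end General

section Prime

open Groth.Agent.Lib.BrEtNbhdH3 Groth.Agent.Lib.HensBranchesH3 Groth.Agent.Lib.UnibranchH3


/-- if `B ⧸ P` is a geometrically unibranch domain then `T ⧸ P T` is a domain, `T` a strict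
henselization of `B` -/
theorem isDomain_quotient_strictHenselization (B T : Type u) [CommRing B] [IsLocalRing B]
    [CommRing T] [IsLocalRing T] [Algebra B T] [IsLocalHom (algebraMap B T)]
    [Hensel.IsStrictHenselization B T] (P : Ideal B) [IsLocalRing (B ⧸ P)]
    (hdomB : IsDomain (B ⧸ P)) (hguB : CAlg2.IsGeomUnibranch (B ⧸ P)) :
    IsDomain (T ⧸ P.map (algebraMap B T)) := by
  haveI hPp : P.IsPrime := (Ideal.Quotient.isDomain_iff_prime P).mp hdomB
  haveI hS : HenselianLocalRing T := Hensel.IsStrictHenselization.henselian B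
  haveI hfl := Groth.Agent.Lib.StrictHens.faithfullyFlat_of_isStrictHenselization (R := B) T
  have hie := Groth.Agent.Lib.StrictHens.isIndEtale_of_isStrictHenselization (R := B) T
  haveI hsc : IsSepClosed (ResidueField T) :=
    (Hensel.IsStrictHenselization.isSepClosure (R := B) (S := T)).sep_closed
  have hcard := @card_minimalPrimes_quotient_strict B _ _ T _ hS _ _ _ hie
    hsc (exists_monic_eval₂_mem_of_isStrictHenselization B T) P hPp
  rw [(Groth.Agent.S9236.result (B ⧸ P)).mpr hguB] at hcard
  have hie' : EtPBC.IsIndEtale (B ⧸ P) (T ⧸ P.map (algebraMap B T)) :=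
    Groth.Agent.Lib.IndEtaleH3.isIndEtale_quotient hie P
  haveI : IsReduced (T ⧸ P.map (algebraMap B T)) := by
    have h1 := Groth.Agent.Lib.IndEtaleH3.nilradical_map_of_isIndEtale hie'
    have h2 : nilradical (B ⧸ P) = ⊥ := nilradical_eq_zero _
    rw [h2, Ideal.map_bot] at h1
    exact (isReduced_iff _).mpr (fun x hx => by
      have : x ∈ nilradical (T ⧸ P.map (algebraMap B T)) := hx
      rw [← h1] at this
      exact this)
  have hPT : P.map (algebraMap B T) ≤ maximalIdeal T := map_le_maximalIdeal B T P
  haveI : Nontrivial (T ⧸ P.map (algebraMap B T)) :=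
    Ideal.Quotient.nontrivial_iff.mpr (fun h => by
      have := hPT
      rw [h] at this
      exact (maximalIdeal.isMaximal T).ne_top (top_le_iff.mp this))
  exact isDomain_of_isReduced_of_encard_le_one _ (by
    rw [← ENat.card_coe_set_eq, hcard])

variable (R R' T : Type u) [CommRing R] [HenselianLocalRing R] [IsSepClosed (ResidueField R)]
  [CommRing R'] [Algebra R R'] [Algebra.Smooth R R']
  (q : Ideal R') [q.IsPrime]
  [CommRing T] [IsLocalRing T] [Algebra (Localization.AtPrime q) T]
  [IsLocalHom (algebraMap (Localization.AtPrime q) T)]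
  [Hensel.IsStrictHenselization (Localization.AtPrime q) T]

theorem prime_map_strictHenselization (hq : (maximalIdeal R).map (algebraMap R R') ≤ q)
    (Δ : R) (hΔ : Prime Δ) :
    Prime (algebraMap (Localization.AtPrime q) T
      (algebraMap R' (Localization.AtPrime q) (algebraMap R R' Δ))) := by
  -- the base modulo `Δ`
  obtain ⟨J, hJdef⟩ : ∃ J : Ideal R, J = Ideal.span {Δ} := ⟨_, rfl⟩
  haveI hJp : J.IsPrime := by
    rw [hJdef]
    exact (Ideal.span_singleton_prime hΔ.ne_zero).mpr hΔ
  have hJm : J ≤ maximalIdeal R := le_maximalIdeal hJp.ne_top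
  haveI : IsLocalRing (R ⧸ J) := isLocalRing_quotient J hJm
  haveI : HenselianLocalRing (R ⧸ J) := Groth.Agent.S0505.result R (R ⧸ J)
  haveI : IsSepClosed (ResidueField (R ⧸ J)) := isSepClosed_residueField_quotient J hJm
  haveI : IsDomain (R ⧸ J) := (Ideal.Quotient.isDomain_iff_prime J).mpr hJp
  haveI : Hensel.IsStrictHenselization (R ⧸ J) (R ⧸ J) :=
    Groth.Agent.Lib.HensJointH3.isStrictHenselization_self (R ⧸ J)
  obtain ⟨hred, hgu⟩ := (Groth.Agent.S2750.result (R ⧸ J) (R ⧸ J)).mpr inferInstance
  haveI := hred
  -- the smooth algebra modulo `Δ`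
  obtain ⟨I, hIdef⟩ : ∃ I : Ideal R', I = J.map (algebraMap R R') := ⟨_, rfl⟩
  subst hIdef
  haveI : Algebra.Smooth (R ⧸ J) (R' ⧸ J.map (algebraMap R R')) :=
    Algebra.Smooth.of_equiv (Algebra.TensorProduct.quotIdealMapEquivQuotTensor R' J).symm
  have hIq : J.map (algebraMap R R') ≤ q := (Ideal.map_mono hJm).trans hq
  obtain ⟨q', hq'def⟩ : ∃ q' : Ideal (R' ⧸ J.map (algebraMap R R')),
      q' = q.map (Ideal.Quotient.mk (J.map (algebraMap R R'))) := ⟨_, rfl⟩
  haveI hq'p : q'.IsPrime := by
    rw [hq'def]
    exact Ideal.map_isPrime_of_surjective Ideal.Quotient.mk_surjective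
      (by rw [Ideal.mk_ker]; exact hIq)
  have hmemq' : ∀ x : R', Ideal.Quotient.mk (J.map (algebraMap R R')) x ∈ q' ↔ x ∈ q := by
    intro x
    rw [hq'def]
    constructor
    · intro hx
      obtain ⟨y, hy, hxy⟩ := (Ideal.mem_map_iff_of_surjective _
        Ideal.Quotient.mk_surjective).mp hx
      have h1 : y - x ∈ J.map (algebraMap R R') := by
        rw [← Ideal.Quotient.eq_zero_iff_mem, map_sub, hxy, sub_self]
      have h2 : x = y - (y - x) := by ring
      rw [h2]
      exact q.sub_mem hy (hIq h1)
    · intro hx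
      exact Ideal.mem_map_of_mem _ hx
  have hq' : (maximalIdeal (R ⧸ J)).map
      (algebraMap (R ⧸ J) (R' ⧸ J.map (algebraMap R R'))) ≤ q' := by
    rw [Ideal.map_le_iff_le_comap]
    intro x hx
    obtain ⟨a, rfl⟩ := Ideal.Quotient.mk_surjective x
    have ha : a ∈ maximalIdeal R := by
      rw [mem_maximalIdeal, mem_nonunits_iff]
      intro hu
      exact hx (hu.map (Ideal.Quotient.mk J))
    rw [Ideal.mem_comap]
    have h1 : algebraMap (R ⧸ J) (R' ⧸ J.map (algebraMap R R')) (Ideal.Quotient.mk J a) =
        Ideal.Quotient.mk (J.map (algebraMap R R')) (algebraMap R R' a) := rfl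
    rw [h1, hmemq']
    exact hq (Ideal.mem_map_of_mem _ ha)
  -- the local ring modulo `Δ`
  obtain ⟨P, hPdef⟩ : ∃ P : Ideal (Localization.AtPrime q),
      P = (J.map (algebraMap R R')).map (algebraMap R' (Localization.AtPrime q)) := ⟨_, rfl⟩
  have hPm : P ≤ maximalIdeal (Localization.AtPrime q) := by
    rw [hPdef, Ideal.map_le_iff_le_comap]
    have h0 := IsLocalization.AtPrime.comap_maximalIdeal (Localization.AtPrime q) q
    exact hIq.trans (le_of_eq h0.symm)
  haveI hloc0 : IsLocalization (Algebra.algebraMapSubmonoid (R' ⧸ J.map (algebraMap R R'))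
      q.primeCompl)
      (Localization.AtPrime q ⧸
        (J.map (algebraMap R R')).map (algebraMap R' (Localization.AtPrime q))) :=
    inferInstance
  have hsub : Algebra.algebraMapSubmonoid (R' ⧸ J.map (algebraMap R R')) q.primeCompl =
      q'.primeCompl := by
    ext z
    constructor
    · rintro ⟨x, hx, rfl⟩
      show _ ∉ q'
      have h1 : algebraMap R' (R' ⧸ J.map (algebraMap R R')) x =
          Ideal.Quotient.mk (J.map (algebraMap R R')) x := rfl
      rw [h1, hmemq']
      exact hx
    · intro hz
      obtain ⟨x, rfl⟩ := Ideal.Quotient.mk_surjective z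
      have hz' : Ideal.Quotient.mk (J.map (algebraMap R R')) x ∉ q' := hz
      rw [hmemq'] at hz'
      exact ⟨x, hz', rfl⟩
  subst hPdef
  haveI hlocP : IsLocalization.AtPrime (Localization.AtPrime q ⧸
      (J.map (algebraMap R R')).map (algebraMap R' (Localization.AtPrime q))) q' := by
    show IsLocalization q'.primeCompl _
    rw [← hsub]
    exact hloc0
  haveI : IsLocalRing (Localization.AtPrime q ⧸
      (J.map (algebraMap R R')).map (algebraMap R' (Localization.AtPrime q))) :=
    isLocalRing_quotient _ hPm
  have hguB := isGeomUnibranch_of_isLocalization_of_smooth (R ⧸ J)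
    (R' ⧸ J.map (algebraMap R R')) q' (Localization.AtPrime q ⧸
      (J.map (algebraMap R R')).map (algebraMap R' (Localization.AtPrime q))) hgu hq'
  have hdomB := isDomain_of_isLocalization_of_smooth (R ⧸ J)
    (R' ⧸ J.map (algebraMap R R')) q' (Localization.AtPrime q ⧸
      (J.map (algebraMap R R')).map (algebraMap R' (Localization.AtPrime q))) hgu hq'
  have hdomT := isDomain_quotient_strictHenselization (Localization.AtPrime q) T
    ((J.map (algebraMap R R')).map (algebraMap R' (Localization.AtPrime q))) hdomB hguB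
  have hPTp := (Ideal.Quotient.isDomain_iff_prime _).mp hdomT
  have hspan : ((J.map (algebraMap R R')).map (algebraMap R' (Localization.AtPrime q))).map
      (algebraMap (Localization.AtPrime q) T) =
      Ideal.span {algebraMap (Localization.AtPrime q) T
        (algebraMap R' (Localization.AtPrime q) (algebraMap R R' Δ))} := by
    rw [hJdef, Ideal.map_span, Ideal.map_span, Ideal.map_span, Set.image_singleton,
      Set.image_singleton, Set.image_singleton]
  rw [hspan] at hPTp
  refine (Ideal.span_singleton_prime ?_).mp hPTp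
  -- injectivity
  haveI : Module.Flat R' (Localization.AtPrime q) := IsLocalization.flat _ q.primeCompl
  haveI : Module.Flat R (Localization.AtPrime q) := Module.Flat.trans R R' _
  haveI : IsLocalHom (algebraMap R (Localization.AtPrime q)) := by
    refine ⟨fun a ha => ?_⟩
    by_contra hna
    have ham : a ∈ maximalIdeal R := hna
    have h1 : algebraMap R R' a ∈ q := hq (Ideal.mem_map_of_mem _ ham)
    rw [IsScalarTower.algebraMap_apply R R' (Localization.AtPrime q),
      IsLocalization.AtPrime.isUnit_to_map_iff (Localization.AtPrime q) q] at ha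
    exact ha h1
  haveI : Module.FaithfullyFlat R (Localization.AtPrime q) :=
    Module.FaithfullyFlat.of_flat_of_isLocalHom
  have hinj1 : Function.Injective (algebraMap R (Localization.AtPrime q)) :=
    FaithfulSMul.algebraMap_injective R _
  haveI hflT := Groth.Agent.Lib.StrictHens.faithfullyFlat_of_isStrictHenselization
    (R := Localization.AtPrime q) T
  have hinj2 : Function.Injective (algebraMap (Localization.AtPrime q) T) :=
    FaithfulSMul.algebraMap_injective _ T
  intro h0
  rw [← IsScalarTower.algebraMap_apply R R' (Localization.AtPrime q)] at h0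
  have h1 := hinj1 (hinj2 (h0.trans (map_zero _).symm) |>.trans (map_zero _).symm)
  exact hΔ.ne_zero h1

end Prime

end Groth.Agent.Lib.SmoothUnibranchH3
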