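import Mathlib
import Groth.Agent.Lib.SmoothUnibranch4_helper3
import Groth.Agent.Lib.HensBranches8_helper3
import Groth.Agent.Lib.SchFin2_helper3

/-!
# The number of minimal primes of a local ring of a smooth algebra is bounded by the number of
geometric branches of the base (helper3)
-/

set_option autoImplicit false
set_option maxSynthPendingDepth 3
universe u

namespace Groth.Agent.Lib.SmoothUnibranchH3

open TensorProduct IsLocalRing

section Prime

open Groth.Agent.Lib.BrEtNbhdH3 Groth.Agent.Lib.HensBranchesH3 Groth.Agent.Lib.UnibranchH3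

variable (R R' : Type u) [CommRing R] [HenselianLocalRing R] [IsSepClosed (ResidueField R)]
  [CommRing R'] [Algebra R R'] [Algebra.Smooth R R']
  (q : Ideal R') [q.IsPrime]

/-- **Primes of a strictly henselian local ring stay prime in local rings of smooth algebras**
(at primes over the closed point). -/
theorem isPrime_map_localization_of_smooth (hq : (maximalIdeal R).map (algebraMap R R') ≤ q)
    (J : Ideal R) [hJp : J.IsPrime] :
    ((J.map (algebraMap R R')).map (algebraMap R' (Localization.AtPrime q))).IsPrime := by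
  have hJm : J ≤ maximalIdeal R := le_maximalIdeal hJp.ne_top
  haveI : IsLocalRing (R ⧸ J) := isLocalRing_quotient J hJm
  haveI : HenselianLocalRing (R ⧸ J) := Groth.Agent.S0505.result R (R ⧸ J)
  haveI : IsSepClosed (ResidueField (R ⧸ J)) := isSepClosed_residueField_quotient J hJm
  haveI : IsDomain (R ⧸ J) := (Ideal.Quotient.isDomain_iff_prime J).mpr hJp
  haveI : Hensel.IsStrictHenselization (R ⧸ J) (R ⧸ J) :=
    Groth.Agent.Lib.HensJointH3.isStrictHenselization_self (R ⧸ J)
  obtain ⟨hred, hgu⟩ := (Groth.Agent.S2750.result (R ⧸ J) (R ⧸ J)).mpr inferInstance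
  haveI := hred
  -- the smooth algebra modulo `Δ`
  obtain ⟨I, hIdef⟩ : ∃ I : Ideal R', I = J.map (algebraMap R R') := ⟨_, rfl⟩
  subst hIdef
  haveI : Algebra.Smooth (R ⧸ J) (R' ⧸ J.map (algebraMap R R')) :=
    Algebra.Smooth.of_equiv (Algebra.TensorProduct.quotIdealMapEquivQuotTensor R' J).symm
  have hIq : J.map (algebraMap R R') ≤ q := (Ideal.map_mono hJm).trans hq
  obtain ⟨q', hq'def⟩ : ∃ q' : Ideal (R' ⧸ J.map (algebraMap R R')),
      q' = q.map (Ideal.Quotient.mk (J.map (algebraMap R R'))) := ⟨_, rfl⟩
  haveI hq'p : q'.IsPrime := by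
    rw [hq'def]
    exact Ideal.map_isPrime_of_surjective Ideal.Quotient.mk_surjective
      (by rw [Ideal.mk_ker]; exact hIq)
  have hmemq' : ∀ x : R', Ideal.Quotient.mk (J.map (algebraMap R R')) x ∈ q' ↔ x ∈ q := by
    intro x
    rw [hq'def]
    constructor
    · intro hx
      obtain ⟨y, hy, hxy⟩ := (Ideal.mem_map_iff_of_surjective _
        Ideal.Quotient.mk_surjective).mp hx
      have h1 : y - x ∈ J.map (algebraMap R R') := by
        rw [← Ideal.Quotient.eq_zero_iff_mem, map_sub, hxy, sub_self]
      have h2 : x = y - (y - x) := by ring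
      rw [h2]
      exact q.sub_mem hy (hIq h1)
    · intro hx
      exact Ideal.mem_map_of_mem _ hx
  have hq' : (maximalIdeal (R ⧸ J)).map
      (algebraMap (R ⧸ J) (R' ⧸ J.map (algebraMap R R'))) ≤ q' := by
    rw [Ideal.map_le_iff_le_comap]
    intro x hx
    obtain ⟨a, rfl⟩ := Ideal.Quotient.mk_surjective x
    have ha : a ∈ maximalIdeal R := by
      rw [mem_maximalIdeal, mem_nonunits_iff]
      intro hu
      exact hx (hu.map (Ideal.Quotient.mk J))
    rw [Ideal.mem_comap]
    have h1 : algebraMap (R ⧸ J) (R' ⧸ J.map (algebraMap R R')) (Ideal.Quotient.mk J a) =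
        Ideal.Quotient.mk (J.map (algebraMap R R')) (algebraMap R R' a) := rfl
    rw [h1, hmemq']
    exact hq (Ideal.mem_map_of_mem _ ha)
  -- the local ring modulo `Δ`
  obtain ⟨P, hPdef⟩ : ∃ P : Ideal (Localization.AtPrime q),
      P = (J.map (algebraMap R R')).map (algebraMap R' (Localization.AtPrime q)) := ⟨_, rfl⟩
  have hPm : P ≤ maximalIdeal (Localization.AtPrime q) := by
    rw [hPdef, Ideal.map_le_iff_le_comap]
    have h0 := IsLocalization.AtPrime.comap_maximalIdeal (Localization.AtPrime q) q
    exact hIq.trans (le_of_eq h0.symm)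
  haveI hloc0 : IsLocalization (Algebra.algebraMapSubmonoid (R' ⧸ J.map (algebraMap R R'))
      q.primeCompl)
      (Localization.AtPrime q ⧸
        (J.map (algebraMap R R')).map (algebraMap R' (Localization.AtPrime q))) :=
    inferInstance
  have hsub : Algebra.algebraMapSubmonoid (R' ⧸ J.map (algebraMap R R')) q.primeCompl =
      q'.primeCompl := by
    ext z
    constructor
    · rintro ⟨x, hx, rfl⟩
      show _ ∉ q'
      have h1 : algebraMap R' (R' ⧸ J.map (algebraMap R R')) x =
          Ideal.Quotient.mk (J.map (algebraMap R R')) x := rfl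
      rw [h1, hmemq']
      exact hx
    · intro hz
      obtain ⟨x, rfl⟩ := Ideal.Quotient.mk_surjective z
      have hz' : Ideal.Quotient.mk (J.map (algebraMap R R')) x ∉ q' := hz
      rw [hmemq'] at hz'
      exact ⟨x, hz', rfl⟩
  subst hPdef
  haveI hlocP : IsLocalization.AtPrime (Localization.AtPrime q ⧸
      (J.map (algebraMap R R')).map (algebraMap R' (Localization.AtPrime q))) q' := by
    show IsLocalization q'.primeCompl _
    rw [← hsub]
    exact hloc0
  haveI : IsLocalRing (Localization.AtPrime q ⧸
      (J.map (algebraMap R R')).map (algebraMap R' (Localization.AtPrime q))) :=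
    isLocalRing_quotient _ hPm
  have hguB := isGeomUnibranch_of_isLocalization_of_smooth (R ⧸ J)
    (R' ⧸ J.map (algebraMap R R')) q' (Localization.AtPrime q ⧸
      (J.map (algebraMap R R')).map (algebraMap R' (Localization.AtPrime q))) hgu hq'
  have hdomB := isDomain_of_isLocalization_of_smooth (R ⧸ J)
    (R' ⧸ J.map (algebraMap R R')) q' (Localization.AtPrime q ⧸
      (J.map (algebraMap R R')).map (algebraMap R' (Localization.AtPrime q))) hgu hq'
  exact (Ideal.Quotient.isDomain_iff_prime _).mp hdomB

end Prime

section Count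

open Groth.Agent.Lib.HensBranchesH3

attribute [local instance] Algebra.TensorProduct.rightAlgebra

/-- contraction along a flat map such that minimal primes of the source extend to primes is
injective on minimal primes -/
theorem encard_minimalPrimes_le_of_map_isPrime {S C : Type u} [CommRing S] [CommRing C]
    [Algebra S C] [Module.Flat S C]
    (h : ∀ P ∈ minimalPrimes S, (P.map (algebraMap S C)).IsPrime) :
    (minimalPrimes C).encard ≤ (minimalPrimes S).encard := by
  have hkey : ∀ Q ∈ minimalPrimes C, Q = (Q.comap (algebraMap S C)).map (algebraMap S C) := by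
    intro Q hQ
    have hP := comap_mem_minimalPrimes_of_flat (S := S) Q hQ
    have hprime := h _ hP
    have hle : (Q.comap (algebraMap S C)).map (algebraMap S C) ≤ Q := Ideal.map_comap_le
    exact le_antisymm (hQ.2 ⟨hprime, bot_le⟩ hle) hle
  rw [← ENat.card_coe_set_eq, ← ENat.card_coe_set_eq]
  refine ENat.card_le_card_of_injective (f := fun Q : minimalPrimes C =>
    (⟨Q.1.comap (algebraMap S C), comap_mem_minimalPrimes_of_flat Q.1 Q.2⟩ : minimalPrimes S)) ?_
  rintro ⟨Q₁, h₁⟩ ⟨Q₂, h₂⟩ h12
  have h3 : Q₁.comap (algebraMap S C) = Q₂.comap (algebraMap S C) := congrArg Subtype.val h12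
  apply Subtype.ext
  show Q₁ = Q₂
  rw [hkey Q₁ h₁, hkey Q₂ h₂, h3]

variable (A : Type u) [CommRing A] [IsLocalRing A]
  (Ash : Type u) [CommRing Ash] [IsLocalRing Ash] [Algebra A Ash] [IsLocalHom (algebraMap A Ash)]
  [Hensel.IsStrictHenselization A Ash]
  (E : Type u) [CommRing E] [Algebra A E] [Algebra.Smooth A E] (q : Ideal E) [q.IsPrime]

/-- **the local ring of a smooth algebra at a prime over the closed point has at most as many
minimal primes as the strict henselization of the base** -/
theorem encard_minimalPrimes_localization_le_of_smooth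
    (hq : (maximalIdeal A).map (algebraMap A E) ≤ q) :
    (minimalPrimes (Localization.AtPrime q)).encard ≤ (minimalPrimes Ash).encard := by
  haveI hS : HenselianLocalRing Ash := Hensel.IsStrictHenselization.henselian A
  haveI hsc : IsSepClosed (ResidueField Ash) :=
    (Hensel.IsStrictHenselization.isSepClosure (R := A) (S := Ash)).sep_closed
  haveI hfl : Module.FaithfullyFlat A Ash :=
    Groth.Agent.Lib.StrictHens.faithfullyFlat_of_isStrictHenselization (R := A) Ash
  have hcomap : PrimeSpectrum.comap (algebraMap A Ash) ⟨maximalIdeal Ash, inferInstance⟩ =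
      PrimeSpectrum.comap (algebraMap A E) ⟨q, inferInstance⟩ := by
    apply PrimeSpectrum.ext
    show (maximalIdeal Ash).comap (algebraMap A Ash) = q.comap (algebraMap A E)
    have h04 : (maximalIdeal Ash).comap (algebraMap A Ash) = maximalIdeal A :=
      ((local_hom_TFAE (algebraMap A Ash)).out 0 4).mp ‹IsLocalHom (algebraMap A Ash)›
    rw [h04]
    have hmax : maximalIdeal A ≤ q.comap (algebraMap A E) := Ideal.map_le_iff_le_comap.mp hq
    exact (maximalIdeal.isMaximal A).eq_of_le (Ideal.comap_ne_top _ (Ideal.IsPrime.ne_top ‹q.IsPrime›)) hmax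
  obtain ⟨r, hr1, hr2⟩ := Groth.Agent.Lib.SchFin_helper3.exists_prime_tensor (R := A) (A := Ash)
    (B := E) ⟨maximalIdeal Ash, inferInstance⟩ ⟨q, inferInstance⟩ hcomap
  -- `r` lies over the closed point of `Ash` and over `q`
  have hr1' : r.asIdeal.comap (algebraMap Ash (Ash ⊗[A] E)) = maximalIdeal Ash :=
    congrArg PrimeSpectrum.asIdeal hr1
  have hr2' : q = r.asIdeal.comap (algebraMap E (Ash ⊗[A] E)) :=
    (congrArg PrimeSpectrum.asIdeal hr2).symm
  have hrm : (maximalIdeal Ash).map (algebraMap Ash (Ash ⊗[A] E)) ≤ r.asIdeal := by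
    rw [Ideal.map_le_iff_le_comap, hr1']
  -- step (a): `E_q → C` is faithfully flat
  haveI hflE : Module.Flat E (Ash ⊗[A] E) :=
    Module.Flat.of_linearEquiv (Algebra.TensorProduct.commRight A E Ash).symm.toLinearEquiv
  have hflat1 : (Localization.localRingHom q r.asIdeal (algebraMap E (Ash ⊗[A] E)) hr2').Flat :=
    RingHom.Flat.localRingHom (RingHom.flat_algebraMap_iff.mpr hflE) r.asIdeal q hr2'
  have h1 : (minimalPrimes (Localization.AtPrime q)).encard ≤
      (minimalPrimes (Localization.AtPrime r.asIdeal)).encard := by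
    letI := (Localization.localRingHom q r.asIdeal (algebraMap E (Ash ⊗[A] E)) hr2').toAlgebra
    haveI : Module.Flat (Localization.AtPrime q) (Localization.AtPrime r.asIdeal) := hflat1
    haveI : IsLocalHom (algebraMap (Localization.AtPrime q) (Localization.AtPrime r.asIdeal)) :=
      Localization.isLocalHom_localRingHom _ _ _ hr2'
    haveI : Module.FaithfullyFlat (Localization.AtPrime q) (Localization.AtPrime r.asIdeal) :=
      Module.FaithfullyFlat.of_flat_of_isLocalHom
    have := card_minimalPrimes_le_of_faithfullyFlat (S := Localization.AtPrime q)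
      (B := Localization.AtPrime r.asIdeal)
    rwa [ENat.card_coe_set_eq, ENat.card_coe_set_eq] at this
  -- step (b)
  have h2 : (minimalPrimes (Localization.AtPrime r.asIdeal)).encard ≤
      (minimalPrimes Ash).encard := by
    haveI : Module.Flat Ash (Ash ⊗[A] E) := inferInstance
    haveI : Module.Flat (Ash ⊗[A] E) (Localization.AtPrime r.asIdeal) :=
      IsLocalization.flat _ r.asIdeal.primeCompl
    haveI : Module.Flat Ash (Localization.AtPrime r.asIdeal) :=
      Module.Flat.trans Ash (Ash ⊗[A] E) _
    refine encard_minimalPrimes_le_of_map_isPrime (S := Ash)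
      (C := Localization.AtPrime r.asIdeal) fun P hP => ?_
    haveI : P.IsPrime := hP.1.1
    have := isPrime_map_localization_of_smooth Ash (Ash ⊗[A] E) r.asIdeal hrm P
    rwa [Ideal.map_map, ← IsScalarTower.algebraMap_eq] at this
  exact h1.trans h2

end Count

end Groth.Agent.Lib.SmoothUnibranchH3
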