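import Mathlib
import Groth.Agent.Lib.SmoothUnibranch5_helper3
import Groth.Agent.Lib.SmoothUnibranch3_helper3
import Groth.Agent.S9238

/-!
# Smooth local homomorphisms preserve the number of geometric branches (helper3)
-/

set_option autoImplicit false
set_option maxSynthPendingDepth 3
universe u

namespace Groth.Agent.Lib.SmoothUnibranchH3

open TensorProduct IsLocalRing

section General

open Groth.Agent.Lib.BrEtNbhdH3

variable (A : Type u) [CommRing A] [IsLocalRing A]
  (Ash : Type u) [CommRing Ash] [IsLocalRing Ash] [Algebra A Ash] [IsLocalHom (algebraMap A Ash)]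
  [Hensel.IsStrictHenselization A Ash]
  (R' : Type u) [CommRing R'] [Algebra A R'] [Algebra.Smooth A R'] (p : Ideal R') [p.IsPrime]
  (Bp : Type u) [CommRing Bp] [IsLocalRing Bp] [Algebra R' Bp] [IsLocalization.AtPrime Bp p]

/-- the number of geometric branches of a local ring of a smooth algebra (at a prime over the
closed point) is at most that of the base -/
theorem numGeomBranches_le_of_isLocalization_of_smooth
    (hp : (maximalIdeal A).map (algebraMap A R') ≤ p) :
    Brnch.numGeomBranches Bp ≤ (minimalPrimes Ash).encard := by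
  rw [numGeomBranches_eq_iSup Bp]
  refine iSup_le fun j => ?_
  haveI : (RingHom.ker j.pt).IsPrime := Groth.Agent.Lib.StrictHens.ker_isPrime j.pt
  obtain ⟨E, _, _, q, _, hE, ⟨κ⟩⟩ := Groth.Agent.Lib.EssEtTransH4.core R' R'
    Bp j.C p (RingHom.ker j.pt)
  haveI := hE
  letI algAE : Algebra A E := ((algebraMap R' E).comp (algebraMap A R')).toAlgebra
  haveI : IsScalarTower A R' E := IsScalarTower.of_algebraMap_eq (fun _ => rfl)
  haveI : Algebra.Smooth A E := Algebra.Smooth.comp A R' E
  have hpq : p = q.comap (algebraMap R' E) :=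
    comap_eq_of_algEquiv R' p Bp E q j.A κ
  have hq : (maximalIdeal A).map (algebraMap A E) ≤ q := by
    rw [Ideal.map_le_iff_le_comap]
    intro a ha
    rw [Ideal.mem_comap, IsScalarTower.algebraMap_apply A R' E]
    have h1 : algebraMap A R' a ∈ p := hp (Ideal.mem_map_of_mem _ ha)
    rw [hpq] at h1
    exact h1
  rw [← encard_minimalPrimes_eq_of_ringEquiv κ.toRingEquiv]
  exact encard_minimalPrimes_localization_le_of_smooth A Ash E q hq

end General

section Lower

open Groth.Agent.Lib.BrEtNbhdH3 Groth.Agent.Lib.HensBranchesH3 EGA4loc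

attribute [local instance] Algebra.TensorProduct.rightAlgebra

/-- along a flat local homomorphism `A → B`, an essentially étale local `A`-algebra has at most
`numGeomBranches B` minimal primes -/
theorem encard_minimalPrimes_le_numGeomBranches_of_flat (A B : Type u) [CommRing A]
    [IsLocalRing A] [CommRing B] [IsLocalRing B] [Algebra A B] [IsLocalHom (algebraMap A B)]
    [Module.Flat A B]
    (C : Type u) [CommRing C] [Algebra A C] [Algebra.Etale A C] (q₀ : Ideal C) [q₀.IsPrime]
    (hq₀ : q₀.comap (algebraMap A C) = maximalIdeal A) :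
    (minimalPrimes (Localization.AtPrime q₀)).encard ≤ Brnch.numGeomBranches B := by
  have hcomap : PrimeSpectrum.comap (algebraMap A B) ⟨maximalIdeal B, inferInstance⟩ =
      PrimeSpectrum.comap (algebraMap A C) ⟨q₀, inferInstance⟩ := by
    apply PrimeSpectrum.ext
    show (maximalIdeal B).comap (algebraMap A B) = q₀.comap (algebraMap A C)
    have h04 : (maximalIdeal B).comap (algebraMap A B) = maximalIdeal A :=
      ((local_hom_TFAE (algebraMap A B)).out 0 4).mp ‹IsLocalHom (algebraMap A B)›
    rw [h04, hq₀]
  obtain ⟨r, hr1, hr2⟩ := Groth.Agent.Lib.SchFin_helper3.exists_prime_tensor (R := A) (A := B)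
    (B := C) ⟨maximalIdeal B, inferInstance⟩ ⟨q₀, inferInstance⟩ hcomap
  have hr1' : r.asIdeal.comap (algebraMap B (B ⊗[A] C)) = maximalIdeal B :=
    congrArg PrimeSpectrum.asIdeal hr1
  have hr2' : q₀ = r.asIdeal.comap (algebraMap C (B ⊗[A] C)) :=
    (congrArg PrimeSpectrum.asIdeal hr2).symm
  -- `B' := (B ⊗ C)_r` is essentially étale over `B`
  have hess : IsEssentiallyEtale B (Localization.AtPrime r.asIdeal) :=
    ⟨B ⊗[A] C, inferInstance, inferInstance, r.asIdeal, inferInstance, inferInstance, hr1',
      ⟨AlgEquiv.refl⟩⟩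
  haveI : IsLocalHom (algebraMap B (Localization.AtPrime r.asIdeal)) := by
    refine ⟨fun b hb => ?_⟩
    rw [IsScalarTower.algebraMap_apply B (B ⊗[A] C) (Localization.AtPrime r.asIdeal),
      IsLocalization.AtPrime.isUnit_to_map_iff (Localization.AtPrime r.asIdeal) r.asIdeal] at hb
    by_contra hnb
    have hbm : b ∈ maximalIdeal B := hnb
    rw [← hr1'] at hbm
    exact hb hbm
  have h2 : (minimalPrimes (Localization.AtPrime r.asIdeal)).encard ≤ Brnch.numGeomBranches B :=
    (encard_minimalPrimes_le_numGeomBranches (Localization.AtPrime r.asIdeal)).trans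
      (numGeomBranches_le_of_essEtale B (Localization.AtPrime r.asIdeal) hess)
  -- `C_{q₀} → B'` is faithfully flat
  haveI hflC : Module.Flat C (B ⊗[A] C) :=
    Module.Flat.of_linearEquiv (Algebra.TensorProduct.commRight A C B).symm.toLinearEquiv
  have hflat1 : (Localization.localRingHom q₀ r.asIdeal (algebraMap C (B ⊗[A] C)) hr2').Flat :=
    RingHom.Flat.localRingHom (RingHom.flat_algebraMap_iff.mpr hflC) r.asIdeal q₀ hr2'
  have h1 : (minimalPrimes (Localization.AtPrime q₀)).encard ≤
      (minimalPrimes (Localization.AtPrime r.asIdeal)).encard := by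
    letI := (Localization.localRingHom q₀ r.asIdeal (algebraMap C (B ⊗[A] C)) hr2').toAlgebra
    haveI : Module.Flat (Localization.AtPrime q₀) (Localization.AtPrime r.asIdeal) := hflat1
    haveI : IsLocalHom (algebraMap (Localization.AtPrime q₀) (Localization.AtPrime r.asIdeal)) :=
      Localization.isLocalHom_localRingHom _ _ _ hr2'
    haveI : Module.FaithfullyFlat (Localization.AtPrime q₀) (Localization.AtPrime r.asIdeal) :=
      Module.FaithfullyFlat.of_flat_of_isLocalHom
    have := card_minimalPrimes_le_of_faithfullyFlat (S := Localization.AtPrime q₀)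
      (B := Localization.AtPrime r.asIdeal)
    rwa [ENat.card_coe_set_eq, ENat.card_coe_set_eq] at this
  exact h1.trans h2

/-- the number of geometric branches does not decrease along flat local homomorphisms -/
theorem numGeomBranches_le_of_flat (A B : Type u) [CommRing A]
    [IsLocalRing A] [CommRing B] [IsLocalRing B] [Algebra A B] [IsLocalHom (algebraMap A B)]
    [Module.Flat A B] : Brnch.numGeomBranches A ≤ Brnch.numGeomBranches B := by
  rw [numGeomBranches_eq_iSup A]
  refine iSup_le fun i => ?_
  haveI : (RingHom.ker i.pt).IsPrime := Groth.Agent.Lib.StrictHens.ker_isPrime i.pt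
  obtain ⟨C, _, _, q₀, _, hC, hq₀, ⟨κ⟩⟩ := i.essEtale
  haveI := hC
  rw [encard_minimalPrimes_eq_of_ringEquiv κ.toRingEquiv]
  exact encard_minimalPrimes_le_numGeomBranches_of_flat A B C q₀ hq₀

end Lower

end Groth.Agent.Lib.SmoothUnibranchH3
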