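import Mathlib
import Groth.Prelude.Def_CAlgX
import Groth.Agent.Lib.JacCrit2_helper1

/-!
# Nagata's Jacobian criterion for quotients of power series rings, part 1: general lemmas (helper3)

* `localRingHom_surjective_ker`
* `exists_derivation_quotient` : descend a derivation killing an ideal to the quotient.
* `derivation_mem_span`
* `exists_algHom_add` : `g + Σ (g ∘ D_i) n_i` is an algebra map when `n_i` lie in a square-zero ideal.
* `isUnit_of_isUnit_mk`
* `adic_of_jacobian` : Jacobian condition ⇒ adic formal smoothness of the quotient.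

APPEND-ONLY once landed.
-/

set_option autoImplicit false
set_option maxSynthPendingDepth 3

namespace Groth.Agent.Lib.NagataJacH3

open IsLocalRing Matrix

universe u

section Loc

theorem localRingHom_surjective_ker {R S : Type u} [CommRing R] [CommRing S] (f : R →+* S)
    (hf : Function.Surjective f) (I : Ideal R) [I.IsPrime] (J : Ideal S) [J.IsPrime]
    (h : I = J.comap f) :
    Function.Surjective (Localization.localRingHom I J f h) ∧
      RingHom.ker (Localization.localRingHom I J f h) =
        (RingHom.ker f).map (algebraMap R (Localization.AtPrime I)) := by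
  subst h
  exact ⟨RingHom.surjective_localRingHom_of_surjective f hf J,
    Groth.Agent.Lib.JacCrit2H1.ker_localRingHom f hf J⟩

end Loc

section Der

theorem exists_derivation_quotient {k P M : Type*} [CommRing k] [CommRing P] [Algebra k P]
    (I : Ideal P) [AddCommGroup M] [Module P M] [Module k M] [IsScalarTower k P M]
    [Module (P ⧸ I) M] [IsScalarTower P (P ⧸ I) M] (D : Derivation k P M)
    (h : ∀ x ∈ I, D x = 0) :
    ∃ D' : Derivation k (P ⧸ I) M, ∀ x, D' (Ideal.Quotient.mk I x) = D x := by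
  have hout : ∀ x : P, D (Quotient.out (Ideal.Quotient.mk I x)) = D x := fun x => by
    have h1 : Quotient.out (Ideal.Quotient.mk I x) - x ∈ I := by
      rw [← Ideal.Quotient.eq_zero_iff_mem, map_sub, Ideal.Quotient.mk_out, sub_self]
    have h2 := h _ h1
    rwa [map_sub, sub_eq_zero] at h2
  let lin : (P ⧸ I) →ₗ[k] M :=
    { toFun := fun b => D (Quotient.out b)
      map_add' := fun a b => by
        obtain ⟨x, rfl⟩ := Ideal.Quotient.mk_surjective a
        obtain ⟨y, rfl⟩ := Ideal.Quotient.mk_surjective b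
        rw [← map_add, hout, hout, hout, map_add]
      map_smul' := fun c a => by
        obtain ⟨x, rfl⟩ := Ideal.Quotient.mk_surjective a
        have h1 : c • Ideal.Quotient.mk I x = Ideal.Quotient.mk I (c • x) :=
          (map_smul (Ideal.Quotient.mkₐ k I) c x).symm
        rw [h1, hout, hout, Derivation.map_smul]
        rfl }
  have hlin : ∀ x, lin (Ideal.Quotient.mk I x) = D x := hout
  refine ⟨Derivation.mk' lin (fun a b => ?_), hlin⟩
  obtain ⟨x, rfl⟩ := Ideal.Quotient.mk_surjective a
  obtain ⟨y, rfl⟩ := Ideal.Quotient.mk_surjective b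
  rw [← map_mul, hlin, hlin, hlin, D.leibniz, ← Ideal.Quotient.algebraMap_eq, algebraMap_smul,
    algebraMap_smul]

theorem derivation_mem_span {k S M : Type*} [CommRing k] [CommRing S] [Algebra k S]
    [AddCommGroup M] [Module S M] [Module k M] (d : Derivation k S M) (G : Set S)
    (hkill : ∀ z ∈ Ideal.span G, ∀ m : M, z • m = 0) (z : S) (hz : z ∈ Ideal.span G) :
    d z ∈ Submodule.span S (d '' G) := by
  induction hz using Submodule.span_induction with
  | mem x hx => exact Submodule.subset_span ⟨x, hx, rfl⟩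
  | zero => rw [map_zero]; exact zero_mem _
  | add x y _ _ hx hy => rw [map_add]; exact add_mem hx hy
  | smul c x hx hx' =>
    rw [smul_eq_mul, d.leibniz, hkill x hx, add_zero]
    exact Submodule.smul_mem _ _ hx'

end Der

section Lift

theorem exists_algHom_add {k P C : Type*} [CommRing k] [CommRing P] [CommRing C] [Algebra k P]
    [Algebra k C] (g : P →ₐ[k] C) (N : Ideal C) (hN : N ^ 2 = ⊥) {m : ℕ}
    (D : Fin m → Derivation k P P) (n : Fin m → C) (hn : ∀ i, n i ∈ N) :
    ∃ g' : P →ₐ[k] C, ∀ x, g' x = g x + ∑ i, g (D i x) * n i := by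
  have hθN : ∀ x, ∑ i, g (D i x) * n i ∈ N := fun x =>
    N.sum_mem (fun i _ => N.mul_mem_left _ (hn i))
  have hzero : ∀ a b : C, a ∈ N → b ∈ N → a * b = 0 := fun a b ha hb => by
    have h1 : a * b ∈ N ^ 2 := by rw [pow_two]; exact Ideal.mul_mem_mul ha hb
    rwa [hN, Ideal.mem_bot] at h1
  have hmul : ∀ x y, g (x * y) + ∑ i, g (D i (x * y)) * n i =
      (g x + ∑ i, g (D i x) * n i) * (g y + ∑ i, g (D i y) * n i) := by
    intro x y
    have h1 : ∑ i, g (D i (x * y)) * n i =
        g x * ∑ i, g (D i y) * n i + g y * ∑ i, g (D i x) * n i := by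
      rw [Finset.mul_sum, Finset.mul_sum, ← Finset.sum_add_distrib]
      refine Finset.sum_congr rfl (fun i _ => ?_)
      rw [Derivation.leibniz, map_add, smul_eq_mul, smul_eq_mul, map_mul, map_mul]
      ring
    have h2 := hzero _ _ (hθN x) (hθN y)
    rw [h1, map_mul]
    linear_combination (-1 : C) * h2
  refine ⟨{ toFun := fun x => g x + ∑ i, g (D i x) * n i
            map_one' := by simp [Derivation.map_one_eq_zero]
            map_mul' := hmul
            map_zero' := by simp
            map_add' := fun x y => by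
              simp only [map_add, add_mul, Finset.sum_add_distrib]
              ring
            commutes' := fun c => by simp [Derivation.map_algebraMap] }, fun x => rfl⟩

theorem isUnit_of_isUnit_mk {C : Type*} [CommRing C] (N : Ideal C) (hN : N ^ 2 = ⊥) (x : C)
    (h : IsUnit (Ideal.Quotient.mk N x)) : IsUnit x := by
  obtain ⟨y', hy'⟩ := h.exists_right_inv
  obtain ⟨y, rfl⟩ := Ideal.Quotient.mk_surjective y'
  have h1 : x * y - 1 ∈ N := by
    rw [← Ideal.Quotient.eq_zero_iff_mem, map_sub, map_mul, hy', map_one, sub_self]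
  have h2 : (x * y - 1) * (x * y - 1) = 0 := by
    have h3 : (x * y - 1) * (x * y - 1) ∈ N ^ 2 := by
      rw [pow_two]; exact Ideal.mul_mem_mul h1 h1
    rwa [hN, Ideal.mem_bot] at h3
  refine IsUnit.of_mul_eq_one (y * (2 - x * y)) ?_
  linear_combination (-1 : C) * h2

end Lift

section Main

variable {k P : Type u} [Field k] [CommRing P] [Algebra k P] (p : Ideal P) [p.IsPrime]

/-- Jacobian condition ⇒ the quotient of `P_p` is adically formally smooth -/
theorem adic_of_jacobian (T : Type u) [CommRing T] [IsLocalRing T] [Algebra k T]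
    (ρ : Localization.AtPrime p →ₐ[k] T) (hρ : Function.Surjective ρ)
    (hS : CAlgX.IsAdicFormallySmooth k (Localization.AtPrime p)
      (maximalIdeal (Localization.AtPrime p)))
    {m : ℕ} (D : Fin m → Derivation k P P) (f : Fin m → P)
    (hker : RingHom.ker ρ.toRingHom =
      Ideal.span (Set.range fun i => algebraMap P (Localization.AtPrime p) (f i)))
    (hdet : Matrix.det (Matrix.of fun i j => D i (f j)) ∉ p) :
    CAlgX.IsAdicFormallySmooth k T (maximalIdeal T) := by
  classical
  intro C _ _ N hN ψ hψ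
  obtain ⟨e, he⟩ := hψ
  have hloc : IsLocalHom ρ.toRingHom := IsLocalHom.of_surjective _ hρ
  haveI := hloc
  have hmap : (maximalIdeal (Localization.AtPrime p)).map ρ.toRingHom ≤ maximalIdeal T :=
    ((IsLocalRing.local_hom_TFAE ρ.toRingHom).out 0 2).1 hloc
  obtain ⟨χ₁, hχ₁⟩ := hS C N hN (ψ.comp ρ) ⟨e, fun x hx => by
    show ψ (ρ x) = 0
    apply he
    have h1 : ρ.toRingHom x ∈ ((maximalIdeal (Localization.AtPrime p)) ^ e).map ρ.toRingHom :=
      Ideal.mem_map_of_mem _ hx
    rw [Ideal.map_pow] at h1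
    exact Ideal.pow_right_mono hmap e h1⟩
  have hχ₁' : ∀ y, Ideal.Quotient.mk N (χ₁ y) = ψ (ρ y) := fun y => AlgHom.congr_fun hχ₁ y
  let g : P →ₐ[k] C := χ₁.comp (IsScalarTower.toAlgHom k P (Localization.AtPrime p))
  have hg : ∀ x, g x = χ₁ (algebraMap P (Localization.AtPrime p) x) := fun x => rfl
  have hgf : ∀ j, g (f j) ∈ N := fun j => by
    rw [← Ideal.Quotient.eq_zero_iff_mem, hg, hχ₁']
    have h1 : algebraMap P (Localization.AtPrime p) (f j) ∈ RingHom.ker ρ.toRingHom := by
      rw [hker]; exact Ideal.subset_span ⟨j, rfl⟩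
    have h2 : ρ (algebraMap P (Localization.AtPrime p) (f j)) = 0 := h1
    rw [h2, map_zero]
  have hunit : ∀ x : P, x ∉ p → IsUnit (g x) := fun x hx => by
    apply isUnit_of_isUnit_mk N hN
    rw [hg, hχ₁']
    exact ((IsLocalization.map_units (Localization.AtPrime p) (⟨x, hx⟩ : p.primeCompl)).map ρ).map ψ
  let Mx : Matrix (Fin m) (Fin m) C := Matrix.of fun i j => g (D i (f j))
  have hMx : IsUnit Mx.det := by
    have h1 : Mx.det = g (Matrix.det (Matrix.of fun i j => D i (f j))) := by
      rw [AlgHom.map_det]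
      rfl
    rw [h1]
    exact hunit _ hdet
  let b : Fin m → C := fun j => - g (f j)
  let n : Fin m → C := (Mxᵀ)⁻¹.mulVec b
  have hnN : ∀ i, n i ∈ N := fun i => by
    show ∑ j, (Mxᵀ)⁻¹ i j * b j ∈ N
    exact N.sum_mem fun j _ => N.mul_mem_left _ (N.neg_mem (hgf j))
  have hsolve : ∀ j, ∑ i, g (D i (f j)) * n i = b j := by
    have h1 : Mxᵀ.mulVec n = b := by
      show Mxᵀ.mulVec ((Mxᵀ)⁻¹.mulVec b) = b
      rw [Matrix.mulVec_mulVec, Matrix.mul_nonsing_inv _ (by rwa [Matrix.det_transpose]),
        Matrix.one_mulVec]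
    intro j
    have h2 := congrFun h1 j
    simpa [Matrix.mulVec, dotProduct, Matrix.transpose_apply, Mx] using h2
  obtain ⟨g', hg'⟩ := exists_algHom_add g N hN D n hnN
  have hg'f : ∀ j, g' (f j) = 0 := fun j => by
    rw [hg', hsolve j]
    simp [b]
  have hg'mk : ∀ x, Ideal.Quotient.mk N (g' x) = Ideal.Quotient.mk N (g x) := fun x => by
    rw [hg', map_add, Ideal.Quotient.eq_zero_iff_mem.2
      (N.sum_mem fun i _ => N.mul_mem_left _ (hnN i)), add_zero]
  have hunit' : ∀ y : p.primeCompl, IsUnit (g'.toRingHom y) := fun y => by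
    apply isUnit_of_isUnit_mk N hN
    show IsUnit (Ideal.Quotient.mk N (g' y))
    rw [hg'mk]
    exact (hunit y y.2).map (Ideal.Quotient.mk N)
  let χ₂ : Localization.AtPrime p →+* C := IsLocalization.lift hunit'
  have hχ₂ : ∀ x, χ₂ (algebraMap P (Localization.AtPrime p) x) = g' x :=
    IsLocalization.lift_eq hunit'
  have hkerle : RingHom.ker ρ.toRingHom ≤ RingHom.ker χ₂ := by
    rw [hker, Ideal.span_le]
    rintro _ ⟨j, rfl⟩
    rw [SetLike.mem_coe, RingHom.mem_ker, hχ₂, hg'f]
  let χ₃ : T →+* C := RingHom.liftOfSurjective ρ.toRingHom hρ ⟨χ₂, hkerle⟩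
  have hχ₃ : ∀ y, χ₃ (ρ y) = χ₂ y := fun y =>
    RingHom.liftOfRightInverse_comp_apply _ _ _ ⟨χ₂, hkerle⟩ y
  let χ : T →ₐ[k] C :=
    { χ₃ with
      commutes' := fun c => by
        have h1 : algebraMap k T c = ρ (algebraMap k (Localization.AtPrime p) c) :=
          (ρ.commutes c).symm
        show χ₃ (algebraMap k T c) = _
        rw [h1, hχ₃, IsScalarTower.algebraMap_apply k P (Localization.AtPrime p), hχ₂,
          g'.commutes] }
  refine ⟨χ, ?_⟩
  apply AlgHom.ext
  intro t
  obtain ⟨y, rfl⟩ := hρ t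
  show Ideal.Quotient.mk N (χ₃ (ρ y)) = ψ (ρ y)
  rw [hχ₃, ← hχ₁']
  have h1 : (Ideal.Quotient.mk N).comp χ₂ = (Ideal.Quotient.mk N).comp χ₁.toRingHom := by
    apply IsLocalization.ringHom_ext p.primeCompl
    ext x
    show Ideal.Quotient.mk N (χ₂ (algebraMap P (Localization.AtPrime p) x)) =
      Ideal.Quotient.mk N (χ₁ (algebraMap P (Localization.AtPrime p) x))
    rw [hχ₂, hg'mk, hg]
  exact RingHom.congr_fun h1 y

end Main

end Groth.Agent.Lib.NagataJacH3
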