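import Mathlib
import Groth.Prelude.Def_Brnch
import Groth.Agent.Lib.GeomUniB6_helper3
import Groth.Agent.Lib.GUComponents_helper3
import Groth.Agent.Lib.NagataJac1_helper3
import Groth.Agent.Lib.SmoothUnibranch6_helper3
import Groth.Agent.Lib.HensJointStrictFin_helper3
import Groth.Agent.Lib.HensBranches13_helper3
import Groth.Agent.Lib.UnramGU3_helper3
import Groth.Agent.S9811
import Groth.Agent.S9236
import Groth.Agent.S2750
import Groth.Agent.S0505

/-!
# Geometric branches and base field extensions, ring level (helper3)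

For a strictly henselian local `k`-algebra `S` and a prime `q'` of `S ⊗_k K` over the maximal
ideal, the local ring `(S ⊗_k K)_{q'}` has at most as many geometric branches as `S` has minimal
primes.
APPEND-ONLY once landed.
-/

set_option autoImplicit false
set_option maxSynthPendingDepth 3
universe u

namespace Groth.Agent.Lib.BranchBCH3

open TensorProduct IsLocalRing

section Quot

variable (S : Type u) [CommRing S] [HenselianLocalRing S] [IsSepClosed (ResidueField S)]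

/-- The quotient of a strictly henselian local ring by a prime is geometrically unibranch. -/
theorem isGeomUnibranch_quotient (P : Ideal S) [hP : P.IsPrime] [IsLocalRing (S ⧸ P)] :
    CAlg2.IsGeomUnibranch (S ⧸ P) := by
  have hPm : P ≤ maximalIdeal S := le_maximalIdeal hP.ne_top
  haveI : HenselianLocalRing (S ⧸ P) := Groth.Agent.S0505.result S (S ⧸ P)
  haveI : IsSepClosed (ResidueField (S ⧸ P)) :=
    Groth.Agent.Lib.UnibranchH3.isSepClosed_residueField_quotient P hPm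
  haveI : IsDomain (S ⧸ P) := (Ideal.Quotient.isDomain_iff_prime P).mpr hP
  haveI : Hensel.IsStrictHenselization (S ⧸ P) (S ⧸ P) :=
    Groth.Agent.Lib.HensJointH3.isStrictHenselization_self (S ⧸ P)
  exact ((Groth.Agent.S2750.result (S ⧸ P) (S ⧸ P)).mpr inferInstance).2

end Quot

section Surj

variable {R D : Type u} [CommRing R] [CommRing D] (ψ : R →+* D) (hψ : Function.Surjective ψ)

include hψ in
theorem map_mem_minimalPrimes_of_surjective (𝔓 : Ideal R) (h𝔓 : 𝔓 ∈ minimalPrimes R)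
    (hker : RingHom.ker ψ ≤ 𝔓) :
    𝔓.map ψ ∈ minimalPrimes D ∧ (𝔓.map ψ).comap ψ = 𝔓 := by
  haveI : 𝔓.IsPrime := h𝔓.1.1
  have hcm : (𝔓.map ψ).comap ψ = 𝔓 := by
    rw [Ideal.comap_map_of_surjective ψ hψ]
    exact sup_eq_left.mpr hker
  refine ⟨⟨⟨Ideal.map_isPrime_of_surjective hψ hker, bot_le⟩, ?_⟩, hcm⟩
  intro 𝔔 h𝔔 hle
  haveI : 𝔔.IsPrime := h𝔔.1
  have h1 : 𝔔.comap ψ ≤ 𝔓 := by
    rw [← hcm]
    exact Ideal.comap_mono hle
  have h2 : 𝔓 ≤ 𝔔.comap ψ := h𝔓.2 ⟨Ideal.comap_isPrime ψ 𝔔, bot_le⟩ h1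
  calc 𝔓.map ψ ≤ (𝔔.comap ψ).map ψ := Ideal.map_mono h2
    _ = 𝔔 := Ideal.map_comap_of_surjective ψ hψ 𝔔

end Surj

section Main

variable (k S K : Type u) [Field k] [CommRing S] [IsLocalRing S] [Algebra k S] [Field K]
  [Algebra k K] (q' : Ideal (S ⊗[k] K)) [q'.IsPrime]

/-- If all quotients of `S` by minimal primes are geometrically unibranch, the local ring
`(S ⊗_k K)_{q'}` has at most as many geometric branches as `S` has minimal primes. -/
theorem numGeomBranches_localization_le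
    (hq' : q'.comap (algebraMap S (S ⊗[k] K)) = maximalIdeal S)
    (hS : ∀ (P : Ideal S) [P.IsPrime] [IsLocalRing (S ⧸ P)], P ∈ minimalPrimes S →
      CAlg2.IsGeomUnibranch (S ⧸ P)) :
    Brnch.numGeomBranches (Localization.AtPrime q') ≤ ENat.card (minimalPrimes S) := by
  classical
  -- the local homomorphism `S → C'`
  haveI hloc : IsLocalHom (algebraMap S (Localization.AtPrime q')) := by
    refine ⟨fun a ha => ?_⟩
    rw [IsScalarTower.algebraMap_apply S (S ⊗[k] K) (Localization.AtPrime q'),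
      IsLocalization.AtPrime.isUnit_to_map_iff (Localization.AtPrime q') q'] at ha
    have h1 : a ∉ maximalIdeal S := by
      rw [← hq']
      exact ha
    by_contra hu
    exact h1 ((mem_maximalIdeal a).mpr hu)
  haveI hflat : Module.Flat S (Localization.AtPrime q') :=
    Module.Flat.trans S (S ⊗[k] K) (Localization.AtPrime q')
  -- the data attached to a minimal prime
  have key : ∀ (P : Ideal S), P ∈ minimalPrimes S →
      ∃ (D : Type u) (_ : CommRing D) (_ : IsLocalRing D) (ψ : Localization.AtPrime q' →+* D),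
        Function.Surjective ψ ∧ CAlg2.IsGeomUnibranch D ∧
        RingHom.ker ψ = P.map (algebraMap S (Localization.AtPrime q')) := by
    intro P hP
    haveI hPp : P.IsPrime := hP.1.1
    have hPm : P ≤ maximalIdeal S := le_maximalIdeal hPp.ne_top
    haveI : IsLocalRing (S ⧸ P) :=
      IsLocalRing.of_surjective' (Ideal.Quotient.mk P) Ideal.Quotient.mk_surjective
    have hgu : CAlg2.IsGeomUnibranch (S ⧸ P) := hS P hP
    obtain ⟨φ, hφdef⟩ : ∃ φ : S ⊗[k] K →ₐ[k] (S ⧸ P) ⊗[k] K,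
        φ = Algebra.TensorProduct.map (Ideal.Quotient.mkₐ k P) (AlgHom.id k K) := ⟨_, rfl⟩
    have hφsurj : Function.Surjective φ := by
      rw [hφdef]
      exact Algebra.TensorProduct.map_surjective (Ideal.Quotient.mkₐ k P) (AlgHom.id k K)
        (Ideal.Quotient.mkₐ_surjective k P) Function.surjective_id
    have hφker : RingHom.ker φ.toRingHom = P.map (algebraMap S (S ⊗[k] K)) := by
      rw [hφdef]
      have h1 := Algebra.TensorProduct.map_ker (Ideal.Quotient.mkₐ k P) (AlgHom.id k K)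
        (Ideal.Quotient.mkₐ_surjective k P) Function.surjective_id
      have h2 : RingHom.ker (AlgHom.id k K) = ⊥ :=
        (RingHom.injective_iff_ker_eq_bot (AlgHom.id k K)).mp Function.injective_id
      have h3 : RingHom.ker (Ideal.Quotient.mkₐ k P) = P := Ideal.Quotient.mkₐ_ker k P
      rw [h2, h3, Ideal.map_bot, sup_bot_eq] at h1
      exact h1
    have hφtmul : ∀ s : S, φ (s ⊗ₜ[k] (1 : K)) = (Ideal.Quotient.mk P s) ⊗ₜ[k] (1 : K) := by
      intro s
      rw [hφdef, Algebra.TensorProduct.map_tmul]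
      rfl
    have hkerq : RingHom.ker φ.toRingHom ≤ q' := by
      rw [hφker, Ideal.map_le_iff_le_comap, hq']
      exact hPm
    obtain ⟨qb, hqbdef⟩ : ∃ qb : Ideal ((S ⧸ P) ⊗[k] K), qb = q'.map φ.toRingHom := ⟨_, rfl⟩
    haveI hqbp : qb.IsPrime := by
      rw [hqbdef]
      exact Ideal.map_isPrime_of_surjective hφsurj hkerq
    have hqbcomap : q' = qb.comap φ.toRingHom := by
      rw [hqbdef, Ideal.comap_map_of_surjective φ.toRingHom hφsurj]
      exact (sup_eq_left.mpr hkerq).symm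
    have hqb : qb.comap (algebraMap (S ⧸ P) ((S ⧸ P) ⊗[k] K)) = maximalIdeal (S ⧸ P) := by
      ext x
      obtain ⟨s, rfl⟩ := Ideal.Quotient.mk_surjective x
      rw [Ideal.mem_comap]
      have h1 : algebraMap (S ⧸ P) ((S ⧸ P) ⊗[k] K) (Ideal.Quotient.mk P s) =
          φ.toRingHom (algebraMap S (S ⊗[k] K) s) := by
        rw [Algebra.TensorProduct.algebraMap_apply, Algebra.TensorProduct.algebraMap_apply]
        exact (hφtmul s).symm
      rw [h1, ← Ideal.mem_comap, ← hqbcomap, ← Ideal.mem_comap, hq']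
      constructor
      · intro hs
        rw [mem_maximalIdeal, mem_nonunits_iff]
        intro hu
        rw [mem_maximalIdeal, mem_nonunits_iff] at hs
        apply hs
        haveI : IsLocalHom (Ideal.Quotient.mk P) :=
          IsLocalHom.of_surjective _ Ideal.Quotient.mk_surjective
        exact isUnit_of_map_unit (Ideal.Quotient.mk P) s hu
      · intro hs
        rw [mem_maximalIdeal, mem_nonunits_iff] at hs ⊢
        intro hu
        exact hs (hu.map (Ideal.Quotient.mk P))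
    have hD : CAlg2.IsGeomUnibranch (Localization.AtPrime qb) :=
      (Groth.Agent.Lib.GeomUniBH3.main2715 k (S ⧸ P) K qb hqb).mp hgu
    obtain ⟨hψsurj, hψker⟩ := Groth.Agent.Lib.NagataJacH3.localRingHom_surjective_ker
      φ.toRingHom hφsurj q' qb hqbcomap
    refine ⟨Localization.AtPrime qb, inferInstance, inferInstance,
      Localization.localRingHom q' qb φ.toRingHom hqbcomap, hψsurj, hD, ?_⟩
    rw [hψker, hφker, Ideal.map_map, ← IsScalarTower.algebraMap_eq]
  choose D hDring hDloc ψ hψsurj hDgu hψker using key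
  -- contraction of minimal primes
  let c : minimalPrimes (Localization.AtPrime q') → minimalPrimes S :=
    Groth.Agent.Lib.HensBranchesH3.contrF S (Localization.AtPrime q')
  have hc : ∀ 𝔓 : minimalPrimes (Localization.AtPrime q'),
      ((c 𝔓 : minimalPrimes S) : Ideal S) =
        𝔓.1.comap (algebraMap S (Localization.AtPrime q')) := fun 𝔓 => rfl
  have hcinj : Function.Injective c := by
    intro 𝔓₁ 𝔓₂ h12
    letI := hDring (c 𝔓₁).1 (c 𝔓₁).2
    letI := hDloc (c 𝔓₁).1 (c 𝔓₁).2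
    have hk1 : RingHom.ker (ψ (c 𝔓₁).1 (c 𝔓₁).2) ≤ 𝔓₁.1 := by
      rw [hψker, Ideal.map_le_iff_le_comap, hc]
    have h1 := map_mem_minimalPrimes_of_surjective (ψ (c 𝔓₁).1 (c 𝔓₁).2)
      (hψsurj (c 𝔓₁).1 (c 𝔓₁).2) 𝔓₁.1 𝔓₁.2 hk1
    have hk2 : RingHom.ker (ψ (c 𝔓₁).1 (c 𝔓₁).2) ≤ 𝔓₂.1 := by
      rw [hψker, Ideal.map_le_iff_le_comap, h12, hc]
    have h2 := map_mem_minimalPrimes_of_surjective (ψ (c 𝔓₁).1 (c 𝔓₁).2)
      (hψsurj (c 𝔓₁).1 (c 𝔓₁).2) 𝔓₂.1 𝔓₂.2 hk2
    have hle1 := Groth.Agent.Lib.GUComponentsH3.encard_minimalPrimes_le_one_of_isGeomUnibranch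
      (D (c 𝔓₁).1 (c 𝔓₁).2) (hDgu (c 𝔓₁).1 (c 𝔓₁).2)
    have heq := (Set.encard_le_one_iff.mp hle1) _ _ h1.1 h2.1
    apply Subtype.ext
    rw [← h1.2, ← h2.2, heq]
  have hcard : ENat.card (minimalPrimes (Localization.AtPrime q')) ≤
      ENat.card (minimalPrimes S) := ENat.card_le_card_of_injective hcinj
  by_cases hfinS : (minimalPrimes S).Finite
  swap
  · haveI : Infinite (minimalPrimes S) := Set.infinite_coe_iff.mpr hfinS
    rw [ENat.card_eq_top_of_infinite]
    exact le_top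
  haveI : Finite (minimalPrimes S) := hfinS.to_subtype
  haveI hfinC' : Finite (minimalPrimes (Localization.AtPrime q')) := Finite.of_injective c hcinj
  have hfinC : (minimalPrimes (Localization.AtPrime q')).Finite := Set.toFinite _
  haveI : Fintype (minimalPrimes (Localization.AtPrime q')) := Fintype.ofFinite _
  -- each term is one
  have hterm : ∀ 𝔓 : minimalPrimes (Localization.AtPrime q'),
      (haveI : 𝔓.1.IsPrime := 𝔓.2.1.1
       Brnch.numGeomBranches (Localization.AtPrime q' ⧸ 𝔓.1)) = 1 := by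
    intro 𝔓
    haveI h𝔓p : 𝔓.1.IsPrime := 𝔓.2.1.1
    letI := hDring (c 𝔓).1 (c 𝔓).2
    letI := hDloc (c 𝔓).1 (c 𝔓).2
    have hk1 : RingHom.ker (ψ (c 𝔓).1 (c 𝔓).2) ≤ 𝔓.1 := by
      rw [hψker, Ideal.map_le_iff_le_comap, hc]
    obtain ⟨h1, h2⟩ := map_mem_minimalPrimes_of_surjective (ψ (c 𝔓).1 (c 𝔓).2)
      (hψsurj (c 𝔓).1 (c 𝔓).2) 𝔓.1 𝔓.2 hk1
    obtain ⟨𝔔, h𝔔def⟩ : ∃ 𝔔 : Ideal (D (c 𝔓).1 (c 𝔓).2),
        𝔔 = 𝔓.1.map (ψ (c 𝔓).1 (c 𝔓).2) := ⟨_, rfl⟩
    rw [← h𝔔def] at h1 h2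
    haveI h𝔔p : 𝔔.IsPrime := h1.1.1
    have hle1 := Groth.Agent.Lib.GUComponentsH3.encard_minimalPrimes_le_one_of_isGeomUnibranch
      (D (c 𝔓).1 (c 𝔓).2) (hDgu (c 𝔓).1 (c 𝔓).2)
    have hfinD : (minimalPrimes (D (c 𝔓).1 (c 𝔓).2)).Finite :=
      Set.finite_of_encard_le_coe (k := 1) (by exact_mod_cast hle1)
    have hsingle : ∀ 𝔔' ∈ minimalPrimes (D (c 𝔓).1 (c 𝔓).2), 𝔔' = 𝔔 := fun 𝔔' h𝔔' =>
      (Set.encard_le_one_iff.mp hle1) _ _ h𝔔' h1
    haveI : IsLocalRing (D (c 𝔓).1 (c 𝔓).2 ⧸ 𝔔) :=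
      IsLocalRing.of_surjective' (Ideal.Quotient.mk 𝔔) Ideal.Quotient.mk_surjective
    have hDq : Brnch.numGeomBranches (D (c 𝔓).1 (c 𝔓).2 ⧸ 𝔔) = 1 := by
      have h3 := Groth.Agent.S9811.result (D (c 𝔓).1 (c 𝔓).2) hfinD
      rw [(Groth.Agent.S9236.result _).mpr (hDgu (c 𝔓).1 (c 𝔓).2)] at h3
      letI : Unique (minimalPrimes (D (c 𝔓).1 (c 𝔓).2)) :=
        { default := ⟨𝔔, h1⟩
          uniq := fun x => Subtype.ext (hsingle x.1 x.2) }
      rw [finsum_unique] at h3
      exact h3.symm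
    have hguq : CAlg2.IsGeomUnibranch (D (c 𝔓).1 (c 𝔓).2 ⧸ 𝔔) :=
      (Groth.Agent.S9236.result _).mp hDq
    -- the ring isomorphism
    obtain ⟨χ, hχdef⟩ : ∃ χ : Localization.AtPrime q' →+* D (c 𝔓).1 (c 𝔓).2 ⧸ 𝔔,
        χ = (Ideal.Quotient.mk 𝔔).comp (ψ (c 𝔓).1 (c 𝔓).2) := ⟨_, rfl⟩
    have hχsurj : Function.Surjective χ := by
      rw [hχdef]
      exact Ideal.Quotient.mk_surjective.comp (hψsurj (c 𝔓).1 (c 𝔓).2)
    have hχker : 𝔓.1 = RingHom.ker χ := by
      rw [hχdef, ← RingHom.comap_ker, Ideal.mk_ker, h2]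
    let e : (Localization.AtPrime q' ⧸ 𝔓.1) ≃+* (D (c 𝔓).1 (c 𝔓).2 ⧸ 𝔔) :=
      (Ideal.quotEquivOfEq hχker).trans (RingHom.quotientKerEquivOfSurjective hχsurj)
    haveI : IsLocalRing (Localization.AtPrime q' ⧸ 𝔓.1) :=
      IsLocalRing.of_surjective' (Ideal.Quotient.mk 𝔓.1) Ideal.Quotient.mk_surjective
    have hgu' : CAlg2.IsGeomUnibranch (Localization.AtPrime q' ⧸ 𝔓.1) :=
      Groth.Agent.Lib.UnramGUH3.isGeomUnibranch_of_ringEquiv e.symm hguq
    exact (Groth.Agent.S9236.result _).mpr hgu'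
  have hsum := Groth.Agent.S9811.result (Localization.AtPrime q') hfinC
  rw [finsum_eq_sum_of_fintype] at hsum
  rw [hsum, Finset.sum_congr rfl (fun 𝔓 _ => hterm 𝔓)]
  rw [Finset.sum_const, Finset.card_univ, nsmul_eq_mul, mul_one]
  rw [ENat.card_eq_coe_fintype_card] at hcard
  exact hcard

/-- The strictly henselian case. -/
theorem numGeomBranches_localization_le_of_strictHenselian [HenselianLocalRing S]
    [IsSepClosed (ResidueField S)]
    (hq' : q'.comap (algebraMap S (S ⊗[k] K)) = maximalIdeal S) :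
    Brnch.numGeomBranches (Localization.AtPrime q') ≤ ENat.card (minimalPrimes S) :=
  numGeomBranches_localization_le k S K q' hq'
    (fun P _ _ _ => isGeomUnibranch_quotient S P)

end Main

end Groth.Agent.Lib.BranchBCH3
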