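import Mathlib

/-!
# Local-to-global connectedness of complements of closed subsets, part 1 (helper3): topology.
APPEND-ONLY once landed.
-/

set_option autoImplicit false
universe u

namespace Groth.Agent.Lib.ConnLocalH3

open Topology TopologicalSpace Set

section Top

variable {α : Type*} [TopologicalSpace α]

/-- A maximal point: a point without proper generizations. -/
def IsMaxPt (η : α) : Prop := ∀ ξ : α, ξ ⤳ η → ξ = η

/-- In a Noetherian quasi-sober space a point of the closure of an open set has a generization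
in the open set. -/
theorem exists_specializes_of_mem_closure [NoetherianSpace α] [QuasiSober α] {V : Set α}
    (hV : IsOpen V) {x : α} (hx : x ∈ closure V) : ∃ ξ ∈ V, ξ ⤳ x := by
  obtain ⟨S, hSfin, hScl, hSirr, hSeq⟩ :=
    NoetherianSpace.exists_finite_set_isClosed_irreducible (isClosed_closure (s := V))
  let S' : Set (Set α) := {Z ∈ S | (Z ∩ V).Nonempty}
  have hS'fin : S'.Finite := hSfin.subset (fun Z hZ => hZ.1)
  have hVsub : V ⊆ ⋃₀ S' := by
    intro v hv
    have hv' : v ∈ ⋃₀ S := by rw [← hSeq]; exact subset_closure hv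
    obtain ⟨Z, hZ, hvZ⟩ := hv'
    exact ⟨Z, ⟨hZ, ⟨v, hvZ, hv⟩⟩, hvZ⟩
  have hclosed : IsClosed (⋃₀ S') := by
    rw [sUnion_eq_biUnion]
    exact hS'fin.isClosed_biUnion (fun Z hZ => hScl Z hZ.1)
  have hx' : x ∈ ⋃₀ S' := (closure_minimal hVsub hclosed) hx
  obtain ⟨Z, ⟨hZS, hZV⟩, hxZ⟩ := hx'
  obtain ⟨ξ, hξ⟩ := QuasiSober.sober (hSirr Z hZS) (hScl Z hZS)
  refine ⟨ξ, ?_, hξ.specializes hxZ⟩
  exact (hξ.mem_open_set_iff hV).mpr hZV

/-- The closure of a maximal point is an irreducible component. -/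
theorem closure_mem_irreducibleComponents [QuasiSober α] [T0Space α] {η : α} (hη : IsMaxPt η) :
    closure {η} ∈ irreducibleComponents α := by
  refine ⟨isIrreducible_singleton.closure, ?_⟩
  intro C hC hle
  have hCcl : IsIrreducible (closure C) := hC.closure
  obtain ⟨ξ, hξ⟩ := QuasiSober.sober hCcl isClosed_closure
  have h1 : ξ ⤳ η := hξ.specializes (subset_closure (hle (subset_closure rfl)))
  have h2 : ξ = η := hη ξ h1
  rw [h2] at hξ
  have h3 : closure C = closure {η} := hξ.def.symm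
  rw [← h3]
  exact subset_closure

/-- In a Noetherian quasi-sober `T0` space, a closed set containing a maximal point has
nonempty interior. -/
theorem interior_nonempty_of_isMaxPt [NoetherianSpace α] [QuasiSober α] [T0Space α] {η : α}
    (hη : IsMaxPt η) {Z : Set α} (hZ : IsClosed Z) (hηZ : η ∈ Z) : (interior Z).Nonempty := by
  obtain ⟨o, ho, hone, hsub⟩ :=
    NoetherianSpace.exists_isOpen_nonempty_subset_irreducibleComponent (closure {η})
      (closure_mem_irreducibleComponents hη)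
  have h1 : closure {η} ⊆ Z := closure_minimal (singleton_subset_iff.mpr hηZ) hZ
  obtain ⟨v, hv⟩ := hone
  exact ⟨v, interior_maximal (hsub.trans h1) ho hv⟩

/-- Every point of a quasi-sober `T0` space has a maximal generization. -/
theorem exists_isMaxPt_specializes [QuasiSober α] [T0Space α] (v : α) :
    ∃ ξ : α, IsMaxPt ξ ∧ ξ ⤳ v := by
  obtain ⟨ξ, hξ⟩ := QuasiSober.sober (isIrreducible_irreducibleComponent (x := v))
    isClosed_irreducibleComponent
  refine ⟨ξ, ?_, hξ.specializes mem_irreducibleComponent⟩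
  intro ξ' h'
  have h1 : irreducibleComponent v ⊆ closure {ξ'} := by
    rw [← hξ.def]
    exact closure_minimal (singleton_subset_iff.mpr h'.mem_closure) isClosed_closure
  have h2 : closure {ξ'} ∈ {s : Set α | IsIrreducible s} := isIrreducible_singleton.closure
  have h3 : closure {ξ'} ⊆ irreducibleComponent v :=
    (irreducibleComponent_mem_irreducibleComponents v).2 h2 h1
  have h4 : closure {ξ'} = closure {ξ} := by
    rw [hξ.def]
    exact le_antisymm h3 h1
  have h5 : Inseparable ξ' ξ := inseparable_iff_closure_eq.mpr h4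
  exact h5.eq

end Top

section Sub

variable {α : Type*} [TopologicalSpace α]

/-- Local version of `exists_specializes_of_mem_closure`: it suffices that `x` has an open
Noetherian quasi-sober neighbourhood. -/
theorem exists_specializes_of_mem_closure_of_nhd {W : Set α} (hW : IsOpen W)
    [NoetherianSpace W] [QuasiSober W] {V : Set α} (hV : IsOpen V) {x : α} (hxW : x ∈ W)
    (hx : x ∈ closure V) : ∃ ξ ∈ V, ξ ⤳ x := by
  have hemb : IsOpenEmbedding (Subtype.val : W → α) := hW.isOpenEmbedding_subtypeVal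
  have h1 : (⟨x, hxW⟩ : W) ∈ closure (Subtype.val ⁻¹' V : Set W) := by
    rw [← hemb.isOpenMap.preimage_closure_eq_closure_preimage continuous_subtype_val]
    exact hx
  obtain ⟨ξ, hξV, hξ⟩ := exists_specializes_of_mem_closure (hV.preimage continuous_subtype_val) h1
  exact ⟨ξ.1, hξV, hξ.map continuous_subtype_val⟩

/-- Local version of `interior_nonempty_of_isMaxPt`. -/
theorem interior_nonempty_of_isMaxPt_of_nhd {W : Set α} (hW : IsOpen W)
    [NoetherianSpace W] [QuasiSober W] [T0Space W] {η : α} (hηW : η ∈ W)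
    (hη : IsMaxPt η) {Z : Set α} (hZ : IsClosed Z) (hηZ : η ∈ Z) : (interior Z).Nonempty := by
  have hemb : IsOpenEmbedding (Subtype.val : W → α) := hW.isOpenEmbedding_subtypeVal
  have hη' : IsMaxPt (⟨η, hηW⟩ : W) := by
    intro ξ hξ
    have := hη ξ.1 (hξ.map continuous_subtype_val)
    exact Subtype.ext this
  obtain ⟨v, hv⟩ := interior_nonempty_of_isMaxPt hη' (hZ.preimage continuous_subtype_val)
    (show (⟨η, hηW⟩ : W) ∈ Subtype.val ⁻¹' Z from hηZ)
  refine ⟨v.1, ?_⟩
  have h1 : Subtype.val '' (interior (Subtype.val ⁻¹' Z : Set W)) ⊆ Z := by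
    rintro _ ⟨w, hw, rfl⟩
    exact (interior_subset hw : w ∈ Subtype.val ⁻¹' Z)
  exact interior_maximal h1 (hemb.isOpenMap _ isOpen_interior) ⟨v, hv, rfl⟩

end Sub

section Conn

variable {α : Type*} [TopologicalSpace α]

/-- The topological core: if `X` is connected, `T` is closed with dense complement, and every
point of `T` which lies in the closures of two disjoint open sets covering the complement leads
to a contradiction, then the complement is connected.  We phrase the local input as a function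
`gen x` (the set of generizations of `x`) on which the complement of `T` is preconnected. -/
theorem isConnected_compl_of_local [ConnectedSpace α] (T : Set α) (hT : IsClosed T)
    (hdense : Dense Tᶜ)
    (hgen : ∀ x ∈ T, ∀ V : Set α, IsOpen V → x ∈ closure V → ∃ ξ ∈ V, ξ ⤳ x)
    (hloc : ∀ x ∈ T, ∀ u v : Set α, IsOpen u → IsOpen v →
      (∀ ξ, ξ ⤳ x → ξ ∉ T → ξ ∈ u ∨ ξ ∈ v) →
      (∃ ξ, ξ ⤳ x ∧ ξ ∉ T ∧ ξ ∈ u) → (∃ ξ, ξ ⤳ x ∧ ξ ∉ T ∧ ξ ∈ v) →
      ∃ ξ, ξ ⤳ x ∧ ξ ∉ T ∧ ξ ∈ u ∧ ξ ∈ v) :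
    IsConnected Tᶜ := by
  refine ⟨hdense.nonempty, ?_⟩
  intro u v hu hv huv hTu hTv
  by_contra hempty
  rw [Set.not_nonempty_iff_eq_empty] at hempty
  let U₁ : Set α := Tᶜ ∩ u
  let U₂ : Set α := Tᶜ ∩ v
  have hU₁ : IsOpen U₁ := hT.isOpen_compl.inter hu
  have hU₂ : IsOpen U₂ := hT.isOpen_compl.inter hv
  have hdisj : U₁ ∩ U₂ = ∅ := by
    rw [← hempty]
    ext z
    simp only [U₁, U₂, mem_inter_iff]
    tauto
  have hcover : closure U₁ ∪ closure U₂ = univ := by
    rw [← closure_union]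
    have : U₁ ∪ U₂ = Tᶜ := by
      ext z
      simp only [U₁, U₂, mem_union, mem_inter_iff]
      constructor
      · rintro (h | h) <;> exact h.1
      · intro h
        rcases huv h with h' | h'
        · exact Or.inl ⟨h, h'⟩
        · exact Or.inr ⟨h, h'⟩
    rw [this]
    exact hdense.closure_eq
  obtain ⟨x, hx₁, hx₂⟩ : (closure U₁ ∩ closure U₂).Nonempty := by
    have hpre : IsPreconnected (univ : Set α) := isPreconnected_univ
    have := (isPreconnected_closed_iff.mp hpre) (closure U₁) (closure U₂) isClosed_closure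
      isClosed_closure (by rw [hcover])
      (by
        obtain ⟨z, hz⟩ := hTu
        exact ⟨z, mem_univ _, subset_closure hz⟩)
      (by
        obtain ⟨z, hz⟩ := hTv
        exact ⟨z, mem_univ _, subset_closure hz⟩)
    obtain ⟨z, -, hz⟩ := this
    exact ⟨z, hz⟩
  have hxT : x ∈ T := by
    by_contra hxT
    rcases huv hxT with hxu | hxv
    · have hx1 : x ∈ U₁ := ⟨hxT, hxu⟩
      have : (U₁ ∩ U₂).Nonempty := by
        rw [mem_closure_iff] at hx₂
        obtain ⟨z, hz1, hz2⟩ := hx₂ U₁ hU₁ hx1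
        exact ⟨z, hz1, hz2⟩
      rw [hdisj] at this
      exact this.ne_empty rfl
    · have hx2 : x ∈ U₂ := ⟨hxT, hxv⟩
      have : (U₁ ∩ U₂).Nonempty := by
        rw [mem_closure_iff] at hx₁
        obtain ⟨z, hz1, hz2⟩ := hx₁ U₂ hU₂ hx2
        exact ⟨z, hz2, hz1⟩
      rw [hdisj] at this
      exact this.ne_empty rfl
  obtain ⟨ξ₁, hξ₁U, hξ₁⟩ := hgen x hxT U₁ hU₁ hx₁
  obtain ⟨ξ₂, hξ₂U, hξ₂⟩ := hgen x hxT U₂ hU₂ hx₂
  obtain ⟨ξ, -, hξT, hξu, hξv⟩ := hloc x hxT u v hu hv
    (fun ξ _ hξT => huv hξT) ⟨ξ₁, hξ₁, hξ₁U.1, hξ₁U.2⟩ ⟨ξ₂, hξ₂, hξ₂U.1, hξ₂U.2⟩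
  have : ξ ∈ Tᶜ ∩ (u ∩ v) := ⟨hξT, hξu, hξv⟩
  rw [hempty] at this
  exact this

end Conn

end Groth.Agent.Lib.ConnLocalH3
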