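import Mathlib

/-!
# Connectedness of the prime spectrum in terms of idempotents
-/

set_option autoImplicit false

namespace Groth.Agent.Lib.SpecConn_helper3

universe u

/-- The prime spectrum of a commutative ring is connected iff the ring is nontrivial and its only
idempotents are `0` and `1`. -/
theorem connectedSpace_iff_idem (R : Type u) [CommRing R] :
    ConnectedSpace (PrimeSpectrum R) ↔
      Nontrivial R ∧ ∀ e : R, IsIdempotentElem e → e = 0 ∨ e = 1 := by
  rw [connectedSpace_iff_clopen, PrimeSpectrum.nonempty_iff_nontrivial]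
  constructor
  · rintro ⟨hn, h⟩
    refine ⟨hn, fun e he => ?_⟩
    have hcl : IsClopen ((PrimeSpectrum.basicOpen e : TopologicalSpace.Opens _) : Set (PrimeSpectrum R)) :=
      PrimeSpectrum.isClopen_iff.2 ⟨e, he, rfl⟩
    rcases h _ hcl with h0 | h1
    · left
      refine PrimeSpectrum.basicOpen_injOn_isIdempotentElem he IsIdempotentElem.zero ?_
      apply TopologicalSpace.Opens.ext
      rw [h0, PrimeSpectrum.basicOpen_zero]
      rfl
    · right
      refine PrimeSpectrum.basicOpen_injOn_isIdempotentElem he IsIdempotentElem.one ?_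
      apply TopologicalSpace.Opens.ext
      rw [h1, PrimeSpectrum.basicOpen_one]
      rfl
  · rintro ⟨hn, h⟩
    refine ⟨hn, fun s hs => ?_⟩
    obtain ⟨e, he, rfl⟩ := PrimeSpectrum.isClopen_iff.1 hs
    rcases h e he with rfl | rfl
    · left
      rw [PrimeSpectrum.basicOpen_zero]
      rfl
    · right
      rw [PrimeSpectrum.basicOpen_one]
      rfl

end Groth.Agent.Lib.SpecConn_helper3
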