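import Mathlib
import Groth.Agent.Lib.GeomIrr3_lead
import Groth.Agent.Lib.SpecConn_helper3

/-!
# Connectedness of spectra of tensor products over (separably closed) fields (lead)
-/

set_option autoImplicit false
set_option maxSynthPendingDepth 3
universe u
open TensorProduct

namespace Groth.Agent.Lib.GeomConn

open Groth.Agent.Lib.GeomIrr

/-- The only idempotents are `0` and `1`. -/
def TrivIdem (A : Type u) [CommRing A] : Prop := ∀ e : A, IsIdempotentElem e → e = 0 ∨ e = 1

theorem eq_zero_of_idem_nilpotent {A : Type u} [CommRing A] {e : A} (he : IsIdempotentElem e)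
    (hn : IsNilpotent e) : e = 0 := by
  obtain ⟨n, hn⟩ := hn
  rw [← he.pow_succ_eq n, pow_succ, hn, zero_mul]

theorem trivIdem_of_ker_le {A B : Type u} [CommRing A] [CommRing B] (f : A →+* B)
    (hker : RingHom.ker f ≤ nilradical A) (hB : TrivIdem B) : TrivIdem A := by
  intro e he
  rcases hB (f e) (he.map f) with h | h
  · left
    exact eq_zero_of_idem_nilpotent he (mem_nilradical.1 (hker (RingHom.mem_ker.2 h)))
  · right
    have h1 : f (1 - e) = 0 := by rw [map_sub, map_one, h, sub_self]
    have h2 := eq_zero_of_idem_nilpotent he.one_sub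
      (mem_nilradical.1 (hker (RingHom.mem_ker.2 h1)))
    exact (sub_eq_zero.1 h2).symm

theorem trivIdem_of_injective {A B : Type u} [CommRing A] [CommRing B] (f : A →+* B)
    (hf : Function.Injective f) (hB : TrivIdem B) : TrivIdem A :=
  trivIdem_of_ker_le f (by rw [(RingHom.injective_iff_ker_eq_bot f).1 hf]; exact bot_le) hB

theorem trivIdem_quotient {A : Type u} [CommRing A] (N : Ideal A) (hN : N ≤ nilradical A)
    (hA : TrivIdem A) : TrivIdem (A ⧸ N) := by
  intro e he
  obtain ⟨e', he', rfl⟩ := exists_isIdempotentElem_eq_of_ker_isNilpotent (Ideal.Quotient.mk N)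
    (fun x hx => mem_nilradical.1 (hN (by rwa [Ideal.mk_ker] at hx))) e
    (RingHom.mem_range.2 (Ideal.Quotient.mk_surjective e)) he
  rcases hA e' he' with h | h
  · left; rw [h, map_zero]
  · right; rw [h, map_one]

/-- Fibrewise criterion: an idempotent of `S ⊗[k] R` which is trivial on enough field-valued points
of `R` comes from an idempotent of `R`. -/
theorem exists_idem_of_fibrewise {k S R : Type u} [Field k] [CommRing S] [CommRing R]
    [Algebra k S] [Algebra k R] [Nontrivial S] (N : Ideal R) (hN : N ≤ nilradical R)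
    (hpts : ∀ r : R, r ∉ N → ∃ (F : Type u) (_ : Field F) (_ : Algebra k F) (φ : R →ₐ[k] F),
      φ r ≠ 0 ∧ TrivIdem (S ⊗[k] F))
    (x : S ⊗[k] R) (hx : IsIdempotentElem x) :
    ∃ e : R, IsIdempotentElem e ∧ x = 1 ⊗ₜ[k] e := by
  classical
  let 𝓈 := Module.Free.chooseBasis k S
  obtain ⟨r, hr⟩ := TensorProduct.eq_repr_basis_left 𝓈 x
  set d := 𝓈.repr 1 with hd
  have hone : ∑ j ∈ d.support, d j • 𝓈 j = 1 := by
    have h := 𝓈.linearCombination_repr 1
    rwa [Finsupp.linearCombination_apply] at h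
  have key : ∀ (F : Type u) [Field F] [Algebra k F] (φ : R →ₐ[k] F), TrivIdem (S ⊗[k] F) →
      (∀ j, φ (r j) = 0) ∨ (∀ j, φ (r j) = algebraMap k F (d j)) := by
    intro F _ _ φ hF
    have hy : IsIdempotentElem (Algebra.TensorProduct.map (AlgHom.id k S) φ x) := hx.map _
    have hyx : Algebra.TensorProduct.map (AlgHom.id k S) φ x =
        (r.mapRange φ (map_zero φ)).sum (fun j n => 𝓈 j ⊗ₜ[k] n) := by
      rw [← hr, Finsupp.sum_mapRange_index (fun j => tmul_zero _ _), Finsupp.sum, map_sum]
      rfl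
    have h1 : (1 : S ⊗[k] F) =
        (d.mapRange (algebraMap k F) (map_zero _)).sum (fun j n => 𝓈 j ⊗ₜ[k] n) := by
      rw [Finsupp.sum_mapRange_index (fun j => tmul_zero _ _)]
      have hterm : ∀ j (c : k), 𝓈 j ⊗ₜ[k] (algebraMap k F c) = (c • 𝓈 j) ⊗ₜ[k] (1 : F) := by
        intro j c
        rw [Algebra.algebraMap_eq_smul_one, TensorProduct.tmul_smul, TensorProduct.smul_tmul']
      simp only [hterm]
      rw [Finsupp.sum, ← TensorProduct.sum_tmul, hone]
      rfl
    rcases hF _ hy with h0 | h0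
    · left
      have hz : r.mapRange φ (map_zero φ) = 0 :=
        TensorProduct.sum_tmul_basis_left_eq_zero 𝓈 _ (by rw [← hyx, h0])
      intro j
      have := DFunLike.congr_fun hz j
      simpa using this
    · right
      have hz : r.mapRange φ (map_zero φ) - d.mapRange (algebraMap k F) (map_zero _) = 0 :=
        TensorProduct.sum_tmul_basis_left_eq_zero 𝓈 _ (by
          rw [Finsupp.sum_sub_index (fun a b₁ b₂ => tmul_sub _ _ _), ← hyx, ← h1, h0, sub_self])
      intro j
      have := DFunLike.congr_fun (sub_eq_zero.1 hz) j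
      simpa using this
  have R1 : ∀ j l, d l • r j - d j • r l ∈ N := by
    intro j l
    by_contra hmem
    obtain ⟨F, _, _, φ, hφ, hF⟩ := hpts _ hmem
    apply hφ
    rw [map_sub, map_smul, map_smul]
    rcases key F φ hF with h | h
    · rw [h j, h l, smul_zero, smul_zero, sub_zero]
    · rw [h j, h l, Algebra.smul_def, Algebra.smul_def, mul_comm, sub_self]
  have R2 : ∀ j, r j * r j - d j • r j ∈ N := by
    intro j
    by_contra hmem
    obtain ⟨F, _, _, φ, hφ, hF⟩ := hpts _ hmem
    apply hφ
    rw [map_sub, map_mul, map_smul]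
    rcases key F φ hF with h | h
    · rw [h j, mul_zero, smul_zero, sub_zero]
    · rw [h j, Algebra.smul_def, sub_self]
  have hd0 : d ≠ 0 := by
    intro h0
    have h := 𝓈.linearCombination_repr (1 : S)
    rw [← hd, h0, map_zero] at h
    exact zero_ne_one h
  obtain ⟨j0, hj0⟩ := Finsupp.ne_iff.1 hd0
  simp only [Finsupp.coe_zero, Pi.zero_apply] at hj0
  set a := algebraMap k R (d j0) with ha
  set a' := algebraMap k R (d j0)⁻¹ with ha'
  have haa' : a * a' = 1 := by rw [ha, ha', ← map_mul, mul_inv_cancel₀ hj0, map_one]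
  have hu : (a' * r j0) * (a' * r j0) - a' * r j0 ∈ N := by
    have e1 : (a' * r j0) * (a' * r j0) - a' * r j0 = a' * a' * (r j0 * r j0 - a * r j0) := by
      linear_combination (a' * r j0) * haa'
    rw [e1]
    have h2 := R2 j0
    rw [Algebra.smul_def] at h2
    exact N.mul_mem_left _ h2
  obtain ⟨e, he, hfe⟩ := exists_isIdempotentElem_eq_of_ker_isNilpotent (Ideal.Quotient.mk N)
    (fun x hx => mem_nilradical.1 (hN (by rwa [Ideal.mk_ker] at hx)))
    (Ideal.Quotient.mk N (a' * r j0)) ⟨_, rfl⟩ (by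
      show Ideal.Quotient.mk N (a' * r j0) * Ideal.Quotient.mk N (a' * r j0) =
        Ideal.Quotient.mk N (a' * r j0)
      rw [← map_mul, ← sub_eq_zero, ← map_sub, Ideal.Quotient.eq_zero_iff_mem]
      exact hu)
  have hue : a' * r j0 - e ∈ N := Ideal.Quotient.eq.1 hfe.symm
  have hre : ∀ j, r j - algebraMap k R (d j) * e ∈ N := by
    intro j
    have e1 : r j - algebraMap k R (d j) * e =
        a' * (a * r j - algebraMap k R (d j) * r j0) + algebraMap k R (d j) * (a' * r j0 - e) := by
      linear_combination (-(r j)) * haa'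
    rw [e1]
    have h1 := R1 j j0
    rw [Algebra.smul_def, Algebra.smul_def] at h1
    exact N.add_mem (N.mul_mem_left _ h1) (N.mul_mem_left _ hue)
  -- compare `x` and `1 ⊗ e`
  have hxsum : x = ∑ j ∈ r.support ∪ d.support, 𝓈 j ⊗ₜ[k] r j := by
    rw [← hr]
    exact Finsupp.sum_of_support_subset r Finset.subset_union_left _ (fun j _ => tmul_zero _ _)
  have hone' : (1 : S) = ∑ j ∈ r.support ∪ d.support, d j • 𝓈 j := by
    rw [← hone]
    exact Finsupp.sum_of_support_subset d Finset.subset_union_right (fun j c => c • 𝓈 j)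
      (fun j _ => zero_smul _ _)
  have hesum : (1 : S) ⊗ₜ[k] e = ∑ j ∈ r.support ∪ d.support, 𝓈 j ⊗ₜ[k] (algebraMap k R (d j) * e) := by
    conv_lhs => rw [hone']
    rw [TensorProduct.sum_tmul]
    refine Finset.sum_congr rfl fun j _ => ?_
    rw [TensorProduct.smul_tmul, Algebra.smul_def]
  have hnil : IsNilpotent (x - (Algebra.TensorProduct.includeRight : R →ₐ[k] S ⊗[k] R) e) := by
    rw [← mem_nilradical]
    have h2 : x - (Algebra.TensorProduct.includeRight : R →ₐ[k] S ⊗[k] R) e =
        ∑ j ∈ r.support ∪ d.support, 𝓈 j ⊗ₜ[k] (r j - algebraMap k R (d j) * e) := by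
      show x - (1 : S) ⊗ₜ[k] e = _
      rw [hxsum, hesum, ← Finset.sum_sub_distrib]
      refine Finset.sum_congr rfl fun j _ => ?_
      rw [tmul_sub]
    rw [h2]
    refine Ideal.sum_mem _ fun j _ => ?_
    have h3 : 𝓈 j ⊗ₜ[k] (r j - algebraMap k R (d j) * e) =
        (𝓈 j ⊗ₜ[k] (1 : R)) * (Algebra.TensorProduct.includeRight : R →ₐ[k] S ⊗[k] R)
          (r j - algebraMap k R (d j) * e) := by
      show _ = (𝓈 j ⊗ₜ[k] (1 : R)) * ((1 : S) ⊗ₜ[k] (r j - algebraMap k R (d j) * e))
      rw [Algebra.TensorProduct.tmul_mul_tmul, mul_one, one_mul]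
    rw [h3]
    exact Ideal.mul_mem_left _ _ (mem_nilradical.2 ((mem_nilradical.1 (hN (hre j))).map _))
  exact ⟨e, he, eq_of_isNilpotent_sub_of_isIdempotentElem hx
    (he.map (Algebra.TensorProduct.includeRight : R →ₐ[k] S ⊗[k] R)) hnil⟩

/-- Over an algebraically closed field the tensor product of two rings with trivial idempotents
has trivial idempotents. -/
theorem trivIdem_tensor_of_isAlgClosed (Ω : Type u) [Field Ω] [IsAlgClosed Ω] (A B : Type u)
    [CommRing A] [CommRing B] [Algebra Ω A] [Algebra Ω B] [Nontrivial A] (hA : TrivIdem A)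
    (hB : TrivIdem B) : TrivIdem (A ⊗[Ω] B) := by
  intro x hx
  obtain ⟨D, hDfg, z, rfl⟩ := exists_fg_and_mem_baseChange x
  have hιinj : Function.Injective (Algebra.TensorProduct.map (AlgHom.id A A) D.val) :=
    Module.Flat.lTensor_preserves_injective_linearMap _ Subtype.val_injective
  have hz : IsIdempotentElem z := hιinj (by rw [map_mul]; exact hx.eq)
  have hD : TrivIdem D := trivIdem_of_injective D.val.toRingHom Subtype.val_injective hB
  haveI : Algebra.FiniteType Ω D := (Subalgebra.fg_iff_finiteType D).1 hDfg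
  have hD' : TrivIdem (D ⧸ nilradical D) := trivIdem_quotient _ le_rfl hD
  haveI : IsReduced (D ⧸ nilradical D) :=
    (Ideal.isRadical_iff_quotient_reduced _).1 (Ideal.radical_isRadical _)
  haveI : Algebra.FiniteType Ω (D ⧸ nilradical D) :=
    Algebra.FiniteType.of_surjective (Ideal.Quotient.mkₐ Ω _) (Ideal.Quotient.mkₐ_surjective Ω _)
  have hU : TrivIdem (A ⊗[Ω] (D ⧸ nilradical D)) := by
    intro w hw
    obtain ⟨e, he, rfl⟩ := exists_idem_of_fibrewise (k := Ω) (S := A) (R := D ⧸ nilradical D) ⊥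
      bot_le (by
        intro r hr
        have hr0 : r ≠ 0 := fun h => hr (by rw [h]; exact Ideal.zero_mem _)
        obtain ⟨φ, hφ⟩ := exists_algHom_apply_ne_zero Ω _ hr0
        refine ⟨Ω, inferInstance, inferInstance, φ, hφ, ?_⟩
        exact trivIdem_of_injective (Algebra.TensorProduct.rid Ω Ω A).toRingEquiv.toRingHom
          (Algebra.TensorProduct.rid Ω Ω A).injective hA) w hw
    rcases hD' e he with h | h
    · left; rw [h, tmul_zero]
    · right; rw [h]; rfl
  have hAD : TrivIdem (A ⊗[Ω] D) := by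
    refine trivIdem_of_ker_le (Algebra.TensorProduct.map (AlgHom.id Ω A)
      (Ideal.Quotient.mkₐ Ω (nilradical D))).toRingHom ?_ hU
    intro y hy
    have hy' : y ∈ RingHom.ker (Algebra.TensorProduct.map (AlgHom.id Ω A)
        (Ideal.Quotient.mkₐ Ω (nilradical D))) := hy
    rw [Algebra.TensorProduct.lTensor_ker _ (Ideal.Quotient.mkₐ_surjective Ω _)] at hy'
    refine (Ideal.map_le_iff_le_comap.2 ?_) hy'
    intro b hb
    have hb' : b ∈ nilradical D := by
      have hk : RingHom.ker (Ideal.Quotient.mkₐ Ω (nilradical D)) = nilradical D :=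
        Ideal.Quotient.mkₐ_ker Ω _
      rw [← hk]; exact hb
    exact mem_nilradical.2 ((mem_nilradical.1 hb').map _)
  rcases hAD z hz with h | h
  · left; rw [h, map_zero]
  · right; rw [h, map_one]

theorem trivIdem_tensor_of_isPurelyInseparable {k E R : Type u} [Field k] [Field E] [Algebra k E]
    [IsPurelyInseparable k E] [CommRing R] [Algebra k R] [Nontrivial R] (hR : TrivIdem R) :
    TrivIdem (E ⊗[k] R) := by
  have hincl : Function.Injective (Algebra.TensorProduct.includeRight : R →ₐ[k] E ⊗[k] R) :=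
    Algebra.TensorProduct.includeRight_injective (RingHom.injective (algebraMap k E))
  haveI : Nontrivial (E ⊗[k] R) := hincl.nontrivial
  obtain ⟨q, hq⟩ := ExpChar.exists k
  haveI := hq
  haveI : ExpChar (E ⊗[k] R) q :=
    expChar_of_injective_algebraMap (RingHom.injective (algebraMap k (E ⊗[k] R))) q
  intro y hy
  obtain ⟨n, r, hr⟩ := exists_pow_eq_one_tmul (k := k) q y
  have hqn : q ^ n ≠ 0 := (pow_pos (expChar_pos k q) n).ne'
  rw [hy.pow_eq hqn] at hr
  have hrid : IsIdempotentElem r := by
    apply hincl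
    show (1 : E) ⊗ₜ[k] (r * r) = (1 : E) ⊗ₜ[k] r
    have h1 : (1 : E) ⊗ₜ[k] (r * r) = ((1 : E) ⊗ₜ[k] r) * ((1 : E) ⊗ₜ[k] r) := by
      rw [Algebra.TensorProduct.tmul_mul_tmul, one_mul]
    rw [h1, ← hr]; exact hy.eq
  rcases hR r hrid with h | h
  · left; rw [hr, h, tmul_zero]
  · right; rw [hr, h]; rfl

theorem nontrivial_baseChange (k E R : Type u) [Field k] [Field E] [Algebra k E] [CommRing R]
    [Algebra k R] [Nontrivial R] : Nontrivial (E ⊗[k] R) := by
  have hincl : Function.Injective (Algebra.TensorProduct.includeRight : R →ₐ[k] E ⊗[k] R) :=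
    Algebra.TensorProduct.includeRight_injective (RingHom.injective (algebraMap k E))
  exact hincl.nontrivial

theorem trivIdem_tensor_of_isSepClosed {k R S : Type u} [Field k] [IsSepClosed k] [CommRing R]
    [CommRing S] [Algebra k R] [Algebra k S] [Nontrivial R] [Nontrivial S] (hR : TrivIdem R)
    (hS : TrivIdem S) : TrivIdem (R ⊗[k] S) := by
  obtain ⟨ψ, hψ⟩ := exists_injective_ringHom_baseChange k (AlgebraicClosure k) R S
  apply trivIdem_of_injective ψ hψ
  haveI := nontrivial_baseChange k (AlgebraicClosure k) R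
  exact trivIdem_tensor_of_isAlgClosed (AlgebraicClosure k) _ _
    (trivIdem_tensor_of_isPurelyInseparable hR) (trivIdem_tensor_of_isPurelyInseparable hS)

open Groth.Agent.Lib.SpecConn_helper3 in
theorem main_S9623 {k R S : Type u} [Field k] [IsSepClosed k] [CommRing R] [CommRing S]
    [Algebra k R] [Algebra k S] [hR : ConnectedSpace (PrimeSpectrum R)]
    [hS : ConnectedSpace (PrimeSpectrum S)] : ConnectedSpace (PrimeSpectrum (R ⊗[k] S)) := by
  obtain ⟨hRn, hRt⟩ := (connectedSpace_iff_idem R).1 hR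
  obtain ⟨hSn, hSt⟩ := (connectedSpace_iff_idem S).1 hS
  haveI := hRn
  haveI := hSn
  refine (connectedSpace_iff_idem _).2 ⟨?_, trivIdem_tensor_of_isSepClosed hRt hSt⟩
  have hinj : Function.Injective (Algebra.TensorProduct.includeLeft : R →ₐ[k] R ⊗[k] S) :=
    Algebra.TensorProduct.includeLeft_injective (RingHom.injective (algebraMap k S))
  exact hinj.nontrivial

open Groth.Agent.Lib.SpecConn_helper3 in
theorem main_S9624 {k R S : Type u} [Field k] [CommRing R] [CommRing S] [Algebra k R]
    [Algebra k S]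
    (hS : ∀ (k' : Type u) [Field k'] [Algebra k k'], ConnectedSpace (PrimeSpectrum (k' ⊗[k] S)))
    (x : R ⊗[k] S) (hx : IsIdempotentElem x) :
    ∃! e : R, IsIdempotentElem e ∧ algebraMap R (R ⊗[k] S) e = x := by
  have hkS := (connectedSpace_iff_idem _).1 (hS k)
  haveI : Nontrivial S := by
    haveI := hkS.1
    exact (Algebra.TensorProduct.lid k S).injective.nontrivial
  have hmap : ∀ e : R, algebraMap R (R ⊗[k] S) e = e ⊗ₜ[k] (1 : S) := fun e => by
    rw [Algebra.TensorProduct.algebraMap_apply]; rfl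
  have hinj : Function.Injective (Algebra.TensorProduct.includeLeft : R →ₐ[k] R ⊗[k] S) :=
    Algebra.TensorProduct.includeLeft_injective (RingHom.injective (algebraMap k S))
  have hy : IsIdempotentElem (Algebra.TensorProduct.comm k R S x) := hx.map _
  obtain ⟨e, he, hye⟩ := exists_idem_of_fibrewise (k := k) (S := S) (R := R) (nilradical R) le_rfl
    (by
      intro r hr
      rw [nilradical_eq_sInf, Ideal.mem_sInf] at hr
      push_neg at hr
      obtain ⟨p, hp, hrp⟩ := hr
      haveI : p.IsPrime := hp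
      refine ⟨p.ResidueField, inferInstance, inferInstance,
        IsScalarTower.toAlgHom k R p.ResidueField, ?_, ?_⟩
      · intro h0
        exact hrp ((Ideal.algebraMap_residueField_eq_zero).1 h0)
      · exact trivIdem_of_injective
          (Algebra.TensorProduct.comm k S p.ResidueField).toRingEquiv.toRingHom
          (Algebra.TensorProduct.comm k S p.ResidueField).injective
          ((connectedSpace_iff_idem _).1 (hS p.ResidueField)).2)
    _ hy
  have hxe : x = e ⊗ₜ[k] (1 : S) := by
    have h1 : x = (Algebra.TensorProduct.comm k R S).symm (Algebra.TensorProduct.comm k R S x) :=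
      ((Algebra.TensorProduct.comm k R S).symm_apply_apply x).symm
    rw [h1, hye]; rfl
  refine ⟨e, ⟨he, by rw [hmap, hxe]⟩, ?_⟩
  rintro e' ⟨-, he'⟩
  apply hinj
  show e' ⊗ₜ[k] (1 : S) = e ⊗ₜ[k] (1 : S)
  rw [← hmap, he', hxe]

end Groth.Agent.Lib.GeomConn
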