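import Mathlib
import Groth.Agent.Lib.HensIntDom_lead
import Groth.Agent.Lib.GeomConn1_lead

/-!
# Geometric connectedness of the fibres of flat algebras over henselian local rings
(EGA IV 18.9.x), part 1 (helper3): the class `Good`, base change, locality of `B ⊗ C`.
APPEND-ONLY once landed.
-/

set_option autoImplicit false
universe u

namespace Groth.Agent.Lib.HensConnH3

open TensorProduct IsLocalRing

/-- The base change isomorphism `(A₁ ⊗_A B) ⊗_{A₁} M ≃ B ⊗_A M`. -/
noncomputable def bcEquiv (A A₁ B M : Type u) [CommRing A] [CommRing A₁] [CommRing B] [CommRing M]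
    [Algebra A A₁] [Algebra A B] [Algebra A₁ M] [Algebra A M] [IsScalarTower A A₁ M] :
    (A₁ ⊗[A] B) ⊗[A₁] M ≃+* B ⊗[A] M :=
  ((Algebra.TensorProduct.comm A₁ (A₁ ⊗[A] B) M).toRingEquiv.trans
    (Algebra.TensorProduct.cancelBaseChange A A₁ A₁ M B).toRingEquiv).trans
    (Algebra.TensorProduct.comm A M B).toRingEquiv

/-- The class of algebras we work with: flat, with (geometrically) reduced fibres, and such that
`B ⊗ C` is local for every local integral `A`-algebra `C`. -/
structure Good (A B : Type u) [CommRing A] [CommRing B] [Algebra A B] : Prop where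
  flat : Module.Flat A B
  red : ∀ (κ : Type u) [Field κ] [Algebra A κ], IsReduced (B ⊗[A] κ)
  loc : ∀ (C : Type u) [CommRing C] [Algebra A C] [IsLocalRing C] [Algebra.IsIntegral A C],
    IsLocalRing (B ⊗[A] C)

theorem Good.baseChange {A B : Type u} [CommRing A] [CommRing B] [Algebra A B] (h : Good A B)
    (A₁ : Type u) [CommRing A₁] [Algebra A A₁] [Algebra.IsIntegral A A₁] :
    Good A₁ (A₁ ⊗[A] B) := by
  haveI := h.flat
  refine ⟨inferInstance, ?_, ?_⟩
  · intro κ _ _
    letI : Algebra A κ := ((algebraMap A₁ κ).comp (algebraMap A A₁)).toAlgebra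
    haveI : IsScalarTower A A₁ κ := IsScalarTower.of_algebraMap_eq (fun _ => rfl)
    haveI := h.red κ
    exact isReduced_of_injective (bcEquiv A A₁ B κ).toRingHom (bcEquiv A A₁ B κ).injective
  · intro C _ _ _ _
    letI : Algebra A C := ((algebraMap A₁ C).comp (algebraMap A A₁)).toAlgebra
    haveI : IsScalarTower A A₁ C := IsScalarTower.of_algebraMap_eq (fun _ => rfl)
    haveI : Algebra.IsIntegral A C := Algebra.IsIntegral.trans A₁
    haveI := h.loc C
    exact (bcEquiv A A₁ B C).symm.isLocalRing

/-- A nontrivial ring in which a power of every element lies in the image of a field is local. -/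
theorem isLocalRing_of_pow_mem_range {T F : Type*} [CommRing T] [Nontrivial T] [Field F]
    (f : F →+* T) (h : ∀ x : T, ∃ n : ℕ, 0 < n ∧ x ^ n ∈ f.range) : IsLocalRing T := by
  apply IsLocalRing.of_isUnit_or_isUnit_one_sub_self
  intro x
  obtain ⟨n, hn, r, hr⟩ := h x
  by_cases h0 : r = 0
  · right
    have hnil : IsNilpotent x := ⟨n, by rw [← hr, h0, map_zero]⟩
    exact hnil.isUnit_one_sub
  · left
    have hu : IsUnit (x ^ n) := by rw [← hr]; exact (IsUnit.mk0 r h0).map f
    exact (isUnit_pow_iff hn.ne').mp hu

section Loc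

variable (A B C : Type u) [CommRing A] [IsLocalRing A] [CommRing B] [IsLocalRing B] [Algebra A B]
  [IsLocalHom (algebraMap A B)] [Module.Flat A B]
  [CommRing C] [Algebra A C] [IsLocalRing C] [Algebra.IsIntegral A C]

/-- `B ⊗ C` is local as soon as the tensor product of the residue fields is. -/
theorem isLocalRing_tensor
    (hT : Nontrivial (ResidueField B ⊗[A] ResidueField C) →
      IsLocalRing (ResidueField B ⊗[A] ResidueField C)) :
    IsLocalRing (B ⊗[A] C) := by
  haveI : Module.FaithfullyFlat A B := Module.FaithfullyFlat.of_flat_of_isLocalHom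
  haveI : Nontrivial (B ⊗[A] C) := inferInstance
  let fB : B →ₐ[A] ResidueField B := IsScalarTower.toAlgHom A B (ResidueField B)
  let fC : C →ₐ[A] ResidueField C := IsScalarTower.toAlgHom A C (ResidueField C)
  have hfB : Function.Surjective fB := residue_surjective
  have hfC : Function.Surjective fC := residue_surjective
  let π : B ⊗[A] C →ₐ[A] ResidueField B ⊗[A] ResidueField C := Algebra.TensorProduct.map fB fC
  have hπ : Function.Surjective π := Algebra.TensorProduct.map_surjective fB fC hfB hfC
  have hker : RingHom.ker π =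
      (RingHom.ker fB).map (Algebra.TensorProduct.includeLeft : B →ₐ[A] B ⊗[A] C) ⊔
        (RingHom.ker fC).map (Algebra.TensorProduct.includeRight : C →ₐ[A] B ⊗[A] C) :=
    Algebra.TensorProduct.map_ker fB fC hfB hfC
  have hle : ∀ M : Ideal (B ⊗[A] C), M.IsMaximal → RingHom.ker π ≤ M := by
    intro M hM
    haveI := hM
    have h1 : (M.comap (algebraMap B (B ⊗[A] C))).IsMaximal :=
      Ideal.isMaximal_comap_of_isIntegral_of_isMaximal M
    have h1' : M.comap (algebraMap B (B ⊗[A] C)) = maximalIdeal B := eq_maximalIdeal h1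
    have hAB : (maximalIdeal B).comap (algebraMap A B) = maximalIdeal A :=
      ((local_hom_TFAE (algebraMap A B)).out 0 4).mp ‹IsLocalHom (algebraMap A B)›
    let N : Ideal C := M.comap (Algebra.TensorProduct.includeRight : C →ₐ[A] B ⊗[A] C)
    haveI : N.IsPrime := Ideal.comap_isPrime _ M
    have h2 : N.comap (algebraMap A C) = maximalIdeal A := by
      rw [← hAB, ← h1']
      ext a
      simp only [Ideal.mem_comap, N]
      rw [AlgHom.commutes, ← IsScalarTower.algebraMap_apply A B (B ⊗[A] C)]
    have h3 : N.IsMaximal :=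
      Ideal.isMaximal_of_isIntegral_of_isMaximal_comap (R := A) N (by
        rw [h2]; exact maximalIdeal.isMaximal A)
    have h3' : N = maximalIdeal C := eq_maximalIdeal h3
    rw [hker, sup_le_iff]
    constructor
    · rw [Ideal.map_le_iff_le_comap]
      intro b hb
      have hb' : b ∈ maximalIdeal B := by
        rw [← residue_eq_zero_iff]
        exact hb
      rw [← h1'] at hb'
      exact hb'
    · rw [Ideal.map_le_iff_le_comap]
      intro c hc
      have hc' : c ∈ maximalIdeal C := by
        rw [← residue_eq_zero_iff]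
        exact hc
      rw [← h3'] at hc'
      exact hc'
  haveI : Nontrivial (ResidueField B ⊗[A] ResidueField C) := by
    obtain ⟨M, hM⟩ := Ideal.exists_maximal (B ⊗[A] C)
    by_contra hnt
    rw [not_nontrivial_iff_subsingleton] at hnt
    have h1 : (1 : B ⊗[A] C) ∈ RingHom.ker π := by
      rw [RingHom.mem_ker]
      exact Subsingleton.elim _ _
    exact hM.ne_top ((Ideal.eq_top_iff_one _).mpr (hle M hM h1))
  haveI := hT inferInstance
  have hunit : ∀ y : B ⊗[A] C, IsUnit (π y) → IsUnit y := by
    intro y hy
    by_contra hny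
    obtain ⟨M, hM, hyM⟩ := exists_max_ideal_of_mem_nonunits hny
    obtain ⟨w, hw⟩ := hy.exists_right_inv
    obtain ⟨z, rfl⟩ := hπ w
    have h1 : y * z - 1 ∈ RingHom.ker π := by
      rw [RingHom.mem_ker, map_sub, map_mul, map_one, hw, sub_self]
    have h2 : y * z - 1 ∈ M := hle M hM h1
    have h3 : (1 : B ⊗[A] C) ∈ M := by
      have := M.sub_mem (M.mul_mem_right z hyM) h2
      rwa [sub_sub_cancel] at this
    exact hM.ne_top ((Ideal.eq_top_iff_one _).mpr h3)
  apply IsLocalRing.of_isUnit_or_isUnit_one_sub_self
  intro x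
  rcases IsLocalRing.isUnit_or_isUnit_one_sub_self (π x) with h | h
  · left; exact hunit x h
  · right
    apply hunit
    rwa [map_sub, map_one]

/-- Trivial residue field extension. -/
theorem isLocalRing_tensor_of_surjective
    (hres : ∀ b : B, ∃ a : A, b - algebraMap A B a ∈ maximalIdeal B) :
    IsLocalRing (B ⊗[A] C) := by
  apply isLocalRing_tensor
  intro hnt
  haveI := hnt
  have hsurj : Function.Surjective
      (Algebra.TensorProduct.includeRight :
        ResidueField C →ₐ[A] ResidueField B ⊗[A] ResidueField C) := by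
    intro x
    induction x using TensorProduct.induction_on with
    | zero => exact ⟨0, map_zero _⟩
    | tmul b c =>
      obtain ⟨b, rfl⟩ := residue_surjective b
      obtain ⟨a, ha⟩ := hres b
      have hb : residue B b = a • (1 : ResidueField B) := by
        rw [Algebra.smul_def, mul_one, IsScalarTower.algebraMap_apply A B (ResidueField B),
          ResidueField.algebraMap_eq, ← sub_eq_zero, ← map_sub, residue_eq_zero_iff]
        exact ha
      refine ⟨a • c, ?_⟩
      rw [hb, TensorProduct.smul_tmul]
      rfl
    | add x y hx hy =>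
      obtain ⟨x', rfl⟩ := hx
      obtain ⟨y', rfl⟩ := hy
      exact ⟨x' + y', map_add _ _ _⟩
  exact IsLocalRing.of_surjective'
    (Algebra.TensorProduct.includeRight :
      ResidueField C →ₐ[A] ResidueField B ⊗[A] ResidueField C).toRingHom hsurj

/-- Separably closed residue field of the base. -/
theorem isLocalRing_tensor_of_isSepClosed [IsSepClosed (ResidueField A)] :
    IsLocalRing (B ⊗[A] C) := by
  apply isLocalRing_tensor
  intro hnt
  haveI := hnt
  haveI : IsLocalHom (algebraMap A C) := Groth.Agent.Lib.HensIntDom.isLocalHom_of_integral A C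
  haveI : Algebra.IsAlgebraic (ResidueField A) (ResidueField C) := by
    refine ⟨fun x => ?_⟩
    obtain ⟨c, rfl⟩ := residue_surjective x
    have h1 : IsIntegral A c := Algebra.IsIntegral.isIntegral c
    have h2 : IsIntegral A (residue C c) := h1.map (IsScalarTower.toAlgHom A C (ResidueField C))
    exact (h2.tower_top (A := ResidueField A)).isAlgebraic
  haveI : IsPurelyInseparable (ResidueField A) (ResidueField C) := inferInstance
  obtain ⟨q, hq⟩ := ExpChar.exists (ResidueField A)
  haveI := hq
  let ι : ResidueField B →+* ResidueField B ⊗[A] ResidueField C :=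
    (Algebra.TensorProduct.includeLeft :
      ResidueField B →ₐ[A] ResidueField B ⊗[A] ResidueField C).toRingHom
  let j : ResidueField A →+* ResidueField B ⊗[A] ResidueField C :=
    ι.comp (algebraMap (ResidueField A) (ResidueField B))
  haveI : ExpChar (ResidueField B ⊗[A] ResidueField C) q :=
    expChar_of_injective_ringHom j.injective q
  have hqpos : 0 < q := expChar_pos (ResidueField A) q
  have key : ∀ x : ResidueField B ⊗[A] ResidueField C, ∃ n : ℕ, x ^ q ^ n ∈ ι.range := by
    intro x
    induction x using TensorProduct.induction_on with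
    | zero => exact ⟨0, 0, by simp⟩
    | tmul b c =>
      obtain ⟨n, r, hr⟩ := IsPurelyInseparable.pow_mem (ResidueField A) q c
      obtain ⟨a, rfl⟩ := residue_surjective r
      refine ⟨n, a • b ^ q ^ n, ?_⟩
      have hc : c ^ q ^ n = a • (1 : ResidueField C) := by
        rw [← hr, ResidueField.algebraMap_residue, Algebra.smul_def, mul_one,
          IsScalarTower.algebraMap_apply A C (ResidueField C), ResidueField.algebraMap_eq]
      show (a • b ^ q ^ n) ⊗ₜ[A] (1 : ResidueField C) = _
      rw [Algebra.TensorProduct.tmul_pow, hc, TensorProduct.smul_tmul]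
    | add x y hx hy =>
      obtain ⟨n, hn⟩ := hx
      obtain ⟨m, hm⟩ := hy
      refine ⟨n + m, ?_⟩
      rw [add_pow_expChar_pow]
      refine ι.range.add_mem ?_ ?_
      · rw [pow_add, pow_mul]
        exact ι.range.pow_mem hn _
      · rw [add_comm n m, pow_add, pow_mul]
        exact ι.range.pow_mem hm _
  refine isLocalRing_of_pow_mem_range ι ?_
  intro x
  obtain ⟨n, hn⟩ := key x
  exact ⟨q ^ n, pow_pos hqpos n, hn⟩

end Loc

end Groth.Agent.Lib.HensConnH3
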