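import Mathlib
import Groth.Agent.Lib.HensConn1_helper3
import Groth.Agent.Lib.NBC3_helper3

/-!
# Geometric connectedness of the fibres of flat algebras over henselian local rings
(EGA IV 18.9.x), part 2 (helper3): the generic fibre over a henselian local domain.
APPEND-ONLY once landed.
-/

set_option autoImplicit false
universe u

namespace Groth.Agent.Lib.HensConnH3

open TensorProduct IsLocalRing Groth.Agent.Lib.GeomConn Groth.Agent.Lib.NBCH3 Polynomial

theorem trivIdem_of_isLocalRing (R : Type u) [CommRing R] [IsLocalRing R] : TrivIdem R := by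
  intro e he
  rcases IsLocalRing.isUnit_or_isUnit_one_sub_self e with h | h
  · right
    have h1 : e * (1 - e) = e * 0 := by rw [mul_sub, mul_one, he.eq, sub_self, mul_zero]
    have h2 : 1 - e = 0 := h.mul_left_cancel h1
    exact (sub_eq_zero.mp h2).symm
  · left
    have h1 : (1 - e) * e = (1 - e) * 0 := by rw [sub_mul, one_mul, he.eq, sub_self, mul_zero]
    exact h.mul_left_cancel h1

section P1

variable (A : Type u) [CommRing A] [IsDomain A] [IsNoetherianRing A] [HenselianLocalRing A]

/-- The generic fibre itself. -/
theorem trivIdem_fraction (L : Type u) [Field L] [Algebra A L] [IsFractionRing A L]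
    (B : Type u) [CommRing B] [Algebra A B] (h : Good A B) : TrivIdem (B ⊗[A] L) := by
  haveI := h.flat
  intro e he
  haveI : IsLocalRing (integralClosure A L) :=
    Groth.Agent.Lib.HensIntDom.isLocalRing_of_integral_domain A (integralClosure A L)
  haveI : IsLocalRing (B ⊗[A] integralClosure A L) := h.loc (integralClosure A L)
  have hint : (lmap B (integralClosure A L)).toRingHom.IsIntegralElem e := by
    refine ⟨X ^ 2 - X, monic_X_pow_sub (by simp), ?_⟩
    rw [eval₂_sub, eval₂_pow, eval₂_X, pow_two, he.eq, sub_self]
  obtain ⟨e', he'⟩ := heart A L B h.red e hint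
  have he'' : lmap B (integralClosure A L) e' = e := he'
  have hidem : IsIdempotentElem e' := by
    apply lmap_injective B (integralClosure A L)
    rw [map_mul, he'']
    exact he.eq
  rcases trivIdem_of_isLocalRing _ e' hidem with h0 | h1
  · left; rw [← he'', h0, map_zero]
  · right; rw [← he'', h1, map_one]

/-- Finite extensions of the fraction field. -/
theorem trivIdem_finite (L' : Type u) [Field L'] [Algebra A L'] [Algebra (FractionRing A) L']
    [IsScalarTower A (FractionRing A) L'] [FiniteDimensional (FractionRing A) L']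
    (B : Type u) [CommRing B] [Algebra A B] (h : Good A B) : TrivIdem (B ⊗[A] L') := by
  obtain ⟨A₁, hA₁, -, -⟩ := Groth.Agent.S4615.result (A := A) (K' := L')
  obtain ⟨hfin, hfrac⟩ := hA₁
  haveI := hfin
  haveI : Algebra.IsIntegral A A₁ := Algebra.IsIntegral.of_finite A A₁
  haveI : IsNoetherianRing A₁ := IsNoetherianRing.of_finite A A₁
  haveI : HenselianLocalRing A₁ := Groth.Agent.Lib.HensIntDom.henselian_of_integral_domain A A₁
  haveI : IsFractionRing A₁ L' := IsFractionRing.of_field (R := A₁) (K := L') (fun z => by
    obtain ⟨a, b, hb, h⟩ := hfrac z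
    exact ⟨a, b, by rw [eq_div_iff (show algebraMap A₁ L' b ≠ 0 from hb)]; exact h⟩)
  have h1 := trivIdem_fraction A₁ L' (A₁ ⊗[A] B) (h.baseChange A₁)
  exact trivIdem_of_injective (bcEquiv A A₁ B L').symm.toRingHom
    (bcEquiv A A₁ B L').symm.injective h1

/-- Algebraic extensions of the fraction field. -/
theorem trivIdem_algebraic (Ω : Type u) [Field Ω] [Algebra A Ω] [Algebra (FractionRing A) Ω]
    [IsScalarTower A (FractionRing A) Ω] [Algebra.IsAlgebraic (FractionRing A) Ω]
    (B : Type u) [CommRing B] [Algebra A B] (h : Good A B) : TrivIdem (B ⊗[A] Ω) := by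
  haveI := h.flat
  intro e he
  obtain ⟨D, hDfg, z, rfl⟩ := exists_fg_and_mem_baseChange e
  obtain ⟨S, hS⟩ := hDfg
  have he : IsIdempotentElem (Algebra.TensorProduct.map (AlgHom.id B B) D.val z) := he
  show Algebra.TensorProduct.map (AlgHom.id B B) D.val z = 0 ∨
    Algebra.TensorProduct.map (AlgHom.id B B) D.val z = 1
  let L' : IntermediateField (FractionRing A) Ω := IntermediateField.adjoin (FractionRing A) (S : Set Ω)
  haveI : FiniteDimensional (FractionRing A) L' :=
    IntermediateField.finiteDimensional_adjoin
      (fun x _ => (Algebra.IsAlgebraic.isAlgebraic x).isIntegral)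
  have hle : ∀ d : D, (d : Ω) ∈ L' := by
    intro d
    have hd : (d : Ω) ∈ Algebra.adjoin A (S : Set Ω) := by rw [hS]; exact d.2
    have hsub : Algebra.adjoin A (S : Set Ω) ≤ L'.toSubalgebra.restrictScalars A :=
      Algebra.adjoin_le (fun x hx => IntermediateField.subset_adjoin _ _ hx)
    exact hsub hd
  let ψ : D →ₐ[A] L' :=
    { toFun := fun d => ⟨(d : Ω), hle d⟩
      map_one' := rfl
      map_mul' := fun _ _ => rfl
      map_zero' := rfl
      map_add' := fun _ _ => rfl
      commutes' := fun _ => rfl }
  let ι : L' →ₐ[A] Ω :=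
    { toFun := fun x => (x : Ω)
      map_one' := rfl
      map_mul' := fun _ _ => rfl
      map_zero' := rfl
      map_add' := fun _ _ => rfl
      commutes' := fun _ => rfl }
  have hcomp : ι.comp ψ = D.val := by
    ext d; rfl
  let z' : B ⊗[A] L' := Algebra.TensorProduct.map (AlgHom.id B B) ψ z
  have hz' : Algebra.TensorProduct.map (AlgHom.id B B) ι z' =
      Algebra.TensorProduct.map (AlgHom.id B B) D.val z := by
    show Algebra.TensorProduct.map (AlgHom.id B B) ι
      (Algebra.TensorProduct.map (AlgHom.id B B) ψ z) = _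
    rw [← AlgHom.comp_apply, ← Algebra.TensorProduct.map_comp, hcomp, AlgHom.comp_id]
  have hιinj : Function.Injective (Algebra.TensorProduct.map (AlgHom.id B B) ι) :=
    Module.Flat.lTensor_preserves_injective_linearMap (M := B) ι.toLinearMap
      (RingHom.injective ι.toRingHom)
  have hidem : IsIdempotentElem z' := by
    apply hιinj
    rw [map_mul, hz']
    exact he.eq
  rcases trivIdem_finite A L' B h z' hidem with h0 | h1
  · left; rw [← hz', h0, map_zero]
  · right; rw [← hz', h1, map_one]

/-- Algebraically closed extensions. -/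
theorem trivIdem_algClosed (K : Type u) [Field K] [IsAlgClosed K] [Algebra A K] [FaithfulSMul A K]
    (B : Type u) [CommRing B] [Algebra A B] (h : Good A B) : TrivIdem (B ⊗[A] K) := by
  haveI := h.flat
  letI : Algebra (FractionRing A) K := FractionRing.liftAlgebra A K
  haveI : IsScalarTower A (FractionRing A) K := FractionRing.isScalarTower_liftAlgebra A K
  let Ω : IntermediateField (FractionRing A) K := algebraicClosure (FractionRing A) K
  haveI : IsAlgClosed Ω := IsAlgClosure.isAlgClosed (FractionRing A)
  haveI : IsScalarTower A Ω K := IsScalarTower.of_algebraMap_eq (fun _ => rfl)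
  have h1 : TrivIdem (B ⊗[A] Ω) := trivIdem_algebraic A Ω B h
  have h2 : TrivIdem (Ω ⊗[A] B) :=
    trivIdem_of_injective (Algebra.TensorProduct.comm A Ω B).toRingEquiv.toRingHom
      (Algebra.TensorProduct.comm A Ω B).injective h1
  have h3 : TrivIdem (K ⊗[Ω] (Ω ⊗[A] B)) :=
    trivIdem_tensor_of_isAlgClosed Ω K (Ω ⊗[A] B) (trivIdem_of_isLocalRing K) h2
  have h4 : TrivIdem (K ⊗[A] B) :=
    trivIdem_of_injective
      (Algebra.TensorProduct.cancelBaseChange A Ω Ω K B).symm.toRingEquiv.toRingHom
      (Algebra.TensorProduct.cancelBaseChange A Ω Ω K B).symm.injective h3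
  exact trivIdem_of_injective (Algebra.TensorProduct.comm A B K).toRingEquiv.toRingHom
    (Algebra.TensorProduct.comm A B K).injective h4

/-- Arbitrary field extensions. -/
theorem trivIdem_field (K : Type u) [Field K] [Algebra A K] [FaithfulSMul A K]
    (B : Type u) [CommRing B] [Algebra A B] (h : Good A B) : TrivIdem (B ⊗[A] K) := by
  haveI := h.flat
  haveI : FaithfulSMul A (AlgebraicClosure K) := by
    rw [faithfulSMul_iff_algebraMap_injective]
    rw [IsScalarTower.algebraMap_eq A K (AlgebraicClosure K), RingHom.coe_comp]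
    exact (RingHom.injective _).comp (FaithfulSMul.algebraMap_injective A K)
  have h1 := trivIdem_algClosed A (AlgebraicClosure K) B h
  let ι : K →ₐ[A] AlgebraicClosure K := IsScalarTower.toAlgHom A K (AlgebraicClosure K)
  have hιinj : Function.Injective (Algebra.TensorProduct.map (AlgHom.id B B) ι) :=
    Module.Flat.lTensor_preserves_injective_linearMap (M := B) ι.toLinearMap
      (RingHom.injective ι.toRingHom)
  exact trivIdem_of_injective (Algebra.TensorProduct.map (AlgHom.id B B) ι).toRingHom hιinj h1

end P1

end Groth.Agent.Lib.HensConnH3
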