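import Mathlib

open TensorProduct

namespace Groth.Agent.Lib.GeomRedCompH4

universe u

theorem isReduced_of_ringEquiv {X Y : Type*} [CommRing X] [CommRing Y] (e : X ≃+* Y)
    [IsReduced Y] : IsReduced X :=
  isReduced_of_injective e e.injective

/-- A flat algebra over a reduced Noetherian ring whose fibres at the minimal primes are reduced
is reduced. -/
theorem isReduced_of_flat_of_fibres (R : Type u) [CommRing R] [IsNoetherianRing R] [IsReduced R]
    (S : Type u) [CommRing S] [Algebra R S] [Module.Flat R S]
    (h : ∀ (P : Ideal R) [P.IsPrime], P ∈ minimalPrimes R → IsReduced (P.ResidueField ⊗[R] S)) :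
    IsReduced S := by
  classical
  refine ⟨fun x hx => ?_⟩
  have hfin : (minimalPrimes R).Finite := minimalPrimes.finite_of_isNoetherianRing R
  letI : Fintype (minimalPrimes R) := hfin.fintype
  haveI : ∀ i : minimalPrimes R, i.1.IsPrime := fun i => i.2.1.1
  let M : minimalPrimes R → Type u := fun i => i.1.ResidueField
  let f : R →ₗ[R] (∀ i, M i) := LinearMap.pi (fun i => Algebra.linearMap R (M i))
  have hf : Function.Injective f := by
    rw [injective_iff_map_eq_zero]
    intro r hr
    have hmem : r ∈ sInf (minimalPrimes R) := by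
      rw [Submodule.mem_sInf]
      intro P hP
      haveI := hP.1.1
      have := congr_fun hr ⟨P, hP⟩
      exact Ideal.algebraMap_residueField_eq_zero.mp this
    have h0 : sInf (minimalPrimes R) = (⊥ : Ideal R) := by
      rw [minimalPrimes, Ideal.sInf_minimalPrimes]
      exact nilradical_eq_zero R
    rw [h0] at hmem
    simpa using hmem
  have hinj := Module.Flat.lTensor_preserves_injective_linearMap (M := S) f hf
  have h0 : ∀ i : minimalPrimes R, x ⊗ₜ[R] (1 : M i) = 0 := by
    intro i
    haveI := h i.1 i.2
    have h1 : (1 : M i) ⊗ₜ[R] x = 0 := by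
      have : IsNilpotent ((Algebra.TensorProduct.includeRight : S →ₐ[R] M i ⊗[R] S) x) :=
        hx.map _
      exact this.eq_zero
    have := congr_arg (TensorProduct.comm R (M i) S) h1
    simpa using this
  have h1 : (f.lTensor S) (x ⊗ₜ[R] (1 : R)) = 0 := by
    apply (TensorProduct.piRight R R S M).injective
    rw [map_zero]
    funext i
    simp only [LinearMap.lTensor_tmul, TensorProduct.piRight_apply,
      TensorProduct.piRightHom_tmul, Pi.zero_apply]
    have : f 1 i = (1 : M i) := by simp [f]
    rw [this]
    exact h0 i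
  have h2 : x ⊗ₜ[R] (1 : R) = 0 := hinj (by rw [h1, map_zero])
  have := congr_arg (TensorProduct.rid R S) h2
  simpa using this

/-- Fibre over a field algebraic over the residue field of a prime with geometrically reduced
fibre is reduced. -/
theorem fib {B C : Type u} [CommRing B] [CommRing C] [Algebra B C] (q : Ideal B) [q.IsPrime]
    [hq : Algebra.IsGeometricallyReduced q.ResidueField (q.Fiber C)]
    (L : Type u) [Field L] [Algebra B L] [Algebra q.ResidueField L]
    [IsScalarTower B q.ResidueField L]
    [Algebra.IsAlgebraic q.ResidueField L] : IsReduced (L ⊗[B] C) := by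
  have : IsReduced (L ⊗[q.ResidueField] (q.ResidueField ⊗[B] C)) := inferInstance
  exact isReduced_of_ringEquiv
    (Algebra.TensorProduct.cancelBaseChange B q.ResidueField L L C).symm.toRingEquiv


section Alg

variable {A B : Type u} [CommRing A] [CommRing B] [Algebra A B] (p : Ideal A) [p.IsPrime]
  (K' : Type u) [CommRing K'] [Algebra p.ResidueField K'] [Algebra A K']
  [IsScalarTower A p.ResidueField K']

theorem algebraMap_tensor_eq (a : A) :
    algebraMap B (B ⊗[A] K') (algebraMap A B a) = (1 : B) ⊗ₜ[A] (algebraMap A K' a) := by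
  rw [Algebra.TensorProduct.algebraMap_apply, Algebra.algebraMap_self, RingHom.id_apply,
    Algebra.algebraMap_eq_smul_one, Algebra.algebraMap_eq_smul_one (A := K'),
    TensorProduct.smul_tmul]

variable (P : Ideal (B ⊗[A] K')) [P.IsPrime]

theorem comap_comap_eq :
    p = (P.comap (algebraMap B (B ⊗[A] K'))).comap (algebraMap A B) := by
  ext a
  simp only [Ideal.mem_comap]
  rw [algebraMap_tensor_eq K' a]
  constructor
  · intro ha
    have h0 : algebraMap A K' a = 0 := by
      rw [IsScalarTower.algebraMap_apply A p.ResidueField K',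
        Ideal.algebraMap_residueField_eq_zero.mpr ha, map_zero]
    rw [h0, TensorProduct.tmul_zero]
    exact P.zero_mem
  · intro ha
    by_contra hap
    have hne : algebraMap A p.ResidueField a ≠ 0 := fun h =>
      hap (Ideal.algebraMap_residueField_eq_zero.mp h)
    have h1 : algebraMap A K' a * algebraMap p.ResidueField K' (algebraMap A p.ResidueField a)⁻¹
        = 1 := by
      rw [IsScalarTower.algebraMap_apply A p.ResidueField K', ← map_mul,
        mul_inv_cancel₀ hne, map_one]
    have h2 : ((1 : B) ⊗ₜ[A] (algebraMap A K' a)) *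
        ((1 : B) ⊗ₜ[A] (algebraMap p.ResidueField K' (algebraMap A p.ResidueField a)⁻¹))
        = 1 := by
      rw [Algebra.TensorProduct.tmul_mul_tmul, one_mul, h1]
      rfl
    have : (1 : B ⊗[A] K') ∈ P := by
      rw [← h2]
      exact P.mul_mem_right _ ha
    exact (Ideal.IsPrime.ne_top ‹P.IsPrime›) ((Ideal.eq_top_iff_one P).mpr this)

include p in
/-- the residue field of a prime of `B ⊗[A] K'` is algebraic over the residue field of its
contraction to `B`. -/
theorem isIntegral_residueField [Algebra.IsIntegral p.ResidueField K'] (x : P.ResidueField) :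
    (Ideal.ResidueField.map (P.comap (algebraMap B (B ⊗[A] K'))) P
      (algebraMap B (B ⊗[A] K')) rfl).IsIntegralElem x := by
  set q : Ideal B := P.comap (algebraMap B (B ⊗[A] K')) with hq
  set ρ : q.ResidueField →+* P.ResidueField :=
    Ideal.ResidueField.map q P (algebraMap B (B ⊗[A] K')) rfl with hρ
  let θ : p.ResidueField →+* q.ResidueField :=
    Ideal.ResidueField.map p q (algebraMap A B) (comap_comap_eq p K' P)
  let φ : (B ⊗[A] K') →+* P.ResidueField := algebraMap _ _
  -- Claim 1
  have c1 : ∀ c : K', ρ.IsIntegralElem (φ ((1 : B) ⊗ₜ[A] c)) := by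
    intro c
    obtain ⟨g, hgm, hg⟩ := Algebra.IsIntegral.isIntegral (R := p.ResidueField) c
    let ψ : K' →+* P.ResidueField :=
      φ.comp (Algebra.TensorProduct.includeRight : K' →ₐ[A] B ⊗[A] K').toRingHom
    have hcomp : ψ.comp (algebraMap p.ResidueField K') = ρ.comp θ := by
      apply Ideal.ResidueField.ringHom_ext
      ext a
      simp only [RingHom.comp_apply, ψ, θ, hρ, AlgHom.toRingHom_eq_coe, RingHom.coe_coe,
        Algebra.TensorProduct.includeRight_apply, Ideal.ResidueField.map_algebraMap]
      rw [← IsScalarTower.algebraMap_apply A p.ResidueField K', algebraMap_tensor_eq K' a]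
    refine ⟨g.map θ, hgm.map θ, ?_⟩
    rw [Polynomial.eval₂_map, ← hcomp]
    have := Polynomial.hom_eval₂ g (algebraMap p.ResidueField K') ψ c
    rw [hg, map_zero] at this
    exact this.symm
  -- Claim 2
  have c2 : ∀ r : B ⊗[A] K', ρ.IsIntegralElem (φ r) := by
    intro r
    induction r using TensorProduct.induction_on with
    | zero => rw [map_zero]; exact ρ.isIntegralElem_zero
    | tmul b c =>
      have : b ⊗ₜ[A] c = (algebraMap B (B ⊗[A] K') b) * ((1 : B) ⊗ₜ[A] c) := by
        rw [Algebra.TensorProduct.algebraMap_apply, Algebra.algebraMap_self, RingHom.id_apply,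
          Algebra.TensorProduct.tmul_mul_tmul, mul_one, one_mul]
      rw [this, map_mul]
      refine RingHom.IsIntegralElem.mul ρ ?_ (c1 c)
      have : φ (algebraMap B (B ⊗[A] K') b) = ρ (algebraMap B q.ResidueField b) := by
        rw [hρ, Ideal.ResidueField.map_algebraMap]
      rw [this]
      exact ρ.isIntegralElem_map
    | add x y hx hy => rw [map_add]; exact RingHom.IsIntegralElem.add ρ hx hy
  -- Claim 3
  obtain ⟨a, b, hb, rfl⟩ := IsFractionRing.div_surjective (A := (B ⊗[A] K') ⧸ P) x
  obtain ⟨r, rfl⟩ := Ideal.Quotient.mk_surjective a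
  obtain ⟨s, rfl⟩ := Ideal.Quotient.mk_surjective b
  rw [Ideal.algebraMap_quotient_residueField_mk, Ideal.algebraMap_quotient_residueField_mk,
    div_eq_mul_inv]
  letI : Algebra q.ResidueField P.ResidueField := ρ.toAlgebra
  have hr : IsIntegral q.ResidueField (φ r) := c2 r
  have hs : IsIntegral q.ResidueField (φ s) := c2 s
  exact hr.mul hs.inv

end Alg


/-- Core step: base change of reducedness along a flat map with geometrically reduced fibres,
for finite algebras over a residue field of `A`. -/
theorem core (A B C : Type u) [CommRing A] [CommRing B] [CommRing C] [IsNoetherianRing B]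
    [Algebra A B] [Algebra B C] [Algebra A C] [IsScalarTower A B C] [Module.Flat B C]
    (hBC : ∀ (q : Ideal B) [q.IsPrime],
      Algebra.IsGeometricallyReduced q.ResidueField (q.Fiber C))
    (p : Ideal A) [p.IsPrime] (K' : Type u) [CommRing K'] [Algebra p.ResidueField K']
    [Algebra A K'] [IsScalarTower A p.ResidueField K'] [Module.Finite p.ResidueField K']
    [IsReduced (B ⊗[A] K')] : IsReduced (C ⊗[A] K') := by
  have : Algebra.EssFiniteType A K' := Algebra.EssFiniteType.comp A p.ResidueField K'
  have : IsNoetherianRing (B ⊗[A] K') := Algebra.EssFiniteType.isNoetherianRing B (B ⊗[A] K')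
  have hS : IsReduced ((B ⊗[A] K') ⊗[B] C) := by
    apply isReduced_of_flat_of_fibres (B ⊗[A] K') ((B ⊗[A] K') ⊗[B] C)
    intro P _ _
    set q : Ideal B := P.comap (algebraMap B (B ⊗[A] K')) with hq
    letI : Algebra q.ResidueField P.ResidueField :=
      (Ideal.ResidueField.map q P (algebraMap B (B ⊗[A] K')) rfl).toAlgebra
    haveI : IsScalarTower B q.ResidueField P.ResidueField :=
      IsScalarTower.of_algebraMap_eq (fun b => by
        rw [RingHom.algebraMap_toAlgebra, Ideal.ResidueField.map_algebraMap,
          ← IsScalarTower.algebraMap_apply])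
    haveI : Algebra.IsIntegral q.ResidueField P.ResidueField :=
      ⟨fun x => isIntegral_residueField p K' P x⟩
    haveI := hBC q
    haveI : IsReduced (P.ResidueField ⊗[B] C) := fib q P.ResidueField
    exact isReduced_of_ringEquiv
      (Algebra.TensorProduct.cancelBaseChange B (B ⊗[A] K') P.ResidueField P.ResidueField
        C).toRingEquiv
  exact isReduced_of_ringEquiv
    ((Algebra.TensorProduct.cancelBaseChange A B C C K').symm.toRingEquiv.trans
      (Algebra.TensorProduct.comm B C (B ⊗[A] K')).toRingEquiv)

theorem main (A B C : Type u) [CommRing A] [CommRing B] [CommRing C]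
    [IsNoetherianRing B] [Algebra A B] [Algebra B C] [Algebra A C]
    [IsScalarTower A B C] [Module.Flat A B] [Module.Flat B C]
    (hAB : ∀ (p : Ideal A) [p.IsPrime],
      Algebra.IsGeometricallyReduced p.ResidueField (p.Fiber B))
    (hBC : ∀ (q : Ideal B) [q.IsPrime],
      Algebra.IsGeometricallyReduced q.ResidueField (q.Fiber C)) :
    Module.Flat A C ∧ ∀ (p : Ideal A) [p.IsPrime],
      Algebra.IsGeometricallyReduced p.ResidueField (p.Fiber C) := by
  refine ⟨Module.Flat.trans A B C, fun p _ => ?_⟩
  rw [Algebra.isGeometricallyReduced_field_iff]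
  have hB : IsReduced (AlgebraicClosure p.ResidueField ⊗[p.ResidueField] (p.ResidueField ⊗[A] B)) :=
    (Algebra.isGeometricallyReduced_field_iff _ _).mp (hAB p)
  have key : ∀ K' : Subalgebra p.ResidueField (AlgebraicClosure p.ResidueField), K'.FG →
      IsReduced ((p.ResidueField ⊗[A] C) ⊗[p.ResidueField] K') := by
    intro K' hK'
    haveI : Algebra.FiniteType p.ResidueField K' := (Subalgebra.fg_iff_finiteType K').mp hK'
    haveI : Algebra.IsIntegral p.ResidueField K' :=
      Algebra.IsIntegral.of_injective K'.val Subtype.val_injective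
    haveI : Module.Finite p.ResidueField K' := Algebra.IsIntegral.finite
    have h1 : IsReduced (K' ⊗[p.ResidueField] (p.ResidueField ⊗[A] B)) :=
      isReduced_of_injective
        (Algebra.TensorProduct.map K'.val (1 : _ →ₐ[p.ResidueField] (p.ResidueField ⊗[A] B)))
        (Module.Flat.rTensor_preserves_injective_linearMap _ Subtype.val_injective)
    have h2 : IsReduced (K' ⊗[A] B) :=
      isReduced_of_ringEquiv
        (Algebra.TensorProduct.cancelBaseChange A p.ResidueField K' K' B).symm.toRingEquiv
    haveI h3 : IsReduced (B ⊗[A] K') :=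
      isReduced_of_ringEquiv (Algebra.TensorProduct.comm A B K').toRingEquiv
    have h4 : IsReduced (C ⊗[A] K') := core A B C hBC p K'
    have h5 : IsReduced (K' ⊗[A] C) :=
      isReduced_of_ringEquiv (Algebra.TensorProduct.comm A K' C).toRingEquiv
    have h6 : IsReduced (K' ⊗[p.ResidueField] (p.ResidueField ⊗[A] C)) :=
      isReduced_of_ringEquiv
        (Algebra.TensorProduct.cancelBaseChange A p.ResidueField K' K' C).toRingEquiv
    exact isReduced_of_ringEquiv
      (Algebra.TensorProduct.comm p.ResidueField (p.ResidueField ⊗[A] C) K').toRingEquiv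
  have h7 := IsReduced.tensorProduct_of_flat_of_forall_fg key
  exact isReduced_of_ringEquiv
    (Algebra.TensorProduct.comm p.ResidueField (AlgebraicClosure p.ResidueField)
      (p.ResidueField ⊗[A] C)).toRingEquiv

end Groth.Agent.Lib.GeomRedCompH4
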