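import Mathlib
import Groth.Agent.Lib.FlatDescent_helper4

/-!
# Geometrically reduced fibres: descent along a faithfully flat second map (helper4)
-/

set_option autoImplicit false
universe u

open TensorProduct

namespace Groth.Agent.Lib.GeomRedFibH4

/-- `B → C` faithfully flat is universally injective, also over a smaller base `A`. -/
theorem rTensor_injective_of_faithfullyFlat (A B C : Type u) [CommRing A] [CommRing B] [CommRing C]
    [Algebra A B] [Algebra B C] [Algebra A C] [IsScalarTower A B C] [Module.FaithfullyFlat B C]
    (N : Type u) [AddCommGroup N] [Module A N] :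
    Function.Injective (LinearMap.rTensor N (IsScalarTower.toAlgHom A B C).toLinearMap) := by
  have h1 := Module.FaithfullyFlat.tensorProduct_mk_injective (A := B) (B := C) (B ⊗[A] N)
  have hsq : ∀ x : B ⊗[A] N,
      LinearMap.rTensor N (IsScalarTower.toAlgHom A B C).toLinearMap x =
        (AlgebraTensorModule.cancelBaseChange A B C C N)
          (TensorProduct.mk B C (B ⊗[A] N) 1 x) := by
    intro x
    induction x using TensorProduct.induction_on with
    | zero => simp
    | add x y hx hy => simp only [map_add, hx, hy]
    | tmul b n => simp [Algebra.smul_def]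
  intro x y hxy
  rw [hsq, hsq] at hxy
  exact h1 ((AlgebraTensorModule.cancelBaseChange A B C C N).injective hxy)

theorem S4753_main (A B C : Type u) [CommRing A] [CommRing B] [CommRing C]
    [Algebra A B] [Algebra B C] [Algebra A C]
    [IsScalarTower A B C] [Module.FaithfullyFlat B C] [Module.Flat A C]
    (hAC : ∀ (p : Ideal A) [p.IsPrime],
      Algebra.IsGeometricallyReduced p.ResidueField (p.Fiber C)) :
    Module.Flat A B ∧ ∀ (p : Ideal A) [p.IsPrime],
      Algebra.IsGeometricallyReduced p.ResidueField (p.Fiber B) := by
  refine ⟨Groth.Agent.Lib.FlatDescent_helper4.flat_of_faithfullyFlat_of_flat A B C, fun p _ => ?_⟩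
  haveI := hAC p
  refine Algebra.IsGeometricallyReduced.of_injective
    (Algebra.TensorProduct.map (AlgHom.id p.ResidueField p.ResidueField)
      (IsScalarTower.toAlgHom A B C)) ?_
  have hf : ∀ x : p.ResidueField ⊗[A] B,
      (Algebra.TensorProduct.map (AlgHom.id p.ResidueField p.ResidueField)
        (IsScalarTower.toAlgHom A B C)) x =
      LinearMap.lTensor p.ResidueField (IsScalarTower.toAlgHom A B C).toLinearMap x := by
    intro x
    induction x using TensorProduct.induction_on with
    | zero => simp
    | add x y hx hy => simp only [map_add, hx, hy]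
    | tmul b n => simp
  have hinj : Function.Injective
      (LinearMap.lTensor p.ResidueField (IsScalarTower.toAlgHom A B C).toLinearMap) :=
    (LinearMap.lTensor_inj_iff_rTensor_inj _ _).mpr
      (rTensor_injective_of_faithfullyFlat A B C p.ResidueField)
  intro x y hxy
  rw [hf, hf] at hxy
  exact hinj hxy

end Groth.Agent.Lib.GeomRedFibH4
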