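import Mathlib
import Groth.Prelude.Def_Found
import Groth.Prelude.Def_EGA4b

/-!
# Localisation of reducedness of fibres (EGA IV 7.5): admissible algebras and base change
(helper3)
APPEND-ONLY once landed.
-/

set_option autoImplicit false
universe u

namespace Groth.Agent.Lib.LocRedH3

open TensorProduct IsLocalRing

/-- Admissible algebras over a local ring `A`: Noetherian, flat, the maximal ideal of `A` lands in
the Jacobson radical, and the closed fibre is geometrically reduced (tested on fields which are
finite `A`-modules). -/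
structure Adm (A B : Type u) [CommRing A] [IsLocalRing A] [CommRing B] [Algebra A B] : Prop where
  noeth : IsNoetherianRing B
  flat : Module.Flat A B
  rad : (maximalIdeal A).map (algebraMap A B) ≤ Ideal.jacobson ⊥
  fib : ∀ (k' : Type u) [Field k'] [Algebra A k'] [Module.Finite A k'], IsReduced (k' ⊗[A] B)

theorem ringKrullDim_le_of_isIntegral (R A : Type*) [CommRing R] [CommRing A] [Algebra R A]
    [Algebra.IsIntegral R A] : ringKrullDim A ≤ ringKrullDim R := by
  refine Order.krullDim_le_of_strictMono
    (fun P : PrimeSpectrum A => PrimeSpectrum.comap (algebraMap R A) P) ?_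
  intro P Q h
  have h' : P.asIdeal < Q.asIdeal := h
  exact Ideal.IsIntegral.comap_lt_comap h'

/-- Base change of an admissible algebra along a finite local extension of the base. -/
theorem Adm.baseChange {A B : Type u} [CommRing A] [IsLocalRing A] [CommRing B] [Algebra A B]
    (h : Adm A B) (A₁ : Type u) [CommRing A₁] [IsLocalRing A₁] [Algebra A A₁]
    [Module.Finite A A₁] : Adm A₁ (A₁ ⊗[A] B) := by
  haveI := h.noeth
  haveI := h.flat
  haveI : Algebra.IsIntegral A A₁ := Algebra.IsIntegral.of_finite A A₁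
  refine ⟨?_, inferInstance, ?_, ?_⟩
  · haveI : IsNoetherianRing (B ⊗[A] A₁) := Algebra.EssFiniteType.isNoetherianRing B _
    exact isNoetherianRing_of_ringEquiv (B ⊗[A] A₁) (Algebra.TensorProduct.comm A B A₁).toRingEquiv
  · rw [Ideal.map_le_iff_le_comap]
    intro a₁ ha₁
    rw [Ideal.mem_comap, Ideal.jacobson, Ideal.mem_sInf]
    rintro N ⟨-, hN⟩
    haveI := hN
    -- the map `B → A₁ ⊗ B` is integral
    let ψ : B →+* A₁ ⊗[A] B :=
      ((Algebra.TensorProduct.comm A A₁ B).symm : B ⊗[A] A₁ →+* A₁ ⊗[A] B).comp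
        (algebraMap B (B ⊗[A] A₁))
    have hψint : ψ.IsIntegral := by
      haveI : Algebra.IsIntegral B (B ⊗[A] A₁) := Algebra.IsIntegral.of_finite B _
      refine RingHom.IsIntegral.trans _ _ (algebraMap_isIntegral_iff.mpr inferInstance) ?_
      exact RingHom.isIntegral_of_surjective _ (AlgEquiv.surjective _)
    have hψ : ∀ b : B, ψ b = (1 : A₁) ⊗ₜ[A] b := fun b => by
      simp [ψ, Algebra.TensorProduct.algebraMap_apply]
    haveI h𝔟 : (N.comap ψ).IsMaximal := Ideal.isMaximal_comap_of_isIntegral_of_isMaximal' ψ hψint N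
    have hmA : maximalIdeal A ≤ (N.comap (algebraMap A₁ (A₁ ⊗[A] B))).comap (algebraMap A A₁) := by
      intro a ha
      have h1 : algebraMap A B a ∈ N.comap ψ := by
        have h2 : algebraMap A B a ∈ Ideal.jacobson (⊥ : Ideal B) :=
          h.rad (Ideal.mem_map_of_mem _ ha)
        rw [Ideal.jacobson, Ideal.mem_sInf] at h2
        exact h2 ⟨bot_le, h𝔟⟩
      rw [Ideal.mem_comap, hψ] at h1
      rw [Ideal.mem_comap, Ideal.mem_comap, Algebra.TensorProduct.algebraMap_apply,
        Algebra.algebraMap_self, RingHom.id_apply]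
      have h3 : (algebraMap A A₁ a) ⊗ₜ[A] (1 : B) = (1 : A₁) ⊗ₜ[A] (algebraMap A B a) := by
        rw [Algebra.algebraMap_eq_smul_one, Algebra.algebraMap_eq_smul_one, TensorProduct.smul_tmul]
      rw [h3]
      exact h1
    haveI hn₁ : (N.comap (algebraMap A₁ (A₁ ⊗[A] B))).IsPrime := Ideal.comap_isPrime _ N
    have hcomap : (N.comap (algebraMap A₁ (A₁ ⊗[A] B))).comap (algebraMap A A₁) = maximalIdeal A :=
      ((maximalIdeal.isMaximal A).eq_of_le (Ideal.comap_ne_top _ hn₁.ne_top) hmA).symm
    have hmax : (N.comap (algebraMap A₁ (A₁ ⊗[A] B))).IsMaximal :=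
      Ideal.isMaximal_of_isIntegral_of_isMaximal_comap (R := A) _ (by
        rw [hcomap]; exact maximalIdeal.isMaximal A)
    have heq := IsLocalRing.eq_maximalIdeal hmax
    have : a₁ ∈ N.comap (algebraMap A₁ (A₁ ⊗[A] B)) := by rw [heq]; exact ha₁
    exact this
  · intro k' _ _ _
    letI : Algebra A k' := ((algebraMap A₁ k').comp (algebraMap A A₁)).toAlgebra
    haveI : IsScalarTower A A₁ k' := IsScalarTower.of_algebraMap_eq fun _ => rfl
    haveI : Module.Finite A k' := Module.Finite.trans A₁ k'
    haveI := h.fib k'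
    exact isReduced_of_injective
      (Algebra.TensorProduct.cancelBaseChange A A₁ k' k' B).toAlgHom
      (Algebra.TensorProduct.cancelBaseChange A A₁ k' k' B).injective

end Groth.Agent.Lib.LocRedH3
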