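import Mathlib
import Groth.Prelude.Def_Found
import Groth.Prelude.Def_EGA4b
import Groth.Agent.Lib.LocRed1_helper3
import Groth.Agent.Lib.SerreCore_helper5
import Groth.Agent.Lib.NormalFlat_helper3
import Groth.Agent.Lib.AnUnramNagata_helper3
import Groth.Agent.Lib.MonomialCharP_helper3

/-!
# Localisation of reducedness of fibres (EGA IV 7.5): the normal case (helper3)
APPEND-ONLY once landed.
-/

set_option autoImplicit false
universe u

namespace Groth.Agent.Lib.LocRedH3

open TensorProduct IsLocalRing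

/-- In a Noetherian normal domain, an associated prime `p` of `A/(t)` has a "uniformizer". -/
theorem exists_uniformizer (A : Type u) [CommRing A] [IsDomain A] [IsNoetherianRing A]
    [IsIntegrallyClosed A] (t : A) (ht : t ≠ 0) (p : Ideal A)
    (hp : p ∈ associatedPrimes A (A ⧸ Ideal.span {t})) :
    ∃ π ∈ p, π ≠ 0 ∧ (∀ y ∈ p, ∃ s ∉ p, s * y ∈ Ideal.span {π}) ∧
      ∃ (e : ℕ) (s : A), s ∉ p ∧ s * π ^ e ∈ Ideal.span {t} := by
  haveI hpp : p.IsPrime := hp.isPrime
  haveI : IsIntegrallyClosed (Localization.AtPrime p) :=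
    isIntegrallyClosed_of_isLocalization (Localization.AtPrime p) p.primeCompl
      p.primeCompl_le_nonZeroDivisors
  have hinj : Function.Injective (algebraMap A (Localization.AtPrime p)) :=
    IsLocalization.injective _ p.primeCompl_le_nonZeroDivisors
  have ha : algebraMap A (Localization.AtPrime p) t ≠ 0 := fun h =>
    ht (hinj (by rw [h, map_zero]))
  have hcol := Groth.Agent.Lib.NorLocus2H3.isColon_of_mem_associatedPrimes hp
  have htp : t ∈ p := by
    obtain ⟨z, hz⟩ := hcol
    rw [hz]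
    exact Ideal.mul_mem_right _ _ (Ideal.mem_span_singleton_self t)
  obtain ⟨π, hπp, hπ⟩ := Groth.Agent.Lib.NormalFlatH3.exists_generator_of_isColon A p t ha hcol
  have htS : algebraMap A (Localization.AtPrime p) t ∈
      maximalIdeal (Localization.AtPrime p) :=
    (IsLocalization.AtPrime.to_map_mem_maximal_iff _ p t).mpr htp
  have hmS : maximalIdeal (Localization.AtPrime p) ≠ ⊥ := fun h => by
    rw [h] at htS
    exact ha htS
  have hπ0 : π ≠ 0 := by
    rintro rfl
    apply hmS
    rw [hπ, map_zero]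
    simp
  refine ⟨π, hπp, hπ0, ?_, ?_⟩
  · intro y hy
    have hyS : algebraMap A (Localization.AtPrime p) y ∈
        maximalIdeal (Localization.AtPrime p) :=
      (IsLocalization.AtPrime.to_map_mem_maximal_iff _ p y).mpr hy
    rw [hπ, Ideal.mem_span_singleton'] at hyS
    obtain ⟨c, hc⟩ := hyS
    obtain ⟨w, s, rfl⟩ := IsLocalization.exists_mk'_eq p.primeCompl c
    refine ⟨s, s.2, ?_⟩
    rw [Ideal.mem_span_singleton']
    refine ⟨w, hinj ?_⟩
    rw [map_mul, map_mul, ← hc, ← IsLocalization.mk'_spec (Localization.AtPrime p) w s]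
    ring
  · have hprinc : (maximalIdeal (Localization.AtPrime p)).IsPrincipal := ⟨⟨_, hπ⟩⟩
    have hall := ((tfae_of_isNoetherianRing_of_isLocalRing_of_isDomain
      (Localization.AtPrime p)).out 4 6).mp hprinc
    have hne : Ideal.span {algebraMap A (Localization.AtPrime p) t} ≠ ⊥ := by
      rw [Ne, Ideal.span_singleton_eq_bot]
      exact ha
    obtain ⟨e, he⟩ := hall _ hne
    have h1 : algebraMap A (Localization.AtPrime p) (π ^ e) ∈
        Ideal.span {algebraMap A (Localization.AtPrime p) t} := by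
      rw [he, hπ, Ideal.span_singleton_pow, map_pow]
      exact Ideal.mem_span_singleton_self _
    rw [Ideal.mem_span_singleton'] at h1
    obtain ⟨c, hc⟩ := h1
    obtain ⟨w, s, rfl⟩ := IsLocalization.exists_mk'_eq p.primeCompl c
    refine ⟨e, s, s.2, ?_⟩
    rw [Ideal.mem_span_singleton']
    refine ⟨w, hinj ?_⟩
    rw [map_mul, map_mul, ← hc, ← IsLocalization.mk'_spec (Localization.AtPrime p) w s]
    ring

/-- The statement `R(n)`: generic fibres (after finite extension) of admissible algebras over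
complete Noetherian local domains of dimension `≤ n` are reduced. -/
def RR (n : ℕ) : Prop :=
  ∀ (A : Type u) [CommRing A] [IsDomain A] [IsLocalRing A] [IsNoetherianRing A]
    [IsAdicComplete (maximalIdeal A) A], ringKrullDim A ≤ n →
    ∀ (B : Type u) [CommRing B] [Algebra A B], Adm A B →
    ∀ (K : Type u) [Field K] [Algebra A K] [IsFractionRing A K]
      (K' : Type u) [Field K'] [Algebra A K'] [Algebra K K']
      [IsScalarTower A K K'] [FiniteDimensional K K'],
      IsReduced (K' ⊗[A] B)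

theorem smul_eq_zero_of_flat {A B : Type*} [CommRing A] [IsDomain A] [CommRing B] [Algebra A B]
    [Module.Flat A B] {a : A} (ha : a ≠ 0) {b : B} (h : algebraMap A B a * b = 0) : b = 0 := by
  have hreg : IsSMulRegular A a := fun x y hxy => mul_left_cancel₀ ha hxy
  have hreg' : IsSMulRegular B (algebraMap A B a) := hreg.of_flat
  apply hreg'
  change algebraMap A B a • b = algebraMap A B a • 0
  rw [smul_zero, smul_eq_mul, h]

/-- (K1) Nilpotents of `B` lie in `pB` for every nonzero prime `p`. -/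
theorem nilpotent_mem_map (n : ℕ) (ih : ∀ m < n, RR.{u} m)
    (A : Type u) [CommRing A] [IsDomain A] [IsLocalRing A] [IsNoetherianRing A]
    [IsAdicComplete (maximalIdeal A) A] (hdim : ringKrullDim A ≤ n)
    (B : Type u) [CommRing B] [Algebra A B] (hB : Adm A B) (p : Ideal A) [hp : p.IsPrime]
    (hp0 : p ≠ ⊥) (x : B) (hx : IsNilpotent x) : x ∈ p.map (algebraMap A B) := by
  haveI := hB.noeth
  haveI := hB.flat
  haveI : Nontrivial (A ⧸ p) := Ideal.Quotient.nontrivial_iff.2 hp.ne_top
  haveI : IsLocalRing (A ⧸ p) :=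
    IsLocalRing.of_surjective' (Ideal.Quotient.mk p) Ideal.Quotient.mk_surjective
  haveI := Groth.Agent.Lib.MonomialCharPH3.isAdicComplete_quotient A p
  have h1 := Groth.Agent.Lib.AnUnramNagataH3.dim_quotient_succ_le A p hp0
  obtain ⟨k, rfl⟩ : ∃ k, n = k + 1 := by
    rcases n with _ | k
    · exfalso
      have h2 : ringKrullDim (A ⧸ p) + 1 ≤ 0 := h1.trans (by simpa using hdim)
      have h3 : (0 : WithBot ℕ∞) ≤ ringKrullDim (A ⧸ p) := ringKrullDim_nonneg_of_nontrivial
      have h4 : (0 : WithBot ℕ∞) + 1 ≤ 0 := (add_le_add_left h3 1).trans h2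
      rw [zero_add] at h4
      have h5 : (1 : ℕ) ≤ 0 := by exact_mod_cast h4
      omega
    · exact ⟨k, rfl⟩
  have hdim₁ : ringKrullDim (A ⧸ p) ≤ k :=
    Groth.Agent.Lib.AnUnramNagataH3.dim_le_pred (h1.trans hdim)
  have hB₁ := hB.baseChange (A ⧸ p)
  have hred : IsReduced (FractionRing (A ⧸ p) ⊗[A ⧸ p] ((A ⧸ p) ⊗[A] B)) :=
    ih k (Nat.lt_succ_self k) (A ⧸ p) hdim₁ _ hB₁ (FractionRing (A ⧸ p)) (FractionRing (A ⧸ p))
  haveI : Module.Flat (A ⧸ p) ((A ⧸ p) ⊗[A] B) := inferInstance
  haveI hred₁ : IsReduced ((A ⧸ p) ⊗[A] B) :=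
    isReduced_of_injective
      (Algebra.TensorProduct.includeRight :
        (A ⧸ p) ⊗[A] B →ₐ[A ⧸ p] FractionRing (A ⧸ p) ⊗[A ⧸ p] ((A ⧸ p) ⊗[A] B))
      (Algebra.TensorProduct.includeRight_injective
        (IsFractionRing.injective (A ⧸ p) (FractionRing (A ⧸ p))))
  have h5 : IsNilpotent ((Algebra.TensorProduct.quotIdealMapEquivQuotTensor B p)
      (Ideal.Quotient.mk _ x)) := (hx.map (Ideal.Quotient.mk (p.map (algebraMap A B)))).map _
  have h6 := h5.eq_zero
  rw [EmbeddingLike.map_eq_zero_iff] at h6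
  exact Ideal.Quotient.eq_zero_iff_mem.mp h6

/-- (K2) -/
theorem exists_smul_mem_span (A : Type u) [CommRing A] [IsDomain A] [IsNoetherianRing A]
    [IsIntegrallyClosed A] (B : Type u) [CommRing B] [Algebra A B] [Module.Flat A B]
    (t : A) (ht : t ≠ 0) (p : Ideal A) (hp : p ∈ associatedPrimes A (A ⧸ Ideal.span {t}))
    (hnil : ∀ x : B, IsNilpotent x → x ∈ p.map (algebraMap A B)) (x : B) (hx : IsNilpotent x) :
    ∃ s ∉ p, algebraMap A B s * x ∈ Ideal.span {algebraMap A B t} := by
  haveI hpp : p.IsPrime := hp.isPrime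
  obtain ⟨π, hπp, hπ0, ha, e, s₂, hs₂, he⟩ := exists_uniformizer A t ht p hp
  -- elements of `pB`
  have ha' : ∀ y ∈ p.map (algebraMap A B), ∃ s ∉ p,
      algebraMap A B s * y ∈ Ideal.span {algebraMap A B π} := by
    intro y hy
    refine Submodule.span_induction (p := fun y _ => ∃ s ∉ p,
      algebraMap A B s * y ∈ Ideal.span {algebraMap A B π}) ?_ ?_ ?_ ?_ hy
    · rintro _ ⟨g, hg, rfl⟩
      obtain ⟨s, hs, hsg⟩ := ha g hg
      refine ⟨s, hs, ?_⟩
      rw [← map_mul]
      obtain ⟨w, hw⟩ := Ideal.mem_span_singleton'.mp hsg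
      rw [← hw, map_mul]
      exact Ideal.mul_mem_left _ _ (Ideal.mem_span_singleton_self _)
    · exact ⟨1, fun h => hpp.ne_top ((Ideal.eq_top_iff_one _).mpr h), by simp⟩
    · rintro y₁ y₂ - - ⟨s₁, hs₁, h₁⟩ ⟨s₂', hs₂', h₂⟩
      refine ⟨s₁ * s₂', fun h => (hpp.mem_or_mem h).elim hs₁ hs₂', ?_⟩
      have : algebraMap A B (s₁ * s₂') * (y₁ + y₂) =
          algebraMap A B s₂' * (algebraMap A B s₁ * y₁) +
            algebraMap A B s₁ * (algebraMap A B s₂' * y₂) := by
        rw [map_mul]; ring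
      rw [this]
      exact Ideal.add_mem _ (Ideal.mul_mem_left _ _ h₁) (Ideal.mul_mem_left _ _ h₂)
    · rintro b y - ⟨s, hs, h⟩
      refine ⟨s, hs, ?_⟩
      have : algebraMap A B s * (b • y) = b * (algebraMap A B s * y) := by
        rw [smul_eq_mul]; ring
      rw [this]
      exact Ideal.mul_mem_left _ _ h
  -- powers
  have hpow : ∀ (e : ℕ) (x : B), IsNilpotent x → ∃ s ∉ p,
      algebraMap A B s * x ∈ Ideal.span {algebraMap A B π ^ e} := by
    intro e
    induction e with
    | zero =>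
      intro x _
      exact ⟨1, fun h => hpp.ne_top ((Ideal.eq_top_iff_one _).mpr h), by simp⟩
    | succ e ih =>
      intro x hx
      obtain ⟨s, hs, hsx⟩ := ih x hx
      obtain ⟨y, hy⟩ := Ideal.mem_span_singleton'.mp hsx
      -- `y * π^e = s * x`
      have hynil : IsNilpotent y := by
        obtain ⟨N, hN⟩ := hx
        refine ⟨N, ?_⟩
        have h1 : algebraMap A B (π ^ (e * N)) * y ^ N = 0 := by
          have : algebraMap A B (π ^ (e * N)) * y ^ N = (y * algebraMap A B π ^ e) ^ N := by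
            rw [mul_pow, map_pow, pow_mul, ← pow_mul, mul_comm]
          rw [this, hy, mul_pow, hN, mul_zero]
        exact smul_eq_zero_of_flat (pow_ne_zero _ hπ0) h1
      obtain ⟨s', hs', hs'y⟩ := ha' y (hnil y hynil)
      obtain ⟨w, hw⟩ := Ideal.mem_span_singleton'.mp hs'y
      refine ⟨s' * s, fun h => (hpp.mem_or_mem h).elim hs' hs, ?_⟩
      rw [Ideal.mem_span_singleton']
      refine ⟨w, ?_⟩
      rw [map_mul, mul_assoc, ← hy, pow_succ]
      calc w * (algebraMap A B π ^ e * algebraMap A B π)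
          = (w * algebraMap A B π) * algebraMap A B π ^ e := by ring
        _ = (algebraMap A B s' * y) * algebraMap A B π ^ e := by rw [hw]
        _ = algebraMap A B s' * (y * algebraMap A B π ^ e) := by ring
  obtain ⟨s, hs, hsx⟩ := hpow e x hx
  obtain ⟨y, hy⟩ := Ideal.mem_span_singleton'.mp hsx
  obtain ⟨c, hc⟩ := Ideal.mem_span_singleton'.mp he
  refine ⟨s₂ * s, fun h => (hpp.mem_or_mem h).elim hs₂ hs, ?_⟩
  rw [Ideal.mem_span_singleton']
  refine ⟨y * algebraMap A B c, ?_⟩
  have h7 : algebraMap A B (s₂ * s) * x = algebraMap A B s₂ * (algebraMap A B s * x) := by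
    rw [map_mul, mul_assoc]
  rw [h7, ← hy]
  calc y * algebraMap A B c * algebraMap A B t
      = y * algebraMap A B (c * t) := by rw [map_mul]; ring
    _ = y * algebraMap A B (s₂ * π ^ e) := by rw [hc]
    _ = algebraMap A B s₂ * (y * algebraMap A B π ^ e) := by rw [map_mul, map_pow]; ring

end Groth.Agent.Lib.LocRedH3
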