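import Mathlib
import Groth.Prelude.Def_Found
import Groth.Prelude.Def_EGA4b
import Groth.Agent.Lib.LocRed2_helper3

/-!
# Localisation of reducedness of fibres (EGA IV 7.5): the normal step (helper3)
APPEND-ONLY once landed.
-/

set_option autoImplicit false
universe u

namespace Groth.Agent.Lib.LocRedH3

open TensorProduct IsLocalRing

/-- (K3) prime avoidance: an element which is locally in `tB` at every associated prime of
`A/(t)` lies in `tB`. -/
theorem mem_span_of_forall_associatedPrimes (A : Type u) [CommRing A] [IsNoetherianRing A]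
    (B : Type u) [CommRing B] [Algebra A B] [Module.Flat A B] (t : A) (x : B)
    (h : ∀ p ∈ associatedPrimes A (A ⧸ Ideal.span {t}), ∃ s ∉ p,
      algebraMap A B s * x ∈ Ideal.span {algebraMap A B t}) :
    x ∈ Ideal.span {algebraMap A B t} := by
  classical
  let J : Ideal A :=
    { carrier := {a | algebraMap A B a * x ∈ Ideal.span {algebraMap A B t}}
      add_mem' := fun {a b} ha hb => by
        change algebraMap A B (a + b) * x ∈ Ideal.span {algebraMap A B t}
        rw [map_add, add_mul]
        exact Ideal.add_mem _ ha hb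
      zero_mem' := by
        change algebraMap A B 0 * x ∈ Ideal.span {algebraMap A B t}
        rw [map_zero, zero_mul]
        exact Ideal.zero_mem _
      smul_mem' := fun c a ha => by
        change algebraMap A B (c • a) * x ∈ Ideal.span {algebraMap A B t}
        rw [smul_eq_mul, map_mul, mul_assoc]
        exact Ideal.mul_mem_left _ _ ha }
  have hfin : (associatedPrimes A (A ⧸ Ideal.span {t})).Finite := associatedPrimes.finite A _
  have hnot : ¬ ((J : Set A) ⊆ ⋃ i ∈ ((hfin.toFinset : Finset (Ideal A)) : Set (Ideal A)), i) := by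
    intro hsub
    obtain ⟨p, hp, hJp⟩ := (Ideal.subset_union_prime (f := fun i : Ideal A => i) ⊥ ⊥
      (fun i hi _ _ => (hfin.mem_toFinset.mp hi).isPrime)).mp hsub
    obtain ⟨s, hs, hsx⟩ := h p (hfin.mem_toFinset.mp hp)
    exact hs (hJp hsx)
  rw [Set.not_subset] at hnot
  obtain ⟨s₀, hs₀J, hs₀⟩ := hnot
  have hs₀' : s₀ ∉ ⋃ p ∈ associatedPrimes A (A ⧸ Ideal.span {t}), (p : Set A) := by
    intro hmem
    apply hs₀
    simp only [Set.mem_iUnion] at hmem ⊢
    obtain ⟨p, hp, hsp⟩ := hmem
    exact ⟨p, by simpa using hp, hsp⟩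
  rw [biUnion_associatedPrimes_eq_zero_divisors] at hs₀'
  have hreg : IsSMulRegular (A ⧸ Ideal.span {t}) s₀ := by
    rw [isSMulRegular_iff_right_eq_zero_of_smul]
    intro m hm
    by_contra hm0
    exact hs₀' ⟨m, hm0, hm⟩
  have hreg' : IsSMulRegular ((A ⧸ Ideal.span {t}) ⊗[A] B) s₀ := hreg.rTensor B
  have hx0 : (Algebra.TensorProduct.quotIdealMapEquivQuotTensor B (Ideal.span {t}))
      (Ideal.Quotient.mk _ x) = 0 := by
    apply hreg'
    change s₀ • _ = s₀ • 0
    rw [smul_zero, Algebra.TensorProduct.quotIdealMapEquivQuotTensor_mk, TensorProduct.smul_tmul',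
      TensorProduct.smul_tmul, Algebra.smul_def]
    have h1 : algebraMap A B s₀ * x ∈ (Ideal.span {t}).map (algebraMap A B) := by
      rw [Ideal.map_span, Set.image_singleton]
      exact hs₀J
    have h2 : (Algebra.TensorProduct.quotIdealMapEquivQuotTensor B (Ideal.span {t}))
        (Ideal.Quotient.mk _ (algebraMap A B s₀ * x)) = 0 := by
      rw [Ideal.Quotient.eq_zero_iff_mem.mpr h1, map_zero]
    rw [Algebra.TensorProduct.quotIdealMapEquivQuotTensor_mk] at h2
    exact h2
  rw [EmbeddingLike.map_eq_zero_iff, Ideal.Quotient.eq_zero_iff_mem, Ideal.map_span,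
    Set.image_singleton] at hx0
  exact hx0

/-- The normal case: admissible algebras over complete normal local domains are reduced. -/
theorem normal_step (n : ℕ) (ih : ∀ m < n, RR.{u} m)
    (A : Type u) [CommRing A] [IsDomain A] [IsLocalRing A] [IsNoetherianRing A]
    [IsAdicComplete (maximalIdeal A) A] [IsIntegrallyClosed A] (hdim : ringKrullDim A ≤ n)
    (B : Type u) [CommRing B] [Algebra A B] (hB : Adm A B) : IsReduced B := by
  haveI := hB.noeth
  haveI := hB.flat
  by_cases hm : maximalIdeal A = ⊥
  · have hinj : Function.Injective (algebraMap A (ResidueField A)) := by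
      rw [injective_iff_map_eq_zero]
      intro a ha
      have h1 : a ∈ maximalIdeal A := (IsLocalRing.residue_eq_zero_iff a).mp ha
      rw [hm] at h1
      exact h1
    haveI : Module.Finite A (ResidueField A) :=
      Module.Finite.of_surjective (Algebra.linearMap A (ResidueField A))
        IsLocalRing.residue_surjective
    haveI := hB.fib (ResidueField A)
    exact isReduced_of_injective
      (Algebra.TensorProduct.includeRight : B →ₐ[A] ResidueField A ⊗[A] B)
      (Algebra.TensorProduct.includeRight_injective hinj)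
  · obtain ⟨t, htm, ht0⟩ := Submodule.exists_mem_ne_zero_of_ne_bot hm
    have hstep : ∀ x : B, IsNilpotent x → x ∈ Ideal.span {algebraMap A B t} := by
      intro x hx
      apply mem_span_of_forall_associatedPrimes A B t x
      intro p hp
      haveI hpp : p.IsPrime := hp.isPrime
      have hcol := Groth.Agent.Lib.NorLocus2H3.isColon_of_mem_associatedPrimes hp
      have htp : t ∈ p := by
        obtain ⟨z, hz⟩ := hcol
        rw [hz]
        exact Ideal.mul_mem_right _ _ (Ideal.mem_span_singleton_self t)
      have hp0 : p ≠ ⊥ := fun h => ht0 (by rw [h] at htp; exact htp)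
      exact exists_smul_mem_span A B t ht0 p hp
        (fun y hy => nilpotent_mem_map n ih A hdim B hB p hp0 y hy) x hx
    have hpow : ∀ (k : ℕ) (x : B), IsNilpotent x → x ∈ Ideal.span {algebraMap A B t} ^ k := by
      intro k
      induction k with
      | zero => intro x _; simp
      | succ k ihk =>
        intro x hx
        obtain ⟨y, hy⟩ := Ideal.mem_span_singleton'.mp (hstep x hx)
        have hynil : IsNilpotent y := by
          obtain ⟨N, hN⟩ := hx
          refine ⟨N, ?_⟩
          have h1 : algebraMap A B (t ^ N) * y ^ N = 0 := by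
            rw [map_pow, ← mul_pow, mul_comm, hy, hN]
          exact smul_eq_zero_of_flat (pow_ne_zero _ ht0) h1
        rw [pow_succ, ← hy]
        exact Ideal.mul_mem_mul (ihk y hynil) (Ideal.mem_span_singleton_self _)
    have hle : Ideal.span {algebraMap A B t} ≤ Ideal.jacobson (⊥ : Ideal B) := by
      rw [Ideal.span_le, Set.singleton_subset_iff]
      exact hB.rad (Ideal.mem_map_of_mem _ htm)
    have hkrull := Ideal.iInf_pow_smul_eq_bot_of_le_jacobson (M := B)
      (Ideal.span {algebraMap A B t}) hle
    refine ⟨fun x hx => ?_⟩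
    have hxmem : x ∈ (⨅ i : ℕ, Ideal.span {algebraMap A B t} ^ i • ⊤ : Submodule B B) := by
      rw [Submodule.mem_iInf]
      intro i
      rw [smul_eq_mul, Ideal.mul_top]
      exact hpow i x hx
    rw [hkrull] at hxmem
    exact hxmem

end Groth.Agent.Lib.LocRedH3
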