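import Mathlib
import Groth.Prelude.Def_Found
import Groth.Prelude.Def_EGA4b
import Groth.Agent.Lib.LocRed3_helper3
import Groth.Agent.Lib.CompleteFinite_helper3
import Groth.Agent.Lib.CompleteNagata_helper3
import Groth.Agent.Lib.Japanese_helper9
import Groth.Agent.Lib.QENagata_helper3
import Groth.Agent.Lib.AnUnramNagata2_helper3

/-!
# Localisation of reducedness of fibres (EGA IV 7.5): the induction and the complete case
(helper3)
APPEND-ONLY once landed.
-/

set_option autoImplicit false
universe u

namespace Groth.Agent.Lib.LocRedH3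

open TensorProduct IsLocalRing

/-- A local ring finite over a complete Noetherian local ring is complete. -/
theorem isAdicComplete_of_finite_local (R : Type u) [CommRing R] [IsLocalRing R]
    [IsNoetherianRing R] [IsAdicComplete (maximalIdeal R) R]
    (S : Type u) [CommRing S] [IsLocalRing S] [Algebra R S] [Module.Finite R S] :
    IsAdicComplete (maximalIdeal S) S := by
  haveI hN : IsNoetherianRing S := IsNoetherianRing.of_finite R S
  haveI hc : IsAdicComplete (maximalIdeal R) S := Groth.Agent.S3866.result R (maximalIdeal R) S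
  haveI hc' : IsAdicComplete ((maximalIdeal R).map (algebraMap R S)) S :=
    (IsAdicComplete.map_algebraMap_iff (I := maximalIdeal R) (S := S) (M := S)).mpr hc
  haveI : Algebra.IsIntegral R S := Algebra.IsIntegral.of_finite R S
  have hrad : maximalIdeal S ≤ ((maximalIdeal R).map (algebraMap R S)).radical := by
    rw [Ideal.radical_eq_sInf]
    refine le_sInf ?_
    rintro P ⟨hIP, hP⟩
    haveI := hP
    have h1 : maximalIdeal R ≤ P.comap (algebraMap R S) := Ideal.map_le_iff_le_comap.mp hIP
    have h2 : P.comap (algebraMap R S) = maximalIdeal R :=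
      ((maximalIdeal.isMaximal R).eq_of_le (Ideal.comap_ne_top _ hP.ne_top) h1).symm
    have h3 : P.IsMaximal := Ideal.isMaximal_of_isIntegral_of_isMaximal_comap (R := R) P (by
      rw [h2]; exact maximalIdeal.isMaximal R)
    exact (IsLocalRing.eq_maximalIdeal h3).ge
  have hle : (maximalIdeal R).map (algebraMap R S) ≤ maximalIdeal S := by
    rw [Ideal.map_le_iff_le_comap]
    have h1 : ((maximalIdeal S).comap (algebraMap R S)).IsMaximal :=
      Ideal.isMaximal_comap_of_isIntegral_of_isMaximal (maximalIdeal S)
    exact (IsLocalRing.eq_maximalIdeal h1).ge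
  obtain ⟨n, hn⟩ := Ideal.exists_radical_pow_le_of_fg
    ((maximalIdeal R).map (algebraMap R S)) (IsNoetherian.noetherian _)
  exact Groth.Agent.Lib.CompleteFiniteH3.isAdicComplete_of_pow_le _ _ n hle
    ((Ideal.pow_right_mono hrad n).trans hn)

/-- A domain finite over a complete local ring is local. -/
theorem isLocalRing_of_finite_domain (A : Type u) [CommRing A] [IsLocalRing A]
    [IsAdicComplete (maximalIdeal A) A] (A' : Type u) [CommRing A'] [IsDomain A'] [Algebra A A']
    [Module.Finite A A'] : IsLocalRing A' := by
  haveI := Groth.Agent.Lib.CompleteFiniteH3.henselianLocalRing_of_isAdicComplete A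
  obtain ⟨m, hm⟩ := Ideal.exists_maximal A'
  have hsurj := Groth.Agent.Lib.CompleteFiniteH3.surjective_toLocalization A A' ⟨m, hm⟩
  haveI : m.IsPrime := hm.isPrime
  have hinj : Function.Injective (algebraMap A' (Localization.AtPrime m)) :=
    IsLocalization.injective _ (M := m.primeCompl) (Ideal.primeCompl_le_nonZeroDivisors m)
  let e : A' ≃+* Localization.AtPrime m :=
    RingEquiv.ofBijective (algebraMap A' (Localization.AtPrime m)) ⟨hinj, hsurj⟩
  exact e.symm.isLocalRing

/-- Passing from an order to its fraction field preserves reducedness of the base change. -/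
theorem isReduced_tensor_fraction (A A' K' B : Type u) [CommRing A] [CommRing A'] [Field K']
    [CommRing B] [Algebra A A'] [Algebra A K'] [Algebra A' K'] [IsScalarTower A A' K']
    [IsDomain A'] [IsFractionRing A' K'] [Algebra A B] [IsReduced (A' ⊗[A] B)] :
    IsReduced (K' ⊗[A] B) := by
  have h1 : IsReduced (K' ⊗[A'] (A' ⊗[A] B)) := by
    letI : Algebra (A' ⊗[A] B) (K' ⊗[A'] (A' ⊗[A] B)) := Algebra.TensorProduct.rightAlgebra
    haveI : IsLocalization (Algebra.algebraMapSubmonoid (A' ⊗[A] B) (nonZeroDivisors A'))
        (K' ⊗[A'] (A' ⊗[A] B)) := IsLocalization.tensorRight (A := K') (nonZeroDivisors A')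
    exact isReduced_localizationPreserves
      (Algebra.algebraMapSubmonoid (A' ⊗[A] B) (nonZeroDivisors A')) (K' ⊗[A'] (A' ⊗[A] B))
      inferInstance
  exact isReduced_of_injective (Algebra.TensorProduct.cancelBaseChange A A' K' K' B).symm.toAlgHom
    (Algebra.TensorProduct.cancelBaseChange A A' K' K' B).symm.injective

/-- The induction step. -/
theorem step (n : ℕ) (ih : ∀ m < n, RR.{u} m) : RR.{u} n := by
  intro A _ _ _ _ _ hdim B _ _ hB K _ _ _ K' _ _ _ _ _
  haveI hfin : Module.Finite A (integralClosure A K') :=
    (Groth.Agent.Lib.Japanese.isN2_iff_isN2' A).mp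
      (Groth.Agent.Lib.CompleteNagataH3.isN2_of_complete_local_domain A) K K' inferInstance
  haveI : IsIntegrallyClosed (integralClosure A K') :=
    integralClosure.isIntegrallyClosedOfFiniteExtension K
  haveI : IsFractionRing (integralClosure A K') K' :=
    integralClosure.isFractionRing_of_finite_extension K K'
  haveI : IsNoetherianRing (integralClosure A K') := IsNoetherianRing.of_finite A _
  haveI : IsLocalRing (integralClosure A K') := isLocalRing_of_finite_domain A _
  haveI : IsAdicComplete (maximalIdeal (integralClosure A K')) (integralClosure A K') :=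
    isAdicComplete_of_finite_local A _
  haveI : Algebra.IsIntegral A (integralClosure A K') := Algebra.IsIntegral.of_finite A _
  have hdim' : ringKrullDim (integralClosure A K') ≤ n :=
    (ringKrullDim_le_of_isIntegral A (integralClosure A K')).trans hdim
  have hB' := hB.baseChange (integralClosure A K')
  haveI hred : IsReduced (integralClosure A K' ⊗[A] B) :=
    normal_step n ih (integralClosure A K') hdim' _ hB'
  exact isReduced_tensor_fraction A (integralClosure A K') K' B

theorem all (n : ℕ) : RR.{u} n := by
  induction n using Nat.strong_induction_on with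
  | _ n ih => exact step n ih

/-- The complete case: all fibres of an admissible algebra over a complete Noetherian local ring
are geometrically reduced. -/
theorem main_complete (A : Type u) [CommRing A] [IsLocalRing A] [IsNoetherianRing A]
    [IsAdicComplete (maximalIdeal A) A] (B : Type u) [CommRing B] [Algebra A B] (hB : Adm A B)
    (P : Ideal A) [P.IsPrime] : Algebra.IsGeometricallyReduced P.ResidueField (P.Fiber B) := by
  apply Groth.Agent.Lib.QENagataH3.isGeometricallyReduced_of_forall_finite
  intro k' _ _ hfin
  haveI : IsLocalRing (A ⧸ P) :=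
    IsLocalRing.of_surjective' (Ideal.Quotient.mk P) Ideal.Quotient.mk_surjective
  haveI : IsAdicComplete (maximalIdeal (A ⧸ P)) (A ⧸ P) :=
    Groth.Agent.Lib.MonomialCharPH3.isAdicComplete_quotient A P
  obtain ⟨n, hn⟩ := Groth.Agent.Lib.AnUnramNagata2H3.exists_nat_dim_le (A ⧸ P)
  letI : Algebra (A ⧸ P) k' :=
    ((algebraMap P.ResidueField k').comp (algebraMap (A ⧸ P) P.ResidueField)).toAlgebra
  haveI : IsScalarTower (A ⧸ P) P.ResidueField k' := IsScalarTower.of_algebraMap_eq fun _ => rfl
  letI : Algebra A k' :=
    ((algebraMap P.ResidueField k').comp (algebraMap A P.ResidueField)).toAlgebra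
  haveI : IsScalarTower A P.ResidueField k' := IsScalarTower.of_algebraMap_eq fun _ => rfl
  haveI : IsScalarTower A (A ⧸ P) k' := IsScalarTower.of_algebraMap_eq fun a => by
    change algebraMap P.ResidueField k' (algebraMap A P.ResidueField a) =
      algebraMap P.ResidueField k' (algebraMap (A ⧸ P) P.ResidueField (algebraMap A (A ⧸ P) a))
    rw [← IsScalarTower.algebraMap_apply A (A ⧸ P) P.ResidueField]
  have h1 : IsReduced (k' ⊗[A ⧸ P] ((A ⧸ P) ⊗[A] B)) :=
    all n (A ⧸ P) hn ((A ⧸ P) ⊗[A] B) (hB.baseChange (A ⧸ P)) P.ResidueField k'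
  have h2 : IsReduced (k' ⊗[A] B) :=
    isReduced_of_injective (Algebra.TensorProduct.cancelBaseChange A (A ⧸ P) k' k' B).symm.toAlgHom
      (Algebra.TensorProduct.cancelBaseChange A (A ⧸ P) k' k' B).symm.injective
  exact isReduced_of_injective
    (Algebra.TensorProduct.cancelBaseChange A P.ResidueField k' k' B).toAlgHom
    (Algebra.TensorProduct.cancelBaseChange A P.ResidueField k' k' B).injective

end Groth.Agent.Lib.LocRedH3
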