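import Mathlib
import Groth.Prelude.Def_Found
import Groth.Prelude.Def_EGA4b
import Groth.Agent.Lib.LocRed4_helper3
import Groth.Agent.Lib.FFTransfer_helper3
import Groth.Agent.Lib.AnUnram_helper3
import Groth.Agent.Lib.GeomRedComp_helper4
import Groth.Agent.Lib.GeomRedFib_helper4

/-!
# Localisation of reducedness of fibres (EGA IV 7.5): reduction to the complete case
(helper3)
APPEND-ONLY once landed.
-/

set_option autoImplicit false
universe u

namespace Groth.Agent.Lib.LocRedH3

open TensorProduct IsLocalRing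

/-- If `S = R + I S` and `I` kills `N`, the tensor products `N ⊗[R] M` and `N ⊗[S] M` agree. -/
theorem compatibleSMul_of_approx {R S : Type*} [CommRing R] [CommRing S] [Algebra R S]
    (I : Ideal R)
    (hS : ∀ s : S, ∃ r : R, s - algebraMap R S r ∈ I.map (algebraMap R S))
    (N M : Type*) [AddCommGroup N] [Module R N] [Module S N] [IsScalarTower R S N]
    [AddCommGroup M] [Module R M] [Module S M] [IsScalarTower R S M]
    (hN : ∀ i ∈ I, ∀ n : N, i • n = 0) : TensorProduct.CompatibleSMul R S N M := by
  have key : ∀ t ∈ I.map (algebraMap R S), ∀ (n : N) (m : M),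
      (t • n) ⊗ₜ[R] m = 0 ∧ n ⊗ₜ[R] (t • m) = 0 := by
    intro t ht
    refine Submodule.span_induction (p := fun t _ => ∀ (n : N) (m : M),
      (t • n) ⊗ₜ[R] m = 0 ∧ n ⊗ₜ[R] (t • m) = 0) ?_ ?_ ?_ ?_ ht
    · rintro _ ⟨i, hi, rfl⟩ n m
      rw [algebraMap_smul, algebraMap_smul, hN i hi n, TensorProduct.zero_tmul,
        ← TensorProduct.smul_tmul, hN i hi n, TensorProduct.zero_tmul]
      exact ⟨rfl, rfl⟩
    · intro n m
      rw [zero_smul, zero_smul, TensorProduct.zero_tmul, TensorProduct.tmul_zero]
      exact ⟨rfl, rfl⟩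
    · intro x y _ _ hx hy n m
      rw [add_smul, add_smul, TensorProduct.add_tmul, TensorProduct.tmul_add, (hx n m).1,
        (hx n m).2, (hy n m).1, (hy n m).2, add_zero]
      exact ⟨rfl, rfl⟩
    · intro s x _ hx n m
      rw [smul_eq_mul, mul_comm, mul_smul, mul_smul]
      exact ⟨(hx (s • n) m).1, (hx n (s • m)).2⟩
  refine ⟨fun s n m => ?_⟩
  obtain ⟨r, hr⟩ := hS s
  have h1 : s • n = r • n + (s - algebraMap R S r) • n := by
    rw [sub_smul, algebraMap_smul]; abel
  have h2 : s • m = r • m + (s - algebraMap R S r) • m := by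
    rw [sub_smul, algebraMap_smul]; abel
  rw [h1, h2, TensorProduct.add_tmul, TensorProduct.tmul_add, (key _ hr n m).1, (key _ hr n m).2,
    TensorProduct.smul_tmul]

/-- If every element of `S` is congruent to an element of `R` modulo an ideal killing `N`, then
finiteness of `N` descends from `S` to `R`. -/
theorem finite_of_approx {R S : Type*} [CommRing R] [CommRing S] [Algebra R S] (J : Ideal S)
    (hS : ∀ s : S, ∃ r : R, s - algebraMap R S r ∈ J)
    (N : Type*) [AddCommGroup N] [Module R N] [Module S N] [IsScalarTower R S N]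
    (hN : ∀ j ∈ J, ∀ n : N, j • n = 0) [Module.Finite S N] : Module.Finite R N := by
  obtain ⟨s, hs⟩ := Module.Finite.fg_top (R := S) (M := N)
  refine ⟨⟨s, ?_⟩⟩
  rw [eq_top_iff]
  intro x _
  have hx : x ∈ Submodule.span S (s : Set N) := by rw [hs]; trivial
  refine Submodule.span_induction (p := fun x _ => x ∈ Submodule.span R (s : Set N))
    ?_ ?_ ?_ ?_ hx
  · intro y hy
    exact Submodule.subset_span hy
  · exact Submodule.zero_mem _
  · intro y z _ _ hy hz
    exact Submodule.add_mem _ hy hz
  · intro a y _ hy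
    obtain ⟨r, hr⟩ := hS a
    have h1 : a • y = r • y := by
      have h2 : a • y = r • y + (a - algebraMap R S r) • y := by
        rw [sub_smul, algebraMap_smul]; abel
      rw [h2, hN _ hr y, add_zero]
    rw [h1]
    exact Submodule.smul_mem _ r hy

/-- Residue fields of a Noetherian local ring and of its completion agree
(copied from `CIGen_helper8.completion_residue`). -/
theorem completion_residue (A : Type u) [CommRing A] [IsLocalRing A] [IsNoetherianRing A]
    [IsLocalRing (AdicCompletion (maximalIdeal A) A)]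
    (hmax : (maximalIdeal A).map (algebraMap A (AdicCompletion (maximalIdeal A) A)) =
      maximalIdeal (AdicCompletion (maximalIdeal A) A)) :
    ∀ c' : AdicCompletion (maximalIdeal A) A, ∃ c : A,
      c' - algebraMap A (AdicCompletion (maximalIdeal A) A) c ∈
        maximalIdeal (AdicCompletion (maximalIdeal A) A) := by
  intro c'
  obtain ⟨c, hc⟩ := Ideal.Quotient.mk_surjective (AdicCompletion.evalOneₐ (maximalIdeal A) c')
  refine ⟨c, ?_⟩
  rw [← hmax, ← AdicCompletion.ker_evalOneₐ_eq_map (maximalIdeal A) (IsNoetherian.noetherian _),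
    RingHom.mem_ker]
  change (AdicCompletion.evalOneₐ (maximalIdeal A)) (c' - _) = 0
  rw [map_sub, AlgHom.commutes, ← hc, sub_eq_zero]
  rfl

section Compl

variable (A B : Type u) [CommRing A] [CommRing B] [IsNoetherianRing A] [IsNoetherianRing B]
  [IsLocalRing A] [IsLocalRing B] [Algebra A B] [IsLocalHom (algebraMap A B)] [Module.Flat A B]

/-- The completed algebra is admissible over the completed base when the closed fibre of `B̂`
is geometrically reduced. -/
theorem adm_cpl
    [IsLocalRing (EGA4.Cpl A)] [IsLocalRing (EGA4.Cpl B)]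
    (h : Algebra.IsGeometricallyReduced (maximalIdeal A).ResidueField
      ((maximalIdeal A).Fiber (EGA4.Cpl B))) :
    letI := Groth.Agent.Lib.FFTransferH3.algCpl A B
    Adm (EGA4.Cpl A) (EGA4.Cpl B) := by
  letI := Groth.Agent.Lib.FFTransferH3.algCpl A B
  haveI := Groth.Agent.Lib.FFTransferH3.tower A B
  haveI := Groth.Agent.Lib.FFTransferH3.tower' A B
  haveI := Groth.Agent.Lib.FFTransferH3.noeth_cpl A
  haveI := Groth.Agent.Lib.FFTransferH3.noeth_cpl B
  haveI := Groth.Agent.Lib.FFTransferH3.flat_cpl A B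
  haveI hloc := Groth.Agent.Lib.FFTransferH3.isLocalHom_cpl A B
  refine ⟨inferInstance, inferInstance, ?_, ?_⟩
  · rw [IsLocalRing.jacobson_eq_maximalIdeal ⊥ bot_ne_top]
    exact ((IsLocalRing.local_hom_TFAE (algebraMap (EGA4.Cpl A) (EGA4.Cpl B))).out 0 2).mp hloc
  · intro k' _ _ _
    have hmax : (maximalIdeal A).map (algebraMap A (EGA4.Cpl A)) = maximalIdeal (EGA4.Cpl A) :=
      (AdicCompletion.maximalIdeal_eq_map (R := A)).symm
    -- kernel of `Â → k'` is the maximal ideal
    haveI : Algebra.IsIntegral (EGA4.Cpl A) k' := Algebra.IsIntegral.of_finite _ _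
    have hker : RingHom.ker (algebraMap (EGA4.Cpl A) k') = maximalIdeal (EGA4.Cpl A) := by
      have h1 : (RingHom.ker (algebraMap (EGA4.Cpl A) k')).IsMaximal := by
        have : RingHom.ker (algebraMap (EGA4.Cpl A) k') = (⊥ : Ideal k').comap
          (algebraMap (EGA4.Cpl A) k') := rfl
        rw [this]
        haveI : (⊥ : Ideal k').IsMaximal := Ideal.bot_isMaximal
        exact Ideal.isMaximal_comap_of_isIntegral_of_isMaximal ⊥
      exact IsLocalRing.eq_maximalIdeal h1
    letI : Algebra A k' := ((algebraMap (EGA4.Cpl A) k').comp (algebraMap A (EGA4.Cpl A))).toAlgebra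
    haveI : IsScalarTower A (EGA4.Cpl A) k' := IsScalarTower.of_algebraMap_eq fun _ => rfl
    have hf₁ : maximalIdeal A ≤ RingHom.ker (algebraMap A k') := by
      intro a ha
      rw [RingHom.mem_ker, IsScalarTower.algebraMap_apply A (EGA4.Cpl A) k', ← RingHom.mem_ker,
        hker, ← hmax]
      exact Ideal.mem_map_of_mem _ ha
    have hf₂ : (maximalIdeal A).primeCompl ≤ (IsUnit.submonoid k').comap (algebraMap A k') := by
      intro a ha
      have hu : IsUnit a := by
        by_contra hu
        exact ha ((mem_maximalIdeal a).mpr hu)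
      exact hu.map (algebraMap A k')
    letI : Algebra (maximalIdeal A).ResidueField k' :=
      (Ideal.ResidueField.lift (maximalIdeal A) (algebraMap A k') hf₁ hf₂).toAlgebra
    haveI : IsScalarTower A (maximalIdeal A).ResidueField k' :=
      IsScalarTower.of_algebraMap_eq fun a =>
        (Ideal.ResidueField.lift_algebraMap (maximalIdeal A) (algebraMap A k') hf₁ hf₂ a).symm
    have hres := completion_residue A hmax
    have hkill : ∀ j ∈ maximalIdeal (EGA4.Cpl A), ∀ x : k', j • x = 0 := by
      intro j hj x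
      rw [← hker, RingHom.mem_ker] at hj
      rw [Algebra.smul_def, hj, zero_mul]
    haveI : Module.Finite A k' :=
      finite_of_approx (R := A) (S := EGA4.Cpl A) (maximalIdeal (EGA4.Cpl A)) hres k' hkill
    haveI : Module.Finite (maximalIdeal A).ResidueField k' :=
      Module.Finite.of_restrictScalars_finite A _ _
    haveI : Algebra.IsAlgebraic (maximalIdeal A).ResidueField k' := Algebra.IsAlgebraic.of_finite _ _
    haveI hcompat : TensorProduct.CompatibleSMul A (EGA4.Cpl A) k' (EGA4.Cpl B) := by
      refine compatibleSMul_of_approx (R := A) (S := EGA4.Cpl A) (maximalIdeal A) ?_ k'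
        (EGA4.Cpl B) ?_
      · intro s
        obtain ⟨r, hr⟩ := hres s
        exact ⟨r, by rw [hmax]; exact hr⟩
      · intro i hi x
        rw [← algebraMap_smul (EGA4.Cpl A) i x]
        exact hkill _ (by rw [← hmax]; exact Ideal.mem_map_of_mem _ hi) x
    have h1 : IsReduced (k' ⊗[(maximalIdeal A).ResidueField]
        ((maximalIdeal A).ResidueField ⊗[A] EGA4.Cpl B)) := inferInstance
    have h2 : IsReduced (k' ⊗[A] EGA4.Cpl B) :=
      isReduced_of_injective
        (Algebra.TensorProduct.cancelBaseChange A (maximalIdeal A).ResidueField k' k'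
          (EGA4.Cpl B)).symm.toAlgHom
        (Algebra.TensorProduct.cancelBaseChange A (maximalIdeal A).ResidueField k' k'
          (EGA4.Cpl B)).symm.injective
    exact isReduced_of_injective
      (Algebra.TensorProduct.equivOfCompatibleSMul A (EGA4.Cpl A) k' k' (EGA4.Cpl B)).toAlgHom
      (Algebra.TensorProduct.equivOfCompatibleSMul A (EGA4.Cpl A) k' k' (EGA4.Cpl B)).injective

/-- EGA IV 7.5 for `reduced`: geometric reducedness of all fibres from the closed fibre of the
completion. -/
theorem main (hA : EGA4.HasGeomReducedFormalFibres A)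
    (h : Algebra.IsGeometricallyReduced (maximalIdeal A).ResidueField
      ((maximalIdeal A).Fiber (EGA4.Cpl B))) :
    ∀ (p : Ideal A) [p.IsPrime], Algebra.IsGeometricallyReduced p.ResidueField (p.Fiber B) := by
  obtain ⟨hlocA, hnA, hcA, hffA, -, -⟩ := Groth.Agent.Lib.AnUnramH3.completion_facts A
  obtain ⟨hlocB, hnB, hcB, hffB, -, -⟩ := Groth.Agent.Lib.AnUnramH3.completion_facts B
  haveI := hlocA
  haveI := hlocB
  haveI := hnA
  haveI := hnB
  haveI := hcA
  haveI := hffA
  haveI := hffB
  letI := Groth.Agent.Lib.FFTransferH3.algCpl A B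
  haveI := Groth.Agent.Lib.FFTransferH3.tower A B
  haveI := Groth.Agent.Lib.FFTransferH3.tower' A B
  haveI := Groth.Agent.Lib.FFTransferH3.flat_cpl A B
  haveI := Groth.Agent.Lib.FFTransferH3.flat_base A B
  have hadm : Adm (EGA4.Cpl A) (EGA4.Cpl B) := adm_cpl A B h
  have h1 : ∀ (q : Ideal (EGA4.Cpl A)) [q.IsPrime],
      Algebra.IsGeometricallyReduced q.ResidueField (q.Fiber (EGA4.Cpl B)) :=
    fun q _ => main_complete (EGA4.Cpl A) (EGA4.Cpl B) hadm q
  have h2 := (Groth.Agent.Lib.GeomRedCompH4.main A (EGA4.Cpl A) (EGA4.Cpl B) hA h1).2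
  exact (Groth.Agent.Lib.GeomRedFibH4.S4753_main A B (EGA4.Cpl B) h2).2

end Compl

end Groth.Agent.Lib.LocRedH3
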