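import Mathlib
import Groth.Prelude.Def_EGA4b
import Groth.Agent.Lib.HensConn2_helper3
import Groth.Agent.Lib.PerfectRed_lead
import Groth.Agent.Lib.AnUnram_helper3
import Groth.Agent.Lib.LocRed5_helper3
import Groth.Agent.Lib.SpecConn_helper3

/-!
# Geometric connectedness of the fibres of flat algebras over henselian local rings
(EGA IV 18.9.x), part 3 (helper3): the main theorems.
APPEND-ONLY once landed.
-/

set_option autoImplicit false
universe u

namespace Groth.Agent.Lib.HensConnH3

open TensorProduct IsLocalRing Groth.Agent.Lib.GeomConn AlgebraicGeometry CategoryTheory Limits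

/-- The core: all fibres of a good algebra over a Noetherian henselian local ring are
geometrically connected. -/
theorem connected_of_good (A : Type u) [CommRing A] [IsNoetherianRing A] [HenselianLocalRing A]
    (B : Type u) [CommRing B] [Algebra A B] [Module.FaithfullyFlat A B] (h : Good A B)
    (K : Type u) [Field K] [Algebra A K] : ConnectedSpace (PrimeSpectrum (K ⊗[A] B)) := by
  haveI := h.flat
  rw [Groth.Agent.Lib.SpecConn_helper3.connectedSpace_iff_idem]
  refine ⟨inferInstance, ?_⟩
  haveI : (RingHom.ker (algebraMap A K)).IsPrime := RingHom.ker_isPrime _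
  haveI : IsDomain (A ⧸ RingHom.ker (algebraMap A K)) := Ideal.Quotient.isDomain _
  haveI : Algebra.IsIntegral A (A ⧸ RingHom.ker (algebraMap A K)) :=
    Algebra.IsIntegral.of_finite A _
  haveI : HenselianLocalRing (A ⧸ RingHom.ker (algebraMap A K)) :=
    Groth.Agent.Lib.HensIntDom.henselian_of_integral_domain A _
  letI : Algebra (A ⧸ RingHom.ker (algebraMap A K)) K :=
    (RingHom.kerLift (algebraMap A K)).toAlgebra
  haveI : IsScalarTower A (A ⧸ RingHom.ker (algebraMap A K)) K :=
    IsScalarTower.of_algebraMap_eq (fun a => rfl)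
  haveI : FaithfulSMul (A ⧸ RingHom.ker (algebraMap A K)) K :=
    (faithfulSMul_iff_algebraMap_injective _ _).mpr (RingHom.kerLift_injective _)
  have h1 : TrivIdem (((A ⧸ RingHom.ker (algebraMap A K)) ⊗[A] B) ⊗[A ⧸ RingHom.ker (algebraMap A K)] K) :=
    trivIdem_field (A ⧸ RingHom.ker (algebraMap A K)) K _ (h.baseChange _)
  have h2 : TrivIdem (B ⊗[A] K) :=
    trivIdem_of_injective (bcEquiv A (A ⧸ RingHom.ker (algebraMap A K)) B K).symm.toRingHom
      (bcEquiv A (A ⧸ RingHom.ker (algebraMap A K)) B K).symm.injective h1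
  exact trivIdem_of_injective (Algebra.TensorProduct.comm A K B).toRingEquiv.toRingHom
    (Algebra.TensorProduct.comm A K B).injective h2

/-- Reduced fibres from the scheme-theoretic formulation. -/
theorem isReduced_tensor_of_geometricallyReduced (A B : Type u) [CommRing A] [CommRing B]
    [Algebra A B] [GeometricallyReduced (Spec.map (CommRingCat.ofHom (algebraMap A B)))]
    (κ : Type u) [Field κ] [Algebra A κ] : _root_.IsReduced (B ⊗[A] κ) := by
  have h : AlgebraicGeometry.IsReduced
      (pullback (Spec.map (CommRingCat.ofHom (algebraMap A B)))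
        (Spec.map (CommRingCat.ofHom (algebraMap A κ)))) :=
    pullback_of_geometrically (GeometricallyReduced.geometrically_isReduced
      (f := Spec.map (CommRingCat.ofHom (algebraMap A B)))) κ _
  have h2 : AlgebraicGeometry.IsReduced (Spec (.of (B ⊗[A] κ))) :=
    isReduced_of_isOpenImmersion (pullbackSpecIso A B κ).inv
  exact (affine_isReduced_iff _).mp h2

/-- Reduced fibres from the ring-theoretic formulation. -/
theorem isReduced_tensor_of_fibres (A B : Type u) [CommRing A] [CommRing B] [Algebra A B]
    (hB : ∀ (p : Ideal A) [p.IsPrime], Algebra.IsGeometricallyReduced p.ResidueField (p.Fiber B))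
    (κ : Type u) [Field κ] [Algebra A κ] : _root_.IsReduced (B ⊗[A] κ) := by
  obtain ⟨p, hp⟩ : ∃ p : Ideal A, p = RingHom.ker (algebraMap A κ) := ⟨_, rfl⟩
  haveI : p.IsPrime := hp ▸ RingHom.ker_isPrime _
  have hf₁ : p ≤ RingHom.ker (algebraMap A κ) := hp.le
  have hf₂ : p.primeCompl ≤ (IsUnit.submonoid κ).comap (algebraMap A κ) := by
    intro r hr
    rw [Submonoid.mem_comap, IsUnit.mem_submonoid_iff]
    apply IsUnit.mk0
    intro h0
    apply hr
    rw [hp]
    exact h0
  letI : Algebra p.ResidueField κ :=
    (Ideal.ResidueField.lift p (algebraMap A κ) hf₁ hf₂).toAlgebra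
  haveI : IsScalarTower A p.ResidueField κ :=
    IsScalarTower.of_algebraMap_eq
      (fun r => (Ideal.ResidueField.lift_algebraMap p _ hf₁ hf₂ r).symm)
  haveI := hB p
  haveI h1 : _root_.IsReduced (κ ⊗[p.ResidueField] (p.ResidueField ⊗[A] B)) :=
    Groth.Agent.Lib.PerfectRed.isReduced_tensor_of_isGeometricallyReduced p.ResidueField
      (p.ResidueField ⊗[A] B) κ
  haveI h2 : _root_.IsReduced (κ ⊗[A] B) :=
    isReduced_of_injective (Algebra.TensorProduct.cancelBaseChange A p.ResidueField
      p.ResidueField κ B).symm (AlgEquiv.injective _)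
  exact isReduced_of_injective (Algebra.TensorProduct.comm A B κ) (AlgEquiv.injective _)

section Main

variable (A B : Type u) [CommRing A] [IsNoetherianRing A] [HenselianLocalRing A]
  [CommRing B] [IsLocalRing B] [Algebra A B] [IsLocalHom (algebraMap A B)] [Module.Flat A B]

/-- Trivial residue field extension. -/
theorem main_surjective
    (hred : ∀ (κ : Type u) [Field κ] [Algebra A κ], _root_.IsReduced (B ⊗[A] κ))
    (hres : ∀ b : B, ∃ a : A, b - algebraMap A B a ∈ maximalIdeal B)
    (K : Type u) [Field K] [Algebra A K] : ConnectedSpace (PrimeSpectrum (K ⊗[A] B)) := by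
  haveI : Module.FaithfullyFlat A B := Module.FaithfullyFlat.of_flat_of_isLocalHom
  refine connected_of_good A B ⟨inferInstance, hred, ?_⟩ K
  intro C _ _ _ _
  exact isLocalRing_tensor_of_surjective A B C hres

/-- Separably closed residue field. -/
theorem main_sepClosed [IsSepClosed (ResidueField A)]
    (hred : ∀ (κ : Type u) [Field κ] [Algebra A κ], _root_.IsReduced (B ⊗[A] κ))
    (K : Type u) [Field K] [Algebra A K] : ConnectedSpace (PrimeSpectrum (K ⊗[A] B)) := by
  haveI : Module.FaithfullyFlat A B := Module.FaithfullyFlat.of_flat_of_isLocalHom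
  refine connected_of_good A B ⟨inferInstance, hred, ?_⟩ K
  intro C _ _ _ _
  exact isLocalRing_tensor_of_isSepClosed A B C

theorem main2815
    [GeometricallyReduced (Spec.map (CommRingCat.ofHom (algebraMap A B)))]
    (hres : Function.Bijective (IsLocalRing.ResidueField.map (algebraMap A B)))
    (K : Type u) [Field K] [Algebra A K] : ConnectedSpace (PrimeSpectrum (K ⊗[A] B)) := by
  refine main_surjective A B (fun κ _ _ => isReduced_tensor_of_geometricallyReduced A B κ) ?_ K
  intro b
  obtain ⟨x, hx⟩ := hres.2 (residue B b)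
  obtain ⟨a, rfl⟩ := residue_surjective x
  refine ⟨a, ?_⟩
  rw [← residue_eq_zero_iff, map_sub, ← hx, ResidueField.map_residue, sub_self]

theorem main2814 [IsSepClosed (ResidueField A)]
    [GeometricallyReduced (Spec.map (CommRingCat.ofHom (algebraMap A B)))]
    (K : Type u) [Field K] [Algebra A K] : ConnectedSpace (PrimeSpectrum (K ⊗[A] B)) :=
  main_sepClosed A B (fun κ _ _ => isReduced_tensor_of_geometricallyReduced A B κ) K

end Main

theorem main2816 (A : Type u) [CommRing A] [IsNoetherianRing A] [HenselianLocalRing A]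
    (h : EGA4.HasGeomReducedFormalFibres A)
    (K : Type u) [Field K] [Algebra A K] :
    ConnectedSpace (PrimeSpectrum (K ⊗[A] EGA4.Cpl A)) := by
  obtain ⟨hloc, hn, -, hff, hlh, hmax⟩ := Groth.Agent.Lib.AnUnramH3.completion_facts A
  haveI := hloc
  haveI := hff
  haveI := hlh
  refine main_surjective A (EGA4.Cpl A) ?_ ?_ K
  · intro κ _ _
    exact isReduced_tensor_of_fibres A (EGA4.Cpl A) h κ
  · exact Groth.Agent.Lib.LocRedH3.completion_residue A hmax

end Groth.Agent.Lib.HensConnH3
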