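import Mathlib
import Groth.Prelude.Def_CAlg2
import Groth.Agent.Lib.ConnLocal1_helper3
import Groth.Agent.Lib.HensConn4_helper3

/-!
# Local-to-global connectedness of complements of closed subsets, part 2 (helper3): schemes.
EGA IV 18.9.x: `f : X ⟶ Y` flat with geometrically reduced fibres, `Y` geometrically unibranch,
`X` connected: the complement of a closed subset with nowhere dense image is connected.
APPEND-ONLY once landed.
-/

set_option autoImplicit false
universe u

namespace Groth.Agent.Lib.ConnLocalH3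

open AlgebraicGeometry CategoryTheory Limits TopologicalSpace Topology Set

section Nhd

variable (X : Scheme.{u}) [IsLocallyNoetherian X]

/-- Every point of a locally Noetherian scheme has an open Noetherian neighbourhood. -/
theorem exists_noetherian_nhd (x : X) :
    ∃ W : Set X, IsOpen W ∧ x ∈ W ∧ NoetherianSpace W ∧ QuasiSober W ∧ T0Space W := by
  obtain ⟨_, ⟨U, hU, rfl⟩, hxU, -⟩ := X.isBasis_affineOpens.exists_subset_of_mem_open
    (Set.mem_univ x) isOpen_univ
  haveI : IsNoetherianRing Γ(X, U) := IsLocallyNoetherian.component_noetherian ⟨U, hU⟩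
  have h1 : NoetherianSpace U := noetherianSpace_of_isAffineOpen U hU
  have h2 : QuasiSober U := U.isOpenEmbedding'.quasiSober
  exact ⟨(U : Set X), U.isOpen, hxU, h1, h2, inferInstance⟩

theorem exists_specializes_of_mem_closure_scheme {V : Set X} (hV : IsOpen V) {x : X}
    (hx : x ∈ closure V) : ∃ ξ ∈ V, ξ ⤳ x := by
  obtain ⟨W, hW, hxW, h1, h2, h3⟩ := exists_noetherian_nhd X x
  haveI := h1
  haveI := h2
  exact exists_specializes_of_mem_closure_of_nhd hW hV hxW hx

theorem interior_nonempty_of_isMaxPt_scheme {η : X} (hη : IsMaxPt η) {Z : Set X}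
    (hZ : IsClosed Z) (hηZ : η ∈ Z) : (interior Z).Nonempty := by
  obtain ⟨W, hW, hxW, h1, h2, h3⟩ := exists_noetherian_nhd X η
  haveI := h1
  haveI := h2
  haveI := h3
  exact interior_nonempty_of_isMaxPt_of_nhd hW hxW hη hZ hηZ

end Nhd

section Flat

variable {X Y : Scheme.{u}} (f : X ⟶ Y)

/-- A flat morphism maps maximal points to maximal points. -/
theorem isMaxPt_map_of_flat [Flat f] {ξ : X} (hξ : IsMaxPt ξ) : IsMaxPt (f ξ) := by
  intro η' hη'
  obtain ⟨ξ', hξ', rfl⟩ := (Flat.generalizingMap f) hη'
  rw [hξ ξ' hξ']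

/-- For a flat morphism to a locally Noetherian scheme, a subset with nowhere dense image has
dense complement. -/
theorem dense_compl_of_flat [IsLocallyNoetherian Y] [Flat f] (T : Set X)
    (hT' : interior (closure (f '' T)) = ∅) : Dense Tᶜ := by
  rw [← interior_eq_empty_iff_dense_compl]
  by_contra hne
  obtain ⟨v, hv⟩ := Set.nonempty_iff_ne_empty.mpr hne
  obtain ⟨ξ, hξmax, hξv⟩ := exists_isMaxPt_specializes v
  have hξT : ξ ∈ T := interior_subset (hξv.mem_open isOpen_interior hv)
  have h1 : f ξ ∈ closure (f '' T) := subset_closure ⟨ξ, hξT, rfl⟩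
  have h2 := interior_nonempty_of_isMaxPt_scheme Y (isMaxPt_map_of_flat f hξmax)
    isClosed_closure h1
  rw [hT'] at h2
  exact Set.not_nonempty_empty h2

end Flat

section GeomRed

variable {X Y : Scheme.{u}}

theorem flat_fromSpecStalk (X : Scheme.{u}) (x : X) : Flat (X.fromSpecStalk x) := by
  obtain ⟨_, ⟨U, hU, rfl⟩, hxU, -⟩ := X.isBasis_affineOpens.exists_subset_of_mem_open
    (Set.mem_univ x) isOpen_univ
  rw [← IsAffineOpen.fromSpecStalk_eq_fromSpecStalk hU hxU, IsAffineOpen.fromSpecStalk]
  haveI : Flat (Spec.map (X.presheaf.germ U x hxU)) := by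
    rw [Flat.SpecMap_iff]
    letI := TopCat.Presheaf.algebra_section_stalk X.presheaf (⟨x, hxU⟩ : U)
    haveI := hU.isLocalization_stalk ⟨x, hxU⟩
    have hfl : Module.Flat Γ(X, U) (X.presheaf.stalk x) :=
      IsLocalization.flat _ (hU.primeIdealOf ⟨x, hxU⟩).asIdeal.primeCompl
    exact RingHom.flat_algebraMap_iff.mpr hfl
  infer_instance

/-- A flat preimmersion into a reduced scheme has reduced source. -/
theorem isReduced_of_flat_preimmersion {Z W : Scheme.{u}} (l : Z ⟶ W) [Flat l] [IsPreimmersion l]
    [AlgebraicGeometry.IsReduced W] : AlgebraicGeometry.IsReduced Z := by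
  apply (config := { allowSynthFailures := true }) isReduced_of_isReduced_stalk
  intro z
  have hsurj : Function.Surjective (l.stalkMap z).hom := l.stalkMap_surjective z
  have hflat : (l.stalkMap z).hom.Flat := Flat.stalkMap l z
  letI := (l.stalkMap z).hom.toAlgebra
  haveI : Module.Flat (W.presheaf.stalk (l z)) (Z.presheaf.stalk z) := hflat
  haveI : IsLocalHom (algebraMap (W.presheaf.stalk (l z)) (Z.presheaf.stalk z)) :=
    inferInstanceAs (IsLocalHom (l.stalkMap z).hom)
  haveI : Module.FaithfullyFlat (W.presheaf.stalk (l z)) (Z.presheaf.stalk z) :=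
    Module.FaithfullyFlat.of_flat_of_isLocalHom
  have hinj : Function.Injective (l.stalkMap z).hom :=
    FaithfulSMul.algebraMap_injective (W.presheaf.stalk (l z)) (Z.presheaf.stalk z)
  let e : W.presheaf.stalk (l z) ≃+* Z.presheaf.stalk z :=
    RingEquiv.ofBijective (l.stalkMap z).hom ⟨hinj, hsurj⟩
  exact isReduced_of_injective e.symm e.symm.injective
    
/-- Geometric reducedness is stable under precomposition with flat preimmersions. -/
theorem geometricallyReduced_comp_of_flat_preimmersion {U X Y : Scheme.{u}} (j : U ⟶ X)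
    (f : X ⟶ Y) [Flat j] [IsPreimmersion j] [GeometricallyReduced f] :
    GeometricallyReduced (j ≫ f) := by
  rw [geometricallyReduced_iff]
  intro K _ y Z fst snd h
  have hP : AlgebraicGeometry.IsReduced (pullback f y) :=
    pullback_of_geometrically (GeometricallyReduced.geometrically_isReduced (f := f)) K y
  let l : Z ⟶ pullback f y := pullback.lift (fst ≫ j) snd (by simpa using h.w)
  have hl : IsPullback fst l j (pullback.fst f y) := by
    refine IsPullback.of_bot (h₃₁ := y) (v₂₁ := pullback.snd f y) (v₂₂ := f) ?_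
      (pullback.lift_fst _ _ _).symm (IsPullback.of_hasPullback f y)
    have e : l ≫ pullback.snd f y = snd := pullback.lift_snd _ _ _
    rw [e]
    exact h
  haveI : Flat l := MorphismProperty.of_isPullback (P := @Flat) hl ‹Flat j›
  haveI : IsPreimmersion l :=
    MorphismProperty.of_isPullback (P := @IsPreimmersion) hl ‹IsPreimmersion j›
  exact isReduced_of_flat_preimmersion l

/-- The morphism of local schemes induced by a geometrically reduced morphism is geometrically
reduced. -/
theorem geometricallyReduced_stalkMap (f : X ⟶ Y) [GeometricallyReduced f] (x : X) :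
    GeometricallyReduced (Spec.map (f.stalkMap x)) := by
  haveI := flat_fromSpecStalk X x
  have h1 : GeometricallyReduced (X.fromSpecStalk x ≫ f) :=
    geometricallyReduced_comp_of_flat_preimmersion _ f
  rw [← Scheme.SpecMap_stalkMap_fromSpecStalk] at h1
  exact MorphismProperty.of_isPullback (P := @GeometricallyReduced)
    (IsPullback.of_horiz_isIso_mono (fst := 𝟙 _) (snd := Spec.map (f.stalkMap x))
      (f := Spec.map (f.stalkMap x) ≫ Y.fromSpecStalk (f x)) (g := Y.fromSpecStalk (f x))
      ⟨by simp⟩) h1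

end GeomRed

section Main

variable {X Y : Scheme.{u}} [IsLocallyNoetherian X] [IsLocallyNoetherian Y]

/-- The local-to-global principle in scheme form. -/
theorem isConnected_compl_of_stalks [ConnectedSpace ↥X] (T : Set ↥X) (hT : IsClosed T)
    (hdense : Dense Tᶜ)
    (hloc : ∀ x ∈ T, IsPreconnected ((X.fromSpecStalk x) ⁻¹' T)ᶜ) : IsConnected Tᶜ := by
  refine isConnected_compl_of_local T hT hdense ?_ ?_
  · intro x _ V hV hx
    exact exists_specializes_of_mem_closure_scheme X hV hx
  · intro x hxT u v hu hv huv hu' hv'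
    have hrange : ∀ ξ : X, ξ ⤳ x → ∃ q, (X.fromSpecStalk x) q = ξ := by
      intro ξ hξ
      have : ξ ∈ Set.range (X.fromSpecStalk x) := by
        rw [Scheme.range_fromSpecStalk]
        exact hξ
      exact this
    have hspec : ∀ q, (X.fromSpecStalk x) q ⤳ x := by
      intro q
      have : (X.fromSpecStalk x) q ∈ Set.range (X.fromSpecStalk x) := ⟨q, rfl⟩
      rw [Scheme.range_fromSpecStalk] at this
      exact this
    have hcont : Continuous (X.fromSpecStalk x) := (X.fromSpecStalk x).continuous
    obtain ⟨q, hqT, hqu, hqv⟩ := hloc x hxT ((X.fromSpecStalk x) ⁻¹' u)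
      ((X.fromSpecStalk x) ⁻¹' v) (hu.preimage hcont) (hv.preimage hcont)
      (by
        intro q hq
        exact huv _ (hspec q) hq)
      (by
        obtain ⟨ξ, hξ, hξT, hξu⟩ := hu'
        obtain ⟨q, rfl⟩ := hrange ξ hξ
        exact ⟨q, hξT, hξu⟩)
      (by
        obtain ⟨ξ, hξ, hξT, hξv⟩ := hv'
        obtain ⟨q, rfl⟩ := hrange ξ hξ
        exact ⟨q, hξT, hξv⟩)
    exact ⟨_, hspec q, hqT, hqu, hqv⟩

theorem main5045 [ConnectedSpace ↥X]
    (hY : ∀ y : Y, CAlg2.IsGeomUnibranch (Y.presheaf.stalk y))
    (f : X ⟶ Y) [Flat f] [GeometricallyReduced f]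
    (T : Set ↥X) (hT : IsClosed T) (hT' : interior (closure (f.base '' T)) = ∅) :
    IsConnected Tᶜ := by
  have hT'' : interior (closure (f '' T)) = ∅ := hT'
  refine isConnected_compl_of_stalks T hT (dense_compl_of_flat f T hT'') ?_
  intro x hxT
  letI alg : Algebra (Y.presheaf.stalk (f x)) (X.presheaf.stalk x) := (f.stalkMap x).hom.toAlgebra
  haveI : IsLocalHom (algebraMap (Y.presheaf.stalk (f x)) (X.presheaf.stalk x)) :=
    inferInstanceAs (IsLocalHom (f.stalkMap x).hom)
  haveI : Module.Flat (Y.presheaf.stalk (f x)) (X.presheaf.stalk x) := Flat.stalkMap f x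
  haveI hgr : GeometricallyReduced (Spec.map (CommRingCat.ofHom
      (algebraMap (Y.presheaf.stalk (f x)) (X.presheaf.stalk x)))) :=
    geometricallyReduced_stalkMap f x
  have hA := hY (f x)
  have hdom : IsDomain (CAlg2.red (Y.presheaf.stalk (f x))) := hA.1.1
  haveI hP : (nilradical (Y.presheaf.stalk (f x))).IsPrime :=
    (Ideal.Quotient.isDomain_iff_prime _).mp hdom
  let η : PrimeSpectrum (Y.presheaf.stalk (f x)) := ⟨nilradical _, hP⟩
  have hgen : ∀ p : PrimeSpectrum (Y.presheaf.stalk (f x)), η ⤳ p := by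
    intro p
    rw [← PrimeSpectrum.le_iff_specializes]
    exact nilradical_le_prime p.asIdeal
  -- the image of the generic point is a maximal point of `Y`
  have hmax : IsMaxPt ((Y.fromSpecStalk (f x)) η) := by
    intro ξ hξ
    have hspec : (Y.fromSpecStalk (f x)) η ⤳ f x := by
      have : (Y.fromSpecStalk (f x)) η ∈ Set.range (Y.fromSpecStalk (f x)) := ⟨η, rfl⟩
      rw [Scheme.range_fromSpecStalk] at this
      exact this
    have hξr : ξ ∈ Set.range (Y.fromSpecStalk (f x)) := by
      rw [Scheme.range_fromSpecStalk]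
      exact hξ.trans hspec
    obtain ⟨p', rfl⟩ := hξr
    obtain ⟨p, hpp⟩ : ∃ p : PrimeSpectrum (Y.presheaf.stalk (f x)), p = p' := ⟨_, rfl⟩
    subst hpp
    have hp : p ⤳ η :=
      ((Y.fromSpecStalk (f x)).isEmbedding.isInducing.specializes_iff).mp hξ
    have hle1 : p ≤ η := (PrimeSpectrum.le_iff_specializes p η).mpr hp
    have hle2 : η ≤ p := (PrimeSpectrum.le_iff_specializes η p).mpr (hgen p)
    have : p = η := le_antisymm hle1 hle2
    rw [this]
  have hclosed : IsClosed ((X.fromSpecStalk x) ⁻¹' T) :=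
    hT.preimage (X.fromSpecStalk x).continuous
  have hnd : interior (closure (PrimeSpectrum.comap
      (algebraMap (Y.presheaf.stalk (f x)) (X.presheaf.stalk x)) ''
        ((X.fromSpecStalk x) ⁻¹' T))) = ∅ := by
    by_contra hne
    obtain ⟨p, hp⟩ := Set.nonempty_iff_ne_empty.mpr hne
    have hη : η ∈ interior (closure (PrimeSpectrum.comap
        (algebraMap (Y.presheaf.stalk (f x)) (X.presheaf.stalk x)) ''
          ((X.fromSpecStalk x) ⁻¹' T))) := (hgen p).mem_open isOpen_interior hp
    have hsub : closure (PrimeSpectrum.comap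
        (algebraMap (Y.presheaf.stalk (f x)) (X.presheaf.stalk x)) ''
          ((X.fromSpecStalk x) ⁻¹' T)) ⊆
        (Y.fromSpecStalk (f x)) ⁻¹' (closure (f '' T)) := by
      refine closure_minimal ?_ (isClosed_closure.preimage (Y.fromSpecStalk (f x)).continuous)
      rintro _ ⟨q, hq, rfl⟩
      apply subset_closure
      refine ⟨(X.fromSpecStalk x) q, hq, ?_⟩
      have h := Scheme.SpecMap_stalkMap_fromSpecStalk (f := f) (x := x)
      have h2 := congrArg (fun g => g q) h
      exact h2.symm
    have h1 : (Y.fromSpecStalk (f x)) η ∈ closure (f '' T) := hsub (interior_subset hη)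
    have h2 := interior_nonempty_of_isMaxPt_scheme Y hmax isClosed_closure h1
    rw [hT''] at h2
    exact Set.not_nonempty_empty h2
  exact (Groth.Agent.Lib.HensConnH3.isConnected_compl_of_isGeomUnibranch
    (Y.presheaf.stalk (f x)) (X.presheaf.stalk x) hA
    (fun κ _ _ => Groth.Agent.Lib.HensConnH3.isReduced_tensor_of_geometricallyReduced _ _ κ)
    ((X.fromSpecStalk x) ⁻¹' T) hclosed hnd).isPreconnected

end Main

end Groth.Agent.Lib.ConnLocalH3
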