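import Mathlib
import Groth.Agent.Lib.SmoothUnibranch1_helper3

/-!
# Purely inseparable residue extensions, elementwise; unique minimal prime for smooth algebras
over a local ring dominated by a local normal domain, at primes with purely inseparable residue
field (helper3)

`PIRes A B I p`: every element of `B/I` has a `p^n`-th power in the image of `A`, where `p = 1` or
`p` is a prime number that vanishes in `B/I`.
-/

set_option autoImplicit false
set_option maxSynthPendingDepth 3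
universe u

namespace Groth.Agent.Lib.HensSmoothH3

open TensorProduct IsLocalRing Groth.Agent.Lib.SmoothUnibranchH3

attribute [local instance] Algebra.TensorProduct.rightAlgebra

/-- `B/I` is purely inseparable over the image of `A`, elementwise, with exponent `p` -/
def PIRes (A B : Type*) [CommRing A] [CommRing B] [Algebra A B] (I : Ideal B) (p : ℕ) : Prop :=
  (p = 1 ∨ (p.Prime ∧ (p : B) ∈ I)) ∧
    ∀ b : B, ∃ (n : ℕ) (a : A), b ^ p ^ n - algebraMap A B a ∈ I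

namespace PIRes

theorem pow_pos {A B : Type*} [CommRing A] [CommRing B] [Algebra A B] {I : Ideal B} {p : ℕ}
    (h : PIRes A B I p) (n : ℕ) : 0 < p ^ n := by
  apply Nat.pow_pos
  rcases h.1 with h1 | ⟨hp, -⟩
  · omega
  · exact hp.pos

theorem mono {A B : Type*} [CommRing A] [CommRing B] [Algebra A B] {I I' : Ideal B} {p : ℕ}
    (h : PIRes A B I p) (hI : I ≤ I') : PIRes A B I' p := by
  obtain ⟨hp, hpi⟩ := h
  refine ⟨?_, fun b => ?_⟩
  · rcases hp with h1 | ⟨hprime, hmem⟩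
    · exact Or.inl h1
    · exact Or.inr ⟨hprime, hI hmem⟩
  · obtain ⟨n, a, ha⟩ := hpi b
    exact ⟨n, a, hI ha⟩

theorem comap {A E D : Type*} [CommRing A] [CommRing E] [CommRing D] [Algebra A E] [Algebra A D]
    [Algebra E D] [IsScalarTower A E D] {I : Ideal D} {p : ℕ}
    (h : PIRes A D I p) : PIRes A E (I.comap (algebraMap E D)) p := by
  obtain ⟨hp, hpi⟩ := h
  refine ⟨?_, fun b => ?_⟩
  · rcases hp with h1 | ⟨hprime, hmem⟩
    · exact Or.inl h1
    · refine Or.inr ⟨hprime, ?_⟩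
      rw [Ideal.mem_comap, map_natCast]
      exact hmem
  · obtain ⟨n, a, ha⟩ := hpi (algebraMap E D b)
    refine ⟨n, a, ?_⟩
    rw [Ideal.mem_comap, map_sub, map_pow, ← IsScalarTower.algebraMap_apply]
    exact ha

theorem of_residue_surj {A B D : Type*} [CommRing A] [CommRing B] [CommRing D] [Algebra A B]
    [Algebra A D] [Algebra B D] [IsScalarTower A B D] {I : Ideal B} {I' : Ideal D} {p : ℕ}
    (h : PIRes A B I p) (hI : I.map (algebraMap B D) ≤ I')
    (hsurj : ∀ d : D, ∃ b : B, d - algebraMap B D b ∈ I') : PIRes A D I' p := by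
  obtain ⟨hp, hpi⟩ := h
  refine ⟨?_, fun d => ?_⟩
  · rcases hp with h1 | ⟨hprime, hmem⟩
    · exact Or.inl h1
    · refine Or.inr ⟨hprime, ?_⟩
      have h2 : ((p : ℕ) : D) = algebraMap B D ((p : ℕ) : B) := by rw [map_natCast]
      rw [h2]
      exact hI (Ideal.mem_map_of_mem _ hmem)
  · obtain ⟨b, hb⟩ := hsurj d
    obtain ⟨n, a, ha⟩ := hpi b
    refine ⟨n, a, ?_⟩
    have h1 : d ^ p ^ n - (algebraMap B D b) ^ p ^ n ∈ I' := by
      obtain ⟨c, hc⟩ := sub_dvd_pow_sub_pow d (algebraMap B D b) (p ^ n)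
      rw [hc]
      exact I'.mul_mem_right _ hb
    have h2 : (algebraMap B D b) ^ p ^ n - algebraMap A D a ∈ I' := by
      have := hI (Ideal.mem_map_of_mem (algebraMap B D) ha)
      rwa [map_sub, map_pow, ← IsScalarTower.algebraMap_apply] at this
    have h3 : d ^ p ^ n - algebraMap A D a =
        (d ^ p ^ n - (algebraMap B D b) ^ p ^ n) +
          ((algebraMap B D b) ^ p ^ n - algebraMap A D a) := by ring
    rw [h3]
    exact I'.add_mem h1 h2

/-- base change: `A' ⊗ E` modulo the extension of `I` is purely inseparable over `A'` -/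
theorem tensor {A E : Type u} [CommRing A] [CommRing E] [Algebra A E] {I : Ideal E} {p : ℕ}
    (h : PIRes A E I p) (A' : Type u) [CommRing A'] [Algebra A A'] :
    PIRes A' (A' ⊗[A] E) (I.map (algebraMap E (A' ⊗[A] E))) p := by
  obtain ⟨hp, hpi⟩ := h
  obtain ⟨J, hJ⟩ : ∃ J, J = I.map (algebraMap E (A' ⊗[A] E)) := ⟨_, rfl⟩
  rw [← hJ]
  have hpJ : p = 1 ∨ (p.Prime ∧ ((p : ℕ) : A' ⊗[A] E) ∈ J) := by
    rcases hp with h1 | ⟨hprime, hmem⟩
    · exact Or.inl h1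
    · refine Or.inr ⟨hprime, ?_⟩
      have h2 : ((p : ℕ) : A' ⊗[A] E) = algebraMap E (A' ⊗[A] E) ((p : ℕ) : E) := by
        rw [map_natCast]
      rw [h2, hJ]
      exact Ideal.mem_map_of_mem _ hmem
  refine ⟨hpJ, fun c => ?_⟩
  have hqE : p = 1 ∨ (p.Prime ∧ ((p : ℕ) : (A' ⊗[A] E) ⧸ J) = 0) := by
    rcases hpJ with h1 | ⟨hprime, hmem⟩
    · exact Or.inl h1
    · refine Or.inr ⟨hprime, ?_⟩
      have h1 : ((p : ℕ) : (A' ⊗[A] E) ⧸ J) = Ideal.Quotient.mk J ((p : ℕ) : A' ⊗[A] E) := by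
        rw [map_natCast]
      rw [h1, Ideal.Quotient.eq_zero_iff_mem]
      exact hmem
  suffices h : ∃ (n : ℕ) (a : A'), (Ideal.Quotient.mk J c) ^ p ^ n =
      Ideal.Quotient.mk J (algebraMap A' (A' ⊗[A] E) a) by
    obtain ⟨n, a, hna⟩ := h
    refine ⟨n, a, ?_⟩
    rw [← Ideal.Quotient.eq_zero_iff_mem, map_sub, map_pow, hna, sub_self]
  induction c using TensorProduct.induction_on with
  | zero =>
    refine ⟨0, 0, ?_⟩
    simp
  | tmul a s =>
    obtain ⟨n, α, hα⟩ := hpi s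
    refine ⟨n, α • a ^ p ^ n, ?_⟩
    rw [← map_pow, ← sub_eq_zero, ← map_sub, Ideal.Quotient.eq_zero_iff_mem,
      Algebra.TensorProduct.tmul_pow]
    have h2 : (a ^ p ^ n) ⊗ₜ[A] (s ^ p ^ n) - algebraMap A' (A' ⊗[A] E) (α • a ^ p ^ n) =
        ((a ^ p ^ n) ⊗ₜ[A] (1 : E)) *
          algebraMap E (A' ⊗[A] E) (s ^ p ^ n - algebraMap A E α) := by
      show (a ^ p ^ n) ⊗ₜ[A] (s ^ p ^ n) - (α • a ^ p ^ n) ⊗ₜ[A] (1 : E) =
        ((a ^ p ^ n) ⊗ₜ[A] (1 : E)) * ((1 : A') ⊗ₜ[A] (s ^ p ^ n - algebraMap A E α))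
      rw [Algebra.TensorProduct.tmul_mul_tmul, mul_one, one_mul, TensorProduct.tmul_sub,
        TensorProduct.smul_tmul, Algebra.smul_def, mul_one]
    rw [h2, hJ]
    exact Ideal.mul_mem_left _ _ (Ideal.mem_map_of_mem _ hα)
  | add c₁ c₂ ih₁ ih₂ =>
    obtain ⟨n₁, r₁, h₁⟩ := ih₁
    obtain ⟨n₂, r₂, h₂⟩ := ih₂
    refine ⟨n₁ + n₂, r₁ ^ p ^ n₂ + r₂ ^ p ^ n₁, ?_⟩
    rw [map_add, add_pow_q p hqE, map_add, map_add, map_pow, map_pow, map_pow, map_pow, ← h₁, ← h₂,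
      ← pow_mul, ← pow_mul, ← pow_add, ← pow_add, add_comm n₂ n₁]

/-- passage to quotients -/
theorem quotient {R R' : Type u} [CommRing R] [CommRing R'] [Algebra R R'] {q : Ideal R'} {p : ℕ}
    (h : PIRes R R' q p) (J : Ideal R) :
    PIRes (R ⧸ J) (R' ⧸ J.map (algebraMap R R'))
      (q.map (Ideal.Quotient.mk (J.map (algebraMap R R')))) p := by
  obtain ⟨hp, hpi⟩ := h
  refine ⟨?_, fun b => ?_⟩
  · rcases hp with h1 | ⟨hprime, hmem⟩
    · exact Or.inl h1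
    · refine Or.inr ⟨hprime, ?_⟩
      have h2 : ((p : ℕ) : R' ⧸ J.map (algebraMap R R')) =
          Ideal.Quotient.mk (J.map (algebraMap R R')) ((p : ℕ) : R') := by rw [map_natCast]
      rw [h2]
      exact Ideal.mem_map_of_mem _ hmem
  · obtain ⟨b, rfl⟩ := Ideal.Quotient.mk_surjective b
    obtain ⟨n, a, ha⟩ := hpi b
    refine ⟨n, Ideal.Quotient.mk J a, ?_⟩
    have h1 : algebraMap (R ⧸ J) (R' ⧸ J.map (algebraMap R R')) (Ideal.Quotient.mk J a) =
        Ideal.Quotient.mk (J.map (algebraMap R R')) (algebraMap R R' a) := rfl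
    rw [h1, ← map_pow, ← map_sub]
    exact Ideal.mem_map_of_mem _ ha

/-- from a purely inseparable residue field extension of a local homomorphism -/
theorem of_isPurelyInseparable {A B : Type*} [CommRing A] [IsLocalRing A] [CommRing B]
    [IsLocalRing B] [Algebra A B] [IsLocalHom (algebraMap A B)]
    (h : @IsPurelyInseparable (ResidueField A) (ResidueField B) _ _
      (ResidueField.map (algebraMap A B)).toAlgebra) :
    PIRes A B (maximalIdeal B) (ringExpChar (ResidueField A)) := by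
  letI := (ResidueField.map (algebraMap A B)).toAlgebra
  haveI := h
  obtain ⟨p, hpdef⟩ : ∃ p, p = ringExpChar (ResidueField A) := ⟨_, rfl⟩
  rw [← hpdef]
  haveI hexp : ExpChar (ResidueField A) p := hpdef ▸ ringExpChar.expChar _
  refine ⟨?_, fun b => ?_⟩
  · rcases hexp with _ | ⟨hprime⟩
    · exact Or.inl rfl
    · refine Or.inr ⟨hprime, ?_⟩
      rw [← residue_eq_zero_iff, map_natCast]
      have h0 : ((p : ℕ) : ResidueField A) = 0 := CharP.cast_eq_zero _ p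
      have h1 : ((p : ℕ) : ResidueField B) =
          algebraMap (ResidueField A) (ResidueField B) ((p : ℕ) : ResidueField A) := by
        rw [map_natCast]
      rw [h1, h0, map_zero]
  · obtain ⟨n, y, hy⟩ := IsPurelyInseparable.pow_mem (ResidueField A) p (residue B b)
    obtain ⟨a, rfl⟩ := residue_surjective y
    refine ⟨n, a, ?_⟩
    rw [← residue_eq_zero_iff, map_sub, map_pow, ← hy, sub_eq_zero]
    rfl

end PIRes

section Main

variable {A A' R' : Type u} [CommRing A] [IsLocalRing A] [CommRing A'] [IsLocalRing A']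
  [Algebra A A'] [Algebra.IsIntegral A A'] [CommRing R'] [Algebra A R']

/-- primes of `A' ⊗ R'` over a prime `p ⊇ m_A R'` with purely inseparable residue field are
comparable, hence equal -/
theorem primes_over_le' (e : ℕ) (p : Ideal R') [p.IsPrime] (hpi : PIRes A R' p e)
    (hp : (maximalIdeal A).map (algebraMap A R') ≤ p)
    (Q₁ Q₂ : Ideal (A' ⊗[A] R')) [Q₁.IsPrime] [Q₂.IsPrime]
    (h₁ : Q₁.comap (algebraMap R' (A' ⊗[A] R')) = p)
    (h₂ : Q₂.comap (algebraMap R' (A' ⊗[A] R')) = p) : Q₁ ≤ Q₂ := by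
  intro c hc
  obtain ⟨-, hpi'⟩ := hpi.tensor A'
  obtain ⟨n, α, hnα⟩ := hpi' c
  have hepos : 0 < e ^ n := hpi.pow_pos n
  have hJ₁ : p.map (algebraMap R' (A' ⊗[A] R')) ≤ Q₁ := by
    rw [Ideal.map_le_iff_le_comap, h₁]
  have hJ₂ : p.map (algebraMap R' (A' ⊗[A] R')) ≤ Q₂ := by
    rw [Ideal.map_le_iff_le_comap, h₂]
  have hc1 : c ^ e ^ n ∈ Q₁ := Ideal.pow_mem_of_mem Q₁ hc _ hepos
  have hα1 : algebraMap A' (A' ⊗[A] R') α ∈ Q₁ := by
    have := Q₁.sub_mem hc1 (hJ₁ hnα)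
    rwa [sub_sub_cancel] at this
  have hαm : α ∈ maximalIdeal A' := by
    have hne : Q₁.comap (algebraMap A' (A' ⊗[A] R')) ≠ ⊤ :=
      Ideal.comap_ne_top _ (Ideal.IsPrime.ne_top inferInstance)
    exact le_maximalIdeal hne hα1
  have hα2 : algebraMap A' (A' ⊗[A] R') α ∈ Q₂ :=
    map_maximalIdeal_le p hp Q₂ h₂ (Ideal.mem_map_of_mem _ hαm)
  have hc2 : c ^ e ^ n ∈ Q₂ := by
    have := Q₂.add_mem (hJ₂ hnα) hα2
    rwa [sub_add_cancel] at this
  exact Ideal.IsPrime.mem_of_pow_mem inferInstance _ hc2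

variable (A A' R')
variable [IsDomain A'] [IsIntegrallyClosed A'] [Algebra.Smooth A R']

/-- at most one minimal prime of `R'` below `p`, given uniqueness of primes of `A' ⊗ R'` over
`p` -/
theorem minimalPrimes_unique_of_primes_over_le
    (hker : RingHom.ker (algebraMap A A') ≤ nilradical A)
    (p : Ideal R') [p.IsPrime]
    (hprimes : ∀ (Q₁ Q₂ : Ideal (A' ⊗[A] R')), Q₁.IsPrime → Q₂.IsPrime →
      Q₁.comap (algebraMap R' (A' ⊗[A] R')) = p → Q₂.comap (algebraMap R' (A' ⊗[A] R')) = p →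
      Q₁ ≤ Q₂)
    (P₁ P₂ : Ideal R') (h₁ : P₁ ∈ minimalPrimes R') (h₂ : P₂ ∈ minimalPrimes R')
    (h₁p : P₁ ≤ p) (h₂p : P₂ ≤ p) : P₁ = P₂ := by
  haveI := isIntegral_tensor A A' R'
  haveI : Module.Flat A R' := inferInstance
  have hkerφ := ker_algebraMap_tensor_le_nilradical A A' R' hker
  haveI hP₁ : P₁.IsPrime := h₁.1.1
  haveI hP₂ : P₂.IsPrime := h₂.1.1
  obtain ⟨Q₁, -, hQ₁p, hQ₁⟩ := Ideal.exists_ideal_over_prime_of_isIntegral
    (S := A' ⊗[A] R') P₁ ⊥ (by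
      rw [← RingHom.ker_eq_comap_bot]
      exact hkerφ.trans (nilradical_le_prime P₁))
  obtain ⟨Q₂, -, hQ₂p, hQ₂⟩ := Ideal.exists_ideal_over_prime_of_isIntegral
    (S := A' ⊗[A] R') P₂ ⊥ (by
      rw [← RingHom.ker_eq_comap_bot]
      exact hkerφ.trans (nilradical_le_prime P₂))
  obtain ⟨Q₁', hle₁, hQ₁'p, hQ₁'⟩ := Ideal.exists_ideal_over_prime_of_isIntegral_of_isPrime
    (S := A' ⊗[A] R') p Q₁ (hQ₁.le.trans h₁p)
  obtain ⟨Q₂', hle₂, hQ₂'p, hQ₂'⟩ := Ideal.exists_ideal_over_prime_of_isIntegral_of_isPrime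
    (S := A' ⊗[A] R') p Q₂ (hQ₂.le.trans h₂p)
  have heq : Q₁' = Q₂' := le_antisymm (hprimes Q₁' Q₂' hQ₁'p hQ₂'p hQ₁' hQ₂')
    (hprimes Q₂' Q₁' hQ₂'p hQ₁'p hQ₂' hQ₁')
  have hnormal : EGA4.IsNormalRing A' := by
    intro P hP
    exact ⟨inferInstance,
      isIntegrallyClosed_of_isLocalization _ P.primeCompl P.primeCompl_le_nonZeroDivisors⟩
  obtain ⟨hdom, -⟩ := (Groth.Agent.Lib.EtNormal3H4.main1182 A' (A' ⊗[A] R')).1 hnormal Q₁'
  obtain ⟨Q₀, hQ₀⟩ : ∃ Q₀, Q₀ = RingHom.ker (algebraMap (A' ⊗[A] R') (Localization.AtPrime Q₁')) :=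
    ⟨_, rfl⟩
  haveI : Q₀.IsPrime := by rw [hQ₀]; exact RingHom.ker_isPrime _
  have hQ₀le : ∀ Q : Ideal (A' ⊗[A] R'), Q.IsPrime → Q ≤ Q₁' → Q₀ ≤ Q := by
    intro Q hQ hQle x hx
    rw [hQ₀, RingHom.mem_ker, IsLocalization.map_eq_zero_iff Q₁'.primeCompl] at hx
    obtain ⟨⟨s, hs⟩, hsx⟩ := hx
    have hsQ : s ∉ Q := fun h => hs (hQle h)
    have : s * x ∈ Q := by
      have h0 : s * x = 0 := hsx
      rw [h0]; exact Q.zero_mem
    exact (hQ.mem_or_mem this).resolve_left hsQ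
  have hP₀ : (Q₀.comap (algebraMap R' (A' ⊗[A] R'))).IsPrime := Ideal.comap_isPrime _ _
  have e₁ : P₁ = Q₀.comap (algebraMap R' (A' ⊗[A] R')) := by
    apply le_antisymm
    · exact h₁.2 ⟨hP₀, bot_le⟩ (by
        rw [← hQ₁]
        exact Ideal.comap_mono (hQ₀le Q₁ hQ₁p hle₁))
    · rw [← hQ₁]
      exact Ideal.comap_mono (hQ₀le Q₁ hQ₁p hle₁)
  have e₂ : P₂ = Q₀.comap (algebraMap R' (A' ⊗[A] R')) := by
    apply le_antisymm
    · exact h₂.2 ⟨hP₀, bot_le⟩ (by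
        rw [← hQ₂]
        exact Ideal.comap_mono (hQ₀le Q₂ hQ₂p (heq ▸ hle₂)))
    · rw [← hQ₂]
      exact Ideal.comap_mono (hQ₀le Q₂ hQ₂p (heq ▸ hle₂))
  rw [e₁, e₂]

/-- the local ring `R'_p` has at most one minimal prime -/
theorem encard_minimalPrimes_localization_le_one' (e : ℕ)
    (hker : RingHom.ker (algebraMap A A') ≤ nilradical A)
    (p : Ideal R') [p.IsPrime] (hpi : PIRes A R' p e)
    (hp : (maximalIdeal A).map (algebraMap A R') ≤ p) :
    (minimalPrimes (Localization.AtPrime p)).encard ≤ 1 := by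
  rw [Set.encard_le_one_iff]
  intro 𝔓₁ 𝔓₂ h₁ h₂
  have hm₁ := Groth.Agent.Lib.HensBranchesH3.comap_mem_minimalPrimes_of_flat (S := R') 𝔓₁ h₁
  have hm₂ := Groth.Agent.Lib.HensBranchesH3.comap_mem_minimalPrimes_of_flat (S := R') 𝔓₂ h₂
  haveI : 𝔓₁.IsPrime := h₁.1.1
  haveI : 𝔓₂.IsPrime := h₂.1.1
  have hle : ∀ 𝔓 : Ideal (Localization.AtPrime p), 𝔓.IsPrime →
      𝔓.comap (algebraMap R' (Localization.AtPrime p)) ≤ p := by
    intro 𝔓 h𝔓
    have h0 := IsLocalization.AtPrime.comap_maximalIdeal (Localization.AtPrime p) p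
    exact le_of_le_of_eq (Ideal.comap_mono (le_maximalIdeal h𝔓.ne_top)) h0
  have heq := minimalPrimes_unique_of_primes_over_le A A' R' hker p
    (fun Q₁ Q₂ hQ₁ hQ₂ e₁ e₂ => by
      haveI := hQ₁
      haveI := hQ₂
      exact primes_over_le' e p hpi hp Q₁ Q₂ e₁ e₂) _ _ hm₁ hm₂
    (hle 𝔓₁ inferInstance) (hle 𝔓₂ inferInstance)
  have h3 := congrArg (Ideal.map (algebraMap R' (Localization.AtPrime p))) heq
  rwa [IsLocalization.map_comap p.primeCompl (Localization.AtPrime p) 𝔓₁,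
    IsLocalization.map_comap p.primeCompl (Localization.AtPrime p) 𝔓₂] at h3

end Main

end Groth.Agent.Lib.HensSmoothH3
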