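import Mathlib
import Groth.Agent.Lib.HensSmooth1_helper3
import Groth.Agent.Lib.SmoothUnibranch5_helper3
import Groth.Agent.Lib.HensIntDom_lead
import Groth.Agent.Lib.Henselization8_helper3

/-!
# Smooth algebras over a henselian local ring at primes with purely inseparable residue field:
primes of the base extend to primes; bound for the number of minimal primes (helper3)
-/

set_option autoImplicit false
set_option maxSynthPendingDepth 3
universe u

namespace Groth.Agent.Lib.HensSmoothH3

open TensorProduct IsLocalRing Groth.Agent.Lib.SmoothUnibranchH3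

section Domain

open Groth.Agent.Lib.BrEtNbhdH3

variable (D : Type u) [CommRing D] [HenselianLocalRing D] [IsDomain D]
  (R' : Type u) [CommRing R'] [Algebra D R'] [Algebra.Smooth D R'] (p : Ideal R') [p.IsPrime]

/-- over a henselian local domain: at most one minimal prime -/
theorem encard_le_one_of_henselian_domain (e : ℕ) (hpi : PIRes D R' p e)
    (hp : (maximalIdeal D).map (algebraMap D R') ≤ p) :
    (minimalPrimes (Localization.AtPrime p)).encard ≤ 1 := by
  haveI : IsIntegrallyClosed (integralClosure D (FractionRing D)) :=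
    integralClosure.isIntegrallyClosedOfFiniteExtension (FractionRing D)
  haveI : Algebra.IsIntegral D (integralClosure D (FractionRing D)) := inferInstance
  haveI : IsLocalRing (integralClosure D (FractionRing D)) :=
    Groth.Agent.Lib.HensIntDom.isLocalRing_of_integral_domain D _
  have hker : RingHom.ker (algebraMap D (integralClosure D (FractionRing D))) ≤ nilradical D := by
    intro x hx
    rw [RingHom.mem_ker] at hx
    have h2 : algebraMap D (FractionRing D) x = 0 := by
      have := congrArg (fun y : integralClosure D (FractionRing D) => (y : FractionRing D)) hx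
      exact this
    have h3 : x = 0 := (IsFractionRing.injective D (FractionRing D)) (by rw [h2, map_zero])
    rw [h3]
    exact Ideal.zero_mem _
  exact encard_minimalPrimes_localization_le_one' D (integralClosure D (FractionRing D)) R' e hker
    p hpi hp

theorem isDomain_of_isLocalization_of_smooth_hens (e : ℕ) (hpi : PIRes D R' p e)
    (hp : (maximalIdeal D).map (algebraMap D R') ≤ p)
    (Bp : Type u) [CommRing Bp] [Algebra R' Bp] [IsLocalization.AtPrime Bp p] : IsDomain Bp := by
  haveI : IsReduced R' := by
    have hsm : AlgebraicGeometry.Smooth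
        (AlgebraicGeometry.Spec.map (CommRingCat.ofHom (algebraMap D R'))) := by
      rw [AlgebraicGeometry.HasRingHomProperty.Spec_iff (P := @AlgebraicGeometry.Smooth)]
      exact RingHom.smooth_algebraMap.mpr inferInstance
    haveI : AlgebraicGeometry.IsReduced (AlgebraicGeometry.Spec (CommRingCat.of D)) :=
      (AlgebraicGeometry.affine_isReduced_iff (CommRingCat.of D)).2 inferInstance
    have := Groth.Agent.Lib.EtaleReduced_helper7.isReduced_of_smooth_scheme
      (AlgebraicGeometry.Spec.map (CommRingCat.ofHom (algebraMap D R')))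
    exact (AlgebraicGeometry.affine_isReduced_iff (CommRingCat.of R')).1 this
  haveI : IsDomain (Localization.AtPrime p) :=
    isDomain_of_isReduced_of_encard_le_one (Localization.AtPrime p)
      (encard_le_one_of_henselian_domain D R' p e hpi hp)
  let e' : Bp ≃ₐ[R'] Localization.AtPrime p := IsLocalization.algEquiv p.primeCompl _ _
  exact e'.toMulEquiv.isDomain

end Domain

section Prime

open Groth.Agent.Lib.BrEtNbhdH3 Groth.Agent.Lib.HensBranchesH3 Groth.Agent.Lib.UnibranchH3

variable (R R' : Type u) [CommRing R] [HenselianLocalRing R]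
  [CommRing R'] [Algebra R R'] [Algebra.Smooth R R']
  (q : Ideal R') [q.IsPrime]

/-- **Primes of a henselian local ring stay prime in local rings of smooth algebras** at primes
over the closed point with purely inseparable residue field. -/
theorem isPrime_map_localization_of_smooth_hens (e : ℕ) (hpi : PIRes R R' q e)
    (hq : (maximalIdeal R).map (algebraMap R R') ≤ q)
    (J : Ideal R) [hJp : J.IsPrime] :
    ((J.map (algebraMap R R')).map (algebraMap R' (Localization.AtPrime q))).IsPrime := by
  have hJm : J ≤ maximalIdeal R := le_maximalIdeal hJp.ne_top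
  haveI : IsLocalRing (R ⧸ J) := isLocalRing_quotient J hJm
  haveI : HenselianLocalRing (R ⧸ J) := Groth.Agent.S0505.result R (R ⧸ J)
  haveI : IsDomain (R ⧸ J) := (Ideal.Quotient.isDomain_iff_prime J).mpr hJp
  -- the smooth algebra modulo `J`
  haveI : Algebra.Smooth (R ⧸ J) (R' ⧸ J.map (algebraMap R R')) :=
    Algebra.Smooth.of_equiv (Algebra.TensorProduct.quotIdealMapEquivQuotTensor R' J).symm
  have hIq : J.map (algebraMap R R') ≤ q := (Ideal.map_mono hJm).trans hq
  have hpi' := hpi.quotient J
  obtain ⟨q', hq'def⟩ : ∃ q' : Ideal (R' ⧸ J.map (algebraMap R R')),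
      q' = q.map (Ideal.Quotient.mk (J.map (algebraMap R R'))) := ⟨_, rfl⟩
  rw [← hq'def] at hpi'
  haveI hq'p : q'.IsPrime := by
    rw [hq'def]
    exact Ideal.map_isPrime_of_surjective Ideal.Quotient.mk_surjective
      (by rw [Ideal.mk_ker]; exact hIq)
  have hmemq' : ∀ x : R', Ideal.Quotient.mk (J.map (algebraMap R R')) x ∈ q' ↔ x ∈ q := by
    intro x
    rw [hq'def]
    constructor
    · intro hx
      obtain ⟨y, hy, hxy⟩ := (Ideal.mem_map_iff_of_surjective _
        Ideal.Quotient.mk_surjective).mp hx
      have h1 : y - x ∈ J.map (algebraMap R R') := by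
        rw [← Ideal.Quotient.eq_zero_iff_mem, map_sub, hxy, sub_self]
      have h2 : x = y - (y - x) := by ring
      rw [h2]
      exact q.sub_mem hy (hIq h1)
    · intro hx
      exact Ideal.mem_map_of_mem _ hx
  have hq' : (maximalIdeal (R ⧸ J)).map
      (algebraMap (R ⧸ J) (R' ⧸ J.map (algebraMap R R'))) ≤ q' := by
    rw [Ideal.map_le_iff_le_comap]
    intro x hx
    obtain ⟨a, rfl⟩ := Ideal.Quotient.mk_surjective x
    have ha : a ∈ maximalIdeal R := by
      rw [mem_maximalIdeal, mem_nonunits_iff]
      intro hu
      exact hx (hu.map (Ideal.Quotient.mk J))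
    rw [Ideal.mem_comap]
    have h1 : algebraMap (R ⧸ J) (R' ⧸ J.map (algebraMap R R')) (Ideal.Quotient.mk J a) =
        Ideal.Quotient.mk (J.map (algebraMap R R')) (algebraMap R R' a) := rfl
    rw [h1, hmemq']
    exact hq (Ideal.mem_map_of_mem _ ha)
  -- the local ring modulo `J`
  haveI hloc0 : IsLocalization (Algebra.algebraMapSubmonoid (R' ⧸ J.map (algebraMap R R'))
      q.primeCompl)
      (Localization.AtPrime q ⧸
        (J.map (algebraMap R R')).map (algebraMap R' (Localization.AtPrime q))) :=
    inferInstance
  have hsub : Algebra.algebraMapSubmonoid (R' ⧸ J.map (algebraMap R R')) q.primeCompl =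
      q'.primeCompl := by
    ext z
    constructor
    · rintro ⟨x, hx, rfl⟩
      show _ ∉ q'
      have h1 : algebraMap R' (R' ⧸ J.map (algebraMap R R')) x =
          Ideal.Quotient.mk (J.map (algebraMap R R')) x := rfl
      rw [h1, hmemq']
      exact hx
    · intro hz
      obtain ⟨x, rfl⟩ := Ideal.Quotient.mk_surjective z
      have hz' : Ideal.Quotient.mk (J.map (algebraMap R R')) x ∉ q' := hz
      rw [hmemq'] at hz'
      exact ⟨x, hz', rfl⟩
  haveI hlocP : IsLocalization.AtPrime (Localization.AtPrime q ⧸
      (J.map (algebraMap R R')).map (algebraMap R' (Localization.AtPrime q))) q' := by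
    show IsLocalization q'.primeCompl _
    rw [← hsub]
    exact hloc0
  have hdomB := isDomain_of_isLocalization_of_smooth_hens (R ⧸ J)
    (R' ⧸ J.map (algebraMap R R')) q' e hpi' hq' (Localization.AtPrime q ⧸
      (J.map (algebraMap R R')).map (algebraMap R' (Localization.AtPrime q)))
  exact (Ideal.Quotient.isDomain_iff_prime _).mp hdomB

end Prime

section Count

open Groth.Agent.Lib.HensBranchesH3 Groth.Agent.Lib.HenselizationH3

attribute [local instance] Algebra.TensorProduct.rightAlgebra

variable (A : Type u) [CommRing A] [IsLocalRing A]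
  (Ah : Type u) [CommRing Ah] [IsLocalRing Ah] [Algebra A Ah] [IsLocalHom (algebraMap A Ah)]
  [Hensel.IsHenselization A Ah]
  (E : Type u) [CommRing E] [Algebra A E] [Algebra.Smooth A E] (q : Ideal E) [q.IsPrime]

/-- **the local ring of a smooth algebra at a prime over the closed point with purely inseparable
residue field has at most as many minimal primes as the henselization of the base** -/
theorem encard_minimalPrimes_localization_le_of_smooth_hens (e : ℕ) (hpi : PIRes A E q e)
    (hq : (maximalIdeal A).map (algebraMap A E) ≤ q) :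
    (minimalPrimes (Localization.AtPrime q)).encard ≤ (minimalPrimes Ah).encard := by
  haveI hS : HenselianLocalRing Ah := Hensel.IsHenselization.henselian A
  haveI hfl : Module.FaithfullyFlat A Ah := faithfullyFlat_of_isHenselization (R := A) Ah
  have hcomap : PrimeSpectrum.comap (algebraMap A Ah) ⟨maximalIdeal Ah, inferInstance⟩ =
      PrimeSpectrum.comap (algebraMap A E) ⟨q, inferInstance⟩ := by
    apply PrimeSpectrum.ext
    show (maximalIdeal Ah).comap (algebraMap A Ah) = q.comap (algebraMap A E)
    have h04 : (maximalIdeal Ah).comap (algebraMap A Ah) = maximalIdeal A :=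
      ((local_hom_TFAE (algebraMap A Ah)).out 0 4).mp ‹IsLocalHom (algebraMap A Ah)›
    rw [h04]
    have hmax : maximalIdeal A ≤ q.comap (algebraMap A E) := Ideal.map_le_iff_le_comap.mp hq
    exact (maximalIdeal.isMaximal A).eq_of_le
      (Ideal.comap_ne_top _ (Ideal.IsPrime.ne_top ‹q.IsPrime›)) hmax
  obtain ⟨r, hr1, hr2⟩ := Groth.Agent.Lib.SchFin_helper3.exists_prime_tensor (R := A) (A := Ah)
    (B := E) ⟨maximalIdeal Ah, inferInstance⟩ ⟨q, inferInstance⟩ hcomap
  have hr1' : r.asIdeal.comap (algebraMap Ah (Ah ⊗[A] E)) = maximalIdeal Ah :=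
    congrArg PrimeSpectrum.asIdeal hr1
  have hr2' : q = r.asIdeal.comap (algebraMap E (Ah ⊗[A] E)) :=
    (congrArg PrimeSpectrum.asIdeal hr2).symm
  have hrm : (maximalIdeal Ah).map (algebraMap Ah (Ah ⊗[A] E)) ≤ r.asIdeal := by
    rw [Ideal.map_le_iff_le_comap, hr1']
  have hpir : PIRes Ah (Ah ⊗[A] E) r.asIdeal e :=
    (hpi.tensor Ah).mono (by rw [Ideal.map_le_iff_le_comap, ← hr2'])
  -- step (a): `E_q → C` is faithfully flat
  haveI hflE : Module.Flat E (Ah ⊗[A] E) :=
    Module.Flat.of_linearEquiv (Algebra.TensorProduct.commRight A E Ah).symm.toLinearEquiv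
  have hflat1 : (Localization.localRingHom q r.asIdeal (algebraMap E (Ah ⊗[A] E)) hr2').Flat :=
    RingHom.Flat.localRingHom (RingHom.flat_algebraMap_iff.mpr hflE) r.asIdeal q hr2'
  have h1 : (minimalPrimes (Localization.AtPrime q)).encard ≤
      (minimalPrimes (Localization.AtPrime r.asIdeal)).encard := by
    letI := (Localization.localRingHom q r.asIdeal (algebraMap E (Ah ⊗[A] E)) hr2').toAlgebra
    haveI : Module.Flat (Localization.AtPrime q) (Localization.AtPrime r.asIdeal) := hflat1
    haveI : IsLocalHom (algebraMap (Localization.AtPrime q) (Localization.AtPrime r.asIdeal)) :=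
      Localization.isLocalHom_localRingHom _ _ _ hr2'
    haveI : Module.FaithfullyFlat (Localization.AtPrime q) (Localization.AtPrime r.asIdeal) :=
      Module.FaithfullyFlat.of_flat_of_isLocalHom
    have := card_minimalPrimes_le_of_faithfullyFlat (S := Localization.AtPrime q)
      (B := Localization.AtPrime r.asIdeal)
    rwa [ENat.card_coe_set_eq, ENat.card_coe_set_eq] at this
  -- step (b)
  have h2 : (minimalPrimes (Localization.AtPrime r.asIdeal)).encard ≤
      (minimalPrimes Ah).encard := by
    haveI : Module.Flat Ah (Ah ⊗[A] E) := inferInstance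
    haveI : Module.Flat (Ah ⊗[A] E) (Localization.AtPrime r.asIdeal) :=
      IsLocalization.flat _ r.asIdeal.primeCompl
    haveI : Module.Flat Ah (Localization.AtPrime r.asIdeal) :=
      Module.Flat.trans Ah (Ah ⊗[A] E) _
    refine encard_minimalPrimes_le_of_map_isPrime (S := Ah)
      (C := Localization.AtPrime r.asIdeal) fun P hP => ?_
    haveI : P.IsPrime := hP.1.1
    have := isPrime_map_localization_of_smooth_hens Ah (Ah ⊗[A] E) r.asIdeal e hpir hrm P
    rwa [Ideal.map_map, ← IsScalarTower.algebraMap_eq] at this
  exact h1.trans h2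

end Count

end Groth.Agent.Lib.HensSmoothH3
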