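import Mathlib
import Groth.Agent.Lib.HensSmooth2_helper3
import Groth.Agent.Lib.SmoothUnibranch6_helper3
import Groth.Agent.Lib.BrEtNbhd1_helper3

/-!
# Smooth local homomorphisms with purely inseparable residue extension preserve the number of
branches (helper3)
-/

set_option autoImplicit false
set_option maxSynthPendingDepth 3
universe u

namespace Groth.Agent.Lib.HensSmoothH3

open TensorProduct IsLocalRing Groth.Agent.Lib.SmoothUnibranchH3

namespace PIRes

theorem comap_hom {A E D : Type*} [CommRing A] [CommRing E] [CommRing D] [Algebra A E]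
    [Algebra A D] (φ : E →+* D) (hφ : ∀ a, φ (algebraMap A E a) = algebraMap A D a)
    {I : Ideal D} {p : ℕ} (h : PIRes A D I p) : PIRes A E (I.comap φ) p := by
  letI := φ.toAlgebra
  haveI : IsScalarTower A E D := IsScalarTower.of_algebraMap_eq (fun a => (hφ a).symm)
  exact h.comap (E := E)

end PIRes

section General

open Groth.Agent.Lib.BrEtNbhdH3 Groth.Agent.Lib.HenselizationH3

variable (A : Type u) [CommRing A] [IsLocalRing A]
  (Ah : Type u) [CommRing Ah] [IsLocalRing Ah] [Algebra A Ah] [IsLocalHom (algebraMap A Ah)]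
  [Hensel.IsHenselization A Ah]
  (R' : Type u) [CommRing R'] [Algebra A R'] [Algebra.Smooth A R'] (p : Ideal R') [p.IsPrime]
  (Bp : Type u) [CommRing Bp] [IsLocalRing Bp] [Algebra R' Bp] [IsLocalization.AtPrime Bp p]
  [Algebra A Bp] [IsScalarTower A R' Bp]

/-- the number of branches of a local ring of a smooth algebra (at a prime over the closed point
with purely inseparable residue field) is at most that of the base -/
theorem numBranches_le_of_isLocalization_of_smooth (e : ℕ)
    (hpi : PIRes A Bp (maximalIdeal Bp) e)
    (hp : (maximalIdeal A).map (algebraMap A R') ≤ p) :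
    Brnch.numBranches Bp ≤ (minimalPrimes Ah).encard := by
  rw [numBranches_eq_iSup Bp]
  refine iSup_le fun j => ?_
  obtain ⟨E, _, _, q, _, hE, ⟨κ⟩⟩ := Groth.Agent.Lib.EssEtTransH4.core R' R'
    Bp j.C p (RingHom.ker j.pt)
  haveI := hE
  letI algAE : Algebra A E := ((algebraMap R' E).comp (algebraMap A R')).toAlgebra
  haveI : IsScalarTower A R' E := IsScalarTower.of_algebraMap_eq (fun _ => rfl)
  haveI : Algebra.Smooth A E := Algebra.Smooth.comp A R' E
  have hpq : p = q.comap (algebraMap R' E) :=
    comap_eq_of_algEquiv R' p Bp E q j.A κ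
  have hq : (maximalIdeal A).map (algebraMap A E) ≤ q := by
    rw [Ideal.map_le_iff_le_comap]
    intro a ha
    rw [Ideal.mem_comap, IsScalarTower.algebraMap_apply A R' E]
    have h1 : algebraMap R' E (algebraMap A R' a) ∈ q := by
      have h1 : algebraMap A R' a ∈ p := hp (Ideal.mem_map_of_mem _ ha)
      rw [hpq] at h1
      exact h1
    exact h1
  -- the residue field of `j.A` is purely inseparable over that of `A`
  have hI : (maximalIdeal Bp).map (algebraMap Bp j.A) ≤ maximalIdeal j.A :=
    ((local_hom_TFAE (algebraMap Bp j.A)).out 0 2).mp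
      (inferInstance : IsLocalHom (algebraMap Bp j.A))
  have hpiC : PIRes A j.A (maximalIdeal j.A) e :=
    hpi.of_residue_surj hI (exists_sub_mem_maximalIdeal j.pt)
  -- transport to `E`
  obtain ⟨φ, hφdef⟩ : ∃ φ : E →+* j.A, φ = (κ : Localization.AtPrime q →+* j.A).comp
      (algebraMap E (Localization.AtPrime q)) := ⟨_, rfl⟩
  have hφ : ∀ a : A, φ (algebraMap A E a) = algebraMap A j.A a := by
    intro a
    rw [hφdef, IsScalarTower.algebraMap_apply A R' E, RingHom.comp_apply,
      ← IsScalarTower.algebraMap_apply R' E (Localization.AtPrime q)]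
    show κ (algebraMap R' (Localization.AtPrime q) (algebraMap A R' a)) = _
    rw [κ.commutes, IsScalarTower.algebraMap_apply A Bp j.A,
      IsScalarTower.algebraMap_apply A R' Bp, ← IsScalarTower.algebraMap_apply R' Bp j.A]
  have hpiE : PIRes A E q e := by
    refine (hpiC.comap_hom φ hφ).mono ?_
    intro x hx
    rw [Ideal.mem_comap, hφdef, RingHom.comp_apply, mem_maximalIdeal, mem_nonunits_iff] at hx
    by_contra hxq
    apply hx
    have hu : IsUnit (algebraMap E (Localization.AtPrime q) x) :=
      (IsLocalization.AtPrime.isUnit_to_map_iff (Localization.AtPrime q) q x).mpr hxq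
    exact hu.map (κ : Localization.AtPrime q →+* j.A)
  rw [← encard_minimalPrimes_eq_of_ringEquiv κ.toRingEquiv]
  exact encard_minimalPrimes_localization_le_of_smooth_hens A Ah E q e hpiE hq

end General

section Lower

open Groth.Agent.Lib.BrEtNbhdH3 Groth.Agent.Lib.HensBranchesH3 EGA4loc
  Groth.Agent.Lib.HenselizationH3

attribute [local instance] Algebra.TensorProduct.rightAlgebra

/-- along a flat local homomorphism `A → B`, a strictly essentially étale local `A`-algebra has at
most `numBranches B` minimal primes -/
theorem encard_minimalPrimes_le_numBranches_of_flat (A B : Type u) [CommRing A]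
    [IsLocalRing A] [CommRing B] [IsLocalRing B] [Algebra A B] [IsLocalHom (algebraMap A B)]
    [Module.Flat A B]
    (C : Type u) [CommRing C] [Algebra A C] [Algebra.Etale A C] (ρ : C →ₐ[A] ResidueField A) :
    (minimalPrimes (Localization.AtPrime (RingHom.ker ρ))).encard ≤ Brnch.numBranches B := by
  -- the point of `B ⊗ C`
  let μ : ResidueField A →ₐ[A] ResidueField B :=
    { ResidueField.map (algebraMap A B) with
      commutes' := fun a => by
        show ResidueField.map (algebraMap A B) (residue A a) = _
        rw [ResidueField.map_residue]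
        rfl }
  let ρ' : B ⊗[A] C →ₐ[B] ResidueField B :=
    Algebra.TensorProduct.lift (Algebra.ofId B (ResidueField B)) (μ.comp ρ)
      (fun _ _ => Commute.all _ _)
  have hρ'C : ∀ c : C, ρ' (algebraMap C (B ⊗[A] C) c) = μ (ρ c) := by
    intro c
    show ρ' ((1 : B) ⊗ₜ[A] c) = _
    simp [ρ']
  have hr2' : RingHom.ker ρ = (RingHom.ker ρ').comap (algebraMap C (B ⊗[A] C)) := by
    ext c
    rw [Ideal.mem_comap, RingHom.mem_ker, RingHom.mem_ker, hρ'C]
    constructor
    · intro h
      rw [h, map_zero]
    · intro h
      exact (map_eq_zero_iff μ (RingHom.injective μ.toRingHom)).mp h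
  -- `(B ⊗ C)_r` is realised by an index
  obtain ⟨k, ⟨ε⟩⟩ := exists_idx (R := B) (B ⊗[A] C) ρ'
  have h2 : (minimalPrimes (Localization.AtPrime (RingHom.ker ρ'))).encard ≤
      Brnch.numBranches B := by
    rw [numBranches_eq_iSup B, encard_minimalPrimes_eq_of_ringEquiv ε.toRingEquiv]
    exact le_iSup (fun i : Idx B => (minimalPrimes i.A).encard) k
  -- `C_{q₀} → (B ⊗ C)_r` is faithfully flat
  haveI hflC : Module.Flat C (B ⊗[A] C) :=
    Module.Flat.of_linearEquiv (Algebra.TensorProduct.commRight A C B).symm.toLinearEquiv
  have hflat1 : (Localization.localRingHom (RingHom.ker ρ) (RingHom.ker ρ')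
      (algebraMap C (B ⊗[A] C)) hr2').Flat :=
    RingHom.Flat.localRingHom (RingHom.flat_algebraMap_iff.mpr hflC) (RingHom.ker ρ')
      (RingHom.ker ρ) hr2'
  have h1 : (minimalPrimes (Localization.AtPrime (RingHom.ker ρ))).encard ≤
      (minimalPrimes (Localization.AtPrime (RingHom.ker ρ'))).encard := by
    letI := (Localization.localRingHom (RingHom.ker ρ) (RingHom.ker ρ')
      (algebraMap C (B ⊗[A] C)) hr2').toAlgebra
    haveI : Module.Flat (Localization.AtPrime (RingHom.ker ρ))
      (Localization.AtPrime (RingHom.ker ρ')) := hflat1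
    haveI : IsLocalHom (algebraMap (Localization.AtPrime (RingHom.ker ρ))
        (Localization.AtPrime (RingHom.ker ρ'))) :=
      Localization.isLocalHom_localRingHom _ _ _ hr2'
    haveI : Module.FaithfullyFlat (Localization.AtPrime (RingHom.ker ρ))
        (Localization.AtPrime (RingHom.ker ρ')) :=
      Module.FaithfullyFlat.of_flat_of_isLocalHom
    have := card_minimalPrimes_le_of_faithfullyFlat (S := Localization.AtPrime (RingHom.ker ρ))
      (B := Localization.AtPrime (RingHom.ker ρ'))
    rwa [ENat.card_coe_set_eq, ENat.card_coe_set_eq] at this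
  exact h1.trans h2

/-- the number of branches does not decrease along flat local homomorphisms -/
theorem numBranches_le_of_flat (A B : Type u) [CommRing A]
    [IsLocalRing A] [CommRing B] [IsLocalRing B] [Algebra A B] [IsLocalHom (algebraMap A B)]
    [Module.Flat A B] : Brnch.numBranches A ≤ Brnch.numBranches B := by
  rw [numBranches_eq_iSup A]
  refine iSup_le fun i => ?_
  exact encard_minimalPrimes_le_numBranches_of_flat A B i.C i.pt

end Lower

end Groth.Agent.Lib.HensSmoothH3
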