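import Mathlib
import Groth.Agent.Lib.HensSmooth3_helper3
import Groth.Agent.Lib.BrEtNbhd1_helper3
import Groth.Agent.Lib.HensBranches6_helper3
import Groth.Agent.Lib.QuotBaseChange_helper3

/-!
# Branches of a quotient of a local ring through the essentially étale local algebras (helper3)

For a local ring `C` and an ideal `I ≤ m_C`, the number of (geometric) branches of `C ⧸ I` is the
supremum of the numbers of minimal primes of `B ⧸ I B`, `B` running over the (strictly)
essentially étale local `C`-algebras.
-/

set_option autoImplicit false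
set_option maxSynthPendingDepth 3
universe u

namespace Groth.Agent.Lib.FibBranchH3

open TensorProduct IsLocalRing Polynomial

section Equiv

open Groth.Agent.Lib.SmoothUnibranchH3 Groth.Agent.Lib.HensSmoothH3

theorem numGeomBranches_le_of_ringEquiv {A B : Type u} [CommRing A] [IsLocalRing A] [CommRing B]
    [IsLocalRing B] (e : A ≃+* B) : Brnch.numGeomBranches A ≤ Brnch.numGeomBranches B := by
  letI := e.toRingHom.toAlgebra
  haveI : IsLocalHom (algebraMap A B) := by
    refine ⟨fun a ha => ?_⟩
    have := ha.map e.symm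
    rwa [show e.symm (algebraMap A B a) = a from e.symm_apply_apply a] at this
  haveI : Module.Flat A B := RingHom.Flat.of_bijective (f := e.toRingHom) e.bijective
  exact numGeomBranches_le_of_flat A B

theorem numGeomBranches_eq_of_ringEquiv {A B : Type u} [CommRing A] [IsLocalRing A] [CommRing B]
    [IsLocalRing B] (e : A ≃+* B) : Brnch.numGeomBranches A = Brnch.numGeomBranches B :=
  le_antisymm (numGeomBranches_le_of_ringEquiv e) (numGeomBranches_le_of_ringEquiv e.symm)

theorem numBranches_le_of_ringEquiv {A B : Type u} [CommRing A] [IsLocalRing A] [CommRing B]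
    [IsLocalRing B] (e : A ≃+* B) : Brnch.numBranches A ≤ Brnch.numBranches B := by
  letI := e.toRingHom.toAlgebra
  haveI : IsLocalHom (algebraMap A B) := by
    refine ⟨fun a ha => ?_⟩
    have := ha.map e.symm
    rwa [show e.symm (algebraMap A B a) = a from e.symm_apply_apply a] at this
  haveI : Module.Flat A B := RingHom.Flat.of_bijective (f := e.toRingHom) e.bijective
  exact numBranches_le_of_flat A B

theorem numBranches_eq_of_ringEquiv {A B : Type u} [CommRing A] [IsLocalRing A] [CommRing B]
    [IsLocalRing B] (e : A ≃+* B) : Brnch.numBranches A = Brnch.numBranches B :=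
  le_antisymm (numBranches_le_of_ringEquiv e) (numBranches_le_of_ringEquiv e.symm)

end Equiv

section QuotCount

open Groth.Agent.Lib.HensBranchesH3 Groth.Agent.Lib.IndEtaleH3

variable (A : Type u) [CommRing A] [IsLocalRing A]
  (S : Type u) [CommRing S] [HenselianLocalRing S] [Algebra A S] [Module.FaithfullyFlat A S]
  [IsLocalHom (algebraMap A S)]

theorem map_le_maximalIdeal_of_le (I : Ideal A) (hI : I ≤ maximalIdeal A) :
    I.map (algebraMap A S) ≤ maximalIdeal S :=
  (Ideal.map_mono hI).trans (((local_hom_TFAE (algebraMap A S)).out 0 2).mp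
    (inferInstance : IsLocalHom (algebraMap A S)))

/-- The geometric count for the quotient by an ideal. -/
theorem card_minimalPrimes_quotient_strict_ideal (hie : EtPBC.IsIndEtale A S)
    [IsSepClosed (ResidueField S)]
    (halg : ∀ s : S, ∃ p : A[X], p.Monic ∧
      Polynomial.eval₂ (algebraMap A S) s p ∈ maximalIdeal S)
    (I : Ideal A) (hI : I ≤ maximalIdeal A) [IsLocalRing (A ⧸ I)] :
    ENat.card (minimalPrimes (S ⧸ I.map (algebraMap A S))) = Brnch.numGeomBranches (A ⧸ I) := by
  have hJ := map_le_maximalIdeal_of_le A S I hI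
  haveI := Groth.Agent.Lib.UnibranchH3.isLocalRing_quotient (I.map (algebraMap A S)) hJ
  haveI : HenselianLocalRing (S ⧸ I.map (algebraMap A S)) := Groth.Agent.S0505.result S _
  haveI : Module.FaithfullyFlat (A ⧸ I) (S ⧸ I.map (algebraMap A S)) := faithfullyFlat_quotient I
  haveI : IsLocalHom (algebraMap (A ⧸ I) (S ⧸ I.map (algebraMap A S))) :=
    ⟨fun a h => Groth.Agent.Lib.UnibranchH3.isUnit_of_isUnit_algebraMap_of_faithfullyFlat h⟩
  have hie' : EtPBC.IsIndEtale (A ⧸ I) (S ⧸ I.map (algebraMap A S)) := isIndEtale_quotient hie I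
  haveI : IsSepClosed (ResidueField (S ⧸ I.map (algebraMap A S))) :=
    Groth.Agent.Lib.UnibranchH3.isSepClosed_residueField_quotient _ hJ
  have halg' : ∀ s : S ⧸ I.map (algebraMap A S), ∃ q : (A ⧸ I)[X], q.Monic ∧
      Polynomial.eval₂ (algebraMap (A ⧸ I) (S ⧸ I.map (algebraMap A S))) s q ∈
        maximalIdeal (S ⧸ I.map (algebraMap A S)) := by
    intro s
    obtain ⟨s, rfl⟩ := Ideal.Quotient.mk_surjective s
    obtain ⟨q, hq, hqs⟩ := halg s
    refine ⟨q.map (Ideal.Quotient.mk I), hq.map _, ?_⟩
    rw [Polynomial.eval₂_map]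
    have h1 : (algebraMap (A ⧸ I) (S ⧸ I.map (algebraMap A S))).comp (Ideal.Quotient.mk I) =
        (Ideal.Quotient.mk (I.map (algebraMap A S))).comp (algebraMap A S) := by
      ext a
      rfl
    rw [h1, ← Polynomial.hom_eval₂]
    exact Groth.Agent.Lib.UnibranchH3.mk_mem_maximalIdeal_quotient (I.map (algebraMap A S)) hJ _ hqs
  exact card_minimalPrimes_eq_numGeomBranches (A ⧸ I) (S ⧸ I.map (algebraMap A S)) hie' halg'

/-- The count for the quotient by an ideal. -/
theorem card_minimalPrimes_quotient_ideal (hie : EtPBC.IsIndEtale A S)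
    (hres : ∀ s : S, ∃ a : A, s - algebraMap A S a ∈ maximalIdeal S)
    (I : Ideal A) (hI : I ≤ maximalIdeal A) [IsLocalRing (A ⧸ I)] :
    ENat.card (minimalPrimes (S ⧸ I.map (algebraMap A S))) = Brnch.numBranches (A ⧸ I) := by
  have hJ := map_le_maximalIdeal_of_le A S I hI
  haveI := Groth.Agent.Lib.UnibranchH3.isLocalRing_quotient (I.map (algebraMap A S)) hJ
  haveI : HenselianLocalRing (S ⧸ I.map (algebraMap A S)) := Groth.Agent.S0505.result S _
  haveI : Module.FaithfullyFlat (A ⧸ I) (S ⧸ I.map (algebraMap A S)) := faithfullyFlat_quotient I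
  haveI : IsLocalHom (algebraMap (A ⧸ I) (S ⧸ I.map (algebraMap A S))) :=
    ⟨fun a h => Groth.Agent.Lib.UnibranchH3.isUnit_of_isUnit_algebraMap_of_faithfullyFlat h⟩
  have hie' : EtPBC.IsIndEtale (A ⧸ I) (S ⧸ I.map (algebraMap A S)) := isIndEtale_quotient hie I
  have hres' : ∀ s : S ⧸ I.map (algebraMap A S), ∃ d : A ⧸ I,
      s - algebraMap (A ⧸ I) (S ⧸ I.map (algebraMap A S)) d ∈
        maximalIdeal (S ⧸ I.map (algebraMap A S)) := by
    intro s
    obtain ⟨s, rfl⟩ := Ideal.Quotient.mk_surjective s
    obtain ⟨a, ha⟩ := hres s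
    refine ⟨Ideal.Quotient.mk _ a, ?_⟩
    have := Groth.Agent.Lib.UnibranchH3.mk_mem_maximalIdeal_quotient (I.map (algebraMap A S)) hJ _ ha
    rw [map_sub] at this
    exact this
  exact card_minimalPrimes_eq_numBranches (A ⧸ I) (S ⧸ I.map (algebraMap A S)) hie' hres'

end QuotCount

section LemmaQ

open Groth.Agent.Lib.HensBranchesH3 Groth.Agent.Lib.IndEtaleH3

variable {A B : Type u} [CommRing A] [CommRing B] [Algebra A B] [Module.FaithfullyFlat A B]

/-- minimal primes along the map of quotients induced by a faithfully flat map -/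
theorem quotientMap_minimalPrimes (J : Ideal A) (K : Ideal B) (hK : K = J.map (algebraMap A B))
    (h : J ≤ K.comap (algebraMap A B)) :
    (∀ P ∈ minimalPrimes (B ⧸ K),
      P.comap (Ideal.quotientMap K (algebraMap A B) h) ∈ minimalPrimes (A ⧸ J)) ∧
    (∀ q ∈ minimalPrimes (A ⧸ J), ∃ P ∈ minimalPrimes (B ⧸ K),
      P.comap (Ideal.quotientMap K (algebraMap A B) h) = q) := by
  subst hK
  haveI : Module.FaithfullyFlat (A ⧸ J) (B ⧸ J.map (algebraMap A B)) := faithfullyFlat_quotient J
  have hφ : Ideal.quotientMap (J.map (algebraMap A B)) (algebraMap A B) h =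
      algebraMap (A ⧸ J) (B ⧸ J.map (algebraMap A B)) := by
    apply Ideal.Quotient.ringHom_ext
    ext a
    rfl
  rw [hφ]
  refine ⟨fun P hP => ?_, fun q hq => ?_⟩
  · haveI : Module.Flat (A ⧸ J) (B ⧸ J.map (algebraMap A B)) := inferInstance
    exact comap_mem_minimalPrimes_of_flat (S := A ⧸ J) P hP
  · exact exists_minimalPrimes_comap_eq_of_faithfullyFlat (S := A ⧸ J)
      (B := B ⧸ J.map (algebraMap A B)) q hq

end LemmaQ

section Strict

open Groth.Agent.Lib.StrictHens Groth.Agent.Lib.BrEtNbhdH3 Groth.Agent.Lib.HensBranchesH3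

variable (C : Type u) [CommRing C] [IsLocalRing C] (I : Ideal C)

/-- **the number of geometric branches of `C ⧸ I` as a supremum over the essentially étale local
`C`-algebras** -/
theorem numGeomBranches_quotient_eq_iSup (hI : I ≤ maximalIdeal C) [IsLocalRing (C ⧸ I)] :
    Brnch.numGeomBranches (C ⧸ I) =
      ⨆ j : Idx C (SeparableClosure (ResidueField C)),
        (minimalPrimes (j.A ⧸ I.map (algebraMap C j.A))).encard := by
  haveI := isStrictHenselization_shens (R := C)
  haveI hS : HenselianLocalRing (SHens C) := Hensel.IsStrictHenselization.henselian C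
  haveI := faithfullyFlat_of_isStrictHenselization (R := C) (SHens C)
  have hie := isIndEtale_of_isStrictHenselization (R := C) (SHens C)
  haveI hsc : IsSepClosed (ResidueField (SHens C)) :=
    (Hensel.IsStrictHenselization.isSepClosure (R := C) (S := SHens C)).sep_closed
  have key := card_minimalPrimes_quotient_strict_ideal C (SHens C) hie
    (exists_monic_eval₂_mem_of_isStrictHenselization C (SHens C)) I hI
  rw [← key, ENat.card_coe_set_eq]
  obtain ⟨K, hKdef⟩ : ∃ K : Ideal (SHens C), K = I.map (algebraMap C (SHens C)) := ⟨_, rfl⟩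
  rw [← hKdef]
  have hK : ∀ j : Idx C (SeparableClosure (ResidueField C)),
      K = (I.map (algebraMap C j.A)).map (ofH j) := by
    intro j
    rw [hKdef, Ideal.map_map]
    congr 1
    ext c
    exact (ofH_algebraMap j c).symm
  have hle : ∀ j : Idx C (SeparableClosure (ResidueField C)),
      I.map (algebraMap C j.A) ≤ K.comap (ofH j) := by
    intro j
    rw [← Ideal.map_le_iff_le_comap, ← hK j]
  apply encard_minimalPrimes_eq_iSup
    (fun j : Idx C (SeparableClosure (ResidueField C)) => j.A ⧸ I.map (algebraMap C j.A))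
    (fun j => Ideal.quotientMap K (ofH j) (hle j))
  · intro j P hP
    letI := algIdx j
    haveI : Module.FaithfullyFlat j.A (SH C (SeparableClosure (ResidueField C))) :=
      faithfullyFlat_idx j
    exact (quotientMap_minimalPrimes (A := j.A) (B := SHens C) (I.map (algebraMap C j.A)) K
      (hK j) (hle j)).1 P hP
  · intro j q hq
    letI := algIdx j
    haveI : Module.FaithfullyFlat j.A (SH C (SeparableClosure (ResidueField C))) :=
      faithfullyFlat_idx j
    exact (quotientMap_minimalPrimes (A := j.A) (B := SHens C) (I.map (algebraMap C j.A)) K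
      (hK j) (hle j)).2 q hq
  · intro s
    classical
    obtain ⟨j, hj⟩ := exists_range_ofH_sh C
      (s.image (Function.surjInv (Ideal.Quotient.mk_surjective (I := K))))
    refine ⟨j, fun x hx => ?_⟩
    have hx' : Function.surjInv (Ideal.Quotient.mk_surjective (I := K)) x ∈
        ((s.image (Function.surjInv (Ideal.Quotient.mk_surjective (I := K))) : Finset _) :
          Set (SHens C)) := by
      rw [Finset.coe_image]
      exact ⟨x, hx, rfl⟩
    obtain ⟨a, ha⟩ := hj hx'
    refine ⟨Ideal.Quotient.mk _ a, ?_⟩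
    rw [Ideal.quotientMap_mk, ha]
    exact Function.surjInv_eq _ x

end Strict

section Hens

open Groth.Agent.Lib.HenselizationH3 Groth.Agent.Lib.BrEtNbhdH3 Groth.Agent.Lib.HensBranchesH3

variable (C : Type u) [CommRing C] [IsLocalRing C] (I : Ideal C)

/-- **the number of branches of `C ⧸ I` as a supremum over the strictly essentially étale local
`C`-algebras** -/
theorem numBranches_quotient_eq_iSup (hI : I ≤ maximalIdeal C) [IsLocalRing (C ⧸ I)] :
    Brnch.numBranches (C ⧸ I) =
      ⨆ j : Idx C, (minimalPrimes (j.A ⧸ I.map (algebraMap C j.A))).encard := by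
  haveI := isHenselization_hens (R := C)
  haveI hS : HenselianLocalRing (Hens C) := Hensel.IsHenselization.henselian C
  haveI := faithfullyFlat_of_isHenselization (R := C) (Hens C)
  have hie := Groth.Agent.Lib.UnibranchH3.isIndEtale_of_isHenselization C (Hens C)
  have key := card_minimalPrimes_quotient_ideal C (Hens C) hie
    (fun s => exists_sub_mem_of_isHenselization C (Hens C) s) I hI
  rw [← key, ENat.card_coe_set_eq]
  obtain ⟨K, hKdef⟩ : ∃ K : Ideal (Hens C), K = I.map (algebraMap C (Hens C)) := ⟨_, rfl⟩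
  rw [← hKdef]
  have hK : ∀ j : Idx C, K = (I.map (algebraMap C j.A)).map (ofH j) := by
    intro j
    rw [hKdef, Ideal.map_map]
    congr 1
    ext c
    exact (ofH_algebraMap j c).symm
  have hle : ∀ j : Idx C, I.map (algebraMap C j.A) ≤ K.comap (ofH j) := by
    intro j
    rw [← Ideal.map_le_iff_le_comap, ← hK j]
  apply encard_minimalPrimes_eq_iSup
    (fun j : Idx C => j.A ⧸ I.map (algebraMap C j.A))
    (fun j => Ideal.quotientMap K (ofH j) (hle j))
  · intro j P hP
    letI := algIdx j
    haveI : Module.FaithfullyFlat j.A (Hens C) := faithfullyFlat_idx j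
    exact (quotientMap_minimalPrimes (A := j.A) (B := Hens C) (I.map (algebraMap C j.A)) K
      (hK j) (hle j)).1 P hP
  · intro j q hq
    letI := algIdx j
    haveI : Module.FaithfullyFlat j.A (Hens C) := faithfullyFlat_idx j
    exact (quotientMap_minimalPrimes (A := j.A) (B := Hens C) (I.map (algebraMap C j.A)) K
      (hK j) (hle j)).2 q hq
  · intro s
    classical
    obtain ⟨j, hj⟩ := exists_range_ofH_hens C
      (s.image (Function.surjInv (Ideal.Quotient.mk_surjective (I := K))))
    refine ⟨j, fun x hx => ?_⟩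
    have hx' : Function.surjInv (Ideal.Quotient.mk_surjective (I := K)) x ∈
        ((s.image (Function.surjInv (Ideal.Quotient.mk_surjective (I := K))) : Finset _) :
          Set (Hens C)) := by
      rw [Finset.coe_image]
      exact ⟨x, hx, rfl⟩
    obtain ⟨a, ha⟩ := hj hx'
    refine ⟨Ideal.Quotient.mk _ a, ?_⟩
    rw [Ideal.quotientMap_mk, ha]
    exact Function.surjInv_eq _ x

end Hens

end Groth.Agent.Lib.FibBranchH3
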