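import Mathlib
import Groth.Prelude.Def_Brnch
import Groth.Prelude.Def_Curv2
import Groth.Agent.Lib.BranchBC1_helper3
import Groth.Agent.Lib.FibBranch1_helper3
import Groth.Agent.Lib.BrEtNbhd1_helper3
import Groth.Agent.Lib.ConnLocal2_helper3

/-!
# Geometric branches and base field extensions, scheme level (helper3)

For a `k`-scheme `X`, a field extension `K/k` and a point `y` of `X_K` over `x`, the local rings of
`X` at `x` and of `X_K` at `y` have the same number of geometric branches.
APPEND-ONLY once landed.
-/

set_option autoImplicit false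
set_option maxSynthPendingDepth 3
universe u

namespace Groth.Agent.Lib.BranchBCH3

open AlgebraicGeometry CategoryTheory Limits IsLocalRing TensorProduct

/-- flat morphisms do not decrease the number of geometric branches -/
theorem numGeomBranchesAt_le_of_flat {W V : Scheme.{u}} (h : W ⟶ V) [Flat h] (w : W) :
    Brnch.numGeomBranchesAt V (h.base w) ≤ Brnch.numGeomBranchesAt W w := by
  letI : Algebra (V.presheaf.stalk (h.base w)) (W.presheaf.stalk w) :=
    (h.stalkMap w).hom.toAlgebra
  haveI : IsLocalHom (algebraMap (V.presheaf.stalk (h.base w)) (W.presheaf.stalk w)) :=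
    inferInstanceAs (IsLocalHom (h.stalkMap w).hom)
  haveI : Module.Flat (V.presheaf.stalk (h.base w)) (W.presheaf.stalk w) := Flat.stalkMap h w
  exact Groth.Agent.Lib.SmoothUnibranchH3.numGeomBranches_le_of_flat _ _

/-- the number of geometric branches at a point of an affine scheme -/
theorem numGeomBranchesAt_Spec (R : CommRingCat.{u}) (p : PrimeSpectrum R) :
    Brnch.numGeomBranchesAt (Spec R) p = Brnch.numGeomBranches (Localization.AtPrime p.asIdeal) :=
  Groth.Agent.Lib.FibBranchH3.numGeomBranches_eq_of_ringEquiv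
    (Spec.stalkIso R p).commRingCatIsoToRingEquiv

/-- the key inequality, for an abstract strictly henselian flat "neighbourhood" -/
theorem numGeomBranchesAt_le_card (k : Type u) [Field k] (K : Type u) [Field K] [Algebra k K]
    (X : Scheme.{u}) (f : X ⟶ Spec (CommRingCat.of k))
    (S : Type u) [CommRing S] [HenselianLocalRing S] [IsSepClosed (ResidueField S)] [Algebra k S]
    (g : Spec (CommRingCat.of S) ⟶ X) [Flat g]
    (hg : g ≫ f = Spec.map (CommRingCat.ofHom (algebraMap k S)))
    (y : ↥(pullback f (Spec.map (CommRingCat.ofHom (algebraMap k K)))))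
    (hy : (pullback.fst f (Spec.map (CommRingCat.ofHom (algebraMap k K)))).base y =
      g.base (closedPoint S)) :
    Brnch.numGeomBranchesAt (pullback f (Spec.map (CommRingCat.ofHom (algebraMap k K)))) y ≤
      ENat.card (minimalPrimes S) := by
  have big : IsPullback
      (Spec.map (CommRingCat.ofHom
        (Algebra.TensorProduct.includeLeftRingHom : S →+* S ⊗[k] K)))
      (Spec.map (CommRingCat.ofHom
        (Algebra.TensorProduct.includeRight : K →ₐ[k] S ⊗[k] K).toRingHom))
      (Spec.map (CommRingCat.ofHom (algebraMap k S)))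
      (Spec.map (CommRingCat.ofHom (algebraMap k K))) :=
    isPullback_SpecMap_of_isPushout _ _ _ _ (CommRingCat.isPushout_tensorProduct k S K)
  rw [← hg] at big
  have t0 := IsPullback.of_hasPullback f (Spec.map (CommRingCat.ofHom (algebraMap k K)))
  have sq := IsPullback.of_bot' big t0
  obtain ⟨h, hhdef⟩ : ∃ h : Spec (CommRingCat.of (S ⊗[k] K)) ⟶
      pullback f (Spec.map (CommRingCat.ofHom (algebraMap k K))),
      h = t0.lift (Spec.map (CommRingCat.ofHom
        (Algebra.TensorProduct.includeLeftRingHom : S →+* S ⊗[k] K)) ≫ g)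
        (Spec.map (CommRingCat.ofHom
          (Algebra.TensorProduct.includeRight : K →ₐ[k] S ⊗[k] K).toRingHom))
        (by rw [Category.assoc, big.w]) := ⟨_, rfl⟩
  rw [← hhdef] at sq
  haveI : Flat h := MorphismProperty.of_isPullback sq ‹Flat g›
  obtain ⟨w, hw1, hw2⟩ := Scheme.exists_preimage_of_isPullback sq (closedPoint S) y
    hy.symm
  have h1 := numGeomBranchesAt_le_of_flat h w
  rw [hw2] at h1
  refine h1.trans ?_
  rw [numGeomBranchesAt_Spec]
  apply numGeomBranches_localization_le_of_strictHenselian k S K
  exact congrArg PrimeSpectrum.asIdeal hw1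

theorem main7656 (k : Type u) [Field k] (X : Scheme.{u}) [X.Over (Spec (CommRingCat.of k))]
    (K : Type u) [Field K] [Algebra k K] (y : ↥(Curv2.bc k X K)) :
    Brnch.numGeomBranchesAt X ((Curv2.bcFst k X K).base y) =
      Brnch.numGeomBranchesAt (Curv2.bc k X K) y := by
  apply le_antisymm
  · haveI : Flat (Spec.map (CommRingCat.ofHom (algebraMap k K))) := by
      rw [Flat.SpecMap_iff]
      exact RingHom.flat_algebraMap_iff.mpr inferInstance
    exact numGeomBranchesAt_le_of_flat (Curv2.bcFst k X K) y
  · obtain ⟨x, hx⟩ : ∃ x : X, x = (Curv2.bcFst k X K).base y := ⟨_, rfl⟩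
    rw [← hx]
    obtain ⟨φ, hφ⟩ : ∃ φ : CommRingCat.of k ⟶ X.presheaf.stalk x,
        Spec.map φ = X.fromSpecStalk x ≫ (X ↘ Spec (CommRingCat.of k)) :=
      ⟨Spec.preimage _, Spec.map_preimage _⟩
    letI algS : Algebra k (Groth.Agent.Lib.StrictHens.SHens (X.presheaf.stalk x)) :=
      ((algebraMap (X.presheaf.stalk x)
        (Groth.Agent.Lib.StrictHens.SHens (X.presheaf.stalk x))).comp φ.hom).toAlgebra
    haveI : IsSepClosed (ResidueField (Groth.Agent.Lib.StrictHens.SHens (X.presheaf.stalk x))) :=
      (Groth.Agent.Lib.StrictHens.isSepClosure_residue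
        (R := X.presheaf.stalk x)
        (K := SeparableClosure (ResidueField (X.presheaf.stalk x)))).sep_closed
    haveI : Flat (X.fromSpecStalk x) := Groth.Agent.Lib.ConnLocalH3.flat_fromSpecStalk X x
    haveI : Flat (Spec.map (CommRingCat.ofHom (algebraMap (X.presheaf.stalk x)
        (Groth.Agent.Lib.StrictHens.SHens (X.presheaf.stalk x))))) := by
      rw [Flat.SpecMap_iff]
      exact RingHom.flat_algebraMap_iff.mpr inferInstance
    have hg : (Spec.map (CommRingCat.ofHom (algebraMap (X.presheaf.stalk x)
        (Groth.Agent.Lib.StrictHens.SHens (X.presheaf.stalk x)))) ≫ X.fromSpecStalk x) ≫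
          (X ↘ Spec (CommRingCat.of k)) =
        Spec.map (CommRingCat.ofHom (algebraMap k
          (Groth.Agent.Lib.StrictHens.SHens (X.presheaf.stalk x)))) := by
      rw [Category.assoc, ← hφ, ← Spec.map_comp]
      rfl
    have hy : (pullback.fst (X ↘ Spec (CommRingCat.of k))
        (Spec.map (CommRingCat.ofHom (algebraMap k K)))).base y =
        (Spec.map (CommRingCat.ofHom (algebraMap (X.presheaf.stalk x)
          (Groth.Agent.Lib.StrictHens.SHens (X.presheaf.stalk x)))) ≫ X.fromSpecStalk x).base
          (closedPoint (Groth.Agent.Lib.StrictHens.SHens (X.presheaf.stalk x))) := by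
      rw [Scheme.Hom.comp_base, TopCat.comp_app]
      have h1 : (Spec.map (CommRingCat.ofHom (algebraMap (X.presheaf.stalk x)
          (Groth.Agent.Lib.StrictHens.SHens (X.presheaf.stalk x))))).base
          (closedPoint (Groth.Agent.Lib.StrictHens.SHens (X.presheaf.stalk x))) =
          closedPoint (X.presheaf.stalk x) :=
        IsLocalRing.comap_closedPoint (algebraMap (X.presheaf.stalk x)
          (Groth.Agent.Lib.StrictHens.SHens (X.presheaf.stalk x)))
      rw [h1, Scheme.fromSpecStalk_closedPoint]
      exact hx.symm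
    have h2 := numGeomBranchesAt_le_card k K X (X ↘ Spec (CommRingCat.of k))
      (Groth.Agent.Lib.StrictHens.SHens (X.presheaf.stalk x))
      (Spec.map (CommRingCat.ofHom (algebraMap (X.presheaf.stalk x)
        (Groth.Agent.Lib.StrictHens.SHens (X.presheaf.stalk x)))) ≫ X.fromSpecStalk x) hg y hy
    refine h2.trans (le_of_eq ?_)
    haveI := Groth.Agent.Lib.StrictHens.isStrictHenselization_shens (R := X.presheaf.stalk x)
    exact Groth.Agent.S9238.result (X.presheaf.stalk x)
      (Groth.Agent.Lib.StrictHens.SHens (X.presheaf.stalk x))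

end Groth.Agent.Lib.BranchBCH3
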