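import Mathlib

/-!
# Counting residue-field embeddings of a finite algebra over a local ring (helper6), part 1
-/

set_option autoImplicit false
universe u

namespace Groth.Agent.Lib.Branches

open IsLocalRing

theorem enat_card_sigma_le {ι : Type u} [Fintype ι] (β : ι → Type u) (c : ι → ℕ∞)
    (h : ∀ i, ENat.card (β i) ≤ c i) : ENat.card (Σ i, β i) ≤ ∑ i, c i := by
  classical
  by_cases htop : ∃ i, c i = ⊤
  · obtain ⟨i, hi⟩ := htop
    have : ∑ i, c i = ⊤ := ENat.sum_eq_top.2 ⟨i, Finset.mem_univ _, hi⟩
    rw [this]; exact le_top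
  · push_neg at htop
    have hfin : ∀ i, Finite (β i) := fun i =>
      ENat.card_lt_top.1 (lt_of_le_of_lt (h i) (lt_top_iff_ne_top.2 (htop i)))
    haveI : ∀ i, Fintype (β i) := fun i => Fintype.ofFinite _
    rw [ENat.card_eq_coe_fintype_card, Fintype.card_sigma, Nat.cast_sum]
    apply Finset.sum_le_sum
    intro i _
    rw [← ENat.card_eq_coe_fintype_card]
    exact h i

variable {A : Type u} [CommRing A] [IsLocalRing A] {B : Type u} [CommRing B] [Algebra A B]

/-- maximal ideals of a finite algebra over a local ring lie over the maximal ideal -/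
theorem algebraMap_mem_of_mem_maximalIdeal [Module.Finite A B] (m' : Ideal B) [m'.IsMaximal]
    {a : A} (ha : a ∈ maximalIdeal A) : algebraMap A B a ∈ m' := by
  haveI : Algebra.IsIntegral A B := inferInstance
  haveI : (m'.comap (algebraMap A B)).IsMaximal :=
    Ideal.isMaximal_comap_of_isIntegral_of_isMaximal m'
  have h1 : m'.comap (algebraMap A B) = maximalIdeal A := IsLocalRing.eq_maximalIdeal ‹_›
  have h2 : a ∈ m'.comap (algebraMap A B) := by rw [h1]; exact ha
  exact h2

theorem isLocalHom_algebraMap_quotient [Module.Finite A B] (m' : Ideal B) [m'.IsMaximal] :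
    IsLocalHom (algebraMap A (B ⧸ m')) := by
  constructor
  intro a ha
  by_contra hna
  have h1 : a ∈ maximalIdeal A := (IsLocalRing.mem_maximalIdeal a).2 hna
  have h2 := algebraMap_mem_of_mem_maximalIdeal m' h1
  have h3 : algebraMap A (B ⧸ m') a = 0 := by
    rw [IsScalarTower.algebraMap_apply A B (B ⧸ m'), Ideal.Quotient.algebraMap_eq,
      Ideal.Quotient.eq_zero_iff_mem]
    exact h2
  rw [h3] at ha
  haveI : Nontrivial (B ⧸ m') := Ideal.Quotient.nontrivial_iff.2 (Ideal.IsMaximal.ne_top ‹_›)
  exact not_isUnit_zero ha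

/-- The number of embeddings over the residue field of `A` of the residue field of a maximal ideal
of a finite `A`-algebra into a field is bounded by the length of that residue field over `A`. -/
theorem card_emb_le_length [Module.Finite A B] (m' : Ideal B) [m'.IsMaximal]
    (Ω : Type u) [Field Ω] (ι : ResidueField A →+* Ω) :
    ENat.card {σ : B ⧸ m' →+* Ω // σ.comp (algebraMap A (B ⧸ m')) = ι.comp (residue A)} ≤
      Module.length A (B ⧸ m') := by
  letI : Field (B ⧸ m') := Ideal.Quotient.field m'
  haveI := isLocalHom_algebraMap_quotient (A := A) m'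
  letI : Algebra (ResidueField A) (B ⧸ m') :=
    (IsLocalRing.ResidueField.lift (algebraMap A (B ⧸ m'))).toAlgebra
  letI : Algebra (ResidueField A) Ω := ι.toAlgebra
  have hlift : ∀ a : A, algebraMap (ResidueField A) (B ⧸ m') (residue A a) =
      algebraMap A (B ⧸ m') a := fun a =>
    IsLocalRing.ResidueField.lift_residue_apply _ a
  haveI : IsScalarTower A (ResidueField A) (B ⧸ m') :=
    IsScalarTower.of_algebraMap_eq (fun a => (hlift a).symm)
  haveI : Module.Finite A (B ⧸ m') :=
    Module.Finite.of_surjective (Ideal.Quotient.mkₐ A m').toLinearMap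
      (Ideal.Quotient.mkₐ_surjective A m')
  haveI : Module.Finite (ResidueField A) (B ⧸ m') :=
    Module.Finite.of_restrictScalars_finite A (ResidueField A) (B ⧸ m')
  rw [Module.length_eq_of_surjective (S := A) (R := ResidueField A) (M := B ⧸ m')
    IsLocalRing.residue_surjective, Module.length_eq_finrank]
  let F : {σ : B ⧸ m' →+* Ω // σ.comp (algebraMap A (B ⧸ m')) = ι.comp (residue A)} →
      ((B ⧸ m') →ₐ[ResidueField A] Ω) := fun σ =>
    { σ.1 with
      commutes' := by
        intro c
        obtain ⟨a, rfl⟩ := IsLocalRing.residue_surjective c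
        have := congrArg (fun g => g a) σ.2
        simp only [RingHom.comp_apply] at this
        simp only [RingHom.toMonoidHom_eq_coe, OneHom.toFun_eq_coe, MonoidHom.toOneHom_coe,
          MonoidHom.coe_coe]
        rw [hlift, this]
        rfl }
  have hF : Function.Injective F := by
    intro σ τ h
    apply Subtype.ext
    ext x
    exact congrArg (fun g : (B ⧸ m') →ₐ[ResidueField A] Ω => g x) h
  refine le_trans (ENat.card_le_card_of_injective hF) ?_
  have h1 := cardinalMk_algHom (ResidueField A) (B ⧸ m') Ω
  rw [Module.finrank_linearMap_self] at h1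
  rw [ENat.card]
  exact Cardinal.toENat_le_natCast_iff.2 h1

end Groth.Agent.Lib.Branches
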