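import Mathlib
import Groth.Agent.Lib.Branches1_helper6

/-!
# Counting residue-field embeddings of a finite algebra over a local ring (helper6), part 2
-/

set_option autoImplicit false
universe u

namespace Groth.Agent.Lib.Branches

open IsLocalRing

variable {A : Type u} [CommRing A] [IsLocalRing A] {B : Type u} [CommRing B] [Algebra A B]

theorem finite_maximalSpectrum [Module.Finite A B] : Finite (MaximalSpectrum B) := by
  have hfin := Algebra.QuasiFinite.finite_primesOver (R := A) (S := B) (maximalIdeal A)
  haveI : Finite ↥((maximalIdeal A).primesOver B) := hfin.to_subtype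
  haveI : Algebra.IsIntegral A B := inferInstance
  let F : MaximalSpectrum B → ↥((maximalIdeal A).primesOver B) := fun m' =>
    ⟨m'.asIdeal, m'.isMaximal.isPrime, ⟨by
      haveI := m'.isMaximal
      haveI : (m'.asIdeal.comap (algebraMap A B)).IsMaximal :=
        Ideal.isMaximal_comap_of_isIntegral_of_isMaximal m'.asIdeal
      exact (IsLocalRing.eq_maximalIdeal ‹_›).symm⟩⟩
  apply Finite.of_injective F
  intro m₁ m₂ h
  apply MaximalSpectrum.ext
  exact congrArg (fun x : ↥((maximalIdeal A).primesOver B) => x.1) h

/-- The product of the residue fields of `B` has length at most `1 + length (B / A)`. -/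
theorem length_pi_quotient_le [Module.Finite A B] [Fintype (MaximalSpectrum B)] :
    Module.length A (∀ m' : MaximalSpectrum B, B ⧸ m'.asIdeal) ≤
      Module.length A (B ⧸ LinearMap.range (Algebra.linearMap A B)) + 1 := by
  classical
  haveI : ∀ m' : MaximalSpectrum B, m'.asIdeal.IsMaximal := fun m' => m'.isMaximal
  -- the projection
  let π : B →ₗ[A] (∀ m' : MaximalSpectrum B, B ⧸ m'.asIdeal) :=
    LinearMap.pi (fun m' => (Ideal.Quotient.mkₐ A m'.asIdeal).toLinearMap)
  have hπ : ∀ b m', π b m' = Ideal.Quotient.mk m'.asIdeal b := fun b m' => rfl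
  have hπsurj : Function.Surjective π := by
    intro g
    have hcop : Pairwise (Function.onFun IsCoprime (fun m' : MaximalSpectrum B => m'.asIdeal)) := by
      intro m₁ m₂ hne
      exact Ideal.isCoprime_of_isMaximal (fun h => hne (MaximalSpectrum.ext h))
    obtain ⟨x, hx⟩ := Ideal.quotientInfToPiQuotient_surj hcop g
    obtain ⟨b, rfl⟩ := Ideal.Quotient.mk_surjective x
    refine ⟨b, ?_⟩
    rw [← hx]
    rfl
  let ρ : A →ₗ[A] (∀ m' : MaximalSpectrum B, B ⧸ m'.asIdeal) := π ∘ₗ Algebra.linearMap A B
  let D := LinearMap.range ρ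
  -- length of D at most one
  have hD : Module.length A D ≤ 1 := by
    have hker : maximalIdeal A ≤ LinearMap.ker ρ := by
      intro a ha
      rw [LinearMap.mem_ker]
      funext m'
      change Ideal.Quotient.mk m'.asIdeal (algebraMap A B a) = 0
      rw [Ideal.Quotient.eq_zero_iff_mem]
      exact algebraMap_mem_of_mem_maximalIdeal m'.asIdeal ha
    let ρ' : (A ⧸ maximalIdeal A) →ₗ[A] D :=
      Submodule.liftQ (maximalIdeal A) (LinearMap.rangeRestrict ρ) (by
        intro a ha
        rw [LinearMap.mem_ker]
        apply Subtype.ext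
        exact hker ha)
    have hρ' : Function.Surjective ρ' := by
      rintro ⟨_, a, rfl⟩
      exact ⟨Submodule.Quotient.mk a, rfl⟩
    have h1 := Module.length_le_of_surjective ρ' hρ'
    have h2 : Module.length A (A ⧸ maximalIdeal A) = 1 := by
      rw [Module.length_eq_one_iff, isSimpleModule_iff_isCoatom, ← Ideal.isMaximal_def]
      infer_instance
    rw [h2] at h1
    exact h1
  -- additivity
  have hadd := Module.length_eq_add_of_exact (R := A) D.subtype D.mkQ
    (Submodule.injective_subtype D) (Submodule.mkQ_surjective D)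
    (LinearMap.exact_subtype_mkQ D)
  -- P/D is a quotient of B/A
  have hle : LinearMap.range (Algebra.linearMap A B) ≤ Submodule.comap π D := by
    rintro _ ⟨a, rfl⟩
    exact ⟨a, rfl⟩
  let q : (B ⧸ LinearMap.range (Algebra.linearMap A B)) →ₗ[A]
      ((∀ m' : MaximalSpectrum B, B ⧸ m'.asIdeal) ⧸ D) :=
    Submodule.mapQ _ D π hle
  have hq : Function.Surjective q := by
    intro y
    obtain ⟨g, rfl⟩ := Submodule.mkQ_surjective D y
    obtain ⟨b, rfl⟩ := hπsurj g
    exact ⟨Submodule.Quotient.mk b, rfl⟩
  have h3 := Module.length_le_of_surjective q hq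
  rw [hadd, add_comm]
  exact add_le_add h3 hD

theorem card_sigma_emb_le [Module.Finite A B] (Ω : Type u) [Field Ω] (ι : ResidueField A →+* Ω) :
    ENat.card (Σ m' : MaximalSpectrum B,
      {σ : B ⧸ m'.asIdeal →+* Ω // σ.comp (algebraMap A (B ⧸ m'.asIdeal)) = ι.comp (residue A)}) ≤
      Module.length A (B ⧸ LinearMap.range (Algebra.linearMap A B)) + 1 := by
  haveI : Finite (MaximalSpectrum B) := finite_maximalSpectrum (A := A)
  haveI : Fintype (MaximalSpectrum B) := Fintype.ofFinite _
  haveI : ∀ m' : MaximalSpectrum B, m'.asIdeal.IsMaximal := fun m' => m'.isMaximal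
  refine le_trans (enat_card_sigma_le _ (fun m' => Module.length A (B ⧸ m'.asIdeal))
    (fun m' => card_emb_le_length m'.asIdeal Ω ι)) ?_
  rw [← Module.length_pi_of_fintype]
  exact length_pi_quotient_le

end Groth.Agent.Lib.Branches
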