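import Mathlib
import Groth.Agent.Lib.Branches2_helper6

/-!
# Equality case of the branch count inequality (helper6)
-/

set_option autoImplicit false
universe u

namespace Groth.Agent.Lib.Branches

open IsLocalRing

variable {A : Type u} [CommRing A] [IsLocalRing A] {B : Type u} [CommRing B] [Algebra A B]

theorem enat_add_one_le_one_add {a b : ℕ∞} (h : a + 1 ≤ 1 + b) : a ≤ b := by
  induction b using ENat.recTopCoe with
  | top => exact le_top
  | coe b =>
    induction a using ENat.recTopCoe with
    | top => simp at h
    | coe a =>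
      have h' : a + 1 ≤ 1 + b := by exact_mod_cast h
      have : a ≤ b := by omega
      exact_mod_cast this

theorem enat_eq_zero_of_add_eq {a d : ℕ∞} (hd : d ≠ ⊤) (h : d = a + d) : a = 0 := by
  lift d to ℕ using hd
  induction a using ENat.recTopCoe with
  | top => simp at h
  | coe a =>
    have h' : d = a + d := by exact_mod_cast h
    have : a = 0 := by omega
    exact_mod_cast this

/-- If the product of the residue fields has length at least `length (B/A) + 1`, then
`B / A → (∏ B/m') / A` is injective: elements of `B` congruent to an element of `A` modulo every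
maximal ideal lie in the image of `A`. -/
theorem mem_range_of_length_le [Module.Finite A B] [Fintype (MaximalSpectrum B)]
    (hd : Module.length A (B ⧸ LinearMap.range (Algebra.linearMap A B)) ≠ ⊤)
    (hle : Module.length A (B ⧸ LinearMap.range (Algebra.linearMap A B)) + 1 ≤
      Module.length A (∀ m' : MaximalSpectrum B, B ⧸ m'.asIdeal))
    (b : B) (a : A) (hab : ∀ m' : MaximalSpectrum B, b - algebraMap A B a ∈ m'.asIdeal) :
    b ∈ (algebraMap A B).range := by
  classical
  haveI : ∀ m' : MaximalSpectrum B, m'.asIdeal.IsMaximal := fun m' => m'.isMaximal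
  let π : B →ₗ[A] (∀ m' : MaximalSpectrum B, B ⧸ m'.asIdeal) :=
    LinearMap.pi (fun m' => (Ideal.Quotient.mkₐ A m'.asIdeal).toLinearMap)
  have hπ : ∀ b m', π b m' = Ideal.Quotient.mk m'.asIdeal b := fun b m' => rfl
  have hπsurj : Function.Surjective π := by
    intro g
    have hcop : Pairwise (Function.onFun IsCoprime (fun m' : MaximalSpectrum B => m'.asIdeal)) := by
      intro m₁ m₂ hne
      exact Ideal.isCoprime_of_isMaximal (fun h => hne (MaximalSpectrum.ext h))
    obtain ⟨x, hx⟩ := Ideal.quotientInfToPiQuotient_surj hcop g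
    obtain ⟨b, rfl⟩ := Ideal.Quotient.mk_surjective x
    refine ⟨b, ?_⟩
    rw [← hx]
    rfl
  let ρ : A →ₗ[A] (∀ m' : MaximalSpectrum B, B ⧸ m'.asIdeal) := π ∘ₗ Algebra.linearMap A B
  let D := LinearMap.range ρ
  have hD : Module.length A D ≤ 1 := by
    have hker : maximalIdeal A ≤ LinearMap.ker ρ := by
      intro a ha
      rw [LinearMap.mem_ker]
      funext m'
      change Ideal.Quotient.mk m'.asIdeal (algebraMap A B a) = 0
      rw [Ideal.Quotient.eq_zero_iff_mem]
      exact algebraMap_mem_of_mem_maximalIdeal m'.asIdeal ha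
    let ρ' : (A ⧸ maximalIdeal A) →ₗ[A] D :=
      Submodule.liftQ (maximalIdeal A) (LinearMap.rangeRestrict ρ) (by
        intro a ha
        rw [LinearMap.mem_ker]
        apply Subtype.ext
        exact hker ha)
    have hρ' : Function.Surjective ρ' := by
      rintro ⟨_, a, rfl⟩
      exact ⟨Submodule.Quotient.mk a, rfl⟩
    have h1 := Module.length_le_of_surjective ρ' hρ'
    have h2 : Module.length A (A ⧸ maximalIdeal A) = 1 := by
      rw [Module.length_eq_one_iff, isSimpleModule_iff_isCoatom, ← Ideal.isMaximal_def]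
      infer_instance
    rw [h2] at h1
    exact h1
  have hadd := Module.length_eq_add_of_exact (R := A) D.subtype D.mkQ
    (Submodule.injective_subtype D) (Submodule.mkQ_surjective D)
    (LinearMap.exact_subtype_mkQ D)
  have hle' : LinearMap.range (Algebra.linearMap A B) ≤ Submodule.comap π D := by
    rintro _ ⟨a, rfl⟩
    exact ⟨a, rfl⟩
  let q : (B ⧸ LinearMap.range (Algebra.linearMap A B)) →ₗ[A]
      ((∀ m' : MaximalSpectrum B, B ⧸ m'.asIdeal) ⧸ D) :=
    Submodule.mapQ _ D π hle'
  have hq : Function.Surjective q := by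
    intro y
    obtain ⟨g, rfl⟩ := Submodule.mkQ_surjective D y
    obtain ⟨b, rfl⟩ := hπsurj g
    exact ⟨Submodule.Quotient.mk b, rfl⟩
  have h3 := Module.length_le_of_surjective q hq
  -- length (P/D) = d
  have h4 : Module.length A (B ⧸ LinearMap.range (Algebra.linearMap A B)) ≤
      Module.length A ((∀ m' : MaximalSpectrum B, B ⧸ m'.asIdeal) ⧸ D) := by
    apply enat_add_one_le_one_add
    calc _ ≤ _ := hle
      _ = _ := hadd
      _ ≤ _ := add_le_add hD le_rfl
  have h5 := le_antisymm h3 h4
  -- kernel of q is trivial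
  have hexq := Module.length_eq_add_of_exact (R := A) (LinearMap.ker q).subtype q
    (Submodule.injective_subtype _) hq (LinearMap.exact_subtype_ker_map q)
  rw [h5] at hexq
  have h6 : Module.length A (LinearMap.ker q) = 0 :=
    enat_eq_zero_of_add_eq (h5 ▸ hd) hexq
  rw [Module.length_eq_zero_iff] at h6
  have hker : LinearMap.ker q = ⊥ := by
    rw [eq_bot_iff]
    intro x hx
    have := Subsingleton.elim (⟨x, hx⟩ : LinearMap.ker q) 0
    rw [Submodule.mem_bot]
    exact congrArg Subtype.val this
  have hqb : q (Submodule.Quotient.mk b) = 0 := by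
    change Submodule.Quotient.mk (π b) = 0
    rw [Submodule.Quotient.mk_eq_zero]
    refine ⟨a, ?_⟩
    funext m'
    change Ideal.Quotient.mk m'.asIdeal (algebraMap A B a) = Ideal.Quotient.mk m'.asIdeal b
    rw [eq_comm, Ideal.Quotient.eq]
    exact hab m'
  have hb0 : (Submodule.Quotient.mk b : B ⧸ LinearMap.range (Algebra.linearMap A B)) = 0 := by
    have : Submodule.Quotient.mk b ∈ LinearMap.ker q := hqb
    rw [hker] at this
    exact this
  rw [Submodule.Quotient.mk_eq_zero] at hb0
  obtain ⟨a', ha'⟩ := hb0
  exact ⟨a', ha'⟩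

end Groth.Agent.Lib.Branches
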