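import Mathlib
import Groth.Agent.Lib.Branches4_helper6

/-!
# Equality case of the branch count inequality (helper6), part 2
-/

set_option autoImplicit false
universe u

namespace Groth.Agent.Lib.Branches

open IsLocalRing

variable {A : Type u} [CommRing A] [IsLocalRing A] {B : Type u} [CommRing B] [Algebra A B]

theorem surjective_of_length_eq_one {M : Type u} [AddCommGroup M] [Module A M]
    (h : Module.length A M = 1) (f : A →ₗ[A] M) (hf : f ≠ 0) : Function.Surjective f := by
  rw [Module.length_eq_one_iff] at h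
  have h1 := eq_bot_or_eq_top (LinearMap.range f)
  rcases h1 with h1 | h1
  · exfalso
    apply hf
    exact LinearMap.range_eq_bot.1 h1
  · exact LinearMap.range_eq_top.1 h1

theorem equality_case [Module.Finite A B] [Fintype (MaximalSpectrum B)]
    (Ω : Type u) [Field Ω] (ι : ResidueField A →+* Ω)
    (hsub : ∀ m' : MaximalSpectrum B, ENat.card
      {σ : B ⧸ m'.asIdeal →+* Ω // σ.comp (algebraMap A (B ⧸ m'.asIdeal)) = ι.comp (residue A)} ≤ 1)
    (hd : Module.length A (B ⧸ LinearMap.range (Algebra.linearMap A B)) ≠ ⊤)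
    (heq : Module.length A (B ⧸ LinearMap.range (Algebra.linearMap A B)) + 1 ≤
      ENat.card (Σ m' : MaximalSpectrum B,
        {σ : B ⧸ m'.asIdeal →+* Ω // σ.comp (algebraMap A (B ⧸ m'.asIdeal)) = ι.comp (residue A)})) :
    Module.length A (B ⧸ LinearMap.range (Algebra.linearMap A B)) + 1 ≤
        Module.length A (∀ m' : MaximalSpectrum B, B ⧸ m'.asIdeal) ∧
      ∀ m' : MaximalSpectrum B, Function.Surjective (algebraMap A (B ⧸ m'.asIdeal)) := by
  classical
  haveI : ∀ m' : MaximalSpectrum B, m'.asIdeal.IsMaximal := fun m' => m'.isMaximal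
  set d := Module.length A (B ⧸ LinearMap.range (Algebra.linearMap A B)) with hd_def
  have h1 := enat_card_sigma_le (fun m' : MaximalSpectrum B =>
    {σ : B ⧸ m'.asIdeal →+* Ω // σ.comp (algebraMap A (B ⧸ m'.asIdeal)) = ι.comp (residue A)})
    (fun m' => ENat.card
      {σ : B ⧸ m'.asIdeal →+* Ω // σ.comp (algebraMap A (B ⧸ m'.asIdeal)) = ι.comp (residue A)})
    (fun m' => le_rfl)
  have h2 : (∑ m' : MaximalSpectrum B, ENat.card
      {σ : B ⧸ m'.asIdeal →+* Ω // σ.comp (algebraMap A (B ⧸ m'.asIdeal)) = ι.comp (residue A)}) ≤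
      ∑ m' : MaximalSpectrum B, Module.length A (B ⧸ m'.asIdeal) :=
    Finset.sum_le_sum (fun m' _ => card_emb_le_length m'.asIdeal Ω ι)
  have h3 : Module.length A (∀ m' : MaximalSpectrum B, B ⧸ m'.asIdeal) =
      ∑ m' : MaximalSpectrum B, Module.length A (B ⧸ m'.asIdeal) :=
    Module.length_pi_of_fintype A _
  have hfirst : d + 1 ≤ Module.length A (∀ m' : MaximalSpectrum B, B ⧸ m'.asIdeal) := by
    rw [h3]
    exact heq.trans (h1.trans h2)
  refine ⟨hfirst, ?_⟩
  have h4 : Module.length A (∀ m' : MaximalSpectrum B, B ⧸ m'.asIdeal) ≤ d + 1 :=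
    length_pi_quotient_le
  have h5 : (∑ m' : MaximalSpectrum B, ENat.card
      {σ : B ⧸ m'.asIdeal →+* Ω // σ.comp (algebraMap A (B ⧸ m'.asIdeal)) = ι.comp (residue A)}) ≤
      (Fintype.card (MaximalSpectrum B) : ℕ∞) := by
    calc _ ≤ ∑ _m' : MaximalSpectrum B, (1 : ℕ∞) := Finset.sum_le_sum (fun m' _ => hsub m')
      _ = _ := by simp
  have h6 : ∑ m' : MaximalSpectrum B, Module.length A (B ⧸ m'.asIdeal) ≤
      (Fintype.card (MaximalSpectrum B) : ℕ∞) := by
    rw [← h3]
    exact h4.trans (heq.trans (h1.trans h5))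
  have hfin : ∀ m' : MaximalSpectrum B, Module.length A (B ⧸ m'.asIdeal) ≠ ⊤ := by
    intro m'
    have h7 : Module.length A (B ⧸ m'.asIdeal) ≤
        ∑ m' : MaximalSpectrum B, Module.length A (B ⧸ m'.asIdeal) :=
      Finset.single_le_sum (f := fun m' : MaximalSpectrum B => Module.length A (B ⧸ m'.asIdeal))
        (fun _ _ => zero_le) (Finset.mem_univ m')
    exact ne_top_of_le_ne_top (ENat.coe_ne_top _) (h7.trans h6)
  let l₀ : MaximalSpectrum B → ℕ := fun m' => (Module.length A (B ⧸ m'.asIdeal)).toNat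
  have hl₀ : ∀ m', (l₀ m' : ℕ∞) = Module.length A (B ⧸ m'.asIdeal) :=
    fun m' => ENat.coe_toNat (hfin m')
  have hpos : ∀ m', 1 ≤ l₀ m' := by
    intro m'
    haveI : Nontrivial (B ⧸ m'.asIdeal) :=
      Ideal.Quotient.nontrivial_iff.2 (Ideal.IsMaximal.ne_top (m'.isMaximal))
    have h8 : 0 < Module.length A (B ⧸ m'.asIdeal) := Module.length_pos
    rw [← hl₀ m'] at h8
    have : 0 < l₀ m' := by exact_mod_cast h8
    exact this
  have h9 : ∑ m' : MaximalSpectrum B, l₀ m' ≤ Fintype.card (MaximalSpectrum B) := by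
    have : ((∑ m' : MaximalSpectrum B, l₀ m' : ℕ) : ℕ∞) ≤
        (Fintype.card (MaximalSpectrum B) : ℕ∞) := by
      rw [Nat.cast_sum]
      simp_rw [hl₀]
      exact h6
    exact_mod_cast this
  have h10 : ∀ m' ∈ (Finset.univ : Finset (MaximalSpectrum B)), 1 = l₀ m' := by
    have h11 : ∑ _m' : MaximalSpectrum B, 1 = ∑ m' : MaximalSpectrum B, l₀ m' := by
      apply le_antisymm (Finset.sum_le_sum (fun m' _ => hpos m'))
      simpa using h9
    exact (Finset.sum_eq_sum_iff_of_le (fun m' _ => hpos m')).1 h11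
  intro m'
  have h12 : Module.length A (B ⧸ m'.asIdeal) = 1 := by
    rw [← hl₀ m', ← h10 m' (Finset.mem_univ _)]
    rfl
  have h13 := surjective_of_length_eq_one h12 (Algebra.linearMap A (B ⧸ m'.asIdeal)) (by
    intro h0
    have h14 := congrArg (fun f : A →ₗ[A] (B ⧸ m'.asIdeal) => f 1) h0
    simp only [Algebra.linearMap_apply, map_one, LinearMap.zero_apply] at h14
    haveI : Nontrivial (B ⧸ m'.asIdeal) :=
      Ideal.Quotient.nontrivial_iff.2 (Ideal.IsMaximal.ne_top (m'.isMaximal))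
    exact one_ne_zero h14)
  exact h13

end Groth.Agent.Lib.Branches
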