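import Mathlib
import Groth.Agent.Lib.Branches5_helper6

/-!
# Residue-field embeddings over a separably closed residue field (helper6)
-/

set_option autoImplicit false
universe u

namespace Groth.Agent.Lib.Branches

open IsLocalRing

variable {A : Type u} [CommRing A] [IsLocalRing A] {B : Type u} [CommRing B] [Algebra A B]

theorem card_emb_le_one_of_isSepClosed [IsSepClosed (ResidueField A)] [Module.Finite A B]
    (m' : Ideal B) [m'.IsMaximal] (Ω : Type u) [Field Ω] (ι : ResidueField A →+* Ω) :
    ENat.card {σ : B ⧸ m' →+* Ω // σ.comp (algebraMap A (B ⧸ m')) = ι.comp (residue A)} ≤ 1 := by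
  rw [ENat.card_le_one_iff_subsingleton]
  letI : Field (B ⧸ m') := Ideal.Quotient.field m'
  haveI := isLocalHom_algebraMap_quotient (A := A) m'
  letI : Algebra (ResidueField A) (B ⧸ m') :=
    (IsLocalRing.ResidueField.lift (algebraMap A (B ⧸ m'))).toAlgebra
  have hlift : ∀ a : A, algebraMap (ResidueField A) (B ⧸ m') (residue A a) =
      algebraMap A (B ⧸ m') a := fun a =>
    IsLocalRing.ResidueField.lift_residue_apply _ a
  haveI : IsScalarTower A (ResidueField A) (B ⧸ m') :=
    IsScalarTower.of_algebraMap_eq (fun a => (hlift a).symm)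
  haveI : Module.Finite A (B ⧸ m') :=
    Module.Finite.of_surjective (Ideal.Quotient.mkₐ A m').toLinearMap
      (Ideal.Quotient.mkₐ_surjective A m')
  haveI : Module.Finite (ResidueField A) (B ⧸ m') :=
    Module.Finite.of_restrictScalars_finite A (ResidueField A) (B ⧸ m')
  haveI : Algebra.IsAlgebraic (ResidueField A) (B ⧸ m') := Algebra.IsAlgebraic.of_finite _ _
  haveI : IsPurelyInseparable (ResidueField A) (B ⧸ m') := inferInstance
  constructor
  intro σ τ
  apply Subtype.ext
  apply IsPurelyInseparable.injective_comp_algebraMap (ResidueField A) (B ⧸ m') Ω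
  ext c
  obtain ⟨a, rfl⟩ := IsLocalRing.residue_surjective c
  simp only [RingHom.comp_apply]
  rw [hlift]
  have h1 := congrArg (fun g => g a) σ.2
  have h2 := congrArg (fun g => g a) τ.2
  simp only [RingHom.comp_apply] at h1 h2
  rw [h1, h2]

end Groth.Agent.Lib.Branches
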