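import Mathlib
import Groth.Prelude.Def_DerLim
import Groth.Prelude.Def_CohDer
import Groth.Agent.Lib.Brown_helper9

/-!
# Exact coproduct-preserving functors out of a compactly generated category are left adjoints
(helper9)
-/

open CategoryTheory CategoryTheory.Limits Pretriangulated Opposite
open CategoryTheory.Pretriangulated.Opposite

namespace BrownAdj

universe v u u'

variable {D : Type u} [Category.{v} D] [Preadditive D] [HasZeroObject D] [HasShift D ℤ]
  [∀ n : ℤ, (shiftFunctor D n).Additive] [Pretriangulated D] [HasCoproducts.{v} D]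
  {D' : Type u'} [Category.{v} D'] [Preadditive D'] [HasZeroObject D'] [HasShift D' ℤ]
  [∀ n : ℤ, (shiftFunctor D' n).Additive] [Pretriangulated D']
  (F : D ⥤ D') [F.CommShift ℤ] [F.IsTriangulated]
  [∀ (κ : Type v), PreservesColimitsOfShape (Discrete κ) F]

theorem isLeftAdjoint {ι : Type v} (E : ι → D) (hc : ∀ i, CohDer.IsCompactObject (E i))
    (hg : CohDer.Generates E) : F.IsLeftAdjoint := by
  apply Functor.isLeftAdjoint_of_rightAdjointObjIsDefined_eq_top
  ext Y'
  simp only [Pi.top_apply, Prop.top_eq_true, iff_true]
  rw [Functor.rightAdjointObjIsDefined_iff]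
  haveI : ∀ κ : Type v, PreservesLimitsOfShape (Discrete κ) F.op := fun κ => by
    haveI : PreservesColimitsOfShape (Discrete κ)ᵒᵖ F :=
      preservesColimitsOfShape_of_equiv (Discrete.opposite κ).symm F
    exact preservesLimitsOfShape_op (Discrete κ) F
  have h1 := BrownRep.representable (F.op ⋙ preadditiveYoneda.obj Y') E hc hg
  exact h1

end BrownAdj
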