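import Mathlib
import Groth.Prelude.Def_DerLim
import Groth.Agent.Lib.CellTower_helper9

/-!
# Cell towers for an arbitrary small family of objects (helper9)

Variant of `CellTower_helper9` where the cells are the members of a family `F : J → D`
(no shifts are added).
-/

open CategoryTheory CategoryTheory.Limits Pretriangulated Opposite
open CategoryTheory.Pretriangulated.Opposite

namespace CellTower2

open CellTower

universe v u

variable {D : Type u} [Category.{v} D] [Preadditive D] [HasZeroObject D] [HasShift D ℤ]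
  [∀ n : ℤ, (shiftFunctor D n).Additive] [Pretriangulated D]
  [HasCoproducts.{v} D] {J : Type v} (F : J → D)
  {H : Dᵒᵖ ⥤ AddCommGrpCat.{v}} [H.IsHomological]
  [∀ κ : Type v, PreservesLimitsOfShape (Discrete κ) H]

/-- index set of the cells attached to a stage -/
abbrev κ (S : Stage H) : Type v := Σ (j : J), {g : F j ⟶ S.X // H.map g.op S.h = 0}

/-- the cells -/
abbrev cell (S : Stage H) (k : κ F S) : D := F k.1

/-- the attaching maps -/
abbrev att (S : Stage H) (k : κ F S) : cell F S k ⟶ S.X := k.2.1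

/-- the sum of the cells -/
noncomputable abbrev Y (S : Stage H) : D := ∐ (cell F S)

/-- the total attaching map -/
noncomputable def y (S : Stage H) : Y F S ⟶ S.X := Sigma.desc (att F S)

lemma ι_y (S : Stage H) (k : κ F S) : Sigma.ι (cell F S) k ≫ y F S = att F S k :=
  Sigma.ι_desc _ _

lemma H_y (S : Stage H) : H.map (y F S).op S.h = 0 := by
  apply H_ext H (cell F S)
  intro k
  rw [← H_map_comp]
  have h1 : H.map (Sigma.ι (cell F S) k ≫ y F S).op S.h = 0 := by
    rw [ι_y F S k]
    exact k.2.2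
  rw [map_zero]
  exact h1

lemma exists_next (S : Stage H) :
    ∃ (X' : D) (t : S.X ⟶ X') (z : X' ⟶ (shiftFunctor D (1 : ℤ)).obj (Y F S))
      (h' : H.obj (op X')), Triangle.mk (y F S) t z ∈ distTriang D ∧ H.map t.op h' = S.h := by
  obtain ⟨X', t, z, hT⟩ := distinguished_cocone_triangle (y F S)
  obtain ⟨h', hh'⟩ := H_exact H _ hT S.h (H_y F S)
  exact ⟨X', t, z, h', hT, hh'⟩

/-- the next stage -/
noncomputable def next (S : Stage H) : Stage H :=
  ⟨(exists_next F S).choose, (exists_next F S).choose_spec.choose_spec.choose_spec.choose⟩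

/-- the transition map -/
noncomputable def t (S : Stage H) : S.X ⟶ (next F S).X :=
  (exists_next F S).choose_spec.choose

/-- the connecting map -/
noncomputable def z (S : Stage H) :
    (next F S).X ⟶ (shiftFunctor D (1 : ℤ)).obj (Y F S) :=
  (exists_next F S).choose_spec.choose_spec.choose

lemma dist (S : Stage H) : Triangle.mk (y F S) (t F S) (z F S) ∈ distTriang D :=
  (exists_next F S).choose_spec.choose_spec.choose_spec.choose_spec.1

lemma H_t (S : Stage H) : H.map (t F S).op (next F S).h = S.h :=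
  (exists_next F S).choose_spec.choose_spec.choose_spec.choose_spec.2

lemma kill' (S : Stage H) (j : J) (g : F j ⟶ S.X)
    (hg : H.map g.op S.h = 0) : g ≫ t F S = 0 := by
  have h1 : g = Sigma.ι (cell F S) ⟨j, g, hg⟩ ≫ y F S := (ι_y F S ⟨j, g, hg⟩).symm
  have h2 : y F S ≫ t F S = 0 := comp_distTriang_mor_zero₁₂ _ (dist F S)
  rw [h1, Category.assoc, h2, comp_zero]

variable (H)

/-- index set of the initial cells -/
abbrev κ₀ : Type v := Σ (j : J), H.obj (op (F j))

/-- the initial cells -/
abbrev cell₀ (k : κ₀ F H) : D := F k.1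

/-- the initial stage -/
noncomputable def stage₀ : Stage H :=
  ⟨∐ cell₀ F H, (H_glue H (cell₀ F H) (fun k => k.2)).choose⟩

lemma stage₀_h (k : κ₀ F H) : H.map (Sigma.ι (cell₀ F H) k).op (stage₀ F H).h = k.2 :=
  (H_glue H (cell₀ F H) (fun k => k.2)).choose_spec k

/-- the stages -/
noncomputable def stage : ℕ → Stage H
  | 0 => stage₀ F H
  | n + 1 => next F (stage n)

/-- the objects of the tower -/
noncomputable def K (n : ℕ) : D := (stage F H n).X

/-- the transition maps of the tower -/
noncomputable def f (n : ℕ) : K F H n ⟶ K F H (n + 1) := t F (stage F H n)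

/-- the classes -/
noncomputable def hh (n : ℕ) : H.obj (op (K F H n)) := (stage F H n).h

lemma H_f (n : ℕ) : H.map (f F H n).op (hh F H (n + 1)) = hh F H n := H_t F (stage F H n)

/-- inclusion of an initial cell -/
noncomputable def ι₀ (k : κ₀ F H) : cell₀ F H k ⟶ K F H 0 := Sigma.ι (cell₀ F H) k

lemma hh_zero (k : κ₀ F H) : H.map (ι₀ F H k).op (hh F H 0) = k.2 := stage₀_h F H k

lemma kill (n : ℕ) (j : J) (g : F j ⟶ K F H n)
    (hg : H.map g.op (hh F H n) = 0) : g ≫ f F H n = 0 := kill' F (stage F H n) j g hg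

/-- the raw cell tower of a cohomological functor for the family `F` -/
theorem tower_raw :
    ∃ (K : ℕ → D) (f : ∀ n, K n ⟶ K (n + 1)) (hh : ∀ n, H.obj (op (K n))),
      (∀ n, H.map (f n).op (hh (n + 1)) = hh n) ∧
      (∃ (κ : Type v) (a : κ → J), Nonempty (K 0 ≅ ∐ (fun k => F (a k)))) ∧
      (∀ n, ∃ (κ : Type v) (a : κ → J) (y : (∐ fun k => F (a k)) ⟶ K n)
        (z : K (n + 1) ⟶ (shiftFunctor D (1 : ℤ)).obj (∐ fun k => F (a k))),
        Triangle.mk y (f n) z ∈ distTriang D) ∧
      (∀ (j : J) (a : H.obj (op (F j))), ∃ g : F j ⟶ K 0, H.map g.op (hh 0) = a) ∧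
      (∀ (n : ℕ) (j : J) (g : F j ⟶ K n), H.map g.op (hh n) = 0 → g ≫ f n = 0) :=
  ⟨K F H, f F H, hh F H, H_f F H, ⟨κ₀ F H, fun k => k.1, ⟨Iso.refl _⟩⟩,
    fun n => ⟨κ F (stage F H n), fun k => k.1, y F (stage F H n), z F (stage F H n),
      dist F (stage F H n)⟩,
    fun j a => ⟨ι₀ F H ⟨j, a⟩, hh_zero F H ⟨j, a⟩⟩,
    fun n j g hg => kill F H n j g hg⟩

end CellTower2
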