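import Mathlib
import Groth.Prelude.Def_DerLim
import Groth.Prelude.Def_CohDer
import Groth.Agent.Lib.CellTower2_helper9
import Groth.Agent.Lib.Brown_helper9

/-!
# Brown representability for perfectly generated triangulated categories (helper9)
-/

open CategoryTheory CategoryTheory.Limits Pretriangulated Opposite
open CategoryTheory.Pretriangulated.Opposite

namespace BrownBis

open CellTower

universe v u

variable {D : Type u} [Category.{v} D] [Preadditive D] [HasZeroObject D] [HasShift D ℤ]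
  [∀ n : ℤ, (shiftFunctor D n).Additive] [Pretriangulated D]
  [HasCoproducts.{v} D] [HasColimitsOfShape (Discrete ℕ) D] {ι : Type v} (E : ι → D)

/-- codes for iterated shifts and countable coproducts of members of the family -/
inductive Code (ι : Type v) : Type v
  | of : ι → Code ι
  | shift : Code ι → ℤ → Code ι
  | coprod : (ℕ → Code ι) → Code ι

/-- the object attached to a code -/
noncomputable def obj : Code ι → D
  | .of i => E i
  | .shift c m => (shiftFunctor D m).obj (obj c)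
  | .coprod c => ∐ (fun n => obj (c n))

lemma obj_of (i : ι) : obj E (.of i) = E i := rfl

lemma obj_shift (c : Code ι) (m : ℤ) : obj E (.shift c m) = (shiftFunctor D m).obj (obj E c) := rfl

lemma obj_coprod (c : ℕ → Code ι) : obj E (.coprod c) = ∐ (fun n => obj E (c n)) := rfl

/-- the factorisation property for a single object -/
def Fac (G : D) : Prop :=
  ∀ (X : ℕ → D) (α : G ⟶ ∐ X), ∃ (d : ℕ → Code ι) (β : ∀ n, obj E (d n) ⟶ X n)
    (γ : G ⟶ ∐ (fun n => obj E (d n))), α = γ ≫ Limits.Sigma.map β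

lemma fac_shift {G : D} (hG : Fac E G) (m : ℤ) : Fac E ((shiftFunctor D m).obj G) := by
  intro X α
  let adj : shiftFunctor D m ⊣ shiftFunctor D (-m) := (shiftEquiv D m).toAdjunction
  let σ := PreservesCoproduct.iso (shiftFunctor D (-m)) X
  obtain ⟨d, β, γ, hγ⟩ := hG (fun n => (shiftFunctor D (-m)).obj (X n))
    (adj.homEquiv G (∐ X) α ≫ σ.hom)
  let Z : ℕ → D := fun n => (shiftFunctor D m).obj (obj E (d n))
  let τ : (shiftFunctor D m).obj (∐ fun n => obj E (d n)) ≅ ∐ Z :=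
    PreservesCoproduct.iso (shiftFunctor D m) (fun n => obj E (d n))
  let β' : ∀ n, Z n ⟶ X n := fun n => (adj.homEquiv _ _).symm (β n)
  have main : α = ((shiftFunctor D m).map γ ≫ τ.hom) ≫ Limits.Sigma.map β' := by
    apply (adj.homEquiv G (∐ X)).injective
    have hτ : ∀ n, (shiftFunctor D m).map (Sigma.ι (fun n => obj E (d n)) n) ≫ τ.hom =
        Sigma.ι Z n := by
      intro n
      rw [← cancel_mono τ.inv, Category.assoc, τ.hom_inv_id, Category.comp_id]
      exact (ι_comp_sigmaComparison (shiftFunctor D m) (fun n => obj E (d n)) n).symm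
    have hσ : ∀ n, Sigma.ι (fun n => (shiftFunctor D (-m)).obj (X n)) n ≫ σ.inv =
        (shiftFunctor D (-m)).map (Sigma.ι X n) :=
      fun n => ι_comp_sigmaComparison (shiftFunctor D (-m)) X n
    have key : adj.homEquiv _ _ (τ.hom ≫ Limits.Sigma.map β') = Limits.Sigma.map β ≫ σ.inv := by
      apply Sigma.hom_ext
      intro n
      rw [← adj.homEquiv_naturality_left, ← Category.assoc, hτ, Sigma.ι_map,
        adj.homEquiv_naturality_right, ← Category.assoc, Sigma.ι_map, Category.assoc, hσ]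
      dsimp only [β']
      rw [Equiv.apply_symm_apply]
    rw [Category.assoc, adj.homEquiv_naturality_left, key, ← Category.assoc, ← hγ, Category.assoc,
      σ.hom_inv_id, Category.comp_id]
  exact ⟨fun n => .shift (d n) m, β', (shiftFunctor D m).map γ ≫ τ.hom, main⟩

lemma fac_coprod (G : ℕ → D) (hG : ∀ k, Fac E (G k)) : Fac E (∐ G) := by
  intro X α
  choose d β γ hγ using fun k => hG k X (Sigma.ι G k ≫ α)
  let Z : ℕ → D := fun n => ∐ (fun k => obj E (d k n))
  let β' : ∀ n, Z n ⟶ X n := fun n => Sigma.desc (fun k => β k n)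
  let jn : ∀ k n, obj E (d k n) ⟶ Z n := fun k n => Sigma.ι (fun k' => obj E (d k' n)) k
  let γ' : ∐ G ⟶ ∐ Z := Sigma.desc (fun k => γ k ≫ Limits.Sigma.map (fun n => jn k n))
  have main : α = γ' ≫ Limits.Sigma.map β' := by
    apply Sigma.hom_ext
    intro k
    rw [hγ k, ← Category.assoc, Sigma.ι_desc, Category.assoc]
    congr 1
    apply Sigma.hom_ext
    intro n
    rw [Sigma.ι_map, ← Category.assoc, Sigma.ι_map, Category.assoc, Sigma.ι_map,
      ← Category.assoc]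
    congr 1
    exact (Sigma.ι_desc (f := fun k' => obj E (d k' n)) (fun k' => β k' n) k).symm
  exact ⟨fun n => .coprod (fun k => d k n), β', γ', main⟩

theorem fac_obj
    (h2 : ∀ (X : ℕ → D) (i : ι) (α : E i ⟶ ∐ X), ∃ (j : ℕ → ι) (β : ∀ n, E (j n) ⟶ X n)
      (γ : E i ⟶ ∐ (fun n => E (j n))), α = γ ≫ Limits.Sigma.map β) :
    ∀ c : Code ι, Fac E (obj E c) := by
  intro c
  induction c with
  | of i =>
    intro X α
    obtain ⟨j, β, γ, hγ⟩ := h2 X i α
    exact ⟨fun n => .of (j n), β, γ, hγ⟩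
  | shift c m ih => exact fac_shift E ih m
  | coprod c ih => exact fac_coprod E _ ih

section LemmaT

omit [HasCoproducts.{v} D] in
/-- exactness of a countable coproduct of distinguished triangles, in the form needed -/
lemma lemmaT {Z : D} (W B C : ℕ → D) (ω : ∀ n, W n ⟶ B n) (b : ∀ n, B n ⟶ C n)
    (ζ : ∀ n, C n ⟶ (shiftFunctor D (1 : ℤ)).obj (W n))
    (hT : ∀ n, Triangle.mk (ω n) (b n) (ζ n) ∈ distTriang D) (w : Z ⟶ ∐ B)
    (hw : w ≫ Limits.Sigma.map b = 0) : ∃ w' : Z ⟶ ∐ W, w = w' ≫ Limits.Sigma.map ω := by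
  obtain ⟨Z', f₂, f₃, hT'⟩ := distinguished_cocone_triangle (Limits.Sigma.map ω)
  have hc : ∀ n, ∃ c : C n ⟶ Z', b n ≫ c = Sigma.ι B n ≫ f₂ := by
    intro n
    obtain ⟨c, hc1, -⟩ := complete_distinguished_triangle_morphism _ _ (hT n) hT'
      (Sigma.ι W n) (Sigma.ι B n) (Sigma.ι_map ω n).symm
    exact ⟨c, hc1⟩
  choose c hc using hc
  have h1 : Limits.Sigma.map b ≫ Sigma.desc c = f₂ := by
    apply Sigma.hom_ext
    intro n
    rw [← Category.assoc, Sigma.ι_map, Category.assoc, Sigma.ι_desc, hc]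
  have h2 : w ≫ f₂ = 0 := by rw [← h1, ← Category.assoc, hw, zero_comp]
  obtain ⟨w', hw'⟩ := Triangle.coyoneda_exact₂ _ hT' w h2
  exact ⟨w', hw'⟩

end LemmaT

section Core

variable (H : Dᵒᵖ ⥤ AddCommGrpCat.{v}) [H.IsHomological] [PreservesLimitsOfShape (Discrete ℕ) H]
  (K : ℕ → D) (f : ∀ n, K n ⟶ K (n + 1)) (hh : ∀ n, H.obj (op (K n)))
  (hf : ∀ n, H.map (f n).op (hh (n + 1)) = hh n)
  (hsurj : ∀ (c : Code ι) (a : H.obj (op (obj E c))),
    ∃ g : obj E c ⟶ K 0, H.map g.op (hh 0) = a)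
  (hkill : ∀ (n : ℕ) (c : Code ι) (g : obj E c ⟶ K n), H.map g.op (hh n) = 0 → g ≫ f n = 0)
  (hfac : ∀ c, Fac E (obj E c))

/-- the composite transition maps out of `K 0` -/
def tt : ∀ n, K 0 ⟶ K n
  | 0 => 𝟙 _
  | n + 1 => tt n ≫ f n

omit [HasZeroObject D] [∀ n : ℤ, (shiftFunctor D n).Additive] [Pretriangulated D]
  [HasCoproducts.{v} D] [HasColimitsOfShape (Discrete ℕ) D] [HasShift D ℤ] in
lemma tt_succ (n : ℕ) : tt K f (n + 1) = tt K f n ≫ f n := rfl

include hf in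
omit [HasCoproducts.{v} D] [HasColimitsOfShape (Discrete ℕ) D]
  [PreservesLimitsOfShape (Discrete ℕ) H] in
lemma hh_tt (n : ℕ) : H.map (tt K f n).op (hh n) = hh 0 := by
  induction n with
  | zero => exact BrownRep.H_map_id H _
  | succ n ih => rw [tt_succ, H_map_comp, hf, ih]

include hkill in
omit [HasCoproducts.{v} D] [PreservesLimitsOfShape (Discrete ℕ) H] in
lemma kill_eq (n : ℕ) (c : Code ι) (g g' : obj E c ⟶ K n)
    (h : H.map g.op (hh n) = H.map g'.op (hh n)) : g ≫ f n = g' ≫ f n := by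
  have := hkill n c (g - g') (by rw [H_map_sub, h, sub_self])
  rw [Preadditive.sub_comp] at this
  exact sub_eq_zero.1 this

include hf hkill in
omit [HasCoproducts.{v} D] [PreservesLimitsOfShape (Discrete ℕ) H] in
lemma push (n : ℕ) (c : Code ι) (g : obj E c ⟶ K n) (ν : obj E c ⟶ K 0)
    (h : H.map ν.op (hh 0) = H.map g.op (hh n)) : g ≫ f n = ν ≫ tt K f (n + 1) := by
  rw [tt_succ, ← Category.assoc]
  apply kill_eq E H K f hh hkill
  rw [← h, H_map_comp, hh_tt H K f hh hf]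

include hf hkill in
omit [HasCoproducts.{v} D] [PreservesLimitsOfShape (Discrete ℕ) H] in
lemma van (c : Code ι) (g : obj E c ⟶ K 0) (h0 : H.map g.op (hh 0) = 0) (m : ℕ) :
    g ≫ tt K f (m + 1) = 0 := by
  rw [tt_succ, ← Category.assoc]
  apply hkill
  rw [H_map_comp, hh_tt H K f hh hf, h0]

variable {L : D} (i : ∀ n, K n ⟶ L) (h : H.obj (op L))
  (hL : DerLim.IsHocolim K f L i) (hi : ∀ n, H.map (i n).op h = hh n)

include hL in
omit [HasCoproducts.{v} D] [H.IsHomological] [PreservesLimitsOfShape (Discrete ℕ) H] in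
lemma tt_i (n : ℕ) : tt K f n ≫ i n = i 0 := by
  induction n with
  | zero => exact Category.id_comp _
  | succ n ih => rw [tt_succ, Category.assoc, isHocolim_w K f hL n, ih]

include hf hsurj hkill hfac hL hi in
omit [HasCoproducts.{v} D] in
/-- Step 2: the Yoneda map is injective on maps factoring through `∐ K` -/
lemma step2 (c : Code ι) (α' : obj E c ⟶ ∐ K)
    (hα : H.map (α' ≫ Sigma.desc i).op h = 0) : α' ≫ Sigma.desc i = 0 := by
  obtain ⟨d, β, γ, rfl⟩ := hfac c K α'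
  obtain ⟨a, ha⟩ := H_glue H (fun n => obj E (d n)) (fun n => H.map (β n).op (hh n))
  obtain ⟨ν, hν⟩ : ∃ ν : (∐ fun n => obj E (d n)) ⟶ K 0, H.map ν.op (hh 0) = a :=
    hsurj (.coprod d) a
  have claim : Limits.Sigma.map β ≫ Sigma.desc i = ν ≫ i 0 := by
    apply Sigma.hom_ext
    intro n
    have h1 := push E H K f hh hf hkill n (d n) (β n) (Sigma.ι (fun n => obj E (d n)) n ≫ ν)
      (by rw [H_map_comp, hν, ha])
    rw [← Category.assoc, Sigma.ι_map, Category.assoc, Sigma.ι_desc, ← isHocolim_w K f hL n,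
      ← Category.assoc, h1, Category.assoc, Category.assoc, tt_i K f i hL]
  have h2 : H.map (γ ≫ ν).op (hh 0) = 0 := by
    rw [← hi 0, ← H_map_comp, Category.assoc, ← claim]
    rw [Category.assoc] at hα
    exact hα
  have h3 := hkill 0 c (γ ≫ ν) h2
  rw [Category.assoc, claim, ← isHocolim_w K f hL 0, ← Category.assoc, ← Category.assoc, h3,
    zero_comp]

section Copower

omit [HasZeroObject D] [∀ n : ℤ, (shiftFunctor D n).Additive] [Pretriangulated D]
  [HasCoproducts.{v} D] [HasShift D ℤ]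

variable (G : D)

/-- the shift on the countable copower -/
noncomputable def σc : (∐ fun _ : ℕ => G) ⟶ ∐ fun _ : ℕ => G :=
  Sigma.desc (fun n => Sigma.ι (fun _ : ℕ => G) (n + 1))

/-- a retraction of `1 - σc` -/
noncomputable def ρc : (∐ fun _ : ℕ => G) ⟶ ∐ fun _ : ℕ => G :=
  Sigma.desc (fun n => -∑ k ∈ Finset.range n, Sigma.ι (fun _ : ℕ => G) k)

lemma one_sub_σc_ρc : (𝟙 _ - σc G) ≫ ρc G = 𝟙 _ := by
  apply Sigma.hom_ext
  intro n
  unfold σc ρc
  rw [Preadditive.sub_comp, Category.id_comp, Preadditive.comp_sub, Sigma.ι_desc,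
    ← Category.assoc, Sigma.ι_desc, Sigma.ι_desc, Category.comp_id, Finset.sum_range_succ]
  abel

end Copower

include hf hsurj hkill hfac in
/-- Step 1: `1 - shift` is injective on maps from the generators into `∐ K` -/
lemma step1 (c : Code ι) (u : obj E c ⟶ ∐ K)
    (hu : u ≫ (𝟙 _ - DerLim.shiftMap K f) = 0) : u = 0 := by
  have hus : u = u ≫ DerLim.shiftMap K f := by
    rw [Preadditive.comp_sub, Category.comp_id, sub_eq_zero] at hu
    exact hu
  have hs : ∀ n, Sigma.ι K n ≫ DerLim.shiftMap K f = f n ≫ Sigma.ι K (n + 1) := by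
    intro n
    unfold DerLim.shiftMap
    rw [Sigma.ι_desc]
  obtain ⟨d, β, γ, hγ⟩ := hfac c K u
  obtain ⟨a, ha⟩ := H_glue H (fun n => obj E (d n)) (fun n => H.map (β n).op (hh n))
  let G : D := ∐ fun n => obj E (d n)
  obtain ⟨ν, hν⟩ : ∃ ν : G ⟶ K 0, H.map ν.op (hh 0) = a := hsurj (.coprod d) a
  obtain ⟨Λ, hΛd⟩ : ∃ Λ : ∀ m, G ⟶ K m, ∀ m, Λ m = ν ≫ tt K f m := ⟨_, fun _ => rfl⟩
  have hΛ : ∀ m, Λ (m + 1) = Λ m ≫ f m := fun m => by
    rw [hΛd, hΛd, tt_succ, Category.assoc]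
  have hβ : ∀ n, β n ≫ f n = Sigma.ι (fun n => obj E (d n)) n ≫ Λ (n + 1) := by
    intro n
    have h1 := push E H K f hh hf hkill n (d n) (β n) (Sigma.ι (fun n => obj E (d n)) n ≫ ν)
      (by rw [H_map_comp, hν, ha])
    rw [h1, hΛd, Category.assoc]
  obtain ⟨Ψ, hΨd⟩ : ∃ Ψ : (∐ fun _ : ℕ => G) ⟶ ∐ K,
      ∀ n, Sigma.ι (fun _ : ℕ => G) n ≫ Ψ = Λ (n + 1) ≫ Sigma.ι K (n + 1) :=
    ⟨Sigma.desc (fun n => Λ (n + 1) ≫ Sigma.ι K (n + 1)), fun n => Sigma.ι_desc _ _⟩
  obtain ⟨Δ, hΔd⟩ : ∃ Δ : (∐ fun n => obj E (d n)) ⟶ ∐ fun _ : ℕ => G,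
      ∀ n, Sigma.ι (fun n => obj E (d n)) n ≫ Δ =
        Sigma.ι (fun n => obj E (d n)) n ≫ Sigma.ι (fun _ : ℕ => G) n :=
    ⟨Sigma.desc (fun n => Sigma.ι (fun n => obj E (d n)) n ≫ Sigma.ι (fun _ : ℕ => G) n),
      fun n => Sigma.ι_desc _ _⟩
  have e1 : Limits.Sigma.map β ≫ DerLim.shiftMap K f = Δ ≫ Ψ := by
    apply Sigma.hom_ext
    intro n
    rw [← Category.assoc, Sigma.ι_map, Category.assoc, hs, ← Category.assoc, hβ,
      ← Category.assoc, hΔd]
    simp only [Category.assoc]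
    rw [hΨd]
  have e2 : Ψ ≫ DerLim.shiftMap K f = σc G ≫ Ψ := by
    apply Sigma.hom_ext
    intro n
    unfold σc
    rw [← Category.assoc, hΨd, Category.assoc, hs, ← Category.assoc, ← hΛ,
      ← Category.assoc, Sigma.ι_desc, hΨd]
  have hu2 : u = (γ ≫ Δ) ≫ Ψ := by
    rw [Category.assoc, ← e1, ← Category.assoc, ← hγ]
    exact hus
  have e3 : ((γ ≫ Δ) ≫ (𝟙 _ - σc G)) ≫ Ψ = 0 := by
    rw [Category.assoc, Preadditive.sub_comp, Category.id_comp, ← e2, Preadditive.comp_sub,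
      ← Category.assoc, ← hu2, ← hus, sub_self]
  -- remove the reindexing
  obtain ⟨Λ', hΛ'd⟩ : ∃ Λ' : ∀ n, G ⟶ K (n + 1), ∀ n, Λ' n = Λ (n + 1) := ⟨_, fun _ => rfl⟩
  obtain ⟨retr, hretr⟩ : ∃ retr : ∐ K ⟶ ∐ fun n => K (n + 1),
      ∀ n, Sigma.ι K (n + 1) ≫ retr = Sigma.ι (fun n => K (n + 1)) n :=
    ⟨Sigma.desc (fun n => match n with
      | 0 => 0
      | n + 1 => Sigma.ι (fun n => K (n + 1)) n), fun n => Sigma.ι_desc _ _⟩
  have hΨ : Ψ ≫ retr = Limits.Sigma.map Λ' := by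
    apply Sigma.hom_ext
    intro n
    rw [← Category.assoc, hΨd, Category.assoc, hretr, Sigma.ι_map, hΛ'd]
  have e4 : ((γ ≫ Δ) ≫ (𝟙 _ - σc G)) ≫ Limits.Sigma.map Λ' = 0 := by
    rw [← hΨ, ← Category.assoc, e3, zero_comp]
  -- triangles on the maps Λ' n
  choose W ω ζ hW using fun n => distinguished_cocone_triangle₁ (Λ' n)
  obtain ⟨w', hw'⟩ := lemmaT W (fun _ => G) (fun n => K (n + 1)) ω Λ' ζ hW _ e4
  obtain ⟨d', ω', γ', hγ'⟩ := hfac c W w'
  let g : ∀ n, obj E (d' n) ⟶ G := fun n => ω' n ≫ ω n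
  have hgΛ' : ∀ n, g n ≫ Λ' n = 0 := fun n => by
    dsimp only [g]
    rw [Category.assoc]
    have : ω n ≫ Λ' n = 0 := comp_distTriang_mor_zero₁₂ _ (hW n)
    rw [this, comp_zero]
  have hw2 : (γ ≫ Δ) ≫ (𝟙 _ - σc G) = γ' ≫ Limits.Sigma.map g := by
    rw [hw', hγ', Category.assoc, Sigma.map_comp_map]
  have hg0 : ∀ n, H.map (g n ≫ ν).op (hh 0) = 0 := by
    intro n
    have h1 : H.map (g n ≫ Λ (n + 1)).op (hh (n + 1)) = 0 := by
      have : g n ≫ Λ (n + 1) = 0 := by rw [← hΛ'd]; exact hgΛ' n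
      rw [this, H_map_zero]
    rw [hΛd, ← Category.assoc, H_map_comp, hh_tt H K f hh hf] at h1
    exact h1
  have hgΛ : ∀ n m, g n ≫ Λ (m + 1) = 0 := fun n m => by
    rw [hΛd, ← Category.assoc]
    exact van E H K f hh hf hkill (d' n) (g n ≫ ν) (hg0 n) m
  have e6 : Limits.Sigma.map g ≫ ρc G ≫ Ψ = 0 := by
    apply Sigma.hom_ext
    intro n
    unfold ρc
    rw [← Category.assoc, Sigma.ι_map, Category.assoc, ← Category.assoc (Sigma.ι _ n),
      Sigma.ι_desc, Preadditive.neg_comp, Preadditive.comp_neg, Preadditive.sum_comp,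
      Preadditive.comp_sum, comp_zero, neg_eq_zero]
    apply Finset.sum_eq_zero
    intro k _
    rw [hΨd, ← Category.assoc, hgΛ, zero_comp]
  calc u = (γ ≫ Δ) ≫ Ψ := hu2
    _ = (γ ≫ Δ) ≫ ((𝟙 _ - σc G) ≫ ρc G) ≫ Ψ := by rw [one_sub_σc_ρc, Category.id_comp]
    _ = ((γ ≫ Δ) ≫ (𝟙 _ - σc G)) ≫ ρc G ≫ Ψ := by simp only [Category.assoc]
    _ = γ' ≫ Limits.Sigma.map g ≫ ρc G ≫ Ψ := by rw [hw2, Category.assoc]
    _ = 0 := by rw [e6, comp_zero]

include hf hsurj hkill hfac hL hi in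
/-- the Yoneda map of the class `h` is bijective on all coded objects -/
theorem eta_bijective (c : Code ι) : Function.Bijective (BrownRep.η H h (obj E c)) := by
  constructor
  · apply BrownRep.η_injective_of_ker
    intro α hα
    obtain ⟨conn, hT⟩ := hL
    have hL' : DerLim.IsHocolim K f L i := ⟨conn, hT⟩
    -- Step A
    have hA : α ≫ conn = 0 := by
      have z1 : conn ≫ (shiftFunctor D (1 : ℤ)).map (𝟙 _ - DerLim.shiftMap K f) = 0 :=
        comp_distTriang_mor_zero₃₁ _ hT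
      let e : (shiftFunctor D (-1 : ℤ)).obj ((shiftFunctor D (1 : ℤ)).obj (∐ K)) ≅ ∐ K :=
        (shiftFunctorCompIsoId D (1 : ℤ) (-1) (by norm_num)).app (∐ K)
      have nat : (shiftFunctor D (-1 : ℤ)).map
          ((shiftFunctor D (1 : ℤ)).map (𝟙 _ - DerLim.shiftMap K f)) ≫ e.hom =
          e.hom ≫ (𝟙 _ - DerLim.shiftMap K f) :=
        (shiftFunctorCompIsoId D (1 : ℤ) (-1) (by norm_num)).hom.naturality
          (𝟙 _ - DerLim.shiftMap K f)
      have hu : ((shiftFunctor D (-1 : ℤ)).map (α ≫ conn) ≫ e.hom) ≫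
          (𝟙 _ - DerLim.shiftMap K f) = 0 := by
        rw [Category.assoc, ← nat, ← Category.assoc, ← Functor.map_comp, Category.assoc, z1,
          comp_zero, Functor.map_zero, zero_comp]
      have h0 : (shiftFunctor D (-1 : ℤ)).map (α ≫ conn) ≫ e.hom = 0 :=
        step1 E H K f hh hf hsurj hkill hfac (.shift c (-1))
          ((shiftFunctor D (-1 : ℤ)).map (α ≫ conn) ≫ e.hom) hu
      have h1 : (shiftFunctor D (-1 : ℤ)).map (α ≫ conn) = 0 := by
        have h2 : (shiftFunctor D (-1 : ℤ)).map (α ≫ conn) =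
            ((shiftFunctor D (-1 : ℤ)).map (α ≫ conn) ≫ e.hom) ≫ e.inv := by
          rw [Category.assoc, e.hom_inv_id]
          exact (Category.comp_id _).symm
        rw [h2, h0, zero_comp]
      exact (shiftFunctor D (-1 : ℤ)).map_injective (h1.trans (Functor.map_zero _ _ _).symm)
    obtain ⟨α', hα''⟩ : ∃ α' : obj E c ⟶ ∐ K, α = α' ≫ Sigma.desc i :=
      Triangle.coyoneda_exact₃ _ hT α hA
    rw [hα'']
    apply step2 E H K f hh hf hsurj hkill hfac i h hL' hi c α'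
    rw [← hα'']
    exact hα
  · intro a
    obtain ⟨g, hg⟩ := hsurj c a
    refine ⟨g ≫ i 0, ?_⟩
    unfold BrownRep.η
    rw [H_map_comp, hi 0, hg]

end Core

section Main

variable (h2 : ∀ (X : ℕ → D) (i : ι) (α : E i ⟶ ∐ X), ∃ (j : ℕ → ι) (β : ∀ n, E (j n) ⟶ X n)
    (γ : E i ⟶ ∐ (fun n => E (j n))), α = γ ≫ Limits.Sigma.map β)

include h2 in
/-- the cell tower for the coded family, with bijective Yoneda maps on the coded objects -/
theorem construct (H : Dᵒᵖ ⥤ AddCommGrpCat.{v}) [H.IsHomological]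
    [∀ κ : Type v, PreservesLimitsOfShape (Discrete κ) H] :
    ∃ (K : ℕ → D) (f : ∀ n, K n ⟶ K (n + 1)) (L : D) (i : ∀ n, K n ⟶ L) (h : H.obj (op L)),
      DerLim.IsHocolim K f L i ∧
      (∃ (κ : Type v) (a : κ → Code ι), Nonempty (K 0 ≅ ∐ (fun k => obj E (a k)))) ∧
      (∀ n, ∃ (κ : Type v) (a : κ → Code ι) (y : (∐ fun k => obj E (a k)) ⟶ K n)
        (z : K (n + 1) ⟶ (shiftFunctor D (1 : ℤ)).obj (∐ fun k => obj E (a k))),
        Triangle.mk y (f n) z ∈ distTriang D) ∧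
      ∀ c : Code ι, Function.Bijective (BrownRep.η H h (obj E c)) := by
  haveI : PreservesLimitsOfShape (Discrete ℕ) H :=
    preservesLimitsOfShape_of_equiv (Discrete.equivalence Equiv.ulift.{v}) H
  obtain ⟨K, f, hh, hf, h0, hstep, hsurj, hkill⟩ := CellTower2.tower_raw (obj E) H
  obtain ⟨L, i, h, hL, hi⟩ := exists_hocolim H K f hh hf
  exact ⟨K, f, L, i, h, hL, h0, hstep,
    eta_bijective E H K f hh hf hsurj hkill (fac_obj E h2) i h hL hi⟩

variable (h1 : ∀ X : D, ¬ IsZero X → ∃ (i : ι) (f : E i ⟶ X), f ≠ 0)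

include h1 in
lemma generates_obj : CohDer.Generates (obj E) := by
  intro K hK
  by_contra hne
  obtain ⟨i, f, hf⟩ := h1 K hne
  apply hf
  have h0 : f ≫ ((shiftFunctorZero D ℤ).app K).inv = 0 :=
    hK (.of i) 0 (f ≫ ((shiftFunctorZero D ℤ).app K).inv)
  have := congrArg (fun x => x ≫ ((shiftFunctorZero D ℤ).app K).hom) h0
  simpa using this

include h1 h2 in
theorem representable (H : Dᵒᵖ ⥤ AddCommGrpCat.{v}) [H.IsHomological]
    [∀ κ : Type v, PreservesLimitsOfShape (Discrete κ) H] :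
    (H ⋙ forget AddCommGrpCat.{v}).IsRepresentable := by
  haveI : PreservesLimitsOfShape (Discrete ℕ) H :=
    preservesLimitsOfShape_of_equiv (Discrete.equivalence Equiv.ulift.{v}) H
  obtain ⟨K, f, L, i, h, hL, h0, hstep, hbij⟩ := construct E h2 H
  have hPE : ∀ c, BrownRep.P H h (obj E c) := fun c m => hbij (.shift c m)
  have hPcell : ∀ (κ : Type v) (a : κ → Code ι), BrownRep.P H h (∐ fun k => obj E (a k)) :=
    fun κ a => BrownRep.P_coprod H h _ (fun k => hPE (a k))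
  have hall : ∀ Y : D, BrownRep.P H h Y := by
    intro Y
    obtain ⟨K', f', L', i', φ, hL', ⟨κ, a, ⟨e0⟩⟩, hstep', hbij'⟩ :=
      construct E h2 (preadditiveYoneda.obj Y)
    have hφ : ∀ c, Function.Bijective (fun g : obj E c ⟶ L' => g ≫ (φ : L' ⟶ Y)) := hbij'
    have hiso : IsIso (φ : L' ⟶ Y) := by
      refine (Groth.Agent.S7881.result (obj E) (generates_obj E h1) (φ : L' ⟶ Y)).2
        (fun c n => ?_)
      let adj : shiftFunctor D (-n) ⊣ shiftFunctor D n := (shiftEquiv D n).symm.toAdjunction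
      have e1 : (fun g : obj E c ⟶ (shiftFunctor D n).obj L' =>
          g ≫ (shiftFunctor D n).map (φ : L' ⟶ Y)) =
          fun g => adj.homEquiv (obj E c) Y
            ((adj.homEquiv (obj E c) L').symm g ≫ (φ : L' ⟶ Y)) := by
        funext g
        rw [adj.homEquiv_naturality_right, Equiv.apply_symm_apply]
      rw [e1]
      exact (adj.homEquiv (obj E c) Y).bijective.comp
        ((hφ (.shift c (-n))).comp (adj.homEquiv (obj E c) L').symm.bijective)
    have hK : ∀ n, BrownRep.P H h (K' n) := by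
      intro n
      induction n with
      | zero => exact BrownRep.P_of_iso H h e0.symm (hPcell κ a)
      | succ n ih =>
        obtain ⟨κ', a', y, z, hT⟩ := hstep' n
        exact BrownRep.P_triangle H h _ hT (hPcell κ' a') ih
    obtain ⟨c, hT⟩ := hL'
    have hPL' : BrownRep.P H h L' :=
      BrownRep.P_triangle H h _ hT (BrownRep.P_coprod H h K' hK) (BrownRep.P_coprod H h K' hK)
    exact BrownRep.P_of_iso H h (asIso (φ : L' ⟶ Y)) hPL'
  have hbijY : ∀ Y, Function.Bijective (BrownRep.η H h Y) :=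
    fun Y => BrownRep.Q_of_iso H h ((shiftFunctorZero D ℤ).app Y) (hall Y 0)
  exact Functor.RepresentableBy.isRepresentable (Y := L)
    { homEquiv := fun {Y} => Equiv.ofBijective (BrownRep.η H h Y) (hbijY Y)
      homEquiv_comp := fun {Y Y'} a g => BrownRep.η_comp H h a g }

end Main

end BrownBis
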