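import Mathlib
import Groth.Agent.Lib.Brown_helper9

/-!
# Brown representability passes to Bousfield localizations (helper7)

If `L : D₁ ⥤ D₂` is a triangulated functor with a fully faithful right adjoint and Brown
representability holds for `D₁`, then it holds for `D₂`.
-/

set_option autoImplicit false
set_option backward.isDefEq.respectTransparency false
universe v u₁ u₂
open CategoryTheory Limits Pretriangulated Opposite
open CategoryTheory.Pretriangulated.Opposite

namespace Groth.Agent.Lib.BrownLoc

variable {D₁ : Type u₁} [Category.{v} D₁] [Preadditive D₁] [HasZeroObject D₁] [HasShift D₁ ℤ]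
  [∀ n : ℤ, (shiftFunctor D₁ n).Additive] [Pretriangulated D₁]
  {D₂ : Type u₂} [Category.{v} D₂] [Preadditive D₂] [HasZeroObject D₂] [HasShift D₂ ℤ]
  [∀ n : ℤ, (shiftFunctor D₂ n).Additive] [Pretriangulated D₂]
  (L : D₁ ⥤ D₂) [L.CommShift ℤ] [L.IsTriangulated] (G : D₂ ⥤ D₁) (adj : L ⊣ G)
  [G.Full] [G.Faithful]

include adj in
theorem representable
    (hB : ∀ (H₁ : D₁ᵒᵖ ⥤ AddCommGrpCat.{v}) [H₁.IsHomological]
      [∀ κ : Type v, PreservesLimitsOfShape (Discrete κ) H₁],
      (H₁ ⋙ forget AddCommGrpCat.{v}).IsRepresentable)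
    (H : D₂ᵒᵖ ⥤ AddCommGrpCat.{v}) [H.IsHomological]
    [∀ κ : Type v, PreservesLimitsOfShape (Discrete κ) H] :
    (H ⋙ forget AddCommGrpCat.{v}).IsRepresentable := by
  haveI : ∀ κ : Type v, PreservesLimitsOfShape (Discrete κ) L.op := fun κ => by
    haveI : PreservesColimitsOfShape (Discrete κ)ᵒᵖ L :=
      (adj.leftAdjoint_preservesColimits).preservesColimitsOfShape
    exact preservesLimitsOfShape_op (Discrete κ) L
  obtain ⟨Y, ⟨rep⟩⟩ := (hB (L.op ⋙ H)).has_representation
  let h : H.obj (op (L.obj Y)) := rep.homEquiv (𝟙 Y)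
  have hrep : ∀ {W : D₁} (g : W ⟶ Y), rep.homEquiv g = H.map (L.map g).op h := by
    intro W g
    have := rep.homEquiv_comp g (𝟙 Y)
    rw [Category.comp_id] at this
    exact this
  have hloc : ∀ K : D₁, IsZero (L.obj K) → ∀ g : K ⟶ Y, g = 0 := by
    intro K hK g
    haveI : Subsingleton (H.obj (op (L.obj K))) :=
      AddCommGrpCat.subsingleton_of_isZero (H.map_isZero hK.op)
    exact rep.homEquiv.injective (Subsingleton.elim (α := H.obj (op (L.obj K))) _ _)
  have hloc' : ∀ K : D₁, IsZero (L.obj K) → ∀ (n : ℤ) (g : K ⟶ Y⟦n⟧), g = 0 := by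
    intro K hK n g
    have hK' : IsZero (L.obj (K⟦-n⟧)) :=
      IsZero.of_iso ((shiftFunctor D₂ (-n)).map_isZero hK) ((L.commShiftIso (-n)).app K)
    have h1 : g⟦-n⟧' ≫ (shiftFunctorCompIsoId D₁ n (-n) (by omega)).hom.app Y = 0 :=
      hloc _ hK' _
    have h2 : g⟦-n⟧' = 0 := by
      rw [← cancel_mono ((shiftFunctorCompIsoId D₁ n (-n) (by omega)).hom.app Y), h1, zero_comp]
    exact (shiftFunctor D₁ (-n)).map_injective (by rw [h2, Functor.map_zero])
  haveI : IsIso adj.counit := adj.counit_isIso_of_R_fully_faithful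
  have hLη : IsIso (L.map (adj.unit.app Y)) := by
    haveI : IsIso (L.map (adj.unit.app Y) ≫ adj.counit.app (L.obj Y)) := by
      have e : L.map (adj.unit.app Y) ≫ adj.counit.app (L.obj Y) = 𝟙 _ :=
        adj.left_triangle_components Y
      rw [e]
      infer_instance
    exact IsIso.of_isIso_comp_right _ (adj.counit.app (L.obj Y))
  obtain ⟨C, q, r, hT⟩ := distinguished_cocone_triangle (adj.unit.app Y)
  have hLC : IsZero (L.obj C) := by
    have hT' := L.map_distinguished _ hT
    exact (Triangle.isZero₃_iff_isIso₁ _ hT').2 hLη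
  have hr : r = 0 := hloc' C hLC 1 r
  obtain ⟨a, ha⟩ := Triangle.coyoneda_exact₃ _ hT (𝟙 C) (by rw [Category.id_comp]; exact hr)
  have ha0 : a = 0 := (adj.homEquiv C (L.obj Y)).symm.injective (hLC.eq_of_src _ _)
  have hC : IsZero C := by
    rw [IsZero.iff_id_eq_zero, ha, ha0, zero_comp]
  haveI hη : IsIso (adj.unit.app Y) := (Triangle.isZero₃_iff_isIso₁ _ hT).1 hC
  have hεL : ∀ {X : D₂} (k : X ⟶ L.obj Y),
      L.map (G.map k ≫ inv (adj.unit.app Y)) = adj.counit.app X ≫ k := by
    intro X k
    have h1 : L.map (inv (adj.unit.app Y)) = adj.counit.app (L.obj Y) := by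
      rw [Functor.map_inv]
      apply IsIso.inv_eq_of_hom_inv_id
      exact adj.left_triangle_components Y
    rw [Functor.map_comp, h1]
    exact adj.counit.naturality k
  have hbij : ∀ X : D₂, Function.Bijective (BrownRep.η H h X) := by
    intro X
    let γ : (X ⟶ L.obj Y) → (G.obj X ⟶ Y) := fun k => G.map k ≫ inv (adj.unit.app Y)
    have hγ : Function.Bijective γ := by
      constructor
      · intro k k' hkk'
        exact G.map_injective ((cancel_mono (inv (adj.unit.app Y))).1 hkk')
      · intro m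
        obtain ⟨k, hk⟩ := G.map_surjective (m ≫ adj.unit.app Y)
        refine ⟨k, ?_⟩
        change G.map k ≫ inv (adj.unit.app Y) = m
        rw [hk, Category.assoc, IsIso.hom_inv_id, Category.comp_id]
    let E : H.obj (op X) → H.obj (op (L.obj (G.obj X))) :=
      fun x => H.map (adj.counit.app X).op x
    have hE : Function.Bijective E := by
      haveI : IsIso (adj.counit.app X) := inferInstance
      exact ConcreteCategory.bijective_of_isIso (H.map (adj.counit.app X).op)
    have hkey : ∀ k : X ⟶ L.obj Y, E (BrownRep.η H h X k) = rep.homEquiv (γ k) := by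
      intro k
      have e1 : BrownRep.η H h _ (adj.counit.app X ≫ k) =
          H.map (adj.counit.app X).op (BrownRep.η H h X k) :=
        BrownRep.η_comp H h (adj.counit.app X) k
      have e2 : rep.homEquiv (γ k) = H.map (L.map (γ k)).op h := hrep (γ k)
      have e3 : L.map (γ k) = adj.counit.app X ≫ k := hεL k
      have e4 : BrownRep.η H h _ (adj.counit.app X ≫ k) = H.map (L.map (γ k)).op h := by
        rw [e3]
        rfl
      exact e1.symm.trans (e4.trans e2.symm)
    have hcomp : Function.Bijective (E ∘ BrownRep.η H h X) := by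
      have : E ∘ BrownRep.η H h X = rep.homEquiv ∘ γ := funext hkey
      rw [this]
      exact rep.homEquiv.bijective.comp hγ
    exact (Function.Bijective.of_comp_iff' hE _).1 hcomp
  exact Functor.RepresentableBy.isRepresentable (Y := L.obj Y)
    { homEquiv := fun {X} => Equiv.ofBijective (BrownRep.η H h X) (hbij X)
      homEquiv_comp := fun {X X'} a g => BrownRep.η_comp H h a g }

end Groth.Agent.Lib.BrownLoc
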