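import Mathlib
import Groth.Prelude.Def_CohDer

/-!
# `Hom(C, -)` preserves a coproduct as soon as the comparison map is bijective (helper9)
-/

open CategoryTheory CategoryTheory.Limits Opposite

namespace CompactFam

universe v u

variable {D : Type u} [Category.{v} D] [Preadditive D] {C : D} {κ : Type v} (X : κ → D)
  [HasCoproduct X]

open scoped Classical in
lemma homSum_of (k : κ) (g : C ⟶ X k) :
    CohDer.homSumToHomCoprod C X (DirectSum.of (fun i => C ⟶ X i) k g) = g ≫ Sigma.ι X k := by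
  unfold CohDer.homSumToHomCoprod
  simp
  rfl

variable (hb : Function.Bijective (CohDer.homSumToHomCoprod C X))

/-- the bijection -/
noncomputable def eqv : DirectSum κ (fun i => C ⟶ X i) ≃+ (C ⟶ ∐ X) :=
  AddEquiv.ofBijective (CohDer.homSumToHomCoprod C X) hb

open scoped Classical in
lemma eqv_of (k : κ) (g : C ⟶ X k) :
    eqv X hb (DirectSum.of (fun i => C ⟶ X i) k g) = g ≫ Sigma.ι X k :=
  homSum_of X k g

open scoped Classical in
lemma eqv_symm_comp (k : κ) (g : C ⟶ X k) :
    (eqv X hb).symm (g ≫ Sigma.ι X k) = DirectSum.of (fun i => C ⟶ X i) k g := by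
  rw [AddEquiv.symm_apply_eq]
  exact (eqv_of X hb k g).symm

open scoped Classical in
/-- the map out of `Hom(C, ∐ X)` induced by maps out of the `Hom(C, X k)` -/
noncomputable def dsc {M : Type*} [AddCommMonoid M] (φ : ∀ k, (C ⟶ X k) →+ M) : (C ⟶ ∐ X) →+ M :=
  (DirectSum.toAddMonoid φ).comp (eqv X hb).symm.toAddMonoidHom

lemma dsc_comp {M : Type*} [AddCommMonoid M] (φ : ∀ k, (C ⟶ X k) →+ M) (k : κ) (g : C ⟶ X k) :
    dsc X hb φ (g ≫ Sigma.ι X k) = φ k g := by
  classical
  unfold dsc
  simp only [AddMonoidHom.coe_comp, Function.comp_apply, AddEquiv.coe_toAddMonoidHom]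
  rw [eqv_symm_comp]
  exact DirectSum.toAddMonoid_of _ _ _

lemma dsc_uniq {M : Type*} [AddCommMonoid M] (φ : ∀ k, (C ⟶ X k) →+ M) (ψ : (C ⟶ ∐ X) →+ M)
    (h : ∀ k (g : C ⟶ X k), ψ (g ≫ Sigma.ι X k) = φ k g) : ψ = dsc X hb φ := by
  classical
  have h1 : ψ.comp (eqv X hb).toAddMonoidHom =
      (dsc X hb φ).comp (eqv X hb).toAddMonoidHom := by
    apply DirectSum.addHom_ext
    intro k g
    simp only [AddMonoidHom.coe_comp, Function.comp_apply, AddEquiv.coe_toAddMonoidHom]
    rw [eqv_of, h, dsc_comp]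
  ext x
  obtain ⟨y, rfl⟩ := (eqv X hb).surjective x
  exact DFunLike.congr_fun h1 y

/-- the cofan `Hom(C, X k) ⟶ Hom(C, ∐ X)` is a colimit -/
noncomputable def isColimitCofan :
    IsColimit (Cofan.mk ((preadditiveCoyoneda.obj (op C)).obj (∐ X))
      (fun j => (preadditiveCoyoneda.obj (op C)).map (Sigma.ι X j))) :=
  Cofan.IsColimit.mk _
    (fun t => AddCommGrpCat.ofHom (dsc X hb (fun j => (t.inj j).hom)))
    (fun t j => by
      ext g
      exact dsc_comp X hb (fun j => (t.inj j).hom) j g)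
    (fun t m hm => by
      apply AddCommGrpCat.hom_ext
      exact dsc_uniq X hb (fun j => (t.inj j).hom) m.hom
        (fun k g => congrArg (fun φ => φ.hom g) (hm k)))

include hb in
theorem preservesColimit :
    PreservesColimit (Discrete.functor X) (preadditiveCoyoneda.obj (op C)) :=
  preservesColimit_of_preserves_colimit_cocone (coproductIsCoproduct _)
    ((isColimitMapCoconeCofanMkEquiv _ _ _).symm (isColimitCofan X hb))

end CompactFam
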