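-- Copy of Groth/Agent/Lib/CompactBB_helper7.lean with namespaces renamed (lead), so that it can be imported together with
-- `DerCoprod_lead` (which shares the namespace `DerCoprod` with `DerCoprod_helper9`). Original proofs by helper7/helper9.
import Mathlib
import Groth.Prelude.Def_CohDer
import Groth.Agent.Lib.DerCoprod2B_lead
import Groth.Agent.Lib.CompactFam_helper9

/-!
# Objects with coproduct-preserving `Ext` are compact for bounded below sums (helper7)

Let `Z` be an object of an abelian category `A` with exact coproducts such that every `Ext^p(Z, -)`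
preserves coproducts.  Then `Hom(Z[0], -)` in `D(A)` commutes with coproducts of uniformly bounded
below families.
-/

set_option autoImplicit false
set_option backward.isDefEq.respectTransparency false
universe t w' w v u
open CategoryTheory Limits Pretriangulated

namespace Groth.Agent.Lib.CompactBBB

section General

variable {D : Type u} [Category.{v} D] [Preadditive D] (T : D) {I : Type t}

/-- `φ` is a finite sum of morphisms factoring through the summands -/
def IsFinSum {X : I → D} (c : Cofan X) (φ : T ⟶ c.pt) : Prop :=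
  ∃ (s : Finset I) (g : ∀ i, T ⟶ X i), φ = ∑ i ∈ s, g i ≫ c.inj i

/-- every morphism to the point of the cofan is a finite sum -/
def FinC {X : I → D} (c : Cofan X) : Prop := ∀ φ : T ⟶ c.pt, IsFinSum T c φ

lemma isFinSum_add {X : I → D} (c : Cofan X) {φ₁ φ₂ : T ⟶ c.pt} (h₁ : IsFinSum T c φ₁)
    (h₂ : IsFinSum T c φ₂) : IsFinSum T c (φ₁ + φ₂) := by
  classical
  obtain ⟨s₁, g₁, rfl⟩ := h₁
  obtain ⟨s₂, g₂, rfl⟩ := h₂
  refine ⟨s₁ ∪ s₂, fun i => (if i ∈ s₁ then g₁ i else 0) + (if i ∈ s₂ then g₂ i else 0), ?_⟩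
  have e₁ : ∑ i ∈ s₁, g₁ i ≫ c.inj i =
      ∑ i ∈ s₁ ∪ s₂, (if i ∈ s₁ then g₁ i else 0) ≫ c.inj i := by
    calc ∑ i ∈ s₁, g₁ i ≫ c.inj i
        = ∑ i ∈ s₁, (if i ∈ s₁ then g₁ i else 0) ≫ c.inj i :=
          Finset.sum_congr rfl (fun i hi => by rw [if_pos hi])
      _ = _ := Finset.sum_subset Finset.subset_union_left
          (fun i _ hi => by rw [if_neg hi, zero_comp])
  have e₂ : ∑ i ∈ s₂, g₂ i ≫ c.inj i =
      ∑ i ∈ s₁ ∪ s₂, (if i ∈ s₂ then g₂ i else 0) ≫ c.inj i := by
    calc ∑ i ∈ s₂, g₂ i ≫ c.inj i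
        = ∑ i ∈ s₂, (if i ∈ s₂ then g₂ i else 0) ≫ c.inj i :=
          Finset.sum_congr rfl (fun i hi => by rw [if_pos hi])
      _ = _ := Finset.sum_subset Finset.subset_union_right
          (fun i _ hi => by rw [if_neg hi, zero_comp])
  rw [e₁, e₂, ← Finset.sum_add_distrib]
  refine Finset.sum_congr rfl (fun i _ => ?_)
  rw [Preadditive.add_comp]

open Classical in
/-- projection of a coproduct onto a summand -/
noncomputable def pr {X : I → D} {c : Cofan X} (hc : IsColimit c) (j : I) : c.pt ⟶ X j :=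
  Cofan.IsColimit.desc hc (fun i => if h : i = j then eqToHom (by rw [h]) else 0)

lemma inj_pr_self {X : I → D} {c : Cofan X} (hc : IsColimit c) (j : I) :
    c.inj j ≫ pr hc j = 𝟙 _ := by
  unfold pr
  rw [Cofan.IsColimit.fac, dif_pos rfl, eqToHom_refl]

lemma inj_pr_ne {X : I → D} {c : Cofan X} (hc : IsColimit c) {i j : I} (h : i ≠ j) :
    c.inj i ≫ pr hc j = 0 := by
  unfold pr
  rw [Cofan.IsColimit.fac, dif_neg h]

lemma sum_pr {X : I → D} {c : Cofan X} (hc : IsColimit c) (s : Finset I)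
    (g : ∀ i, T ⟶ X i) (j : I) (hj : j ∈ s) :
    (∑ i ∈ s, g i ≫ c.inj i) ≫ pr hc j = g j := by
  rw [Preadditive.sum_comp, Finset.sum_eq_single j]
  · rw [Category.assoc, inj_pr_self, Category.comp_id]
  · intro i _ hij
    rw [Category.assoc, inj_pr_ne hc hij, comp_zero]
  · intro h
    exact absurd hj h

lemma finC_of_iso {X X' : I → D} (e : ∀ i, X i ≅ X' i) {c : Cofan X} (hc : IsColimit c)
    {c' : Cofan X'} (hc' : IsColimit c') (h : FinC T c) : FinC T c' := by
  intro φ
  let θ : c'.pt ⟶ c.pt := Cofan.IsColimit.desc hc' (fun i => (e i).inv ≫ c.inj i)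
  let θ' : c.pt ⟶ c'.pt := Cofan.IsColimit.desc hc (fun i => (e i).hom ≫ c'.inj i)
  have hθ : ∀ i, c'.inj i ≫ θ = (e i).inv ≫ c.inj i := fun i => Cofan.IsColimit.fac hc' _ i
  have hθ' : ∀ i, c.inj i ≫ θ' = (e i).hom ≫ c'.inj i := fun i => Cofan.IsColimit.fac hc _ i
  have hθθ' : θ ≫ θ' = 𝟙 _ := by
    apply Cofan.IsColimit.hom_ext hc'
    intro i
    rw [← Category.assoc, hθ, Category.assoc, hθ', Iso.inv_hom_id_assoc, Category.comp_id]
  obtain ⟨s, g, hg⟩ := h (φ ≫ θ)
  refine ⟨s, fun i => g i ≫ (e i).hom, ?_⟩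
  calc φ = (φ ≫ θ) ≫ θ' := by rw [Category.assoc, hθθ', Category.comp_id]
    _ = _ := by
      rw [hg, Preadditive.sum_comp]
      refine Finset.sum_congr rfl (fun i _ => ?_)
      rw [Category.assoc, hθ', Category.assoc]

end General

section Tri

variable {D : Type u} [Category.{v} D] [Preadditive D] [HasZeroObject D] [HasShift D ℤ]
  [∀ n : ℤ, (shiftFunctor D n).Additive] [Pretriangulated D] (T : D) {I : Type t}

/-- two-out-of-three for families of distinguished triangles -/
theorem finC_mid {X' X X'' : I → D} (u : ∀ i, X' i ⟶ X i) (v : ∀ i, X i ⟶ X'' i)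
    (w : ∀ i, X'' i ⟶ (X' i)⟦(1 : ℤ)⟧)
    (hT : ∀ i, Triangle.mk (u i) (v i) (w i) ∈ distTriang D)
    {c' : Cofan X'} (hc' : IsColimit c') {c : Cofan X} (hc : IsColimit c)
    {c'' : Cofan X''} (hc'' : IsColimit c'')
    (h' : FinC T c') (h'' : FinC T c'') : FinC T c := by
  classical
  intro φ
  let U : c'.pt ⟶ c.pt := Cofan.IsColimit.desc hc' (fun i => u i ≫ c.inj i)
  let V : c.pt ⟶ c''.pt := Cofan.IsColimit.desc hc (fun i => v i ≫ c''.inj i)
  have hU : ∀ i, c'.inj i ≫ U = u i ≫ c.inj i := fun i => Cofan.IsColimit.fac hc' _ i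
  have hV : ∀ i, c.inj i ≫ V = v i ≫ c''.inj i := fun i => Cofan.IsColimit.fac hc _ i
  obtain ⟨s, g'', hg''⟩ := h'' (φ ≫ V)
  have hV0 : ∀ j, V ≫ pr hc'' j ≫ w j = 0 := by
    intro j
    apply Cofan.IsColimit.hom_ext hc
    intro i
    rw [comp_zero, ← Category.assoc, hV, Category.assoc]
    by_cases hij : i = j
    · subst hij
      rw [← Category.assoc (c''.inj _), inj_pr_self, Category.id_comp]
      exact comp_distTriang_mor_zero₂₃ _ (hT _)
    · rw [← Category.assoc (c''.inj _), inj_pr_ne hc'' hij, zero_comp, comp_zero]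
  have hpr : ∀ j, ∃ G : T ⟶ X j, (φ ≫ V) ≫ pr hc'' j = G ≫ v j := by
    intro j
    have h0 : ((φ ≫ V) ≫ pr hc'' j) ≫ w j = 0 := by
      rw [Category.assoc, Category.assoc, hV0, comp_zero]
    exact Triangle.coyoneda_exact₃ _ (hT j) _ h0
  choose G hG using hpr
  have e1 : φ ≫ V = ∑ j ∈ s, (G j ≫ c.inj j) ≫ V := by
    have hh : ∀ j ∈ s, (G j ≫ c.inj j) ≫ V = g'' j ≫ c''.inj j := by
      intro j hj
      rw [Category.assoc, hV, ← Category.assoc, ← hG j, hg'', sum_pr T hc'' s g'' j hj]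
    rw [Finset.sum_congr rfl hh]
    exact hg''
  have hψ : (φ - ∑ j ∈ s, G j ≫ c.inj j) ≫ V = 0 := by
    rw [Preadditive.sub_comp, Preadditive.sum_comp, ← e1, sub_self]
  obtain ⟨C, q, r, hC⟩ := distinguished_cocone_triangle U
  have hUq : U ≫ q = 0 := comp_distTriang_mor_zero₁₂ _ hC
  have hθ : ∀ i, ∃ θ : X'' i ⟶ C, c.inj i ≫ q = v i ≫ θ := by
    intro i
    have h0 : u i ≫ c.inj i ≫ q = 0 := by
      rw [← Category.assoc, ← hU, Category.assoc, hUq, comp_zero]
    exact Triangle.yoneda_exact₂ _ (hT i) _ h0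
  choose θ hθ using hθ
  let Θ : c''.pt ⟶ C := Cofan.IsColimit.desc hc'' θ
  have hΘ : ∀ i, c''.inj i ≫ Θ = θ i := fun i => Cofan.IsColimit.fac hc'' _ i
  have hVΘ : V ≫ Θ = q := by
    apply Cofan.IsColimit.hom_ext hc
    intro i
    rw [← Category.assoc, hV, Category.assoc, hΘ, hθ i]
  have hψq : (φ - ∑ j ∈ s, G j ≫ c.inj j) ≫ q = 0 := by
    rw [← hVΘ, ← Category.assoc, hψ, zero_comp]
  obtain ⟨ψ', hψ'⟩ := Triangle.coyoneda_exact₂ _ hC _ hψq
  obtain ⟨s', g', hg'⟩ := h' ψ'
  have e2 : φ - ∑ j ∈ s, G j ≫ c.inj j = ∑ i ∈ s', (g' i ≫ u i) ≫ c.inj i := by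
    rw [hψ', hg']
    change (∑ i ∈ s', g' i ≫ c'.inj i) ≫ U = _
    rw [Preadditive.sum_comp]
    refine Finset.sum_congr rfl (fun i _ => ?_)
    rw [Category.assoc, hU, Category.assoc]
  have e3 : φ = (φ - ∑ j ∈ s, G j ≫ c.inj j) + ∑ j ∈ s, G j ≫ c.inj j := by
    rw [sub_add_cancel]
  rw [e3]
  exact isFinSum_add T c ⟨s', _, e2⟩ ⟨s, G, rfl⟩

end Tri

section Ab

/-- elements of a coproduct of abelian groups are finite sums -/
lemma ab_gen {I : Type t} {B : I → AddCommGrpCat.{w'}} (c : Cofan B) (hc : IsColimit c)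
    (x : c.pt) : ∃ (s : Finset I) (y : ∀ i, B i), x = ∑ i ∈ s, (c.inj i).hom (y i) := by
  classical
  let Ψ : (DirectSum I fun i => B i) →+ c.pt := DirectSum.toAddMonoid (fun i => (c.inj i).hom)
  let S : AddSubgroup c.pt := Ψ.range
  let π : c.pt ⟶ AddCommGrpCat.of (c.pt ⧸ S) := AddCommGrpCat.ofHom (QuotientAddGroup.mk' S)
  have h0 : π = 0 := by
    apply Cofan.IsColimit.hom_ext hc
    intro i
    rw [comp_zero]
    ext b
    change (QuotientAddGroup.mk' S) ((c.inj i).hom b) = 0
    rw [QuotientAddGroup.mk'_apply, QuotientAddGroup.eq_zero_iff]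
    exact ⟨DirectSum.of _ i b, DirectSum.toAddMonoid_of _ _ _⟩
  have hx : x ∈ S := by
    have h1 : π.hom x = 0 := by rw [h0]; rfl
    exact (QuotientAddGroup.eq_zero_iff x).1 h1
  obtain ⟨z, hz⟩ := hx
  refine ⟨DFinsupp.support z, fun i => z i, ?_⟩
  rw [← hz]
  conv_lhs => rw [← DirectSum.sum_support_of z]
  rw [map_sum]
  refine Finset.sum_congr rfl (fun i _ => ?_)
  exact DirectSum.toAddMonoid_of _ _ _

end Ab

section Der

open DerivedCategory

variable {A : Type u} [Category.{v} A] [Abelian A] [HasDerivedCategory.{w} A]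

variable (A) in
/-- the canonical t-structure on the derived category -/
noncomputable abbrev tt : Triangulated.TStructure (DerivedCategory A) :=
  DerivedCategory.TStructure.t

variable {I : Type t} [HasColimitsOfShape (Discrete I) A]
  [HasExactColimitsOfShape (Discrete I) A]

/-- a coproduct of objects which are `≥ n` is `≥ n` -/
lemma isGE_pt {X : I → DerivedCategory A} (n : ℤ) (hX : ∀ i, (X i).IsGE n) {c : Cofan X}
    (hc : IsColimit c) : c.pt.IsGE n := by
  have hK : ∀ i, ∃ (K : CochainComplex A ℤ) (_ : K.IsStrictlyGE n),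
      Nonempty (X i ≅ DerivedCategory.Q.obj K) := fun i => by
    haveI := hX i
    exact DerivedCategory.exists_iso_Q_obj_of_isGE (X i) n
  choose K hK e using hK
  haveI : (DerCoprodB.sig K).IsStrictlyGE n := by
    rw [CochainComplex.isStrictlyGE_iff]
    intro i hi
    rw [IsZero.iff_id_eq_zero]
    apply DerCoprodB.homX_ext
    intro j
    haveI := hK j
    exact ((K j).isZero_of_isStrictlyGE n i hi).eq_of_src _ _
  have hc₀ := DerCoprodB.isColimitCofan K
  let iso : c.pt ≅ DerivedCategory.Q.obj (DerCoprodB.sig K) :=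
    IsColimit.coconePointsIsoOfNatIso hc hc₀ (Discrete.natIso (fun ⟨i⟩ => (e i).some))
  exact (tt A).isGE_of_iso iso.symm n

lemma preservesSingle (N : I → A) :
    PreservesColimit (Discrete.functor N) (DerivedCategory.singleFunctor A 0) := by
  haveI : PreservesColimit (Discrete.functor N) (CochainComplex.singleFunctor A 0) := by
    change PreservesColimit _ (HomologicalComplex.single A (ComplexShape.up ℤ) 0)
    infer_instance
  haveI : PreservesColimit (Discrete.functor N ⋙ CochainComplex.singleFunctor A 0)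
      (DerivedCategory.Q (C := A)) := by
    haveI := DerCoprodB.preservesColimit_Q ((CochainComplex.singleFunctor A 0).obj ∘ N)
    exact preservesColimit_of_iso_diagram _ (Discrete.compNatIsoDiscrete N _).symm
  haveI : PreservesColimit (Discrete.functor N)
      (CochainComplex.singleFunctor A 0 ⋙ DerivedCategory.Q) := inferInstance
  exact preservesColimit_of_natIso _ (DerivedCategory.singleFunctorIsoCompQ A 0).symm

/-- the cofan of shifted single objects -/
noncomputable abbrev c₀ (N : I → A) (p : ℕ) :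
    Cofan (fun i => ((DerivedCategory.singleFunctor A 0).obj (N i))⟦(p : ℤ)⟧) :=
  Cofan.mk (((DerivedCategory.singleFunctor A 0).obj (∐ N))⟦(p : ℤ)⟧)
    (fun i => ((DerivedCategory.singleFunctor A 0).map (Sigma.ι N i))⟦(p : ℤ)⟧')

noncomputable def isColimit_c₀ (N : I → A) (p : ℕ) : IsColimit (c₀ N p) := by
  haveI : PreservesColimit (Discrete.functor N) (DerivedCategory.singleFunctor A 0) :=
    preservesSingle N
  have h1 := isColimitCofanMkObjOfIsColimit (DerivedCategory.singleFunctor A 0) N (Sigma.ι N)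
    (coproductIsCoproduct N)
  exact isColimitCofanMkObjOfIsColimit (shiftFunctor (DerivedCategory A) (p : ℤ)) _ _ h1

variable [HasExt.{w'} A] (Z : A)

lemma ext_key {N' N'' : A} (f : N' ⟶ N'') (p : ℕ) (y : Abelian.Ext Z N' p) :
    (y.comp (Abelian.Ext.mk₀ f) (add_zero p)).hom =
      y.hom ≫ ((DerivedCategory.singleFunctor A 0).map f)⟦(p : ℤ)⟧' := by
  rw [Abelian.Ext.comp_hom, Abelian.Ext.mk₀_hom, ShiftedHom.comp_mk₀]

variable (H : ∀ p : ℕ, PreservesColimitsOfShape (Discrete I) (Abelian.extFunctorObj Z p))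

include H in
theorem finC_single (N : I → A) (p : ℕ) :
    FinC ((DerivedCategory.singleFunctor A 0).obj Z) (c₀ N p) := by
  intro φ
  obtain ⟨x, hx⟩ : ∃ x : Abelian.Ext Z (∐ N) p, x.hom = φ :=
    ⟨Abelian.Ext.homEquiv.symm φ, Abelian.Ext.homEquiv.apply_symm_apply φ⟩
  subst hx
  haveI := H p
  have hcol := isColimitCofanMkObjOfIsColimit (Abelian.extFunctorObj Z p) N (Sigma.ι N)
    (coproductIsCoproduct N)
  have hx' : ∃ (s : Finset I) (y : ∀ i, Abelian.Ext Z (N i) p),
      x = ∑ i ∈ s, (y i).comp (Abelian.Ext.mk₀ (Sigma.ι N i)) (add_zero p) := by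
    obtain ⟨s, y, hy⟩ := ab_gen _ hcol x
    exact ⟨s, y, hy⟩
  obtain ⟨s, y, rfl⟩ := hx'
  refine ⟨s, fun i => (y i).hom, ?_⟩
  rw [← Abelian.Ext.homAddEquiv_apply, map_sum]
  refine Finset.sum_congr rfl (fun i _ => ?_)
  rw [Abelian.Ext.homAddEquiv_apply]
  exact ext_key Z (Sigma.ι N i) p (y i)

include H in
theorem main (k : ℕ) : ∀ (X : I → DerivedCategory A), (∀ i, (X i).IsGE (1 - (k : ℤ))) →
    ∀ (c : Cofan X), IsColimit c → FinC ((DerivedCategory.singleFunctor A 0).obj Z) c := by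
  induction k with
  | zero =>
    intro X hX c hc φ
    have hX1 : ∀ i, (X i).IsGE 1 := fun i => by
      have := hX i
      simpa using this
    haveI : c.pt.IsGE 1 := isGE_pt 1 hX1 hc
    refine ⟨∅, fun _ => 0, ?_⟩
    rw [Finset.sum_empty]
    exact (tt A).zero_of_isLE_of_isGE φ 0 1 (by omega) inferInstance inferInstance
  | succ k ih =>
    intro X hX c hc
    have hX' : ∀ i, (X i).IsGE (-(k : ℤ)) := fun i => by
      have := hX i
      have e : (1 : ℤ) - ((k + 1 : ℕ) : ℤ) = -(k : ℤ) := by push_cast; ring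
      rwa [e] at this
    haveI : HasColimitsOfShape (Discrete I) (DerivedCategory A) := DerCoprodB.hasColimitsOfShape
    let X' : I → DerivedCategory A := fun i => ((tt A).truncLE (-(k : ℤ))).obj (X i)
    let X'' : I → DerivedCategory A := fun i => ((tt A).truncGE (-(k : ℤ) + 1)).obj (X i)
    have h'' : FinC ((DerivedCategory.singleFunctor A 0).obj Z) (Cofan.mk (∐ X'') (Sigma.ι X'')) := by
      refine ih X'' (fun i => ?_) _ (coproductIsCoproduct X'')
      have e : (1 : ℤ) - (k : ℤ) = -(k : ℤ) + 1 := by ring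
      rw [e]
      change (tt A).IsGE (((tt A).truncGE (-(k : ℤ) + 1)).obj (X i)) (-(k : ℤ) + 1)
      infer_instance
    have hN : ∀ i, ∃ N : A,
        Nonempty (((DerivedCategory.singleFunctor A 0).obj N)⟦(k : ℤ)⟧ ≅ X' i) := by
      intro i
      haveI := hX' i
      haveI : (tt A).IsGE (X' i) (-(k : ℤ)) := by
        change (tt A).IsGE (((tt A).truncLE (-(k : ℤ))).obj (X i)) (-(k : ℤ))
        infer_instance
      haveI : (tt A).IsLE (X' i) (-(k : ℤ)) := by
        change (tt A).IsLE (((tt A).truncLE (-(k : ℤ))).obj (X i)) (-(k : ℤ))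
        infer_instance
      obtain ⟨N, ⟨e⟩⟩ := DerivedCategory.exists_iso_singleFunctor_obj_of_isGE_of_isLE
        (X' i) (-(k : ℤ))
      exact ⟨N, ⟨((DerivedCategory.singleFunctors A).shiftIso (k : ℤ) (-(k : ℤ)) 0
        (by omega)).app N ≪≫ e.symm⟩⟩
    choose N eN using hN
    have h' : FinC ((DerivedCategory.singleFunctor A 0).obj Z) (Cofan.mk (∐ X') (Sigma.ι X')) :=
      finC_of_iso _ (fun i => (eN i).some) (isColimit_c₀ N k) (coproductIsCoproduct X')
        (finC_single Z H N k)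
    exact finC_mid _ (X' := X') (X := X) (X'' := X'')
      (fun i => ((tt A).truncLEι (-(k : ℤ))).app (X i))
      (fun i => ((tt A).truncGEπ (-(k : ℤ) + 1)).app (X i))
      (fun i => ((tt A).truncGEδLE (-(k : ℤ)) (-(k : ℤ) + 1) rfl).app (X i))
      (fun i => (tt A).triangleLEGE_distinguished (-(k : ℤ)) (-(k : ℤ) + 1) rfl (X i))
      (coproductIsCoproduct X') hc (coproductIsCoproduct X'') h' h''

end Der

section Final

open DerivedCategory

variable {D : Type u} [Category.{v} D] [Preadditive D] (T : D) {I : Type v}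

lemma ι_pr_self (X : I → D) [HasCoproduct X] (j : I) :
    Sigma.ι X j ≫ pr (coproductIsCoproduct X) j = 𝟙 _ :=
  inj_pr_self (coproductIsCoproduct X) j

lemma ι_pr_ne (X : I → D) [HasCoproduct X] {i j : I} (h : i ≠ j) :
    Sigma.ι X i ≫ pr (coproductIsCoproduct X) j = 0 :=
  inj_pr_ne (coproductIsCoproduct X) h

open Classical in
lemma homSum_pr (X : I → D) [HasCoproduct X] (x : DirectSum I (fun i => T ⟶ X i)) (j : I) :
    CohDer.homSumToHomCoprod T X x ≫ pr (coproductIsCoproduct X) j = x j := by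
  induction x using DirectSum.induction_on with
  | zero => simp
  | of i g =>
    rw [CompactFam.homSum_of]
    by_cases h : i = j
    · subst h
      rw [Category.assoc, ι_pr_self, Category.comp_id, DirectSum.of_eq_same]
    · rw [Category.assoc, ι_pr_ne X h, comp_zero, DirectSum.of_eq_of_ne _ _ _ (Ne.symm h)]
  | add a b ha hb =>
    rw [map_add, Preadditive.add_comp, ha, hb, DirectSum.add_apply]

theorem bijective_of_finC (X : I → D) [HasCoproduct X]
    (h : FinC T (Cofan.mk (∐ X) (Sigma.ι X))) :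
    Function.Bijective (CohDer.homSumToHomCoprod T X) := by
  classical
  constructor
  · intro x y hxy
    ext j
    rw [← homSum_pr T X x j, ← homSum_pr T X y j, hxy]
  · intro φ
    obtain ⟨s, g, hg⟩ := h φ
    refine ⟨∑ i ∈ s, DirectSum.of (fun i => T ⟶ X i) i (g i), ?_⟩
    rw [map_sum, hg]
    exact Finset.sum_congr rfl (fun i _ => CompactFam.homSum_of X i (g i))

end Final

section Result

open DerivedCategory

variable {A : Type u} [Category.{v} A] [Abelian A] [HasDerivedCategory.{w} A]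
  {I : Type w} [HasColimitsOfShape (Discrete I) A] [HasExactColimitsOfShape (Discrete I) A]
  [HasExt.{w'} A] (Z : A)
  (H : ∀ p : ℕ, PreservesColimitsOfShape (Discrete I) (Abelian.extFunctorObj Z p))

include H in
theorem bijective (M : I → DerivedCategory A) [HasCoproduct M] (a : ℤ)
    (hM : ∀ i, (M i).IsGE a) :
    Function.Bijective
      (CohDer.homSumToHomCoprod ((DerivedCategory.singleFunctor A 0).obj Z) M) := by
  obtain ⟨k, hk⟩ : ∃ k : ℕ, 1 - (k : ℤ) ≤ a := by
    refine ⟨(1 - a).toNat, ?_⟩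
    have := Int.self_le_toNat (1 - a)
    omega
  have hM' : ∀ i, (M i).IsGE (1 - (k : ℤ)) := fun i => by
    haveI := hM i
    exact (tt A).isGE_of_ge _ _ _ hk
  exact bijective_of_finC _ M (main Z H k M hM' _ (coproductIsCoproduct M))

end Result

end Groth.Agent.Lib.CompactBBB
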