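-- Copy of Groth/Agent/Lib/ModCompGen_helper7.lean with namespaces renamed (lead), so that it can be imported together with
-- `DerCoprod_lead` (which shares the namespace `DerCoprod` with `DerCoprod_helper9`). Original proofs by helper7/helper9.
import Mathlib
import Groth.Agent.Lib.CompactFDB_lead

/-!
# The derived category of modules is compactly generated (helper7)
-/

set_option autoImplicit false
set_option backward.isDefEq.respectTransparency false
universe w' w v u
open CategoryTheory Limits Pretriangulated DerivedCategory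

namespace Groth.Agent.Lib.ModCompGenB

open Groth.Agent.Lib.CompactBBB (tt)

section Gen

variable {A : Type u} [Category.{v} A] [Abelian A] [IsGrothendieckAbelian.{v} A]
  [HasDerivedCategory.{w} A] [HasExt.{w'} A]

/-- a separator with vanishing `Ext^1` generates the derived category -/
theorem generates_of_separator (P : A) (hP : IsSeparator P)
    (hd : ∀ F : A, Subsingleton (Abelian.Ext P F 1)) :
    CohDer.Generates (fun _ : PUnit.{w + 1} => (DerivedCategory.singleFunctor A 0).obj P) := by
  intro K hK
  have hH : ∀ n : ℤ, IsZero ((DerivedCategory.homologyFunctor A n).obj K) := by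
    intro n
    obtain ⟨X, hXdef⟩ : ∃ X : DerivedCategory A, X = (shiftFunctor (DerivedCategory A) n).obj K :=
      ⟨_, rfl⟩
    have hX : ∀ f : (DerivedCategory.singleFunctor A 0).obj P ⟶ X, f = 0 := by
      intro f
      subst hXdef
      exact hK PUnit.unit n f
    -- step (i)
    have hT₁ := (tt A).triangleLEGE_distinguished (-1) 0 (by omega) X
    have h1 : ∀ f : (DerivedCategory.singleFunctor A 0).obj P ⟶ ((tt A).truncGE 0).obj X,
        f = 0 := by
      intro f
      have hδ : f ≫ ((tt A).truncGEδLE (-1) 0 (by omega)).app X = 0 := by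
        haveI : (tt A).IsLE ((((tt A).truncLE (-1)).obj X)⟦(1 : ℤ)⟧) (-2) :=
          (tt A).isLE_shift _ (-1) 1 (-2) (by omega)
        have hle : ((((tt A).truncLE (-1)).obj X)⟦(1 : ℤ)⟧).IsLE (-((0 : ℕ) : ℤ) - 1) := by
          have e : (-((0 : ℕ) : ℤ) - 1) = -1 := by simp
          rw [e]
          exact (tt A).isLE_of_le _ (-2) (-1) (by omega)
        exact CompactFDB.hom_eq_zero P 0 (fun F => by simpa using hd F) _ hle _
      obtain ⟨g, hg⟩ := Triangle.coyoneda_exact₃ _ hT₁ f hδ
      rw [hg, hX g, zero_comp]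
    -- step (ii)
    obtain ⟨X₁, hX₁def⟩ : ∃ X₁ : DerivedCategory A, X₁ = ((tt A).truncGE 0).obj X := ⟨_, rfl⟩
    haveI hX₁ge : (tt A).IsGE X₁ 0 := by
      rw [hX₁def]
      infer_instance
    have h1' : ∀ f : (DerivedCategory.singleFunctor A 0).obj P ⟶ X₁, f = 0 := by
      rw [hX₁def]
      exact h1
    have hT₂ := (tt A).triangleLEGE_distinguished 0 1 (by omega) X₁
    have h2 : ∀ f : (DerivedCategory.singleFunctor A 0).obj P ⟶ ((tt A).truncLE 0).obj X₁,
        f = 0 := by
      intro f
      have hf : f ≫ ((tt A).truncLEι 0).app X₁ = 0 := h1' _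
      obtain ⟨g, hg⟩ := Triangle.coyoneda_exact₂ _ (inv_rot_of_distTriang _ hT₂) f hf
      haveI : (tt A).IsGE ((((tt A).truncGE 1).obj X₁)⟦(-1 : ℤ)⟧) 2 :=
        (tt A).isGE_shift _ 1 (-1) 2 (by omega)
      have hg0 : g = 0 := (tt A).zero_of_isLE_of_isGE g 0 2 (by omega) inferInstance
        (by
          change (tt A).IsGE ((((tt A).truncGE 1).obj X₁)⟦(-1 : ℤ)⟧) 2
          infer_instance)
      rw [hg, hg0, zero_comp]
    -- step (iii)
    haveI : (tt A).IsGE (((tt A).truncLE 0).obj X₁) 0 := inferInstance
    haveI : (tt A).IsLE (((tt A).truncLE 0).obj X₁) 0 := inferInstance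
    obtain ⟨N, ⟨e⟩⟩ := DerivedCategory.exists_iso_singleFunctor_obj_of_isGE_of_isLE
      (((tt A).truncLE 0).obj X₁) 0
    have hφ : ∀ φ : P ⟶ N, φ = 0 := by
      intro φ
      have h3 := h2 ((DerivedCategory.singleFunctor A 0).map φ ≫ e.inv)
      have h4 : (DerivedCategory.singleFunctor A 0).map φ = 0 := by
        rw [← cancel_mono e.inv, h3, zero_comp]
      exact (DerivedCategory.singleFunctor A 0).map_injective
        (by rw [h4, Functor.map_zero])
    have hN : IsZero N := by
      rw [IsZero.iff_id_eq_zero]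
      apply (isSeparator_def P).1 hP
      intro h
      rw [hφ h, zero_comp, zero_comp]
    have hX₁' : IsZero (((tt A).truncLE 0).obj X₁) :=
      IsZero.of_iso ((DerivedCategory.singleFunctor A 0).map_isZero hN) e
    -- step (iv)
    haveI : (tt A).IsGE X₁ 1 := ((tt A).isGE_iff_isZero_truncLE_obj 0 1 (by omega) X₁).2 hX₁'
    -- step (v)
    have hex := DerivedCategory.HomologySequence.exact₂ _ hT₁ 0
    have hzero : IsZero ((DerivedCategory.homologyFunctor A 0).obj X) := by
      refine hex.isZero_of_both_zeros ?_ ?_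
      · haveI : (tt A).IsLE (((tt A).truncLE (-1)).obj X) (-1) := inferInstance
        exact (DerivedCategory.isZero_of_isLE (((tt A).truncLE (-1)).obj X) (-1) 0
          (by omega)).eq_of_src _ _
      · have hz : IsZero ((DerivedCategory.homologyFunctor A 0).obj (((tt A).truncGE 0).obj X)) := by
          rw [← hX₁def]
          exact DerivedCategory.isZero_of_isGE X₁ 1 0 (by omega)
        exact hz.eq_of_tgt _ _
    -- step (vi)
    subst hXdef
    exact IsZero.of_iso hzero
      (((DerivedCategory.homologyFunctor A 0).shiftIso n 0 n (by omega)).app K).symm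
  haveI : K.IsLE 0 := (DerivedCategory.isLE_iff K 0).2 (fun i _ => hH i)
  haveI : K.IsGE 1 := (DerivedCategory.isGE_iff K 1).2 (fun i _ => hH i)
  exact (tt A).isZero K 0 1 (by omega)

end Gen

section Mod

variable (R : Type v) [Ring R]

/-- `Ext^0(R, -)` is the forgetful functor -/
noncomputable def ext0Iso :
    Abelian.extFunctorObj.{v} (ModuleCat.of R R) 0 ≅
      forget₂ (ModuleCat.{v} R) AddCommGrpCat.{v} :=
  NatIso.ofComponents
    (fun M => AddEquiv.toAddCommGrpIso
      (X := (Abelian.extFunctorObj.{v} (ModuleCat.of R R) 0).obj M)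
      (Y := (forget₂ (ModuleCat.{v} R) AddCommGrpCat.{v}).obj M)
      ((Abelian.Ext.addEquiv₀ (X := ModuleCat.of R R) (Y := M)).trans
        (ModuleCat.homAddEquiv.trans (LinearMap.ringLmapEquivSelf R ℕ M).toAddEquiv)))
    (by
      intro M M' f
      ext x
      obtain ⟨g, rfl⟩ := (Abelian.Ext.addEquiv₀ (X := ModuleCat.of R R) (Y := M)).symm.surjective x
      rw [Abelian.Ext.addEquiv₀_symm_apply]
      change (LinearMap.ringLmapEquivSelf R ℕ M') (ModuleCat.homAddEquiv
        (Abelian.Ext.addEquiv₀ ((Abelian.Ext.mk₀ g).comp (Abelian.Ext.mk₀ f) (add_zero 0)))) =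
        f.hom ((LinearMap.ringLmapEquivSelf R ℕ M) (ModuleCat.homAddEquiv
          (Abelian.Ext.addEquiv₀ (Abelian.Ext.mk₀ g))))
      rw [Abelian.Ext.mk₀_comp_mk₀, ← Abelian.Ext.addEquiv₀_symm_apply,
        ← Abelian.Ext.addEquiv₀_symm_apply, AddEquiv.apply_symm_apply,
        AddEquiv.apply_symm_apply]
      rfl)

variable [HasDerivedCategory.{v} (ModuleCat.{v} R)]

theorem isCompact_single :
    ∀ (ι : Type v) (X : ι → DerivedCategory (ModuleCat.{v} R)) [HasCoproduct X],
      Function.Bijective (CohDer.homSumToHomCoprod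
        ((DerivedCategory.singleFunctor (ModuleCat.{v} R) 0).obj (ModuleCat.of R R)) X) := by
  intro ι X _
  refine CompactFDB.bijective_fd (ModuleCat.of R R) 0 ?_ ?_ X
  · intro F p hp
    obtain ⟨q, rfl⟩ : ∃ q, p = q + 1 := ⟨p - 1, by omega⟩
    exact ⟨fun a b => (Abelian.Ext.eq_zero_of_projective a).trans
      (Abelian.Ext.eq_zero_of_projective b).symm⟩
  · intro p
    rcases Nat.eq_zero_or_pos p with rfl | hp
    · exact preservesColimitsOfShape_of_natIso (ext0Iso R).symm
    · obtain ⟨q, rfl⟩ : ∃ q, p = q + 1 := ⟨p - 1, by omega⟩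
      apply Functor.preservesColimitsOfShape_of_isZero
      rw [Functor.isZero_iff]
      intro M
      haveI : Subsingleton (Abelian.Ext (ModuleCat.of R R) M (q + 1)) :=
        ⟨fun a b => (Abelian.Ext.eq_zero_of_projective a).trans
          (Abelian.Ext.eq_zero_of_projective b).symm⟩
      exact @AddCommGrpCat.isZero_of_subsingleton _ (by
        change Subsingleton (Abelian.Ext (ModuleCat.of R R) M (q + 1))
        infer_instance)

theorem generates_single :
    CohDer.Generates (fun _ : PUnit.{v + 1} =>
      (DerivedCategory.singleFunctor (ModuleCat.{v} R) 0).obj (ModuleCat.of R R)) := by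
  apply generates_of_separator
  · rw [isSeparator_def]
    intro M N f g h
    ext x
    have := h (ModuleCat.ofHom (LinearMap.toSpanSingleton R M x))
    have h2 := congrArg (fun φ => φ.hom (1 : R)) this
    simpa using h2
  · intro F
    exact ⟨fun a b => (Abelian.Ext.eq_zero_of_projective a).trans
      (Abelian.Ext.eq_zero_of_projective b).symm⟩

end Mod

end Groth.Agent.Lib.ModCompGenB
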