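-- Copy of Groth/Agent/Lib/BrownGroth_helper7.lean (helper7) importing lead's renamed copies `ModCompGenB_lead` etc., so that it can be
-- imported together with `DerCoprod_lead`.
import Mathlib
import Groth.Agent.Lib.BrownLoc_helper7
import Groth.Agent.Lib.ModCompGenB_lead
import Groth.Agent.Lib.DerSmall_helper7
import Groth.Agent.Lib.OrthDeriv_helper9

/-!
# Brown representability for the derived category of a Grothendieck abelian category (helper7)

Via the derived Gabriel-Popescu theorem, `D(A)` is a Bousfield localization of `D(Mod R)`, which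
is compactly generated.
-/

set_option autoImplicit false
set_option backward.isDefEq.respectTransparency false
universe v u u'
open CategoryTheory Limits Pretriangulated Opposite
open CategoryTheory.Pretriangulated.Opposite

namespace Groth.Agent.Lib.BrownGrothB

variable {A : Type u} [Category.{v} A] [Abelian A] [IsGrothendieckAbelian.{v} A]
  [HasDerivedCategory.{v} A]

theorem representable (H : (DerivedCategory A)ᵒᵖ ⥤ AddCommGrpCat.{v}) [H.IsHomological]
    [∀ κ : Type v, PreservesLimitsOfShape (Discrete κ) H] :
    (H ⋙ forget AddCommGrpCat.{v}).IsRepresentable := by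
  let U : A := separator A
  have hU : IsSeparator U := isSeparator_separator A
  letI : HasDerivedCategory.{v} (ModuleCat.{v} (End U)ᵐᵒᵖ) :=
    DerSmall.hasDerivedCategorySmall _
  haveI : (IsGrothendieckAbelian.tensorObj U).Additive :=
    (IsGrothendieckAbelian.tensorObjPreadditiveCoyonedaObjAdjunction U).left_adjoint_additive
  haveI : PreservesFiniteLimits (IsGrothendieckAbelian.tensorObj U) :=
    IsGrothendieckAbelian.GabrielPopescu.preservesFiniteLimits U hU
  haveI : PreservesFiniteColimits (IsGrothendieckAbelian.tensorObj U) := by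
    haveI := (IsGrothendieckAbelian.tensorObjPreadditiveCoyonedaObjAdjunction
      U).leftAdjoint_preservesColimits
    infer_instance
  haveI : ((preadditiveCoyonedaObj U).mapHomotopyCategory (ComplexShape.up ℤ) ⋙
      DerivedCategory.Qh).HasRightDerivedFunctor
      (HomotopyCategory.quasiIso A (ComplexShape.up ℤ)) :=
    (OrthDeriv.main (HomotopyCategory.quasiIso A (ComplexShape.up ℤ))
      (HomotopyCategory.quasiIso_eq_trW_subcategoryAcyclic A) KInjGen8.hP
      DerivedCategory.Qh _).1
  obtain ⟨⟨adj⟩, hfull, hfaith, _⟩ := KInjGen8.gp_derived U hU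
  haveI := hfull
  haveI := hfaith
  haveI : HasCoproducts.{v} (DerivedCategory (ModuleCat.{v} (End U)ᵐᵒᵖ)) :=
    fun J => DerCoprodB.hasColimitsOfShape
  refine BrownLoc.representable _ _ adj (fun H₁ _ _ => ?_) H
  exact BrownRep.representable H₁
    (fun _ : PUnit.{v + 1} => (DerivedCategory.singleFunctor (ModuleCat.{v} (End U)ᵐᵒᵖ) 0).obj
      (ModuleCat.of (End U)ᵐᵒᵖ (End U)ᵐᵒᵖ))
    (fun _ => fun ι X => ModCompGenB.isCompact_single (End U)ᵐᵒᵖ ι X)
    (ModCompGenB.generates_single (End U)ᵐᵒᵖ)

variable {D : Type u'} [Category.{v} D] [Preadditive D] [HasZeroObject D] [HasShift D ℤ]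
  [∀ n : ℤ, (shiftFunctor D n).Additive] [Pretriangulated D]
  (F : DerivedCategory A ⥤ D) [F.CommShift ℤ] [F.IsTriangulated]
  [∀ (ι : Type v), PreservesColimitsOfShape (Discrete ι) F]

theorem isLeftAdjoint : F.IsLeftAdjoint := by
  apply Functor.isLeftAdjoint_of_rightAdjointObjIsDefined_eq_top
  ext Y'
  simp only [Pi.top_apply, Prop.top_eq_true, iff_true]
  rw [Functor.rightAdjointObjIsDefined_iff]
  haveI : ∀ κ : Type v, PreservesLimitsOfShape (Discrete κ) F.op := fun κ => by
    haveI : PreservesColimitsOfShape (Discrete κ)ᵒᵖ F :=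
      preservesColimitsOfShape_of_equiv (Discrete.opposite κ).symm F
    exact preservesLimitsOfShape_op (Discrete κ) F
  exact representable (F.op ⋙ preadditiveYoneda.obj Y')

end Groth.Agent.Lib.BrownGrothB
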