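import Mathlib

/-!
# Coproducts in the derived category of an abelian category with exact coproducts (helper9)
-/

open CategoryTheory CategoryTheory.Limits

namespace DerCoprod

universe w v u

variable {A : Type u} [Category.{v} A] [Abelian A] {J : Type w}

section ShortComplexes

/-- a morphism of short complexes in a functor category which is pointwise a quasi-isomorphism
is a quasi-isomorphism -/
lemma quasiIso_of_eval {S₁ S₂ : ShortComplex (Discrete J ⥤ A)} (φ : S₁ ⟶ S₂)
    (h : ∀ j, ShortComplex.QuasiIso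
      ((((evaluation (Discrete J) A).obj j).mapShortComplex).map φ)) :
    ShortComplex.QuasiIso φ := by
  rw [ShortComplex.quasiIso_iff]
  haveI : ∀ j, IsIso ((ShortComplex.homologyMap φ).app j) := by
    intro j
    let F := (evaluation (Discrete J) A).obj j
    have nat := ShortComplex.mapHomologyIso_hom_naturality φ F
    haveI := (ShortComplex.quasiIso_iff _).1 (h j)
    have h1 : IsIso (ShortComplex.homologyMap (F.mapShortComplex.map φ) ≫
        (S₂.mapHomologyIso F).hom) := inferInstance
    have h2 : IsIso ((S₁.mapHomologyIso F).hom ≫ F.map (ShortComplex.homologyMap φ)) :=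
      nat ▸ h1
    show IsIso (F.map (ShortComplex.homologyMap φ))
    exact IsIso.of_isIso_comp_left (S₁.mapHomologyIso F).hom _
  exact NatIso.isIso_of_isIso_app _

end ShortComplexes

section Model

variable (K : J → CochainComplex A ℤ)

/-- the family of complexes as a complex in the functor category -/
abbrev fam : CochainComplex (Discrete J ⥤ A) ℤ where
  X i := Discrete.functor (fun j => (K j).X i)
  d i i' := Discrete.natTrans (fun j => (K j.as).d i i')
  shape i i' h := by
    ext ⟨j⟩
    simp [(K j).shape i i' h]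
  d_comp_d' i i' i'' _ _ := by
    ext ⟨j⟩
    simp

variable {K} in
/-- a family of morphisms as a morphism in the functor category -/
abbrev famMap {K' : J → CochainComplex A ℤ} (s : ∀ j, K' j ⟶ K j) : fam K' ⟶ fam K where
  f i := Discrete.natTrans (fun j => (s j.as).f i)
  comm' i i' _ := by
    ext ⟨j⟩
    simp [fam]

lemma quasiIso_famMap {K' : J → CochainComplex A ℤ} (s : ∀ j, K' j ⟶ K j)
    [∀ j, QuasiIso (s j)] : QuasiIso (famMap s) := by
  rw [quasiIso_iff]
  intro i
  rw [quasiIsoAt_iff]
  apply quasiIso_of_eval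
  rintro ⟨j⟩
  have : QuasiIsoAt (s j) i := inferInstance
  rw [quasiIsoAt_iff] at this
  exact this

variable [HasColimitsOfShape (Discrete J) A]

/-- the coproduct complex -/
noncomputable def sig : CochainComplex A ℤ where
  X i := ∐ fun j => (K j).X i
  d i i' := Limits.Sigma.map (fun j => (K j).d i i')
  shape i i' h := by
    apply Sigma.hom_ext
    intro j
    rw [Sigma.ι_map, (K j).shape i i' h, zero_comp, comp_zero]
  d_comp_d' i i' i'' _ _ := by
    apply Sigma.hom_ext
    intro j
    rw [Sigma.ι_map_assoc, Sigma.ι_map, HomologicalComplex.d_comp_d_assoc, zero_comp, comp_zero]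

/-- degreewise inclusion -/
noncomputable def ιX (i : ℤ) (j : J) : (K j).X i ⟶ (sig K).X i :=
  Sigma.ι (fun j => (K j).X i) j

/-- degreewise universal property -/
noncomputable def descX (i : ℤ) {Z : A} (p : ∀ j, (K j).X i ⟶ Z) : (sig K).X i ⟶ Z :=
  Sigma.desc p

@[reassoc (attr := simp)]
lemma ιX_descX (i : ℤ) {Z : A} (p : ∀ j, (K j).X i ⟶ Z) (j : J) :
    ιX K i j ≫ descX K i p = p j :=
  Sigma.ι_desc p j

variable {K} in
lemma homX_ext {i : ℤ} {Z : A} {a b : (sig K).X i ⟶ Z}
    (h : ∀ j, ιX K i j ≫ a = ιX K i j ≫ b) : a = b :=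
  Sigma.hom_ext _ _ h

@[reassoc]
lemma ιX_d (i i' : ℤ) (j : J) :
    ιX K i j ≫ (sig K).d i i' = (K j).d i i' ≫ ιX K i' j :=
  Sigma.ι_map (fun j => (K j).d i i') j

/-- the inclusions -/
noncomputable def ι (j : J) : K j ⟶ sig K where
  f i := ιX K i j
  comm' i i' _ := ιX_d K i i' j

@[simp]
lemma ι_f (j : J) (i : ℤ) : (ι K j).f i = ιX K i j := rfl

variable {K} in
/-- the universal property at the level of complexes -/
noncomputable def desc {L : CochainComplex A ℤ} (g : ∀ j, K j ⟶ L) : sig K ⟶ L where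
  f i := descX K i (fun j => (g j).f i)
  comm' i i' _ := by
    apply homX_ext
    intro j
    rw [ιX_descX_assoc, ιX_d_assoc, ιX_descX, (g j).comm]

variable {K} in
@[simp]
lemma desc_f {L : CochainComplex A ℤ} (g : ∀ j, K j ⟶ L) (i : ℤ) :
    (desc g).f i = descX K i (fun j => (g j).f i) := rfl

variable {K} in
@[reassoc (attr := simp)]
lemma ι_desc {L : CochainComplex A ℤ} (g : ∀ j, K j ⟶ L) (j : J) : ι K j ≫ desc g = g j := by
  ext i
  exact ιX_descX K i _ j

variable {K} in
lemma hom_ext {L : CochainComplex A ℤ} {a b : sig K ⟶ L} (h : ∀ j, ι K j ≫ a = ι K j ≫ b) :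
    a = b := by
  ext i
  apply homX_ext
  intro j
  exact congrArg (fun φ => φ.f i) (h j)

variable {K} in
/-- functoriality -/
noncomputable def sigMap {K' : J → CochainComplex A ℤ} (s : ∀ j, K' j ⟶ K j) :
    sig K' ⟶ sig K :=
  desc (fun j => s j ≫ ι K j)

variable {K} in
@[reassoc]
lemma ι_sigMap {K' : J → CochainComplex A ℤ} (s : ∀ j, K' j ⟶ K j) (j : J) :
    ι K' j ≫ sigMap s = s j ≫ ι K j := ι_desc _ j

/-- comparison with the image of the family under `colim` -/
noncomputable def sigIso : sig K ≅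
    ((colim : (Discrete J ⥤ A) ⥤ A).mapHomologicalComplex (ComplexShape.up ℤ)).obj (fam K) :=
  HomologicalComplex.Hom.isoOfComponents (fun i => Iso.refl _) (by
    intro i i' _
    exact (Category.id_comp _).trans (Category.comp_id _).symm)

lemma sigIso_hom_f (i : ℤ) : (sigIso K).hom.f i = 𝟙 _ := rfl

variable {K} in
lemma sigIso_naturality {K' : J → CochainComplex A ℤ} (s : ∀ j, K' j ⟶ K j) :
    sigMap s ≫ (sigIso K).hom = (sigIso K').hom ≫
      ((colim : (Discrete J ⥤ A) ⥤ A).mapHomologicalComplex (ComplexShape.up ℤ)).map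
        (famMap s) := by
  ext i
  apply homX_ext
  intro j
  have h1 : ιX K' i j ≫ (sigMap s).f i = (s j).f i ≫ ιX K i j :=
    congrArg (fun φ => φ.f i) (ι_sigMap s j)
  have h2 : ιX K' i j ≫ colimMap ((famMap s).f i) = (s j).f i ≫ ιX K i j :=
    ι_colimMap ((famMap s).f i) ⟨j⟩
  have e1 : (sigMap s ≫ (sigIso K).hom).f i = (sigMap s).f i := by
    rw [HomologicalComplex.comp_f, sigIso_hom_f]
    exact Category.comp_id _
  have e2 : ((sigIso K').hom ≫
      ((colim : (Discrete J ⥤ A) ⥤ A).mapHomologicalComplex (ComplexShape.up ℤ)).map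
        (famMap s)).f i = colimMap ((famMap s).f i) := by
    rw [HomologicalComplex.comp_f, sigIso_hom_f]
    exact Category.id_comp _
  rw [e1, e2]
  exact h1.trans h2.symm

variable {K} in
lemma quasiIso_sigMap [HasExactColimitsOfShape (Discrete J) A]
    {K' : J → CochainComplex A ℤ} (s : ∀ j, K' j ⟶ K j)
    [∀ j, QuasiIso (s j)] : QuasiIso (sigMap s) := by
  haveI := quasiIso_famMap K s
  haveI : PreservesFiniteLimits (colim : (Discrete J ⥤ A) ⥤ A) :=
    HasExactColimitsOfShape.preservesFiniteLimits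
  haveI : QuasiIso (((colim : (Discrete J ⥤ A) ⥤ A).mapHomologicalComplex
      (ComplexShape.up ℤ)).map (famMap s)) := inferInstance
  have e : sigMap s = (sigIso K').hom ≫
      ((colim : (Discrete J ⥤ A) ⥤ A).mapHomologicalComplex (ComplexShape.up ℤ)).map
        (famMap s) ≫ (sigIso K).inv := by
    rw [← Category.assoc, ← sigIso_naturality, Category.assoc, Iso.hom_inv_id, Category.comp_id]
  rw [e]
  infer_instance

variable {K} in
/-- a morphism out of the coproduct complex all of whose components are null-homotopic is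
null-homotopic -/
noncomputable def homotopyZero {L : CochainComplex A ℤ} (φ : sig K ⟶ L)
    (h : ∀ j, Homotopy (ι K j ≫ φ) 0) : Homotopy φ 0 where
  hom i i' := descX K i (fun j => (h j).hom i i')
  zero i i' hii' := by
    apply homX_ext
    intro j
    rw [ιX_descX, (h j).zero i i' hii', comp_zero]
  comm i := by
    apply homX_ext
    intro j
    have hj := (h j).comm i
    rw [dNext_eq _ (show (ComplexShape.up ℤ).Rel i (i + 1) from rfl),
      prevD_eq _ (show (ComplexShape.up ℤ).Rel (i - 1) i by simp)] at hj ⊢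
    rw [HomologicalComplex.comp_f, ι_f, HomologicalComplex.zero_f, add_zero] at hj
    rw [HomologicalComplex.zero_f, add_zero, Preadditive.comp_add, ιX_d_assoc, ιX_descX,
      ιX_descX_assoc]
    exact hj

end Model

section Derived

universe w'

variable [HasDerivedCategory.{w'} A]

open DerivedCategory

lemma exists_quasiIso_homotopy {X Y : CochainComplex A ℤ} (h : X ⟶ Y)
    (hh : DerivedCategory.Q.map h = 0) :
    ∃ (X' : CochainComplex A ℤ) (s : X' ⟶ X) (_ : QuasiIso s),
      Nonempty (Homotopy (s ≫ h) 0) := by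
  have h1 : Qh.map ((HomotopyCategory.quotient A _).map h) =
      Qh.map ((HomotopyCategory.quotient A _).map (0 : X ⟶ Y)) := by
    rw [Functor.map_zero, Functor.map_zero]
    exact hh
  obtain ⟨Z, s, hs, fac⟩ := (MorphismProperty.map_eq_iff_precomp Qh
    (HomotopyCategory.quasiIso A (ComplexShape.up ℤ)) _ _).1 h1
  obtain ⟨X', rfl⟩ := HomotopyCategory.quotient_obj_surjective Z
  obtain ⟨s, rfl⟩ := (HomotopyCategory.quotient _ _).map_surjective s
  rw [HomotopyCategory.quotient_map_mem_quasiIso_iff, HomologicalComplex.mem_quasiIso_iff] at hs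
  refine ⟨X', s, hs, ⟨HomotopyCategory.homotopyOfEq _ _ ?_⟩⟩
  rw [Functor.map_comp, fac, Functor.map_zero, Functor.map_zero, comp_zero]

variable [HasColimitsOfShape (Discrete J) A] [HasExactColimitsOfShape (Discrete J) A]
  (K : J → CochainComplex A ℤ)

lemma exists_desc (Y : DerivedCategory A) (f : ∀ j, DerivedCategory.Q.obj (K j) ⟶ Y) :
    ∃ φ : DerivedCategory.Q.obj (sig K) ⟶ Y, ∀ j, DerivedCategory.Q.map (ι K j) ≫ φ = f j := by
  let eL : DerivedCategory.Q.obj (DerivedCategory.Q.objPreimage Y) ≅ Y :=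
    DerivedCategory.Q.objObjPreimageIso Y
  choose K' s hs g hfac using fun j => DerivedCategory.right_fac (f j ≫ eL.inv)
  haveI : ∀ j, QuasiIso (s j) := fun j => (isIso_Q_map_iff_quasiIso A _).1 (hs j)
  haveI : QuasiIso (sigMap s) := quasiIso_sigMap s
  haveI : IsIso (DerivedCategory.Q.map (sigMap s)) := (isIso_Q_map_iff_quasiIso A _).2 inferInstance
  refine ⟨inv (DerivedCategory.Q.map (sigMap s)) ≫ DerivedCategory.Q.map (desc g) ≫ eL.hom, ?_⟩
  intro j
  haveI := hs j
  have h1 : DerivedCategory.Q.map (ι K' j) ≫ DerivedCategory.Q.map (sigMap s) =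
      DerivedCategory.Q.map (s j) ≫ DerivedCategory.Q.map (ι K j) := by
    rw [← Functor.map_comp, ← Functor.map_comp, ι_sigMap]
  have h2 : DerivedCategory.Q.map (ι K j) ≫ inv (DerivedCategory.Q.map (sigMap s)) =
      inv (DerivedCategory.Q.map (s j)) ≫ DerivedCategory.Q.map (ι K' j) := by
    rw [IsIso.comp_inv_eq, Category.assoc, h1, IsIso.inv_hom_id_assoc]
  have h3 : f j = (inv (DerivedCategory.Q.map (s j)) ≫ DerivedCategory.Q.map (g j)) ≫ eL.hom := by
    rw [← hfac j, Category.assoc, Iso.inv_hom_id, Category.comp_id]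
  rw [reassoc_of% h2, ← Functor.map_comp_assoc, ι_desc, h3, Category.assoc]

lemma eq_zero_of_comp (Y : DerivedCategory A) (φ : DerivedCategory.Q.obj (sig K) ⟶ Y)
    (hφ : ∀ j, DerivedCategory.Q.map (ι K j) ≫ φ = 0) : φ = 0 := by
  let eL : DerivedCategory.Q.obj (DerivedCategory.Q.objPreimage Y) ≅ Y :=
    DerivedCategory.Q.objObjPreimageIso Y
  obtain ⟨L', h, t, ht, fac⟩ := DerivedCategory.left_fac (φ ≫ eL.inv)
  have h0 : ∀ j, DerivedCategory.Q.map (ι K j ≫ h) = 0 := by
    intro j
    have : DerivedCategory.Q.map h = (φ ≫ eL.inv) ≫ DerivedCategory.Q.map t := by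
      rw [fac, Category.assoc, IsIso.inv_hom_id, Category.comp_id]
    rw [Functor.map_comp, this, Category.assoc, reassoc_of% (hφ j), zero_comp]
  choose K' s hs H using fun j => exists_quasiIso_homotopy (ι K j ≫ h) (h0 j)
  haveI : ∀ j, QuasiIso (s j) := hs
  haveI : QuasiIso (sigMap s) := quasiIso_sigMap s
  haveI : IsIso (DerivedCategory.Q.map (sigMap s)) := (isIso_Q_map_iff_quasiIso A _).2 inferInstance
  have hH : Homotopy (sigMap s ≫ h) 0 := by
    apply homotopyZero
    intro j
    have e : ι K' j ≫ sigMap s ≫ h = s j ≫ ι K j ≫ h := by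
      rw [ι_sigMap_assoc]
    rw [e]
    exact (H j).some
  have h4 : DerivedCategory.Q.map (sigMap s) ≫ DerivedCategory.Q.map h = 0 := by
    rw [← Functor.map_comp, DerivedCategory.Q_map_eq_of_homotopy A hH, Functor.map_zero]
  have h5 : DerivedCategory.Q.map h = 0 := by
    rw [← cancel_epi (DerivedCategory.Q.map (sigMap s)), h4, comp_zero]
  have h6 : φ ≫ eL.inv = 0 := by
    rw [fac, h5, zero_comp]
  rw [← cancel_mono eL.inv, h6, zero_comp]

/-- the coproduct complex gives a coproduct in the derived category -/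
noncomputable def isColimitCofan :
    IsColimit (Cofan.mk (DerivedCategory.Q.obj (sig K))
      (fun j => DerivedCategory.Q.map (ι K j))) :=
  Cofan.IsColimit.mk _ (fun t => (exists_desc K t.pt t.inj).choose)
    (fun t j => (exists_desc K t.pt t.inj).choose_spec j)
    (fun t m hm => by
      rw [← sub_eq_zero]
      apply eq_zero_of_comp K
      intro j
      rw [Preadditive.comp_sub, sub_eq_zero]
      exact (hm j).trans ((exists_desc K t.pt t.inj).choose_spec j).symm)

lemma hasCoproduct_Q : HasCoproduct (fun j => DerivedCategory.Q.obj (K j)) :=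
  ⟨⟨⟨_, isColimitCofan K⟩⟩⟩

omit K in
theorem hasColimitsOfShape : HasColimitsOfShape (Discrete J) (DerivedCategory A) := by
  constructor
  intro F
  let K : J → CochainComplex A ℤ := fun j => DerivedCategory.Q.objPreimage (F.obj ⟨j⟩)
  haveI := hasCoproduct_Q K
  let e : F ≅ Discrete.functor (fun j => DerivedCategory.Q.obj (K j)) :=
    Discrete.natIso (fun ⟨j⟩ => (DerivedCategory.Q.objObjPreimageIso (F.obj ⟨j⟩)).symm)
  exact hasColimit_of_iso e

end Derived

end DerCoprod
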