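import Mathlib
import Groth.Agent.Lib.DerCoprod_helper9

/-!
# `Q` preserves coproducts when coproducts are exact (helper9)
-/

open CategoryTheory CategoryTheory.Limits

namespace DerCoprod

universe w' w v u

variable {A : Type u} [Category.{v} A] [Abelian A] {J : Type w}
  [HasColimitsOfShape (Discrete J) A] (K : J → CochainComplex A ℤ)

/-- `sig K` is a coproduct in the category of complexes -/
noncomputable def isColimitSig : IsColimit (Cofan.mk (sig K) (ι K)) :=
  Cofan.IsColimit.mk _ (fun t => desc t.inj) (fun t j => ι_desc t.inj j)
    (fun t m hm => hom_ext (fun j => (hm j).trans (ι_desc t.inj j).symm))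

variable [HasDerivedCategory.{w'} A] [HasExactColimitsOfShape (Discrete J) A]

theorem preservesColimit_Q :
    PreservesColimit (Discrete.functor K) (DerivedCategory.Q (C := A)) :=
  preservesColimit_of_preserves_colimit_cocone (isColimitSig K)
    ((isColimitMapCoconeCofanMkEquiv _ _ _).symm (isColimitCofan K))

end DerCoprod
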