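import Mathlib
import Groth.Agent.Lib.CompactBB_helper7
import Groth.Agent.Lib.KInjGen8_helper7
import Groth.Agent.Lib.StupidTr_helper7

/-!
# Objects of finite cohomological dimension with coproduct-preserving `Ext` are compact (helper7)
-/

set_option autoImplicit false
set_option backward.isDefEq.respectTransparency false
universe t w' w v u
open CategoryTheory Limits Pretriangulated DerivedCategory

namespace Groth.Agent.Lib.CompactFD

open Groth.Agent.Lib.CompactBB (tt FinC finC_mid main bijective_of_finC)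
open Groth.Agent.Lib.StupidTr (tr trι)

section Trunc

variable {A : Type u} [Category.{v} A] [Abelian A]

lemma quasiIsoAt_trι (K : CochainComplex A ℤ) (a j : ℤ) (h : a < j) :
    QuasiIsoAt (trι K a) j := by
  rw [quasiIsoAt_iff' (trι K a) (j - 1) j (j + 1) (by simp) (by simp)]
  haveI : IsIso ((trι K a).f (j - 1)) := StupidTr.isIso_trι_f K a (by omega)
  haveI : IsIso ((trι K a).f j) := StupidTr.isIso_trι_f K a (by omega)
  haveI : IsIso ((trι K a).f (j + 1)) := StupidTr.isIso_trι_f K a (by omega)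
  haveI : Epi ((HomologicalComplex.shortComplexFunctor' A (ComplexShape.up ℤ) (j - 1) j
      (j + 1)).map (trι K a)).τ₁ := by
    change Epi ((trι K a).f (j - 1))
    infer_instance
  haveI : IsIso ((HomologicalComplex.shortComplexFunctor' A (ComplexShape.up ℤ) (j - 1) j
      (j + 1)).map (trι K a)).τ₂ := by
    change IsIso ((trι K a).f j)
    infer_instance
  haveI : Mono ((HomologicalComplex.shortComplexFunctor' A (ComplexShape.up ℤ) (j - 1) j
      (j + 1)).map (trι K a)).τ₃ := by
    change Mono ((trι K a).f (j + 1))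
    infer_instance
  exact ShortComplex.quasiIso_of_epi_of_isIso_of_mono _

end Trunc

section Vanish

variable {A : Type u} [Category.{v} A] [Abelian A] [IsGrothendieckAbelian.{v} A]
  [HasDerivedCategory.{w} A] [HasExt.{w'} A]

/-- an object of cohomological dimension `≤ d` has no maps to objects which are `≤ -d-1` -/
theorem hom_eq_zero (Z : A) (d : ℕ) (hd : ∀ F : A, Subsingleton (Abelian.Ext Z F (d + 1)))
    (Y : DerivedCategory A) (hY : Y.IsLE (-(d : ℤ) - 1))
    (φ : (DerivedCategory.singleFunctor A 0).obj Z ⟶ Y) : φ = 0 := by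
  obtain ⟨I, hI, _, ⟨e⟩⟩ := KInjGen8.exists_kInjective_rep Y
  haveI := hI
  obtain ⟨f, hf⟩ : ∃ f : (CochainComplex.singleFunctor A 0).obj Z ⟶ I,
      DerivedCategory.Q.map f = φ ≫ e.inv := by
    obtain ⟨g, hg⟩ := (CochainComplex.IsKInjective.Qh_map_bijective
      ((HomotopyCategory.quotient A _).obj ((CochainComplex.singleFunctor A 0).obj Z)) I).2
      (φ ≫ e.inv)
    obtain ⟨f, rfl⟩ := (HomotopyCategory.quotient A (ComplexShape.up ℤ)).map_surjective g
    exact ⟨f, hg⟩
  suffices h0 : DerivedCategory.Q.map f = 0 by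
    rw [← cancel_mono e.inv, zero_comp, ← hf, h0]
  obtain ⟨n, hn⟩ : ∃ n : ℤ, n = -(d : ℤ) - 1 := ⟨_, rfl⟩
  have hn0 : n ≤ 0 := by omega
  haveI : IsIso ((trι I n).f 0) := StupidTr.isIso_trι_f I n hn0
  let g : Z ⟶ (tr I n).X 0 :=
    (HomologicalComplex.singleObjXSelf (ComplexShape.up ℤ) 0 Z).inv ≫ f.f 0 ≫
      inv ((trι I n).f 0)
  have hg : ∀ k : ℤ, (ComplexShape.up ℤ).Rel 0 k → g ≫ (tr I n).d 0 k = 0 := by
    intro k _
    rw [← cancel_mono ((trι I n).f k), zero_comp]
    dsimp only [g]
    rw [Category.assoc, Category.assoc, Category.assoc, ← (trι I n).comm 0 k,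
      IsIso.inv_hom_id_assoc, f.comm 0 k]
    erw [HomologicalComplex.single_obj_d]
    rw [zero_comp, comp_zero]
  let f' : (CochainComplex.singleFunctor A 0).obj Z ⟶ tr I n :=
    HomologicalComplex.mkHomFromSingle g hg
  have hf' : f' ≫ trι I n = f := by
    apply HomologicalComplex.from_single_hom_ext
    rw [HomologicalComplex.comp_f]
    erw [HomologicalComplex.mkHomFromSingle_f]
    dsimp only [g]
    simp
  rw [← hf', Functor.map_comp]
  suffices h1 : DerivedCategory.Q.map f' = 0 by rw [h1, zero_comp]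
  haveI : (tr I n).IsStrictlyGE n := by
    rw [CochainComplex.isStrictlyGE_iff]
    intro i hi
    exact StupidTr.isZero_tr_X I n (by omega)
  haveI : (DerivedCategory.Q.obj I).IsLE n := by
    haveI : Y.IsLE n := by rw [hn]; exact hY
    exact (tt A).isLE_of_iso e.symm n
  haveI : I.IsLE n := (DerivedCategory.isLE_Q_obj_iff I n).1 inferInstance
  haveI : (tr I n).IsLE n := by
    rw [CochainComplex.isLE_iff]
    intro j hj
    exact (quasiIsoAt_iff_exactAt' (trι I n) j (I.exactAt_of_isLE n j hj)).1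
      (quasiIsoAt_trι I n j hj)
  obtain ⟨N, ⟨e'⟩⟩ := DerivedCategory.exists_iso_singleFunctor_obj_of_isGE_of_isLE
    (DerivedCategory.Q.obj (tr I n)) n
  let e'' : DerivedCategory.Q.obj (tr I n) ≅
      ((DerivedCategory.singleFunctor A 0).obj N)⟦((d + 1 : ℕ) : ℤ)⟧ :=
    e' ≪≫ (((DerivedCategory.singleFunctors A).shiftIso ((d + 1 : ℕ) : ℤ) n 0
      (by push_cast; omega)).app N).symm
  have h2 : ∀ ψ : (DerivedCategory.singleFunctor A 0).obj Z ⟶
      ((DerivedCategory.singleFunctor A 0).obj N)⟦((d + 1 : ℕ) : ℤ)⟧, ψ = 0 := by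
    intro ψ
    haveI := hd N
    exact (AddEquiv.map_eq_zero_iff (Abelian.Ext.homAddEquiv (X := Z) (Y := N)
      (n := d + 1)).symm).1 (Subsingleton.elim _ _)
  rw [← cancel_mono e''.hom, zero_comp]
  exact h2 _

end Vanish

section Der

variable {A : Type u} [Category.{v} A] [Abelian A] [HasDerivedCategory.{w} A]
  {I : Type t} [HasColimitsOfShape (Discrete I) A] [HasExactColimitsOfShape (Discrete I) A]

/-- a coproduct of objects which are `≤ n` is `≤ n` -/
lemma isLE_pt {X : I → DerivedCategory A} (n : ℤ) (hX : ∀ i, (X i).IsLE n) {c : Cofan X}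
    (hc : IsColimit c) : c.pt.IsLE n := by
  have hK : ∀ i, ∃ (K : CochainComplex A ℤ) (_ : K.IsStrictlyLE n),
      Nonempty (X i ≅ DerivedCategory.Q.obj K) := fun i => by
    haveI := hX i
    exact DerivedCategory.exists_iso_Q_obj_of_isLE (X i) n
  choose K hK e using hK
  haveI : (DerCoprod.sig K).IsStrictlyLE n := by
    rw [CochainComplex.isStrictlyLE_iff]
    intro i hi
    rw [IsZero.iff_id_eq_zero]
    apply DerCoprod.homX_ext
    intro j
    haveI := hK j
    exact ((K j).isZero_of_isStrictlyLE n i hi).eq_of_src _ _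
  have hc₀ := DerCoprod.isColimitCofan K
  let iso : c.pt ≅ DerivedCategory.Q.obj (DerCoprod.sig K) :=
    IsColimit.coconePointsIsoOfNatIso hc hc₀ (Discrete.natIso (fun ⟨i⟩ => (e i).some))
  exact (tt A).isLE_of_iso iso.symm n

end Der

section Result

variable {A : Type u} [Category.{v} A] [Abelian A] [IsGrothendieckAbelian.{v} A]
  [HasDerivedCategory.{w} A] [HasExt.{w'} A]
  {I : Type w} [HasColimitsOfShape (Discrete I) A] [HasExactColimitsOfShape (Discrete I) A]
  (Z : A) (d : ℕ) (hd : ∀ (F : A) (p : ℕ), d < p → Subsingleton (Abelian.Ext Z F p))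
  (H : ∀ p : ℕ, PreservesColimitsOfShape (Discrete I) (Abelian.extFunctorObj Z p))

include hd H in
theorem bijective_fd (M : I → DerivedCategory A) [HasCoproduct M] :
    Function.Bijective
      (CohDer.homSumToHomCoprod ((DerivedCategory.singleFunctor A 0).obj Z) M) := by
  haveI : HasColimitsOfShape (Discrete I) (DerivedCategory A) := DerCoprod.hasColimitsOfShape
  apply bijective_of_finC
  let X' : I → DerivedCategory A := fun i => ((tt A).truncLE (-(d : ℤ) - 1)).obj (M i)
  let X'' : I → DerivedCategory A := fun i => ((tt A).truncGE (-(d : ℤ) - 1 + 1)).obj (M i)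
  have h'' : FinC ((DerivedCategory.singleFunctor A 0).obj Z) (Cofan.mk (∐ X'') (Sigma.ι X'')) := by
    refine main Z H (d + 1) X'' (fun i => ?_) _ (coproductIsCoproduct X'')
    have e : (1 : ℤ) - ((d + 1 : ℕ) : ℤ) = -(d : ℤ) - 1 + 1 := by push_cast; ring
    rw [e]
    change (tt A).IsGE (((tt A).truncGE (-(d : ℤ) - 1 + 1)).obj (M i)) (-(d : ℤ) - 1 + 1)
    infer_instance
  have h' : FinC ((DerivedCategory.singleFunctor A 0).obj Z) (Cofan.mk (∐ X') (Sigma.ι X')) := by
    intro φ
    have hle : (∐ X').IsLE (-(d : ℤ) - 1) := by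
      refine isLE_pt (c := Cofan.mk (∐ X') (Sigma.ι X')) (-(d : ℤ) - 1) (fun i => ?_)
        (coproductIsCoproduct X')
      change (tt A).IsLE (((tt A).truncLE (-(d : ℤ) - 1)).obj (M i)) (-(d : ℤ) - 1)
      infer_instance
    refine ⟨∅, fun _ => 0, ?_⟩
    rw [Finset.sum_empty]
    exact hom_eq_zero Z d (fun F => hd F (d + 1) (by omega)) _ hle φ
  exact finC_mid _ (X' := X') (X := M) (X'' := X'')
    (fun i => ((tt A).truncLEι (-(d : ℤ) - 1)).app (M i))
    (fun i => ((tt A).truncGEπ (-(d : ℤ) - 1 + 1)).app (M i))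
    (fun i => ((tt A).truncGEδLE (-(d : ℤ) - 1) (-(d : ℤ) - 1 + 1) rfl).app (M i))
    (fun i => (tt A).triangleLEGE_distinguished (-(d : ℤ) - 1) (-(d : ℤ) - 1 + 1) rfl (M i))
    (coproductIsCoproduct X') (coproductIsCoproduct M) (coproductIsCoproduct X'') h' h''

end Result

end Groth.Agent.Lib.CompactFD
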