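import Mathlib
import Groth.Prelude
import Groth.Agent.Lib.BrownQC1_lead
import Groth.Agent.Lib.DerAdj1_lead

/-!
# `Rf_* : D_QCoh(X) ⥤ D_QCoh(Y)` has a right adjoint (lead)

* `exists_distTriang_Rpush`: `Rf_*` sends distinguished triangles to distinguished triangles
  (up to the choice of the third morphism), computed on K-injective resolutions;
* `isHomological_of_exact`;
* **S1766** by Brown representability.
-/

set_option autoImplicit false
set_option linter.all false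
set_option maxHeartbeats 1600000
set_option backward.isDefEq.respectTransparency false
set_option backward.isDefEq.respectTransparency.types false
set_option backward.defeqAttrib.useBackward true

universe u

open CategoryTheory CategoryTheory.Limits AlgebraicGeometry TopologicalSpace Opposite
open DerivedCategory CategoryTheory.Pretriangulated
open CategoryTheory.Pretriangulated.Opposite

attribute [local instance] HasDerivedCategory.standard

namespace Groth.Agent.Lib.BrownQCL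

open Groth.Agent.Lib Groth.Agent.Lib.DCohLocLead Groth.Agent.Lib.PerfLocL
open Groth.Agent.Lib.HomVanL Groth.Agent.Lib.CompQL Groth.Agent.Lib.SerreHomL
open Groth.Agent.Lib.TTLiftL Groth.Agent.Lib.TTApxL Groth.Agent.Lib.TTSuppL
open Groth.Agent.Lib.TTGlueL Groth.Agent.Lib.TTGenL

attribute [local instance] rpushI lpullI

/-! ### homological functors from exactness -/

section Homological

universe v u₁ u₂ v₁

variable {𝒮 : Type u₁} [Category.{v₁} 𝒮] [Preadditive 𝒮] [HasZeroObject 𝒮] [HasShift 𝒮 ℤ]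
  [∀ n : ℤ, (shiftFunctor 𝒮 n).Additive] [Pretriangulated 𝒮]
  {𝒯 : Type u₂} [Category.{v} 𝒯] [Preadditive 𝒯]

theorem isHomological_of_exact (F : 𝒮 ⥤ 𝒯) [F.Additive]
    (hF : ∀ (T : Triangle 𝒮) (hT : T ∈ distTriang 𝒮) (Y' : 𝒯) (x : F.obj T.obj₂ ⟶ Y'),
      F.map T.mor₁ ≫ x = 0 → ∃ y : F.obj T.obj₃ ⟶ Y', x = F.map T.mor₂ ≫ y)
    (Y' : 𝒯) : (F.op ⋙ preadditiveYoneda.obj Y').IsHomological where
  exact T hT := by
    rw [ShortComplex.ab_exact_iff]
    intro x hx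
    have hT' := (mem_distTriang_op_iff T).1 hT
    obtain ⟨y, hy⟩ := hF _ hT' Y' x hx
    exact ⟨y, hy.symm⟩

end Homological

/-! ### `Rf_*` and distinguished triangles -/

section WT

variable {X Y : Scheme.{u}} (f : X ⟶ Y)

theorem exists_distTriang_Rpush (T : Triangle (DCoh.D X)) (hT : T ∈ distTriang (DCoh.D X)) :
    ∃ δ : (DCoh.Rpush f).obj T.obj₃ ⟶ ((DCoh.Rpush f).obj T.obj₁)⟦(1 : ℤ)⟧,
      Triangle.mk ((DCoh.Rpush f).map T.mor₁) ((DCoh.Rpush f).map T.mor₂) δ ∈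
        distTriang (DCoh.D Y) := by
  haveI := MVPushL.grothendieck_modules X
  let Ac := HomotopyCategory.subcategoryAcyclic X.Modules
  let W := HomotopyCategory.quasiIso X.Modules (ComplexShape.up ℤ)
  have hW : W = Ac.trW := HomotopyCategory.quasiIso_eq_trW_subcategoryAcyclic X.Modules
  haveI : (Qh (C := X.Modules)).IsLocalization Ac.trW := by
    rw [← hW]
    infer_instance
  let R := DCoh.Rpush f
  let η := (DCoh.pushKh f).totalRightDerivedUnit DerivedCategory.Qh W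
  let qA := (HomotopyCategory.quotient X.Modules (ComplexShape.up ℤ)).obj (Q.objPreimage T.obj₁)
  let qB := (HomotopyCategory.quotient X.Modules (ComplexShape.up ℤ)).obj (Q.objPreimage T.obj₂)
  let eA : Qh.obj qA ≅ T.obj₁ :=
    (DerivedCategory.quotientCompQhIso X.Modules).app _ ≪≫ Q.objObjPreimageIso T.obj₁
  let eB : Qh.obj qB ≅ T.obj₂ :=
    (DerivedCategory.quotientCompQhIso X.Modules).app _ ≪≫ Q.objObjPreimageIso T.obj₂
  obtain ⟨I, sA, hsA, hI⟩ := KInjGen8.hP qA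
  obtain ⟨J, sB, hsB, hJ⟩ := KInjGen8.hP qB
  haveI : IsIso (Qh.map sA) := Localization.inverts Qh Ac.trW sA hsA
  haveI : IsIso (Qh.map sB) := Localization.inverts Qh Ac.trW sB hsB
  let eI : Qh.obj I ≅ T.obj₁ := (asIso (Qh.map sA)).symm ≪≫ eA
  let eJ : Qh.obj J ≅ T.obj₂ := (asIso (Qh.map sB)).symm ≪≫ eB
  obtain ⟨φ, hφ⟩ := (ObjectProperty.rightOrthogonal.map_bijective_of_isTriangulated hJ Qh I).2
    (eI.hom ≫ T.mor₁ ≫ eJ.inv)
  obtain ⟨C, g, h, hT₀⟩ := distinguished_cocone_triangle φ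
  have hC : Ac.rightOrthogonal C :=
    Ac.rightOrthogonal.ext_of_isTriangulatedClosed₃ _ hT₀ hI hJ
  have hQT₀ := Qh.map_distinguished _ hT₀
  have comm : (Qh.mapTriangle.obj (Triangle.mk φ g h)).mor₁ ≫ eJ.hom = eI.hom ≫ T.mor₁ := by
    show Qh.map φ ≫ eJ.hom = eI.hom ≫ T.mor₁
    rw [hφ]
    simp only [Category.assoc, Iso.inv_hom_id, Category.comp_id]
  let θ := isoTriangleOfIso₁₂ _ _ hQT₀ hT eI eJ comm
  have hD₀ := (DCoh.pushKh f).map_distinguished _ hT₀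
  haveI : IsIso (η.app I) := DerAdjL.isIso_unit_of_rightOrthogonal f I hI
  haveI : IsIso (η.app J) := DerAdjL.isIso_unit_of_rightOrthogonal f J hJ
  haveI : IsIso (η.app C) := DerAdjL.isIso_unit_of_rightOrthogonal f C hC
  let θ₁ : Qh.obj I ≅ T.obj₁ := Triangle.π₁.mapIso θ
  let θ₂ : Qh.obj J ≅ T.obj₂ := Triangle.π₂.mapIso θ
  let θ₃ : Qh.obj C ≅ T.obj₃ := Triangle.π₃.mapIso θ
  let ε₁ : (DCoh.pushKh f).obj I ≅ R.obj T.obj₁ := asIso (η.app I) ≪≫ R.mapIso θ₁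
  let ε₂ : (DCoh.pushKh f).obj J ≅ R.obj T.obj₂ := asIso (η.app J) ≪≫ R.mapIso θ₂
  let ε₃ : (DCoh.pushKh f).obj C ≅ R.obj T.obj₃ := asIso (η.app C) ≪≫ R.mapIso θ₃
  let D₀ := (DCoh.pushKh f).mapTriangle.obj (Triangle.mk φ g h)
  let δ : R.obj T.obj₃ ⟶ (R.obj T.obj₁)⟦(1 : ℤ)⟧ := ε₃.inv ≫ D₀.mor₃ ≫ ε₁.hom⟦(1 : ℤ)⟧'
  refine ⟨δ, ?_⟩
  have t1 : Qh.map φ ≫ θ₂.hom = θ₁.hom ≫ T.mor₁ := θ.hom.comm₁
  have t2 : Qh.map g ≫ θ₃.hom = θ₂.hom ≫ T.mor₂ := θ.hom.comm₂
  have c1 : D₀.mor₁ ≫ ε₂.hom = ε₁.hom ≫ R.map T.mor₁ := by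
    show (DCoh.pushKh f).map φ ≫ (η.app J ≫ R.map θ₂.hom) = (η.app I ≫ R.map θ₁.hom) ≫ R.map T.mor₁
    have n1 : (DCoh.pushKh f).map φ ≫ η.app J = η.app I ≫ R.map (Qh.map φ) := η.naturality φ
    rw [← Category.assoc, n1, Category.assoc, Category.assoc, ← R.map_comp, ← R.map_comp, t1]
  have c2 : D₀.mor₂ ≫ ε₃.hom = ε₂.hom ≫ R.map T.mor₂ := by
    show (DCoh.pushKh f).map g ≫ (η.app C ≫ R.map θ₃.hom) = (η.app J ≫ R.map θ₂.hom) ≫ R.map T.mor₂
    have n1 : (DCoh.pushKh f).map g ≫ η.app C = η.app J ≫ R.map (Qh.map g) := η.naturality g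
    rw [← Category.assoc, n1, Category.assoc, Category.assoc, ← R.map_comp, ← R.map_comp, t2]
  have c3 : D₀.mor₃ ≫ ε₁.hom⟦(1 : ℤ)⟧' = ε₃.hom ≫ δ := by
    show D₀.mor₃ ≫ ε₁.hom⟦(1 : ℤ)⟧' = ε₃.hom ≫ ε₃.inv ≫ D₀.mor₃ ≫ ε₁.hom⟦(1 : ℤ)⟧'
    rw [Iso.hom_inv_id_assoc]
  exact isomorphic_distinguished _ hD₀ _
    (Triangle.isoMk D₀ (Triangle.mk (R.map T.mor₁) (R.map T.mor₂) δ) ε₁ ε₂ ε₃ c1 c2 c3).symm

end WT

/-! ### the restricted direct image -/

section Main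

variable {X Y : Scheme.{u}} (f : X ⟶ Y)
  (h : ∀ K : DCoh.D X, DCoh.IsQCohD K → DCoh.IsQCohD ((DCoh.Rpush f).obj K))

/-- `Rf_* : D_QCoh(X) ⥤ D_QCoh(Y)` -/
noncomputable abbrev RQ : DCoh.DQCoh X ⥤ DCoh.DQCoh Y :=
  ObjectProperty.lift DCoh.IsQCohD (ObjectProperty.ι DCoh.IsQCohD ⋙ DCoh.Rpush f)
    (fun K => h K.obj K.property)

theorem exact_RQ (T : Triangle (DCoh.DQCoh X)) (hT : T ∈ distTriang (DCoh.DQCoh X))
    (Y' : DCoh.DQCoh Y) (x : (RQ f h).obj T.obj₂ ⟶ Y') (hx : (RQ f h).map T.mor₁ ≫ x = 0) :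
    ∃ y : (RQ f h).obj T.obj₃ ⟶ Y', x = (RQ f h).map T.mor₂ ≫ y := by
  have hT' := (ObjectProperty.ι (DCoh.IsQCohD (X := X))).map_distinguished T hT
  obtain ⟨δ, hδ⟩ := exists_distTriang_Rpush f _ hT'
  have hx' : (DCoh.Rpush f).map T.mor₁.hom ≫ x.hom = 0 := by
    have h1 := congrArg (fun a => (ObjectProperty.ι (DCoh.IsQCohD (X := Y))).map a) hx
    simp only [Functor.map_comp, Functor.map_zero] at h1
    exact h1
  obtain ⟨y, hy⟩ := Triangle.yoneda_exact₂ _ hδ x.hom hx'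
  refine ⟨ObjectProperty.homMk y, ?_⟩
  apply (ObjectProperty.ι (DCoh.IsQCohD (X := Y))).map_injective
  rw [Functor.map_comp]
  exact hy

variable [CompactSpace X] [QuasiSeparatedSpace X] [CompactSpace Y] [QuasiSeparatedSpace Y]

theorem preservesCoprod_RQ (κ : Type u) : PreservesColimitsOfShape (Discrete κ) (RQ f h) := by
  let ιX := ObjectProperty.ι (DCoh.IsQCohD (X := X))
  let ιY := ObjectProperty.ι (DCoh.IsQCohD (X := Y))
  haveI : PreservesColimitsOfShape (Discrete κ) (ιX ⋙ DCoh.Rpush f) := by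
    constructor
    intro K
    have e : K ≅ Discrete.functor (K.obj ∘ Discrete.mk) := Discrete.natIsoFunctor
    let Z : κ → DCoh.DQCoh X := K.obj ∘ Discrete.mk
    haveI : PreservesColimit (Discrete.functor Z) (ιX ⋙ DCoh.Rpush f) := by
      have hcD : IsColimit (Cofan.mk (ιX.obj (∐ Z)) (fun k => ιX.map (Sigma.ι Z k))) :=
        (isColimitMapCoconeCofanMkEquiv ιX Z (Sigma.ι Z))
          (isColimitOfPreserves ιX (coproductIsCoproduct Z))
      obtain ⟨hR⟩ := CptPerfL.nonempty_cofan_Rpush f (fun k => (Z k).obj)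
        (fun k => (Z k).property) _ _ hcD
      exact preservesColimit_of_preserves_colimit_cocone (coproductIsCoproduct Z)
        ((isColimitMapCoconeCofanMkEquiv (ιX ⋙ DCoh.Rpush f) Z (Sigma.ι Z)).symm hR)
    exact preservesColimit_of_iso_diagram _ e.symm
  haveI : PreservesColimitsOfShape (Discrete κ) (RQ f h ⋙ ιY) :=
    preservesColimitsOfShape_of_natIso (ObjectProperty.liftCompιIso _ _ _).symm
  exact preservesColimitsOfShape_of_reflects_of_preserves (RQ f h) ιY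

/-- **S1766** -/
theorem main1766 :
    (ObjectProperty.lift DCoh.IsQCohD (ObjectProperty.ι DCoh.IsQCohD ⋙ DCoh.Rpush f)
      (fun K => h K.obj K.property)).IsLeftAdjoint := by
  obtain ⟨adj⟩ := DerAdjL.nonempty_adj f
  haveI : (DCoh.Rpush f).Additive := CompQL.additive_of_adj adj
  obtain ⟨G, hc, hg⟩ := exists_compact_generator X
  exact BrownWL.isLeftAdjoint (fun _ : PUnit.{u + 1} => G) (RQ f h) (fun _ => hc) hg
    (fun Y' => isHomological_of_exact (RQ f h)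
      (fun T hT Y'' x hx => exact_RQ f h T hT Y'' x hx) Y')
    (fun Y' κ => by
      haveI := preservesCoprod_RQ f h κ
      exact preservesProducts_comp (RQ f h) κ Y')

end Main

end Groth.Agent.Lib.BrownQCL
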