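import Mathlib
import Groth.Prelude
import Groth.Agent.Lib.BrownQC1_lead

/-!
# Right adjoints and coproducts (lead)

If `F ⊣ a` between triangulated categories with coproducts, the source is generated by objects `C`
such that `C` and `F C` are compact (finite support form), then `a` preserves coproducts.
-/

set_option autoImplicit false
set_option linter.all false
set_option maxHeartbeats 1600000
set_option backward.isDefEq.respectTransparency false
set_option backward.isDefEq.respectTransparency.types false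
set_option backward.defeqAttrib.useBackward true

universe u

open CategoryTheory CategoryTheory.Limits AlgebraicGeometry TopologicalSpace Opposite
open DerivedCategory CategoryTheory.Pretriangulated
open CategoryTheory.Pretriangulated.Opposite

namespace Groth.Agent.Lib.BrownQCL

section Adj

universe w v u₁ u₂

variable {𝒮 : Type u₁} [Category.{v} 𝒮] [Preadditive 𝒮] {𝒯 : Type u₂} [Category.{v} 𝒯]
  [Preadditive 𝒯] (F : 𝒮 ⥤ 𝒯) [F.Additive] (a : 𝒯 ⥤ 𝒮) (adj : F ⊣ a)

section Cmp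

variable {J : Type w} (Z : J → 𝒯) [HasCoproduct Z] [HasCoproduct (fun j => a.obj (Z j))]

/-- the comparison map `∐ a(Z j) ⟶ a(∐ Z)` -/
noncomputable def cmp : ∐ (fun j => a.obj (Z j)) ⟶ a.obj (∐ Z) :=
  Sigma.desc (fun j => a.map (Sigma.ι Z j))

lemma ι_cmp (j : J) :
    Sigma.ι (fun j => a.obj (Z j)) j ≫ cmp a Z = a.map (Sigma.ι Z j) := Sigma.ι_desc _ _

include adj in
theorem bijective_comp_cmp (C : 𝒮)
    (h1 : ∀ φ : C ⟶ ∐ (fun j => a.obj (Z j)), ∃ s : Finset J,
      φ ≫ QcSect.e (coproductIsCoproduct (fun j => a.obj (Z j))) s = φ)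
    (h2 : ∀ φ : F.obj C ⟶ ∐ Z, ∃ s : Finset J,
      φ ≫ QcSect.e (coproductIsCoproduct Z) s = φ) :
    Function.Bijective (fun g : C ⟶ ∐ (fun j => a.obj (Z j)) => g ≫ cmp a Z) := by
  classical
  haveI : a.Additive := adj.right_adjoint_additive
  have hπ : ∀ l, QcSect.π (coproductIsCoproduct (fun j => a.obj (Z j))) l =
      cmp a Z ≫ a.map (QcSect.π (coproductIsCoproduct Z) l) := by
    intro l
    apply Sigma.hom_ext
    intro j
    rw [← Category.assoc, ι_cmp, ← a.map_comp]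
    by_cases hjl : j = l
    · subst hjl
      rw [QcSect.inj_π_self (coproductIsCoproduct (fun j => a.obj (Z j))) j,
        QcSect.inj_π_self (coproductIsCoproduct Z) j, a.map_id]
    · rw [QcSect.inj_π_ne (coproductIsCoproduct (fun j => a.obj (Z j))) hjl,
        QcSect.inj_π_ne (coproductIsCoproduct Z) hjl, a.map_zero]
  constructor
  · intro g₁ g₂ h12
    have hg : (g₁ - g₂) ≫ cmp a Z = 0 := by
      rw [Preadditive.sub_comp]
      exact sub_eq_zero.2 h12
    suffices h0 : g₁ - g₂ = 0 from sub_eq_zero.1 h0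
    obtain ⟨s, hs⟩ := h1 (g₁ - g₂)
    rw [← hs]
    unfold QcSect.e
    rw [Preadditive.comp_sum]
    apply Finset.sum_eq_zero
    intro l _
    rw [← Category.assoc, hπ l, ← Category.assoc, hg, zero_comp, zero_comp]
  · intro t
    let t' : F.obj C ⟶ ∐ Z := (adj.homEquiv C (∐ Z)).symm t
    obtain ⟨s, hs⟩ := h2 t'
    refine ⟨∑ l ∈ s, adj.homEquiv C (Z l) (t' ≫ QcSect.π (coproductIsCoproduct Z) l) ≫
      Sigma.ι (fun j => a.obj (Z j)) l, ?_⟩
    show (∑ l ∈ s, adj.homEquiv C (Z l) (t' ≫ QcSect.π (coproductIsCoproduct Z) l) ≫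
      Sigma.ι (fun j => a.obj (Z j)) l) ≫ cmp a Z = t
    rw [Preadditive.sum_comp]
    have h3 : ∀ l ∈ s, (adj.homEquiv C (Z l) (t' ≫ QcSect.π (coproductIsCoproduct Z) l) ≫
        Sigma.ι (fun j => a.obj (Z j)) l) ≫ cmp a Z =
        adj.homAddEquiv C (∐ Z)
          (t' ≫ QcSect.π (coproductIsCoproduct Z) l ≫ Sigma.ι Z l) := by
      intro l _
      rw [Category.assoc, ι_cmp, Adjunction.homAddEquiv_apply, ← Category.assoc t']
      exact (adj.homEquiv_naturality_right (t' ≫ QcSect.π (coproductIsCoproduct Z) l)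
        (Sigma.ι Z l)).symm
    rw [Finset.sum_congr rfl h3, ← map_sum, ← Preadditive.comp_sum]
    have h4 : t' ≫ ∑ l ∈ s, QcSect.π (coproductIsCoproduct Z) l ≫ Sigma.ι Z l = t' := hs
    rw [h4, Adjunction.homAddEquiv_apply]
    exact (adj.homEquiv C (∐ Z)).apply_symm_apply t

end Cmp

section Tri

variable [HasZeroObject 𝒮] [HasShift 𝒮 ℤ] [∀ n : ℤ, (shiftFunctor 𝒮 n).Additive] [Pretriangulated 𝒮]

omit [Preadditive 𝒯] in
theorem isIso_of_bijective' {ι : Type*} (E : ι → 𝒮) (hg : CohDer.Generates E) {L X : 𝒮}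
    (φ : L ⟶ X)
    (hbij : ∀ (i : ι) (m : ℤ),
      Function.Bijective (fun g : (shiftFunctor 𝒮 m).obj (E i) ⟶ L => g ≫ φ)) : IsIso φ := by
  refine BrownWL.isIso_of_bijective E hg φ (fun i₀ n => ?_)
  let adjs := (shiftEquiv 𝒮 n).symm.toAdjunction
  have e1 : (fun g : E i₀ ⟶ (shiftFunctor 𝒮 n).obj L => g ≫ (shiftFunctor 𝒮 n).map φ) =
      fun g => adjs.homEquiv (E i₀) X ((adjs.homEquiv (E i₀) L).symm g ≫ φ) := by
    funext g
    show g ≫ (shiftFunctor 𝒮 n).map φ =
      adjs.homEquiv (E i₀) X ((adjs.homEquiv (E i₀) L).symm g ≫ φ)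
    have h1 := adjs.homEquiv_naturality_right ((adjs.homEquiv (E i₀) L).symm g) φ
    have h2 : adjs.homEquiv (E i₀) L ((adjs.homEquiv (E i₀) L).symm g) = g :=
      Equiv.apply_symm_apply _ g
    rw [h1, h2]
    rfl
  rw [e1]
  exact (adjs.homEquiv (E i₀) X).bijective.comp
    ((hbij i₀ (-n)).comp (adjs.homEquiv (E i₀) L).symm.bijective)

include adj in
theorem preservesCoprod_of_compact {ι : Type*} (E : ι → 𝒮) (hg : CohDer.Generates E)
    (J : Type w) [HasColimitsOfShape (Discrete J) 𝒮] [HasColimitsOfShape (Discrete J) 𝒯]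
    (h1 : ∀ (i : ι) (m : ℤ) (Z : J → 𝒮) (φ : (shiftFunctor 𝒮 m).obj (E i) ⟶ ∐ Z),
      ∃ s : Finset J, φ ≫ QcSect.e (coproductIsCoproduct Z) s = φ)
    (h2 : ∀ (i : ι) (m : ℤ) (Z : J → 𝒯) (φ : F.obj ((shiftFunctor 𝒮 m).obj (E i)) ⟶ ∐ Z),
      ∃ s : Finset J, φ ≫ QcSect.e (coproductIsCoproduct Z) s = φ) :
    PreservesColimitsOfShape (Discrete J) a := by
  constructor
  intro K
  have e : K ≅ Discrete.functor (K.obj ∘ Discrete.mk) := Discrete.natIsoFunctor
  let Z : J → 𝒯 := K.obj ∘ Discrete.mk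
  haveI : PreservesColimit (Discrete.functor Z) a := by
    haveI hiso : IsIso (cmp a Z) := isIso_of_bijective' E hg (cmp a Z)
      (fun i m => bijective_comp_cmp F a adj Z _ (h1 i m _) (h2 i m Z))
    have hcol : IsColimit (Cofan.mk (a.obj (∐ Z)) (fun j => a.map (Sigma.ι Z j))) := by
      haveI : IsIso (Sigma.desc (Cofan.mk (a.obj (∐ Z))
          (fun j => a.map (Sigma.ι Z j))).inj) := hiso
      exact Cofan.isColimitOfIsIsoSigmaDesc _
    exact preservesColimit_of_preserves_colimit_cocone (coproductIsCoproduct Z)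
      ((isColimitMapCoconeCofanMkEquiv a Z (Sigma.ι Z)).symm hcol)
  exact preservesColimit_of_iso_diagram _ e.symm

end Tri

end Adj

end Groth.Agent.Lib.BrownQCL
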