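import Groth.Agent.Lib.KFlatGen2_helper2
import Groth.Agent.Lib.KFlatGen3_helper2
import Groth.Agent.Lib.DerivedCmp_helper2
import Mathlib.Algebra.Homology.DerivedCategory.Fractions

/-!
# K-flat complexes with respect to a bifunctor (helper2), part IV:
the left derived functor of `- ⊗ M` is computed by K-flat complexes
-/

set_option autoImplicit false
universe w v u
open CategoryTheory Limits

namespace Groth.Agent.Lib.KFlatGen

open Groth.Agent.Lib.BifCone

variable {𝒜 : Type u} [Category.{v} 𝒜] [Abelian 𝒜]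
  (F : 𝒜 ⥤ 𝒜 ⥤ 𝒜) [F.Additive] [∀ X, (F.obj X).Additive]
  [∀ (K₁ K₂ : CochainComplex 𝒜 ℤ), CochainComplex.HasMapBifunctor K₁ K₂ F]

/-- `X ↦ Tot F(X, N)` on the homotopy category -/
noncomputable def phiH (N : CochainComplex 𝒜 ℤ) :
    HomotopyCategory 𝒜 (ComplexShape.up ℤ) ⥤ HomotopyCategory 𝒜 (ComplexShape.up ℤ) :=
  CategoryTheory.Quotient.lift _
    (F.map₂CochainComplex.flip.obj N ⋙ HomotopyCategory.quotient 𝒜 (ComplexShape.up ℤ))
    (fun _ _ _ _ ⟨h⟩ => HomotopyCategory.eq_of_homotopy _ _ ((action₁ F N).mapHomotopy h))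

lemma phiH_map_quotient_map (N : CochainComplex 𝒜 ℤ) {X Y : CochainComplex 𝒜 ℤ} (f : X ⟶ Y) :
    (phiH F N).map ((HomotopyCategory.quotient 𝒜 (ComplexShape.up ℤ)).map f) =
      (HomotopyCategory.quotient 𝒜 (ComplexShape.up ℤ)).map
        (HomologicalComplex.mapBifunctorMap f (𝟙 N) F (ComplexShape.up ℤ)) := rfl

/-- functoriality of `phiH` in `N` -/
noncomputable def phiHMap {N N' : CochainComplex 𝒜 ℤ} (π : N ⟶ N') : phiH F N ⟶ phiH F N' :=
  CategoryTheory.Quotient.natTransLift _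
    (Functor.whiskerRight (F.map₂CochainComplex.flip.map π)
      (HomotopyCategory.quotient 𝒜 (ComplexShape.up ℤ)))

lemma phiHMap_app {N N' : CochainComplex 𝒜 ℤ} (π : N ⟶ N') (X : CochainComplex 𝒜 ℤ) :
    (phiHMap F π).app ((HomotopyCategory.quotient 𝒜 (ComplexShape.up ℤ)).obj X) =
      (HomotopyCategory.quotient 𝒜 (ComplexShape.up ℤ)).map
        (HomologicalComplex.mapBifunctorMap (𝟙 X) π F (ComplexShape.up ℤ)) := rfl

section Single

variable (M : 𝒜) (T : 𝒜 ⥤ 𝒜) [T.Additive] (e : T ≅ F.flip.obj M)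

lemma θ_nat {X Y : CochainComplex 𝒜 ℤ} (f : X ⟶ Y) (a p n : ℤ) (hp : p + a = n) :
    (F.map (f.f p)).app M ≫ BifSingle.θ F Y M a p n hp =
      BifSingle.θ F X M a p n hp ≫
        (HomologicalComplex.mapBifunctorMap f
          (𝟙 ((HomologicalComplex.single 𝒜 (ComplexShape.up ℤ) a).obj M)) F
          (ComplexShape.up ℤ)).f n := by
  dsimp only [BifSingle.θ]
  rw [Category.assoc]
  erw [HomologicalComplex.ι_mapBifunctorMap]
  rw [HomologicalComplex.id_f, CategoryTheory.Functor.map_id, Category.id_comp, ← Category.assoc,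
    ← Category.assoc]
  congr 1
  exact ((F.map (f.f p)).naturality _).symm

/-- the comparison `T(X) ⟶ Tot F(X, M[0])`, as a morphism of complexes -/
noncomputable def xiApp (X : CochainComplex 𝒜 ℤ) :
    (T.mapHomologicalComplex (ComplexShape.up ℤ)).obj X ⟶
      (F.map₂CochainComplex.flip.obj
        ((HomologicalComplex.single 𝒜 (ComplexShape.up ℤ) 0).obj M)).obj X where
  f p := e.hom.app (X.X p) ≫ BifSingle.θ F X M 0 p p (add_zero p)
  comm' p q hpq := by
    have hpq' : p + 1 = q := hpq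
    have h1 := BifSingle.θ_d F X M 0 p p q q (add_zero p) hpq' hpq'
    have h2 : T.map (X.d p q) ≫ e.hom.app (X.X q) =
        e.hom.app (X.X p) ≫ (F.map (X.d p q)).app M := e.hom.naturality (X.d p q)
    change (e.hom.app (X.X p) ≫ BifSingle.θ F X M 0 p p (add_zero p)) ≫
      (HomologicalComplex.mapBifunctor X
        ((HomologicalComplex.single 𝒜 (ComplexShape.up ℤ) 0).obj M) F (ComplexShape.up ℤ)).d p q =
      T.map (X.d p q) ≫ e.hom.app (X.X q) ≫ BifSingle.θ F X M 0 q q (add_zero q)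
    rw [Category.assoc, h1, ← Category.assoc, ← h2, Category.assoc]

instance isIso_xiApp (X : CochainComplex 𝒜 ℤ) : IsIso (xiApp F M T e X) := by
  haveI : ∀ p, IsIso ((xiApp F M T e X).f p) := fun p => by
    haveI := BifSingle.isIso_θ F X M 0 p p (add_zero p)
    change IsIso (e.hom.app (X.X p) ≫ BifSingle.θ F X M 0 p p (add_zero p))
    infer_instance
  exact HomologicalComplex.Hom.isIso_of_components _

/-- the comparison as a natural transformation of functors on complexes -/
noncomputable def xi : T.mapHomologicalComplex (ComplexShape.up ℤ) ⟶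
    F.map₂CochainComplex.flip.obj ((HomologicalComplex.single 𝒜 (ComplexShape.up ℤ) 0).obj M) where
  app X := xiApp F M T e X
  naturality X Y f := by
    refine HomologicalComplex.hom_ext _ _ (fun p => ?_)
    have h1 := θ_nat F M f 0 p p (add_zero p)
    have h2 : T.map (f.f p) ≫ e.hom.app (Y.X p) =
        e.hom.app (X.X p) ≫ (F.map (f.f p)).app M := e.hom.naturality (f.f p)
    change T.map (f.f p) ≫ e.hom.app (Y.X p) ≫ BifSingle.θ F Y M 0 p p (add_zero p) =
      (e.hom.app (X.X p) ≫ BifSingle.θ F X M 0 p p (add_zero p)) ≫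
        (HomologicalComplex.mapBifunctorMap f
          (𝟙 ((HomologicalComplex.single 𝒜 (ComplexShape.up ℤ) 0).obj M)) F
          (ComplexShape.up ℤ)).f p
    rw [← Category.assoc, h2, Category.assoc, h1, Category.assoc]

/-- the comparison on the homotopy category -/
noncomputable def xiH : T.mapHomotopyCategory (ComplexShape.up ℤ) ⟶
    phiH F ((HomologicalComplex.single 𝒜 (ComplexShape.up ℤ) 0).obj M) :=
  CategoryTheory.Quotient.natTransLift _
    (Functor.whiskerRight (xi F M T e) (HomotopyCategory.quotient 𝒜 (ComplexShape.up ℤ)))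

lemma xiH_app (X : CochainComplex 𝒜 ℤ) :
    (xiH F M T e).app ((HomotopyCategory.quotient 𝒜 (ComplexShape.up ℤ)).obj X) =
      (HomotopyCategory.quotient 𝒜 (ComplexShape.up ℤ)).map (xiApp F M T e X) := rfl

instance isIso_xiH : IsIso (xiH F M T e) := by
  haveI : ∀ Z, IsIso ((xiH F M T e).app Z) := by
    rintro ⟨X⟩
    change IsIso ((HomotopyCategory.quotient 𝒜 (ComplexShape.up ℤ)).map (xiApp F M T e X))
    infer_instance
  exact NatIso.isIso_of_isIso_app _

end Single

section Derived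

variable [HasDerivedCategory.{w} 𝒜]
variable (σ : F ≅ F.flip) {Fl P : 𝒜 → Prop} (hFl : FlatClass F Fl) (hP : ResClass Fl P)
  [HasCoproducts.{0} 𝒜]
  [∀ n : ℤ, HasExactColimitsOfShape (Discrete (BifSES.Idx n)) 𝒜]
  [HasColimitsOfShape ℕ 𝒜] [HasExactColimitsOfShape ℕ 𝒜]
  [∀ X : 𝒜, PreservesColimitsOfShape ℕ (F.obj X)]
variable (M : 𝒜) (T : 𝒜 ⥤ 𝒜) [T.Additive] (e : T ≅ F.flip.obj M)

include σ hFl hP e in
/-- **the counit of any left derived functor of `- ⊗ M` is an isomorphism on K-flat complexes** -/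
theorem isIso_counit_of_isKFlat (LF : DerivedCategory 𝒜 ⥤ DerivedCategory 𝒜)
    (α : DerivedCategory.Qh ⋙ LF ⟶
      T.mapHomotopyCategory (ComplexShape.up ℤ) ⋙ DerivedCategory.Qh)
    [LF.IsLeftDerivedFunctor α (HomotopyCategory.quasiIso 𝒜 (ComplexShape.up ℤ))]
    (X : CochainComplex 𝒜 ℤ) (hX : IsKFlat F X) :
    IsIso (α.app ((HomotopyCategory.quotient 𝒜 (ComplexShape.up ℤ)).obj X)) := by
  obtain ⟨PM, π, hPM, -, hπ, -⟩ := exists_kflat_resolution hFl hP
    ((HomologicalComplex.single 𝒜 (ComplexShape.up ℤ) 0).obj M)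
  haveI := hπ
  -- inversion of quasi-isomorphisms by `Qh ∘ quotient`
  have hinv : ∀ {K L : CochainComplex 𝒜 ℤ} (f : K ⟶ L), QuasiIso f →
      IsIso (DerivedCategory.Qh.map
        ((HomotopyCategory.quotient 𝒜 (ComplexShape.up ℤ)).map f)) := by
    intro K L f hf
    exact Localization.inverts DerivedCategory.Qh
      (HomotopyCategory.quasiIso 𝒜 (ComplexShape.up ℤ)) _
      ((HomotopyCategory.quotient_map_mem_quasiIso_iff f).2
        ((HomologicalComplex.mem_quasiIso_iff f).2 hf))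
  let τH : phiH F PM ⟶ T.mapHomotopyCategory (ComplexShape.up ℤ) :=
    phiHMap F π ≫ inv (xiH F M T e)
  have hdata : Groth.Agent.Lib.DerivedCmp.ResData
      (HomotopyCategory.quasiIso 𝒜 (ComplexShape.up ℤ))
      (Functor.whiskerRight τH DerivedCategory.Qh)
      (fun Z => IsKFlat F Z.as) := by
    constructor
    · rintro ⟨Z⟩ hZ
      have hq : QuasiIso (HomologicalComplex.mapBifunctorMap (𝟙 Z) π F (ComplexShape.up ℤ)) :=
        quasiIso_mapBifunctorMap₂ F Z (acyclic_tensor_left_of_isKFlat σ Z hZ) π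
      haveI := hinv _ hq
      change IsIso (DerivedCategory.Qh.map
        ((HomotopyCategory.quotient 𝒜 (ComplexShape.up ℤ)).map
          (HomologicalComplex.mapBifunctorMap (𝟙 Z) π F (ComplexShape.up ℤ)) ≫
          (inv (xiH F M T e)).app _))
      rw [Functor.map_comp]
      have h1 : IsIso ((inv (xiH F M T e)).app ⟨Z⟩) := inferInstance
      have h2 : IsIso (DerivedCategory.Qh.map ((inv (xiH F M T e)).app ⟨Z⟩)) :=
        haveI := h1
        Functor.map_isIso (DerivedCategory.Qh (C := 𝒜)) ((inv (xiH F M T e)).app ⟨Z⟩)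
      exact @IsIso.comp_isIso _ _ _ _ _ _ _ (hinv _ hq) h2
    · rintro ⟨Z⟩
      obtain ⟨K, q, hK, -, hq, -⟩ := exists_kflat_resolution hFl hP Z
      exact ⟨(HomotopyCategory.quotient 𝒜 (ComplexShape.up ℤ)).obj K,
        (HomotopyCategory.quotient 𝒜 (ComplexShape.up ℤ)).map q,
        (HomotopyCategory.quotient_map_mem_quasiIso_iff q).2
          ((HomologicalComplex.mem_quasiIso_iff q).2 hq), hK⟩
  have hG : (HomotopyCategory.quasiIso 𝒜 (ComplexShape.up ℤ)).IsInvertedBy
      (phiH F PM ⋙ DerivedCategory.Qh) := by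
    rintro ⟨K⟩ ⟨L⟩ f hf
    rw [← HomotopyCategory.quotient_map_out f] at hf ⊢
    have hq : QuasiIso f.out :=
      (HomologicalComplex.mem_quasiIso_iff _).1
        ((HomotopyCategory.quotient_map_mem_quasiIso_iff _).1 hf)
    haveI := hq
    have hq' : QuasiIso (HomologicalComplex.mapBifunctorMap f.out (𝟙 PM) F (ComplexShape.up ℤ)) :=
      quasiIso_mapBifunctorMap₁ F PM hPM f.out
    exact hinv _ hq'
  exact Groth.Agent.Lib.DerivedCmp.isIso_counit DerivedCategory.Qh
    (HomotopyCategory.quasiIso 𝒜 (ComplexShape.up ℤ)) hdata hG LF α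
    ((HomotopyCategory.quotient 𝒜 (ComplexShape.up ℤ)).obj X) hX

end Derived

end Groth.Agent.Lib.KFlatGen
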