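import Mathlib
import Groth.Prelude
import Groth.Agent.Lib.LpullEx_helper3
import Groth.Agent.Lib.PerfTens1_helper3
import Groth.Agent.Lib.DTorCmp_helper2
import Groth.Agent.Lib.KFlatGen4_helper2

/-!
# The derived tensor product with a module exists (helper3)

* `quasiIso_tensor_of_kflat`: a quasi-isomorphism between K-flat complexes stays one after
  tensoring with any complex.
* `quasiIso_tw_of_kflat`: the same for the termwise tensor product with a module.
* `hasLTensorMod M : DCoh.HasLTensorMod M`.
-/

set_option autoImplicit false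
set_option linter.all false
set_option maxHeartbeats 1600000
set_option backward.isDefEq.respectTransparency false
set_option backward.isDefEq.respectTransparency.types false
set_option backward.defeqAttrib.useBackward true

universe u
open CategoryTheory CategoryTheory.Limits AlgebraicGeometry Opposite

attribute [local instance] HasDerivedCategory.standard

namespace Groth.Agent.Lib.LTensModExH3

open Groth.Agent.Lib.StalkTensH3 Groth.Agent.Lib.LpullExH3 Groth.Agent.Lib.PerfTensH3
  Groth.Agent.Lib.DTorCmp Groth.Agent.Lib.KFlatGen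

noncomputable section

variable {X : Scheme.{u}}

/-- a quasi-isomorphism between K-flat complexes stays a quasi-isomorphism after `- ⊗ S` -/
theorem quasiIso_tensor_of_kflat {K L : CochainComplex X.Modules ℤ} (hK : DCoh.IsKFlat K)
    (hL : DCoh.IsKFlat L) (φ : K ⟶ L) [QuasiIso φ] (S : CochainComplex X.Modules ℤ) :
    QuasiIso (((DCoh.tensorCx (X := X)).map φ).app S) := by
  obtain ⟨S', r, hS', hr⟩ := exists_kflat_resolution' S
  haveI := hr
  haveI h1 : QuasiIso (((DCoh.tensorCx (X := X)).map φ).app S') :=
    quasiIso_tensor_right S' hS' φ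
  haveI h2 : QuasiIso (((DCoh.tensorCx (X := X)).obj K).map r) := quasiIso_tensor_left K hK r
  haveI h3 : QuasiIso (((DCoh.tensorCx (X := X)).obj L).map r) := quasiIso_tensor_left L hL r
  have hnat : ((DCoh.tensorCx (X := X)).obj K).map r ≫ ((DCoh.tensorCx (X := X)).map φ).app S =
      ((DCoh.tensorCx (X := X)).map φ).app S' ≫ ((DCoh.tensorCx (X := X)).obj L).map r :=
    ((DCoh.tensorCx (X := X)).map φ).naturality r
  haveI h4 : QuasiIso (((DCoh.tensorCx (X := X)).obj K).map r ≫
      ((DCoh.tensorCx (X := X)).map φ).app S) := by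
    rw [hnat]
    infer_instance
  exact quasiIso_of_comp_left (((DCoh.tensorCx (X := X)).obj K).map r) _

/-- the same for the termwise tensor product with a module -/
theorem quasiIso_tw_of_kflat (M : X.Modules) {K L : CochainComplex X.Modules ℤ}
    (hK : DCoh.IsKFlat K) (hL : DCoh.IsKFlat L) (φ : K ⟶ L) [QuasiIso φ] :
    QuasiIso ((tw M).map φ) := by
  haveI : (ModSite.tensorBi X.sheaf).Additive := ModSite.additive_tensorBi X.sheaf
  have h0 := quasiIso_tensor_of_kflat hK hL φ
    ((HomologicalComplex.single X.Modules (ComplexShape.up ℤ) 0).obj M)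
  haveI h0' : QuasiIso (((DCoh.tensorBi (X := X)).map₂CochainComplex.flip.obj
      ((HomologicalComplex.single X.Modules (ComplexShape.up ℤ) 0).obj M)).map φ) := h0
  have hnat := (xi (DCoh.tensorBi (X := X)) M (DCoh.tensorRightMod M) (eT M)).naturality φ
  haveI : IsIso ((xi (DCoh.tensorBi (X := X)) M (DCoh.tensorRightMod M) (eT M)).app K) :=
    isIso_xiApp (DCoh.tensorBi (X := X)) M (DCoh.tensorRightMod M) (eT M) K
  haveI : IsIso ((xi (DCoh.tensorBi (X := X)) M (DCoh.tensorRightMod M) (eT M)).app L) :=
    isIso_xiApp (DCoh.tensorBi (X := X)) M (DCoh.tensorRightMod M) (eT M) L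
  haveI h5 : QuasiIso ((tw M).map φ ≫
      (xi (DCoh.tensorBi (X := X)) M (DCoh.tensorRightMod M) (eT M)).app L) := by
    rw [hnat]
    exact quasiIso_comp _ _
  exact quasiIso_of_comp_right _
    ((xi (DCoh.tensorBi (X := X)) M (DCoh.tensorRightMod M) (eT M)).app L)

/-- `quotient ⋙ tensorModKh M ≅ tw M ⋙ Q` -/
def quotientTensorModKhIso (M : X.Modules) :
    HomotopyCategory.quotient X.Modules (ComplexShape.up ℤ) ⋙ DCoh.tensorModKh M ≅
      tw M ⋙ DerivedCategory.Q :=
  (Functor.associator _ _ _).symm ≪≫
    Functor.isoWhiskerRight ((DCoh.tensorRightMod M).mapHomotopyCategoryFactors _)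
      DerivedCategory.Qh ≪≫ Functor.associator _ _ _ ≪≫
    Functor.isoWhiskerLeft _ (DerivedCategory.quotientCompQhIso _)

lemma isIso_tensorModKh_map (M : X.Modules)
    ⦃K L : HomotopyCategory X.Modules (ComplexShape.up ℤ)⦄ (f : K ⟶ L)
    (hK : kflat X K) (hL : kflat X L)
    (hf : (HomotopyCategory.subcategoryAcyclic X.Modules).trW f) :
    IsIso ((DCoh.tensorModKh M).map f) := by
  obtain ⟨φ, hφ⟩ := (HomotopyCategory.quotient X.Modules (ComplexShape.up ℤ)).map_surjective
    (X := K.as) (Y := L.as) f
  rw [← HomotopyCategory.quasiIso_eq_trW_subcategoryAcyclic] at hf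
  have hf' : HomotopyCategory.quasiIso _ _
      ((HomotopyCategory.quotient X.Modules (ComplexShape.up ℤ)).map φ) := by
    rw [hφ]; exact hf
  rw [HomotopyCategory.quotient_map_mem_quasiIso_iff] at hf'
  haveI hq : QuasiIso φ := (HomologicalComplex.mem_quasiIso_iff φ).1 hf'
  have h1 := quasiIso_tw_of_kflat M hK hL φ
  have h2 : IsIso ((HomotopyCategory.quotient X.Modules (ComplexShape.up ℤ) ⋙
      DCoh.tensorModKh M).map φ) := by
    rw [NatIso.isIso_map_iff (quotientTensorModKhIso M) φ]
    show IsIso (DerivedCategory.Q.map _)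
    infer_instance
  rw [← hφ]
  exact h2

/-- **the derived tensor product with a module exists** -/
theorem hasLTensorMod (M : X.Modules) : DCoh.HasLTensorMod M :=
  Groth.Agent.Lib.LDerResH3.main_has (kflat X) (HomotopyCategory.subcategoryAcyclic X.Modules)
    (kflat_res X) (HomotopyCategory.quasiIso _ _)
    (HomotopyCategory.quasiIso_eq_trW_subcategoryAcyclic _) (DCoh.tensorModKh M)
    (isIso_tensorModKh_map M)

end

end Groth.Agent.Lib.LTensModExH3
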