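import Mathlib
import Groth.Prelude
import Groth.Agent.Lib.BrownQC2_lead
import Groth.Agent.Lib.BrownQC3_lead
import Groth.Agent.Lib.DTorCmp_helper2
import Groth.Agent.Lib.LTensModEx_helper3
import Groth.Agent.Lib.LpullTens_helper3
import Groth.Agent.Lib.CycLen2_helper8
import Groth.Agent.Lib.CohDev8_helper8

/-!
# The right adjoint of `Rf_*` on `D_QCoh` commutes with coproducts when `Rf_*` preserves perfect
complexes (lead)

* `K ⊗^L O_X ≅ K`;
* the structure sheaf is flat over the base of a flat morphism, its support is everything;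
* `main1770_aux`: `a` preserves coproducts as soon as `Rf_*` preserves perfect complexes.
-/

set_option autoImplicit false
set_option linter.all false
set_option maxHeartbeats 1600000
set_option backward.isDefEq.respectTransparency false
set_option backward.isDefEq.respectTransparency.types false
set_option backward.defeqAttrib.useBackward true

universe u

open CategoryTheory CategoryTheory.Limits AlgebraicGeometry TopologicalSpace Opposite
open DerivedCategory CategoryTheory.Pretriangulated MonoidalCategory
open CategoryTheory.Pretriangulated.Opposite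

attribute [local instance] HasDerivedCategory.standard

namespace Groth.Agent.Lib.BrownQCL

open Groth.Agent.Lib Groth.Agent.Lib.DCohLocLead Groth.Agent.Lib.PerfLocL
open Groth.Agent.Lib.HomVanL Groth.Agent.Lib.CompQL Groth.Agent.Lib.SerreHomL
open Groth.Agent.Lib.TTLiftL Groth.Agent.Lib.TTApxL Groth.Agent.Lib.TTSuppL
open Groth.Agent.Lib.TTGlueL Groth.Agent.Lib.TTGenL

attribute [local instance] rpushI lpullI

/-! ### tensoring with the structure sheaf -/

section Unit

variable {X : Scheme.{u}}

/-- The right unit isomorphism `F ⊗ O ≅ F` of the sectionwise tensor product. -/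
noncomputable def unitorPreR (F : X.Modules) :
    (CohB1.tensorPre F (Coh.structureModule X) : X.PresheafOfModules) ≅ F.val :=
  (ρ_ (CohB1.toPMod F) : (CohB1.tensorPre F (Coh.structureModule X) : CohB1.PMod X) ≅
    (CohB1.toPMod F : CohB1.PMod X))

/-- `F ⊗ O ≅ F` -/
noncomputable def unitorR (F : X.Modules) :
    (DCoh.tensorRightMod (Coh.structureModule X)).obj F ≅ F :=
  (CohB1.sheafifyMod X).mapIso (unitorPreR F) ≪≫
    (asIso (PresheafOfModules.sheafificationAdjunction.{u, u, u, u}
      (J := Opens.grothendieckTopology X) (𝟙 X.ringCatSheaf.obj)).counit).app F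

theorem unitorR_nat {F F' : X.Modules} (f : F ⟶ F') :
    (DCoh.tensorRightMod (Coh.structureModule X)).map f ≫ (unitorR F').hom =
      (unitorR F).hom ≫ f := by
  let adj := PresheafOfModules.sheafificationAdjunction.{u, u, u, u}
    (J := Opens.grothendieckTopology X) (𝟙 X.ringCatSheaf.obj)
  let a : (DCoh.tensorRightMod (Coh.structureModule X)).obj F ⟶
      (DCoh.tensorRightMod (Coh.structureModule X)).obj F' :=
    (CohB1.sheafifyMod X).map
        (show (CohB1.tensorPre F (Coh.structureModule X) : X.PresheafOfModules) ⟶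
          (CohB1.tensorPre F' (Coh.structureModule X) : X.PresheafOfModules) from
          ((show CohB1.toPMod F ⟶ CohB1.toPMod F' from f.val) ▷
            CohB1.toPMod (Coh.structureModule X)))
  have ha : (DCoh.tensorRightMod (Coh.structureModule X)).map f = a := rfl
  have h1 : a ≫ (CohB1.sheafifyMod X).map (unitorPreR F').hom =
      (CohB1.sheafifyMod X).map (unitorPreR F).hom ≫ (CohB1.sheafifyMod X).map f.val := by
    show (CohB1.sheafifyMod X).map _ ≫ (CohB1.sheafifyMod X).map _ = _
    rw [← Functor.map_comp, ← Functor.map_comp]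
    congr 1
    exact rightUnitor_naturality (show CohB1.toPMod F ⟶ CohB1.toPMod F' from f.val)
  have h2 : (CohB1.sheafifyMod X).map f.val ≫ adj.counit.app F' = adj.counit.app F ≫ f :=
    adj.counit.naturality f
  rw [ha]
  calc a ≫ ((CohB1.sheafifyMod X).map (unitorPreR F').hom ≫ adj.counit.app F')
      = (a ≫ (CohB1.sheafifyMod X).map (unitorPreR F').hom) ≫ adj.counit.app F' :=
        (Category.assoc _ _ _).symm
    _ = ((CohB1.sheafifyMod X).map (unitorPreR F).hom ≫ (CohB1.sheafifyMod X).map f.val) ≫
          adj.counit.app F' := congrArg (· ≫ adj.counit.app F') h1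
    _ = (CohB1.sheafifyMod X).map (unitorPreR F).hom ≫ ((CohB1.sheafifyMod X).map f.val ≫
          adj.counit.app F') := Category.assoc _ _ _
    _ = (CohB1.sheafifyMod X).map (unitorPreR F).hom ≫ (adj.counit.app F ≫ f) :=
        congrArg ((CohB1.sheafifyMod X).map (unitorPreR F).hom ≫ ·) h2
    _ = ((CohB1.sheafifyMod X).map (unitorPreR F).hom ≫ adj.counit.app F) ≫ f :=
        (Category.assoc _ _ _).symm

/-- termwise: `P ⊗ O ≅ P` -/
noncomputable def twUnitIso (P : CochainComplex X.Modules ℤ) :
    (DTorCmp.tw (Coh.structureModule X)).obj P ≅ P :=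
  HomologicalComplex.Hom.isoOfComponents (fun i => unitorR (P.X i))
    (fun i j _ => (unitorR_nat (P.d i j)).symm)

theorem nonempty_ltensor_unit_iso [DCoh.HasLTensorMod (Coh.structureModule X)] (E : DCoh.D X) :
    Nonempty ((DCoh.LTensorMod (Coh.structureModule X)).obj E ≅ E) := by
  obtain ⟨P, hP, ⟨eP⟩⟩ := Groth.Agent.Lib.LpullTensH3.exists_kflat_rep E
  exact ⟨(DCoh.LTensorMod (Coh.structureModule X)).mapIso eP.symm ≪≫
    DTorCmp.ltensorIso (Coh.structureModule X) P hP ≪≫ Q.mapIso (twUnitIso P) ≪≫ eP⟩

end Unit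

/-! ### the structure sheaf over the base -/

section Flat

variable {X S : Scheme.{u}} (h : X ⟶ S)

/-- the structure sheaf of the source of a flat morphism is flat over the base
(copy of helper2's `BCFunH2.isFlatOver_unit`) -/
theorem isFlatOver_unit [Flat h] : FlatMod.IsFlatOver h (Coh.structureModule X) := by
  intro x
  unfold FlatMod.IsFlatOverAt
  letI := FlatMod.moduleStalkOver h (Coh.structureModule X) x
  letI : Algebra (S.presheaf.stalk (h.base x)) (X.presheaf.stalk x) :=
    (h.stalkMap x).hom.toAlgebra
  haveI : Module.Flat (S.presheaf.stalk (h.base x)) (X.presheaf.stalk x) := Flat.stalkMap h x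
  let e : (X.presheaf.stalk x) ≃ₗ[S.presheaf.stalk (h.base x)]
      ((Coh.structureModule X).presheaf.stalk x) :=
    { (CycLenH8.stalkStructureEquiv x) with
      map_smul' := fun r z => by
        show (CycLenH8.stalkStructureEquiv x) ((h.stalkMap x).hom r * z) =
          (h.stalkMap x).hom r • (CycLenH8.stalkStructureEquiv x) z
        rw [← smul_eq_mul, map_smul] }
  exact Module.Flat.of_linearEquiv e.symm

theorem support_structureModule : CohB1.support (Coh.structureModule X) = Set.univ := by
  apply Set.eq_univ_of_forall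
  intro x hx
  have hx' : Subsingleton ((Coh.structureModule X).presheaf.stalk x) := hx
  haveI : Subsingleton (X.presheaf.stalk x) :=
    (CycLenH8.stalkStructureEquiv x).toEquiv.subsingleton
  exact not_subsingleton (X.presheaf.stalk x) inferInstance

theorem isProperOver_support_unit [IsProper h] :
    ClSub.IsProperOver h (CohB1.support (Coh.structureModule X)) := by
  rw [support_structureModule]
  exact ⟨isClosed_univ, inferInstance⟩

end Flat

/-! ### the main statement, assuming `Rf_*` preserves perfect complexes -/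

section Main

theorem exists_perfect_generator (X : Scheme.{u}) [CompactSpace X] [QuasiSeparatedSpace X] :
    ∃ G : DCoh.DQCoh X, DCoh.IsPerfect G.obj ∧ CohDer.Generates (fun _ : PUnit.{u + 1} => G) := by
  obtain ⟨G, hG, -, hgen⟩ := TTGenL.exists_generator X ⊥ (by simp)
  have hq : DCoh.IsQCohD G := isQCohD_of_isPerfect G hG
  let ιQ := ObjectProperty.ι (DCoh.IsQCohD (X := X))
  refine ⟨⟨G, hq⟩, hG, ?_⟩
  intro K hK
  have hz : IsZero K.obj := by
    refine hgen K.obj K.property (TTGenL.isZero_DD_bot K.obj) (fun m => ?_)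
    intro f
    let c := (ιQ.commShiftIso m).app K
    have h1 := hK PUnit.unit m (ιQ.preimage (f ≫ c.inv))
    have h2 : f ≫ c.inv = 0 := by
      have h3 := congrArg (fun g => ιQ.map g) h1
      simp only [Functor.map_preimage, Functor.map_zero] at h3
      exact h3
    have h4 : f = (f ≫ c.inv) ≫ c.hom := by
      rw [Category.assoc, c.inv_hom_id]
      exact (Category.comp_id f).symm
    rw [h4, h2, zero_comp]
  rw [IsZero.iff_id_eq_zero]
  apply ιQ.map_injective
  rw [CategoryTheory.Functor.map_id, Functor.map_zero]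
  exact hz.eq_of_src _ _

theorem main1770_aux (X Y : Scheme.{u}) [CompactSpace X] [QuasiSeparatedSpace X]
    [CompactSpace Y] [QuasiSeparatedSpace Y] (f : X ⟶ Y)
    (hperf : ∀ E : DCoh.D X, DCoh.IsPerfect E → DCoh.IsPerfect ((DCoh.Rpush f).obj E))
    (h : ∀ K : DCoh.D X, DCoh.IsQCohD K → DCoh.IsQCohD ((DCoh.Rpush f).obj K))
    (a : DCoh.DQCoh Y ⥤ DCoh.DQCoh X)
    (adj : (ObjectProperty.lift DCoh.IsQCohD (ObjectProperty.ι DCoh.IsQCohD ⋙ DCoh.Rpush f)
      (fun K => h K.obj K.property)) ⊣ a) (J : Type u) :
    PreservesColimitsOfShape (Discrete J) a := by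
  obtain ⟨adjLR⟩ := DerAdjL.nonempty_adj f
  haveI : (DCoh.Rpush f).Additive := CompQL.additive_of_adj adjLR
  obtain ⟨G, hG, hg⟩ := exists_perfect_generator X
  let ιQ := ObjectProperty.ι (DCoh.IsQCohD (X := X))
  have hsh : ∀ m : ℤ, DCoh.IsPerfect ((shiftFunctor (DCoh.DQCoh X) m).obj G).obj := fun m =>
    isPerfect_of_iso ((ιQ.commShiftIso m).app G).symm (isPerfect_shift hG m)
  exact preservesCoprod_of_compact (RQ f h) a adj (fun _ : PUnit.{u + 1} => G) hg J
    (fun _ m Z φ => fix_of_cq X _ (CptPerfL.cq_of_isPerfect _ (hsh m)) J Z φ)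
    (fun _ m Z φ => fix_of_cq Y _
      (CptPerfL.cq_of_isPerfect _ (hperf _ (hsh m))) J Z φ)

end Main

end Groth.Agent.Lib.BrownQCL
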