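import Mathlib
import Groth.Prelude
import Groth.Agent.Lib.StalkTens1_helper3
import Groth.Agent.Lib.QcqsLoc_helper9

/-!
# Quasi-coherent test modules with a prescribed stalk (helper3)

For a point `x` of a scheme `X` and a module `M` over the local ring `O_{X,x}`, the direct image
`testMod x M` of `M~` along `Spec O_{X,x} ⟶ X` has stalk `M` at `x` (`testStalkIso`), and is
quasi-coherent when `X` is quasi-separated (`isQCoh_testMod`).
-/

set_option autoImplicit false
set_option linter.all false
set_option maxHeartbeats 1600000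
set_option backward.isDefEq.respectTransparency false
set_option backward.isDefEq.respectTransparency.types false
set_option backward.defeqAttrib.useBackward true

universe u
open CategoryTheory CategoryTheory.Limits AlgebraicGeometry Opposite TopologicalSpace

namespace Groth.Agent.Lib.QcTestH3

open Groth.Agent.Lib.StalkSkyL QcqsLoc Groth.Agent.Lib.StalkTensH3

noncomputable section

variable {X : Scheme.{u}} (x : X)

/-- the test module: the direct image of `M~` along `Spec O_{X,x} ⟶ X` -/
def testMod (M : ModuleCat.{u} (X.presheaf.stalk x)) : X.Modules :=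
  (Scheme.Modules.pushforward (X.fromSpecStalk x)).obj (tilde M)

theorem isQCoh_testMod [QuasiSeparatedSpace X] (M : ModuleCat.{u} (X.presheaf.stalk x)) :
    Coh.IsQCoh (testMod x M) :=
  QcqsLoc.isQuasicoherent_pushforward_qcqs (X.fromSpecStalk x) (tilde M)

lemma preimage_eq_top (U : X.Opens) (hx : x ∈ U) : (X.fromSpecStalk x) ⁻¹ᵁ U = ⊤ := by
  apply (IsLocalRing.closedPoint_mem_iff (R := X.presheaf.stalk x) _).1
  show (X.fromSpecStalk x) (IsLocalRing.closedPoint (X.presheaf.stalk x)) ∈ U
  rw [Scheme.fromSpecStalk_closedPoint]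
  exact hx

variable (N : (Spec (X.presheaf.stalk x)).Modules)

/-- the module of global sections of `N` -/
abbrev Etop : ModuleCat.{u} (X.presheaf.stalk x) :=
  (modulesSpecToSheaf.obj N).presheaf.obj (.op ⊤)

/-- transport of sections to global sections -/
def toTopFun (U : X.Opens) (hx : x ∈ U)
    (s : Γ((Scheme.Modules.pushforward (X.fromSpecStalk x)).obj N, U)) : Etop x N :=
  N.presheaf.map (eqToHom (preimage_eq_top x U hx).symm).op s

lemma toTopFun_add (U : X.Opens) (hx : x ∈ U)
    (s t : Γ((Scheme.Modules.pushforward (X.fromSpecStalk x)).obj N, U)) :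
    toTopFun x N U hx (s + t) = toTopFun x N U hx s + toTopFun x N U hx t :=
  map_add (N.presheaf.map (eqToHom (preimage_eq_top x U hx).symm).op).hom s t

lemma toTopFun_res (U V : X.Opens) (h : V ≤ U) (hx : x ∈ V)
    (s : Γ((Scheme.Modules.pushforward (X.fromSpecStalk x)).obj N, U)) :
    toTopFun x N V hx (rF ((Scheme.Modules.pushforward (X.fromSpecStalk x)).obj N) h s) =
      toTopFun x N U (h hx) s := by
  unfold toTopFun
  have h1 : (N.presheaf.map (homOfLE (Scheme.Hom.preimage_mono (X.fromSpecStalk x) h)).op ≫
      N.presheaf.map (eqToHom (preimage_eq_top x V hx).symm).op) =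
      N.presheaf.map (eqToHom (preimage_eq_top x U (h hx)).symm).op := by
    rw [← Functor.map_comp]
    rfl
  exact congrArg (fun q => q.hom s) h1

lemma toTopFun_smul (U : X.Opens) (hx : x ∈ U) (r : Γ(X, U))
    (s : Γ((Scheme.Modules.pushforward (X.fromSpecStalk x)).obj N, U)) :
    toTopFun x N U hx (r • s) = gm x U hx r • toTopFun x N U hx s := by
  unfold toTopFun
  have h1 : N.presheaf.map (eqToHom (preimage_eq_top x U hx).symm).op
      ((((X.fromSpecStalk x).app U).hom r) • (show Γ(N, (X.fromSpecStalk x) ⁻¹ᵁ U) from s)) =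
      (Spec (X.presheaf.stalk x)).presheaf.map (eqToHom (preimage_eq_top x U hx).symm).op
        (((X.fromSpecStalk x).app U).hom r) •
      N.presheaf.map (eqToHom (preimage_eq_top x U hx).symm).op s :=
    Scheme.Modules.map_smul N (eqToHom (preimage_eq_top x U hx).symm) _ _
  refine h1.trans ?_
  rw [Scheme.Modules.smul_Spec_def]
  congr 1
  rw [Scheme.fromSpecStalk_app hx]
  have h2 : ((Spec (X.presheaf.stalk x)).presheaf.map
        (homOfLE (le_top : (X.fromSpecStalk x) ⁻¹ᵁ U ≤ ⊤)).op ≫
      (Spec (X.presheaf.stalk x)).presheaf.map (eqToHom (preimage_eq_top x U hx).symm).op) =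
      (Spec (X.presheaf.stalk x)).presheaf.map (Opens.leTop (⊤ : (Spec (X.presheaf.stalk x)).Opens)).op := by
    rw [← Functor.map_comp]
    rfl
  exact congrArg (fun q => q.hom ((Scheme.ΓSpecIso (X.presheaf.stalk x)).inv.hom (gm x U hx r))) h2

/-- the stalk at `x` of the direct image maps to the global sections -/
def toTop : (DerSch.stalkFunctor X x).obj
    ((Scheme.Modules.pushforward (X.fromSpecStalk x)).obj N) ⟶ Etop x N :=
  descStalk x ((Scheme.Modules.pushforward (X.fromSpecStalk x)).obj N) (Etop x N)
    (toTopFun x N) (toTopFun_add x N) (toTopFun_smul x N) (toTopFun_res x N)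

lemma toTop_gmM (U : X.Opens) (hx : x ∈ U)
    (s : Γ((Scheme.Modules.pushforward (X.fromSpecStalk x)).obj N, U)) :
    (toTop x N).hom (gmM x _ U hx s) = toTopFun x N U hx s :=
  descStalk_gmM x _ _ _ _ _ _ U hx s

lemma toTopFun_injective (U : X.Opens) (hx : x ∈ U) :
    Function.Injective (toTopFun x N U hx) := by
  haveI : IsIso (N.presheaf.map (eqToHom (preimage_eq_top x U hx).symm).op) := inferInstance
  exact ((ConcreteCategory.isIso_iff_bijective
    (N.presheaf.map (eqToHom (preimage_eq_top x U hx).symm).op)).1 inferInstance).1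

lemma toTopFun_surjective (U : X.Opens) (hx : x ∈ U) :
    Function.Surjective (toTopFun x N U hx) := by
  haveI : IsIso (N.presheaf.map (eqToHom (preimage_eq_top x U hx).symm).op) := inferInstance
  exact ((ConcreteCategory.isIso_iff_bijective
    (N.presheaf.map (eqToHom (preimage_eq_top x U hx).symm).op)).1 inferInstance).2

lemma toTop_bijective : Function.Bijective (toTop x N).hom := by
  constructor
  · rw [injective_iff_map_eq_zero]
    intro a ha
    obtain ⟨U, hx, s, rfl⟩ := exists_gmM x _ a
    rw [toTop_gmM] at ha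
    have h0 : toTopFun x N U hx 0 = 0 :=
      map_zero (N.presheaf.map (eqToHom (preimage_eq_top x U hx).symm).op).hom
    have hs : s = 0 := toTopFun_injective x N U hx (ha.trans h0.symm)
    rw [hs]
    exact gmM_zero x _ U hx
  · intro t
    obtain ⟨s, hs⟩ := toTopFun_surjective x N ⊤ trivial t
    exact ⟨gmM x _ ⊤ trivial s, (toTop_gmM x N ⊤ trivial s).trans hs⟩

instance isIso_toTop : IsIso (toTop x N) :=
  (ConcreteCategory.isIso_iff_bijective (toTop x N)).2 (toTop_bijective x N)

/-- **the stalk of the test module is the module** -/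
def testStalkIso (M : ModuleCat.{u} (X.presheaf.stalk x)) :
    (DerSch.stalkFunctor X x).obj (testMod x M) ≅ M :=
  asIso (toTop x (tilde M)) ≪≫ (tilde.isoTop M).symm

end

end Groth.Agent.Lib.QcTestH3
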