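import Mathlib
import Groth.Agent.Lib.ExtKFlat_helper2
import Groth.Agent.Lib.NilpTor_helper2

/-!
# Restriction of scalars along a flat ring map preserves K-flat complexes (helper2)

Also: tor amplitude from vanishing of the functors `M ↦ H^i(M ⊗ X^•)`.
-/

set_option autoImplicit false
universe u
open CategoryTheory Limits MonoidalCategory TensorProduct ChangeOfRings

namespace Groth.Agent.Lib.ResKFlat

open Groth.Agent.ExtendScalarsLib Groth.Agent.Lib.KFlatMod Groth.Agent.Lib.KFlatGen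
  Groth.Agent.Lib.TotalMap Groth.Agent.Lib.ExtKFlat

variable {R A : Type u} [CommRing R] [CommRing A] [Algebra R A]

section Iso

variable (L : ModuleCat.{u} R) (K : ModuleCat.{u} A)

/-- `((A ⊗_R L) ⊗_A K)|_R ≅ L ⊗_R K|_R` -/
noncomputable def cbIso' :
    (res R A).obj ((ext R A).obj L ⊗ K) ≅ (L ⊗ (res R A).obj K : ModuleCat.{u} R) :=
  (res R A).mapIso (β_ ((ext R A).obj L) K) ≪≫ cbIso K L ≪≫ β_ ((res R A).obj K) L

end Iso

lemma cbIso'_inv_nat₂ (L : ModuleCat.{u} R) {K K' : ModuleCat.{u} A} (g : K ⟶ K') :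
    (L ◁ (res R A).map g) ≫ (cbIso' L K').inv =
      (cbIso' L K).inv ≫ (res R A).map ((ext R A).obj L ◁ g) := by
  apply ModuleCat.MonoidalCategory.tensor_ext
  intro l k
  rfl

lemma cbIso'_inv_nat₁ {L L' : ModuleCat.{u} R} (f : L ⟶ L') (K : ModuleCat.{u} A) :
    (f ▷ (res R A).obj K) ≫ (cbIso' L' K).inv =
      (cbIso' L K).inv ≫ (res R A).map ((ext R A).map f ▷ K) := by
  apply ModuleCat.MonoidalCategory.tensor_ext
  intro l k
  rfl

variable (R A)

/-- the bifunctor `(L, K) ↦ (A ⊗_R L) ⊗_A K` -/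
noncomputable abbrev FF' : ModuleCat.{u} R ⥤ ModuleCat.{u} A ⥤ ModuleCat.{u} A :=
  ext R A ⋙ curriedTensor (ModuleCat.{u} A)

/-- the binatural isomorphism -/
noncomputable def cbNatIso' :
    FF' R A ⋙ (Functor.whiskeringRight (ModuleCat.{u} A) (ModuleCat.{u} A) (ModuleCat.{u} R)).obj
        (res R A) ≅
      𝟭 (ModuleCat.{u} R) ⋙ curriedTensor (ModuleCat.{u} R) ⋙
        (Functor.whiskeringLeft (ModuleCat.{u} A) (ModuleCat.{u} R) (ModuleCat.{u} R)).obj
          (res R A) :=
  (NatIso.ofComponents (fun L => NatIso.ofComponents (fun K => (cbIso' L K).symm)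
    (fun {K K'} g => cbIso'_inv_nat₂ L g))
    (fun {L L'} f => NatTrans.ext (funext fun K => cbIso'_inv_nat₁ f K))).symm

variable {R A}

instance additive_FF'_obj (X : ModuleCat.{u} R) : ((FF' R A).obj X).Additive :=
  inferInstanceAs (((curriedTensor (ModuleCat.{u} A)).obj ((ext R A).obj X)).Additive)

instance : PreservesFiniteColimits (ext R A) := by
  haveI : (ext R A).IsLeftAdjoint :=
    (ModuleCat.extendRestrictScalarsAdj (algebraMap R A)).isLeftAdjoint
  infer_instance

/-- **restriction of scalars along a flat ring map preserves K-flat complexes** -/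
theorem kf_res [Module.Flat R A] (K : CochainComplex (ModuleCat.{u} A) ℤ) (hK : KF A K) :
    KF R (((res R A).mapHomologicalComplex (ComplexShape.up ℤ)).obj K) := by
  haveI : PreservesFiniteLimits (ext R A) :=
    ModuleCat.preservesFiniteLimits_extendScalars_of_flat
      (RingHom.flat_algebraMap_iff.2 inferInstance)
  rw [kf_iff] at hK ⊢
  intro L hL
  have iso := mapIso (FF' R A) (res R A) (𝟭 (ModuleCat.{u} R)) (res R A)
    (curriedTensor (ModuleCat.{u} R)) L K (cbNatIso' R A)
  have hL' : (((ext R A).mapHomologicalComplex (ComplexShape.up ℤ)).obj L).Acyclic :=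
    acyclic_map (ext R A) L hL
  have h1 := hK _ hL'
  have h2 := acyclic_map (res R A) _ h1
  exact Groth.Agent.Lib.BifCone.acyclic_of_iso iso h2

section TorAmp

open Groth.Agent.Lib.DMod_helper6 Groth.Agent.Lib.NilpTor Groth.Agent.Lib.DRingLT
  Groth.Agent.Lib.BifSingleL

attribute [local instance] HasDerivedCategory.standard

variable {B : Type u} [CommRing B]

/-- tor amplitude from the vanishing of `M ↦ H^i(M ⊗ X^•)` for a K-flat complex `X` -/
theorem hasTorAmplitudeIn_of_isZero_T (X : DRing.Cx B) (hX : KF B X) (a b : ℤ)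
    (hvan : ∀ (i : ℤ), (i < a ∨ b < i) → ∀ M : ModuleCat.{u} B,
      IsZero ((TorFun.T (T B) X i).obj M)) :
    DRing.HasTorAmplitudeIn B a b (DRing.toD X) := by
  haveI : DerivedCategory.IsLE (DRing.toD X) b := isLE_of_subsingleton_HD _ b (fun i hi =>
    (exactAt_iff_subsingleton_HD (Iso.refl _) i).1
      (exactAt_of_isZero_T_unit X i (hvan i (Or.inr hi) _)))
  obtain ⟨P₂, hP₂free, hP₂b, ⟨e₂⟩⟩ := exists_free_resolution (DRing.toD X) b
  have hP₂fl : DRing.TermwiseFlat P₂ := fun j => by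
    haveI := hP₂free j
    exact Module.Flat.of_free
  have hP₂kf : KF B P₂ := kf_of_vanishesAbove P₂ b hP₂b hP₂fl
  have hvan₂ : ∀ (i : ℤ), (i < a ∨ b < i) → ∀ M : ModuleCat.{u} B,
      IsZero ((TorFun.T (T B) P₂ i).obj M) := fun i hi M =>
    isZero_T_of_iso hX hP₂kf e₂.symm M i (hvan i hi M)
  exact hasTorAmplitudeIn_of_iso e₂ a b
    (hasTorAmplitudeIn_of_TN_exact' P₂ a b hP₂b hP₂fl
      (fun i hi => exactAt_of_isZero_T_unit P₂ i (hvan₂ i (Or.inl hi) _))
      (fun N => exactAt_TN_of_isZero_T P₂ N (a - 1) (hvan₂ (a - 1) (Or.inl (by omega)) N)))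

end TorAmp

end Groth.Agent.Lib.ResKFlat
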