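import Mathlib
import Groth.Prelude
import Groth.Agent.Lib.QcTest1_helper3
import Groth.Agent.Lib.LTensModEx_helper3
import Groth.Agent.Lib.TorAmpId_lead
import Groth.Agent.Lib.ResKFlat_helper2
import Groth.Agent.Lib.StalkKFlat1_helper3
import Groth.Agent.Lib.LpullTens_helper3

/-!
# Tor amplitude can be tested on quasi-coherent modules (helper3)

`main1073`: on a quasi-separated scheme, `E` has tor amplitude in `[a, b]` iff
`H^i(E ⊗^L F) = 0` outside `[a, b]` for every quasi-coherent module `F`.
-/

set_option autoImplicit false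
set_option linter.all false
set_option maxHeartbeats 1600000
set_option backward.isDefEq.respectTransparency false
set_option backward.isDefEq.respectTransparency.types false
set_option backward.defeqAttrib.useBackward true

universe u
open CategoryTheory CategoryTheory.Limits AlgebraicGeometry Opposite MonoidalCategory

attribute [local instance] HasDerivedCategory.standard

namespace Groth.Agent.Lib.QcTestH3

open Groth.Agent.Lib.StalkTensH3 Groth.Agent.Lib.DTorCmp Groth.Agent.Lib.LTensModExH3
  Groth.Agent.Lib.TorAmpIdL Groth.Agent.Lib.ResKFlat Groth.Agent.Lib.KFlatMod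
  Groth.Agent.Lib.LpullTensH3 Groth.Agent.Lib.TorAmpPushL

noncomputable section

variable {X : Scheme.{u}} (x : X)

/-- the stalk of `A ⊗ G` for a module `G` with stalk `M`: `(A ⊗ G)_x ≅ M ⊗ A_x`, naturally in `A` -/
def stalkTwIso (G : X.Modules) (M : ModuleCat.{u} (X.presheaf.stalk x))
    (t : (stk x).obj G ≅ M) :
    DCoh.tensorRightMod G ⋙ stk x ≅
      stk x ⋙ (curriedTensor (ModuleCat.{u} (X.presheaf.stalk x))).obj M :=
  NatIso.ofComponents
    (fun A => stalkTensorIso x A G ≪≫ whiskerLeftIso ((stk x).obj A) t ≪≫ β_ ((stk x).obj A) M)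
    (by
      intro A B f
      have h0 : (DCoh.tensorRightMod G).map f = (DCoh.tensorBi.map f).app G := by
        have := (eT G).hom.naturality f
        exact (Category.comp_id _).symm.trans (this.trans (Category.id_comp _))
      have h1 := rho_natural_left x f G
      show (stk x).map ((DCoh.tensorRightMod G).map f) ≫
          (rho x B G ≫ ((stk x).obj B ◁ t.hom) ≫ (β_ ((stk x).obj B) M).hom) =
        (rho x A G ≫ ((stk x).obj A ◁ t.hom) ≫ (β_ ((stk x).obj A) M).hom) ≫
          (M ◁ (stk x).map f)
      rw [h0, ← Category.assoc, h1, Category.assoc, Category.assoc, Category.assoc]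
      congr 1
      rw [← Category.assoc, ← whisker_exchange, Category.assoc]
      congr 1
      exact BraidedCategory.braiding_naturality_left ((stk x).map f) M)

/-- the complex of stalks of the termwise tensor product -/
def stalkTwCxIso (G : X.Modules) (M : ModuleCat.{u} (X.presheaf.stalk x))
    (t : (stk x).obj G ≅ M) (P : CochainComplex X.Modules ℤ) :
    ((stk x).mapHomologicalComplex (ComplexShape.up ℤ)).obj ((tw G).obj P) ≅
      (Groth.Agent.Lib.BifSingleL.SP (T (X.presheaf.stalk x))
        (((stk x).mapHomologicalComplex (ComplexShape.up ℤ)).obj P)).obj M :=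
  HomologicalComplex.Hom.isoOfComponents (fun i => (stalkTwIso x G M t).app (P.X i))
    (fun i j _ => ((stalkTwIso x G M t).hom.naturality (P.d i j)).symm)

/-- **S1073** -/
theorem main1073 [QuasiSeparatedSpace X] (E : DCoh.D X) (a b : ℤ) :
    DCoh.HasTorAmplitudeIn a b E ↔
      ∀ (F : X.Modules), Coh.IsQCoh F → ∀ [DCoh.HasLTensorMod F] (i : ℤ), (i < a ∨ b < i) →
        IsZero (DCoh.HD ((DCoh.LTensorMod F).obj E) i) := by
  constructor
  · intro h F _ _ i hi
    exact h F i hi
  · intro H
    obtain ⟨P, hP, ⟨eP⟩⟩ := exists_kflat_rep E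
    refine torAmp_of_iso eP (torAmp_of_flatAmp (flatAmp_of_stalkwise P a b (fun y => ?_)))
    refine hasTorAmplitudeIn_of_isZero_T _ (kf_stalk_of_isKFlat y P hP) a b (fun i hi M => ?_)
    haveI := hasLTensorMod (testMod y M)
    have hz := H (testMod y M) (isQCoh_testMod y M) i hi
    have hz1 : IsZero (DCoh.HD ((DCoh.LTensorMod (testMod y M)).obj (DCoh.toD X P)) i) :=
      IsZero.of_iso hz ((DerivedCategory.homologyFunctor X.Modules i).mapIso
        ((DCoh.LTensorMod (testMod y M)).mapIso eP))
    have hz2 : IsZero (((tw (testMod y M)).obj P).homology i) :=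
      IsZero.of_iso hz1 (hdIso (testMod y M) P hP i).symm
    have hz3 : IsZero ((((stk y).mapHomologicalComplex (ComplexShape.up ℤ)).obj
        ((tw (testMod y M)).obj P)).homology i) :=
      IsZero.of_iso ((stk y).map_isZero hz2)
        ((((tw (testMod y M)).obj P).sc i).mapHomologyIso (stk y))
    exact IsZero.of_iso hz3 ((HomologicalComplex.homologyFunctor _ _ i).mapIso
      (stalkTwCxIso y (testMod y M) M (testStalkIso y M) P)).symm

end

end Groth.Agent.Lib.QcTestH3
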