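import Mathlib
import Groth.Prelude
import Groth.Agent.Lib.RelPerfTens_helper3
import Groth.Agent.Lib.QcTest2_helper3

/-!
# Termwise tensor product with a module and restriction to opens (helper3)

* `restrTwNatIso j G`: `(A ⊗ G)|_Y ≅ A|_Y ⊗ G|_Y`, naturally in `A`.
* `restrTwCxIso j G P`: `(P ⊗ G)|_Y ≅ P|_Y ⊗ G|_Y` for complexes `P` (termwise tensor product).
* `nonempty_Q_tw_iso`: `Q (A ⊗ G) ≅ Q (A' ⊗ G)` if `Q A ≅ Q A'` and `A`, `A'` are K-flat.
* `nonempty_local_rep`: the local form of `E ⊗^L G` for perfect `E`.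
-/

set_option autoImplicit false
set_option linter.all false
set_option maxHeartbeats 1600000
set_option backward.isDefEq.respectTransparency false
set_option backward.isDefEq.respectTransparency.types false
set_option backward.defeqAttrib.useBackward true

universe u
open CategoryTheory CategoryTheory.Limits AlgebraicGeometry Opposite MonoidalCategory

attribute [local instance] HasDerivedCategory.standard

namespace Groth.Agent.Lib.PerfTensGH3

open Groth.Agent.Lib.StalkTensH3 Groth.Agent.Lib.DTorCmp Groth.Agent.Lib.LTensModExH3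
  Groth.Agent.Lib.PullTensIsoH3 Groth.Agent.Lib.PerfTensH3 Groth.Agent.Lib.DCohLocLead
  Groth.Agent.Lib.LpullLocH3 Groth.Agent.Lib.LpullTensH3

noncomputable section

variable {X : Scheme.{u}}

/-- `- ⊗ G` in the two phrasings -/
def eTB (G : X.Modules) : DCoh.tensorRightMod G ≅ (DCoh.tensorBi (X := X)).flip.obj G :=
  NatIso.ofComponents (fun _ => Iso.refl _) (by
    intro A B f
    refine (Category.comp_id _).trans ?_
    refine Eq.trans ?_ (Category.id_comp _).symm
    rfl)

variable {Y : Scheme.{u}} (j : Y ⟶ X)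

/-- pullback commutes with `- ⊗ G` -/
def pullTwNatIso (G : X.Modules) :
    (DCoh.tensorBi (X := X)).flip.obj G ⋙ Scheme.Modules.pullback j ≅
      Scheme.Modules.pullback j ⋙
        (DCoh.tensorBi (X := Y)).flip.obj ((Scheme.Modules.pullback j).obj G) :=
  NatIso.ofComponents (fun A => ((pullTensNatIso j).app A).app G) (by
    intro A A' φ
    exact congrArg (fun t => t.app G) ((pullTensNatIso j).hom.naturality φ))

variable [IsOpenImmersion j]

/-- restriction to an open subscheme commutes with `- ⊗ G` -/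
def restrTwNatIso₀ (G : X.Modules) :
    (DCoh.tensorBi (X := X)).flip.obj G ⋙ Scheme.Modules.restrictFunctor j ≅
      Scheme.Modules.restrictFunctor j ⋙
        (DCoh.tensorBi (X := Y)).flip.obj ((Scheme.Modules.restrictFunctor j).obj G) :=
  Functor.isoWhiskerLeft _ (Scheme.Modules.restrictFunctorIsoPullback j) ≪≫
    pullTwNatIso j G ≪≫
    Functor.isoWhiskerRight (Scheme.Modules.restrictFunctorIsoPullback j).symm _ ≪≫
    Functor.isoWhiskerLeft (Scheme.Modules.restrictFunctor j)
      ((DCoh.tensorBi (X := Y)).flip.mapIso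
        ((Scheme.Modules.restrictFunctorIsoPullback j).app G).symm)

/-- restriction to an open subscheme commutes with `- ⊗ G` -/
def restrTwNatIso (G : X.Modules) :
    DCoh.tensorRightMod G ⋙ Scheme.Modules.restrictFunctor j ≅
      Scheme.Modules.restrictFunctor j ⋙
        DCoh.tensorRightMod ((Scheme.Modules.restrictFunctor j).obj G) :=
  Functor.isoWhiskerRight (eTB G) _ ≪≫ restrTwNatIso₀ j G ≪≫
    Functor.isoWhiskerLeft _ (eTB ((Scheme.Modules.restrictFunctor j).obj G)).symm

/-- **`(P ⊗ G)|_Y ≅ P|_Y ⊗ G|_Y`** (termwise tensor product of a complex and a module) -/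
def restrTwCxIso (G : X.Modules) (P : CochainComplex X.Modules ℤ) :
    (RC j).obj ((tw G).obj P) ≅
      (tw ((Scheme.Modules.restrictFunctor j).obj G)).obj ((RC j).obj P) :=
  HomologicalComplex.Hom.isoOfComponents (fun i => (restrTwNatIso j G).app (P.X i))
    (fun i k _ => ((restrTwNatIso j G).hom.naturality (P.d i k)).symm)

omit [IsOpenImmersion j] in
/-- **`Q (A ⊗ G) ≅ Q (A' ⊗ G)`** if `Q A ≅ Q A'` and `A`, `A'` are K-flat -/
theorem nonempty_Q_tw_iso (G : X.Modules) {A A' : CochainComplex X.Modules ℤ}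
    (hA : DCoh.IsKFlat A) (hA' : DCoh.IsKFlat A')
    (e : DerivedCategory.Q.obj A ≅ DerivedCategory.Q.obj A') :
    Nonempty (DerivedCategory.Q.obj ((tw G).obj A) ≅ DerivedCategory.Q.obj ((tw G).obj A')) := by
  haveI := hasLTensorMod G
  exact ⟨(ltensorIso G A hA).symm ≪≫ (DCoh.LTensorMod G).mapIso e ≪≫
    ltensorIso G A' hA'⟩

/-- the local form of `P ⊗ G` for `P` K-flat and locally quasi-isomorphic to a strictly perfect
complex `L` -/
theorem nonempty_local_rep (G : X.Modules) (P : CochainComplex X.Modules ℤ)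
    (hP : DCoh.IsKFlat P) (L : CochainComplex Y.Modules ℤ) (hL : DCoh.IsStrictlyPerfect L)
    (e : DerivedCategory.Q.obj ((RC j).obj P) ≅ DerivedCategory.Q.obj L) :
    Nonempty (DerivedCategory.Q.obj ((RC j).obj ((tw G).obj P)) ≅
      DerivedCategory.Q.obj ((tw ((Scheme.Modules.restrictFunctor j).obj G)).obj L)) := by
  obtain ⟨e1⟩ := nonempty_Q_tw_iso ((Scheme.Modules.restrictFunctor j).obj G)
    (isKFlat_RC j P hP) (isKFlat_of_isStrictlyPerfect hL) e
  exact ⟨DerivedCategory.Q.mapIso (restrTwCxIso j G P) ≪≫ e1⟩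

end

end Groth.Agent.Lib.PerfTensGH3
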