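import Mathlib
import Groth.Agent.Lib.ResKFlat_helper2
import Groth.Agent.Lib.DRingLT2_helper2

/-!
# Tor amplitude of `(F ⊗_B L)|_A` (helper2)

For a ring map `A → B`, a bounded complex `F` of flat `B`-modules in `[a, b]` and a complex `L` of
`B`-modules whose restriction to `A` has tor amplitude in `[c, d]`, the restriction of `F ⊗_B L`
to `A` has tor amplitude in `[a + c, b + d]`.
-/

set_option autoImplicit false
universe u
open CategoryTheory Limits MonoidalCategory

namespace Groth.Agent.Lib.TorAmpLT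

attribute [local instance] HasDerivedCategory.standard

open Groth.Agent.Lib.KFlatMod Groth.Agent.Lib.KFlatGen Groth.Agent.Lib.ExtKFlat
  Groth.Agent.Lib.ResKFlat Groth.Agent.Lib.DRingLT Groth.Agent.Lib.TotalMap
  Groth.Agent.Lib.BifSingleL Groth.Agent.Lib.DMod_helper6 Groth.Agent.Lib.NilpTor

section General

variable {C : Type*} [Category C] [Abelian C]

lemma exactAt_of_iso {K L : CochainComplex C ℤ} (e : K ≅ L) (i : ℤ) (h : K.ExactAt i) :
    L.ExactAt i := by
  rw [HomologicalComplex.exactAt_iff_isZero_homology] at h ⊢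
  exact h.of_iso ((HomologicalComplex.homologyFunctor C (ComplexShape.up ℤ) i).mapIso e.symm)

lemma exactAt_iff_of_quasiIso {K L : CochainComplex C ℤ} (f : K ⟶ L) [QuasiIso f] (i : ℤ) :
    K.ExactAt i ↔ L.ExactAt i := by
  rw [HomologicalComplex.exactAt_iff_isZero_homology, HomologicalComplex.exactAt_iff_isZero_homology]
  haveI : IsIso (HomologicalComplex.homologyMap f i) :=
    (quasiIsoAt_iff_isIso_homologyMap f i).1 inferInstance
  exact (asIso (HomologicalComplex.homologyMap f i)).isZero_iff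

lemma exactAt_of_isZero_X (K : CochainComplex C ℤ) (i : ℤ) (h : IsZero (K.X i)) : K.ExactAt i := by
  rw [HomologicalComplex.exactAt_iff]
  exact (K.sc i).exact_of_isZero_X₂ h

lemma exactAt_map_iff {A B : Type*} [Category A] [Category B] [Abelian A] [Abelian B] (G : A ⥤ B)
    [G.Additive] [PreservesFiniteLimits G] [PreservesFiniteColimits G] [G.Faithful]
    (K : CochainComplex A ℤ) (i : ℤ) :
    ((G.mapHomologicalComplex (ComplexShape.up ℤ)).obj K).ExactAt i ↔ K.ExactAt i := by
  rw [HomologicalComplex.exactAt_iff, HomologicalComplex.exactAt_iff]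
  exact ShortComplex.exact_map_iff_of_faithful (K.sc i) G

end General

section OneRing

variable {R : Type u} [CommRing R]

/-- `H^i(M ⊗ X'^•) = 0` if `N ⊗ X` is exact at `i`, for K-flat resolutions `X' → X` and
`N → M[0]` -/
theorem isZero_T_of_exactAt (X X' : DRing.Cx R) (p : X' ⟶ X) [QuasiIso p] (hX' : KF R X')
    (M : ModuleCat.{u} R) (N : DRing.Cx R) (hN : KF R N)
    (q : N ⟶ (HomologicalComplex.single (ModuleCat.{u} R) (ComplexShape.up ℤ) 0).obj M)
    [QuasiIso q] (i : ℤ) (h : (N ⊗ X).ExactAt i) : IsZero ((TorFun.T (T R) X' i).obj M) := by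
  let N0 : DRing.Cx R := (HomologicalComplex.single (ModuleCat.{u} R) (ComplexShape.up ℤ) 0).obj M
  haveI h1 : QuasiIso (q ▷ X') := quasiIso_whiskerRight X' hX' q
  haveI h2 : QuasiIso (N ◁ p) := DRingLT.quasiIso_whiskerLeft_of_kf N hN p
  have e1 : (N ⊗ X').ExactAt i := (exactAt_iff_of_quasiIso (N ◁ p) i).2 h
  have e2 : (N0 ⊗ X').ExactAt i := (exactAt_iff_of_quasiIso (q ▷ X') i).1 e1
  rw [HomologicalComplex.exactAt_iff_isZero_homology] at e2
  exact e2.of_iso
    ((HomologicalComplex.homologyFunctor (ModuleCat.{u} R) (ComplexShape.up ℤ) i).mapIso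
      ((xiIso (T R) X').app M))

/-- a bounded K-flat complex in `[a, b]` tensored with a complex exact outside `[c, d]` is exact
outside `[a + c, b + d]` -/
theorem exactAt_tensor_of_bounded (F Y : DRing.Cx R) (a b c d : ℤ)
    (hF : DRing.VanishesOutside F a b) (hFkf : KF R F)
    (hY : ∀ i : ℤ, (i < c ∨ d < i) → Y.ExactAt i) (i : ℤ) (hi : i < a + c ∨ b + d < i) :
    (F ⊗ Y).ExactAt i := by
  haveI : Y.IsGE c := (CochainComplex.isGE_iff Y c).2 (fun j hj => hY j (Or.inl hj))
  haveI : Y.IsLE d := (CochainComplex.isLE_iff Y d).2 (fun j hj => hY j (Or.inr hj))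
  haveI : (DerivedCategory.Q.obj Y).IsGE c := (DerivedCategory.isGE_Q_obj_iff Y c).2 inferInstance
  haveI : (DerivedCategory.Q.obj Y).IsLE d := (DerivedCategory.isLE_Q_obj_iff Y d).2 inferInstance
  obtain ⟨Y', hge, hle, ⟨e⟩⟩ :=
    DerivedCategory.exists_iso_Q_obj_of_isGE_of_isLE (DerivedCategory.Q.obj Y) c d
  have hY' : DRing.VanishesOutside Y' c d := by
    intro j hj
    rcases hj with hj | hj
    · exact Y'.isZero_of_isStrictlyGE c j hj
    · exact Y'.isZero_of_isStrictlyLE d j hj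
  obtain ⟨φ⟩ := nonempty_tensor_iso_of_iso F hFkf (L := Y) (L' := Y') e
  have hv := vanishesOutside_tensor F Y' a b c d hF hY'
  have h1 : (F ⊗ Y').ExactAt i := exactAt_of_isZero_X _ i (hv i hi)
  exact (exactAt_iff_subsingleton_HD φ i).2
    ((exactAt_iff_subsingleton_HD (Iso.refl (DRing.toD (F ⊗ Y'))) i).1 h1)

/-- swapping the first two factors of a triple tensor product of complexes -/
noncomputable def swapIso (E F L : DRing.Cx R) : E ⊗ (F ⊗ L) ≅ F ⊗ (E ⊗ L) :=
  (α_ E F L).symm ≪≫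
    whiskerRightIso (show E ⊗ F ≅ F ⊗ E from tensorCxSymm (DRingLT.σ R) E F) L ≪≫ α_ F E L

end OneRing

section TwoRings

variable {A B : Type u} [CommRing A] [CommRing B] [Algebra A B]

/-- `(N ⊗_A W|_A)` is exact at `i` iff `(B ⊗_A N) ⊗_B W` is -/
theorem exactAt_tensor_res_iff (N : DRing.Cx A) (W : DRing.Cx B) (i : ℤ) :
    (N ⊗ ((res A B).mapHomologicalComplex (ComplexShape.up ℤ)).obj W : DRing.Cx A).ExactAt i ↔
      ((((ext A B).mapHomologicalComplex (ComplexShape.up ℤ)).obj N) ⊗ W : DRing.Cx B).ExactAt i := by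
  have iso := mapIso (FF' A B) (res A B) (𝟭 (ModuleCat.{u} A)) (res A B)
    (curriedTensor (ModuleCat.{u} A)) N W (cbNatIso' A B)
  have iso2 : (((𝟭 (ModuleCat.{u} A)).mapHomologicalComplex (ComplexShape.up ℤ)).obj N ⊗
      ((res A B).mapHomologicalComplex (ComplexShape.up ℤ)).obj W : DRing.Cx A) ≅
      (N ⊗ ((res A B).mapHomologicalComplex (ComplexShape.up ℤ)).obj W : DRing.Cx A) :=
    whiskerRightIso ((Functor.mapHomologicalComplexIdIso (ModuleCat.{u} A)
      (ComplexShape.up ℤ)).app N) _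
  rw [← exactAt_map_iff (res A B)
    ((((ext A B).mapHomologicalComplex (ComplexShape.up ℤ)).obj N) ⊗ W : DRing.Cx B) i]
  constructor
  · intro h
    exact exactAt_of_iso iso.symm i (exactAt_of_iso iso2.symm i h)
  · intro h
    exact exactAt_of_iso iso2 i (exactAt_of_iso iso i h)

/-- `(B ⊗_A N) ⊗_B L` is exact outside `[c, d]` if `L|_A` has tor amplitude in `[c, d]` and `N` is a
K-flat resolution of a module -/
theorem exactAt_ext_tensor (L : DRing.Cx B) (G : DRing.Cx A) (c d : ℤ)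
    (hG : DRing.VanishesOutside G c d) (hGfl : DRing.TermwiseFlat G)
    (φ : DRing.toD G ≅ DRing.toD (((res A B).mapHomologicalComplex (ComplexShape.up ℤ)).obj L))
    (M : ModuleCat.{u} A) (N : DRing.Cx A) (hN : KF A N)
    (q : N ⟶ (HomologicalComplex.single (ModuleCat.{u} A) (ComplexShape.up ℤ) 0).obj M)
    [QuasiIso q] (i : ℤ) (hi : i < c ∨ d < i) :
    ((((ext A B).mapHomologicalComplex (ComplexShape.up ℤ)).obj N) ⊗ L : DRing.Cx B).ExactAt i := by
  have hGkf : KF A G := kf_of_vanishesAbove G d (fun j hj => hG j (Or.inr hj)) hGfl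
  obtain ⟨Z, s, g, hs, hg⟩ := exists_roof φ
  haveI := hs
  haveI := hg
  let N0 : DRing.Cx A := (HomologicalComplex.single (ModuleCat.{u} A) (ComplexShape.up ℤ) 0).obj M
  haveI h1 : QuasiIso (N ◁ s) := DRingLT.quasiIso_whiskerLeft_of_kf N hN s
  haveI h2 : QuasiIso (N ◁ g) := DRingLT.quasiIso_whiskerLeft_of_kf N hN g
  haveI h3 : QuasiIso (q ▷ G) := quasiIso_whiskerRight G hGkf q
  have hN0 : DRing.VanishesOutside N0 0 0 := by
    intro j hj
    apply HomologicalComplex.isZero_single_obj_X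
    omega
  have hv := vanishesOutside_tensor N0 G 0 0 c d hN0 hG
  have e0 : (N0 ⊗ G).ExactAt i := exactAt_of_isZero_X _ i (hv i (by omega))
  have e1 : (N ⊗ G).ExactAt i := (exactAt_iff_of_quasiIso (q ▷ G) i).2 e0
  have e2 : (N ⊗ Z).ExactAt i := (exactAt_iff_of_quasiIso (N ◁ s) i).2 e1
  have e3 : (N ⊗ ((res A B).mapHomologicalComplex (ComplexShape.up ℤ)).obj L).ExactAt i :=
    (exactAt_iff_of_quasiIso (N ◁ g) i).1 e2
  exact (exactAt_tensor_res_iff N L i).1 e3

/-- **tor amplitude of `(F ⊗_B L)|_A`** -/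
theorem hasTorAmplitudeIn_res_tensor (F L : DRing.Cx B) (a b c d : ℤ)
    (hF : DRing.VanishesOutside F a b) (hFfl : DRing.TermwiseFlat F)
    (hL : DRing.HasTorAmplitudeIn A c d
      (DRing.toD (((res A B).mapHomologicalComplex (ComplexShape.up ℤ)).obj L))) :
    DRing.HasTorAmplitudeIn A (a + c) (b + d)
      (DRing.toD (((res A B).mapHomologicalComplex (ComplexShape.up ℤ)).obj (F ⊗ L))) := by
  obtain ⟨G, hG, hGfl, ⟨φ⟩⟩ := hL
  have hFkf : KF B F := kf_of_vanishesAbove F b (fun j hj => hF j (Or.inr hj)) hFfl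
  obtain ⟨X', p, hX', -, hp, -⟩ :=
    exists_kf_resolution (((res A B).mapHomologicalComplex (ComplexShape.up ℤ)).obj (F ⊗ L))
  haveI := hp
  have hvan : ∀ (i : ℤ), (i < a + c ∨ b + d < i) → ∀ M : ModuleCat.{u} A,
      IsZero ((TorFun.T (T A) X' i).obj M) := by
    intro i hi M
    obtain ⟨N, q, hN, -, hq, -⟩ := exists_kf_resolution
      ((HomologicalComplex.single (ModuleCat.{u} A) (ComplexShape.up ℤ) 0).obj M)
    haveI := hq
    refine isZero_T_of_exactAt _ X' p hX' M N hN q i ?_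
    rw [exactAt_tensor_res_iff]
    refine exactAt_of_iso (swapIso _ F L).symm i ?_
    exact exactAt_tensor_of_bounded F _ a b c d hF hFkf
      (fun j hj => exactAt_ext_tensor L G c d hG hGfl φ M N hN q j hj) i hi
  have h := hasTorAmplitudeIn_of_isZero_T X' hX' (a + c) (b + d) hvan
  haveI : IsIso (DerivedCategory.Q.map p) :=
    (DerivedCategory.isIso_Q_map_iff_quasiIso _ _).2 inferInstance
  exact hasTorAmplitudeIn_of_iso (asIso (DerivedCategory.Q.map p)) _ _ h

end TwoRings

end Groth.Agent.Lib.TorAmpLT
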