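import Mathlib
import Groth.Prelude
import Groth.Agent.Lib.TorAmpId_lead
import Groth.Agent.Lib.TorAmpLT_helper2
import Groth.Agent.Lib.RelPerfTens_helper3

/-!
# Relative flat amplitude is stalkwise relative tor amplitude, for flat morphisms (helper3)

For `f : X ⟶ S` flat and a cochain complex `F` of `O_X`-modules: `F` is isomorphic in `D(O_X)` to a
complex of `S`-flat modules placed in `[a, b]` iff at every point the complex of stalks has tor
amplitude in `[a, b]` over the local ring of `S`.
-/

set_option autoImplicit false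
set_option linter.all false
set_option maxHeartbeats 1600000
set_option backward.isDefEq.respectTransparency false
set_option backward.isDefEq.respectTransparency.types false
set_option backward.defeqAttrib.useBackward true

universe u
open CategoryTheory CategoryTheory.Limits AlgebraicGeometry Opposite TopologicalSpace
attribute [local instance] HasDerivedCategory.standard

namespace Groth.Agent.Lib.RelFlatAmpH3

open DRing DerSch Groth.Agent.Lib.DMod_helper6 Groth.Agent.Lib.TorAmpCompL
  Groth.Agent.Lib.TorAmpPushL Groth.Agent.Lib.TorAmpIdL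

noncomputable section

variable {X S : Scheme.{u}} (f : X ⟶ S)

/-- a flat module is flat over the base of a flat morphism -/
theorem isFlatOver_of_isFlat [Flat f] {M : X.Modules} (hM : FlatMod.IsFlat M) :
    FlatMod.IsFlatOver f M := by
  intro x
  exact flat_stalkOver f x M hM

/-- relative flat amplitude gives stalkwise relative tor amplitude -/
theorem hasTorAmplitude_of_relFlatAmp (F : CochainComplex X.Modules ℤ) (a b : ℤ)
    (h : DCoh.HasRelFlatAmplitudeIn f a b (DCoh.toD X F)) : HasTorAmplitude f a b F := by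
  obtain ⟨E, hE, hEf, ⟨e⟩⟩ := h
  intro x
  show ∃ E' : Cx (S.presheaf.stalk (f.base x)), VanishesOutside E' a b ∧
    TermwiseFlat E' ∧ Nonempty (toD E' ≅ toD ((stalkCxOver f x).obj F))
  refine ⟨(stalkCxOver f x).obj E, ?_, ?_, ⟨stalkDIso f x e⟩⟩
  · intro j hj
    exact (stalkOver f x).map_isZero (hE j hj)
  · intro j
    exact hEf j x

/-- exactness of the complex of stalks over the base -/
lemma exactAt_stalkCx_of_stalkCxOver (F : CochainComplex X.Modules ℤ) (x : X) (i : ℤ)
    (h : ((stalkCxOver f x).obj F).ExactAt i) : ((stalkCx x).obj F).ExactAt i := by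
  have := (Groth.Agent.Lib.TorAmpLT.exactAt_map_iff
    (ModuleCat.restrictScalars.{u} (f.stalkMap x).hom) ((stalkCx x).obj F) i).1
  exact this h

lemma flatOver_cokernel_of_stalkwise [Flat f] (K : CochainComplex X.Modules ℤ) (b' : ℤ)
    [K.IsStrictlyLE b'] (hK : ∀ i : ℤ, FlatMod.IsFlat (K.X i)) (a b : ℤ)
    (H : ∀ x : X, HasTorAmplitudeIn (S.presheaf.stalk (f.base x)) a b
      (toD ((stalkCxOver f x).obj K))) :
    FlatMod.IsFlatOver f (cokernel (K.d (a - 1) a)) := by
  intro x
  have hb : VanishesAbove ((stalkCxOver f x).obj K) b' := fun i hi =>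
    (stalkOver f x).map_isZero (K.isZero_of_isStrictlyLE b' i hi)
  have hflat : TermwiseFlat ((stalkCxOver f x).obj K) := fun i =>
    flat_stalkOver f x (K.X i) (hK i)
  have hTN : ∀ N : ModuleCat.{u} (S.presheaf.stalk (f.base x)),
      ((TN N).obj ((stalkCxOver f x).obj K)).ExactAt (a - 1) := fun N =>
    exactAt_TN_of_hasTorAmplitudeIn ((stalkCxOver f x).obj K) b' hb hflat a b (H x) N (a - 1)
      (by omega)
  haveI hfl : Module.Flat (S.presheaf.stalk (f.base x))
      (((stalkCxOver f x).obj K).X a ⧸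
        LinearMap.range (((stalkCxOver f x).obj K).d (a - 1) a).hom) :=
    flat_coker_of_TN_exact ((stalkCxOver f x).obj K) (a - 1) a (by omega) (hflat a) hTN
  let e : (stalkOver f x).obj (cokernel (K.d (a - 1) a)) ≅
      ModuleCat.of (S.presheaf.stalk (f.base x))
        (((stalkCxOver f x).obj K).X a ⧸
          LinearMap.range (((stalkCxOver f x).obj K).d (a - 1) a).hom) :=
    PreservesCokernel.iso (stalkOver f x) (K.d (a - 1) a) ≪≫
      ModuleCat.cokernelIsoRangeQuotient ((stalkOver f x).map (K.d (a - 1) a))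
  show Module.Flat (S.presheaf.stalk (f.base x))
    ((stalkOver f x).obj (cokernel (K.d (a - 1) a)))
  exact Module.Flat.of_linearEquiv e.toLinearEquiv

/-- stalkwise relative tor amplitude gives relative flat amplitude, over a flat morphism -/
theorem relFlatAmp_of_hasTorAmplitude [Flat f] (F : CochainComplex X.Modules ℤ) (a b : ℤ)
    (H : HasTorAmplitude f a b F) : DCoh.HasRelFlatAmplitudeIn f a b (DCoh.toD X F) := by
  have hvan : ∀ i : ℤ, (i < a ∨ b < i) → F.ExactAt i := by
    intro i hi
    apply exactAt_of_forall_stalk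
    intro x
    obtain ⟨E, hE, -, ⟨e⟩⟩ := H x
    exact exactAt_stalkCx_of_stalkCxOver f F x i
      (exactAt_of_iso_toD _ E e.symm i (exactAt_of_isZero_X E i (hE i hi)))
  haveI : F.IsLE b := by
    rw [CochainComplex.isLE_iff]
    exact fun i hi => hvan i (Or.inr hi)
  obtain ⟨K, qK, b', hb', hKfl, hqK⟩ :=
    Groth.Agent.Lib.DTorCmp.exists_bounded_flat_resolution F b
  haveI := hb'
  haveI := hqK
  haveI : K.IsLE b := by
    rw [CochainComplex.isLE_iff]
    exact fun i hi =>
      (Groth.Agent.Lib.DTorCmp.exactAt_iff_of_quasiIso qK i).2 (hvan i (Or.inr hi))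
  have hK₁fl := Groth.Agent.Lib.DTorCmp.flat_truncLE K b' hKfl b
  have e₂ : DCoh.toD X (K.truncLE b) ≅ DCoh.toD X F :=
    asIso (DerivedCategory.Q.map (K.ιTruncLE b)) ≪≫ asIso (DerivedCategory.Q.map qK)
  have hC : FlatMod.IsFlatOver f (cokernel ((K.truncLE b).d (a - 1) a)) :=
    flatOver_cokernel_of_stalkwise f (K.truncLE b) b hK₁fl a b
      (fun x => hasTorAmplitudeIn_of_iso (stalkDIso f x e₂).symm a b (H x))
  haveI : (K.truncLE b).IsGE a := by
    rw [CochainComplex.isGE_iff]
    intro i hi
    rw [Groth.Agent.Lib.DTorCmp.exactAt_iff_of_quasiIso (K.ιTruncLE b) i,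
      Groth.Agent.Lib.DTorCmp.exactAt_iff_of_quasiIso qK i]
    exact hvan i (Or.inl hi)
  have hK₂fl : ∀ i : ℤ, FlatMod.IsFlatOver f (((K.truncLE b).truncGE a).X i) :=
    Groth.Agent.Lib.CyclesFlat.truncGE_mem (Fl := fun M : X.Modules => FlatMod.IsFlatOver f M)
      (fun Z hZ => Groth.Agent.Lib.RelPerfTensH3.isFlatOver_of_isZero f hZ)
      (fun e h => Groth.Agent.Lib.RelPerfTensH3.isFlatOver_of_iso f e h)
      (K.truncLE b) (fun i => isFlatOver_of_isFlat f (hK₁fl i)) a hC
  refine ⟨(K.truncLE b).truncGE a, ?_, hK₂fl,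
    ⟨(asIso (DerivedCategory.Q.map ((K.truncLE b).πTruncGE a))).symm ≪≫ e₂⟩⟩
  exact fun i hi => Groth.Agent.Lib.CyclesFlat.truncGE_truncLE_isZero K a b i hi

/-- **relative flat amplitude is stalkwise relative tor amplitude**, for flat morphisms -/
theorem relFlatAmp_iff_hasTorAmplitude [Flat f] (F : CochainComplex X.Modules ℤ) (a b : ℤ) :
    DCoh.HasRelFlatAmplitudeIn f a b (DCoh.toD X F) ↔ HasTorAmplitude f a b F :=
  ⟨hasTorAmplitude_of_relFlatAmp f F a b, relFlatAmp_of_hasTorAmplitude f F a b⟩

end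

end Groth.Agent.Lib.RelFlatAmpH3
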