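import Mathlib
import Groth.Agent.Lib.TorAmpLT_helper2

/-!
# A criterion for tor amplitude of an arbitrary complex; faithfully flat descent (helper2)

* `hasTorAmplitudeIn_iff_exactAt_tensor`: `Q X` has tor amplitude in `[a, b]` iff `N ⊗ X` is exact
  outside `[a, b]` for every K-flat resolution `N → M[0]` of a module.
* `hasTorAmplitudeIn_res_iff_of_faithfullyFlat`: for `R → A → B` with `B` faithfully flat over `A`,
  `P|_R` has tor amplitude in `[a, b]` iff `(B ⊗_A P)|_R` has.
-/

set_option autoImplicit false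
universe u
open CategoryTheory Limits MonoidalCategory

namespace Groth.Agent.Lib.TorAmpLT

attribute [local instance] HasDerivedCategory.standard

open Groth.Agent.Lib.KFlatMod Groth.Agent.Lib.KFlatGen Groth.Agent.Lib.ExtKFlat
  Groth.Agent.Lib.ResKFlat Groth.Agent.Lib.DRingLT Groth.Agent.Lib.TotalMap
  Groth.Agent.Lib.BifSingleL Groth.Agent.Lib.DMod_helper6 Groth.Agent.Lib.NilpTor
  Groth.Agent.ExtendScalarsLib

section Criterion

variable {R : Type u} [CommRing R]

theorem exactAt_tensor_of_hasTorAmplitudeIn (X : DRing.Cx R) (a b : ℤ)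
    (h : DRing.HasTorAmplitudeIn R a b (DRing.toD X)) (M : ModuleCat.{u} R) (N : DRing.Cx R)
    (hN : KF R N)
    (q : N ⟶ (HomologicalComplex.single (ModuleCat.{u} R) (ComplexShape.up ℤ) 0).obj M)
    (hq : QuasiIso q) (i : ℤ) (hi : i < a ∨ b < i) : (N ⊗ X).ExactAt i := by
  obtain ⟨G, hG, hGfl, ⟨φ⟩⟩ := h
  have hGkf : KF R G := kf_of_vanishesAbove G b (fun j hj => hG j (Or.inr hj)) hGfl
  obtain ⟨Z, s, g, hs, hg⟩ := exists_roof φ
  haveI := hs
  haveI := hg
  haveI := hq
  let N0 : DRing.Cx R := (HomologicalComplex.single (ModuleCat.{u} R) (ComplexShape.up ℤ) 0).obj M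
  haveI h1 : QuasiIso (N ◁ s) := DRingLT.quasiIso_whiskerLeft_of_kf N hN s
  haveI h2 : QuasiIso (N ◁ g) := DRingLT.quasiIso_whiskerLeft_of_kf N hN g
  haveI h3 : QuasiIso (q ▷ G) := quasiIso_whiskerRight G hGkf q
  have hN0 : DRing.VanishesOutside N0 0 0 := by
    intro j hj
    apply HomologicalComplex.isZero_single_obj_X
    omega
  have hv := vanishesOutside_tensor N0 G 0 0 a b hN0 hG
  have e0 : (N0 ⊗ G).ExactAt i := exactAt_of_isZero_X _ i (hv i (by omega))
  have e1 : (N ⊗ G).ExactAt i := (exactAt_iff_of_quasiIso (q ▷ G) i).2 e0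
  have e2 : (N ⊗ Z).ExactAt i := (exactAt_iff_of_quasiIso (N ◁ s) i).2 e1
  exact (exactAt_iff_of_quasiIso (N ◁ g) i).1 e2

theorem hasTorAmplitudeIn_of_exactAt_tensor (X : DRing.Cx R) (a b : ℤ)
    (h : ∀ (M : ModuleCat.{u} R) (N : DRing.Cx R) (_ : KF R N)
      (q : N ⟶ (HomologicalComplex.single (ModuleCat.{u} R) (ComplexShape.up ℤ) 0).obj M)
      (_ : QuasiIso q) (i : ℤ), (i < a ∨ b < i) → (N ⊗ X).ExactAt i) :
    DRing.HasTorAmplitudeIn R a b (DRing.toD X) := by
  obtain ⟨X', p, hX', -, hp, -⟩ := exists_kf_resolution X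
  haveI := hp
  have hvan : ∀ (i : ℤ), (i < a ∨ b < i) → ∀ M : ModuleCat.{u} R,
      IsZero ((TorFun.T (T R) X' i).obj M) := by
    intro i hi M
    obtain ⟨N, q, hN, -, hq, -⟩ := exists_kf_resolution
      ((HomologicalComplex.single (ModuleCat.{u} R) (ComplexShape.up ℤ) 0).obj M)
    haveI := hq
    exact isZero_T_of_exactAt X X' p hX' M N hN q i (h M N hN q hq i hi)
  have h' := hasTorAmplitudeIn_of_isZero_T X' hX' a b hvan
  haveI : IsIso (DerivedCategory.Q.map p) :=
    (DerivedCategory.isIso_Q_map_iff_quasiIso _ _).2 inferInstance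
  exact hasTorAmplitudeIn_of_iso (asIso (DerivedCategory.Q.map p)) _ _ h'

end Criterion

section Tower

variable {R A B : Type u} [CommRing R] [CommRing A] [CommRing B] [Algebra R A] [Algebra A B]
  [Algebra R B] [IsScalarTower R A B]

/-- restriction of scalars in two steps, on complexes -/
noncomputable def resCompIso (X : DRing.Cx B) :
    ((res R B).mapHomologicalComplex (ComplexShape.up ℤ)).obj X ≅
      ((res R A).mapHomologicalComplex (ComplexShape.up ℤ)).obj
        (((res A B).mapHomologicalComplex (ComplexShape.up ℤ)).obj X) :=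
  HomologicalComplex.Hom.isoOfComponents
    (fun i => (ModuleCat.restrictScalarsComp'.{u} (algebraMap R A) (algebraMap A B)
      (algebraMap R B) (IsScalarTower.algebraMap_eq R A B)).app (X.X i))
    (fun i j _ => ((ModuleCat.restrictScalarsComp'.{u} (algebraMap R A) (algebraMap A B)
      (algebraMap R B) (IsScalarTower.algebraMap_eq R A B)).hom.naturality (X.d i j)).symm)

end Tower

section FF

variable {A B : Type u} [CommRing A] [CommRing B] [Algebra A B]

/-- `(B ⊗_A M)|_A ≃ B ⊗_A M` -/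
noncomputable def resExtEquiv (M : ModuleCat.{u} A) :
    ((res A B).obj ((ext A B).obj M)) ≃ₗ[A] ((ModuleCat.of A B ⊗ M : ModuleCat.{u} A)) where
  toFun x := extendScalarsEquivTensor (S := B) M x
  invFun y := (extendScalarsEquivTensor (S := B) M).symm y
  map_add' x y := (extendScalarsEquivTensor (S := B) M).map_add x y
  map_smul' a x := by
    change extendScalarsEquivTensor (S := B) M
      ((algebraMap A B a) • (show (ext A B).obj M from x)) = _
    rw [(extendScalarsEquivTensor (S := B) M).map_smul, algebraMap_smul]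
    rfl
  left_inv x := (extendScalarsEquivTensor (S := B) M).left_inv x
  right_inv y := (extendScalarsEquivTensor (S := B) M).right_inv y

noncomputable def resExtIso₀ (M : ModuleCat.{u} A) :
    (res A B).obj ((ext A B).obj M) ≅ (ModuleCat.of A B ⊗ M : ModuleCat.{u} A) :=
  (resExtEquiv M).toModuleIso

lemma resExtIso₀_inv_nat {M M' : ModuleCat.{u} A} (g : M ⟶ M') :
    (ModuleCat.of A B ◁ g) ≫ (resExtIso₀ (B := B) M').inv =
      (resExtIso₀ (B := B) M).inv ≫ (res A B).map ((ext A B).map g) := by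
  apply ModuleCat.MonoidalCategory.tensor_ext
  intro b m
  rfl

/-- `(B ⊗_A P)|_A ≅ B ⊗_A P^•` -/
noncomputable def resExtIso (P : DRing.Cx A) :
    (SP (T A) P).obj (ModuleCat.of A B) ≅
      ((res A B).mapHomologicalComplex (ComplexShape.up ℤ)).obj
        (((ext A B).mapHomologicalComplex (ComplexShape.up ℤ)).obj P) :=
  HomologicalComplex.Hom.isoOfComponents (fun i => (resExtIso₀ (B := B) (P.X i)).symm)
    (fun i j _ => (resExtIso₀_inv_nat (B := B) (P.d i j)).symm)

instance faithful_tensorLeft_of_faithfullyFlat [Module.FaithfullyFlat A B] :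
    ((T A).obj (ModuleCat.of A B)).Faithful where
  map_injective {X Y f g} hfg := by
    have h1 : (tensorLeft (ModuleCat.of A B)).map (f - g) = 0 := by
      rw [Functor.map_sub]
      exact sub_eq_zero.2 hfg
    have h2 : (f - g).hom.lTensor B = 0 := by
      have := congrArg ModuleCat.Hom.hom h1
      exact this
    have h3 : (f - g).hom = 0 := (Module.FaithfullyFlat.zero_iff_lTensor_zero A B _).2 h2
    have h4 : f - g = 0 := ModuleCat.hom_ext h3
    exact sub_eq_zero.1 h4

instance preservesFiniteLimits_T_obj_of_flat [Module.Flat A B] :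
    PreservesFiniteLimits ((T A).obj (ModuleCat.of A B)) :=
  inferInstanceAs (PreservesFiniteLimits (tensorLeft (ModuleCat.of A B)))

/-- `B ⊗_A Y^•` is exact at `i` iff `Y` is, for `B` faithfully flat -/
theorem exactAt_SP_iff [Module.FaithfullyFlat A B] (Y : DRing.Cx A) (i : ℤ) :
    ((SP (T A) Y).obj (ModuleCat.of A B)).ExactAt i ↔ Y.ExactAt i :=
  exactAt_map_iff ((T A).obj (ModuleCat.of A B)) Y i

end FF

section Main

variable {R A B : Type u} [CommRing R] [CommRing A] [CommRing B] [Algebra R A] [Algebra A B]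
  [Algebra R B] [IsScalarTower R A B]

theorem exactAt_tensor_res_ext_iff [Module.FaithfullyFlat A B] (N : DRing.Cx R) (P : DRing.Cx A)
    (i : ℤ) :
    (N ⊗ ((res R B).mapHomologicalComplex (ComplexShape.up ℤ)).obj
      (((ext A B).mapHomologicalComplex (ComplexShape.up ℤ)).obj P) : DRing.Cx R).ExactAt i ↔
    (N ⊗ ((res R A).mapHomologicalComplex (ComplexShape.up ℤ)).obj P : DRing.Cx R).ExactAt i := by
  let W : DRing.Cx A := ((res A B).mapHomologicalComplex (ComplexShape.up ℤ)).obj
    (((ext A B).mapHomologicalComplex (ComplexShape.up ℤ)).obj P)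
  let E' : DRing.Cx A := ((ext R A).mapHomologicalComplex (ComplexShape.up ℤ)).obj N
  let B0 : DRing.Cx A :=
    (HomologicalComplex.single (ModuleCat.{u} A) (ComplexShape.up ℤ) 0).obj (ModuleCat.of A B)
  have iso1 : (N ⊗ ((res R B).mapHomologicalComplex (ComplexShape.up ℤ)).obj
      (((ext A B).mapHomologicalComplex (ComplexShape.up ℤ)).obj P) : DRing.Cx R) ≅
      (N ⊗ ((res R A).mapHomologicalComplex (ComplexShape.up ℤ)).obj W : DRing.Cx R) :=
    whiskerLeftIso N (resCompIso (R := R) (A := A) _)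
  have wIso : W ≅ B0 ⊗ P := (resExtIso (B := B) P).symm ≪≫ (xiIso (T A) P).app (ModuleCat.of A B)
  have iso2 : (E' ⊗ W : DRing.Cx A) ≅ E' ⊗ (B0 ⊗ P) := whiskerLeftIso E' wIso
  have iso3 : (E' ⊗ (B0 ⊗ P) : DRing.Cx A) ≅ B0 ⊗ (E' ⊗ P) := swapIso E' B0 P
  have iso4 : (SP (T A) (E' ⊗ P)).obj (ModuleCat.of A B) ≅ (B0 ⊗ (E' ⊗ P) : DRing.Cx A) :=
    (xiIso (T A) (E' ⊗ P)).app (ModuleCat.of A B)
  constructor
  · intro h
    have h1 := exactAt_of_iso iso1 i h
    have h2 := (exactAt_tensor_res_iff N W i).1 h1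
    have h3 := exactAt_of_iso iso3 i (exactAt_of_iso iso2 i h2)
    have h4 := exactAt_of_iso iso4.symm i h3
    have h5 := (exactAt_SP_iff (B := B) (E' ⊗ P) i).1 h4
    exact (exactAt_tensor_res_iff N P i).2 h5
  · intro h
    have h5 := (exactAt_tensor_res_iff N P i).1 h
    have h4 := (exactAt_SP_iff (B := B) (E' ⊗ P) i).2 h5
    have h3 := exactAt_of_iso iso4 i h4
    have h2 := exactAt_of_iso iso2.symm i (exactAt_of_iso iso3.symm i h3)
    have h1 := (exactAt_tensor_res_iff N W i).2 h2
    exact exactAt_of_iso iso1.symm i h1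

/-- **faithfully flat descent of tor amplitude over a base** -/
theorem hasTorAmplitudeIn_res_iff_of_faithfullyFlat [Module.FaithfullyFlat A B] (P : DRing.Cx A)
    (a b : ℤ) :
    DRing.HasTorAmplitudeIn R a b
      (DRing.toD (((res R A).mapHomologicalComplex (ComplexShape.up ℤ)).obj P)) ↔
    DRing.HasTorAmplitudeIn R a b
      (DRing.toD (((res R B).mapHomologicalComplex (ComplexShape.up ℤ)).obj
        (((ext A B).mapHomologicalComplex (ComplexShape.up ℤ)).obj P))) := by
  constructor
  · intro h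
    refine hasTorAmplitudeIn_of_exactAt_tensor _ a b (fun M N hN q hq i hi => ?_)
    rw [exactAt_tensor_res_ext_iff]
    exact exactAt_tensor_of_hasTorAmplitudeIn _ a b h M N hN q hq i hi
  · intro h
    refine hasTorAmplitudeIn_of_exactAt_tensor _ a b (fun M N hN q hq i hi => ?_)
    rw [← exactAt_tensor_res_ext_iff (B := B)]
    exact exactAt_tensor_of_hasTorAmplitudeIn _ a b h M N hN q hq i hi

end Main

end Groth.Agent.Lib.TorAmpLT
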