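import Mathlib
import Groth.Prelude
import Groth.Agent.Lib.LpullTens_helper3
import Groth.Agent.Lib.TorAmpLT2_helper2
import Groth.Agent.Lib.TorAmpId_lead

/-!
# Flat amplitude descends along a flat surjective morphism (helper3)

* `hasTorAmplitudeIn_of_ext`: for `A → B` faithfully flat, a complex `P` of `A`-modules has tor
  amplitude in `[a, b]` as soon as `B ⊗_A P` has (over `B`).
* `main7244`.
-/

set_option autoImplicit false
set_option linter.all false
set_option maxHeartbeats 1600000
set_option backward.isDefEq.respectTransparency false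
set_option backward.isDefEq.respectTransparency.types false
set_option backward.defeqAttrib.useBackward true

universe u
open CategoryTheory CategoryTheory.Limits AlgebraicGeometry Opposite

attribute [local instance] HasDerivedCategory.standard

namespace Groth.Agent.Lib.FlatAmpDescH3

open Groth.Agent.Lib.ExtKFlat Groth.Agent.Lib.TorAmpLT Groth.Agent.Lib.StalkTensH3
  Groth.Agent.Lib.LpullLocH3 Groth.Agent.Lib.LpullTensH3 Groth.Agent.Lib.TorAmpIdL
  Groth.Agent.Lib.DMod_helper6

noncomputable section

section Ring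

variable {A B : Type u} [CommRing A] [CommRing B] [Algebra A B]

theorem flat_res [Module.Flat A B] (M : ModuleCat.{u} B) (hM : Module.Flat B M) :
    Module.Flat A ((res A B).obj M) := by
  letI : Module A M := Module.compHom M (algebraMap A B)
  haveI : IsScalarTower A B M := IsScalarTower.of_algebraMap_smul (fun r m => rfl)
  exact Module.Flat.trans A B M

/-- restriction of scalars along a flat ring map preserves tor amplitude -/
theorem hasTorAmplitudeIn_res [Module.Flat A B] (N : DRing.Cx B) (a b : ℤ)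
    (h : DRing.HasTorAmplitudeIn B a b (DRing.toD N)) :
    DRing.HasTorAmplitudeIn A a b
      (DRing.toD (((res A B).mapHomologicalComplex (ComplexShape.up ℤ)).obj N)) := by
  obtain ⟨G, hG, hGfl, ⟨φ⟩⟩ := h
  refine ⟨((res A B).mapHomologicalComplex (ComplexShape.up ℤ)).obj G,
    fun i hi => (res A B).map_isZero (hG i hi), fun i => flat_res (G.X i) (hGfl i), ⟨?_⟩⟩
  exact ((res A B).mapDerivedCategoryFactors.app G).symm ≪≫
    (res A B).mapDerivedCategory.mapIso φ ≪≫ (res A B).mapDerivedCategoryFactors.app N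

/-- restriction of scalars along the identity -/
def resIdIso (P : DRing.Cx A) :
    ((res A A).mapHomologicalComplex (ComplexShape.up ℤ)).obj P ≅ P :=
  HomologicalComplex.Hom.isoOfComponents
    (fun i => (ModuleCat.restrictScalarsId' (algebraMap A A) rfl).app (P.X i))
    (fun i j _ => ((ModuleCat.restrictScalarsId' (algebraMap A A) rfl).hom.naturality
      (P.d i j)).symm)

/-- **faithfully flat descent of tor amplitude** -/
theorem hasTorAmplitudeIn_of_ext [Module.FaithfullyFlat A B] (P : DRing.Cx A) (a b : ℤ)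
    (h : DRing.HasTorAmplitudeIn B a b
      (DRing.toD (((ext A B).mapHomologicalComplex (ComplexShape.up ℤ)).obj P))) :
    DRing.HasTorAmplitudeIn A a b (DRing.toD P) := by
  have h1 := hasTorAmplitudeIn_res (A := A) _ a b h
  have h2 := (hasTorAmplitudeIn_res_iff_of_faithfullyFlat (R := A) (A := A) (B := B) P a b).2 h1
  exact hasTorAmplitudeIn_of_iso (DerivedCategory.Q.mapIso (resIdIso P)) a b h2

end Ring

section Scheme

variable {X Y : Scheme.{u}} (f : X ⟶ Y)

theorem hasFlatAmplitudeIn_of_iso {K K' : DCoh.D X} (e : K ≅ K') (a b : ℤ)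
    (h : DCoh.HasFlatAmplitudeIn a b K) : DCoh.HasFlatAmplitudeIn a b K' := by
  obtain ⟨G, hG, hfl, ⟨φ⟩⟩ := h
  exact ⟨G, hG, hfl, ⟨φ ≪≫ e⟩⟩

/-- **flat amplitude descends along a flat surjective morphism** -/
theorem main7244 [Flat f] [Surjective f] [DCoh.HasLpull f] (E : DCoh.D Y) (a b : ℤ)
    (h : DCoh.HasFlatAmplitudeIn a b ((DCoh.Lpull f).obj E)) :
    DCoh.HasFlatAmplitudeIn a b E := by
  obtain ⟨E₀, hE₀, ⟨eE⟩⟩ := exists_kflat_rep E
  have h1 : DCoh.HasFlatAmplitudeIn a b (DCoh.toD X ((pullCx f).obj E₀)) :=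
    hasFlatAmplitudeIn_of_iso ((DCoh.Lpull f).mapIso eE.symm ≪≫ LpullQIso f E₀ hE₀) a b h
  have h2 := stalkwise_of_flatAmp _ a b h1
  have h3 : DCoh.HasFlatAmplitudeIn a b (DCoh.toD Y E₀) := by
    apply flatAmp_of_stalkwise
    intro y
    obtain ⟨x, rfl⟩ := f.surjective y
    have h4 := hasTorAmplitudeIn_stalkCx_of_id _ a b x (h2 x)
    letI : Algebra (Y.presheaf.stalk (f.base x)) (X.presheaf.stalk x) :=
      (f.stalkMap x).hom.toAlgebra
    haveI : Module.FaithfullyFlat (Y.presheaf.stalk (f.base x)) (X.presheaf.stalk x) :=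
      @Module.FaithfullyFlat.of_flat_of_isLocalHom _ _ _ _ _ _ _
        (Flat.stalkMap f x) (f.toLRSHom.prop x)
    have h5 := hasTorAmplitudeIn_of_iso
      (DerivedCategory.Q.mapIso (pullbackStalkCxIso f x E₀)) a b h4
    exact hasTorAmplitudeIn_of_ext _ a b h5
  exact hasFlatAmplitudeIn_of_iso eE a b h3

end Scheme

end

end Groth.Agent.Lib.FlatAmpDescH3
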