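import Mathlib
import Groth.Prelude
import Groth.Agent.Lib.FlatAmpDesc_helper3

/-!
# Relative tor amplitude of `Lf^* G ⊗^L F`: the ring-level core (helper3)

For ring maps `A → B → C`, a K-flat complex `P` of `B`-modules and a complex `N` of `C`-modules:

* `resExtTensorIso P N : ((C ⊗_B P) ⊗_C N)|_B ≅ P ⊗_B N|_B`;
* `hasTorAmplitudeIn_core`: if `N|_B` has tor amplitude in `[a, b]` over `B` and `P|_A` has tor
  amplitude in `[c, d]` over `A`, and `T ≅ (C ⊗_B P) ⊗_C N`, then `T|_A` has tor amplitude in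
  `[a + c, b + d]` over `A`;
* `exactAt_core`: if `N|_B` has tor amplitude in `[a, b]` and `P` is a K-flat resolution of a
  module, then `(C ⊗_B P) ⊗_C N` is exact outside `[a, b]`.
-/

set_option autoImplicit false
set_option linter.all false
set_option maxHeartbeats 1600000
set_option backward.isDefEq.respectTransparency false
set_option backward.isDefEq.respectTransparency.types false
set_option backward.defeqAttrib.useBackward true

universe u
open CategoryTheory CategoryTheory.Limits AlgebraicGeometry Opposite MonoidalCategory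

attribute [local instance] HasDerivedCategory.standard

namespace Groth.Agent.Lib.TorAmpRelH3

open Groth.Agent.Lib.ExtKFlat Groth.Agent.Lib.TorAmpLT Groth.Agent.Lib.ResKFlat
  Groth.Agent.Lib.KFlatMod Groth.Agent.Lib.KFlatGen Groth.Agent.Lib.DRingLT
  Groth.Agent.Lib.TotalMap Groth.Agent.Lib.DMod_helper6

noncomputable section

section TwoRings

variable {B C : Type u} [CommRing B] [CommRing C] [Algebra B C]

/-- `((C ⊗_B P) ⊗_C N)|_B ≅ P ⊗_B N|_B` -/
def resExtTensorIso (P : DRing.Cx B) (N : DRing.Cx C) :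
    ((res B C).mapHomologicalComplex (ComplexShape.up ℤ)).obj
        ((((ext B C).mapHomologicalComplex (ComplexShape.up ℤ)).obj P) ⊗ N : DRing.Cx C) ≅
      (P ⊗ ((res B C).mapHomologicalComplex (ComplexShape.up ℤ)).obj N : DRing.Cx B) :=
  (mapIso (FF' B C) (res B C) (𝟭 (ModuleCat.{u} B)) (res B C)
      (curriedTensor (ModuleCat.{u} B)) P N (cbNatIso' B C) :) ≪≫
    (whiskerRightIso ((Functor.mapHomologicalComplexIdIso (ModuleCat.{u} B)
      (ComplexShape.up ℤ)).app P) _ :)

/-- exactness of `(C ⊗_B P) ⊗_C N` outside `[a, b]` -/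
theorem exactAt_core (P : DRing.Cx B) (hP : KF B P) (N : DRing.Cx C) (a b : ℤ)
    (hN : DRing.HasTorAmplitudeIn B a b
      (DRing.toD (((res B C).mapHomologicalComplex (ComplexShape.up ℤ)).obj N)))
    (M : ModuleCat.{u} B)
    (q : P ⟶ (HomologicalComplex.single (ModuleCat.{u} B) (ComplexShape.up ℤ) 0).obj M)
    (hq : QuasiIso q) (i : ℤ) (hi : i < a ∨ b < i) :
    ((((ext B C).mapHomologicalComplex (ComplexShape.up ℤ)).obj P) ⊗ N : DRing.Cx C).ExactAt i :=
  (exactAt_tensor_res_iff P N i).1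
    (exactAt_tensor_of_hasTorAmplitudeIn _ a b hN M P hP q hq i hi)

end TwoRings

section ThreeRings

variable {A B C : Type u} [CommRing A] [CommRing B] [CommRing C] [Algebra A B] [Algebra B C]

/-- the tor amplitude of `(P ⊗_B N|_B)|_A` -/
theorem hasTorAmplitudeIn_restrictD_tensor (P : DRing.Cx B) (hP : KF B P) (L : DRing.Cx B)
    (a b c d : ℤ) (hL : DRing.HasTorAmplitudeIn B a b (DRing.toD L))
    (hPA : DRing.HasTorAmplitudeIn A c d
      (DRing.toD (((res A B).mapHomologicalComplex (ComplexShape.up ℤ)).obj P))) :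
    DRing.HasTorAmplitudeIn A (a + c) (b + d)
      ((DRing.restrictD (algebraMap A B)).obj (DRing.toD (P ⊗ L : DRing.Cx B))) := by
  obtain ⟨F', hF', hF'fl, ⟨φ⟩⟩ := hL
  obtain ⟨e1⟩ := nonempty_tensor_iso_of_iso P hP φ.symm
  have e2 : (P ⊗ F' : DRing.Cx B) ≅ (F' ⊗ P : DRing.Cx B) := tensorCxSymm (DRingLT.σ B) P F'
  have key := hasTorAmplitudeIn_res_tensor (A := A) F' P a b c d hF' hF'fl hPA
  have e3 : (DRing.restrictD (algebraMap A B)).obj (DRing.toD (P ⊗ L : DRing.Cx B)) ≅
      DRing.toD (((res A B).mapHomologicalComplex (ComplexShape.up ℤ)).obj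
        (F' ⊗ P : DRing.Cx B)) :=
    (DRing.restrictD (algebraMap A B)).mapIso (e1 ≪≫ DerivedCategory.Q.mapIso e2) ≪≫
      (res A B).mapDerivedCategoryFactors.app _
  exact hasTorAmplitudeIn_of_iso e3.symm _ _ key

/-- **the ring-level core** -/
theorem hasTorAmplitudeIn_core (P : DRing.Cx B) (hP : KF B P) (N : DRing.Cx C) (a b c d : ℤ)
    (hN : DRing.HasTorAmplitudeIn B a b
      (DRing.toD (((res B C).mapHomologicalComplex (ComplexShape.up ℤ)).obj N)))
    (hPA : DRing.HasTorAmplitudeIn A c d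
      (DRing.toD (((res A B).mapHomologicalComplex (ComplexShape.up ℤ)).obj P)))
    (T : DRing.Cx C)
    (e : T ≅ ((((ext B C).mapHomologicalComplex (ComplexShape.up ℤ)).obj P) ⊗ N : DRing.Cx C)) :
    DRing.HasTorAmplitudeIn A (a + c) (b + d)
      ((DRing.restrictD (algebraMap A B)).obj
        (DRing.toD (((res B C).mapHomologicalComplex (ComplexShape.up ℤ)).obj T))) := by
  have key := hasTorAmplitudeIn_restrictD_tensor (A := A) P hP _ a b c d hN hPA
  have e1 : ((res B C).mapHomologicalComplex (ComplexShape.up ℤ)).obj T ≅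
      (P ⊗ ((res B C).mapHomologicalComplex (ComplexShape.up ℤ)).obj N : DRing.Cx B) :=
    ((res B C).mapHomologicalComplex (ComplexShape.up ℤ)).mapIso e ≪≫ resExtTensorIso P N
  exact hasTorAmplitudeIn_of_iso
    ((DRing.restrictD (algebraMap A B)).mapIso (DerivedCategory.Q.mapIso e1)).symm _ _ key

end ThreeRings

end

end Groth.Agent.Lib.TorAmpRelH3
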