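import Mathlib
import Groth.Prelude
import Groth.Agent.Lib.TorAmpRel1_helper3
import Groth.Agent.Lib.TorAmpComp_lead
import Groth.Agent.Lib.TorAmpPush_lead

/-!
# Relative tor amplitude of `Lf^* G ⊗^L F` and of `Lf^* G` (helper3)

* `hasTorAmplitudeAt_core`: the stalkwise core.
* `main6240`: `Lf^* G ⊗^L F` has tor amplitude in `[a + c, b + d]` relative to `f ≫ g`.
* `main6188`: `Lf^* G` has tor amplitude in `[c - m, d]` relative to `f ≫ g` if `f` has tor
  dimension `≤ m`.
-/

set_option autoImplicit false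
set_option linter.all false
set_option maxHeartbeats 1600000
set_option backward.isDefEq.respectTransparency false
set_option backward.isDefEq.respectTransparency.types false
set_option backward.defeqAttrib.useBackward true

universe u
open CategoryTheory CategoryTheory.Limits AlgebraicGeometry Opposite MonoidalCategory

attribute [local instance] HasDerivedCategory.standard

namespace Groth.Agent.Lib.TorAmpRelH3

open Groth.Agent.Lib.ExtKFlat Groth.Agent.Lib.TorAmpLT Groth.Agent.Lib.ResKFlat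
  Groth.Agent.Lib.KFlatMod Groth.Agent.Lib.KFlatGen Groth.Agent.Lib.DRingLT
  Groth.Agent.Lib.TotalMap Groth.Agent.Lib.DMod_helper6
  Groth.Agent.Lib.StalkTensH3 Groth.Agent.Lib.LpullLocH3 Groth.Agent.Lib.LpullTensH3
  Groth.Agent.Lib.PullTensIsoH3 Groth.Agent.Lib.TorAmpCompL Groth.Agent.Lib.TorAmpPushL DerSch

noncomputable section

variable {X Y Z : Scheme.{u}} (f : X ⟶ Y) (g : Y ⟶ Z)

/-- **the stalkwise core**: if the complex of stalks of `T` at `x` is `(O_{X,x} ⊗ (G₀)_{f x}) ⊗ N_x`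
with `G₀` K-flat, then the tor amplitudes add up -/
theorem hasTorAmplitudeAt_core (x : X) (G₀ : CochainComplex Y.Modules ℤ) (hG₀ : DCoh.IsKFlat G₀)
    (N : CochainComplex X.Modules ℤ) (a b c d : ℤ)
    (hN : HasTorAmplitudeAt f a b N x) (hG : HasTorAmplitudeAt g c d G₀ (f.base x))
    (T : CochainComplex X.Modules ℤ)
    (e : ((stk x).mapHomologicalComplex (ComplexShape.up ℤ)).obj T ≅
      ((((ModuleCat.extendScalars.{u, u, u} (f.stalkMap x).hom).mapHomologicalComplex
          (ComplexShape.up ℤ)).obj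
          (((stk (f.base x)).mapHomologicalComplex (ComplexShape.up ℤ)).obj G₀)) ⊗
        (((stk x).mapHomologicalComplex (ComplexShape.up ℤ)).obj N) :
        DRing.Cx (X.presheaf.stalk x))) :
    HasTorAmplitudeAt (f ≫ g) (a + c) (b + d) T x := by
  letI := stalkAlgebra f x
  letI := stalkAlgebra g (f.base x)
  have key := hasTorAmplitudeIn_core (A := Z.presheaf.stalk (g.base (f.base x)))
    (B := Y.presheaf.stalk (f.base x)) (C := X.presheaf.stalk x)
    (((stk (f.base x)).mapHomologicalComplex (ComplexShape.up ℤ)).obj G₀)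
    (kf_stalk_of_isKFlat (f.base x) G₀ hG₀)
    (((stk x).mapHomologicalComplex (ComplexShape.up ℤ)).obj N) a b c d hN hG _ e
  exact hasTorAmplitudeIn_of_iso (compIso f g x T) _ _ key

/-- **S6240** -/
theorem main6240 (h : X ⟶ Z) (w : f ≫ g = h) (F : CochainComplex X.Modules ℤ) (a b : ℤ)
    (hF : HasTorAmplitude f a b F) (G : CochainComplex Y.Modules ℤ) (c d : ℤ)
    (hG : HasTorAmplitude g c d G) [DCoh.HasLpull f] [DCoh.HasLTensorCx F] :
    HasTorAmplitudeD h (a + c) (b + d)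
      ((DCoh.LTensorCx F).obj ((DCoh.Lpull f).obj (DCoh.toD Y G))) := by
  subst w
  rintro H ⟨eH⟩ x
  obtain ⟨G₀, q, hG₀, hq⟩ := Groth.Agent.Lib.DTorCmp.exists_kflat_resolution' G
  haveI := hq
  have eG : DCoh.toD Y G₀ ≅ DCoh.toD Y G := asIso (DerivedCategory.Q.map q)
  have e1 : DCoh.toD X H ≅
      DCoh.toD X ((DCoh.tensorCx.obj ((pullCx f).obj G₀)).obj F) :=
    eH ≪≫ (DCoh.LTensorCx F).mapIso ((DCoh.Lpull f).mapIso eG.symm ≪≫ LpullQIso f G₀ hG₀) ≪≫
      ltIsoLeft F _ (isKFlat_pullback f G₀ hG₀)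
  have hG' : HasTorAmplitudeAt g c d G₀ (f.base x) :=
    hasTorAmplitudeIn_of_iso (stalkDIso g (f.base x) eG).symm _ _ (hG (f.base x))
  have key := hasTorAmplitudeAt_core f g x G₀ hG₀ F a b c d (hF x) hG'
    ((DCoh.tensorCx.obj ((pullCx f).obj G₀)).obj F)
    (stalkTotIso x _ F ≪≫ (whiskerRightIso (pullbackStalkCxIso f x G₀) _ :))
  exact hasTorAmplitudeIn_of_iso (stalkDIso (f ≫ g) x e1).symm _ _ key

/-- the complex of stalks of the structure sheaf placed in degree `0` is the unit complex -/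
def stalkUnitCxIso (x : X) :
    ((stk x).mapHomologicalComplex (ComplexShape.up ℤ)).obj (unitCx X) ≅
      (𝟙_ (DRing.Cx (X.presheaf.stalk x))) :=
  (HomologicalComplex.singleMapHomologicalComplex (stk x) (ComplexShape.up ℤ) 0).app
      (Coh.structureModule X) ≪≫
    (HomologicalComplex.single _ (ComplexShape.up ℤ) 0).mapIso
      (CycLenH8.stalkStructureEquiv x).symm.toModuleIso

/-- **S6188** -/
theorem main6188 (h : X ⟶ Z) (w : f ≫ g = h) (m : ℕ) (hf : DerSch.HasTorDimLE f m)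
    [DCoh.HasLpull f] (G : CochainComplex Y.Modules ℤ) (c d : ℤ)
    (hG : HasTorAmplitude g c d G) :
    HasTorAmplitudeD h (c - m) d ((DCoh.Lpull f).obj (DCoh.toD Y G)) := by
  subst w
  rintro H ⟨eH⟩ x
  obtain ⟨G₀, q, hG₀, hq⟩ := Groth.Agent.Lib.DTorCmp.exists_kflat_resolution' G
  haveI := hq
  have eG : DCoh.toD Y G₀ ≅ DCoh.toD Y G := asIso (DerivedCategory.Q.map q)
  have e1 : DCoh.toD X H ≅ DCoh.toD X ((pullCx f).obj G₀) :=
    eH ≪≫ (DCoh.Lpull f).mapIso eG.symm ≪≫ LpullQIso f G₀ hG₀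
  have hG' : HasTorAmplitudeAt g c d G₀ (f.base x) :=
    hasTorAmplitudeIn_of_iso (stalkDIso g (f.base x) eG).symm _ _ (hG (f.base x))
  have key := hasTorAmplitudeAt_core f g x G₀ hG₀ (unitCx X) (-(m : ℤ)) 0 c d (hf x) hG'
    ((pullCx f).obj G₀)
    (pullbackStalkCxIso f x G₀ ≪≫ (ρ_ _).symm ≪≫ (whiskerLeftIso _ (stalkUnitCxIso x).symm :))
  have key2 := hasTorAmplitudeIn_of_iso (stalkDIso (f ≫ g) x e1).symm _ _ key
  have h1 : -(m : ℤ) + c = c - m := by ring
  have h2 : (0 : ℤ) + d = d := by ring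
  rw [h1, h2] at key2
  exact key2

end

end Groth.Agent.Lib.TorAmpRelH3
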