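import Mathlib
import Groth.Prelude
import Groth.Agent.Lib.TorAmpRel2_helper3

/-!
# Relative tor amplitude and restriction to opens; vanishing of `L(f|)^* M ⊗^L F|` (helper3)

* `restrStalkOverIso j f u`: the stalk of a restriction along an open immersion, over the base.
* `hasTorAmplitudeAt_restrict`: relative tor amplitude of a restriction.
* `hasTorAmplitudeAt_of_comp_openImmersion`: an open immersion on the base can be cancelled.
* `hasTorAmplitude_morphismRestrict`.
* `main6241`.
-/

set_option autoImplicit false
set_option linter.all false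
set_option maxHeartbeats 1600000
set_option backward.isDefEq.respectTransparency false
set_option backward.isDefEq.respectTransparency.types false
set_option backward.defeqAttrib.useBackward true

universe u
open CategoryTheory CategoryTheory.Limits AlgebraicGeometry Opposite MonoidalCategory

attribute [local instance] HasDerivedCategory.standard

namespace Groth.Agent.Lib.TorAmpRelH3

open Groth.Agent.Lib.ExtKFlat Groth.Agent.Lib.TorAmpLT Groth.Agent.Lib.ResKFlat
  Groth.Agent.Lib.KFlatMod Groth.Agent.Lib.KFlatGen Groth.Agent.Lib.DRingLT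
  Groth.Agent.Lib.TotalMap Groth.Agent.Lib.DMod_helper6
  Groth.Agent.Lib.StalkTensH3 Groth.Agent.Lib.LpullLocH3 Groth.Agent.Lib.LpullTensH3
  Groth.Agent.Lib.PullTensIsoH3 Groth.Agent.Lib.TorAmpCompL Groth.Agent.Lib.TorAmpPushL DerSch
  Groth.Agent.Lib.FlatAmpDescH3 Groth.Agent.Lib.TorAmpIdL

noncomputable section

/-! ### the unit of extension/restriction of scalars along a bijective ring map -/

section UnitIso

variable {R S : Type u} [CommRing R] [CommRing S] (σ : R →+* S)

lemma isIso_unit_app (hσ : Function.Bijective σ) (M : ModuleCat.{u} R) :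
    IsIso ((ModuleCat.extendRestrictScalarsAdj.{u, u, u} σ).unit.app M) := by
  rw [ConcreteCategory.isIso_iff_bijective]
  letI := σ.toAlgebra
  let e0 : R ≃ₗ[R] S := LinearEquiv.ofBijective (Algebra.linearMap R S) hσ
  let e : M ≃ₗ[R] TensorProduct R S M :=
    (TensorProduct.lid R M).symm ≪≫ₗ TensorProduct.congr e0 (LinearEquiv.refl R M)
  have he : ∀ m : M, (ModuleCat.extendRestrictScalarsAdj.{u, u, u} σ).unit.app M m = e m := by
    intro m
    rw [ModuleCat.extendRestrictScalarsAdj_unit_app_apply]
    change _ = TensorProduct.congr e0 (LinearEquiv.refl R M) ((TensorProduct.lid R M).symm m)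
    rw [TensorProduct.lid_symm_apply, TensorProduct.congr_tmul]
    change _ = TensorProduct.tmul R (σ 1) m
    rw [map_one]
  constructor
  · intro m m' h
    apply e.injective
    rw [← he, ← he]
    exact h
  · intro t
    obtain ⟨m, hm⟩ := e.surjective t
    exact ⟨m, (he m).trans hm⟩

lemma isIso_unit (hσ : Function.Bijective σ) :
    IsIso (ModuleCat.extendRestrictScalarsAdj.{u, u, u} σ).unit := by
  haveI : ∀ M, IsIso ((ModuleCat.extendRestrictScalarsAdj.{u, u, u} σ).unit.app M) :=
    fun M => isIso_unit_app σ hσ M
  exact NatIso.isIso_of_isIso_app _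

/-- restricting twice along mutually inverse ring maps does nothing -/
def resResIso {R' : Type u} [CommRing R'] (σ : R →+* R') (τ : R' →+* R)
    (hστ : ∀ r, σ (τ r) = r) (M : ModuleCat.{u} R') :
    (ModuleCat.restrictScalars τ).obj ((ModuleCat.restrictScalars σ).obj M) ≅ M :=
  isoOfLinearEquiv'
    (N1 := (ModuleCat.restrictScalars τ).obj ((ModuleCat.restrictScalars σ).obj M)) (N2 := M)
    { toFun := fun m => m
      invFun := fun m => m
      map_add' := fun _ _ => rfl
      map_smul' := fun r m => by
        change σ (τ r) • (show M from m) = r • (show M from m)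
        rw [hστ]
      left_inv := fun _ => rfl
      right_inv := fun _ => rfl }

end UnitIso

/-! ### stalks of a restriction along an open immersion -/

section Restrict

variable {U' X Y : Scheme.{u}} (j : U' ⟶ X) [IsOpenImmersion j] (f : X ⟶ Y) (u : U')

lemma stalkMap_comp_hom :
    ((j ≫ f).stalkMap u).hom = (j.stalkMap u).hom.comp (f.stalkMap (j.base u)).hom := by
  ext r
  exact stalkMap_comp_apply j f u r

lemma bijective_stalkMap_openImmersion : Function.Bijective (j.stalkMap u).hom :=
  ConcreteCategory.bijective_of_isIso (j.stalkMap u)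

/-- the stalk of a restriction, over the base: `(M|_U)_u ≅ M_{j u}` over `O_{Y, f (j u)}` -/
def restrStalkOverIso :
    Scheme.Modules.restrictFunctor j ⋙ stalkOver (j ≫ f) u ≅ stalkOver f (j.base u) :=
  haveI := isIso_unit (j.stalkMap u).hom (bijective_stalkMap_openImmersion j u)
  Functor.isoWhiskerRight (Scheme.Modules.restrictFunctorIsoPullback j)
      (stalkFunctor U' u ⋙ ModuleCat.restrictScalars ((j ≫ f).stalkMap u).hom) ≪≫
    (Functor.associator (Scheme.Modules.pullback j) (stalkFunctor U' u)
      (ModuleCat.restrictScalars ((j ≫ f).stalkMap u).hom)).symm ≪≫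
    Functor.isoWhiskerRight (Groth.Agent.Lib.StalkSkyL.pullbackStalkIso j u)
      (ModuleCat.restrictScalars ((j ≫ f).stalkMap u).hom) ≪≫
    Functor.isoWhiskerLeft
      (stalkFunctor X (j.base u) ⋙ ModuleCat.extendScalars.{u, u, u} (j.stalkMap u).hom)
      (ModuleCat.restrictScalarsComp'.{u} (f.stalkMap (j.base u)).hom (j.stalkMap u).hom
        ((j ≫ f).stalkMap u).hom (stalkMap_comp_hom j f u)) ≪≫
    Functor.associator (stalkFunctor X (j.base u))
      (ModuleCat.extendScalars.{u, u, u} (j.stalkMap u).hom)
      (ModuleCat.restrictScalars (j.stalkMap u).hom ⋙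
        ModuleCat.restrictScalars (f.stalkMap (j.base u)).hom) ≪≫
    Functor.isoWhiskerLeft (stalkFunctor X (j.base u))
      ((Functor.associator (ModuleCat.extendScalars.{u, u, u} (j.stalkMap u).hom)
        (ModuleCat.restrictScalars (j.stalkMap u).hom)
        (ModuleCat.restrictScalars (f.stalkMap (j.base u)).hom)).symm ≪≫
      Functor.isoWhiskerRight
        (asIso (ModuleCat.extendRestrictScalarsAdj.{u, u, u} (j.stalkMap u).hom).unit).symm
        (ModuleCat.restrictScalars (f.stalkMap (j.base u)).hom) ≪≫
      Functor.leftUnitor _)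

/-- the complex of stalks of a restriction, over the base -/
def restrStalkCxOverIso (F : CochainComplex X.Modules ℤ) :
    (stalkCxOver (j ≫ f) u).obj
        (((Scheme.Modules.restrictFunctor j).mapHomologicalComplex (ComplexShape.up ℤ)).obj F) ≅
      (stalkCxOver f (j.base u)).obj F :=
  HomologicalComplex.Hom.isoOfComponents (fun i => (restrStalkOverIso j f u).app (F.X i))
    (fun i k _ => ((restrStalkOverIso j f u).hom.naturality (F.d i k)).symm)

theorem hasTorAmplitudeAt_restrict (F : CochainComplex X.Modules ℤ) (a b : ℤ)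
    (h : HasTorAmplitudeAt f a b F (j.base u)) :
    HasTorAmplitudeAt (j ≫ f) a b
      (((Scheme.Modules.restrictFunctor j).mapHomologicalComplex (ComplexShape.up ℤ)).obj F) u :=
  hasTorAmplitudeIn_of_iso (DerivedCategory.Q.mapIso (restrStalkCxOverIso j f u F)).symm a b h

end Restrict

/-! ### cancelling an open immersion on the base -/

section Cancel

variable {X V' Y : Scheme.{u}} (f' : X ⟶ V') (ι : V' ⟶ Y) [IsOpenImmersion ι]

theorem hasTorAmplitudeAt_of_comp_openImmersion (F' : CochainComplex X.Modules ℤ) (a b : ℤ)
    (x : X) (h : HasTorAmplitudeAt (f' ≫ ι) a b F' x) : HasTorAmplitudeAt f' a b F' x := by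
  let σ : Y.presheaf.stalk (ι.base (f'.base x)) →+* V'.presheaf.stalk (f'.base x) :=
    (ι.stalkMap (f'.base x)).hom
  have hσ : Function.Bijective σ := bijective_stalkMap_openImmersion ι (f'.base x)
  let eσ : Y.presheaf.stalk (ι.base (f'.base x)) ≃+* V'.presheaf.stalk (f'.base x) :=
    RingEquiv.ofBijective σ hσ
  let τ : V'.presheaf.stalk (f'.base x) →+* Y.presheaf.stalk (ι.base (f'.base x)) :=
    eσ.symm.toRingHom
  have hστ : ∀ r, σ (τ r) = r := fun r => eσ.apply_symm_apply r
  have hτσ : ∀ r, τ (σ r) = r := fun r => eσ.symm_apply_apply r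
  letI : Algebra (V'.presheaf.stalk (f'.base x)) (Y.presheaf.stalk (ι.base (f'.base x))) :=
    τ.toAlgebra
  haveI : Module.Flat (V'.presheaf.stalk (f'.base x))
      (Y.presheaf.stalk (ι.base (f'.base x))) := by
    let l : Y.presheaf.stalk (ι.base (f'.base x)) ≃ₗ[V'.presheaf.stalk (f'.base x)]
        V'.presheaf.stalk (f'.base x) :=
      { toFun := fun m => σ m
        invFun := fun m => τ m
        map_add' := fun m m' => map_add σ m m'
        map_smul' := fun r m => by
          change σ (τ r * m) = r * σ m
          rw [map_mul, hστ]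
        left_inv := hτσ
        right_inv := hστ }
    exact Module.Flat.of_linearEquiv l
  have h1 : DRing.HasTorAmplitudeIn (Y.presheaf.stalk (ι.base (f'.base x))) a b
      (DRing.toD (((ModuleCat.restrictScalars σ).mapHomologicalComplex (ComplexShape.up ℤ)).obj
        ((stalkCxOver f' x).obj F'))) :=
    hasTorAmplitudeIn_of_iso
      ((compIso f' ι x F').symm ≪≫
        (ModuleCat.restrictScalars.{u} σ).mapDerivedCategoryFactors.app _) a b h
  have h2 := hasTorAmplitudeIn_res (A := V'.presheaf.stalk (f'.base x))
    (B := Y.presheaf.stalk (ι.base (f'.base x))) _ a b h1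
  let e : ((res (V'.presheaf.stalk (f'.base x))
      (Y.presheaf.stalk (ι.base (f'.base x)))).mapHomologicalComplex (ComplexShape.up ℤ)).obj
        (((ModuleCat.restrictScalars σ).mapHomologicalComplex (ComplexShape.up ℤ)).obj
          ((stalkCxOver f' x).obj F')) ≅ (stalkCxOver f' x).obj F' :=
    HomologicalComplex.Hom.isoOfComponents
      (fun i => resResIso σ τ hστ (((stalkCxOver f' x).obj F').X i)) (by
        intro i k _
        apply ModuleCat.hom_ext
        apply LinearMap.ext
        intro m
        rfl)
  exact hasTorAmplitudeIn_of_iso (DerivedCategory.Q.mapIso e) a b h2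

end Cancel

/-! ### restriction of the morphism to an open of the target -/

section MorphismRestrict

variable {X Y : Scheme.{u}} (f : X ⟶ Y)

theorem hasTorAmplitude_morphismRestrict (F : CochainComplex X.Modules ℤ) (a b : ℤ)
    (hF : HasTorAmplitude f a b F) (V : Y.Opens) :
    HasTorAmplitude (f ∣_ V) a b ((DCoh.restrictCx (f ⁻¹ᵁ V)).obj F) := by
  intro x
  have h1 := hasTorAmplitudeAt_restrict (f ⁻¹ᵁ V).ι f x F a b (hF _)
  rw [← morphismRestrict_ι] at h1
  exact hasTorAmplitudeAt_of_comp_openImmersion (f ∣_ V) V.ι _ a b x h1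

end MorphismRestrict

end

end Groth.Agent.Lib.TorAmpRelH3
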