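import Mathlib
import Groth.Prelude
import Groth.Agent.Lib.RelFlatAmp1_helper3
import Groth.Agent.Lib.TorAmpRel3_helper3

/-!
# Locally finite relative tor dimension, stalkwise (helper3)

For flat `f`: `DCoh.LocHasFiniteRelTorDim f (toD F) ↔ DerSch.LocFiniteTorAmplitude f F`.
-/

set_option autoImplicit false
set_option linter.all false
set_option maxHeartbeats 1600000
set_option backward.isDefEq.respectTransparency false
set_option backward.isDefEq.respectTransparency.types false
set_option backward.defeqAttrib.useBackward true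

universe u
open CategoryTheory CategoryTheory.Limits AlgebraicGeometry Opposite TopologicalSpace
attribute [local instance] HasDerivedCategory.standard

namespace Groth.Agent.Lib.RelFlatAmpH3

open DRing DerSch Groth.Agent.Lib.DMod_helper6 Groth.Agent.Lib.TorAmpCompL
  Groth.Agent.Lib.TorAmpPushL Groth.Agent.Lib.TorAmpIdL Groth.Agent.Lib.TorAmpRelH3

noncomputable section

variable {X S : Scheme.{u}} (f : X ⟶ S)

/-- the converse of restriction -/
theorem hasTorAmplitudeAt_of_restrict' {U' : Scheme.{u}} (j : U' ⟶ X) [IsOpenImmersion j]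
    (u : U') (F : CochainComplex X.Modules ℤ) (a b : ℤ)
    (h : HasTorAmplitudeAt (j ≫ f) a b
      (((Scheme.Modules.restrictFunctor j).mapHomologicalComplex (ComplexShape.up ℤ)).obj F) u) :
    HasTorAmplitudeAt f a b F (j.base u) :=
  hasTorAmplitudeIn_of_iso (DerivedCategory.Q.mapIso (restrStalkCxOverIso j f u F)) a b h

/-- stalkwise tor amplitude only depends on the class in the derived category -/
theorem hasTorAmplitudeAt_of_iso {F F' : CochainComplex X.Modules ℤ}
    (e : DCoh.toD X F ≅ DCoh.toD X F') (a b : ℤ) (x : X) (h : HasTorAmplitudeAt f a b F x) :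
    HasTorAmplitudeAt f a b F' x :=
  hasTorAmplitudeIn_of_iso (stalkDIso f x e) a b h

theorem relFlatAmp_restrict_of_stalkwise [Flat f] (F : CochainComplex X.Modules ℤ) (V : X.Opens)
    (a b : ℤ) (H : ∀ v : X, v ∈ V → HasTorAmplitudeAt f a b F v) :
    DCoh.HasRelFlatAmplitudeIn (V.ι ≫ f) a b
      (DerivedCategory.Q.obj ((DCoh.restrictCx V).obj F)) := by
  apply relFlatAmp_of_hasTorAmplitude
  intro v
  exact hasTorAmplitudeAt_restrict V.ι f v F a b (H _ v.2)

theorem stalkwise_of_relFlatAmp_restrict (F : CochainComplex X.Modules ℤ) (V : X.Opens)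
    (a b : ℤ) (h : DCoh.HasRelFlatAmplitudeIn (V.ι ≫ f) a b
      (DerivedCategory.Q.obj ((DCoh.restrictCx V).obj F))) (v : X) (hv : v ∈ V) :
    HasTorAmplitudeAt f a b F v := by
  let v' : ↥V := ⟨v, hv⟩
  have h1 := hasTorAmplitude_of_relFlatAmp (V.ι ≫ f) ((DCoh.restrictCx V).obj F) a b h v'
  exact hasTorAmplitudeAt_of_restrict' f V.ι v' F a b h1

/-- **locally finite relative tor dimension, stalkwise** -/
theorem locHasFiniteRelTorDim_iff [Flat f] (F : CochainComplex X.Modules ℤ) :
    DCoh.LocHasFiniteRelTorDim f (DCoh.toD X F) ↔ DerSch.LocFiniteTorAmplitude f F := by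
  constructor
  · intro h x
    obtain ⟨V, a, b, hxV, hV⟩ := h x
    refine ⟨V, a, b, hxV, fun v hv => ?_⟩
    exact stalkwise_of_relFlatAmp_restrict f F V a b (hV F ⟨Iso.refl _⟩) v hv
  · intro h x
    obtain ⟨V, a, b, hxV, hV⟩ := h x
    refine ⟨V, a, b, hxV, fun F' hF' => ?_⟩
    obtain ⟨e⟩ := hF'
    apply relFlatAmp_restrict_of_stalkwise
    intro v hv
    exact hasTorAmplitudeAt_of_iso f e.symm a b v (hV v hv)

/-- version for an object of the derived category -/
theorem locHasFiniteRelTorDim_iff' [Flat f] (E : DCoh.D X) (F : CochainComplex X.Modules ℤ)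
    (e : DCoh.toD X F ≅ E) :
    DCoh.LocHasFiniteRelTorDim f E ↔ DerSch.LocFiniteTorAmplitude f F := by
  rw [← locHasFiniteRelTorDim_iff]
  constructor
  · intro h x
    obtain ⟨V, a, b, hxV, hV⟩ := h x
    exact ⟨V, a, b, hxV, fun F' hF' => hV F' ⟨hF'.some ≪≫ e⟩⟩
  · intro h x
    obtain ⟨V, a, b, hxV, hV⟩ := h x
    exact ⟨V, a, b, hxV, fun F' hF' => hV F' ⟨hF'.some ≪≫ e.symm⟩⟩

end

end Groth.Agent.Lib.RelFlatAmpH3
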