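import Mathlib
import Groth.Agent.Lib.RDerTri_helper3
import Groth.Agent.Lib.RDPlusSingle_helper9

/-!
# The total right derived functor on a single object (helper3)

`nonempty_homology_RF_single_iso`: `H^n(RF (M[0])) ≅ (R^n F) M` (classical right derived functor).
-/

set_option autoImplicit false
set_option linter.all false
set_option maxHeartbeats 1600000
set_option backward.isDefEq.respectTransparency false
set_option backward.isDefEq.respectTransparency.types false
set_option backward.defeqAttrib.useBackward true

universe w w' v v' u u'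

open CategoryTheory Limits Pretriangulated DerivedCategory

namespace Groth.Agent.Lib.RDerSingleH3

open Groth.Agent.Lib.RDerGE

variable {A : Type u} [Category.{v} A] [Abelian A] [IsGrothendieckAbelian.{v} A]
  [HasDerivedCategory.{w} A]
  {B : Type u'} [Category.{v'} B] [Abelian B] [HasDerivedCategory.{w'} B] (F : A ⥤ B) [F.Additive]
  [(F.mapHomotopyCategory (ComplexShape.up ℤ) ⋙ DerivedCategory.Qh).HasRightDerivedFunctor
    (HomotopyCategory.quasiIso A (ComplexShape.up ℤ))]

/-- `RF (M[0])` is computed by an injective resolution. -/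
theorem nonempty_RF_single_iso {M : A} (I : InjectiveResolution M) :
    Nonempty ((RF F).obj ((DerivedCategory.singleFunctor A 0).obj M) ≅
      Q.obj ((F.mapHomologicalComplex (ComplexShape.up ℤ)).obj I.cochainComplex)) := by
  let e0 : (DerivedCategory.singleFunctor A 0).obj M ≅
      Q.obj ((CochainComplex.singleFunctor A 0).obj M) :=
    (DerivedCategory.singleFunctorIsoCompQ A 0).app M
  let e0' : Q.obj ((CochainComplex.singleFunctor A 0).obj M) ≅ Q.obj I.cochainComplex :=
    asIso (Q.map I.ι')
  exact ⟨(RF F).mapIso (e0 ≪≫ e0') ≪≫ (unitIso F I.cochainComplex).symm⟩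

theorem nonempty_homology_RF_single_iso [HasInjectiveResolutions A] (M : A) (n : ℕ) :
    Nonempty ((homologyFunctor B (n : ℤ)).obj
      ((RF F).obj ((DerivedCategory.singleFunctor A 0).obj M)) ≅ (F.rightDerived n).obj M) := by
  let I : InjectiveResolution M := injectiveResolution M
  obtain ⟨e1⟩ := nonempty_RF_single_iso F I
  let K := (F.mapHomologicalComplex (ComplexShape.up ℤ)).obj I.cochainComplex
  let e2 : (homologyFunctor B (n : ℤ)).obj (Q.obj K) ≅ K.homology (n : ℤ) :=
    (homologyFunctorFactors B (n : ℤ)).app K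
  let L := (F.mapHomologicalComplex (ComplexShape.up ℕ)).obj I.cocomplex
  let e3 : K.homology (n : ℤ) ≅ (L.extend ComplexShape.embeddingUpNat).homology (n : ℤ) :=
    (HomologicalComplex.homologyFunctor B _ (n : ℤ)).mapIso
      (RDPlusSingle.extendMapIso ComplexShape.embeddingUpNat F I.cocomplex)
  let e4 : (L.extend ComplexShape.embeddingUpNat).homology (n : ℤ) ≅ L.homology n :=
    L.extendHomologyIso ComplexShape.embeddingUpNat (j := n) (j' := (n : ℤ)) rfl
  exact ⟨(homologyFunctor B (n : ℤ)).mapIso e1 ≪≫ e2 ≪≫ e3 ≪≫ e4 ≪≫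
    (I.isoRightDerivedObj F n).symm⟩

end Groth.Agent.Lib.RDerSingleH3
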