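import Mathlib
import Groth.Prelude
import Groth.Agent.Lib.RDerSingle_helper3
import Groth.Agent.Lib.RpushPCUnb_helper3
import Groth.Agent.Lib.CohSerre_helper3
import Groth.Agent.Lib.RpushSupp_helper7
import Groth.Agent.Lib.ProperOver_helper9
import Groth.Agent.Lib.CohDev16_helper8
import Groth.Agent.Lib.CohDev9_helper8
import Groth.Agent.Lib.CycLen8_helper8
import Groth.Agent.Lib.BCOpen2_lead

/-!
# `Rf_*` of complexes with coherent cohomology with proper support (helper3)

`S` Noetherian, `f : X ⟶ S` locally of finite type, `E ∈ D(O_X)` bounded below with coherent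
cohomology sheaves whose supports are proper over `S`.  Then `Rf_* E` has coherent cohomology
(`main1107`); if moreover `E` is bounded, `Rf_* E` is bounded (`main1001`).
-/

set_option autoImplicit false
set_option linter.all false
set_option maxHeartbeats 1600000
set_option backward.isDefEq.respectTransparency false
set_option backward.isDefEq.respectTransparency.types false
set_option backward.defeqAttrib.useBackward true

universe u v w

open CategoryTheory CategoryTheory.Limits AlgebraicGeometry Opposite TopologicalSpace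
open CategoryTheory.Pretriangulated

attribute [local instance] HasDerivedCategory.standard

namespace Groth.Agent.Lib.RpushCohDH3

open Groth.Agent.Lib.DCohLocLead DerivedCategory Groth.Agent.Lib.CohSerreH3
  Groth.Agent.Lib.RpushPCUnbH3

noncomputable section

section General

variable {C : Type u} [Category.{v} C] [Abelian C] [HasDerivedCategory.{w} C]

theorem isIso_homology_mor₂ (T : Triangle (DerivedCategory C))
    (hT : T ∈ distTriang (DerivedCategory C)) (i : ℤ)
    (h0 : IsZero ((homologyFunctor C i).obj T.obj₁))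
    (h1 : IsZero ((homologyFunctor C (i + 1)).obj T.obj₁)) :
    IsIso ((homologyFunctor C i).map T.mor₂) := by
  haveI : Mono ((homologyFunctor C i).map T.mor₂) :=
    (HomologySequence.mono_homologyMap_mor₂_iff T hT i).2 (h0.eq_of_src _ _)
  haveI : Epi ((homologyFunctor C i).map T.mor₂) :=
    (HomologySequence.epi_homologyMap_mor₂_iff T hT i (i + 1) rfl).2 (h1.eq_of_tgt _ _)
  exact isIso_of_mono_of_epi _

end General

section Target

variable {S : Scheme.{u}}

/-- coherent cohomology and bounded above -/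
def Nice (K : DCoh.D S) : Prop := DCoh.IsCohD K ∧ ∃ b : ℤ, K.IsLE b

theorem isCohD_of_iso {K K' : DCoh.D S} (e : K ≅ K') (h : DCoh.IsCohD K) : DCoh.IsCohD K' :=
  fun i => isCoh_of_iso ((homologyFunctor S.Modules i).mapIso e) (h i)

theorem Nice.of_iso {K K' : DCoh.D S} (e : K ≅ K') (h : Nice K) : Nice K' := by
  obtain ⟨h1, b, hb⟩ := h
  haveI := hb
  exact ⟨isCohD_of_iso e h1, b, TStructure.t.isLE_of_iso e b⟩

theorem isCohD_shift (K : DCoh.D S) (h : DCoh.IsCohD K) (s : ℤ) : DCoh.IsCohD (K⟦s⟧) :=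
  fun i => isCoh_of_iso (((homologyFunctor S.Modules 0).shiftIso s i (s + i) rfl).app K).symm
    (h (s + i))

theorem Nice.shift {K : DCoh.D S} (h : Nice K) (s : ℤ) : Nice (K⟦s⟧) := by
  obtain ⟨h1, b, hb⟩ := h
  haveI := hb
  exact ⟨isCohD_shift K h1 s, b - s, TStructure.t.isLE_shift K b s (b - s) (by omega)⟩

theorem isCohD_obj₂ [IsLocallyNoetherian S] (T : Triangle (DCoh.D S))
    (hT : T ∈ distTriang (DCoh.D S)) (h1 : DCoh.IsCohD T.obj₁) (h3 : DCoh.IsCohD T.obj₃) :
    DCoh.IsCohD T.obj₂ := by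
  intro i
  exact isCoh_five_term (HomologySequence.δ T (i - 1) i (by omega))
    ((homologyFunctor S.Modules i).map T.mor₁) ((homologyFunctor S.Modules i).map T.mor₂)
    (HomologySequence.δ T i (i + 1) rfl)
    (HomologySequence.δ_comp T hT (i - 1) i (by omega))
    (by rw [← Functor.map_comp, comp_distTriang_mor_zero₁₂ _ hT, Functor.map_zero])
    (HomologySequence.comp_δ T hT i (i + 1) rfl)
    (HomologySequence.exact₁ T hT (i - 1) i (by omega))
    (HomologySequence.exact₂ T hT i)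
    (HomologySequence.exact₃ T hT i (i + 1) rfl)
    (h3 (i - 1)) (h1 i) (h3 i) (h1 (i + 1))

theorem Nice.obj₂ [IsLocallyNoetherian S] (T : Triangle (DCoh.D S))
    (hT : T ∈ distTriang (DCoh.D S)) (h1 : Nice T.obj₁) (h3 : Nice T.obj₃) : Nice T.obj₂ := by
  refine ⟨isCohD_obj₂ T hT h1.1 h3.1, ?_⟩
  obtain ⟨b1, hb1⟩ := h1.2
  obtain ⟨b3, hb3⟩ := h3.2
  haveI := hb1
  haveI := hb3
  exact ⟨max b1 b3, TStructure.t.isLE₂ T hT (max b1 b3)
    (TStructure.t.isLE_of_le _ b1 _ (le_max_left _ _))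
    (TStructure.t.isLE_of_le _ b3 _ (le_max_right _ _))⟩

theorem nice_of_isZero_HD [IsLocallyNoetherian S] (K : DCoh.D S)
    (h : ∀ i : ℤ, IsZero (DCoh.HD K i)) : Nice K :=
  ⟨fun i => CohDevH8.isCoh_of_isZero (h i), 0, (DerivedCategory.isLE_iff K 0).2 (fun i _ => h i)⟩

end Target

section Source

variable {X S : Scheme.{u}} (f : X ⟶ S)

/-- coherent module with support proper over the base -/
def HypM (M : X.Modules) : Prop := Coh.IsCoh M ∧ ClSub.IsProperOver f (CohB1.support M)

/-- coherent cohomology with supports proper over the base -/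
def Hyp (E : DCoh.D X) : Prop := ∀ i : ℤ, HypM f (DCoh.HD E i)

variable {f}

theorem HypM.of_iso {M N : X.Modules} (e : M ≅ N) (h : HypM f M) : HypM f N :=
  ⟨isCoh_of_iso e h.1, by rw [← CohDevH8.support_eq_of_iso e]; exact h.2⟩

variable (f)

theorem hypM_of_isZero [IsLocallyNoetherian X] {M : X.Modules} (h : IsZero M) : HypM f M :=
  ⟨CohDevH8.isCoh_of_isZero h, by
    rw [CycLenH8.support_eq_empty_of_isZero h]; exact ProperOver.isProperOver_empty f⟩

theorem hyp_truncLT [IsLocallyNoetherian X] (E : DCoh.D X) (hE : Hyp f E) (c : ℤ) :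
    Hyp f ((TStructure.t.truncLT c).obj E) := by
  let T := (TStructure.t.triangleLTGE c).obj E
  have hT : T ∈ distTriang _ := TStructure.t.triangleLTGE_distinguished c E
  haveI i1 : T.obj₁.IsLE (c - 1) := by dsimp [T]; infer_instance
  haveI i3 : T.obj₃.IsGE c := by dsimp [T]; infer_instance
  intro i
  show HypM f (DCoh.HD T.obj₁ i)
  by_cases hi : i < c
  · haveI := isIso_homology_mor₁ T hT i
      (DerivedCategory.isZero_of_isGE T.obj₃ c (i - 1) (by omega))
      (DerivedCategory.isZero_of_isGE T.obj₃ c i hi)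
    exact (hE i).of_iso (asIso ((homologyFunctor X.Modules i).map T.mor₁)).symm
  · exact hypM_of_isZero f (DerivedCategory.isZero_of_isLE T.obj₁ (c - 1) i (by omega))

theorem isQCohD_inD (G : X.Modules) (hG : Coh.IsQCoh G) : DCoh.IsQCohD (DCoh.inD X G) := by
  intro i
  by_cases hi : i = 0
  · subst hi
    exact (SheafOfModules.isQuasicoherent X.ringCatSheaf).prop_of_iso
      ((DerivedCategory.singleFunctorCompHomologyFunctorIso X.Modules 0).app G).symm hG
  · rcases lt_or_gt_of_ne hi with h | h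
    · exact Groth.Agent.Lib.FinPushPCH3.isQuasicoherent_of_isZero
        (DerivedCategory.isZero_of_isGE (DCoh.inD X G) 0 i h)
    · exact Groth.Agent.Lib.FinPushPCH3.isQuasicoherent_of_isZero
        (DerivedCategory.isZero_of_isLE (DCoh.inD X G) 0 i h)

variable [DCoh.HasRpush f]

theorem isGE_Rpush (E : DCoh.D X) (n : ℤ) [E.IsGE n] : ((DCoh.Rpush f).obj E).IsGE n := by
  haveI := Groth.Agent.Lib.MVPushL.grothendieck_modules X
  exact Groth.Agent.Lib.RDerGE.isGE (Scheme.Modules.pushforward f) E n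

theorem nonempty_HD_Rpush_inD_iso [HasInjectiveResolutions X.Modules] (M : X.Modules) (n : ℕ) :
    Nonempty (DCoh.HD ((DCoh.Rpush f).obj (DCoh.inD X M)) (n : ℤ) ≅ (Coh.Rpush f n).obj M) := by
  haveI := Groth.Agent.Lib.MVPushL.grothendieck_modules X
  exact Groth.Agent.Lib.RDerSingleH3.nonempty_homology_RF_single_iso
    (Scheme.Modules.pushforward f) M n

theorem nice_Rpush_inD [IsNoetherian S] [LocallyOfFiniteType f] (M : X.Modules)
    (hM : HypM f M) : Nice ((DCoh.Rpush f).obj (DCoh.inD X M)) := by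
  haveI := Groth.Agent.Lib.MVPushL.grothendieck_modules X
  haveI : HasInjectiveResolutions X.Modules := inferInstance
  haveI : ((DCoh.Rpush f).obj (DCoh.inD X M)).IsGE 0 := isGE_Rpush f (DCoh.inD X M) 0
  constructor
  · intro i
    by_cases hi : i < 0
    · exact CohDevH8.isCoh_of_isZero
        (DerivedCategory.isZero_of_isGE ((DCoh.Rpush f).obj (DCoh.inD X M)) 0 i hi)
    · obtain ⟨n, rfl⟩ := Int.eq_ofNat_of_zero_le (not_lt.mp hi)
      obtain ⟨e⟩ := nonempty_HD_Rpush_inD_iso f M n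
      exact isCoh_of_iso e.symm
        (Groth.Agent.Lib.RpushSuppH7.main795 f M hM.1 hM.2 n)
  · haveI : M.IsQuasicoherent := hM.1.1
    obtain ⟨Z, i, hi, hp, G, hGq, hGft, ⟨e⟩⟩ :=
      (ClPushH8.isProperOver_support_iff f M hM.1.2).mp hM.2
    haveI := hi
    haveI := hp
    haveI := hGq
    haveI := Groth.Agent.Lib.MVPushL.grothendieck_modules Z
    haveI : HasInjectiveResolutions Z.Modules := inferInstance
    haveI : DCoh.HasRpush (i ≫ f) := Groth.Agent.Lib.BCOpenL.hasRpush (i ≫ f)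
    obtain ⟨N, hN⟩ := Groth.Agent.Lib.RpushQCL.main0999 (i ≫ f)
    refine ⟨max N 0, (DerivedCategory.isLE_iff _ _).2 (fun j hj => ?_)⟩
    have hj0 : 0 ≤ j := le_trans (le_max_right N 0) hj.le
    obtain ⟨n, rfl⟩ := Int.eq_ofNat_of_zero_le hj0
    obtain ⟨e1⟩ := nonempty_HD_Rpush_inD_iso f M n
    obtain ⟨e2⟩ := Groth.Agent.Lib.RpushSuppH7.nonempty_Rpush_comp_iso i f G n
    obtain ⟨e3⟩ := nonempty_HD_Rpush_inD_iso (i ≫ f) G n
    have hz : IsZero (DCoh.HD ((DCoh.Rpush (i ≫ f)).obj (DCoh.inD Z G)) (n : ℤ)) :=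
      hN (DCoh.inD Z G) (isQCohD_inD G hGq) inferInstance (n : ℤ)
        (le_trans (le_max_left N 0) hj.le)
    exact hz.of_iso (e1 ≪≫ (Coh.Rpush f n).mapIso e.symm ≪≫ e2 ≪≫ e3.symm)

theorem nice_Rpush_single [IsNoetherian S] [LocallyOfFiniteType f] (M : X.Modules)
    (hM : HypM f M) (b : ℤ) :
    Nice ((DCoh.Rpush f).obj ((DerivedCategory.singleFunctor X.Modules b).obj M)) := by
  haveI := Groth.Agent.Lib.MVPushL.grothendieck_modules X
  obtain ⟨e⟩ := Groth.Agent.Lib.RDerTriH3.nonempty_shift_iso (Scheme.Modules.pushforward f)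
    (DCoh.inD X M) (-b)
  have h1 : Nice (((DCoh.Rpush f).obj (DCoh.inD X M))⟦-b⟧) := (nice_Rpush_inD f M hM).shift (-b)
  have h2 : Nice ((DCoh.Rpush f).obj ((DCoh.inD X M)⟦-b⟧)) := h1.of_iso e.symm
  exact h2.of_iso ((DCoh.Rpush f).mapIso
    (((DerivedCategory.singleFunctors X.Modules).shiftIso (-b) b 0 (by omega)).app M))

theorem nice_Rpush_of_isZero [IsLocallyNoetherian S] (E : DCoh.D X) (hE : IsZero E) :
    Nice ((DCoh.Rpush f).obj E) := by
  refine nice_of_isZero_HD _ (fun i => ?_)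
  haveI : E.IsGE (i + 1) := TStructure.t.isGE_of_isZero hE (i + 1)
  haveI := isGE_Rpush f E (i + 1)
  exact DerivedCategory.isZero_of_isGE ((DCoh.Rpush f).obj E) (i + 1) i (by omega)

theorem nice_Rpush_bounded [IsNoetherian S] [LocallyOfFiniteType f] (n : ℕ) :
    ∀ (E : DCoh.D X) (b : ℤ), E.IsLE b → E.IsGE (b + 1 - n) → Hyp f E →
      Nice ((DCoh.Rpush f).obj E) := by
  haveI := Groth.Agent.Lib.MVPushL.grothendieck_modules X
  haveI : IsLocallyNoetherian X := LocallyOfFiniteType.isLocallyNoetherian f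
  induction n with
  | zero =>
    intro E b h1 h2 hE
    haveI := h1
    haveI := h2
    haveI : E.IsGE (b + 1) := TStructure.t.isGE_of_ge E (b + 1) (b + 1 - ((0 : ℕ) : ℤ))
      (by push_cast; omega)
    exact nice_Rpush_of_isZero f E (TStructure.t.isZero E b (b + 1) (by omega))
  | succ n ih =>
    intro E b h1 h2 hE
    haveI := h1
    haveI := h2
    haveI : E.IsGE (b - n) := TStructure.t.isGE_of_ge E (b - n) (b + 1 - ((n + 1 : ℕ) : ℤ))
      (by push_cast; omega)
    let T := (TStructure.t.triangleLTGE b).obj E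
    have hT : T ∈ distTriang _ := TStructure.t.triangleLTGE_distinguished b E
    haveI i1 : T.obj₁.IsLE (b - 1) := by dsimp [T]; infer_instance
    haveI i1' : T.obj₁.IsGE (b - n) := by dsimp [T]; infer_instance
    haveI i3 : T.obj₃.IsGE b := by dsimp [T]; infer_instance
    haveI i3' : T.obj₃.IsLE b := by dsimp [T]; infer_instance
    have hy1 : Hyp f T.obj₁ := hyp_truncLT f E hE b
    have n1 : Nice ((DCoh.Rpush f).obj T.obj₁) :=
      ih T.obj₁ (b - 1) i1 (TStructure.t.isGE_of_ge T.obj₁ (b - 1 + 1 - (n : ℤ)) (b - n) (by omega))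
        hy1
    obtain ⟨A, ⟨eA⟩⟩ := DerivedCategory.exists_iso_singleFunctor_obj_of_isGE_of_isLE T.obj₃ b
    haveI := isIso_homology_mor₂ T hT b
      (DerivedCategory.isZero_of_isLE T.obj₁ (b - 1) b (by omega))
      (DerivedCategory.isZero_of_isLE T.obj₁ (b - 1) (b + 1) (by omega))
    have hA : HypM f A :=
      (hE b).of_iso (asIso ((homologyFunctor X.Modules b).map T.mor₂) ≪≫
        (homologyFunctor X.Modules b).mapIso eA ≪≫
        (DerivedCategory.singleFunctorCompHomologyFunctorIso X.Modules b).app A)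
    have n3 : Nice ((DCoh.Rpush f).obj T.obj₃) :=
      (nice_Rpush_single f A hA b).of_iso ((DCoh.Rpush f).mapIso eA.symm)
    obtain ⟨T', hT', e₁, e₂, e₃, -, -⟩ :=
      Groth.Agent.Lib.RDerTriH3.exists_distTriang (Scheme.Modules.pushforward f) T hT
    exact (Nice.obj₂ T' hT' (n1.of_iso e₁.symm) (n3.of_iso e₃.symm)).of_iso e₂

/-- **S1001** -/
theorem main1001 [IsNoetherian S] [LocallyOfFiniteType f] (E : DCoh.D X) (a b : ℤ)
    [E.IsGE a] [E.IsLE b] (hE : DCoh.IsCohD E)
    (hsupp : ∀ i : ℤ, ClSub.IsProperOver f (CohB1.support (DCoh.HD E i))) :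
    DCoh.IsCohD ((DCoh.Rpush f).obj E) ∧ ((DCoh.Rpush f).obj E).IsGE a ∧
      ∃ b' : ℤ, ((DCoh.Rpush f).obj E).IsLE b' := by
  have h := nice_Rpush_bounded f (b + 1 - a).toNat E b inferInstance
    (TStructure.t.isGE_of_ge E _ a (by omega)) (fun i => ⟨hE i, hsupp i⟩)
  exact ⟨h.1, isGE_Rpush f E a, h.2⟩

/-- **S1107** -/
theorem main1107 [IsNoetherian S] [LocallyOfFiniteType f] (E : DCoh.D X) (a : ℤ)
    [E.IsGE a] (hE : DCoh.IsCohD E)
    (hsupp : ∀ i : ℤ, ClSub.IsProperOver f (CohB1.support (DCoh.HD E i))) :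
    DCoh.IsCohD ((DCoh.Rpush f).obj E) ∧ ((DCoh.Rpush f).obj E).IsGE a := by
  haveI := Groth.Agent.Lib.MVPushL.grothendieck_modules X
  haveI : IsLocallyNoetherian X := LocallyOfFiniteType.isLocallyNoetherian f
  refine ⟨fun i => ?_, isGE_Rpush f E a⟩
  have hy : Hyp f E := fun i => ⟨hE i, hsupp i⟩
  let c : ℤ := i + 2
  let T := (TStructure.t.triangleLTGE c).obj E
  have hT : T ∈ distTriang _ := TStructure.t.triangleLTGE_distinguished c E
  haveI i1 : T.obj₁.IsLE (c - 1) := by dsimp [T]; infer_instance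
  haveI i1' : T.obj₁.IsGE a := by dsimp [T]; infer_instance
  haveI i3 : T.obj₃.IsGE c := by dsimp [T]; infer_instance
  have hy1 : Hyp f T.obj₁ := hyp_truncLT f E hy c
  have n1 : Nice ((DCoh.Rpush f).obj T.obj₁) :=
    nice_Rpush_bounded f (c - 1 + 1 - a).toNat T.obj₁ (c - 1) i1
      (TStructure.t.isGE_of_ge T.obj₁ _ a (by omega)) hy1
  obtain ⟨T', hT', e₁, e₂, e₃, -, -⟩ :=
    Groth.Agent.Lib.RDerTriH3.exists_distTriang (Scheme.Modules.pushforward f) T hT
  haveI : ((DCoh.Rpush f).obj T.obj₃).IsGE c := isGE_Rpush f T.obj₃ c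
  haveI : T'.obj₃.IsGE c := TStructure.t.isGE_of_iso e₃.symm c
  haveI := isIso_homology_mor₁ T' hT' i
    (DerivedCategory.isZero_of_isGE T'.obj₃ c (i - 1) (by omega))
    (DerivedCategory.isZero_of_isGE T'.obj₃ c i (by omega))
  have h1 : Coh.IsCoh (DCoh.HD T'.obj₁ i) :=
    isCoh_of_iso ((homologyFunctor S.Modules i).mapIso e₁.symm) (n1.1 i)
  have h2 : Coh.IsCoh (DCoh.HD T'.obj₂ i) :=
    isCoh_of_iso (asIso ((homologyFunctor S.Modules i).map T'.mor₁)) h1
  exact isCoh_of_iso ((homologyFunctor S.Modules i).mapIso e₂) h2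

end Source

end

end Groth.Agent.Lib.RpushCohDH3
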