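import Mathlib
import Groth.Prelude
import Groth.Agent.Lib.RelPCProp1_helper3
import Groth.Agent.Lib.RpushCohD_helper3
import Groth.Agent.Lib.ProperOver_helper9
import Groth.Agent.Lib.SuppFT_helper9
import Groth.Agent.Lib.BCOpen1_lead

/-!
# Proper direct images of relatively pseudo-coherent objects over a (locally) Noetherian base
(helper3)

* `main6222`, `main6220`.
-/

set_option autoImplicit false
set_option linter.all false
set_option maxHeartbeats 1600000
set_option backward.isDefEq.respectTransparency false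
set_option backward.isDefEq.respectTransparency.types false
set_option backward.defeqAttrib.useBackward true

universe u
open CategoryTheory CategoryTheory.Limits AlgebraicGeometry Opposite TopologicalSpace
open CategoryTheory.Pretriangulated

attribute [local instance] HasDerivedCategory.standard

namespace Groth.Agent.Lib.RelPCPropH3

open Groth.Agent.Lib.DCohLocLead DerivedCategory Groth.Agent.Lib.BCOpenL Groth.Agent.Lib.RelPCaH3
  Groth.Agent.Lib.RelPCbH3

noncomputable section

section Supp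

variable {X Y : Scheme.{u}}

theorem isProperOver_univ (f : X ⟶ Y) [IsProper f] :
    ClSub.IsProperOver f (Set.univ : Set X) := by
  refine ⟨isClosed_univ, ?_⟩
  show IsProper (ProperOver.redι (Set.univ : Set X) isClosed_univ ≫ f)
  infer_instance

theorem isProperOver_support (f : X ⟶ Y) [IsProper f] (M : X.Modules)
    (hM : SheafOfModules.IsFiniteType (R := X.ringCatSheaf) M) :
    ClSub.IsProperOver f (CohB1.support M) := by
  haveI := hM
  exact ProperOver.isProperOver_of_subset f (isProperOver_univ f) (SuppFT.isClosed_support M)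
    (Set.subset_univ _)

end Supp

section Main

variable {X Y S : Scheme.{u}}

/-- **S6222** -/
theorem main6222 [IsNoetherian S]
    (p : X ⟶ S) (q : Y ⟶ S) [LocallyOfFiniteType p] [QuasiCompact p] [LocallyOfFiniteType q]
    [QuasiCompact q] (f : X ⟶ Y) [IsProper f] (w : f ≫ q = p) [DCoh.HasRpush f] (E : DCoh.D X)
    (a b : ℤ) [E.IsGE a] [E.IsLE b] (hE : DerSch.IsPseudoCoherentRelAll p E) :
    (∃ c : ℤ, ((DCoh.Rpush f).obj E).IsLE c) ∧ ((DCoh.Rpush f).obj E).IsGE a ∧
      DerSch.IsPseudoCoherentRelAll q ((DCoh.Rpush f).obj E) := by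
  have hcoh : DCoh.IsCohD E := isCohD_of_relPC p E hE
  haveI : IsLocallyNoetherian Y := LocallyOfFiniteType.isLocallyNoetherian q
  haveI : CompactSpace Y := QuasiCompact.compactSpace_of_compactSpace q
  haveI : IsNoetherian Y := {}
  obtain ⟨h1, h2, c, h3⟩ := Groth.Agent.Lib.RpushCohDH3.main1001 f E a b hcoh
    (fun i => isProperOver_support f _ (hcoh i).2)
  exact ⟨⟨c, h3⟩, h2, relPC_of_coh q _ h1 (fun U => ⟨c, isLE_DD U.1.ι _ c h3⟩)⟩

/-- **S6220** -/
theorem main6220 [IsLocallyNoetherian S]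
    (p : X ⟶ S) (q : Y ⟶ S) [LocallyOfFiniteType p] [LocallyOfFiniteType q] (f : X ⟶ Y)
    [IsProper f] (w : f ≫ q = p) [DCoh.HasRpush f] (E : DCoh.D X) (a : ℤ) [E.IsGE a]
    (hE : DerSch.IsPseudoCoherentRelAll p E) :
    DerSch.IsPseudoCoherentRelAll q ((DCoh.Rpush f).obj E) := by
  have hcoh : DCoh.IsCohD E := isCohD_of_relPC p E hE
  haveI : IsLocallyNoetherian Y := LocallyOfFiniteType.isLocallyNoetherian q
  have key : ∀ V : Y.affineOpens, DCoh.IsCohD ((DD V.1.ι).obj ((DCoh.Rpush f).obj E)) ∧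
      ∃ c : ℤ, ((DD V.1.ι).obj ((DCoh.Rpush f).obj E)).IsLE c := by
    intro V
    haveI : CompactSpace (V.1 : Scheme.{u}) := isCompact_iff_compactSpace.mp V.2.isCompact
    haveI : IsNoetherian (V.1 : Scheme.{u}) := {}
    haveI : IsProper (f ∣_ V.1) :=
      IsZariskiLocalAtTarget.restrict (P := @IsProper) inferInstance V.1
    haveI := hasRpush (f ∣_ V.1)
    obtain ⟨b1⟩ := main6508 f V.1
    let E' : DCoh.D ((f ⁻¹ᵁ V.1 : X.Opens) : Scheme.{u}) := (DD (f ⁻¹ᵁ V.1).ι).obj E
    have e : (DD V.1.ι).obj ((DCoh.Rpush f).obj E) ≅ (DCoh.Rpush (f ∣_ V.1)).obj E' := b1.app E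
    have hW : IsCompact ((f ⁻¹ᵁ V.1 : X.Opens) : Set X) :=
      (inferInstance : QuasiCompact f).1 _ V.1.isOpen V.2.isCompact
    obtain ⟨b, hb⟩ := exists_isLE_restrict_of_relPC p 0 E (hE 0) (f ⁻¹ᵁ V.1) hW
    haveI : E'.IsGE a := isGE_DD _ E a inferInstance
    haveI : E'.IsLE b := hb
    have hcoh' : DCoh.IsCohD E' := isCohD_DD _ E hcoh
    obtain ⟨h1, h2, c, h3⟩ := Groth.Agent.Lib.RpushCohDH3.main1001 (f ∣_ V.1) E' a b hcoh'
      (fun i => isProperOver_support _ _ (hcoh' i).2)
    exact ⟨isCohD_of_iso e.symm h1, c, isLE_of_iso' e.symm c h3⟩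
  refine relPC_of_coh q _ ?_ (fun V => (key V).2)
  apply isCohD_of_forall_point
  intro y
  obtain ⟨V, hV, hyV, -⟩ := Opens.isBasis_iff_nbhd.mp Y.isBasis_affineOpens (Opens.mem_top y)
  exact ⟨V, hyV, (key ⟨V, hV⟩).1⟩

end Main

end

end Groth.Agent.Lib.RelPCPropH3
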