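import Mathlib
import Groth.Agent.Lib.RDerSingle_helper3
import Groth.Agent.Lib.RpushPCUnb_helper3
import Groth.Agent.Lib.RpushCohD_helper3

/-!
# Way-out bound for the total right derived functor on bounded objects (helper3; S7254)

`F : A ⥤ B` additive, `A` Grothendieck abelian, `P` a property of objects of `A` (stable under
isomorphism, satisfied by zero objects) with `R^p F G = 0` for `p ≥ N` and `P G`.  If `E ∈ D(A)` has
cohomology in `P`, concentrated in `[a, b]`, then `RF E` has cohomology in `[a, b + N - 1]`.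
-/

set_option autoImplicit false
set_option linter.all false
set_option maxHeartbeats 1600000
set_option backward.isDefEq.respectTransparency false
set_option backward.isDefEq.respectTransparency.types false
set_option backward.defeqAttrib.useBackward true

universe w w' v v' u u'

open CategoryTheory Limits Pretriangulated DerivedCategory

namespace Groth.Agent.Lib.RDerBoundH3

open Groth.Agent.Lib.RDerGE

variable {A : Type u} [Category.{v} A] [Abelian A] [IsGrothendieckAbelian.{v} A]
  [HasDerivedCategory.{w} A]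
  {B : Type u'} [Category.{v'} B] [Abelian B] [HasDerivedCategory.{w'} B] (F : A ⥤ B) [F.Additive]
  [(F.mapHomotopyCategory (ComplexShape.up ℤ) ⋙ DerivedCategory.Qh).HasRightDerivedFunctor
    (HomotopyCategory.quasiIso A (ComplexShape.up ℤ))]

theorem isLE_RF_of_isZero (E : DerivedCategory A) (hE : IsZero E) (c : ℤ) :
    ((RF F).obj E).IsLE c := by
  rw [isLE_iff]
  intro i _
  haveI : E.IsGE (i + 1) := TStructure.t.isGE_of_isZero hE (i + 1)
  haveI := isGE F E (i + 1)
  exact DerivedCategory.isZero_of_isGE ((RF F).obj E) (i + 1) i (by omega)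

variable [HasInjectiveResolutions A] (P : A → Prop)
  (hiso : ∀ {M M' : A}, (M ≅ M') → P M → P M') (hzero : ∀ M : A, IsZero M → P M) (N : ℕ)
  (hF : ∀ G : A, P G → ∀ p : ℕ, N ≤ p → IsZero ((F.rightDerived p).obj G))

include hF in
theorem isLE_RF_single (G : A) (hG : P G) (b : ℤ) :
    ((RF F).obj ((DerivedCategory.singleFunctor A b).obj G)).IsLE (b + N - 1) := by
  have h0 : ((RF F).obj ((DerivedCategory.singleFunctor A 0).obj G)).IsLE ((N : ℤ) - 1) := by
    rw [isLE_iff]
    intro j hj
    obtain ⟨n, rfl⟩ := Int.eq_ofNat_of_zero_le (show (0 : ℤ) ≤ j by omega)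
    obtain ⟨e⟩ := Groth.Agent.Lib.RDerSingleH3.nonempty_homology_RF_single_iso F G n
    exact (hF G hG n (by omega)).of_iso e
  obtain ⟨e⟩ := Groth.Agent.Lib.RDerTriH3.nonempty_shift_iso F
    ((DerivedCategory.singleFunctor A 0).obj G) (-b)
  haveI := h0
  haveI h1 : (((RF F).obj ((DerivedCategory.singleFunctor A 0).obj G))⟦-b⟧).IsLE (b + N - 1) :=
    TStructure.t.isLE_shift _ ((N : ℤ) - 1) (-b) (b + N - 1) (by omega)
  haveI h2 : ((RF F).obj (((DerivedCategory.singleFunctor A 0).obj G)⟦-b⟧)).IsLE (b + N - 1) :=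
    TStructure.t.isLE_of_iso e.symm (b + N - 1)
  haveI h2' : ((RF F).obj (((DerivedCategory.singleFunctors A).functor 0 ⋙
      shiftFunctor (DerivedCategory A) (-b)).obj G)).IsLE (b + N - 1) := h2
  exact TStructure.t.isLE_of_iso ((RF F).mapIso
    (((DerivedCategory.singleFunctors A).shiftIso (-b) b 0 (by omega)).app G)) (b + N - 1)

include hiso hzero in
theorem prop_truncLT (E : DerivedCategory A) (hE : ∀ i, P ((homologyFunctor A i).obj E)) (c : ℤ)
    (i : ℤ) : P ((homologyFunctor A i).obj ((TStructure.t.truncLT c).obj E)) := by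
  let T := (TStructure.t.triangleLTGE c).obj E
  have hT : T ∈ distTriang _ := TStructure.t.triangleLTGE_distinguished c E
  haveI i1 : T.obj₁.IsLE (c - 1) := by dsimp [T]; infer_instance
  haveI i3 : T.obj₃.IsGE c := by dsimp [T]; infer_instance
  show P ((homologyFunctor A i).obj T.obj₁)
  by_cases hi : i < c
  · haveI := Groth.Agent.Lib.RpushPCUnbH3.isIso_homology_mor₁ T hT i
      (DerivedCategory.isZero_of_isGE T.obj₃ c (i - 1) (by omega))
      (DerivedCategory.isZero_of_isGE T.obj₃ c i hi)
    exact hiso (asIso ((homologyFunctor A i).map T.mor₁)).symm (hE i)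
  · exact hzero _ (DerivedCategory.isZero_of_isLE T.obj₁ (c - 1) i (by omega))

include hiso hzero hF in
theorem isLE_RF_bounded (n : ℕ) :
    ∀ (E : DerivedCategory A) (b : ℤ), E.IsLE b → E.IsGE (b + 1 - n) →
      (∀ i, P ((homologyFunctor A i).obj E)) → ((RF F).obj E).IsLE (b + N - 1) := by
  induction n with
  | zero =>
    intro E b h1 h2 hE
    haveI := h1
    haveI := h2
    haveI : E.IsGE (b + 1) := TStructure.t.isGE_of_ge E (b + 1) (b + 1 - ((0 : ℕ) : ℤ))
      (by push_cast; omega)
    exact isLE_RF_of_isZero F E (TStructure.t.isZero E b (b + 1) (by omega)) _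
  | succ n ih =>
    intro E b h1 h2 hE
    haveI := h1
    haveI := h2
    haveI : E.IsGE (b - n) := TStructure.t.isGE_of_ge E (b - n) (b + 1 - ((n + 1 : ℕ) : ℤ))
      (by push_cast; omega)
    let T := (TStructure.t.triangleLTGE b).obj E
    have hT : T ∈ distTriang _ := TStructure.t.triangleLTGE_distinguished b E
    haveI i1 : T.obj₁.IsLE (b - 1) := by dsimp [T]; infer_instance
    haveI i1' : T.obj₁.IsGE (b - n) := by dsimp [T]; infer_instance
    haveI i3 : T.obj₃.IsGE b := by dsimp [T]; infer_instance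
    haveI i3' : T.obj₃.IsLE b := by dsimp [T]; infer_instance
    have hy1 : ∀ i, P ((homologyFunctor A i).obj T.obj₁) := prop_truncLT P hiso hzero E hE b
    have n1 : ((RF F).obj T.obj₁).IsLE (b - 1 + N - 1) :=
      ih T.obj₁ (b - 1) i1 (TStructure.t.isGE_of_ge T.obj₁ (b - 1 + 1 - (n : ℤ)) (b - n) (by omega))
        hy1
    obtain ⟨G, ⟨eG⟩⟩ := DerivedCategory.exists_iso_singleFunctor_obj_of_isGE_of_isLE T.obj₃ b
    haveI := Groth.Agent.Lib.RpushCohDH3.isIso_homology_mor₂ T hT b
      (DerivedCategory.isZero_of_isLE T.obj₁ (b - 1) b (by omega))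
      (DerivedCategory.isZero_of_isLE T.obj₁ (b - 1) (b + 1) (by omega))
    have hG : P G :=
      hiso (asIso ((homologyFunctor A b).map T.mor₂) ≪≫
        (homologyFunctor A b).mapIso eG ≪≫
        (DerivedCategory.singleFunctorCompHomologyFunctorIso A b).app G) (hE b)
    haveI n3' := isLE_RF_single F P N hF G hG b
    have n3 : ((RF F).obj T.obj₃).IsLE (b + N - 1) :=
      TStructure.t.isLE_of_iso ((RF F).mapIso eG.symm) (b + N - 1)
    obtain ⟨T', hT', e₁, e₂, e₃, -, -⟩ :=
      Groth.Agent.Lib.RDerTriH3.exists_distTriang F T hT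
    haveI := n1
    haveI := n3
    haveI : ((RF F).obj T.obj₁).IsLE (b + N - 1) :=
      TStructure.t.isLE_of_le _ (b - 1 + N - 1) (b + N - 1) (by omega)
    haveI : T'.obj₁.IsLE (b + N - 1) := TStructure.t.isLE_of_iso e₁.symm _
    haveI : T'.obj₃.IsLE (b + N - 1) := TStructure.t.isLE_of_iso e₃.symm _
    haveI : T'.obj₂.IsLE (b + N - 1) := TStructure.t.isLE₂ T' hT' (b + N - 1) inferInstance
      inferInstance
    exact TStructure.t.isLE_of_iso e₂ _

include hiso hzero hF in
/-- **way-out bound** -/
theorem main (E : DerivedCategory A) (hE : ∀ i, P ((homologyFunctor A i).obj E)) (a b : ℤ)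
    (hab : ∀ i : ℤ, i < a ∨ b < i → IsZero ((homologyFunctor A i).obj E))
    (i : ℤ) (hi : i < a ∨ b + N - 1 < i) :
    IsZero ((homologyFunctor B i).obj ((RF F).obj E)) := by
  haveI : E.IsGE a := (isGE_iff E a).2 (fun j hj => hab j (Or.inl hj))
  haveI : E.IsLE b := (isLE_iff E b).2 (fun j hj => hab j (Or.inr hj))
  rcases hi with hi | hi
  · haveI := isGE F E a
    exact DerivedCategory.isZero_of_isGE ((RF F).obj E) a i hi
  · haveI := isLE_RF_bounded F P hiso hzero N hF (b + 1 - a).toNat E b inferInstance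
      (TStructure.t.isGE_of_ge E _ a (by omega)) hE
    exact DerivedCategory.isZero_of_isLE ((RF F).obj E) (b + N - 1) i hi

end Groth.Agent.Lib.RDerBoundH3
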