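import Mathlib
import Groth.Prelude
import Groth.Agent.Lib.DMod60_helper6

/-!
# Base change of `R`-perfect complexes along an arbitrary pushout square of rings (helper3)

Generalises helper6's `isRelPerfect_lBaseChange` (stated for `A' = R' ⊗_R A`) to any
`Algebra.IsPushout R R' A A'`.
-/

set_option autoImplicit false
set_option linter.all false
set_option maxHeartbeats 1600000

universe u
open CategoryTheory CategoryTheory.Limits Pretriangulated DerivedCategory ZeroObject
open scoped TensorProduct ChangeOfRings
attribute [local instance] HasDerivedCategory.standard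

namespace Groth.Agent.Lib.RelPerfBCH3

open DRing CochainComplex Groth.Agent.ExtendScalarsLib Groth.Agent.Lib.DMod_helper6

noncomputable section

variable (R A R' A' : Type u) [CommRing R] [CommRing A] [CommRing R'] [CommRing A']
  [Algebra R A] [Algebra R R'] [Algebra R' A'] [Algebra A A'] [Algebra R A']
  [IsScalarTower R R' A'] [IsScalarTower R A A'] [Algebra.IsPushout R R' A A']

/-- `R' ⊗_R res M = res (A' ⊗_A M)` -/
def pushoutEquiv (M : ModuleCat.{u} A) :
    ((ES R R').obj ((ModuleCat.restrictScalars.{u} (algebraMap R A)).obj M)) ≃ₗ[R']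
      ((ModuleCat.restrictScalars.{u} (algebraMap R' A')).obj ((ES A A').obj M)) := by
  letI : Module A ((ModuleCat.restrictScalars.{u} (algebraMap R A)).obj M) :=
    inferInstanceAs (Module A M)
  haveI : IsScalarTower R A ((ModuleCat.restrictScalars.{u} (algebraMap R A)).obj M) :=
    ⟨fun r a m => by
      show ((r • a) • m : M) = (algebraMap R A r) • ((a • m : M))
      rw [Algebra.smul_def, mul_smul]⟩
  exact (extendScalarsEquivTensor (S := R')
      ((ModuleCat.restrictScalars.{u} (algebraMap R A)).obj M)) ≪≫ₗ
    (Algebra.IsPushout.cancelBaseChange R R' A A'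
      ((ModuleCat.restrictScalars.{u} (algebraMap R A)).obj M)).symm ≪≫ₗ
    (resLinearEquiv (S := R') (T := A') ((ES A A').obj M) _
      (extendScalarsEquivTensor (S := A') M)).symm

lemma pushoutEquiv_one_tmul (M : ModuleCat.{u} A) (m : M) :
    pushoutEquiv R A R' A' M ((1 : R') ⊗ₜ[R, algebraMap R R'] m) =
      ((1 : A') ⊗ₜ[A, algebraMap A A'] m) := by
  letI : Module A ((ModuleCat.restrictScalars.{u} (algebraMap R A)).obj M) :=
    inferInstanceAs (Module A M)
  haveI : IsScalarTower R A ((ModuleCat.restrictScalars.{u} (algebraMap R A)).obj M) :=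
    ⟨fun r a m => by
      show ((r • a) • m : M) = (algebraMap R A r) • ((a • m : M))
      rw [Algebra.smul_def, mul_smul]⟩
  show (resLinearEquiv (S := R') (T := A') ((ES A A').obj M) _
      (extendScalarsEquivTensor (S := A') M)).symm
    ((Algebra.IsPushout.cancelBaseChange R R' A A'
      ((ModuleCat.restrictScalars.{u} (algebraMap R A)).obj M)).symm
      ((extendScalarsEquivTensor (S := R')
        ((ModuleCat.restrictScalars.{u} (algebraMap R A)).obj M))
        ((1 : R') ⊗ₜ[R, algebraMap R R'] m))) = _
  rw [extendScalarsEquivTensor_tmul, Algebra.IsPushout.cancelBaseChange_symm_tmul, map_one]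
  rfl

lemma pushoutEquiv_naturality {M N : ModuleCat.{u} A} (f : M ⟶ N) :
    (pushoutEquiv R A R' A' M).toModuleIso.hom ≫
        (ModuleCat.restrictScalars.{u} (algebraMap R' A')).map ((ES A A').map f) =
      (ES R R').map ((ModuleCat.restrictScalars.{u} (algebraMap R A)).map f) ≫
        (pushoutEquiv R A R' A' N).toModuleIso.hom := by
  refine ModuleCat.ExtendScalars.hom_ext (fun m => ?_)
  show ((ES A A').map f).hom
      (pushoutEquiv R A R' A' M ((1 : R') ⊗ₜ[R, algebraMap R R'] m)) =
    pushoutEquiv R A R' A' N ((1 : R') ⊗ₜ[R, algebraMap R R'] (f.hom m))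
  rw [pushoutEquiv_one_tmul, pushoutEquiv_one_tmul]
  rfl

/-- the complex version of `pushoutEquiv` -/
def pushoutCxIso (E : Cx A) :
    (ESc (algebraMap R R')).obj ((restrictCx (algebraMap R A)).obj E) ≅
      (restrictCx (algebraMap R' A')).obj ((ESc (algebraMap A A')).obj E) :=
  HomologicalComplex.Hom.isoOfComponents (fun i => (pushoutEquiv R A R' A' (E.X i)).toModuleIso)
    (fun i j _ => pushoutEquiv_naturality R A R' A' (E.d i j))

/-- base change of `R`-perfect objects along a pushout square -/
theorem isRelPerfect_lBaseChange_of_isPushout [Module.Flat R A]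
    [HasLBaseChange (algebraMap A A')] (K : Dual.D A)
    (hK : Dual2.IsRelPerfect R A K) :
    Dual2.IsRelPerfect R' A' ((LBaseChange (algebraMap A A')).obj K) := by
  obtain ⟨⟨E, b₁, hEb, hEff, ⟨e⟩⟩, a, b, hamp⟩ := hK
  haveI : E.IsKProjective := isKProjective_of_projective_bounded E b₁ hEb
    (fun j => by haveI := (hEff j).2; infer_instance)
  obtain ⟨eL⟩ := nonempty_lBaseChange_iso_of_isKProjective (algebraMap A A') E
  have e1 : (LBaseChange (algebraMap A A')).obj K ≅
      toD ((ESc (algebraMap A A')).obj E) :=
    (LBaseChange (algebraMap A A')).mapIso e.symm ≪≫ eL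
  constructor
  · refine ⟨(ESc (algebraMap A A')).obj E, b₁, ?_, ?_, ⟨e1.symm⟩⟩
    · exact fun i hi =>
        (ModuleCat.extendScalars.{u, u, u} (algebraMap A A')).map_isZero (hEb i hi)
    · intro i
      exact ⟨finite_ES (A := A) (B := A') (E.X i) (hEff i).1,
        free_ES (A := A) (B := A') (E.X i) (hEff i).2⟩
  · have hamp' : HasTorAmplitudeIn R a b (toD ((restrictCx (algebraMap R A)).obj E)) :=
      hasTorAmplitudeIn_of_iso ((restrictD (algebraMap R A)).mapIso e.symm ≪≫ restrictDIso E)
        a b hamp
    have hb' : VanishesAbove ((restrictCx (algebraMap R A)).obj E) b₁ := fun i hi =>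
      (ModuleCat.restrictScalars.{u} (algebraMap R A)).map_isZero (hEb i hi)
    have hf' : TermwiseFlat ((restrictCx (algebraMap R A)).obj E) := fun i =>
      flat_restrictScalars (E.X i) (by haveI := (hEff i).2; infer_instance)
    have h2 := hasTorAmplitudeIn_ESc (R' := R') _ b₁ hb' hf' a b hamp'
    exact ⟨a, b₁, hasTorAmplitudeIn_of_iso (Q.mapIso (pushoutCxIso R A R' A' E) ≪≫
      (restrictDIso _).symm ≪≫ (restrictD (algebraMap R' A')).mapIso e1.symm) a b₁ h2⟩

end

end Groth.Agent.Lib.RelPerfBCH3
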