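import Mathlib
import Groth.Prelude
import Groth.Agent.Lib.RelPerfBC1_helper3
import Groth.Agent.Lib.DMod79_helper6
import Groth.Agent.Lib.PCDesc_helper2

/-!
# Flat base change and fpqc descent of relative pseudo-coherence: ring level (helper3)

* `nonempty_restrict_lBaseChange_iso`: for a pushout square `P → A`, `P → P'` flat, `A' = A ⊗_P P'`,
  `res_{P'} (M ⊗^L_A A') ≅ (res_P M) ⊗^L_P P'`.
* `isPseudoCoherent_of_family`: descent of `m`-pseudo-coherence of objects along a finite jointly
  surjective flat family, in `LBaseChange` form.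
* `exists_bcChart`: base change of a chart.
-/

set_option autoImplicit false
set_option linter.all false
set_option maxHeartbeats 1600000

universe u
open CategoryTheory CategoryTheory.Limits Pretriangulated DerivedCategory ZeroObject
open scoped TensorProduct ChangeOfRings
attribute [local instance] HasDerivedCategory.standard

namespace Groth.Agent.Lib.RelPCBCH3

open DRing CochainComplex Groth.Agent.ExtendScalarsLib Groth.Agent.Lib.DMod_helper6
  Groth.Agent.Lib.RelPerfBCH3

noncomputable section

section Ring

variable (P A P' A' : Type u) [CommRing P] [CommRing A] [CommRing P'] [CommRing A']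
  [Algebra P A] [Algebra P P'] [Algebra P' A'] [Algebra A A'] [Algebra P A']
  [IsScalarTower P P' A'] [IsScalarTower P A A'] [Algebra.IsPushout P P' A A']
  [Module.Flat P P']

omit [IsScalarTower P P' A'] [IsScalarTower P A A'] [Algebra.IsPushout P P' A A'] in
lemma flat_of_isPushout [IsScalarTower P P' A'] [IsScalarTower P A A']
    (h : Algebra.IsPushout P P' A A') : Module.Flat A A' :=
  Module.Flat.isBaseChange (R := P) (S := A) (M := P') (N := A') (Algebra.IsPushout.symm h).out

/-- **flat base change for restriction of scalars** -/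
theorem nonempty_restrict_lBaseChange_iso [HasLBaseChange (algebraMap A A')]
    [HasLBaseChange (algebraMap P P')] (M : Dual.D A) :
    Nonempty ((restrictD (algebraMap P' A')).obj ((LBaseChange (algebraMap A A')).obj M) ≅
      (LBaseChange (algebraMap P P')).obj ((restrictD (algebraMap P A)).obj M)) := by
  haveI : Module.Flat A A' := flat_of_isPushout P A P' A' inferInstance
  obtain ⟨a1⟩ := nonempty_lBaseChange_iso_bcD (A := A) (B := A')
  obtain ⟨a2⟩ := nonempty_lBaseChange_iso_bcD (A := P) (B := P')
  let E : Cx A := Q.objPreimage M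
  let e : toD E ≅ M := Q.objObjPreimageIso M
  refine ⟨(restrictD (algebraMap P' A')).mapIso
      ((LBaseChange (algebraMap A A')).mapIso e.symm ≪≫ a1.app _ ≪≫ bcDIso E) ≪≫
    restrictDIso _ ≪≫ Q.mapIso (pushoutCxIso P A P' A' E).symm ≪≫
    (bcDIso ((restrictCx (algebraMap P A)).obj E)).symm ≪≫ (a2.app _).symm ≪≫
    (LBaseChange (algebraMap P P')).mapIso ((restrictDIso E).symm ≪≫
      (restrictD (algebraMap P A)).mapIso e)⟩

end Ring

section Family

variable {P : Type u} [CommRing P] {ι : Type u} [Finite ι] (P' : ι → Type u)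
  [∀ j, CommRing (P' j)] [∀ j, Algebra P (P' j)] [∀ j, Module.Flat P (P' j)]

/-- descent of `m`-pseudo-coherence along a finite jointly surjective flat family -/
theorem isPseudoCoherent_of_family
    (hsurj : ∀ p : PrimeSpectrum P, ∃ j, ∃ q : PrimeSpectrum (P' j),
      PrimeSpectrum.comap (algebraMap P (P' j)) q = p)
    [∀ j, HasLBaseChange (algebraMap P (P' j))] (N : Dual.D P) (m : ℤ)
    (h : ∀ j, IsPseudoCoherent (P' j) m ((LBaseChange (algebraMap P (P' j))).obj N)) :
    IsPseudoCoherent P m N := by
  let K : Cx P := Q.objPreimage N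
  let e : toD K ≅ N := Q.objObjPreimageIso N
  refine (isPseudoCoherent_iff_of_iso e m).1
    (isPseudoCoherent_descent (Groth.Agent.Lib.PCHom.family_descendsExact P' hsurj)
      (Groth.Agent.Lib.PCHom.family_descendsFinite P' hsurj) K m (fun j => ?_))
  obtain ⟨a⟩ := nonempty_lBaseChange_iso_bcD (A := P) (B := P' j)
  exact (isPseudoCoherent_iff_of_iso
    ((bcDIso K).symm ≪≫ (a.app _).symm ≪≫
      (LBaseChange (algebraMap P (P' j))).mapIso e) m).2 (h j)

end Family

end

end Groth.Agent.Lib.RelPCBCH3
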