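import Mathlib
import Groth.Prelude
import Groth.Agent.Lib.RelPCBC1_helper3

/-!
# Base change of a chart (helper3)

* `exists_bcChart_alg`, `exists_bcChart`: for a pushout square of rings `R → A`, `R → R'` flat,
  `A' = A ⊗_R R'`, and a chart `φ : R[x] ↠ A`, the base-changed chart `φ' : R'[x] ↠ A'` and the
  flat base change isomorphism `res_{φ'} (M ⊗^L_A A') ≅ (res_φ M) ⊗^L_{R[x]} R'[x]`.
-/

set_option autoImplicit false
set_option linter.all false
set_option maxHeartbeats 1600000

universe u
open CategoryTheory CategoryTheory.Limits Pretriangulated DerivedCategory ZeroObject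
open scoped TensorProduct ChangeOfRings
attribute [local instance] HasDerivedCategory.standard

namespace Groth.Agent.Lib.RelPCBCH3

open DRing CochainComplex Groth.Agent.ExtendScalarsLib Groth.Agent.Lib.DMod_helper6
  Groth.Agent.Lib.RelPerfBCH3

noncomputable section

section BCPres

attribute [local instance] MvPolynomial.algebraMvPolynomial

variable {A A' B B' : Type u} [CommRing A] [CommRing A'] [CommRing B] [CommRing B']
  [Algebra A A'] [Algebra A B] [Algebra A' B'] [Algebra B B'] [Algebra A B']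
  [IsScalarTower A A' B'] [IsScalarTower A B B']

theorem exists_bcChart_alg [hpo : Algebra.IsPushout A B A' B'] [Module.Flat A A'] {n : ℕ}
    (φ : MvPolynomial (Fin n) A →ₐ[A] B) (hφ : Function.Surjective φ)
    [HasLBaseChange (algebraMap B B')]
    [HasLBaseChange (algebraMap (MvPolynomial (Fin n) A) (MvPolynomial (Fin n) A'))] :
    ∃ φ' : MvPolynomial (Fin n) A' →ₐ[A'] B', Function.Surjective φ' ∧
      Module.Flat (MvPolynomial (Fin n) A) (MvPolynomial (Fin n) A') ∧
      ∀ M : Dual.D B, Nonempty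
        ((restrictD φ'.toRingHom).obj ((LBaseChange (algebraMap B B')).obj M) ≅
          (LBaseChange (algebraMap (MvPolynomial (Fin n) A) (MvPolynomial (Fin n) A'))).obj
            ((restrictD φ.toRingHom).obj M)) := by
  let φ' : MvPolynomial (Fin n) A' →ₐ[A'] B' :=
    MvPolynomial.aeval (fun i => algebraMap B B' (φ (MvPolynomial.X i)))
  have hkey : ∀ p : MvPolynomial (Fin n) A,
      φ' (MvPolynomial.map (algebraMap A A') p) = algebraMap B B' (φ p) := by
    have : (φ'.toRingHom).comp (MvPolynomial.map (algebraMap A A')) =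
        (algebraMap B B').comp φ.toRingHom := by
      apply MvPolynomial.ringHom_ext
      · intro a
        show φ' (MvPolynomial.map (algebraMap A A') (MvPolynomial.C a)) =
          algebraMap B B' (φ (MvPolynomial.C a))
        rw [MvPolynomial.map_C, MvPolynomial.aeval_C, ← MvPolynomial.algebraMap_eq, φ.commutes,
          ← IsScalarTower.algebraMap_apply, ← IsScalarTower.algebraMap_apply]
      · intro i
        show φ' (MvPolynomial.map (algebraMap A A') (MvPolynomial.X i)) =
          algebraMap B B' (φ (MvPolynomial.X i))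
        rw [MvPolynomial.map_X, MvPolynomial.aeval_X]
    exact fun p => DFunLike.congr_fun this p
  have hφ' : Function.Surjective φ' := by
    intro y
    refine hpo.out.inductionOn y (fun y => ∃ q, φ' q = y) ⟨0, map_zero _⟩ ?_ ?_ ?_
    · intro a'
      exact ⟨MvPolynomial.C a', by
        rw [MvPolynomial.aeval_C]
        rfl⟩
    · rintro b y ⟨q, rfl⟩
      obtain ⟨p, rfl⟩ := hφ b
      refine ⟨MvPolynomial.map (algebraMap A A') p * q, ?_⟩
      rw [map_mul, Algebra.smul_def, hkey]
    · rintro y z ⟨p, rfl⟩ ⟨q, rfl⟩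
      exact ⟨p + q, map_add _ _ _⟩
  haveI hflat : Module.Flat (MvPolynomial (Fin n) A) (MvPolynomial (Fin n) A') :=
    Module.Flat.isBaseChange (R := A) (S := MvPolynomial (Fin n) A) (M := A')
      (N := MvPolynomial (Fin n) A')
      (inferInstance : Algebra.IsPushout A (MvPolynomial (Fin n) A) A'
        (MvPolynomial (Fin n) A')).out
  refine ⟨φ', hφ', hflat, ?_⟩
  letI algPB : Algebra (MvPolynomial (Fin n) A) B := φ.toRingHom.toAlgebra
  letI algP'B' : Algebra (MvPolynomial (Fin n) A') B' := φ'.toRingHom.toAlgebra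
  letI algPB' : Algebra (MvPolynomial (Fin n) A) B' :=
    ((algebraMap B B').comp φ.toRingHom).toAlgebra
  haveI t1 : IsScalarTower A (MvPolynomial (Fin n) A) B :=
    IsScalarTower.of_algebraMap_eq (fun a => (φ.commutes a).symm)
  haveI t2 : IsScalarTower (MvPolynomial (Fin n) A) B B' :=
    IsScalarTower.of_algebraMap_eq (fun _ => rfl)
  haveI t3 : IsScalarTower (MvPolynomial (Fin n) A) (MvPolynomial (Fin n) A') B' :=
    IsScalarTower.of_algebraMap_eq (fun p => (hkey p).symm)
  haveI t4 : IsScalarTower A' (MvPolynomial (Fin n) A') B' :=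
    IsScalarTower.of_algebraMap_eq (fun a => (φ'.commutes a).symm)
  haveI t5 : IsScalarTower A (MvPolynomial (Fin n) A') B' :=
    IsScalarTower.of_algebraMap_eq (fun a => by
      show algebraMap A B' a = φ' (algebraMap A (MvPolynomial (Fin n) A') a)
      rw [MvPolynomial.algebraMap_apply, MvPolynomial.aeval_C,
        ← IsScalarTower.algebraMap_apply])
  have hpo1 : Algebra.IsPushout (MvPolynomial (Fin n) A) B (MvPolynomial (Fin n) A') B' :=
    (Algebra.IsPushout.comp_iff A (MvPolynomial (Fin n) A) A' (S' := MvPolynomial (Fin n) A')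
      (T := B) (T' := B')).1 hpo
  haveI hpo2 : Algebra.IsPushout (MvPolynomial (Fin n) A) (MvPolynomial (Fin n) A') B B' :=
    hpo1.symm
  intro M
  exact nonempty_restrict_lBaseChange_iso (MvPolynomial (Fin n) A) B (MvPolynomial (Fin n) A') B' M

end BCPres

section Hom

variable {R A R' A' : Type u} [CommRing R] [CommRing A] [CommRing R'] [CommRing A']

/-- **base change of a chart**, ring hom form -/
theorem exists_bcChart (α : R →+* A) (γ : R →+* R') (β : A →+* A') (δ : R' →+* A')
    (hpo : IsPushout (CommRingCat.ofHom α) (CommRingCat.ofHom γ) (CommRingCat.ofHom β)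
      (CommRingCat.ofHom δ))
    (hγ : γ.Flat) {n : ℕ} (φ : MvPolynomial (Fin n) R →+* A) (hφ : Function.Surjective φ)
    (hφC : φ.comp MvPolynomial.C = α) [HasLBaseChange β]
    [HasLBaseChange (MvPolynomial.map γ : MvPolynomial (Fin n) R →+* MvPolynomial (Fin n) R')] :
    ∃ φ' : MvPolynomial (Fin n) R' →+* A', Function.Surjective φ' ∧
      φ'.comp MvPolynomial.C = δ ∧
      (MvPolynomial.map γ : MvPolynomial (Fin n) R →+* MvPolynomial (Fin n) R').Flat ∧
      ∀ M : Dual.D A, Nonempty
        ((restrictD φ').obj ((LBaseChange β).obj M) ≅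
          (LBaseChange (MvPolynomial.map γ :
            MvPolynomial (Fin n) R →+* MvPolynomial (Fin n) R')).obj ((restrictD φ).obj M)) := by
  letI : Algebra R A := α.toAlgebra
  letI : Algebra R R' := γ.toAlgebra
  letI : Algebra A A' := β.toAlgebra
  letI : Algebra R' A' := δ.toAlgebra
  letI : Algebra R A' := (β.comp α).toAlgebra
  haveI : IsScalarTower R A A' := IsScalarTower.of_algebraMap_eq (fun _ => rfl)
  have hw : δ.comp γ = β.comp α := by
    have := hpo.w
    rw [← CommRingCat.ofHom_comp, ← CommRingCat.ofHom_comp] at this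
    exact (congrArg CommRingCat.Hom.hom this).symm
  haveI : IsScalarTower R R' A' :=
    IsScalarTower.of_algebraMap_eq (fun a => (DFunLike.congr_fun hw a).symm)
  haveI : Module.Flat R R' := hγ
  haveI : Algebra.IsPushout R A R' A' := CommRingCat.isPushout_iff_isPushout.1 hpo
  let φa : MvPolynomial (Fin n) R →ₐ[R] A :=
    { φ with commutes' := fun r => DFunLike.congr_fun hφC r }
  letI := MvPolynomial.algebraMvPolynomial (σ := Fin n) (R := R) (S := R')
  haveI h1 : HasLBaseChange (algebraMap A A') := ‹HasLBaseChange β›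
  haveI h2 : HasLBaseChange
      (algebraMap (MvPolynomial (Fin n) R) (MvPolynomial (Fin n) R')) :=
    ‹HasLBaseChange (MvPolynomial.map γ : MvPolynomial (Fin n) R →+* MvPolynomial (Fin n) R')›
  obtain ⟨φ', hφ', hfl, hM⟩ := exists_bcChart_alg (A := R) (A' := R') (B := A) (B' := A') φa hφ
  refine ⟨φ'.toRingHom, hφ', ?_, hfl, hM⟩
  ext r
  exact φ'.commutes r

end Hom

section FamilyHom

variable {P : Type u} [CommRing P] {ι : Type u} [Finite ι] (P' : ι → Type u)
  [∀ j, CommRing (P' j)]

/-- descent of `m`-pseudo-coherence along a finite jointly surjective flat family, ring hom form -/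
theorem isPseudoCoherent_of_family_hom (θ : ∀ j, P →+* P' j) (hθ : ∀ j, (θ j).Flat)
    (hsurj : ∀ p : PrimeSpectrum P, ∃ j, ∃ q : PrimeSpectrum (P' j),
      PrimeSpectrum.comap (θ j) q = p)
    [∀ j, HasLBaseChange (θ j)] (N : Dual.D P) (m : ℤ)
    (h : ∀ j, IsPseudoCoherent (P' j) m ((LBaseChange (θ j)).obj N)) :
    IsPseudoCoherent P m N := by
  letI : ∀ j, Algebra P (P' j) := fun j => (θ j).toAlgebra
  haveI : ∀ j, Module.Flat P (P' j) := hθ
  haveI : ∀ j, HasLBaseChange (algebraMap P (P' j)) := fun j => ‹∀ j, HasLBaseChange (θ j)› j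
  exact isPseudoCoherent_of_family P' hsurj N m h

end FamilyHom

section SurjPoly

attribute [local instance] MvPolynomial.algebraMvPolynomial

variable {A : Type u} [CommRing A] {ι : Type u} [Finite ι] (A' : ι → Type u)
  [∀ j, CommRing (A' j)] [∀ j, Algebra A (A' j)] [∀ j, Module.Flat A (A' j)]

theorem hsurj_mvPolynomial
    (hsurj : ∀ p : PrimeSpectrum A, ∃ j, ∃ q : PrimeSpectrum (A' j),
      PrimeSpectrum.comap (algebraMap A (A' j)) q = p) (n : ℕ) :
    ∀ p : PrimeSpectrum (MvPolynomial (Fin n) A), ∃ j,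
      ∃ q : PrimeSpectrum (MvPolynomial (Fin n) (A' j)),
        PrimeSpectrum.comap (algebraMap (MvPolynomial (Fin n) A)
          (MvPolynomial (Fin n) (A' j))) q = p := by
  intro p
  obtain ⟨j, q, hq⟩ := Groth.Agent.Lib.LCIDesc.exists_prime_tensor_family A' hsurj
    (MvPolynomial (Fin n) A) p
  let θ := Algebra.IsPushout.equiv A (MvPolynomial (Fin n) A) (A' j)
    (MvPolynomial (Fin n) (A' j))
  refine ⟨j, PrimeSpectrum.comap ((θ.symm : _ ≃ₐ[MvPolynomial (Fin n) A] _) : _ →+* _) q, ?_⟩
  rw [← hq]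
  apply PrimeSpectrum.ext
  ext x
  show θ.symm (algebraMap (MvPolynomial (Fin n) A) (MvPolynomial (Fin n) (A' j)) x) ∈
      q.asIdeal ↔
    algebraMap (MvPolynomial (Fin n) A) (MvPolynomial (Fin n) A ⊗[A] A' j) x ∈ q.asIdeal
  rw [θ.symm.commutes]

end SurjPoly

section SurjPolyHom

variable {R : Type u} [CommRing R] {ι : Type u} [Finite ι] (R' : ι → Type u)
  [∀ j, CommRing (R' j)]

theorem hsurj_map (γ : ∀ j, R →+* R' j) (hγ : ∀ j, (γ j).Flat)
    (hsurj : ∀ p : PrimeSpectrum R, ∃ j, ∃ q : PrimeSpectrum (R' j),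
      PrimeSpectrum.comap (γ j) q = p) (n : ℕ) :
    ∀ p : PrimeSpectrum (MvPolynomial (Fin n) R), ∃ j,
      ∃ q : PrimeSpectrum (MvPolynomial (Fin n) (R' j)),
        PrimeSpectrum.comap (MvPolynomial.map (γ j) :
          MvPolynomial (Fin n) R →+* MvPolynomial (Fin n) (R' j)) q = p := by
  letI : ∀ j, Algebra R (R' j) := fun j => (γ j).toAlgebra
  haveI : ∀ j, Module.Flat R (R' j) := hγ
  exact hsurj_mvPolynomial R' hsurj n

end SurjPolyHom

end

end Groth.Agent.Lib.RelPCBCH3
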