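import Mathlib
import Groth.Agent.Lib.TorAmpLT2_helper2

/-!
# Tor amplitude after restriction of scalars is local on the source (helper2)

For a ring map `A → B` and a complex `K` of `B`-modules: if for every maximal ideal `m` of `B`,
with `p` its inverse image in `A`, the complex `K_m` has tor amplitude in `[a, b]` over `A_p`, then
`K` has tor amplitude in `[a, b]` over `A`.
-/

set_option autoImplicit false
universe u
open CategoryTheory Limits MonoidalCategory

namespace Groth.Agent.Lib.TorAmpLT

attribute [local instance] HasDerivedCategory.standard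

open Groth.Agent.Lib.KFlatMod Groth.Agent.Lib.KFlatGen Groth.Agent.Lib.ExtKFlat
  Groth.Agent.Lib.ResKFlat Groth.Agent.Lib.DRingLT Groth.Agent.Lib.TotalMap
  Groth.Agent.Lib.BifSingleL Groth.Agent.Lib.DMod_helper6 Groth.Agent.Lib.NilpTor
  Groth.Agent.ExtendScalarsLib

section LocalGlobal

variable {B : Type u} [CommRing B]

/-- exactness of a complex of modules can be checked after localizing at all maximal ideals -/
theorem exactAt_of_forall_maximal (Y : DRing.Cx B) (i : ℤ)
    (h : ∀ (m : Ideal B) [m.IsMaximal],
      ((SP (T B) Y).obj (ModuleCat.of B (Localization.AtPrime m))).ExactAt i) : Y.ExactAt i := by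
  rw [HomologicalComplex.exactAt_iff_isZero_homology]
  haveI : Subsingleton (Y.homology i) := by
    refine Module.subsingleton_of_localization_maximal (R := B) (M := Y.homology i)
      (fun P _ => TensorProduct B (Localization.AtPrime P) (Y.homology i))
      (fun P _ => TensorProduct.mk B (Localization.AtPrime P) (Y.homology i) 1) (fun P hP => ?_)
    have hP' := h P
    rw [HomologicalComplex.exactAt_iff_isZero_homology] at hP'
    have e : ((SP (T B) Y).obj (ModuleCat.of B (Localization.AtPrime P))).homology i ≅
        (ModuleCat.of B (Localization.AtPrime P) ⊗ Y.homology i : ModuleCat.{u} B) :=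
      (Y.sc i).mapHomologyIso ((T B).obj (ModuleCat.of B (Localization.AtPrime P)))
    exact ModuleCat.subsingleton_of_isZero (hP'.of_iso e.symm)
  exact ModuleCat.isZero_of_subsingleton _

end LocalGlobal

section Square

variable {R₁ R₂ R₂' R₃ : Type u} [CommRing R₁] [CommRing R₂] [CommRing R₂'] [CommRing R₃]

/-- the two ways of restricting scalars around a commutative square of rings, on complexes -/
noncomputable def resSquareIso (f : R₁ →+* R₂) (g : R₂ →+* R₃) (f' : R₁ →+* R₂')
    (g' : R₂' →+* R₃) (h : g.comp f = g'.comp f') (X : DRing.Cx R₃) :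
    ((ModuleCat.restrictScalars.{u} f).mapHomologicalComplex (ComplexShape.up ℤ)).obj
      (((ModuleCat.restrictScalars.{u} g).mapHomologicalComplex (ComplexShape.up ℤ)).obj X) ≅
    ((ModuleCat.restrictScalars.{u} f').mapHomologicalComplex (ComplexShape.up ℤ)).obj
      (((ModuleCat.restrictScalars.{u} g').mapHomologicalComplex (ComplexShape.up ℤ)).obj X) :=
  HomologicalComplex.Hom.isoOfComponents
    (fun i => ((ModuleCat.restrictScalarsComp'.{u} f g (g.comp f) rfl).symm ≪≫
      ModuleCat.restrictScalarsComp'.{u} f' g' (g.comp f) h).app (X.X i))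
    (fun i j _ => (((ModuleCat.restrictScalarsComp'.{u} f g (g.comp f) rfl).symm ≪≫
      ModuleCat.restrictScalarsComp'.{u} f' g' (g.comp f) h).hom.naturality (X.d i j)).symm)

end Square

section Helper

variable {A B : Type u} [CommRing A] [CommRing B] [Algebra A B]

/-- the complex `B_m ⊗_B K` -/
noncomputable abbrev locCx (m : Ideal B) [m.IsPrime] (K : DRing.Cx B) : DRing.Cx B :=
  ((HomologicalComplex.single (ModuleCat.{u} B) (ComplexShape.up ℤ) 0).obj
    (ModuleCat.of B (Localization.AtPrime m))) ⊗ K

theorem hasTorAmplitudeIn_res_of_forall_maximal (K : DRing.Cx B) (a b : ℤ)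
    (h : ∀ (m : Ideal B) [m.IsMaximal] (M : ModuleCat.{u} A) (N : DRing.Cx A) (_ : KF A N)
      (q : N ⟶ (HomologicalComplex.single (ModuleCat.{u} A) (ComplexShape.up ℤ) 0).obj M)
      (_ : QuasiIso q) (i : ℤ), (i < a ∨ b < i) →
      (N ⊗ ((res A B).mapHomologicalComplex (ComplexShape.up ℤ)).obj (locCx m K) :
        DRing.Cx A).ExactAt i) :
    DRing.HasTorAmplitudeIn A a b
      (DRing.toD (((res A B).mapHomologicalComplex (ComplexShape.up ℤ)).obj K)) := by
  refine hasTorAmplitudeIn_of_exactAt_tensor _ a b (fun M N hN q hq i hi => ?_)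
  rw [exactAt_tensor_res_iff]
  apply exactAt_of_forall_maximal
  intro m hm
  have h1 := h m M N hN q hq i hi
  rw [exactAt_tensor_res_iff] at h1
  have h2 := exactAt_of_iso (swapIso _ _ K) i h1
  exact exactAt_of_iso ((xiIso (T B) _).app (ModuleCat.of B (Localization.AtPrime m))).symm i h2

end Helper

section Main

variable {A B : Type u} [CommRing A] [CommRing B] [Algebra A B]

instance preservesFiniteLimits_ext_of_flat {A' : Type u} [CommRing A'] [Algebra A A']
    [Module.Flat A A'] : PreservesFiniteLimits (ext A A') :=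
  ModuleCat.preservesFiniteLimits_extendScalars_of_flat
    (RingHom.flat_algebraMap_iff.2 inferInstance)

theorem hasTorAmplitudeIn_res_of_localizations (K : DRing.Cx B) (a b : ℤ)
    (h3 : ∀ (m : Ideal B) [m.IsMaximal],
      DRing.HasTorAmplitudeIn (Localization.AtPrime (m.comap (algebraMap A B))) a b
        (DRing.toD (((ModuleCat.restrictScalars.{u}
          (Localization.localRingHom (m.comap (algebraMap A B)) m (algebraMap A B)
            rfl)).mapHomologicalComplex (ComplexShape.up ℤ)).obj
          (((ModuleCat.extendScalars.{u, u, u}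
            (algebraMap B (Localization.AtPrime m))).mapHomologicalComplex
              (ComplexShape.up ℤ)).obj K)))) :
    DRing.HasTorAmplitudeIn A a b
      (DRing.toD (((res A B).mapHomologicalComplex (ComplexShape.up ℤ)).obj K)) := by
  refine hasTorAmplitudeIn_res_of_forall_maximal K a b (fun m hm M N hN q hq i hi => ?_)
  haveI := hq
  let Ap := Localization.AtPrime (m.comap (algebraMap A B))
  let Bm := Localization.AtPrime m
  let ℓ : Ap →+* Bm :=
    Localization.localRingHom (m.comap (algebraMap A B)) m (algebraMap A B) rfl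
  let Km : DRing.Cx Bm := ((ext B Bm).mapHomologicalComplex (ComplexShape.up ℤ)).obj K
  let W' : DRing.Cx Ap :=
    ((ModuleCat.restrictScalars.{u} ℓ).mapHomologicalComplex (ComplexShape.up ℤ)).obj Km
  let N' : DRing.Cx Ap := ((ext A Ap).mapHomologicalComplex (ComplexShape.up ℤ)).obj N
  have hN' : KF Ap N' := kf_ext (R := A) (R' := Ap) N hN
  let M' : ModuleCat.{u} Ap := (ext A Ap).obj M
  let q' : N' ⟶ (HomologicalComplex.single (ModuleCat.{u} Ap) (ComplexShape.up ℤ) 0).obj M' :=
    ((ext A Ap).mapHomologicalComplex (ComplexShape.up ℤ)).map q ≫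
      (HomologicalComplex.singleMapHomologicalComplex (ext A Ap) (ComplexShape.up ℤ) 0).hom.app M
  have hq' : QuasiIso q' := by
    haveI : QuasiIso (((ext A Ap).mapHomologicalComplex (ComplexShape.up ℤ)).map q) :=
      inferInstance
    infer_instance
  have hex : (N' ⊗ W').ExactAt i :=
    exactAt_tensor_of_hasTorAmplitudeIn W' a b (h3 m) M' N' hN' q' hq' i hi
  have h3' : (N ⊗ ((res A Ap).mapHomologicalComplex (ComplexShape.up ℤ)).obj W' :
      DRing.Cx A).ExactAt i := (exactAt_tensor_res_iff (A := A) (B := Ap) N W' i).2 hex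
  have hcomm : ℓ.comp (algebraMap A Ap) = (algebraMap B Bm).comp (algebraMap A B) :=
    RingHom.ext fun x => Localization.localRingHom_to_map (m.comap (algebraMap A B)) m
      (algebraMap A B) rfl x
  have iso4 : ((res A Ap).mapHomologicalComplex (ComplexShape.up ℤ)).obj W' ≅
      ((res A B).mapHomologicalComplex (ComplexShape.up ℤ)).obj
        (((res B Bm).mapHomologicalComplex (ComplexShape.up ℤ)).obj Km) :=
    resSquareIso (algebraMap A Ap) ℓ (algebraMap A B) (algebraMap B Bm) hcomm Km
  have iso5 : ((res B Bm).mapHomologicalComplex (ComplexShape.up ℤ)).obj Km ≅ locCx m K :=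
    (resExtIso (A := B) (B := Bm) K).symm ≪≫ (xiIso (T B) K).app (ModuleCat.of B Bm)
  exact exactAt_of_iso (whiskerLeftIso N (iso4 ≪≫
    ((res A B).mapHomologicalComplex (ComplexShape.up ℤ)).mapIso iso5)) i h3'

end Main

end Groth.Agent.Lib.TorAmpLT
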