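import Mathlib
import Groth.Prelude
import Groth.Agent.Lib.DMod43_helper6
import Groth.Agent.Lib.DMod7_helper6

/-!
# Tor amplitude over a smooth algebra, part 1: the unramified step (helper3)

* `hasTorAmplitudeIn_of_retract`: tor amplitude passes to retracts in `D(A)`.
* `hasTorAmplitudeIn_flatBaseChange`: flat base change of tor amplitude, for an arbitrary complex.
* `hasTorAmplitudeIn_of_unramified`: `S` flat, formally unramified and essentially of finite type
  over `T`; a complex of `S`-modules whose restriction to `T` has tor amplitude in `[a, b]` has tor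
  amplitude in `[a, b]` over `S` (it is a retract of its base change `S ⊗_T M`).
-/

set_option autoImplicit false
set_option linter.all false
set_option maxHeartbeats 1600000

universe u
open CategoryTheory CategoryTheory.Limits Pretriangulated DerivedCategory ZeroObject
open scoped TensorProduct
attribute [local instance] HasDerivedCategory.standard

namespace Groth.Agent.Lib.TorSmoothH3

open DRing Groth.Agent.Lib.DMod_helper6 Groth.Agent.ExtendScalarsLib ChangeOfRings

noncomputable section

section Retract

variable {A : Type u} [CommRing A]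

/-- tor amplitude passes to retracts -/
theorem hasTorAmplitudeIn_of_retract {K K' : Dual.D A} (s : K ⟶ K') (r : K' ⟶ K)
    (hsr : s ≫ r = 𝟙 K) (a b : ℤ) (h : HasTorAmplitudeIn A a b K') :
    HasTorAmplitudeIn A a b K := by
  obtain ⟨C, g, δ, hT⟩ := Pretriangulated.distinguished_cocone_triangle s
  haveI : Mono s := (SplitMono.mk r hsr).mono
  have hm : Mono (Triangle.mk s g δ).mor₁ := (inferInstance : Mono s)
  have h0 : (Triangle.mk s g δ).mor₃ = 0 := (Triangle.mor₃_eq_zero_iff_mono₁ _ hT).2 hm
  obtain ⟨e, -, -⟩ := Pretriangulated.exists_iso_binaryBiproduct_of_distTriang _ hT h0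
  exact hasTorAmplitudeIn_of_biprod_left K C a b (hasTorAmplitudeIn_of_iso e a b h)

end Retract

section FlatBC

variable {T S : Type u} [CommRing T] [CommRing S] [Algebra T S] [Module.Flat T S]

/-- flat base change of tor amplitude, for an arbitrary complex -/
theorem hasTorAmplitudeIn_flatBaseChange (C : Cx T) (a b : ℤ)
    (h : HasTorAmplitudeIn T a b (toD C)) :
    HasTorAmplitudeIn S a b
      (toD (((ES T S).mapHomologicalComplex (ComplexShape.up ℤ)).obj C)) := by
  obtain ⟨E, hE, hEfl, ⟨e⟩⟩ := h
  exact ⟨((ES T S).mapHomologicalComplex _).obj E, fun i hi => (ES T S).map_isZero (hE i hi),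
    fun i => flat_ES (E.X i) (hEfl i),
    ⟨(bcDIso E).symm ≪≫ (bcD T S).mapIso e ≪≫ bcDIso C⟩⟩

end FlatBC

section Unramified

variable {T S : Type u} [CommRing T] [CommRing S] [Algebra T S]

/-- restriction of scalars -/
abbrev RS : ModuleCat.{u} S ⥤ ModuleCat.{u} T :=
  ModuleCat.restrictScalars.{u} (algebraMap T S)

/-- the `T`-module structure on an `S`-module -/
@[reducible] def modT (N : ModuleCat.{u} S) : Module T N := Module.compHom N (algebraMap T S)

lemma towerT (N : ModuleCat.{u} S) :
    letI := modT (T := T) N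
    IsScalarTower T S N := by
  letI := modT (T := T) N
  exact ⟨fun r a m => by
    show ((r • a) • m : N) = (algebraMap T S r) • ((a • m : N))
    rw [Algebra.smul_def, mul_smul]⟩

/-- the multiplication map `S ⊗_T M ⟶ M` of complexes -/
def mulCx (M : Cx S) :
    ((ES T S).mapHomologicalComplex (ComplexShape.up ℤ)).obj
      (((RS (T := T) (S := S)).mapHomologicalComplex (ComplexShape.up ℤ)).obj M) ⟶ M where
  f i := (ModuleCat.extendRestrictScalarsAdj (algebraMap T S)).counit.app (M.X i)
  comm' i j _ :=
    ((ModuleCat.extendRestrictScalarsAdj (algebraMap T S)).counit.naturality (M.d i j)).symm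

/-- the identification of the carrier of the base change with the tensor product -/
def eqv (N : ModuleCat.{u} S) :
    letI := modT (T := T) N
    ((ES T S).obj ((RS (T := T) (S := S)).obj N)) ≃ₗ[S] S ⊗[T] N :=
  extendScalarsEquivTensor (S := S) ((RS (T := T) (S := S)).obj N)

/-- pure tensors in the base change -/
def tm (N : ModuleCat.{u} S) (s : S) (n : N) : (ES T S).obj ((RS (T := T) (S := S)).obj N) :=
  (s ⊗ₜ[T, algebraMap T S] (show ((RS (T := T) (S := S)).obj N : Type u) from n))

lemma eqv_symm_tmul (N : ModuleCat.{u} S) (s : S) (n : N) :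
    letI := modT (T := T) N
    (eqv (T := T) N).symm (s ⊗ₜ[T] n) = tm (T := T) N s n := rfl

lemma counit_tmul (N : ModuleCat.{u} S) (s : S) (n : N) :
    ((ModuleCat.extendRestrictScalarsAdj (algebraMap T S)).counit.app N).hom
      (tm (T := T) N s n) = s • n := rfl

lemma map_tm {N N' : ModuleCat.{u} S} (g : N ⟶ N') (s : S) (n : N) :
    ((ES T S).map ((RS (T := T) (S := S)).map g)).hom (tm (T := T) N s n) =
      tm (T := T) N' s (g.hom n) := rfl

variable [Algebra.FormallyUnramified T S] [Algebra.EssFiniteType T S]

/-- the section as a linear map -/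
def secLin (N : ModuleCat.{u} S) :
    letI := modT (T := T) N
    N →ₗ[S] S ⊗[T] N :=
  letI := modT (T := T) N
  haveI := towerT (T := T) N
  Algebra.FormallyUnramified.sec T S N

lemma secLin_apply (N : ModuleCat.{u} S) (n : N) :
    letI := modT (T := T) N
    haveI := towerT (T := T) N
    secLin (T := T) N n = TensorProduct.AlgebraTensorModule.map (LinearMap.id : S →ₗ[S] S)
      ((Algebra.lsmul T T N).toLinearMap.flip n) (Algebra.FormallyUnramified.elem T S) := rfl

/-- the section as a morphism of `S`-modules -/
def secHom (N : ModuleCat.{u} S) : N ⟶ (ES T S).obj ((RS (T := T) (S := S)).obj N) :=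
  letI := modT (T := T) N
  ModuleCat.ofHom (X := N) (Y := ((ES T S).obj ((RS (T := T) (S := S)).obj N) : Type u))
    ((eqv (T := T) N).symm.toLinearMap ∘ₗ secLin (T := T) N)

lemma secHom_apply (N : ModuleCat.{u} S) (n : N) :
    letI := modT (T := T) N
    (secHom (T := T) N).hom n = (eqv (T := T) N).symm (secLin (T := T) N n) := rfl

/-- the general formula behind the section -/
def genFun (N : ModuleCat.{u} S) (z : S ⊗[T] S) (n : N) :
    (ES T S).obj ((RS (T := T) (S := S)).obj N) :=
  letI := modT (T := T) N
  haveI := towerT (T := T) N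
  (eqv (T := T) N).symm (TensorProduct.AlgebraTensorModule.map (LinearMap.id : S →ₗ[S] S)
    ((Algebra.lsmul T T N).toLinearMap.flip n) z)

lemma secHom_eq_genFun (N : ModuleCat.{u} S) (n : N) :
    (secHom (T := T) N).hom n = genFun N (Algebra.FormallyUnramified.elem T S) n := rfl

lemma genFun_tmul (N : ModuleCat.{u} S) (s₁ s₂ : S) (n : N) :
    genFun (T := T) N (s₁ ⊗ₜ[T] s₂) n = tm (T := T) N s₁ (s₂ • n) := rfl

lemma genFun_add (N : ModuleCat.{u} S) (z z' : S ⊗[T] S) (n : N) :
    genFun (T := T) N (z + z') n = genFun N z n + genFun N z' n := by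
  letI := modT (T := T) N
  haveI := towerT (T := T) N
  show (eqv (T := T) N).symm (TensorProduct.AlgebraTensorModule.map (LinearMap.id : S →ₗ[S] S)
    ((Algebra.lsmul T T N).toLinearMap.flip n) (z + z')) = _
  rw [map_add, map_add]
  rfl

lemma genFun_zero (N : ModuleCat.{u} S) (n : N) :
    genFun (T := T) N 0 n = 0 := by
  letI := modT (T := T) N
  haveI := towerT (T := T) N
  show (eqv (T := T) N).symm (TensorProduct.AlgebraTensorModule.map (LinearMap.id : S →ₗ[S] S)
    ((Algebra.lsmul T T N).toLinearMap.flip n) 0) = _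
  rw [map_zero, map_zero]

lemma genFun_natural {N N' : ModuleCat.{u} S} (g : N ⟶ N') (z : S ⊗[T] S) (n : N) :
    ((ES T S).map ((RS (T := T) (S := S)).map g)).hom (genFun N z n) = genFun N' z (g.hom n) := by
  induction z using TensorProduct.induction_on with
  | zero => rw [genFun_zero, genFun_zero, map_zero]
  | tmul s₁ s₂ =>
    rw [genFun_tmul, genFun_tmul, map_tm]
    have h1 : (g.hom (s₂ • n) : N') = s₂ • g.hom n := g.hom.map_smul s₂ n
    rw [h1]
  | add z z' hz hz' => rw [genFun_add, genFun_add, map_add, hz, hz']

lemma secHom_natural {N N' : ModuleCat.{u} S} (g : N ⟶ N') :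
    secHom (T := T) N ≫ (ES T S).map ((RS (T := T) (S := S)).map g) = g ≫ secHom N' := by
  apply ModuleCat.hom_ext
  apply LinearMap.ext
  intro n
  show ((ES T S).map ((RS (T := T) (S := S)).map g)).hom ((secHom (T := T) N).hom n) =
    (secHom (T := T) N').hom (g.hom n)
  rw [secHom_eq_genFun, secHom_eq_genFun, genFun_natural]

lemma counit_genFun (N : ModuleCat.{u} S) (z : S ⊗[T] S) (n : N) :
    ((ModuleCat.extendRestrictScalarsAdj (algebraMap T S)).counit.app N).hom (genFun N z n) =
      (Algebra.TensorProduct.lmul' T z : S) • n := by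
  induction z using TensorProduct.induction_on with
  | zero => rw [genFun_zero, map_zero, map_zero, zero_smul]
  | tmul s₁ s₂ =>
    rw [genFun_tmul, counit_tmul, Algebra.TensorProduct.lmul'_apply_tmul, mul_smul]
  | add z z' hz hz' => rw [genFun_add, map_add, hz, hz', map_add, add_smul]

lemma secHom_counit (N : ModuleCat.{u} S) :
    secHom (T := T) N ≫ (ModuleCat.extendRestrictScalarsAdj (algebraMap T S)).counit.app N =
      𝟙 N := by
  apply ModuleCat.hom_ext
  apply LinearMap.ext
  intro n
  show ((ModuleCat.extendRestrictScalarsAdj (algebraMap T S)).counit.app N).hom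
    ((secHom (T := T) N).hom n) = n
  rw [secHom_eq_genFun, counit_genFun, Algebra.FormallyUnramified.lmul_elem, one_smul]

/-- the section `M ⟶ S ⊗_T M` of complexes -/
def secCx (M : Cx S) : M ⟶
    ((ES T S).mapHomologicalComplex (ComplexShape.up ℤ)).obj
      (((RS (T := T) (S := S)).mapHomologicalComplex (ComplexShape.up ℤ)).obj M) where
  f i := secHom (T := T) (M.X i)
  comm' i j _ := by
    show secHom (T := T) (M.X i) ≫ (ES T S).map ((RS (T := T) (S := S)).map (M.d i j)) = _
    exact secHom_natural (T := T) (M.d i j)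

lemma secCx_mulCx (M : Cx S) : secCx (T := T) M ≫ mulCx M = 𝟙 M := by
  apply HomologicalComplex.hom_ext
  intro i
  exact secHom_counit (T := T) (M.X i)

/-- **the unramified step** -/
theorem hasTorAmplitudeIn_of_unramified [Module.Flat T S] (M : Cx S) (a b : ℤ)
    (h : HasTorAmplitudeIn T a b
      (toD (((RS (T := T) (S := S)).mapHomologicalComplex (ComplexShape.up ℤ)).obj M))) :
    HasTorAmplitudeIn S a b (toD M) := by
  have h' := hasTorAmplitudeIn_flatBaseChange (S := S) _ a b h
  refine hasTorAmplitudeIn_of_retract (Q.map (secCx (T := T) M)) (Q.map (mulCx M)) ?_ a b h'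
  rw [← Functor.map_comp, secCx_mulCx]
  exact CategoryTheory.Functor.map_id _ _

end Unramified

end

end Groth.Agent.Lib.TorSmoothH3
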