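import Mathlib
import Groth.Prelude
import Groth.Agent.Lib.TorAmpLT3_helper2
import Groth.Agent.Lib.DMod56_helper6
import Groth.Agent.Lib.TorSmooth1_helper3

/-!
# Tor amplitude over a base is local on the source and the base: ring level (helper3)

For `R → A`, a flat `A`-algebra `B` and a flat `R`-algebra `R'` with a compatible map `R' → B`
(in the application `R' = R_p`, `B = A_q`):

* `exactAt_tensor_res_ext_iff'`: `N ⊗_R (B ⊗_A P)|_R` is exact at `i` iff
  `B ⊗_A ((A ⊗_R N) ⊗_A P)` is.
* `hasTorAmplitudeIn_res_ext_of_flat`: if `P|_R` has tor amplitude in `[a, b]` then so has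
  `(B ⊗_A P)|_R`.
* `hasTorAmplitudeIn_res_loc`: if moreover `R'` is (flat, formally unramified and essentially of
  finite type, e.g.) a localization of `R`, then `(B ⊗_A P)|_{R'}` has tor amplitude in `[a, b]`.
* `hasTorAmplitudeIn_res_of_family`: conversely, tor amplitude of `P|_R` can be checked on a family
  `(R'_j → B_j)` such that exactness descends along `A → (B_j)`.
-/

set_option autoImplicit false
set_option linter.all false
set_option maxHeartbeats 1600000

universe u
open CategoryTheory Limits MonoidalCategory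

namespace Groth.Agent.Lib.RelTildeAmpH3

attribute [local instance] HasDerivedCategory.standard

open Groth.Agent.Lib.KFlatMod Groth.Agent.Lib.KFlatGen Groth.Agent.Lib.ExtKFlat
  Groth.Agent.Lib.ResKFlat Groth.Agent.Lib.DRingLT Groth.Agent.Lib.TotalMap
  Groth.Agent.Lib.BifSingleL Groth.Agent.Lib.DMod_helper6 Groth.Agent.Lib.NilpTor
  Groth.Agent.ExtendScalarsLib Groth.Agent.Lib.TorAmpLT

noncomputable section

section Flat

variable {A B : Type u} [CommRing A] [CommRing B] [Algebra A B]

/-- flat base change preserves exactness at a degree -/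
lemma exactAt_ext_of_exactAt [Module.Flat A B] (K : DRing.Cx A) (i : ℤ) (h : K.ExactAt i) :
    (((ext A B).mapHomologicalComplex (ComplexShape.up ℤ)).obj K).ExactAt i :=
  exactAt_EScA_of_exactAt (R := A) (fun _ : Unit => B) () K i h

end Flat

section Tower

variable {R A B : Type u} [CommRing R] [CommRing A] [CommRing B] [Algebra R A] [Algebra A B]
  [Algebra R B] [IsScalarTower R A B]

/-- `N ⊗_R (B ⊗_A P)|_R` is exact at `i` iff `B ⊗_A ((A ⊗_R N) ⊗_A P)` is -/
theorem exactAt_tensor_res_ext_iff' (N : DRing.Cx R) (P : DRing.Cx A) (i : ℤ) :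
    (N ⊗ ((res R B).mapHomologicalComplex (ComplexShape.up ℤ)).obj
      (((ext A B).mapHomologicalComplex (ComplexShape.up ℤ)).obj P) : DRing.Cx R).ExactAt i ↔
    (((ext A B).mapHomologicalComplex (ComplexShape.up ℤ)).obj
      ((((ext R A).mapHomologicalComplex (ComplexShape.up ℤ)).obj N) ⊗ P : DRing.Cx A)).ExactAt i := by
  let W : DRing.Cx A := ((res A B).mapHomologicalComplex (ComplexShape.up ℤ)).obj
    (((ext A B).mapHomologicalComplex (ComplexShape.up ℤ)).obj P)
  let E' : DRing.Cx A := ((ext R A).mapHomologicalComplex (ComplexShape.up ℤ)).obj N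
  let B0 : DRing.Cx A :=
    (HomologicalComplex.single (ModuleCat.{u} A) (ComplexShape.up ℤ) 0).obj (ModuleCat.of A B)
  have iso1 : (N ⊗ ((res R B).mapHomologicalComplex (ComplexShape.up ℤ)).obj
      (((ext A B).mapHomologicalComplex (ComplexShape.up ℤ)).obj P) : DRing.Cx R) ≅
      (N ⊗ ((res R A).mapHomologicalComplex (ComplexShape.up ℤ)).obj W : DRing.Cx R) :=
    whiskerLeftIso N (resCompIso (R := R) (A := A) _)
  have wIso : W ≅ B0 ⊗ P := (resExtIso (B := B) P).symm ≪≫ (xiIso (T A) P).app (ModuleCat.of A B)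
  have iso2 : (E' ⊗ W : DRing.Cx A) ≅ E' ⊗ (B0 ⊗ P) := whiskerLeftIso E' wIso
  have iso3 : (E' ⊗ (B0 ⊗ P) : DRing.Cx A) ≅ B0 ⊗ (E' ⊗ P) := swapIso E' B0 P
  have iso4 : (SP (T A) (E' ⊗ P)).obj (ModuleCat.of A B) ≅ (B0 ⊗ (E' ⊗ P) : DRing.Cx A) :=
    (xiIso (T A) (E' ⊗ P)).app (ModuleCat.of A B)
  have iso5 : (SP (T A) (E' ⊗ P)).obj (ModuleCat.of A B) ≅
      ((res A B).mapHomologicalComplex (ComplexShape.up ℤ)).obj
        (((ext A B).mapHomologicalComplex (ComplexShape.up ℤ)).obj (E' ⊗ P)) :=
    resExtIso (B := B) (E' ⊗ P)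
  rw [← exactAt_map_iff (res A B)
    (((ext A B).mapHomologicalComplex (ComplexShape.up ℤ)).obj (E' ⊗ P)) i]
  constructor
  · intro h
    have h1 := exactAt_of_iso iso1 i h
    have h2 := (exactAt_tensor_res_iff N W i).1 h1
    have h3 := exactAt_of_iso iso3 i (exactAt_of_iso iso2 i h2)
    have h4 := exactAt_of_iso iso4.symm i h3
    exact exactAt_of_iso iso5 i h4
  · intro h
    have h4 := exactAt_of_iso iso5.symm i h
    have h3 := exactAt_of_iso iso4 i h4
    have h2 := exactAt_of_iso iso2.symm i (exactAt_of_iso iso3.symm i h3)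
    have h1 := (exactAt_tensor_res_iff N W i).2 h2
    exact exactAt_of_iso iso1.symm i h1

/-- flat localization of the source preserves tor amplitude over the base -/
theorem hasTorAmplitudeIn_res_ext_of_flat [Module.Flat A B] (P : DRing.Cx A) (a b : ℤ)
    (h : DRing.HasTorAmplitudeIn R a b
      (DRing.toD (((res R A).mapHomologicalComplex (ComplexShape.up ℤ)).obj P))) :
    DRing.HasTorAmplitudeIn R a b
      (DRing.toD (((res R B).mapHomologicalComplex (ComplexShape.up ℤ)).obj
        (((ext A B).mapHomologicalComplex (ComplexShape.up ℤ)).obj P))) := by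
  refine hasTorAmplitudeIn_of_exactAt_tensor _ a b (fun M N hN q hq i hi => ?_)
  rw [exactAt_tensor_res_ext_iff']
  apply exactAt_ext_of_exactAt
  exact (exactAt_tensor_res_iff N P i).1
    (exactAt_tensor_of_hasTorAmplitudeIn _ a b h M N hN q hq i hi)

end Tower

section Loc

variable {R A R' B : Type u} [CommRing R] [CommRing A] [CommRing R'] [CommRing B]
  [Algebra R A] [Algebra A B] [Algebra R B] [IsScalarTower R A B]
  [Algebra R R'] [Algebra R' B] [IsScalarTower R R' B]

/-- from tor amplitude over `R` of `P` to tor amplitude over `R'` of `B ⊗_A P` -/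
theorem hasTorAmplitudeIn_res_loc [Module.Flat A B] [Module.Flat R R']
    [Algebra.FormallyUnramified R R'] [Algebra.EssFiniteType R R'] (P : DRing.Cx A) (a b : ℤ)
    (h : DRing.HasTorAmplitudeIn R a b
      (DRing.toD (((res R A).mapHomologicalComplex (ComplexShape.up ℤ)).obj P))) :
    DRing.HasTorAmplitudeIn R' a b
      (DRing.toD (((res R' B).mapHomologicalComplex (ComplexShape.up ℤ)).obj
        (((ext A B).mapHomologicalComplex (ComplexShape.up ℤ)).obj P))) := by
  have h1 := hasTorAmplitudeIn_res_ext_of_flat (R := R) (A := A) (B := B) P a b h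
  have e := resCompIso (R := R) (A := R') (B := B)
    (((ext A B).mapHomologicalComplex (ComplexShape.up ℤ)).obj P)
  have h2 := hasTorAmplitudeIn_of_iso (DerivedCategory.Q.mapIso e) a b h1
  exact Groth.Agent.Lib.TorSmoothH3.hasTorAmplitudeIn_of_unramified (T := R) (S := R')
    (((res R' B).mapHomologicalComplex (ComplexShape.up ℤ)).obj
      (((ext A B).mapHomologicalComplex (ComplexShape.up ℤ)).obj P)) a b h2

end Loc

section Family

variable {R A : Type u} [CommRing R] [CommRing A] [Algebra R A]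
  {ι : Type*} {R' B : ι → Type u} [∀ j, CommRing (R' j)] [∀ j, CommRing (B j)]
  [∀ j, Algebra A (B j)] [∀ j, Algebra R (B j)] [∀ j, IsScalarTower R A (B j)]
  [∀ j, Algebra R (R' j)] [∀ j, Algebra (R' j) (B j)] [∀ j, IsScalarTower R (R' j) (B j)]
  [∀ j, Module.Flat A (B j)] [∀ j, Module.Flat R (R' j)]

/-- tor amplitude over the base can be checked on a family `(R'_j → B_j)` -/
theorem hasTorAmplitudeIn_res_of_family (D1 : DescendsExact A B) (P : DRing.Cx A) (a b : ℤ)
    (h : ∀ j, DRing.HasTorAmplitudeIn (R' j) a b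
      (DRing.toD (((res (R' j) (B j)).mapHomologicalComplex (ComplexShape.up ℤ)).obj
        (((ext A (B j)).mapHomologicalComplex (ComplexShape.up ℤ)).obj P)))) :
    DRing.HasTorAmplitudeIn R a b
      (DRing.toD (((res R A).mapHomologicalComplex (ComplexShape.up ℤ)).obj P)) := by
  refine hasTorAmplitudeIn_of_exactAt_tensor _ a b (fun M N hN q hq i hi => ?_)
  haveI := hq
  rw [exactAt_tensor_res_iff]
  refine exactAt_of_forall_exactAt_EScA D1 _ i (fun j => ?_)
  show (((ext A (B j)).mapHomologicalComplex (ComplexShape.up ℤ)).obj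
    ((((ext R A).mapHomologicalComplex (ComplexShape.up ℤ)).obj N) ⊗ P : DRing.Cx A)).ExactAt i
  rw [← exactAt_tensor_res_ext_iff' (R := R) (A := A) (B := B j)]
  let W' : DRing.Cx (R' j) := ((res (R' j) (B j)).mapHomologicalComplex (ComplexShape.up ℤ)).obj
    (((ext A (B j)).mapHomologicalComplex (ComplexShape.up ℤ)).obj P)
  let N' : DRing.Cx (R' j) := ((ext R (R' j)).mapHomologicalComplex (ComplexShape.up ℤ)).obj N
  have hN' : KF (R' j) N' := kf_ext (R := R) (R' := R' j) N hN
  let M' : ModuleCat.{u} (R' j) := (ext R (R' j)).obj M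
  let q' : N' ⟶ (HomologicalComplex.single (ModuleCat.{u} (R' j)) (ComplexShape.up ℤ) 0).obj M' :=
    ((ext R (R' j)).mapHomologicalComplex (ComplexShape.up ℤ)).map q ≫
      (HomologicalComplex.singleMapHomologicalComplex (ext R (R' j)) (ComplexShape.up ℤ) 0).hom.app M
  have hq' : QuasiIso q' := by
    haveI : QuasiIso (((ext R (R' j)).mapHomologicalComplex (ComplexShape.up ℤ)).map q) :=
      inferInstance
    infer_instance
  have hex : (N' ⊗ W').ExactAt i :=
    exactAt_tensor_of_hasTorAmplitudeIn W' a b (h j) M' N' hN' q' hq' i hi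
  have h3' : (N ⊗ ((res R (R' j)).mapHomologicalComplex (ComplexShape.up ℤ)).obj W' :
      DRing.Cx R).ExactAt i := (exactAt_tensor_res_iff (A := R) (B := R' j) N W' i).2 hex
  have e := resCompIso (R := R) (A := R' j) (B := B j)
    (((ext A (B j)).mapHomologicalComplex (ComplexShape.up ℤ)).obj P)
  exact exactAt_of_iso (whiskerLeftIso N e.symm) i h3'

end Family

end

end Groth.Agent.Lib.RelTildeAmpH3
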