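import Mathlib
import Groth.Prelude
import Groth.Agent.Lib.RelTildeAmp1_helper3
import Groth.Agent.Lib.TildeAmp_lead
import Groth.Agent.Lib.RelFlatAmp2_helper3

/-!
# Relative tor amplitude of `M~` on `Spec A` over `Spec R` (helper3; S7259)
-/

set_option autoImplicit false
set_option linter.all false
set_option maxHeartbeats 1600000
set_option backward.isDefEq.respectTransparency false
set_option backward.isDefEq.respectTransparency.types false
set_option backward.defeqAttrib.useBackward true

universe u
open CategoryTheory CategoryTheory.Limits AlgebraicGeometry Opposite TopologicalSpace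
open scoped TensorProduct ChangeOfRings
attribute [local instance] HasDerivedCategory.standard

namespace Groth.Agent.Lib.RelTildeAmpH3

open DRing DerSch Groth.Agent.Lib.DMod_helper6 Groth.Agent.Lib.TorAmpIdL
  Groth.Agent.Lib.TildeAmpL Groth.Agent.Lib.ExtKFlat Groth.Agent.ExtendScalarsLib

noncomputable section

variable {R A : Type u} [CommRing R] [CommRing A] (φ : R →+* A)

/-- the morphism `Spec A ⟶ Spec R` -/
abbrev fS : XA A ⟶ XA R := Spec.map (CommRingCat.ofHom φ)

/-- the local ring of the base at the image of `q` -/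
abbrev Rq (q : PrimeSpectrum A) : Type u := Bq R ((fS φ).base q)

/-- the stalk map -/
abbrev ell (q : PrimeSpectrum A) : Rq φ q →+* Bq A q := ((fS φ).stalkMap q).hom

lemma ell_toStalk (q : PrimeSpectrum A) (r : R) :
    ell φ q (algebraMap R (Rq φ q) r) = algebraMap A (Bq A q) (φ r) :=
  AlgebraicGeometry.stalkMap_toStalk_apply (CommRingCat.ofHom φ) q r

/-- `R → A` as an algebra -/
@[reducible] def algRA : Algebra R A := φ.toAlgebra

/-- `R → A → A_q` as an algebra -/
@[reducible] def algRBq (q : PrimeSpectrum A) : Algebra R (Bq A q) :=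
  ((algebraMap A (Bq A q)).comp φ).toAlgebra

/-- the stalk map as an algebra -/
@[reducible] def algRqBq (q : PrimeSpectrum A) : Algebra (Rq φ q) (Bq A q) :=
  (ell φ q).toAlgebra

lemma tower1 (q : PrimeSpectrum A) :
    @IsScalarTower R A (Bq A q) (algRA φ).toSMul (algBq A q).toSMul (algRBq φ q).toSMul :=
  letI := algRA φ
  letI := algRBq φ q
  IsScalarTower.of_algebraMap_eq (fun r => rfl)

lemma tower2 (q : PrimeSpectrum A) :
    @IsScalarTower R (Rq φ q) (Bq A q) (algBq R _).toSMul (algRqBq φ q).toSMul
      (algRBq φ q).toSMul :=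
  letI := algRA φ
  letI := algRBq φ q
  letI := algRqBq φ q
  IsScalarTower.of_algebraMap_eq (fun r => (ell_toStalk φ q r).symm)

instance unramRq (p : PrimeSpectrum R) : Algebra.FormallyUnramified R (Bq R p) :=
  Algebra.FormallyUnramified.of_isLocalization p.asIdeal.primeCompl

instance eftRq (p : PrimeSpectrum R) : Algebra.EssFiniteType R (Bq R p) :=
  Algebra.EssFiniteType.of_isLocalization (Bq R p) p.asIdeal.primeCompl

/-- the complex of stalks of `C~` over the base local ring -/
def stalkOverIso (q : PrimeSpectrum A) (C : Cx A) :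
    (stalkCxOver (fS φ) q).obj ((tildeCx A).obj C) ≅
      ((ModuleCat.restrictScalars.{u} (ell φ q)).mapHomologicalComplex (ComplexShape.up ℤ)).obj
        ((EScA (fun q : PrimeSpectrum A => Bq A q) q).obj C) :=
  ((ModuleCat.restrictScalars.{u} (ell φ q)).mapHomologicalComplex (ComplexShape.up ℤ)).mapIso
    (cxIso q C).symm

/-- ring-level statement in the geometric notation -/
theorem torAmp_res_iff_stalks (C : Cx A) (a b : ℤ) :
    HasTorAmplitudeIn R a b
      (toD (((ModuleCat.restrictScalars.{u} φ).mapHomologicalComplex (ComplexShape.up ℤ)).obj C)) ↔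
    ∀ q : PrimeSpectrum A, HasTorAmplitudeIn (Rq φ q) a b
      (toD (((ModuleCat.restrictScalars.{u} (ell φ q)).mapHomologicalComplex
        (ComplexShape.up ℤ)).obj ((EScA (fun q : PrimeSpectrum A => Bq A q) q).obj C))) := by
  letI := algRA φ
  letI : ∀ q : PrimeSpectrum A, Algebra R (Bq A q) := fun q => algRBq φ q
  letI : ∀ q : PrimeSpectrum A, Algebra (Rq φ q) (Bq A q) := fun q => algRqBq φ q
  haveI : ∀ q : PrimeSpectrum A, IsScalarTower R A (Bq A q) := fun q => tower1 φ q
  haveI : ∀ q : PrimeSpectrum A, IsScalarTower R (Rq φ q) (Bq A q) := fun q => tower2 φ q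
  constructor
  · intro h q
    exact hasTorAmplitudeIn_res_loc (R := R) (A := A) (R' := Rq φ q) (B := Bq A q) C a b h
  · intro h
    exact hasTorAmplitudeIn_res_of_family (R := R) (A := A) (R' := fun q => Rq φ q)
      (B := fun q : PrimeSpectrum A => Bq A q) stalk_descendsExact C a b h

/-- S7259 -/
theorem main7259 [PreservesFiniteLimits (tilde.functor (CommRingCat.of A))] (M : Dual.D A)
    (F : CochainComplex (Spec (CommRingCat.of A)).Modules ℤ)
    (hF : Nonempty (DCoh.toD (Spec (CommRingCat.of A)) F ≅
      (DCoh.tildeD (CommRingCat.of A)).obj M)) (a b : ℤ) :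
    DerSch.HasTorAmplitude (Spec.map (CommRingCat.ofHom φ)) a b F ↔
      DRing.HasTorAmplitudeIn R a b ((DRing.restrictD φ).obj M) := by
  obtain ⟨e⟩ := hF
  let C : Cx A := DerivedCategory.Q.objPreimage M
  let eC : toD C ≅ M := DerivedCategory.Q.objObjPreimageIso M
  let e' : DCoh.toD (XA A) F ≅ DCoh.toD (XA A) ((tildeCx A).obj C) :=
    e ≪≫ (DCoh.tildeD (CommRingCat.of A)).mapIso eC.symm ≪≫
      (tilde.functor (CommRingCat.of A)).mapDerivedCategoryFactors.app C
  let eR : (DRing.restrictD φ).obj M ≅
      toD (((ModuleCat.restrictScalars.{u} φ).mapHomologicalComplex (ComplexShape.up ℤ)).obj C) :=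
    (DRing.restrictD φ).mapIso eC.symm ≪≫
      (ModuleCat.restrictScalars.{u} φ).mapDerivedCategoryFactors.app C
  have key := torAmp_res_iff_stalks φ C a b
  constructor
  · intro h
    refine hasTorAmplitudeIn_of_iso eR.symm a b (key.2 (fun q => ?_))
    have h1 := Groth.Agent.Lib.RelFlatAmpH3.hasTorAmplitudeAt_of_iso (fS φ) e' a b q (h q)
    exact hasTorAmplitudeIn_of_iso (DerivedCategory.Q.mapIso (stalkOverIso φ q C)) a b h1
  · intro h q
    have h1 := key.1 (hasTorAmplitudeIn_of_iso eR a b h) q
    have h2 : HasTorAmplitudeAt (fS φ) a b ((tildeCx A).obj C) q :=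
      hasTorAmplitudeIn_of_iso (DerivedCategory.Q.mapIso (stalkOverIso φ q C)).symm a b h1
    exact Groth.Agent.Lib.RelFlatAmpH3.hasTorAmplitudeAt_of_iso (fS φ) e'.symm a b q h2

end

end Groth.Agent.Lib.RelTildeAmpH3
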