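import Mathlib
import Groth.Prelude
import Groth.Agent.Lib.RelTildeAmp2_helper3
import Groth.Agent.Lib.TildePC3_helper3
import Groth.Agent.Lib.DMod20_helper6
import Groth.Agent.Lib.DMod42_helper6

/-!
# `M~` is relatively perfect over `Spec R` iff `M` is `R`-perfect (helper3; S7264)
-/

set_option autoImplicit false
set_option linter.all false
set_option maxHeartbeats 1600000
set_option backward.isDefEq.respectTransparency false
set_option backward.isDefEq.respectTransparency.types false
set_option backward.defeqAttrib.useBackward true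

universe u
open CategoryTheory CategoryTheory.Limits AlgebraicGeometry Opposite TopologicalSpace
open scoped TensorProduct ChangeOfRings
attribute [local instance] HasDerivedCategory.standard

namespace Groth.Agent.Lib.RelTildeAmpH3

open DRing DerSch Groth.Agent.Lib.DMod_helper6 Groth.Agent.Lib.TorAmpIdL
  Groth.Agent.Lib.TildeAmpL

noncomputable section

/-- on a quasi-compact scheme, locally finite tor amplitude is finite tor amplitude -/
theorem exists_hasTorAmplitude_of_loc {X Y : Scheme.{u}} [CompactSpace X] (f : X ⟶ Y)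
    (F : CochainComplex X.Modules ℤ) (h : LocFiniteTorAmplitude f F) :
    ∃ a b : ℤ, HasTorAmplitude f a b F := by
  choose V a b hxV hV using h
  obtain ⟨t, ht⟩ := isCompact_univ.elim_finite_subcover (fun x : X => ((V x : X.Opens) : Set X))
    (fun x => (V x).isOpen) (fun x _ => Set.mem_iUnion.2 ⟨x, hxV x⟩)
  obtain ⟨b0, hb0⟩ := Finset.exists_le (t.image b)
  obtain ⟨a0, ha0⟩ := Finset.exists_le (t.image (fun x => -a x))
  refine ⟨-a0, b0, fun x => ?_⟩
  obtain ⟨y, hy⟩ := Set.mem_iUnion.1 (ht (Set.mem_univ x))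
  obtain ⟨hyt, hxy⟩ := Set.mem_iUnion.1 hy
  have h1 := hV y x hxy
  have hb : b y ≤ b0 := hb0 _ (Finset.mem_image_of_mem b hyt)
  have ha : -a y ≤ a0 := ha0 _ (Finset.mem_image_of_mem (fun x => -a x) hyt)
  exact hasTorAmplitudeIn_mono _ (a y) (b y) (-a0) b0 (by omega) hb h1

variable (R A : Type u) [CommRing R] [CommRing A] [Algebra R A]

/-- the tor dimension part of S7264 -/
theorem locHasFiniteRelTorDim_tildeD_iff [Module.Flat R A]
    [PreservesFiniteLimits (tilde.functor (CommRingCat.of A))] (M : Dual.D A) :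
    DCoh.LocHasFiniteRelTorDim (Spec.map (CommRingCat.ofHom (algebraMap R A)))
      ((DCoh.tildeD (CommRingCat.of A)).obj M) ↔
    DRing.HasFiniteTorDimCx R ((DRing.restrictD (algebraMap R A)).obj M) := by
  haveI : Flat (Spec.map (CommRingCat.ofHom (algebraMap R A))) :=
    Flat.SpecMap_iff.mpr (RingHom.flat_algebraMap_iff.mpr inferInstance)
  let C : Cx A := DerivedCategory.Q.objPreimage M
  let eC : toD C ≅ M := DerivedCategory.Q.objObjPreimageIso M
  let F : CochainComplex (XA A).Modules ℤ := (tildeCx A).obj C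
  let e : DCoh.toD (XA A) F ≅ (DCoh.tildeD (CommRingCat.of A)).obj M :=
    ((tilde.functor (CommRingCat.of A)).mapDerivedCategoryFactors.app C).symm ≪≫
      (DCoh.tildeD (CommRingCat.of A)).mapIso eC
  rw [Groth.Agent.Lib.RelFlatAmpH3.locHasFiniteRelTorDim_iff'
    (Spec.map (CommRingCat.ofHom (algebraMap R A))) _ F e]
  constructor
  · intro h
    obtain ⟨a, b, hab⟩ := exists_hasTorAmplitude_of_loc _ F h
    exact ⟨a, b, (main7259 (algebraMap R A) M F ⟨e⟩ a b).1 hab⟩
  · rintro ⟨a, b, hab⟩ x
    exact ⟨⊤, a, b, trivial, fun x' _ => (main7259 (algebraMap R A) M F ⟨e⟩ a b).2 hab x'⟩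

/-- S7264 -/
theorem main7264 [Module.Flat R A]
    [PreservesFiniteLimits (tilde.functor (CommRingCat.of A))] (M : Dual.D A) :
    ((∀ m : ℤ, DCoh.IsPseudoCoherentD m ((DCoh.tildeD (CommRingCat.of A)).obj M)) ∧
      DCoh.LocHasFiniteRelTorDim (Spec.map (CommRingCat.ofHom (algebraMap R A)))
        ((DCoh.tildeD (CommRingCat.of A)).obj M)) ↔
    Dual2.IsRelPerfect R A M := by
  unfold Dual2.IsRelPerfect
  rw [locHasFiniteRelTorDim_tildeD_iff R A M, isPseudoCoherent'_iff_forall]
  constructor
  · rintro ⟨h1, h2⟩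
    exact ⟨fun m => (Groth.Agent.Lib.TildePCH3.main1004 A M m).1 (h1 m), h2⟩
  · rintro ⟨h1, h2⟩
    exact ⟨fun m => (Groth.Agent.Lib.TildePCH3.main1004 A M m).2 (h1 m), h2⟩

end

end Groth.Agent.Lib.RelTildeAmpH3
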