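import Mathlib
import Groth.Prelude
import Groth.Agent.Lib.DMod61_helper6
import Groth.Agent.Lib.DMod7_helper6
import Groth.Agent.Lib.DMod29_helper6
import Groth.Agent.Lib.DMod36_helper6

/-!
# Tor dimension over a localization of a polynomial ring (lead)

If `RU` has tor dimension `≤ e` over a local ring `RY = A_p`, and the structure map factors through
a localization `RW` of `A[x_1, …, x_n]` at a prime, then `RU` has tor dimension `≤ e + n` over `RW`.
-/

set_option autoImplicit false
set_option linter.all false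
set_option maxHeartbeats 1600000
set_option backward.isDefEq.respectTransparency false
set_option backward.isDefEq.respectTransparency.types false
set_option backward.defeqAttrib.useBackward true

universe u
open CategoryTheory CategoryTheory.Limits
open scoped TensorProduct
attribute [local instance] HasDerivedCategory.standard

namespace Groth.Agent.Lib.TorDimPolyL

open DRing Groth.Agent.Lib.DMod_helper6

noncomputable section

attribute [local instance] MvPolynomial.algebraMvPolynomial

/-- helper6's argument (`isPerfectHom_iff`), extracted: `B` of tor dimension `≤ e` over `A` has tor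
amplitude in `[-n - e, 0]` over `A[x_1, …, x_n]` along any `A`-algebra map. -/
theorem torAmp_mvPoly (A B : Type u) [CommRing A] [CommRing B] [Algebra A B] (n e : ℕ)
    (he : HasTorDimLE A e B) (φ : MvPolynomial (Fin n) A →ₐ[A] B) :
    letI := φ.toRingHom.toAlgebra
    HasTorAmplitudeIn (MvPolynomial (Fin n) A) (-(n : ℤ) - e) 0
      (Dual.inD (MvPolynomial (Fin n) A) B) := by
  letI : Algebra (MvPolynomial (Fin n) A) B := φ.toRingHom.toAlgebra
  let b : Fin n → B := fun i => φ (MvPolynomial.X i)
  have hB := resTA_map A B n e he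
  have hK : HasTorAmplitudeIn (MvPolynomial (Fin n) B) (-(n : ℤ)) 0
      ((restrictD (MvPolynomial.eval b)).obj (Dual.inD B B)) := resTA_eval n B b
  have h3 := hasTorAmplitudeIn_restrictD_of_torDim e hB _ (-(n : ℤ)) 0 hK
  have hgf : φ.toRingHom = (MvPolynomial.eval b).comp
      (algebraMap (MvPolynomial (Fin n) A) (MvPolynomial (Fin n) B)) := by
    apply MvPolynomial.ringHom_ext
    · intro a
      show φ (MvPolynomial.C a) = MvPolynomial.eval b
        (MvPolynomial.map (algebraMap A B) (MvPolynomial.C a))
      rw [MvPolynomial.map_C, MvPolynomial.eval_C]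
      exact φ.commutes a
    · intro i
      show φ (MvPolynomial.X i) = MvPolynomial.eval b
        (MvPolynomial.map (algebraMap A B) (MvPolynomial.X i))
      rw [MvPolynomial.map_X, MvPolynomial.eval_X]
  have h4 := hasTorAmplitudeIn_of_iso
    (restrictDCompIso _ _ φ.toRingHom hgf (Dual.inD B B)).symm _ _ h3
  exact hasTorAmplitudeIn_of_iso
    (restrictDInDSelfIso (A := MvPolynomial (Fin n) A) (B := B)) _ _ h4

theorem key {A : Type u} [CommRing A] (n : ℕ) {RY RW RU : Type u} [CommRing RY] [CommRing RW]
    [CommRing RU]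
    (α : A →+* RY) (β : MvPolynomial (Fin n) A →+* RW) (γ : RY →+* RW) (δ : RW →+* RU)
    (hcomm : γ.comp α = β.comp MvPolynomial.C)
    (p : Ideal A) [p.IsPrime] (hα : letI := α.toAlgebra; IsLocalization.AtPrime RY p)
    (Q : Ideal (MvPolynomial (Fin n) A)) [Q.IsPrime]
    (hβ : letI := β.toAlgebra; IsLocalization.AtPrime RW Q)
    (e : ℕ)
    (h : letI := (δ.comp γ).toAlgebra; HasTorAmplitudeIn RY (-(e : ℤ)) 0 (Dual.inD RY RU)) :
    letI := δ.toAlgebra
    HasTorAmplitudeIn RW (-((e + n : ℕ) : ℤ)) 0 (Dual.inD RW RU) := by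
  letI algAY : Algebra A RY := α.toAlgebra
  letI algYU : Algebra RY RU := (δ.comp γ).toAlgebra
  letI algWU : Algebra RW RU := δ.toAlgebra
  letI algPAW : Algebra (MvPolynomial (Fin n) A) RW := β.toAlgebra
  haveI hα' : IsLocalization.AtPrime RY p := hα
  haveI hβ' : IsLocalization.AtPrime RW Q := hβ
  -- the polynomial ring over `RY`
  let θ : MvPolynomial (Fin n) RY →+* RW :=
    MvPolynomial.eval₂Hom γ (fun i => β (MvPolynomial.X i))
  letI algPW : Algebra (MvPolynomial (Fin n) RY) RW := θ.toAlgebra
  let ψ : MvPolynomial (Fin n) RY →ₐ[RY] RU :=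
    MvPolynomial.aeval (fun i => δ (β (MvPolynomial.X i)))
  letI algPU : Algebra (MvPolynomial (Fin n) RY) RU := ψ.toRingHom.toAlgebra
  -- step 1
  have he : HasTorDimLE RY e RU :=
    hasTorDimLE_of_hasTorAmplitudeIn RU (-(e : ℤ)) 0 e le_rfl h
  have h1 : HasTorAmplitudeIn (MvPolynomial (Fin n) RY) (-(n : ℤ) - e) 0
      (Dual.inD (MvPolynomial (Fin n) RY) RU) := torAmp_mvPoly RY RU n e he ψ
  -- step 2: towers
  have hψθ : ∀ x : MvPolynomial (Fin n) RY, ψ x = δ (θ x) := by
    intro x
    have : ψ.toRingHom = δ.comp θ := by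
      apply MvPolynomial.ringHom_ext
      · intro r
        show ψ (MvPolynomial.C r) = δ (θ (MvPolynomial.C r))
        rw [MvPolynomial.eval₂Hom_C]
        show MvPolynomial.aeval _ (MvPolynomial.C r) = _
        rw [MvPolynomial.aeval_C]
        rfl
      · intro i
        show ψ (MvPolynomial.X i) = δ (θ (MvPolynomial.X i))
        rw [MvPolynomial.eval₂Hom_X']
        show MvPolynomial.aeval _ (MvPolynomial.X i) = _
        rw [MvPolynomial.aeval_X]
    exact RingHom.congr_fun this x
  haveI tPWU : IsScalarTower (MvPolynomial (Fin n) RY) RW RU :=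
    IsScalarTower.of_algebraMap_eq (fun x => hψθ x)
  have hθβ : ∀ x : MvPolynomial (Fin n) A, β x = θ (MvPolynomial.map α x) := by
    intro x
    have : β = θ.comp (MvPolynomial.map α) := by
      apply MvPolynomial.ringHom_ext
      · intro a
        show β (MvPolynomial.C a) = θ (MvPolynomial.map α (MvPolynomial.C a))
        rw [MvPolynomial.map_C, MvPolynomial.eval₂Hom_C]
        exact (RingHom.congr_fun hcomm a).symm
      · intro i
        show β (MvPolynomial.X i) = θ (MvPolynomial.map α (MvPolynomial.X i))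
        rw [MvPolynomial.map_X, MvPolynomial.eval₂Hom_X']
    exact RingHom.congr_fun this x
  haveI tAPW : IsScalarTower (MvPolynomial (Fin n) A) (MvPolynomial (Fin n) RY) RW :=
    IsScalarTower.of_algebraMap_eq (fun x => hθβ x)
  -- localization
  have hle : (p.primeCompl.map (MvPolynomial.C : A →+* MvPolynomial (Fin n) A)) ≤
      Q.primeCompl := by
    rintro _ ⟨a, ha, rfl⟩
    have hu : IsUnit (algebraMap (MvPolynomial (Fin n) A) RW (MvPolynomial.C a)) := by
      show IsUnit (β (MvPolynomial.C a))
      have h0 : β (MvPolynomial.C a) = γ (α a) := (RingHom.congr_fun hcomm a).symm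
      rw [h0]
      exact (IsLocalization.map_units RY (⟨a, ha⟩ : p.primeCompl)).map γ
    exact (IsLocalization.AtPrime.isUnit_to_map_iff RW Q _).1 hu
  haveI hlocP : IsLocalization (p.primeCompl.map (MvPolynomial.C : A →+* MvPolynomial (Fin n) A))
      (MvPolynomial (Fin n) RY) := MvPolynomial.isLocalization p.primeCompl RY
  haveI hloc : IsLocalization (Q.primeCompl.map
      (algebraMap (MvPolynomial (Fin n) A) (MvPolynomial (Fin n) RY))) RW :=
    IsLocalization.isLocalization_of_submonoid_le (MvPolynomial (Fin n) RY) RW _ Q.primeCompl hle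
  haveI hflat : Module.Flat (MvPolynomial (Fin n) RY) RW :=
    IsLocalization.flat RW (Q.primeCompl.map
      (algebraMap (MvPolynomial (Fin n) A) (MvPolynomial (Fin n) RY)))
  -- step 3: base change
  have h2 := hasTorAmplitudeIn_baseChange (A := MvPolynomial (Fin n) RY) (B := RW)
    (-(n : ℤ) - e) 0 RU h1
  haveI hlm : IsLocalizedModule (Q.primeCompl.map
      (algebraMap (MvPolynomial (Fin n) A) (MvPolynomial (Fin n) RY)))
      (LinearMap.id : RU →ₗ[MvPolynomial (Fin n) RY] RU) :=
    isLocalizedModule_id _ RU RW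
  have hbc : IsBaseChange RW (LinearMap.id : RU →ₗ[MvPolynomial (Fin n) RY] RU) :=
    (isLocalizedModule_iff_isBaseChange (Q.primeCompl.map
      (algebraMap (MvPolynomial (Fin n) A) (MvPolynomial (Fin n) RY))) RW _).1 hlm
  have h3 := hasTorAmplitudeIn_of_iso
    ((DerivedCategory.singleFunctor (ModuleCat.{u} RW) 0).mapIso hbc.equiv.toModuleIso) _ _ h2
  have hcast : (-(n : ℤ) - e) = -((e + n : ℕ) : ℤ) := by
    push_cast
    ring
  rw [hcast] at h3
  exact h3

/-- variant with the composite ring map given up to propositional equality -/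
theorem key' {A : Type u} [CommRing A] (n : ℕ) {RY RW RU : Type u} [CommRing RY] [CommRing RW]
    [CommRing RU]
    (α : A →+* RY) (β : MvPolynomial (Fin n) A →+* RW) (γ : RY →+* RW) (δ : RW →+* RU)
    (ε : RY →+* RU) (hε : ε = δ.comp γ)
    (hcomm : γ.comp α = β.comp MvPolynomial.C)
    (p : Ideal A) [p.IsPrime] (hα : letI := α.toAlgebra; IsLocalization.AtPrime RY p)
    (Q : Ideal (MvPolynomial (Fin n) A)) [Q.IsPrime]
    (hβ : letI := β.toAlgebra; IsLocalization.AtPrime RW Q)
    (e : ℕ)
    (h : letI := ε.toAlgebra; HasTorAmplitudeIn RY (-(e : ℤ)) 0 (Dual.inD RY RU)) :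
    letI := δ.toAlgebra
    HasTorAmplitudeIn RW (-((e + n : ℕ) : ℤ)) 0 (Dual.inD RW RU) := by
  subst hε
  exact key n α β γ δ hcomm p hα Q hβ e h

end

end Groth.Agent.Lib.TorDimPolyL
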