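import Mathlib
import Groth.Prelude
import Groth.Agent.Lib.TorAmpPush_lead
import Groth.Agent.Lib.TorDimPoly_lead
import Groth.Agent.Lib.DMod50_helper6

/-!
# Factoring a morphism of finite tor dimension, locally, as a closed immersion of finite tor
dimension into an affine space followed by a smooth morphism (lead)
-/

set_option autoImplicit false
set_option linter.all false
set_option maxHeartbeats 1600000
set_option backward.isDefEq.respectTransparency false
set_option backward.isDefEq.respectTransparency.types false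
set_option backward.defeqAttrib.useBackward true

universe u
open CategoryTheory CategoryTheory.Limits AlgebraicGeometry Opposite TopologicalSpace
attribute [local instance] HasDerivedCategory.standard

namespace Groth.Agent.Lib.TorDimFactorL

open DRing DerSch Groth.Agent.Lib.DMod_helper6 Groth.Agent.Lib.TorAmpCompL
  Groth.Agent.Lib.TorAmpPushL Groth.Agent.Lib.TorDimPolyL

noncomputable section

variable {X Y : Scheme.{u}}

/-- normalise the amplitude of the unit complex at a point -/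
lemma unit_torDim_of_amp (f : X ⟶ Y) (x : X) (a b : ℤ)
    (h : HasTorAmplitudeAt f a b (unitCx X) x) :
    HasTorAmplitudeAt f (-(((-a).toNat : ℕ) : ℤ)) 0 (unitCx X) x := by
  letI := stalkAlgebra f x
  have h1 : HasTorAmplitudeIn (Y.presheaf.stalk (f.base x)) a b
      (Dual.inD (Y.presheaf.stalk (f.base x)) (X.presheaf.stalk x)) :=
    hasTorAmplitudeIn_of_iso (unitIso f x) _ _ h
  have h2 : HasTorDimLE (Y.presheaf.stalk (f.base x)) (-a).toNat (X.presheaf.stalk x) :=
    hasTorDimLE_of_hasTorAmplitudeIn _ a b _ (by omega) h1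
  have h3 := (hasTorDimLE_iff (X.presheaf.stalk x) (-a).toNat).1 h2
  exact hasTorAmplitudeIn_of_iso (unitIso f x).symm _ _ h3

/-- the structure sheaf has tor amplitude `[0, 0]` relative to a flat morphism -/
lemma unit_flat_of_flat (j : X ⟶ Y) [Flat j] (x : X) :
    HasTorAmplitudeAt j 0 0 (unitCx X) x := by
  letI := stalkAlgebra j x
  haveI : Module.Flat (Y.presheaf.stalk (j.base x)) (X.presheaf.stalk x) :=
    (AlgebraicGeometry.Flat.iff_flat_stalkMap (f := j)).1 inferInstance x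
  have h3 := (hasTorAmplitudeIn_zero_zero_iff_flat (A := Y.presheaf.stalk (j.base x))
    (X.presheaf.stalk x)).2 inferInstance
  exact hasTorAmplitudeIn_of_iso (unitIso j x).symm _ _ h3

/-- the stalk map of `Spec P ⟶ Spec Γ(Y, V) ⟶ Y` on germs of sections over `V` -/
lemma stalk_comm {V : Y.Opens} (hV : IsAffineOpen V) {P : CommRingCat.{u}} (c : Γ(Y, V) ⟶ P)
    (w : Spec P) (hy : (Spec.map c ≫ hV.fromSpec).base w ∈ V) (a : Γ(Y, V)) :
    ((Spec.map c ≫ hV.fromSpec).stalkMap w).hom ((Y.presheaf.germ V _ hy).hom a) =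
      (StructureSheaf.toStalk P w).hom (c.hom a) := by
  have hpre : (Spec.map c ≫ hV.fromSpec) ⁻¹ᵁ V = ⊤ := by
    show (Spec.map c) ⁻¹ᵁ (hV.fromSpec ⁻¹ᵁ V) = ⊤
    rw [hV.fromSpec_preimage_self]
    rfl
  have i : (⊤ : (Spec P).Opens) ≤ (Spec.map c ≫ hV.fromSpec) ⁻¹ᵁ V := by
    rw [hpre]
  have happ : (Spec.map c ≫ hV.fromSpec).appLE V ⊤ i = c ≫ (Scheme.ΓSpecIso P).inv := by
    apply Spec.map_injective
    rw [← cancel_mono hV.fromSpec,
      IsAffineOpen.SpecMap_appLE_fromSpec (Spec.map c ≫ hV.fromSpec) hV (isAffineOpen_top _) i,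
      IsAffineOpen.fromSpec_top, Scheme.isoSpec_Spec_inv, Spec.map_comp, Category.assoc]
  have h1 := Scheme.Hom.germ_stalkMap_apply (Spec.map c ≫ hV.fromSpec) V w hy a
  refine h1.trans ?_
  have h2 := TopCat.Presheaf.germ_res_apply (Spec P).presheaf (homOfLE i) w trivial
    ((Spec.map c ≫ hV.fromSpec).app V a)
  refine h2.symm.trans ?_
  have h3 : ((Spec P).presheaf.map (homOfLE i).op).hom ((Spec.map c ≫ hV.fromSpec).app V a) =
      (Scheme.ΓSpecIso P).inv.hom (c.hom a) := by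
    have := congrArg (fun φ => φ.hom a) happ
    exact this
  rw [h3]
  rfl

/-- ring-level key lemma, on stalks -/
theorem torDim_of_comp_affineSpace {T : Scheme.{u}} {V : Y.Opens} (hV : IsAffineOpen V) (n : ℕ)
    (g : T ⟶ Spec (CommRingCat.of (MvPolynomial (Fin n) Γ(Y, V)))) (t : T) (e : ℕ)
    (H : HasTorAmplitudeAt
      (g ≫ Spec.map (CommRingCat.ofHom (MvPolynomial.C : Γ(Y, V) →+* MvPolynomial (Fin n) Γ(Y, V))) ≫
        hV.fromSpec) (-(e : ℤ)) 0 (unitCx T) t) :
    HasTorAmplitudeAt g (-((e + n : ℕ) : ℤ)) 0 (unitCx T) t := by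
  let P : CommRingCat.{u} := CommRingCat.of (MvPolynomial (Fin n) Γ(Y, V))
  let c : Γ(Y, V) ⟶ P := CommRingCat.ofHom MvPolynomial.C
  let h : Spec P ⟶ Y := Spec.map c ≫ hV.fromSpec
  let w : Spec P := g.base t
  have hy : h.base w ∈ V := by
    have hpre : h ⁻¹ᵁ V = ⊤ := by
      show (Spec.map c) ⁻¹ᵁ (hV.fromSpec ⁻¹ᵁ V) = ⊤
      rw [hV.fromSpec_preimage_self]
      rfl
    have : w ∈ h ⁻¹ᵁ V := by
      rw [hpre]
      trivial
    exact this
  have hcomm : ((h.stalkMap w).hom).comp (Y.presheaf.germ V (h.base w) hy).hom =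
      ((StructureSheaf.toStalk (MvPolynomial (Fin n) Γ(Y, V)) w).hom).comp MvPolynomial.C :=
    RingHom.ext (fun a => stalk_comm hV c w hy a)
  have hα := hV.isLocalization_stalk ⟨h.base w, hy⟩
  have hβ := StructureSheaf.IsLocalization.to_stalk (MvPolynomial (Fin n) Γ(Y, V)) w
  letI := stalkAlgebra (g ≫ h) t
  have H1 : HasTorAmplitudeIn (Y.presheaf.stalk ((g ≫ h).base t)) (-(e : ℤ)) 0
      (Dual.inD (Y.presheaf.stalk ((g ≫ h).base t)) (T.presheaf.stalk t)) :=
    hasTorAmplitudeIn_of_iso (unitIso (g ≫ h) t) _ _ H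
  have hε : ((g ≫ h).stalkMap t).hom = ((g.stalkMap t).hom).comp (h.stalkMap w).hom :=
    RingHom.ext (fun r => stalkMap_comp_apply g h t r)
  have K := key' n (Y.presheaf.germ V (h.base w) hy).hom
    (StructureSheaf.toStalk (MvPolynomial (Fin n) Γ(Y, V)) w).hom (h.stalkMap w).hom
    (g.stalkMap t).hom ((g ≫ h).stalkMap t).hom hε hcomm
    (hV.primeIdealOf ⟨h.base w, hy⟩).asIdeal hα
    (PrimeSpectrum.asIdeal (R := MvPolynomial (Fin n) Γ(Y, V)) w) hβ e H1
  exact hasTorAmplitudeIn_of_iso (unitIso g t).symm _ _ K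

/-- S17643 -/
theorem main17643 (f : X ⟶ Y) [LocallyOfFiniteType f] (hf : HasFiniteTorDim f)
    (U : X.Opens) (hU : IsAffineOpen U) (V : Y.Opens) (hV : IsAffineOpen V) (hUV : U ≤ f ⁻¹ᵁ V) :
    ∃ (W : Scheme.{u}) (g : (U : Scheme.{u}) ⟶ W) (h : W ⟶ Y),
      IsClosedImmersion g ∧ HasFiniteTorDim g ∧ Smooth h ∧ g ≫ h = U.ι ≫ f := by
  classical
  have hft : (f.appLE V U hUV).hom.FiniteType := f.finiteType_appLE hV hU hUV
  letI algRA : Algebra Γ(Y, V) Γ(X, U) := (f.appLE V U hUV).hom.toAlgebra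
  haveI hft' : Algebra.FiniteType Γ(Y, V) Γ(X, U) := hft
  obtain ⟨n, π, hπ⟩ := Algebra.FiniteType.iff_quotient_mvPolynomial''.1 hft'
  let P : CommRingCat.{u} := CommRingCat.of (MvPolynomial (Fin n) Γ(Y, V))
  let c : Γ(Y, V) ⟶ P := CommRingCat.ofHom MvPolynomial.C
  let πc : P ⟶ Γ(X, U) := CommRingCat.ofHom π.toRingHom
  have hcπ : c ≫ πc = f.appLE V U hUV := by
    ext a
    exact π.commutes a
  let g : (U : Scheme.{u}) ⟶ Spec P := hU.isoSpec.hom ≫ Spec.map πc
  let h : Spec P ⟶ Y := Spec.map c ≫ hV.fromSpec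
  have hw : g ≫ h = U.ι ≫ f := by
    show (hU.isoSpec.hom ≫ Spec.map πc) ≫ (Spec.map c ≫ hV.fromSpec) = U.ι ≫ f
    rw [Category.assoc, ← Category.assoc (Spec.map πc), ← Spec.map_comp, hcπ,
      IsAffineOpen.SpecMap_appLE_fromSpec f hV hU hUV, ← Category.assoc,
      IsAffineOpen.isoSpec_hom_fromSpec]
  haveI : IsClosedImmersion (Spec.map πc) := IsClosedImmersion.spec_of_surjective πc hπ
  haveI : IsClosedImmersion g := inferInstance
  haveI : Smooth (Spec.map c) := by
    rw [HasRingHomProperty.Spec_iff (P := @Smooth)]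
    have hsm : Algebra.Smooth Γ(Y, V) (MvPolynomial (Fin n) Γ(Y, V)) :=
      ⟨inferInstance, inferInstance⟩
    exact RingHom.smooth_algebraMap.2 hsm
  haveI : Smooth h := inferInstance
  refine ⟨Spec P, g, h, inferInstance, ?_, inferInstance, hw⟩
  obtain ⟨a, b, hab⟩ := hf
  refine ⟨-((((-a).toNat + n : ℕ)) : ℤ), 0, fun u => ?_⟩
  -- tor amplitude of `O_U` relative to `U.ι ≫ f`
  have h1 : HasTorAmplitudeAt f (-(((-a).toNat : ℕ) : ℤ)) 0 (unitCx X) (U.ι.base u) :=
    unit_torDim_of_amp f _ a b (hab _)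
  have h2 : HasTorAmplitudeAt (U.ι ≫ f) (0 - ((-a).toNat : ℕ)) 0 (unitCx (U : Scheme.{u})) u :=
    hasTorAmplitudeAt_comp U.ι f (-a).toNat u h1 (unitCx (U : Scheme.{u})) 0 0
      (unit_flat_of_flat U.ι u)
  have h3 : HasTorAmplitudeAt (g ≫ h) (-(((-a).toNat : ℕ) : ℤ)) 0 (unitCx (U : Scheme.{u})) u := by
    rw [hw]
    rw [zero_sub] at h2
    exact h2
  exact torDim_of_comp_affineSpace hV n g u (-a).toNat h3

end

end Groth.Agent.Lib.TorDimFactorL
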