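import Mathlib
import Groth.Prelude
import Groth.Agent.Lib.TorSmooth1_helper3

/-!
# Tor amplitude over a smooth algebra, part 2: the polynomial step (helper3)

* `PolySES`: for an `A[X]`-module `N` the sequence
  `0 → A[X] ⊗_A N --(X ⊗ 1 - 1 ⊗ X)--> A[X] ⊗_A N --> N → 0` is exact (explicit contraction).
* `hasTorAmplitudeIn_polynomial`: a complex of `A[X]`-modules whose restriction to `A` has tor
  amplitude in `[a, b]` has tor amplitude in `[a - 1, b]` over `A[X]`.
-/

set_option autoImplicit false
set_option linter.all false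
set_option maxHeartbeats 1600000

universe u
open CategoryTheory CategoryTheory.Limits Pretriangulated DerivedCategory ZeroObject
open scoped TensorProduct
open Polynomial
attribute [local instance] HasDerivedCategory.standard

namespace Groth.Agent.Lib.TorSmoothH3.PolySES

noncomputable section

variable {A : Type u} [CommRing A] {N : Type u} [AddCommGroup N] [Module A[X] N] [Module A N]
  [IsScalarTower A A[X] N]

variable (A N) in
/-- multiplication by `X`, as an `A`-linear map -/
def ellX : N →ₗ[A] N := (LinearMap.lsmul A[X] N (X : A[X])).restrictScalars A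

lemma ellX_apply (n : N) : ellX A N n = (X : A[X]) • n := rfl

variable (A N) in
/-- `g k n = ∑_{i+j=k-1} X^i ⊗ X^j n` -/
def gk : ℕ → (N →ₗ[A] A[X] ⊗[A] N)
  | 0 => 0
  | (k+1) => gk k ∘ₗ ellX A N + TensorProduct.mk A A[X] N ((X : A[X])^k)

lemma gk_zero (n : N) : gk A N 0 n = 0 := rfl

lemma gk_succ (k : ℕ) (n : N) :
    gk A N (k+1) n = gk A N k ((X : A[X]) • n) + ((X : A[X])^k) ⊗ₜ[A] n := rfl

variable (A N) in
/-- the bilinear map behind the contraction -/
def rhoBil : A[X] →ₗ[A] N →ₗ[A] A[X] ⊗[A] N :=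
  Polynomial.lsum (fun k => LinearMap.toSpanSingleton A (N →ₗ[A] A[X] ⊗[A] N) (gk A N k))

lemma rhoBil_monomial (k : ℕ) (a : A) (n : N) :
    rhoBil A N (monomial k a) n = a • gk A N k n := by
  unfold rhoBil
  rw [Polynomial.lsum_apply, Polynomial.sum_monomial_index]
  · rfl
  · exact map_zero _

variable (A N) in
/-- the `A`-linear contraction -/
def rho : A[X] ⊗[A] N →ₗ[A] A[X] ⊗[A] N := TensorProduct.lift (rhoBil A N)

lemma rho_monomial_tmul (k : ℕ) (a : A) (n : N) :
    rho A N (monomial k a ⊗ₜ[A] n) = a • gk A N k n := by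
  unfold rho
  rw [TensorProduct.lift.tmul, rhoBil_monomial]

variable (A N) in
/-- `X ⊗ 1 - 1 ⊗ X` -/
def phi : A[X] ⊗[A] N →ₗ[A[X]] A[X] ⊗[A] N :=
  LinearMap.lsmul A[X] (A[X] ⊗[A] N) (X : A[X]) -
    TensorProduct.AlgebraTensorModule.map (LinearMap.id : A[X] →ₗ[A[X]] A[X]) (ellX A N)

lemma phi_tmul (p : A[X]) (n : N) :
    phi A N (p ⊗ₜ[A] n) = ((X : A[X]) * p) ⊗ₜ[A] n - p ⊗ₜ[A] ((X : A[X]) • n) := rfl

variable (A N) in
/-- the multiplication map -/
def mu : A[X] ⊗[A] N →ₗ[A[X]] N :=
  TensorProduct.AlgebraTensorModule.lift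
    ((Algebra.lsmul A[X] A[X] N).toLinearMap.flip.restrictScalars A).flip

lemma mu_tmul (p : A[X]) (n : N) : mu A N (p ⊗ₜ[A] n) = p • n := rfl

lemma mu_phi (z : A[X] ⊗[A] N) : mu A N (phi A N z) = 0 := by
  induction z using TensorProduct.induction_on with
  | zero => rw [map_zero, map_zero]
  | tmul p n => rw [phi_tmul, map_sub, mu_tmul, mu_tmul, mul_smul, smul_comm, sub_self]
  | add z z' hz hz' => rw [map_add, map_add, hz, hz', add_zero]

lemma monomial_tmul (k : ℕ) (a : A) (n : N) :
    (monomial k a : A[X]) ⊗ₜ[A] n = a • (((X : A[X])^k) ⊗ₜ[A] n) := by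
  rw [← Polynomial.smul_X_eq_monomial]
  rfl

lemma phi_smul (a : A) (z : A[X] ⊗[A] N) : phi A N (a • z) = a • phi A N z :=
  LinearMap.map_smul_of_tower _ _ _

lemma mu_smul (a : A) (z : A[X] ⊗[A] N) : mu A N (a • z) = a • mu A N z :=
  LinearMap.map_smul_of_tower _ _ _

lemma rho_phi (z : A[X] ⊗[A] N) : rho A N (phi A N z) = z := by
  induction z using TensorProduct.induction_on with
  | zero => rw [map_zero, map_zero]
  | tmul p n =>
    induction p using Polynomial.induction_on' with
    | add p q hp hq => rw [TensorProduct.add_tmul, map_add, map_add, hp, hq]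
    | monomial k a =>
      rw [phi_tmul, Polynomial.X_mul_monomial, map_sub, rho_monomial_tmul, rho_monomial_tmul,
        gk_succ, smul_add, add_sub_cancel_left, monomial_tmul]
  | add z z' hz hz' => rw [map_add, map_add, hz, hz']

lemma phi_gk (k : ℕ) : ∀ n : N,
    phi A N (gk A N k n) + (1 : A[X]) ⊗ₜ[A] (((X : A[X])^k) • n) = ((X : A[X])^k) ⊗ₜ[A] n := by
  induction k with
  | zero =>
    intro n
    rw [gk_zero, map_zero, zero_add, pow_zero, one_smul]
  | succ k ih =>
    intro n
    rw [gk_succ, map_add, phi_tmul]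
    have h := ih ((X : A[X]) • n)
    rw [pow_succ, mul_smul, add_assoc, add_comm _ ((1 : A[X]) ⊗ₜ[A] _), ← add_assoc, h,
      ← pow_succ, pow_succ']
    abel

lemma phi_rho (z : A[X] ⊗[A] N) :
    phi A N (rho A N z) + (1 : A[X]) ⊗ₜ[A] (mu A N z) = z := by
  induction z using TensorProduct.induction_on with
  | zero => rw [map_zero, map_zero, map_zero, TensorProduct.tmul_zero, add_zero]
  | tmul p n =>
    induction p using Polynomial.induction_on' with
    | add p q hp hq =>
      rw [TensorProduct.add_tmul, map_add, map_add, map_add, TensorProduct.tmul_add,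
        add_add_add_comm, hp, hq]
    | monomial k a =>
      rw [rho_monomial_tmul, phi_smul, monomial_tmul, mu_smul, mu_tmul, TensorProduct.tmul_smul,
        ← smul_add, phi_gk]
  | add z z' hz hz' =>
    rw [map_add, map_add, map_add, TensorProduct.tmul_add, add_add_add_comm, hz, hz']

theorem phi_injective : Function.Injective (phi A N) := by
  intro z z' h
  rw [← rho_phi z, ← rho_phi z', h]

theorem exact_phi_mu : Function.Exact (phi A N) (mu A N) := by
  intro z
  constructor
  · intro hz
    refine ⟨rho A N z, ?_⟩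
    have h := phi_rho z
    rw [hz, TensorProduct.tmul_zero, add_zero] at h
    exact h
  · rintro ⟨w, rfl⟩
    exact mu_phi w

theorem mu_surjective : Function.Surjective (mu A N) := by
  intro n
  exact ⟨(1 : A[X]) ⊗ₜ[A] n, by rw [mu_tmul, one_smul]⟩

end

end Groth.Agent.Lib.TorSmoothH3.PolySES


namespace Groth.Agent.Lib.TorSmoothH3

open DRing Groth.Agent.Lib.DMod_helper6 Groth.Agent.ExtendScalarsLib ChangeOfRings

noncomputable section

section OneVar

variable {A : Type u} [CommRing A]

/-- `A[X] ⊗_A N` as an `A[X]`-module -/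
abbrev EE (N : ModuleCat.{u} A[X]) : ModuleCat.{u} A[X] :=
  (ES A A[X]).obj ((RS (T := A) (S := A[X])).obj N)

/-- `X ⊗ 1 - 1 ⊗ X` -/
def phiHom (N : ModuleCat.{u} A[X]) : EE N ⟶ EE N :=
  (X : A[X]) • 𝟙 _ - (ES A A[X]).map ((RS (T := A) (S := A[X])).map ((X : A[X]) • 𝟙 N))

lemma phiHom_tm (N : ModuleCat.{u} A[X]) (p : A[X]) (n : N) :
    (phiHom N).hom (tm (T := A) N p n) =
      tm (T := A) N ((X : A[X]) * p) n - tm (T := A) N p ((X : A[X]) • n) := rfl

lemma eqv_phiHom (N : ModuleCat.{u} A[X]) (z : EE N) :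
    letI := modT (T := A) N
    haveI := towerT (T := A) N
    eqv (T := A) N ((phiHom N).hom z) = PolySES.phi A N (eqv (T := A) N z) := by
  letI := modT (T := A) N
  haveI := towerT (T := A) N
  obtain ⟨w, rfl⟩ := (eqv (T := A) N).symm.surjective z
  rw [LinearEquiv.apply_symm_apply]
  induction w using TensorProduct.induction_on with
  | zero => rw [map_zero, map_zero, map_zero, map_zero]
  | tmul p n =>
    rw [eqv_symm_tmul, phiHom_tm, map_sub, ← eqv_symm_tmul, ← eqv_symm_tmul,
      LinearEquiv.apply_symm_apply, LinearEquiv.apply_symm_apply, PolySES.phi_tmul]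
  | add w w' hw hw' => rw [map_add, map_add, map_add, map_add, hw, hw']

lemma counit_eq_mu (N : ModuleCat.{u} A[X]) (z : EE N) :
    letI := modT (T := A) N
    haveI := towerT (T := A) N
    ((ModuleCat.extendRestrictScalarsAdj (algebraMap A A[X])).counit.app N).hom z =
      PolySES.mu A N (eqv (T := A) N z) := by
  letI := modT (T := A) N
  haveI := towerT (T := A) N
  obtain ⟨w, rfl⟩ := (eqv (T := A) N).symm.surjective z
  rw [LinearEquiv.apply_symm_apply]
  induction w using TensorProduct.induction_on with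
  | zero => rw [map_zero, map_zero, map_zero]
  | tmul p n => rw [eqv_symm_tmul, counit_tmul, PolySES.mu_tmul]
  | add w w' hw hw' => rw [map_add, map_add, map_add, hw, hw']

lemma phiHom_counit (N : ModuleCat.{u} A[X]) :
    phiHom N ≫ (ModuleCat.extendRestrictScalarsAdj (algebraMap A A[X])).counit.app N = 0 := by
  letI := modT (T := A) N
  haveI := towerT (T := A) N
  apply ModuleCat.hom_ext
  apply LinearMap.ext
  intro z
  show ((ModuleCat.extendRestrictScalarsAdj (algebraMap A A[X])).counit.app N).hom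
    ((phiHom N).hom z) = 0
  rw [counit_eq_mu, eqv_phiHom, PolySES.mu_phi]

/-- the short exact sequence of modules -/
def sesMod (N : ModuleCat.{u} A[X]) : ShortComplex (ModuleCat.{u} A[X]) :=
  ShortComplex.mk (phiHom N)
    ((ModuleCat.extendRestrictScalarsAdj (algebraMap A A[X])).counit.app N) (phiHom_counit N)

lemma sesMod_shortExact (N : ModuleCat.{u} A[X]) : (sesMod N).ShortExact := by
  letI := modT (T := A) N
  haveI := towerT (T := A) N
  refine ShortComplex.ShortExact.mk' ?_ ?_ ?_
  · rw [ShortComplex.moduleCat_exact_iff]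
    intro z hz
    have hz' : ((ModuleCat.extendRestrictScalarsAdj (algebraMap A A[X])).counit.app N).hom z = 0 :=
      hz
    rw [counit_eq_mu] at hz'
    obtain ⟨w, hw⟩ := (PolySES.exact_phi_mu (A := A) (N := N) _).1 hz'
    refine ⟨(eqv (T := A) N).symm w, ?_⟩
    show (phiHom N).hom ((eqv (T := A) N).symm w) = z
    apply (eqv (T := A) N).injective
    rw [eqv_phiHom, LinearEquiv.apply_symm_apply, hw]
  · refine (ModuleCat.mono_iff_injective _).2 (fun z z' hzz' => ?_)
    have h : (phiHom N).hom z = (phiHom N).hom z' := hzz'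
    have h' := congrArg (eqv (T := A) N) h
    rw [eqv_phiHom, eqv_phiHom] at h'
    exact (eqv (T := A) N).injective (PolySES.phi_injective h')
  · refine (ModuleCat.epi_iff_surjective _).2 (fun n => ?_)
    obtain ⟨w, hw⟩ := PolySES.mu_surjective (A := A) (N := N) n
    refine ⟨(eqv (T := A) N).symm w, ?_⟩
    show ((ModuleCat.extendRestrictScalarsAdj (algebraMap A A[X])).counit.app N).hom
      ((eqv (T := A) N).symm w) = n
    rw [counit_eq_mu, LinearEquiv.apply_symm_apply, hw]

/-- restriction of scalars on complexes -/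
abbrev RSc : Cx A[X] ⥤ Cx A :=
  (RS (T := A) (S := A[X])).mapHomologicalComplex (ComplexShape.up ℤ)

/-- extension of scalars on complexes -/
abbrev ESc : Cx A ⥤ Cx A[X] := (ES A A[X]).mapHomologicalComplex (ComplexShape.up ℤ)

/-- `X ⊗ 1 - 1 ⊗ X` on complexes -/
def phiCx (M : Cx A[X]) : ESc.obj (RSc.obj M) ⟶ ESc.obj (RSc.obj M) :=
  (X : A[X]) • 𝟙 _ - ESc.map (RSc.map ((X : A[X]) • 𝟙 M))

lemma phiCx_f (M : Cx A[X]) (i : ℤ) : (phiCx M).f i = phiHom (M.X i) := rfl

lemma phiCx_mulCx (M : Cx A[X]) : phiCx M ≫ mulCx (T := A) M = 0 := by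
  apply HomologicalComplex.hom_ext
  intro i
  exact phiHom_counit (M.X i)

/-- the short exact sequence of complexes -/
def sesCx (M : Cx A[X]) : ShortComplex (Cx A[X]) :=
  ShortComplex.mk (phiCx M) (mulCx (T := A) M) (phiCx_mulCx M)

lemma sesCx_shortExact (M : Cx A[X]) : (sesCx M).ShortExact :=
  HomologicalComplex.shortExact_of_degreewise_shortExact _ (fun i => sesMod_shortExact (M.X i))

/-- **the one-variable polynomial step** -/
theorem hasTorAmplitudeIn_polynomial (M : Cx A[X]) (a b : ℤ)
    (h : HasTorAmplitudeIn A a b (toD (RSc.obj M))) :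
    HasTorAmplitudeIn A[X] (a - 1) b (toD M) := by
  have hE : HasTorAmplitudeIn A[X] a b (toD (ESc.obj (RSc.obj M))) :=
    hasTorAmplitudeIn_flatBaseChange (S := A[X]) _ a b h
  have hT := DerivedCategory.triangleOfSES_distinguished (sesCx_shortExact M)
  exact hasTorAmplitudeIn_cone _ hT (a - 1) b
    (hasTorAmplitudeIn_mono _ a b _ _ (by omega) (by omega) hE)
    (hasTorAmplitudeIn_mono _ a b _ _ (by omega) (by omega) hE)

end OneVar

end

end Groth.Agent.Lib.TorSmoothH3
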