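import Mathlib
import Groth.Prelude
import Groth.Agent.Lib.TorSmooth2_helper3

/-!
# Tor amplitude over a smooth algebra, part 3: several variables, and the ring-level theorem (helper3)

* `hasTorAmplitudeIn_mvPolynomial`: a complex of `R[x_1..x_n]`-modules whose restriction to `R` has
  tor amplitude in `[a, b]` has tor amplitude in `[a - n, b]` over `R[x_1..x_n]`.
* `hasTorAmplitudeIn_of_unramified_over_mvPolynomial`: the same over any `S` which is flat, formally
  unramified and essentially of finite type over `R[x_1..x_n]`.
-/

set_option autoImplicit false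
set_option linter.all false
set_option maxHeartbeats 1600000

universe u
open CategoryTheory CategoryTheory.Limits Pretriangulated DerivedCategory ZeroObject
open scoped TensorProduct
open Polynomial
attribute [local instance] HasDerivedCategory.standard

namespace Groth.Agent.Lib.TorSmoothH3

open DRing Groth.Agent.Lib.DMod_helper6

noncomputable section

/-- restriction of scalars on complexes -/
abbrev RC (T S : Type u) [CommRing T] [CommRing S] [Algebra T S] : Cx S ⥤ Cx T :=
  (RS (T := T) (S := S)).mapHomologicalComplex (ComplexShape.up ℤ)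

section Tower

variable (R C T : Type u) [CommRing R] [CommRing C] [CommRing T] [Algebra R C] [Algebra C T]
  [Algebra R T] [IsScalarTower R C T]

/-- restriction of scalars in two steps, on complexes -/
def rsCompIso (M : Cx T) : (RC R T).obj M ≅ (RC R C).obj ((RC C T).obj M) :=
  HomologicalComplex.Hom.isoOfComponents
    (fun i => (ModuleCat.restrictScalarsComp'.{u} (algebraMap R C) (algebraMap C T)
      (algebraMap R T) (IsScalarTower.algebraMap_eq R C T)).app (M.X i))
    (fun i j _ => ((ModuleCat.restrictScalarsComp'.{u} (algebraMap R C) (algebraMap C T)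
      (algebraMap R T) (IsScalarTower.algebraMap_eq R C T)).hom.naturality (M.d i j)).symm)

lemma hasTorAmplitudeIn_rc_rc_iff (M : Cx T) (a b : ℤ) :
    HasTorAmplitudeIn R a b (toD ((RC R C).obj ((RC C T).obj M))) ↔
      HasTorAmplitudeIn R a b (toD ((RC R T).obj M)) :=
  ⟨fun h => hasTorAmplitudeIn_of_iso (Q.mapIso (rsCompIso R C T M)).symm a b h,
    fun h => hasTorAmplitudeIn_of_iso (Q.mapIso (rsCompIso R C T M)) a b h⟩

end Tower

section Surj

variable {T S : Type u} [CommRing T] [CommRing S] [Algebra T S]

/-- along a flat surjective ring map, tor amplitude can be checked after restriction -/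
theorem hasTorAmplitudeIn_of_surjective_of_flat [Module.Flat T S]
    (hs : Function.Surjective (algebraMap T S)) (M : Cx S) (a b : ℤ)
    (h : HasTorAmplitudeIn T a b (toD ((RC T S).obj M))) : HasTorAmplitudeIn S a b (toD M) := by
  haveI : Algebra.FormallyUnramified T S :=
    Algebra.FormallyUnramified.of_surjective (Algebra.ofId T S) hs
  haveI : Algebra.FiniteType T S := Algebra.FiniteType.of_surjective (Algebra.ofId T S) hs
  exact hasTorAmplitudeIn_of_unramified (T := T) M a b h

end Surj

section Mv

/-- **the polynomial step in several variables** -/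
theorem hasTorAmplitudeIn_mvPolynomial (n : ℕ) : ∀ (R : Type u) [CommRing R]
    (M : Cx (MvPolynomial (Fin n) R)) (a b : ℤ),
    HasTorAmplitudeIn R a b (toD ((RC R (MvPolynomial (Fin n) R)).obj M)) →
      HasTorAmplitudeIn (MvPolynomial (Fin n) R) (a - n) b (toD M) := by
  induction n with
  | zero =>
    intro R _ M a b h
    rw [Nat.cast_zero, sub_zero]
    exact hasTorAmplitudeIn_of_surjective_of_flat (MvPolynomial.C_surjective (Fin 0)) M a b h
  | succ n ih =>
    intro R _ M a b h
    let C := MvPolynomial (Fin n) R
    let T' := MvPolynomial (Fin (n + 1)) R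
    let e : T' ≃ₐ[R] C[X] := MvPolynomial.finSuccEquiv R n
    letI algPT : Algebra C[X] T' := (e.symm : C[X] →+* T').toAlgebra
    letI algCT : Algebra C T' := ((e.symm : C[X] →+* T').comp (algebraMap C C[X])).toAlgebra
    haveI tow1 : IsScalarTower C C[X] T' := IsScalarTower.of_algebraMap_eq (fun c => rfl)
    haveI tow2 : IsScalarTower R C[X] T' := IsScalarTower.of_algebraMap_eq (fun r => by
      show algebraMap R T' r = e.symm (algebraMap R C[X] r)
      exact (e.symm.commutes r).symm)
    haveI tow3 : IsScalarTower R C T' := IsScalarTower.of_algebraMap_eq (fun r => by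
      show algebraMap R T' r = e.symm (algebraMap C C[X] (algebraMap R C r))
      rw [← IsScalarTower.algebraMap_apply R C C[X]]
      exact (e.symm.commutes r).symm)
    -- restrict to `C`
    have h1 : HasTorAmplitudeIn R a b (toD ((RC R C).obj ((RC C T').obj M))) :=
      (hasTorAmplitudeIn_rc_rc_iff R C T' M a b).2 h
    have h2 : HasTorAmplitudeIn C (a - n) b (toD ((RC C T').obj M)) := ih R _ a b h1
    have h3 : HasTorAmplitudeIn C (a - n) b (toD ((RC C C[X]).obj ((RC C[X] T').obj M))) :=
      (hasTorAmplitudeIn_rc_rc_iff C C[X] T' M (a - n) b).2 h2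
    have h4 : HasTorAmplitudeIn C[X] (a - n - 1) b (toD ((RC C[X] T').obj M)) :=
      hasTorAmplitudeIn_polynomial _ (a - n) b h3
    -- back to `T'`
    have hsurj : Function.Surjective (algebraMap C[X] T') := e.symm.surjective
    let l : T' ≃ₗ[C[X]] C[X] :=
      { e.toLinearEquiv.toAddEquiv with
        map_smul' := fun p t => by
          show e ((e.symm p) * t) = p * e t
          rw [map_mul, AlgEquiv.apply_symm_apply] }
    haveI : Module.Flat C[X] T' := Module.Flat.of_linearEquiv l
    have h5 := hasTorAmplitudeIn_of_surjective_of_flat hsurj M (a - n - 1) b h4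
    have hcast : a - ((n + 1 : ℕ) : ℤ) = a - n - 1 := by push_cast; ring
    rw [hcast]
    exact h5

end Mv

section Main

variable {R S : Type u} [CommRing R] [CommRing S] [Algebra R S]

/-- **Tor amplitude over an algebra which is unramified and flat over a polynomial algebra**
(in particular over a standard smooth algebra of relative dimension `n`, or a localization of
such). -/
theorem hasTorAmplitudeIn_of_unramified_over_mvPolynomial (n : ℕ)
    [Algebra (MvPolynomial (Fin n) R) S] [IsScalarTower R (MvPolynomial (Fin n) R) S]
    [Module.Flat (MvPolynomial (Fin n) R) S]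
    [Algebra.FormallyUnramified (MvPolynomial (Fin n) R) S]
    [Algebra.EssFiniteType (MvPolynomial (Fin n) R) S] (M : Cx S) (a b : ℤ)
    (h : HasTorAmplitudeIn R a b (toD ((RC R S).obj M))) :
    HasTorAmplitudeIn S (a - n) b (toD M) := by
  have h1 := (hasTorAmplitudeIn_rc_rc_iff R (MvPolynomial (Fin n) R) S M a b).2 h
  have h2 := hasTorAmplitudeIn_mvPolynomial n R _ a b h1
  exact hasTorAmplitudeIn_of_unramified (T := MvPolynomial (Fin n) R) M (a - n) b h2

end Main

end

end Groth.Agent.Lib.TorSmoothH3
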