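import Mathlib
import Groth.Prelude
import Groth.Agent.Lib.TorSmooth3_helper3

/-!
# Tor amplitude over a smooth algebra, part 4: local rings of a standard smooth algebra (helper3)

`exists_mvPolynomial_unramified`: for a standard smooth ring map `A → B` of relative dimension `n`
and localizations `R = A_p`, `S = B_q` with a compatible map `R → S`, there is a ring map
`R[x_1..x_n] → S` extending `R → S` which is flat, formally unramified and essentially of finite type.
-/

set_option autoImplicit false
set_option linter.all false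
set_option maxHeartbeats 1600000

universe u
open CategoryTheory CategoryTheory.Limits
open scoped TensorProduct
attribute [local instance] HasDerivedCategory.standard

namespace Groth.Agent.Lib.TorSmoothH3

open DRing Groth.Agent.Lib.DMod_helper6

noncomputable section

attribute [local instance] MvPolynomial.algebraMvPolynomial

theorem exists_mvPolynomial_unramified {A B R S : Type u} [CommRing A] [CommRing B] [CommRing R]
    [CommRing S] (n : ℕ) (φ : A →+* B) (hφ : φ.IsStandardSmoothOfRelativeDimension n)
    (α : A →+* R) (β : B →+* S) (σ : R →+* S) (hcomm : σ.comp α = β.comp φ)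
    (p : Ideal A) [p.IsPrime] (hα : letI := α.toAlgebra; IsLocalization.AtPrime R p)
    (q : Ideal B) [q.IsPrime] (hβ : letI := β.toAlgebra; IsLocalization.AtPrime S q) :
    ∃ ψ : MvPolynomial (Fin n) R →+* S, ψ.comp MvPolynomial.C = σ ∧
      (letI := ψ.toAlgebra
       Module.Flat (MvPolynomial (Fin n) R) S ∧
        Algebra.FormallyUnramified (MvPolynomial (Fin n) R) S ∧
        Algebra.EssFiniteType (MvPolynomial (Fin n) R) S) := by
  obtain ⟨θ, hθC, hθ⟩ := hφ.exists_etale_mvPolynomial
  let ψ : MvPolynomial (Fin n) R →+* S :=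
    MvPolynomial.eval₂Hom σ (fun i => β (θ (MvPolynomial.X i)))
  have hψC : ψ.comp MvPolynomial.C = σ := by
    ext r
    show MvPolynomial.eval₂Hom σ _ (MvPolynomial.C r) = σ r
    rw [MvPolynomial.eval₂Hom_C]
  have hψ : ψ.comp (MvPolynomial.map α) = β.comp θ := by
    apply MvPolynomial.ringHom_ext
    · intro a
      show ψ (MvPolynomial.map α (MvPolynomial.C a)) = β (θ (MvPolynomial.C a))
      rw [MvPolynomial.map_C]
      have h1 : ψ (MvPolynomial.C (α a)) = σ (α a) := MvPolynomial.eval₂Hom_C _ _ _
      have h2 : θ (MvPolynomial.C a) = φ a := by rw [← hθC]; rfl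
      have h3 : σ (α a) = β (φ a) := congrArg (fun g : A →+* S => g a) hcomm
      rw [h1, h2, h3]
    · intro i
      show ψ (MvPolynomial.map α (MvPolynomial.X i)) = β (θ (MvPolynomial.X i))
      rw [MvPolynomial.map_X]
      exact MvPolynomial.eval₂Hom_X' _ _ _
  refine ⟨ψ, hψC, ?_⟩
  letI algAR : Algebra A R := α.toAlgebra
  letI algPS : Algebra (MvPolynomial (Fin n) R) S := ψ.toAlgebra
  letI algPB : Algebra (MvPolynomial (Fin n) A) B := θ.toAlgebra
  letI algBS : Algebra B S := β.toAlgebra
  letI algPAS : Algebra (MvPolynomial (Fin n) A) S := (β.comp θ).toAlgebra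
  haveI tow1 : IsScalarTower (MvPolynomial (Fin n) A) B S :=
    IsScalarTower.of_algebraMap_eq (fun _ => rfl)
  haveI tow2 : IsScalarTower (MvPolynomial (Fin n) A) (MvPolynomial (Fin n) R) S :=
    IsScalarTower.of_algebraMap_eq (fun z => by
      show β (θ z) = ψ (MvPolynomial.map α z)
      exact (congrArg (fun g : MvPolynomial (Fin n) A →+* S => g z) hψ).symm)
  haveI etB : Algebra.Etale (MvPolynomial (Fin n) A) B := hθ
  haveI locS : IsLocalization.AtPrime S q := hβ
  haveI locR : IsLocalization p.primeCompl R := hα
  haveI locP : IsLocalization (p.primeCompl.map (MvPolynomial.C (σ := Fin n)))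
      (MvPolynomial (Fin n) R) := MvPolynomial.isLocalization p.primeCompl R
  -- unramified
  haveI : Algebra.FormallyUnramified B S := Algebra.FormallyUnramified.of_isLocalization q.primeCompl
  haveI : Algebra.FormallyUnramified (MvPolynomial (Fin n) A) S :=
    Algebra.FormallyUnramified.comp (MvPolynomial (Fin n) A) B S
  haveI unr : Algebra.FormallyUnramified (MvPolynomial (Fin n) R) S :=
    Algebra.FormallyUnramified.of_restrictScalars (MvPolynomial (Fin n) A)
      (MvPolynomial (Fin n) R) S
  -- essentially of finite type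
  haveI : Algebra.EssFiniteType B S := Algebra.EssFiniteType.of_isLocalization S q.primeCompl
  haveI : Algebra.EssFiniteType (MvPolynomial (Fin n) A) S :=
    Algebra.EssFiniteType.comp (MvPolynomial (Fin n) A) B S
  haveI eft : Algebra.EssFiniteType (MvPolynomial (Fin n) R) S :=
    Algebra.EssFiniteType.of_comp (MvPolynomial (Fin n) A) (MvPolynomial (Fin n) R) S
  -- flat
  haveI : Module.Flat B S := IsLocalization.flat S q.primeCompl
  haveI : Module.Flat (MvPolynomial (Fin n) A) S := Module.Flat.trans (MvPolynomial (Fin n) A) B S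
  have fl : Module.Flat (MvPolynomial (Fin n) R) S :=
    (Module.flat_iff_of_isLocalization (MvPolynomial (Fin n) R)
      (p.primeCompl.map (MvPolynomial.C (σ := Fin n))) S).2 inferInstance
  exact ⟨fl, unr, eft⟩

/-- **ring-level main theorem, in `RingHom` form**: `R → S` local rings of a standard smooth map
of relative dimension `n`; a complex of `S`-modules whose restriction to `R` has tor amplitude in
`[a, b]` has tor amplitude in `[a - n, b]` over `S`. -/
theorem hasTorAmplitudeIn_of_standardSmooth_local {A B R S : Type u} [CommRing A] [CommRing B]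
    [CommRing R] [CommRing S] (n : ℕ) (φ : A →+* B)
    (hφ : φ.IsStandardSmoothOfRelativeDimension n)
    (α : A →+* R) (β : B →+* S) (σ : R →+* S) (hcomm : σ.comp α = β.comp φ)
    (p : Ideal A) [p.IsPrime] (hα : letI := α.toAlgebra; IsLocalization.AtPrime R p)
    (q : Ideal B) [q.IsPrime] (hβ : letI := β.toAlgebra; IsLocalization.AtPrime S q)
    (M : Cx S) (a b : ℤ)
    (h : HasTorAmplitudeIn R a b
      (toD (((ModuleCat.restrictScalars.{u} σ).mapHomologicalComplex (ComplexShape.up ℤ)).obj M))) :
    HasTorAmplitudeIn S (a - n) b (toD M) := by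
  obtain ⟨ψ, hψC, hψ⟩ := exists_mvPolynomial_unramified n φ hφ α β σ hcomm p hα q hβ
  letI algRS : Algebra R S := σ.toAlgebra
  letI algPS : Algebra (MvPolynomial (Fin n) R) S := ψ.toAlgebra
  haveI tow : IsScalarTower R (MvPolynomial (Fin n) R) S :=
    IsScalarTower.of_algebraMap_eq (fun r => by
      show σ r = ψ (MvPolynomial.C r)
      rw [← hψC]; rfl)
  obtain ⟨fl, unr, eft⟩ := hψ
  haveI := fl
  haveI := unr
  haveI := eft
  exact hasTorAmplitudeIn_of_unramified_over_mvPolynomial n M a b h

end

end Groth.Agent.Lib.TorSmoothH3
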