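import Mathlib
import Groth.Prelude
import Groth.Agent.Lib.TorSmooth4_helper3
import Groth.Agent.Lib.TorAmpRel3_helper3
import Groth.Agent.Lib.TorDimFactor_lead

/-!
# Tor amplitude over a smooth algebra, part 5: schemes (helper3)

`i : X ⟶ X'`, `f' : X' ⟶ Y` smooth of relative dimension `n` near `i x`: if `F` has tor amplitude in
`[a, b]` at `x` relative to `i ≫ f'`, then it has tor amplitude in `[a - n, b]` at `x` relative to `i`.
-/

set_option autoImplicit false
set_option linter.all false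
set_option maxHeartbeats 1600000
set_option backward.isDefEq.respectTransparency false
set_option backward.isDefEq.respectTransparency.types false
set_option backward.defeqAttrib.useBackward true

universe u
open CategoryTheory CategoryTheory.Limits AlgebraicGeometry Opposite TopologicalSpace
attribute [local instance] HasDerivedCategory.standard

namespace Groth.Agent.Lib.TorSmoothH3

open DRing DerSch Groth.Agent.Lib.DMod_helper6 Groth.Agent.Lib.TorAmpCompL
  Groth.Agent.Lib.TorAmpRelH3 Groth.Agent.Lib.TorDimFactorL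

noncomputable section

variable {X X' Y : Scheme.{u}}

/-- chart form -/
theorem hasTorAmplitudeAt_of_comp_chart (i : X ⟶ X') (f' : X' ⟶ Y) (n : ℕ)
    (F : CochainComplex X.Modules ℤ) (a b : ℤ) (x : X)
    {U : Y.Opens} (hU : IsAffineOpen U) {W : X'.Opens} (hW : IsAffineOpen W)
    (hxW : i.base x ∈ W) (e : W ≤ f' ⁻¹ᵁ U)
    (hstd : RingHom.IsStandardSmoothOfRelativeDimension n (f'.appLE U W e).hom)
    (h : HasTorAmplitudeAt (i ≫ f') a b F x) : HasTorAmplitudeAt i (a - n) b F x := by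
  have hyU : f'.base (i.base x) ∈ U := e hxW
  let α : Γ(Y, U) →+* Y.presheaf.stalk (f'.base (i.base x)) := (Y.presheaf.germ U _ hyU).hom
  let β : Γ(X', W) →+* X'.presheaf.stalk (i.base x) := (X'.presheaf.germ W _ hxW).hom
  let σ : Y.presheaf.stalk (f'.base (i.base x)) →+* X'.presheaf.stalk (i.base x) :=
    (f'.stalkMap (i.base x)).hom
  have hcomm : σ.comp α = β.comp (f'.appLE U W e).hom := by
    have h1 := f'.germ_stalkMap U (i.base x) hyU
    have h2 : f'.appLE U W e ≫ X'.presheaf.germ W _ hxW =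
        f'.app U ≫ X'.presheaf.germ (f' ⁻¹ᵁ U) _ hyU := by
      rw [Scheme.Hom.appLE, Category.assoc, X'.presheaf.germ_res]
    have h3 : Y.presheaf.germ U _ hyU ≫ f'.stalkMap (i.base x) =
        f'.appLE U W e ≫ X'.presheaf.germ W _ hxW := by rw [h1, h2]
    ext r
    exact congrArg (fun g => g.hom r) h3
  have hα := hU.isLocalization_stalk ⟨_, hyU⟩
  have hβ := hW.isLocalization_stalk ⟨_, hxW⟩
  have h' := hasTorAmplitudeIn_of_iso (DerivedCategory.Q.mapIso (compCxIso i f' x F)).symm a b h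
  exact hasTorAmplitudeIn_of_standardSmooth_local n _ hstd α β σ hcomm _ hα _ hβ _ a b h'

/-- global form -/
theorem hasTorAmplitudeAt_of_comp_smooth (i : X ⟶ X') (f' : X' ⟶ Y) (n : ℕ)
    [SmoothOfRelativeDimension n f'] (F : CochainComplex X.Modules ℤ) (a b : ℤ) (x : X)
    (h : HasTorAmplitudeAt (i ≫ f') a b F x) : HasTorAmplitudeAt i (a - n) b F x := by
  obtain ⟨U, hU, W, hW, hxW, e, hstd⟩ :=
    SmoothOfRelativeDimension.exists_isStandardSmoothOfRelativeDimension (n := n) (f := f')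
      (i.base x)
  exact hasTorAmplitudeAt_of_comp_chart i f' n F a b x hU hW hxW e hstd h

/-- the converse of restriction -/
theorem hasTorAmplitudeAt_of_restrict {U' : Scheme.{u}} (j : U' ⟶ X) [IsOpenImmersion j]
    (f : X ⟶ Y) (u : U') (F : CochainComplex X.Modules ℤ) (a b : ℤ)
    (h : HasTorAmplitudeAt (j ≫ f) a b
      (((Scheme.Modules.restrictFunctor j).mapHomologicalComplex (ComplexShape.up ℤ)).obj F) u) :
    HasTorAmplitudeAt f a b F (j.base u) :=
  hasTorAmplitudeIn_of_iso (DerivedCategory.Q.mapIso (restrStalkCxOverIso j f u F)) a b h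

/-- composing with an open immersion on the base -/
theorem hasTorAmplitudeAt_comp_openImmersion {V' : Scheme.{u}} (f₁ : X ⟶ V') (ι : V' ⟶ Y)
    [IsOpenImmersion ι] (F : CochainComplex X.Modules ℤ) (a b : ℤ) (x : X)
    (h : HasTorAmplitudeAt f₁ a b F x) : HasTorAmplitudeAt (f₁ ≫ ι) a b F x := by
  have h1 := hasTorAmplitudeAt_comp f₁ ι 0 x (unit_flat_of_flat ι (f₁.base x)) F a b h
  simpa using h1

/-- local form -/
theorem hasTorAmplitudeAt_of_comp_smooth_near (i : X ⟶ X') (f' : X' ⟶ Y) (n : ℕ)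
    (V : X'.Opens) [SmoothOfRelativeDimension n (V.ι ≫ f')]
    (F : CochainComplex X.Modules ℤ) (a b : ℤ) (x : X) (hxV : i.base x ∈ V)
    (h : HasTorAmplitudeAt (i ≫ f') a b F x) : HasTorAmplitudeAt i (a - n) b F x := by
  let u : ↥(i ⁻¹ᵁ V) := ⟨x, hxV⟩
  have h1 := hasTorAmplitudeAt_restrict (i ⁻¹ᵁ V).ι (i ≫ f') u F a b h
  have e1 : (i ⁻¹ᵁ V).ι ≫ i ≫ f' = (i ∣_ V) ≫ (V.ι ≫ f') := by
    rw [← Category.assoc, ← morphismRestrict_ι, Category.assoc]
  rw [e1] at h1
  have h2 := hasTorAmplitudeAt_of_comp_smooth (i ∣_ V) (V.ι ≫ f') n _ a b u h1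
  have h3 := hasTorAmplitudeAt_comp_openImmersion (i ∣_ V) V.ι _ (a - n) b u h2
  rw [morphismRestrict_ι] at h3
  exact hasTorAmplitudeAt_of_restrict (i ⁻¹ᵁ V).ι i u F (a - n) b h3

end

end Groth.Agent.Lib.TorSmoothH3
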