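import Mathlib
import Groth.Prelude
import Groth.Agent.Lib.RelTildeAmp3_helper3
import Groth.Agent.Lib.TorSmooth5_helper3
import Groth.Agent.Lib.FpqcPC_helper3
import Groth.Agent.Lib.PerfFlat2_lead

/-!
# Relative perfectness in affine charts (helper3)

For `f : X ⟶ S`, affine opens `U ⊆ X`, `V ⊆ S` with `f(U) ⊆ V`, the chart morphism is
`g = Spec (Γ(S, V) → Γ(X, U))`, and `E|_U` is transported to `Spec Γ(X, U)`.

* `torAmpAt_chart_iff`: stalkwise tor amplitude of `F` at a point of `U` relative to `f` is the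
  stalkwise tor amplitude of the transported complex relative to `g`.
* `locRelTor_chart_iff`: `LocHasFiniteRelTorDim g (E|_U)` iff `F` is locally of finite tor
  amplitude relative to `f` at the points of `U`.
* `isPC_chart`, `isPC_of_charts`: pseudo-coherence in charts.
-/

set_option autoImplicit false
set_option linter.all false
set_option maxHeartbeats 1600000
set_option backward.isDefEq.respectTransparency false
set_option backward.isDefEq.respectTransparency.types false
set_option backward.defeqAttrib.useBackward true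

universe u
open CategoryTheory CategoryTheory.Limits AlgebraicGeometry Opposite TopologicalSpace
attribute [local instance] HasDerivedCategory.standard

namespace Groth.Agent.Lib.RelPerfLocH3

open DRing DerSch Groth.Agent.Lib.DMod_helper6 Groth.Agent.Lib.DCohLocLead
  Groth.Agent.Lib.TorAmpRelH3 Groth.Agent.Lib.TorSmoothH3 DerivedCategory

noncomputable section

variable {X S : Scheme.{u}} (f : X ⟶ S)

section Chart

variable (U : X.Opens) (hU : IsAffineOpen U) (V : S.Opens) (hV : IsAffineOpen V)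
  (hUV : U ≤ f ⁻¹ᵁ V)

include hU hV

/-- the chart morphism -/
abbrev gC : Spec Γ(X, U) ⟶ Spec Γ(S, V) := Spec.map (f.appLE V U hUV)

/-- the restriction of a complex to the chart -/
abbrev FC (F : CochainComplex X.Modules ℤ) : CochainComplex (Spec Γ(X, U)).Modules ℤ :=
  (RC hU.isoSpec.inv).obj ((RC U.ι).obj F)

/-- the restriction of an object of the derived category to the chart -/
abbrev EC (E : DCoh.D X) : DCoh.D (Spec Γ(X, U)) :=
  (DCoh.restrictD hU.isoSpec.inv).obj ((DCoh.restrictD U.ι).obj E)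

lemma chart_comm : gC f U V hUV ≫ hV.fromSpec = hU.isoSpec.inv ≫ U.ι ≫ f := by
  have h := IsAffineOpen.SpecMap_appLE_fromSpec f hV hU hUV
  rw [h]
  show (hU.isoSpec.inv ≫ U.ι) ≫ f = _
  rw [Category.assoc]

lemma flat_gC [Flat f] : Flat (gC f U V hUV) :=
  Flat.SpecMap_iff.mpr (f.flat_appLE hV hU hUV)

theorem torAmpAt_chart_iff (F : CochainComplex X.Modules ℤ) (a b : ℤ) (y : Spec Γ(X, U)) :
    HasTorAmplitudeAt (gC f U V hUV) a b (FC U hU F) y ↔
      HasTorAmplitudeAt f a b F (U.ι.base (hU.isoSpec.inv.base y)) := by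
  constructor
  · intro h
    have h1 := hasTorAmplitudeAt_comp_openImmersion (gC f U V hUV) hV.fromSpec _ a b y h
    rw [chart_comm f U hU V hV hUV] at h1
    have h2 := hasTorAmplitudeAt_of_restrict hU.isoSpec.inv (U.ι ≫ f) y _ a b h1
    exact hasTorAmplitudeAt_of_restrict U.ι f _ F a b h2
  · intro h
    have h2 := hasTorAmplitudeAt_restrict U.ι f (hU.isoSpec.inv.base y) F a b h
    have h1 := hasTorAmplitudeAt_restrict hU.isoSpec.inv (U.ι ≫ f) y _ a b h2
    rw [← chart_comm f U hU V hV hUV] at h1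
    exact hasTorAmplitudeAt_of_comp_openImmersion (gC f U V hUV) hV.fromSpec _ a b y h1

omit hV in
lemma fromSpec_apply (y : Spec Γ(X, U)) :
    hU.fromSpec.base y = U.ι.base (hU.isoSpec.inv.base y) := rfl

omit hV in
lemma exists_fromSpec_eq (x : X) (hx : x ∈ U) : ∃ y : Spec Γ(X, U), hU.fromSpec.base y = x := by
  have h : x ∈ Set.range hU.fromSpec.base := by
    rw [hU.range_fromSpec]
    exact hx
  exact h

omit hV in
lemma fromSpec_mem (y : Spec Γ(X, U)) : hU.fromSpec.base y ∈ U := by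
  have h : hU.fromSpec.base y ∈ Set.range hU.fromSpec.base := ⟨y, rfl⟩
  rw [hU.range_fromSpec] at h
  exact h

omit hU hV in
/-- locally finite tor amplitude at the points of `U` -/
def LocTorOn (F : CochainComplex X.Modules ℤ) : Prop :=
  ∀ x : X, x ∈ U → ∃ (W : X.Opens) (a b : ℤ), x ∈ W ∧
    ∀ x' : X, x' ∈ W → HasTorAmplitudeAt f a b F x'

theorem locFinTor_chart_iff (F : CochainComplex X.Modules ℤ) :
    LocFiniteTorAmplitude (gC f U V hUV) (FC U hU F) ↔ LocTorOn f U F := by
  constructor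
  · intro h x hx
    obtain ⟨y, rfl⟩ := exists_fromSpec_eq U hU x hx
    obtain ⟨W', a, b, hyW', hW'⟩ := h y
    refine ⟨hU.fromSpec ''ᵁ W', a, b, ⟨y, hyW', rfl⟩, ?_⟩
    rintro x' ⟨y', hy', rfl⟩
    exact (torAmpAt_chart_iff f U hU V hV hUV F a b y').1 (hW' y' hy')
  · intro h y
    obtain ⟨W, a, b, hxW, hW⟩ := h (hU.fromSpec.base y) (fromSpec_mem U hU y)
    refine ⟨hU.fromSpec ⁻¹ᵁ W, a, b, hxW, fun y' hy' => ?_⟩
    exact (torAmpAt_chart_iff f U hU V hV hUV F a b y').2 (hW _ hy')

omit hV in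
/-- the chart restriction of a representative represents the chart restriction -/
def ecIso (E : DCoh.D X) (F : CochainComplex X.Modules ℤ) (e : DCoh.toD X F ≅ E) :
    DCoh.toD (Spec Γ(X, U)) (FC U hU F) ≅ EC U hU E :=
  (facIso hU.isoSpec.inv ((RC U.ι).obj F)).symm ≪≫
    (DD hU.isoSpec.inv).mapIso ((facIso U.ι F).symm ≪≫ (DD U.ι).mapIso e)

theorem locRelTor_chart_iff [Flat f] (E : DCoh.D X) (F : CochainComplex X.Modules ℤ)
    (e : DCoh.toD X F ≅ E) :
    DCoh.LocHasFiniteRelTorDim (gC f U V hUV) (EC U hU E) ↔ LocTorOn f U F := by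
  haveI := flat_gC f U hU V hV hUV
  rw [Groth.Agent.Lib.RelFlatAmpH3.locHasFiniteRelTorDim_iff' (gC f U V hUV) _ (FC U hU F)
    (ecIso U hU E F e)]
  exact locFinTor_chart_iff f U hU V hV hUV F

omit hU hV in
/-- `LocHasFiniteRelTorDim` only depends on the isomorphism class -/
theorem locRelTor_of_iso {Y T : Scheme.{u}} (g : Y ⟶ T) {K K' : DCoh.D Y} (e : K ≅ K')
    (h : DCoh.LocHasFiniteRelTorDim g K) : DCoh.LocHasFiniteRelTorDim g K' := by
  intro x
  obtain ⟨W, a, b, hxW, hW⟩ := h x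
  exact ⟨W, a, b, hxW, fun F' hF' => hW F' ⟨hF'.some ≪≫ e.symm⟩⟩

omit hV in
/-- pseudo-coherence passes to charts -/
theorem isPC_chart (E : DCoh.D X) (m : ℤ) (h : DCoh.IsPseudoCoherentD m E) :
    DCoh.IsPseudoCoherentD m (EC U hU E) :=
  isPC_restrict (isPC_restrict h U.ι) hU.isoSpec.inv

end Chart

/-- global from local -/
theorem locFinTor_of_locTorOn (F : CochainComplex X.Modules ℤ)
    (h : ∀ x : X, ∃ U : X.Opens, x ∈ U ∧ LocTorOn f U F) : LocFiniteTorAmplitude f F := by
  intro x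
  obtain ⟨U, hxU, hU⟩ := h x
  exact hU x hxU

theorem locTorOn_of_locFinTor (F : CochainComplex X.Modules ℤ) (U : X.Opens)
    (h : LocFiniteTorAmplitude f F) : LocTorOn f U F :=
  fun x _ => h x

/-- pseudo-coherence from charts -/
theorem isPC_of_charts (E : DCoh.D X) (m : ℤ) {ι : Type*} (U : ι → X.Opens)
    (hU : ∀ i, IsAffineOpen (U i)) (hcov : ∀ x : X, ∃ i, x ∈ U i)
    (h : ∀ i, DCoh.IsPseudoCoherentD m (EC (U i) (hU i) E)) : DCoh.IsPseudoCoherentD m E := by
  refine Groth.Agent.Lib.FpqcPCH3.isPC_of_cover m E (fun i => Spec Γ(X, U i))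
    (fun i => (hU i).isoSpec.inv ≫ (U i).ι) ?_ (fun i => ?_)
  · intro x
    obtain ⟨i, hi⟩ := hcov x
    obtain ⟨y, hy⟩ := exists_fromSpec_eq (U i) (hU i) x hi
    exact ⟨i, y, hy⟩
  · obtain ⟨c⟩ := nonempty_DD_comp_iso (hU i).isoSpec.inv (U i).ι E
    exact isPC_of_iso c.symm (h i)

end

end Groth.Agent.Lib.RelPerfLocH3
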