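import Mathlib
import Groth.Prelude
import Groth.Agent.Lib.RelPerfLoc1_helper3
import Groth.Agent.Lib.DSect7_lead
import Groth.Agent.Lib.LpullQC_lead

/-!
# Relative perfectness is algebraic perfectness on affine charts (helper3; S7278)
-/

set_option autoImplicit false
set_option linter.all false
set_option maxHeartbeats 1600000
set_option backward.isDefEq.respectTransparency false
set_option backward.isDefEq.respectTransparency.types false
set_option backward.defeqAttrib.useBackward true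

universe u
open CategoryTheory CategoryTheory.Limits AlgebraicGeometry Opposite TopologicalSpace
attribute [local instance] HasDerivedCategory.standard

namespace Groth.Agent.Lib.RelPerfLocH3

open DRing DerSch Groth.Agent.Lib.DMod_helper6 Groth.Agent.Lib.DCohLocLead
  Groth.Agent.Lib.TorAmpRelH3 Groth.Agent.Lib.TorSmoothH3 DerivedCategory

noncomputable section

/-- S7264 in `CommRingCat` form -/
theorem relPerfect_tildeD_iff' {R A : CommRingCat.{u}} (φ : R ⟶ A) (hφ : φ.hom.Flat)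
    [PreservesFiniteLimits (tilde.functor A)] (M : DerivedCategory (ModuleCat.{u} A)) :
    ((∀ m : ℤ, DCoh.IsPseudoCoherentD m ((DCoh.tildeD A).obj M)) ∧
      DCoh.LocHasFiniteRelTorDim (Spec.map φ) ((DCoh.tildeD A).obj M)) ↔
    @Dual2.IsRelPerfect R A _ _ φ.hom.toAlgebra M := by
  letI := φ.hom.toAlgebra
  haveI : Module.Flat R A := hφ
  exact Groth.Agent.Lib.RelTildeAmpH3.main7264 R A M

variable {X S : Scheme.{u}} (f : X ⟶ S)

/-- relatively perfect objects are algebraically perfect on every affine chart -/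
theorem isRelPerfect_of_relPerfect [Flat f] (E : DCoh.D X)
    (hPC : ∀ m : ℤ, DCoh.IsPseudoCoherentD m E) (hT : DCoh.LocHasFiniteRelTorDim f E)
    (U : X.Opens) (hU : IsAffineOpen U) (V : S.Opens) (hV : IsAffineOpen V) (hUV : U ≤ f ⁻¹ᵁ V)
    [PreservesFiniteLimits (tilde.functor Γ(X, U))]
    (M : DerivedCategory (ModuleCat.{u} Γ(X, U)))
    (e : EC U hU E ≅ (DCoh.tildeD Γ(X, U)).obj M) :
    @Dual2.IsRelPerfect Γ(S, V) Γ(X, U) _ _ (f.appLE V U hUV).hom.toAlgebra M := by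
  rw [← relPerfect_tildeD_iff' (f.appLE V U hUV) (f.flat_appLE hV hU hUV) M]
  let F : CochainComplex X.Modules ℤ := Q.objPreimage E
  let eF : DCoh.toD X F ≅ E := Q.objObjPreimageIso E
  refine ⟨fun m => isPC_of_iso e (isPC_chart U hU E m (hPC m)),
    locRelTor_of_iso (gC f U V hUV) e ?_⟩
  rw [locRelTor_chart_iff f U hU V hV hUV E F eF]
  exact locTorOn_of_locFinTor f F U
    ((Groth.Agent.Lib.RelFlatAmpH3.locHasFiniteRelTorDim_iff' f E F eF).1 hT)

/-- relative perfectness from algebraic perfectness on the charts of a covering -/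
theorem relPerfect_of_charts [Flat f]
    [∀ R : CommRingCat.{u}, PreservesFiniteLimits (tilde.functor R)]
    (E : DCoh.D X) (hE : DCoh.IsQCohD E)
    (ι : Type u) (V : ι → S.Opens) (hV : ∀ i, IsAffineOpen (V i)) (hVcov : ⨆ i, V i = ⊤)
    (κ : ι → Type u) (U : ∀ i, κ i → X.Opens) (hU : ∀ i j, IsAffineOpen (U i j))
    (hUV : ∀ i j, U i j ≤ f ⁻¹ᵁ V i) (hUcov : ∀ i, ⨆ j, U i j = f ⁻¹ᵁ V i)
    (H : ∀ (i : ι) (j : κ i) (M : DerivedCategory (ModuleCat.{u} Γ(X, U i j))),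
      Nonempty (EC (U i j) (hU i j) E ≅ (DCoh.tildeD Γ(X, U i j)).obj M) →
        @Dual2.IsRelPerfect Γ(S, V i) Γ(X, U i j) _ _
          (f.appLE (V i) (U i j) (hUV i j)).hom.toAlgebra M) :
    (∀ m : ℤ, DCoh.IsPseudoCoherentD m E) ∧ DCoh.LocHasFiniteRelTorDim f E := by
  have hcov : ∀ x : X, ∃ p : Σ i, κ i, x ∈ U p.1 p.2 := by
    intro x
    have h1 : f.base x ∈ (⨆ i, V i : S.Opens) := by rw [hVcov]; trivial
    obtain ⟨i, hi⟩ := Opens.mem_iSup.1 h1
    have h2 : x ∈ (⨆ j, U i j : X.Opens) := by rw [hUcov i]; exact hi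
    obtain ⟨j, hj⟩ := Opens.mem_iSup.1 h2
    exact ⟨⟨i, j⟩, hj⟩
  have key : ∀ i j, (∀ m : ℤ, DCoh.IsPseudoCoherentD m (EC (U i j) (hU i j) E)) ∧
      DCoh.LocHasFiniteRelTorDim (gC f (U i j) (V i) (hUV i j)) (EC (U i j) (hU i j) E) := by
    intro i j
    have hq : DCoh.IsQCohD (EC (U i j) (hU i j) E) :=
      Groth.Agent.Lib.LpullQCL.isQCohD_restrictD _ _
        (Groth.Agent.Lib.LpullQCL.isQCohD_restrictD _ _ hE)
    obtain ⟨M, ⟨eM⟩⟩ := ((Groth.Agent.Lib.DSectX.main0997 Γ(X, U i j)).2.2 _).1 hq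
    have hM := H i j M ⟨eM.symm⟩
    rw [← relPerfect_tildeD_iff' (f.appLE (V i) (U i j) (hUV i j))
      (f.flat_appLE (hV i) (hU i j) (hUV i j)) M] at hM
    exact ⟨fun m => isPC_of_iso eM (hM.1 m), locRelTor_of_iso _ eM hM.2⟩
  let F : CochainComplex X.Modules ℤ := Q.objPreimage E
  let eF : DCoh.toD X F ≅ E := Q.objObjPreimageIso E
  refine ⟨fun m => isPC_of_charts E m (fun p : Σ i, κ i => U p.1 p.2) (fun p => hU p.1 p.2) hcov
    (fun p => (key p.1 p.2).1 m), ?_⟩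
  rw [Groth.Agent.Lib.RelFlatAmpH3.locHasFiniteRelTorDim_iff' f E F eF]
  refine locFinTor_of_locTorOn f F (fun x => ?_)
  obtain ⟨p, hp⟩ := hcov x
  exact ⟨U p.1 p.2, hp,
    (locRelTor_chart_iff f _ (hU p.1 p.2) _ (hV p.1) (hUV p.1 p.2) E F eF).1 (key p.1 p.2).2⟩

/-- S7278 -/
theorem main7278 [Flat f]
    [∀ R : CommRingCat.{u}, PreservesFiniteLimits (tilde.functor R)]
    (E : DCoh.D X) (hE : DCoh.IsQCohD E) :
    (((∀ m : ℤ, DCoh.IsPseudoCoherentD m E) ∧ DCoh.LocHasFiniteRelTorDim f E) ↔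
      ∀ (U : X.Opens) (hU : IsAffineOpen U) (V : S.Opens) (hV : IsAffineOpen V) (hUV : U ≤ f ⁻¹ᵁ V)
        (M : DerivedCategory (ModuleCat.{u} Γ(X, U))),
        Nonempty ((DCoh.restrictD hU.isoSpec.inv).obj ((DCoh.restrictD U.ι).obj E) ≅
          (DCoh.tildeD Γ(X, U)).obj M) →
          @Dual2.IsRelPerfect Γ(S, V) Γ(X, U) _ _ (f.appLE V U hUV).hom.toAlgebra M) ∧
    (∀ (ι : Type u) (V : ι → S.Opens) (hV : ∀ i, IsAffineOpen (V i)) (hVcov : ⨆ i, V i = ⊤)
        (κ : ι → Type u) (U : ∀ i, κ i → X.Opens) (hU : ∀ i j, IsAffineOpen (U i j))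
        (hUV : ∀ i j, U i j ≤ f ⁻¹ᵁ V i) (hUcov : ∀ i, ⨆ j, U i j = f ⁻¹ᵁ V i),
        (∀ (i : ι) (j : κ i) (M : DerivedCategory (ModuleCat.{u} Γ(X, U i j))),
          Nonempty ((DCoh.restrictD (hU i j).isoSpec.inv).obj ((DCoh.restrictD (U i j).ι).obj E) ≅
              (DCoh.tildeD Γ(X, U i j)).obj M) →
            @Dual2.IsRelPerfect Γ(S, V i) Γ(X, U i j) _ _
              (f.appLE (V i) (U i j) (hUV i j)).hom.toAlgebra M) →
        (∀ m : ℤ, DCoh.IsPseudoCoherentD m E) ∧ DCoh.LocHasFiniteRelTorDim f E) := by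
  refine ⟨⟨?_, ?_⟩, ?_⟩
  · rintro ⟨hPC, hT⟩ U hU V hV hUV M ⟨e⟩
    exact isRelPerfect_of_relPerfect f E hPC hT U hU V hV hUV M e
  · intro H
    refine relPerfect_of_charts f E hE S.affineOpens (fun i => i.1) (fun i => i.2)
      (iSup_affineOpens_eq_top S)
      (fun i => {W : X.affineOpens // W.1 ≤ f ⁻¹ᵁ i.1}) (fun i j => j.1.1) (fun i j => j.1.2)
      (fun i j => j.2) (fun i => ?_) (fun i j M hM => H _ j.1.2 _ i.2 j.2 M hM)
    refine le_antisymm (iSup_le fun j => j.2) (fun x hx => ?_)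
    obtain ⟨W, hW, hxW, hWV⟩ := Opens.isBasis_iff_nbhd.mp X.isBasis_affineOpens
      (show x ∈ f ⁻¹ᵁ i.1 from hx)
    exact Opens.mem_iSup.2 ⟨⟨⟨W, hW⟩, hWV⟩, hxW⟩
  · intro ι V hV hVcov κ U hU hUV hUcov H
    exact relPerfect_of_charts f E hE ι V hV hVcov κ U hU hUV hUcov H

end

end Groth.Agent.Lib.RelPerfLocH3
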