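import Mathlib
import Groth.Prelude
import Groth.Agent.Lib.RelPerfBC1_helper3
import Groth.Agent.Lib.RelPerfLoc2_helper3
import Groth.Agent.Lib.KFTilde2_lead
import Groth.Agent.Lib.LpullComp_helper3
import Groth.Agent.Lib.LpullLoc_helper3
import Groth.Agent.Lib.LpullPC_helper3
import Groth.Agent.Lib.RpushPCUnb_helper3

/-!
# Base change of relatively perfect objects (helper3; S1100)
-/

set_option autoImplicit false
set_option linter.all false
set_option maxHeartbeats 1600000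
set_option backward.isDefEq.respectTransparency false
set_option backward.isDefEq.respectTransparency.types false
set_option backward.defeqAttrib.useBackward true

universe u
open CategoryTheory CategoryTheory.Limits AlgebraicGeometry Opposite TopologicalSpace
attribute [local instance] HasDerivedCategory.standard

namespace Groth.Agent.Lib.RelPerfBCH3

open DRing DerSch Groth.Agent.Lib.DMod_helper6 Groth.Agent.Lib.DCohLocLead
  Groth.Agent.Lib.RelPerfLocH3 Groth.Agent.Lib.LpullLocH3 Groth.Agent.Lib.LpullExH3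
  DerivedCategory

noncomputable section

section Ring

/-- base change of relatively perfect complexes along a pushout square of `CommRingCat` -/
theorem isRelPerfect_lBaseChange_of_isPushout' {R A R' A' : CommRingCat.{u}}
    (α : R ⟶ A) (β : R ⟶ R') (β' : A ⟶ A') (α' : R' ⟶ A') (H : IsPushout α β β' α')
    (hα : α.hom.Flat) [HasLBaseChange β'.hom] (K : DerivedCategory (ModuleCat.{u} A))
    (hK : @Dual2.IsRelPerfect R A _ _ α.hom.toAlgebra K) :
    @Dual2.IsRelPerfect R' A' _ _ α'.hom.toAlgebra ((LBaseChange β'.hom).obj K) := by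
  letI : Algebra R A := α.hom.toAlgebra
  letI : Algebra R R' := β.hom.toAlgebra
  letI : Algebra R' A' := α'.hom.toAlgebra
  letI : Algebra A A' := β'.hom.toAlgebra
  letI : Algebra R A' := (β'.hom.comp α.hom).toAlgebra
  haveI : IsScalarTower R A A' := IsScalarTower.of_algebraMap_eq (fun r => rfl)
  haveI : IsScalarTower R R' A' := IsScalarTower.of_algebraMap_eq (fun r => by
    have h := congrArg (fun k => k.hom r) H.w
    exact h)
  haveI : Module.Flat R A := hα
  have H' : IsPushout (CommRingCat.ofHom (algebraMap R R')) (CommRingCat.ofHom (algebraMap R A))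
      (CommRingCat.ofHom (algebraMap R' A')) (CommRingCat.ofHom (algebraMap A A')) := H.flip
  haveI : Algebra.IsPushout R R' A A' := CommRingCat.isPushout_iff_isPushout.1 H'
  exact isRelPerfect_lBaseChange_of_isPushout R A R' A' K hK

/-- S1055 in `CommRingCat` form -/
theorem nonempty_iso_1055' {A B : CommRingCat.{u}} (φ : A ⟶ B)
    [PreservesFiniteLimits (tilde.functor A)] [PreservesFiniteLimits (tilde.functor B)]
    [DRing.HasLBaseChange φ.hom] [DCoh.HasLpull (Spec.map φ)] :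
    Nonempty (DRing.LBaseChange φ.hom ⋙ DCoh.tildeD B ≅ DCoh.tildeD A ⋙ DCoh.Lpull (Spec.map φ)) :=
  Groth.Agent.Lib.KFTildeL.nonempty_iso_1055 φ.hom

end Ring

variable {X S S' : Scheme.{u}} (f : X ⟶ S) (g : S' ⟶ S)

/-- the product chart -/
abbrev UP (U : X.Opens) (V' : S'.Opens) : (pullback f g).Opens :=
  (pullback.fst f g) ⁻¹ᵁ U ⊓ (pullback.snd f g) ⁻¹ᵁ V'

section Chart

variable (U : X.Opens) (hU : IsAffineOpen U) (V : S.Opens) (hV : IsAffineOpen V)
  (V' : S'.Opens) (hV' : IsAffineOpen V') (hUV : U ≤ f ⁻¹ᵁ V) (hV'V : V' ≤ g ⁻¹ᵁ V)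

include hU hV hV' hUV hV'V in
lemma isAffineOpen_UP : IsAffineOpen (UP f g U V') := by
  have H : IsPullback (pullback.fst f g) (pullback.snd f g) f g := IsPullback.of_hasPullback f g
  haveI : IsAffine (V : Scheme.{u}) := hV
  haveI : IsAffine (V' : Scheme.{u}) := hV'
  haveI : IsAffine (U : Scheme.{u}) := hU
  exact .of_isIso (Scheme.Hom.isPullback_resLE H hV'V hUV (UY := UP f g U V') rfl).isoPullback.hom

include hU hV hV' in
lemma isPushout_UP :
    IsPushout (f.appLE V U hUV) (g.appLE V V' hV'V)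
      ((pullback.fst f g).appLE U (UP f g U V') inf_le_left)
      ((pullback.snd f g).appLE V' (UP f g U V') inf_le_right) := by
  have H : IsPullback (pullback.fst f g) (pullback.snd f g) f g := IsPullback.of_hasPullback f g
  haveI := isIso_pushoutSection_of_isAffineOpen H hV'V hUV (UY := UP f g U V') rfl hV hV' hU
  exact (isIso_pushoutSection_iff H hV'V hUV (UY := UP f g U V') rfl).1 inferInstance

/-- the restriction of `L(g')^* K` to the product chart -/
theorem nonempty_chart_Lpull_iso [DCoh.HasLpull (pullback.fst f g)] (K : DCoh.D X)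
    (hUP : IsAffineOpen (UP f g U V'))
    [PreservesFiniteLimits (tilde.functor Γ(X, U))]
    [PreservesFiniteLimits (tilde.functor Γ(pullback f g, UP f g U V'))]
    (M : DerivedCategory (ModuleCat.{u} Γ(X, U)))
    (eM : EC U hU K ≅ (DCoh.tildeD Γ(X, U)).obj M)
    [HasLBaseChange ((pullback.fst f g).appLE U (UP f g U V') inf_le_left).hom] :
    Nonempty (EC (UP f g U V') hUP ((DCoh.Lpull (pullback.fst f g)).obj K) ≅
      (DCoh.tildeD Γ(pullback f g, UP f g U V')).obj
        ((LBaseChange ((pullback.fst f g).appLE U (UP f g U V') inf_le_left).hom).obj M)) := by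
  let p₁ := pullback.fst f g
  let U' := UP f g U V'
  let ψ : Γ(X, U) ⟶ Γ(pullback f g, U') := p₁.appLE U U' inf_le_left
  have hg : hUP.fromSpec ≫ p₁ = Spec.map ψ ≫ hU.fromSpec :=
    (IsAffineOpen.SpecMap_appLE_fromSpec p₁ hU hUP inf_le_left).symm
  haveI := hasLpull hUP.fromSpec
  haveI := hasLpull (hUP.fromSpec ≫ p₁)
  haveI := hasLpull hU.fromSpec
  haveI := hasLpull (Spec.map ψ)
  haveI := hasLpull (Spec.map ψ ≫ hU.fromSpec)
  obtain ⟨c1⟩ := Groth.Agent.Lib.LpullCompH3.nonempty_comp_iso hUP.fromSpec p₁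
  obtain ⟨c2⟩ := Groth.Agent.Lib.LpullCompH3.nonempty_comp_iso (Spec.map ψ) hU.fromSpec
  obtain ⟨c3⟩ := nonempty_Lpull_congr hg
  obtain ⟨c4⟩ := nonempty_iso_1055' ψ
  obtain ⟨d1⟩ := nonempty_DD_comp_iso hUP.isoSpec.inv U'.ι ((DCoh.Lpull p₁).obj K)
  obtain ⟨d2⟩ := nonempty_DD_comp_iso hU.isoSpec.inv U.ι K
  have e1 : EC U' hUP ((DCoh.Lpull p₁).obj K) ≅
      (DCoh.Lpull hUP.fromSpec).obj ((DCoh.Lpull p₁).obj K) :=
    d1.symm ≪≫ (restrictDIsoLpull hUP.fromSpec).app _
  have e2 : (DCoh.Lpull hUP.fromSpec).obj ((DCoh.Lpull p₁).obj K) ≅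
      (DCoh.Lpull (Spec.map ψ)).obj ((DD hU.fromSpec).obj K) :=
    c1.app K ≪≫ c3.app K ≪≫ (c2.app K).symm ≪≫
      (DCoh.Lpull (Spec.map ψ)).mapIso ((restrictDIsoLpull hU.fromSpec).app K).symm
  have e3 : (DCoh.Lpull (Spec.map ψ)).obj ((DD hU.fromSpec).obj K) ≅
      (DCoh.Lpull (Spec.map ψ)).obj ((DCoh.tildeD Γ(X, U)).obj M) :=
    (DCoh.Lpull (Spec.map ψ)).mapIso (d2 ≪≫ eM)
  exact ⟨e1 ≪≫ e2 ≪≫ e3 ≪≫ (c4.app M).symm⟩

end Chart

/-- S1100 -/
theorem main1100 [Flat f] [LocallyOfFinitePresentation f]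
    [DCoh.HasLpull (pullback.fst f g)] (K : DCoh.D X)
    (hK : (∀ m : ℤ, DCoh.IsPseudoCoherentD m K) ∧ DCoh.LocHasFiniteRelTorDim f K) :
    (∀ m : ℤ, DCoh.IsPseudoCoherentD m ((DCoh.Lpull (pullback.fst f g)).obj K)) ∧
      DCoh.LocHasFiniteRelTorDim (pullback.snd f g) ((DCoh.Lpull (pullback.fst f g)).obj K) := by
  let p₁ := pullback.fst f g
  let p₂ := pullback.snd f g
  let K' := (DCoh.Lpull p₁).obj K
  haveI : ∀ R : CommRingCat.{u}, PreservesFiniteLimits (tilde.functor R) := fun R =>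
    Groth.Agent.Lib.LpullQCL.preservesFiniteLimits_tilde R
  have hPC' : ∀ m : ℤ, DCoh.IsPseudoCoherentD m K' := fun m =>
    Groth.Agent.Lib.LpullPCH3.isPC_Lpull p₁ m K (hK.1 m)
  have hq : DCoh.IsQCohD K := Groth.Agent.Lib.RpushPCUnbH3.isQCohD_of_forall_isPC K hK.1
  have hq' : DCoh.IsQCohD K' := Groth.Agent.Lib.RpushPCUnbH3.isQCohD_of_forall_isPC K' hPC'
  have hw : p₁ ≫ f = p₂ ≫ g := pullback.condition
  refine relPerfect_of_charts p₂ K' hq'
    {p : S.affineOpens × S'.affineOpens // p.2.1 ≤ g ⁻¹ᵁ p.1.1} (fun i => i.1.2.1)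
    (fun i => i.1.2.2) ?_
    (fun i => {W : X.affineOpens // W.1 ≤ f ⁻¹ᵁ i.1.1.1})
    (fun i j => UP f g j.1.1 i.1.2.1)
    (fun i j => isAffineOpen_UP f g j.1.1 j.1.2 i.1.1.1 i.1.1.2 i.1.2.1 i.1.2.2 j.2 i.2)
    (fun i j => inf_le_right) (fun i => ?_) (fun i j M' hM' => ?_)
  · -- the `V'` cover `S'`
    rw [eq_top_iff]
    intro y' _
    obtain ⟨V, hV, hyV, -⟩ := Opens.isBasis_iff_nbhd.mp S.isBasis_affineOpens
      (show g.base y' ∈ (⊤ : S.Opens) from trivial)
    obtain ⟨V', hV', hyV', hV'V⟩ := Opens.isBasis_iff_nbhd.mp S'.isBasis_affineOpens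
      (show y' ∈ g ⁻¹ᵁ V from hyV)
    exact Opens.mem_iSup.2 ⟨⟨(⟨V, hV⟩, ⟨V', hV'⟩), hV'V⟩, hyV'⟩
  · -- the product charts cover the preimage of `V'`
    refine le_antisymm (iSup_le fun j => inf_le_right) (fun x' hx' => ?_)
    have h1 : g.base (p₂.base x') ∈ i.1.1.1 := i.2 hx'
    have h2 : f.base (p₁.base x') = g.base (p₂.base x') := by
      have := congrArg (fun k => k.base x') hw
      exact this
    have h3 : p₁.base x' ∈ f ⁻¹ᵁ i.1.1.1 := by
      show f.base (p₁.base x') ∈ i.1.1.1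
      rw [h2]
      exact h1
    obtain ⟨W, hW, hxW, hWV⟩ := Opens.isBasis_iff_nbhd.mp X.isBasis_affineOpens h3
    exact Opens.mem_iSup.2 ⟨⟨⟨W, hW⟩, hWV⟩, ⟨hxW, hx'⟩⟩
  · -- the charts
    obtain ⟨e'⟩ := hM'
    let U : X.Opens := j.1.1
    have hU : IsAffineOpen U := j.1.2
    let V : S.Opens := i.1.1.1
    have hV : IsAffineOpen V := i.1.1.2
    let V' : S'.Opens := i.1.2.1
    have hV' : IsAffineOpen V' := i.1.2.2
    have hUV : U ≤ f ⁻¹ᵁ V := j.2
    have hV'V : V' ≤ g ⁻¹ᵁ V := i.2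
    have hUP : IsAffineOpen (UP f g U V') := isAffineOpen_UP f g U hU V hV V' hV' hUV hV'V
    have hqU : DCoh.IsQCohD (EC U hU K) :=
      Groth.Agent.Lib.LpullQCL.isQCohD_restrictD _ _
        (Groth.Agent.Lib.LpullQCL.isQCohD_restrictD _ _ hq)
    obtain ⟨M, ⟨eM⟩⟩ := ((Groth.Agent.Lib.DSectX.main0997 Γ(X, U)).2.2 _).1 hqU
    have hM := isRelPerfect_of_relPerfect f K hK.1 hK.2 U hU V hV hUV M eM.symm
    haveI : HasLBaseChange ((pullback.fst f g).appLE U (UP f g U V') inf_le_left).hom :=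
      Groth.Agent.Lib.LpullQCL.hasLBaseChange _
    obtain ⟨c⟩ := nonempty_chart_Lpull_iso f g U hU V' K hUP M eM.symm
    have hL := isRelPerfect_lBaseChange_of_isPushout' (f.appLE V U hUV) (g.appLE V V' hV'V)
      ((pullback.fst f g).appLE U (UP f g U V') inf_le_left)
      ((pullback.snd f g).appLE V' (UP f g U V') inf_le_right)
      (isPushout_UP f g U hU V hV V' hV' hUV hV'V) (f.flat_appLE hV hU hUV) M hM
    haveI := (Groth.Agent.Lib.DSectX.main0997 Γ(pullback f g, UP f g U V')).1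
    haveI := (Groth.Agent.Lib.DSectX.main0997 Γ(pullback f g, UP f g U V')).2.1
    let eMM : (LBaseChange ((pullback.fst f g).appLE U (UP f g U V') inf_le_left).hom).obj M ≅ M' :=
      (DCoh.tildeD Γ(pullback f g, UP f g U V')).preimageIso (c.symm ≪≫ e')
    letI : Algebra Γ(S', V') Γ(pullback f g, UP f g U V') :=
      ((pullback.snd f g).appLE V' (UP f g U V') inf_le_right).hom.toAlgebra
    exact isRelPerfect_of_iso Γ(S', V') Γ(pullback f g, UP f g U V') eMM hL

end

end Groth.Agent.Lib.RelPerfBCH3
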