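import Mathlib
import Groth.Prelude
import Groth.Agent.Lib.RelPCBC2_helper3
import Groth.Agent.Lib.RelPerfBC2_helper3
import Groth.Agent.Lib.RelPCj_helper3
import Groth.Agent.Lib.RelPCf_helper3

/-!
# Flat base change and descent of relative pseudo-coherence: charts (helper3)

* `Compat f g E E'`: `E' ∈ D(X ×_S S')` is, on product charts, the derived base change of `E`.
* `compat_Lpull`: `E' = L(pr₁)^* E`.
* `exists_chart_bc`: the base changed chart, and the dictionary on both sides.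
* `relPC_bc`: flat base change of relative pseudo-coherence.
* `gpc_of_family`: descent along a finite family of flat morphisms covering the base affine.
-/

set_option autoImplicit false
set_option linter.all false
set_option maxHeartbeats 1600000
set_option backward.isDefEq.respectTransparency false
set_option backward.isDefEq.respectTransparency.types false
set_option backward.defeqAttrib.useBackward true

universe u
open CategoryTheory CategoryTheory.Limits AlgebraicGeometry Opposite TopologicalSpace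
open CategoryTheory.Pretriangulated

attribute [local instance] HasDerivedCategory.standard

namespace Groth.Agent.Lib.RelPCBCH3

open Groth.Agent.Lib.DCohLocLead DerivedCategory Groth.Agent.Lib.FpqcPCH3
  Groth.Agent.Lib.FinPushPCH3 Groth.Agent.Lib.BCOpenL Groth.Agent.Lib.RelPCaH3
  Groth.Agent.Lib.DMod_helper6 Groth.Agent.Lib.TildePCH3 Groth.Agent.Lib.TildeAmpL DRing
  Groth.Agent.Lib.RelPCbH3 Groth.Agent.Lib.RelPerfLocH3 Groth.Agent.Lib.RelPerfBCH3 DerSch

noncomputable section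

local instance hasRpushInstBC {X Y : Scheme.{u}} (f : X ⟶ Y) : DCoh.HasRpush f := hasRpush f

local instance hasLBCInstBC {A B : Type u} [CommRing A] [CommRing B] (φ : A →+* B) :
    HasLBaseChange φ := Groth.Agent.Lib.LpullQCL.hasLBaseChange φ

local instance pflInstBC (R : CommRingCat.{u}) : PreservesFiniteLimits (tilde.functor R) :=
  Groth.Agent.Lib.LpullQCL.preservesFiniteLimits_tilde R

section Dict

variable {X : Scheme.{u}} (U : X.Opens) (hU : IsAffineOpen U)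

/-- `R(isoSpec)_* (E|_U) ≅ E|_U` transported along `isoSpec⁻¹` -/
theorem nonempty_RP_iso_EC (E : DCoh.D X) :
    Nonempty ((RP hU.isoSpec.hom).obj ((DD U.ι).obj E) ≅ EC U hU E) := by
  obtain ⟨b7⟩ := Groth.Agent.Lib.RpushQCL.nonempty_Rpush_iso_restrictD hU.isoSpec.hom
  have hinv : inv hU.isoSpec.hom = hU.isoSpec.inv := IsIso.Iso.inv_hom hU.isoSpec
  obtain ⟨b10⟩ := nonempty_DD_congr hinv ((DD U.ι).obj E)
  exact ⟨b7.app _ ≪≫ b10⟩

/-- the dictionary, with `EC` -/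
theorem gpc_iff_ring' {B : Type u} [CommRing B] (β : B →+* Γ(X, U)) (m : ℤ) (E : DCoh.D X)
    (M : Dual.D Γ(X, U)) (e : (DCoh.tildeD Γ(X, U)).obj M ≅ EC U hU E) :
    GPC m E U β ↔ DRing.IsPseudoCoherent B m ((DRing.restrictD β).obj M) := by
  obtain ⟨r⟩ := nonempty_RP_iso_EC U hU E
  exact gpc_iff_ring U hU β m E M (e ≪≫ r.symm)

/-- ring representatives exist for objects with quasi-coherent cohomology -/
theorem exists_ring_rep' (E : DCoh.D X) (hE : DCoh.IsQCohD E) :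
    ∃ M : Dual.D Γ(X, U), Nonempty ((DCoh.tildeD Γ(X, U)).obj M ≅ EC U hU E) := by
  obtain ⟨M, ⟨e⟩⟩ := exists_ring_rep U hU E hE
  obtain ⟨r⟩ := nonempty_RP_iso_EC U hU E
  exact ⟨M, ⟨e ≪≫ r⟩⟩

/-- the ring representative of the structure sheaf -/
theorem nonempty_unit_ring_rep' :
    Nonempty ((DCoh.tildeD Γ(X, U)).obj (Dual.inD Γ(X, U) Γ(X, U)) ≅
      EC U hU (DCoh.toD X (DerSch.unitCx X))) := by
  obtain ⟨e⟩ := nonempty_unit_ring_rep U hU
  obtain ⟨r⟩ := nonempty_RP_iso_EC U hU (DCoh.toD X (DerSch.unitCx X))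
  exact ⟨e ≪≫ r⟩

end Dict

variable {X S S' : Scheme.{u}} (f : X ⟶ S) (g : S' ⟶ S)

/-- `E'` is the derived base change of `E` on product charts -/
def Compat (E : DCoh.D X) (E' : DCoh.D (pullback f g)) : Prop :=
  ∀ (U : X.Opens) (hU : IsAffineOpen U) (V' : S'.Opens) (hUP : IsAffineOpen (UP f g U V'))
    (M : Dual.D Γ(X, U)),
    Nonempty ((DCoh.tildeD Γ(X, U)).obj M ≅ EC U hU E) →
    Nonempty ((DCoh.tildeD Γ(pullback f g, UP f g U V')).obj
      ((LBaseChange ((pullback.fst f g).appLE U (UP f g U V') inf_le_left).hom).obj M) ≅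
        EC (UP f g U V') hUP E')

theorem compat_Lpull [DCoh.HasLpull (pullback.fst f g)] (K : DCoh.D X) :
    Compat f g K ((DCoh.Lpull (pullback.fst f g)).obj K) := by
  intro U hU V' hUP M ⟨eM⟩
  obtain ⟨c⟩ := nonempty_chart_Lpull_iso f g U hU V' K hUP M eM.symm
  exact ⟨c.symm⟩

section Chart

variable (U : X.Opens) (hU : IsAffineOpen U) (V : S.Opens) (hV : IsAffineOpen V)
  (V' : S'.Opens) (hV' : IsAffineOpen V') (hUV : U ≤ f ⁻¹ᵁ V) (hV'V : V' ≤ g ⁻¹ᵁ V)

include hU hV hV' in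
/-- the base changed chart and the dictionary on the base changed side -/
theorem exists_chart_bc [Flat g] (E : DCoh.D X) (E' : DCoh.D (pullback f g))
    (hc : Compat f g E E') (M : Dual.D Γ(X, U))
    (eM : (DCoh.tildeD Γ(X, U)).obj M ≅ EC U hU E) {n : ℕ}
    (φ : MvPolynomial (Fin n) Γ(S, V) →+* Γ(X, U)) (hφ : IsChart f U V hUV φ) (m : ℤ) :
    ∃ φ' : MvPolynomial (Fin n) Γ(S', V') →+* Γ(pullback f g, UP f g U V'),
      IsChart (pullback.snd f g) (UP f g U V') V' inf_le_right φ' ∧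
      (MvPolynomial.map (g.appLE V V' hV'V).hom :
        MvPolynomial (Fin n) Γ(S, V) →+* MvPolynomial (Fin n) Γ(S', V')).Flat ∧
      (GPC m E' (UP f g U V') φ' ↔ DRing.IsPseudoCoherent (MvPolynomial (Fin n) Γ(S', V')) m
        ((LBaseChange (MvPolynomial.map (g.appLE V V' hV'V).hom :
          MvPolynomial (Fin n) Γ(S, V) →+* MvPolynomial (Fin n) Γ(S', V'))).obj
            ((DRing.restrictD φ).obj M))) := by
  have hUP : IsAffineOpen (UP f g U V') := isAffineOpen_UP f g U hU V hV V' hV' hUV hV'V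
  obtain ⟨φ', hφ', hφ'C, hfl, hiso⟩ := exists_bcChart (f.appLE V U hUV).hom
    (g.appLE V V' hV'V).hom ((pullback.fst f g).appLE U (UP f g U V') inf_le_left).hom
    ((pullback.snd f g).appLE V' (UP f g U V') inf_le_right).hom
    (isPushout_UP f g U hU V hV V' hV' hUV hV'V) (g.flat_appLE hV hV' hV'V) φ hφ.1 hφ.2
  refine ⟨φ', ⟨hφ', hφ'C⟩, hfl, ?_⟩
  obtain ⟨eM'⟩ := hc U hU V' hUP M ⟨eM⟩
  rw [gpc_iff_ring' (UP f g U V') hUP φ' m E' _ eM']
  obtain ⟨i⟩ := hiso M
  exact isPseudoCoherent_iff_of_iso i m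

end Chart

/-- **flat base change of relative pseudo-coherence** -/
theorem relPC_bc [LocallyOfFiniteType f] [Flat g] (E : DCoh.D X) (E' : DCoh.D (pullback f g))
    (hc : Compat f g E E')
    (hrep : ∀ (U : X.Opens) (hU : IsAffineOpen U), ∃ M : Dual.D Γ(X, U),
      Nonempty ((DCoh.tildeD Γ(X, U)).obj M ≅ EC U hU E))
    (m : ℤ) (hE : IsPseudoCoherentRel f m E) :
    IsPseudoCoherentRel (pullback.snd f g) m E' := by
  have hall := (relPC_iff_forall_gpc f m E).1 hE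
  have hw : pullback.fst f g ≫ f = pullback.snd f g ≫ g := pullback.condition
  refine ⟨inferInstance, {V' : S'.affineOpens | ∃ V : S.affineOpens, V'.1 ≤ g ⁻¹ᵁ V.1}, ?_, ?_⟩
  · rw [eq_top_iff]
    intro y' _
    obtain ⟨V, hV, hyV, -⟩ := Opens.isBasis_iff_nbhd.mp S.isBasis_affineOpens
      (show g.base y' ∈ (⊤ : S.Opens) from trivial)
    obtain ⟨V', hV', hyV', hV'V⟩ := Opens.isBasis_iff_nbhd.mp S'.isBasis_affineOpens
      (show y' ∈ g ⁻¹ᵁ V from hyV)
    exact Opens.mem_iSup.2 ⟨⟨V', hV'⟩, Opens.mem_iSup.2 ⟨⟨⟨V, hV⟩, hV'V⟩, hyV'⟩⟩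
  · rintro V' ⟨V, hV'V⟩
    refine ⟨{U' : (pullback f g).affineOpens | ∃ (U : X.affineOpens) (hUV : U.1 ≤ f ⁻¹ᵁ V.1),
      U' = ⟨UP f g U.1 V'.1, isAffineOpen_UP f g U.1 U.2 V.1 V.2 V'.1 V'.2 hUV hV'V⟩}, ?_, ?_⟩
    · refine le_antisymm (iSup₂_le fun U' hU' => ?_) (fun x' hx' => ?_)
      · obtain ⟨U, hUV, rfl⟩ := hU'
        exact inf_le_right
      · have h1 : g.base ((pullback.snd f g).base x') ∈ V.1 := hV'V hx'
        have h2 : f.base ((pullback.fst f g).base x') = g.base ((pullback.snd f g).base x') := by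
          have := congrArg (fun k => k.base x') hw
          exact this
        have h3 : (pullback.fst f g).base x' ∈ f ⁻¹ᵁ V.1 := by
          show f.base ((pullback.fst f g).base x') ∈ V.1
          rw [h2]
          exact h1
        obtain ⟨W, hW, hxW, hWV⟩ := Opens.isBasis_iff_nbhd.mp X.isBasis_affineOpens h3
        exact Opens.mem_iSup.2 ⟨⟨UP f g W V'.1,
            isAffineOpen_UP f g W hW V.1 V.2 V'.1 V'.2 hWV hV'V⟩,
          Opens.mem_iSup.2 ⟨⟨⟨W, hW⟩, hWV, rfl⟩, ⟨hxW, hx'⟩⟩⟩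
    · rintro _ ⟨U, hUV, rfl⟩ h
      obtain ⟨n, φ, hφ⟩ := exists_isChart f U.1 V.1 hUV
        (LocallyOfFiniteType.finiteType_appLE f V.2 U.2 hUV)
      obtain ⟨M, ⟨eM⟩⟩ := hrep U.1 U.2
      obtain ⟨φ', hφ', hfl, h2⟩ := exists_chart_bc f g U.1 U.2 V.1 V.2 V'.1 V'.2 hUV hV'V E E' hc
        M eM φ hφ m
      refine ⟨n, φ', hφ', ?_⟩
      rw [chartPC_iff_gpc m E' _ (isAffineOpen_UP f g U.1 U.2 V.1 V.2 V'.1 V'.2 hUV hV'V) V'.1 φ'
        hφ'.1, h2]
      exact isPseudoCoherent_lBaseChange _ _ m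
        ((gpc_iff_ring' U.1 U.2 φ m E M eM).1 (hall U V hUV φ hφ))

/-- **descent of relative pseudo-coherence on a chart** along a finite family of flat morphisms
whose affine pieces cover the base affine -/
theorem gpc_of_family [LocallyOfFiniteType f] {ι : Type u} [Finite ι] (T : ι → Scheme.{u})
    (h : ∀ j, T j ⟶ S) [∀ j, Flat (h j)] (E : DCoh.D X)
    (E' : ∀ j, DCoh.D (pullback f (h j))) (hc : ∀ j, Compat f (h j) E (E' j))
    (U : X.Opens) (hU : IsAffineOpen U) (V : S.Opens) (hV : IsAffineOpen V) (hUV : U ≤ f ⁻¹ᵁ V)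
    (V' : ∀ j, (T j).Opens) (hV' : ∀ j, IsAffineOpen (V' j)) (hV'V : ∀ j, V' j ≤ (h j) ⁻¹ᵁ V)
    (hsurj : ∀ s ∈ V, ∃ j, ∃ t ∈ V' j, (h j).base t = s)
    (M : Dual.D Γ(X, U)) (eM : (DCoh.tildeD Γ(X, U)).obj M ≅ EC U hU E) {n : ℕ}
    (φ : MvPolynomial (Fin n) Γ(S, V) →+* Γ(X, U)) (hφ : IsChart f U V hUV φ) (m : ℤ)
    (hE' : ∀ j, IsPseudoCoherentRel (pullback.snd f (h j)) m (E' j)) :
    GPC m E U φ := by
  choose φ' hφ' hfl h2 using fun j => exists_chart_bc f (h j) U hU V hV (V' j) (hV' j) hUV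
    (hV'V j) E (E' j) (hc j) M eM φ hφ m
  rw [gpc_iff_ring' U hU φ m E M eM]
  have hsurjR : ∀ p : PrimeSpectrum Γ(S, V), ∃ j, ∃ q : PrimeSpectrum Γ(T j, V' j),
      PrimeSpectrum.comap ((h j).appLE V (V' j) (hV'V j)).hom q = p := by
    intro p
    obtain ⟨x, rfl⟩ : ∃ x : V, hV.primeIdealOf x = p :=
      ⟨hV.isoSpec.inv p, by simp [IsAffineOpen.primeIdealOf]⟩
    obtain ⟨j, t, ht, hts⟩ := hsurj x.1 x.2
    refine ⟨j, (hV' j).primeIdealOf ⟨t, ht⟩, ?_⟩
    rw [IsAffineOpen.comap_primeIdealOf_appLE V hV (V' j) (hV' j) (hV'V j) ht]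
    congr 1
    exact Subtype.ext hts
  refine isPseudoCoherent_of_family_hom (fun j => MvPolynomial (Fin n) Γ(T j, V' j))
    (fun j => (MvPolynomial.map ((h j).appLE V (V' j) (hV'V j)).hom :
      MvPolynomial (Fin n) Γ(S, V) →+* MvPolynomial (Fin n) Γ(T j, V' j))) hfl
    (hsurj_map (fun j => Γ(T j, V' j)) (fun j => ((h j).appLE V (V' j) (hV'V j)).hom)
      (fun j => (h j).flat_appLE hV (hV' j) (hV'V j)) hsurjR n) _ m (fun j => ?_)
  refine (h2 j).1 ?_
  exact (relPC_iff_forall_gpc (pullback.snd f (h j)) m (E' j)).1 (hE' j)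
    ⟨UP f (h j) U (V' j), isAffineOpen_UP f (h j) U hU V hV (V' j) (hV' j) hUV (hV'V j)⟩
    ⟨V' j, hV' j⟩ inf_le_right (φ' j) (hφ' j)

end

end Groth.Agent.Lib.RelPCBCH3
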