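import Mathlib
import Groth.Prelude
import Groth.Agent.Lib.RelPCi_helper3

/-!
# Relative pseudo-coherence, part i2: `main7234` (helper3)
-/

set_option autoImplicit false
set_option linter.all false
set_option maxHeartbeats 1600000
set_option backward.isDefEq.respectTransparency false
set_option backward.isDefEq.respectTransparency.types false
set_option backward.defeqAttrib.useBackward true

universe u
open CategoryTheory CategoryTheory.Limits AlgebraicGeometry Opposite TopologicalSpace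
open CategoryTheory.Pretriangulated

attribute [local instance] HasDerivedCategory.standard

namespace Groth.Agent.Lib.RelPCbH3

open Groth.Agent.Lib.DCohLocLead DerivedCategory Groth.Agent.Lib.FpqcPCH3
  Groth.Agent.Lib.FinPushPCH3 Groth.Agent.Lib.BCOpenL Groth.Agent.Lib.RelPCaH3
  Groth.Agent.Lib.DMod_helper6 Groth.Agent.Lib.TildePCH3 Groth.Agent.Lib.TildeAmpL DRing

noncomputable section

local instance hasRpushInst11 {X Y : Scheme.{u}} (f : X ⟶ Y) : DCoh.HasRpush f := hasRpush f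

variable {X S : Scheme.{u}} (f : X ⟶ S)

/-- a chart, as an algebra map -/
theorem exists_isChart_algHom (U : X.Opens) (V : S.Opens) (h : U ≤ f ⁻¹ᵁ V)
    (hft : (f.appLE V U h).hom.FiniteType) :
    letI := (f.appLE V U h).hom.toAlgebra
    ∃ (n : ℕ) (α : MvPolynomial (Fin n) Γ(S, V) →ₐ[Γ(S, V)] Γ(X, U)), Function.Surjective α ∧
      DerSch.IsChart f U V h (α : MvPolynomial (Fin n) Γ(S, V) →+* Γ(X, U)) := by
  letI := (f.appLE V U h).hom.toAlgebra
  have hft' : Algebra.FiniteType Γ(S, V) Γ(X, U) := hft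
  obtain ⟨n, φ, hφ⟩ := Algebra.FiniteType.iff_quotient_mvPolynomial''.mp hft'
  refine ⟨n, φ, hφ, hφ, ?_⟩
  ext r
  exact φ.commutes r

/-- the ring-level condition for `M`, through a representative `G` -/
theorem relPC_ring_of_gpc (U : X.Opens) (hU : IsAffineOpen U) (V : S.Opens) (h : U ≤ f ⁻¹ᵁ V)
    [PreservesFiniteLimits (tilde.functor Γ(X, U))] (m : ℤ) (E : DCoh.D X)
    (M : Dual.D Γ(X, U))
    (e : (DCoh.tildeD Γ(X, U)).obj M ≅ (RP hU.isoSpec.hom).obj ((DD U.ι).obj E)) :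
    letI := (f.appLE V U h).hom.toAlgebra
    ∀ {n : ℕ} (α : MvPolynomial (Fin n) Γ(S, V) →ₐ[Γ(S, V)] Γ(X, U)), Function.Surjective α →
      (GPC m E U (α : MvPolynomial (Fin n) Γ(S, V) →+* Γ(X, U)) ↔
        DerCA.IsRelPseudoCoherent Γ(S, V) Γ(X, U) m M) := by
  letI := (f.appLE V U h).hom.toAlgebra
  intro n α hα
  rw [gpc_iff_ring U hU _ m E M e, isRelPseudoCoherent_iff_via α hα m M]

theorem main7234 [LocallyOfFiniteType f]
    [∀ U : X.affineOpens, PreservesFiniteLimits (tilde.functor (X.presheaf.obj (op (U : X.Opens))))]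
    (E : DCoh.D X) (hE : DCoh.IsQCohD E) (m : ℤ) :
    DerSch.IsPseudoCoherentRel f m E ↔
      ∀ (U : X.affineOpens) (V : S.affineOpens) (h : (U : X.Opens) ≤ f ⁻¹ᵁ (V : S.Opens))
        (G : CochainComplex X.Modules ℤ), Nonempty (DCoh.toD X G ≅ E) →
        ∀ M : Dual.D Γ(X, (U : X.Opens)),
          Nonempty ((DCoh.tildeD (X.presheaf.obj (op (U : X.Opens)))).obj M ≅
            DCoh.toD _ ((DerSch.pushCx U.2.isoSpec.hom).obj ((DCoh.restrictCx (U : X.Opens)).obj G))) →
          letI := (f.appLE (V : S.Opens) (U : X.Opens) h).hom.toAlgebra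
          DerCA.IsRelPseudoCoherent Γ(S, (V : S.Opens)) Γ(X, (U : X.Opens)) m M := by
  rw [relPC_iff_forall_gpc]
  constructor
  · intro H U V h G ⟨eG⟩ M ⟨eM⟩
    letI := (f.appLE (V : S.Opens) (U : X.Opens) h).hom.toAlgebra
    obtain ⟨n, α, hα, hchart⟩ := exists_isChart_algHom f U.1 V.1 h
      (LocallyOfFiniteType.finiteType_appLE f V.2 U.2 h)
    have e : (DCoh.tildeD Γ(X, (U : X.Opens))).obj M ≅
        (RP U.2.isoSpec.hom).obj ((DD (U : X.Opens).ι).obj E) :=
      eM ≪≫ (Groth.Agent.Lib.ProjFormulaH3.RpushQIso U.2.isoSpec.hom _).symm ≪≫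
        (RP U.2.isoSpec.hom).mapIso ((facIso (U : X.Opens).ι G).symm ≪≫
          (DD (U : X.Opens).ι).mapIso eG)
    exact (relPC_ring_of_gpc f U.1 U.2 V.1 h m E M e α hα).mp (H U V h _ hchart)
  · intro H U V h n φ hφ
    letI := (f.appLE (V : S.Opens) (U : X.Opens) h).hom.toAlgebra
    obtain ⟨M, ⟨e⟩⟩ := exists_ring_rep U.1 U.2 E hE
    let G : CochainComplex X.Modules ℤ := Q.objPreimage E
    let eG : DCoh.toD X G ≅ E := Q.objObjPreimageIso E
    have eM : (DCoh.tildeD (X.presheaf.obj (op (U : X.Opens)))).obj M ≅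
        DCoh.toD _ ((DerSch.pushCx U.2.isoSpec.hom).obj
          ((DCoh.restrictCx (U : X.Opens)).obj G)) :=
      e ≪≫ (RP U.2.isoSpec.hom).mapIso ((DD (U : X.Opens).ι).mapIso eG.symm ≪≫
        facIso (U : X.Opens).ι G) ≪≫
        Groth.Agent.Lib.ProjFormulaH3.RpushQIso U.2.isoSpec.hom _
    have h1 := H U V h G ⟨eG⟩ M ⟨eM⟩
    let α : MvPolynomial (Fin n) Γ(S, (V : S.Opens)) →ₐ[Γ(S, (V : S.Opens))]
        Γ(X, (U : X.Opens)) :=
      { φ with commutes' := fun r => DFunLike.congr_fun hφ.2 r }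
    exact (relPC_ring_of_gpc f U.1 U.2 V.1 h m E M e α hφ.1).mpr h1

end

end Groth.Agent.Lib.RelPCbH3
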