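import Mathlib
import Groth.Prelude
import Groth.Agent.Lib.RelPCj_helper3
import Groth.Agent.Lib.RelPCk_helper3
import Groth.Agent.Lib.RelPCi2_helper3
import Groth.Agent.Lib.FlatFP_helper2

/-!
# Relative pseudo-coherence, part n: pseudo-coherent morphisms, closed immersions (helper3)

* `gpc_unit_iff_ring`, `isNPseudoCoherent_iff_pcMor`: `O_X` is pseudo-coherent relative to `f` iff
  `f` is a pseudo-coherent morphism (ring maps on affine opens).
* `isNPseudoCoherent_of_flat_lfp`.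
* `relPC_closedImmersion_iff`: for a closed immersion `i`, relative pseudo-coherence of `E` is
  absolute pseudo-coherence of `Ri_* E`.
* `main7226`, `main7211`, `main6201`.
-/

set_option autoImplicit false
set_option linter.all false
set_option maxHeartbeats 1600000
set_option backward.isDefEq.respectTransparency false
set_option backward.isDefEq.respectTransparency.types false
set_option backward.defeqAttrib.useBackward true

universe u
open CategoryTheory CategoryTheory.Limits AlgebraicGeometry Opposite TopologicalSpace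
open CategoryTheory.Pretriangulated

attribute [local instance] HasDerivedCategory.standard

namespace Groth.Agent.Lib.RelPCbH3

open Groth.Agent.Lib.DCohLocLead DerivedCategory Groth.Agent.Lib.FpqcPCH3
  Groth.Agent.Lib.FinPushPCH3 Groth.Agent.Lib.BCOpenL Groth.Agent.Lib.RelPCaH3
  Groth.Agent.Lib.DMod_helper6 Groth.Agent.Lib.TildePCH3 Groth.Agent.Lib.TildeAmpL DRing

noncomputable section

local instance hasRpushInst16 {X Y : Scheme.{u}} (f : X ⟶ Y) : DCoh.HasRpush f := hasRpush f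

section PCMor

variable {X S : Scheme.{u}} (f : X ⟶ S)

/-- the dictionary for the structure sheaf -/
theorem gpc_unit_iff_ring (U : X.Opens) (hU : IsAffineOpen U) {P : Type u} [CommRing P]
    (φ : P →+* Γ(X, U)) (n : ℤ) :
    GPC n (DCoh.toD X (DerSch.unitCx X)) U φ ↔
      DRing.IsPseudoCoherent P n ((DRing.restrictD φ).obj (Dual.inD Γ(X, U) Γ(X, U))) := by
  haveI : PreservesFiniteLimits (tilde.functor Γ(X, U)) :=
    Groth.Agent.Lib.LpullQCL.preservesFiniteLimits_tilde Γ(X, U)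
  obtain ⟨e⟩ := nonempty_unit_ring_rep U hU
  exact gpc_iff_ring U hU φ n _ _ e

theorem isNPseudoCoherent_iff_pcMor [LocallyOfFiniteType f] :
    (∀ n : ℤ, DerSch.IsNPseudoCoherent f n) ↔ MoreMor.IsPseudoCoherentMor f := by
  constructor
  · intro hf U V hU hV hUV
    letI := (f.appLE V U hUV).hom.toAlgebra
    obtain ⟨k, α, hα, hchart⟩ := exists_isChart_algHom f U V hUV
      (LocallyOfFiniteType.finiteType_appLE f hV hU hUV)
    exact (Groth.Agent.Lib.PCHom.pch_iff_via α hα).2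
      (resPC_of_chart f hf ⟨U, hU⟩ ⟨V, hV⟩ hUV _ hchart)
  · intro hf n
    show DerSch.IsPseudoCoherentRel f n (DCoh.toD X (DerSch.unitCx X))
    rw [relPC_iff_forall_gpc]
    intro U V hUV k φ hφ
    letI := (f.appLE (V : S.Opens) (U : X.Opens) hUV).hom.toAlgebra
    let α : MvPolynomial (Fin k) Γ(S, (V : S.Opens)) →ₐ[Γ(S, (V : S.Opens))]
        Γ(X, (U : X.Opens)) :=
      { φ with commutes' := fun r => DFunLike.congr_fun hφ.2 r }
    have h1 : resPC φ (Dual.inD Γ(X, (U : X.Opens)) Γ(X, (U : X.Opens))) :=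
      (Groth.Agent.Lib.PCHom.pch_iff_via α hφ.1).1 (hf U.1 V.1 U.2 V.2 hUV)
    rw [gpc_unit_iff_ring U.1 U.2 φ n]
    exact (isPseudoCoherent'_iff_forall _).1 h1 n

theorem isNPseudoCoherent_of_flat_lfp [Flat f] [LocallyOfFinitePresentation f] (n : ℤ) :
    DerSch.IsNPseudoCoherent f n := by
  haveI : LocallyOfFiniteType f := inferInstance
  refine (isNPseudoCoherent_iff_pcMor f).2 ?_ n
  intro U V hU hV hUV
  exact (Groth.Agent.Lib.PCHom.main7172 f U V hU hV hUV).1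

end PCMor

section IsoPush

variable {Y Z : Scheme.{u}} (θ : Y ⟶ Z) [IsIso θ]

theorem isPC_RP_of_isIso_iff (L : DCoh.D Y) (m : ℤ) :
    DCoh.IsPseudoCoherentD m ((RP θ).obj L) ↔ DCoh.IsPseudoCoherentD m L := by
  obtain ⟨b⟩ := Groth.Agent.Lib.RpushQCL.nonempty_Rpush_iso_restrictD θ
  obtain ⟨c⟩ := nonempty_DD_hom_inv (asIso θ) L
  constructor
  · intro h
    have h1 : DCoh.IsPseudoCoherentD m ((DD (inv θ)).obj L) := isPC_of_iso (b.app L) h
    exact isPC_of_iso c (isPC_restrict h1 θ)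
  · intro h
    exact isPC_of_iso (b.app L).symm (isPC_restrict h (inv θ))

end IsoPush

section ClosedImm

variable {X P : Scheme.{u}} (i : X ⟶ P) [IsClosedImmersion i]

theorem cImm_appLE_eq (V : P.Opens) :
    cImm (i ⁻¹ᵁ V) (i.appLE V (i ⁻¹ᵁ V) le_rfl).hom = (i ∣_ V) ≫ V.toSpecΓ := by
  unfold cImm
  rw [← Scheme.Hom.resLE_eq_morphismRestrict, ← Scheme.Opens.toSpecΓ_SpecMap_appLE]
  rfl

theorem gpc_ci_iff (V : P.Opens) (hV : IsAffineOpen V) (m : ℤ) (E : DCoh.D X) :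
    GPC m E (i ⁻¹ᵁ V) (i.appLE V (i ⁻¹ᵁ V) le_rfl).hom ↔
      DCoh.IsPseudoCoherentD m ((DD V.ι).obj ((RP i).obj E)) := by
  haveI : IsIso V.toSpecΓ := by
    rw [← IsAffineOpen.isoSpec_hom hV]
    infer_instance
  obtain ⟨b1⟩ := nonempty_Rpush_congr (cImm_appLE_eq i V)
  obtain ⟨b2⟩ := Groth.Agent.Lib.LpullAdjH3.nonempty_Rpush_comp_iso (i ∣_ V) V.toSpecΓ
  obtain ⟨b3⟩ := main6508 i V
  have e1 : (RP (cImm (i ⁻¹ᵁ V) (i.appLE V (i ⁻¹ᵁ V) le_rfl).hom)).obj
      ((DD (i ⁻¹ᵁ V).ι).obj E) ≅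
      (RP V.toSpecΓ).obj ((RP (i ∣_ V)).obj ((DD (i ⁻¹ᵁ V).ι).obj E)) :=
    b1.app _ ≪≫ (b2.app _).symm
  have e2 : (DD V.ι).obj ((RP i).obj E) ≅ (RP (i ∣_ V)).obj ((DD (i ⁻¹ᵁ V).ι).obj E) :=
    b3.app E
  constructor
  · intro h
    exact isPC_of_iso e2.symm ((isPC_RP_of_isIso_iff V.toSpecΓ _ m).mp (isPC_of_iso e1 h))
  · intro h
    exact isPC_of_iso e1.symm ((isPC_RP_of_isIso_iff V.toSpecΓ _ m).mpr (isPC_of_iso e2 h))

/-- the chart without variables of a closed immersion over an affine open -/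
def ciChart (V : P.Opens) : MvPolynomial (Fin 0) Γ(P, V) →+* Γ(X, i ⁻¹ᵁ V) :=
  (i.appLE V (i ⁻¹ᵁ V) le_rfl).hom.comp
    (MvPolynomial.isEmptyRingEquiv Γ(P, V) (Fin 0)).toRingHom

theorem isChart_ciChart (V : P.Opens) (hV : IsAffineOpen V) :
    DerSch.IsChart i (i ⁻¹ᵁ V) V le_rfl (ciChart i V) := by
  constructor
  · have h := Scheme.Hom.app_surjective i V hV
    rw [Scheme.Hom.app_eq_appLE] at h
    intro b
    obtain ⟨r, hr⟩ := h b
    refine ⟨(MvPolynomial.isEmptyRingEquiv Γ(P, V) (Fin 0)).symm r, ?_⟩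
    show (i.appLE V (i ⁻¹ᵁ V) le_rfl).hom
      ((MvPolynomial.isEmptyRingEquiv Γ(P, V) (Fin 0))
        ((MvPolynomial.isEmptyRingEquiv Γ(P, V) (Fin 0)).symm r)) = b
    rw [RingEquiv.apply_symm_apply]
    exact hr
  · ext r
    show (i.appLE V (i ⁻¹ᵁ V) le_rfl).hom
      (MvPolynomial.isEmptyRingEquiv Γ(P, V) (Fin 0) (MvPolynomial.C r)) = _
    have h1 : (MvPolynomial.C r : MvPolynomial (Fin 0) Γ(P, V)) =
        (MvPolynomial.isEmptyRingEquiv Γ(P, V) (Fin 0)).symm r := by simp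
    rw [h1, RingEquiv.apply_symm_apply]

theorem gpc_ciChart_iff (V : P.Opens) (hV : IsAffineOpen V) (m : ℤ) (E : DCoh.D X) :
    GPC m E (i ⁻¹ᵁ V) (ciChart i V) ↔
      DCoh.IsPseudoCoherentD m ((DD V.ι).obj ((RP i).obj E)) :=
  (gpc_comp_ringEquiv_iff (i ⁻¹ᵁ V) (i.appLE V (i ⁻¹ᵁ V) le_rfl).hom
    (MvPolynomial.isEmptyRingEquiv Γ(P, V) (Fin 0)) m E).trans (gpc_ci_iff i V hV m E)

/-- **closed immersions**: relative pseudo-coherence is pseudo-coherence of the direct image -/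
theorem relPC_closedImmersion_iff (m : ℤ) (E : DCoh.D X) :
    DerSch.IsPseudoCoherentRel i m E ↔ DCoh.IsPseudoCoherentD m ((RP i).obj E) := by
  constructor
  · intro H
    rw [relPC_iff_forall_gpc] at H
    refine isPC_of_pointwise m _ (fun y => ?_)
    obtain ⟨V₀, hV, hyV, -⟩ := Opens.isBasis_iff_nbhd.mp P.isBasis_affineOpens
      (show y ∈ (⊤ : P.Opens) from trivial)
    let V : P.Opens := V₀
    refine ⟨V, V.ι, inferInstance, ⟨⟨y, hyV⟩, rfl⟩, ?_⟩
    have hU : IsAffineOpen (i ⁻¹ᵁ V) := hV.preimage i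
    exact (gpc_ciChart_iff i V hV m E).mp
      (H ⟨i ⁻¹ᵁ V, hU⟩ ⟨V, hV⟩ le_rfl (ciChart i V) (isChart_ciChart i V hV))
  · intro H
    refine ⟨inferInstance, Set.univ, ?_, fun V _ =>
      ⟨{U | (U : X.Opens) = i ⁻¹ᵁ (V : P.Opens)}, ?_, ?_⟩⟩
    · rw [eq_top_iff]
      intro y _
      obtain ⟨V, hV, hyV, -⟩ := Opens.isBasis_iff_nbhd.mp P.isBasis_affineOpens
        (show y ∈ (⊤ : P.Opens) from trivial)
      exact Opens.mem_iSup.mpr ⟨⟨V, hV⟩, Opens.mem_iSup.mpr ⟨Set.mem_univ _, hyV⟩⟩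
    · apply le_antisymm
      · exact iSup₂_le (fun U hU => le_of_eq hU)
      · intro x hx
        exact Opens.mem_iSup.mpr ⟨⟨i ⁻¹ᵁ (V : P.Opens), V.2.preimage i⟩,
          Opens.mem_iSup.mpr ⟨rfl, hx⟩⟩
    · rintro ⟨U, hU⟩ hUeq h
      have hUeq' : U = i ⁻¹ᵁ (V : P.Opens) := hUeq
      subst hUeq'
      have hc := isChart_ciChart i V.1 V.2
      refine ⟨0, ciChart i V.1, hc, ?_⟩
      rw [chartPC_iff_gpc m E _ hU V.1 _ hc.1]
      exact (gpc_ciChart_iff i V.1 V.2 m E).mpr (isPC_restrict H V.1.ι)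

end ClosedImm

section Mains

theorem main7226 {X T S : Scheme.{u}}
    (a : X ⟶ T) (b : T ⟶ S) [LocallyOfFiniteType a] [Flat b] [LocallyOfFinitePresentation b]
    (m : ℤ) (E : DCoh.D X) :
    DerSch.IsPseudoCoherentRel (a ≫ b) m E ↔ DerSch.IsPseudoCoherentRel a m E := by
  haveI : LocallyOfFiniteType b := inferInstance
  exact (main12088 a b (isNPseudoCoherent_of_flat_lfp b) m E).symm

theorem main7211 {X P S : Scheme.{u}} (i : X ⟶ P)
    [IsClosedImmersion i] (g : P ⟶ S) [Flat g] [LocallyOfFinitePresentation g] (m : ℤ)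
    (F : CochainComplex X.Modules ℤ) :
    (DerSch.IsPseudoCoherentRel (i ≫ g) m (DCoh.toD X F) ↔
        DCoh.IsPseudoCoherentD m (DCoh.toD P ((DerSch.pushCx i).obj F))) ∧
      (DerSch.IsPseudoCoherentRel g m (DCoh.toD P ((DerSch.pushCx i).obj F)) ↔
        DCoh.IsPseudoCoherentD m (DCoh.toD P ((DerSch.pushCx i).obj F))) := by
  haveI : LocallyOfFiniteType g := inferInstance
  haveI : LocallyOfFiniteType i := inferInstance
  have hg := isNPseudoCoherent_of_flat_lfp g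
  let e : (RP i).obj (DCoh.toD X F) ≅ DCoh.toD P ((DerSch.pushCx i).obj F) :=
    Groth.Agent.Lib.ProjFormulaH3.RpushQIso i F
  refine ⟨?_, (isPC_iff_relPC_of_isNPseudoCoherent g hg m _).symm⟩
  rw [← main12088 i g hg m _, relPC_closedImmersion_iff]
  exact ⟨fun h => isPC_of_iso e h, fun h => isPC_of_iso e.symm h⟩

theorem main6201 {X Y Z : Scheme.{u}} (f : X ⟶ Y) [IsClosedImmersion f]
    (g : Y ⟶ Z) [Smooth g] (n : ℤ) (E : CochainComplex X.Modules ℤ) :
    DerSch.IsPseudoCoherentRel (f ≫ g) n (DCoh.toD X E) ↔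
      DCoh.IsPseudoCoherentD n (DCoh.toD Y
        (((Scheme.Modules.pushforward f).mapHomologicalComplex (ComplexShape.up ℤ)).obj E)) := by
  haveI : Flat g := inferInstance
  haveI : LocallyOfFinitePresentation g := inferInstance
  exact (main7211 f g n E).1

end Mains

end

end Groth.Agent.Lib.RelPCbH3
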