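import Mathlib
import Groth.Prelude
import Groth.Agent.Lib.DMod43_helper6
import Groth.Agent.Lib.DMod9_helper6
import Groth.Agent.Lib.FlatAmpDesc_helper3

/-!
# `R`-perfect complexes of `A`-modules are represented by bounded complexes of finitely presented
`A`-modules flat over `R` (helper3)
-/

set_option autoImplicit false
set_option linter.all false
set_option maxHeartbeats 1600000

universe u
open CategoryTheory CategoryTheory.Limits Pretriangulated DerivedCategory ZeroObject
attribute [local instance] HasDerivedCategory.standard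

namespace Groth.Agent.Lib.RelPerfRingH3

open DRing Groth.Agent.Lib.DMod_helper6 Groth.Agent.Lib.ExtKFlat Groth.Agent.Lib.TorAmpLT
  Groth.Agent.Lib.FlatAmpDescH3

noncomputable section

variable {R A : Type u} [CommRing R] [CommRing A] [Algebra R A]

/-- restriction of scalars on complexes -/
abbrev RCx : Cx A ⥤ Cx R := (res R A).mapHomologicalComplex (ComplexShape.up ℤ)

/-- the cokernel of a restricted map -/
def resCokerIso {M N : ModuleCat.{u} A} (d : M ⟶ N) :
    (res R A).obj (ModuleCat.of A (N ⧸ LinearMap.range d.hom)) ≅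
      ModuleCat.of R ((res R A).obj N ⧸ LinearMap.range ((res R A).map d).hom) :=
  (res R A).mapIso (ModuleCat.cokernelIsoRangeQuotient d).symm ≪≫
    PreservesCokernel.iso (res R A) d ≪≫ ModuleCat.cokernelIsoRangeQuotient ((res R A).map d)

/-- a pseudo-coherent complex of `A`-modules with tor amplitude in `[a, b]` over `R` is represented
by a complex of finitely presented `A`-modules, flat over `R`, vanishing outside `[a, b₁]` -/
theorem exists_fp_flat_rep [Module.Flat R A] (K : Dual.D A) (hpc : IsPseudoCoherent' A K)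
    (a b : ℤ) (h : HasTorAmplitudeIn R a b ((restrictD (algebraMap R A)).obj K)) :
    ∃ (T : Cx A) (b₁ : ℤ), VanishesOutside T a b₁ ∧
      (∀ i, Module.FinitePresentation A (T.X i)) ∧
      (∀ i, Module.Flat R ((res R A).obj (T.X i))) ∧ Nonempty (toD T ≅ K) := by
  obtain ⟨E, b₁, hEb, hEff, ⟨eE⟩⟩ := hpc
  let RE : Cx R := (RCx (R := R) (A := A)).obj E
  have hEf : TermwiseFlat E := fun i => by haveI := (hEff i).2; infer_instance
  have hREf : TermwiseFlat RE := fun i => flat_res (A := R) (B := A) (E.X i) (hEf i)
  have hREb : VanishesAbove RE b₁ := fun i hi => (res R A).map_isZero (hEb i hi)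
  have eR : toD RE ≅ (restrictD (algebraMap R A)).obj K :=
    ((res R A).mapDerivedCategoryFactors.app E).symm ≪≫ (restrictD (algebraMap R A)).mapIso eE
  have hamp : HasTorAmplitudeIn R a b (toD RE) := hasTorAmplitudeIn_of_iso eR.symm a b h
  obtain ⟨F, hF, hFf, ⟨eF⟩⟩ := hamp
  have hex0 : ∀ i, i ≤ a - 1 → E.ExactAt i := fun i hi => by
    have h1 : RE.ExactAt i :=
      exactAt_of_iso_toD RE F eF.symm i (Groth.Agent.Lib.DMod_helper6.exactAt_of_isZero_X F i
        (hF i (Or.inl (by omega))))
    exact (exactAt_map_iff (res R A) E i).1 h1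
  have hcoker : Module.Flat R
      (RE.X (a - 1 + 1) ⧸ LinearMap.range (RE.d (a - 1) (a - 1 + 1)).hom) :=
    flat_coker_of_TN_exact RE (a - 1) (a - 1 + 1) rfl (hREf _)
      (fun N => exactAt_TN_of_hasTorAmplitudeIn RE b₁ hREb hREf a b ⟨F, hF, hFf, ⟨eF⟩⟩ N (a - 1)
        (by omega))
  obtain ⟨T, π, hπ, hT0, hTiso, ⟨eT⟩⟩ := exists_trunc_desc E (a - 1) hex0
  have hfpq : Module.FinitePresentation A
      (E.X (a - 1 + 1) ⧸ LinearMap.range (E.d (a - 1) (a - 1 + 1)).hom) := by
    haveI := (hEff (a - 1 + 1)).1
    haveI := (hEff (a - 1 + 1)).2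
    haveI := (hEff (a - 1)).1
    haveI : Module.FinitePresentation A (E.X (a - 1 + 1)) :=
      Module.finitePresentation_of_projective A _
    refine Module.finitePresentation_of_surjective
      (LinearMap.range (E.d (a - 1) (a - 1 + 1)).hom).mkQ (Submodule.mkQ_surjective _) ?_
    rw [Submodule.ker_mkQ, LinearMap.range_eq_map]
    exact (Module.Finite.fg_top).map _
  have hflq : Module.Flat R ((res R A).obj (ModuleCat.of A
      (E.X (a - 1 + 1) ⧸ LinearMap.range (E.d (a - 1) (a - 1 + 1)).hom))) :=
    flat_of_iso (resCokerIso (R := R) (E.d (a - 1) (a - 1 + 1))).symm hcoker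
  refine ⟨T, b₁, ?_, ?_, ?_, ⟨(asIso (Q.map π)).symm ≪≫ eE⟩⟩
  · intro i hi
    rcases hi with hi | hi
    · exact hT0 i (by omega)
    · rcases lt_trichotomy i (a - 1 + 1) with h1 | h1 | h1
      · exact hT0 i (by omega)
      · subst h1
        haveI : Subsingleton (E.X (a - 1 + 1)) := ModuleCat.subsingleton_of_isZero (hEb _ hi)
        have : Subsingleton
            (E.X (a - 1 + 1) ⧸ LinearMap.range (E.d (a - 1) (a - 1 + 1)).hom) :=
          (Submodule.mkQ_surjective _).subsingleton
        exact IsZero.of_iso (@ModuleCat.isZero_of_subsingleton _ _ (ModuleCat.of A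
          (E.X (a - 1 + 1) ⧸ LinearMap.range (E.d (a - 1) (a - 1 + 1)).hom)) this) eT
      · obtain ⟨e'⟩ := hTiso i h1
        exact IsZero.of_iso (hEb i hi) e'
  · intro i
    rcases lt_trichotomy i (a - 1 + 1) with h1 | h1 | h1
    · haveI : Subsingleton (T.X i) := ModuleCat.subsingleton_of_isZero (hT0 i (by omega))
      infer_instance
    · subst h1
      exact finitePresentation_of_iso eT.symm hfpq
    · obtain ⟨e'⟩ := hTiso i h1
      haveI := (hEff i).1
      haveI := (hEff i).2
      haveI : Module.FinitePresentation A (E.X i) := Module.finitePresentation_of_projective A _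
      exact finitePresentation_of_iso e'.symm inferInstance
  · intro i
    rcases lt_trichotomy i (a - 1 + 1) with h1 | h1 | h1
    · exact flat_of_isZero _ ((res R A).map_isZero (hT0 i (by omega)))
    · subst h1
      exact flat_of_iso ((res R A).mapIso eT).symm hflq
    · obtain ⟨e'⟩ := hTiso i h1
      exact flat_of_iso ((res R A).mapIso e').symm (hREf i)

end

end Groth.Agent.Lib.RelPerfRingH3
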