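import Mathlib
import Groth.Prelude
import Groth.Agent.Lib.RelPerfLoc2_helper3
import Groth.Agent.Lib.RelPerfRing_helper3
import Groth.Agent.Lib.RelPCq_helper3
import Groth.Agent.Lib.RelPCn_helper3
import Groth.Agent.Lib.RelPCh_helper3
import Groth.Agent.Lib.RelPCm_helper3
import Groth.Agent.Lib.PCohFT2_lead
import Groth.Agent.Lib.RpushPCUnb_helper3
import Groth.Agent.Lib.HomVan2_lead
import Groth.Agent.Lib.DMod28_helper6
import Groth.Agent.Lib.DMod50_helper6

/-!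
# Relatively perfect objects are locally bounded complexes of finitely presented modules flat over
the base (helper3; S7275)
-/

set_option autoImplicit false
set_option linter.all false
set_option maxHeartbeats 1600000
set_option backward.isDefEq.respectTransparency false
set_option backward.isDefEq.respectTransparency.types false
set_option backward.defeqAttrib.useBackward true

universe u
open CategoryTheory CategoryTheory.Limits AlgebraicGeometry Opposite TopologicalSpace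
attribute [local instance] HasDerivedCategory.standard

namespace Groth.Agent.Lib.RelPerfLocH3

open DRing DerSch Groth.Agent.Lib.DMod_helper6 Groth.Agent.Lib.DCohLocLead
  Groth.Agent.Lib.TorAmpRelH3 Groth.Agent.Lib.TorSmoothH3 DerivedCategory
  Groth.Agent.Lib.RelPCbH3

noncomputable section

/-- S7259 in `CommRingCat` form -/
theorem hasTorAmplitude_tildeD_iff' {R A : CommRingCat.{u}} (φ : R ⟶ A)
    [PreservesFiniteLimits (tilde.functor A)] (M : DerivedCategory (ModuleCat.{u} A))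
    (F : CochainComplex (Spec A).Modules ℤ)
    (hF : Nonempty (DCoh.toD (Spec A) F ≅ (DCoh.tildeD A).obj M)) (a b : ℤ) :
    HasTorAmplitude (Spec.map φ) a b F ↔
      HasTorAmplitudeIn R a b ((restrictD φ.hom).obj M) :=
  Groth.Agent.Lib.RelTildeAmpH3.main7259 φ.hom M F hF a b

/-- S1004 in `CommRingCat` form -/
theorem isPC_tildeD_iff' (A : CommRingCat.{u}) [PreservesFiniteLimits (tilde.functor A)]
    (M : DerivedCategory (ModuleCat.{u} A)) (m : ℤ) :
    DCoh.IsPseudoCoherentD m ((DCoh.tildeD A).obj M) ↔ DRing.IsPseudoCoherent A m M :=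
  Groth.Agent.Lib.TildePCH3.main1004 A M m

section FpFlat

variable {Y S : Scheme.{u}} (h : Y ⟶ S)

/-- a bounded above complex of finitely presented modules flat over the base of a flat morphism
locally of finite presentation is pseudo-coherent -/
theorem isPC_of_fp_flat_terms [Flat h] [LocallyOfFinitePresentation h]
    (G : CochainComplex Y.Modules ℤ) (b : ℤ) (hb : ∀ i : ℤ, b < i → IsZero (G.X i))
    (hfp : ∀ i : ℤ, CohB1.IsFP (G.X i)) (hfl : ∀ i : ℤ, FlatMod.IsFlatOver h (G.X i)) (m : ℤ) :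
    DCoh.IsPseudoCoherentD m (DCoh.toD Y G) := by
  haveI : LocallyOfFiniteType h := inferInstance
  have hg : ∀ n : ℤ, DerSch.IsNPseudoCoherent h n := fun n => isNPseudoCoherent_of_flat_lfp h n
  have hfp' : ∀ i : ℤ, DerSch.IsPseudoCoherentRel h (-1)
      (DCoh.toD Y ((HomologicalComplex.single _ (ComplexShape.up ℤ) 0).obj (G.X i))) := fun i =>
    relPC_of_iso h (single0Iso (G.X i)).symm (-1)
      ((isPC_iff_relPC_of_isNPseudoCoherent h hg (-1) _).1 ((main6518 (G.X i)).2.2 (hfp i)))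
  exact (isPC_iff_relPC_of_isNPseudoCoherent h hg m _).2 (main6215 h G b hb hfl hfp' m)

end FpFlat

variable {X S : Scheme.{u}} (f : X ⟶ S)

/-- two representatives have isomorphic restrictions -/
def restrictRepIso (V : X.Opens) (E : DCoh.D X) (F F' : CochainComplex X.Modules ℤ)
    (e : DCoh.toD X F ≅ E) (e' : DCoh.toD X F' ≅ E) :
    Q.obj ((DCoh.restrictCx V).obj F) ≅ Q.obj ((DCoh.restrictCx V).obj F') :=
  (facIso V.ι F).symm ≪≫ (DD V.ι).mapIso (e ≪≫ e'.symm) ≪≫ facIso V.ι F'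

/-- the local structure implies relative perfectness -/
theorem relPerfect_of_local_fp_flat [Flat f] [LocallyOfFinitePresentation f] (E : DCoh.D X)
    (H : ∀ x : X, ∃ V : X.Opens, x ∈ V ∧ ∀ F : CochainComplex X.Modules ℤ,
      Nonempty (DCoh.toD X F ≅ E) →
        ∃ (G : CochainComplex (V : Scheme.{u}).Modules ℤ) (a b : ℤ), DCoh.VanishesOutside G a b ∧
          (∀ i : ℤ, CohB1.IsFP (G.X i) ∧ FlatMod.IsFlatOver (V.ι ≫ f) (G.X i)) ∧
          Nonempty (DerivedCategory.Q.obj ((DCoh.restrictCx V).obj F) ≅ DerivedCategory.Q.obj G)) :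
    (∀ m : ℤ, DCoh.IsPseudoCoherentD m E) ∧ DCoh.LocHasFiniteRelTorDim f E := by
  let F0 : CochainComplex X.Modules ℤ := Q.objPreimage E
  let eF : DCoh.toD X F0 ≅ E := Q.objObjPreimageIso E
  choose V hxV hV using H
  constructor
  · intro m
    refine Groth.Agent.Lib.FpqcPCH3.isPC_of_cover m E (fun x : X => ((V x : X.Opens) : Scheme.{u}))
      (fun x => (V x).ι) (fun x => ⟨x, ⟨x, hxV x⟩, rfl⟩) (fun x => ?_)
    obtain ⟨G, a, b, hG, hterms, ⟨eG⟩⟩ := hV x F0 ⟨eF⟩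
    have h1 : DCoh.IsPseudoCoherentD m (DCoh.toD _ G) :=
      isPC_of_fp_flat_terms ((V x).ι ≫ f) G b (fun i hi => hG i (Or.inr hi))
        (fun i => (hterms i).1) (fun i => (hterms i).2) m
    exact isPC_of_iso (eG.symm ≪≫ (facIso (V x).ι F0).symm ≪≫ (DD (V x).ι).mapIso eF) h1
  · intro x
    obtain ⟨G, a, b, hG, hterms, ⟨eG⟩⟩ := hV x F0 ⟨eF⟩
    refine ⟨V x, a, b, hxV x, fun F' hF' => ?_⟩
    obtain ⟨e'⟩ := hF'
    exact ⟨G, hG, fun i => (hterms i).2,
      ⟨eG.symm ≪≫ restrictRepIso (V x) E F0 F' eF e'⟩⟩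

section Chart

variable (U : X.Opens) (hU : IsAffineOpen U) (W : S.Opens) (hW : IsAffineOpen W)
  (hUW : U ≤ f ⁻¹ᵁ W)

/-- the tilde complex, transported to `U` -/
abbrev GU (T : Cx Γ(X, U)) : CochainComplex (U : Scheme.{u}).Modules ℤ :=
  (RC hU.isoSpec.hom).obj
    (((tilde.functor Γ(X, U)).mapHomologicalComplex (ComplexShape.up ℤ)).obj T)

include hU hW in
lemma chart_comm' : hU.isoSpec.hom ≫ (gC f U W hUW ≫ hW.fromSpec) = U.ι ≫ f := by
  rw [chart_comm f U hU W hW hUW, ← Category.assoc, Iso.hom_inv_id, Category.id_comp]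

/-- the derived class of a transported tilde module -/
def inDGUIso [PreservesFiniteLimits (tilde.functor Γ(X, U))] (N : ModuleCat.{u} Γ(X, U)) :
    DCoh.inD (U : Scheme.{u})
        ((Scheme.Modules.restrictFunctor hU.isoSpec.hom).obj ((tilde.functor Γ(X, U)).obj N)) ≅
      (DD hU.isoSpec.hom).obj ((DCoh.tildeD Γ(X, U)).obj (Dual.inD Γ(X, U) N)) :=
  (restrictInDIso hU.isoSpec.hom ((tilde.functor Γ(X, U)).obj N)).symm ≪≫
    (DD hU.isoSpec.hom).mapIso
      (((tilde.functor Γ(X, U)).mapDerivedCategorySingleFunctor 0).app N).symm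

/-- finitely presented modules give finitely presented sheaves on `U` -/
theorem isFP_GU [PreservesFiniteLimits (tilde.functor Γ(X, U))] (N : ModuleCat.{u} Γ(X, U))
    (hN : Module.FinitePresentation Γ(X, U) N) :
    CohB1.IsFP ((Scheme.Modules.restrictFunctor hU.isoSpec.hom).obj
      ((tilde.functor Γ(X, U)).obj N)) := by
  refine (main6518 _).2.1 (isPC_of_iso (inDGUIso U hU N).symm (isPC_restrict ?_ hU.isoSpec.hom))
  rw [isPC_tildeD_iff']
  exact (isPseudoCoherentModule_negOne_iff Γ(X, U) N).2 hN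

include hW in
/-- modules flat over the base ring give sheaves on `U` flat over `S` -/
theorem isFlatOver_GU [PreservesFiniteLimits (tilde.functor Γ(X, U))] (N : ModuleCat.{u} Γ(X, U))
    (hN : Module.Flat Γ(S, W) ((ModuleCat.restrictScalars (f.appLE W U hUW).hom).obj N)) :
    FlatMod.IsFlatOver (U.ι ≫ f) ((Scheme.Modules.restrictFunctor hU.isoSpec.hom).obj
      ((tilde.functor Γ(X, U)).obj N)) := by
  intro u
  rw [← hasTorAmplitudeAt_single_iff]
  let Nt : (Spec Γ(X, U)).Modules := (tilde.functor Γ(X, U)).obj N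
  let L : CochainComplex (Spec Γ(X, U)).Modules ℤ :=
    (HomologicalComplex.single _ (ComplexShape.up ℤ) 0).obj Nt
  have eL : DCoh.toD (Spec Γ(X, U)) L ≅ (DCoh.tildeD Γ(X, U)).obj (Dual.inD Γ(X, U) N) :=
    single0Iso Nt ≪≫ (((tilde.functor Γ(X, U)).mapDerivedCategorySingleFunctor 0).app N).symm
  have h0 : HasTorAmplitudeIn Γ(S, W) 0 0
      ((restrictD (f.appLE W U hUW).hom).obj (Dual.inD Γ(X, U) N)) :=
    hasTorAmplitudeIn_of_iso (restrictDInDIso (f.appLE W U hUW).hom N).symm 0 0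
      ((hasTorAmplitudeIn_zero_zero_iff_flat (A := Γ(S, W))
        ((ModuleCat.restrictScalars (f.appLE W U hUW).hom).obj N)).2 hN)
  have h1 : HasTorAmplitudeAt (gC f U W hUW) 0 0 L (hU.isoSpec.hom.base u) :=
    (hasTorAmplitude_tildeD_iff' (f.appLE W U hUW) (Dual.inD Γ(X, U) N) L ⟨eL⟩ 0 0).2 h0 _
  have h2 := hasTorAmplitudeAt_comp_openImmersion (gC f U W hUW) hW.fromSpec L 0 0 _ h1
  have h3 := hasTorAmplitudeAt_restrict hU.isoSpec.hom (gC f U W hUW ≫ hW.fromSpec) u L 0 0 h2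
  rw [chart_comm' f U hU W hW hUW] at h3
  let e1 : (RC hU.isoSpec.hom).obj L ≅
      (HomologicalComplex.single _ (ComplexShape.up ℤ) 0).obj
        ((Scheme.Modules.restrictFunctor hU.isoSpec.hom).obj Nt) :=
    (HomologicalComplex.singleMapHomologicalComplex
      (Scheme.Modules.restrictFunctor hU.isoSpec.hom) (ComplexShape.up ℤ) 0).app Nt
  exact Groth.Agent.Lib.RelFlatAmpH3.hasTorAmplitudeAt_of_iso (U.ι ≫ f) (Q.mapIso e1) 0 0 u h3

end Chart

/-- relatively perfect objects have the local structure -/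
theorem local_fp_flat_of_relPerfect [Flat f] [LocallyOfFinitePresentation f] (E : DCoh.D X)
    (hPC : ∀ m : ℤ, DCoh.IsPseudoCoherentD m E) (hT : DCoh.LocHasFiniteRelTorDim f E) (x : X) :
    ∃ V : X.Opens, x ∈ V ∧ ∀ F : CochainComplex X.Modules ℤ,
      Nonempty (DCoh.toD X F ≅ E) →
        ∃ (G : CochainComplex (V : Scheme.{u}).Modules ℤ) (a b : ℤ), DCoh.VanishesOutside G a b ∧
          (∀ i : ℤ, CohB1.IsFP (G.X i) ∧ FlatMod.IsFlatOver (V.ι ≫ f) (G.X i)) ∧
          Nonempty (DerivedCategory.Q.obj ((DCoh.restrictCx V).obj F) ≅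
            DerivedCategory.Q.obj G) := by
  obtain ⟨W₀, hW₀, hxW₀, -⟩ := Opens.isBasis_iff_nbhd.mp S.isBasis_affineOpens
    (show f.base x ∈ (⊤ : S.Opens) from trivial)
  obtain ⟨W, hW, hxW⟩ : ∃ W : S.Opens, IsAffineOpen W ∧ f.base x ∈ W := ⟨W₀, hW₀, hxW₀⟩
  obtain ⟨U₀, hU₀, hxU₀, hUW₀⟩ := Opens.isBasis_iff_nbhd.mp X.isBasis_affineOpens
    (show x ∈ f ⁻¹ᵁ W from hxW)
  obtain ⟨U, hU, hxU, hUW⟩ : ∃ U : X.Opens, IsAffineOpen U ∧ x ∈ U ∧ U ≤ f ⁻¹ᵁ W :=
    ⟨U₀, hU₀, hxU₀, hUW₀⟩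
  haveI : PreservesFiniteLimits (tilde.functor Γ(X, U)) :=
    Groth.Agent.Lib.LpullQCL.preservesFiniteLimits_tilde Γ(X, U)
  have hq : DCoh.IsQCohD E := Groth.Agent.Lib.RpushPCUnbH3.isQCohD_of_forall_isPC E hPC
  have hqU : DCoh.IsQCohD (EC U hU E) :=
    Groth.Agent.Lib.LpullQCL.isQCohD_restrictD _ _
      (Groth.Agent.Lib.LpullQCL.isQCohD_restrictD _ _ hq)
  obtain ⟨M, ⟨eM⟩⟩ := ((Groth.Agent.Lib.DSectX.main0997 Γ(X, U)).2.2 _).1 hqU
  have hM := isRelPerfect_of_relPerfect f E hPC hT U hU W hW hUW M eM.symm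
  letI : Algebra Γ(S, W) Γ(X, U) := (f.appLE W U hUW).hom.toAlgebra
  haveI : Module.Flat Γ(S, W) Γ(X, U) := f.flat_appLE hW hU hUW
  obtain ⟨hMpc, a, b, hMtor⟩ := hM
  obtain ⟨T, b₁, hTv, hTfp, hTfl, ⟨eT⟩⟩ :=
    Groth.Agent.Lib.RelPerfRingH3.exists_fp_flat_rep (R := Γ(S, W)) (A := Γ(X, U)) M hMpc a b hMtor
  refine ⟨U, hxU, fun F hF => ?_⟩
  obtain ⟨eF⟩ := hF
  refine ⟨GU U hU T, a, b₁, ?_, ?_, ?_⟩
  · intro i hi
    exact (Scheme.Modules.restrictFunctor hU.isoSpec.hom).map_isZero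
      ((tilde.functor Γ(X, U)).map_isZero (hTv i hi))
  · intro i
    exact ⟨isFP_GU U hU (T.X i) (hTfp i), isFlatOver_GU f U hU W hW hUW (T.X i) (hTfl i)⟩
  · -- the isomorphism
    let K : DCoh.D (U : Scheme.{u}) := (DD U.ι).obj E
    obtain ⟨c1⟩ := Groth.Agent.Lib.HomVanL.nonempty_DD_id K
    obtain ⟨c2⟩ := Groth.Agent.Lib.HomVanL.nonempty_DD_congr
      (show hU.isoSpec.hom ≫ hU.isoSpec.inv = 𝟙 (U : Scheme.{u}) from hU.isoSpec.hom_inv_id) K
    obtain ⟨c3⟩ := nonempty_DD_comp_iso hU.isoSpec.hom hU.isoSpec.inv K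
    let Tt : CochainComplex (Spec Γ(X, U)).Modules ℤ :=
      ((tilde.functor Γ(X, U)).mapHomologicalComplex (ComplexShape.up ℤ)).obj T
    let c4 : EC U hU E ≅ Q.obj Tt :=
      eM.symm ≪≫ (DCoh.tildeD Γ(X, U)).mapIso eT.symm ≪≫
        (tilde.functor Γ(X, U)).mapDerivedCategoryFactors.app T
    exact ⟨(facIso U.ι F).symm ≪≫ (DD U.ι).mapIso eF ≪≫ c1.symm ≪≫ c2.symm ≪≫ c3 ≪≫
      (DD hU.isoSpec.hom).mapIso c4 ≪≫ facIso hU.isoSpec.hom Tt⟩

/-- S7275 -/
theorem main7275 [Flat f] [LocallyOfFinitePresentation f] (E : DCoh.D X) :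
    ((∀ m : ℤ, DCoh.IsPseudoCoherentD m E) ∧ DCoh.LocHasFiniteRelTorDim f E) ↔
      ∀ x : X, ∃ V : X.Opens, x ∈ V ∧ ∀ F : CochainComplex X.Modules ℤ,
        Nonempty (DCoh.toD X F ≅ E) →
        ∃ (G : CochainComplex (V : Scheme.{u}).Modules ℤ) (a b : ℤ), DCoh.VanishesOutside G a b ∧
          (∀ i : ℤ, CohB1.IsFP (G.X i) ∧ FlatMod.IsFlatOver (V.ι ≫ f) (G.X i)) ∧
          Nonempty (DerivedCategory.Q.obj ((DCoh.restrictCx V).obj F) ≅
            DerivedCategory.Q.obj G) :=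
  ⟨fun h x => local_fp_flat_of_relPerfect f E h.1 h.2 x, relPerfect_of_local_fp_flat f E⟩

end

end Groth.Agent.Lib.RelPerfLocH3
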