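import Mathlib
import Groth.Prelude.Def_DRing2
import Groth.Prelude.Def_DDual2
import Groth.Agent.Lib.DMod47_helper6

/-!
# The cohomological range of `ω_{A/R}` (helper6, S1790), part 3: tor amplitude can be tested on
cyclic modules `A ⧸ I`.
-/

set_option autoImplicit false
set_option linter.style.haveILetI false
set_option linter.unusedSectionVars false
set_option linter.unusedVariables false
universe u
open CategoryTheory CategoryTheory.Limits DerivedCategory MonoidalCategory
open scoped TensorProduct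
attribute [local instance] HasDerivedCategory.standard

namespace Groth.Agent.Lib.ShriekRangeH6

open DRing Groth.Agent.Lib.DMod_helper6

section Algebra

variable {R : Type u} [CommRing R]

/-- If `C₀ → C₁ → C₂` stays exact at `C₁` after tensoring with any cyclic module `R ⧸ I` and
`C₂` is flat, then `C₂ / im(C₁)` is flat. -/
theorem flat_coker_of_forall_exact_cyclic {C₀ C₁ C₂ : Type u} [AddCommGroup C₀] [AddCommGroup C₁]
    [AddCommGroup C₂] [Module R C₀] [Module R C₁] [Module R C₂]
    (d₀ : C₀ →ₗ[R] C₁) (d₁ : C₁ →ₗ[R] C₂) (hd : d₁.comp d₀ = 0) [Module.Flat R C₂]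
    (hex : ∀ I : Ideal R, Function.Exact (d₀.rTensor (R ⧸ I)) (d₁.rTensor (R ⧸ I))) :
    Module.Flat R (C₂ ⧸ LinearMap.range d₁) := by
  let q : C₂ →ₗ[R] (C₂ ⧸ LinearMap.range d₁) := (LinearMap.range d₁).mkQ
  have hq : Function.Surjective q := Submodule.mkQ_surjective _
  have hdq : Function.Exact d₁ q := LinearMap.exact_map_mkQ_range d₁
  rw [Module.Flat.iff_lTensor_injective']
  intro I
  let L : I →ₗ[R] R := Submodule.subtype I
  have hL : Function.Injective L := Submodule.injective_subtype I
  let p : R →ₗ[R] (R ⧸ I) := Submodule.mkQ I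
  have hp : Function.Surjective p := Submodule.mkQ_surjective _
  have hLp : Function.Exact L p := LinearMap.exact_subtype_mkQ I
  show Function.Injective (L.lTensor (C₂ ⧸ LinearMap.range d₁))
  rw [injective_iff_map_eq_zero]
  intro t ht
  obtain ⟨x, rfl⟩ := LinearMap.rTensor_surjective I hq t
  -- step 2
  have h2 : (q.rTensor R) ((L.lTensor C₂) x) = 0 := by
    have : (q.rTensor R) ((L.lTensor C₂) x) = (L.lTensor _) ((q.rTensor I) x) := by
      rw [← LinearMap.comp_apply, ← LinearMap.comp_apply, LinearMap.lTensor_comp_rTensor,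
        LinearMap.rTensor_comp_lTensor]
    rw [this, ht]
  obtain ⟨y, hy⟩ := (rTensor_exact R hdq hq ((L.lTensor C₂) x)).1 h2
  -- step 3
  have h3 : (d₁.rTensor _) ((p.lTensor C₁) y) = 0 := by
    have e1 : (d₁.rTensor _) ((p.lTensor C₁) y) = (p.lTensor C₂) ((d₁.rTensor R) y) := by
      rw [← LinearMap.comp_apply, ← LinearMap.comp_apply, LinearMap.lTensor_comp_rTensor,
        LinearMap.rTensor_comp_lTensor]
    rw [e1, hy, ← LinearMap.comp_apply, ← LinearMap.lTensor_comp, hLp.linearMap_comp_eq_zero,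
      LinearMap.lTensor_zero, LinearMap.zero_apply]
  obtain ⟨wbar, hwbar⟩ := (hex I ((p.lTensor C₁) y)).1 h3
  obtain ⟨w, rfl⟩ := LinearMap.lTensor_surjective C₀ hp wbar
  -- step 5
  have h5 : (p.lTensor C₁) (y - (d₀.rTensor R) w) = 0 := by
    have e1 : (p.lTensor C₁) ((d₀.rTensor R) w) = (d₀.rTensor _) ((p.lTensor C₀) w) := by
      rw [← LinearMap.comp_apply, ← LinearMap.comp_apply, LinearMap.lTensor_comp_rTensor,
        LinearMap.rTensor_comp_lTensor]
    rw [map_sub, e1, hwbar, sub_self]
  obtain ⟨y', hy'⟩ := (lTensor_exact C₁ hLp hp (y - (d₀.rTensor R) w)).1 h5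
  -- step 6
  have h6 : (L.lTensor C₂) ((d₁.rTensor I) y') = (L.lTensor C₂) x := by
    have e1 : (L.lTensor C₂) ((d₁.rTensor I) y') = (d₁.rTensor R) ((L.lTensor C₁) y') := by
      rw [← LinearMap.comp_apply, ← LinearMap.comp_apply, LinearMap.lTensor_comp_rTensor,
        LinearMap.rTensor_comp_lTensor]
    have e2 : (d₁.rTensor R) ((d₀.rTensor R) w) = 0 := by
      rw [← LinearMap.comp_apply, ← LinearMap.rTensor_comp, hd, LinearMap.rTensor_zero,
        LinearMap.zero_apply]
    rw [e1, hy', map_sub, e2, sub_zero, hy]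
  have hinj : Function.Injective (L.lTensor C₂) :=
    Module.Flat.lTensor_preserves_injective_linearMap (M := C₂) L hL
  have h7 : (d₁.rTensor I) y' = x := hinj h6
  rw [← h7, ← LinearMap.comp_apply, ← LinearMap.rTensor_comp, hdq.linearMap_comp_eq_zero,
    LinearMap.rTensor_zero, LinearMap.zero_apply]

end Algebra

section TN

variable {A : Type u} [CommRing A]

/-- `C ⊗ N` only depends on the isomorphism class of `N` -/
noncomputable def tnCongr {N N' : ModuleCat.{u} A} (e : N ≅ N') (C : Cx A) :
    (TN N).obj C ≅ (TN N').obj C :=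
  (NatIso.mapHomologicalComplex ((MonoidalCategory.tensoringRight (ModuleCat.{u} A)).mapIso e)
    (ComplexShape.up ℤ)).app C

/-- `C ⊗ A ≅ C` -/
noncomputable def tnUnit (C : Cx A) : (TN (𝟙_ (ModuleCat.{u} A))).obj C ≅ C :=
  (NatIso.mapHomologicalComplex (MonoidalCategory.rightUnitorNatIso (ModuleCat.{u} A))
    (ComplexShape.up ℤ)).app C ≪≫
    (Functor.mapHomologicalComplexIdIso (ModuleCat.{u} A) (ComplexShape.up ℤ)).app C

lemma exactAt_of_iso {C C' : Cx A} (e : C ≅ C') (i : ℤ) (h : C.ExactAt i) : C'.ExactAt i := by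
  rw [HomologicalComplex.exactAt_iff_isZero_homology] at h ⊢
  exact IsZero.of_iso h ((HomologicalComplex.homologyFunctor _ _ i).mapIso e.symm)

lemma exactAt_TN_congr {N N' : ModuleCat.{u} A} (e : N ≅ N') (C : Cx A) (i : ℤ)
    (h : ((TN N).obj C).ExactAt i) : ((TN N').obj C).ExactAt i :=
  exactAt_of_iso (tnCongr e C) i h

/-- If `C ⊗ A ⧸ I` is exact in degree `j` for all ideals `I` and `C^i` is flat (`i = j + 1`),
then the cokernel of `C^j → C^i` is flat. -/
theorem flat_coker_of_TN_exact_cyclic (C : Cx A) (j i : ℤ) (hji : j + 1 = i)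
    (hflat : Module.Flat A (C.X i))
    (hex : ∀ I : Ideal A, ((TN (ModuleCat.of A (A ⧸ I))).obj C).ExactAt j) :
    Module.Flat A (C.X i ⧸ LinearMap.range (C.d j i).hom) := by
  refine flat_coker_of_forall_exact_cyclic (C.d (j - 1) j).hom (C.d j i).hom ?_ ?_
  · rw [← ModuleCat.hom_comp, C.d_comp_d, ModuleCat.hom_zero]
  · intro I
    exact function_exact_of_exactAt ((TN (ModuleCat.of A (A ⧸ I))).obj C) (j - 1) j i
      (by omega) hji (hex I)

/-- **Tor amplitude can be tested on cyclic modules**: a complex of flat modules vanishing outside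
`[a', b]` such that `C ⊗ A ⧸ I` is exact in degrees `< a` for all ideals `I` has tor amplitude in
`[a, b]`. -/
theorem hasTorAmplitudeIn_of_cyclic (a b : ℤ) :
    ∀ (k : ℕ) (C : Cx A) (a' : ℤ), a - a' ≤ k → VanishesOutside C a' b → TermwiseFlat C →
      (∀ (I : Ideal A) (i : ℤ), i < a → ((TN (ModuleCat.of A (A ⧸ I))).obj C).ExactAt i) →
      HasTorAmplitudeIn A a b (toD C) := by
  intro k
  induction k with
  | zero =>
    intro C a' hk hC hflat hex
    refine ⟨C, ?_, hflat, ⟨Iso.refl _⟩⟩
    intro i hi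
    rcases hi with hi | hi
    · exact hC i (Or.inl (by push_cast at hk; omega))
    · exact hC i (Or.inr hi)
  | succ k ih =>
    intro C a' hk hC hflat hex
    by_cases ha : a ≤ a'
    · refine ⟨C, ?_, hflat, ⟨Iso.refl _⟩⟩
      intro i hi
      rcases hi with hi | hi
      · exact hC i (Or.inl (by omega))
      · exact hC i (Or.inr hi)
    · rw [not_le] at ha
      have hb : VanishesAbove C b := fun i hi => hC i (Or.inr hi)
      -- exactness of `C` itself in degrees `< a`
      have hex0 : ∀ i, i < a → C.ExactAt i := by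
        intro i hi
        have h1 := hex ⊥ i hi
        let e0 : ModuleCat.of A (A ⧸ (⊥ : Ideal A)) ≅ 𝟙_ (ModuleCat.{u} A) :=
          (Submodule.quotEquivOfEqBot (⊥ : Ideal A) rfl).toModuleIso
        exact exactAt_of_iso (tnUnit C) i (exactAt_TN_congr e0 C i h1)
      have hcoker := flat_coker_of_TN_exact_cyclic C a' (a' + 1) rfl (hflat (a' + 1))
        (fun I => hex I a' ha)
      obtain ⟨T, π, hπ, hT0, hTf, hTz⟩ :=
        exists_flat_trunc C a' (fun i hi => hex0 i (by omega)) hflat hcoker
      have hT : VanishesOutside T (a' + 1) b := by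
        intro i hi
        rcases hi with hi | hi
        · exact hT0 i (by omega)
        · exact hTz i (hb i hi)
      have hTb : VanishesAbove T b := fun i hi => hT i (Or.inr hi)
      have eT : toD T ≅ toD C := (asIso (Q.map π)).symm
      have hexT : ∀ (I : Ideal A) (i : ℤ), i < a →
          ((TN (ModuleCat.of A (A ⧸ I))).obj T).ExactAt i := fun I i hi =>
        exactAt_TN_of_iso T C b b hTb hb hTf hflat eT _ i (hex I i hi)
      exact hasTorAmplitudeIn_of_iso eT a b
        (ih T (a' + 1) (by push_cast at hk; omega) hT hTf hexT)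

/-- cutting off the top of a tor amplitude interval -/
theorem hasTorAmplitudeIn_of_vanishing_above (K : Dual.D A) (a b b' : ℤ)
    (h : HasTorAmplitudeIn A a b K) (hK : ∀ i : ℤ, b' < i → Subsingleton (Dual.HD A K i)) :
    HasTorAmplitudeIn A a b' K := by
  haveI : DerivedCategory.IsLE K b' := isLE_of_subsingleton_HD K b' hK
  obtain ⟨P, hPfree, hPb, ⟨eP⟩⟩ := exists_free_resolution K b'
  have hPf : TermwiseFlat P := fun j => by haveI := hPfree j; exact Module.Flat.of_free
  have h' : HasTorAmplitudeIn A a b (toD P) := hasTorAmplitudeIn_of_iso eP.symm a b h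
  have hex0 : ∀ i, i < a → P.ExactAt i := by
    intro i hi
    obtain ⟨E, hE, hEf, ⟨e⟩⟩ := h'
    rw [exactAt_iff_subsingleton_HD (Iso.refl (toD P)) i,
      ← exactAt_iff_subsingleton_HD e i]
    exact exactAt_of_isZero_X _ i (hE i (Or.inl hi))
  have hex : ∀ N : ModuleCat.{u} A, ((TN N).obj P).ExactAt (a - 1) := fun N =>
    exactAt_TN_of_hasTorAmplitudeIn P b' hPb hPf a b h' N (a - 1) (by omega)
  exact hasTorAmplitudeIn_of_iso eP a b' (hasTorAmplitudeIn_of_TN_exact' P a b' hPb hPf hex0 hex)

end TN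

end Groth.Agent.Lib.ShriekRangeH6
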