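import Mathlib
import Groth.Prelude
import Groth.Agent.Lib.TorAmpPush_lead
import Groth.Agent.Lib.DMod43_helper6
import Groth.Agent.Lib.ShriekRange3_helper6
import Groth.Agent.Lib.RelFlatAmp2_helper3

/-!
# Stalkwise tor amplitude for objects of `D(O_Y)` via the derived stalk functors (helper3)

* `SD q y : D(O_Y) ⥤ D(O_{S, q y})`, the (exact, triangulated) stalk functor.
* `TorAmpSD q a b K`: every `SD q y K` has tor amplitude in `[a, b]`.
* `hasTorAmplitudeD_iff`: this is the all-representatives predicate `DerSch.HasTorAmplitudeD`.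
* `torAmpSD_biprod`, `torAmpSD_obj₁`: behaviour in direct sums and distinguished triangles.
-/

set_option autoImplicit false
set_option linter.all false
set_option maxHeartbeats 1600000
set_option backward.isDefEq.respectTransparency false
set_option backward.isDefEq.respectTransparency.types false
set_option backward.defeqAttrib.useBackward true

universe u
open CategoryTheory CategoryTheory.Limits AlgebraicGeometry Opposite TopologicalSpace
open CategoryTheory.Pretriangulated

attribute [local instance] HasDerivedCategory.standard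

namespace Groth.Agent.Lib.TorPushH3

open DRing DerSch Groth.Agent.Lib.DMod_helper6 Groth.Agent.Lib.TorAmpPushL DerivedCategory

noncomputable section

section Ring

variable {A : Type u} [CommRing A]

theorem hasTorAmplitudeIn_mono {a b a' b' : ℤ} (K : Dual.D A) (h : HasTorAmplitudeIn A a b K)
    (ha : a' ≤ a) (hb : b ≤ b') : HasTorAmplitudeIn A a' b' K := by
  obtain ⟨E, hE, hEf, hEi⟩ := h
  refine ⟨E, fun i hi => hE i ?_, hEf, hEi⟩
  rcases hi with hi | hi
  · exact Or.inl (by omega)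
  · exact Or.inr (by omega)

theorem hasTorAmplitudeIn_biprod (K L : Dual.D A) (a b : ℤ) (hK : HasTorAmplitudeIn A a b K)
    (hL : HasTorAmplitudeIn A a b L) : HasTorAmplitudeIn A a b (K ⊞ L) :=
  (hasTorAmplitudeIn_two_of_three _ (binaryBiproductTriangle_distinguished K L) a b).2.1 hK hL

/-- the first vertex of a distinguished triangle -/
theorem hasTorAmplitudeIn_obj₁ (T : Triangle (Dual.D A)) (hT : T ∈ distTriang _) (a b₂ b₃ : ℤ)
    (h2 : HasTorAmplitudeIn A a b₂ T.obj₂) (h3 : HasTorAmplitudeIn A a b₃ T.obj₃) :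
    HasTorAmplitudeIn A a (max b₂ (b₃ + 1)) T.obj₁ := by
  have h := (hasTorAmplitudeIn_two_of_three T hT (a - 1) (max b₂ (b₃ + 1) - 1)).2.2
  rw [show a - 1 + 1 = a by ring, show max b₂ (b₃ + 1) - 1 + 1 = max b₂ (b₃ + 1) by ring] at h
  refine h (hasTorAmplitudeIn_mono _ h2 le_rfl (le_max_left _ _))
    (hasTorAmplitudeIn_mono _ h3 (by omega) ?_)
  have := le_max_right b₂ (b₃ + 1)
  omega

end Ring

section Stalk

variable {Y S : Scheme.{u}} (q : Y ⟶ S)

/-- the derived stalk functor -/
abbrev SD (y : Y) : DCoh.D Y ⥤ Dual.D (S.presheaf.stalk (q.base y)) :=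
  (stalkOver q y).mapDerivedCategory

/-- the stalk of a representative -/
def sdIso (y : Y) (F : CochainComplex Y.Modules ℤ) :
    (SD q y).obj (DCoh.toD Y F) ≅ toD ((stalkCxOver q y).obj F) :=
  (stalkOver q y).mapDerivedCategoryFactors.app F

/-- stalkwise tor amplitude of an object of the derived category -/
def TorAmpSD (a b : ℤ) (K : DCoh.D Y) : Prop :=
  ∀ y : Y, HasTorAmplitudeIn (S.presheaf.stalk (q.base y)) a b ((SD q y).obj K)

variable {q}

theorem TorAmpSD.of_iso {a b : ℤ} {K K' : DCoh.D Y} (e : K ≅ K') (h : TorAmpSD q a b K) :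
    TorAmpSD q a b K' :=
  fun y => hasTorAmplitudeIn_of_iso ((SD q y).mapIso e) a b (h y)

theorem TorAmpSD.mono {a b a' b' : ℤ} {K : DCoh.D Y} (h : TorAmpSD q a b K) (ha : a' ≤ a)
    (hb : b ≤ b') : TorAmpSD q a' b' K :=
  fun y => hasTorAmplitudeIn_mono _ (h y) ha hb

variable (q)

theorem hasTorAmplitudeAt_iff_SD (a b : ℤ) (F : CochainComplex Y.Modules ℤ) (y : Y) :
    HasTorAmplitudeAt q a b F y ↔
      HasTorAmplitudeIn (S.presheaf.stalk (q.base y)) a b ((SD q y).obj (DCoh.toD Y F)) :=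
  ⟨fun h => hasTorAmplitudeIn_of_iso (sdIso q y F).symm a b h,
    fun h => hasTorAmplitudeIn_of_iso (sdIso q y F) a b h⟩

theorem hasTorAmplitudeD_iff (a b : ℤ) (K : DCoh.D Y) :
    HasTorAmplitudeD q a b K ↔ TorAmpSD q a b K := by
  constructor
  · intro h y
    have h1 := h (Q.objPreimage K) ⟨Q.objObjPreimageIso K⟩ y
    rw [hasTorAmplitudeAt_iff_SD] at h1
    exact hasTorAmplitudeIn_of_iso ((SD q y).mapIso (Q.objObjPreimageIso K)) a b h1
  · rintro h F ⟨e⟩ y
    rw [hasTorAmplitudeAt_iff_SD]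
    exact hasTorAmplitudeIn_of_iso ((SD q y).mapIso e.symm) a b (h y)

theorem hasTorAmplitude_iff (a b : ℤ) (F : CochainComplex Y.Modules ℤ) :
    HasTorAmplitude q a b F ↔ TorAmpSD q a b (DCoh.toD Y F) :=
  ⟨fun h y => (hasTorAmplitudeAt_iff_SD q a b F y).1 (h y),
    fun h y => (hasTorAmplitudeAt_iff_SD q a b F y).2 (h y)⟩

theorem torAmpSD_biprod (a b : ℤ) (K L : DCoh.D Y) (hK : TorAmpSD q a b K)
    (hL : TorAmpSD q a b L) : TorAmpSD q a b (K ⊞ L) := by
  intro y
  haveI : (SD q y).Additive := inferInstance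
  haveI : PreservesBinaryBiproducts (SD q y) := preservesBinaryBiproducts_of_preservesBiproducts _
  exact hasTorAmplitudeIn_of_iso ((SD q y).mapBiprod K L).symm a b
    (hasTorAmplitudeIn_biprod _ _ a b (hK y) (hL y))

theorem torAmpSD_obj₁ (T : Triangle (DCoh.D Y)) (hT : T ∈ distTriang _) (a b₂ b₃ : ℤ)
    (h2 : TorAmpSD q a b₂ T.obj₂) (h3 : TorAmpSD q a b₃ T.obj₃) :
    TorAmpSD q a (max b₂ (b₃ + 1)) T.obj₁ := by
  intro y
  exact hasTorAmplitudeIn_obj₁ _ ((SD q y).map_distinguished T hT) a b₂ b₃ (h2 y) (h3 y)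

/-- cutting the upper bound by the vanishing of cohomology -/
theorem torAmpSD_of_isLE (a b b' : ℤ) (K : DCoh.D Y) (h : TorAmpSD q a b K) (hK : K.IsLE b') :
    TorAmpSD q a b' K := by
  intro y
  refine Groth.Agent.Lib.ShriekRangeH6.hasTorAmplitudeIn_of_vanishing_above _ a b b' (h y) (fun i hi => ?_)
  obtain ⟨e⟩ := Groth.Agent.Lib.DCohLocLead.nonempty_homology_mapExact_iso (stalkOver q y) K i
  have hz : IsZero ((homologyFunctor _ i).obj ((SD q y).obj K)) :=
    IsZero.of_iso ((stalkOver q y).map_isZero (DerivedCategory.isZero_of_isLE K b' i hi)) e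
  exact ModuleCat.subsingleton_of_isZero hz

end Stalk

end

end Groth.Agent.Lib.TorPushH3
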