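import Mathlib
import Groth.Prelude
import Groth.Agent.Lib.TorPush1_helper3
import Groth.Agent.Lib.RelPerfLoc3_helper3
import Groth.Agent.Lib.RpushQC_lead
import Groth.Agent.Lib.MVPush3_lead
import Groth.Agent.Lib.DSect8_lead

/-!
# Tor amplitude of `Rg_*` over an affine base: the Mayer–Vietoris induction (helper3)

Fix a ring map `α : A ⟶ B` and an integer `a`.  `TGood α a g` for `g : W ⟶ Spec B`: for every
`K ∈ D_QCoh(O_W)` of tor amplitude in `[a, b]` relative to `W ⟶ Spec A`, the object `Rg_* K` has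
tor amplitude in `[a, b']` relative to `Spec B ⟶ Spec A` for some `b'`.

* `tgood_of_qcqs`: this holds for every quasi-compact quasi-separated `W`.
-/

set_option autoImplicit false
set_option linter.all false
set_option maxHeartbeats 1600000
set_option backward.isDefEq.respectTransparency false
set_option backward.isDefEq.respectTransparency.types false
set_option backward.defeqAttrib.useBackward true

universe u
open CategoryTheory CategoryTheory.Limits AlgebraicGeometry Opposite TopologicalSpace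
open CategoryTheory.Pretriangulated

attribute [local instance] HasDerivedCategory.standard

namespace Groth.Agent.Lib.TorPushH3

open DRing DerSch Groth.Agent.Lib.DMod_helper6 Groth.Agent.Lib.TorAmpPushL DerivedCategory
  Groth.Agent.Lib.DCohLocLead Groth.Agent.Lib.BCOpenL

noncomputable section

local instance hasRpushInstT {X Y : Scheme.{u}} (f : X ⟶ Y) : DCoh.HasRpush f := hasRpush f

section Transfer

variable {X Y : Scheme.{u}}

theorem torAmpSD_congr {f f' : X ⟶ Y} (h : f = f') (a b : ℤ) (K : DCoh.D X)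
    (hK : TorAmpSD f a b K) : TorAmpSD f' a b K := by
  subst h
  exact hK

/-- restriction to an open subscheme -/
theorem torAmpSD_restrict {U' : Scheme.{u}} (j : U' ⟶ X) [IsOpenImmersion j] (f : X ⟶ Y)
    (a b : ℤ) (K : DCoh.D X) (hK : TorAmpSD f a b K) :
    TorAmpSD (j ≫ f) a b ((DD j).obj K) := by
  let F : CochainComplex X.Modules ℤ := Q.objPreimage K
  let e : Q.obj F ≅ K := Q.objObjPreimageIso K
  have h1 : HasTorAmplitude f a b F := (hasTorAmplitude_iff f a b F).2 (hK.of_iso e.symm)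
  have h2 : HasTorAmplitude (j ≫ f) a b ((RC j).obj F) :=
    fun u => Groth.Agent.Lib.TorAmpRelH3.hasTorAmplitudeAt_restrict j f u F a b (h1 _)
  exact ((hasTorAmplitude_iff (j ≫ f) a b _).1 h2).of_iso
    ((facIso j F).symm ≪≫ (DD j).mapIso e)

/-- pointwise converse of the restriction to an open subscheme -/
theorem hasTorAmplitudeIn_SD_of_restrict {U' : Scheme.{u}} (j : U' ⟶ X) [IsOpenImmersion j]
    (f : X ⟶ Y) (a b : ℤ) (K : DCoh.D X) (u : U')
    (h : HasTorAmplitudeIn (Y.presheaf.stalk ((j ≫ f).base u)) a b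
      ((SD (j ≫ f) u).obj ((DD j).obj K))) :
    HasTorAmplitudeIn (Y.presheaf.stalk (f.base (j.base u))) a b ((SD f (j.base u)).obj K) := by
  let F : CochainComplex X.Modules ℤ := Q.objPreimage K
  let e : Q.obj F ≅ K := Q.objObjPreimageIso K
  have h1 : HasTorAmplitudeAt (j ≫ f) a b ((RC j).obj F) u :=
    (hasTorAmplitudeAt_iff_SD (j ≫ f) a b _ u).2
      (hasTorAmplitudeIn_of_iso ((SD (j ≫ f) u).mapIso
        ((DD j).mapIso e.symm ≪≫ facIso j F)) a b h)
  have h2 := Groth.Agent.Lib.TorSmoothH3.hasTorAmplitudeAt_of_restrict j f u F a b h1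
  exact hasTorAmplitudeIn_of_iso ((SD f (j.base u)).mapIso e) a b
    ((hasTorAmplitudeAt_iff_SD f a b F (j.base u)).1 h2)

/-- cancelling an open immersion on the base -/
theorem torAmpSD_of_comp_openImmersion {V' : Scheme.{u}} (f' : X ⟶ V') (ι : V' ⟶ Y)
    [IsOpenImmersion ι] (a b : ℤ) (K : DCoh.D X) (hK : TorAmpSD (f' ≫ ι) a b K) :
    TorAmpSD f' a b K := by
  let F : CochainComplex X.Modules ℤ := Q.objPreimage K
  let e : Q.obj F ≅ K := Q.objObjPreimageIso K
  have h1 : HasTorAmplitude (f' ≫ ι) a b F :=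
    (hasTorAmplitude_iff (f' ≫ ι) a b F).2 (hK.of_iso e.symm)
  have h2 : HasTorAmplitude f' a b F := fun x =>
    Groth.Agent.Lib.TorAmpRelH3.hasTorAmplitudeAt_of_comp_openImmersion f' ι F a b x (h1 x)
  exact ((hasTorAmplitude_iff f' a b F).1 h2).of_iso e

/-- composing with an open immersion on the base -/
theorem hasTorAmplitudeIn_SD_comp_openImmersion {V' : Scheme.{u}} (f' : X ⟶ V') (ι : V' ⟶ Y)
    [IsOpenImmersion ι] (a b : ℤ) (K : DCoh.D X) (x : X)
    (h : HasTorAmplitudeIn (V'.presheaf.stalk (f'.base x)) a b ((SD f' x).obj K)) :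
    HasTorAmplitudeIn (Y.presheaf.stalk ((f' ≫ ι).base x)) a b ((SD (f' ≫ ι) x).obj K) := by
  let F : CochainComplex X.Modules ℤ := Q.objPreimage K
  let e : Q.obj F ≅ K := Q.objObjPreimageIso K
  have h1 : HasTorAmplitudeAt f' a b F x :=
    (hasTorAmplitudeAt_iff_SD f' a b F x).2
      (hasTorAmplitudeIn_of_iso ((SD f' x).mapIso e.symm) a b h)
  have h2 := Groth.Agent.Lib.TorSmoothH3.hasTorAmplitudeAt_comp_openImmersion f' ι F a b x h1
  exact hasTorAmplitudeIn_of_iso ((SD (f' ≫ ι) x).mapIso e) a b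
    ((hasTorAmplitudeAt_iff_SD (f' ≫ ι) a b F x).1 h2)

end Transfer

section Good

variable {A B : CommRingCat.{u}} (α : A ⟶ B) (a : ℤ)

/-- `Rg_*` preserves the lower tor bound `a` over `A`, on `D_QCoh` -/
def TGood {W : Scheme.{u}} (g : W ⟶ Spec B) : Prop :=
  ∀ K : DCoh.D W, DCoh.IsQCohD K → ∀ b : ℤ, TorAmpSD (g ≫ Spec.map α) a b K →
    ∃ b' : ℤ, TorAmpSD (Spec.map α) a b' ((DCoh.Rpush g).obj K)

variable {α a}

theorem TGood.of_iso {W₁ W₂ : Scheme.{u}} (a₀ : W₁ ⟶ W₂) [IsIso a₀] (g₂ : W₂ ⟶ Spec B)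
    (g₁ : W₁ ⟶ Spec B) (h : a₀ ≫ g₂ = g₁) (hg : TGood α a g₂) : TGood α a g₁ := by
  subst h
  intro K hK b hKt
  obtain ⟨e1⟩ := Groth.Agent.Lib.LpullAdjH3.nonempty_Rpush_comp_iso a₀ g₂
  obtain ⟨e2⟩ := Groth.Agent.Lib.RpushQCL.nonempty_Rpush_iso_restrictD a₀
  have h1 : DCoh.IsQCohD ((DCoh.restrictD (inv a₀)).obj K) :=
    Groth.Agent.Lib.LpullQCL.isQCohD_restrictD (inv a₀) K hK
  have h2 : TorAmpSD (g₂ ≫ Spec.map α) a b ((DCoh.restrictD (inv a₀)).obj K) := by
    have h3 := torAmpSD_restrict (inv a₀) ((a₀ ≫ g₂) ≫ Spec.map α) a b K hKt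
    refine torAmpSD_congr ?_ a b _ h3
    simp
  obtain ⟨b', hb'⟩ := hg _ h1 b h2
  refine ⟨b', hb'.of_iso ?_⟩
  exact (DCoh.Rpush g₂).mapIso (e2.app K).symm ≪≫ (e1.app K)

theorem TGood.of_cover {W : Scheme.{u}} (g : W ⟶ Spec B) (U V : W.Opens) (hUV : U ⊔ V = ⊤)
    (hU : TGood α a (U.ι ≫ g)) (hV : TGood α a (V.ι ≫ g))
    (hUV' : TGood α a ((U ⊓ V).ι ≫ g)) : TGood α a g := by
  intro K hK b hKt
  obtain ⟨u, v, w, hT⟩ := Groth.Agent.Lib.MVPushL.main6511 g U V hUV K
  have hr : ∀ (O : W.Opens), TorAmpSD ((O.ι ≫ g) ≫ Spec.map α) a b ((DD O.ι).obj K) :=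
    fun O => torAmpSD_congr (Category.assoc _ _ _).symm a b _
      (torAmpSD_restrict O.ι (g ≫ Spec.map α) a b K hKt)
  obtain ⟨bU, hbU⟩ := hU _ (Groth.Agent.Lib.LpullQCL.isQCohD_restrictD U.ι K hK) b (hr U)
  obtain ⟨bV, hbV⟩ := hV _ (Groth.Agent.Lib.LpullQCL.isQCohD_restrictD V.ι K hK) b (hr V)
  obtain ⟨bUV, hbUV⟩ := hUV' _ (Groth.Agent.Lib.LpullQCL.isQCohD_restrictD (U ⊓ V).ι K hK) b
    (hr (U ⊓ V))
  refine ⟨max (max bU bV) (bUV + 1), ?_⟩
  exact torAmpSD_obj₁ (Spec.map α) _ hT a (max bU bV) bUV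
    (torAmpSD_biprod _ a _ _ _ (hbU.mono le_rfl (le_max_left _ _))
      (hbV.mono le_rfl (le_max_right _ _))) hbUV

/-- the case of a morphism of affine schemes `Spec C ⟶ Spec B` -/
theorem tgood_Spec {C : CommRingCat.{u}} (β : B ⟶ C) : TGood α a (Spec.map β) := by
  intro K hK b hKt
  haveI : PreservesFiniteLimits (tilde.functor A) :=
    Groth.Agent.Lib.LpullQCL.preservesFiniteLimits_tilde A
  haveI : PreservesFiniteLimits (tilde.functor B) :=
    Groth.Agent.Lib.LpullQCL.preservesFiniteLimits_tilde B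
  haveI : PreservesFiniteLimits (tilde.functor C) :=
    Groth.Agent.Lib.LpullQCL.preservesFiniteLimits_tilde C
  obtain ⟨M, ⟨eM⟩⟩ := ((Groth.Agent.Lib.DSectX.main0997 C).2.2 K).mp hK
  obtain ⟨c⟩ := Groth.Agent.Lib.DSectX.nonempty_iso_7268 β
  refine ⟨b, ?_⟩
  -- the representative
  let F : CochainComplex (Spec C).Modules ℤ := Q.objPreimage K
  let eF : Q.obj F ≅ K := Q.objObjPreimageIso K
  have h1 : HasTorAmplitude (Spec.map (α ≫ β)) a b F := by
    rw [Spec.map_comp]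
    exact (hasTorAmplitude_iff _ a b F).2 (hKt.of_iso eF.symm)
  have h2 : HasTorAmplitudeIn A a b ((restrictD (α ≫ β).hom).obj M) :=
    (Groth.Agent.Lib.RelPerfLocH3.hasTorAmplitude_tildeD_iff' (α ≫ β) M F
      ⟨eF ≪≫ eM.symm⟩ a b).1 h1
  have h3 : HasTorAmplitudeIn A a b ((restrictD α.hom).obj ((restrictD β.hom).obj M)) :=
    hasTorAmplitudeIn_of_iso (restrictDCompIso α.hom β.hom (α ≫ β).hom rfl M) a b h2
  -- the direct image
  let G : CochainComplex (Spec B).Modules ℤ := Q.objPreimage ((DCoh.Rpush (Spec.map β)).obj K)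
  let eG : Q.obj G ≅ (DCoh.Rpush (Spec.map β)).obj K := Q.objObjPreimageIso _
  have eGM : Q.obj G ≅ (DCoh.tildeD B).obj ((restrictD β.hom).obj M) :=
    eG ≪≫ (DCoh.Rpush (Spec.map β)).mapIso eM.symm ≪≫ c.app M
  have h4 : HasTorAmplitude (Spec.map α) a b G :=
    (Groth.Agent.Lib.RelPerfLocH3.hasTorAmplitude_tildeD_iff' α _ G ⟨eGM⟩ a b).2 h3
  exact ((hasTorAmplitude_iff _ a b G).1 h4).of_iso eG

theorem tgood_of_affine {W : Scheme.{u}} [IsAffine W] (g : W ⟶ Spec B) : TGood α a g := by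
  let β : B ⟶ Γ(W, ⊤) := Spec.preimage (W.isoSpec.inv ≫ g)
  have hβ : Spec.map β = W.isoSpec.inv ≫ g := Spec.map_preimage _
  refine TGood.of_iso W.isoSpec.hom (Spec.map β) g ?_ (tgood_Spec β)
  rw [hβ, ← Category.assoc, Iso.hom_inv_id, Category.id_comp]

theorem tgood_of_qcqs {W : Scheme.{u}} [CompactSpace W] [QuasiSeparatedSpace W]
    (f : W ⟶ Spec B) : TGood α a f := by
  have key : ∀ U : W.Opens, IsCompact (U : Set W) → TGood α a (U.ι ≫ f) := by
    intro U hU
    refine Groth.Agent.Lib.RpushQCL.qcqs_induction (fun U => TGood α a (U.ι ≫ f)) ?_ ?_ U hU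
    · intro U hU
      haveI : IsAffine (U : Scheme.{u}) := hU
      exact tgood_of_affine (U.ι ≫ f)
    · intro U V hU hV hUV
      let Wo : W.Opens := U ⊔ V
      let U' : (Wo : Scheme.{u}).Opens := Wo.ι ⁻¹ᵁ U
      let V' : (Wo : Scheme.{u}).Opens := Wo.ι ⁻¹ᵁ V
      have hcov : U' ⊔ V' = ⊤ := by
        rw [eq_top_iff]
        rintro x -
        have hx : (Wo.ι x) ∈ U ⊔ V := x.2
        rcases hx with hx | hx
        · exact Or.inl hx
        · exact Or.inr hx
      have rU := Groth.Agent.Lib.RpushQCL.range_eq_of Wo U U' le_sup_left (fun y => Iff.rfl)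
      have rV := Groth.Agent.Lib.RpushQCL.range_eq_of Wo V V' le_sup_right (fun y => Iff.rfl)
      have rUV := Groth.Agent.Lib.RpushQCL.range_eq_of Wo (U ⊓ V) (U' ⊓ V')
        (inf_le_left.trans le_sup_left) (fun y => Iff.rfl)
      refine TGood.of_cover (Wo.ι ≫ f) U' V' hcov ?_ ?_ ?_
      · refine TGood.of_iso (IsOpenImmersion.isoOfRangeEq (U'.ι ≫ Wo.ι) U.ι rU).hom
          (U.ι ≫ f) _ ?_ hU
        rw [← Category.assoc, IsOpenImmersion.isoOfRangeEq_hom_fac, Category.assoc]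
      · refine TGood.of_iso (IsOpenImmersion.isoOfRangeEq (V'.ι ≫ Wo.ι) V.ι rV).hom
          (V.ι ≫ f) _ ?_ hV
        rw [← Category.assoc, IsOpenImmersion.isoOfRangeEq_hom_fac, Category.assoc]
      · refine TGood.of_iso
          (IsOpenImmersion.isoOfRangeEq ((U' ⊓ V').ι ≫ Wo.ι) (U ⊓ V).ι rUV).hom
          ((U ⊓ V).ι ≫ f) _ ?_ hUV
        rw [← Category.assoc, IsOpenImmersion.isoOfRangeEq_hom_fac, Category.assoc]
  have htop := key ⊤ (by simpa using CompactSpace.isCompact_univ (X := W))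
  refine TGood.of_iso W.topIso.inv ((⊤ : W.Opens).ι ≫ f) f ?_ htop
  rw [← Category.assoc, Scheme.toIso_inv_ι, Category.id_comp]

end Good

end

end Groth.Agent.Lib.TorPushH3
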