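import Mathlib
import Groth.Prelude
import Groth.Agent.Lib.TorPush2_helper3
import Groth.Agent.Lib.RelPCBC3_helper3
import Groth.Agent.Lib.RDerBound_helper3
import Groth.Agent.Lib.BCOpen1_lead

/-!
# Tor amplitude of `Rf_*` relative to a base (helper3)

* `core`: for `f : X ⟶ Y` quasi-compact and quasi-separated over `S`, `E ∈ D_QCoh(O_X)` of tor
  amplitude in `[a, b]` relative to `S` over an affine open `V ⊆ Y` lying over an affine open of `S`:
  `Rf_* E` has tor amplitude in `[a, b']` relative to `S` at the points of `V`, for some `b'`.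
* `main6192`.
-/

set_option autoImplicit false
set_option linter.all false
set_option maxHeartbeats 1600000
set_option backward.isDefEq.respectTransparency false
set_option backward.isDefEq.respectTransparency.types false
set_option backward.defeqAttrib.useBackward true

universe u
open CategoryTheory CategoryTheory.Limits AlgebraicGeometry Opposite TopologicalSpace
open CategoryTheory.Pretriangulated

attribute [local instance] HasDerivedCategory.standard

namespace Groth.Agent.Lib.TorPushH3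

open DRing DerSch Groth.Agent.Lib.DMod_helper6 Groth.Agent.Lib.TorAmpPushL DerivedCategory
  Groth.Agent.Lib.DCohLocLead Groth.Agent.Lib.BCOpenL Groth.Agent.Lib.RelPerfLocH3

noncomputable section

local instance hasRpushInstT3 {X Y : Scheme.{u}} (f : X ⟶ Y) : DCoh.HasRpush f := hasRpush f

section Pointwise

variable {X Y : Scheme.{u}}

/-- pointwise restriction to an open subscheme -/
theorem hasTorAmplitudeIn_SD_restrict {U' : Scheme.{u}} (j : U' ⟶ X) [IsOpenImmersion j]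
    (f : X ⟶ Y) (a b : ℤ) (K : DCoh.D X) (u : U')
    (h : HasTorAmplitudeIn (Y.presheaf.stalk (f.base (j.base u))) a b
      ((SD f (j.base u)).obj K)) :
    HasTorAmplitudeIn (Y.presheaf.stalk ((j ≫ f).base u)) a b
      ((SD (j ≫ f) u).obj ((DD j).obj K)) := by
  let F : CochainComplex X.Modules ℤ := Q.objPreimage K
  let e : Q.obj F ≅ K := Q.objObjPreimageIso K
  have h1 : HasTorAmplitudeAt f a b F (j.base u) :=
    (hasTorAmplitudeAt_iff_SD f a b F (j.base u)).2
      (hasTorAmplitudeIn_of_iso ((SD f (j.base u)).mapIso e.symm) a b h)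
  have h2 := Groth.Agent.Lib.TorAmpRelH3.hasTorAmplitudeAt_restrict j f u F a b h1
  exact hasTorAmplitudeIn_of_iso ((SD (j ≫ f) u).mapIso ((facIso j F).symm ≪≫ (DD j).mapIso e))
    a b ((hasTorAmplitudeAt_iff_SD (j ≫ f) a b _ u).1 h2)

/-- pointwise: cutting the upper bound by the vanishing of cohomology -/
theorem hasTorAmplitudeIn_SD_of_isLE (q : X ⟶ Y) (a b b' : ℤ) (K : DCoh.D X) (y : X)
    (h : HasTorAmplitudeIn (Y.presheaf.stalk (q.base y)) a b ((SD q y).obj K)) (hK : K.IsLE b') :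
    HasTorAmplitudeIn (Y.presheaf.stalk (q.base y)) a b' ((SD q y).obj K) := by
  refine Groth.Agent.Lib.ShriekRangeH6.hasTorAmplitudeIn_of_vanishing_above _ a b b' h
    (fun i hi => ?_)
  obtain ⟨e⟩ := Groth.Agent.Lib.DCohLocLead.nonempty_homology_mapExact_iso (stalkOver q y) K i
  have hz : IsZero ((homologyFunctor _ i).obj ((SD q y).obj K)) :=
    IsZero.of_iso ((stalkOver q y).map_isZero (DerivedCategory.isZero_of_isLE K b' i hi)) e
  exact ModuleCat.subsingleton_of_isZero hz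

/-- stalkwise tor amplitude in `[a, b]` kills cohomology outside `[a, b]` -/
theorem isZero_HD_of_hasTorAmplitude (f : X ⟶ Y) (F : CochainComplex X.Modules ℤ) (a b : ℤ)
    (H : HasTorAmplitude f a b F) (i : ℤ) (hi : i < a ∨ b < i) :
    IsZero (DCoh.HD (DCoh.toD X F) i) := by
  have h : F.ExactAt i := by
    apply Groth.Agent.Lib.TorAmpIdL.exactAt_of_forall_stalk
    intro x
    obtain ⟨E, hE, -, ⟨e⟩⟩ := H x
    exact Groth.Agent.Lib.RelFlatAmpH3.exactAt_stalkCx_of_stalkCxOver f F x i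
      (exactAt_of_iso_toD _ E e.symm i
        (Groth.Agent.Lib.DMod_helper6.exactAt_of_isZero_X E i (hE i hi)))
  rw [HomologicalComplex.exactAt_iff_isZero_homology] at h
  exact IsZero.of_iso h ((homologyFunctorFactors X.Modules i).app F)

end Pointwise

section Core

variable {X Y S : Scheme.{u}}

/-- **the core statement** -/
theorem core (q : Y ⟶ S) (f : X ⟶ Y) [QuasiCompact f] [QuasiSeparated f]
    (E : DCoh.D X) (hqc : DCoh.IsQCohD E) (a b : ℤ)
    (V : Y.Opens) (hV : IsAffineOpen V) (W : S.Opens) (hW : IsAffineOpen W) (hVW : V ≤ q ⁻¹ᵁ W)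
    (hE : ∀ x : X, f.base x ∈ V →
      HasTorAmplitudeIn (S.presheaf.stalk ((f ≫ q).base x)) a b ((SD (f ≫ q) x).obj E)) :
    ∃ b' : ℤ, ∀ y : Y, y ∈ V →
      HasTorAmplitudeIn (S.presheaf.stalk (q.base y)) a b'
        ((SD q y).obj ((DCoh.Rpush f).obj E)) := by
  let α : Γ(S, W) ⟶ Γ(Y, V) := q.appLE W V hVW
  let XV : X.Opens := f ⁻¹ᵁ V
  let fV : (XV : Scheme.{u}) ⟶ (V : Scheme.{u}) := f ∣_ V
  haveI : IsAffine (V : Scheme.{u}) := hV
  haveI : CompactSpace ((f ⁻¹ᵁ V : X.Opens) : Scheme.{u}) :=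
    QuasiCompact.compactSpace_of_compactSpace (f ∣_ V)
  haveI : QuasiSeparatedSpace ((f ⁻¹ᵁ V : X.Opens) : Scheme.{u}) :=
    quasiSeparatedSpace_of_quasiSeparated (f ∣_ V)
  let h : (XV : Scheme.{u}) ⟶ Spec Γ(Y, V) := fV ≫ hV.isoSpec.hom
  let EV : DCoh.D (XV : Scheme.{u}) := (DD XV.ι).obj E
  have hEVq : DCoh.IsQCohD EV := Groth.Agent.Lib.LpullQCL.isQCohD_restrictD XV.ι E hqc
  have hcomm : (h ≫ Spec.map α) ≫ hW.fromSpec = XV.ι ≫ (f ≫ q) := by
    have h1 := chart_comm q V hV W hW hVW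
    simp only [h, fV, Category.assoc]
    rw [h1, Iso.hom_inv_id_assoc, ← Category.assoc, morphismRestrict_ι, Category.assoc]
  have hEV : TorAmpSD (h ≫ Spec.map α) a b EV := by
    apply torAmpSD_of_comp_openImmersion _ hW.fromSpec
    refine torAmpSD_congr hcomm.symm a b _ ?_
    intro x'
    exact hasTorAmplitudeIn_SD_restrict XV.ι (f ≫ q) a b E x' (hE _ x'.2)
  obtain ⟨b', hb'⟩ := tgood_of_qcqs (α := α) (a := a) h EV hEVq b hEV
  refine ⟨b', fun y hy => ?_⟩
  obtain ⟨e1⟩ := main6508 f V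
  obtain ⟨e2⟩ := Groth.Agent.Lib.LpullAdjH3.nonempty_Rpush_comp_iso fV hV.isoSpec.hom
  obtain ⟨e3⟩ := Groth.Agent.Lib.RelPCBCH3.nonempty_RP_iso_EC V hV ((DCoh.Rpush f).obj E)
  have e : (DCoh.Rpush h).obj EV ≅ EC V hV ((DCoh.Rpush f).obj E) :=
    (e2.app EV).symm ≪≫ (DCoh.Rpush hV.isoSpec.hom).mapIso (e1.app E).symm ≪≫ e3
  let G : CochainComplex Y.Modules ℤ := Q.objPreimage ((DCoh.Rpush f).obj E)
  let eG : Q.obj G ≅ (DCoh.Rpush f).obj E := Q.objObjPreimageIso _
  obtain ⟨y₀, rfl⟩ := exists_fromSpec_eq V hV y hy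
  have h1 : HasTorAmplitudeAt (gC q V W hVW) a b' (FC V hV G) y₀ :=
    (hasTorAmplitudeAt_iff_SD _ a b' _ y₀).2
      (hasTorAmplitudeIn_of_iso ((SD (Spec.map α) y₀).mapIso
        (e ≪≫ (ecIso V hV _ G eG).symm)) a b' (hb' y₀))
  have h2 := (torAmpAt_chart_iff q V hV W hW hVW G a b' y₀).1 h1
  exact hasTorAmplitudeIn_of_iso ((SD q _).mapIso eG) a b'
    ((hasTorAmplitudeAt_iff_SD q a b' G _).1 h2)

end Core

section Main

variable {X Y S : Scheme.{u}}

/-- **S6192** -/
theorem main6192 (p : X ⟶ S) (q : Y ⟶ S) (f : X ⟶ Y) (w : f ≫ q = p) [QuasiCompact f]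
    [QuasiSeparated f] [DCoh.HasRpush f] (N : ℕ)
    (hN : ∀ M : X.Modules, Coh.IsQCoh M → ∀ i : ℤ, (N : ℤ) < i →
      IsZero (DCoh.HD ((DCoh.Rpush f).obj (DCoh.inD X M)) i))
    (F : CochainComplex X.Modules ℤ) (hqc : DCoh.IsQCohD (DCoh.toD X F)) (a b : ℤ)
    (hF : DerSch.HasTorAmplitude p a b F) :
    DerSch.HasTorAmplitudeD q a (b + N) ((DCoh.Rpush f).obj (DCoh.toD X F)) := by
  subst w
  rw [hasTorAmplitudeD_iff]
  haveI := Groth.Agent.Lib.MVPushL.grothendieck_modules X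
  haveI : HasInjectiveResolutions X.Modules := inferInstance
  -- the upper bound
  have hLE : ((DCoh.Rpush f).obj (DCoh.toD X F)).IsLE (b + N) := by
    rw [DerivedCategory.isLE_iff]
    intro i hi
    refine Groth.Agent.Lib.RDerBoundH3.main (Scheme.Modules.pushforward f)
      (fun M => Coh.IsQCoh M)
      (fun {M M'} e hM => (SheafOfModules.isQuasicoherent X.ringCatSheaf).prop_of_iso e hM)
      (fun M hM => Groth.Agent.Lib.FinPushPCH3.isQuasicoherent_of_isZero hM) (N + 1)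
      (fun G hG n hn => ?_) (DCoh.toD X F) hqc a b
      (fun j hj => isZero_HD_of_hasTorAmplitude (f ≫ q) F a b hF j hj) i (Or.inr ?_)
    · obtain ⟨e⟩ := Groth.Agent.Lib.RpushCohDH3.nonempty_HD_Rpush_inD_iso f G n
      exact IsZero.of_iso (hN G hG (n : ℤ) (by push_cast at hn ⊢; omega)) e.symm
    · push_cast
      omega
  intro y
  obtain ⟨W, hW, hyW, -⟩ := Opens.isBasis_iff_nbhd.mp S.isBasis_affineOpens
    (Opens.mem_top (q.base y))
  obtain ⟨V, hV, hyV, hVW⟩ := Opens.isBasis_iff_nbhd.mp Y.isBasis_affineOpens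
    (show y ∈ q ⁻¹ᵁ W from hyW)
  obtain ⟨b', hb'⟩ := core q f (DCoh.toD X F) hqc a b V hV W hW hVW
    (fun x _ => (hasTorAmplitude_iff (f ≫ q) a b F).1 hF x)
  exact hasTorAmplitudeIn_SD_of_isLE q a b' (b + N) _ y (hb' y hyV) hLE

end Main

end

end Groth.Agent.Lib.TorPushH3
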