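import Mathlib
import Groth.Prelude
import Groth.Agent.Lib.TorSmooth5_helper3
import Groth.Agent.Lib.TorAmpId_lead

/-!
# Tor amplitude over a smooth algebra, part 6: direct images along closed immersions (helper3)

`main6190`: `i : X ⟶ X'` a closed immersion, `f' : X' ⟶ Y` smooth of relative dimension `≤ d`, `F` of
tor amplitude `[a, b]` relative to `i ≫ f'`; then `i_* F` has flat amplitude `[a - d, b]` on `X'`.
-/

set_option autoImplicit false
set_option linter.all false
set_option maxHeartbeats 1600000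
set_option backward.isDefEq.respectTransparency false
set_option backward.isDefEq.respectTransparency.types false
set_option backward.defeqAttrib.useBackward true

universe u
open CategoryTheory CategoryTheory.Limits AlgebraicGeometry Opposite TopologicalSpace
attribute [local instance] HasDerivedCategory.standard

namespace Groth.Agent.Lib.TorSmoothH3

open DRing DerSch Groth.Agent.Lib.DMod_helper6 Groth.Agent.Lib.TorAmpCompL
  Groth.Agent.Lib.TorAmpRelH3 Groth.Agent.Lib.TorDimFactorL Groth.Agent.Lib.TorAmpPushL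
  Groth.Agent.Lib.TorAmpIdL

noncomputable section

variable {X X' Y : Scheme.{u}}

/-- termwise direct image of complexes -/
abbrev pushCx (i : X ⟶ X') : CochainComplex X.Modules ℤ ⥤ CochainComplex X'.Modules ℤ :=
  (Scheme.Modules.pushforward i).mapHomologicalComplex (ComplexShape.up ℤ)

theorem hasTorAmplitudeIn_stalkCx_push (i : X ⟶ X') [IsClosedImmersion i]
    (F : CochainComplex X.Modules ℤ) (a b : ℤ) (x : X) (h : HasTorAmplitudeAt i a b F x) :
    HasTorAmplitudeIn (X'.presheaf.stalk (i.base x)) a b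
      (toD ((stalkCx (i.base x)).obj ((pushCx i).obj F))) := by
  have h1 : HasTorAmplitudeAt (i ≫ 𝟙 X') a b F x := by
    rw [Category.comp_id]
    exact h
  have h2 : HasTorAmplitudeAt (𝟙 X') a b ((pushCx i).obj F) (i.base x) :=
    hasTorAmplitudeIn_of_iso (DerivedCategory.Q.mapIso (pushCxIso i (𝟙 X') x F)).symm a b h1
  exact hasTorAmplitudeIn_stalkCx_of_id _ a b _ h2

theorem hasTorAmplitudeAt_of_stalkCx_push (i : X ⟶ X') [IsClosedImmersion i]
    (F : CochainComplex X.Modules ℤ) (a b : ℤ) (x : X)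
    (h : HasTorAmplitudeAt (𝟙 X') a b ((pushCx i).obj F) (i.base x)) :
    HasTorAmplitudeAt i a b F x := by
  have h1 : HasTorAmplitudeAt (i ≫ 𝟙 X') a b F x :=
    hasTorAmplitudeIn_of_iso (DerivedCategory.Q.mapIso (pushCxIso i (𝟙 X') x F)) a b h
  rw [Category.comp_id] at h1
  exact h1

theorem isZero_stalkCx_push_of_not_mem (i : X ⟶ X') [IsClosedImmersion i]
    (F : CochainComplex X.Modules ℤ) (x' : X') (hx' : x' ∉ Set.range i.base) :
    IsZero ((stalkCx x').obj ((pushCx i).obj F)) := by
  rw [IsZero.iff_id_eq_zero]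
  apply HomologicalComplex.hom_ext
  intro j
  have hcl : IsClosed (Set.range i.base) := i.isClosedEmbedding.isClosed_range
  haveI : Subsingleton ↑((stalkFunctor X' x').obj ((Scheme.Modules.pushforward i).obj (F.X j))) :=
    CycLenH8.subsingleton_stalk_pushforward i (F.X j) hcl x' hx'
  exact (ModuleCat.isZero_of_subsingleton
    ((stalkFunctor X' x').obj ((Scheme.Modules.pushforward i).obj (F.X j)))).eq_of_src _ _

theorem hasTorAmplitudeIn_stalkCx_push_of_not_mem (i : X ⟶ X') [IsClosedImmersion i]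
    (F : CochainComplex X.Modules ℤ) (x' : X') (hx' : x' ∉ Set.range i.base) (a b : ℤ) :
    HasTorAmplitudeIn (X'.presheaf.stalk x') a b
      (toD ((stalkCx x').obj ((pushCx i).obj F))) :=
  hasTorAmplitudeIn_of_isZero _
    (DerivedCategory.Q.map_isZero (isZero_stalkCx_push_of_not_mem i F x' hx')) a b

/-- S6190 -/
theorem main6190 (i : X ⟶ X') [IsClosedImmersion i] (f' : X' ⟶ Y) (d : ℕ)
    (hd : ∀ x : X', ∃ (n : ℕ) (V : X'.Opens), n ≤ d ∧ x ∈ V ∧
      SmoothOfRelativeDimension n (V.ι ≫ f'))
    (F : CochainComplex X.Modules ℤ) (a b : ℤ) (hF : DerSch.HasTorAmplitude (i ≫ f') a b F) :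
    DCoh.HasFlatAmplitudeIn (a - d) b (DCoh.toD X' ((pushCx i).obj F)) := by
  apply flatAmp_of_stalkwise
  intro x'
  by_cases hx : x' ∈ Set.range i.base
  · obtain ⟨x, rfl⟩ := hx
    obtain ⟨n, V, hn, hxV, hsm⟩ := hd (i.base x)
    haveI := hsm
    have h1 := hasTorAmplitudeAt_of_comp_smooth_near i f' n V F a b x hxV (hF x)
    have h2 := hasTorAmplitudeIn_stalkCx_push i F (a - n) b x h1
    exact hasTorAmplitudeIn_mono _ (a - n) b _ _ (by omega) le_rfl h2
  · exact hasTorAmplitudeIn_stalkCx_push_of_not_mem i F x' hx _ _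

end

end Groth.Agent.Lib.TorSmoothH3
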