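import Mathlib
import Groth.Prelude
import Groth.Agent.Lib.TorSmooth6_helper3

/-!
# Tor amplitude over a smooth algebra, part 7: locally finite tor dimension (helper3)

`main6197`: `i` a closed immersion, `f'` smooth: `F` is locally of finite tor amplitude relative to
`i ≫ f'` iff `i_* F` locally has finite tor dimension on `X'`.
-/

set_option autoImplicit false
set_option linter.all false
set_option maxHeartbeats 1600000
set_option backward.isDefEq.respectTransparency false
set_option backward.isDefEq.respectTransparency.types false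
set_option backward.defeqAttrib.useBackward true

universe u
open CategoryTheory CategoryTheory.Limits AlgebraicGeometry Opposite TopologicalSpace
attribute [local instance] HasDerivedCategory.standard

namespace Groth.Agent.Lib.TorSmoothH3

open DRing DerSch Groth.Agent.Lib.DMod_helper6 Groth.Agent.Lib.TorAmpCompL
  Groth.Agent.Lib.TorAmpRelH3 Groth.Agent.Lib.TorDimFactorL Groth.Agent.Lib.TorAmpPushL
  Groth.Agent.Lib.TorAmpIdL

noncomputable section

variable {X X' Y : Scheme.{u}}

/-- flat amplitude of a restriction from stalkwise tor amplitude -/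
theorem flatAmp_restrict_of_stalkwise (G : CochainComplex X'.Modules ℤ) (V : X'.Opens) (a b : ℤ)
    (H : ∀ v : X', v ∈ V → HasTorAmplitudeAt (𝟙 X') a b G v) :
    DCoh.HasFlatAmplitudeIn a b (DerivedCategory.Q.obj ((DCoh.restrictCx V).obj G)) := by
  apply flatAmp_of_stalkwise
  intro v
  have h1 := hasTorAmplitudeAt_restrict V.ι (𝟙 X') v G a b (H _ v.2)
  have e1 : V.ι ≫ 𝟙 X' = 𝟙 (V : Scheme.{u}) ≫ V.ι := by rw [Category.comp_id, Category.id_comp]
  rw [e1] at h1
  have h2 := hasTorAmplitudeAt_of_comp_openImmersion (𝟙 (V : Scheme.{u})) V.ι _ a b v h1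
  exact hasTorAmplitudeIn_stalkCx_of_id _ a b v h2

/-- stalkwise tor amplitude from flat amplitude of a restriction -/
theorem stalkwise_of_flatAmp_restrict (G : CochainComplex X'.Modules ℤ) (V : X'.Opens) (a b : ℤ)
    (h : DCoh.HasFlatAmplitudeIn a b (DerivedCategory.Q.obj ((DCoh.restrictCx V).obj G)))
    (v : X') (hv : v ∈ V) : HasTorAmplitudeAt (𝟙 X') a b G v := by
  let v' : ↥V := ⟨v, hv⟩
  have h1 := stalkwise_of_flatAmp ((DCoh.restrictCx V).obj G) a b h v'
  have h2 := hasTorAmplitudeAt_comp_openImmersion (𝟙 (V : Scheme.{u})) V.ι _ a b v' h1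
  have e1 : 𝟙 (V : Scheme.{u}) ≫ V.ι = V.ι ≫ 𝟙 X' := by rw [Category.comp_id, Category.id_comp]
  rw [e1] at h2
  exact hasTorAmplitudeAt_of_restrict V.ι (𝟙 X') v' G a b h2

lemma exists_relDim {R S : Type u} [CommRing R] [CommRing S] {f : R →+* S}
    (hf : f.IsStandardSmooth) : ∃ n : ℕ, f.IsStandardSmoothOfRelativeDimension n := by
  obtain ⟨_, _, _, _, ⟨P⟩⟩ := hf
  letI := f.toAlgebra
  exact ⟨_, ⟨_, _, _, ‹_›, P, rfl⟩⟩

theorem hasTorAmplitudeAt_id_push_of_not_mem (i : X ⟶ X') [IsClosedImmersion i]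
    (F : CochainComplex X.Modules ℤ) (x' : X') (hx' : x' ∉ Set.range i.base) (a b : ℤ) :
    HasTorAmplitudeAt (𝟙 X') a b ((pushCx i).obj F) x' :=
  hasTorAmplitudeIn_of_iso (DerivedCategory.Q.mapIso (idCxIso x' ((pushCx i).obj F))).symm a b
    (hasTorAmplitudeIn_stalkCx_push_of_not_mem i F x' hx' a b)

theorem hasTorAmplitudeAt_id_push (i : X ⟶ X') [IsClosedImmersion i]
    (F : CochainComplex X.Modules ℤ) (a b : ℤ) (x : X) (h : HasTorAmplitudeAt i a b F x) :
    HasTorAmplitudeAt (𝟙 X') a b ((pushCx i).obj F) (i.base x) := by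
  have h1 : HasTorAmplitudeAt (i ≫ 𝟙 X') a b F x := by
    rw [Category.comp_id]
    exact h
  exact hasTorAmplitudeIn_of_iso (DerivedCategory.Q.mapIso (pushCxIso i (𝟙 X') x F)).symm a b h1

/-- S6197 -/
theorem main6197 (i : X ⟶ X') [IsClosedImmersion i] (f' : X' ⟶ Y) [Smooth f']
    (F : CochainComplex X.Modules ℤ) :
    DerSch.LocFiniteTorAmplitude (i ≫ f') F ↔
      DCoh.LocHasFiniteTorDim (DCoh.toD X' ((pushCx i).obj F)) := by
  constructor
  · intro h x'
    by_cases hx : x' ∈ Set.range i.base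
    · obtain ⟨x, rfl⟩ := hx
      obtain ⟨V₀, a, b, hxV₀, hV₀⟩ := h x
      obtain ⟨t, ht, hteq⟩ := i.isClosedEmbedding.isEmbedding.isInducing.isOpen_iff.1 V₀.2
      let V₁ : X'.Opens := ⟨t, ht⟩
      obtain ⟨U, hU, W, hW, hxW, e, hstd⟩ := Smooth.exists_isStandardSmooth f' (i.base x)
      obtain ⟨n, hn⟩ := exists_relDim hstd
      refine ⟨V₁ ⊓ W, a - n, b, ⟨?_, hxW⟩, ?_⟩
      · show i.base x ∈ t
        have : x ∈ i.base ⁻¹' t := by rw [hteq]; exact hxV₀
        exact this
      · intro F' ⟨eF'⟩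
        apply flatAmp_restrict_of_stalkwise
        intro v hv
        refine hasTorAmplitudeIn_of_iso (stalkDIso (𝟙 X') v eF').symm _ _ ?_
        by_cases hvr : v ∈ Set.range i.base
        · obtain ⟨x₁, rfl⟩ := hvr
          have hx₁ : x₁ ∈ V₀ := by
            have : x₁ ∈ i.base ⁻¹' t := hv.1
            rw [hteq] at this
            exact this
          have h1 := hasTorAmplitudeAt_of_comp_chart i f' n F a b x₁ hU hW hv.2 e hn
            (hV₀ x₁ hx₁)
          exact hasTorAmplitudeAt_id_push i F (a - n) b x₁ h1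
        · exact hasTorAmplitudeAt_id_push_of_not_mem i F v hvr _ _
    · have hcl : IsClosed (Set.range i.base) := i.isClosedEmbedding.isClosed_range
      refine ⟨⟨(Set.range i.base)ᶜ, hcl.isOpen_compl⟩, 0, 0, hx, ?_⟩
      intro F' ⟨eF'⟩
      apply flatAmp_restrict_of_stalkwise
      intro v hv
      refine hasTorAmplitudeIn_of_iso (stalkDIso (𝟙 X') v eF').symm _ _ ?_
      exact hasTorAmplitudeAt_id_push_of_not_mem i F v hv _ _
  · intro h x
    obtain ⟨V, a, b, hxV, hV⟩ := h (i.base x)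
    refine ⟨i ⁻¹ᵁ V, a, b, hxV, ?_⟩
    intro x₁ hx₁
    have h1 := hV ((pushCx i).obj F) ⟨Iso.refl _⟩
    have h2 := stalkwise_of_flatAmp_restrict _ V a b h1 (i.base x₁) hx₁
    have h3 := hasTorAmplitudeAt_of_stalkCx_push i F a b x₁ h2
    have h4 := hasTorAmplitudeAt_comp i f' 0 x₁ (unit_flat_of_flat f' (i.base x₁)) F a b h3
    simpa using h4

end

end Groth.Agent.Lib.TorSmoothH3
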