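import Mathlib
import Groth.Prelude
import Groth.Agent.Lib.TorPush3_helper3
import Groth.Agent.Lib.TorSmooth7_helper3

/-!
# Locally finite tor amplitude of `Rf_*` (helper3)

* `exists_uniform_torAmp`: uniform bounds on quasi-compact subsets.
* `main6198`, `main6193`.
-/

set_option autoImplicit false
set_option linter.all false
set_option maxHeartbeats 1600000
set_option backward.isDefEq.respectTransparency false
set_option backward.isDefEq.respectTransparency.types false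
set_option backward.defeqAttrib.useBackward true

universe u
open CategoryTheory CategoryTheory.Limits AlgebraicGeometry Opposite TopologicalSpace
open CategoryTheory.Pretriangulated

attribute [local instance] HasDerivedCategory.standard

namespace Groth.Agent.Lib.TorPushH3

open DRing DerSch Groth.Agent.Lib.DMod_helper6 Groth.Agent.Lib.TorAmpPushL DerivedCategory
  Groth.Agent.Lib.DCohLocLead Groth.Agent.Lib.BCOpenL Groth.Agent.Lib.RelPerfLocH3

noncomputable section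

section Uniform

variable {X S : Scheme.{u}}

theorem hasTorAmplitudeAt_mono (p : X ⟶ S) (F : CochainComplex X.Modules ℤ) {a b a' b' : ℤ}
    (x : X) (h : HasTorAmplitudeAt p a b F x) (ha : a' ≤ a) (hb : b ≤ b') :
    HasTorAmplitudeAt p a' b' F x :=
  hasTorAmplitudeIn_mono _ h ha hb

/-- uniform bounds on a quasi-compact subset -/
theorem exists_uniform_torAmp (p : X ⟶ S) (F : CochainComplex X.Modules ℤ)
    (hF : LocFiniteTorAmplitude p F) (Z : Set X) (hZ : IsCompact Z) :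
    ∃ a b : ℤ, ∀ x : X, x ∈ Z → HasTorAmplitudeAt p a b F x := by
  choose U a b hxU hU using hF
  obtain ⟨t, ht⟩ := hZ.elim_finite_subcover (fun x : X => ((U x : X.Opens) : Set X))
    (fun x => (U x).isOpen) (fun x _ => Set.mem_iUnion.2 ⟨x, hxU x⟩)
  refine ⟨-(∑ x ∈ t, |a x|), ∑ x ∈ t, |b x|, fun x hx => ?_⟩
  have hx' := ht hx
  simp only [Set.mem_iUnion] at hx'
  obtain ⟨x₀, hx₀, hxx₀⟩ := hx'
  refine hasTorAmplitudeAt_mono p F x (hU x₀ x hxx₀) ?_ ?_
  · have h1 : |a x₀| ≤ ∑ y ∈ t, |a y| :=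
      Finset.single_le_sum (f := fun y => |a y|) (fun y _ => abs_nonneg _) hx₀
    have h2 := neg_abs_le (a x₀)
    linarith
  · have h1 : |b x₀| ≤ ∑ y ∈ t, |b y| :=
      Finset.single_le_sum (f := fun y => |b y|) (fun y _ => abs_nonneg _) hx₀
    have h2 := le_abs_self (b x₀)
    linarith

end Uniform

section Main

variable {X Y S : Scheme.{u}}

/-- **S6198** -/
theorem main6198 (p : X ⟶ S) (q : Y ⟶ S) (f : X ⟶ Y) (w : f ≫ q = p) [QuasiCompact f]
    [QuasiSeparated f] [DCoh.HasRpush f] (F : CochainComplex X.Modules ℤ)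
    (hqc : DCoh.IsQCohD (DCoh.toD X F)) (hF : DerSch.LocFiniteTorAmplitude p F) :
    DerSch.LocFiniteTorAmplitudeD q ((DCoh.Rpush f).obj (DCoh.toD X F)) := by
  subst w
  rintro G ⟨eG⟩ y
  obtain ⟨W, hW, hyW, -⟩ := Opens.isBasis_iff_nbhd.mp S.isBasis_affineOpens
    (Opens.mem_top (q.base y))
  obtain ⟨V, hV, hyV, hVW⟩ := Opens.isBasis_iff_nbhd.mp Y.isBasis_affineOpens
    (show y ∈ q ⁻¹ᵁ W from hyW)
  have hZ : IsCompact ((f ⁻¹ᵁ V : X.Opens) : Set X) :=
    (inferInstance : QuasiCompact f).1 _ V.isOpen hV.isCompact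
  obtain ⟨a, b, hab⟩ := exists_uniform_torAmp (f ≫ q) F hF _ hZ
  obtain ⟨b', hb'⟩ := core q f (DCoh.toD X F) hqc a b V hV W hW hVW
    (fun x hx => (hasTorAmplitudeAt_iff_SD (f ≫ q) a b F x).1 (hab x hx))
  refine ⟨V, a, b', hyV, fun y' hy' => ?_⟩
  rw [hasTorAmplitudeAt_iff_SD]
  exact hasTorAmplitudeIn_of_iso ((SD q y').mapIso eG.symm) a b' (hb' y' hy')

/-- **S6193** -/
theorem main6193 (f : X ⟶ Y) [QuasiCompact f] [QuasiSeparated f]
    [DCoh.HasRpush f] (hf : DerSch.LocFiniteTorDim f) (F : CochainComplex X.Modules ℤ)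
    (hqc : DCoh.IsQCohD (DCoh.toD X F)) (hE : DCoh.LocHasFiniteTorDim (DCoh.toD X F)) :
    DCoh.LocHasFiniteTorDim ((DCoh.Rpush f).obj (DCoh.toD X F)) := by
  -- `F` is locally of finite tor amplitude relative to `f`
  have hF : DerSch.LocFiniteTorAmplitude f F := by
    intro x
    obtain ⟨V₁, a₁, b₁, hxV₁, hV₁⟩ := hE x
    obtain ⟨V₂, a₂, b₂, hxV₂, hV₂⟩ := hf x
    let n : ℕ := (-a₂).toNat
    refine ⟨V₁ ⊓ V₂, a₁ - n, b₁, ⟨hxV₁, hxV₂⟩, fun x' hx' => ?_⟩
    have h1 : HasTorAmplitudeAt (𝟙 X) a₁ b₁ F x' :=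
      Groth.Agent.Lib.TorSmoothH3.stalkwise_of_flatAmp_restrict F V₁ a₁ b₁
        (hV₁ F ⟨Iso.refl _⟩) x' hx'.1
    have h2 : HasTorAmplitudeAt f a₂ b₂ (unitCx X) x' := hV₂ x' hx'.2
    have h3 : HasTorAmplitudeAt f a₂ 0 (unitCx X) x' := by
      refine Groth.Agent.Lib.ShriekRangeH6.hasTorAmplitudeIn_of_vanishing_above _ a₂ b₂ 0 h2
        (fun i hi => ?_)
      rw [← exactAt_iff_subsingleton_HD (Iso.refl _) i]
      refine exactAt_of_isZero_X _ i ?_
      exact (stalkOver f x').map_isZero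
        (HomologicalComplex.isZero_single_obj_X (ComplexShape.up ℤ) 0 _ i (by omega))
    have h4 : HasTorAmplitudeAt f (-(n : ℤ)) 0 (unitCx X) x' := by
      refine hasTorAmplitudeAt_mono f _ x' h3 ?_ le_rfl
      have := Int.self_le_toNat (-a₂)
      omega
    have h5 := Groth.Agent.Lib.TorAmpCompL.hasTorAmplitudeAt_comp (𝟙 X) f n x' h4 F a₁ b₁ h1
    rw [Category.id_comp] at h5
    exact h5
  have key := main6198 f (𝟙 Y) f (Category.comp_id f) F hqc hF
  intro y
  let G : CochainComplex Y.Modules ℤ := Q.objPreimage ((DCoh.Rpush f).obj (DCoh.toD X F))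
  let eG : Q.obj G ≅ (DCoh.Rpush f).obj (DCoh.toD X F) := Q.objObjPreimageIso _
  obtain ⟨V, a, b, hyV, hV⟩ := key G ⟨eG⟩ y
  refine ⟨V, a, b, hyV, ?_⟩
  rintro F' ⟨eF'⟩
  apply Groth.Agent.Lib.TorSmoothH3.flatAmp_restrict_of_stalkwise
  intro v hv
  exact Groth.Agent.Lib.RelFlatAmpH3.hasTorAmplitudeAt_of_iso (𝟙 Y) (eG ≪≫ eF'.symm) a b v
    (hV v hv)

end Main

end

end Groth.Agent.Lib.TorPushH3
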