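import Mathlib
import Groth.Prelude
import Groth.Agent.Lib.TorPush4_helper3
import Groth.Agent.Lib.RelPCProp2_helper3
import Groth.Agent.Lib.RGammaZ3_lead
import Groth.Agent.Lib.HomVan2_lead
import Groth.Agent.Lib.PerfFlat2_lead

/-!
# `Rf_*` of a bounded coherent complex with proper supports and finite relative tor amplitude is
perfect (helper3)

* `exists_compact_open_superset`
* `nonempty_Rpush_iso_of_support`: if the cohomology sheaves of `E` are supported in the open `U`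
  (closed supports), `Rf_* E ≅ R(f|_U)_* (E|_U)`.
* `main7256`.
-/

set_option autoImplicit false
set_option linter.all false
set_option maxHeartbeats 1600000
set_option backward.isDefEq.respectTransparency false
set_option backward.isDefEq.respectTransparency.types false
set_option backward.defeqAttrib.useBackward true

universe u
open CategoryTheory CategoryTheory.Limits AlgebraicGeometry Opposite TopologicalSpace
open CategoryTheory.Pretriangulated

attribute [local instance] HasDerivedCategory.standard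

namespace Groth.Agent.Lib.TorPushH3

open DRing DerSch Groth.Agent.Lib.DMod_helper6 DerivedCategory
  Groth.Agent.Lib.DCohLocLead Groth.Agent.Lib.BCOpenL

noncomputable section

local instance hasRpushInstT6 {X Y : Scheme.{u}} (f : X ⟶ Y) : DCoh.HasRpush f := hasRpush f

section Top

variable {X : Scheme.{u}}

theorem exists_compact_open_superset (Z : Set X) (hZ : IsCompact Z) :
    ∃ U : X.Opens, IsCompact (U : Set X) ∧ Z ⊆ (U : Set X) := by
  have hx : ∀ x : X, ∃ U : X.Opens, IsAffineOpen U ∧ x ∈ U := by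
    intro x
    obtain ⟨U, hU, hxU, -⟩ := Opens.isBasis_iff_nbhd.mp X.isBasis_affineOpens (Opens.mem_top x)
    exact ⟨U, hU, hxU⟩
  choose U hU hxU using hx
  obtain ⟨t, ht⟩ := hZ.elim_finite_subcover (fun x : X => ((U x : X.Opens) : Set X))
    (fun x => (U x).isOpen) (fun x _ => Set.mem_iUnion.2 ⟨x, hxU x⟩)
  refine ⟨⟨⋃ x ∈ t, ((U x : X.Opens) : Set X), isOpen_biUnion (fun x _ => (U x).isOpen)⟩, ?_, ht⟩
  exact t.isCompact_biUnion (fun x _ => (hU x).isCompact)

end Top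

section Supp

variable {X S : Scheme.{u}}

theorem isCompact_of_isProperOver (p : X ⟶ S) [CompactSpace S] (Z : Set X)
    (h : ClSub.IsProperOver p Z) : IsCompact Z := by
  obtain ⟨hcl, hprop⟩ := h
  haveI : IsProper (ProperOver.redι Z hcl ≫ p) := hprop
  haveI : CompactSpace (ProperOver.red Z hcl) :=
    QuasiCompact.compactSpace_of_compactSpace (ProperOver.redι Z hcl ≫ p)
  rw [← ProperOver.range_redι Z hcl]
  exact isCompact_range (ProperOver.redι Z hcl).continuous

/-- `Rf_* E ≅ R(f|_U)_* (E|_U)` when the cohomology of `E` is supported in `U` -/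
theorem nonempty_Rpush_iso_of_support (f : X ⟶ S) [DCoh.HasRpush f] (E : DCoh.D X) (U : X.Opens)
    (Z : Set X) (hZ : IsClosed Z) (hZU : Z ⊆ (U : Set X))
    (hE : ∀ i : ℤ, CohB1.support (DCoh.HD E i) ⊆ Z) :
    Nonempty ((DCoh.Rpush f).obj E ≅ (DCoh.Rpush (U.ι ≫ f)).obj ((DD U.ι).obj E)) := by
  obtain ⟨adj⟩ := Groth.Agent.Lib.HomVanL.nonempty_adj_DD U.ι
  let W : X.Opens := ⟨Zᶜ, hZ.isOpen_compl⟩
  have hW : ((W : X.Opens) : Set X)ᶜ ⊆ Set.range U.ι.base := by
    intro x hx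
    have hxZ : x ∈ Z := not_not.mp hx
    rw [Scheme.Opens.range_ι]
    exact hZU hxZ
  haveI : IsIso (adj.unit.app E) :=
    Groth.Agent.Lib.RGammaZL.isIso_unit_of_isZero_restrict U.ι W hW adj E (by
      intro i x hx
      by_contra hns
      exact hx (hE i hns))
  obtain ⟨e1⟩ := Groth.Agent.Lib.LpullAdjH3.nonempty_Rpush_comp_iso U.ι f
  exact ⟨(DCoh.Rpush f).mapIso (asIso (adj.unit.app E)) ≪≫ e1.app _⟩

end Supp

section Main

variable {X S : Scheme.{u}}

/-- **S7256** -/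
theorem main7256 [IsNoetherian S] (f : X ⟶ S) [LocallyOfFiniteType f] [DCoh.HasRpush f]
    (F : CochainComplex X.Modules ℤ) (hcoh : DCoh.IsCohD (DCoh.toD X F))
    (hbdd : ∃ a b : ℤ, ∀ i : ℤ, (i < a ∨ b < i) → IsZero (DCoh.HD (DCoh.toD X F) i))
    (hsupp : ∀ i : ℤ, ClSub.IsProperOver f (CohB1.support (DCoh.HD (DCoh.toD X F) i)))
    (htor : DerSch.HasFiniteTorAmplitude f F) :
    DCoh.IsPerfect ((DCoh.Rpush f).obj (DCoh.toD X F)) := by
  obtain ⟨a₀, b₀, hab⟩ := hbdd
  haveI : (DCoh.toD X F).IsGE a₀ :=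
    (DerivedCategory.isGE_iff _ a₀).2 (fun j hj => hab j (Or.inl hj))
  haveI : (DCoh.toD X F).IsLE b₀ :=
    (DerivedCategory.isLE_iff _ b₀).2 (fun j hj => hab j (Or.inr hj))
  obtain ⟨h1, h2, b', h3⟩ := Groth.Agent.Lib.RpushCohDH3.main1001 f (DCoh.toD X F) a₀ b₀ hcoh hsupp
  haveI : IsLocallyNoetherian X := LocallyOfFiniteType.isLocallyNoetherian f
  rw [main914]
  refine ⟨fun m => isPC_of_coh _ b' m h3 (fun i _ => h1 i), ?_⟩
  obtain ⟨a, b, hF⟩ := htor
  -- the support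
  let Z : Set X := ⋃ i ∈ Finset.Icc a₀ b₀, CohB1.support (DCoh.HD (DCoh.toD X F) i)
  have hZcl : IsClosed Z := Set.Finite.isClosed_biUnion (Finset.finite_toSet _)
    (fun i _ => (hsupp i).1)
  have hZc : IsCompact Z := (Finset.Icc a₀ b₀).isCompact_biUnion
    (fun i _ => isCompact_of_isProperOver f _ (hsupp i))
  have hEZ : ∀ i : ℤ, CohB1.support (DCoh.HD (DCoh.toD X F) i) ⊆ Z := by
    intro i
    by_cases hi : i ∈ Finset.Icc a₀ b₀
    · exact Set.subset_biUnion_of_mem (u := fun i => CohB1.support (DCoh.HD (DCoh.toD X F) i)) hi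
    · rw [Finset.mem_Icc] at hi
      rw [CycLenH8.support_eq_empty_of_isZero (hab i (by omega))]
      exact Set.empty_subset _
  obtain ⟨U, hUc, hZU⟩ := exists_compact_open_superset Z hZc
  obtain ⟨e⟩ := nonempty_Rpush_iso_of_support f (DCoh.toD X F) U Z hZcl hZU hEZ
  haveI : CompactSpace (U : Scheme.{u}) := isCompact_iff_compactSpace.mp hUc
  haveI : QuasiCompact (U.ι ≫ f) := inferInstance
  haveI : QuasiSeparated (U.ι ≫ f) := inferInstance
  have hqcU : DCoh.IsQCohD (DCoh.toD (U : Scheme.{u}) ((RC U.ι).obj F)) :=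
    Groth.Agent.Lib.DSectX.isQCohD_of_iso (facIso U.ι F)
      (Groth.Agent.Lib.LpullQCL.isQCohD_restrictD U.ι _ (fun i => (hcoh i).1))
  have hFU : DerSch.LocFiniteTorAmplitude (U.ι ≫ f) ((RC U.ι).obj F) := fun x =>
    ⟨⊤, a, b, trivial, fun x' _ =>
      Groth.Agent.Lib.TorAmpRelH3.hasTorAmplitudeAt_restrict U.ι f x' F a b (hF _)⟩
  have key := main6198 (U.ι ≫ f) (𝟙 S) (U.ι ≫ f) (Category.comp_id _) ((RC U.ι).obj F) hqcU hFU
  intro y
  let G : CochainComplex S.Modules ℤ :=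
    Q.objPreimage ((DCoh.Rpush (U.ι ≫ f)).obj (DCoh.toD (U : Scheme.{u}) ((RC U.ι).obj F)))
  let eG : Q.obj G ≅ (DCoh.Rpush (U.ι ≫ f)).obj (DCoh.toD (U : Scheme.{u}) ((RC U.ι).obj F)) :=
    Q.objObjPreimageIso _
  obtain ⟨V, a', b'', hyV, hV⟩ := key G ⟨eG⟩ y
  refine ⟨V, a', b'', hyV, ?_⟩
  rintro F' ⟨eF'⟩
  apply Groth.Agent.Lib.TorSmoothH3.flatAmp_restrict_of_stalkwise
  intro v hv
  exact Groth.Agent.Lib.RelFlatAmpH3.hasTorAmplitudeAt_of_iso (𝟙 S)
    (eG ≪≫ (DCoh.Rpush (U.ι ≫ f)).mapIso (facIso U.ι F).symm ≪≫ e.symm ≪≫ eF'.symm) a' b'' v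
    (hV v hv)

end Main

end

end Groth.Agent.Lib.TorPushH3
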