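import Mathlib
import Groth.Prelude
import Groth.Agent.Lib.PerfTensG1_helper3
import Groth.Agent.Lib.TorPush6_helper3
import Groth.Agent.Lib.RelFlatAmp2_helper3
import Groth.Agent.Lib.TensQC3_helper8
import Groth.Agent.Lib.KerFree1_helper8
import Groth.Agent.Lib.DCohLoc6_lead
import Groth.Agent.Lib.ProperOver_helper9
import Groth.Agent.Lib.SuppFT_helper9
import Groth.Agent.Lib.PerfFlat2_lead
import Groth.Agent.Lib.RelPCProp1_helper3

/-!
# `Rf_*(E ⊗^L G)` is perfect (helper3)

`main1061`: `S` Noetherian, `f : X ⟶ S` locally of finite type, `E` perfect, `G` coherent, flat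
over `S` with support proper over `S`: then `Rf_*(E ⊗^L G)` is perfect.
-/

set_option autoImplicit false
set_option linter.all false
set_option maxHeartbeats 1600000
set_option backward.isDefEq.respectTransparency false
set_option backward.isDefEq.respectTransparency.types false
set_option backward.defeqAttrib.useBackward true

universe u
open CategoryTheory CategoryTheory.Limits AlgebraicGeometry Opposite MonoidalCategory

attribute [local instance] HasDerivedCategory.standard

namespace Groth.Agent.Lib.PerfTensGH3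

open Groth.Agent.Lib.StalkTensH3 Groth.Agent.Lib.DTorCmp Groth.Agent.Lib.LTensModExH3
  Groth.Agent.Lib.PullTensIsoH3 Groth.Agent.Lib.PerfTensH3 Groth.Agent.Lib.DCohLocLead
  Groth.Agent.Lib.LpullLocH3 Groth.Agent.Lib.LpullTensH3 Groth.Agent.Lib.RelPerfTensH3
  Groth.Agent.Lib.QcTestH3 DerSch DerivedCategory

noncomputable section

section LocalModel

variable {Y S : Scheme.{u}}

theorem vanishesOutside_tw (G : Y.Modules) (L : CochainComplex Y.Modules ℤ) (a b : ℤ)
    (hL : DCoh.VanishesOutside L a b) : DCoh.VanishesOutside ((tw G).obj L) a b :=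
  fun i hi => (DCoh.tensorRightMod G).map_isZero (hL i hi)

theorem isFlatOver_tw_X (g : Y ⟶ S) (G : Y.Modules) (hG : FlatMod.IsFlatOver g G)
    (L : CochainComplex Y.Modules ℤ) (hL : ∀ i : ℤ, FlatMod.IsFinLocFree (L.X i)) (i : ℤ) :
    FlatMod.IsFlatOver g (((tw G).obj L).X i) :=
  isFlatOver_of_iso g ((eTB G).app (L.X i)).symm (isFlatOver_tensor g (L.X i) G (hL i) hG)

theorem isCoh_tw_X (G : Y.Modules) (hG : Coh.IsCoh G)
    (L : CochainComplex Y.Modules ℤ) (hL : ∀ i : ℤ, FlatMod.IsFinLocFree (L.X i)) (i : ℤ) :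
    Coh.IsCoh (((tw G).obj L).X i) := by
  have h1 := KerFreeH8.isCoh_of_finLocFree (hL i)
  haveI := h1.1
  haveI := hG.1
  show Coh.IsCoh (CohB1.tensorMod (L.X i) G)
  exact ⟨TensQCH8.isQuasicoherent_tensorMod (L.X i) G,
    TensQCH8.isFiniteType_tensorMod (L.X i) G h1.2 hG.2⟩

end LocalModel

section Zero

variable {X S : Scheme.{u}}

/-- the stalk of `A ⊗ G` vanishes outside the support of `G` -/
theorem isZero_stalk_tw (G : X.Modules) (x : X) (hx : x ∉ CohB1.support G) (A : X.Modules) :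
    IsZero ((stk x).obj ((DCoh.tensorRightMod G).obj A)) := by
  have hs : Subsingleton (G.presheaf.stalk x) := by
    by_contra h
    exact hx h
  haveI : Subsingleton ((stk x).obj G) := hs
  refine IsZero.of_iso ?_ ((stalkTwIso x G ((stk x).obj G) (Iso.refl _)).app A)
  haveI : Subsingleton ((stk x ⋙ (curriedTensor (ModuleCat.{u} (X.presheaf.stalk x))).obj
      ((stk x).obj G)).obj A) := by
    refine ⟨fun p q => ?_⟩
    have h0 : ∀ t : TensorProduct (X.presheaf.stalk x) ((stk x).obj G) ((stk x).obj A),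
        t = 0 := by
      intro t
      induction t using TensorProduct.induction_on with
      | zero => rfl
      | tmul m n => rw [Subsingleton.elim m 0, TensorProduct.zero_tmul]
      | add a b ha hb => rw [ha, hb, add_zero]
    exact (h0 p).trans (h0 q).symm
  exact ModuleCat.isZero_of_subsingleton _

/-- outside the support of `G`, the complex of stalks of `P ⊗ G` is zero -/
theorem hasTorAmplitudeAt_tw_of_notMem (f : X ⟶ S) (G : X.Modules) (x : X)
    (hx : x ∉ CohB1.support G) (P : CochainComplex X.Modules ℤ) (a b : ℤ) :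
    HasTorAmplitudeAt f a b ((tw G).obj P) x := by
  have hz : ∀ i : ℤ, IsZero (((stalkCxOver f x).obj ((tw G).obj P)).X i) := fun i =>
    (ModuleCat.restrictScalars (f.stalkMap x).hom).map_isZero (isZero_stalk_tw G x hx (P.X i))
  refine ⟨(stalkCxOver f x).obj ((tw G).obj P), fun i _ => hz i, fun i => ?_, ⟨Iso.refl _⟩⟩
  haveI : Subsingleton (((stalkCxOver f x).obj ((tw G).obj P)).X i) :=
    ModuleCat.subsingleton_of_isZero (hz i)
  infer_instance

/-- the cohomology sheaves of `P ⊗ G` are supported in the support of `G` -/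
theorem support_HD_tw_subset (G : X.Modules) (P : CochainComplex X.Modules ℤ) (i : ℤ) :
    CohB1.support (DCoh.HD (DCoh.toD X ((tw G).obj P)) i) ⊆ CohB1.support G := by
  intro x hx
  by_contra hxG
  apply hx
  have hz1 : IsZero ((((stk x).mapHomologicalComplex (ComplexShape.up ℤ)).obj
      ((tw G).obj P)).homology i) :=
    Groth.Agent.Lib.DTorCmp.isZero_homology_of_isZero_X _ i (isZero_stalk_tw G x hxG (P.X i))
  have hz2 : IsZero ((stk x).obj (((tw G).obj P).homology i)) :=
    IsZero.of_iso hz1 ((((tw G).obj P).sc i).mapHomologyIso (stk x)).symm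
  have hz3 : IsZero ((stk x).obj (DCoh.HD (DCoh.toD X ((tw G).obj P)) i)) :=
    IsZero.of_iso hz2 ((stk x).mapIso ((homologyFunctorFactors X.Modules i).app ((tw G).obj P)))
  exact ModuleCat.subsingleton_of_isZero hz3

end Zero

section Main

variable {X S : Scheme.{u}}

/-- the local computation -/
theorem local_props [IsLocallyNoetherian X] (f : X ⟶ S) (G : X.Modules) (hG : Coh.IsCoh G)
    (hflat : FlatMod.IsFlatOver f G) (P : CochainComplex X.Modules ℤ) (hP : DCoh.IsKFlat P)
    (V : X.Opens) (L : CochainComplex (V : Scheme.{u}).Modules ℤ)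
    (hL : DCoh.IsStrictlyPerfect L)
    (e : Q.obj ((RC V.ι).obj P) ≅ Q.obj L) :
    DCoh.IsCohD ((DD V.ι).obj (Q.obj ((tw G).obj P))) ∧
      ∃ a b : ℤ, ∀ x : X, x ∈ V → HasTorAmplitudeAt f a b ((tw G).obj P) x := by
  obtain ⟨e1⟩ := nonempty_local_rep V.ι G P hP L hL e
  obtain ⟨⟨a, b, hv⟩, hfl⟩ := hL
  let G' := (Scheme.Modules.restrictFunctor V.ι).obj G
  have hG' : Coh.IsCoh G' := Groth.Agent.Lib.RelPCPropH3.isCoh_restrict V.ι G hG
  have hflat' : FlatMod.IsFlatOver (V.ι ≫ f) G' := isFlatOver_restrict V.ι f G hflat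
  haveI : IsLocallyNoetherian (V : Scheme.{u}) := isLocallyNoetherian_of_isOpenImmersion V.ι
  constructor
  · intro i
    have h1 : Coh.IsCoh (((tw G').obj L).homology i) :=
      isCoh_homology ((tw G').obj L) (fun k => isCoh_tw_X G' hG' L hfl k) i
    exact Groth.Agent.Lib.RelPCPropH3.isCoh_of_iso
      ((homologyFunctor _ i).mapIso (facIso V.ι ((tw G).obj P) ≪≫ e1) ≪≫
        (homologyFunctorFactors _ i).app ((tw G').obj L)) h1
  · refine ⟨a, b, fun x hx => ?_⟩
    have h2 : DCoh.HasRelFlatAmplitudeIn (V.ι ≫ f) a b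
        (DCoh.toD (V : Scheme.{u}) ((RC V.ι).obj ((tw G).obj P))) :=
      ⟨(tw G').obj L, vanishesOutside_tw G' L a b hv,
        fun k => isFlatOver_tw_X (V.ι ≫ f) G' hflat' L hfl k, ⟨e1.symm⟩⟩
    have h3 := Groth.Agent.Lib.RelFlatAmpH3.hasTorAmplitude_of_relFlatAmp (V.ι ≫ f) _ a b h2
    exact Groth.Agent.Lib.RelFlatAmpH3.hasTorAmplitudeAt_of_restrict' f V.ι ⟨x, hx⟩
      ((tw G).obj P) a b (h3 ⟨x, hx⟩)

/-- **S1061** -/
theorem main1061 [IsNoetherian S] (f : X ⟶ S) [LocallyOfFiniteType f]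
    (E : DCoh.D X) (hE : DCoh.IsPerfect E) (G : X.Modules) (hG : Coh.IsCoh G)
    (hflat : FlatMod.IsFlatOver f G)
    (hsupp : ClSub.IsProperOver f (CohB1.support G)) [DCoh.HasLTensorMod G] [DCoh.HasRpush f] :
    DCoh.IsPerfect ((DCoh.Rpush f).obj ((DCoh.LTensorMod G).obj E)) := by
  haveI : IsLocallyNoetherian X := LocallyOfFiniteType.isLocallyNoetherian f
  obtain ⟨P, hP, ⟨eP⟩⟩ := exists_kflat_rep E
  let F := (tw G).obj P
  let eF : (DCoh.LTensorMod G).obj E ≅ DCoh.toD X F :=
    (DCoh.LTensorMod G).mapIso eP.symm ≪≫ ltensorIso G P hP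
  -- the local computation
  have hloc : ∀ x : X, ∃ V : X.Opens, x ∈ V ∧ DCoh.IsCohD ((DD V.ι).obj (Q.obj F)) ∧
      ∃ a b : ℤ, ∀ x' : X, x' ∈ V → HasTorAmplitudeAt f a b F x' := by
    intro x
    obtain ⟨V, hxV, L, hL, ⟨i⟩⟩ := (isPerfect_iff E).1 hE x
    exact ⟨V, hxV, local_props f G hG hflat P hP V L hL
      ((facIso V.ι P).symm ≪≫ (DD V.ι).mapIso eP ≪≫ i)⟩
  have hcoh : DCoh.IsCohD (DCoh.toD X F) :=
    Groth.Agent.Lib.RelPCPropH3.isCohD_of_forall_point _ (fun x => by
      obtain ⟨V, hxV, h1, -⟩ := hloc x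
      exact ⟨V, hxV, h1⟩)
  have hlocT : LocFiniteTorAmplitude f F := by
    intro x
    obtain ⟨V, hxV, -, a, b, h⟩ := hloc x
    exact ⟨V, a, b, hxV, h⟩
  have hZc : IsCompact (CohB1.support G) :=
    Groth.Agent.Lib.TorPushH3.isCompact_of_isProperOver f _ hsupp
  obtain ⟨a, b, hab⟩ := Groth.Agent.Lib.TorPushH3.exists_uniform_torAmp f F hlocT _ hZc
  have htor : HasTorAmplitude f a b F := by
    intro x
    by_cases hx : x ∈ CohB1.support G
    · exact hab x hx
    · exact hasTorAmplitudeAt_tw_of_notMem f G x hx P a b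
  have hsuppF : ∀ i : ℤ, ClSub.IsProperOver f (CohB1.support (DCoh.HD (DCoh.toD X F) i)) := by
    intro i
    haveI := (hcoh i).2
    exact ProperOver.isProperOver_of_subset f hsupp
      (SuppFT.isClosed_support _) (support_HD_tw_subset G P i)
  exact isPerfect_of_iso ((DCoh.Rpush f).mapIso eF.symm)
    (Groth.Agent.Lib.TorPushH3.main7256 f F hcoh
      ⟨a, b, fun i hi => Groth.Agent.Lib.TorPushH3.isZero_HD_of_hasTorAmplitude f F a b htor i hi⟩
      hsuppF ⟨a, b, htor⟩)

end Main

end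

end Groth.Agent.Lib.PerfTensGH3
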