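import Mathlib
import Groth.Prelude
import Groth.Agent.Lib.BrownQC4_lead
import Groth.Agent.Lib.PerfTensG2_helper3

/-!
# **S1770**: for a flat proper morphism of Noetherian schemes the right adjoint of `Rf_*` on
`D_QCoh` commutes with coproducts (lead)

`Rf_*` preserves perfect complexes by helper3's `main1061` applied to the structure sheaf.
-/

set_option autoImplicit false
set_option linter.all false
set_option maxHeartbeats 1600000
set_option backward.isDefEq.respectTransparency false
set_option backward.isDefEq.respectTransparency.types false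
set_option backward.defeqAttrib.useBackward true

universe u

open CategoryTheory CategoryTheory.Limits AlgebraicGeometry TopologicalSpace Opposite
open DerivedCategory CategoryTheory.Pretriangulated

attribute [local instance] HasDerivedCategory.standard

namespace Groth.Agent.Lib.BrownQCL

open Groth.Agent.Lib Groth.Agent.Lib.DCohLocLead Groth.Agent.Lib.PerfLocL
open Groth.Agent.Lib.HomVanL Groth.Agent.Lib.CompQL

attribute [local instance] rpushI lpullI

theorem isPerfect_Rpush_of_flat_proper {X S : Scheme.{u}} [IsNoetherian S] (f : X ⟶ S)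
    [IsProper f] [Flat f] (E : DCoh.D X) (hE : DCoh.IsPerfect E) :
    DCoh.IsPerfect ((DCoh.Rpush f).obj E) := by
  haveI := Groth.Agent.Lib.LTensModExH3.hasLTensorMod (Coh.structureModule X)
  obtain ⟨e⟩ := nonempty_ltensor_unit_iso E
  have h := Groth.Agent.Lib.PerfTensGH3.main1061 f E hE (Coh.structureModule X)
    (CohDevH8.isCoh_structureModule X) (isFlatOver_unit f) (isProperOver_support_unit f)
  exact isPerfect_of_iso ((DCoh.Rpush f).mapIso e) h

/-- **S1770** -/
theorem main1770 (X Y : Scheme.{u}) [IsNoetherian X] [IsNoetherian Y] (f : X ⟶ Y)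
    [IsProper f] [Flat f]
    (h : ∀ K : DCoh.D X, DCoh.IsQCohD K → DCoh.IsQCohD ((DCoh.Rpush f).obj K))
    (a : DCoh.DQCoh Y ⥤ DCoh.DQCoh X)
    (adj : (ObjectProperty.lift DCoh.IsQCohD (ObjectProperty.ι DCoh.IsQCohD ⋙ DCoh.Rpush f)
      (fun K => h K.obj K.property)) ⊣ a) (J : Type u) :
    PreservesColimitsOfShape (Discrete J) a :=
  main1770_aux X Y f (fun E hE => isPerfect_Rpush_of_flat_proper f E hE) h a adj J

end Groth.Agent.Lib.BrownQCL
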