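import Mathlib
import Groth.Agent.Lib.BrownGrothB_helper3
import Groth.Agent.Lib.BifCone_helper2

/-!
# Brown representability for an arbitrary model of `D(A)`, `A` Grothendieck abelian (helper3)

helper7's `BrownGrothB.representable` is stated for a model of the derived category whose morphism
types live in the universe of the morphisms of `A`.  Here we transfer the resulting adjoint functor
theorem to any other model (in particular the standard one), and we weaken the hypothesis
"triangulated functor" to "sends distinguished triangles to distinguished triangles up to the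
choice of the third morphism" (`WeakTri`), which does not involve a `CommShift` structure.

* `WeakTri`, `WeakTri.comp`, `WeakTri.of_iso`, `WeakTri.isHomological`;
* `additive_of_action`, `additive_of_chain`, `weakTri_of_chain`: a functor `G : D(A) ⥤ D(B)` induced
  by a functor `Φ` on complexes which acts on cochains (`BifCone.CochainAction`);
* `cmp`: comparison of two models of `D(A)`;
* `isLeftAdjoint_of_weakTri`: the adjoint functor theorem.
-/

set_option autoImplicit false
set_option linter.all false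
set_option maxHeartbeats 1600000
set_option backward.isDefEq.respectTransparency false
set_option backward.isDefEq.respectTransparency.types false
set_option backward.defeqAttrib.useBackward true

universe w₁ w₂ v v' u u'
open CategoryTheory Limits Pretriangulated Opposite
open CategoryTheory.Pretriangulated.Opposite

namespace Groth.Agent.Lib.BrownTrH3

section WeakTriS

variable {C : Type*} [Category C] [Preadditive C] [HasZeroObject C] [HasShift C ℤ]
  [∀ n : ℤ, (shiftFunctor C n).Additive] [Pretriangulated C]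
  {D : Type*} [Category D] [Preadditive D] [HasZeroObject D] [HasShift D ℤ]
  [∀ n : ℤ, (shiftFunctor D n).Additive] [Pretriangulated D]
  {E : Type*} [Category E] [Preadditive E] [HasZeroObject E] [HasShift E ℤ]
  [∀ n : ℤ, (shiftFunctor E n).Additive] [Pretriangulated E]

/-- `G` sends distinguished triangles to distinguished triangles, up to the choice of the third
morphism -/
def WeakTri (G : C ⥤ D) : Prop :=
  ∀ T : Triangle C, T ∈ distTriang C → ∃ δ : G.obj T.obj₃ ⟶ (G.obj T.obj₁)⟦(1 : ℤ)⟧,
    Triangle.mk (G.map T.mor₁) (G.map T.mor₂) δ ∈ distTriang D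

theorem WeakTri.comp {G : C ⥤ D} {G' : D ⥤ E} (h : WeakTri G) (h' : WeakTri G') :
    WeakTri (G ⋙ G') := by
  intro T hT
  obtain ⟨δ, hδ⟩ := h T hT
  obtain ⟨δ', hδ'⟩ := h' _ hδ
  exact ⟨δ', hδ'⟩

theorem WeakTri.of_iso {G G' : C ⥤ D} (e : G ≅ G') (h : WeakTri G) : WeakTri G' := by
  intro T hT
  obtain ⟨δ, hδ⟩ := h T hT
  refine ⟨e.inv.app _ ≫ δ ≫ (e.hom.app _)⟦(1 : ℤ)⟧', isomorphic_distinguished _ hδ _
    (Triangle.isoMk _ _ (e.symm.app _) (e.symm.app _) (e.symm.app _) ?_ ?_ ?_)⟩
  · exact e.inv.naturality T.mor₁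
  · exact e.inv.naturality T.mor₂
  · show (e.inv.app _ ≫ δ ≫ (e.hom.app _)⟦(1 : ℤ)⟧') ≫ (e.inv.app _)⟦(1 : ℤ)⟧' =
      e.inv.app _ ≫ δ
    rw [Category.assoc, Category.assoc, ← CategoryTheory.Functor.map_comp, Iso.hom_inv_id_app,
      CategoryTheory.Functor.map_id, Category.comp_id]

theorem WeakTri.isHomological {F : C ⥤ D} [F.Additive] (hF : WeakTri F) (Y' : D) :
    (F.op ⋙ preadditiveYoneda.obj Y').IsHomological where
  exact T hT := by
    rw [ShortComplex.ab_exact_iff]
    intro x hx
    have hT' := (mem_distTriang_op_iff T).1 hT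
    obtain ⟨δ, hδ⟩ := hF _ hT'
    obtain ⟨y, hy⟩ := Triangle.yoneda_exact₂ _ hδ x hx
    exact ⟨y, hy.symm⟩

end WeakTriS

section Model

variable {A : Type u} [Category.{v} A] [Abelian A]
  {D : Type*} [Category D] [Preadditive D] [HasZeroObject D] [HasShift D ℤ]
  [∀ n : ℤ, (shiftFunctor D n).Additive] [Pretriangulated D]

/-- `Q : C(A) ⥤ D` behaves like the localization functor to a derived category as far as
distinguished triangles (without their third morphism) are concerned -/
structure IsModel (Q : CochainComplex A ℤ ⥤ D) : Prop where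
  cone : ∀ {K L : CochainComplex A ℤ} (φ : K ⟶ L),
    ∃ δ : Q.obj (CochainComplex.mappingCone φ) ⟶ (Q.obj K)⟦(1 : ℤ)⟧,
      Triangle.mk (Q.map φ) (Q.map (CochainComplex.mappingCone.inr φ)) δ ∈ distTriang D
  rep : ∀ T : Triangle D, T ∈ distTriang D → ∃ (K L : CochainComplex A ℤ) (φ : K ⟶ L)
    (e₁ : T.obj₁ ≅ Q.obj K) (e₂ : T.obj₂ ≅ Q.obj L)
    (e₃ : T.obj₃ ≅ Q.obj (CochainComplex.mappingCone φ)),
    T.mor₁ ≫ e₂.hom = e₁.hom ≫ Q.map φ ∧
      T.mor₂ ≫ e₃.hom = e₂.hom ≫ Q.map (CochainComplex.mappingCone.inr φ)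

theorem isModel_Q (A : Type u) [Category.{v} A] [Abelian A] [HasDerivedCategory.{w₁} A] :
    IsModel (DerivedCategory.Q (C := A)) where
  cone φ := ⟨_, DerivedCategory.mappingCone_triangle_distinguished φ⟩
  rep T hT := by
    rw [DerivedCategory.mem_distTriang_iff] at hT
    obtain ⟨K, L, φ, ⟨e⟩⟩ := hT
    exact ⟨K, L, φ, Triangle.π₁.mapIso e, Triangle.π₂.mapIso e, Triangle.π₃.mapIso e,
      e.hom.comm₁, e.hom.comm₂⟩

end Model

section Chain

variable {A : Type u} [Category.{v} A] [Abelian A]
  {B : Type u'} [Category.{v'} B] [Abelian B]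
  {D₁ : Type*} [Category D₁] [Preadditive D₁] [HasZeroObject D₁] [HasShift D₁ ℤ]
  [∀ n : ℤ, (shiftFunctor D₁ n).Additive] [Pretriangulated D₁]
  {D₂ : Type*} [Category D₂] [Preadditive D₂] [HasZeroObject D₂] [HasShift D₂ ℤ]
  [∀ n : ℤ, (shiftFunctor D₂ n).Additive] [Pretriangulated D₂]
  (Q₁ : CochainComplex A ℤ ⥤ D₁) (Q₂ : CochainComplex B ℤ ⥤ D₂)
  (Φ : CochainComplex A ℤ ⥤ CochainComplex B ℤ) (T : BifCone.CochainAction Φ)
  (G : D₁ ⥤ D₂) (γ : Q₁ ⋙ G ≅ Φ ⋙ Q₂)

include T in
/-- a functor on complexes acting on cochains is additive -/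
theorem additive_of_action : Φ.Additive := by
  constructor
  intro K L f g
  apply CochainComplex.HomComplex.Cochain.ofHom_injective
  rw [← T.map_ofHom, CochainComplex.HomComplex.Cochain.ofHom_add, T.map_add, T.map_ofHom,
    T.map_ofHom, CochainComplex.HomComplex.Cochain.ofHom_add]

include T γ in
theorem weakTri_of_chain (h₁ : IsModel Q₁) (h₂ : IsModel Q₂) : WeakTri G := by
  intro Tr hTr
  obtain ⟨K, L, φ, e₁, e₂, e₃, c₁, c₂⟩ := h₁.rep Tr hTr
  obtain ⟨δ₀, hT₁⟩ := h₂.cone (Φ.map φ)
  let a₁ : G.obj Tr.obj₁ ≅ Q₂.obj (Φ.obj K) := G.mapIso e₁ ≪≫ γ.app K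
  let a₂ : G.obj Tr.obj₂ ≅ Q₂.obj (Φ.obj L) := G.mapIso e₂ ≪≫ γ.app L
  let a₃ : G.obj Tr.obj₃ ≅ Q₂.obj (CochainComplex.mappingCone (Φ.map φ)) :=
    G.mapIso e₃ ≪≫ γ.app _ ≪≫ Q₂.mapIso (T.coneIso φ)
  refine ⟨a₃.hom ≫ δ₀ ≫ a₁.inv⟦(1 : ℤ)⟧', isomorphic_distinguished _ hT₁ _
    (Triangle.isoMk _ _ a₁ a₂ a₃ ?_ ?_ ?_)⟩
  · show G.map Tr.mor₁ ≫ (G.map e₂.hom ≫ γ.hom.app L) =
      (G.map e₁.hom ≫ γ.hom.app K) ≫ Q₂.map (Φ.map φ)
    have n1 : G.map (Q₁.map φ) ≫ γ.hom.app L = γ.hom.app K ≫ Q₂.map (Φ.map φ) :=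
      γ.hom.naturality φ
    rw [← Category.assoc, ← G.map_comp, c₁, G.map_comp, Category.assoc, n1, Category.assoc]
  · show G.map Tr.mor₂ ≫ (G.map e₃.hom ≫ γ.hom.app _ ≫ Q₂.map (T.coneIso φ).hom) =
      (G.map e₂.hom ≫ γ.hom.app L) ≫ Q₂.map (CochainComplex.mappingCone.inr (Φ.map φ))
    have n2 : G.map (Q₁.map (CochainComplex.mappingCone.inr φ)) ≫
        γ.hom.app (CochainComplex.mappingCone φ) =
        γ.hom.app L ≫ Q₂.map (Φ.map (CochainComplex.mappingCone.inr φ)) :=
      γ.hom.naturality (CochainComplex.mappingCone.inr φ)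
    have n3 : Φ.map (CochainComplex.mappingCone.inr φ) ≫ (T.coneIso φ).hom =
        CochainComplex.mappingCone.inr (Φ.map φ) := by
      rw [← T.inr_coneIso_inv φ, Category.assoc, Iso.inv_hom_id, Category.comp_id]
    rw [← Category.assoc, ← G.map_comp, c₂, G.map_comp, Category.assoc, ← Category.assoc
      (G.map (Q₁.map (CochainComplex.mappingCone.inr φ))), n2, Category.assoc,
      ← Q₂.map_comp, n3, Category.assoc]
  · show (a₃.hom ≫ δ₀ ≫ a₁.inv⟦(1 : ℤ)⟧') ≫ a₁.hom⟦(1 : ℤ)⟧' = a₃.hom ≫ δ₀
    rw [Category.assoc, Category.assoc, ← CategoryTheory.Functor.map_comp, Iso.inv_hom_id,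
      CategoryTheory.Functor.map_id, Category.comp_id]

end Chain

section Additive

variable {A : Type u} [Category.{v} A] [Abelian A] [HasDerivedCategory.{w₁} A]
  {B : Type u'} [Category.{v'} B] [Abelian B]
  {D₂ : Type*} [Category D₂] [Preadditive D₂]
  (Q₂ : CochainComplex B ℤ ⥤ D₂) [Q₂.Additive]
  (Φ : CochainComplex A ℤ ⥤ CochainComplex B ℤ) (T : BifCone.CochainAction Φ)
  (G : DerivedCategory A ⥤ D₂) (γ : DerivedCategory.Q ⋙ G ≅ Φ ⋙ Q₂)

include T γ in
theorem additive_of_chain : G.Additive := by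
  haveI : Φ.Additive := additive_of_action Φ T
  rw [Localization.functor_additive_iff DerivedCategory.Qh
    (HomotopyCategory.subcategoryAcyclic A).trW]
  haveI : (HomotopyCategory.quotient A (ComplexShape.up ℤ) ⋙
      (DerivedCategory.Qh ⋙ G)).Additive := by
    have e : HomotopyCategory.quotient A (ComplexShape.up ℤ) ⋙ (DerivedCategory.Qh ⋙ G) ≅
        Φ ⋙ Q₂ :=
      (Functor.associator _ _ _).symm ≪≫
        Functor.isoWhiskerRight (DerivedCategory.quotientCompQhIso A) G ≪≫ γ
    exact Functor.additive_of_iso e.symm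
  exact Functor.additive_of_full_essSurj_comp (HomotopyCategory.quotient A (ComplexShape.up ℤ)) _

end Additive

/-- the identity functor acts on cochains -/
def idAction (A : Type u) [Category.{v} A] [Preadditive A] :
    BifCone.CochainAction (𝟭 (CochainComplex A ℤ)) where
  map z := z
  map_add _ _ := rfl
  map_ofHom _ := rfl
  map_comp _ _ _ := rfl
  map_δ _ _ _ := rfl

section Small

variable {A : Type u} [Category.{v} A] [Abelian A] [IsGrothendieckAbelian.{v} A]
  [HasDerivedCategory.{v} A]
  {D : Type u'} [Category.{v} D] [Preadditive D] [HasZeroObject D] [HasShift D ℤ]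
  [∀ n : ℤ, (shiftFunctor D n).Additive] [Pretriangulated D]
  (F : DerivedCategory A ⥤ D) [F.Additive]

theorem isLeftAdjoint_small (hF : WeakTri F)
    (hc : ∀ ι : Type v, PreservesColimitsOfShape (Discrete ι) F) : F.IsLeftAdjoint := by
  apply Functor.isLeftAdjoint_of_rightAdjointObjIsDefined_eq_top
  ext Y'
  simp only [Pi.top_apply, Prop.top_eq_true, iff_true]
  rw [Functor.rightAdjointObjIsDefined_iff]
  haveI : ∀ κ : Type v, PreservesLimitsOfShape (Discrete κ) F.op := fun κ => by
    haveI : PreservesColimitsOfShape (Discrete κ)ᵒᵖ F :=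
      preservesColimitsOfShape_of_equiv (Discrete.opposite κ).symm F
    exact preservesLimitsOfShape_op (Discrete κ) F
  haveI := hF.isHomological Y'
  exact BrownGrothB.representable (F.op ⋙ preadditiveYoneda.obj Y')

end Small

section SmallModel

/-- a model of `D(A)` with small morphism types, for which the adjoint functor theorem holds -/
theorem exists_small_model (A : Type u) [Category.{v} A] [Abelian A]
    [IsGrothendieckAbelian.{v} A] :
    ∃ (D' : Type (max u v)) (_ : Category.{v} D') (_ : Preadditive D') (_ : HasZeroObject D')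
      (_ : HasShift D' ℤ) (_ : ∀ n : ℤ, (shiftFunctor D' n).Additive) (_ : Pretriangulated D')
      (Q' : CochainComplex A ℤ ⥤ D')
      (_ : Q'.IsLocalization (HomologicalComplex.quasiIso A (ComplexShape.up ℤ)))
      (_ : Q'.Additive), IsModel Q' ∧
      ∀ (D'' : Type u') [Category.{v} D''] [Preadditive D''] [HasZeroObject D''] [HasShift D'' ℤ]
        [∀ n : ℤ, (shiftFunctor D'' n).Additive] [Pretriangulated D''] (F : D' ⥤ D'')
        [F.Additive], WeakTri F → (∀ ι : Type v, PreservesColimitsOfShape (Discrete ι) F) →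
        F.IsLeftAdjoint := by
  letI : HasDerivedCategory.{v} A := DerSmall.hasDerivedCategorySmall A
  exact ⟨DerivedCategory A, inferInstance, inferInstance, inferInstance, inferInstance,
    inferInstance, inferInstance, DerivedCategory.Q, inferInstance, inferInstance, isModel_Q A,
    fun D'' _ _ _ _ _ _ F _ hF hc => isLeftAdjoint_small F hF hc⟩

end SmallModel

section Main

variable {A : Type u} [Category.{v} A] [Abelian A] [IsGrothendieckAbelian.{v} A]
  {B : Type u'} [Category.{v} B] [Abelian B] [IsGrothendieckAbelian.{v} B]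
  [HasDerivedCategory.{w₁} A] [HasDerivedCategory.{w₂} B]
  (F : DerivedCategory A ⥤ DerivedCategory B)

/-- **adjoint functor theorem**: an additive functor `D(A) ⥤ D(B)` which sends distinguished
triangles to distinguished triangles (up to the third morphism) and preserves small coproducts
is a left adjoint. -/
theorem isLeftAdjoint_of_weakTri [F.Additive] (hF : WeakTri F)
    (hc : ∀ ι : Type v, PreservesColimitsOfShape (Discrete ι) F) : F.IsLeftAdjoint := by
  obtain ⟨DA, cA, pA, zA, sA, aA, tA, QA, lA, addA, mA, brown⟩ :=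
    exists_small_model.{v, u, max u' v} A
  obtain ⟨DB, cB, pB, zB, sB, aB, tB, QB, lB, addB, mB, -⟩ :=
    exists_small_model.{v, u', 0} B
  let EA : DerivedCategory A ≌ DA := Localization.uniq DerivedCategory.Q QA
    (HomologicalComplex.quasiIso A (ComplexShape.up ℤ))
  let EB : DerivedCategory B ≌ DB := Localization.uniq DerivedCategory.Q QB
    (HomologicalComplex.quasiIso B (ComplexShape.up ℤ))
  have hEA : WeakTri EA.inverse :=
    weakTri_of_chain QA DerivedCategory.Q (𝟭 _) (idAction A) _
      (Localization.compUniqInverse DerivedCategory.Q QA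
        (HomologicalComplex.quasiIso A (ComplexShape.up ℤ)) ≪≫ (Functor.leftUnitor _).symm)
      mA (isModel_Q A)
  have hEB : WeakTri EB.functor :=
    weakTri_of_chain DerivedCategory.Q QB (𝟭 _) (idAction B) _
      (Localization.compUniqFunctor DerivedCategory.Q QB
        (HomologicalComplex.quasiIso B (ComplexShape.up ℤ)) ≪≫ (Functor.leftUnitor _).symm)
      (isModel_Q B) mB
  haveI : EA.functor.Additive :=
    additive_of_chain QA (𝟭 _) (idAction A) _
      (Localization.compUniqFunctor DerivedCategory.Q QA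
        (HomologicalComplex.quasiIso A (ComplexShape.up ℤ)) ≪≫ (Functor.leftUnitor _).symm)
  haveI : EA.inverse.Additive := inferInstance
  haveI : EB.functor.Additive :=
    additive_of_chain QB (𝟭 _) (idAction B) _
      (Localization.compUniqFunctor DerivedCategory.Q QB
        (HomologicalComplex.quasiIso B (ComplexShape.up ℤ)) ≪≫ (Functor.leftUnitor _).symm)
  have hF' : WeakTri (EA.inverse ⋙ (F ⋙ EB.functor)) := hEA.comp (hF.comp hEB)
  have hc' : ∀ ι : Type v, PreservesColimitsOfShape (Discrete ι)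
      (EA.inverse ⋙ (F ⋙ EB.functor)) := fun ι => by
    haveI := hc ι
    infer_instance
  haveI h1 : (EA.inverse ⋙ (F ⋙ EB.functor)).IsLeftAdjoint := brown DB _ hF' hc'
  haveI h2 : (F ⋙ EB.functor).IsLeftAdjoint :=
    (Functor.isLeftAdjoint_comp_iff_right EA.inverse (F ⋙ EB.functor)).1 h1
  exact (Functor.isLeftAdjoint_comp_iff_left F EB.functor).1 h2

end Main

end Groth.Agent.Lib.BrownTrH3
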