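import Mathlib
import Groth.Prelude.Def_CAlg
import Groth.Prelude.Def_CAlgX
import Groth.Agent.Lib.Acyclicity_helper3
import Groth.Agent.Lib.MinorSummand_helper3

/-!
# Buchsbaum–Eisenbud exactness criterion, sufficiency (helper3)

A complex of finite free modules `0 → R^{n_e} → ⋯ → R^{n_0}` over a Noetherian ring whose maps have
the expected ranks `ρ i` and whose ideals of `ρ i`-minors have depth `≥ i + 1` is exact.
-/

set_option autoImplicit false

namespace Groth.Agent.Lib.BuchsEisH3

open Matrix Groth.Agent.DepthLib IsLocalRing Groth.Agent.Lib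

universe u

section general

variable {R : Type u} [CommRing R]

theorem minorIdeal_map {S : Type u} [CommRing S] (f : R →+* S) {a b : ℕ}
    (M : Matrix (Fin a) (Fin b) R) (k : ℕ) :
    CAlgX.minorIdeal (M.map f) k = (CAlgX.minorIdeal M k).map f := by
  unfold CAlgX.minorIdeal
  rw [Ideal.map_span]
  congr 1
  ext x
  simp only [Set.mem_range, Set.mem_image]
  constructor
  · rintro ⟨fg, rfl⟩
    refine ⟨_, ⟨fg, rfl⟩, ?_⟩
    rw [RingHom.map_det]
    rfl
  · rintro ⟨_, ⟨fg, rfl⟩, rfl⟩
    refine ⟨fg, ?_⟩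
    rw [RingHom.map_det]
    rfl

theorem minorIdeal_zero_size {a b : ℕ} (M : Matrix (Fin a) (Fin b) R) :
    CAlgX.minorIdeal M 0 = ⊤ := by
  rw [Ideal.eq_top_iff_one]
  refine Ideal.subset_span ⟨(Fin.elim0, Fin.elim0), ?_⟩
  exact Matrix.det_isEmpty

theorem minorIdeal_zero_matrix {a b : ℕ} (k : ℕ) :
    CAlgX.minorIdeal (0 : Matrix (Fin a) (Fin b) R) (k + 1) = ⊥ := by
  unfold CAlgX.minorIdeal
  rw [Ideal.span_eq_bot]
  rintro _ ⟨fg, rfl⟩
  have : (0 : Matrix (Fin a) (Fin b) R).submatrix fg.1 fg.2 = 0 := by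
    ext i j
    rfl
  show ((0 : Matrix (Fin a) (Fin b) R).submatrix fg.1 fg.2).det = 0
  rw [this, Matrix.det_zero]

theorem le_idealDepth_map {S : Type u} [CommRing S] [Algebra R S] [Module.Flat R S] (I : Ideal R)
    (j : ℕ) (h : (j : ℕ∞) ≤ LocCoh.idealDepth I R) :
    (j : ℕ∞) ≤ LocCoh.idealDepth (I.map (algebraMap R S)) S := by
  rw [le_idealDepth_iff] at h ⊢
  rcases h with h | ⟨rs, hreg, hmem, hlen⟩
  · left
    have hI : I = ⊤ := by
      rw [Ideal.smul_eq_mul, Ideal.mul_top] at h
      exact h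
    rw [hI, Ideal.map_top, Ideal.smul_eq_mul, Ideal.mul_top]
  · right
    refine ⟨rs.map (algebraMap R S), hreg.of_flat, ?_, by simp [hlen]⟩
    intro r hr
    obtain ⟨r', hr', rfl⟩ := List.mem_map.mp hr
    exact Ideal.mem_map_of_mem _ (hmem r' hr')

/-- Exactness of localized matrices gives local exactness (no hypotheses on the ring). -/
theorem punctured_of_matrix' {a b c : ℕ} (M : Matrix (Fin a) (Fin b) R)
    (N : Matrix (Fin b) (Fin c) R) (p : Ideal R) [p.IsPrime]
    (h : LinearMap.ker (M.map (algebraMap R (Localization.AtPrime p))).mulVecLin ≤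
      LinearMap.range (N.map (algebraMap R (Localization.AtPrime p))).mulVecLin)
    (v : Fin b → R) (hv : v ∈ LinearMap.ker M.mulVecLin) :
    ∃ u ∉ p, u • v ∈ LinearMap.range N.mulVecLin := by
  classical
  set f := algebraMap R (Localization.AtPrime p) with hf
  have hv0 : M.mulVec v = 0 := hv
  have hv' : (f ∘ v) ∈ LinearMap.ker (M.map f).mulVecLin := by
    rw [LinearMap.mem_ker, Matrix.mulVecLin_apply]
    funext i
    rw [← RingHom.map_mulVec, hv0]
    simp
  obtain ⟨w, hw⟩ := h hv'
  rw [Matrix.mulVecLin_apply] at hw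
  obtain ⟨s, hs⟩ := IsLocalization.exist_integer_multiples_of_finite p.primeCompl w
  choose w₀ hw₀ using hs
  have key : ∀ j, f ((N.mulVec w₀ - (s : R) • v) j) = 0 := by
    intro j
    rw [Pi.sub_apply, map_sub, RingHom.map_mulVec]
    have h1 : (f ∘ w₀) = (s : R) • w := by
      funext i
      exact hw₀ i
    rw [h1, Matrix.mulVec_smul, hw]
    simp only [Pi.smul_apply, Function.comp_apply, smul_eq_mul, map_mul]
    rw [Algebra.smul_def, sub_self]
  have key2 : ∀ j, ∃ t : p.primeCompl, (t : R) * ((N.mulVec w₀ - (s : R) • v) j) = 0 := by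
    intro j
    exact (IsLocalization.map_eq_zero_iff p.primeCompl (Localization.AtPrime p) _).mp (key j)
  choose t ht using key2
  have hT : ∀ j, (∏ j', (t j' : R)) * ((N.mulVec w₀ - (s : R) • v) j) = 0 := by
    intro j
    rw [← Finset.mul_prod_erase Finset.univ (fun j' => (t j' : R)) (Finset.mem_univ j)]
    rw [mul_comm (t j : R), mul_assoc, ht j, mul_zero]
  refine ⟨(∏ j', (t j' : R)) * (s : R), ?_, ?_⟩
  · have h1 : (∏ j', (t j' : R)) ∈ p.primeCompl :=
      Submonoid.prod_mem _ (fun j' _ => (t j').2)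
    exact p.primeCompl.mul_mem h1 s.2
  · refine ⟨(∏ j', (t j' : R)) • w₀, ?_⟩
    rw [Matrix.mulVecLin_apply, Matrix.mulVec_smul]
    funext j
    have := hT j
    simp only [Pi.sub_apply, Pi.smul_apply, smul_eq_mul, mul_sub] at this ⊢
    rw [sub_eq_zero] at this
    rw [this, mul_assoc]

/-- Local-to-global for exactness of matrices. -/
theorem ker_le_range_of_local {a b c : ℕ} (M : Matrix (Fin a) (Fin b) R)
    (N : Matrix (Fin b) (Fin c) R)
    (h : ∀ (p : Ideal R) [p.IsMaximal],
      LinearMap.ker (M.map (algebraMap R (Localization.AtPrime p))).mulVecLin ≤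
        LinearMap.range (N.map (algebraMap R (Localization.AtPrime p))).mulVecLin) :
    LinearMap.ker M.mulVecLin ≤ LinearMap.range N.mulVecLin := by
  intro v hv
  let J : Ideal R := (LinearMap.range N.mulVecLin).comap (LinearMap.toSpanSingleton R (Fin b → R) v)
  have hJ : ∀ u, u ∈ J ↔ u • v ∈ LinearMap.range N.mulVecLin := fun u => by
    show u ∈ Submodule.comap (LinearMap.toSpanSingleton R (Fin b → R) v)
      (LinearMap.range N.mulVecLin) ↔ _
    rw [Submodule.mem_comap, LinearMap.toSpanSingleton_apply]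
  by_cases hJt : J = ⊤
  · have : (1 : R) ∈ J := by rw [hJt]; trivial
    rw [hJ, one_smul] at this
    exact this
  · exfalso
    obtain ⟨p, hp, hJp⟩ := Ideal.exists_le_maximal J hJt
    haveI := hp
    obtain ⟨u, hup, hu⟩ := punctured_of_matrix' M N p (h p) v hv
    exact hup (hJp ((hJ u).mpr hu))

end general

section localring

variable {R : Type u} [CommRing R] [IsLocalRing R] [IsNoetherianRing R]

/-- The acyclicity lemma with a general start. -/
theorem acyclic' (d : ℕ) (n : ℕ → ℕ) (A : (i : ℕ) → Matrix (Fin (n i)) (Fin (n (i + 1))) R)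
    (hA : ∀ i, i < d → A i * A (i + 1) = 0)
    (hstart : (d : ℕ∞) ≤ LocCoh.idealDepth (maximalIdeal R)
      ((Fin (n d) → R) ⧸ LinearMap.range (A d).mulVecLin))
    (hdepth : (d : ℕ∞) ≤ LocCoh.idealDepth (maximalIdeal R) R)
    (hloc : ∀ (p : Ideal R) [p.IsPrime], p ≠ maximalIdeal R → ∀ i, i < d →
      LinearMap.ker ((A i).map (algebraMap R (Localization.AtPrime p))).mulVecLin ≤
        LinearMap.range ((A (i + 1)).map (algebraMap R (Localization.AtPrime p))).mulVecLin) :
    ∀ i, i < d → LinearMap.ker (A i).mulVecLin = LinearMap.range (A (i + 1)).mulVecLin := by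
  have hF : ∀ k, (d : ℕ∞) ≤ LocCoh.idealDepth (maximalIdeal R) (Fin k → R) :=
    le_idealDepth_pi (maximalIdeal R) R d hdepth
  have hstep : ∀ k, k < d →
      ((k + 1 : ℕ) : ℕ∞) ≤ LocCoh.idealDepth (maximalIdeal R)
        ((Fin (n (k + 1)) → R) ⧸ LinearMap.range (A (k + 1)).mulVecLin) →
      LinearMap.ker (A k).mulVecLin = LinearMap.range (A (k + 1)).mulVecLin ∧
        (k : ℕ∞) ≤ LocCoh.idealDepth (maximalIdeal R)
          ((Fin (n k) → R) ⧸ LinearMap.range (A k).mulVecLin) := by
    intro k hk hD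
    refine AcyclicityH3.step (LinearMap.range (A (k + 1)).mulVecLin) (A k).mulVecLin ?_ k hD ?_ ?_
    · rintro _ ⟨w, rfl⟩
      rw [LinearMap.mem_ker, Matrix.mulVecLin_apply, Matrix.mulVecLin_apply, Matrix.mulVec_mulVec,
        hA k hk, Matrix.zero_mulVec]
    · refine le_trans ?_ (hF (n k))
      exact_mod_cast hk.le
    · intro v hv p _ hp
      exact AcyclicityH3.punctured_of_matrix (A k) (A (k + 1)) p (hloc p hp k hk) v hv
  have D : ∀ j k, k + j = d → (k : ℕ∞) ≤ LocCoh.idealDepth (maximalIdeal R)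
      ((Fin (n k) → R) ⧸ LinearMap.range (A k).mulVecLin) := by
    intro j
    induction j with
    | zero =>
      intro k hk
      have hk' : k = d := by omega
      subst hk'
      exact hstart
    | succ j ih =>
      intro k hk
      exact (hstep k (by omega) (ih (k + 1) (by omega))).2
  intro i hi
  exact (hstep i hi (D (d - (i + 1)) (i + 1) (by omega))).1

/-- A matrix with unit ideal of `ρ`-minors and vanishing `(ρ+1)`-minors over a local ring: its image
is a free direct summand of rank `ρ` with a free complement. -/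
theorem split_data {a b : ℕ} (M : Matrix (Fin a) (Fin b) R) (ρ : ℕ)
    (h0 : CAlgX.minorIdeal M (ρ + 1) = ⊥) (h1 : CAlgX.minorIdeal M ρ = ⊤) :
    ∃ N' : Submodule R (Fin a → R), IsCompl (LinearMap.range M.mulVecLin) N' ∧
      Module.Free R (LinearMap.range M.mulVecLin) ∧ Module.Free R N' ∧
      Module.finrank R (LinearMap.range M.mulVecLin) = ρ ∧
      ρ + Module.finrank R N' = a := by
  obtain ⟨N', hc, hr⟩ := (MinorSummandH3.main a b ρ M).mpr ⟨h0, h1⟩
  set P := LinearMap.range M.mulVecLin with hP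
  haveI : Module.Projective R P :=
    Module.Projective.of_split P.subtype (Submodule.linearProjOfIsCompl P N' hc)
      (LinearMap.ext fun x => by
        rw [LinearMap.comp_apply, Submodule.subtype_apply, LinearMap.id_apply]
        exact Submodule.linearProjOfIsCompl_apply_left hc x)
  haveI : Module.Projective R N' :=
    Module.Projective.of_split N'.subtype (Submodule.linearProjOfIsCompl N' P hc.symm)
      (LinearMap.ext fun x => by
        rw [LinearMap.comp_apply, Submodule.subtype_apply, LinearMap.id_apply]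
        exact Submodule.linearProjOfIsCompl_apply_left hc.symm x)
  haveI : Module.Free R P := Module.free_of_flat_of_isLocalRing
  haveI : Module.Free R N' := Module.free_of_flat_of_isLocalRing
  refine ⟨N', hc, inferInstance, inferInstance, hr, ?_⟩
  have h2 := (Submodule.prodEquivOfIsCompl P N' hc).finrank_eq
  rw [Module.finrank_prod, Module.finrank_fin_fun, hr] at h2
  exact h2

theorem exact_of_split {a b c : ℕ} (M : Matrix (Fin a) (Fin b) R) (N : Matrix (Fin b) (Fin c) R)
    (hMN : M * N = 0) (ρ σ : ℕ) (hρσ : ρ + σ = b)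
    (hM0 : CAlgX.minorIdeal M (ρ + 1) = ⊥) (hM1 : CAlgX.minorIdeal M ρ = ⊤)
    (hN0 : CAlgX.minorIdeal N (σ + 1) = ⊥) (hN1 : CAlgX.minorIdeal N σ = ⊤) :
    LinearMap.ker M.mulVecLin = LinearMap.range N.mulVecLin := by
  obtain ⟨N', hc, _, hN'free, hrN, hsum⟩ := split_data N σ hN0 hN1
  obtain ⟨M', _, hQfree, _, hrM, _⟩ := split_data M ρ hM0 hM1
  have hN'rank : Module.finrank R N' = ρ := by omega
  have hle : LinearMap.range N.mulVecLin ≤ LinearMap.ker M.mulVecLin := by
    rintro _ ⟨w, rfl⟩
    rw [LinearMap.mem_ker, Matrix.mulVecLin_apply, Matrix.mulVecLin_apply, Matrix.mulVec_mulVec,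
      hMN, Matrix.zero_mulVec]
  -- the restriction of `M` to the complement
  let g : N' →ₗ[R] LinearMap.range M.mulVecLin := M.mulVecLin.rangeRestrict.comp N'.subtype
  have hg : ∀ x : N', ((g x : LinearMap.range M.mulVecLin) : Fin a → R) = M.mulVecLin x :=
    fun x => rfl
  have hgsurj : Function.Surjective g := by
    rintro ⟨_, ⟨v, rfl⟩⟩
    have hv : v ∈ LinearMap.range N.mulVecLin ⊔ N' := by
      rw [hc.sup_eq_top]; trivial
    obtain ⟨p, hp, q, hq, rfl⟩ := Submodule.mem_sup.mp hv
    refine ⟨⟨q, hq⟩, ?_⟩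
    apply Subtype.ext
    rw [hg]
    show M.mulVecLin q = M.mulVecLin (p + q)
    rw [map_add, LinearMap.mem_ker.mp (hle hp), zero_add]
  obtain ⟨eq⟩ : Nonempty (LinearMap.range M.mulVecLin ≃ₗ[R] N') :=
    FiniteDimensional.nonempty_linearEquiv_of_finrank_eq (by rw [hrM, hN'rank])
  have hinj : Function.Injective (eq.toLinearMap.comp g) :=
    IsNoetherian.injective_of_surjective_endomorphism _
      (eq.surjective.comp hgsurj)
  have hginj : Function.Injective g := by
    intro x y hxy
    apply hinj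
    simp [hxy]
  refine le_antisymm ?_ hle
  intro v hv
  have hv' : v ∈ LinearMap.range N.mulVecLin ⊔ N' := by
    rw [hc.sup_eq_top]; trivial
  obtain ⟨p, hp, q, hq, rfl⟩ := Submodule.mem_sup.mp hv'
  have hq0 : g ⟨q, hq⟩ = 0 := by
    apply Subtype.ext
    rw [hg]
    show M.mulVecLin q = 0
    have h1 : M.mulVecLin (p + q) = 0 := hv
    rw [map_add, LinearMap.mem_ker.mp (hle hp), zero_add] at h1
    exact h1
  have hq1 : (⟨q, hq⟩ : N') = 0 := hginj (by rw [hq0, map_zero])
  have hq2 : q = 0 := congrArg Subtype.val hq1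
  rw [hq2, add_zero]
  exact hp

theorem depth_of_split {a b : ℕ} (M : Matrix (Fin a) (Fin b) R) (ρ : ℕ)
    (h0 : CAlgX.minorIdeal M (ρ + 1) = ⊥) (h1 : CAlgX.minorIdeal M ρ = ⊤) (k : ℕ)
    (hk : (k : ℕ∞) ≤ LocCoh.idealDepth (maximalIdeal R) R) :
    (k : ℕ∞) ≤ LocCoh.idealDepth (maximalIdeal R)
      ((Fin a → R) ⧸ LinearMap.range M.mulVecLin) := by
  obtain ⟨N', hc, _, hN'free, _, _⟩ := split_data M ρ h0 h1
  have e1 : ((Fin a → R) ⧸ LinearMap.range M.mulVecLin) ≃ₗ[R] N' :=
    Submodule.quotientEquivOfIsCompl _ N' hc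
  have e2 : N' ≃ₗ[R] (Fin (Module.finrank R N') → R) := (Module.finBasis R N').equivFun
  rw [idealDepth_congr _ _ (e1.trans e2)]
  exact le_idealDepth_pi (maximalIdeal R) R k hk _

/-- The local step: exactness on the punctured spectrum implies exactness. -/
theorem local_core (e : ℕ) (n : ℕ → ℕ) (A : (i : ℕ) → Matrix (Fin (n i)) (Fin (n (i + 1))) R)
    (ρ : ℕ → ℕ)
    (hA : ∀ i, i < e → A i * A (i + 1) = 0) (hAe : A e = 0)
    (hρ : ∀ i, i < e → ρ i + ρ (i + 1) = n (i + 1)) (hρe : ρ e = 0)
    (hI1 : ∀ i, i < e → CAlgX.minorIdeal (A i) (ρ i + 1) = ⊥)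
    (hI2 : ∀ i, i < e →
      ((i + 1 : ℕ) : ℕ∞) ≤ LocCoh.idealDepth (CAlgX.minorIdeal (A i) (ρ i)) R)
    (hloc : ∀ (p : Ideal R) [p.IsPrime], p ≠ maximalIdeal R → ∀ i, i < e →
      LinearMap.ker ((A i).map (algebraMap R (Localization.AtPrime p))).mulVecLin ≤
        LinearMap.range ((A (i + 1)).map (algebraMap R (Localization.AtPrime p))).mulVecLin) :
    ∀ i, i < e → LinearMap.ker (A i).mulVecLin = LinearMap.range (A (i + 1)).mulVecLin := by
  by_cases hD : (e : ℕ∞) ≤ LocCoh.idealDepth (maximalIdeal R) R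
  · exact AcyclicityH3.acyclic e n A hA (fun j hj => by subst hj; exact hAe) hD hloc
  · have hne : LocCoh.idealDepth (maximalIdeal R) R ≠ ⊤ := fun h => hD (h ▸ le_top)
    obtain ⟨d, hd⟩ := ENat.ne_top_iff_exists.mp hne
    have hde : d < e := by
      rw [← hd] at hD
      exact_mod_cast not_le.mp hD
    have hsplit0 : ∀ i, i ≤ e → CAlgX.minorIdeal (A i) (ρ i + 1) = ⊥ := by
      intro i hi
      rcases Nat.lt_or_ge i e with h | h
      · exact hI1 i h
      · have : i = e := le_antisymm hi h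
        subst this
        rw [hAe]
        exact minorIdeal_zero_matrix _
    have hsplit1 : ∀ i, d ≤ i → i ≤ e → CAlgX.minorIdeal (A i) (ρ i) = ⊤ := by
      intro i hdi hi
      rcases Nat.lt_or_ge i e with h | h
      · by_contra hne'
        rcases (le_idealDepth_iff _ _ _).mp (hI2 i h) with h3 | ⟨rs, hreg, hmem, hlen⟩
        · rw [Ideal.smul_eq_mul, Ideal.mul_top] at h3
          exact hne' h3
        · have hle : CAlgX.minorIdeal (A i) (ρ i) ≤ maximalIdeal R := le_maximalIdeal hne'
          have h4 : ((i + 1 : ℕ) : ℕ∞) ≤ LocCoh.idealDepth (maximalIdeal R) R :=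
            (le_idealDepth_iff _ _ _).mpr (Or.inr ⟨rs, hreg, fun r hr => hle (hmem r hr), hlen⟩)
          rw [← hd] at h4
          have : i + 1 ≤ d := by exact_mod_cast h4
          omega
      · have : i = e := le_antisymm hi h
        subst this
        rw [hρe]
        exact minorIdeal_zero_size _
    have hlow := acyclic' d n A (fun i hi => hA i (by omega))
      (depth_of_split (A d) (ρ d) (hsplit0 d hde.le) (hsplit1 d le_rfl hde.le) d (by rw [← hd]))
      (by rw [← hd]) (fun p _ hp i hi => hloc p hp i (by omega))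
    intro i hi
    rcases Nat.lt_or_ge i d with h | h
    · exact hlow i h
    · exact exact_of_split (A i) (A (i + 1)) (hA i hi) (ρ i) (ρ (i + 1)) (hρ i hi)
        (hsplit0 i hi.le) (hsplit1 i h hi.le) (hsplit0 (i + 1) hi) (hsplit1 (i + 1) (by omega) hi)

end localring

/-- Buchsbaum–Eisenbud sufficiency over Noetherian local rings, by induction on the dimension. -/
theorem local_all : ∀ (D : ℕ) (R : Type u) [CommRing R] [IsLocalRing R] [IsNoetherianRing R],
    (maximalIdeal R).height ≤ (D : ℕ∞) →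
    ∀ (e : ℕ) (n : ℕ → ℕ) (A : (i : ℕ) → Matrix (Fin (n i)) (Fin (n (i + 1))) R) (ρ : ℕ → ℕ),
    (∀ i, i < e → A i * A (i + 1) = 0) → A e = 0 →
    (∀ i, i < e → ρ i + ρ (i + 1) = n (i + 1)) → ρ e = 0 →
    (∀ i, i < e → CAlgX.minorIdeal (A i) (ρ i + 1) = ⊥) →
    (∀ i, i < e →
      ((i + 1 : ℕ) : ℕ∞) ≤ LocCoh.idealDepth (CAlgX.minorIdeal (A i) (ρ i)) R) →
    ∀ i, i < e → LinearMap.ker (A i).mulVecLin = LinearMap.range (A (i + 1)).mulVecLin := by
  intro D
  induction D using Nat.strong_induction_on with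
  | _ D ih =>
    intro R _ _ _ hdim e n A ρ hA hAe hρ hρe hI1 hI2
    refine local_core e n A ρ hA hAe hρ hρe hI1 hI2 ?_
    intro p _ hp i hi
    have hlt : p < maximalIdeal R := lt_of_le_of_ne (le_maximalIdeal (Ideal.IsPrime.ne_top ‹_›)) hp
    have h1 : p.height < (maximalIdeal R).height := Ideal.height_strict_mono_of_isPrime hlt
    obtain ⟨h, hh⟩ := ENat.ne_top_iff_exists.mp (Ideal.height_ne_top_of_isPrime (I := p))
    have hhD : h < D := by
      have := lt_of_lt_of_le h1 hdim
      rw [← hh] at this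
      exact_mod_cast this
    set f := algebraMap R (Localization.AtPrime p) with hf
    have hdim' : (maximalIdeal (Localization.AtPrime p)).height ≤ (h : ℕ∞) := by
      have h2 := IsLocalization.AtPrime.ringKrullDim_eq_height p (Localization.AtPrime p)
      rw [← IsLocalRing.maximalIdeal_height_eq_ringKrullDim] at h2
      rw [hh, WithBot.coe_eq_coe.mp h2]
    have key := ih h hhD (Localization.AtPrime p) hdim' e n (fun i => (A i).map f) ρ
      (fun i hi => by
        show (A i).map f * (A (i + 1)).map f = 0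
        rw [← Matrix.map_mul, hA i hi]
        ext a b
        simp)
      (by
        show (A e).map f = 0
        rw [hAe]
        ext a b
        simp) hρ hρe
      (fun i hi => by
        show CAlgX.minorIdeal ((A i).map f) (ρ i + 1) = ⊥
        rw [minorIdeal_map, hI1 i hi, Ideal.map_bot])
      (fun i hi => by
        show _ ≤ LocCoh.idealDepth (CAlgX.minorIdeal ((A i).map f) (ρ i)) _
        rw [minorIdeal_map]
        exact le_idealDepth_map _ _ (hI2 i hi))
    exact (key i hi).le

/-- Buchsbaum–Eisenbud sufficiency over a Noetherian ring. -/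
theorem global {R : Type u} [CommRing R] [IsNoetherianRing R]
    (e : ℕ) (n : ℕ → ℕ) (A : (i : ℕ) → Matrix (Fin (n i)) (Fin (n (i + 1))) R) (ρ : ℕ → ℕ)
    (hA : ∀ i, i < e → A i * A (i + 1) = 0) (hAe : A e = 0)
    (hρ : ∀ i, i < e → ρ i + ρ (i + 1) = n (i + 1)) (hρe : ρ e = 0)
    (hI1 : ∀ i, i < e → CAlgX.minorIdeal (A i) (ρ i + 1) = ⊥)
    (hI2 : ∀ i, i < e →
      ((i + 1 : ℕ) : ℕ∞) ≤ LocCoh.idealDepth (CAlgX.minorIdeal (A i) (ρ i)) R) :
    ∀ i, i < e → LinearMap.ker (A i).mulVecLin = LinearMap.range (A (i + 1)).mulVecLin := by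
  intro i hi
  refine le_antisymm ?_ ?_
  · refine ker_le_range_of_local (A i) (A (i + 1)) ?_
    intro p hp
    haveI : p.IsPrime := hp.isPrime
    set f := algebraMap R (Localization.AtPrime p) with hf
    obtain ⟨h, hh⟩ := ENat.ne_top_iff_exists.mp (Ideal.height_ne_top_of_isPrime (I := p))
    have hdim' : (maximalIdeal (Localization.AtPrime p)).height ≤ (h : ℕ∞) := by
      have h2 := IsLocalization.AtPrime.ringKrullDim_eq_height p (Localization.AtPrime p)
      rw [← IsLocalRing.maximalIdeal_height_eq_ringKrullDim] at h2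
      rw [hh, WithBot.coe_eq_coe.mp h2]
    have key := local_all h (Localization.AtPrime p) hdim' e n (fun i => (A i).map f) ρ
      (fun i hi => by
        show (A i).map f * (A (i + 1)).map f = 0
        rw [← Matrix.map_mul, hA i hi]
        ext a b
        simp)
      (by
        show (A e).map f = 0
        rw [hAe]
        ext a b
        simp) hρ hρe
      (fun i hi => by
        show CAlgX.minorIdeal ((A i).map f) (ρ i + 1) = ⊥
        rw [minorIdeal_map, hI1 i hi, Ideal.map_bot])
      (fun i hi => by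
        show _ ≤ LocCoh.idealDepth (CAlgX.minorIdeal ((A i).map f) (ρ i)) _
        rw [minorIdeal_map]
        exact le_idealDepth_map _ _ (hI2 i hi))
    exact (key i hi).le
  · rintro _ ⟨w, rfl⟩
    rw [LinearMap.mem_ker, Matrix.mulVecLin_apply, Matrix.mulVecLin_apply, Matrix.mulVec_mulVec,
      hA i hi, Matrix.zero_mulVec]

end Groth.Agent.Lib.BuchsEisH3
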