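import Mathlib
import Groth.Prelude.Def_W4c5adicflatcomplDec
import Groth.Agent.Lib.ComplFlatSplit_helper3
import Groth.Agent.Lib.AdicFreeBC_helper3

set_option autoImplicit false
universe u

/-!
# Limits of adic systems of flat modules are adically free (helper3)
-/

namespace Groth.Agent.Lib.SysLimFreeH3

open W4c5adicflatcompl

section graded

variable {R : Type*} [CommRing R] (I 𝔟 : Ideal R) {N : Type*} [AddCommGroup N] [Module R N]
  [Module (R ⧸ 𝔟) N] [IsScalarTower R (R ⧸ 𝔟) N] [Module.Flat (R ⧸ 𝔟) N]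
  {Z : Type*} [DecidableEq Z] (e : Z → N) (c : Z → N →ₗ[R] R ⧸ I)

include c in
theorem coeff_mem_pow_succ (hc : ∀ z w, c z (e w) = if w = z then 1 else 0) (a : ℕ)
    (h𝔟 : 𝔟 ≤ I ^ (a + 1)) (x : Z →₀ R)
    (hx : ∀ z, x z ∈ I ^ a)
    (h : Finsupp.linearCombination R e x ∈ (I ^ (a + 1) • ⊤ : Submodule R N)) :
    ∀ z, x z ∈ I ^ (a + 1) := by
  classical
  have hspan : (⊤ : Submodule R N) = Submodule.span R (Set.range (id : N → N)) := by simp
  rw [hspan] at h
  obtain ⟨u, hu, hux⟩ :=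
    (Submodule.mem_ideal_smul_span_iff_exists_sum (I ^ (a + 1)) (id : N → N) _).mp h
  have hux' : ∑ ν ∈ u.support, u ν • ν = Finsupp.linearCombination R e x := hux
  let f : (x.support ⊕ u.support) → R := Sum.elim (fun z => x z.1) (fun ν => - u ν.1)
  let X : (x.support ⊕ u.support) → N := Sum.elim (fun z => e z.1) (fun ν => ν.1)
  have hrel : ∑ i, f i • X i = 0 := by
    rw [Fintype.sum_sum_type]
    simp only [f, X, Sum.elim_inl, Sum.elim_inr, neg_smul, Finset.sum_neg_distrib]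
    rw [Finset.sum_coe_sort x.support (fun z => x z • e z),
      Finset.sum_coe_sort u.support (fun ν => u ν • ν), hux', Finsupp.linearCombination_apply,
      Finsupp.sum]
    exact add_neg_cancel _
  have hmk : ∀ (r : R) (n : N), (Ideal.Quotient.mk 𝔟 r) • n = r • n := fun r n =>
    algebraMap_smul (R ⧸ 𝔟) r n
  have hrel' : ∑ i, (Ideal.Quotient.mk 𝔟 (f i)) • X i = 0 := by
    simp_rw [hmk]
    exact hrel
  obtain ⟨k, A', y, hXy', hfA'⟩ := Module.Flat.isTrivialRelation_of_sum_smul_eq_zero hrel'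
  choose A hA using fun i j => Ideal.Quotient.mk_surjective (A' i j)
  have hXy : ∀ i, X i = ∑ j, A i j • y j := by
    intro i
    rw [hXy' i]
    refine Finset.sum_congr rfl fun j _ => ?_
    rw [← hA i j, hmk]
  have hfA : ∀ j, ∑ i, f i * A i j ∈ 𝔟 := by
    intro j
    rw [← Ideal.Quotient.eq_zero_iff_mem, map_sum]
    rw [← hfA' j]
    refine Finset.sum_congr rfl fun i _ => ?_
    rw [map_mul, hA]
  have hj : ∀ j, ∑ z : x.support, x z.1 * A (Sum.inl z) j ∈ I ^ (a + 1) := by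
    intro j
    have h1 := h𝔟 (hfA j)
    rw [Fintype.sum_sum_type] at h1
    simp only [f, Sum.elim_inl, Sum.elim_inr, neg_mul, Finset.sum_neg_distrib] at h1
    have h2 : ∑ ν : u.support, u ν.1 * A (Sum.inr ν) j ∈ I ^ (a + 1) :=
      Ideal.sum_mem _ fun ν _ => Ideal.mul_mem_right _ _ (hu ν.1)
    have h3 := Ideal.add_mem _ h1 h2
    rwa [neg_add_cancel_right] at h3
  intro w
  by_cases hw : w ∈ x.support
  swap
  · rw [Finsupp.notMem_support_iff.mp hw]
    exact Ideal.zero_mem _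
  choose d hd using fun j => Ideal.Quotient.mk_surjective (c w (y j))
  have hz : ∀ z : x.support,
      (if z.1 = w then (1 : R) else 0) - ∑ j, A (Sum.inl z) j * d j ∈ I := by
    intro z
    rw [← Ideal.Quotient.eq_zero_iff_mem, map_sub, map_sum, sub_eq_zero]
    have h1 := congrArg (c w) (hXy (Sum.inl z))
    simp only [X, Sum.elim_inl, map_sum, map_smul, hc] at h1
    rw [apply_ite (Ideal.Quotient.mk I), map_one, map_zero, h1]
    refine Finset.sum_congr rfl fun j _ => ?_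
    rw [map_mul, hd, Algebra.smul_def, Ideal.Quotient.algebraMap_eq]
  have e1 : ∑ z : x.support, x z.1 * (if z.1 = w then (1 : R) else 0) = x w := by
    rw [Finset.sum_coe_sort x.support (fun z => x z * (if z = w then (1 : R) else 0))]
    simp only [mul_ite, mul_one, mul_zero]
    rw [Finset.sum_ite_eq' x.support w (fun z => x z), if_pos hw]
  have e2 : ∑ j, (∑ z : x.support, x z.1 * A (Sum.inl z) j) * d j =
      ∑ z : x.support, x z.1 * ∑ j, A (Sum.inl z) j * d j := by
    simp_rw [Finset.sum_mul, Finset.mul_sum, mul_assoc]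
    exact Finset.sum_comm
  have key : x w = ∑ z : x.support, x z.1 *
        ((if z.1 = w then (1 : R) else 0) - ∑ j, A (Sum.inl z) j * d j) +
      ∑ j, (∑ z : x.support, x z.1 * A (Sum.inl z) j) * d j := by
    simp_rw [mul_sub]
    rw [Finset.sum_sub_distrib, e1, e2]
    ring
  rw [key]
  refine Ideal.add_mem _ (Ideal.sum_mem _ fun z _ => ?_)
    (Ideal.sum_mem _ fun j _ => Ideal.mul_mem_right _ _ (hj j))
  rw [pow_succ]
  exact Ideal.mul_mem_mul (hx z.1) (hz z)

include c in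
theorem coeff_mem_pow (hc : ∀ z w, c z (e w) = if w = z then 1 else 0) (n : ℕ)
    (h𝔟 : 𝔟 ≤ I ^ n) (x : Z →₀ R)
    (h : Finsupp.linearCombination R e x ∈ (I ^ n • ⊤ : Submodule R N)) :
    ∀ z, x z ∈ I ^ n := by
  have key : ∀ a, a ≤ n → ∀ z, x z ∈ I ^ a := by
    intro a
    induction a with
    | zero => intro _ z; simp
    | succ a ih =>
      intro ha
      exact coeff_mem_pow_succ I 𝔟 e c hc a (h𝔟.trans (Ideal.pow_le_pow_right ha)) x
        (ih (Nat.le_of_succ_le ha))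
        (Submodule.smul_mono_left (Ideal.pow_le_pow_right ha) h)
  exact key n le_rfl

end graded

section tower

variable {A : Type u} [CommRing A] [IsNoetherianRing A] [IsLocalRing A]
  (M : ℕ → Type u) [∀ n, AddCommGroup (M n)] [∀ n, Module A (M n)]
  [∀ n, Module (A ⧸ IsLocalRing.maximalIdeal A ^ (n + 1)) (M n)]
  [∀ n, IsScalarTower A (A ⧸ IsLocalRing.maximalIdeal A ^ (n + 1)) (M n)]
  (ψ : ∀ n, M (n + 1) →ₗ[A] M n)

theorem smul_eq_zero_of_mem (n : ℕ) (a : A) (ha : a ∈ IsLocalRing.maximalIdeal A ^ (n + 1))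
    (y : M n) : a • y = 0 := by
  rw [← algebraMap_smul (A ⧸ IsLocalRing.maximalIdeal A ^ (n + 1)) a y,
    Ideal.Quotient.algebraMap_eq, Ideal.Quotient.eq_zero_iff_mem.2 ha, zero_smul]

theorem pow_smul_top_eq_bot (n : ℕ) :
    (IsLocalRing.maximalIdeal A ^ (n + 1) • ⊤ : Submodule A (M n)) = ⊥ := by
  rw [eq_bot_iff, Submodule.smul_le]
  intro a ha y _
  rw [smul_eq_zero_of_mem M n a ha y]
  exact Submodule.zero_mem _

/-- The projection to level `0`. -/
noncomputable def τ : ∀ n, M n →ₗ[A] M 0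
  | 0 => LinearMap.id
  | (n + 1) => τ n ∘ₗ ψ n

theorem τ_apply_mem (x : sysLim M ψ) (n : ℕ) :
    τ M ψ n ((x : ∀ k, M k) n) = (x : ∀ k, M k) 0 := by
  induction n with
  | zero => rfl
  | succ n ih =>
    show τ M ψ n (ψ n ((x : ∀ k, M k) (n + 1))) = _
    rw [x.2 n]
    exact ih

theorem exists_lift_zero (hψ : ∀ n, Function.Surjective (ψ n)) (y : M 0) :
    ∃ x : sysLim M ψ, (x : ∀ k, M k) 0 = y := by
  choose g hg using hψ
  let s : ∀ n, M n := fun n => Nat.rec (motive := fun n => M n) y (fun n xn => g n xn) n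
  exact ⟨⟨s, fun n => hg n (s n)⟩, rfl⟩

theorem mem_smul_top_of_τ_mem (hψ : ∀ n, Function.Surjective (ψ n))
    (hker : ∀ n, LinearMap.ker (ψ n) =
      (IsLocalRing.maximalIdeal A ^ (n + 1) • ⊤ : Submodule A (M (n + 1)))) :
    ∀ (n : ℕ) (y : M n),
      τ M ψ n y ∈ (IsLocalRing.maximalIdeal A • ⊤ : Submodule A (M 0)) →
        y ∈ (IsLocalRing.maximalIdeal A • ⊤ : Submodule A (M n)) := by
  intro n
  induction n with
  | zero => intro y hy; exact hy
  | succ n ih =>
    intro y hy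
    have h1 : ψ n y ∈ (IsLocalRing.maximalIdeal A • ⊤ : Submodule A (M n)) := ih (ψ n y) hy
    have h2 : ψ n y ∈ Submodule.map (ψ n)
        (IsLocalRing.maximalIdeal A • ⊤ : Submodule A (M (n + 1))) := by
      rw [Submodule.map_smul'', Submodule.map_top, LinearMap.range_eq_top.2 (hψ n)]
      exact h1
    obtain ⟨y', hy', hyy⟩ := h2
    have h3 : y - y' ∈ LinearMap.ker (ψ n) := by
      rw [LinearMap.mem_ker, map_sub, hyy, sub_self]
    rw [hker n] at h3
    have h4 : y - y' ∈ (IsLocalRing.maximalIdeal A • ⊤ : Submodule A (M (n + 1))) :=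
      Submodule.smul_mono_left (Ideal.pow_le_self (Nat.succ_ne_zero n)) h3
    have : y = (y - y') + y' := by abel
    rw [this]
    exact add_mem h4 hy'

end tower


section basis

theorem exists_basis_zero {A : Type u} [CommRing A] [IsLocalRing A] (M0 : Type u)
    [AddCommGroup M0] [Module A M0] :
    ∃ (Z : Type u) (e : Z → M0) (c : Z → M0 →ₗ[A] A ⧸ IsLocalRing.maximalIdeal A),
      Submodule.span A (Set.range e) ⊔ (IsLocalRing.maximalIdeal A • ⊤ : Submodule A M0) = ⊤ ∧
      (∀ z, c z (e z) = 1) ∧ ∀ z w, w ≠ z → c z (e w) = 0 := by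
  classical
  letI : Field (A ⧸ IsLocalRing.maximalIdeal A) := Ideal.Quotient.field _
  let V := M0 ⧸ ((IsLocalRing.maximalIdeal A) • ⊤ : Submodule A M0)
  let B := Module.Basis.ofVectorSpace (A ⧸ IsLocalRing.maximalIdeal A) V
  choose e he using fun z => Submodule.Quotient.mk_surjective
    ((IsLocalRing.maximalIdeal A) • ⊤ : Submodule A M0) (B z)
  have hmk : ∀ (a : A) (x : M0), (Submodule.Quotient.mk (a • x) : V) =
      Ideal.Quotient.mk (IsLocalRing.maximalIdeal A) a • (Submodule.Quotient.mk x : V) :=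
    fun a x => rfl
  let c : _ → M0 →ₗ[A] A ⧸ IsLocalRing.maximalIdeal A := fun z =>
    { toFun := fun x => B.coord z (Submodule.Quotient.mk x : V)
      map_add' := fun x y => by rw [Submodule.Quotient.mk_add, map_add]
      map_smul' := fun a x => by
        rw [hmk, map_smul, RingHom.id_apply, smul_eq_mul, Algebra.smul_def,
          Ideal.Quotient.algebraMap_eq] }
  refine ⟨_, e, c, ?_, ?_, ?_⟩
  · rw [eq_top_iff]
    intro x _
    let r := B.repr (Submodule.Quotient.mk x)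
    let s : M0 := ∑ z ∈ r.support, Quotient.out (r z) • e z
    have hs : s ∈ Submodule.span A (Set.range e) :=
      Submodule.sum_mem _ fun z _ => Submodule.smul_mem _ _ (Submodule.subset_span ⟨z, rfl⟩)
    have hxs : x - s ∈ ((IsLocalRing.maximalIdeal A) • ⊤ : Submodule A M0) := by
      rw [← Submodule.Quotient.eq]
      have h1 : (Submodule.Quotient.mk s : V) = ∑ z ∈ r.support, r z • B z := by
        have : (Submodule.Quotient.mk s : V) =
            ((IsLocalRing.maximalIdeal A) • ⊤ : Submodule A M0).mkQ s := rfl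
        rw [this, map_sum]
        refine Finset.sum_congr rfl fun z _ => ?_
        rw [Submodule.mkQ_apply, hmk, he, Ideal.Quotient.mk_out]
      rw [h1]
      have h2 := B.linearCombination_repr (Submodule.Quotient.mk x)
      rw [Finsupp.linearCombination_apply] at h2
      exact h2.symm
    have : x = s + (x - s) := by abel
    rw [this]
    exact Submodule.add_mem_sup hs hxs
  · intro z
    show B.coord z (Submodule.Quotient.mk (e z) : V) = 1
    rw [he, Module.Basis.coord_apply, Module.Basis.repr_self, Finsupp.single_eq_same]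
  · intro z w hwz
    show B.coord z (Submodule.Quotient.mk (e w) : V) = 0
    rw [he, Module.Basis.coord_apply, Module.Basis.repr_self, Finsupp.single_apply, if_neg hwz]

end basis

section limit

variable {A : Type u} [CommRing A] (I : Ideal A)
  (M : ℕ → Type u) [∀ n, AddCommGroup (M n)] [∀ n, Module A (M n)]
  (ψ : ∀ n, M (n + 1) →ₗ[A] M n)
  {F : Type u} [AddCommGroup F] [Module A F] (φ : ∀ n, F →ₗ[A] M n)

/-- The comparison map from the completion to the limit of the system. -/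
noncomputable def Θ (hcomp : ∀ n f, ψ n (φ (n + 1) f) = φ n f)
    (hkerφ : ∀ n, LinearMap.ker (φ n) = (I ^ (n + 1) • ⊤ : Submodule A F)) :
    AdicCompletion I F →ₗ[A] sysLim M ψ :=
  LinearMap.codRestrict (sysLim M ψ)
    (LinearMap.pi fun n =>
      (Submodule.liftQ _ (φ n) (le_of_eq (hkerφ n).symm)) ∘ₗ AdicCompletion.eval I F (n + 1))
    (fun x => by
      intro n
      obtain ⟨s, rfl⟩ := AdicCompletion.mk_surjective I F x
      show ψ n (φ (n + 1) (s (n + 2))) = φ n (s (n + 1))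
      rw [hcomp]
      have h1 : s (n + 1) ≡ s (n + 2) [SMOD (I ^ (n + 1) • ⊤ : Submodule A F)] :=
        s.2 (Nat.le_succ (n + 1))
      rw [SModEq.sub_mem, ← hkerφ n, LinearMap.sub_mem_ker_iff] at h1
      exact h1.symm)

theorem Θ_mk (hcomp : ∀ n f, ψ n (φ (n + 1) f) = φ n f)
    (hkerφ : ∀ n, LinearMap.ker (φ n) = (I ^ (n + 1) • ⊤ : Submodule A F))
    (s : AdicCompletion.AdicCauchySequence I F) (n : ℕ) :
    ((Θ I M ψ φ hcomp hkerφ (AdicCompletion.mk I F s) : sysLim M ψ) : ∀ k, M k) n =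
      φ n (s (n + 1)) := rfl

theorem Θ_injective (hcomp : ∀ n f, ψ n (φ (n + 1) f) = φ n f)
    (hkerφ : ∀ n, LinearMap.ker (φ n) = (I ^ (n + 1) • ⊤ : Submodule A F)) :
    Function.Injective (Θ I M ψ φ hcomp hkerφ) := by
  rw [← LinearMap.ker_eq_bot, LinearMap.ker_eq_bot']
  intro x hx
  obtain ⟨s, rfl⟩ := AdicCompletion.mk_surjective I F x
  have h1 : ∀ n, φ n (s (n + 1)) = 0 := fun n => by
    rw [← Θ_mk I M ψ φ hcomp hkerφ s n, hx]
    rfl
  have h2 : ∀ n, s (n + 1) ∈ (I ^ (n + 1) • ⊤ : Submodule A F) := fun n => by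
    rw [← hkerφ n]
    exact h1 n
  apply AdicCompletion.ext
  intro k
  rw [AdicCompletion.mk_apply_coe, AdicCompletion.val_zero]
  simp only [Pi.zero_apply, Submodule.mkQ_apply, Submodule.Quotient.mk_eq_zero]
  cases k with
  | zero => simp [Ideal.one_eq_top]
  | succ k => exact h2 k

theorem Θ_surjective (hcomp : ∀ n f, ψ n (φ (n + 1) f) = φ n f)
    (hkerφ : ∀ n, LinearMap.ker (φ n) = (I ^ (n + 1) • ⊤ : Submodule A F))
    (hφ : ∀ n, Function.Surjective (φ n)) :
    Function.Surjective (Θ I M ψ φ hcomp hkerφ) := by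
  intro y
  choose f hf using fun n => hφ n ((y : ∀ k, M k) n)
  have hcauchy : ∀ n, f n ≡ f (n + 1) [SMOD (I ^ n • ⊤ : Submodule A F)] := by
    intro n
    rw [SModEq.sub_mem]
    have h1 : f n - f (n + 1) ∈ LinearMap.ker (φ n) := by
      rw [LinearMap.sub_mem_ker_iff, hf n, ← hcomp n (f (n + 1)), hf (n + 1)]
      exact (y.2 n).symm
    rw [hkerφ n] at h1
    exact Submodule.smul_mono_left (Ideal.pow_le_pow_right (Nat.le_succ n)) h1
  refine ⟨AdicCompletion.mk I F (AdicCompletion.AdicCauchySequence.mk I F f hcauchy), ?_⟩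
  apply Subtype.ext
  funext n
  rw [Θ_mk]
  show φ n (f (n + 1)) = (y : ∀ k, M k) n
  rw [← hcomp n, hf (n + 1)]
  exact y.2 n

theorem sysProj_surjective (hcomp : ∀ n f, ψ n (φ (n + 1) f) = φ n f)
    (hkerφ : ∀ n, LinearMap.ker (φ n) = (I ^ (n + 1) • ⊤ : Submodule A F))
    (hφ : ∀ n, Function.Surjective (φ n)) (n : ℕ) :
    Function.Surjective (sysProj M ψ n) := by
  intro y
  obtain ⟨f, rfl⟩ := hφ n y
  refine ⟨Θ I M ψ φ hcomp hkerφ (AdicCompletion.of I F f), ?_⟩
  rfl

theorem ker_sysProj (hI : I.FG) (hcomp : ∀ n f, ψ n (φ (n + 1) f) = φ n f)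
    (hkerφ : ∀ n, LinearMap.ker (φ n) = (I ^ (n + 1) • ⊤ : Submodule A F))
    (hφ : ∀ n, Function.Surjective (φ n)) (n : ℕ) :
    LinearMap.ker (sysProj M ψ n) = (I ^ (n + 1) • ⊤ : Submodule A (sysLim M ψ)) := by
  have hΘ : LinearMap.range (Θ I M ψ φ hcomp hkerφ) = ⊤ :=
    LinearMap.range_eq_top.2 (Θ_surjective I M ψ φ hcomp hkerφ hφ)
  have h1 : (I ^ (n + 1) • ⊤ : Submodule A (sysLim M ψ)) =
      Submodule.map (Θ I M ψ φ hcomp hkerφ) (I ^ (n + 1) • ⊤) := by
    rw [Submodule.map_smul'', Submodule.map_top, hΘ]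
  rw [h1, AdicCompletion.pow_smul_top_eq_ker_eval hI]
  have hinj : LinearMap.ker (Submodule.liftQ _ (φ n) (le_of_eq (hkerφ n).symm)) = ⊥ :=
    Submodule.ker_liftQ_eq_bot' _ _ (hkerφ n).symm
  ext y
  constructor
  · intro hy
    obtain ⟨x, rfl⟩ := Θ_surjective I M ψ φ hcomp hkerφ hφ y
    refine ⟨x, ?_, rfl⟩
    rw [LinearMap.mem_ker] at hy
    show x ∈ LinearMap.ker (AdicCompletion.eval I F (n + 1))
    rw [LinearMap.mem_ker]
    exact (LinearMap.ker_eq_bot'.1 hinj) _ hy
  · rintro ⟨x, hx, rfl⟩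
    have hx' : AdicCompletion.eval I F (n + 1) x = 0 := hx
    rw [LinearMap.mem_ker]
    show Submodule.liftQ _ (φ n) (le_of_eq (hkerφ n).symm)
      (AdicCompletion.eval I F (n + 1) x) = 0
    rw [hx', map_zero]

end limit

section levels

variable {A : Type u} [CommRing A] [IsNoetherianRing A] [IsLocalRing A]
  (M : ℕ → Type u) [∀ n, AddCommGroup (M n)] [∀ n, Module A (M n)]
  [∀ n, Module (A ⧸ IsLocalRing.maximalIdeal A ^ (n + 1)) (M n)]
  [∀ n, IsScalarTower A (A ⧸ IsLocalRing.maximalIdeal A ^ (n + 1)) (M n)]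
  (ψ : ∀ n, M (n + 1) →ₗ[A] M n)
  {Z : Type u} (e : Z → sysLim M ψ)

/-- The level maps from the free module. -/
noncomputable def φ (n : ℕ) : (Z →₀ A) →ₗ[A] M n :=
  Finsupp.linearCombination A (fun z => (e z : ∀ k, M k) n)

theorem φ_comp (n : ℕ) (f : Z →₀ A) : ψ n (φ M ψ e (n + 1) f) = φ M ψ e n f := by
  unfold φ
  rw [Finsupp.apply_linearCombination]
  have : (⇑(ψ n) ∘ fun z => (e z : ∀ k, M k) (n + 1)) = fun z => (e z : ∀ k, M k) n :=
    funext fun z => (e z).2 n
  rw [this]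

theorem τ_φ (n : ℕ) (f : Z →₀ A) : τ M ψ n (φ M ψ e n f) = φ M ψ e 0 f := by
  unfold φ
  rw [Finsupp.apply_linearCombination]
  have : (⇑(τ M ψ n) ∘ fun z => (e z : ∀ k, M k) n) = fun z => (e z : ∀ k, M k) 0 :=
    funext fun z => τ_apply_mem M ψ (e z) n
  rw [this]

theorem range_φ (hψ : ∀ n, Function.Surjective (ψ n))
    (hker : ∀ n, LinearMap.ker (ψ n) =
      (IsLocalRing.maximalIdeal A ^ (n + 1) • ⊤ : Submodule A (M (n + 1))))
    (hspan : Submodule.span A (Set.range fun z => (e z : ∀ k, M k) 0) ⊔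
      (IsLocalRing.maximalIdeal A • ⊤ : Submodule A (M 0)) = ⊤) (n : ℕ) :
    LinearMap.range (φ M ψ e n) = ⊤ := by
  have h1 : LinearMap.range (φ M ψ e n) ⊔
      (IsLocalRing.maximalIdeal A • ⊤ : Submodule A (M n)) = ⊤ := by
    rw [eq_top_iff]
    intro y _
    have hy : τ M ψ n y ∈ (⊤ : Submodule A (M 0)) := Submodule.mem_top
    rw [← hspan, Submodule.mem_sup] at hy
    obtain ⟨s, hs, t, ht, hst⟩ := hy
    rw [← Finsupp.range_linearCombination] at hs
    obtain ⟨x, hx⟩ := hs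
    have hx' : φ M ψ e 0 x = s := hx
    have h2 : τ M ψ n (y - φ M ψ e n x) ∈
        (IsLocalRing.maximalIdeal A • ⊤ : Submodule A (M 0)) := by
      rw [map_sub, τ_φ, hx', ← hst, add_sub_cancel_left]
      exact ht
    have h3 := mem_smul_top_of_τ_mem M ψ hψ hker n _ h2
    have : y = φ M ψ e n x + (y - φ M ψ e n x) := by abel
    rw [this]
    exact Submodule.add_mem_sup (LinearMap.mem_range_self _ x) h3
  have h2 := ComplFlatSplitH3.range_sup_pow_smul_top (IsLocalRing.maximalIdeal A) h1 (n + 1)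
  rwa [pow_smul_top_eq_bot M n, sup_bot_eq] at h2

theorem ker_φ [∀ n, Module.Flat (A ⧸ IsLocalRing.maximalIdeal A ^ (n + 1)) (M n)]
    [DecidableEq Z] (c : Z → M 0 →ₗ[A] A ⧸ IsLocalRing.maximalIdeal A)
    (hc : ∀ z w, c z ((e w : ∀ k, M k) 0) = if w = z then 1 else 0) (n : ℕ) :
    LinearMap.ker (φ M ψ e n) =
      (IsLocalRing.maximalIdeal A ^ (n + 1) • ⊤ : Submodule A (Z →₀ A)) := by
  apply le_antisymm
  · intro x hx
    rw [LinearMap.mem_ker] at hx
    apply ComplFreeH3.mem_smul_top_of_forall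
    refine coeff_mem_pow (IsLocalRing.maximalIdeal A) (IsLocalRing.maximalIdeal A ^ (n + 1))
      (fun z => (e z : ∀ k, M k) n) (fun z => c z ∘ₗ τ M ψ n) ?_ (n + 1) le_rfl x ?_
    · intro z w
      rw [LinearMap.comp_apply, τ_apply_mem, hc]
    · have : Finsupp.linearCombination A (fun z => (e z : ∀ k, M k) n) x = 0 := hx
      rw [this]
      exact Submodule.zero_mem _
  · rw [Submodule.smul_le]
    intro a ha f _
    rw [LinearMap.mem_ker, map_smul, smul_eq_zero_of_mem M n a ha]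

end levels

section main

theorem main {A : Type u} [CommRing A] [IsNoetherianRing A] [IsLocalRing A]
    (M : ℕ → Type u) [∀ n, AddCommGroup (M n)] [∀ n, Module A (M n)]
    [∀ n, Module (A ⧸ IsLocalRing.maximalIdeal A ^ (n + 1)) (M n)]
    [∀ n, IsScalarTower A (A ⧸ IsLocalRing.maximalIdeal A ^ (n + 1)) (M n)]
    [∀ n, Module.Flat (A ⧸ IsLocalRing.maximalIdeal A ^ (n + 1)) (M n)]
    (ψ : ∀ n, M (n + 1) →ₗ[A] M n) (hψ : ∀ n, Function.Surjective (ψ n))
    (hker : ∀ n, LinearMap.ker (ψ n) =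
      (IsLocalRing.maximalIdeal A ^ (n + 1) • ⊤ : Submodule A (M (n + 1)))) :
    IsAdicFree (IsLocalRing.maximalIdeal A) (sysLim M ψ) ∧
      ∀ n, Function.Surjective (sysProj M ψ n) ∧
        LinearMap.ker (sysProj M ψ n) =
          (IsLocalRing.maximalIdeal A ^ (n + 1) • ⊤ : Submodule A (sysLim M ψ)) := by
  classical
  obtain ⟨Z, e0, c, hspan, hc1, hc0⟩ := exists_basis_zero (A := A) (M 0)
  choose e he using fun z => exists_lift_zero M ψ hψ (e0 z)
  have hI : (IsLocalRing.maximalIdeal A).FG := IsNoetherian.noetherian _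
  have hspan' : Submodule.span A (Set.range fun z => (e z : ∀ k, M k) 0) ⊔
      (IsLocalRing.maximalIdeal A • ⊤ : Submodule A (M 0)) = ⊤ := by
    have : (fun z => (e z : ∀ k, M k) 0) = e0 := funext he
    rw [this]
    exact hspan
  have hc : ∀ z w, c z ((e w : ∀ k, M k) 0) = if w = z then 1 else 0 := by
    intro z w
    rw [he]
    split_ifs with h
    · rw [h]
      exact hc1 z
    · exact hc0 z w h
  have hcomp := φ_comp M ψ e
  have hkerφ := ker_φ M ψ e c hc
  have hφ : ∀ n, Function.Surjective (φ M ψ e n) := fun n =>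
    LinearMap.range_eq_top.1 (range_φ M ψ e hψ hker hspan' n)
  refine ⟨⟨Z, ⟨?_⟩⟩, fun n =>
    ⟨sysProj_surjective (IsLocalRing.maximalIdeal A) M ψ (φ M ψ e) hcomp hkerφ hφ n,
      ker_sysProj (IsLocalRing.maximalIdeal A) M ψ (φ M ψ e) hI hcomp hkerφ hφ n⟩⟩
  exact (LinearEquiv.ofBijective (Θ (IsLocalRing.maximalIdeal A) M ψ (φ M ψ e) hcomp hkerφ)
    ⟨Θ_injective (IsLocalRing.maximalIdeal A) M ψ (φ M ψ e) hcomp hkerφ,
      Θ_surjective (IsLocalRing.maximalIdeal A) M ψ (φ M ψ e) hcomp hkerφ hφ⟩).symm ≪≫ₗ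
    AdicFreeBCH3.finsuppEquiv (IsLocalRing.maximalIdeal A) Z hI

end main

end Groth.Agent.Lib.SysLimFreeH3
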