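import Mathlib
import Groth.Agent.Lib.SysLimFree_helper3
import Groth.Agent.Lib.LocalCrit3_helper9
import Groth.Prelude.Def_CAlg
import Groth.Prelude.Def_EGA4b
import Groth.Prelude.Def_FlatCA

set_option autoImplicit false
universe u

/-!
# Flatness from flatness off `V(J)` and fibre depth (helper3)
-/

namespace Groth.Agent.Lib.FlatDepthH3

open TensorProduct

section general

variable {A B : Type*} [CommRing A] [CommRing B] [Algebra A B]
  (M : Type*) [AddCommGroup M] [Module B M] [Module A M] [IsScalarTower A B M]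

/-- `(I B) M = I M`. -/
theorem mem_smul_top_of_mem_map_smul_top (I : Ideal A) (x : M)
    (hx : x ∈ (I.map (algebraMap A B) • ⊤ : Submodule B M)) :
    x ∈ (I • ⊤ : Submodule A M) := by
  have key : ∀ b ∈ I.map (algebraMap A B), ∀ y : M, b • y ∈ (I • ⊤ : Submodule A M) := by
    intro b hb
    refine Submodule.span_induction (p := fun b _ => ∀ y : M, b • y ∈ (I • ⊤ : Submodule A M))
      ?_ ?_ ?_ ?_ hb
    · rintro _ ⟨a, ha, rfl⟩ y
      rw [algebraMap_smul]
      exact Submodule.smul_mem_smul ha Submodule.mem_top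
    · intro y
      rw [zero_smul]
      exact Submodule.zero_mem _
    · intro b1 b2 _ _ h1 h2 y
      rw [add_smul]
      exact add_mem (h1 y) (h2 y)
    · intro β b' _ h y
      rw [smul_eq_mul, mul_comm, mul_smul]
      exact h (β • y)
  refine Submodule.smul_induction_on hx ?_ ?_
  · intro b hb y _
    exact key b hb y
  · intro y1 y2 h1 h2
    exact add_mem h1 h2

theorem mem_map_smul_top_of_mem_smul_top (I : Ideal A) (x : M)
    (hx : x ∈ (I • ⊤ : Submodule A M)) :
    x ∈ (I.map (algebraMap A B) • ⊤ : Submodule B M) := by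
  refine Submodule.smul_induction_on hx ?_ ?_
  · intro a ha y _
    rw [← algebraMap_smul B a y]
    exact Submodule.smul_mem_smul (Ideal.mem_map_of_mem _ ha) Submodule.mem_top
  · intro y1 y2 h1 h2
    exact add_mem h1 h2

/-- Lemma A: an element of `M ⊗ N` killed by `M ⊗ f` for an injective `f` is torsion with respect
to any multiplicative set `T` of `B` for which `T⁻¹M` is `A`-flat. -/
theorem exists_smul_eq_zero_of_flat_localized (T : Submonoid B)
    [Module.Flat A (LocalizedModule T M)]
    {N P : Type*} [AddCommGroup N] [Module A N] [AddCommGroup P] [Module A P] (f : N →ₗ[A] P)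
    (hf : Function.Injective f) (x : M ⊗[A] N) (hx : f.lTensor M x = 0) :
    ∃ t ∈ T, t • x = 0 := by
  have hinj : Function.Injective (f.lTensor (LocalizedModule T M)) :=
    Module.Flat.lTensor_preserves_injective_linearMap f hf
  have hcomm : ∀ z : M ⊗[A] N, f.lTensor (LocalizedModule T M)
      (AlgebraTensorModule.rTensor A N (LocalizedModule.mkLinearMap T M) z) =
      AlgebraTensorModule.rTensor A P (LocalizedModule.mkLinearMap T M) (f.lTensor M z) := by
    intro z
    induction z using TensorProduct.induction_on with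
    | zero => simp
    | tmul y n => rfl
    | add u w hu hw => rw [map_add, map_add, map_add, map_add, hu, hw]
  have h0 : AlgebraTensorModule.rTensor A N (LocalizedModule.mkLinearMap T M) x = 0 := by
    apply hinj
    rw [hcomm, hx, map_zero, map_zero]
  obtain ⟨t, ht⟩ := (IsLocalizedModule.eq_zero_iff T
    (AlgebraTensorModule.rTensor A N (LocalizedModule.mkLinearMap T M))).mp h0
  exact ⟨t.1, t.2, ht⟩

/-- Lemma A': power-of-`r` torsion under flatness at all primes not containing `r`. -/
theorem exists_pow_smul_eq_zero (r : B)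
    (hflat : ∀ (q : Ideal B) [q.IsPrime], r ∉ q →
      Module.Flat A (LocalizedModule q.primeCompl M))
    {N P : Type*} [AddCommGroup N] [Module A N] [AddCommGroup P] [Module A P] (f : N →ₗ[A] P)
    (hf : Function.Injective f) (x : M ⊗[A] N) (hx : f.lTensor M x = 0) :
    ∃ k : ℕ, r ^ k • x = 0 := by
  let I : Ideal B := LinearMap.ker (LinearMap.toSpanSingleton B (M ⊗[A] N) x)
  have hI : ∀ b : B, b ∈ I ↔ b • x = 0 := fun b => Iff.rfl
  have hr : r ∈ I.radical := by
    rw [Ideal.radical_eq_sInf, Ideal.mem_sInf]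
    rintro q ⟨hIq, hq⟩
    by_contra hrq
    haveI := hq
    haveI := hflat q hrq
    obtain ⟨t, ht, htx⟩ := exists_smul_eq_zero_of_flat_localized M q.primeCompl f hf x hx
    exact ht (hIq ((hI t).2 htx))
  obtain ⟨k, hk⟩ := hr
  exact ⟨k, (hI _).1 hk⟩

end general

section loc

variable {A B : Type u} [CommRing A] [CommRing B] [Algebra A B]
  (M : Type u) [AddCommGroup M] [Module B M] [Module A M] [IsScalarTower A B M]

theorem tmul_mem_range (I : Ideal A) {P : Type u} [AddCommGroup P] [Module A P]
    (y : M) (hy : y ∈ (I • ⊤ : Submodule A M)) (p : P) :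
    y ⊗ₜ[A] p ∈ LinearMap.range ((I • ⊤ : Submodule A P).subtype.lTensor M) := by
  refine Submodule.smul_induction_on hy ?_ ?_
  · intro a ha y' _
    refine ⟨y' ⊗ₜ[A] ⟨a • p, Submodule.smul_mem_smul ha Submodule.mem_top⟩, ?_⟩
    rw [LinearMap.lTensor_tmul, Submodule.subtype_apply, TensorProduct.smul_tmul]
  · intro y1 y2 h1 h2
    rw [add_tmul]
    exact add_mem h1 h2

variable [IsLocalRing A]

theorem mem_range_lTensor_of_pow_smul (r : B)
    (hreg : IsSMulRegular
      (M ⧸ ((IsLocalRing.maximalIdeal A).map (algebraMap A B) • ⊤ : Submodule B M)) r)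
    (P : Type u) [AddCommGroup P] [Module A P] [Module.Finite A P]
    (x : M ⊗[A] P) (k : ℕ) (hx : r ^ k • x = 0) :
    x ∈ LinearMap.range
      (((IsLocalRing.maximalIdeal A) • ⊤ : Submodule A P).subtype.lTensor M) := by
  classical
  obtain ⟨Z, e, c, hspan, hc1, hc0⟩ := SysLimFreeH3.exists_basis_zero (A := A) P
  have hspan' : Submodule.span A (Set.range e) = ⊤ := by
    rw [eq_top_iff]
    apply Submodule.le_of_le_smul_of_le_jacobson_bot (I := IsLocalRing.maximalIdeal A)
      Module.Finite.fg_top (IsLocalRing.maximalIdeal_le_jacobson ⊥)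
    rw [hspan]
  let Ψ : (Z →₀ M) →ₗ[A] M ⊗[A] P :=
    Finsupp.lsum A (fun z => (TensorProduct.mk A M P).flip (e z))
  have hΨ : ∀ (z : Z) (y : M), Ψ (Finsupp.single z y) = y ⊗ₜ[A] e z := by
    intro z y
    simp [Ψ]
  have hΨsurj : Function.Surjective Ψ := by
    intro x
    induction x using TensorProduct.induction_on with
    | zero => exact ⟨0, map_zero _⟩
    | tmul y p =>
      have hp : p ∈ Submodule.span A (Set.range e) := by
        rw [hspan']
        trivial
      induction hp using Submodule.span_induction with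
      | mem p hp =>
        obtain ⟨z, rfl⟩ := hp
        exact ⟨Finsupp.single z y, hΨ z y⟩
      | zero => exact ⟨0, by rw [map_zero, tmul_zero]⟩
      | add p q _ _ hp hq =>
        obtain ⟨v, hv⟩ := hp
        obtain ⟨w, hw⟩ := hq
        exact ⟨v + w, by rw [map_add, hv, hw, tmul_add]⟩
      | smul a p _ hp =>
        obtain ⟨v, hv⟩ := hp
        exact ⟨a • v, by rw [map_smul, hv, tmul_smul]⟩
    | add u w hu hw =>
      obtain ⟨v, hv⟩ := hu
      obtain ⟨v', hv'⟩ := hw
      exact ⟨v + v', by rw [map_add, hv, hv']⟩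
  have hcoord : ∀ (v : Z →₀ M) (z : Z), AlgebraTensorModule.lTensor B M (c z) (Ψ v) =
      v z ⊗ₜ[A] (1 : A ⧸ IsLocalRing.maximalIdeal A) := by
    intro v z
    induction v using Finsupp.induction_linear with
    | zero => simp
    | add v w hv hw => rw [map_add, map_add, hv, hw, Finsupp.add_apply, add_tmul]
    | single w y =>
      rw [hΨ, AlgebraTensorModule.lTensor_tmul]
      by_cases h : w = z
      · subst h
        rw [hc1, Finsupp.single_eq_same]
      · rw [hc0 z w h, tmul_zero, Finsupp.single_apply, if_neg h, zero_tmul]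
  obtain ⟨v, rfl⟩ := hΨsurj x
  have hv : ∀ z, v z ∈ ((IsLocalRing.maximalIdeal A) • ⊤ : Submodule A M) := by
    intro z
    have h1 : (r ^ k • v z) ⊗ₜ[A] (1 : A ⧸ IsLocalRing.maximalIdeal A) = 0 := by
      have := congrArg (AlgebraTensorModule.lTensor B M (c z)) hx
      rw [map_smul, hcoord, map_zero, TensorProduct.smul_tmul'] at this
      exact this
    have h2 : r ^ k • v z ∈ ((IsLocalRing.maximalIdeal A) • ⊤ : Submodule A M) := by
      have h3 := congrArg (TensorProduct.tensorQuotEquivQuotSMul M (IsLocalRing.maximalIdeal A)) h1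
      rw [map_zero] at h3
      have h4 : TensorProduct.tensorQuotEquivQuotSMul M (IsLocalRing.maximalIdeal A)
          ((r ^ k • v z) ⊗ₜ[A] Ideal.Quotient.mk (IsLocalRing.maximalIdeal A) 1) = 0 := h3
      rw [TensorProduct.tensorQuotEquivQuotSMul_tmul_mk, one_smul,
        Submodule.Quotient.mk_eq_zero] at h4
      exact h4
    have h5 := mem_map_smul_top_of_mem_smul_top (B := B) M _ _ h2
    have h6 : (Submodule.Quotient.mk (v z) :
        M ⧸ ((IsLocalRing.maximalIdeal A).map (algebraMap A B) • ⊤ : Submodule B M)) = 0 := by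
      apply hreg.pow k
      show r ^ k • (Submodule.Quotient.mk (v z) :
        M ⧸ ((IsLocalRing.maximalIdeal A).map (algebraMap A B) • ⊤ : Submodule B M)) = r ^ k • 0
      rw [← Submodule.Quotient.mk_smul, smul_zero, Submodule.Quotient.mk_eq_zero]
      exact h5
    rw [Submodule.Quotient.mk_eq_zero] at h6
    exact mem_smul_top_of_mem_map_smul_top M _ _ h6
  rw [← Finsupp.sum_single v, map_finsuppSum]
  refine Submodule.sum_mem _ fun z _ => ?_
  show Ψ (Finsupp.single z (v z)) ∈ _
  rw [hΨ]
  exact tmul_mem_range M _ _ (hv z) _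

end loc

section main

variable {A B : Type u} [CommRing A] [CommRing B] [IsNoetherianRing A] [IsNoetherianRing B]
  [IsLocalRing A] [IsLocalRing B] [Algebra A B] [IsLocalHom (algebraMap A B)]
  (M : Type u) [AddCommGroup M] [Module B M] [Module A M] [IsScalarTower A B M]

omit [IsNoetherianRing B] [IsLocalRing B] [IsLocalHom (algebraMap A B)] in
theorem ker_le_range (r : B)
    (hflat : ∀ (q : Ideal B) [q.IsPrime], r ∉ q →
      Module.Flat A (LocalizedModule q.primeCompl M))
    (hreg : IsSMulRegular
      (M ⧸ ((IsLocalRing.maximalIdeal A).map (algebraMap A B) • ⊤ : Submodule B M)) r) :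
    ∀ (j : ℕ) (hj : IsLocalRing.maximalIdeal A ^ (j + 1) ≤ IsLocalRing.maximalIdeal A),
      LinearMap.ker ((IsLocalRing.maximalIdeal A).subtype.lTensor M) ≤
        LinearMap.range ((Submodule.inclusion hj).lTensor M) := by
  intro j
  induction j with
  | zero =>
    intro hj
    have hsurj : Function.Surjective (Submodule.inclusion hj) := by
      intro p
      exact ⟨⟨p.1, by rw [zero_add, pow_one]; exact p.2⟩, Subtype.ext rfl⟩
    rw [LinearMap.range_eq_top.2 (LinearMap.lTensor_surjective M hsurj)]
    exact le_top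
  | succ j ih =>
    intro hj' x hx
    have hj : IsLocalRing.maximalIdeal A ^ (j + 1) ≤ IsLocalRing.maximalIdeal A :=
      Ideal.pow_le_self (Nat.succ_ne_zero j)
    obtain ⟨x', rfl⟩ := ih hj hx
    rw [LinearMap.mem_ker] at hx
    have hcomp : (IsLocalRing.maximalIdeal A).subtype ∘ₗ Submodule.inclusion hj =
        (IsLocalRing.maximalIdeal A ^ (j + 1)).subtype := Submodule.subtype_comp_inclusion _ _ hj
    have hx' : (IsLocalRing.maximalIdeal A ^ (j + 1)).subtype.lTensor M x' = 0 := by
      rw [← hcomp, LinearMap.lTensor_comp, LinearMap.comp_apply, hx]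
    obtain ⟨k, hk⟩ := exists_pow_smul_eq_zero M r hflat
      (IsLocalRing.maximalIdeal A ^ (j + 1)).subtype Subtype.val_injective x' hx'
    obtain ⟨x'', rfl⟩ := mem_range_lTensor_of_pow_smul M r hreg
      (↥(IsLocalRing.maximalIdeal A ^ (j + 1))) x' k hk
    have hmem : ∀ p : ↥((IsLocalRing.maximalIdeal A) • ⊤ :
        Submodule A ↥(IsLocalRing.maximalIdeal A ^ (j + 1))),
        ((p : ↥(IsLocalRing.maximalIdeal A ^ (j + 1))) : A) ∈
          IsLocalRing.maximalIdeal A ^ (j + 1 + 1) := by
      intro p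
      refine Submodule.smul_induction_on p.2 ?_ ?_
      · intro a ha q _
        rw [pow_succ' _ (j + 1)]
        exact Ideal.mul_mem_mul ha q.2
      · intro q1 q2 h1 h2
        exact Ideal.add_mem _ h1 h2
    let κ : ↥((IsLocalRing.maximalIdeal A) • ⊤ :
        Submodule A ↥(IsLocalRing.maximalIdeal A ^ (j + 1))) →ₗ[A]
        ↥(IsLocalRing.maximalIdeal A ^ (j + 1 + 1)) :=
      LinearMap.codRestrict (IsLocalRing.maximalIdeal A ^ (j + 1 + 1))
        ((IsLocalRing.maximalIdeal A ^ (j + 1)).subtype ∘ₗ
          ((IsLocalRing.maximalIdeal A) • ⊤ :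
            Submodule A ↥(IsLocalRing.maximalIdeal A ^ (j + 1))).subtype) hmem
    have hκ : Submodule.inclusion hj' ∘ₗ κ = Submodule.inclusion hj ∘ₗ
        ((IsLocalRing.maximalIdeal A) • ⊤ :
          Submodule A ↥(IsLocalRing.maximalIdeal A ^ (j + 1))).subtype :=
      LinearMap.ext fun p => Subtype.ext rfl
    refine ⟨κ.lTensor M x'', ?_⟩
    rw [← LinearMap.comp_apply, ← LinearMap.lTensor_comp, hκ, LinearMap.lTensor_comp,
      LinearMap.comp_apply]

omit [IsNoetherianRing A] [IsNoetherianRing B] [IsLocalRing B] [IsLocalHom (algebraMap A B)] in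
theorem range_le_pow_smul (j : ℕ)
    (hj : IsLocalRing.maximalIdeal A ^ (j + 1) ≤ IsLocalRing.maximalIdeal A)
    (x' : M ⊗[A] ↥(IsLocalRing.maximalIdeal A ^ (j + 1))) :
    (Submodule.inclusion hj).lTensor M x' ∈
      (((IsLocalRing.maximalIdeal A).map (algebraMap A B)) ^ j • ⊤ :
        Submodule B (M ⊗[A] ↥(IsLocalRing.maximalIdeal A))) := by
  induction x' using TensorProduct.induction_on with
  | zero =>
    rw [map_zero]
    exact Submodule.zero_mem _
  | tmul y a =>
    rw [LinearMap.lTensor_tmul]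
    obtain ⟨a, ha⟩ := a
    exact Groth.Agent.Lib.LocalCrit3.tmul_mem_of_mem_mul (IsLocalRing.maximalIdeal A)
      (IsLocalRing.maximalIdeal A) j M y a (by rw [← pow_succ]; exact ha) (hj ha)
  | add u w hu hw =>
    rw [map_add]
    exact add_mem hu hw

variable [Module.Finite B M]

/-- If `M` is `A`-flat at all primes of `B` not containing `r` and `r` is a nonzerodivisor on the
closed fibre `M / m_A M`, then `M` is `A`-flat. -/
theorem flat_of_regular (r : B)
    (hflat : ∀ (q : Ideal B) [q.IsPrime], r ∉ q →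
      Module.Flat A (LocalizedModule q.primeCompl M))
    (hreg : IsSMulRegular
      (M ⧸ ((IsLocalRing.maximalIdeal A).map (algebraMap A B) • ⊤ : Submodule B M)) r) :
    Module.Flat A M := by
  letI : Field (A ⧸ IsLocalRing.maximalIdeal A) := Ideal.Quotient.field _
  have hI : (IsLocalRing.maximalIdeal A).map (algebraMap A B) ≤ Ideal.jacobson ⊥ :=
    (IsLocalRing.map_maximalIdeal_le (algebraMap A B)).trans
      (IsLocalRing.maximalIdeal_le_jacobson ⊥)
  refine Groth.Agent.Lib.LocalCrit3.flat_of_tor_of_flat_quot (IsLocalRing.maximalIdeal A) hI M ?_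
  rw [← LinearMap.lTensor_inj_iff_rTensor_inj]
  rw [← LinearMap.ker_eq_bot, eq_bot_iff]
  intro x hx
  have hkrull : (⨅ i : ℕ, ((IsLocalRing.maximalIdeal A).map (algebraMap A B)) ^ i • ⊤ :
      Submodule B (M ⊗[A] ↥(IsLocalRing.maximalIdeal A))) = ⊥ :=
    Ideal.iInf_pow_smul_eq_bot_of_le_jacobson _ hI
  have hmem : x ∈ (⨅ i : ℕ, ((IsLocalRing.maximalIdeal A).map (algebraMap A B)) ^ i • ⊤ :
      Submodule B (M ⊗[A] ↥(IsLocalRing.maximalIdeal A))) := by
    rw [Submodule.mem_iInf]
    intro j
    have hj : IsLocalRing.maximalIdeal A ^ (j + 1) ≤ IsLocalRing.maximalIdeal A :=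
      Ideal.pow_le_self (Nat.succ_ne_zero j)
    obtain ⟨x', rfl⟩ := ker_le_range M r hflat hreg j hj hx
    exact range_le_pow_smul M j hj x'
  rw [hkrull] at hmem
  exact hmem

end main

section wrapper

theorem main (A B : Type u) [CommRing A] [CommRing B]
    [IsNoetherianRing A] [IsNoetherianRing B] [IsLocalRing A] [IsLocalRing B] [Algebra A B]
    [IsLocalHom (algebraMap A B)] (J : Ideal B)
    (M : Type u) [AddCommGroup M] [Module B M] [Module A M] [IsScalarTower A B M]
    [Module.Finite B M]
    (hU : ∀ q : PrimeSpectrum B, ¬ J ≤ q.asIdeal → FlatCA.FlatAt A q.asIdeal M)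
    (h1 : 1 ≤ LocCoh.idealDepth J (EGA4.FibMod A B M)) : Module.Flat A M := by
  classical
  by_cases hJ : J = ⊤
  · have h := hU ⟨IsLocalRing.maximalIdeal B, inferInstance⟩ (by
      rw [hJ]
      intro h
      exact (IsLocalRing.maximalIdeal.isMaximal B).ne_top (top_le_iff.mp h))
    have h' : Module.Flat A (LocalizedModule (IsLocalRing.maximalIdeal B).primeCompl M) := h
    haveI : IsLocalization (IsLocalRing.maximalIdeal B).primeCompl B :=
      IsLocalization.of_le_isUnit (fun s hs => by
        have : s ∉ IsLocalRing.maximalIdeal B := hs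
        rw [IsLocalRing.mem_maximalIdeal, mem_nonunits_iff, not_not] at this
        exact this)
    haveI := isLocalizedModule_id (IsLocalRing.maximalIdeal B).primeCompl M B
    exact Module.Flat.of_linearEquiv
      ((IsLocalizedModule.iso (IsLocalRing.maximalIdeal B).primeCompl
        (LinearMap.id : M →ₗ[B] M)).restrictScalars A).symm
  have hJm : J ≤ Ideal.jacobson ⊥ :=
    (IsLocalRing.le_maximalIdeal hJ).trans (IsLocalRing.maximalIdeal_le_jacobson ⊥)
  have hmJ : (IsLocalRing.maximalIdeal A).map (algebraMap A B) ≤ Ideal.jacobson ⊥ :=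
    (IsLocalRing.map_maximalIdeal_le (algebraMap A B)).trans
      (IsLocalRing.maximalIdeal_le_jacobson ⊥)
  by_cases hN : (EGA4.mB A B • (⊤ : Submodule B M)) = ⊤
  · have hbot : (⊤ : Submodule B M) = ⊥ :=
      Submodule.eq_bot_of_le_smul_of_le_jacobson_bot (EGA4.mB A B) ⊤ Module.Finite.fg_top
        (by rw [hN]) hmJ
    haveI : Subsingleton M := by
      constructor
      intro a b
      have ha : a ∈ (⊥ : Submodule B M) := hbot ▸ Submodule.mem_top
      have hb : b ∈ (⊥ : Submodule B M) := hbot ▸ Submodule.mem_top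
      rw [Submodule.mem_bot] at ha hb
      rw [ha, hb]
    infer_instance
  · have hne : J • (⊤ : Submodule B (EGA4.FibMod A B M)) ≠ ⊤ := by
      intro htop
      have hbot : (⊤ : Submodule B (EGA4.FibMod A B M)) = ⊥ :=
        Submodule.eq_bot_of_le_smul_of_le_jacobson_bot J ⊤ Module.Finite.fg_top
          (by rw [htop]) hJm
      apply hN
      rw [eq_top_iff]
      intro y _
      have hy : (Submodule.Quotient.mk y : EGA4.FibMod A B M) ∈
          (⊥ : Submodule B (EGA4.FibMod A B M)) := hbot ▸ Submodule.mem_top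
      rw [Submodule.mem_bot, Submodule.Quotient.mk_eq_zero] at hy
      exact hy
    unfold LocCoh.idealDepth at h1
    rw [if_neg hne] at h1
    obtain ⟨rs, hrs, hlen⟩ : ∃ rs : List B,
        (RingTheory.Sequence.IsWeaklyRegular (EGA4.FibMod A B M) rs ∧ ∀ r ∈ rs, r ∈ J) ∧
          1 ≤ rs.length := by
      by_contra hcon
      push Not at hcon
      have hle : (⨆ (rs : List B)
          (_ : RingTheory.Sequence.IsWeaklyRegular (EGA4.FibMod A B M) rs ∧ ∀ r ∈ rs, r ∈ J),
          (rs.length : ℕ∞)) ≤ 0 := by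
        refine iSup₂_le fun rs hrs => ?_
        have := hcon rs hrs
        have h0 : rs.length = 0 := by omega
        rw [h0]
        exact le_rfl
      have := h1.trans hle
      simp at this
    cases rs with
    | nil => simp at hlen
    | cons r rs' =>
      have hreg : IsSMulRegular (EGA4.FibMod A B M) r :=
        ((RingTheory.Sequence.isWeaklyRegular_cons_iff (EGA4.FibMod A B M) r rs').1 hrs.1).1
      have hrJ : r ∈ J := hrs.2 r List.mem_cons_self
      exact flat_of_regular M r
        (fun q _ hrq => hU ⟨q, inferInstance⟩ (fun hJq => hrq (hJq hrJ))) hreg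

end wrapper

end Groth.Agent.Lib.FlatDepthH3
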