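import Mathlib
import Groth.Agent.Lib.FlatDepth_helper3
import Groth.Agent.Lib.DepthHom_helper5

set_option autoImplicit false
universe u

/-!
# Depth of infinitesimal neighbourhoods of the closed fibre (helper3)
-/

namespace Groth.Agent.Lib.FlatDepth2H3

open TensorProduct

section basis

theorem exists_fin_basis {A : Type u} [CommRing A] [IsLocalRing A] (P : Type u)
    [AddCommGroup P] [Module A P] [Module.Finite A P] :
    ∃ (s : ℕ) (e : Fin s → P) (c : Fin s → P →ₗ[A] A ⧸ IsLocalRing.maximalIdeal A),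
      Submodule.span A (Set.range e) = ⊤ ∧ ∀ i j, c i (e j) = if j = i then 1 else 0 := by
  classical
  letI : Field (A ⧸ IsLocalRing.maximalIdeal A) := Ideal.Quotient.field _
  let V := P ⧸ ((IsLocalRing.maximalIdeal A) • ⊤ : Submodule A P)
  haveI : Module.Finite (A ⧸ IsLocalRing.maximalIdeal A) V :=
    Module.Finite.of_restrictScalars_finite A (A ⧸ IsLocalRing.maximalIdeal A) V
  let B := Module.finBasis (A ⧸ IsLocalRing.maximalIdeal A) V
  choose e he using fun z => Submodule.Quotient.mk_surjective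
    ((IsLocalRing.maximalIdeal A) • ⊤ : Submodule A P) (B z)
  have hmk : ∀ (a : A) (x : P), (Submodule.Quotient.mk (a • x) : V) =
      Ideal.Quotient.mk (IsLocalRing.maximalIdeal A) a • (Submodule.Quotient.mk x : V) :=
    fun a x => rfl
  let c : _ → P →ₗ[A] A ⧸ IsLocalRing.maximalIdeal A := fun z =>
    { toFun := fun x => B.coord z (Submodule.Quotient.mk x : V)
      map_add' := fun x y => by rw [Submodule.Quotient.mk_add, map_add]
      map_smul' := fun a x => by
        rw [hmk, map_smul, RingHom.id_apply, smul_eq_mul, Algebra.smul_def,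
          Ideal.Quotient.algebraMap_eq] }
  refine ⟨_, e, c, ?_, ?_⟩
  · have hsup : Submodule.span A (Set.range e) ⊔
        ((IsLocalRing.maximalIdeal A) • ⊤ : Submodule A P) = ⊤ := by
      rw [eq_top_iff]
      intro x _
      let r := B.repr (Submodule.Quotient.mk x)
      let s : P := ∑ z ∈ r.support, Quotient.out (r z) • e z
      have hs : s ∈ Submodule.span A (Set.range e) :=
        Submodule.sum_mem _ fun z _ => Submodule.smul_mem _ _ (Submodule.subset_span ⟨z, rfl⟩)
      have hxs : x - s ∈ ((IsLocalRing.maximalIdeal A) • ⊤ : Submodule A P) := by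
        rw [← Submodule.Quotient.eq]
        have h1 : (Submodule.Quotient.mk s : V) = ∑ z ∈ r.support, r z • B z := by
          have : (Submodule.Quotient.mk s : V) =
              ((IsLocalRing.maximalIdeal A) • ⊤ : Submodule A P).mkQ s := rfl
          rw [this, map_sum]
          refine Finset.sum_congr rfl fun z _ => ?_
          rw [Submodule.mkQ_apply, hmk, he, Ideal.Quotient.mk_out]
        rw [h1]
        have h2 := B.linearCombination_repr (Submodule.Quotient.mk x)
        rw [Finsupp.linearCombination_apply] at h2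
        exact h2.symm
      have : x = s + (x - s) := by abel
      rw [this]
      exact Submodule.add_mem_sup hs hxs
    rw [eq_top_iff]
    apply Submodule.le_of_le_smul_of_le_jacobson_bot (I := IsLocalRing.maximalIdeal A)
      Module.Finite.fg_top (IsLocalRing.maximalIdeal_le_jacobson ⊥)
    rw [hsup]
  · intro i j
    show B.coord i (Submodule.Quotient.mk (e j) : V) = _
    rw [he, Module.Basis.coord_apply, Module.Basis.repr_self, Finsupp.single_apply]

end basis

section seq

variable {A B : Type u} [CommRing A] [CommRing B] [IsLocalRing A] [Algebra A B]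
  (M : Type u) [AddCommGroup M] [Module B M] [Module A M] [IsScalarTower A B M]

omit [IsLocalRing A] in
theorem mk_mem_smul_top (I : Ideal A) (n : ℕ) (a : A) (ha : a ∈ I ^ (n + 1 + 1))
    (h : a ∈ I ^ (n + 1)) :
    (⟨a, h⟩ : ↥(I ^ (n + 1))) ∈ (I • ⊤ : Submodule A ↥(I ^ (n + 1))) := by
  rw [pow_succ' I (n + 1)] at ha
  revert h
  refine Submodule.mul_induction_on'
    (C := fun r _ => ∀ h : r ∈ I ^ (n + 1), (⟨r, h⟩ : ↥(I ^ (n + 1))) ∈
      (I • ⊤ : Submodule A ↥(I ^ (n + 1)))) ?_ ?_ ha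
  · intro b hb q hq h
    have : (⟨b * q, h⟩ : ↥(I ^ (n + 1))) = b • (⟨q, hq⟩ : ↥(I ^ (n + 1))) :=
      Subtype.ext (by simp [smul_eq_mul])
    rw [this]
    exact Submodule.smul_mem_smul hb Submodule.mem_top
  · intro x hx y hy cx cy hxy
    have hx' : x ∈ I ^ (n + 1) := Ideal.mul_le_right hx
    have hy' : y ∈ I ^ (n + 1) := Ideal.mul_le_right hy
    have : (⟨x + y, hxy⟩ : ↥(I ^ (n + 1))) = ⟨x, hx'⟩ + ⟨y, hy'⟩ := rfl
    rw [this]
    exact add_mem (cx hx') (cy hy')

theorem coord_mem [Module.Flat A M] (n : ℕ) {s : ℕ}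
    (e : Fin s → ↥(IsLocalRing.maximalIdeal A ^ (n + 1)))
    (c : Fin s → ↥(IsLocalRing.maximalIdeal A ^ (n + 1)) →ₗ[A] A ⧸ IsLocalRing.maximalIdeal A)
    (hc : ∀ i j, c i (e j) = if j = i then 1 else 0)
    (w : Fin s → M)
    (hw : ∑ j, ((e j : ↥(IsLocalRing.maximalIdeal A ^ (n + 1))) : A) • w j ∈
      (IsLocalRing.maximalIdeal A ^ (n + 1 + 1) • ⊤ : Submodule A M)) :
    ∀ j, w j ∈ (IsLocalRing.maximalIdeal A • ⊤ : Submodule A M) := by
  classical
  have hex : ∀ y ∈ (IsLocalRing.maximalIdeal A ^ (n + 1 + 1) • ⊤ : Submodule A M),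
      ∃ t' : M ⊗[A] ↥((IsLocalRing.maximalIdeal A) • ⊤ :
          Submodule A ↥(IsLocalRing.maximalIdeal A ^ (n + 1))),
        TensorProduct.rid A M ((IsLocalRing.maximalIdeal A ^ (n + 1)).subtype.lTensor M
          (((IsLocalRing.maximalIdeal A) • ⊤ :
            Submodule A ↥(IsLocalRing.maximalIdeal A ^ (n + 1))).subtype.lTensor M t')) = y := by
    intro y hy
    refine Submodule.smul_induction_on hy ?_ ?_
    · intro a ha y' _
      have h : a ∈ IsLocalRing.maximalIdeal A ^ (n + 1) :=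
        Ideal.pow_le_pow_right (Nat.le_succ _) ha
      refine ⟨y' ⊗ₜ[A] ⟨⟨a, h⟩, mk_mem_smul_top _ n a ha h⟩, ?_⟩
      rw [LinearMap.lTensor_tmul, LinearMap.lTensor_tmul, TensorProduct.rid_tmul]
      rfl
    · rintro y1 y2 ⟨t1, h1⟩ ⟨t2, h2⟩
      exact ⟨t1 + t2, by rw [map_add, map_add, map_add, h1, h2]⟩
  obtain ⟨t', ht'⟩ := hex _ hw
  have hΛ : Function.Injective ((IsLocalRing.maximalIdeal A ^ (n + 1)).subtype.lTensor M) :=
    Module.Flat.lTensor_preserves_injective_linearMap _ Subtype.val_injective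
  have ht : ∑ j, w j ⊗ₜ[A] e j = ((IsLocalRing.maximalIdeal A) • ⊤ :
      Submodule A ↥(IsLocalRing.maximalIdeal A ^ (n + 1))).subtype.lTensor M t' := by
    apply hΛ
    apply (TensorProduct.rid A M).injective
    rw [ht', map_sum, map_sum]
    refine Finset.sum_congr rfl fun j _ => ?_
    rw [LinearMap.lTensor_tmul, TensorProduct.rid_tmul]
    rfl
  have hczero : ∀ (i : Fin s) (p : ↥((IsLocalRing.maximalIdeal A) • ⊤ :
      Submodule A ↥(IsLocalRing.maximalIdeal A ^ (n + 1)))), c i p.1 = 0 := by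
    intro i p
    refine Submodule.smul_induction_on p.2 ?_ ?_
    · intro a ha q _
      rw [map_smul, Algebra.smul_def, Ideal.Quotient.algebraMap_eq,
        Ideal.Quotient.eq_zero_iff_mem.2 ha, zero_mul]
    · intro q1 q2 h1 h2
      rw [map_add, h1, h2, add_zero]
  intro j
  have h1 : (c j).lTensor M (∑ l, w l ⊗ₜ[A] e l) =
      w j ⊗ₜ[A] (1 : A ⧸ IsLocalRing.maximalIdeal A) := by
    rw [map_sum, Finset.sum_eq_single j]
    · rw [LinearMap.lTensor_tmul, hc, if_pos rfl]
    · intro l _ hl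
      rw [LinearMap.lTensor_tmul, hc, if_neg hl, tmul_zero]
    · intro h
      exact absurd (Finset.mem_univ j) h
  have h2 : ∀ t' : M ⊗[A] ↥((IsLocalRing.maximalIdeal A) • ⊤ :
      Submodule A ↥(IsLocalRing.maximalIdeal A ^ (n + 1))),
      (c j).lTensor M (((IsLocalRing.maximalIdeal A) • ⊤ :
      Submodule A ↥(IsLocalRing.maximalIdeal A ^ (n + 1))).subtype.lTensor M t') = 0 := by
    intro t'
    induction t' using TensorProduct.induction_on with
    | zero => simp
    | tmul y p =>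
      rw [LinearMap.lTensor_tmul, LinearMap.lTensor_tmul, Submodule.subtype_apply, hczero,
        tmul_zero]
    | add u v hu hv => rw [map_add, map_add, hu, hv, add_zero]
  have h3 : w j ⊗ₜ[A] (1 : A ⧸ IsLocalRing.maximalIdeal A) = 0 := by
    rw [← h1, ht, h2]
  have h4 : TensorProduct.tensorQuotEquivQuotSMul M (IsLocalRing.maximalIdeal A)
      (w j ⊗ₜ[A] Ideal.Quotient.mk (IsLocalRing.maximalIdeal A) 1) = 0 := by
    have h5 := congrArg (TensorProduct.tensorQuotEquivQuotSMul M (IsLocalRing.maximalIdeal A)) h3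
    rw [map_zero] at h5
    exact h5
  rw [TensorProduct.tensorQuotEquivQuotSMul_tmul_mk, one_smul,
    Submodule.Quotient.mk_eq_zero] at h4
  exact h4

end seq

section exactSeq

variable {A : Type u} (B : Type u) [CommRing A] [CommRing B] [IsLocalRing A] [Algebra A B]
  (M : Type u) [AddCommGroup M] [Module B M] [Module A M] [IsScalarTower A B M]

/-- Multiplication by `a ∈ m^(n+1)` as a map `M/mM → M/m^(n+2)M`. -/
noncomputable def φ (n : ℕ) (a : A) (ha : a ∈ IsLocalRing.maximalIdeal A ^ (n + 1)) :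
    (M ⧸ (EGA4.mB A B • ⊤ : Submodule B M)) →ₗ[B]
      (M ⧸ ((EGA4.mB A B) ^ (n + 1 + 1) • ⊤ : Submodule B M)) :=
  Submodule.liftQ _ ((Submodule.mkQ _) ∘ₗ ((algebraMap A B a) • (LinearMap.id : M →ₗ[B] M))) (by
    intro y hy
    rw [LinearMap.mem_ker, LinearMap.comp_apply, Submodule.mkQ_apply,
      Submodule.Quotient.mk_eq_zero, LinearMap.smul_apply, LinearMap.id_apply,
      pow_succ (EGA4.mB A B) (n + 1), Submodule.mul_smul]
    refine Submodule.smul_mem_smul ?_ hy
    rw [← Ideal.map_pow]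
    exact Ideal.mem_map_of_mem _ ha)

theorem φ_mk (n : ℕ) (a : A) (ha : a ∈ IsLocalRing.maximalIdeal A ^ (n + 1)) (y : M) :
    φ B M n a ha (Submodule.Quotient.mk y) =
      (Submodule.Quotient.mk (a • y) : M ⧸ ((EGA4.mB A B) ^ (n + 1 + 1) • ⊤ : Submodule B M)) := by
  show (Submodule.Quotient.mk ((algebraMap A B a) • y) :
    M ⧸ ((EGA4.mB A B) ^ (n + 1 + 1) • ⊤ : Submodule B M)) = _
  rw [algebraMap_smul]

/-- The map `(M/mM)^s → M/m^(n+2)M`. -/
noncomputable def ι (n : ℕ) {s : ℕ} (e : Fin s → ↥(IsLocalRing.maximalIdeal A ^ (n + 1))) :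
    (Fin s → (M ⧸ (EGA4.mB A B • ⊤ : Submodule B M))) →ₗ[B]
      (M ⧸ ((EGA4.mB A B) ^ (n + 1 + 1) • ⊤ : Submodule B M)) :=
  ∑ j, (φ B M n (e j).1 (e j).2) ∘ₗ LinearMap.proj j

theorem ι_mk (n : ℕ) {s : ℕ} (e : Fin s → ↥(IsLocalRing.maximalIdeal A ^ (n + 1)))
    (w : Fin s → M) :
    ι B M n e (fun j => Submodule.Quotient.mk (w j)) =
      (Submodule.Quotient.mk (∑ j, ((e j : ↥(IsLocalRing.maximalIdeal A ^ (n + 1))) : A) • w j) :
        M ⧸ ((EGA4.mB A B) ^ (n + 1 + 1) • ⊤ : Submodule B M)) := by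
  unfold ι
  rw [LinearMap.sum_apply]
  have : (Submodule.Quotient.mk (∑ j, ((e j : ↥(IsLocalRing.maximalIdeal A ^ (n + 1))) : A) • w j) :
      M ⧸ ((EGA4.mB A B) ^ (n + 1 + 1) • ⊤ : Submodule B M)) =
      ((EGA4.mB A B) ^ (n + 1 + 1) • ⊤ : Submodule B M).mkQ
        (∑ j, ((e j : ↥(IsLocalRing.maximalIdeal A ^ (n + 1))) : A) • w j) := rfl
  rw [this, map_sum]
  refine Finset.sum_congr rfl fun j _ => ?_
  rw [LinearMap.comp_apply, LinearMap.proj_apply, φ_mk]
  rfl

omit [Module A M] [IsScalarTower A B M] in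
theorem pow_succ_smul_le (n : ℕ) :
    ((EGA4.mB A B) ^ (n + 1 + 1) • ⊤ : Submodule B M) ≤
      ((EGA4.mB A B) ^ (n + 1) • ⊤ : Submodule B M) :=
  Submodule.smul_mono_left (Ideal.pow_le_pow_right (Nat.le_succ _))

theorem ι_injective [Module.Flat A M] (n : ℕ) {s : ℕ}
    (e : Fin s → ↥(IsLocalRing.maximalIdeal A ^ (n + 1)))
    (c : Fin s → ↥(IsLocalRing.maximalIdeal A ^ (n + 1)) →ₗ[A] A ⧸ IsLocalRing.maximalIdeal A)
    (hc : ∀ i j, c i (e j) = if j = i then 1 else 0) :
    Function.Injective (ι B M n e) := by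
  rw [injective_iff_map_eq_zero]
  intro v hv
  choose w hw using fun j => Submodule.Quotient.mk_surjective _ (v j)
  have hv' : v = fun j => Submodule.Quotient.mk (w j) := funext fun j => (hw j).symm
  rw [hv', ι_mk, Submodule.Quotient.mk_eq_zero] at hv
  have h1 : ∑ j, ((e j : ↥(IsLocalRing.maximalIdeal A ^ (n + 1))) : A) • w j ∈
      (IsLocalRing.maximalIdeal A ^ (n + 1 + 1) • ⊤ : Submodule A M) := by
    apply FlatDepthH3.mem_smul_top_of_mem_map_smul_top (B := B) M
    rw [Ideal.map_pow]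
    exact hv
  have h2 := coord_mem M n e c hc w h1
  funext j
  rw [hv']
  show (Submodule.Quotient.mk (w j) : M ⧸ (EGA4.mB A B • ⊤ : Submodule B M)) = 0
  rw [Submodule.Quotient.mk_eq_zero]
  exact FlatDepthH3.mem_map_smul_top_of_mem_smul_top (B := B) M _ _ (h2 j)

theorem ι_exact (n : ℕ) {s : ℕ}
    (e : Fin s → ↥(IsLocalRing.maximalIdeal A ^ (n + 1)))
    (hspan : Submodule.span A (Set.range e) = ⊤) :
    Function.Exact (ι B M n e) (Submodule.factor (pow_succ_smul_le (A := A) B M n)) := by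
  intro y
  constructor
  · intro hy
    obtain ⟨y0, rfl⟩ := Submodule.Quotient.mk_surjective _ y
    have hy0 : y0 ∈ ((EGA4.mB A B) ^ (n + 1) • ⊤ : Submodule B M) := by
      have : (Submodule.Quotient.mk y0 : M ⧸ ((EGA4.mB A B) ^ (n + 1) • ⊤ : Submodule B M)) = 0 :=
        hy
      rwa [Submodule.Quotient.mk_eq_zero] at this
    have hy1 : y0 ∈ (IsLocalRing.maximalIdeal A ^ (n + 1) • ⊤ : Submodule A M) := by
      apply FlatDepthH3.mem_smul_top_of_mem_map_smul_top (B := B) M
      rw [Ideal.map_pow]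
      exact hy0
    have key : ∀ z ∈ (IsLocalRing.maximalIdeal A ^ (n + 1) • ⊤ : Submodule A M),
        ∃ w : Fin s → M, z = ∑ j, ((e j : ↥(IsLocalRing.maximalIdeal A ^ (n + 1))) : A) • w j := by
      intro z hz
      refine Submodule.smul_induction_on hz ?_ ?_
      · intro a ha y' _
        have hmem : (⟨a, ha⟩ : ↥(IsLocalRing.maximalIdeal A ^ (n + 1))) ∈
            Submodule.span A (Set.range e) := by
          rw [hspan]
          trivial
        obtain ⟨l, hl⟩ := (Submodule.mem_span_range_iff_exists_fun A).mp hmem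
        refine ⟨fun j => l j • y', ?_⟩
        have h1 : a = ∑ j, l j * ((e j : ↥(IsLocalRing.maximalIdeal A ^ (n + 1))) : A) := by
          have := congrArg Subtype.val hl
          simpa using this.symm
        rw [h1, Finset.sum_smul]
        refine Finset.sum_congr rfl fun j _ => ?_
        rw [mul_comm, mul_smul]
      · rintro z1 z2 ⟨w1, h1⟩ ⟨w2, h2⟩
        refine ⟨w1 + w2, ?_⟩
        rw [h1, h2, ← Finset.sum_add_distrib]
        refine Finset.sum_congr rfl fun j _ => ?_
        rw [Pi.add_apply, smul_add]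
    obtain ⟨w, hw⟩ := key y0 hy1
    exact ⟨fun j => Submodule.Quotient.mk (w j), by rw [ι_mk, hw]⟩
  · rintro ⟨v, rfl⟩
    choose w hw using fun j => Submodule.Quotient.mk_surjective _ (v j)
    have hv' : v = fun j => Submodule.Quotient.mk (w j) := funext fun j => (hw j).symm
    rw [hv', ι_mk]
    show (Submodule.Quotient.mk
      (∑ j, ((e j : ↥(IsLocalRing.maximalIdeal A ^ (n + 1))) : A) • w j) :
        M ⧸ ((EGA4.mB A B) ^ (n + 1) • ⊤ : Submodule B M)) = 0
    rw [Submodule.Quotient.mk_eq_zero]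
    refine Submodule.sum_mem _ fun j _ => ?_
    rw [← algebraMap_smul B ((e j : ↥(IsLocalRing.maximalIdeal A ^ (n + 1))) : A) (w j)]
    refine Submodule.smul_mem_smul ?_ Submodule.mem_top
    rw [← Ideal.map_pow]
    exact Ideal.mem_map_of_mem _ (e j).2

end exactSeq

section main

theorem main (A B : Type u) [CommRing A] [CommRing B]
    [IsNoetherianRing A] [IsNoetherianRing B] [IsLocalRing A] [IsLocalRing B] [Algebra A B]
    [IsLocalHom (algebraMap A B)] (J : Ideal B)
    (M : Type u) [AddCommGroup M] [Module B M] [Module A M] [IsScalarTower A B M]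
    [Module.Finite B M]
    (hU : ∀ q : PrimeSpectrum B, ¬ J ≤ q.asIdeal → FlatCA.FlatAt A q.asIdeal M)
    (h2 : 2 ≤ LocCoh.idealDepth J (EGA4.FibMod A B M)) (n : ℕ) :
    2 ≤ LocCoh.idealDepth J (M ⧸ ((EGA4.mB A B) ^ (n + 1) • (⊤ : Submodule B M))) := by
  haveI : Module.Flat A M := FlatDepthH3.main A B J M hU (le_trans (by norm_num) h2)
  induction n with
  | zero =>
    have h : (EGA4.mB A B) ^ (0 + 1) = EGA4.mB A B := by rw [zero_add, pow_one]
    rw [h]
    exact h2
  | succ n ih =>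
    obtain ⟨s, e, c, hspan, hc⟩ :=
      exists_fin_basis (A := A) ↥(IsLocalRing.maximalIdeal A ^ (n + 1))
    have h3 := (Groth.Agent.DepthLib.depth_ses J _ _ _ (ι B M n e)
      (Submodule.factor (pow_succ_smul_le B M n))
      (ι_injective B M n e c hc) (Submodule.factor_surjective _) (ι_exact B M n e hspan)).1
    refine le_trans (le_min ?_ ih) h3
    have h4 := Groth.Agent.DepthLib.le_idealDepth_pi J (EGA4.FibMod A B M) 2
      (by exact_mod_cast h2) s
    exact_mod_cast h4

end main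

end Groth.Agent.Lib.FlatDepth2H3
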