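import Mathlib
import Groth.Agent.Lib.FlatDepth2_helper3
import Groth.Agent.Lib.LocalCrit7_helper9
import Groth.Agent.Lib.LocalCrit11_helper9

set_option autoImplicit false
universe u

/-!
# Four-term exact sequences, fibre depth and flatness (helper3)
-/

namespace Groth.Agent.Lib.FlatDepth3H3

open TensorProduct

section mu

variable {A B : Type*} [CommRing A] [CommRing B] [Algebra A B] (I : Ideal A)
  (E : Type*) [AddCommGroup E] [Module B E] [Module A E] [IsScalarTower A B E]

/-- The multiplication map `E ⊗ I → E`. -/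
noncomputable def μ : E ⊗[A] ↥I →ₗ[A] E :=
  (TensorProduct.rid A E).toLinearMap ∘ₗ I.subtype.lTensor E

omit [Module B E] [IsScalarTower A B E] in
theorem μ_tmul (e : E) (a : ↥I) : μ I E (e ⊗ₜ[A] a) = (a : A) • e := by
  unfold μ
  rw [LinearMap.comp_apply, LinearMap.lTensor_tmul]
  exact TensorProduct.rid_tmul _ _

theorem μ_smul (b : B) (t : E ⊗[A] ↥I) : μ I E (b • t) = b • μ I E t := by
  induction t using TensorProduct.induction_on with
  | zero => simp
  | tmul e a => rw [TensorProduct.smul_tmul', μ_tmul, μ_tmul, smul_comm]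
  | add u w hu hw => rw [smul_add, map_add, map_add, hu, hw, smul_add]

omit [Module B E] [IsScalarTower A B E] in
theorem μ_mem (t : E ⊗[A] ↥I) : μ I E t ∈ (I • ⊤ : Submodule A E) := by
  induction t using TensorProduct.induction_on with
  | zero => rw [map_zero]; exact Submodule.zero_mem _
  | tmul e a => rw [μ_tmul]; exact Submodule.smul_mem_smul a.2 Submodule.mem_top
  | add u w hu hw => rw [map_add]; exact add_mem hu hw

omit [Module B E] [IsScalarTower A B E] in
theorem exists_μ_eq (y : E) (hy : y ∈ (I • ⊤ : Submodule A E)) : ∃ t, μ I E t = y := by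
  refine Submodule.smul_induction_on hy ?_ ?_
  · intro a ha e _
    exact ⟨e ⊗ₜ[A] ⟨a, ha⟩, μ_tmul I E e ⟨a, ha⟩⟩
  · rintro y1 y2 ⟨t1, h1⟩ ⟨t2, h2⟩
    exact ⟨t1 + t2, by rw [map_add, h1, h2]⟩

omit [Module B E] [IsScalarTower A B E] in
theorem μ_injective [Module.Flat A E] : Function.Injective (μ I E) := by
  unfold μ
  exact (TensorProduct.rid A E).injective.comp
    (Module.Flat.lTensor_preserves_injective_linearMap _ Subtype.val_injective)

variable {E} {E' : Type*} [AddCommGroup E'] [Module B E'] [Module A E'] [IsScalarTower A B E']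

theorem μ_natural (h : E →ₗ[B] E') (t : E ⊗[A] ↥I) :
    h (μ I E t) = μ I E' ((h.restrictScalars A).rTensor ↥I t) := by
  induction t using TensorProduct.induction_on with
  | zero => simp
  | tmul e a =>
    rw [LinearMap.rTensor_tmul, μ_tmul, μ_tmul]
    exact (h.restrictScalars A).map_smul _ _
  | add u w hu hw => rw [map_add, map_add, map_add, map_add, hu, hw]

theorem rTensor_smul (h : E →ₗ[B] E') (b : B) (t : E ⊗[A] ↥I) :
    (h.restrictScalars A).rTensor ↥I (b • t) = b • (h.restrictScalars A).rTensor ↥I t := by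
  induction t using TensorProduct.induction_on with
  | zero => simp
  | tmul e a =>
    rw [TensorProduct.smul_tmul', LinearMap.rTensor_tmul, LinearMap.rTensor_tmul,
      TensorProduct.smul_tmul']
    congr 1
    exact h.map_smul b e
  | add u w hu hw => rw [smul_add, map_add, map_add, hu, hw, smul_add]

end mu

section lemmaT

variable {A B : Type*} [CommRing A] [CommRing B] [Algebra A B] (I : Ideal A)
  {K E Q : Type*} [AddCommGroup K] [Module B K] [Module A K] [IsScalarTower A B K]
  [AddCommGroup E] [Module B E] [Module A E] [IsScalarTower A B E]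
  [AddCommGroup Q] [Module B Q] [Module A Q] [IsScalarTower A B Q]

/-- Lemma T: `Tor₁(A/I, Q) = 0` when `Q = E/K` with `E` flat, `Q` flat off `V(r)` and `r` regular
on `K/IK`. -/
theorem lTensor_injective_of_regular (i : K →ₗ[B] E) (g : E →ₗ[B] Q)
    (hi : Function.Injective i) (hex : Function.Exact i g) (hg : Function.Surjective g)
    [Module.Flat A E] (r : B)
    (hQ : ∀ (q : Ideal B) [q.IsPrime], r ∉ q → Module.Flat A (LocalizedModule q.primeCompl Q))
    (hreg : IsSMulRegular (K ⧸ (I.map (algebraMap A B) • ⊤ : Submodule B K)) r) :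
    Function.Injective (I.subtype.lTensor Q) := by
  rw [injective_iff_map_eq_zero]
  intro x hx
  obtain ⟨k, hk⟩ := FlatDepthH3.exists_pow_smul_eq_zero Q r hQ I.subtype Subtype.val_injective x hx
  have hμx : μ I Q x = 0 := by
    unfold μ
    rw [LinearMap.comp_apply, hx, map_zero]
  have hs : Function.Surjective ((g.restrictScalars A).rTensor ↥I) :=
    LinearMap.rTensor_surjective (↥I) (g := g.restrictScalars A) hg
  obtain ⟨x', rfl⟩ := hs x
  obtain ⟨y, hy⟩ : ∃ y : K, i y = μ I E x' := by
    apply (hex (μ I E x')).1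
    rw [μ_natural I g x', hμx]
  have hexT : Function.Exact ((i.restrictScalars A).rTensor ↥I) ((g.restrictScalars A).rTensor ↥I) :=
    rTensor_exact (↥I) (f := i.restrictScalars A) (g := g.restrictScalars A) hex hg
  obtain ⟨w, hw⟩ : ∃ w : K ⊗[A] ↥I, (i.restrictScalars A).rTensor ↥I w = r ^ k • x' := by
    apply (hexT (r ^ k • x')).1
    rw [rTensor_smul, hk]
  have h1 : r ^ k • y = μ I K w := by
    apply hi
    rw [map_smul, hy, ← μ_smul, ← hw, μ_natural I i w]
  have h2 : r ^ k • y ∈ (I.map (algebraMap A B) • ⊤ : Submodule B K) := by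
    rw [h1]
    exact FlatDepthH3.mem_map_smul_top_of_mem_smul_top (B := B) K I _ (μ_mem I K w)
  have h3 : (Submodule.Quotient.mk y : K ⧸ (I.map (algebraMap A B) • ⊤ : Submodule B K)) = 0 := by
    apply hreg.pow k
    show r ^ k • (Submodule.Quotient.mk y :
      K ⧸ (I.map (algebraMap A B) • ⊤ : Submodule B K)) = r ^ k • 0
    rw [← Submodule.Quotient.mk_smul, smul_zero, Submodule.Quotient.mk_eq_zero]
    exact h2
  rw [Submodule.Quotient.mk_eq_zero] at h3
  obtain ⟨w', hw'⟩ := exists_μ_eq I K y
    (FlatDepthH3.mem_smul_top_of_mem_map_smul_top K I y h3)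
  have h4 : x' = (i.restrictScalars A).rTensor ↥I w' := by
    apply μ_injective I E
    rw [← μ_natural I i w', hw', hy]
  rw [h4]
  exact (hexT _).2 ⟨w', rfl⟩

end lemmaT


section localize

variable {A B : Type*} [CommRing A] [CommRing B] [Algebra A B]

/-- Localisations of an `A`-flat `B`-module are `A`-flat. -/
theorem flat_localizedModule (T : Submonoid B) (M : Type*) [AddCommGroup M] [Module B M]
    [Module A M] [IsScalarTower A B M] [Module.Flat A M] :
    Module.Flat A (LocalizedModule T M) := by
  rw [Module.Flat.iff_lTensor_injective']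
  intro I
  exact Groth.Agent.Lib.LocalCrit7.lTensor_localizedModule_injective T M I.subtype
    (Module.Flat.lTensor_preserves_injective_linearMap _ Subtype.val_injective)

end localize

section loc

variable {A B : Type u} [CommRing A] [CommRing B] [Algebra A B]
  {K E Q : Type u} [AddCommGroup K] [Module B K] [Module A K] [IsScalarTower A B K]
  [AddCommGroup E] [Module B E] [Module A E] [IsScalarTower A B E]
  [AddCommGroup Q] [Module B Q] [Module A Q] [IsScalarTower A B Q]

/-- Lemma Loc: in `0 → K → E → Q → 0` with `E` flat and `Q_T` flat, `K_T` is flat. -/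
theorem flat_localized_ker (i : K →ₗ[B] E) (g : E →ₗ[B] Q)
    (hi : Function.Injective i) (hex : Function.Exact i g) (hg : Function.Surjective g)
    [Module.Flat A E] (T : Submonoid B) (hQ : Module.Flat A (LocalizedModule T Q)) :
    Module.Flat A (LocalizedModule T K) := by
  haveI := hQ
  haveI : Module.Flat A (LocalizedModule T E) := flat_localizedModule (A := A) T E
  have hi' := IsLocalizedModule.map_injective T (LocalizedModule.mkLinearMap T K)
    (LocalizedModule.mkLinearMap T E) i hi
  have hg' := IsLocalizedModule.map_surjective T (LocalizedModule.mkLinearMap T E)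
    (LocalizedModule.mkLinearMap T Q) g hg
  have hex' := LocalizedModule.map_exact T i g hex
  exact Groth.Agent.Lib.LocalCrit11.flat_of_exact_of_flat
    ((IsLocalizedModule.map T (LocalizedModule.mkLinearMap T K)
      (LocalizedModule.mkLinearMap T E) i).restrictScalars A)
    ((IsLocalizedModule.map T (LocalizedModule.mkLinearMap T E)
      (LocalizedModule.mkLinearMap T Q) g).restrictScalars A) hi' hex' hg'

end loc

section bar

variable (A : Type*) {B : Type u} [CommRing A] [IsLocalRing A] [CommRing B] [Algebra A B]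
  {K E Q : Type u} [AddCommGroup K] [Module B K] [Module A K] [IsScalarTower A B K]
  [AddCommGroup E] [Module B E] [Module A E] [IsScalarTower A B E]
  [AddCommGroup Q] [Module B Q] [Module A Q] [IsScalarTower A B Q]

omit [Module A K] [IsScalarTower A B K] [Module A E] [IsScalarTower A B E] in
theorem bar_le (h : K →ₗ[B] E) :
    (EGA4.mB A B • (⊤ : Submodule B K)) ≤ (EGA4.mB A B • (⊤ : Submodule B E)).comap h := by
  rw [Submodule.smul_le]
  intro b hb k _
  rw [Submodule.mem_comap, map_smul]
  exact Submodule.smul_mem_smul hb Submodule.mem_top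

/-- The map induced on closed fibres. -/
noncomputable def bar (h : K →ₗ[B] E) : EGA4.FibMod A B K →ₗ[B] EGA4.FibMod A B E :=
  Submodule.mapQ _ _ h (bar_le A h)

omit [Module A K] [IsScalarTower A B K] [Module A E] [IsScalarTower A B E] in
theorem bar_mk (h : K →ₗ[B] E) (k : K) :
    bar A h (Submodule.Quotient.mk k : EGA4.FibMod A B K) =
      (Submodule.Quotient.mk (h k) : EGA4.FibMod A B E) := rfl

omit [Module A K] [IsScalarTower A B K] [Module A E] [IsScalarTower A B E] in
theorem bar_surjective (h : K →ₗ[B] E) (hh : Function.Surjective h) :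
    Function.Surjective (bar A h) := by
  intro y
  obtain ⟨e, rfl⟩ := Submodule.Quotient.mk_surjective _ y
  obtain ⟨k, rfl⟩ := hh e
  exact ⟨Submodule.Quotient.mk k, rfl⟩

/-- Right exactness of the closed-fibre functor. -/
theorem bar_exact (i : K →ₗ[B] E) (g : E →ₗ[B] Q)
    (hex : Function.Exact i g) (hg : Function.Surjective g) :
    Function.Exact (bar A i) (bar A g) := by
  intro y
  obtain ⟨e, rfl⟩ := Submodule.Quotient.mk_surjective _ y
  constructor
  · intro h0
    rw [bar_mk, Submodule.Quotient.mk_eq_zero] at h0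
    have h1 : g e ∈ (IsLocalRing.maximalIdeal A • ⊤ : Submodule A Q) :=
      FlatDepthH3.mem_smul_top_of_mem_map_smul_top Q (IsLocalRing.maximalIdeal A) (g e) h0
    have h2 : (IsLocalRing.maximalIdeal A • ⊤ : Submodule A Q) =
        (IsLocalRing.maximalIdeal A • ⊤ : Submodule A E).map (g.restrictScalars A) := by
      rw [Submodule.map_smul'', Submodule.map_top, LinearMap.range_eq_top.2]
      exact hg
    rw [h2] at h1
    obtain ⟨e', he', hge'⟩ := h1
    have h3 : g (e - e') = 0 := by
      rw [map_sub, sub_eq_zero]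
      exact hge'.symm
    obtain ⟨k, hk⟩ := (hex (e - e')).1 h3
    refine ⟨Submodule.Quotient.mk k, ?_⟩
    rw [bar_mk, hk, Submodule.Quotient.mk_sub, sub_eq_self, Submodule.Quotient.mk_eq_zero]
    exact FlatDepthH3.mem_map_smul_top_of_mem_smul_top (B := B) E (IsLocalRing.maximalIdeal A) e' he'
  · rintro ⟨z, hz⟩
    obtain ⟨k, rfl⟩ := Submodule.Quotient.mk_surjective _ z
    rw [← hz, bar_mk, bar_mk, hex.apply_apply_eq_zero]
    exact Submodule.Quotient.mk_zero _

/-- Lemma Bar: if `Q` is flat, the closed-fibre sequence is left exact as well. -/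
theorem bar_injective (i : K →ₗ[B] E) (g : E →ₗ[B] Q)
    (hi : Function.Injective i) (hex : Function.Exact i g) (hg : Function.Surjective g)
    [Module.Flat A Q] : Function.Injective (bar A i) := by
  rw [injective_iff_map_eq_zero]
  intro y hy
  obtain ⟨k, rfl⟩ := Submodule.Quotient.mk_surjective _ y
  rw [bar_mk, Submodule.Quotient.mk_eq_zero] at hy
  rw [Submodule.Quotient.mk_eq_zero]
  have h1 : i k ∈ (IsLocalRing.maximalIdeal A • ⊤ : Submodule A E) :=
    FlatDepthH3.mem_smul_top_of_mem_map_smul_top E (IsLocalRing.maximalIdeal A) (i k) hy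
  have h2 : i k ∈ LinearMap.ker (g.restrictScalars A) := by
    rw [LinearMap.mem_ker]
    exact hex.apply_apply_eq_zero k
  have h3 : i k ∈ IsLocalRing.maximalIdeal A • LinearMap.ker (g.restrictScalars A) := by
    rw [← LinearMap.ker_inf_smul_top_eq_smul_of_flat (IsLocalRing.maximalIdeal A)
      (g.restrictScalars A) hg]
    exact ⟨h2, h1⟩
  have key : ∀ y ∈ IsLocalRing.maximalIdeal A • LinearMap.ker (g.restrictScalars A),
      ∃ k' ∈ (IsLocalRing.maximalIdeal A • ⊤ : Submodule A K), i k' = y := by
    intro y hy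
    refine Submodule.smul_induction_on hy ?_ ?_
    · intro a ha e he
      rw [LinearMap.mem_ker] at he
      obtain ⟨k0, hk0⟩ := (hex e).1 he
      refine ⟨a • k0, Submodule.smul_mem_smul ha Submodule.mem_top, ?_⟩
      rw [← hk0]
      exact (i.restrictScalars A).map_smul a k0
    · rintro y1 y2 ⟨k1, hk1, h1⟩ ⟨k2, hk2, h2⟩
      exact ⟨k1 + k2, add_mem hk1 hk2, by rw [map_add, h1, h2]⟩
  obtain ⟨k', hk', hik'⟩ := key _ h3
  have : k' = k := hi hik'
  rw [← this]
  exact FlatDepthH3.mem_map_smul_top_of_mem_smul_top (B := B) K (IsLocalRing.maximalIdeal A) k' hk'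

end bar

section local_crit

variable {A B : Type u} [CommRing A] [CommRing B] [IsNoetherianRing A] [IsNoetherianRing B]
  [IsLocalRing A] [IsLocalRing B] [Algebra A B] [IsLocalHom (algebraMap A B)]

/-- Lemma T': the local criterion in `Tor₁(A/m, Q) = 0` form. -/
theorem flat_of_lTensor_injective (Q : Type u) [AddCommGroup Q] [Module B Q] [Module A Q]
    [IsScalarTower A B Q] [Module.Finite B Q]
    (h : Function.Injective ((IsLocalRing.maximalIdeal A).subtype.lTensor Q)) :
    Module.Flat A Q := by
  letI : Field (A ⧸ IsLocalRing.maximalIdeal A) := Ideal.Quotient.field _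
  have hI : (IsLocalRing.maximalIdeal A).map (algebraMap A B) ≤ Ideal.jacobson ⊥ :=
    (IsLocalRing.map_maximalIdeal_le (algebraMap A B)).trans
      (IsLocalRing.maximalIdeal_le_jacobson ⊥)
  refine Groth.Agent.Lib.LocalCrit3.flat_of_tor_of_flat_quot (IsLocalRing.maximalIdeal A) hI Q ?_
  rw [← LinearMap.lTensor_inj_iff_rTensor_inj]
  exact h

variable {K E Q : Type u} [AddCommGroup K] [Module B K] [Module A K] [IsScalarTower A B K]
  [AddCommGroup E] [Module B E] [Module A E] [IsScalarTower A B E]
  [AddCommGroup Q] [Module B Q] [Module A Q] [IsScalarTower A B Q] [Module.Finite B Q]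

/-- Lemma TT: `Q = E/K` is flat when `E` is flat, `Q` is flat off `V(r)` and `r` is regular on the
closed fibre of `K`. -/
theorem flat_of_ses_of_regular (i : K →ₗ[B] E) (g : E →ₗ[B] Q)
    (hi : Function.Injective i) (hex : Function.Exact i g) (hg : Function.Surjective g)
    [Module.Flat A E] (r : B)
    (hQ : ∀ (q : Ideal B) [q.IsPrime], r ∉ q → Module.Flat A (LocalizedModule q.primeCompl Q))
    (hreg : IsSMulRegular (EGA4.FibMod A B K) r) : Module.Flat A Q :=
  flat_of_lTensor_injective (B := B) Q
    (lTensor_injective_of_regular (IsLocalRing.maximalIdeal A) i g hi hex hg r hQ hreg)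

/-- Flatness at the maximal ideal of a local ring is flatness. -/
theorem flat_of_flatAt_maximal (M : Type u) [AddCommGroup M] [Module B M] [Module A M]
    [IsScalarTower A B M]
    (h : Module.Flat A (LocalizedModule (IsLocalRing.maximalIdeal B).primeCompl M)) :
    Module.Flat A M := by
  haveI := h
  haveI : IsLocalization (IsLocalRing.maximalIdeal B).primeCompl B :=
    IsLocalization.of_le_isUnit (fun s hs => by
      have : s ∉ IsLocalRing.maximalIdeal B := hs
      rw [IsLocalRing.mem_maximalIdeal, mem_nonunits_iff, not_not] at this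
      exact this)
  haveI := isLocalizedModule_id (IsLocalRing.maximalIdeal B).primeCompl M B
  exact Module.Flat.of_linearEquiv
    ((IsLocalizedModule.iso (IsLocalRing.maximalIdeal B).primeCompl
      (LinearMap.id : M →ₗ[B] M)).restrictScalars A).symm

omit [IsNoetherianRing B] in
/-- A regular element in `J` from `1 ≤ depth_J N`. -/
theorem exists_regular (J : Ideal B) (hJ : J ≤ Ideal.jacobson ⊥) (N : Type u) [AddCommGroup N]
    [Module B N] [Module.Finite B N] (h : 1 ≤ LocCoh.idealDepth J N) :
    ∃ r ∈ J, IsSMulRegular N r := by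
  rcases (Groth.Agent.DepthLib.one_le_idealDepth_iff J N).1 h with htop | ⟨x, hx, hreg⟩
  · have hbot : (⊤ : Submodule B N) = ⊥ :=
      Submodule.eq_bot_of_le_smul_of_le_jacobson_bot J ⊤ Module.Finite.fg_top
        (by rw [htop]) hJ
    refine ⟨0, J.zero_mem, ?_⟩
    intro a b _
    have ha : a ∈ (⊥ : Submodule B N) := hbot ▸ Submodule.mem_top
    have hb : b ∈ (⊥ : Submodule B N) := hbot ▸ Submodule.mem_top
    rw [Submodule.mem_bot] at ha hb
    rw [ha, hb]
  · exact ⟨x, hx, hreg⟩

end local_crit

theorem one_le_sub_one {d : ℕ∞} (h : 2 ≤ d) : 1 ≤ d - 1 := by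
  induction d using ENat.recTopCoe with
  | top => simp
  | coe n =>
    have hn : 2 ≤ n := by exact_mod_cast h
    have h1 : ((n - 1 : ℕ) : ℕ∞) = (n : ℕ∞) - 1 := by simp
    rw [← h1]
    exact_mod_cast (by omega : 1 ≤ n - 1)

section core

variable (A B : Type u) [CommRing A] [CommRing B]
    [IsNoetherianRing A] [IsNoetherianRing B] [IsLocalRing A] [IsLocalRing B] [Algebra A B]
    [IsLocalHom (algebraMap A B)] (J : Ideal B)

theorem core
    (F E0 Im E1 G : Type u) [AddCommGroup F] [Module B F] [Module A F] [IsScalarTower A B F]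
    [Module.Finite B F]
    [AddCommGroup E0] [Module B E0] [Module A E0] [IsScalarTower A B E0] [Module.Finite B E0]
    [Module.Flat A E0]
    [AddCommGroup Im] [Module B Im] [Module A Im] [IsScalarTower A B Im] [Module.Finite B Im]
    [AddCommGroup E1] [Module B E1] [Module A E1] [IsScalarTower A B E1] [Module.Finite B E1]
    [Module.Flat A E1]
    [AddCommGroup G] [Module B G] [Module A G] [IsScalarTower A B G] [Module.Finite B G]
    (f : F →ₗ[B] E0) (p : E0 →ₗ[B] Im) (j : Im →ₗ[B] E1) (v : E1 →ₗ[B] G)
    (hf : Function.Injective f) (hfp : Function.Exact f p) (hp : Function.Surjective p)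
    (hj : Function.Injective j) (hjv : Function.Exact j v) (hv : Function.Surjective v)
    (hGU : ∀ q : PrimeSpectrum B, ¬ J ≤ q.asIdeal → FlatCA.FlatAt A q.asIdeal G)
    (h0 : 2 ≤ LocCoh.idealDepth J (EGA4.FibMod A B E0))
    (h1 : 1 ≤ LocCoh.idealDepth J (EGA4.FibMod A B E1)) :
    (2 ≤ LocCoh.idealDepth J (EGA4.FibMod A B F) ↔ Module.Flat A G) ∧
    (Module.Flat A G → Module.Flat A F) := by
  have hImflat : Module.Flat A G → Module.Flat A Im := fun hG => by
    haveI := hG
    exact Groth.Agent.Lib.LocalCrit11.flat_of_exact_of_flat (j.restrictScalars A)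
      (v.restrictScalars A) hj hjv hv
  have hFflat : Module.Flat A Im → Module.Flat A F := fun hI => by
    haveI := hI
    exact Groth.Agent.Lib.LocalCrit11.flat_of_exact_of_flat (f.restrictScalars A)
      (p.restrictScalars A) hf hfp hp
  refine ⟨⟨fun h2 => ?_, fun hG => ?_⟩, fun hG => hFflat (hImflat hG)⟩
  · -- depth ≥ 2 ⇒ flat
    by_cases hJ : J = ⊤
    · have h := hGU ⟨IsLocalRing.maximalIdeal B, inferInstance⟩ (by
        rw [hJ]
        intro h
        exact (IsLocalRing.maximalIdeal.isMaximal B).ne_top (top_le_iff.mp h))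
      exact flat_of_flatAt_maximal G h
    have hJm : J ≤ Ideal.jacobson ⊥ :=
      (IsLocalRing.le_maximalIdeal hJ).trans (IsLocalRing.maximalIdeal_le_jacobson ⊥)
    obtain ⟨r, hrJ, hreg⟩ := exists_regular J hJm (EGA4.FibMod A B F)
      (le_trans (by norm_num) h2)
    have hImU : ∀ (q : Ideal B) [q.IsPrime], ¬ J ≤ q →
        Module.Flat A (LocalizedModule q.primeCompl Im) := by
      intro q _ hq
      exact flat_localized_ker j v hj hjv hv q.primeCompl (hGU ⟨q, inferInstance⟩ hq)
    haveI hIm : Module.Flat A Im :=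
      flat_of_ses_of_regular f p hf hfp hp r
        (fun q _ hrq => hImU q (fun hJq => hrq (hJq hrJ))) hreg
    have hses := (Groth.Agent.DepthLib.depth_ses J (EGA4.FibMod A B F) (EGA4.FibMod A B E0)
      (EGA4.FibMod A B Im) (bar A f) (bar A p) (bar_injective A f p hf hfp hp)
      (bar_surjective A p hp) (bar_exact A f p hfp hp)).2.1
    have h1Im : 1 ≤ LocCoh.idealDepth J (EGA4.FibMod A B Im) :=
      le_trans (le_min (le_trans (by norm_num) h0) (one_le_sub_one h2)) hses
    obtain ⟨r', hr'J, hreg'⟩ := exists_regular J hJm (EGA4.FibMod A B Im) h1Im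
    exact flat_of_ses_of_regular j v hj hjv hv r'
      (fun q _ hrq => hGU ⟨q, inferInstance⟩ (fun hJq => hrq (hJq hr'J))) hreg'
  · -- flat ⇒ depth ≥ 2
    haveI := hG
    haveI hIm : Module.Flat A Im := hImflat hG
    have hfb := bar_injective A f p hf hfp hp
    have hfpb := bar_exact A f p hfp hp
    have hjb := bar_injective A j v hj hjv hv
    have hex : Function.Exact (bar A f) ((bar A j) ∘ₗ (bar A p)) := by
      intro y
      rw [LinearMap.comp_apply, ← hfpb y]
      constructor
      · intro h
        apply hjb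
        rw [h, map_zero]
      · intro h
        rw [h, map_zero]
    exact (Groth.Agent.DepthLib.idealDepth_of_leftExact J (EGA4.FibMod A B F)
      (EGA4.FibMod A B E0) (EGA4.FibMod A B E1) (bar A f) ((bar A j) ∘ₗ (bar A p)) hfb hex).2 h0 h1

theorem main
    (F E0 E1 G : Type u) [AddCommGroup F] [Module B F] [Module A F] [IsScalarTower A B F]
    [Module.Finite B F]
    [AddCommGroup E0] [Module B E0] [Module A E0] [IsScalarTower A B E0] [Module.Finite B E0]
    [Module.Flat A E0]
    [AddCommGroup E1] [Module B E1] [Module A E1] [IsScalarTower A B E1] [Module.Finite B E1]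
    [Module.Flat A E1]
    [AddCommGroup G] [Module B G] [Module A G] [IsScalarTower A B G] [Module.Finite B G]
    (f : F →ₗ[B] E0) (u : E0 →ₗ[B] E1) (v : E1 →ₗ[B] G)
    (hf : Function.Injective f) (hfu : Function.Exact f u) (huv : Function.Exact u v)
    (hv : Function.Surjective v)
    (hGU : ∀ q : PrimeSpectrum B, ¬ J ≤ q.asIdeal → FlatCA.FlatAt A q.asIdeal G)
    (h0 : 2 ≤ LocCoh.idealDepth J (EGA4.FibMod A B E0))
    (h1 : 1 ≤ LocCoh.idealDepth J (EGA4.FibMod A B E1)) :
    (2 ≤ LocCoh.idealDepth J (EGA4.FibMod A B F) ↔ Module.Flat A G) ∧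
    (Module.Flat A G ↔ ∀ n : ℕ, 2 ≤ LocCoh.idealDepth J
      (F ⧸ ((EGA4.mB A B) ^ (n + 1) • (⊤ : Submodule B F)))) ∧
    (Module.Flat A G → Module.Flat A F) := by
  haveI : IsNoetherian B E1 := isNoetherian_of_isNoetherianRing_of_finite B E1
  have hfp : Function.Exact f u.rangeRestrict := by
    intro x
    rw [← hfu x]
    constructor
    · intro hx
      have := congrArg Subtype.val hx
      simpa using this
    · intro hx
      apply Subtype.ext
      simpa using hx
  have hjv : Function.Exact (LinearMap.range u).subtype v := by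
    intro y
    rw [huv y]
    constructor
    · rintro ⟨x, rfl⟩
      exact ⟨⟨u x, ⟨x, rfl⟩⟩, rfl⟩
    · rintro ⟨⟨_, ⟨x, rfl⟩⟩, rfl⟩
      exact ⟨x, rfl⟩
  obtain ⟨ha, hc⟩ := core A B J F E0 (LinearMap.range u) E1 G f u.rangeRestrict
    (LinearMap.range u).subtype v hf hfp u.surjective_rangeRestrict
    (Submodule.injective_subtype _) hjv hv hGU h0 h1
  refine ⟨ha, ⟨fun hG n => ?_, fun h => ?_⟩, hc⟩
  · haveI : Module.Flat A F := hc hG
    refine FlatDepth2H3.main A B J F (fun q _ => ?_) (ha.2 hG) n
    exact flat_localizedModule (A := A) q.asIdeal.primeCompl F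
  · apply ha.1
    have h2 := h 0
    have hpow : (EGA4.mB A B) ^ (0 + 1) = EGA4.mB A B := by rw [zero_add, pow_one]
    rw [hpow] at h2
    exact h2

end core

end Groth.Agent.Lib.FlatDepth3H3
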