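import Mathlib
import Groth.Prelude.Def_CAlg
import Groth.Prelude.Def_EGA4b
import Groth.Agent.Lib.Depth_helper5
import Groth.Agent.Lib.DepthLoc_helper5
import Groth.Agent.Lib.DepthTensor_helper5
import Groth.Agent.Lib.FlatDepth3_helper3

/-!
# Depth of a flat module vs. depth of its fibre stalks (helper3)
-/

set_option autoImplicit false
universe u

namespace Groth.Agent.Lib.FibDepthH3

open RingTheory.Sequence Pointwise Groth.Agent.DepthLib TensorProduct

section surj

/-- lifting a list along a surjection, staying inside an ideal -/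
theorem exists_lift_list {S T : Type u} [CommRing S] [CommRing T] (φ : S →+* T)
    (hφ : Function.Surjective φ) (I : Ideal S) :
    ∀ ts : List T, (∀ t ∈ ts, t ∈ I.map φ) → ∃ ss : List S, ss.map φ = ts ∧ ∀ s ∈ ss, s ∈ I := by
  intro ts
  induction ts with
  | nil => intro _; exact ⟨[], rfl, by simp⟩
  | cons t ts ih =>
    intro h
    obtain ⟨ss, h1, h2⟩ := ih (fun t' ht' => h t' (List.mem_cons_of_mem _ ht'))
    obtain ⟨s, hs, hst⟩ := (Ideal.mem_map_iff_of_surjective φ hφ).1 (h t List.mem_cons_self)
    refine ⟨s :: ss, by simp [h1, hst], ?_⟩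
    intro s' hs'
    rcases List.mem_cons.1 hs' with rfl | h'
    · exact hs
    · exact h2 s' h'

/-- depth over a quotient ring is at most the depth over the ring -/
theorem idealDepth_map_le_of_surjective {S T : Type u} [CommRing S] [CommRing T] (φ : S →+* T)
    (hφ : Function.Surjective φ) (M : Type u) [AddCommGroup M] [Module S M] [Module T M]
    (hsm : ∀ (s : S) (m : M), φ s • m = s • m) (I : Ideal S) :
    LocCoh.idealDepth (I.map φ) M ≤ LocCoh.idealDepth I M := by
  letI : Algebra S T := φ.toAlgebra
  haveI : IsScalarTower S T M := IsScalarTower.of_algebraMap_smul hsm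
  rw [← ENat.forall_natCast_le_iff_le]
  intro n hn
  rw [le_idealDepth_iff] at hn ⊢
  rcases hn with h | ⟨ts, h1, h2, h3⟩
  · left
    rw [eq_top_iff]
    intro m _
    have hm : m ∈ (I.map φ) • (⊤ : Submodule T M) := by rw [h]; trivial
    refine Submodule.smul_induction_on hm ?_ ?_
    · intro t ht m' _
      obtain ⟨s, hs, rfl⟩ := (Ideal.mem_map_iff_of_surjective φ hφ).1 ht
      rw [hsm]
      exact Submodule.smul_mem_smul hs trivial
    · intro x y hx hy
      exact Submodule.add_mem _ hx hy
  · right
    obtain ⟨ss, hss, hssI⟩ := exists_lift_list φ hφ I ts h2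
    refine ⟨ss, ?_, hssI, ?_⟩
    · have : ts = ss.map (algebraMap S T) := hss.symm
      rw [this] at h1
      exact (isWeaklyRegular_map_algebraMap_iff (S := T) (M := M) ss).1 h1
    · rw [← h3, ← hss, List.length_map]

end surj

section fib

variable (A B : Type u) [CommRing A] [CommRing B] [IsNoetherianRing A] [IsNoetherianRing B]
  [Algebra A B] (q : Ideal B) [q.IsPrime]
  (E : Type u) [AddCommGroup E] [Module B E] [Module A E] [IsScalarTower A B E]
  [Module.Finite B E] [Module.Flat A E]

/-- the depth of the stalk of a flat module is at least the depth of its fibre stalk -/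
theorem fibDepth_le :
    LocCoh.idealDepth (q.map (algebraMap B (EGA4.FibLocRing A B q))) (EGA4.FibLocMod A B q E) ≤
      LocCoh.depth (Localization.AtPrime q) (LocalizedModule q.primeCompl E) := by
  set p : Ideal A := q.comap (algebraMap A B) with hp
  haveI : p.IsPrime := Ideal.comap_isPrime _ _
  set R := Localization.AtPrime p with hR
  set S := Localization.AtPrime q with hS
  set N := LocalizedModule q.primeCompl E with hN
  letI algRS : Algebra R S := (Localization.localRingHom p q (algebraMap A B) rfl).toAlgebra
  haveI : IsLocalHom (algebraMap R S) := Localization.isLocalHom_localRingHom p q _ rfl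
  have hcomp : (algebraMap R S).comp (algebraMap A R) = algebraMap A S := by
    ext a
    change Localization.localRingHom p q (algebraMap A B) rfl (algebraMap A R a) = _
    rw [Localization.localRingHom_to_map]
    exact (IsScalarTower.algebraMap_apply A B S a).symm
  haveI : IsScalarTower A R S := IsScalarTower.of_algebraMap_eq' hcomp.symm
  letI modRN : Module R N := Module.compHom N (algebraMap R S)
  haveI : IsScalarTower R S N := IsScalarTower.of_algebraMap_smul fun _ _ => rfl
  haveI : IsScalarTower A R N := by
    refine IsScalarTower.of_algebraMap_smul fun a n => ?_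
    change algebraMap R S (algebraMap A R a) • n = a • n
    have : algebraMap R S (algebraMap A R a) = algebraMap A S a := by
      rw [← hcomp]; rfl
    rw [this, algebraMap_smul]
  haveI : Module.Flat A N := Groth.Agent.Lib.FlatDepth3H3.flat_localizedModule q.primeCompl E
  haveI : Module.Flat R N := (Module.flat_iff_of_isLocalization R p.primeCompl N).2 inferInstance
  haveI : Module.Finite S N := inferInstance
  -- depth of tensor
  have h1 := Groth.Agent.DepthTensor.depth_tensor (R := R) (S := S) R N
  have e1 : N ⊗[R] R ≃ₗ[S] N := TensorProduct.AlgebraTensorModule.rid R S N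
  have h2 : LocCoh.depth S (N ⊗[R] R) = LocCoh.depth S N := by
    unfold LocCoh.depth
    exact idealDepth_congr _ _ e1
  have h3 : LocCoh.depth S (Groth.Agent.DepthTensor.Fib R S N) ≤ LocCoh.depth S N := by
    rw [← h2, h1]
    exact le_add_self
  -- identify the fibre
  have hideal : (IsLocalRing.maximalIdeal R).map (algebraMap R S) =
      p.map (algebraMap A S) := by
    rw [← Localization.AtPrime.map_eq_maximalIdeal, Ideal.map_map, hcomp]
  have e2 : Groth.Agent.DepthTensor.Fib R S N ≃ₗ[S] EGA4.FibLocMod A B q E :=
    Submodule.quotEquivOfEq _ _ (by rw [hideal])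
  have h4 : LocCoh.depth S (Groth.Agent.DepthTensor.Fib R S N) =
      LocCoh.idealDepth (IsLocalRing.maximalIdeal S) (EGA4.FibLocMod A B q E) := by
    unfold LocCoh.depth
    exact idealDepth_congr _ _ e2
  -- pass to the quotient ring
  have h5 := idealDepth_map_le_of_surjective
    (Ideal.Quotient.mk (p.map (algebraMap A S))) Ideal.Quotient.mk_surjective
    (EGA4.FibLocMod A B q E) (fun _ _ => rfl) (IsLocalRing.maximalIdeal S)
  have h6 : (IsLocalRing.maximalIdeal S).map (Ideal.Quotient.mk (p.map (algebraMap A S))) =
      q.map (algebraMap B (EGA4.FibLocRing A B q)) := by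
    rw [← Localization.AtPrime.map_eq_maximalIdeal, Ideal.map_map]
    rfl
  rw [h6] at h5
  exact h5.trans (h4 ▸ h3)

end fib

section main

/-- fibrewise depth bound gives global `J`-depth bound -/
theorem le_idealDepth_of_fib (A B : Type u) [CommRing A] [CommRing B] [IsNoetherianRing A]
    [IsNoetherianRing B] [Algebra A B] (J : Ideal B)
    (E : Type u) [AddCommGroup E] [Module B E] [Module A E] [IsScalarTower A B E]
    [Module.Finite B E] [Module.Flat A E] (n : ℕ)
    (h : ∀ q : PrimeSpectrum B, J ≤ q.asIdeal →
      (n : ℕ∞) ≤ LocCoh.idealDepth (q.asIdeal.map (algebraMap B (EGA4.FibLocRing A B q.asIdeal)))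
        (EGA4.FibLocMod A B q.asIdeal E)) :
    (n : ℕ∞) ≤ LocCoh.idealDepth J E := by
  apply le_idealDepth_of_forall_localization J n E
  intro q hq hJq
  exact (h ⟨q, hq⟩ hJq).trans (fibDepth_le A B q E)

theorem main18707 (A B : Type u) [CommRing A] [CommRing B]
    [IsNoetherianRing A] [IsNoetherianRing B] [Algebra A B] (J : Ideal B)
    (F E0 E1 : Type u) [AddCommGroup F] [Module B F] [Module.Finite B F]
    [AddCommGroup E0] [Module B E0] [Module A E0] [IsScalarTower A B E0] [Module.Finite B E0]
    [Module.Flat A E0]
    [AddCommGroup E1] [Module B E1] [Module A E1] [IsScalarTower A B E1] [Module.Finite B E1]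
    [Module.Flat A E1]
    (f : F →ₗ[B] E0) (u : E0 →ₗ[B] E1)
    (hf : Function.Injective f) (hfu : Function.Exact f u)
    (h0 : ∀ q : PrimeSpectrum B, J ≤ q.asIdeal →
      2 ≤ LocCoh.idealDepth (q.asIdeal.map (algebraMap B (EGA4.FibLocRing A B q.asIdeal)))
        (EGA4.FibLocMod A B q.asIdeal E0))
    (h1 : ∀ q : PrimeSpectrum B, J ≤ q.asIdeal →
      1 ≤ LocCoh.idealDepth (q.asIdeal.map (algebraMap B (EGA4.FibLocRing A B q.asIdeal)))
        (EGA4.FibLocMod A B q.asIdeal E1)) :
    2 ≤ LocCoh.idealDepth J F := by
  have d0 : 2 ≤ LocCoh.idealDepth J E0 := by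
    have := le_idealDepth_of_fib A B J E0 2 (fun q hq => by exact_mod_cast h0 q hq)
    exact_mod_cast this
  have d1 : 1 ≤ LocCoh.idealDepth J E1 := by
    have := le_idealDepth_of_fib A B J E1 1 (fun q hq => by exact_mod_cast h1 q hq)
    exact_mod_cast this
  have hk := (idealDepth_ker J E0 E1 u).2 d0 d1
  have e : F ≃ₗ[B] LinearMap.ker u :=
    (LinearEquiv.ofInjective f hf).trans (LinearEquiv.ofEq _ _ (LinearMap.exact_iff.1 hfu).symm)
  rw [idealDepth_congr J F e]
  exact hk

end main

end Groth.Agent.Lib.FibDepthH3
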