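import Mathlib
import Groth.Prelude.Def_CAlg
import Groth.Prelude.Def_CAlgX
import Groth.Agent.Lib.BuchsEis_helper3
import Groth.Agent.Lib.McCoy_lead
import Groth.Agent.Lib.FibDepth_helper3

/-!
# Buchsbaum–Eisenbud exactness criterion, necessity (helper3)

An exact complex of finite free modules `0 → R^{n_e} → ⋯ → R^{n_0}` over a Noetherian ring has
maps of the expected ranks, and the ideals of minors of that size have depth `≥ i + 1`.
-/

set_option autoImplicit false

namespace Groth.Agent.Lib.BuchsEis2H3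

open Matrix Groth.Agent.DepthLib IsLocalRing Groth.Agent.Lib Groth.Agent.Lib.BuchsEisH3

universe u

/-- Alternating sums `n (i+1) - n (i+2) + ⋯` (`k` terms). -/
def alt (n : ℕ → ℕ) : ℕ → ℕ → ℤ
  | _, 0 => 0
  | i, k + 1 => (n (i + 1) : ℤ) - alt n (i + 1) k

theorem alt_zero (n : ℕ → ℕ) (i : ℕ) : alt n i 0 = 0 := by
  simp [alt]

theorem alt_succ (n : ℕ → ℕ) (i k : ℕ) :
    alt n i (k + 1) = (n (i + 1) : ℤ) - alt n (i + 1) k := by
  simp [alt]

theorem alt_shift (n : ℕ → ℕ) : ∀ k i, alt (fun j => n (j + 1)) i k = alt n (i + 1) k := by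
  intro k
  induction k with
  | zero =>
    intro i
    rw [alt_zero, alt_zero]
  | succ k ih =>
    intro i
    rw [alt_succ, alt_succ, ih]

theorem alt_eq_sum (n : ℕ → ℕ) (e : ℕ) : ∀ k i, i + k = e →
    alt n i k = ∑ t ∈ Finset.Icc (i + 1) e, (-1 : ℤ) ^ (t - (i + 1)) * (n t : ℤ) := by
  intro k
  induction k with
  | zero =>
    intro i hi
    rw [alt_zero, Finset.Icc_eq_empty (by omega), Finset.sum_empty]
  | succ k ih =>
    intro i hi
    rw [alt_succ, ih (i + 1) (by omega)]
    rw [← Finset.insert_Icc_add_one_left_eq_Icc (by omega : i + 1 ≤ e),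
      Finset.sum_insert (by simp), Nat.sub_self, pow_zero, one_mul, sub_eq_add_neg,
      ← Finset.sum_neg_distrib]
    congr 1
    refine Finset.sum_congr rfl fun t ht => ?_
    rw [Finset.mem_Icc] at ht
    have : t - (i + 1) = (t - (i + 1 + 1)) + 1 := by
      have := ht.1
      omega
    rw [this, pow_succ]
    ring

section general

variable {R : Type u} [CommRing R]

theorem minorIdeal_succ_le {a b : ℕ} (M : Matrix (Fin a) (Fin b) R) (k : ℕ) :
    CAlgX.minorIdeal M (k + 1) ≤ CAlgX.minorIdeal M k := by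
  unfold CAlgX.minorIdeal
  rw [Ideal.span_le]
  rintro _ ⟨fg, rfl⟩
  show ((M.submatrix fg.1 fg.2).det) ∈ _
  rw [Matrix.det_succ_row_zero]
  refine Ideal.sum_mem _ fun j _ => Ideal.mul_mem_left _ _
    (Ideal.subset_span ⟨(fg.1 ∘ Fin.succ, fg.2 ∘ j.succAbove), ?_⟩)
  rfl

theorem minorIdeal_antitone {a b : ℕ} (M : Matrix (Fin a) (Fin b) R) {k l : ℕ} (h : k ≤ l) :
    CAlgX.minorIdeal M l ≤ CAlgX.minorIdeal M k := by
  induction l, h using Nat.le_induction with
  | base => exact le_rfl
  | succ l _ ih => exact (minorIdeal_succ_le M l).trans ih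

theorem matrixRank_eq_of {a b : ℕ} (M : Matrix (Fin a) (Fin b) R) (ρ : ℕ)
    (h0 : CAlgX.minorIdeal M (ρ + 1) = ⊥) (h1 : CAlgX.minorIdeal M ρ ≠ ⊥) :
    CAlgX.matrixRank M = ρ := by
  have hbound : ∀ r ∈ {r : ℕ | CAlgX.minorIdeal M r ≠ ⊥}, r ≤ ρ := by
    intro r hr
    by_contra hlt
    push Not at hlt
    exact hr (le_bot_iff.mp ((minorIdeal_antitone M (by omega : ρ + 1 ≤ r)).trans h0.le))
  unfold CAlgX.matrixRank
  exact le_antisymm (csSup_le ⟨ρ, h1⟩ hbound) (le_csSup ⟨ρ, hbound⟩ h1)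

theorem mul_eq_zero_of_exact {a b c : ℕ} (M : Matrix (Fin a) (Fin b) R)
    (N : Matrix (Fin b) (Fin c) R)
    (h : LinearMap.range N.mulVecLin ≤ LinearMap.ker M.mulVecLin) : M * N = 0 := by
  apply Matrix.mulVec_injective
  funext w
  rw [← Matrix.mulVec_mulVec, Matrix.zero_mulVec]
  exact LinearMap.mem_ker.mp (h ⟨w, rfl⟩)

/-- Exactness of matrices localizes. -/
theorem exact_localization {a b c : ℕ} (M : Matrix (Fin a) (Fin b) R)
    (N : Matrix (Fin b) (Fin c) R)
    (hex : LinearMap.ker M.mulVecLin = LinearMap.range N.mulVecLin) (p : Ideal R) [p.IsPrime] :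
    LinearMap.ker (M.map (algebraMap R (Localization.AtPrime p))).mulVecLin =
      LinearMap.range (N.map (algebraMap R (Localization.AtPrime p))).mulVecLin := by
  classical
  set f := algebraMap R (Localization.AtPrime p) with hf
  have hMN : M * N = 0 := mul_eq_zero_of_exact M N hex.ge
  refine le_antisymm ?_ ?_
  · intro v hv
    rw [LinearMap.mem_ker, Matrix.mulVecLin_apply] at hv
    obtain ⟨s, hs⟩ := IsLocalization.exist_integer_multiples_of_finite p.primeCompl v
    choose v₀ hv₀ using hs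
    have h1 : (f ∘ v₀) = (s : R) • v := funext hv₀
    have key : ∀ j, f (M.mulVec v₀ j) = 0 := by
      intro j
      rw [RingHom.map_mulVec, h1, Matrix.mulVec_smul, hv]
      simp
    have key2 : ∀ j, ∃ t : p.primeCompl, (t : R) * (M.mulVec v₀ j) = 0 := fun j =>
      (IsLocalization.map_eq_zero_iff p.primeCompl (Localization.AtPrime p) _).mp (key j)
    choose t ht using key2
    set T : R := ∏ j', (t j' : R) with hT
    have hTmem : T ∈ p.primeCompl := Submonoid.prod_mem _ (fun j' _ => (t j').2)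
    have hT0 : M.mulVec (T • v₀) = 0 := by
      rw [Matrix.mulVec_smul]
      funext j
      rw [Pi.smul_apply, smul_eq_mul, Pi.zero_apply, hT,
        ← Finset.mul_prod_erase Finset.univ (fun j' => (t j' : R)) (Finset.mem_univ j),
        mul_comm (t j : R), mul_assoc, ht j, mul_zero]
    have hmem : T • v₀ ∈ LinearMap.range N.mulVecLin := by
      rw [← hex]
      exact hT0
    obtain ⟨w, hw⟩ := hmem
    rw [Matrix.mulVecLin_apply] at hw
    have hu : IsUnit (f (T * s)) :=
      IsLocalization.map_units (Localization.AtPrime p)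
        (⟨T * s, p.primeCompl.mul_mem hTmem s.2⟩ : p.primeCompl)
    obtain ⟨u, hu'⟩ := hu
    refine ⟨(↑u⁻¹ : Localization.AtPrime p) • (f ∘ w), ?_⟩
    rw [Matrix.mulVecLin_apply, Matrix.mulVec_smul]
    have h2 : (N.map f).mulVec (f ∘ w) = f ∘ (N.mulVec w) := by
      funext i
      exact (RingHom.map_mulVec f N w i).symm
    rw [h2, hw]
    have h3 : f ∘ (T • v₀) = (f (T * s)) • v := by
      funext i
      have := hv₀ i
      simp only [Function.comp_apply, Pi.smul_apply, smul_eq_mul, map_mul]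
      rw [this, Algebra.smul_def]
      ring
    rw [h3, ← hu', smul_smul, Units.inv_mul, one_smul]
  · rintro _ ⟨w, rfl⟩
    rw [LinearMap.mem_ker, Matrix.mulVecLin_apply, Matrix.mulVecLin_apply, Matrix.mulVec_mulVec,
      ← Matrix.map_mul, hMN]
    have : (0 : Matrix (Fin a) (Fin c) R).map f = 0 := by
      ext i j
      simp
    rw [this, Matrix.zero_mulVec]

/-- The localization at an associated prime has "depth zero". -/
theorem depth0_of_assoc (P : Ideal R) [P.IsPrime] (z : R) (hz : ∀ r, r ∈ P ↔ r * z = 0) :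
    ∀ I : Ideal (Localization.AtPrime P), I ≠ ⊤ → I.annihilator ≠ ⊥ := by
  intro I hI hann
  have hle : I ≤ maximalIdeal (Localization.AtPrime P) := le_maximalIdeal hI
  have hfz : algebraMap R (Localization.AtPrime P) z ∈ I.annihilator := by
    rw [Submodule.mem_annihilator]
    intro y hy
    obtain ⟨r, s, rfl⟩ := IsLocalization.exists_mk'_eq P.primeCompl y
    have hr : r ∈ P := by
      have := hle hy
      rwa [IsLocalization.AtPrime.mk'_mem_maximal_iff (Localization.AtPrime P) P] at this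
    rw [smul_eq_mul, IsLocalization.mul_mk'_eq_mk'_of_mul, mul_comm, (hz r).mp hr,
      IsLocalization.mk'_zero]
  have hfz0 : algebraMap R (Localization.AtPrime P) z ≠ 0 := by
    intro h
    obtain ⟨t, ht⟩ := (IsLocalization.map_eq_zero_iff P.primeCompl _ z).mp h
    exact t.2 ((hz t).mpr ht)
  rw [hann] at hfz
  exact hfz0 ((Submodule.mem_bot _).mp hfz)

theorem eq_bot_of_assoc [IsNoetherianRing R] (I : Ideal R)
    (h : ∀ (P : Ideal R) [P.IsPrime], IsAssociatedPrime P R →
      I.map (algebraMap R (Localization.AtPrime P)) = ⊥) : I = ⊥ := by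
  rw [eq_bot_iff]
  intro z hz
  rw [Submodule.mem_bot]
  by_contra hz0
  obtain ⟨P, hP, hle⟩ := exists_le_isAssociatedPrime_of_isNoetherianRing R z hz0
  haveI := hP.isPrime
  have h1 : algebraMap R (Localization.AtPrime P) z ∈
      I.map (algebraMap R (Localization.AtPrime P)) := Ideal.mem_map_of_mem _ hz
  rw [h P hP, Ideal.mem_bot] at h1
  obtain ⟨t, ht⟩ := (IsLocalization.map_eq_zero_iff P.primeCompl _ z).mp h1
  exact t.2 (hle (by
    rw [Submodule.mem_colon_singleton, Submodule.mem_bot, smul_eq_mul]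
    exact ht))

theorem ann_eq_bot_of_assoc [IsNoetherianRing R] (I : Ideal R)
    (h : ∀ (P : Ideal R) [P.IsPrime], IsAssociatedPrime P R →
      I.map (algebraMap R (Localization.AtPrime P)) = ⊤) : I.annihilator = ⊥ := by
  rw [eq_bot_iff]
  intro c hc
  rw [Submodule.mem_bot]
  by_contra hc0
  obtain ⟨P, hP, hle⟩ := exists_le_isAssociatedPrime_of_isNoetherianRing R c hc0
  haveI := hP.isPrime
  have hIP : I ≤ P := fun y hy => hle (by
    rw [Submodule.mem_colon_singleton, Submodule.mem_bot, smul_eq_mul, mul_comm]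
    exact (Submodule.mem_annihilator.mp hc) y hy)
  have h2 : P.map (algebraMap R (Localization.AtPrime P)) = ⊤ :=
    top_le_iff.mp ((h P hP) ▸ Ideal.map_mono hIP)
  rw [Localization.AtPrime.map_eq_maximalIdeal] at h2
  exact (IsLocalRing.maximalIdeal.isMaximal _).ne_top h2

/-- Exactness modulo a regular element (one step up in the complex). -/
theorem exact_mod_regular (x : R) (hx : IsSMulRegular R x) {a b c d : ℕ}
    (L : Matrix (Fin a) (Fin b) R) (M : Matrix (Fin b) (Fin c) R) (N : Matrix (Fin c) (Fin d) R)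
    (hLM : LinearMap.ker L.mulVecLin = LinearMap.range M.mulVecLin)
    (hMN : LinearMap.ker M.mulVecLin = LinearMap.range N.mulVecLin) :
    LinearMap.ker (M.map (Ideal.Quotient.mk (Ideal.span {x}))).mulVecLin =
      LinearMap.range (N.map (Ideal.Quotient.mk (Ideal.span {x}))).mulVecLin := by
  set q := Ideal.Quotient.mk (Ideal.span {x}) with hq
  have hsurj : ∀ {k : ℕ} (v : Fin k → R ⧸ Ideal.span {x}), ∃ v₀ : Fin k → R, q ∘ v₀ = v := by
    intro k v
    choose v₀ hv₀ using fun i => Ideal.Quotient.mk_surjective (v i)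
    exact ⟨v₀, funext hv₀⟩
  have hmap : ∀ {k l : ℕ} (K : Matrix (Fin k) (Fin l) R) (w : Fin l → R),
      (K.map q).mulVec (q ∘ w) = q ∘ (K.mulVec w) := by
    intro k l K w
    funext i
    exact (RingHom.map_mulVec q K w i).symm
  have hMN0 : M * N = 0 := mul_eq_zero_of_exact M N hMN.ge
  have hqx : q x = 0 := Ideal.Quotient.eq_zero_iff_mem.mpr (Ideal.mem_span_singleton_self x)
  refine le_antisymm ?_ ?_
  · intro v hv
    obtain ⟨v₀, rfl⟩ := hsurj v
    rw [LinearMap.mem_ker, Matrix.mulVecLin_apply, hmap] at hv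
    have h1 : ∀ i, ∃ wi : R, wi * x = M.mulVec v₀ i := by
      intro i
      have : q (M.mulVec v₀ i) = 0 := congrFun hv i
      rw [Ideal.Quotient.eq_zero_iff_mem, Ideal.mem_span_singleton'] at this
      exact this
    choose w hw using h1
    have h2 : M.mulVec v₀ = x • w := by
      funext i
      rw [Pi.smul_apply, smul_eq_mul, mul_comm, hw]
    have h3 : L.mulVec w = 0 := by
      have h30 : x • L.mulVec w = 0 := by
        rw [← Matrix.mulVec_smul, ← h2]
        exact LinearMap.mem_ker.mp (hLM.ge ⟨v₀, rfl⟩)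
      funext i
      have h4 := congrFun h30 i
      rw [Pi.smul_apply, Pi.zero_apply] at h4
      exact hx (by
        show x • (L.mulVec w) i = x • (0 : Fin a → R) i
        rw [h4, Pi.zero_apply, smul_zero])
    obtain ⟨u, hu⟩ : w ∈ LinearMap.range M.mulVecLin := by
      rw [← hLM]
      exact h3
    rw [Matrix.mulVecLin_apply] at hu
    have h5 : M.mulVec (v₀ - x • u) = 0 := by
      rw [Matrix.mulVec_sub, Matrix.mulVec_smul, hu, h2, sub_self]
    obtain ⟨t, ht⟩ : v₀ - x • u ∈ LinearMap.range N.mulVecLin := by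
      rw [← hMN]
      exact h5
    rw [Matrix.mulVecLin_apply] at ht
    refine ⟨q ∘ t, ?_⟩
    rw [Matrix.mulVecLin_apply, hmap, ht]
    funext i
    simp only [Function.comp_apply, Pi.sub_apply, Pi.smul_apply, smul_eq_mul, map_sub, map_mul]
    rw [hqx, zero_mul, sub_zero]
  · rintro _ ⟨w, rfl⟩
    obtain ⟨w₀, rfl⟩ := hsurj w
    rw [LinearMap.mem_ker, Matrix.mulVecLin_apply, Matrix.mulVecLin_apply, hmap, hmap,
      Matrix.mulVec_mulVec, hMN0, Matrix.zero_mulVec]
    funext i
    simp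

/-- Depth goes up by one when lifting from `R ⧸ (x)` for a regular element `x ∈ I`. -/
theorem depth_lift [IsNoetherianRing R] (x : R) (hx : IsSMulRegular R x) (I : Ideal R)
    (hxI : x ∈ I) (j : ℕ)
    (h : (j : ℕ∞) ≤ LocCoh.idealDepth (I.map (Ideal.Quotient.mk (Ideal.span {x})))
      (R ⧸ Ideal.span {x})) :
    ((j + 1 : ℕ) : ℕ∞) ≤ LocCoh.idealDepth I R := by
  have h1 : (j : ℕ∞) ≤ LocCoh.idealDepth I (R ⧸ Ideal.span {x}) :=
    le_trans h (FibDepthH3.idealDepth_map_le_of_surjective (Ideal.Quotient.mk (Ideal.span {x}))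
      Ideal.Quotient.mk_surjective (R ⧸ Ideal.span {x}) (fun s m => rfl) I)
  have hex : Function.Exact (x • LinearMap.id : R →ₗ[R] R) (Submodule.mkQ (Ideal.span {x})) := by
    intro y
    constructor
    · intro hy
      rw [Submodule.mkQ_apply, Submodule.Quotient.mk_eq_zero, Ideal.mem_span_singleton'] at hy
      obtain ⟨a, ha⟩ := hy
      exact ⟨a, by simp [← ha, mul_comm]⟩
    · rintro ⟨a, rfl⟩
      rw [Submodule.mkQ_apply, Submodule.Quotient.mk_eq_zero, Ideal.mem_span_singleton']
      exact ⟨a, by simp [mul_comm]⟩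
  exact (le_idealDepth_iff_of_smul_ses I R (R ⧸ Ideal.span {x}) hxI hx
    (Submodule.mkQ (Ideal.span {x})) (Submodule.mkQ_surjective _) hex j).mp h1

end general

section depth0

variable {S : Type u} [CommRing S] [IsLocalRing S] [IsNoetherianRing S]

theorem depth0_step (hS : ∀ I : Ideal S, I ≠ ⊤ → I.annihilator ≠ ⊥) {a b c : ℕ}
    (M : Matrix (Fin a) (Fin b) S) (N : Matrix (Fin b) (Fin c) S)
    (hex : LinearMap.ker M.mulVecLin = LinearMap.range N.mulVecLin) (σ : ℕ)
    (hN0 : CAlgX.minorIdeal N (σ + 1) = ⊥) (hN1 : CAlgX.minorIdeal N σ = ⊤) :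
    ∃ ρ : ℕ, ρ + σ = b ∧ CAlgX.minorIdeal M (ρ + 1) = ⊥ ∧ CAlgX.minorIdeal M ρ = ⊤ := by
  classical
  obtain ⟨N', hc, _, hN'free, hrN, hsum⟩ := split_data N σ hN0 hN1
  set ρ := Module.finrank S N' with hρ
  let bN : Module.Basis (Fin ρ) S N' := Module.finBasis S N'
  let B : Matrix (Fin a) (Fin ρ) S := Matrix.of fun i j => M.mulVec ((bN j : N') : Fin b → S) i
  have hB : ∀ x : Fin ρ → S,
      B.mulVec x = M.mulVec (((bN.equivFun.symm x : N') : Fin b → S)) := by
    intro x
    rw [Module.Basis.equivFun_symm_apply]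
    have h1 : ((∑ j, x j • bN j : N') : Fin b → S) = ∑ j, x j • ((bN j : N') : Fin b → S) := by
      rw [Submodule.coe_sum]
      rfl
    rw [h1]
    have h2 : M.mulVec (∑ j, x j • ((bN j : N') : Fin b → S)) =
        ∑ j, x j • M.mulVec ((bN j : N') : Fin b → S) := by
      have := map_sum M.mulVecLin (fun j => x j • ((bN j : N') : Fin b → S)) Finset.univ
      simp only [Matrix.mulVecLin_apply, Matrix.mulVec_smul] at this
      exact this
    rw [h2]
    funext i
    simp only [Matrix.mulVec, dotProduct, B, Matrix.of_apply, Finset.sum_apply, Pi.smul_apply,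
      smul_eq_mul]
    exact Finset.sum_congr rfl fun j _ => mul_comm _ _
  have hBinj : Function.Injective B.mulVecLin := by
    rw [← LinearMap.ker_eq_bot, eq_bot_iff]
    intro x hx
    rw [LinearMap.mem_ker, Matrix.mulVecLin_apply, hB] at hx
    have hy : ((bN.equivFun.symm x : N') : Fin b → S) ∈ LinearMap.range N.mulVecLin := by
      rw [← hex]
      exact hx
    have hy0 : ((bN.equivFun.symm x : N') : Fin b → S) = 0 := by
      have := hc.disjoint.le_bot ⟨hy, (bN.equivFun.symm x).2⟩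
      exact (Submodule.mem_bot _).mp this
    have hy1 : bN.equivFun.symm x = 0 := Subtype.ext hy0
    rw [Submodule.mem_bot]
    exact bN.equivFun.symm.injective (by rw [hy1, map_zero])
  have hann := McCoy.annihilator_minorIdeal_eq_bot_of_injective B hBinj
  have hB1 : CAlgX.minorIdeal B ρ = ⊤ := by
    by_contra hne
    exact hS _ hne hann
  have hB0 : CAlgX.minorIdeal B (ρ + 1) = ⊥ := McCoy.minorIdeal_eq_bot_of_lt B (Nat.lt_succ_self ρ)
  obtain ⟨N'', hc'', hr''⟩ := (MinorSummandH3.main a ρ ρ B).mpr ⟨hB0, hB1⟩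
  have hrange : LinearMap.range M.mulVecLin = LinearMap.range B.mulVecLin := by
    refine le_antisymm ?_ ?_
    · rintro _ ⟨v, rfl⟩
      have hv : v ∈ LinearMap.range N.mulVecLin ⊔ N' := by
        rw [hc.sup_eq_top]
        trivial
      obtain ⟨p, hp, q, hq, rfl⟩ := Submodule.mem_sup.mp hv
      refine ⟨bN.equivFun ⟨q, hq⟩, ?_⟩
      rw [Matrix.mulVecLin_apply, hB, LinearEquiv.symm_apply_apply, Matrix.mulVecLin_apply,
        Matrix.mulVec_add]
      have : M.mulVec p = 0 := by
        rw [← hex] at hp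
        exact hp
      rw [this, zero_add]
    · rintro _ ⟨x, rfl⟩
      rw [Matrix.mulVecLin_apply, hB]
      exact ⟨_, rfl⟩
  have hM := (MinorSummandH3.main a b ρ M).mp (by
    rw [hrange]
    exact ⟨N'', hc'', hr''⟩)
  exact ⟨ρ, by omega, hM.1, hM.2⟩

theorem depth0_all (hS : ∀ I : Ideal S, I ≠ ⊤ → I.annihilator ≠ ⊥) (e : ℕ) (n : ℕ → ℕ)
    (A : (i : ℕ) → Matrix (Fin (n i)) (Fin (n (i + 1))) S) (hAe : A e = 0)
    (hex : ∀ i, i < e → LinearMap.ker (A i).mulVecLin = LinearMap.range (A (i + 1)).mulVecLin) :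
    ∀ k i, i + k = e → ∃ ρ : ℕ, (ρ : ℤ) = alt n i k ∧
      CAlgX.minorIdeal (A i) (ρ + 1) = ⊥ ∧ CAlgX.minorIdeal (A i) ρ = ⊤ := by
  intro k
  induction k with
  | zero =>
    intro i hi
    have hie : i = e := by omega
    refine ⟨0, by rw [alt_zero]; rfl, ?_, minorIdeal_zero_size _⟩
    rw [hie, hAe]
    exact minorIdeal_zero_matrix 0
  | succ k ih =>
    intro i hi
    obtain ⟨σ, hσ, h0, h1⟩ := ih (i + 1) (by omega)
    obtain ⟨ρ, hρσ, h0', h1'⟩ := depth0_step hS (A i) (A (i + 1)) (hex i (by omega)) σ h0 h1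
    refine ⟨ρ, ?_, h0', h1'⟩
    rw [alt_succ, ← hσ]
    omega

end depth0

/-- Ranks of the maps of an exact complex of finite free modules over a Noetherian ring. -/
theorem rank_of_exact {R : Type u} [CommRing R] [IsNoetherianRing R] [Nontrivial R] (e : ℕ)
    (n : ℕ → ℕ) (A : (i : ℕ) → Matrix (Fin (n i)) (Fin (n (i + 1))) R) (hAe : A e = 0)
    (hex : ∀ i, i < e → LinearMap.ker (A i).mulVecLin = LinearMap.range (A (i + 1)).mulVecLin) :
    ∀ k i, i + k = e → ∃ ρ : ℕ, (ρ : ℤ) = alt n i k ∧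
      CAlgX.minorIdeal (A i) (ρ + 1) = ⊥ ∧ (CAlgX.minorIdeal (A i) ρ).annihilator = ⊥ := by
  intro k i hi
  have hloc : ∀ (P : Ideal R) [P.IsPrime], IsAssociatedPrime P R → ∃ ρ : ℕ,
      (ρ : ℤ) = alt n i k ∧
      (CAlgX.minorIdeal (A i) (ρ + 1)).map (algebraMap R (Localization.AtPrime P)) = ⊥ ∧
      (CAlgX.minorIdeal (A i) ρ).map (algebraMap R (Localization.AtPrime P)) = ⊤ := by
    intro P _ hP
    obtain ⟨_, z, hz⟩ := isAssociatedPrime_iff.mp hP
    have hS := depth0_of_assoc P z (fun r => by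
      rw [hz, Submodule.mem_colon_singleton, Submodule.mem_bot, smul_eq_mul])
    set f := algebraMap R (Localization.AtPrime P) with hf
    obtain ⟨ρ, h1, h2, h3⟩ := depth0_all hS e n (fun j => (A j).map f)
      (by
        show (A e).map f = 0
        rw [hAe]
        ext a b
        simp)
      (fun j hj => exact_localization (A j) (A (j + 1)) (hex j hj) P) k i hi
    refine ⟨ρ, h1, ?_, ?_⟩
    · rw [← minorIdeal_map]
      exact h2
    · rw [← minorIdeal_map]
      exact h3
  obtain ⟨P₀, hP₀⟩ := associatedPrimes.nonempty R R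
  haveI := hP₀.isPrime
  obtain ⟨ρ, hρ, _, _⟩ := hloc P₀ hP₀
  refine ⟨ρ, hρ, eq_bot_of_assoc _ (fun P _ hP => ?_), ann_eq_bot_of_assoc _ (fun P _ hP => ?_)⟩
  · obtain ⟨ρ', hρ', h2, _⟩ := hloc P hP
    have : ρ' = ρ := by exact_mod_cast hρ'.trans hρ.symm
    rw [← this]
    exact h2
  · obtain ⟨ρ', hρ', _, h3⟩ := hloc P hP
    have : ρ' = ρ := by exact_mod_cast hρ'.trans hρ.symm
    rw [← this]
    exact h3

/-- Depth of the ideals of minors of an exact complex of finite free modules. -/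
theorem depth_of_exact : ∀ (e : ℕ) (R : Type u) [CommRing R] [IsNoetherianRing R]
    (n : ℕ → ℕ) (A : (i : ℕ) → Matrix (Fin (n i)) (Fin (n (i + 1))) R), A e = 0 →
    (∀ i, i < e → LinearMap.ker (A i).mulVecLin = LinearMap.range (A (i + 1)).mulVecLin) →
    ∀ k i, i + k = e → i < e → ∀ ρ : ℕ, (ρ : ℤ) = alt n i k →
      ((i + 1 : ℕ) : ℕ∞) ≤ LocCoh.idealDepth (CAlgX.minorIdeal (A i) ρ) R := by
  intro e
  induction e with
  | zero =>
    intro R _ _ n A _ _ k i _ hi
    omega
  | succ e ih =>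
    intro R _ _ n A hAe hex k i hik hi ρ hρ
    rcases subsingleton_or_nontrivial R with hsub | hnt
    · exact (le_idealDepth_iff _ _ _).mpr (Or.inl (Subsingleton.elim _ _))
    obtain ⟨ρ', hρ', _, hann⟩ := rank_of_exact (e + 1) n A hAe hex k i hik
    have hρρ : ρ' = ρ := by exact_mod_cast hρ'.trans hρ.symm
    rw [hρρ] at hann
    rcases (McCoy.annihilator_eq_bot_iff_of_noetherian _).mp hann with htop | ⟨x, hxI, hxreg⟩
    · refine (le_idealDepth_iff _ _ _).mpr (Or.inl ?_)
      rw [htop, Ideal.smul_eq_mul, Ideal.mul_top]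
    have hx : IsSMulRegular R x := hxreg.left.isSMulRegular
    set q := Ideal.Quotient.mk (Ideal.span {x}) with hq
    rcases Nat.eq_zero_or_pos i with hi0 | hipos
    · subst hi0
      exact depth_lift x hx _ hxI 0 (by simp)
    · obtain ⟨i', rfl⟩ : ∃ i', i = i' + 1 := ⟨i - 1, by omega⟩
      have key := ih (R ⧸ Ideal.span {x}) (fun j => n (j + 1)) (fun j => (A (j + 1)).map q)
        (by
          show (A (e + 1)).map q = 0
          rw [hAe]
          ext a b
          simp)
        (fun j hj => exact_mod_regular x hx (A j) (A (j + 1)) (A (j + 1 + 1))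
          (hex j (by omega)) (hex (j + 1) (by omega)))
        k i' (by omega) (by omega) ρ (by rw [alt_shift]; exact hρ)
      have key' : ((i' + 1 : ℕ) : ℕ∞) ≤ LocCoh.idealDepth
          ((CAlgX.minorIdeal (A (i' + 1)) ρ).map q) (R ⧸ Ideal.span {x}) := by
        rw [← minorIdeal_map]
        exact key
      exact depth_lift x hx _ hxI (i' + 1) key'

end Groth.Agent.Lib.BuchsEis2H3
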