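import Groth.Agent.Lib.BundleStages_lead
import Groth.Statements.S11418

/-! # Bundle automorphisms of a principal bundle (lead) -/

set_option backward.isDefEq.respectTransparency false
set_option backward.isDefEq.respectTransparency.types false
set_option linter.unusedSimpArgs false
set_option linter.unusedVariables false
set_option linter.unusedSectionVars false
set_option linter.style.longLine false
set_option linter.style.haveILetI false
set_option maxHeartbeats 800000

universe u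

open CategoryTheory CategoryTheory.Limits MonoidalCategory CartesianMonoidalCategory MonObj GrpObj
  AlgebraicGeometry Opposite

namespace Groth.Agent.Lib.BundleAut

open Groth.Agent.Lib.BundleStages Groth.Agent.Lib.TorsorSeq

theorem main {B : Scheme.{u}} {G X Y : Over B} [GrpObj G]
    (a : AlgGrp.Action G X) (π : X ⟶ Y)
    (hcart : IsPullback (snd G X) a.act π π)
    (φ : X ≅ X) (hφ : φ.hom ≫ π = π) (hφeq : (G ◁ φ.hom) ≫ a.act = a.act ≫ φ.hom) :
    ∃! f : X ⟶ G, (∀ (S : Over B) (g : S ⟶ G) (x : S ⟶ X),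
        lift g x ≫ a.act ≫ f = g * (x ≫ f) * g⁻¹) ∧ φ.hom = lift f (𝟙 X) ≫ a.act := by
  have hpb : IsPullback a.act (snd G X) π π := hcart.flip
  obtain ⟨l, hl1, hl2⟩ : ∃ l : X ⟶ G ⊗ X, l ≫ snd G X = 𝟙 X ∧ l ≫ a.act = φ.hom :=
    ⟨hcart.lift (𝟙 X) φ.hom (by rw [Category.id_comp, hφ]), hcart.lift_fst _ _ _,
      hcart.lift_snd _ _ _⟩
  have hl : l = lift (l ≫ fst G X) (𝟙 X) := by
    apply CartesianMonoidalCategory.hom_ext
    · rw [lift_fst]
    · rw [lift_snd, hl1]
  have hφf : φ.hom = lift (l ≫ fst G X) (𝟙 X) ≫ a.act := by rw [← hl, hl2]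
  have hpt : ∀ {S : Over B} (x : S ⟶ X), x ≫ φ.hom = lift (x ≫ l ≫ fst G X) x ≫ a.act := by
    intro S x
    rw [hφf, ← Category.assoc, comp_lift, Category.comp_id]
  refine ⟨l ≫ fst G X, ⟨?_, hφf⟩, ?_⟩
  · intro S g x
    rw [← Category.assoc]
    apply cancel_of_pb a.act π hpb _ _ (lift g x ≫ a.act)
    have L : lift ((lift g x ≫ a.act) ≫ l ≫ fst G X) (lift g x ≫ a.act) ≫ a.act =
        lift (g * (x ≫ l ≫ fst G X)) x ≫ a.act := by
      rw [← hpt, Category.assoc, ← hφeq, ← Category.assoc, lift_whiskerLeft, hpt, ← act_mul' a]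
    have R : lift (g * (x ≫ l ≫ fst G X) * g⁻¹) (lift g x ≫ a.act) ≫ a.act =
        lift (g * (x ≫ l ≫ fst G X)) x ≫ a.act := by
      rw [← act_mul' a, inv_mul_cancel_right]
    rw [L, R]
  · rintro f' ⟨-, hf'⟩
    have := cancel_of_pb a.act π hpb f' (l ≫ fst G X) (𝟙 X) (by rw [← hf', ← hφf])
    exact this

end Groth.Agent.Lib.BundleAut
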