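import Groth.Agent.Lib.TorsorSeq_lead
import Groth.Statements.S18977

/-! # Principal bundles in stages (lead) -/

set_option backward.isDefEq.respectTransparency false
set_option backward.isDefEq.respectTransparency.types false
set_option linter.unusedSimpArgs false
set_option linter.unusedVariables false
set_option linter.unusedSectionVars false
set_option linter.style.longLine false
set_option maxHeartbeats 800000

universe u

open CategoryTheory CategoryTheory.Limits MonoidalCategory CartesianMonoidalCategory MonObj GrpObj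
  AlgebraicGeometry Opposite

namespace Groth.Agent.Lib.BundleStages

open Groth.Agent.Lib.TorsorSeq

variable {S : Scheme.{u}}

theorem exists_of_pb {G X Y : Over S} (act : G ⊗ X ⟶ X) (φ : X ⟶ Y)
    (h : IsPullback act (snd G X) φ φ) {T : Over S} (x' x : T ⟶ X) (e : x' ≫ φ = x ≫ φ) :
    ∃ g : T ⟶ G, lift g x ≫ act = x' := by
  refine ⟨h.lift x' x e ≫ fst G X, ?_⟩
  have h1 := h.lift_fst x' x e
  have h2 := h.lift_snd x' x e
  have : lift (h.lift x' x e ≫ fst G X) x = h.lift x' x e := by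
    apply CartesianMonoidalCategory.hom_ext
    · rw [lift_fst]
    · rw [lift_snd, h2]
  rw [this, h1]

theorem cancel_of_pb {G X Y : Over S} (act : G ⊗ X ⟶ X) (φ : X ⟶ Y)
    (h : IsPullback act (snd G X) φ φ) {T : Over S} (g g' : T ⟶ G) (x : T ⟶ X)
    (e : lift g x ≫ act = lift g' x ≫ act) : g = g' := by
  have h1 : lift g x = lift g' x := by
    apply h.hom_ext
    · exact e
    · rw [lift_snd, lift_snd]
  have := congrArg (fun k => k ≫ fst G X) h1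
  simpa only [lift_fst] using this

theorem cart {G N Q H X Y Z : Over S} [GrpObj G] [GrpObj N] [GrpObj Q] [GrpObj H]
    (iN : N ⟶ G) [IsMonHom iN] (q : G ⟶ Q) [IsMonHom q] (hker : AlgGrp.IsKernel iN q)
    (iH : H ⟶ G) [IsIso (iH ≫ q)]
    (a : AlgGrp.Action G X) (φ₁ : X ⟶ Y)
    (h₁ : IsPullback (a.restrict iN).act (snd N X) φ₁ φ₁)
    (aY : AlgGrp.Action Q Y) (hequiv : (q ⊗ₘ φ₁) ≫ aY.act = a.act ≫ φ₁)
    (φ₂ : Y ⟶ Z) (h₂ : IsPullback aY.act (snd Q Y) φ₂ φ₂) :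
    IsPullback a.act (snd G X) (φ₁ ≫ φ₂) (φ₁ ≫ φ₂) := by
  have heq : ∀ {T : Over S} (g : T ⟶ G) (x : T ⟶ X),
      (lift g x ≫ a.act) ≫ φ₁ = lift (g ≫ q) (x ≫ φ₁) ≫ aY.act := by
    intro T g x
    rw [Category.assoc, ← hequiv, lift_map_assoc]
  have hN : ∀ {T : Over S} (n : T ⟶ N) (x : T ⟶ X),
      lift n x ≫ (a.restrict iN).act = lift (n ≫ iN) x ≫ a.act := by
    intro T n x
    rw [AlgGrp.Action.restrict_act, lift_whiskerRight_assoc]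
  apply isPullback_of_points
  · calc a.act ≫ φ₁ ≫ φ₂ = ((q ⊗ₘ φ₁) ≫ aY.act) ≫ φ₂ := by rw [hequiv, Category.assoc]
      _ = (q ⊗ₘ φ₁) ≫ snd Q Y ≫ φ₂ := by rw [Category.assoc, h₂.w]
      _ = snd G X ≫ φ₁ ≫ φ₂ := by rw [tensorHom_snd_assoc]
  · intro T x' x hxx
    have e2 : (x' ≫ φ₁) ≫ φ₂ = (x ≫ φ₁) ≫ φ₂ := by simpa only [Category.assoc] using hxx
    obtain ⟨qb, hqb⟩ := exists_of_pb aY.act φ₂ h₂ (x' ≫ φ₁) (x ≫ φ₁) e2
    have hg₀ : (qb ≫ inv (iH ≫ q) ≫ iH) ≫ q = qb := by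
      simp only [Category.assoc]
      rw [IsIso.inv_hom_id, Category.comp_id]
    have hx1 : x' ≫ φ₁ = (lift (qb ≫ inv (iH ≫ q) ≫ iH) x ≫ a.act) ≫ φ₁ := by
      rw [heq, hg₀, hqb]
    obtain ⟨n, hn⟩ := exists_of_pb (a.restrict iN).act φ₁ h₁ x'
      (lift (qb ≫ inv (iH ≫ q) ≫ iH) x ≫ a.act) hx1
    refine ⟨lift ((n ≫ iN) * (qb ≫ inv (iH ≫ q) ≫ iH)) x, ?_, lift_snd _ _⟩
    rw [act_mul' a, ← hN, hn]
  · intro T p p' hp1 hp2
    obtain ⟨g, x, rfl⟩ : ∃ g x, p = lift g x := ⟨_, _, (lift_comp_fst_snd p).symm⟩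
    obtain ⟨g', x₂, rfl⟩ : ∃ g x, p' = lift g x := ⟨_, _, (lift_comp_fst_snd p').symm⟩
    rw [lift_snd, lift_snd] at hp2
    subst hp2
    have e : lift g x ≫ a.act = lift g' x ≫ a.act := hp1
    have eq : g ≫ q = g' ≫ q := cancel_of_pb aY.act φ₂ h₂ (g ≫ q) (g' ≫ q) (x ≫ φ₁)
      (by rw [← heq, ← heq, e])
    have hd : (g' * g⁻¹) ≫ q = toUnit T ≫ η[Q] := by
      rw [MonObj.mul_comp, GrpObj.inv_comp, eq, mul_inv_cancel, Hom.one_def]
    have hn : hker.lift (g' * g⁻¹) (toUnit T) hd ≫ iN = g' * g⁻¹ := hker.lift_fst _ _ _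
    have hg' : g' = (hker.lift (g' * g⁻¹) (toUnit T) hd ≫ iN) * g := by
      rw [hn, inv_mul_cancel_right]
    have l1 : lift (hker.lift (g' * g⁻¹) (toUnit T) hd) (lift g x ≫ a.act) ≫ (a.restrict iN).act =
        lift g x ≫ a.act := by
      rw [hN, ← act_mul' a, ← hg', ← e]
    have l2 : lift (1 : T ⟶ N) (lift g x ≫ a.act) ≫ (a.restrict iN).act = lift g x ≫ a.act := by
      rw [hN, MonObj.one_comp, act_one' a]
    have hn1 : hker.lift (g' * g⁻¹) (toUnit T) hd = 1 :=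
      cancel_of_pb _ φ₁ h₁ _ 1 (lift g x ≫ a.act) (l1.trans l2.symm)
    have : g = g' := by
      rw [hg', hn1, MonObj.one_comp, _root_.one_mul]
    rw [this]

theorem loctriv {X Y Z : Over S} (φ₁ : X ⟶ Y) (φ₂ : Y ⟶ Z)
    (h₁ : NonAbH1.IsLocallyTrivialFor Scheme.fpqcPrecoverage (Over.mk φ₁.left : Over Y.left))
    (h₂ : NonAbH1.IsLocallyTrivialFor Scheme.fpqcPrecoverage (Over.mk φ₂.left : Over Z.left)) :
    NonAbH1.IsLocallyTrivialFor Scheme.fpqcPrecoverage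
      (Over.mk (φ₁ ≫ φ₂).left : Over Z.left) := by
  obtain ⟨R₁, hR₁, hs₁⟩ := h₁
  obtain ⟨R₂, hR₂, hs₂⟩ := h₂
  obtain ⟨I₁, W, k₁, rfl⟩ := R₁.exists_eq_ofArrows
  obtain ⟨I₂, V, k₂, rfl⟩ := R₂.exists_eq_ofArrows
  choose s₂ hs₂' using fun i : I₂ => hs₂ (k₂ i) (Presieve.ofArrows.mk i)
  choose s₁ hs₁' using fun j : I₁ => hs₁ (k₁ j) (Presieve.ofArrows.mk j)
  have hc := Precoverage.comp_mem_coverings (J := Scheme.fpqcPrecoverage)
    (f := k₂) hR₂ (σ := fun _ => I₁) (Y := fun i j => pullback (k₁ j) (s₂ i))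
    (g := fun i j => pullback.snd (k₁ j) (s₂ i))
    (fun i => by
      rw [Presieve.ofArrows_pullback]
      exact Precoverage.pullbackArrows_mem (s₂ i) hR₁)
  refine ⟨_, hc, ?_⟩
  rintro S' k ⟨p⟩
  refine ⟨pullback.fst (k₁ p.2) (s₂ p.1) ≫ s₁ p.2, ?_⟩
  show (pullback.fst (k₁ p.2) (s₂ p.1) ≫ s₁ p.2) ≫ (φ₁ ≫ φ₂).left =
    pullback.snd (k₁ p.2) (s₂ p.1) ≫ k₂ p.1
  have e1 : s₁ p.2 ≫ φ₁.left = k₁ p.2 := hs₁' p.2
  have e2 : s₂ p.1 ≫ φ₂.left = k₂ p.1 := hs₂' p.1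
  rw [Over.comp_left, Category.assoc, reassoc_of% e1, pullback.condition_assoc, e2]

theorem main {G N Q H X Y Z : Over S} [GrpObj G] [GrpObj N] [GrpObj Q] [GrpObj H]
    (iN : N ⟶ G) [IsMonHom iN] (q : G ⟶ Q) [IsMonHom q] (hker : AlgGrp.IsKernel iN q)
    (iH : H ⟶ G) [IsIso (iH ≫ q)]
    (a : AlgGrp.Action G X) (φ₁ : X ⟶ Y)
    (h₁ : IsPullback (a.restrict iN).act (snd N X) φ₁ φ₁)
    (h₁loc : NonAbH1.IsLocallyTrivialFor Scheme.fpqcPrecoverage (Over.mk φ₁.left : Over Y.left))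
    (aY : AlgGrp.Action Q Y) (hequiv : (q ⊗ₘ φ₁) ≫ aY.act = a.act ≫ φ₁)
    (φ₂ : Y ⟶ Z) (h₂ : IsPullback aY.act (snd Q Y) φ₂ φ₂)
    (h₂loc : NonAbH1.IsLocallyTrivialFor Scheme.fpqcPrecoverage (Over.mk φ₂.left : Over Z.left)) :
    IsPullback a.act (snd G X) (φ₁ ≫ φ₂) (φ₁ ≫ φ₂) ∧
      NonAbH1.IsLocallyTrivialFor Scheme.fpqcPrecoverage
        (Over.mk (φ₁ ≫ φ₂).left : Over Z.left) :=
  ⟨cart iN q hker iH a φ₁ h₁ aY hequiv φ₂ h₂, loctriv φ₁ φ₂ h₁loc h₂loc⟩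

end Groth.Agent.Lib.BundleStages
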