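import Mathlib
import Groth.Agent.Lib.Regular_helper5
import Groth.Agent.Lib.Regular2_helper5

/-!
# Parts of regular systems of parameters (helper5)

For a Noetherian local ring `A` and elements `x i ∈ m`, `J = (x)`: `A` regular with the classes of
the `x i` linearly independent in `m/m²` iff `dim A/J + r = dim A` and `A/J` regular.
-/

namespace Groth.Agent.RegParam

open IsLocalRing

universe u

variable {A : Type u} [CommRing A] [IsLocalRing A] [IsNoetherianRing A]

theorem spanFinrank_span_range_le {R M ι : Type*} [Semiring R] [AddCommMonoid M] [Module R M]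
    [Fintype ι] (f : ι → M) :
    (Submodule.span R (Set.range f)).spanFinrank ≤ Fintype.card ι := by
  refine (Submodule.spanFinrank_span_le_ncard_of_finite (Set.finite_range f)).trans ?_
  rw [← Set.image_univ]
  refine (Set.ncard_image_le Set.finite_univ).trans ?_
  rw [Set.ncard_univ, Nat.card_eq_fintype_card]

theorem span_le {ι : Type*} (x : ι → maximalIdeal A) :
    Ideal.span (Set.range fun i => (x i : A)) ≤ maximalIdeal A := by
  rw [Ideal.span_le]
  rintro _ ⟨i, rfl⟩
  exact (x i).2

theorem span_ne_top {ι : Type*} (x : ι → maximalIdeal A) :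
    Ideal.span (Set.range fun i => (x i : A)) ≠ ⊤ := fun h =>
  (maximalIdeal.isMaximal A).ne_top (top_le_iff.mp (h ▸ span_le x))

/-- Classes of `x ∪ y` span `m/m²` iff `x ∪ y` generate `m`. -/
theorem span_cotangent_eq_top_iff {ι κ : Type*} (x : ι → maximalIdeal A)
    (y : κ → maximalIdeal A) :
    Submodule.span (ResidueField A)
        (Set.range (fun i => (maximalIdeal A).toCotangent (x i)) ∪
          Set.range (fun j => (maximalIdeal A).toCotangent (y j))) = ⊤ ↔
      Ideal.span (Set.range fun i => (x i : A)) ⊔ Ideal.span (Set.range fun j => (y j : A)) =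
        maximalIdeal A := by
  have h1 : Set.range (fun i => (maximalIdeal A).toCotangent (x i)) ∪
      Set.range (fun j => (maximalIdeal A).toCotangent (y j)) =
      (maximalIdeal A).toCotangent '' (Set.range x ∪ Set.range y) := by
    rw [Set.image_union, ← Set.range_comp, ← Set.range_comp]
    rfl
  rw [h1, CotangentSpace.span_image_eq_top_iff]
  have h2 : (Submodule.span A (Set.range x ∪ Set.range y)).map (maximalIdeal A).subtype =
      Ideal.span (Set.range fun i => (x i : A)) ⊔ Ideal.span (Set.range fun j => (y j : A)) := by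
    rw [Submodule.map_span, Set.image_union, ← Set.range_comp, ← Set.range_comp,
      Submodule.span_union]
    rfl
  rw [← h2]
  constructor
  · intro h
    rw [h, Submodule.map_top, Submodule.range_subtype]
  · intro h
    apply Submodule.map_injective_of_injective (maximalIdeal A).injective_subtype
    rw [h, Submodule.map_top, Submodule.range_subtype]

theorem map_eq_span {ι κ : Type*} (x : ι → maximalIdeal A) (y : κ → maximalIdeal A)
    [IsLocalRing (A ⧸ Ideal.span (Set.range fun i => (x i : A)))]
    (h : Ideal.span (Set.range fun i => (x i : A)) ⊔ Ideal.span (Set.range fun j => (y j : A)) =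
      maximalIdeal A) :
    maximalIdeal (A ⧸ Ideal.span (Set.range fun i => (x i : A))) =
      Ideal.span (Set.range fun j =>
        Ideal.Quotient.mk (Ideal.span (Set.range fun i => (x i : A))) (y j : A)) := by
  have h1 := congrArg (Ideal.map (Ideal.Quotient.mk (Ideal.span (Set.range fun i => (x i : A)))))
    h.symm
  rw [IsLocalRing.map_maximalIdeal_of_surjective _ Ideal.Quotient.mk_surjective,
    Ideal.map_sup, Ideal.map_quotient_self, bot_sup_eq, Ideal.map_span, ← Set.range_comp] at h1
  exact h1

theorem sup_eq_of_map {κ : Type*} (J : Ideal A) (hJ : J ≤ maximalIdeal A)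
    (y : κ → maximalIdeal A) [IsLocalRing (A ⧸ J)]
    (h : maximalIdeal (A ⧸ J) =
      Ideal.span (Set.range fun j => Ideal.Quotient.mk J (y j : A))) :
    J ⊔ Ideal.span (Set.range fun j => (y j : A)) = maximalIdeal A := by
  have h' : Ideal.map (Ideal.Quotient.mk J) (maximalIdeal A) =
      Ideal.map (Ideal.Quotient.mk J) (Ideal.span (Set.range fun j => (y j : A))) := by
    rw [IsLocalRing.map_maximalIdeal_of_surjective _ Ideal.Quotient.mk_surjective, h,
      Ideal.map_span, ← Set.range_comp]
    rfl
  have := congrArg (Ideal.comap (Ideal.Quotient.mk J)) h'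
  rw [Ideal.comap_map_of_surjective _ Ideal.Quotient.mk_surjective,
    Ideal.comap_map_of_surjective _ Ideal.Quotient.mk_surjective,
    ← RingHom.ker_eq_comap_bot, Ideal.mk_ker] at this
  rw [sup_comm, ← this, sup_eq_left.mpr hJ]

theorem exists_lift (J : Ideal A) [IsLocalRing (A ⧸ J)] :
    ∃ (κ : Type u) (_ : Fintype κ) (y : κ → maximalIdeal A),
      Fintype.card κ = (maximalIdeal (A ⧸ J)).spanFinrank ∧
      maximalIdeal (A ⧸ J) =
        Ideal.span (Set.range fun j => Ideal.Quotient.mk J (y j : A)) := by
  classical
  obtain ⟨s, hscard, hsspan⟩ := Submodule.FG.exists_span_finset_card_eq_spanFinrank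
    (IsNoetherian.noetherian (maximalIdeal (A ⧸ J)))
  have surj : Function.Surjective (Ideal.Quotient.mk J) := Ideal.Quotient.mk_surjective
  have hmem : ∀ b : s, ∃ a : maximalIdeal A, Ideal.Quotient.mk J (a : A) = b := by
    intro b
    have hb : (b : A ⧸ J) ∈ maximalIdeal (A ⧸ J) := by
      rw [← hsspan]
      exact Submodule.subset_span b.2
    rw [← IsLocalRing.map_maximalIdeal_of_surjective _ surj] at hb
    obtain ⟨a, ha, hab⟩ := (Ideal.mem_map_iff_of_surjective _ surj).mp hb
    exact ⟨⟨a, ha⟩, hab⟩
  choose f hf using hmem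
  refine ⟨s, inferInstance, f, by simpa using hscard, ?_⟩
  have : (fun j : s => Ideal.Quotient.mk J (f j : A)) = fun j : s => (j : A ⧸ J) := funext hf
  rw [this, Subtype.range_coe_subtype]
  exact hsspan.symm

theorem forward (r : ℕ) (x : Fin r → maximalIdeal A) [IsRegularLocalRing A]
    (hli : LinearIndependent (ResidueField A) fun i => (maximalIdeal A).toCotangent (x i))
    [IsLocalRing (A ⧸ Ideal.span (Set.range fun i => (x i : A)))] :
    ringKrullDim (A ⧸ Ideal.span (Set.range fun i => (x i : A))) + r = ringKrullDim A ∧
      IsRegularLocalRing (A ⧸ Ideal.span (Set.range fun i => (x i : A))) := by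
  classical
  set J := Ideal.span (Set.range fun i => (x i : A)) with hJ
  set W : Submodule (ResidueField A) (CotangentSpace A) :=
    Submodule.span (ResidueField A) (Set.range fun i => (maximalIdeal A).toCotangent (x i)) with hW
  have hWr : Module.finrank (ResidueField A) W = r := by
    simpa using finrank_span_eq_card hli
  have hq := Submodule.finrank_quotient_add_finrank W
  let B := Module.finBasis (ResidueField A) (CotangentSpace A ⧸ W)
  have hsurj : ∀ j, ∃ a : maximalIdeal A, W.mkQ ((maximalIdeal A).toCotangent a) = B j := by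
    intro j
    obtain ⟨v, hv⟩ := W.mkQ_surjective (B j)
    obtain ⟨a, rfl⟩ := (maximalIdeal A).toCotangent_surjective v
    exact ⟨a, hv⟩
  choose y hy using hsurj
  have hspan : Submodule.span (ResidueField A)
      (Set.range (fun i => (maximalIdeal A).toCotangent (x i)) ∪
        Set.range (fun j => (maximalIdeal A).toCotangent (y j))) = ⊤ := by
    rw [Submodule.span_union]
    have h1 : (Submodule.span (ResidueField A)
        (Set.range (fun j => (maximalIdeal A).toCotangent (y j)))).map W.mkQ = ⊤ := by
      rw [Submodule.map_span, ← Set.range_comp]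
      have : (W.mkQ ∘ fun j => (maximalIdeal A).toCotangent (y j)) = B := funext hy
      rw [this]
      exact B.span_eq
    have h2 := congrArg (Submodule.comap W.mkQ) h1
    rw [Submodule.comap_map_mkQ, Submodule.comap_top] at h2
    exact h2
  have hsup := (span_cotangent_eq_top_iff x y).mp hspan
  have hmax := map_eq_span x y hsup
  -- numerics
  set t := Module.finrank (ResidueField A) (CotangentSpace A ⧸ W) with ht
  have hemb : (maximalIdeal (A ⧸ J)).spanFinrank ≤ t := by
    rw [hmax]
    exact (spanFinrank_span_range_le _).trans (by simp [ht])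
  have hmu : J.spanFinrank ≤ r :=
    (spanFinrank_span_range_le (R := A) fun i => (x i : A)).trans (by simp)
  have hjac : J ≤ Ring.jacobson A := by
    rw [IsLocalRing.ringJacobson_eq_maximalIdeal]
    exact span_le x
  have hdimle := ringKrullDim_le_ringKrullDim_quotient_add_spanFinrank J hjac
  have hle := ringKrullDim_le_spanFinrank_maximalIdeal (A ⧸ J)
  have hA : ((maximalIdeal A).spanFinrank : WithBot ℕ∞) = ringKrullDim A :=
    IsRegularLocalRing.spanFinrank_maximalIdeal
  have hAV := spanFinrank_maximalIdeal_eq_finrank_cotangentSpace A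
  obtain ⟨d, hd, hde⟩ := Groth.Agent.RegularLib.exists_nat_eq_of_le
    ringKrullDim_nonneg_of_nontrivial hle
  rw [hd] at hdimle ⊢
  rw [← hA] at hdimle ⊢
  have h3 : (maximalIdeal A).spanFinrank ≤ d + J.spanFinrank := by exact_mod_cast hdimle
  have hdt : d = t := by omega
  have hdr : d + r = (maximalIdeal A).spanFinrank := by omega
  refine ⟨by exact_mod_cast hdr, ?_⟩
  apply IsRegularLocalRing.of_spanFinrank_maximalIdeal_le
  rw [hd]
  have : (maximalIdeal (A ⧸ J)).spanFinrank ≤ d := by omega
  exact_mod_cast this

theorem backward (r : ℕ) (x : Fin r → maximalIdeal A)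
    [IsRegularLocalRing (A ⧸ Ideal.span (Set.range fun i => (x i : A)))]
    (hdim : ringKrullDim (A ⧸ Ideal.span (Set.range fun i => (x i : A))) + r = ringKrullDim A) :
    IsRegularLocalRing A ∧
      LinearIndependent (ResidueField A) fun i => (maximalIdeal A).toCotangent (x i) := by
  classical
  set J := Ideal.span (Set.range fun i => (x i : A)) with hJ
  obtain ⟨κ, _, y, hcard, hy⟩ := exists_lift J
  have hsup := sup_eq_of_map J (span_le x) y hy
  have hspan := (span_cotangent_eq_top_iff x y).mpr hsup
  let b : Fin r ⊕ κ → CotangentSpace A :=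
    Sum.elim (fun i => (maximalIdeal A).toCotangent (x i))
      (fun j => (maximalIdeal A).toCotangent (y j))
  have hb : Submodule.span (ResidueField A) (Set.range b) = ⊤ := by
    rw [Set.Sum.elim_range]
    exact hspan
  have hcardb : Fintype.card (Fin r ⊕ κ) = r + (maximalIdeal (A ⧸ J)).spanFinrank := by
    simp [hcard]
  have hfin : Module.finrank (ResidueField A) (CotangentSpace A) ≤ Fintype.card (Fin r ⊕ κ) := by
    have := finrank_range_le_card (R := ResidueField A) b
    rw [Set.finrank, hb, finrank_top] at this
    exact this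
  have hAV := spanFinrank_maximalIdeal_eq_finrank_cotangentSpace A
  have hq : ((maximalIdeal (A ⧸ J)).spanFinrank : WithBot ℕ∞) = ringKrullDim (A ⧸ J) :=
    IsRegularLocalRing.spanFinrank_maximalIdeal
  have hle := ringKrullDim_le_spanFinrank_maximalIdeal A
  rw [← hdim, ← hq] at hle
  have hle' : (maximalIdeal (A ⧸ J)).spanFinrank + r ≤ (maximalIdeal A).spanFinrank := by
    exact_mod_cast hle
  have heq : (maximalIdeal A).spanFinrank = (maximalIdeal (A ⧸ J)).spanFinrank + r := by omega
  have hreg : IsRegularLocalRing A := by
    apply IsRegularLocalRing.of_spanFinrank_maximalIdeal_le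
    rw [← hdim, ← hq, heq]
    exact_mod_cast le_refl _
  refine ⟨hreg, ?_⟩
  have hlib : LinearIndependent (ResidueField A) b :=
    linearIndependent_of_top_le_span_of_card_eq_finrank hb.ge (by omega)
  exact hlib.comp Sum.inl Sum.inl_injective

theorem main (r : ℕ) (x : Fin r → maximalIdeal A) :
    ((IsRegularLocalRing A ∧
        LinearIndependent (ResidueField A) (fun i => (maximalIdeal A).toCotangent (x i))) ↔
      (ringKrullDim (A ⧸ Ideal.span (Set.range fun i => (x i : A))) + r = ringKrullDim A ∧
        IsRegularLocalRing (A ⧸ Ideal.span (Set.range fun i => (x i : A))))) ∧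
    (IsRegularLocalRing (A ⧸ Ideal.span (Set.range fun i => (x i : A))) →
      ringKrullDim (A ⧸ Ideal.span (Set.range fun i => (x i : A))) + r = ringKrullDim A →
        (Ideal.span (Set.range fun i => (x i : A))).IsPrime) := by
  refine ⟨⟨?_, ?_⟩, ?_⟩
  · rintro ⟨hreg, hli⟩
    haveI := Groth.Agent.RegularLib.isLocalRing_quotient _ (span_ne_top x)
    exact forward r x hli
  · rintro ⟨hdim, hreg⟩
    exact backward r x hdim
  · intro hreg _
    haveI := Groth.Agent.RegularLib.isDomain (A ⧸ Ideal.span (Set.range fun i => (x i : A)))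
    exact (Ideal.Quotient.isDomain_iff_prime _).mp inferInstance

/-- Linearly independent classes extend to a minimal system of generators of `m`. -/
theorem exists_extension (r : ℕ) (x : Fin r → maximalIdeal A)
    (hli : LinearIndependent (ResidueField A) fun i => (maximalIdeal A).toCotangent (x i)) :
    ∃ (t : ℕ) (y : Fin t → maximalIdeal A),
      Ideal.span (Set.range fun i => (x i : A)) ⊔ Ideal.span (Set.range fun j => (y j : A)) =
        maximalIdeal A ∧ r + t = (maximalIdeal A).spanFinrank := by
  classical
  set W : Submodule (ResidueField A) (CotangentSpace A) :=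
    Submodule.span (ResidueField A) (Set.range fun i => (maximalIdeal A).toCotangent (x i)) with hW
  have hWr : Module.finrank (ResidueField A) W = r := by
    simpa using finrank_span_eq_card hli
  have hq := Submodule.finrank_quotient_add_finrank W
  let B := Module.finBasis (ResidueField A) (CotangentSpace A ⧸ W)
  have hsurj : ∀ j, ∃ a : maximalIdeal A, W.mkQ ((maximalIdeal A).toCotangent a) = B j := by
    intro j
    obtain ⟨v, hv⟩ := W.mkQ_surjective (B j)
    obtain ⟨a, rfl⟩ := (maximalIdeal A).toCotangent_surjective v
    exact ⟨a, hv⟩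
  choose y hy using hsurj
  have hspan : Submodule.span (ResidueField A)
      (Set.range (fun i => (maximalIdeal A).toCotangent (x i)) ∪
        Set.range (fun j => (maximalIdeal A).toCotangent (y j))) = ⊤ := by
    rw [Submodule.span_union]
    have h1 : (Submodule.span (ResidueField A)
        (Set.range (fun j => (maximalIdeal A).toCotangent (y j)))).map W.mkQ = ⊤ := by
      rw [Submodule.map_span, ← Set.range_comp]
      have : (W.mkQ ∘ fun j => (maximalIdeal A).toCotangent (y j)) = B := funext hy
      rw [this]
      exact B.span_eq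
    have h2 := congrArg (Submodule.comap W.mkQ) h1
    rw [Submodule.comap_map_mkQ, Submodule.comap_top] at h2
    exact h2
  refine ⟨_, y, (span_cotangent_eq_top_iff x y).mp hspan, ?_⟩
  rw [spanFinrank_maximalIdeal_eq_finrank_cotangentSpace A]
  omega

theorem ofList_ofFn {R : Type*} [CommRing R] {n : ℕ} (f : Fin n → R) :
    Ideal.ofList (List.ofFn f) = Ideal.span (Set.range f) := by
  unfold Ideal.ofList
  congr 1
  ext a
  simp [List.mem_ofFn]

/-- Part of a regular system of parameters is a regular sequence. -/
theorem isRegular_ofFn (r : ℕ) (x : Fin r → maximalIdeal A) [IsRegularLocalRing A]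
    (hli : LinearIndependent (ResidueField A) fun i => (maximalIdeal A).toCotangent (x i)) :
    RingTheory.Sequence.IsRegular A (List.ofFn fun i => (x i : A)) := by
  obtain ⟨t, y, hsup, hcard⟩ := exists_extension r x hli
  have hm : Ideal.ofList ((List.ofFn fun i => (x i : A)) ++ (List.ofFn fun j => (y j : A))) =
      maximalIdeal A := by
    rw [Ideal.ofList_append, ofList_ofFn, ofList_ofFn]
    exact hsup
  have hreg := Groth.Agent.RegularLib.isRegular_of_ofList_eq A _ hm
    (by rw [List.length_append, List.length_ofFn, List.length_ofFn]; exact hcard)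
  have hw := ((RingTheory.Sequence.isWeaklyRegular_append_iff A _ _).mp
    hreg.toIsWeaklyRegular).1
  refine RingTheory.Sequence.IsRegular.of_isWeaklyRegular_of_mem_maximalIdeal A ?_ hw
  intro a ha
  rw [List.mem_ofFn] at ha
  obtain ⟨i, rfl⟩ := ha
  exact (x i).2

omit [IsNoetherianRing A] in
theorem derivation_sq_mem (D : Derivation ℤ A A) :
    ∀ z ∈ (maximalIdeal A) ^ 2, D z ∈ maximalIdeal A := by
  intro z hz
  rw [pow_two] at hz
  refine Submodule.mul_induction_on hz ?_ ?_
  · intro a ha b hb
    rw [D.leibniz, smul_eq_mul, smul_eq_mul]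
    exact Ideal.add_mem _ (Ideal.mul_mem_right _ _ ha) (Ideal.mul_mem_right _ _ hb)
  · intro a b ha hb
    rw [map_add]
    exact Ideal.add_mem _ ha hb

/-- Jacobian criterion: if `det (D_i f_j)` is a unit then the classes of the `f_j` in `m/m²` are
linearly independent. -/
theorem linearIndependent_of_derivation (m : ℕ) (f : Fin m → A)
    (hf : ∀ i, f i ∈ maximalIdeal A) (D : Fin m → Derivation ℤ A A)
    (hdet : IsUnit (Matrix.det (Matrix.of (fun i j : Fin m => D i (f j))))) :
    LinearIndependent (ResidueField A)
      (fun j => (maximalIdeal A).toCotangent ⟨f j, hf j⟩) := by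
  classical
  rw [Fintype.linearIndependent_iff]
  intro g hg
  have hex : ∀ j, ∃ a : A, residue A a = g j := fun j => residue_surjective (g j)
  choose a ha using hex
  have h1 : (maximalIdeal A).toCotangent (∑ j, a j • (⟨f j, hf j⟩ : maximalIdeal A)) = 0 := by
    rw [map_sum, ← hg]
    refine Finset.sum_congr rfl fun j _ => ?_
    rw [map_smul, ← ha j]
    rfl
  rw [Ideal.toCotangent_eq_zero] at h1
  have h2 : ∑ j, a j * f j ∈ (maximalIdeal A) ^ 2 := by
    simpa using h1
  have h3 : ∀ i, ∑ j, D i (f j) * a j ∈ maximalIdeal A := by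
    intro i
    have := derivation_sq_mem (D i) _ h2
    rw [map_sum] at this
    simp only [Derivation.leibniz, smul_eq_mul] at this
    rw [Finset.sum_add_distrib] at this
    have h4 : ∑ j, f j * D i (a j) ∈ maximalIdeal A :=
      Ideal.sum_mem _ fun j _ => Ideal.mul_mem_right _ _ (hf j)
    have h5 := (Ideal.add_mem_iff_left _ h4).mp this
    simpa [mul_comm] using h5
  set M := Matrix.of (fun i j : Fin m => D i (f j)) with hMdef
  have hM : M⁻¹ * M = 1 := Matrix.nonsing_inv_mul M hdet
  have h5 : ∀ j, a j ∈ maximalIdeal A := by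
    intro j
    have h6 : a = Matrix.mulVec M⁻¹ (Matrix.mulVec M a) := by rw [Matrix.mulVec_mulVec, hM, Matrix.one_mulVec]
    rw [h6]
    simp only [Matrix.mulVec, dotProduct]
    exact Ideal.sum_mem _ fun i _ => Ideal.mul_mem_left _ _ (h3 i)
  intro j
  rw [← ha j]
  exact (residue_eq_zero_iff _).mpr (h5 j)

end Groth.Agent.RegParam
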