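import Mathlib
import Groth.Agent.Lib.RegParam_helper5

/-!
# Flat local homomorphisms with `m_R S = m_S` (helper5)

dimension, embedding dimension and regularity are preserved.
-/

set_option autoImplicit false
universe u

namespace Groth.Agent.UnramFlat

open IsLocalRing

section cot

variable {A : Type*} [CommRing A] [IsLocalRing A] [IsNoetherianRing A]

theorem span_cotangent_range_eq_top_iff {ι : Type*} (x : ι → maximalIdeal A) :
    Submodule.span (ResidueField A) (Set.range fun i => (maximalIdeal A).toCotangent (x i)) = ⊤ ↔
      Ideal.span (Set.range fun i => (x i : A)) = maximalIdeal A := by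
  have h1 : Set.range (fun i => (maximalIdeal A).toCotangent (x i)) =
      (maximalIdeal A).toCotangent '' Set.range x := by
    rw [← Set.range_comp]
    rfl
  rw [h1, CotangentSpace.span_image_eq_top_iff]
  have h2 : (Submodule.span A (Set.range x)).map (maximalIdeal A).subtype =
      Ideal.span (Set.range fun i => (x i : A)) := by
    rw [Submodule.map_span, ← Set.range_comp]
    rfl
  rw [← h2]
  constructor
  · intro h
    rw [h, Submodule.map_top, Submodule.range_subtype]
  · intro h
    apply Submodule.map_injective_of_injective (maximalIdeal A).injective_subtype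
    rw [h, Submodule.map_top, Submodule.range_subtype]

end cot

variable (R S : Type u) [CommRing R] [CommRing S] [IsLocalRing R] [IsLocalRing S] [Algebra R S]
  [IsLocalHom (algebraMap R S)] [Module.Flat R S]

theorem ringKrullDim_eq [IsNoetherianRing R] [IsNoetherianRing S]
    (hm : (maximalIdeal R).map (algebraMap R S) = maximalIdeal S) :
    ringKrullDim S = ringKrullDim R := by
  have h := Ideal.height_eq_height_add_of_liesOver_of_hasGoingDown (maximalIdeal R) (maximalIdeal S)
  rw [hm, Ideal.map_quotient_self, Ideal.height_bot, add_zero] at h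
  rw [← IsLocalRing.maximalIdeal_height_eq_ringKrullDim,
    ← IsLocalRing.maximalIdeal_height_eq_ringKrullDim, h]

omit [Module.Flat R S] [IsLocalHom (algebraMap R S)] in
theorem spanFinrank_le [IsNoetherianRing R]
    (hm : (maximalIdeal R).map (algebraMap R S) = maximalIdeal S) :
    (maximalIdeal S).spanFinrank ≤ (maximalIdeal R).spanFinrank := by
  rw [← hm]
  exact Ideal.spanFinrank_map_le_of_fg _ (IsNoetherian.noetherian _)

theorem spanFinrank_ge [IsNoetherianRing R] [IsNoetherianRing S]
    (hm : (maximalIdeal R).map (algebraMap R S) = maximalIdeal S) :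
    (maximalIdeal R).spanFinrank ≤ (maximalIdeal S).spanFinrank := by
  classical
  by_contra hlt
  push Not at hlt
  haveI : Module.FaithfullyFlat R S := Module.FaithfullyFlat.of_flat_of_isLocalHom
  obtain ⟨s, hscard, hsspan⟩ := Submodule.FG.exists_span_finset_card_eq_spanFinrank
    (IsNoetherian.noetherian (maximalIdeal R))
  have hsm : ∀ a : s, algebraMap R S (a : R) ∈ maximalIdeal S := by
    intro a
    rw [← hm]
    apply Ideal.mem_map_of_mem
    rw [← hsspan]
    exact Submodule.subset_span a.2
  let y : s → maximalIdeal S := fun a => ⟨algebraMap R S (a : R), hsm a⟩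
  have hy : Ideal.span (Set.range fun a => (y a : S)) = maximalIdeal S := by
    have hr : Set.range (fun a => (y a : S)) = algebraMap R S '' (s : Set R) := by
      ext z
      simp [y]
    rw [hr, ← Ideal.map_span]
    change Ideal.map _ (Submodule.span R (s : Set R)) = _
    rw [hsspan]
    exact hm
  have htop := (span_cotangent_range_eq_top_iff y).mpr hy
  have hnli : ¬ LinearIndependent (ResidueField S)
      (fun a => (maximalIdeal S).toCotangent (y a)) := by
    intro hli
    have := hli.fintype_card_le_finrank
    rw [← spanFinrank_maximalIdeal_eq_finrank_cotangentSpace S, Fintype.card_coe, hscard] at this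
    omega
  rw [linearIndependent_iff_notMem_span] at hnli
  push Not at hnli
  obtain ⟨j, hj⟩ := hnli
  -- the family without `j` still spans
  let y' : {a : s // a ≠ j} → maximalIdeal S := fun a => y a.1
  have hrange : Set.range (fun a => (maximalIdeal S).toCotangent (y' a)) =
      (fun a => (maximalIdeal S).toCotangent (y a)) '' (Set.univ \ {j}) := by
    ext v
    constructor
    · rintro ⟨a, rfl⟩
      exact ⟨a.1, ⟨Set.mem_univ _, a.2⟩, rfl⟩
    · rintro ⟨a, ⟨-, ha⟩, rfl⟩
      exact ⟨⟨a, ha⟩, rfl⟩
  have htop' : Submodule.span (ResidueField S)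
      (Set.range fun a => (maximalIdeal S).toCotangent (y' a)) = ⊤ := by
    rw [hrange, eq_top_iff, ← htop, Submodule.span_le]
    rintro _ ⟨a, rfl⟩
    by_cases haj : a = j
    · rw [haj]
      exact hj
    · exact Submodule.subset_span ⟨a, ⟨Set.mem_univ _, haj⟩, rfl⟩
  have hy' := (span_cotangent_range_eq_top_iff y').mp htop'
  -- descend to `R`
  have hI : (Ideal.span ((s.erase j.1 : Finset R) : Set R)).map (algebraMap R S) =
      maximalIdeal S := by
    refine Eq.trans ?_ hy'
    rw [Ideal.map_span]
    congr 1
    ext z
    constructor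
    · rintro ⟨a, ha, rfl⟩
      rw [Finset.mem_coe, Finset.mem_erase] at ha
      exact ⟨⟨⟨a, ha.2⟩, fun h => ha.1 (congrArg Subtype.val h)⟩, rfl⟩
    · rintro ⟨a, rfl⟩
      refine ⟨a.1.1, ?_, rfl⟩
      rw [Finset.mem_coe, Finset.mem_erase]
      exact ⟨fun h => a.2 (Subtype.ext h), a.1.2⟩
  have hI2 : Ideal.span ((s.erase j.1 : Finset R) : Set R) = maximalIdeal R := by
    rw [← Ideal.comap_map_eq_self_of_faithfullyFlat (B := S)
      (Ideal.span ((s.erase j.1 : Finset R) : Set R)), hI, ← hm,
      Ideal.comap_map_eq_self_of_faithfullyFlat]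
  have hle : (maximalIdeal R).spanFinrank ≤ (s.erase j.1).card := by
    conv_lhs => rw [← hI2]
    refine (Submodule.spanFinrank_span_le_ncard_of_finite (Finset.finite_toSet _)).trans ?_
    rw [Set.ncard_coe_finset]
  rw [Finset.card_erase_of_mem j.2, hscard] at hle
  have hpos : 0 < (maximalIdeal R).spanFinrank := by omega
  omega

theorem regular_iff [IsNoetherianRing R] [IsNoetherianRing S]
    (hm : (maximalIdeal R).map (algebraMap R S) = maximalIdeal S) :
    IsRegularLocalRing R ↔ IsRegularLocalRing S := by
  have h1 := ringKrullDim_eq R S hm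
  have h2 := le_antisymm (spanFinrank_le R S hm) (spanFinrank_ge R S hm)
  rw [isRegularLocalRing_iff, isRegularLocalRing_iff, h1, h2]

end Groth.Agent.UnramFlat
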