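import Mathlib
import Groth.Prelude.Def_CAlg
import Groth.Prelude.Def_EGA4b
import Groth.Agent.Lib.CM_helper5
import Groth.Agent.Lib.DepthFlat_helper5
import Groth.Agent.Lib.DepthLoc_helper5
import Groth.Agent.Lib.AssFlat_helper5
import Groth.Agent.Lib.UnramFlat_helper5
import Groth.Agent.Lib.CompletionRegular_helper5

/-!
# Formal equidimensionality of rings with a Cohen–Macaulay module of full support (helper5)
-/

set_option autoImplicit false
universe u

namespace Groth.Agent.FormalEquidim

open IsLocalRing TensorProduct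

/-- Let `A → B` be a flat local homomorphism of Noetherian local rings with `m_A B = m_B`. If `A`
has a finite Cohen–Macaulay module with full support, then `B ⊗ M` is Cohen–Macaulay of dimension
`dim B` and every minimal prime of `B` is associated to it. -/
theorem isEquidim_of_flat (A B : Type u) [CommRing A] [CommRing B] [IsLocalRing A]
    [IsNoetherianRing A] [IsLocalRing B] [IsNoetherianRing B] [Algebra A B]
    [IsLocalHom (algebraMap A B)] [Module.Flat A B]
    (hm : (maximalIdeal A).map (algebraMap A B) = maximalIdeal B)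
    (M : Type u) [AddCommGroup M] [Module A M] [Module.Finite A M]
    (hCM : LocCoh.IsCohenMacaulayModule A M) (hsupp : Module.support A M = Set.univ) :
    EGA4.IsEquidim B := by
  haveI : Module.FaithfullyFlat A B := Module.FaithfullyFlat.of_flat_of_isLocalHom
  haveI : Nontrivial M := Groth.Agent.DepthLib.nontrivial_of_isCM M hCM
  have hdim : ringKrullDim B = ringKrullDim A := Groth.Agent.UnramFlat.ringKrullDim_eq A B hm
  have hdepth : LocCoh.depth B (B ⊗[A] M) = LocCoh.depth A M := by
    unfold LocCoh.depth
    rw [← hm]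
    exact Groth.Agent.DepthLib.idealDepth_baseChange_eq A B _ M
  have hsd : Module.supportDim A M = ringKrullDim A := by
    unfold Module.supportDim
    rw [hsupp]
    exact Order.krullDim_eq_of_orderIso (OrderIso.Set.univ)
  -- `B ⊗ M` is CM of dimension `dim B`
  have hle1 : Module.supportDim B (B ⊗[A] M) ≤ ringKrullDim B := Module.supportDim_le_ringKrullDim _ _
  have hle2 := Groth.Agent.DepthLib.depth_le_supportDim B (B ⊗[A] M)
  have hCM' : LocCoh.IsCohenMacaulayModule B (B ⊗[A] M) := by
    unfold LocCoh.IsCohenMacaulayModule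
    apply le_antisymm _ hle2
    rw [hdepth, ← hCM, hsd, ← hdim]
    exact hle1
  have hsd' : Module.supportDim B (B ⊗[A] M) = ringKrullDim B := by
    apply le_antisymm hle1
    rw [hdim, ← hsd, hCM, ← hdepth]
    exact hle2
  -- minimal primes of `B` are associated primes of `B ⊗ M`
  intro P hP
  haveI hPprime : P.IsPrime := hP.1.1
  set p : Ideal A := P.comap (algebraMap A B) with hp
  haveI : p.IsPrime := Ideal.comap_isPrime _ P
  haveI : P.LiesOver p := ⟨rfl⟩
  have hpmin : p ∈ minimalPrimes A := by
    refine ⟨⟨inferInstance, bot_le⟩, ?_⟩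
    rintro q ⟨hqprime, -⟩ hqp
    haveI := hqprime
    obtain ⟨Q, hQP, hQprime, hQq⟩ := Ideal.exists_ideal_le_liesOver_of_le (p := q) (q := p) P hqp
    have hQeq : Q = P := le_antisymm hQP (hP.2 ⟨hQprime, bot_le⟩ hQP)
    rw [hQq.over, hQeq]
  have hpsupp : (⟨p, inferInstance⟩ : PrimeSpectrum A) ∈ Module.support A M := by
    rw [hsupp]; trivial
  have hpass : p ∈ associatedPrimes A M := by
    apply Module.associatedPrimes.minimalPrimes_annihilator_subset_associatedPrimes A M
    rw [Module.support_eq_zeroLocus] at hpsupp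
    refine ⟨⟨inferInstance, hpsupp⟩, ?_⟩
    rintro q ⟨hqprime, -⟩ hqp
    exact hpmin.2 ⟨hqprime, bot_le⟩ hqp
  have hPass : P ∈ associatedPrimes B (B ⊗[A] M) := by
    rw [Groth.Agent.AssFlat.associatedPrimes_tensor (S := B) (N := B) M]
    simp only [Set.mem_iUnion]
    refine ⟨p, hpass, ?_⟩
    have htop : (p.map (algebraMap A B) • (⊤ : Submodule B B)) = p.map (algebraMap A B) := by
      rw [smul_eq_mul, Ideal.mul_top]
    rw [htop]
    apply Module.associatedPrimes.minimalPrimes_annihilator_subset_associatedPrimes B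
      (B ⧸ p.map (algebraMap A B))
    rw [Ideal.annihilator_quotient]
    refine ⟨⟨inferInstance, Ideal.map_comap_le⟩, ?_⟩
    rintro Q ⟨hQprime, -⟩ hQP
    exact hP.2 ⟨hQprime, bot_le⟩ hQP
  rw [Groth.Agent.DepthLib.ringKrullDim_quotient_eq_of_isCM (B ⊗[A] M) hCM' P hPass, hsd']

theorem isFormallyEquidim (A : Type u) [CommRing A] [IsNoetherianRing A] [IsLocalRing A]
    (M : Type u) [AddCommGroup M] [Module A M] [Module.Finite A M]
    (hCM : LocCoh.IsCohenMacaulayModule A M) (hsupp : Module.support A M = Set.univ) :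
    EGA4.IsFormallyEquidim A := by
  have hne : IsLocalRing.maximalIdeal A ≠ ⊤ := (IsLocalRing.maximalIdeal.isMaximal A).ne_top
  haveI := Groth.Agent.RegularLib.isNoetherianRing_adicCompletion A (IsLocalRing.maximalIdeal A)
  exact isEquidim_of_flat A (AdicCompletion (maximalIdeal A) A)
    (AdicCompletion.maximalIdeal_eq_map).symm M hCM hsupp

end Groth.Agent.FormalEquidim
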