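import Mathlib
import Groth.Agent.Lib.FormalEquidim_helper9
import Groth.Agent.Lib.FormalEquidim_helper5
import Groth.Agent.Lib.CMSeq_helper5

/-!
# Rings with a Cohen–Macaulay module of full support are formally strictly catenary (helper9)

* `exists_cm_module_ass`: for a CM module `M` and `p ∈ Supp M` there is a CM module `N` with
  `p ∈ Ass N`.
* `isCM_baseChange`: CM modules stay CM under flat local maps with `m_A B = m_B`.
* `isFormallyStrictlyCatenary_of_isCM`: EGA IV 7.2.? (S2638).
APPEND-ONLY once landed.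
-/

set_option autoImplicit false
universe u

namespace Groth.Agent.EquiCat9

open IsLocalRing TensorProduct Groth.Agent.DepthLib RingTheory.Sequence

section CMAss

variable {A : Type u} [CommRing A] [IsLocalRing A] [IsNoetherianRing A]

theorem exists_cm_module_ass (M : Type u) [AddCommGroup M] [Module A M] [Module.Finite A M]
    (hCM : LocCoh.IsCohenMacaulayModule A M) (p : Ideal A) [hp : p.IsPrime]
    (hpM : (⟨p, hp⟩ : PrimeSpectrum A) ∈ Module.support A M) :
    ∃ (N : Type u) (_ : AddCommGroup N) (_ : Module A N) (_ : Module.Finite A N),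
      LocCoh.IsCohenMacaulayModule A N ∧ p ∈ associatedPrimes A N := by
  have hptop : p ≠ ⊤ := hp.ne_top
  have hpsupp : (⟨p, hp⟩ : PrimeSpectrum A) ∈
      Module.support A (M ⧸ (p • (⊤ : Submodule A M))) := by
    rw [Module.support_quotient]
    exact ⟨hpM, fun a ha => ha⟩
  have hIsmul : p • (⊤ : Submodule A M) ≠ ⊤ := by
    intro h
    have : Subsingleton (M ⧸ (p • (⊤ : Submodule A M))) := by
      rw [h]; infer_instance
    rw [← Module.support_eq_empty_iff (R := A)] at this
    rw [this] at hpsupp
    exact hpsupp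
  obtain ⟨n, hn⟩ := ENat.ne_top_iff_exists.1 (idealDepth_ne_top p M hIsmul)
  have hle : (n : ℕ∞) ≤ LocCoh.idealDepth p M := hn.le
  rw [le_idealDepth_iff] at hle
  rcases hle with h | ⟨rs, hreg, hmem, hlen⟩
  · exact absurd h hIsmul
  have hmemm : ∀ x ∈ rs, x ∈ maximalIdeal A := fun x hx => le_maximalIdeal hptop (hmem x hx)
  obtain ⟨hiff, hCMq⟩ := isCM_list rs M hCM hmemm
  have hdim1 := hiff.1 hreg
  have hCMN := hCMq hreg
  have hdim2 := supportDim_eq_add_idealDepth_of_isCM p hptop n M hCM hn.symm
  have hdim3 : Module.supportDim A (M ⧸ (Ideal.ofList rs • (⊤ : Submodule A M))) =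
      Module.supportDim A (M ⧸ (p • (⊤ : Submodule A M))) := by
    apply add_nat_cancel n
    rw [← hdim2, ← hdim1, hlen]
    rfl
  have hdim4 := supportDim_quotient_smul_top_eq M p hpM
  have hrsp : Ideal.ofList rs ≤ p := by
    rw [Ideal.ofList, Ideal.span_le]
    intro r hr
    exact hmem r hr
  have hpN : (⟨p, hp⟩ : PrimeSpectrum A) ∈
      Module.support A (M ⧸ (Ideal.ofList rs • (⊤ : Submodule A M))) := by
    rw [Module.support_quotient]
    exact ⟨hpM, fun a ha => hrsp ha⟩
  have hAnn := annihilator_le_of_mem_support _ (⟨p, hp⟩ : PrimeSpectrum A) hpN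
  obtain ⟨q, hq, hqp⟩ := Ideal.exists_minimalPrimes_le hAnn
  haveI := hq.1.1
  have hqass : q ∈ associatedPrimes A (M ⧸ (Ideal.ofList rs • (⊤ : Submodule A M))) :=
    Module.associatedPrimes.minimalPrimes_annihilator_subset_associatedPrimes A _ hq
  have hdq := ringKrullDim_quotient_eq_of_isCM _ hCMN q hqass
  have hqp' : q = p := eq_of_le_of_ringKrullDim_quotient_eq q p hqp
    (by rw [hdq, hdim3, hdim4]) (lt_of_le_of_lt (ringKrullDim_quotient_le p) ringKrullDim_lt_top)
  rw [hqp'] at hqass
  exact ⟨_, inferInstance, inferInstance, inferInstance, hCMN, hqass⟩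

end CMAss

section BaseChange

variable (A B : Type u) [CommRing A] [CommRing B] [IsLocalRing A] [IsNoetherianRing A]
  [IsLocalRing B] [IsNoetherianRing B] [Algebra A B] [IsLocalHom (algebraMap A B)]
  [Module.Flat A B]

theorem fibRing_dim_zero (hm : (maximalIdeal A).map (algebraMap A B) = maximalIdeal B) :
    ringKrullDim (EGA4.FibRing A B) = 0 := by
  have e : EGA4.FibRing A B ≃+* ResidueField B := Ideal.quotEquivOfEq hm
  rw [ringKrullDim_eq_of_ringEquiv e]
  exact ringKrullDim_eq_zero_of_field _

theorem supportDim_baseChange_le (hm : (maximalIdeal A).map (algebraMap A B) = maximalIdeal B)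
    (N : Type u) [AddCommGroup N] [Module A N] [Module.Finite A N] :
    Module.supportDim B (B ⊗[A] N) ≤ Module.supportDim A N := by
  rw [Module.supportDim_eq_ringKrullDim_quotient_annihilator,
    Module.supportDim_eq_ringKrullDim_quotient_annihilator]
  have hle : (Module.annihilator A N).map (algebraMap A B) ≤ Module.annihilator B (B ⊗[A] N) := by
    rw [Ideal.map_le_iff_le_comap]
    intro x hx
    rw [Ideal.mem_comap, Module.mem_annihilator]
    intro t
    rw [algebraMap_smul]
    exact Groth.Agent.AssFlat.smul_tensor_eq_zero x (fun m => Module.mem_annihilator.1 hx m) t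
  refine (ringKrullDim_le_of_surjective (Ideal.Quotient.factor hle)
    (Ideal.Quotient.factor_surjective hle)).trans ?_
  by_cases htop : Module.annihilator A N = ⊤
  · rw [htop, Ideal.map_top]
    haveI : Subsingleton (B ⧸ (⊤ : Ideal B)) := Ideal.Quotient.subsingleton_iff.2 rfl
    rw [ringKrullDim_eq_bot_of_subsingleton]
    exact bot_le
  · exact (ringKrullDim_quot_map_eq A B (fibRing_dim_zero A B hm) _ (le_maximalIdeal htop)).le

theorem isCM_baseChange (hm : (maximalIdeal A).map (algebraMap A B) = maximalIdeal B)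
    (N : Type u) [AddCommGroup N] [Module A N] [Module.Finite A N]
    (hCM : LocCoh.IsCohenMacaulayModule A N) :
    LocCoh.IsCohenMacaulayModule B (B ⊗[A] N) ∧
      Module.supportDim B (B ⊗[A] N) = Module.supportDim A N := by
  haveI : Module.FaithfullyFlat A B := Module.FaithfullyFlat.of_flat_of_isLocalHom
  haveI : Nontrivial N := nontrivial_of_isCM N hCM
  have hdepth : LocCoh.depth B (B ⊗[A] N) = LocCoh.depth A N := by
    unfold LocCoh.depth
    rw [← hm]
    exact idealDepth_baseChange_eq A B _ N
  have h1 := supportDim_baseChange_le A B hm N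
  have h2 := depth_le_supportDim B (B ⊗[A] N)
  have h3 : Module.supportDim A N = ((LocCoh.depth A N : ℕ∞) : WithBot ℕ∞) := hCM
  rw [hdepth, ← h3] at h2
  have h4 := le_antisymm h1 h2
  refine ⟨?_, h4⟩
  unfold LocCoh.IsCohenMacaulayModule
  rw [h4, hdepth]
  exact h3

theorem ringKrullDim_quot_ass_eq (hm : (maximalIdeal A).map (algebraMap A B) = maximalIdeal B)
    (N : Type u) [AddCommGroup N] [Module A N] [Module.Finite A N]
    (hCM : LocCoh.IsCohenMacaulayModule A N) (p : Ideal A) (hp : p ∈ associatedPrimes A N)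
    (P : Ideal B) (hP : P ∈ associatedPrimes B (B ⧸ p.map (algebraMap A B))) :
    ringKrullDim (B ⧸ P) = ringKrullDim (A ⧸ p) := by
  obtain ⟨hCM', hsd⟩ := isCM_baseChange A B hm N hCM
  have hPass : P ∈ associatedPrimes B (B ⊗[A] N) := by
    rw [Groth.Agent.AssFlat.associatedPrimes_tensor (S := B) (N := B) N]
    simp only [Set.mem_iUnion]
    refine ⟨p, hp, ?_⟩
    have htop : (p.map (algebraMap A B) • (⊤ : Submodule B B)) = p.map (algebraMap A B) := by
      rw [smul_eq_mul, Ideal.mul_top]
    rw [htop]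
    exact hP
  rw [ringKrullDim_quotient_eq_of_isCM (B ⊗[A] N) hCM' P hPass, hsd,
    ringKrullDim_quotient_eq_of_isCM N hCM p hp]

end BaseChange

section Strict

theorem ringKrullDim_quotQuot {R : Type u} [CommRing R] (I : Ideal R) (pb : Ideal (R ⧸ I)) :
    ringKrullDim ((R ⧸ I) ⧸ pb) = ringKrullDim (R ⧸ pb.comap (Ideal.Quotient.mk I)) := by
  have hle : I ≤ pb.comap (Ideal.Quotient.mk I) := by
    intro x hx
    rw [Ideal.mem_comap, Ideal.Quotient.eq_zero_iff_mem.2 hx]
    exact pb.zero_mem
  have hmap : (pb.comap (Ideal.Quotient.mk I)).map (Ideal.Quotient.mk I) = pb :=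
    Ideal.map_comap_of_surjective _ Ideal.Quotient.mk_surjective pb
  exact ringKrullDim_eq_of_ringEquiv
    ((Ideal.quotEquivOfEq hmap.symm).trans (DoubleQuot.quotQuotEquivQuotOfLE hle))

theorem isStrictlyEquidim_of_ringEquiv {R S : Type u} [CommRing R] [CommRing S]
    [IsNoetherianRing R] (e : R ≃+* S) (h : EGA4.IsStrictlyEquidim R) :
    EGA4.IsStrictlyEquidim S := by
  haveI : IsNoetherianRing S := isNoetherianRing_of_ringEquiv R e
  intro Q hQ
  obtain ⟨hQp, x, hx⟩ := (isAssociatedPrime_iff).1 hQ
  haveI := hQp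
  have hP : Q.comap (e : R →+* S) ∈ associatedPrimes R R := by
    refine (isAssociatedPrime_iff).2 ⟨inferInstance, e.symm x, ?_⟩
    ext r
    rw [Ideal.mem_comap, hx, Submodule.mem_colon_singleton, Submodule.mem_colon_singleton,
      Submodule.mem_bot, Submodule.mem_bot, smul_eq_mul, smul_eq_mul]
    constructor
    · intro h1
      apply e.injective
      rw [map_mul, map_zero, RingEquiv.apply_symm_apply]
      exact h1
    · intro h1
      have := congrArg e h1
      rw [map_mul, map_zero, RingEquiv.apply_symm_apply] at this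
      exact this
  rw [← ringKrullDim_eq_of_ringEquiv e, ← h _ hP]
  exact (ringKrullDim_eq_of_ringEquiv (Ideal.quotientEquiv (Q.comap (e : R →+* S)) Q e
    (Ideal.map_comap_of_surjective (e : R →+* S) e.surjective Q).symm)).symm

theorem isStrictlyEquidim_quot {R : Type u} [CommRing R] [IsNoetherianRing R] (I : Ideal R)
    (h : ∀ P ∈ associatedPrimes R (R ⧸ I), ringKrullDim (R ⧸ P) = ringKrullDim (R ⧸ I)) :
    EGA4.IsStrictlyEquidim (R ⧸ I) := by
  intro Q hQ
  obtain ⟨hQp, x, hx⟩ := (isAssociatedPrime_iff).1 hQ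
  haveI := hQp
  have hP : Q.comap (Ideal.Quotient.mk I) ∈ associatedPrimes R (R ⧸ I) := by
    refine (isAssociatedPrime_iff).2 ⟨inferInstance, x, ?_⟩
    ext r
    rw [Ideal.mem_comap, hx, Submodule.mem_colon_singleton, Submodule.mem_colon_singleton,
      Submodule.mem_bot, Submodule.mem_bot, smul_eq_mul, Algebra.smul_def]
    rfl
  rw [ringKrullDim_quotQuot, h _ hP]

end Strict

section Main

variable (A : Type u) [CommRing A] [IsNoetherianRing A] [IsLocalRing A]

/-- **S2638**: a local ring with a finite CM module of full support is formally strictly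
catenary. -/
theorem isFormallyStrictlyCatenary_of_isCM (M : Type u) [AddCommGroup M] [Module A M]
    [Module.Finite A M] (hCM : LocCoh.IsCohenMacaulayModule A M)
    (hsupp : Module.support A M = Set.univ) : EGA4.IsFormallyStrictlyCatenary A := by
  intro p hp
  obtain ⟨N, _, _, _, hCMN, hpN⟩ := exists_cm_module_ass M hCM p (by rw [hsupp]; trivial)
  obtain ⟨hloc, hnoeth, hcompl, hff, hlh, hmap⟩ := Groth.Agent.Lib.AnUnramH3.completion_facts A
  haveI := hloc
  haveI := hnoeth
  haveI := hlh
  haveI : Module.Flat A (AdicCompletion (maximalIdeal A) A) := inferInstance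
  obtain ⟨e⟩ := cpl_quot_equiv A p
  haveI : IsNoetherianRing (EGA4.Cpl A ⧸ p.map (algebraMap A (EGA4.Cpl A))) := inferInstance
  refine isStrictlyEquidim_of_ringEquiv e (isStrictlyEquidim_quot _ fun P hP => ?_)
  rw [ringKrullDim_quot_ass_eq A (EGA4.Cpl A) hmap N hCMN p hpN P hP]
  exact (ringKrullDim_quot_map_eq A (EGA4.Cpl A) (fibRing_dim_zero A _ hmap) p
    (le_maximalIdeal hp.ne_top)).symm

end Main

end Groth.Agent.EquiCat9
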