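import Mathlib
import Groth.Agent.Lib.FormalStrict_helper9
import Groth.Agent.Lib.ComplMapIso_helper3

/-!
# Formal equidimensionality passes to localizations (helper9)

* `covAdd_of_isLocalization`.
* `cplEquiv`: ring isomorphic local rings have isomorphic completions;
  `isFormallyEquidim_of_ringEquiv`.
* `isFormallyEquidim_quot_of_isCM`: equidimensional quotients of CM local rings are formally
  equidimensional.
* `isFormallyEquidim_localization`: EGA IV 7.1.9-type statement (S2706).
APPEND-ONLY once landed.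
-/

set_option autoImplicit false
universe u

namespace Groth.Agent.EquiCat9

open IsLocalRing TensorProduct Groth.Agent.FlatCM

section Loc

theorem covAdd_of_isLocalization {R : Type u} [CommRing R] (S : Submonoid R) (C : Type u)
    [CommRing C] [Algebra R C] [IsLocalization S C] (h : CovAdd R) : CovAdd C := by
  intro P₁ P₂ hcov
  let e : PrimeSpectrum C ↪o PrimeSpectrum R :=
    (IsLocalization.primeSpectrumOrderIso S C).toOrderEmbedding.trans (OrderEmbedding.subtype _)
  have hr : Set.range e = {p : PrimeSpectrum R | Disjoint (S : Set R) p.asIdeal} := by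
    ext p
    constructor
    · rintro ⟨q, rfl⟩
      exact ((IsLocalization.primeSpectrumOrderIso S C) q).2
    · intro hp
      exact ⟨(IsLocalization.primeSpectrumOrderIso S C).symm ⟨p, hp⟩, by simp [e]⟩
  have hconn : (Set.range e).OrdConnected := by
    rw [hr]
    refine ⟨fun x _ y hy z hz => ?_⟩
    exact Set.disjoint_of_subset_right (fun a ha => hz.2 ha) hy
  have hcov' : e P₁ ⋖ e P₂ := (hconn.apply_covBy_apply_iff e).mpr hcov
  have h1 := h _ _ hcov'
  have he : ∀ P : PrimeSpectrum C, (e P).asIdeal = P.asIdeal.under R := fun P => rfl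
  rw [he, he, IsLocalization.height_under S, IsLocalization.height_under S] at h1
  exact h1

end Loc

section CplEquiv

variable {R S : Type u} [CommRing R] [CommRing S] [IsLocalRing R] [IsLocalRing S]
  [IsNoetherianRing R] [IsNoetherianRing S]

theorem nonempty_cplEquiv (e : R ≃+* S) : Nonempty (EGA4.Cpl R ≃+* EGA4.Cpl S) := by
  letI : Algebra R S := e.toRingHom.toAlgebra
  have halg : ∀ r, algebraMap R S r = e r := fun _ => rfl
  haveI : IsLocalHom (algebraMap R S) := IsLocalHom.of_surjective _ e.surjective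
  let l : R ≃ₗ[R] S :=
    { toFun := e
      map_add' := map_add e
      map_smul' := fun r x => by
        rw [RingHom.id_apply, smul_eq_mul, Algebra.smul_def, halg, map_mul]
      invFun := e.symm
      left_inv := e.left_inv
      right_inv := e.right_inv }
  haveI : Module.Flat R S := Module.Flat.of_linearEquiv l.symm
  have hm : (maximalIdeal R).map (algebraMap R S) = maximalIdeal S :=
    IsLocalRing.map_maximalIdeal_of_surjective (algebraMap R S) e.surjective
  have hk : Function.Bijective (IsLocalRing.ResidueField.map (algebraMap R S)) := by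
    refine ⟨(IsLocalRing.ResidueField.map (algebraMap R S)).injective, ?_⟩
    intro y
    obtain ⟨s, rfl⟩ := IsLocalRing.residue_surjective y
    obtain ⟨r, rfl⟩ := e.surjective s
    exact ⟨IsLocalRing.residue R r, rfl⟩
  have hψ := Groth.Agent.Lib.ComplMapIsoH3.bijective_of_comp R S hm hk
    (Groth.Agent.Lib.FFTransferH3.psi R S)
    (RingHom.ext fun a => Groth.Agent.Lib.FFTransferH3.psi_of R S a)
  exact ⟨RingEquiv.ofBijective _ hψ⟩

theorem isFormallyEquidim_of_ringEquiv (e : R ≃+* S) (h : EGA4.IsFormallyEquidim R) :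
    EGA4.IsFormallyEquidim S := by
  obtain ⟨e'⟩ := nonempty_cplEquiv e
  exact isEquidim_of_ringEquiv e' h

end CplEquiv

section CMQuot

/-- equidimensional quotients of CM local rings are formally equidimensional -/
theorem isFormallyEquidim_quot_of_isCM (R : Type u) [CommRing R]
    [hR : LocCoh.IsCohenMacaulayLocalRing R] (a : Ideal R) [Nontrivial (R ⧸ a)]
    (h : EGA4.IsEquidim (R ⧸ a)) : EGA4.IsFormallyEquidim (R ⧸ a) := by
  have hCM : LocCoh.IsCohenMacaulayModule R R := hR.supportDim_eq_depth
  have hsupp : Module.support R R = Set.univ := by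
    rw [Module.support_eq_zeroLocus, Module.annihilator_eq_bot.2 inferInstance]
    simp
  have h1 := Groth.Agent.FormalEquidim.isFormallyEquidim R R hCM hsupp
  exact ((isFormallyEquidim_main R h1).2 a).1 h

/-- equidimensional local rings of quotients of CM rings are formally equidimensional -/
theorem isFormallyEquidim_localization_quot (P : Type u) [CommRing P]
    [hP : LocCoh.IsCohenMacaulayRing P] (I : Ideal P) (Q₀ : Ideal (P ⧸ I)) [Q₀.IsPrime]
    (hE : EGA4.IsEquidim (Localization.AtPrime Q₀)) :
    EGA4.IsFormallyEquidim (Localization.AtPrime Q₀) := by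
  haveI : IsNoetherianRing P := hP.toIsNoetherian
  set Q' := Q₀.comap (Ideal.Quotient.mk I) with hQ'
  haveI : Q'.IsPrime := Ideal.comap_isPrime _ _
  haveI hR : LocCoh.IsCohenMacaulayLocalRing (Localization.AtPrime Q') :=
    hP.isCohenMacaulayLocalRing_localization Q'
  haveI : IsNoetherianRing (Localization.AtPrime Q') := hR.toIsNoetherian
  have hsub : Algebra.algebraMapSubmonoid (P ⧸ I) Q'.primeCompl = Q₀.primeCompl := by
    ext x
    constructor
    · rintro ⟨y, hy, rfl⟩
      exact hy
    · intro hx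
      obtain ⟨y, rfl⟩ := Ideal.Quotient.mk_surjective x
      exact ⟨y, hx, rfl⟩
  haveI : IsLocalization Q₀.primeCompl
      (Localization.AtPrime Q' ⧸ I.map (algebraMap P (Localization.AtPrime Q'))) := by
    rw [← hsub]; infer_instance
  let e : Localization.AtPrime Q₀ ≃ₐ[P ⧸ I]
      (Localization.AtPrime Q' ⧸ I.map (algebraMap P (Localization.AtPrime Q'))) :=
    IsLocalization.algEquiv Q₀.primeCompl _ _
  haveI : Nontrivial (Localization.AtPrime Q' ⧸ I.map (algebraMap P (Localization.AtPrime Q'))) :=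
    e.symm.toEquiv.nontrivial
  have h1 : EGA4.IsEquidim
      (Localization.AtPrime Q' ⧸ I.map (algebraMap P (Localization.AtPrime Q'))) :=
    isEquidim_of_ringEquiv e.toRingEquiv hE
  have h2 := isFormallyEquidim_quot_of_isCM (Localization.AtPrime Q') _ h1
  haveI : IsNoetherianRing (Localization.AtPrime Q₀) :=
    IsLocalization.isNoetherianRing Q₀.primeCompl _ inferInstance
  exact isFormallyEquidim_of_ringEquiv e.symm.toRingEquiv h2

end CMQuot

section Main

variable (B : Type u) [CommRing B] [IsNoetherianRing B] [IsLocalRing B]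

/-- **Formal equidimensionality passes to localizations.** -/
theorem isFormallyEquidim_localization (h : EGA4.IsFormallyEquidim B) (𝔮 : Ideal B)
    [𝔮.IsPrime] : EGA4.IsFormallyEquidim (Localization.AtPrime 𝔮) := by
  obtain ⟨hloc, hnoeth, hcompl, hff, hlh, hmap⟩ := Groth.Agent.Lib.AnUnramH3.completion_facts B
  haveI := hloc
  haveI := hnoeth
  haveI := hcompl
  haveI := hlh
  obtain ⟨P, _, hP, f, hf⟩ := exists_surjective_of_isCMRing (EGA4.Cpl B)
  haveI : IsNoetherianRing P := hP.toIsNoetherian
  let ε : P ⧸ RingHom.ker f ≃+* EGA4.Cpl B := RingHom.quotientKerEquivOfSurjective hf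
  haveI : IsLocalRing (P ⧸ RingHom.ker f) := ε.symm.isLocalRing
  have hE₀ : EGA4.IsEquidim (P ⧸ RingHom.ker f) := isEquidim_of_ringEquiv ε.symm h
  have hcat₀ : CAlg.IsCatenary (P ⧸ RingHom.ker f) :=
    Groth.Agent.Lib.Catenary_helper4.isCatenary_quotient _ _ (isCatenary_of_isCMRing P)
  have hcov₀ : CovAdd (P ⧸ RingHom.ker f) := covAdd_of_isEquidim_isCatenary hE₀ hcat₀
  letI algB : Algebra B (P ⧸ RingHom.ker f) :=
    (ε.symm.toRingHom.comp (algebraMap B (EGA4.Cpl B))).toAlgebra
  have halg : ∀ b, algebraMap B (P ⧸ RingHom.ker f) b = ε.symm (algebraMap B (EGA4.Cpl B) b) :=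
    fun _ => rfl
  let l : EGA4.Cpl B ≃ₗ[B] (P ⧸ RingHom.ker f) :=
    { toFun := ε.symm
      map_add' := map_add ε.symm
      map_smul' := fun r x => by
        rw [RingHom.id_apply, Algebra.smul_def, Algebra.smul_def, map_mul, halg]
      invFun := ε
      left_inv := ε.right_inv
      right_inv := ε.left_inv }
  haveI : Module.Flat B (P ⧸ RingHom.ker f) := Module.Flat.of_linearEquiv l.symm
  haveI : IsLocalHom (algebraMap B (P ⧸ RingHom.ker f)) := by
    constructor
    intro b hb
    have h1 : IsUnit (algebraMap B (EGA4.Cpl B) b) := by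
      have := hb.map ε
      rwa [halg, RingEquiv.apply_symm_apply] at this
    exact isUnit_of_map_unit (algebraMap B (EGA4.Cpl B)) b h1
  haveI : Module.FaithfullyFlat B (P ⧸ RingHom.ker f) :=
    Module.FaithfullyFlat.of_flat_of_isLocalHom
  obtain ⟨Q₀, hQ₀⟩ := PrimeSpectrum.comap_surjective_of_faithfullyFlat
    (B := P ⧸ RingHom.ker f) (⟨𝔮, inferInstance⟩ : PrimeSpectrum B)
  have hQ𝔮 : Q₀.asIdeal.comap (algebraMap B (P ⧸ RingHom.ker f)) = 𝔮 :=
    congrArg PrimeSpectrum.asIdeal hQ₀
  have hcovC : CovAdd (Localization.AtPrime Q₀.asIdeal) :=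
    covAdd_of_isLocalization Q₀.asIdeal.primeCompl _ hcov₀
  haveI : IsNoetherianRing (Localization.AtPrime Q₀.asIdeal) :=
    IsLocalization.isNoetherianRing Q₀.asIdeal.primeCompl _ inferInstance
  haveI : IsNoetherianRing (Localization.AtPrime 𝔮) :=
    IsLocalization.isNoetherianRing 𝔮.primeCompl _ inferInstance
  have hEC : EGA4.IsEquidim (Localization.AtPrime Q₀.asIdeal) := isEquidim_of_covAdd hcovC
  have hFC := isFormallyEquidim_localization_quot P (RingHom.ker f) Q₀.asIdeal hEC
  haveI : Q₀.asIdeal.LiesOver 𝔮 := ⟨hQ𝔮.symm⟩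
  letI := Localization.AtPrime.algebraOfLiesOver 𝔮 Q₀.asIdeal
  haveI : IsLocalHom (algebraMap (Localization.AtPrime 𝔮) (Localization.AtPrime Q₀.asIdeal)) :=
    Localization.isLocalHom_localRingHom _ _ _ _
  haveI : Module.Flat B (Localization.AtPrime Q₀.asIdeal) :=
    Module.Flat.trans B (P ⧸ RingHom.ker f) (Localization.AtPrime Q₀.asIdeal)
  haveI : Module.Flat (Localization.AtPrime 𝔮) (Localization.AtPrime Q₀.asIdeal) := by
    rw [Module.flat_iff_of_isLocalization (Localization.AtPrime 𝔮) 𝔮.primeCompl]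
    infer_instance
  obtain ⟨hloc1, hnoeth1, -, -, -, -⟩ :=
    Groth.Agent.Lib.AnUnramH3.completion_facts (Localization.AtPrime 𝔮)
  obtain ⟨hloc2, hnoeth2, hcompl2, -, -, -⟩ :=
    Groth.Agent.Lib.AnUnramH3.completion_facts (Localization.AtPrime Q₀.asIdeal)
  haveI := hloc1
  haveI := hnoeth1
  haveI := hloc2
  haveI := hnoeth2
  haveI := hcompl2
  letI := Groth.Agent.Lib.FFTransferH3.algCpl (Localization.AtPrime 𝔮)
    (Localization.AtPrime Q₀.asIdeal)
  haveI := Groth.Agent.Lib.FFTransferH3.flat_cpl (Localization.AtPrime 𝔮)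
    (Localization.AtPrime Q₀.asIdeal)
  haveI := Groth.Agent.Lib.FFTransferH3.isLocalHom_cpl (Localization.AtPrime 𝔮)
    (Localization.AtPrime Q₀.asIdeal)
  have hcatC : CAlg.IsCatenary (EGA4.Cpl (Localization.AtPrime Q₀.asIdeal)) :=
    isCatenary_of_complete _
  exact (isEquidim_isCatenary_descent (EGA4.Cpl (Localization.AtPrime 𝔮))
    (EGA4.Cpl (Localization.AtPrime Q₀.asIdeal)) hFC hcatC).1

end Main

end Groth.Agent.EquiCat9
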