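import Mathlib
import Groth.Agent.Lib.FormalEquidimLoc_helper9
import Groth.Agent.Lib.CAlgMisc3_helper1

/-!
# Formally equidimensional ⇒ universally catenary (helper9)

* `cat_of_cover`, `isCatenary_of_minimalPrimes_quot`: a Noetherian ring is catenary iff its
  quotients by minimal primes are.
* `isEquidim_of_flat_of_prime_map`: ascent of equidimensionality along flat local homomorphisms
  when minimal primes extend to primes.
APPEND-ONLY once landed.
-/

set_option autoImplicit false
universe u

namespace Groth.Agent.EquiCat9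

open IsLocalRing TensorProduct Groth.Agent.FlatCM Groth.Agent.Lib.Catenary_helper4

section Order

/-- gluing catenarity along order-connected pieces containing the up-sets -/
theorem cat_of_cover {β : Type u} [PartialOrder β]
    (hb : ∀ p q : β, p ≤ q → ∃ n : ℕ, ∀ s : LTSeries β, s.head = p → s.last = q → s.length ≤ n)
    (h : ∀ x : β, ∃ (α : Type u) (_ : PartialOrder α) (e : α ↪o β),
      (Set.range e).OrdConnected ∧ Set.Ici x ⊆ Set.range e ∧ Cat α) : Cat β := by
  refine ⟨hb, fun s t hh hl hs ht => ?_⟩
  obtain ⟨α, _, e, hconn, hIci, hα⟩ := h s.head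
  have hsmem : ∀ i, s i ∈ Set.range e := fun i => hIci (LTSeries.head_le s i)
  have htmem : ∀ i, t i ∈ Set.range e := fun i => hIci (hh ▸ LTSeries.head_le t i)
  let s' : LTSeries α :=
    { length := s.length
      toFun := fun i => (hsmem i).choose
      step := fun i => e.lt_iff_lt.1 (by
        rw [(hsmem i.castSucc).choose_spec, (hsmem i.succ).choose_spec]
        exact s.step i) }
  let t' : LTSeries α :=
    { length := t.length
      toFun := fun i => (htmem i).choose
      step := fun i => e.lt_iff_lt.1 (by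
        rw [(htmem i.castSucc).choose_spec, (htmem i.succ).choose_spec]
        exact t.step i) }
  have hs' : ∀ i, e (s' i) = s i := fun i => (hsmem i).choose_spec
  have ht' : ∀ i, e (t' i) = t i := fun i => (htmem i).choose_spec
  have := hα.2 s' t'
    (e.injective (by
      show e (s' 0) = e (t' 0)
      rw [hs', ht']; exact hh))
    (e.injective (by
      show e (s' (Fin.last _)) = e (t' (Fin.last _))
      rw [hs', ht']; exact hl))
    (fun i => (hconn.apply_covBy_apply_iff e).mp (by rw [hs', hs']; exact hs i))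
    (fun i => (hconn.apply_covBy_apply_iff e).mp (by rw [ht', ht']; exact ht i))
  exact this

end Order

section CatMin

variable (R : Type u) [CommRing R] [IsNoetherianRing R]

theorem isCatenary_of_minimalPrimes_quot
    (h : ∀ 𝔭 ∈ minimalPrimes R, CAlg.IsCatenary (R ⧸ 𝔭)) : CAlg.IsCatenary R := by
  rw [isCatenary_iff_cat]
  apply cat_of_cover
  · intro p q _
    refine ⟨q.asIdeal.height.toNat, fun s _ hq => ?_⟩
    have h1 : (s.length : ℕ∞) ≤ Order.height s.last := Order.length_le_height_last
    rw [hq, ← PrimeSpectrum.height_eq_orderHeight] at h1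
    have hfin : q.asIdeal.height ≠ ⊤ := Ideal.height_ne_top_of_isPrime
    have := ENat.toNat_le_toNat h1 hfin
    rwa [ENat.toNat_natCast] at this
  · intro x
    obtain ⟨𝔭, h𝔭, h𝔭x⟩ := Ideal.exists_minimalPrimes_le (bot_le : (⊥ : Ideal R) ≤ x.asIdeal)
    let e : PrimeSpectrum (R ⧸ 𝔭) ↪o PrimeSpectrum R :=
      (Ideal.primeSpectrumQuotientOrderIsoZeroLocus 𝔭).toOrderEmbedding.trans
        (OrderEmbedding.subtype _)
    have hr : Set.range e = PrimeSpectrum.zeroLocus (𝔭 : Set R) := by
      ext p
      constructor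
      · rintro ⟨q, rfl⟩
        exact ((Ideal.primeSpectrumQuotientOrderIsoZeroLocus 𝔭) q).2
      · intro hp
        exact ⟨(Ideal.primeSpectrumQuotientOrderIsoZeroLocus 𝔭).symm ⟨p, hp⟩, by simp [e]⟩
    refine ⟨PrimeSpectrum (R ⧸ 𝔭), inferInstance, e, ?_, ?_, h 𝔭 h𝔭⟩
    · rw [hr]
      refine ⟨fun x hx y _ z hz => ?_⟩
      exact fun a ha => hz.1 (hx ha)
    · rw [hr]
      intro y hy
      exact fun a ha => hy (h𝔭x ha)

end CatMin

section Up

variable (R S : Type u) [CommRing R] [CommRing S] [IsNoetherianRing R] [IsNoetherianRing S]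
  [IsLocalRing R] [IsLocalRing S] [Algebra R S] [IsLocalHom (algebraMap R S)] [Module.Flat R S]

/-- ascent of equidimensionality when the minimal primes of the base extend to primes -/
theorem isEquidim_of_flat_of_prime_map (hR : EGA4.IsEquidim R)
    (hprime : ∀ p ∈ minimalPrimes R, (p.map (algebraMap R S)).IsPrime) : EGA4.IsEquidim S := by
  intro 𝔓 h𝔓
  haveI : 𝔓.IsPrime := h𝔓.1.1
  obtain ⟨h1, h2⟩ := comap_mem_minimalPrimes R S ⊥ 𝔓 (by rw [Ideal.map_bot]; exact h𝔓)
  set p := 𝔓.comap (algebraMap R S) with hp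
  have hpmin : p ∈ minimalPrimes R := h1
  haveI := hprime p hpmin
  have h𝔓eq : 𝔓 = p.map (algebraMap R S) :=
    le_antisymm (h2.2 ⟨inferInstance, le_rfl⟩ h2.1.2) h2.1.2
  haveI : p.IsPrime := hpmin.1.1
  have hple : p ≤ maximalIdeal R := le_maximalIdeal Ideal.IsPrime.ne_top'
  haveI := Groth.Agent.FibDim.isLocalRing_quot hple
  haveI : IsLocalRing (S ⧸ p.map (algebraMap R S)) :=
    Groth.Agent.FibDim.isLocalRing_quot (Groth.Agent.FibDim.map_le_maximalIdeal hple)
  haveI := Groth.Agent.FibDim.isLocalHom_quot (B := S) hple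
  haveI : Module.Flat (R ⧸ p) (S ⧸ p.map (algebraMap R S)) :=
    Groth.Agent.Lib.FSNilpH3.flat_quot p
  obtain ⟨e⟩ := fibRing_quot_equiv R S p
  rw [h𝔓eq, dim_eq_add (R ⧸ p) (S ⧸ p.map (algebraMap R S)), ringKrullDim_eq_of_ringEquiv e,
    hR p hpmin, ← dim_eq_add R S]

end Up

section UCquot

/-- universal catenarity passes to surjective images -/
theorem isUniversallyCatenary_of_surjective {P R : Type u} [CommRing P] [CommRing R]
    (f : P →+* R) (hf : Function.Surjective f) (hP : CAlg.IsUniversallyCatenary P) :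
    CAlg.IsUniversallyCatenary R := by
  haveI := hP.1
  refine ⟨isNoetherianRing_of_surjective P R f hf, fun C _ _ hft => ?_⟩
  letI : Algebra P R := f.toAlgebra
  letI : Algebra P C := ((algebraMap R C).comp f).toAlgebra
  haveI : IsScalarTower P R C := IsScalarTower.of_algebraMap_eq (fun x => rfl)
  have h1 : Algebra.FiniteType P R :=
    Algebra.FiniteType.of_surjective (Algebra.ofId P R) hf
  exact hP.2 C (Algebra.FiniteType.trans h1 hft)

theorem isUniversallyCatenary_of_complete (R : Type u) [CommRing R] [IsLocalRing R]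
    [IsNoetherianRing R] [IsAdicComplete (maximalIdeal R) R] : CAlg.IsUniversallyCatenary R := by
  obtain ⟨P, _, hP, f, hf⟩ := exists_surjective_of_isCMRing R
  exact isUniversallyCatenary_of_surjective f hf (isUniversallyCatenary_of_isCMRing P)

end UCquot

section Poly

attribute [local instance] MvPolynomial.algebraMvPolynomial

variable {σ : Type*} (A B : Type u) [CommRing A] [CommRing B] [Algebra A B]

theorem flat_mvPolynomial [Module.Flat A B] :
    Module.Flat (MvPolynomial σ A) (MvPolynomial σ B) := by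
  have h : Algebra.IsPushout A (MvPolynomial σ A) B (MvPolynomial σ B) := inferInstance
  exact Module.Flat.isBaseChange A (MvPolynomial σ A) B (MvPolynomial σ B) h.out

theorem faithfullyFlat_mvPolynomial [Module.FaithfullyFlat A B] :
    Module.FaithfullyFlat (MvPolynomial σ A) (MvPolynomial σ B) := by
  have h : Algebra.IsPushout A (MvPolynomial σ A) B (MvPolynomial σ B) := inferInstance
  exact Module.FaithfullyFlat.of_linearEquiv (MvPolynomial σ A) (MvPolynomial σ A ⊗[A] B)
    h.out.equiv.symm

theorem isPrime_map_C_mv (p : Ideal A) [p.IsPrime] :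
    (p.map (MvPolynomial.C : A →+* MvPolynomial σ A)).IsPrime := by
  rw [← Ideal.Quotient.isDomain_iff_prime]
  exact (MvPolynomial.quotientEquivQuotientMvPolynomial (σ := σ) p).symm.toMulEquiv.isDomain
    (MvPolynomial σ (A ⧸ p))

end Poly

section LocFlat

variable (R S : Type u) [CommRing R] [CommRing S] [Algebra R S] [Module.Flat R S]
  (p : Ideal R) [p.IsPrime] (Q : Ideal S) [Q.IsPrime] [Q.LiesOver p]

theorem flat_localization_liesOver :
    letI := Localization.AtPrime.algebraOfLiesOver p Q
    Module.Flat (Localization.AtPrime p) (Localization.AtPrime Q) := by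
  letI := Localization.AtPrime.algebraOfLiesOver p Q
  haveI : Module.Flat R (Localization.AtPrime Q) := Module.Flat.trans R S (Localization.AtPrime Q)
  rw [Module.flat_iff_of_isLocalization (Localization.AtPrime p) p.primeCompl]
  infer_instance

end LocFlat

section PolyLoc

attribute [local instance] MvPolynomial.algebraMvPolynomial

variable (A : Type u) [CommRing A] [IsNoetherianRing A] [IsLocalRing A]

/-- polynomial rings over a catenary equidimensional local ring `R` all of whose f.t. algebras
are catenary: localizations at primes are `CovAdd`. -/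
theorem covAdd_mvPolynomial_localization_of_covAdd (n : ℕ) (hcov : CovAdd A)
    (hcat : CAlg.IsCatenary (MvPolynomial (Fin n) A))
    (𝔔 : Ideal (MvPolynomial (Fin n) A)) [𝔔.IsPrime] :
    CovAdd (Localization.AtPrime 𝔔) := by
  set q := 𝔔.comap (algebraMap A (MvPolynomial (Fin n) A)) with hq
  haveI : q.IsPrime := Ideal.comap_isPrime _ _
  haveI : 𝔔.LiesOver q := ⟨rfl⟩
  letI := Localization.AtPrime.algebraOfLiesOver q 𝔔
  haveI : IsLocalHom (algebraMap (Localization.AtPrime q) (Localization.AtPrime 𝔔)) :=
    Localization.isLocalHom_localRingHom _ _ _ _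
  haveI : Module.Flat (Localization.AtPrime q) (Localization.AtPrime 𝔔) :=
    flat_localization_liesOver A (MvPolynomial (Fin n) A) q 𝔔
  haveI : IsNoetherianRing (Localization.AtPrime q) :=
    IsLocalization.isNoetherianRing q.primeCompl _ inferInstance
  haveI : IsNoetherianRing (Localization.AtPrime 𝔔) :=
    IsLocalization.isNoetherianRing 𝔔.primeCompl _ inferInstance
  have hRcov : CovAdd (Localization.AtPrime q) := covAdd_of_isLocalization q.primeCompl _ hcov
  have hScat : CAlg.IsCatenary (Localization.AtPrime 𝔔) :=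
    isCatenary_of_isLocalization _ 𝔔.primeCompl _ hcat
  refine covAdd_of_isEquidim_isCatenary ?_ hScat
  apply isEquidim_of_flat_of_prime_map (Localization.AtPrime q) (Localization.AtPrime 𝔔)
    (isEquidim_of_covAdd hRcov)
  intro P hP
  haveI : P.IsPrime := hP.1.1
  set p₀ := P.comap (algebraMap A (Localization.AtPrime q)) with hp₀
  haveI : p₀.IsPrime := Ideal.comap_isPrime _ _
  have hPeq : P = p₀.map (algebraMap A (Localization.AtPrime q)) :=
    (IsLocalization.map_comap q.primeCompl _ P).symm
  have hp₀q : p₀ ≤ q := by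
    intro x hx
    have h1 : algebraMap A (Localization.AtPrime q) x ∈ maximalIdeal (Localization.AtPrime q) :=
      le_maximalIdeal Ideal.IsPrime.ne_top' hx
    have hcm : (maximalIdeal (Localization.AtPrime q)).comap
        (algebraMap A (Localization.AtPrime q)) = q := Localization.AtPrime.under_maximalIdeal
    rw [← hcm]
    exact h1
  have hmm : P.map (algebraMap (Localization.AtPrime q) (Localization.AtPrime 𝔔)) =
      (p₀.map (algebraMap A (MvPolynomial (Fin n) A))).map
        (algebraMap (MvPolynomial (Fin n) A) (Localization.AtPrime 𝔔)) := by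
    rw [hPeq, Ideal.map_map, Ideal.map_map, ← IsScalarTower.algebraMap_eq,
      ← IsScalarTower.algebraMap_eq]
  rw [hmm]
  haveI hpr : (p₀.map (algebraMap A (MvPolynomial (Fin n) A))).IsPrime := by
    rw [MvPolynomial.algebraMap_eq]
    exact isPrime_map_C_mv A p₀
  refine IsLocalization.isPrime_of_isPrime_disjoint 𝔔.primeCompl _ _ hpr ?_
  rw [Set.disjoint_left]
  intro x hx hx'
  refine hx ?_
  have : p₀.map (algebraMap A (MvPolynomial (Fin n) A)) ≤ 𝔔 := by
    rw [Ideal.map_le_iff_le_comap]
    exact hp₀q
  exact this hx'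

/-- **Ratliff**: for a formally equidimensional local ring `A`, every localization of a
polynomial ring over `A` at a prime is `CovAdd` (hence catenary and equidimensional). -/
theorem covAdd_mvPolynomial_localization (n : ℕ) (hA : EGA4.IsFormallyEquidim A)
    (𝔔 : Ideal (MvPolynomial (Fin n) A)) [𝔔.IsPrime] :
    CovAdd (Localization.AtPrime 𝔔) := by
  obtain ⟨hloc, hnoeth, hcompl, hff, hlh, hmap⟩ := Groth.Agent.Lib.AnUnramH3.completion_facts A
  haveI := hloc
  haveI := hnoeth
  haveI := hcompl
  haveI := hlh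
  haveI := hff
  have hÂcov : CovAdd (AdicCompletion (maximalIdeal A) A) :=
    covAdd_of_isEquidim_isCatenary hA (isCatenary_of_complete _)
  have hEcat : CAlg.IsCatenary (MvPolynomial (Fin n) (AdicCompletion (maximalIdeal A) A)) :=
    (isUniversallyCatenary_of_complete (AdicCompletion (maximalIdeal A) A)).2 _ inferInstance
  haveI hEff : Module.FaithfullyFlat (MvPolynomial (Fin n) A)
      (MvPolynomial (Fin n) (AdicCompletion (maximalIdeal A) A)) :=
    faithfullyFlat_mvPolynomial A _
  have hne : 𝔔.map (algebraMap (MvPolynomial (Fin n) A)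
      (MvPolynomial (Fin n) (AdicCompletion (maximalIdeal A) A))) ≠ ⊤ := by
    intro htop
    have h1 := Ideal.comap_map_eq_self_of_faithfullyFlat
      (B := MvPolynomial (Fin n) (AdicCompletion (maximalIdeal A) A)) 𝔔
    rw [htop, Ideal.comap_top] at h1
    exact Ideal.IsPrime.ne_top' h1.symm
  obtain ⟨⟨𝔔', h𝔔'⟩⟩ := Ideal.nonempty_minimalPrimes hne
  haveI : 𝔔'.IsPrime := h𝔔'.1.1
  haveI hlo : 𝔔'.LiesOver 𝔔 :=
    Groth.Agent.DepthLib.liesOver_of_mem_minimalPrimes_map _ _ 𝔔 𝔔' h𝔔'
  letI := Localization.AtPrime.algebraOfLiesOver 𝔔 𝔔'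
  haveI : IsLocalHom (algebraMap (Localization.AtPrime 𝔔) (Localization.AtPrime 𝔔')) :=
    Localization.isLocalHom_localRingHom _ _ _ _
  haveI : Module.Flat (Localization.AtPrime 𝔔) (Localization.AtPrime 𝔔') :=
    flat_localization_liesOver _ _ 𝔔 𝔔'
  haveI : IsNoetherianRing (Localization.AtPrime 𝔔) :=
    IsLocalization.isNoetherianRing 𝔔.primeCompl _ inferInstance
  haveI : IsNoetherianRing (Localization.AtPrime 𝔔') :=
    IsLocalization.isNoetherianRing 𝔔'.primeCompl _ inferInstance
  exact covAdd_descent _ _ (covAdd_mvPolynomial_localization_of_covAdd _ n hÂcov hEcat 𝔔')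

/-- a formally equidimensional Noetherian local ring is universally catenary -/
theorem isUniversallyCatenary_of_isFormallyEquidim (hA : EGA4.IsFormallyEquidim A) :
    CAlg.IsUniversallyCatenary A := by
  refine ⟨inferInstance, fun C _ _ hft => ?_⟩
  obtain ⟨n, f, hf⟩ := Algebra.FiniteType.iff_quotient_mvPolynomial''.mp hft
  have h1 : CAlg.IsCatenary (MvPolynomial (Fin n) A) := by
    rw [Groth.Agent.S0552.result]
    intro m hm
    haveI : IsNoetherianRing (Localization.AtPrime m) :=
      IsLocalization.isNoetherianRing m.primeCompl _ inferInstance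
    exact isCatenary_of_covAdd (covAdd_mvPolynomial_localization A n hA m)
  have h2 := Groth.Agent.Lib.Catenary_helper4.isCatenary_quotient _ (RingHom.ker f.toRingHom) h1
  exact RegUCH8.isCatenary_of_ringEquiv (RingHom.quotientKerEquivOfSurjective hf) h2

/-- **EGA IV 7.1.11 / Ratliff**: a formally catenary Noetherian local ring is universally
catenary -/
theorem isUniversallyCatenary_of_isFormallyCatenary (hA : EGA4.IsFormallyCatenary A) :
    CAlg.IsUniversallyCatenary A := by
  refine ⟨inferInstance, fun C _ _ hft => ?_⟩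
  haveI : IsNoetherianRing C := Algebra.FiniteType.isNoetherianRing A C
  apply isCatenary_of_minimalPrimes_quot
  intro 𝔓 h𝔓
  haveI : 𝔓.IsPrime := h𝔓.1.1
  set p := 𝔓.under A with hp
  haveI : p.IsPrime := Ideal.comap_isPrime _ _
  haveI : 𝔓.LiesOver p := ⟨rfl⟩
  have hfe : EGA4.IsFormallyEquidim (A ⧸ p) := hA p
  have huc := isUniversallyCatenary_of_isFormallyEquidim (A ⧸ p) hfe
  refine huc.2 (C ⧸ 𝔓) ?_
  haveI := hft
  haveI : Algebra.FiniteType A (C ⧸ 𝔓) :=
    Algebra.FiniteType.of_surjective (Ideal.Quotient.mkₐ A 𝔓) (Ideal.Quotient.mkₐ_surjective A 𝔓)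
  exact Algebra.FiniteType.of_restrictScalars_finiteType A (A ⧸ p) (C ⧸ 𝔓)

end PolyLoc

end Groth.Agent.EquiCat9
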