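import Mathlib
import Groth.Agent.Lib.FormalUC_helper9
import Groth.Agent.Lib.SerreNormal_helper5
import Groth.Agent.Lib.DimEq_helper8
import Groth.Agent.Lib.IntegralHeight_helper5
import Groth.Agent.Lib.FFTransfer_helper3
import Groth.Agent.Lib.CompleteNagata_helper3
import Groth.Agent.Lib.LocQuot_helper8
import Groth.Agent.Lib.FormalStrict_helper9

/-!
# The `c_2` condition along flat local homomorphisms (helper9)

If `R` is a complete Noetherian local ring all of whose irreducible components have dimension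
`≥ 2` and `R → S` is a flat local homomorphism of Noetherian local rings, then all irreducible
components of `Spec S` have dimension `≥ 2`.  (Normalize `R/P`, use `S_2` and `depth ≤ dim S/Q`
for associated primes.)
APPEND-ONLY once landed.
-/

set_option autoImplicit false
universe u

namespace Groth.Agent.EquiCat9

open IsLocalRing TensorProduct Groth.Agent.FlatCM Groth.Agent.DepthLib

section Core

variable (A' : Type u) [CommRing A'] [IsNoetherianRing A'] [IsLocalRing A']
  (A'' : Type u) [CommRing A''] [Algebra A' A''] [Module.Finite A' A'']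
  (B' : Type u) [CommRing B'] [IsNoetherianRing B'] [IsLocalRing B'] [Algebra A' B']
  [Module.Flat A' B'] [IsLocalHom (algebraMap A' B')]

attribute [local instance] Algebra.TensorProduct.rightAlgebra

/-- core lemma: if `A' ⊆ A''` is finite with `depth A''_n ≥ 2` at all primes over the maximal
ideal, then all components of a flat local `A'`-algebra have dimension `≥ 2`. -/
theorem two_le_dim_quot_of_flat (hinj : Function.Injective (algebraMap A' A''))
    (hdepth : ∀ (n : Ideal A'') [n.IsPrime], n.comap (algebraMap A' A'') = maximalIdeal A' →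
      (2 : ℕ∞) ≤ LocCoh.depth (Localization.AtPrime n) (Localization.AtPrime n))
    (Q' : Ideal B') (hQ' : Q' ∈ minimalPrimes B') :
    (2 : WithBot ℕ∞) ≤ ringKrullDim (B' ⧸ Q') := by
  haveI hQ'p : Q'.IsPrime := hQ'.1.1
  haveI : IsNoetherianRing A'' := Algebra.FiniteType.isNoetherianRing A' A''
  -- the pushout
  haveI : IsNoetherianRing (B' ⊗[A'] A'') := Algebra.FiniteType.isNoetherianRing B' _
  haveI : Module.Flat A'' (B' ⊗[A'] A'') :=
    Module.Flat.of_linearEquiv
      (Algebra.IsPushout.equiv A' A'' B' (B' ⊗[A'] A'')).symm.toLinearEquiv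
  have hinjB : Function.Injective (algebraMap B' (B' ⊗[A'] A'')) :=
    Algebra.TensorProduct.includeLeft_injective (S := B') hinj
  -- a minimal prime `Q''` over `Q'`
  obtain ⟨Q₁, -, hQ₁p, hQ₁o⟩ := Ideal.exists_ideal_over_prime_of_isIntegral
    (S := B' ⊗[A'] A'') Q' ⊥ (by
      rw [← RingHom.ker_eq_comap_bot, (RingHom.injective_iff_ker_eq_bot _).1 hinjB]
      exact bot_le)
  haveI := hQ₁p
  obtain ⟨Q'', hQ''min, hQ''le⟩ := Ideal.exists_minimalPrimes_le (bot_le : ⊥ ≤ Q₁)
  haveI hQ''p : Q''.IsPrime := hQ''min.1.1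
  have hQ''o : Q''.comap (algebraMap B' (B' ⊗[A'] A'')) = Q' := by
    refine le_antisymm ?_ (hQ'.2 ⟨inferInstance, bot_le⟩ ?_)
    · rw [← hQ₁o]; exact Ideal.comap_mono hQ''le
    · rw [← hQ₁o]; exact Ideal.comap_mono hQ''le
  -- a maximal ideal `N ⊇ Q''`
  obtain ⟨N, hNmax, hQN⟩ := Ideal.exists_le_maximal Q'' hQ''p.ne_top
  haveI := hNmax
  haveI hNp : N.IsPrime := hNmax.isPrime
  have hNB : N.comap (algebraMap B' (B' ⊗[A'] A'')) = maximalIdeal B' := by
    haveI := Ideal.isMaximal_comap_of_isIntegral_of_isMaximal (R := B') N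
    exact IsLocalRing.eq_maximalIdeal inferInstance
  set n : Ideal A'' := N.comap (algebraMap A'' (B' ⊗[A'] A'')) with hn
  haveI hnp : n.IsPrime := Ideal.comap_isPrime _ _
  have hnA : n.comap (algebraMap A' A'') = maximalIdeal A' := by
    rw [hn, Ideal.comap_comap, ← IsScalarTower.algebraMap_eq,
      IsScalarTower.algebraMap_eq A' B' (B' ⊗[A'] A''), ← Ideal.comap_comap, hNB]
    exact ((IsLocalRing.local_hom_TFAE (algebraMap A' B')).out 0 4).1 ‹IsLocalHom (algebraMap A' B')›
  have hd := hdepth n hnA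
  haveI : N.LiesOver n := ⟨rfl⟩
  letI := Localization.AtPrime.algebraOfLiesOver n N
  haveI : IsLocalHom (algebraMap (Localization.AtPrime n) (Localization.AtPrime N)) :=
    Localization.isLocalHom_localRingHom _ _ _ _
  haveI : Module.Flat (Localization.AtPrime n) (Localization.AtPrime N) :=
    flat_localization_liesOver A'' (B' ⊗[A'] A'') n N
  haveI : IsNoetherianRing (Localization.AtPrime n) :=
    IsLocalization.isNoetherianRing n.primeCompl _ inferInstance
  haveI : IsNoetherianRing (Localization.AtPrime N) :=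
    IsLocalization.isNoetherianRing N.primeCompl _ inferInstance
  have hdN : (2 : ℕ∞) ≤ LocCoh.depth (Localization.AtPrime N) (Localization.AtPrime N) := by
    rw [depth_eq_add (Localization.AtPrime n) (Localization.AtPrime N)]
    exact hd.trans le_self_add
  -- `Q'' B''_N` is an associated prime
  set q : Ideal (Localization.AtPrime N) :=
    Q''.map (algebraMap (B' ⊗[A'] A'') (Localization.AtPrime N)) with hq
  have hdisj : Disjoint (N.primeCompl : Set (B' ⊗[A'] A'')) Q'' := by
    rw [Set.disjoint_left]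
    intro x hx hxQ
    exact hx (hQN hxQ)
  have hqmin : q ∈ minimalPrimes (Localization.AtPrime N) := by
    have h := IsLocalization.minimalPrimes_map N.primeCompl (Localization.AtPrime N)
      (⊥ : Ideal (B' ⊗[A'] A''))
    rw [Ideal.map_bot] at h
    change q ∈ (⊥ : Ideal (Localization.AtPrime N)).minimalPrimes
    rw [h, Set.mem_preimage, hq,
      IsLocalization.under_map_of_isPrime_disjoint N.primeCompl _ hQ''p hdisj]
    exact hQ''min
  have hqass : q ∈ associatedPrimes (Localization.AtPrime N) (Localization.AtPrime N) := by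
    apply Module.associatedPrimes.minimalPrimes_annihilator_subset_associatedPrimes
    rw [Module.annihilator_eq_bot.2 inferInstance]
    exact hqmin
  have h1 := depth_le_ringKrullDim_quotient (Localization.AtPrime N) (Localization.AtPrime N)
    q hqass
  have h2 : ringKrullDim (Localization.AtPrime N ⧸ q) ≤ ringKrullDim ((B' ⊗[A'] A'') ⧸ Q'') := by
    rw [hq, LocQuotH8.ringKrullDim_quot_localization Q'' N hQN (Localization.AtPrime N)]
    haveI : (N.map (Ideal.Quotient.mk Q'')).IsPrime :=
      Ideal.map_isPrime_of_surjective Ideal.Quotient.mk_surjective (by rwa [Ideal.mk_ker])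
    exact Ideal.height_le_ringKrullDim_of_ne_top Ideal.IsPrime.ne_top'
  haveI : Q''.LiesOver Q' := ⟨hQ''o.symm⟩
  have h3 : ringKrullDim ((B' ⊗[A'] A'') ⧸ Q'') ≤ ringKrullDim (B' ⧸ Q') :=
    Groth.Agent.Lib.FinitePSH3.ringKrullDim_le_of_isIntegral (B' ⧸ Q') ((B' ⊗[A'] A'') ⧸ Q'')
  refine le_trans ?_ (h1.trans (h2.trans h3))
  have h4 : ((2 : ℕ∞) : WithBot ℕ∞) ≤
      ((LocCoh.depth (Localization.AtPrime N) (Localization.AtPrime N) : ℕ∞) : WithBot ℕ∞) :=
    WithBot.coe_le_coe.2 hdN
  exact h4

end Core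

section Normal

/-- a normal finite extension of a universally catenary local domain of dimension `≥ 2` has
depth `≥ 2` at all primes over the maximal ideal -/
theorem two_le_depth_of_normal (A' : Type u) [CommRing A'] [IsDomain A'] [IsLocalRing A']
    (hUC : CAlg.IsUniversallyCatenary A') (hdim : (2 : WithBot ℕ∞) ≤ ringKrullDim A')
    (A'' : Type u) [CommRing A''] [IsDomain A''] [IsIntegrallyClosed A''] [Algebra A' A'']
    [Module.Finite A' A''] (hinj : Function.Injective (algebraMap A' A''))
    (n : Ideal A'') [n.IsPrime] (hn : n.comap (algebraMap A' A'') = maximalIdeal A') :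
    (2 : ℕ∞) ≤ LocCoh.depth (Localization.AtPrime n) (Localization.AtPrime n) := by
  haveI : IsNoetherianRing A' := hUC.1
  haveI : IsNoetherianRing A'' := Algebra.FiniteType.isNoetherianRing A' A''
  haveI : FaithfulSMul A' A'' := (faithfulSMul_iff_algebraMap_injective A' A'').2 hinj
  haveI : n.LiesOver (maximalIdeal A') := ⟨hn.symm⟩
  obtain ⟨a, b, rq, rS, ha, hb, hrq, hrS, hab⟩ :=
    Groth.Agent.DimEqH8.height_add_trdeg_eq A' hUC A'' (maximalIdeal A') n
  have h1 : Algebra.trdeg A' A'' = 0 := trdeg_eq_zero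
  have h2 : Algebra.trdeg (A' ⧸ maximalIdeal A') (A'' ⧸ n) = 0 := trdeg_eq_zero
  rw [h1] at hrS
  rw [h2] at hrq
  have hrS0 : rS = 0 := by exact_mod_cast hrS.symm
  have hrq0 : rq = 0 := by exact_mod_cast hrq.symm
  have hab' : a = b := by omega
  have hht : n.height = (maximalIdeal A').height := by rw [ha, hb, hab']
  haveI : IsNoetherianRing (Localization.AtPrime n) :=
    IsLocalization.isNoetherianRing n.primeCompl _ inferInstance
  haveI : IsIntegrallyClosed (Localization.AtPrime n) :=
    isIntegrallyClosed_of_isLocalization (Localization.AtPrime n) n.primeCompl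
      (Ideal.primeCompl_le_nonZeroDivisors n)
  have h3 := Groth.Agent.SerreLib.min_two_dim_le_depth (Localization.AtPrime n)
  rw [IsLocalization.AtPrime.ringKrullDim_eq_height n (Localization.AtPrime n), hht,
    IsLocalRing.maximalIdeal_height_eq_ringKrullDim, min_eq_left hdim] at h3
  have h4 : ((2 : ℕ∞) : WithBot ℕ∞) ≤
      ((LocCoh.depth (Localization.AtPrime n) (Localization.AtPrime n) : ℕ∞) : WithBot ℕ∞) := h3
  exact WithBot.coe_le_coe.1 h4

end Normal

section Main

variable (R S : Type u) [CommRing R] [CommRing S] [IsNoetherianRing R] [IsNoetherianRing S]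
  [IsLocalRing R] [IsLocalRing S] [IsAdicComplete (maximalIdeal R) R]
  [Algebra R S] [IsLocalHom (algebraMap R S)] [Module.Flat R S]

/-- the `c_2` condition passes along flat local homomorphisms out of a complete local ring -/
theorem c2_of_flat_complete
    (hR : ∀ q ∈ minimalPrimes R, (2 : WithBot ℕ∞) ≤ ringKrullDim (R ⧸ q)) :
    ∀ q ∈ minimalPrimes S, (2 : WithBot ℕ∞) ≤ ringKrullDim (S ⧸ q) := by
  intro Q hQ
  haveI hQp : Q.IsPrime := hQ.1.1
  have hQ' : Q ∈ ((⊥ : Ideal R).map (algebraMap R S)).minimalPrimes := by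
    rw [Ideal.map_bot]; exact hQ
  obtain ⟨hPmin, hQP⟩ := comap_mem_minimalPrimes R S ⊥ Q hQ'
  set P := Q.comap (algebraMap R S) with hP
  haveI hPp : P.IsPrime := Ideal.comap_isPrime _ _
  have hPle : P ≤ maximalIdeal R := IsLocalRing.le_maximalIdeal hPp.ne_top
  haveI := Groth.Agent.FibDim.isLocalRing_quot hPle
  haveI : IsLocalRing (S ⧸ P.map (algebraMap R S)) :=
    Groth.Agent.FibDim.isLocalRing_quot (Groth.Agent.FibDim.map_le_maximalIdeal hPle)
  haveI := Groth.Agent.FibDim.isLocalHom_quot (B := S) hPle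
  haveI : Module.Flat (R ⧸ P) (S ⧸ P.map (algebraMap R S)) :=
    Groth.Agent.Lib.FSNilpH3.flat_quot P
  have hN2 := (Groth.Agent.Lib.CompleteNagataH3.isNagata_of_complete_local R).2 P
  haveI hfin : Module.Finite (R ⧸ P) (integralClosure (R ⧸ P) (FractionRing (R ⧸ P))) :=
    hN2 (FractionRing (R ⧸ P)) inferInstance
  have hinj : Function.Injective
      (algebraMap (R ⧸ P) (integralClosure (R ⧸ P) (FractionRing (R ⧸ P)))) := by
    intro a b h
    apply IsFractionRing.injective (R ⧸ P) (FractionRing (R ⧸ P))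
    exact congrArg Subtype.val h
  have hUC : CAlg.IsUniversallyCatenary (R ⧸ P) :=
    isUniversallyCatenary_of_surjective (Ideal.Quotient.mk P) Ideal.Quotient.mk_surjective
      (isUniversallyCatenary_of_complete R)
  have hdim := hR P hPmin
  haveI : IsIntegrallyClosed (integralClosure (R ⧸ P) (FractionRing (R ⧸ P))) :=
    integralClosure.isIntegrallyClosedOfFiniteExtension (FractionRing (R ⧸ P))
  rw [Ideal.minimalPrimes_eq_comap] at hQP
  obtain ⟨pb, hpb, hpbQ⟩ := hQP
  have key := two_le_dim_quot_of_flat (R ⧸ P)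
    (integralClosure (R ⧸ P) (FractionRing (R ⧸ P))) (S ⧸ P.map (algebraMap R S)) hinj
    (fun n _ hn => two_le_depth_of_normal (R ⧸ P) hUC hdim
      (integralClosure (R ⧸ P) (FractionRing (R ⧸ P))) hinj n hn) pb hpb
  rw [ringKrullDim_quotQuot, hpbQ] at key
  exact key

end Main

section Cpl

/-- **S16576**: the completed `c_2` condition passes along flat local homomorphisms. -/
theorem c2_cpl_of_flat (A B : Type u) [CommRing A] [CommRing B] [IsNoetherianRing A]
    [IsNoetherianRing B] [IsLocalRing A] [IsLocalRing B] [Algebra A B]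
    [IsLocalHom (algebraMap A B)] [Module.Flat A B]
    (hA : ∀ q ∈ minimalPrimes (EGA4.Cpl A), (2 : WithBot ℕ∞) ≤ ringKrullDim (EGA4.Cpl A ⧸ q)) :
    ∀ q ∈ minimalPrimes (EGA4.Cpl B), (2 : WithBot ℕ∞) ≤ ringKrullDim (EGA4.Cpl B ⧸ q) := by
  obtain ⟨hL, hN, hc, -, -, -⟩ := Groth.Agent.Lib.AnUnramH3.completion_facts A
  obtain ⟨hL', hN', -, -, -, -⟩ := Groth.Agent.Lib.AnUnramH3.completion_facts B
  haveI := hL
  haveI := hN
  haveI := hc
  haveI := hL'
  haveI := hN'
  letI := Groth.Agent.Lib.FFTransferH3.algCpl A B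
  haveI := Groth.Agent.Lib.FFTransferH3.flat_cpl A B
  haveI := Groth.Agent.Lib.FFTransferH3.isLocalHom_cpl A B
  exact c2_of_flat_complete (EGA4.Cpl A) (EGA4.Cpl B) hA

end Cpl

end Groth.Agent.EquiCat9
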