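import Mathlib
import Groth.Agent.Lib.CAlgMisc_helper1
import Groth.Agent.Lib.NoethApprox_helper3

/-! More miscellaneous commutative algebra (helper1). -/

universe u

namespace Groth.Agent.Lib.CAlgMisc2H1

open TensorProduct

/-! ## Generation by `p`-power roots (purely inseparable extensions) -/

theorem purely_insep_gen {k k' : Type u} [Field k] [Field k'] [Algebra k k'] (p : ℕ)
    (hp : p.Prime) :
    IntermediateField.adjoin k {x : k' | ∃ n : ℕ, 0 < n ∧
      x ^ (p ^ n) ∈ Set.range (algebraMap k k') ∧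
      (p : k') ^ n * x ∈ Set.range (algebraMap k k')} = ⊤ ↔
      (Function.Surjective (algebraMap k k') ∨ (CharP k p ∧ IsPurelyInseparable k k')) := by
  set T : Set k' := {x : k' | ∃ n : ℕ, 0 < n ∧ x ^ (p ^ n) ∈ Set.range (algebraMap k k') ∧
      (p : k') ^ n * x ∈ Set.range (algebraMap k k')} with hT
  constructor
  · intro h
    by_cases hpk : (p : k) = 0
    · right
      haveI : CharP k p := (CharP.charP_iff_prime_eq_zero hp).mpr hpk
      haveI : ExpChar k p := ExpChar.prime hp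
      refine ⟨inferInstance, ?_⟩
      have h1 : IsPurelyInseparable k (IntermediateField.adjoin k T) := by
        rw [IntermediateField.isPurelyInseparable_adjoin_iff_pow_mem k k' p]
        rintro x ⟨n, -, ⟨c, hc⟩, -⟩
        exact ⟨n, c, hc⟩
      rw [h] at h1
      exact (IntermediateField.topEquiv : (⊤ : IntermediateField k k') ≃ₐ[k] k').isPurelyInseparable
    · left
      have hpk' : (p : k') ≠ 0 := by
        intro e
        apply hpk
        have h2 : algebraMap k k' (p : k) = 0 := by rw [map_natCast]; exact e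
        exact (map_eq_zero (algebraMap k k')).mp h2
      have hTsub : T ⊆ ((⊥ : IntermediateField k k') : Set k') := by
        rintro x ⟨n, -, -, ⟨c, hc⟩⟩
        rw [SetLike.mem_coe, IntermediateField.mem_bot]
        refine ⟨((p : k) ^ n)⁻¹ * c, ?_⟩
        rw [map_mul, hc, map_inv₀, map_pow, map_natCast, ← mul_assoc,
          inv_mul_cancel₀ (pow_ne_zero n hpk'), one_mul]
      have hbot : IntermediateField.adjoin k T = ⊥ := by
        rw [eq_bot_iff]
        exact IntermediateField.adjoin_le_iff.mpr hTsub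
      rw [hbot] at h
      intro y
      have hy : y ∈ (⊥ : IntermediateField k k') := by
        rw [h]
        exact IntermediateField.mem_top
      exact IntermediateField.mem_bot.mp hy
  · rintro (h | ⟨hc, hpi⟩)
    · rw [eq_top_iff]
      intro y _
      obtain ⟨c, rfl⟩ := h y
      exact (IntermediateField.adjoin k T).algebraMap_mem c
    · haveI := hc
      haveI := hpi
      haveI : ExpChar k p := ExpChar.prime hp
      rw [eq_top_iff]
      intro y _
      apply IntermediateField.subset_adjoin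
      obtain ⟨n, c, hc⟩ := IsPurelyInseparable.pow_mem k p y
      refine ⟨n + 1, Nat.succ_pos n, ⟨c ^ p, ?_⟩, ⟨0, ?_⟩⟩
      · rw [map_pow, hc, ← pow_mul, ← pow_succ]
      · haveI : CharP k' p := charP_of_injective_algebraMap (algebraMap k k').injective p
        have h3 : (p : k') = 0 := CharP.cast_eq_zero k' p
        rw [map_zero, h3, zero_pow (Nat.succ_ne_zero n), zero_mul]

/-! ## `(x + y)^(p^a)` lies in a small subring -/

section PowSubring

open MvPolynomial

theorem pow_mul_X_pow_mem (p : ℕ) (n : ℕ) (j : Fin 2)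
    (B : Subalgebra ℤ (MvPolynomial (Fin 2) ℤ))
    (h1 : (X j : MvPolynomial (Fin 2) ℤ) ^ (p ^ n) ∈ B)
    (h2 : (p : MvPolynomial (Fin 2) ℤ) ^ n * X j ∈ B) (hp : 0 < p) (i : ℕ) :
    (p : MvPolynomial (Fin 2) ℤ) ^ (n * p ^ n) * X j ^ i ∈ B := by
  have hpn : 0 < p ^ n := pow_pos hp n
  set q := i / p ^ n
  set r := i % p ^ n
  have hr : r < p ^ n := Nat.mod_lt i hpn
  have hi : i = r + p ^ n * q := (Nat.mod_add_div i (p ^ n)).symm
  have hle : n * r ≤ n * p ^ n := Nat.mul_le_mul_left n hr.le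
  have hL : n * p ^ n = (n * p ^ n - n * r) + n * r := by omega
  have key : (p : MvPolynomial (Fin 2) ℤ) ^ (n * p ^ n) * X j ^ i =
      (p : MvPolynomial (Fin 2) ℤ) ^ (n * p ^ n - n * r) *
        ((p : MvPolynomial (Fin 2) ℤ) ^ n * X j) ^ r * (X j ^ (p ^ n)) ^ q := by
    conv_lhs => rw [hL, hi]
    rw [mul_pow, ← pow_mul, ← pow_mul, pow_add, pow_add]
    ring
  rw [key]
  exact B.mul_mem (B.mul_mem (B.pow_mem (natCast_mem B p) _) (B.pow_mem h2 _)) (B.pow_mem h1 _)

theorem add_pow_mem_subring (p : ℕ) (hp : p.Prime) (n m : ℕ) (hn : 0 < n) (hm : 0 < m) :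
    ∃ a : ℕ, ((X 0 + X 1 : MvPolynomial (Fin 2) ℤ) ^ (p ^ a) ∈
      Algebra.adjoin ℤ ({X 0 ^ (p ^ n), (p : MvPolynomial (Fin 2) ℤ) ^ n * X 0, X 1 ^ (p ^ m),
        (p : MvPolynomial (Fin 2) ℤ) ^ m * X 1} : Set (MvPolynomial (Fin 2) ℤ)) ∧
      (p : MvPolynomial (Fin 2) ℤ) ^ a * (X 0 + X 1) ∈
      Algebra.adjoin ℤ ({X 0 ^ (p ^ n), (p : MvPolynomial (Fin 2) ℤ) ^ n * X 0, X 1 ^ (p ^ m),
        (p : MvPolynomial (Fin 2) ℤ) ^ m * X 1} : Set (MvPolynomial (Fin 2) ℤ))) := by
  set B := Algebra.adjoin ℤ ({X 0 ^ (p ^ n), (p : MvPolynomial (Fin 2) ℤ) ^ n * X 0, X 1 ^ (p ^ m),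
        (p : MvPolynomial (Fin 2) ℤ) ^ m * X 1} : Set (MvPolynomial (Fin 2) ℤ)) with hB
  have g1 : (X 0 : MvPolynomial (Fin 2) ℤ) ^ (p ^ n) ∈ B :=
    Algebra.subset_adjoin (by simp)
  have g2 : (p : MvPolynomial (Fin 2) ℤ) ^ n * X 0 ∈ B := Algebra.subset_adjoin (by simp)
  have g3 : (X 1 : MvPolynomial (Fin 2) ℤ) ^ (p ^ m) ∈ B := Algebra.subset_adjoin (by simp)
  have g4 : (p : MvPolynomial (Fin 2) ℤ) ^ m * X 1 ∈ B := Algebra.subset_adjoin (by simp)
  set L := n * p ^ n + m * p ^ m with hLdef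
  -- `p^L * w ∈ B` for all `w`
  have claim : ∀ w : MvPolynomial (Fin 2) ℤ, (p : MvPolynomial (Fin 2) ℤ) ^ L * w ∈ B := by
    intro w
    rw [← MvPolynomial.support_sum_monomial_coeff w, Finset.mul_sum]
    refine B.sum_mem (fun s _ => ?_)
    have hmon : monomial s (coeff s w) =
        C (coeff s w) * ((X 0 : MvPolynomial (Fin 2) ℤ) ^ (s 0) * X 1 ^ (s 1)) := by
      rw [MvPolynomial.monomial_eq, Finsupp.prod_fintype _ _ (fun i => pow_zero _),
        Fin.prod_univ_two]
    rw [hmon, hLdef, pow_add]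
    have e1 := pow_mul_X_pow_mem p n 0 B g1 g2 hp.pos (s 0)
    have e2 := pow_mul_X_pow_mem p m 1 B g3 g4 hp.pos (s 1)
    have hC : (C (coeff s w) : MvPolynomial (Fin 2) ℤ) ∈ B := B.algebraMap_mem _
    have : (p : MvPolynomial (Fin 2) ℤ) ^ (n * p ^ n) * (p : MvPolynomial (Fin 2) ℤ) ^ (m * p ^ m) *
        (C (coeff s w) * ((X 0 : MvPolynomial (Fin 2) ℤ) ^ (s 0) * X 1 ^ (s 1))) =
        C (coeff s w) * ((p : MvPolynomial (Fin 2) ℤ) ^ (n * p ^ n) * X 0 ^ (s 0)) *
          ((p : MvPolynomial (Fin 2) ℤ) ^ (m * p ^ m) * X 1 ^ (s 1)) := by ring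
    rw [this]
    exact B.mul_mem (B.mul_mem hC e1) e2
  set N := max n m with hN
  refine ⟨N + L, ?_, ?_⟩
  · obtain ⟨r, hr⟩ := exists_add_pow_prime_pow_eq hp (X 0 : MvPolynomial (Fin 2) ℤ) (X 1) N
    set u : MvPolynomial (Fin 2) ℤ := X 0 ^ p ^ N + X 1 ^ p ^ N with hu
    have hu0 : (X 0 : MvPolynomial (Fin 2) ℤ) ^ p ^ N ∈ B := by
      have : p ^ N = p ^ n * p ^ (N - n) := by
        rw [← pow_add]
        congr 1
        have : n ≤ N := le_max_left n m
        omega
      rw [this, pow_mul]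
      exact B.pow_mem g1 _
    have hu1 : (X 1 : MvPolynomial (Fin 2) ℤ) ^ p ^ N ∈ B := by
      have : p ^ N = p ^ m * p ^ (N - m) := by
        rw [← pow_add]
        congr 1
        have : m ≤ N := le_max_right n m
        omega
      rw [this, pow_mul]
      exact B.pow_mem g3 _
    have huB : u ∈ B := B.add_mem hu0 hu1
    have hdvd : ((p : ℕ) : MvPolynomial (Fin 2) ℤ) ∣ (X 0 + X 1) ^ p ^ N - u := by
      rw [hr]
      exact ⟨X 0 * X 1 * r, by rw [hu]; ring⟩
    obtain ⟨w, hw⟩ := dvd_sub_pow_of_dvd_sub hdvd L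
    have e : (X 0 + X 1 : MvPolynomial (Fin 2) ℤ) ^ p ^ (N + L) =
        u ^ p ^ L + (p : MvPolynomial (Fin 2) ℤ) ^ L * ((p : MvPolynomial (Fin 2) ℤ) * w) := by
      rw [pow_add, pow_mul]
      have : ((X 0 + X 1 : MvPolynomial (Fin 2) ℤ) ^ p ^ N) ^ p ^ L =
          u ^ p ^ L + (((X 0 + X 1 : MvPolynomial (Fin 2) ℤ) ^ p ^ N) ^ p ^ L - u ^ p ^ L) := by
        ring
      rw [this, hw]
      ring
    rw [e]
    exact B.add_mem (B.pow_mem huB _) (claim _)
  · have : (p : MvPolynomial (Fin 2) ℤ) ^ (N + L) * (X 0 + X 1) =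
        (p : MvPolynomial (Fin 2) ℤ) ^ L * ((p : MvPolynomial (Fin 2) ℤ) ^ N * (X 0 + X 1)) := by
      rw [pow_add]
      ring
    rw [this]
    exact claim _

end PowSubring

/-! ## Detecting zero in complete local flat algebras -/

theorem zero_of_complete_local (A : Type u) [CommRing A] [IsNoetherianRing A] (M : Type u)
    [AddCommGroup M] [Module A M] (m : M)
    (h : ∀ (B : Type u) [CommRing B] [Algebra A B] [IsNoetherianRing B] [IsLocalRing B],
      IsAdicComplete (IsLocalRing.maximalIdeal B) B → Module.Flat A B →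
      (1 : B) ⊗ₜ[A] m = 0) : m = 0 := by
  by_contra hm
  let I : Ideal A := LinearMap.ker (LinearMap.toSpanSingleton A M m)
  have hI : I ≠ ⊤ := by
    intro e
    have h1 : (1 : A) ∈ I := by
      rw [e]
      trivial
    rw [LinearMap.mem_ker, LinearMap.toSpanSingleton_apply, one_smul] at h1
    exact hm h1
  obtain ⟨P, hPmax, hIP⟩ := Ideal.exists_le_maximal I hI
  haveI := hPmax.isPrime
  haveI : IsNoetherianRing (Localization.AtPrime P) :=
    IsLocalization.isNoetherianRing P.primeCompl _ inferInstance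
  haveI : IsNoetherianRing (AdicCompletion (IsLocalRing.maximalIdeal (Localization.AtPrime P))
      (Localization.AtPrime P)) :=
    Groth.Agent.Lib.NoethApproxH3.isNoetherianRing_adicCompletion_of_fg (Localization.AtPrime P)
      (IsNoetherian.noetherian _)
  haveI : Module.Flat A (Localization.AtPrime P) := IsLocalization.flat _ P.primeCompl
  haveI : Module.Flat A (AdicCompletion (IsLocalRing.maximalIdeal (Localization.AtPrime P))
      (Localization.AtPrime P)) :=
    Module.Flat.trans A (Localization.AtPrime P) _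
  have h1 := h (AdicCompletion (IsLocalRing.maximalIdeal (Localization.AtPrime P))
      (Localization.AtPrime P)) inferInstance inferInstance
  haveI : Module.FaithfullyFlat (Localization.AtPrime P)
      (AdicCompletion (IsLocalRing.maximalIdeal (Localization.AtPrime P))
      (Localization.AtPrime P)) := Module.FaithfullyFlat.of_flat_of_isLocalHom
  have hinj := Module.FaithfullyFlat.tensorProduct_mk_injective (A := Localization.AtPrime P)
    (B := AdicCompletion (IsLocalRing.maximalIdeal (Localization.AtPrime P))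
      (Localization.AtPrime P)) (Localization.AtPrime P ⊗[A] M)
  have h2 : (1 : Localization.AtPrime P) ⊗ₜ[A] m = 0 := by
    apply hinj
    rw [map_zero]
    apply (TensorProduct.AlgebraTensorModule.cancelBaseChange A (Localization.AtPrime P)
      (Localization.AtPrime P) (AdicCompletion (IsLocalRing.maximalIdeal (Localization.AtPrime P))
      (Localization.AtPrime P)) M).injective
    rw [map_zero]
    change (TensorProduct.AlgebraTensorModule.cancelBaseChange A (Localization.AtPrime P)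
      (Localization.AtPrime P) (AdicCompletion (IsLocalRing.maximalIdeal (Localization.AtPrime P))
      (Localization.AtPrime P)) M) ((1 : AdicCompletion (IsLocalRing.maximalIdeal
      (Localization.AtPrime P)) (Localization.AtPrime P)) ⊗ₜ ((1 : Localization.AtPrime P) ⊗ₜ m))
      = 0
    rw [TensorProduct.AlgebraTensorModule.cancelBaseChange_tmul, one_smul]
    exact h1
  have h3 : TensorProduct.mk A (Localization.AtPrime P) M 1 m = 0 := h2
  rw [IsLocalizedModule.eq_zero_iff P.primeCompl] at h3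
  obtain ⟨s, hs⟩ := h3
  have hsI : (s : A) ∈ I := by
    rw [LinearMap.mem_ker, LinearMap.toSpanSingleton_apply]
    exact hs
  exact s.2 (hIP hsI)

/-! ## Unimodular rows over Bézout domains -/

theorem bezout_unimodular_row (R : Type u) [CommRing R] [IsDomain R] [IsBezout R]
    (n : ℕ) (f : Fin (n + 1) → R) (hf : Ideal.span (Set.range f) = ⊤) :
    ∃ A : Matrix (Fin (n + 1)) (Fin (n + 1)) R, IsUnit A.det ∧ A 0 = f := by
  let φ : (Fin (n + 1) → R) →ₗ[R] R := Fintype.linearCombination R f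
  have hφ : Function.Surjective φ := by
    rw [← LinearMap.range_eq_top, Fintype.range_linearCombination]
    exact hf
  obtain ⟨l, hl⟩ := Module.projective_lifting_property φ LinearMap.id hφ
  obtain ⟨e, -, he2⟩ := (LinearMap.exact_subtype_ker_map φ).splitSurjectiveEquiv
    (Submodule.injective_subtype _) ⟨l, hl⟩
  haveI : Module.Finite R (LinearMap.ker φ) :=
    Module.Finite.of_surjective
      ((LinearMap.fst R (LinearMap.ker φ) R).comp e.toLinearMap)
      (fun y => ⟨e.symm (y, 0), by simp⟩)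
  haveI : Module.Free R (LinearMap.ker φ) :=
    (Groth.Agent.Lib.CAlgMiscH1.bezout_fg_free R (Fin (n + 1) → R) (LinearMap.ker φ)
      (Module.Finite.iff_fg.mp inferInstance)).1
  have hrank : Module.finrank R (LinearMap.ker φ) = n := by
    have h1 := LinearEquiv.finrank_eq e
    rw [Module.finrank_prod, Module.finrank_self, Module.finrank_fin_fun] at h1
    omega
  let b : Module.Basis (Fin n) R (LinearMap.ker φ) := Module.finBasisOfFinrankEq R _ hrank
  let α : (Fin (n + 1) → R) ≃ₗ[R] (Fin (n + 1) → R) :=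
    e ≪≫ₗ (LinearEquiv.prodComm R (LinearMap.ker φ) R) ≪≫ₗ
      (LinearEquiv.prodCongr (LinearEquiv.refl R R) b.equivFun) ≪≫ₗ
      (Fin.consLinearEquiv R (fun _ : Fin (n + 1) => R))
  have hα0 : ∀ v, α v 0 = φ v := by
    intro v
    have h1 : φ v = (e v).2 := by
      conv_lhs => rw [he2]
      rfl
    rw [h1]
    simp [α]
  refine ⟨LinearMap.toMatrix' α.toLinearMap, ?_, ?_⟩
  · apply Matrix.isUnit_det_of_right_inverse (B := LinearMap.toMatrix' α.symm.toLinearMap)
    rw [← LinearMap.toMatrix'_comp]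
    have : α.toLinearMap ∘ₗ α.symm.toLinearMap = LinearMap.id := by
      ext v
      simp
    rw [this, LinearMap.toMatrix'_id]
  · funext j
    rw [LinearMap.toMatrix'_apply]
    change α (Pi.single j 1) 0 = f j
    rw [hα0]
    simp [φ, Fintype.linearCombination_apply, Pi.single_apply]

/-! ## Homogeneous prime avoidance -/

section GradedAvoidance

open DirectSum

variable {R S : Type u} [CommRing R] [CommRing S] [Algebra R S] (𝒜 : ℕ → Submodule R S)
  [GradedAlgebra 𝒜]

theorem exists_homogeneous_not_mem (J P : Ideal S) (hJ : J.IsHomogeneous 𝒜) (h : ¬ J ≤ P) :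
    ∃ (d : ℕ) (y : S), y ∈ 𝒜 d ∧ y ∈ J ∧ y ∉ P := by
  classical
  obtain ⟨x, hxJ, hxP⟩ := SetLike.not_le_iff_exists.mp h
  by_contra hcon
  push Not at hcon
  apply hxP
  rw [← DirectSum.sum_support_decompose 𝒜 x]
  refine P.sum_mem (fun d _ => ?_)
  exact hcon d _ (SetLike.coe_mem _) (hJ d hxJ)

theorem exists_homogeneous_pos_not_mem (I : HomogeneousIdeal 𝒜)
    (hI : I ≤ HomogeneousIdeal.irrelevant 𝒜) (P : Ideal S) (h : ¬ I.toIdeal ≤ P) :
    ∃ (d : ℕ) (y : S), 0 < d ∧ y ∈ 𝒜 d ∧ y ∈ I.toIdeal ∧ y ∉ P := by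
  obtain ⟨d, y, hyd, hyI, hyP⟩ := exists_homogeneous_not_mem 𝒜 I.toIdeal P I.isHomogeneous h
  refine ⟨d, y, ?_, hyd, hyI, hyP⟩
  rcases Nat.eq_zero_or_pos d with h0 | h0
  · exfalso
    subst h0
    have h1 : y ∈ HomogeneousIdeal.irrelevant 𝒜 := hI hyI
    rw [HomogeneousIdeal.mem_irrelevant_iff, GradedRing.proj_apply,
      DirectSum.decompose_of_mem_same 𝒜 hyd] at h1
    rw [h1] at hyP
    exact hyP (zero_mem _)
  · exact h0

theorem graded_avoidance_finset (I : HomogeneousIdeal 𝒜) (hI : I ≤ HomogeneousIdeal.irrelevant 𝒜) :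
    ∀ (c : ℕ) (T : Finset (Ideal S)), T.card = c →
      (∀ P ∈ T, P.IsPrime ∧ P.IsHomogeneous 𝒜) → (∀ P ∈ T, ¬ I.toIdeal ≤ P) →
      ∃ (x : S) (d : ℕ), 0 < d ∧ x ∈ 𝒜 d ∧ x ∈ I.toIdeal ∧ ∀ P ∈ T, x ∉ P := by
  classical
  intro c
  induction c with
  | zero =>
    intro T hT _ _
    rw [Finset.card_eq_zero] at hT
    subst hT
    exact ⟨0, 1, Nat.one_pos, zero_mem _, zero_mem _, by simp⟩
  | succ c ih =>
    intro T hT hTp hTI
    have hne : T.Nonempty := Finset.card_pos.mp (by omega)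
    obtain ⟨P, hPT, hPmin⟩ := T.exists_minimal hne
    have hcard : (T.erase P).card = c := by
      rw [Finset.card_erase_of_mem hPT]
      omega
    obtain ⟨x, d, hd, hxd, hxI, hxT⟩ := ih (T.erase P) hcard
      (fun Q hQ => hTp Q (Finset.mem_of_mem_erase hQ))
      (fun Q hQ => hTI Q (Finset.mem_of_mem_erase hQ))
    haveI hPprime : P.IsPrime := (hTp P hPT).1
    by_cases hxP : x ∈ P
    · -- need to modify
      have hQP : ∀ Q ∈ T.erase P, ¬ Q ≤ P := by
        intro Q hQ hle
        have hQT := Finset.mem_of_mem_erase hQ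
        have hPQ : P ≤ Q := hPmin hQT hle
        exact (Finset.ne_of_mem_erase hQ) (le_antisymm hle hPQ)
      have hz : ∀ Q : Ideal S, ∃ (dz : ℕ) (z : S), Q ∈ T.erase P → (z ∈ 𝒜 dz ∧ z ∈ Q ∧ z ∉ P) := by
        intro Q
        by_cases hQ : Q ∈ T.erase P
        · obtain ⟨dz, z, h1, h2, h3⟩ := exists_homogeneous_not_mem 𝒜 Q P
            (hTp Q (Finset.mem_of_mem_erase hQ)).2 (hQP Q hQ)
          exact ⟨dz, z, fun _ => ⟨h1, h2, h3⟩⟩
        · exact ⟨0, 0, fun h => absurd h hQ⟩
      choose dz z hzz using hz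
      obtain ⟨e, w, he, hwe, hwI, hwP⟩ := exists_homogeneous_pos_not_mem 𝒜 I hI P (hTI P hPT)
      set y : S := w * ∏ Q ∈ T.erase P, z Q with hy
      set e' : ℕ := e + ∑ Q ∈ T.erase P, dz Q with he'
      have hye : y ∈ 𝒜 e' := by
        apply SetLike.mul_mem_graded hwe
        exact SetLike.prod_mem_graded 𝒜 dz z (fun Q hQ => (hzz Q hQ).1)
      have hyI : y ∈ I.toIdeal := Ideal.mul_mem_right _ _ hwI
      have hyP : y ∉ P := by
        intro hyP
        rcases hPprime.mem_or_mem hyP with h1 | h1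
        · exact hwP h1
        · rw [Ideal.IsPrime.prod_mem_iff] at h1
          obtain ⟨Q, hQ, hzQ⟩ := h1
          exact (hzz Q hQ).2.2 hzQ
      have hyQ : ∀ Q ∈ T.erase P, y ∈ Q := by
        intro Q hQ
        apply Ideal.mul_mem_left
        exact Ideal.mem_of_dvd _ (Finset.dvd_prod_of_mem z hQ) (hzz Q hQ).2.1
      have he'pos : 0 < e' := by omega
      refine ⟨x ^ e' + y ^ d, d * e', Nat.mul_pos hd he'pos, ?_, ?_, ?_⟩
      · apply Submodule.add_mem
        · have h1 := SetLike.pow_mem_graded e' hxd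
          rwa [smul_eq_mul, mul_comm] at h1
        · have h1 := SetLike.pow_mem_graded d hye
          rwa [smul_eq_mul] at h1
      · exact Ideal.add_mem _ (Ideal.pow_mem_of_mem _ hxI _ he'pos)
          (Ideal.pow_mem_of_mem _ hyI _ hd)
      · intro Q hQ hmem
        by_cases hQP' : Q = P
        · subst hQP'
          have h1 : x ^ e' ∈ Q := Ideal.pow_mem_of_mem _ hxP _ he'pos
          have h2 : y ^ d ∈ Q := (Ideal.add_mem_iff_right _ h1).mp hmem
          exact hyP (hPprime.mem_of_pow_mem _ h2)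
        · have hQe : Q ∈ T.erase P := Finset.mem_erase.mpr ⟨hQP', hQ⟩
          haveI : Q.IsPrime := (hTp Q hQ).1
          have h1 : y ^ d ∈ Q := Ideal.pow_mem_of_mem _ (hyQ Q hQe) _ hd
          have h2 : x ^ e' ∈ Q := (Ideal.add_mem_iff_left _ h1).mp hmem
          exact hxT Q hQe (Ideal.IsPrime.mem_of_pow_mem inferInstance _ h2)
    · refine ⟨x, d, hd, hxd, hxI, ?_⟩
      intro Q hQ
      by_cases hQP' : Q = P
      · rw [hQP']
        exact hxP
      · exact hxT Q (Finset.mem_erase.mpr ⟨hQP', hQ⟩)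

theorem graded_avoidance {r : ℕ} (p : Fin r → HomogeneousIdeal 𝒜)
    (hp : ∀ i, (p i).toIdeal.IsPrime) (I : HomogeneousIdeal 𝒜)
    (hI : I ≤ HomogeneousIdeal.irrelevant 𝒜) (h : ∀ i, ¬ I ≤ p i) :
    ∃ x : S, ∃ d : ℕ, 0 < d ∧ x ∈ 𝒜 d ∧ x ∈ I ∧ ∀ i, x ∉ p i := by
  classical
  obtain ⟨x, d, hd, hxd, hxI, hxT⟩ := graded_avoidance_finset 𝒜 I hI _
    (Finset.univ.image (fun i => (p i).toIdeal)) rfl
    (by
      intro P hP
      obtain ⟨i, -, rfl⟩ := Finset.mem_image.mp hP
      exact ⟨hp i, (p i).isHomogeneous⟩)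
    (by
      intro P hP
      obtain ⟨i, -, rfl⟩ := Finset.mem_image.mp hP
      exact h i)
  exact ⟨x, d, hd, hxd, hxI, fun i => hxT _ (Finset.mem_image.mpr ⟨i, Finset.mem_univ i, rfl⟩)⟩

end GradedAvoidance

end Groth.Agent.Lib.CAlgMisc2H1
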