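import Mathlib

/-! More miscellaneous commutative algebra, part 4 (helper1). -/

universe u

namespace Groth.Agent.Lib.CAlgMisc4H1

open TensorProduct

/-! ## Descent of rational vectors along a directed intersection of fields -/

theorem descent_vector {k K : Type u} [Field k] [Field K] [Algebra k K] {ι : Type u} [Nonempty ι]
    (F : ι → IntermediateField k K) (hdir : ∀ a b : ι, ∃ c, F c ≤ F a ⊓ F b)
    (hinf : ⨅ a, F a = ⊥) (n : ℕ)
    (V : Submodule K (Fin n → K)) :
    (∃ v ∈ V, v ≠ 0 ∧ ∀ i, v i ∈ Set.range (algebraMap k K)) ↔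
      ∀ a, ∃ v ∈ V, v ≠ 0 ∧ ∀ i, v i ∈ F a := by
  classical
  constructor
  · rintro ⟨v, hvV, hv0, hv⟩ a
    refine ⟨v, hvV, hv0, fun i => ?_⟩
    obtain ⟨c, hc⟩ := hv i
    rw [← hc]; exact (F a).algebraMap_mem c
  · intro H
    let P : Finset (Fin n) → Prop := fun T =>
      ∀ a, ∃ w ∈ V, w ≠ 0 ∧ (∀ i, w i ∈ F a) ∧ ∀ i, i ∉ T → w i = 0
    have hP : P Finset.univ := fun a => by
      obtain ⟨w, hwV, hw0, hw⟩ := H a
      exact ⟨w, hwV, hw0, hw, fun i hi => absurd (Finset.mem_univ i) hi⟩
    obtain ⟨T, hT, hmin⟩ := WellFounded.has_min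
      (measure (Finset.card (α := Fin n))).wf {T | P T} ⟨Finset.univ, hP⟩
    obtain ⟨a₀⟩ := ‹Nonempty ι›
    obtain ⟨w₀, hw₀V, hw₀0, hw₀F, hw₀S⟩ := hT a₀
    obtain ⟨i₀, hi₀⟩ : ∃ i, w₀ i ≠ 0 := by
      by_contra hcon
      push Not at hcon
      exact hw₀0 (funext hcon)
    have hi₀S : i₀ ∈ T := by
      by_contra hh
      exact hi₀ (hw₀S i₀ hh)
    have hnP : ¬ P (T.erase i₀) := fun hh => hmin _ hh (Finset.card_erase_lt_of_mem hi₀S)
    simp only [P] at hnP
    push Not at hnP
    obtain ⟨a₁, ha₁⟩ := hnP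
    have key : ∀ w ∈ V, (∀ i, w i ∈ F a₁) → (∀ i, i ∉ T → w i = 0) → w i₀ = 0 → w = 0 := by
      intro w hwV hwF hwS hw0
      by_contra hne
      obtain ⟨i, hi, hwi⟩ := ha₁ w hwV hne hwF
      apply hwi
      by_cases hii : i = i₀
      · rw [hii]; exact hw0
      · exact hwS i (fun hmem => hi (Finset.mem_erase.mpr ⟨hii, hmem⟩))
    have hnorm : ∀ a, F a ≤ F a₁ →
        ∃ w ∈ V, (∀ i, w i ∈ F a) ∧ (∀ i, i ∉ T → w i = 0) ∧ w i₀ = 1 := by
      intro a hle
      obtain ⟨w, hwV, hw0, hwF, hwS⟩ := hT a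
      have hwi₀ : w i₀ ≠ 0 := fun h0 => hw0 (key w hwV (fun i => hle (hwF i)) hwS h0)
      refine ⟨(w i₀)⁻¹ • w, V.smul_mem _ hwV, fun i => ?_, fun i hi => ?_, ?_⟩
      · exact (F a).mul_mem ((F a).inv_mem (hwF i₀)) (hwF i)
      · simp [hwS i hi]
      · simp [hwi₀]
    obtain ⟨v₁, hv₁V, hv₁F, hv₁S, hv₁1⟩ := hnorm a₁ le_rfl
    have hall : ∀ b i, v₁ i ∈ F b := by
      intro b i
      obtain ⟨c, hc⟩ := hdir a₁ b
      obtain ⟨w, hwV, hwF, hwS, hw1⟩ := hnorm c (hc.trans inf_le_left)
      have hz : v₁ - w = 0 := key (v₁ - w) (V.sub_mem hv₁V hwV)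
        (fun i => (F a₁).sub_mem (hv₁F i) ((hc.trans inf_le_left) (hwF i)))
        (fun i hi => by simp [hv₁S i hi, hwS i hi]) (by simp [hv₁1, hw1])
      have hvw : v₁ = w := sub_eq_zero.mp hz
      rw [hvw]; exact (hc.trans inf_le_right) (hwF i)
    refine ⟨v₁, hv₁V, ?_, fun i => ?_⟩
    · intro h0
      have h1 := congrFun h0 i₀
      rw [hv₁1] at h1
      exact one_ne_zero h1
    · have hmem : v₁ i ∈ (⨅ a, F a : IntermediateField k K) := by
        rw [← SetLike.mem_coe, IntermediateField.coe_iInf, Set.mem_iInter]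
        intro b; exact hall b i
      rw [hinf, IntermediateField.mem_bot] at hmem
      exact hmem

/-! ## Images of principal opens of `R ⊗ S'` and `R ⊗ S` in `Spec R` -/

theorem image_tensor_sub (k : Type u) [Field k] (R S : Type u) [CommRing R] [Algebra k R]
    [CommRing S] [Algebra k S]
    (S' : Subalgebra k S) (f : R ⊗[k] S') (p : PrimeSpectrum R) :
    (∃ q : PrimeSpectrum (R ⊗[k] S),
        Algebra.TensorProduct.map (AlgHom.id k R) S'.val f ∉ q.asIdeal ∧
        q.asIdeal.comap (algebraMap R (R ⊗[k] S)) = p.asIdeal) ↔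
    (∃ q' : PrimeSpectrum (R ⊗[k] S'), f ∉ q'.asIdeal ∧
        q'.asIdeal.comap (algebraMap R (R ⊗[k] S')) = p.asIdeal) := by
  set φ : R ⊗[k] S' →ₐ[k] R ⊗[k] S := Algebra.TensorProduct.map (AlgHom.id k R) S'.val with hφ
  have hφalg : ∀ r : R, φ (algebraMap R (R ⊗[k] S') r) = algebraMap R (R ⊗[k] S) r := by
    intro r
    rw [Algebra.TensorProduct.algebraMap_apply, Algebra.TensorProduct.algebraMap_apply]
    simp [φ]
  constructor
  · rintro ⟨q, hfq, hq⟩
    refine ⟨⟨q.asIdeal.comap φ.toRingHom, inferInstance⟩, hfq, ?_⟩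
    ext r
    rw [← hq]
    simp only [Ideal.mem_comap]
    show φ (algebraMap R (R ⊗[k] S') r) ∈ q.asIdeal ↔ _
    rw [hφalg]
  · rintro ⟨q', hfq', hq'⟩
    set P := p.asIdeal with hP
    let πS : R ⊗[k] S →ₐ[k] (R ⧸ P) ⊗[k] S :=
      Algebra.TensorProduct.map (Ideal.Quotient.mkₐ k P) (AlgHom.id k S)
    let πS' : R ⊗[k] S' →ₐ[k] (R ⧸ P) ⊗[k] S' :=
      Algebra.TensorProduct.map (Ideal.Quotient.mkₐ k P) (AlgHom.id k S')
    let ψ : (R ⧸ P) ⊗[k] S' →ₐ[k] (R ⧸ P) ⊗[k] S :=
      Algebra.TensorProduct.map (AlgHom.id k (R ⧸ P)) S'.val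
    have hcomm : ∀ x, πS (φ x) = ψ (πS' x) := by
      intro x
      induction x using TensorProduct.induction_on with
      | zero => simp
      | tmul a b => simp [πS, πS', ψ, φ]
      | add x y hx hy => simp only [map_add, hx, hy]
    have hψ : Function.Injective ψ := by
      have h1 : ∀ x, ψ x = LinearMap.lTensor (R ⧸ P) S'.val.toLinearMap x := by
        intro x
        induction x using TensorProduct.induction_on with
        | zero => simp
        | tmul a b => simp [ψ]
        | add x y hx hy => simp only [map_add, hx, hy]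
      have h2 : Function.Injective (LinearMap.lTensor (R ⧸ P) S'.val.toLinearMap) :=
        Module.Flat.lTensor_preserves_injective_linearMap _ Subtype.val_injective
      intro x y hxy
      apply h2
      rw [← h1, ← h1, hxy]
    have hker' : ∀ x, πS' x = 0 → x ∈ q'.asIdeal := by
      intro x hx
      have h1 : x ∈ RingHom.ker
          (Algebra.TensorProduct.map (Ideal.Quotient.mkₐ k P) (AlgHom.id k S')) := hx
      rw [Algebra.TensorProduct.rTensor_ker _ (Ideal.Quotient.mkₐ_surjective k P)] at h1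
      refine (Ideal.map_le_iff_le_comap.mpr ?_) h1
      intro r hr
      have hr' : r ∈ P := by
        have h2 : Ideal.Quotient.mkₐ k P r = 0 := hr
        exact Ideal.Quotient.eq_zero_iff_mem.mp h2
      rw [← hq'] at hr'
      exact hr'
    let M : Submonoid (R ⊗[k] S) :=
      (P.primeCompl.map (algebraMap R (R ⊗[k] S))) ⊔ Submonoid.powers (φ f)
    have hdisj : Disjoint ((P.map (algebraMap R (R ⊗[k] S)) : Ideal _) : Set (R ⊗[k] S)) M := by
      rw [Set.disjoint_left]
      intro x hxI hxM
      obtain ⟨y, hy, z, hz, rfl⟩ := Submonoid.mem_sup.mp hxM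
      obtain ⟨s₀, hs₀, rfl⟩ := Submonoid.mem_map.mp hy
      obtain ⟨n, rfl⟩ := (Submonoid.mem_powers_iff _ _).mp hz
      have hπ : πS (algebraMap R _ s₀ * φ f ^ n) = 0 := by
        have hle : P.map (algebraMap R (R ⊗[k] S)) ≤ RingHom.ker πS.toRingHom := by
          rw [Ideal.map_le_iff_le_comap]
          intro r hr
          show πS (algebraMap R _ r) = 0
          rw [Algebra.TensorProduct.algebraMap_apply]
          simp [πS, Ideal.Quotient.eq_zero_iff_mem.mpr hr]
        exact hle hxI
      have hx' : algebraMap R _ s₀ * φ f ^ n = φ (algebraMap R (R ⊗[k] S') s₀ * f ^ n) := by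
        rw [map_mul, map_pow, hφalg]
      rw [hx', hcomm] at hπ
      have h0 := hψ (hπ.trans (map_zero ψ).symm)
      have hmem := hker' _ h0
      rcases q'.2.mem_or_mem hmem with h1 | h1
      · have h2 : s₀ ∈ q'.asIdeal.comap (algebraMap R (R ⊗[k] S')) := h1
        rw [hq'] at h2
        exact hs₀ h2
      · exact hfq' (q'.2.mem_of_pow_mem n h1)
    obtain ⟨Q, hQp, hIQ, hQM⟩ := Ideal.exists_le_prime_disjoint _ M hdisj
    refine ⟨⟨Q, hQp⟩, ?_, ?_⟩
    · intro hf
      exact Set.disjoint_left.mp hQM hf (Submonoid.mem_sup_right (Submonoid.mem_powers _))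
    · apply le_antisymm
      · intro r hr
        by_contra hrP
        exact Set.disjoint_left.mp hQM hr
          (Submonoid.mem_sup_left (Submonoid.mem_map.mpr ⟨r, hrP, rfl⟩))
      · exact Ideal.map_le_iff_le_comap.mp hIQ

/-! ## Nagata's criterion for factoriality -/

theorem nagata_ufd {A : Type u} [CommRing A] [IsDomain A]
    (hfac : ∀ a : A, a ≠ 0 → ¬ IsUnit a →
      ∃ f : Multiset A, (∀ b ∈ f, Irreducible b) ∧ Associated f.prod a) (P : Set A)
    (hP : ∀ p ∈ P, Prime p) [IsDomain (Localization (Submonoid.closure P))]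
    (hS : UniqueFactorizationMonoid (Localization (Submonoid.closure P))) :
    UniqueFactorizationMonoid A := by
  have hM0 : Submonoid.closure P ≤ nonZeroDivisors A := by
    rw [Submonoid.closure_le]
    intro p hp
    exact mem_nonZeroDivisors_of_ne_zero (hP p hp).ne_zero
  have hinj : Function.Injective (algebraMap A (Localization (Submonoid.closure P))) :=
    IsLocalization.injective _ hM0
  have hL : ∀ x : A, (∀ p ∈ P, ¬ p ∣ x) → ∀ s ∈ Submonoid.closure P, ∀ a, x ∣ s * a → x ∣ a := by
    intro x hx s hs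
    induction hs using Submonoid.closure_induction with
    | mem p hp =>
      rintro a ⟨c, hc⟩
      have hpc : p ∣ c := ((hP p hp).dvd_or_dvd ⟨a, hc.symm⟩).resolve_left (hx p hp)
      obtain ⟨c', rfl⟩ := hpc
      refine ⟨c', mul_left_cancel₀ (hP p hp).ne_zero ?_⟩
      rw [hc]; ring
    | one => intro a h; simpa using h
    | mul s₁ s₂ _ _ h₁ h₂ =>
      intro a h
      apply h₂
      apply h₁
      rwa [← mul_assoc]
  have hL2 : ∀ s ∈ Submonoid.closure P, ∀ y a b : A, s * y = a * b →
      ∃ a' b' s₁ s₂, s₁ ∈ Submonoid.closure P ∧ s₂ ∈ Submonoid.closure P ∧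
        a = s₁ * a' ∧ b = s₂ * b' ∧ y = a' * b' := by
    intro s hs
    induction hs using Submonoid.closure_induction with
    | mem p hp =>
      intro y a b h
      have hp' := hP p hp
      rcases hp'.dvd_or_dvd ⟨y, h.symm⟩ with ⟨a'', rfl⟩ | ⟨b'', rfl⟩
      · refine ⟨a'', b, p, 1, Submonoid.subset_closure hp, Submonoid.one_mem _, rfl,
          (one_mul _).symm, ?_⟩
        apply mul_left_cancel₀ hp'.ne_zero
        rw [h]; ring
      · refine ⟨a, b'', 1, p, Submonoid.one_mem _, Submonoid.subset_closure hp,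
          (one_mul _).symm, rfl, ?_⟩
        apply mul_left_cancel₀ hp'.ne_zero
        rw [h]; ring
    | one =>
      intro y a b h
      exact ⟨a, b, 1, 1, Submonoid.one_mem _, Submonoid.one_mem _, (one_mul _).symm,
        (one_mul _).symm, by simpa using h⟩
    | mul s₁ s₂ _ _ h₁ h₂ =>
      intro y a b h
      obtain ⟨a', b', u₁, u₂, hu₁, hu₂, rfl, rfl, h'⟩ :=
        h₁ (s₂ * y) a b (by rw [← mul_assoc]; exact h)
      obtain ⟨a'', b'', v₁, v₂, hv₁, hv₂, rfl, rfl, h''⟩ := h₂ y a' b' h'
      exact ⟨a'', b'', u₁ * v₁, u₂ * v₂, Submonoid.mul_mem _ hu₁ hv₁,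
        Submonoid.mul_mem _ hu₂ hv₂, by ring, by ring, h''⟩
  have hirr : ∀ x : A, Irreducible x → Prime x := by
    intro x hx
    by_cases hdiv : ∃ p ∈ P, p ∣ x
    · obtain ⟨p, hp, u, rfl⟩ := hdiv
      have hu : IsUnit u := (hx.isUnit_or_isUnit rfl).resolve_left (hP p hp).not_unit
      exact (associated_mul_unit_right p u hu).prime (hP p hp)
    · push Not at hdiv
      have hL' := hL x hdiv
      have hnu : ¬ IsUnit (algebraMap A (Localization (Submonoid.closure P)) x) := by
        intro hu
        obtain ⟨β, hβ⟩ := hu.exists_right_inv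
        obtain ⟨⟨b, t⟩, hbt⟩ := IsLocalization.surj (Submonoid.closure P) β
        have h1 : algebraMap A (Localization (Submonoid.closure P)) (x * b) =
            algebraMap A _ (t : A) := by
          rw [map_mul, ← hbt, ← mul_assoc, hβ, one_mul]
        have h2 := hinj h1
        have h3 : x ∣ (t : A) * 1 := ⟨b, by rw [mul_one, ← h2]⟩
        exact hx.not_isUnit (isUnit_of_dvd_one (hL' t t.2 1 h3))
      have hirrL : Irreducible (algebraMap A (Localization (Submonoid.closure P)) x) := by
        refine ⟨hnu, ?_⟩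
        intro α β hαβ
        obtain ⟨⟨a, s⟩, has⟩ := IsLocalization.surj (Submonoid.closure P) α
        obtain ⟨⟨b, t⟩, hbt⟩ := IsLocalization.surj (Submonoid.closure P) β
        have h1 : algebraMap A (Localization (Submonoid.closure P)) (((s * t : Submonoid.closure P) : A) * x) =
            algebraMap A _ (a * b) := by
          simp only [Submonoid.coe_mul, map_mul]
          simp only at has hbt
          rw [hαβ, ← has, ← hbt]; ring
        have h2 := hinj h1
        obtain ⟨a', b', s₁, s₂, hs₁, hs₂, rfl, rfl, hxab⟩ := hL2 _ (s * t).2 x a b h2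
        rcases hx.isUnit_or_isUnit hxab with hu | hu
        · left
          have h3 : IsUnit (α * algebraMap A (Localization (Submonoid.closure P)) s) := by
            simp only at has
            rw [has, map_mul]
            exact (IsLocalization.map_units _ (⟨s₁, hs₁⟩ : Submonoid.closure P)).mul
              (hu.map (algebraMap A _))
          exact isUnit_of_mul_isUnit_left h3
        · right
          have h3 : IsUnit (β * algebraMap A (Localization (Submonoid.closure P)) t) := by
            simp only at hbt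
            rw [hbt, map_mul]
            exact (IsLocalization.map_units _ (⟨s₂, hs₂⟩ : Submonoid.closure P)).mul
              (hu.map (algebraMap A _))
          exact isUnit_of_mul_isUnit_left h3
      have hprL : Prime (algebraMap A (Localization (Submonoid.closure P)) x) :=
        UniqueFactorizationMonoid.irreducible_iff_prime.mp hirrL
      refine ⟨hx.ne_zero, hx.not_isUnit, ?_⟩
      intro a b hab
      have hdvd : algebraMap A (Localization (Submonoid.closure P)) x ∣
          algebraMap A _ a * algebraMap A _ b := by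
        rw [← map_mul]; exact map_dvd _ hab
      have key : ∀ a : A, algebraMap A (Localization (Submonoid.closure P)) x ∣
          algebraMap A _ a → x ∣ a := by
        rintro a ⟨γ, hγ⟩
        obtain ⟨⟨c, s⟩, hcs⟩ := IsLocalization.surj (Submonoid.closure P) γ
        have h1 : algebraMap A (Localization (Submonoid.closure P)) ((s : A) * a) =
            algebraMap A _ (x * c) := by
          simp only at hcs
          rw [map_mul, map_mul, hγ, ← hcs]; ring
        have h2 := hinj h1
        exact hL' s s.2 a ⟨c, h2⟩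
      rcases hprL.dvd_or_dvd hdvd with h | h
      · exact Or.inl (key a h)
      · exact Or.inr (key b h)
  apply UniqueFactorizationMonoid.of_exists_prime_factors
  intro a ha
  by_cases hu : IsUnit a
  · exact ⟨0, by simp, by simpa using (associated_one_iff_isUnit.mpr hu).symm⟩
  · obtain ⟨f, hf, hfa⟩ := hfac a ha hu
    exact ⟨f, fun b hb => hirr b (hf b hb), hfa⟩

/-! ## Cotangent space vs. differentials at a rational point -/

def cotangentCongr {S : Type*} [CommRing S] {I J : Ideal S} (h : I = J) :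
    I.Cotangent ≃ₗ[S] J.Cotangent := by
  subst h; exact LinearEquiv.refl _ _

open KaehlerDifferential in
theorem kerCotangentToTensor_bijective (k S κ : Type u) [Field k] [CommRing S] [CommRing κ]
    [Algebra k S] [Algebra k κ] [Algebra S κ] [IsScalarTower k S κ]
    (hsurj : Function.Surjective (algebraMap S κ))
    (hbij : Function.Bijective (algebraMap k κ)) :
    Function.Bijective (KaehlerDifferential.kerCotangentToTensor k S κ) := by
  constructor
  · let e : k ≃ₐ[k] κ := AlgEquiv.ofBijective (Algebra.ofId k κ) hbij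
    let g : κ →ₐ[k] S ⧸ (RingHom.ker (algebraMap S κ) ^ 2) :=
      (Algebra.ofId k _).comp e.symm.toAlgHom
    have hg : (IsScalarTower.toAlgHom k S κ).kerSquareLift.comp g = AlgHom.id k κ := by
      ext x
      obtain ⟨c, rfl⟩ := hbij.2 x
      rw [AlgHom.commutes, AlgHom.commutes]
    obtain ⟨l, hl⟩ :=
      (_root_.retractionKerCotangentToTensorEquivSection hsurj).symm ⟨g, hg⟩
    exact Function.LeftInverse.injective (g := l) (fun x => LinearMap.congr_fun hl x)
  · intro y
    have hex := KaehlerDifferential.exact_kerCotangentToTensor_mapBaseChange k S κ hsurj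
    haveI := KaehlerDifferential.subsingleton_of_surjective k κ hbij.2
    exact (hex y).mp (Subsingleton.elim _ _)

theorem finrank_cotangent (k : Type u) [Field k] [IsAlgClosed k] (S : Type u) [CommRing S]
    [Algebra k S] [Algebra.FiniteType k S]
    (m : Ideal S) [m.IsMaximal] :
    Module.finrank (S ⧸ m) ((S ⧸ m) ⊗[S] Ω[S⁄k]) = Module.finrank (S ⧸ m) m.Cotangent := by
  have hbij : Function.Bijective (algebraMap k (S ⧸ m)) := by
    letI : Field (S ⧸ m) := Ideal.Quotient.field m
    haveI : Algebra.FiniteType k (S ⧸ m) :=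
      Algebra.FiniteType.of_surjective (Ideal.Quotient.mkₐ k m) (Ideal.Quotient.mkₐ_surjective k m)
    haveI : Module.Finite k (S ⧸ m) := finite_of_finite_type_of_isJacobsonRing k (S ⧸ m)
    exact IsAlgClosed.algebraMap_bijective_of_isIntegral
  have hsurj : Function.Surjective (algebraMap S (S ⧸ m)) := Ideal.Quotient.mk_surjective
  have hb := kerCotangentToTensor_bijective k S (S ⧸ m) hsurj hbij
  have hJ : RingHom.ker (algebraMap S (S ⧸ m)) = m := Ideal.mk_ker
  let e1 : m.Cotangent ≃ₗ[S] (S ⧸ m) ⊗[S] Ω[S⁄k] :=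
    (cotangentCongr hJ.symm).trans (LinearEquiv.ofBijective _ hb)
  exact (LinearEquiv.extendScalarsOfSurjective hsurj e1).finrank_eq.symm

end Groth.Agent.Lib.CAlgMisc4H1
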