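import Mathlib
import Groth.Prelude.Def_CAlgX

/-! More miscellaneous commutative algebra, part 5 (helper1). -/

universe u

namespace Groth.Agent.Lib.CAlgMisc5H1

open TensorProduct DirectSum

/-! ## Retracts of direct sums of cyclic modules `R/fR` -/

theorem retract_cyclic_iff (R : Type u) [CommRing R] (P : Type u) [AddCommGroup P] [Module R P] :
    (∃ (ι : Type u) (f : ι → R) (i : P →ₗ[R] (⨁ j, R ⧸ Ideal.span {f j}))
        (p : (⨁ j, R ⧸ Ideal.span {f j}) →ₗ[R] P), p ∘ₗ i = LinearMap.id) ↔
      ∀ (B C : Type u) [AddCommGroup B] [Module R B] [AddCommGroup C] [Module R C] (π : B →ₗ[R] C),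
        Function.Surjective π →
        (∀ (f : R) (b : B), π (f • b) = 0 → ∃ a : B, π a = 0 ∧ f • a = f • b) →
        ∀ ψ : P →ₗ[R] C, ∃ φ : P →ₗ[R] B, π ∘ₗ φ = ψ := by
  classical
  constructor
  · rintro ⟨ι, f, i, p, hpi⟩ B C _ _ _ _ π hπ hpure ψ
    have hj : ∀ j : ι, ∃ b : B, f j • b = 0 ∧
        π b = ψ (p (DirectSum.lof R ι (fun j => R ⧸ Ideal.span {f j}) j
          (Submodule.Quotient.mk 1))) := by
      intro j
      set c := ψ (p (DirectSum.lof R ι (fun j => R ⧸ Ideal.span {f j}) j
          (Submodule.Quotient.mk 1))) with hc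
      have hfc : f j • c = 0 := by
        rw [hc, ← map_smul, ← map_smul, ← map_smul, ← Submodule.Quotient.mk_smul]
        have h0 : (Submodule.Quotient.mk (f j • (1 : R)) : R ⧸ Ideal.span {f j}) = 0 := by
          rw [Submodule.Quotient.mk_eq_zero]
          simp [Ideal.mem_span_singleton]
        rw [h0, map_zero, map_zero, map_zero]
      obtain ⟨b₀, hb₀⟩ := hπ c
      obtain ⟨a, ha0, haf⟩ := hpure (f j) b₀ (by rw [map_smul, hb₀, hfc])
      exact ⟨b₀ - a, by rw [smul_sub, haf, sub_self], by rw [map_sub, ha0, sub_zero, hb₀]⟩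
    choose b hb0 hbπ using hj
    let φj : ∀ j, (R ⧸ Ideal.span {f j}) →ₗ[R] B := fun j =>
      Submodule.liftQ (Ideal.span {f j}) (LinearMap.toSpanSingleton R B (b j)) (by
        rw [Ideal.span, Submodule.span_le]
        rintro x hx
        rw [Set.mem_singleton_iff] at hx
        subst hx
        show (LinearMap.toSpanSingleton R B (b j)) (f j) = 0
        rw [LinearMap.toSpanSingleton_apply]; exact hb0 j)
    let Φ : (⨁ j, R ⧸ Ideal.span {f j}) →ₗ[R] B := DirectSum.toModule R ι B φj
    refine ⟨Φ ∘ₗ i, ?_⟩
    have hΦ : π ∘ₗ Φ = ψ ∘ₗ p := by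
      apply DirectSum.linearMap_ext
      intro j
      apply Submodule.linearMap_qext
      apply LinearMap.ext_ring
      show π (Φ (DirectSum.lof R ι (fun j => R ⧸ Ideal.span {f j}) j (Submodule.Quotient.mk 1))) =
        ψ (p (DirectSum.lof R ι (fun j => R ⧸ Ideal.span {f j}) j (Submodule.Quotient.mk 1)))
      rw [← hbπ j]
      congr 1
      show DirectSum.toModule R ι B φj (DirectSum.lof R ι _ j _) = _
      rw [DirectSum.toModule_lof]
      show LinearMap.toSpanSingleton R B (b j) 1 = _
      rw [LinearMap.toSpanSingleton_apply, one_smul]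
    rw [← LinearMap.comp_assoc, hΦ, LinearMap.comp_assoc, hpi, LinearMap.comp_id]
  · intro H
    let ι : Type u := {x : R × P // x.1 • x.2 = 0}
    let f : ι → R := fun x => x.1.1
    let πj : ∀ j : ι, (R ⧸ Ideal.span {f j}) →ₗ[R] P := fun j =>
      Submodule.liftQ (Ideal.span {f j}) (LinearMap.toSpanSingleton R P j.1.2) (by
        rw [Ideal.span, Submodule.span_le]
        rintro x hx
        rw [Set.mem_singleton_iff] at hx
        subst hx
        show (LinearMap.toSpanSingleton R P j.1.2) (f j) = 0
        rw [LinearMap.toSpanSingleton_apply]; exact j.2)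
    let π : (⨁ j, R ⧸ Ideal.span {f j}) →ₗ[R] P := DirectSum.toModule R ι P πj
    have hπe : ∀ j : ι, π (DirectSum.lof R ι (fun j => R ⧸ Ideal.span {f j}) j
        (Submodule.Quotient.mk 1)) = j.1.2 := by
      intro j
      show DirectSum.toModule R ι P πj (DirectSum.lof R ι _ j _) = _
      rw [DirectSum.toModule_lof]
      show LinearMap.toSpanSingleton R P j.1.2 1 = _
      rw [LinearMap.toSpanSingleton_apply, one_smul]
    have hsurj : Function.Surjective π := fun x => ⟨_, hπe ⟨(0, x), zero_smul R x⟩⟩
    have hpure : ∀ (g : R) (b : ⨁ j, R ⧸ Ideal.span {f j}), π (g • b) = 0 →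
        ∃ a, π a = 0 ∧ g • a = g • b := by
      intro g b hgb
      have hgp : g • π b = 0 := by rw [← map_smul]; exact hgb
      let j : ι := ⟨(g, π b), hgp⟩
      have hge : g • DirectSum.lof R ι (fun j => R ⧸ Ideal.span {f j}) j
          (Submodule.Quotient.mk 1) = 0 := by
        rw [← map_smul, ← Submodule.Quotient.mk_smul]
        have h0 : (Submodule.Quotient.mk (g • (1 : R)) : R ⧸ Ideal.span {f j}) = 0 := by
          rw [Submodule.Quotient.mk_eq_zero]
          simp [f, j, Ideal.mem_span_singleton]
        rw [h0, map_zero]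
      refine ⟨b - DirectSum.lof R ι (fun j => R ⧸ Ideal.span {f j}) j
          (Submodule.Quotient.mk 1), ?_, ?_⟩
      · rw [map_sub, hπe j, sub_self]
      · rw [smul_sub, hge, sub_zero]
    obtain ⟨φ, hφ⟩ := H _ P π hsurj hpure LinearMap.id
    exact ⟨ι, f, φ, π, hφ⟩

/-! ## A first-order ODE for truncated polynomials -/

open Polynomial in
theorem poly_ode (A : Type u) [CommRing A] (p : ℕ) [Fact p.Prime]
    (hu : IsUnit ((Nat.factorial (p - 1) : ℕ) : A)) (μ : A) (F : A[X]) (hF : F.natDegree < p)
    (h0 : F.coeff 0 = 1) :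
    F * Polynomial.C (F.coeff 1) = Polynomial.derivative F * (1 + Polynomial.C μ * Polynomial.X) ↔
      ((∀ r : ℕ, 1 ≤ r → r < p →
          (r.factorial : A) * F.coeff r = ∏ k ∈ Finset.range r, (F.coeff 1 - (k : A) * μ)) ∧
        ∏ k ∈ Finset.range p, (F.coeff 1 - (k : A) * μ) = 0) := by
  have hp := (Fact.out : p.Prime)
  have hcoef : F * C (F.coeff 1) = derivative F * (1 + C μ * X) ↔
      ∀ n : ℕ, ((n : A) + 1) * F.coeff (n + 1) = (F.coeff 1 - (n : A) * μ) * F.coeff n := by
    rw [Polynomial.ext_iff]
    refine forall_congr' (fun n => ?_)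
    have h1 : (F * C (F.coeff 1)).coeff n = F.coeff n * F.coeff 1 := by rw [coeff_mul_C]
    have h2 : (derivative F * (1 + C μ * X)).coeff n =
        F.coeff (n + 1) * ((n : A) + 1) + (n : A) * μ * F.coeff n := by
      rw [mul_add, mul_one, coeff_add, ← mul_assoc]
      cases n with
      | zero => simp [coeff_derivative]
      | succ m =>
        rw [coeff_mul_X, coeff_mul_C, coeff_derivative, coeff_derivative]
        push_cast
        ring
    rw [h1, h2]
    constructor
    · intro h; linear_combination (-1 : A) * h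
    · intro h; linear_combination (-1 : A) * h
  rw [hcoef]
  have hcoeff0 : ∀ n, p ≤ n → F.coeff n = 0 := fun n hn =>
    Polynomial.coeff_eq_zero_of_natDegree_lt (lt_of_lt_of_le hF hn)
  constructor
  · intro hrec
    have hfact : ∀ r : ℕ, (r.factorial : A) * F.coeff r =
        ∏ k ∈ Finset.range r, (F.coeff 1 - (k : A) * μ) := by
      intro r
      induction r with
      | zero => simp [h0]
      | succ r ih =>
        rw [Finset.prod_range_succ, ← ih, Nat.factorial_succ]
        push_cast
        have := hrec r
        linear_combination (r.factorial : A) * this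
    refine ⟨fun r _ _ => hfact r, ?_⟩
    rw [← hfact p, hcoeff0 p le_rfl, mul_zero]
  · rintro ⟨h1, h2⟩ n
    have hfact' : ∀ r < p, (r.factorial : A) * F.coeff r =
        ∏ k ∈ Finset.range r, (F.coeff 1 - (k : A) * μ) := by
      intro r hr
      rcases Nat.eq_zero_or_pos r with rfl | hpos
      · simp [h0]
      · exact h1 r hpos hr
    have hunit : ∀ r < p, IsUnit ((r.factorial : ℕ) : A) := by
      intro r hr
      have hdvd : r.factorial ∣ (p - 1).factorial := Nat.factorial_dvd_factorial (by omega)
      exact isUnit_of_dvd_unit (Nat.cast_dvd_cast hdvd) hu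
    rcases lt_trichotomy (n + 1) p with hlt | heq | hgt
    · have hn : n < p := by omega
      apply (hunit n hn).mul_left_cancel
      have e1 := hfact' (n + 1) hlt
      have e2 := hfact' n hn
      rw [Finset.prod_range_succ, ← e2, Nat.factorial_succ] at e1
      push_cast at e1
      linear_combination e1
    · have hn : n < p := by omega
      rw [hcoeff0 (n + 1) (by omega), mul_zero]
      apply (hunit n hn).mul_left_cancel
      have e2 := hfact' n hn
      have e3 : ∏ k ∈ Finset.range (n + 1), (F.coeff 1 - (k : A) * μ) = 0 := by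
        rw [heq]; exact h2
      rw [Finset.prod_range_succ, ← e2] at e3
      linear_combination -e3
    · rw [hcoeff0 (n + 1) (by omega), hcoeff0 n (by omega), mul_zero, mul_zero]

/-! ## Universal injectivity is local on the source ring -/

open TensorProduct.AlgebraTensorModule in
theorem univ_inj_local {R S M M' : Type u} [CommRing R] [CommRing S] [Algebra R S]
    [AddCommGroup M] [Module S M] [Module R M] [IsScalarTower R S M] [AddCommGroup M']
    [Module S M'] [Module R M']
    [IsScalarTower R S M'] (u : M →ₗ[S] M') :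
    CAlgX.UniversallyInjective R (u.restrictScalars R) ↔
      ∀ (m : Ideal S) [m.IsMaximal],
        CAlgX.UniversallyInjective R
          ((LocalizedModule.map m.primeCompl u).restrictScalars R) := by
  have key : ∀ (Q : Type u) [AddCommGroup Q] [Module R Q] (m : Ideal S) [m.IsMaximal],
      IsLocalizedModule.map m.primeCompl
        (rTensor R Q (LocalizedModule.mkLinearMap m.primeCompl M))
        (rTensor R Q (LocalizedModule.mkLinearMap m.primeCompl M'))
        (rTensor R Q u) =
      rTensor R Q ((LocalizedModule.map m.primeCompl u).restrictScalars S) := by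
    intro Q _ _ m _
    apply IsLocalizedModule.linearMap_ext m.primeCompl
      (rTensor R Q (LocalizedModule.mkLinearMap m.primeCompl M))
      (rTensor R Q (LocalizedModule.mkLinearMap m.primeCompl M'))
    rw [IsLocalizedModule.map_comp]
    ext x q
    simp [LocalizedModule.map_mk]
  constructor
  · intro h m _ Q _ _
    have h1 : Function.Injective (rTensor R Q u) := h Q
    have h2 := IsLocalizedModule.map_injective m.primeCompl
      (rTensor R Q (LocalizedModule.mkLinearMap m.primeCompl M))
      (rTensor R Q (LocalizedModule.mkLinearMap m.primeCompl M')) _ h1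
    rw [key Q m] at h2
    exact h2
  · intro h Q _ _
    show Function.Injective (rTensor R Q u)
    apply injective_of_isLocalized_maximal
      (fun (m : Ideal S) _ => (LocalizedModule m.primeCompl M) ⊗[R] Q)
      (fun m _ => rTensor R Q (LocalizedModule.mkLinearMap m.primeCompl M))
      (fun (m : Ideal S) _ => LocalizedModule m.primeCompl M' ⊗[R] Q)
      (fun m _ => rTensor R Q (LocalizedModule.mkLinearMap m.primeCompl M'))
    intro m _
    rw [key Q m]
    exact h m Q

end Groth.Agent.Lib.CAlgMisc5H1
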