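import Mathlib.Tactic
import Mathlib.FieldTheory.IsAlgClosed.Basic
import Mathlib.FieldTheory.IntermediateField.Adjoin.Basic
import Mathlib.RingTheory.Artinian.Module
import Mathlib.RingTheory.Artinian.Ring
import Mathlib.RingTheory.Ideal.Quotient.Operations
import Mathlib.RingTheory.Idempotents

/-!
Helper lemmas (helper1): commutative algebras finite-dimensional over an algebraically closed field
(Demazure–Gabriel style finite schemes).  APPEND-ONLY once landed.
-/

set_option autoImplicit false
universe u v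

namespace Groth.Agent.Lib.FinAlgH1

section Field
variable (k : Type u) [Field k] (A : Type v) [CommRing A] [Algebra k A]

theorem algHom_surjective (f : A →ₐ[k] k) : Function.Surjective f :=
  fun c => ⟨algebraMap k A c, by simp⟩

theorem ker_isMaximal (f : A →ₐ[k] k) : (RingHom.ker f).IsMaximal :=
  RingHom.ker_isMaximal_of_surjective (f : A →+* k) (algHom_surjective k A f)

theorem algHom_eq_of_ker_eq (f g : A →ₐ[k] k) (h : RingHom.ker f = RingHom.ker g) : f = g := by
  ext a
  have h1 : a - algebraMap k A (f a) ∈ RingHom.ker f := by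
    rw [RingHom.mem_ker, map_sub]; simp
  rw [h, RingHom.mem_ker, map_sub] at h1
  simp only [AlgHom.commutes, Algebra.algebraMap_self, RingHom.id_apply] at h1
  exact (sub_eq_zero.mp h1).symm

theorem isCoprime_ker_of_ne {f g : A →ₐ[k] k} (h : f ≠ g) :
    IsCoprime (RingHom.ker f) (RingHom.ker g) := by
  have := ker_isMaximal k A f
  have := ker_isMaximal k A g
  exact Ideal.isCoprime_of_isMaximal (fun e => h (algHom_eq_of_ker_eq k A f g e))

end Field

section AlgClosed
variable (k : Type u) [Field k] [IsAlgClosed k] (A : Type v) [CommRing A] [Algebra k A]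
  [Module.Finite k A]

theorem algebraMap_quot_bijective (I : Ideal A) [I.IsMaximal] :
    Function.Bijective (algebraMap k (A ⧸ I)) := by
  let _ : Field (A ⧸ I) := Ideal.Quotient.field I
  have : Algebra.IsIntegral k (A ⧸ I) := Algebra.IsIntegral.of_finite k (A ⧸ I)
  exact IsAlgClosed.algebraMap_bijective_of_isIntegral

/-- The `k`-point attached to a maximal ideal. -/
noncomputable def chi (I : Ideal A) [I.IsMaximal] : A →ₐ[k] k :=
  ((AlgEquiv.ofBijective (Algebra.ofId k (A ⧸ I)) (algebraMap_quot_bijective k A I)).symm :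
    (A ⧸ I) →ₐ[k] k).comp (Ideal.Quotient.mkₐ k I)

theorem ker_chi (I : Ideal A) [I.IsMaximal] : RingHom.ker (chi k A I) = I := by
  ext a
  rw [RingHom.mem_ker]
  show (AlgEquiv.ofBijective (Algebra.ofId k (A ⧸ I)) (algebraMap_quot_bijective k A I)).symm
    (Ideal.Quotient.mk I a) = 0 ↔ a ∈ I
  rw [map_eq_zero_iff _ (AlgEquiv.injective _), Ideal.Quotient.eq_zero_iff_mem]

/-- every element is a scalar modulo a maximal ideal -/
theorem sub_chi_mem (I : Ideal A) [I.IsMaximal] (a : A) : a - algebraMap k A (chi k A I a) ∈ I := by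
  have h : a - algebraMap k A (chi k A I a) ∈ RingHom.ker (chi k A I) := by
    rw [RingHom.mem_ker, map_sub]; simp
  rwa [ker_chi] at h

theorem iInf_ker_eq_nilradical : (⨅ f : A →ₐ[k] k, RingHom.ker f) = nilradical A := by
  have : IsArtinianRing A := IsArtinianRing.of_finite k A
  rw [IsArtinianRing.nilradical_eq_iInf]
  apply le_antisymm
  · refine le_iInf fun I => ?_
    have := I.isMaximal
    exact (iInf_le _ (chi k A I.asIdeal)).trans (ker_chi k A I.asIdeal).le
  · refine le_iInf fun f => ?_
    exact iInf_le _ (⟨RingHom.ker f, ker_isMaximal k A f⟩ : MaximalSpectrum A)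

theorem eval_surjective :
    Function.Surjective (AlgHom.pi (R := k) (fun f : A →ₐ[k] k => f)) := by
  intro t
  have hcop : Pairwise (Function.onFun IsCoprime fun f : A →ₐ[k] k => RingHom.ker f) :=
    fun f g hfg => isCoprime_ker_of_ne k A hfg
  obtain ⟨r, hr⟩ := Ideal.exists_forall_sub_mem_ideal hcop (fun f => algebraMap k A (t f))
  refine ⟨r, ?_⟩
  funext f
  have := hr f
  rw [RingHom.mem_ker, map_sub] at this
  simp only [AlgHom.commutes, Algebra.algebraMap_self, RingHom.id_apply] at this
  exact sub_eq_zero.mp this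

theorem ker_eval :
    RingHom.ker (AlgHom.pi (R := k) (fun f : A →ₐ[k] k => f)) = nilradical A := by
  rw [← iInf_ker_eq_nilradical k A]
  ext a
  simp only [RingHom.mem_ker, Ideal.mem_iInf]
  constructor
  · intro h f
    exact congrFun h f
  · intro h
    funext f
    exact h f

end AlgClosed

section Section
variable (k : Type u) [Field k] [IsAlgClosed k] (A : Type v) [CommRing A] [Algebra k A]
  [Module.Finite k A]

/-- The evaluation map `A → (E → k)`, `E = Hom_k(A, k)`, has an algebra section. -/
theorem exists_section : ∃ s : ((A →ₐ[k] k) → k) →ₐ[k] A,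
    ∀ t, AlgHom.pi (R := k) (fun f : A →ₐ[k] k => f) (s t) = t := by
  classical
  have : Fintype (A →ₐ[k] k) := Fintype.ofFinite _
  let ev : A →+* ((A →ₐ[k] k) → k) := (AlgHom.pi (R := k) (fun f : A →ₐ[k] k => f) : A →+* _)
  have hnil : ∀ x ∈ RingHom.ker ev, IsNilpotent x := by
    intro x hx
    have h := ker_eval k A
    rw [← mem_nilradical, ← h]
    exact hx
  obtain ⟨e, he, hee⟩ := CompleteOrthogonalIdempotents.lift_of_isNilpotent_ker ev hnil
    (CompleteOrthogonalIdempotents.single (fun _ : A →ₐ[k] k => k))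
    (fun i => by obtain ⟨a, ha⟩ := eval_surjective k A (Pi.single i 1); exact ⟨a, ha⟩)
  have hge : ∀ f g : A →ₐ[k] k, g (e f) = (Pi.single f (1 : k) : (A →ₐ[k] k) → k) g := by
    intro f g
    exact congrFun (congrFun hee f) g
  let φ : ((A →ₐ[k] k) → k) →ₗ[k] A :=
    ∑ f : A →ₐ[k] k, (LinearMap.proj f : ((A →ₐ[k] k) → k) →ₗ[k] k).smulRight (e f)
  have hφ : ∀ t, φ t = ∑ f : A →ₐ[k] k, t f • e f := by
    intro t
    simp [φ, LinearMap.sum_apply]
  have h1 : φ 1 = 1 := by
    rw [hφ]
    simp only [Pi.one_apply, one_smul]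
    exact he.complete
  have hmul : ∀ t t', φ (t * t') = φ t * φ t' := by
    intro t t'
    rw [hφ, hφ, hφ, Finset.sum_mul_sum]
    refine Finset.sum_congr rfl fun f _ => ?_
    rw [Finset.sum_eq_single f]
    · rw [smul_mul_smul_comm, (he.idem f).eq]; rfl
    · intro g _ hgf
      rw [smul_mul_smul_comm, he.ortho (Ne.symm hgf), smul_zero]
    · intro h; exact absurd (Finset.mem_univ f) h
  refine ⟨AlgHom.ofLinearMap φ h1 hmul, fun t => ?_⟩
  funext g
  show g (φ t) = t g
  rw [hφ, map_sum]
  simp only [map_smul, hge, smul_eq_mul]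
  rw [Finset.sum_eq_single g]
  · simp
  · intro f _ hfg
    rw [Pi.single_eq_of_ne (Ne.symm hfg), mul_zero]
  · intro h; exact absurd (Finset.mem_univ g) h

end Section

end Groth.Agent.Lib.FinAlgH1
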