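import Mathlib
import Groth.Agent.Lib.FinAlgClosed_helper1

/-! More miscellaneous algebra, part 6 (helper1). -/

universe u v

namespace Groth.Agent.Lib.CAlgMisc6H1

/-! ## The 72 classes on a cubic surface -/

section Cubic

def TT : Finset (ℤ × (Fin 6 → ℤ)) :=
  (({1,2,3,4,5} : Finset ℤ) ×ˢ (Fintype.piFinset (fun _ : Fin 6 => ({0,1,2} : Finset ℤ)))).filter
    (fun p => 3 * p.1 - (Finset.univ.sum fun i => p.2 i) = 3 ∧
      p.1 ^ 2 - (Finset.univ.sum fun i => p.2 i ^ 2) = 1)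

set_option maxRecDepth 100000 in
theorem card_TT : TT.card = 72 := by
  decide +kernel

lemma cs5 (x1 x2 x3 x4 x5 : ℤ) :
    (x1 + x2 + x3 + x4 + x5) ^ 2 ≤ 5 * (x1 ^ 2 + x2 ^ 2 + x3 ^ 2 + x4 ^ 2 + x5 ^ 2) := by
  nlinarith [sq_nonneg (x1 - x2), sq_nonneg (x1 - x3), sq_nonneg (x1 - x4), sq_nonneg (x1 - x5),
    sq_nonneg (x2 - x3), sq_nonneg (x2 - x4), sq_nonneg (x2 - x5), sq_nonneg (x3 - x4),
    sq_nonneg (x3 - x5), sq_nonneg (x4 - x5)]

lemma cs6 (x0 x1 x2 x3 x4 x5 : ℤ) :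
    (x0 + x1 + x2 + x3 + x4 + x5) ^ 2 ≤
      6 * (x0 ^ 2 + x1 ^ 2 + x2 ^ 2 + x3 ^ 2 + x4 ^ 2 + x5 ^ 2) := by
  nlinarith [sq_nonneg (x1 - x2), sq_nonneg (x1 - x3), sq_nonneg (x1 - x4), sq_nonneg (x1 - x5),
    sq_nonneg (x2 - x3), sq_nonneg (x2 - x4), sq_nonneg (x2 - x5), sq_nonneg (x3 - x4),
    sq_nonneg (x3 - x5), sq_nonneg (x4 - x5), sq_nonneg (x0 - x1), sq_nonneg (x0 - x2),
    sq_nonneg (x0 - x3), sq_nonneg (x0 - x4), sq_nonneg (x0 - x5)]

lemma coord_bound (a y x1 x2 x3 x4 x5 : ℤ)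
    (h1 : y + x1 + x2 + x3 + x4 + x5 = 3 * a - 3)
    (h2 : y ^ 2 + x1 ^ 2 + x2 ^ 2 + x3 ^ 2 + x4 ^ 2 + x5 ^ 2 = a ^ 2 - 1) :
    0 ≤ y ∧ y ≤ 2 := by
  have hs : x1 + x2 + x3 + x4 + x5 = 3 * a - 3 - y := by linarith
  have hq : x1 ^ 2 + x2 ^ 2 + x3 ^ 2 + x4 ^ 2 + x5 ^ 2 = a ^ 2 - 1 - y ^ 2 := by linarith
  have hcs := cs5 x1 x2 x3 x4 x5
  rw [hs, hq] at hcs
  have hqq : 3 * y ^ 2 - 6 * y - 5 ≤ 0 := by
    nlinarith [sq_nonneg (4 * a - 9 - 3 * y)]
  constructor
  · by_contra hneg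
    push Not at hneg
    nlinarith
  · by_contra hbig
    push Not at hbig
    nlinarith

lemma a_bound (a x0 x1 x2 x3 x4 x5 : ℤ)
    (h1 : x0 + x1 + x2 + x3 + x4 + x5 = 3 * a - 3)
    (h2 : x0 ^ 2 + x1 ^ 2 + x2 ^ 2 + x3 ^ 2 + x4 ^ 2 + x5 ^ 2 = a ^ 2 - 1) :
    1 ≤ a ∧ a ≤ 5 := by
  have hcs := cs6 x0 x1 x2 x3 x4 x5
  rw [h1, h2] at hcs
  have hqq : (a - 1) * (a - 5) ≤ 0 := by nlinarith
  constructor
  · by_contra hneg
    push Not at hneg
    nlinarith
  · by_contra hbig
    push Not at hbig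
    nlinarith

theorem count72 :
    {p : ℤ × (Fin 6 → ℤ) | 3 * p.1 - (Finset.univ.sum fun i => p.2 i) = 3 ∧
        p.1 ^ 2 - (Finset.univ.sum fun i => p.2 i ^ 2) = 1}.ncard = 72 := by
  have hS : {p : ℤ × (Fin 6 → ℤ) | 3 * p.1 - (Finset.univ.sum fun i => p.2 i) = 3 ∧
        p.1 ^ 2 - (Finset.univ.sum fun i => p.2 i ^ 2) = 1} = ↑TT := by
    ext ⟨a, b⟩
    simp only [Set.mem_setOf_eq, TT, Finset.coe_filter, Finset.mem_product, Fintype.mem_piFinset,
      Finset.mem_insert, Finset.mem_singleton]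
    constructor
    · rintro ⟨h1, h2⟩
      rw [Fin.sum_univ_six] at h1 h2
      have e1 : b 0 + b 1 + b 2 + b 3 + b 4 + b 5 = 3 * a - 3 := by linarith
      have e2 : b 0 ^ 2 + b 1 ^ 2 + b 2 ^ 2 + b 3 ^ 2 + b 4 ^ 2 + b 5 ^ 2 = a ^ 2 - 1 := by
        linarith
      have ha := a_bound a _ _ _ _ _ _ e1 e2
      have hb0 := coord_bound a (b 0) (b 1) (b 2) (b 3) (b 4) (b 5) (by linarith) (by linarith)
      have hb1 := coord_bound a (b 1) (b 0) (b 2) (b 3) (b 4) (b 5) (by linarith) (by linarith)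
      have hb2 := coord_bound a (b 2) (b 1) (b 0) (b 3) (b 4) (b 5) (by linarith) (by linarith)
      have hb3 := coord_bound a (b 3) (b 1) (b 2) (b 0) (b 4) (b 5) (by linarith) (by linarith)
      have hb4 := coord_bound a (b 4) (b 1) (b 2) (b 3) (b 0) (b 5) (by linarith) (by linarith)
      have hb5 := coord_bound a (b 5) (b 1) (b 2) (b 3) (b 4) (b 0) (by linarith) (by linarith)
      refine ⟨⟨by omega, ?_⟩, by rw [Fin.sum_univ_six]; exact h1, by rw [Fin.sum_univ_six]; exact h2⟩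
      intro i
      fin_cases i
      · show b 0 = 0 ∨ b 0 = 1 ∨ b 0 = 2; omega
      · show b 1 = 0 ∨ b 1 = 1 ∨ b 1 = 2; omega
      · show b 2 = 0 ∨ b 2 = 1 ∨ b 2 = 2; omega
      · show b 3 = 0 ∨ b 3 = 1 ∨ b 3 = 2; omega
      · show b 4 = 0 ∨ b 4 = 1 ∨ b 4 = 2; omega
      · show b 5 = 0 ∨ b 5 = 1 ∨ b 5 = 2; omega
    · rintro ⟨_, h1, h2⟩
      exact ⟨h1, h2⟩
  rw [hS, Set.ncard_coe_finset]
  exact card_TT

end Cubic

/-! ## Derivations of finite algebras over an algebraically closed field -/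

section Der

variable (k : Type u) [Field k] [IsAlgClosed k] (A : Type v) [CommRing A] [Algebra k A]
  [Module.Finite k A]

open Groth.Agent.Lib.FinAlgH1

omit [IsAlgClosed k] [Module.Finite k A] in
lemma derivation_idempotent {e : A} (he : e * e = e) (D : Derivation k A A) : D e = 0 := by
  have h1 : D e = e • D e + e • D e := by
    conv_lhs => rw [← he]
    exact D.leibniz e e
  have h2 : e • D e = 0 := by
    have h3 := congrArg (fun x => e • x) h1
    simp only [smul_add, smul_smul, he] at h3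
    exact add_eq_left.mp h3.symm
  calc D e = e • D e + e • D e := h1
    _ = 0 := by rw [h2, add_zero]

theorem der_subsingleton_of_reduced [IsReduced A] : Subsingleton (Derivation k A A) := by
  classical
  haveI : Fintype (A →ₐ[k] k) := Fintype.ofFinite _
  obtain ⟨s, hs⟩ := exists_section k A
  have hinj : ∀ a : A, s (AlgHom.pi (R := k) (fun f : A →ₐ[k] k => f) a) = a := by
    intro a
    have h1 : a - s (AlgHom.pi (R := k) (fun f : A →ₐ[k] k => f) a) ∈
        RingHom.ker (AlgHom.pi (R := k) (fun f : A →ₐ[k] k => f)) := by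
      rw [RingHom.mem_ker, map_sub, hs, sub_self]
    rw [ker_eval k A, nilradical_eq_zero, Ideal.zero_eq_bot, Ideal.mem_bot, sub_eq_zero] at h1
    exact h1.symm
  have hD0 : ∀ D : Derivation k A A, D = 0 := by
    intro D
    have hL : (D : A →ₗ[k] A).comp s.toLinearMap = 0 := by
      apply LinearMap.pi_ext
      intro f x
      have hx : (Pi.single f x : (A →ₐ[k] k) → k) = x • Pi.single f 1 := by
        rw [← Pi.single_smul, smul_eq_mul, mul_one]
      have hid : s (Pi.single f 1) * s (Pi.single f 1) = s (Pi.single f 1) := by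
        rw [← map_mul, ← Pi.single_mul, mul_one]
      have h0 := derivation_idempotent k A hid D
      simp only [LinearMap.comp_apply, LinearMap.zero_apply, AlgHom.toLinearMap_apply, hx, map_smul]
      show x • D (s (Pi.single f 1)) = x • 0
      rw [h0]
    ext a
    rw [← hinj a]
    exact LinearMap.congr_fun hL _
  exact ⟨fun D D' => by rw [hD0 D, hD0 D']⟩

theorem reduced_of_der_subsingleton (h : Subsingleton (Derivation k A A)) : IsReduced A := by
  classical
  by_contra hred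
  haveI : IsArtinianRing A := IsArtinianRing.of_finite k A
  haveI : Fintype (A →ₐ[k] k) := Fintype.ofFinite _
  obtain ⟨s, hs⟩ := exists_section k A
  have hn0 : nilradical A ≠ ⊥ := by
    intro h0
    apply hred
    exact nilradical_eq_bot_iff.mp h0
  let e : (A →ₐ[k] k) → A := fun f => s (Pi.single f 1)
  have hsum : ∑ f, e f = 1 := by
    simp only [e]
    rw [← map_sum, Finset.univ_sum_single (fun _ : A →ₐ[k] k => (1 : k))]
    exact map_one s
  obtain ⟨x₁, hx₁n, hx₁0⟩ : ∃ x ∈ nilradical A, x ≠ 0 :=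
    Submodule.exists_mem_ne_zero_of_ne_bot hn0
  obtain ⟨f0, hf0⟩ : ∃ f0, e f0 * x₁ ≠ 0 := by
    by_contra hall
    push Not at hall
    apply hx₁0
    calc x₁ = (∑ f, e f) * x₁ := by rw [hsum, one_mul]
      _ = ∑ f, e f * x₁ := Finset.sum_mul ..
      _ = 0 := Finset.sum_eq_zero (fun f _ => hall f)
  set e0 := e f0 with he0
  have he0id : e0 * e0 = e0 := by
    simp only [he0, e]
    rw [← map_mul, ← Pi.single_mul, mul_one]
  set m : Ideal A := Ideal.span {e0} * nilradical A with hm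
  have hm_mem : ∀ y ∈ nilradical A, e0 * y ∈ m := fun y hy =>
    Ideal.mul_mem_mul (Ideal.subset_span rfl) hy
  have hm_le : m ≤ nilradical A := Ideal.mul_le_right
  have hm_e : ∀ y ∈ m, e0 * y = y := by
    intro y hy
    refine Submodule.mul_induction_on hy ?_ ?_
    · intro a ha b hb
      obtain ⟨c, rfl⟩ := Ideal.mem_span_singleton'.mp ha
      calc e0 * (c * e0 * b) = c * (e0 * e0) * b := by ring
        _ = c * e0 * b := by rw [he0id]
    · intro a b ha hb
      rw [mul_add, ha, hb]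
  have hm0 : m ≠ ⊥ := fun h0 => hf0 (by
    have h1 := hm_mem x₁ hx₁n
    rw [h0] at h1
    exact h1)
  have hex : ∃ N, m ^ N = ⊥ := by
    obtain ⟨N, hN⟩ := IsArtinianRing.isNilpotent_nilradical (R := A)
    refine ⟨N, le_bot_iff.mp ?_⟩
    calc m ^ N ≤ nilradical A ^ N := Ideal.pow_right_mono hm_le N
      _ = ⊥ := hN
  obtain ⟨N, hN, hmin⟩ : ∃ N, m ^ N = ⊥ ∧ ∀ j < N, m ^ j ≠ ⊥ :=
    ⟨Nat.find hex, Nat.find_spec hex, fun j hj => Nat.find_min hex hj⟩
  rcases N with _ | _ | N'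
  · rw [pow_zero, Ideal.one_eq_top] at hN
    exact hm0 (le_bot_iff.mp (hN ▸ le_top))
  · rw [zero_add, pow_one] at hN
    exact hm0 hN
  -- socle element
  obtain ⟨z, hzm, hz0⟩ : ∃ z ∈ m ^ (N' + 1), z ≠ 0 :=
    Submodule.exists_mem_ne_zero_of_ne_bot (hmin (N' + 1) (by omega))
  have hzm' : z ∈ m := Ideal.pow_le_self (by omega) hzm
  have hmz : ∀ y ∈ m, y * z = 0 := by
    intro y hy
    have h1 : y * z ∈ m ^ (N' + 1 + 1) := by
      rw [pow_succ']
      exact Ideal.mul_mem_mul hy hzm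
    rw [hN] at h1
    exact h1
  -- m² ≠ m
  have hmm : m * m ≠ m := by
    intro heq
    have hall : ∀ j : ℕ, m ^ (j + 1) = m := by
      intro j
      induction j with
      | zero => rw [zero_add, pow_one]
      | succ j ih => rw [pow_succ, ih, heq]
    exact hm0 ((hall (N' + 1)).symm.trans hN)
  have hlt : m * m < m := lt_of_le_of_ne Ideal.mul_le_left hmm
  obtain ⟨x₀, hx₀m, hx₀⟩ := SetLike.exists_of_lt hlt
  obtain ⟨lam, hlam, hlam0⟩ := Submodule.exists_dual_map_eq_bot_of_notMem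
    (p := (m * m).restrictScalars k) (x := x₀) hx₀ inferInstance
  have hlam0' : ∀ y ∈ m * m, lam y = 0 := by
    intro y hy
    have h1 : lam y ∈ ((m * m).restrictScalars k).map lam := ⟨y, hy, rfl⟩
    rw [hlam0] at h1
    exact h1
  -- the derivation
  let ev := AlgHom.pi (R := k) (fun f : A →ₐ[k] k => f)
  let ν : A →ₗ[k] A := LinearMap.id - s.toLinearMap.comp ev.toLinearMap
  let L : A →ₗ[k] k := lam.comp ((LinearMap.mulLeft k e0).comp ν)
  have hν : ∀ a, ν a = a - s (ev a) := fun a => rfl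
  have hL : ∀ a, L a = lam (e0 * (a - s (ev a))) := fun a => rfl
  have hνn : ∀ a, a - s (ev a) ∈ nilradical A := by
    intro a
    rw [← ker_eval k A, RingHom.mem_ker, map_sub]
    show ev a - ev (s (ev a)) = 0
    rw [hs, sub_self]
  have hF1 : ∀ t, e0 * s t = t f0 • e0 := by
    intro t
    have h1 : (Pi.single f0 1 : (A →ₐ[k] k) → k) * t = t f0 • Pi.single f0 1 := by
      ext g
      by_cases hg : g = f0
      · subst hg; simp
      · simp [Pi.single_eq_of_ne hg]
    simp only [he0, e]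
    rw [← map_mul, h1, map_smul]
  have haz : ∀ a, a * z = f0 a • z := by
    intro a
    have h1 : a = s (ev a) + (a - s (ev a)) := by ring
    calc a * z = a * (e0 * z) := by rw [hm_e z hzm']
      _ = (e0 * s (ev a)) * z + (e0 * (a - s (ev a))) * z := by
          conv_lhs => rw [h1]
          ring
      _ = (ev a f0 • e0) * z + 0 := by rw [hF1, hmz _ (hm_mem _ (hνn a))]
      _ = f0 a • z := by
          rw [add_zero, smul_mul_assoc, hm_e z hzm']
          rfl
  have hleib : ∀ a b, (L.smulRight z) (a * b) =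
      a • (L.smulRight z) b + b • (L.smulRight z) a := by
    intro a b
    simp only [LinearMap.smulRight_apply, smul_eq_mul]
    have hLab : L (a * b) = f0 a * L b + f0 b * L a := by
      rw [hL, hL, hL, map_mul ev a b, map_mul s (ev a) (ev b)]
      have h2 : e0 * (a * b - s (ev a) * s (ev b)) =
          (e0 * s (ev a)) * (b - s (ev b)) + (e0 * s (ev b)) * (a - s (ev a)) +
            (e0 * (a - s (ev a))) * (e0 * (b - s (ev b))) := by
        have h3 : (e0 * (a - s (ev a))) * (e0 * (b - s (ev b))) =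
            (e0 * e0) * ((a - s (ev a)) * (b - s (ev b))) := by ring
        rw [h3, he0id]
        ring
      rw [h2, hF1, hF1, map_add, map_add,
        hlam0' _ (Ideal.mul_mem_mul (hm_mem _ (hνn a)) (hm_mem _ (hνn b))), add_zero,
        smul_mul_assoc, smul_mul_assoc, map_smul, map_smul, smul_eq_mul, smul_eq_mul]
      rfl
    rw [hLab, mul_smul_comm, mul_smul_comm, haz, haz, smul_smul, smul_smul, ← add_smul]
    congr 1
    ring
  let D : Derivation k A A := Derivation.mk' (L.smulRight z) hleib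
  have hD : D x₀ ≠ 0 := by
    show L x₀ • z ≠ 0
    have h1 : ev x₀ = 0 := by
      have h2 : x₀ ∈ RingHom.ker ev := by
        rw [ker_eval k A]; exact hm_le hx₀m
      exact h2
    have h3 : L x₀ = lam x₀ := by
      rw [hL, h1, map_zero, sub_zero, hm_e x₀ hx₀m]
    rw [h3]
    exact smul_ne_zero hlam hz0
  apply hD
  rw [Subsingleton.elim D 0]
  rfl

theorem der_subsingleton_iff :
    Subsingleton (Derivation k A A) ↔ IsReduced A :=
  ⟨reduced_of_der_subsingleton k A, fun _ => der_subsingleton_of_reduced k A⟩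

end Der

end Groth.Agent.Lib.CAlgMisc6H1
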