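import Mathlib

/-!
# Misc commutative algebra, part 7 (helper1)

* `dedekind_sat`   — S4640: saturation characterisation over a Dedekind domain
* `conductor_acc`  — S4731: ACC below the conductor
* `dieudonne_step` — S16418: F-nilpotent part of a Dieudonné-type module
* `insep_nilpotent` — S15546: inseparable finite extension is not geometrically reduced
-/

open TensorProduct

universe u v

namespace Groth.Agent.CAlgMisc7H1

/-! ## S4640 -/

theorem dedekind_sat {A K : Type u} [CommRing A] [IsDedekindDomain A] [Field K]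
    [Algebra A K] [IsFractionRing A K] {M : Type u} [AddCommGroup M] [Module A M]
    (P' : Submodule K (K ⊗[A] M)) (Q : Submodule A M) :
    Q = LinearMap.ker ((P'.restrictScalars A).mkQ ∘ₗ TensorProduct.mk A K M 1) ↔
      (Module.Flat A (M ⧸ Q) ∧ LinearMap.ker (Q.mkQ.baseChange K) = P') := by
  have hmemker : ∀ m : M,
      m ∈ LinearMap.ker ((P'.restrictScalars A).mkQ ∘ₗ TensorProduct.mk A K M 1) ↔
        (1 : K) ⊗ₜ[A] m ∈ P' := by
    intro m
    rw [LinearMap.mem_ker, LinearMap.comp_apply, Submodule.mkQ_apply,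
      Submodule.Quotient.mk_eq_zero, Submodule.restrictScalars_mem, TensorProduct.mk_apply]
  have hunit : ∀ (a : A), a ∈ nonZeroDivisors A → ∀ (x : K ⊗[A] M), a • x ∈ P' ↔ x ∈ P' := by
    intro a ha x
    have hne : algebraMap A K a ≠ 0 := IsFractionRing.to_map_ne_zero_of_mem_nonZeroDivisors ha
    rw [← algebraMap_smul K a x]
    exact P'.smul_mem_iff hne
  have hunit0 : ∀ (N : Type u) [AddCommGroup N] [Module A N] (a : A),
      a ∈ nonZeroDivisors A → ∀ (x : K ⊗[A] N), a • x = 0 → x = 0 := by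
    intro N _ _ a ha x hx
    have hne : algebraMap A K a ≠ 0 := IsFractionRing.to_map_ne_zero_of_mem_nonZeroDivisors ha
    rw [← algebraMap_smul K a x] at hx
    exact (smul_eq_zero.mp hx).resolve_left hne
  have hzero : ∀ (N : Type u) [AddCommGroup N] [Module A N] (n : N),
      (1 : K) ⊗ₜ[A] n = 0 ↔ ∃ a ∈ nonZeroDivisors A, a • n = 0 := by
    intro N _ _ n
    have := IsLocalizedModule.eq_zero_iff (nonZeroDivisors A) (TensorProduct.mk A K N 1) (m := n)
    rw [TensorProduct.mk_apply] at this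
    rw [this]
    constructor
    · rintro ⟨s, hs⟩; exact ⟨s.1, s.2, hs⟩
    · rintro ⟨a, ha, h⟩; exact ⟨⟨a, ha⟩, h⟩
  have hsurj : ∀ x : K ⊗[A] M, ∃ (m : M) (s : A), s ∈ nonZeroDivisors A ∧
      s • x = (1 : K) ⊗ₜ[A] m := by
    intro x
    obtain ⟨⟨m, s⟩, h⟩ := IsLocalizedModule.surj (nonZeroDivisors A) (TensorProduct.mk A K M 1) x
    exact ⟨m, s.1, s.2, by simpa [Submonoid.smul_def] using h⟩
  have hbc : ∀ m : M, Q.mkQ.baseChange K ((1 : K) ⊗ₜ[A] m) = (1 : K) ⊗ₜ[A] (Q.mkQ m) :=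
    fun m => LinearMap.baseChange_tmul _ _ _
  have hbcsmul : ∀ (s : A) (x : K ⊗[A] M),
      Q.mkQ.baseChange K (s • x) = s • Q.mkQ.baseChange K x := by
    intro s x
    rw [← algebraMap_smul K s x, map_smul, algebraMap_smul]
  have hmk0 : ∀ m : M, Q.mkQ m = 0 ↔ m ∈ Q := fun m => Submodule.Quotient.mk_eq_zero Q
  have htf : Module.Flat A (M ⧸ Q) ↔
      ∀ (a : A), a ∈ nonZeroDivisors A → ∀ m : M, a • m ∈ Q → m ∈ Q := by
    rw [IsDedekindDomain.flat_iff_torsion_eq_bot, Submodule.eq_bot_iff]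
    constructor
    · intro h a ha m hm
      have h1 : Q.mkQ m ∈ Submodule.torsion A (M ⧸ Q) := by
        rw [Submodule.mem_torsion_iff]
        refine ⟨⟨a, ha⟩, ?_⟩
        show a • Q.mkQ m = 0
        rw [← map_smul]
        exact (hmk0 _).mpr hm
      exact (hmk0 m).mp (h _ h1)
    · intro h x hx
      obtain ⟨m, rfl⟩ := Q.mkQ_surjective x
      obtain ⟨⟨a, ha⟩, hax⟩ := (Submodule.mem_torsion_iff _).mp hx
      have h2 : a • Q.mkQ m = 0 := hax
      rw [← map_smul] at h2
      exact (hmk0 m).mpr (h a ha m ((hmk0 _).mp h2))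
  constructor
  · intro hQ
    have hQmem : ∀ m, m ∈ Q ↔ (1 : K) ⊗ₜ[A] m ∈ P' := by
      intro m
      rw [← hmemker m, ← hQ]
    have hsat : ∀ (a : A), a ∈ nonZeroDivisors A → ∀ m : M, a • m ∈ Q → m ∈ Q := by
      intro a ha m hm
      rw [hQmem] at hm ⊢
      rw [TensorProduct.tmul_smul] at hm
      exact (hunit a ha _).mp hm
    refine ⟨htf.mpr hsat, ?_⟩
    ext x
    obtain ⟨m, s, hs, hx⟩ := hsurj x
    rw [LinearMap.mem_ker, ← hunit s hs x, hx, ← hQmem]
    constructor
    · intro h0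
      have h1 : Q.mkQ.baseChange K (s • x) = 0 := by rw [hbcsmul, h0, smul_zero]
      rw [hx, hbc, hzero (M ⧸ Q) (Q.mkQ m)] at h1
      obtain ⟨a, ha, h2⟩ := h1
      rw [← map_smul] at h2
      exact hsat a ha m ((hmk0 _).mp h2)
    · intro hm
      apply hunit0 (M ⧸ Q) s hs
      rw [← hbcsmul, hx, hbc, (hmk0 m).mpr hm]
      exact TensorProduct.tmul_zero _ _
  · rintro ⟨hflat, hker⟩
    have hsat := htf.mp hflat
    ext m
    rw [hmemker, ← hker, LinearMap.mem_ker, hbc, hzero (M ⧸ Q) (Q.mkQ m)]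
    constructor
    · intro hm
      exact ⟨1, one_mem _, by rw [one_smul]; exact (hmk0 m).mpr hm⟩
    · rintro ⟨a, ha, h⟩
      rw [← map_smul] at h
      exact hsat a ha m ((hmk0 _).mp h)

/-! ## S4731 -/

theorem isNoetherian_of_killed {S : Type*} [CommRing S] (c : Ideal S) [IsNoetherianRing (S ⧸ c)]
    (Y : Type*) [AddCommGroup Y] [Module S Y] [Module.Finite S Y]
    (hkill : ∀ s ∈ c, ∀ y : Y, s • y = 0) : IsNoetherian S Y := by
  have hM : Module.IsTorsionBySet S Y (c : Set S) := fun y a => hkill a.1 a.2 y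
  letI : Module (S ⧸ c) Y := hM.module
  haveI : IsScalarTower S (S ⧸ c) Y := hM.isScalarTower
  haveI : Module.Finite (S ⧸ c) Y := Module.Finite.of_restrictScalars_finite S (S ⧸ c) Y
  haveI : IsNoetherian (S ⧸ c) Y := isNoetherian_of_isNoetherianRing_of_finite _ _
  refine ⟨fun N => ?_⟩
  let N' : Submodule (S ⧸ c) Y :=
    { N.toAddSubmonoid with
      smul_mem' := by
        intro q y hy
        obtain ⟨s, rfl⟩ := Ideal.Quotient.mk_surjective q
        have h1 : (Ideal.Quotient.mk c s) • y = s • y := hM.mk_smul s y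
        rw [h1]
        exact N.smul_mem s hy }
  obtain ⟨G, hG⟩ := (IsNoetherian.noetherian N' : N'.FG)
  refine ⟨G, ?_⟩
  have h1 := Submodule.restrictScalars_span S (S ⧸ c) Ideal.Quotient.mk_surjective (G : Set Y)
  rw [← h1, hG]
  ext y
  exact Iff.rfl

theorem conductor_acc (S R : Type u) [CommRing S] [CommRing R] [Algebra S R]
    [FaithfulSMul S R] [IsNoetherianRing R] [Module.Finite S R] (c : Ideal S)
    (hc : ∀ s : S, s ∈ c ↔ ∀ r : R, ∃ s' : S, algebraMap S R s' = algebraMap S R s * r)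
    [IsNoetherianRing (S ⧸ c)] (a : ℕ →o Ideal S) (ha : ∀ n, a n ≤ c) :
    ∃ N : ℕ, ∀ n, N ≤ n → a n = a N := by
  classical
  have hinj : Function.Injective (algebraMap S R) := FaithfulSMul.algebraMap_injective S R
  have hcR : ∀ s ∈ c, ∀ r : R, ∃ s' ∈ c, algebraMap S R s' = algebraMap S R s * r := by
    intro s hs r
    obtain ⟨s', hs'⟩ := (hc s).mp hs r
    refine ⟨s', (hc s').mpr (fun r' => ?_), hs'⟩
    obtain ⟨s'', hs''⟩ := (hc s).mp hs (r * r')
    exact ⟨s'', by rw [hs'', hs', mul_assoc]⟩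
  let b : ℕ →o Ideal R :=
    ⟨fun n => (a n).map (algebraMap S R), fun m n h => Ideal.map_mono (a.monotone h)⟩
  obtain ⟨N₁, hN₁⟩ := monotone_stabilizes_iff_noetherian.mpr (inferInstance : IsNoetherian R R) b
  have key : ∀ n, ∀ j ∈ (a n).map (algebraMap S R), ∀ s ∈ c,
      ∃ x ∈ a n, algebraMap S R x = algebraMap S R s * j := by
    intro n j hj
    have hj' : j ∈ Submodule.span R (algebraMap S R '' (a n : Set S)) := hj
    refine Submodule.span_induction
      (p := fun j _ => ∀ s ∈ c, ∃ x ∈ a n, algebraMap S R x = algebraMap S R s * j)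
      ?_ ?_ ?_ ?_ hj'
    · rintro _ ⟨x, hx, rfl⟩ s hs
      exact ⟨s * x, (a n).mul_mem_left s hx, by rw [map_mul]⟩
    · intro s hs
      exact ⟨0, zero_mem _, by simp⟩
    · intro j₁ j₂ _ _ h₁ h₂ s hs
      obtain ⟨x₁, hx₁, e₁⟩ := h₁ s hs
      obtain ⟨x₂, hx₂, e₂⟩ := h₂ s hs
      exact ⟨x₁ + x₂, add_mem hx₁ hx₂, by rw [map_add, e₁, e₂, mul_add]⟩
    · intro r j _ h s hs
      obtain ⟨s', hs'c, hs'⟩ := hcR s hs r
      obtain ⟨x, hx, e⟩ := h s' hs'c
      exact ⟨x, hx, by rw [e, hs', smul_eq_mul, mul_assoc]⟩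
  let J : Ideal R := (a N₁).map (algebraMap S R)
  let J' : Submodule S R := J.restrictScalars S
  haveI : Module.Finite R J := Module.IsNoetherian.finite R J
  haveI : Module.Finite S J := Module.Finite.trans R J
  haveI : Module.Finite S J' :=
    Module.Finite.equiv ((Submodule.restrictScalarsEquiv S R R J).restrictScalars S).symm
  let Nm : ℕ → Submodule S R := fun m => Submodule.map (Algebra.linearMap S R) (a m)
  have hNm_mem : ∀ m (y : R), y ∈ Nm m ↔ ∃ x ∈ a m, algebraMap S R x = y := by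
    intro m y
    simp only [Nm, Submodule.mem_map, Algebra.linearMap_apply]
  have hNm_mono : ∀ m n, m ≤ n → Nm m ≤ Nm n := fun m n h => Submodule.map_mono (a.monotone h)
  have hbJ : ∀ n, N₁ ≤ n → (a n).map (algebraMap S R) = J := fun n hn => (hN₁ n hn).symm
  have hNmJ : ∀ n, N₁ ≤ n → Nm n ≤ J' := by
    intro n hn y hy
    obtain ⟨x, hx, rfl⟩ := (hNm_mem n y).mp hy
    show algebraMap S R x ∈ J
    rw [← hbJ n hn]
    exact Ideal.mem_map_of_mem _ hx
  let cJ : Submodule S J' := c • ⊤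
  have hkill : ∀ s ∈ c, ∀ y : J' ⧸ cJ, s • y = 0 := by
    intro s hs y
    induction y using Submodule.Quotient.induction_on with
    | H j =>
      rw [← Submodule.Quotient.mk_smul, Submodule.Quotient.mk_eq_zero]
      exact Submodule.smul_mem_smul hs Submodule.mem_top
  haveI : IsNoetherian S (J' ⧸ cJ) := isNoetherian_of_killed c _ hkill
  let L : ℕ →o Submodule S (J' ⧸ cJ) :=
    ⟨fun m => ((Nm m).comap J'.subtype).map cJ.mkQ,
      fun m n h => Submodule.map_mono (Submodule.comap_mono (hNm_mono m n h))⟩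
  obtain ⟨N₂, hN₂⟩ := monotone_stabilizes_iff_noetherian.mpr
    (inferInstance : IsNoetherian S (J' ⧸ cJ)) L
  refine ⟨max N₁ N₂, fun n hn => ?_⟩
  have hn1 : N₁ ≤ n := le_trans (le_max_left _ _) hn
  have hn2 : N₂ ≤ n := le_trans (le_max_right _ _) hn
  have hcJ_le : cJ ≤ (Nm (max N₁ N₂)).comap J'.subtype := by
    refine Submodule.smul_le.mpr (fun s hs j _ => ?_)
    have hjJ : (j : R) ∈ (a (max N₁ N₂)).map (algebraMap S R) := by
      rw [hbJ _ (le_max_left _ _)]
      exact j.2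
    obtain ⟨x, hx, e⟩ := key _ _ hjJ s hs
    rw [Submodule.mem_comap, hNm_mem]
    refine ⟨x, hx, ?_⟩
    rw [e]
    simp [Algebra.smul_def]
  refine le_antisymm (fun x hx => ?_) (a.monotone hn)
  have hxN : algebraMap S R x ∈ Nm n := (hNm_mem n _).mpr ⟨x, hx, rfl⟩
  have hxJ : algebraMap S R x ∈ J' := hNmJ n hn1 hxN
  have hLeq : L n = L (max N₁ N₂) := by
    rw [← hN₂ n hn2, ← hN₂ (max N₁ N₂) (le_max_right _ _)]
  have h1 : cJ.mkQ ⟨algebraMap S R x, hxJ⟩ ∈ L n :=
    Submodule.mem_map_of_mem (Submodule.mem_comap.mpr hxN)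
  rw [hLeq] at h1
  obtain ⟨y, hy, hyx⟩ := Submodule.mem_map.mp h1
  have h2 : (⟨algebraMap S R x, hxJ⟩ : J') - y ∈ cJ :=
    (Submodule.Quotient.eq cJ).mp hyx.symm
  have h3 := hcJ_le h2
  rw [Submodule.mem_comap] at h3 hy
  have h4 : algebraMap S R x ∈ Nm (max N₁ N₂) := by
    have := add_mem h3 hy
    simpa using this
  obtain ⟨x', hx', e⟩ := (hNm_mem _ _).mp h4
  rw [← hinj e]
  exact hx'

/-! ## S16418 -/

section Dieudonne

variable {p : ℕ} [Fact p.Prime] {k : Type u} [Field k] [CharP k p] [PerfectRing k p]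
  {M : Type v} [AddCommGroup M] [Module (WittVector p k) M]

theorem iter_smul_zero (F : M →+ M)
    (hF : ∀ (a : WittVector p k) (m : M), F (a • m) = WittVector.frobenius a • F m) :
    ∀ (n : ℕ) (a : WittVector p k) (x : M), (⇑F)^[n] x = 0 → (⇑F)^[n] (a • x) = 0 := by
  intro n
  induction n with
  | zero =>
    intro a x hx
    simp only [Function.iterate_zero, id_eq] at hx ⊢
    rw [hx, smul_zero]
  | succ n ih =>
    intro a x hx
    rw [Function.iterate_succ_apply] at hx ⊢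
    rw [hF]
    exact ih _ _ hx

theorem iter_zero_of_le (F : M →+ M) {n m : ℕ} (h : n ≤ m) {x : M} (hx : (⇑F)^[n] x = 0) :
    (⇑F)^[m] x = 0 := by
  obtain ⟨d, rfl⟩ := Nat.exists_eq_add_of_le h
  rw [add_comm n d, Function.iterate_add_apply, hx, iterate_map_zero]

/-- kernel of `F^c` as a submodule. -/
def Kc (F : M →+ M)
    (hF : ∀ (a : WittVector p k) (m : M), F (a • m) = WittVector.frobenius a • F m) (c : ℕ) :
    Submodule (WittVector p k) M where
  carrier := {x | (⇑F)^[c] x = 0}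
  add_mem' := by
    intro x y hx hy
    simp only [Set.mem_setOf_eq] at hx hy ⊢
    rw [iterate_map_add, hx, hy, add_zero]
  zero_mem' := iterate_map_zero F c
  smul_mem' := fun a x hx => iter_smul_zero F hF c a x hx

/-- the `F`-nilpotent part as a submodule. -/
def M2 (F : M →+ M)
    (hF : ∀ (a : WittVector p k) (m : M), F (a • m) = WittVector.frobenius a • F m) :
    Submodule (WittVector p k) M where
  carrier := {x | ∃ n, (⇑F)^[n] x = 0}
  add_mem' := by
    rintro x y ⟨n, hn⟩ ⟨m, hm⟩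
    refine ⟨n + m, ?_⟩
    rw [iterate_map_add, iter_zero_of_le F (Nat.le_add_right n m) hn,
      iter_zero_of_le F (Nat.le_add_left m n) hm, add_zero]
  zero_mem' := ⟨0, rfl⟩
  smul_mem' := fun a x ⟨n, hn⟩ => ⟨n, iter_smul_zero F hF n a x hn⟩

/-- the image of `V` as a submodule. -/
def VM (V : M →+ M)
    (hV : ∀ (a : WittVector p k) (m : M), V (WittVector.frobenius a • m) = a • V m) :
    Submodule (WittVector p k) M where
  carrier := Set.range V
  add_mem' := by
    rintro _ _ ⟨x, rfl⟩ ⟨y, rfl⟩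
    exact ⟨x + y, map_add V x y⟩
  zero_mem' := ⟨0, map_zero V⟩
  smul_mem' := by
    rintro a _ ⟨x, rfl⟩
    exact ⟨WittVector.frobenius a • x, hV a x⟩

theorem dieudonne_step
    (F V : M →+ M)
    (hF : ∀ (a : WittVector p k) (m : M), F (a • m) = WittVector.frobenius a • F m)
    (hV : ∀ (a : WittVector p k) (m : M), V (WittVector.frobenius a • m) = a • V m)
    (hFV : ∀ m : M, F (V m) = (p : WittVector p k) • m)
    (hVF : ∀ m : M, V (F m) = (p : WittVector p k) • m)
    (hVinj : Function.Injective V)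
    (hsep : ∀ x : M, (∀ n : ℕ, ∃ y : M, x = (⇑V)^[n] y) → x = 0)
    (hfin : Module.Finite (WittVector p k) (M ⧸ Submodule.span (WittVector p k) (Set.range V))) :
    (∃ c : ℕ, ∀ x : M, (∃ n : ℕ, (⇑F)^[n] x = 0) → (⇑F)^[c] x = 0) ∧
    (∀ x : M, (∀ n : ℕ, ∃ (m : ℕ) (y : M), (⇑V)^[m] x = (⇑F)^[n] y) → F x = 0 → x = 0) := by
  classical
  have hcomm : Function.Commute (⇑F) (⇑V) := fun m => by rw [hFV, hVF]
  have hspan : Submodule.span (WittVector p k) (Set.range V) = VM V hV :=
    Submodule.span_eq (VM V hV)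
  rw [hspan] at hfin
  haveI : IsNoetherian (WittVector p k) (M ⧸ VM V hV) :=
    isNoetherian_of_isNoetherianRing_of_finite _ _
  have claim1 : ∃ c : ℕ, ∀ x : M, (∃ n : ℕ, (⇑F)^[n] x = 0) → (⇑F)^[c] x = 0 := by
    have hNfg : ((M2 F hF).map (VM V hV).mkQ).FG := IsNoetherian.noetherian _
    obtain ⟨r, s, hs⟩ := Submodule.fg_iff_exists_fin_generating_family.mp hNfg
    have hs_mem : ∀ i, ∃ y ∈ M2 F hF, (VM V hV).mkQ y = s i := fun i =>
      Submodule.mem_map.mp (hs ▸ Submodule.subset_span ⟨i, rfl⟩)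
    choose x hxM hxs using hs_mem
    have hxM' : ∀ i, ∃ n, (⇑F)^[n] (x i) = 0 := fun i => hxM i
    choose cs hcs using hxM'
    let c : ℕ := Finset.univ.sup cs
    have hxK : ∀ i, x i ∈ Kc F hF c := fun i =>
      iter_zero_of_le F (Finset.le_sup (f := cs) (Finset.mem_univ i)) (hcs i)
    have hK_le : Kc F hF c ≤ M2 F hF := fun z hz => ⟨c, hz⟩
    have hN_le : (M2 F hF).map (VM V hV).mkQ ≤ (Kc F hF c).map (VM V hV).mkQ := by
      rw [← hs]
      refine Submodule.span_le.mpr ?_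
      rintro _ ⟨i, rfl⟩
      exact Submodule.mem_map.mpr ⟨x i, hxK i, hxs i⟩
    have claimB : ∀ z ∈ M2 F hF, ∃ κ ∈ Kc F hF c, ∃ y ∈ M2 F hF, z = κ + V y := by
      intro z hz
      obtain ⟨κ, hκ, hκz⟩ := Submodule.mem_map.mp (hN_le (Submodule.mem_map_of_mem hz))
      have h1 : z - κ ∈ VM V hV := (Submodule.Quotient.eq (VM V hV)).mp hκz.symm
      obtain ⟨y, hy⟩ := h1
      refine ⟨κ, hκ, y, ?_, ?_⟩
      · have h2 : z - κ ∈ M2 F hF := (M2 F hF).sub_mem hz (hK_le hκ)
        obtain ⟨n, hn⟩ := h2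
        refine ⟨n, hVinj ?_⟩
        have e : (⇑F)^[n] (V y) = V ((⇑F)^[n] y) := Function.Semiconj.eq (hcomm.iterate_left n) y
        rw [map_zero, ← e, hy]
        exact hn
      · rw [hy]; abel
    have claimC : ∀ T : ℕ, ∀ z ∈ M2 F hF, ∃ κ ∈ Kc F hF c, ∃ y ∈ M2 F hF,
        z = κ + (⇑V)^[T] y := by
      intro T
      induction T with
      | zero =>
        intro z hz
        exact ⟨0, zero_mem _, z, hz, by simp⟩
      | succ T ih =>
        intro z hz
        obtain ⟨κ, hκ, y, hy, hzy⟩ := ih z hz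
        obtain ⟨κ', hκ', y', hy', hyy'⟩ := claimB y hy
        refine ⟨κ + (⇑V)^[T] κ', (Kc F hF c).add_mem hκ ?_, y', hy', ?_⟩
        · show (⇑F)^[c] ((⇑V)^[T] κ') = 0
          have hκ'' : (⇑F)^[c] κ' = 0 := hκ'
          rw [Function.Semiconj.eq (hcomm.iterate_iterate c T) κ', hκ'', iterate_map_zero]
        · rw [hzy, hyy', iterate_map_add, Function.iterate_succ_apply, add_assoc]
    refine ⟨c, fun z hz => hsep _ (fun T => ?_)⟩
    obtain ⟨κ, hκ, y, hy, hzy⟩ := claimC T z hz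
    refine ⟨(⇑F)^[c] y, ?_⟩
    have hκ' : (⇑F)^[c] κ = 0 := hκ
    rw [hzy, iterate_map_add, hκ', zero_add,
      Function.Semiconj.eq (hcomm.iterate_iterate c T) y]
  obtain ⟨c, hc⟩ := claim1
  refine ⟨⟨c, hc⟩, fun x hx hFx => ?_⟩
  obtain ⟨m, y, hmy⟩ := hx c
  have h1 : (⇑F)^[c + 1] y = 0 := by
    rw [Function.iterate_succ_apply', ← hmy, Function.Semiconj.eq (hcomm.iterate_right m) x, hFx,
      iterate_map_zero]
  have h2 : (⇑F)^[c] y = 0 := hc y ⟨c + 1, h1⟩
  rw [h2] at hmy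
  exact (hVinj.iterate m) (by rw [hmy, iterate_map_zero])

end Dieudonne

/-! ## S15546 -/

open Polynomial in
theorem insep_nilpotent (k E K : Type u) [Field k] [Field E]
    [Algebra k E] [FiniteDimensional k E] [Field K] [Algebra k K] [IsAlgClosure k K]
    (h : ¬ Algebra.IsSeparable k E) : ∃ x : E ⊗[k] K, x ≠ 0 ∧ IsNilpotent x := by
  classical
  haveI : IsAlgClosed K := IsAlgClosure.isAlgClosed k
  rw [Algebra.isSeparable_def] at h
  push Not at h
  obtain ⟨α, hα⟩ := h
  have hint : IsIntegral k α := Algebra.IsIntegral.isIntegral α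
  set f := minpoly k α with hf
  have hirr : Irreducible f := minpoly.irreducible hint
  have hder : derivative f = 0 := by
    by_contra hne
    exact hα ((Polynomial.separable_iff_derivative_ne_zero hirr).mpr hne)
  have hf0 : f ≠ 0 := minpoly.ne_zero hint
  set fK : K[X] := f.map (algebraMap k K) with hfK
  have hfK0 : fK ≠ 0 := Polynomial.map_ne_zero hf0
  have hdegf : f.degree ≠ 0 := (minpoly.degree_pos hint).ne'
  have hdegfK : fK.degree ≠ 0 := by rw [hfK, Polynomial.degree_map]; exact hdegf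
  obtain ⟨β, hβ⟩ := IsAlgClosed.exists_root fK hdegfK
  have hderK : derivative fK = 0 := by rw [hfK, Polynomial.derivative_map, hder, Polynomial.map_zero]
  have hmult : 1 < fK.rootMultiplicity β := by
    rw [Polynomial.one_lt_rootMultiplicity_iff_isRoot hfK0]
    exact ⟨hβ, by rw [hderK]; exact Polynomial.IsRoot.def.mpr (by simp)⟩
  have hdvd : (X - C β) ^ 2 ∣ fK := (Polynomial.le_rootMultiplicity_iff hfK0).mp hmult
  obtain ⟨hh, hhe⟩ := hdvd
  set g : K[X] := (X - C β) * hh with hg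
  have hfKg : fK = (X - C β) * g := by rw [hhe, hg]; ring
  have hg0 : g ≠ 0 := by
    rintro h0
    rw [h0, mul_zero] at hfKg
    exact hfK0 hfKg
  have hdeg : g.natDegree < f.natDegree := by
    have h1 : fK.natDegree = f.natDegree := Polynomial.natDegree_map _
    have h2 : fK.natDegree = (X - C β).natDegree + g.natDegree := by
      rw [hfKg]
      exact Polynomial.natDegree_mul (Polynomial.X_sub_C_ne_zero β) hg0
    rw [Polynomial.natDegree_X_sub_C] at h2
    omega
  -- work in K ⊗ E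
  set y : K ⊗[k] E := (1 : K) ⊗ₜ[k] α with hy
  have hLI : LinearIndependent K (fun i : Fin f.natDegree => (1 : K) ⊗ₜ[k] (α ^ (i : ℕ))) :=
    Module.Flat.linearIndependent_one_tmul (S := K) (linearIndependent_pow (K := k) α)
  have hypow : ∀ i : ℕ, y ^ i = (1 : K) ⊗ₜ[k] (α ^ i) := by
    intro i
    rw [hy, Algebra.TensorProduct.tmul_pow, one_pow]
  have hx0 : aeval y g ≠ 0 := by
    intro h0
    rw [Polynomial.aeval_eq_sum_range' hdeg, Finset.sum_range] at h0
    have h1 : ∑ i : Fin f.natDegree, g.coeff (i : ℕ) • ((1 : K) ⊗ₜ[k] (α ^ (i : ℕ))) = 0 := by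
      rw [← h0]
      refine Finset.sum_congr rfl (fun i _ => ?_)
      rw [hypow]
    have h2 := Fintype.linearIndependent_iff.mp hLI (fun i => g.coeff (i : ℕ)) h1
    apply hg0
    ext n
    rw [Polynomial.coeff_zero]
    by_cases hn : n < f.natDegree
    · exact h2 ⟨n, hn⟩
    · exact Polynomial.coeff_eq_zero_of_natDegree_lt (by omega)
  have hfy : aeval y fK = 0 := by
    rw [hfK, Polynomial.aeval_map_algebraMap]
    have : y = (Algebra.TensorProduct.includeRight : E →ₐ[k] K ⊗[k] E) α := rfl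
    rw [this, Polynomial.aeval_algHom_apply, hf, minpoly.aeval, map_zero]
  have hnil : (aeval y g) ^ 2 = 0 := by
    have : g ^ 2 = fK * hh := by rw [hhe, hg]; ring
    rw [← map_pow, this, map_mul, hfy, zero_mul]
  refine ⟨(Algebra.TensorProduct.comm k K E) (aeval y g), ?_, ?_⟩
  · intro h0
    exact hx0 ((Algebra.TensorProduct.comm k K E).injective (by rw [h0, map_zero]))
  · exact ⟨2, by rw [← map_pow, hnil, map_zero]⟩

end Groth.Agent.CAlgMisc7H1
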