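import Mathlib
import Groth.Agent.Lib.CAlgMisc8_helper1

/-!
# Misc commutative algebra, part 9 (helper1)

* `fp_descends`        — S4726
* `free_of_const_rank` — S16597
* `completion_smul`    — S14677
-/

open TensorProduct

universe u v

namespace Groth.Agent.CAlgMisc9H1

/-! ## S4726 -/

theorem fp_descends_aux (A : Type u) [CommRing A] (M : Type u) [AddCommGroup M] [Module A M]
    [Module.FinitePresentation A M] {ι : Type u} (G : ι → Type u) [∀ i, CommRing (G i)]
    (φ : ∀ i, G i →+* A)
    (hfin : ∀ s : Finset A, ∃ i, ∀ a ∈ s, ∃ x : G i, φ i x = a) :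
    ∃ (i : ι) (Mi : Type u) (_ : AddCommGroup Mi) (_ : Module (G i) Mi),
      Module.FinitePresentation (G i) Mi ∧
      letI : Algebra (G i) A := (φ i).toAlgebra
      Nonempty (M ≃ₗ[A] A ⊗[G i] Mi) := by
  classical
  obtain ⟨n, m, p, g, hp, hgp⟩ := Module.FinitePresentation.exists_fin' A M
  obtain ⟨i₀, hi₀⟩ := hfin (Finset.univ.image (fun tj : Fin m × Fin n => g (Pi.single tj.1 1) tj.2))
  have hex : ∀ (t : Fin m) (j : Fin n), ∃ x : G i₀, φ i₀ x = g (Pi.single t 1) j := fun t j =>
    hi₀ _ (Finset.mem_image.mpr ⟨(t, j), Finset.mem_univ _, rfl⟩)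
  choose W hW using hex
  letI alg : Algebra (G i₀) A := (φ i₀).toAlgebra
  letI : Module (G i₀) M := Module.compHom M (φ i₀)
  haveI : IsScalarTower (G i₀) A M := IsScalarTower.of_algebraMap_smul (fun r x => rfl)
  let g₀ : (Fin m → G i₀) →ₗ[G i₀] (Fin n → G i₀) := Fintype.linearCombination (G i₀) W
  refine ⟨i₀, (Fin n → G i₀) ⧸ LinearMap.range g₀, inferInstance, inferInstance, ?_, ?_⟩
  · refine Module.finitePresentation_of_surjective (LinearMap.range g₀).mkQ
      (Submodule.mkQ_surjective _) ?_
    rw [Submodule.ker_mkQ, LinearMap.range_eq_map]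
    exact Module.Finite.fg_top.map g₀
  · let h₁ : (Fin m → G i₀) →ₗ[G i₀] (Fin m → A) := (Algebra.linearMap (G i₀) A).compLeft (Fin m)
    let h₂ : (Fin n → G i₀) →ₗ[G i₀] (Fin n → A) := (Algebra.linearMap (G i₀) A).compLeft (Fin n)
    have isb₁ : IsBaseChange A h₁ := (IsBaseChange.linearMap (G i₀) A).finitePow (Fin m)
    have isb₂ : IsBaseChange A h₂ := (IsBaseChange.linearMap (G i₀) A).finitePow (Fin n)
    have halg : ∀ x : G i₀, algebraMap (G i₀) A x = φ i₀ x := fun x => rfl
    have comm₁ : h₂ ∘ₗ g₀ = (g.restrictScalars (G i₀)) ∘ₗ h₁ := by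
      refine LinearMap.ext (fun c => funext (fun j => ?_))
      have hdec : h₁ c = ∑ t, (h₁ c) t • (Pi.single t (1 : A) : Fin m → A) := by
        ext t'
        simp [Finset.sum_apply, Pi.single_apply]
      have hR : g (h₁ c) j = ∑ t, φ i₀ (c t) * φ i₀ (W t j) := by
        conv_lhs => rw [hdec]
        simp only [map_sum, map_smul, Finset.sum_apply, Pi.smul_apply, smul_eq_mul, hW]
        rfl
      have hL : h₂ (g₀ c) j = ∑ t, φ i₀ (c t) * φ i₀ (W t j) := by
        show algebraMap (G i₀) A (g₀ c j) = _
        rw [halg]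
        simp only [g₀, Fintype.linearCombination_apply, Finset.sum_apply, Pi.smul_apply,
          smul_eq_mul, map_sum, map_mul]
      show h₂ (g₀ c) j = g (h₁ c) j
      rw [hL, hR]
    have hker : LinearMap.range g₀ ≤ LinearMap.ker ((p.restrictScalars (G i₀)) ∘ₗ h₂) := by
      rintro _ ⟨c, rfl⟩
      rw [LinearMap.mem_ker]
      have h1 : h₂ (g₀ c) = g (h₁ c) := LinearMap.congr_fun comm₁ c
      show p (h₂ (g₀ c)) = 0
      rw [h1]
      exact hgp.apply_apply_eq_zero _
    let h₃ : ((Fin n → G i₀) ⧸ LinearMap.range g₀) →ₗ[G i₀] M :=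
      (LinearMap.range g₀).liftQ ((p.restrictScalars (G i₀)) ∘ₗ h₂) hker
    have comm₂ : h₃ ∘ₗ (LinearMap.range g₀).mkQ = (p.restrictScalars (G i₀)) ∘ₗ h₂ :=
      Submodule.liftQ_mkQ _ _ _
    have isb₃ : IsBaseChange A h₃ :=
      IsBaseChange.of_right_exact A h₁ h₂ h₃ comm₁ comm₂ isb₁ isb₂
        (LinearMap.exact_map_mkQ_range g₀) (Submodule.mkQ_surjective _) hgp hp
    exact ⟨isb₃.equiv.symm⟩

theorem fp_descends (ι : Type u) [Preorder ι] [Nonempty ι] [IsDirectedOrder ι]
    (G : ι → Type u) [∀ i, CommRing (G i)] (f : ∀ i j, i ≤ j → G i →+* G j)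
    [DirectedSystem G (fun i j h ↦ f i j h)] (M : Type u) [AddCommGroup M]
    [Module (Ring.DirectLimit G (fun i j h ↦ f i j h)) M]
    [Module.FinitePresentation (Ring.DirectLimit G (fun i j h ↦ f i j h)) M] :
    ∃ (i : ι) (Mi : Type u) (_ : AddCommGroup Mi) (_ : Module (G i) Mi), Module.FinitePresentation (G i) Mi ∧
      letI : Algebra (G i) (Ring.DirectLimit G (fun i j h ↦ f i j h)) :=
        (Ring.DirectLimit.of G (fun i j h ↦ f i j h) i).toAlgebra
      Nonempty (M ≃ₗ[Ring.DirectLimit G (fun i j h ↦ f i j h)] (Ring.DirectLimit G (fun i j h ↦ f i j h)) ⊗[G i] Mi) := by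
  classical
  refine fp_descends_aux (Ring.DirectLimit G (fun i j h ↦ f i j h)) M G
    (fun i => Ring.DirectLimit.of G (fun i j h ↦ f i j h) i) ?_
  intro s
  choose idx xs hxs using fun a : Ring.DirectLimit G (fun i j h ↦ f i j h) =>
    Ring.DirectLimit.exists_of (G := G) (f := fun i j h ↦ f i j h) a
  obtain ⟨i₀, hi₀⟩ := Finset.exists_le (s.image idx)
  refine ⟨i₀, fun a ha => ?_⟩
  have hle : idx a ≤ i₀ := hi₀ _ (Finset.mem_image_of_mem _ ha)
  refine ⟨f (idx a) i₀ hle (xs a), ?_⟩
  rw [Ring.DirectLimit.of_f]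
  exact hxs a

/-! ## S16597 -/

theorem free_of_const_rank {R : Type u} [CommRing R] (hR : LGRing.IsLGRing R) (d : ℕ) :
    ∀ (M : Type v) [AddCommGroup M] [Module R M] [Module.Finite R M] [Module.Projective R M],
    (∀ p : PrimeSpectrum R, Module.rankAtStalk M p = d) → Module.Free R M := by
  induction d with
  | zero =>
    intro M _ _ _ _ hd
    have h0 : Module.rankAtStalk (R := R) M = 0 := funext hd
    haveI : Subsingleton M := Module.rankAtStalk_eq_zero_iff_subsingleton.mp h0
    infer_instance
  | succ d ih =>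
    intro M _ _ _ _ hd
    haveI : FaithfulSMul R M := by
      refine ⟨fun {r₁ r₂} h => ?_⟩
      rw [← sub_eq_zero]
      apply eq_zero_of_localization
      intro J hJ
      have hrank : Module.finrank (Localization.AtPrime J) (LocalizedModule J.primeCompl M) = d + 1 :=
        hd ⟨J, hJ.isPrime⟩
      haveI : Module.Free (Localization.AtPrime J) (LocalizedModule J.primeCompl M) :=
        Module.free_of_flat_of_isLocalRing
      haveI : Nontrivial (LocalizedModule J.primeCompl M) :=
        Module.nontrivial_of_finrank_pos (R := Localization.AtPrime J) (by omega)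
      apply FaithfulSMul.eq_of_smul_eq_smul (α := LocalizedModule J.primeCompl M)
      intro z
      rw [zero_smul]
      induction z using LocalizedModule.induction_on with
      | h m s =>
        rw [algebraMap_smul, LocalizedModule.smul'_mk, sub_smul, h m, sub_self,
          LocalizedModule.zero_mk]
    obtain ⟨m, φ, hφ⟩ := CAlgMisc8H1.lg_unimodular hR M
    have hsec : φ ∘ₗ LinearMap.toSpanSingleton R M m = LinearMap.id := by
      ext
      simp [hφ]
    have hexact : Function.Exact (LinearMap.ker φ).subtype φ := LinearMap.exact_subtype_ker_map φ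
    let e : M ≃ₗ[R] (LinearMap.ker φ) × R :=
      (hexact.splitSurjectiveEquiv (Submodule.injective_subtype _) ⟨_, hsec⟩).1
    haveI : Module.Projective R ((LinearMap.ker φ) × R) := Module.Projective.of_equiv e
    haveI : Module.Projective R (LinearMap.ker φ) :=
      Module.Projective.of_split (LinearMap.inl R (LinearMap.ker φ) R)
        (LinearMap.fst R (LinearMap.ker φ) R) (by ext; simp)
    haveI : Module.Finite R (LinearMap.ker φ) :=
      Module.Finite.of_surjective ((LinearMap.fst R (LinearMap.ker φ) R) ∘ₗ e.toLinearMap)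
        (by
          intro k
          exact ⟨e.symm (k, 0), by simp⟩)
    have hK : ∀ p : PrimeSpectrum R, Module.rankAtStalk (LinearMap.ker φ) p = d := by
      intro p
      haveI : Nontrivial R := by
        by_contra hn
        rw [not_nontrivial_iff_subsingleton] at hn
        exact p.2.ne_top (Subsingleton.elim _ _)
      have h1 := Module.rankAtStalk_eq_of_equiv e
      rw [Module.rankAtStalk_prod, Module.rankAtStalk_self] at h1
      have h2 := congrFun h1 p
      rw [hd p] at h2
      simp only [Pi.add_apply, Pi.one_apply] at h2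
      omega
    haveI : Module.Free R (LinearMap.ker φ) := ih (LinearMap.ker φ) hK
    exact Module.Free.of_equiv e.symm

/-! ## S14677 -/

section Completion

variable {A : Type u} [CommRing A] (I : Ideal A) {M N : Type u} [AddCommGroup M] [Module A M]
  [AddCommGroup N] [Module A N]

theorem map_smul_left (a : A) (f : M →ₗ[A] N) (x : AdicCompletion I M) :
    AdicCompletion.map I (a • f) x = a • AdicCompletion.map I f x := by
  induction x using AdicCompletion.induction_on with
  | h s =>
    rw [AdicCompletion.map_mk, AdicCompletion.map_mk, ← map_smul]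
    congr 1

theorem map_add_left (f g : M →ₗ[A] N) (x : AdicCompletion I M) :
    AdicCompletion.map I (f + g) x = AdicCompletion.map I f x + AdicCompletion.map I g x := by
  induction x using AdicCompletion.induction_on with
  | h s =>
    rw [AdicCompletion.map_mk, AdicCompletion.map_mk, AdicCompletion.map_mk, ← map_add]
    congr 1

theorem map_sum_left {κ : Type*} (t : Finset κ) (f : κ → (M →ₗ[A] N)) (x : AdicCompletion I M) :
    AdicCompletion.map I (∑ k ∈ t, f k) x = ∑ k ∈ t, AdicCompletion.map I (f k) x := by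
  classical
  induction t using Finset.induction_on with
  | empty => simp
  | insert a t ha ih => rw [Finset.sum_insert ha, Finset.sum_insert ha, map_add_left, ih]

end Completion

theorem completion_smul (A : Type u) [CommRing A] [IsNoetherianRing A] (I J : Ideal A)
    (M : Type u) [AddCommGroup M] [Module A M] [Module.Finite A M] :
    Function.Injective (AdicCompletion.map I (J • (⊤ : Submodule A M)).subtype) ∧
      LinearMap.range (AdicCompletion.map I (J • (⊤ : Submodule A M)).subtype) =
        (J.map (algebraMap A (AdicCompletion I A))) • (⊤ : Submodule (AdicCompletion I A) (AdicCompletion I M)) := by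
  classical
  refine ⟨AdicCompletion.map_injective I (Submodule.injective_subtype _), ?_⟩
  obtain ⟨r, j, hj⟩ := Submodule.fg_iff_exists_fin_generating_family.mp
    (IsNoetherian.noetherian J : J.FG)
  have hjJ : ∀ k, j k ∈ J := fun k => hj ▸ Submodule.subset_span ⟨k, rfl⟩
  apply le_antisymm
  · -- range ≤ J^e • ⊤
    let σ : (Fin r → M) →ₗ[A] M := ∑ k, j k • (LinearMap.proj k : (Fin r → M) →ₗ[A] M)
    have hσ : ∀ z, σ z = ∑ k, j k • z k := by
      intro z
      simp [σ, LinearMap.sum_apply]
    have hσmem : ∀ z, σ z ∈ (J • (⊤ : Submodule A M)) := by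
      intro z
      rw [hσ]
      exact Submodule.sum_mem _ (fun k _ => Submodule.smul_mem_smul (hjJ k) Submodule.mem_top)
    let σ' : (Fin r → M) →ₗ[A] ↥(J • (⊤ : Submodule A M)) := σ.codRestrict _ hσmem
    have hσ'surj : Function.Surjective σ' := by
      rintro ⟨y, hy⟩
      have : ∃ z : Fin r → M, ∑ k, j k • z k = y := by
        refine Submodule.smul_induction_on hy ?_ ?_
        · intro a ha w _
          rw [← hj] at ha
          obtain ⟨c, hc⟩ := (Submodule.mem_span_range_iff_exists_fun A).mp ha
          refine ⟨fun k => c k • w, ?_⟩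
          rw [← hc, Finset.sum_smul]
          refine Finset.sum_congr rfl (fun k _ => ?_)
          rw [smul_smul, smul_eq_mul, mul_comm]
        · rintro y₁ y₂ ⟨z₁, h₁⟩ ⟨z₂, h₂⟩
          refine ⟨z₁ + z₂, ?_⟩
          rw [← h₁, ← h₂, ← Finset.sum_add_distrib]
          refine Finset.sum_congr rfl (fun k _ => ?_)
          rw [Pi.add_apply, smul_add]
      obtain ⟨z, hz⟩ := this
      refine ⟨z, Subtype.ext ?_⟩
      show σ z = y
      rw [hσ, hz]
    rintro _ ⟨y, rfl⟩
    obtain ⟨z, rfl⟩ := AdicCompletion.map_surjective I hσ'surj y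
    rw [AdicCompletion.map_comp_apply]
    have hcomp : (J • (⊤ : Submodule A M)).subtype ∘ₗ σ' = σ := LinearMap.ext (fun _ => rfl)
    rw [hcomp]
    show AdicCompletion.map I (∑ k, j k • (LinearMap.proj k : (Fin r → M) →ₗ[A] M)) z ∈ _
    rw [map_sum_left]
    refine Submodule.sum_mem _ (fun k _ => ?_)
    rw [map_smul_left, ← algebraMap_smul (AdicCompletion I A) (j k)]
    exact Submodule.smul_mem_smul (Ideal.mem_map_of_mem _ (hjJ k)) Submodule.mem_top
  · -- J^e • ⊤ ≤ range
    have key : ∀ a ∈ Submodule.span (AdicCompletion I A)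
        (algebraMap A (AdicCompletion I A) '' (J : Set A)), ∀ w : AdicCompletion I M,
        a • w ∈ LinearMap.range (AdicCompletion.map I (J • (⊤ : Submodule A M)).subtype) := by
      intro a ha
      induction ha using Submodule.span_induction with
      | mem a ha =>
        intro w
        obtain ⟨jj, hjj, rfl⟩ := ha
        let μ : M →ₗ[A] ↥(J • (⊤ : Submodule A M)) :=
          (jj • (LinearMap.id : M →ₗ[A] M)).codRestrict _ (fun x => by
            simpa using Submodule.smul_mem_smul hjj (Submodule.mem_top : x ∈ (⊤ : Submodule A M)))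
        refine ⟨AdicCompletion.map I μ w, ?_⟩
        rw [AdicCompletion.map_comp_apply]
        have hcomp : (J • (⊤ : Submodule A M)).subtype ∘ₗ μ = jj • (LinearMap.id : M →ₗ[A] M) :=
          LinearMap.ext (fun _ => rfl)
        rw [hcomp, map_smul_left, AdicCompletion.map_id, LinearMap.id_apply, algebraMap_smul]
      | zero => intro w; rw [zero_smul]; exact zero_mem _
      | add a b _ _ iha ihb => intro w; rw [add_smul]; exact add_mem (iha w) (ihb w)
      | smul c a _ iha =>
        intro w
        rw [smul_eq_mul, mul_smul]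
        exact Submodule.smul_mem _ c (iha w)
    exact Submodule.smul_le.mpr (fun a ha w _ => key a ha w)

end Groth.Agent.CAlgMisc9H1
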