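import Mathlib

set_option autoImplicit false
set_option maxHeartbeats 1000000

/-! Cayley–Bacharach sets with few points lie on a line (helper1). -/

namespace Groth.Agent.Lib.CBLineH1

universe u
open Module MvPolynomial

variable {k : Type u} [Field k]

/-- linear form as a polynomial -/
noncomputable def lin (φ : (Fin 4 → k) →ₗ[k] k) : MvPolynomial (Fin 4) k :=
  ∑ i, C (φ (Pi.single i 1)) * X i

lemma lin_hom (φ : (Fin 4 → k) →ₗ[k] k) : (lin φ).IsHomogeneous 1 :=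
  IsHomogeneous.sum _ _ _ (fun i _ => isHomogeneous_C_mul_X _ _)

lemma lin_eval (φ : (Fin 4 → k) →ₗ[k] k) (v : Fin 4 → k) : eval v (lin φ) = φ v := by
  rw [lin, map_sum, LinearMap.pi_apply_eq_sum_univ φ v]
  refine Finset.sum_congr rfl (fun i _ => ?_)
  rw [map_mul, eval_C, eval_X, smul_eq_mul, mul_comm]
  congr 2
  funext j
  by_cases h : i = j
  · subst h; simp
  · simp [h, Ne.symm h]

lemma sep (W : Submodule k (Fin 4 → k)) {x : Fin 4 → k} (hx : x ∉ W) :
    ∃ φ : (Fin 4 → k) →ₗ[k] k, φ x ≠ 0 ∧ ∀ w ∈ W, φ w = 0 := by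
  obtain ⟨f, hf1, hf2⟩ := Submodule.exists_dual_map_eq_bot_of_notMem hx
    (Module.Projective.of_free)
  refine ⟨f, hf1, fun w hw => ?_⟩
  have : f w ∈ W.map f := Submodule.mem_map_of_mem hw
  rw [hf2] at this
  exact (Submodule.mem_bot k).mp this

lemma sub_le_iff (z : Projectivization k (Fin 4 → k)) (W : Submodule k (Fin 4 → k)) :
    z.submodule ≤ W ↔ z.rep ∈ W := by
  rw [Projectivization.submodule_eq, Submodule.span_singleton_le_iff_mem]

/-- Cayley–Bacharach property in degree `n`. -/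
def CB (Z : Finset (Projectivization k (Fin 4 → k))) (n : ℕ) : Prop :=
  ∀ z ∈ Z, ∀ p : MvPolynomial (Fin 4) k, p.IsHomogeneous n →
      (∀ z' ∈ Z, z' ≠ z → MvPolynomial.eval z'.rep p = 0) → MvPolynomial.eval z.rep p = 0

lemma CB_restrict {Z Z' : Finset (Projectivization k (Fin 4 → k))} {n : ℕ} (h : CB Z (n+1))
    (φ : (Fin 4 → k) →ₗ[k] k) (hZ' : ∀ z, z ∈ Z' ↔ z ∈ Z ∧ φ z.rep ≠ 0) : CB Z' n := by
  intro z hz p hp hvan
  obtain ⟨hzZ, hφz⟩ := (hZ' z).mp hz
  have h1 := h z hzZ (p * lin φ) (hp.mul (lin_hom φ)) (fun z' hz' hne => by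
    rw [map_mul, lin_eval]
    by_cases h0 : φ z'.rep = 0
    · rw [h0, mul_zero]
    · rw [hvan z' ((hZ' z').mpr ⟨hz', h0⟩) hne, zero_mul])
  rw [map_mul, lin_eval] at h1
  exact (mul_eq_zero.mp h1).resolve_right hφz

lemma lower {Z : Finset (Projectivization k (Fin 4 → k))} {n : ℕ} (h : CB Z n)
    (hZ : Z.Nonempty) : n + 2 ≤ Z.card := by
  classical
  by_contra hlt
  push Not at hlt
  obtain ⟨z, hz⟩ := hZ
  have hsep : ∀ z' : Projectivization k (Fin 4 → k), ∃ φ : (Fin 4 → k) →ₗ[k] k,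
      z' ≠ z → (φ z'.rep = 0 ∧ φ z.rep ≠ 0) := by
    intro z'
    by_cases hne : z' = z
    · exact ⟨0, fun h => absurd hne h⟩
    · have hx : z.rep ∉ z'.submodule := by
        intro hmem
        apply hne
        have hle : z.submodule ≤ z'.submodule := (sub_le_iff z _).mpr hmem
        have := Submodule.eq_of_le_of_finrank_eq hle
          (by rw [z.finrank_submodule, z'.finrank_submodule])
        exact (Projectivization.submodule_injective this).symm
      obtain ⟨φ, h1, h2⟩ := sep _ hx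
      exact ⟨φ, fun _ => ⟨h2 _ ((sub_le_iff z' _).mp le_rfl), h1⟩⟩
  choose φ hφ using hsep
  obtain ⟨φ₀, hφ₀, -⟩ := sep (⊥ : Submodule k (Fin 4 → k)) (x := z.rep) (by
    rw [Submodule.mem_bot]; exact z.rep_nonzero)
  have hcard : (Z.erase z).card ≤ n := by
    rw [Finset.card_erase_of_mem hz]; omega
  obtain ⟨p, hpdef⟩ : ∃ p : MvPolynomial (Fin 4) k,
      p = (∏ z' ∈ Z.erase z, lin (φ z')) * (lin φ₀) ^ (n - (Z.erase z).card) := ⟨_, rfl⟩
  have hp : p.IsHomogeneous n := by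
    have h1 := (IsHomogeneous.prod (Z.erase z) (fun z' => lin (φ z')) (fun _ => 1)
      (fun z' _ => lin_hom _)).mul ((lin_hom φ₀).pow (n - (Z.erase z).card))
    have h2 : (∑ _z' ∈ Z.erase z, 1) + 1 * (n - (Z.erase z).card) = n := by
      rw [Finset.sum_const, smul_eq_mul, mul_one, one_mul]; omega
    rw [h2] at h1
    rw [hpdef]
    exact h1
  have hvan : ∀ z' ∈ Z, z' ≠ z → eval z'.rep p = 0 := by
    intro z' hz' hne
    rw [hpdef, map_mul, map_prod]
    rw [Finset.prod_eq_zero (Finset.mem_erase.mpr ⟨hne, hz'⟩)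
      (by rw [lin_eval]; exact (hφ z' hne).1), zero_mul]
  have h0 := h z hz p hp hvan
  rw [hpdef, map_mul, map_prod, map_pow, lin_eval] at h0
  rcases mul_eq_zero.mp h0 with h1 | h1
  · rw [Finset.prod_eq_zero_iff] at h1
    obtain ⟨z', hz', h2⟩ := h1
    rw [lin_eval] at h2
    exact (hφ z' (Finset.ne_of_mem_erase hz')).2 h2
  · exact pow_ne_zero _ hφ₀ h1

lemma collinear : ∀ (n : ℕ) (Z : Finset (Projectivization k (Fin 4 → k))), Z.Nonempty →
    CB Z n → Z.card ≤ 2 * n + 1 →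
    ∃ W : Submodule k (Fin 4 → k), finrank k ↥W = 2 ∧ ∀ z ∈ Z, z.submodule ≤ W := by
  classical
  intro n
  induction n with
  | zero =>
    intro Z hZ h hc
    have := lower h hZ
    omega
  | succ n ih =>
    intro Z hZ h hc
    have hlow := lower h hZ
    obtain ⟨z1, hz1, z2, hz2, h12⟩ := Finset.one_lt_card.mp (by omega : 1 < Z.card)
    have hli : LinearIndependent k ![z1.rep, z2.rep] :=
      Projectivization.linearIndependent_pair_iff_ne.mpr h12
    obtain ⟨W0, hW0⟩ : ∃ W0 : Submodule k (Fin 4 → k),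
        W0 = Submodule.span k (Set.range ![z1.rep, z2.rep]) := ⟨_, rfl⟩
    have hW0rank : finrank k ↥W0 = 2 := by
      rw [hW0, finrank_span_eq_card hli, Fintype.card_fin]
    have hz1W : z1.rep ∈ W0 := by rw [hW0]; exact Submodule.subset_span ⟨0, rfl⟩
    have hz2W : z2.rep ∈ W0 := by rw [hW0]; exact Submodule.subset_span ⟨1, rfl⟩
    by_cases hcol : ∀ z ∈ Z, z.submodule ≤ W0
    · exact ⟨W0, hW0rank, hcol⟩
    push Not at hcol
    obtain ⟨z3, hz3, hz3W⟩ := hcol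
    rw [sub_le_iff] at hz3W
    obtain ⟨φ, hφ3, hφW⟩ := sep W0 hz3W
    obtain ⟨Z', hZ'⟩ : ∃ Z' : Finset (Projectivization k (Fin 4 → k)),
        ∀ z, z ∈ Z' ↔ z ∈ Z ∧ φ z.rep ≠ 0 :=
      ⟨Z.filter (fun z => φ z.rep ≠ 0), fun z => Finset.mem_filter⟩
    have hCB' : CB Z' n := CB_restrict h φ hZ'
    have hne' : Z'.Nonempty := ⟨z3, (hZ' z3).mpr ⟨hz3, hφ3⟩⟩
    have hsub : Z' ⊆ (Z.erase z1).erase z2 := by
      intro z hz
      obtain ⟨hzZ, hzφ⟩ := (hZ' z).mp hz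
      rw [Finset.mem_erase, Finset.mem_erase]
      refine ⟨?_, ?_, hzZ⟩
      · intro he; rw [he] at hzφ; exact hzφ (hφW _ hz2W)
      · intro he; rw [he] at hzφ; exact hzφ (hφW _ hz1W)
    have hcard' : Z'.card + 2 ≤ Z.card := by
      have h1 := Finset.card_le_card hsub
      rw [Finset.card_erase_of_mem (Finset.mem_erase.mpr ⟨h12.symm, hz2⟩),
        Finset.card_erase_of_mem hz1] at h1
      omega
    obtain ⟨W1, hW1rank, hW1⟩ := ih Z' hne' hCB' (by omega)
    have hlow' := lower hCB' hne'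
    by_cases hcol1 : ∀ z ∈ Z, z.submodule ≤ W1
    · exact ⟨W1, hW1rank, hcol1⟩
    push Not at hcol1
    obtain ⟨z0, hz0, hz0W⟩ := hcol1
    rw [sub_le_iff] at hz0W
    obtain ⟨ψ, hψ0, hψW⟩ := sep W1 hz0W
    obtain ⟨Z'', hZ''⟩ : ∃ Z'' : Finset (Projectivization k (Fin 4 → k)),
        ∀ z, z ∈ Z'' ↔ z ∈ Z ∧ ψ z.rep ≠ 0 :=
      ⟨Z.filter (fun z => ψ z.rep ≠ 0), fun z => Finset.mem_filter⟩
    have hCB'' : CB Z'' n := CB_restrict h ψ hZ''
    have hne'' : Z''.Nonempty := ⟨z0, (hZ'' z0).mpr ⟨hz0, hψ0⟩⟩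
    have hlow'' := lower hCB'' hne''
    have hdisj : Disjoint Z' Z'' := by
      rw [Finset.disjoint_left]
      intro z hz hz''
      exact ((hZ'' z).mp hz'').2 (hψW _ ((sub_le_iff z W1).mp (hW1 z hz)))
    have hunion : (Z' ∪ Z'').card ≤ Z.card :=
      Finset.card_le_card (Finset.union_subset (fun z hz => ((hZ' z).mp hz).1)
        (fun z hz => ((hZ'' z).mp hz).1))
    rw [Finset.card_union_of_disjoint hdisj] at hunion
    omega

theorem main (k : Type u) [Field k]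
    (Z : Finset (Projectivization k (Fin 4 → k))) (hZ : Z.Nonempty) (n : ℕ) (hn : 1 ≤ n)
    (hCB : (∀ z ∈ Z, ∀ p : MvPolynomial (Fin 4) k, p.IsHomogeneous n →
      (∀ z' ∈ Z, z' ≠ z → MvPolynomial.eval z'.rep p = 0) → MvPolynomial.eval z.rep p = 0)) :
    n + 2 ≤ Z.card ∧
      (Z.card ≤ 2 * n + 1 → ∃ W : Submodule k (Fin 4 → k), Module.finrank k ↥W = 2 ∧
        ∀ z ∈ Z, z.submodule ≤ W) :=
  ⟨lower hCB hZ, fun h => collinear n Z hZ hCB h⟩

end Groth.Agent.Lib.CBLineH1
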