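import Mathlib

set_option autoImplicit false
set_option maxHeartbeats 1000000

open Module

namespace Groth.Agent.Lib.CBPointsH1

universe u

theorem exists_avoid {k E : Type*} [Field k] [Infinite k] [AddCommGroup E] [Module k E]
    {ι : Type*} [Fintype ι] (f : ι → (E →ₗ[k] k)) (h : ∀ i, ∃ x : E, f i x ≠ 0) :
    ∃ x : E, ∀ i, f i x ≠ 0 := by
  classical
  have hcov : ⋃ p ∈ (Finset.univ.image fun i => LinearMap.ker (f i)), (p : Set E) ≠ Set.univ := by
    apply Subspace.biUnion_ne_univ_of_top_notMem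
    intro hmem
    rw [Finset.mem_image] at hmem
    obtain ⟨i, _, hi⟩ := hmem
    obtain ⟨x, hx⟩ := h i
    have : x ∈ LinearMap.ker (f i) := by rw [hi]; trivial
    exact hx (LinearMap.mem_ker.mp this)
  obtain ⟨x, hx⟩ : ∃ x : E, x ∉ ⋃ p ∈ (Finset.univ.image fun i => LinearMap.ker (f i)),
      (p : Set E) := by
    by_contra hcon
    push Not at hcon
    exact hcov (Set.eq_univ_of_forall hcon)
  refine ⟨x, fun i h0 => hx ?_⟩
  rw [Set.mem_iUnion₂]
  exact ⟨LinearMap.ker (f i), Finset.mem_image_of_mem _ (Finset.mem_univ i),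
    LinearMap.mem_ker.mpr h0⟩

section abstract

variable {k : Type u} [Field k] [Infinite k] {ι : Type*} [Fintype ι] [DecidableEq ι]

/-- Abstract Cayley–Bacharach dimension bound. -/
theorem finrank_add_le (Wn Wa Wb : Submodule k (ι → k))
    (hmul : ∀ u ∈ Wa, ∀ v ∈ Wb, u * v ∈ Wn)
    (hCB : ∀ i : ι, ∀ w ∈ Wn, (∀ j, j ≠ i → w j = 0) → w i = 0) :
    finrank k Wa + finrank k Wb ≤ Fintype.card ι := by
  classical
  -- Step 1
  have step1 : ∀ i : ι, ∃ φ : Dual k (ι → k), φ ∈ Wn.dualAnnihilator ∧ φ (Pi.single i 1) ≠ 0 := by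
    intro i
    have hnot : (Pi.single i (1 : k) : ι → k) ∉ Wn := by
      intro hmem
      have := hCB i _ hmem (fun j hj => Pi.single_eq_of_ne hj 1)
      rw [Pi.single_eq_same] at this
      exact one_ne_zero this
    obtain ⟨f, hf1, hf2⟩ := Submodule.exists_dual_map_eq_bot_of_notMem hnot
      (Module.Projective.of_free)
    refine ⟨f, ?_, hf1⟩
    rw [Submodule.mem_dualAnnihilator]
    intro w hw
    have : f w ∈ Wn.map f := Submodule.mem_map_of_mem hw
    rw [hf2] at this
    exact (Submodule.mem_bot k).mp this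
  -- Step 2
  obtain ⟨ψ, hψi'⟩ := exists_avoid (k := k) (E := ↥Wn.dualAnnihilator)
    (fun i => (Module.Dual.eval k (ι → k) (Pi.single i 1)) ∘ₗ Wn.dualAnnihilator.subtype) (by
      intro i
      obtain ⟨φ, hφA, hφi⟩ := step1 i
      exact ⟨⟨φ, hφA⟩, hφi⟩)
  have hψi : ∀ i, (ψ : Dual k (ι → k)) (Pi.single i 1) ≠ 0 := fun i => hψi' i
  have hψA : ∀ w ∈ Wn, (ψ : Dual k (ι → k)) w = 0 := by
    intro w hw
    exact (Submodule.mem_dualAnnihilator _).mp ψ.2 w hw
  -- Step 4
  let Φ : (ι → k) →ₗ[k] Dual k (ι → k) :=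
    (LinearMap.mul k (ι → k)).compr₂ (ψ : Dual k (ι → k))
  have hΦ : ∀ u v, Φ u v = (ψ : Dual k (ι → k)) (u * v) := fun u v => rfl
  have hΦinj : Function.Injective Φ := by
    rw [injective_iff_map_eq_zero]
    intro u hu
    funext i
    have h1 : Φ u (Pi.single i 1) = 0 := by rw [hu]; rfl
    rw [hΦ] at h1
    have h2 : u * (Pi.single i (1 : k) : ι → k) = u i • (Pi.single i (1 : k) : ι → k) := by
      funext j
      by_cases hj : j = i
      · subst hj; simp
      · simp [Pi.single_eq_of_ne hj]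
    rw [h2, map_smul, smul_eq_mul] at h1
    exact (mul_eq_zero.mp h1).resolve_right (hψi i)
  have hle : Wa.map Φ ≤ Wb.dualAnnihilator := by
    rintro _ ⟨u, hu, rfl⟩
    rw [Submodule.mem_dualAnnihilator]
    intro v hv
    rw [hΦ]
    exact hψA _ (hmul u hu v hv)
  have e1 : finrank k Wa = finrank k (Wa.map Φ) :=
    (Submodule.equivMapOfInjective Φ hΦinj Wa).finrank_eq
  have e2 := Subspace.finrank_add_finrank_dualAnnihilator_eq Wb
  have e3 : finrank k (Wa.map Φ) ≤ finrank k Wb.dualAnnihilator := Submodule.finrank_mono hle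
  have e4 : finrank k (ι → k) = Fintype.card ι := Module.finrank_fintype_fun_eq_card k
  omega

end abstract

open MvPolynomial in
theorem main (k : Type u) [Field k] [IsAlgClosed k] [CharZero k]
    (Z : Finset (Projectivization k (Fin 4 → k))) (n : ℕ)
    (hCB : (∀ z ∈ Z, ∀ p : MvPolynomial (Fin 4) k, p.IsHomogeneous n →
      (∀ z' ∈ Z, z' ≠ z → MvPolynomial.eval z'.rep p = 0) → MvPolynomial.eval z.rep p = 0))
    (m : ℕ) (hm : m ≤ n) :
    (∃ s : MvPolynomial (Fin 4) k, s.IsHomogeneous (n - m) ∧ s ≠ 0 ∧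
        ∀ z ∈ Z, MvPolynomial.eval z.rep s = 0) ∨
      Module.finrank k (LinearMap.range
          ((LinearMap.pi fun z : ↥Z => (MvPolynomial.aeval (R := k) z.1.rep).toLinearMap) ∘ₗ
            (MvPolynomial.homogeneousSubmodule (Fin 4) k m).subtype)) +
        Module.finrank k ↥(MvPolynomial.homogeneousSubmodule (Fin 4) k (n - m)) ≤ Z.card := by
  classical
  let E : ∀ e : ℕ, ↥(MvPolynomial.homogeneousSubmodule (Fin 4) k e) →ₗ[k] (↥Z → k) := fun e =>
    (LinearMap.pi fun z : ↥Z => (MvPolynomial.aeval (R := k) z.1.rep).toLinearMap) ∘ₗ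
      (MvPolynomial.homogeneousSubmodule (Fin 4) k e).subtype
  have hE : ∀ (e : ℕ) (p : ↥(MvPolynomial.homogeneousSubmodule (Fin 4) k e)) (z : ↥Z),
      E e p z = MvPolynomial.eval z.1.rep (p : MvPolynomial (Fin 4) k) := fun e p z => rfl
  by_cases hinj : Function.Injective (E (n - m))
  · right
    have h1 : finrank k (LinearMap.range (E (n - m))) =
        finrank k ↥(MvPolynomial.homogeneousSubmodule (Fin 4) k (n - m)) :=
      LinearMap.finrank_range_of_inj hinj
    have h2 := finrank_add_le (k := k) (ι := ↥Z) (LinearMap.range (E n)) (LinearMap.range (E m))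
      (LinearMap.range (E (n - m))) ?_ ?_
    · rw [h1, Fintype.card_coe] at h2
      exact h2
    · rintro _ ⟨p, rfl⟩ _ ⟨q, rfl⟩
      have hpq : (p : MvPolynomial (Fin 4) k) * (q : MvPolynomial (Fin 4) k) ∈
          MvPolynomial.homogeneousSubmodule (Fin 4) k n := by
        rw [MvPolynomial.mem_homogeneousSubmodule]
        have := MvPolynomial.IsHomogeneous.mul
          ((MvPolynomial.mem_homogeneousSubmodule _ _).mp p.2)
          ((MvPolynomial.mem_homogeneousSubmodule _ _).mp q.2)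
        rwa [Nat.add_sub_cancel' hm] at this
      refine ⟨⟨_, hpq⟩, ?_⟩
      funext z
      rw [hE, Pi.mul_apply, hE, hE, map_mul]
    · rintro ⟨z, hz⟩ _ ⟨p, rfl⟩ hvan
      rw [hE]
      apply hCB z hz _ ((MvPolynomial.mem_homogeneousSubmodule _ _).mp p.2)
      intro z' hz' hne
      have := hvan ⟨z', hz'⟩ (fun h => hne (congrArg Subtype.val h))
      rw [hE] at this
      exact this
  · left
    rw [injective_iff_map_eq_zero] at hinj
    push Not at hinj
    obtain ⟨s, hs0, hsne⟩ := hinj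
    refine ⟨s, (MvPolynomial.mem_homogeneousSubmodule _ _).mp s.2, ?_, ?_⟩
    · intro h; exact hsne (Subtype.ext h)
    · intro z hz
      have := congrFun hs0 ⟨z, hz⟩
      rw [hE] at this
      exact this

end Groth.Agent.Lib.CBPointsH1
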