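import Mathlib

/-! Residue field of the image point of a field-valued point. -/

universe u

open AlgebraicGeometry CategoryTheory IsLocalRing

namespace Groth.Agent.CDecompH8

theorem surj_of_lift {K : Type u} [Field K] {P X' : Scheme.{u}} (s : P ⟶ X')
    (t : Spec (.of K) ⟶ P) (x' : X') (c : X'.residueField x' ⟶ .of K)
    (hc : Function.Surjective c.hom)
    (h : t ≫ s = Spec.map c ≫ X'.fromSpecResidueField x') :
    Function.Surjective (s.residueFieldMap (t (closedPoint K))).hom := by
  have key := Scheme.descResidueField_stalkClosedPointTo_comp (f := s) (K := K) t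
  have h1 : Scheme.SpecToEquivOfField K X' (t ≫ s) = ⟨x', c⟩ := by
    rw [h]
    exact (Scheme.SpecToEquivOfField K X').apply_symm_apply ⟨x', c⟩
  rw [Scheme.SpecToEquivOfField_eq_iff] at h1
  obtain ⟨e, he⟩ := h1
  have hsurj : Function.Surjective
      (Scheme.descResidueField (Scheme.stalkClosedPointTo (t ≫ s))).hom := by
    change Function.Surjective ((Scheme.SpecToEquivOfField K X' (t ≫ s)).2).hom
    rw [he]
    intro w
    obtain ⟨v, hv⟩ := hc w
    refine ⟨(X'.residueFieldCongr e).inv.hom v, ?_⟩
    rw [CommRingCat.hom_comp, RingHom.comp_apply]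
    have : (X'.residueFieldCongr e).hom.hom ((X'.residueFieldCongr e).inv.hom v) = v := by
      have h2 := congrArg (fun φ => φ.hom v) (X'.residueFieldCongr e).inv_hom_id
      exact h2
    rw [this, hv]
  intro w
  obtain ⟨v, hv⟩ := hsurj
    ((Scheme.descResidueField (Scheme.stalkClosedPointTo t)).hom w)
  refine ⟨v, ?_⟩
  have hinj : Function.Injective (Scheme.descResidueField (Scheme.stalkClosedPointTo t)).hom :=
    (Scheme.descResidueField (Scheme.stalkClosedPointTo t)).hom.injective
  apply hinj
  rw [← hv]
  have h3 := congrArg (fun φ => φ.hom v) key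
  simp only [CommRingCat.hom_comp, RingHom.comp_apply] at h3
  exact h3.symm

end Groth.Agent.CDecompH8
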