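import Mathlib
import Groth.Agent.Lib.Cart1_helper8

/-!
# Locally proportional effective Cartier divisors with connected support (S17732)
-/

set_option autoImplicit false
open AlgebraicGeometry CategoryTheory TopologicalSpace
open QcqsLoc
universe u
namespace Groth.Agent.Lib.CDivConn

/-- If `(g)^a = (g)^b` with `a < b` and `g` a non-zero-divisor then `g` is a unit. -/
theorem isUnit_of_span_pow_eq {B : Type*} [CommRing B] (g : B) (hg : g ∈ nonZeroDivisors B)
    {a b : ℕ} (hab : a < b) (h : Ideal.span {g} ^ a = Ideal.span {g} ^ b) : IsUnit g := by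
  rw [Ideal.span_singleton_pow, Ideal.span_singleton_pow] at h
  have h1 : g ^ a ∈ Ideal.span {g ^ b} := by
    rw [← h]; exact Ideal.mem_span_singleton_self _
  obtain ⟨c, hc⟩ := Ideal.mem_span_singleton'.mp h1
  obtain ⟨k, rfl⟩ : ∃ k, b = a + (k + 1) := ⟨b - a - 1, by omega⟩
  have h2 : g ^ a * (c * g ^ (k + 1) - 1) = 0 := by
    have e : g ^ a * (c * g ^ (k + 1) - 1) = c * g ^ (a + (k + 1)) - g ^ a := by ring
    rw [e, hc, sub_self]
  have h3 : c * g ^ (k + 1) - 1 = 0 :=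
    (mem_nonZeroDivisors_iff.mp (pow_mem hg a)).1 _ h2
  have h4 : g * (c * g ^ k) = 1 := by linear_combination h3
  exact IsUnit.of_mul_eq_one _ h4

/-- Transitivity of proportionality through a non-zero pivot. -/
theorem prop_trans {a b c d c₀ d₀ : ℕ} (hab : (a, b) ≠ (0, 0))
    (h1 : a * d₀ = c₀ * b) (h2 : a * d = c * b) : c * d₀ = c₀ * d := by
  by_cases ha : a = 0
  · have hb : b ≠ 0 := fun hb => hab (by rw [ha, hb])
    refine Nat.eq_of_mul_eq_mul_left (Nat.pos_of_ne_zero hb) ?_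
    calc b * (c * d₀) = (c * b) * d₀ := by ring
      _ = (a * d) * d₀ := by rw [h2]
      _ = d * (a * d₀) := by ring
      _ = d * (c₀ * b) := by rw [h1]
      _ = b * (c₀ * d) := by ring
  · refine Nat.eq_of_mul_eq_mul_left (Nat.pos_of_ne_zero ha) ?_
    calc a * (c * d₀) = c * (a * d₀) := by ring
      _ = c * (c₀ * b) := by rw [h1]
      _ = c₀ * (c * b) := by ring
      _ = c₀ * (a * d) := by rw [h2]
      _ = a * (c₀ * d) := by ring

/-- An ideal sheaf whose support misses an affine open is the unit ideal there. -/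
theorem ideal_eq_top_of_disjoint {X : Scheme.{u}} (I : X.IdealSheafData) (U : X.affineOpens)
    (h : (I.support : Set X) ∩ U.1 = ∅) : I.ideal U = ⊤ := by
  have h1 := U.2.fromSpec_image_zeroLocus (I.ideal U : Set Γ(X, U.1))
  rw [← I.coe_support_inter U, h, Set.image_eq_empty] at h1
  exact PrimeSpectrum.zeroLocus_empty_iff_eq_top.mp h1

/-- A point of an affine open on which the ideal is generated by a unit is not in the support. -/
theorem not_mem_support_of_isUnit {X : Scheme.{u}} (I : X.IdealSheafData) (W : X.affineOpens)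
    (z : X) (hz : z ∈ W.1) (g : Γ(X, W.1)) (hg : IsUnit g) (hI : I.ideal W = Ideal.span {g}) :
    z ∉ (I.support : Set X) := by
  intro hzs
  rw [SetLike.mem_coe, Scheme.IdealSheafData.mem_support_iff_of_mem (U := W) hz] at hzs
  have h1 := (X.mem_zeroLocus_iff _ _).mp hzs g (by
    rw [hI]; exact Ideal.mem_span_singleton_self g)
  rw [Scheme.basicOpen_of_isUnit _ hg] at h1
  exact h1 hz

/-- Two local relations `m D = n E`, `m' D = n' E` around a point of `Supp D ∪ Supp E` are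
proportional. -/
theorem prop_at_point {X : Scheme.{u}} (D E : X.IdealSheafData)
    (hD : BlowUp.IsEffCartierIdeal D) (hE : BlowUp.IsEffCartierIdeal E)
    (z : X) (hz : z ∈ (D.support : Set X) ∪ (E.support : Set X))
    (U U' : X.affineOpens) (hzU : z ∈ U.1) (hzU' : z ∈ U'.1) (m n m' n' : ℕ)
    (h : D.ideal U ^ m = E.ideal U ^ n) (h' : D.ideal U' ^ m' = E.ideal U' ^ n') :
    m * n' = m' * n := by
  obtain ⟨U₁, hz₁, g₀, hg₀, hDg⟩ := hD z
  obtain ⟨U₂, hz₂, h₀, hh₀, hEh⟩ := hE z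
  obtain ⟨_, ⟨W, hW : IsAffineOpen W, rfl⟩, hzW, hWU⟩ :=
    (X.isBasis_affineOpens).exists_subset_of_mem_open
      (show z ∈ ((U.1 ⊓ U'.1 ⊓ U₁.1 ⊓ U₂.1 : X.Opens) : Set X) from
        ⟨⟨⟨hzU, hzU'⟩, hz₁⟩, hz₂⟩) (U.1 ⊓ U'.1 ⊓ U₁.1 ⊓ U₂.1).2
  have hWU0 : W ≤ U.1 := fun y hy => (hWU hy).1.1.1
  have hWU0' : W ≤ U'.1 := fun y hy => (hWU hy).1.1.2
  have hWU1 : W ≤ U₁.1 := fun y hy => (hWU hy).1.2
  have hWU2 : W ≤ U₂.1 := fun y hy => (hWU hy).2
  obtain ⟨hg, hDW⟩ := CartH8.cartier_restrict D U₁ ⟨W, hW⟩ hWU1 g₀ hg₀ hDg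
  obtain ⟨hh, hEW⟩ := CartH8.cartier_restrict E U₂ ⟨W, hW⟩ hWU2 h₀ hh₀ hEh
  have hW1 : D.ideal ⟨W, hW⟩ ^ m = E.ideal ⟨W, hW⟩ ^ n := by
    rw [← D.map_ideal (U := ⟨W, hW⟩) (V := U) hWU0, ← E.map_ideal (U := ⟨W, hW⟩) (V := U) hWU0,
      ← Ideal.map_pow, ← Ideal.map_pow, h]
  have hW2 : D.ideal ⟨W, hW⟩ ^ m' = E.ideal ⟨W, hW⟩ ^ n' := by
    rw [← D.map_ideal (U := ⟨W, hW⟩) (V := U') hWU0', ← E.map_ideal (U := ⟨W, hW⟩) (V := U') hWU0',
      ← Ideal.map_pow, ← Ideal.map_pow, h']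
  by_contra hne
  have hgu : IsUnit (rX hWU1 g₀) := by
    have e : Ideal.span {rX hWU1 g₀} ^ (m * n') = Ideal.span {rX hWU1 g₀} ^ (m' * n) := by
      rw [← hDW, pow_mul, hW1, ← pow_mul, mul_comm n n', pow_mul, ← hW2, ← pow_mul]
    rcases lt_or_gt_of_ne hne with hlt | hlt
    · exact isUnit_of_span_pow_eq _ hg hlt e
    · exact isUnit_of_span_pow_eq _ hg hlt e.symm
  have hhu : IsUnit (rX hWU2 h₀) := by
    have e : Ideal.span {rX hWU2 h₀} ^ (n * m') = Ideal.span {rX hWU2 h₀} ^ (n' * m) := by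
      rw [← hEW, pow_mul, ← hW1, ← pow_mul, mul_comm m m', pow_mul, hW2, ← pow_mul]
    have hne' : n * m' ≠ n' * m := fun e' => hne (by
      rw [mul_comm m n', mul_comm m' n]; exact e'.symm)
    rcases lt_or_gt_of_ne hne' with hlt | hlt
    · exact isUnit_of_span_pow_eq _ hh hlt e
    · exact isUnit_of_span_pow_eq _ hh hlt e.symm
  rcases hz with hz | hz
  · exact not_mem_support_of_isUnit D ⟨W, hW⟩ z hzW _ hgu hDW hz
  · exact not_mem_support_of_isUnit E ⟨W, hW⟩ z hzW _ hhu hEW hz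

theorem main17732
    (X : Scheme.{u}) [IsNoetherian X] (D E : X.IdealSheafData)
    (hD : (∀ x : X, ∃ U : X.affineOpens, x ∈ (U : X.Opens) ∧ ∃ g : Γ(X, U),
      g ∈ nonZeroDivisors Γ(X, U) ∧ D.ideal U = Ideal.span {g}))
    (hE : (∀ x : X, ∃ U : X.affineOpens, x ∈ (U : X.Opens) ∧ ∃ g : Γ(X, U),
      g ∈ nonZeroDivisors Γ(X, U) ∧ E.ideal U = Ideal.span {g}))
    (hconn : IsPreconnected ((D.support : Set X) ∪ (E.support : Set X)))
    (hloc : ∀ x : X, ∃ U : X.affineOpens, x ∈ (U : X.Opens) ∧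
      ∃ m n : ℕ, (m, n) ≠ (0, 0) ∧ D.ideal U ^ m = E.ideal U ^ n) :
    ∃ m n : ℕ, (m, n) ≠ (0, 0) ∧ ∀ U : X.affineOpens, D.ideal U ^ m = E.ideal U ^ n := by
  classical
  have hD' : BlowUp.IsEffCartierIdeal D := hD
  have hE' : BlowUp.IsEffCartierIdeal E := hE
  choose U hxU m n hmn hrel using hloc
  obtain ⟨t, ht⟩ := isCompact_univ.elim_finite_subcover (fun x => ((U x).1 : Set X))
    (fun x => (U x).1.2) (fun x _ => Set.mem_iUnion.mpr ⟨x, hxU x⟩)
  by_cases hZe : (D.support : Set X) ∪ (E.support : Set X) = ∅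
  · have hDt : D = ⊤ := by
      rw [← Scheme.IdealSheafData.support_eq_bot_iff]
      apply SetLike.coe_injective
      rw [Closeds.coe_bot]
      exact Set.subset_empty_iff.mp (hZe ▸ Set.subset_union_left)
    have hEt : E = ⊤ := by
      rw [← Scheme.IdealSheafData.support_eq_bot_iff]
      apply SetLike.coe_injective
      rw [Closeds.coe_bot]
      exact Set.subset_empty_iff.mp (hZe ▸ Set.subset_union_right)
    refine ⟨1, 1, by simp, fun V => ?_⟩
    rw [hDt, hEt]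
  obtain ⟨z₀, hz₀⟩ := Set.nonempty_iff_ne_empty.mpr hZe
  -- every point of the support has a relation proportional to the one at `z₀`
  have key : ∀ x ∈ (D.support : Set X) ∪ (E.support : Set X), m x * n z₀ = m z₀ * n x := by
    by_contra hcon
    push_neg at hcon
    obtain ⟨x₁, hx₁Z, hx₁⟩ := hcon
    let u : Set X := ⋃ x ∈ {x | x ∈ (D.support : Set X) ∪ (E.support : Set X) ∧
      m x * n z₀ = m z₀ * n x}, ((U x).1 : Set X)
    let v : Set X := ⋃ x ∈ {x | x ∈ (D.support : Set X) ∪ (E.support : Set X) ∧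
      m x * n z₀ ≠ m z₀ * n x}, ((U x).1 : Set X)
    have hu : IsOpen u := isOpen_biUnion fun x _ => (U x).1.2
    have hv : IsOpen v := isOpen_biUnion fun x _ => (U x).1.2
    have hcov : (D.support : Set X) ∪ (E.support : Set X) ⊆ u ∪ v := fun x hx => by
      by_cases hxx : m x * n z₀ = m z₀ * n x
      · exact Or.inl (Set.mem_biUnion (show x ∈ {x | _ ∧ _} from ⟨hx, hxx⟩) (hxU x))
      · exact Or.inr (Set.mem_biUnion (show x ∈ {x | _ ∧ _} from ⟨hx, hxx⟩) (hxU x))
    have h1 : (((D.support : Set X) ∪ (E.support : Set X)) ∩ u).Nonempty :=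
      ⟨z₀, hz₀, Set.mem_biUnion (show z₀ ∈ {x | _ ∧ _} from ⟨hz₀, rfl⟩) (hxU z₀)⟩
    have h2 : (((D.support : Set X) ∪ (E.support : Set X)) ∩ v).Nonempty :=
      ⟨x₁, hx₁Z, Set.mem_biUnion (show x₁ ∈ {x | _ ∧ _} from ⟨hx₁Z, hx₁⟩) (hxU x₁)⟩
    obtain ⟨z, hzZ, hzu, hzv⟩ := hconn u v hu hv hcov h1 h2
    obtain ⟨x, ⟨hxZ, hxp⟩, hzx⟩ := Set.mem_iUnion₂.mp hzu
    obtain ⟨y, ⟨hyZ, hyp⟩, hzy⟩ := Set.mem_iUnion₂.mp hzv
    have hxy := prop_at_point D E hD' hE' z hzZ (U x) (U y) hzx hzy (m x) (n x) (m y) (n y)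
      (hrel x) (hrel y)
    exact hyp (prop_trans (hmn x) hxp hxy)
  have key2 : ∀ x : X, (((U x).1 : Set X) ∩ ((D.support : Set X) ∪ (E.support : Set X))).Nonempty →
      m x * n z₀ = m z₀ * n x := by
    rintro x ⟨z, hzx, hzZ⟩
    have h1 := prop_at_point D E hD' hE' z hzZ (U z) (U x) (hxU z) hzx (m z) (n z) (m x) (n x)
      (hrel z) (hrel x)
    exact prop_trans (hmn z) (key z hzZ) h1
  have hs : ∀ x ∈ t, m x + n x ≠ 0 := fun x _ h0 => hmn x (by
    have h1 : m x = 0 := by omega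
    have h2 : n x = 0 := by omega
    rw [h1, h2])
  set K : ℕ := ∏ x ∈ t, (m x + n x) with hK
  have hK0 : K ≠ 0 := Finset.prod_ne_zero_iff.mpr hs
  refine ⟨K * m z₀, K * n z₀, ?_, ?_⟩
  · intro h0
    have h1 : K * m z₀ = 0 := congrArg Prod.fst h0
    have h2 : K * n z₀ = 0 := congrArg Prod.snd h0
    have h3 : m z₀ = 0 := (Nat.mul_eq_zero.mp h1).resolve_left hK0
    have h4 : n z₀ = 0 := (Nat.mul_eq_zero.mp h2).resolve_left hK0
    exact hmn z₀ (by rw [h3, h4])
  · have hmain : D ^ (K * m z₀) = E ^ (K * n z₀) := by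
      refine Scheme.IdealSheafData.ext_of_iSup_eq_top (ι := {x // x ∈ t}) (fun i => U i.1) ?_ ?_
      · rw [eq_top_iff]
        intro y _
        obtain ⟨x, hx, hy⟩ := Set.mem_iUnion₂.mp (ht (Set.mem_univ y))
        exact TopologicalSpace.Opens.mem_iSup.mpr ⟨⟨x, hx⟩, hy⟩
      · rintro ⟨x, hx⟩
        show D.ideal (U x) ^ (K * m z₀) = E.ideal (U x) ^ (K * n z₀)
        by_cases hne : (((U x).1 : Set X) ∩
            ((D.support : Set X) ∪ (E.support : Set X))).Nonempty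
        · have hp := key2 x hne
          obtain ⟨q, hq⟩ : (m x + n x) ∣ K := Finset.dvd_prod_of_mem _ hx
          have e1 : K * m z₀ = m x * (q * (m z₀ + n z₀)) := by
            calc K * m z₀ = q * (m x * m z₀ + m z₀ * n x) := by rw [hq]; ring
              _ = q * (m x * m z₀ + m x * n z₀) := by rw [hp]
              _ = m x * (q * (m z₀ + n z₀)) := by ring
          have e2 : K * n z₀ = n x * (q * (m z₀ + n z₀)) := by
            calc K * n z₀ = q * (m x * n z₀ + n x * n z₀) := by rw [hq]; ring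
              _ = q * (m z₀ * n x + n x * n z₀) := by rw [hp]
              _ = n x * (q * (m z₀ + n z₀)) := by ring
          rw [e1, e2, pow_mul, hrel x, ← pow_mul]
        · rw [Set.not_nonempty_iff_eq_empty] at hne
          have hDd : (D.support : Set X) ∩ (U x).1 = ∅ := by
            apply Set.subset_empty_iff.mp
            rw [← hne]
            exact fun y hy => ⟨hy.2, Or.inl hy.1⟩
          have hEd : (E.support : Set X) ∩ (U x).1 = ∅ := by
            apply Set.subset_empty_iff.mp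
            rw [← hne]
            exact fun y hy => ⟨hy.2, Or.inr hy.1⟩
          rw [ideal_eq_top_of_disjoint D (U x) hDd, ideal_eq_top_of_disjoint E (U x) hEd,
            Ideal.top_pow, Ideal.top_pow]
    intro V
    exact congrArg (fun I : X.IdealSheafData => I.ideal V) hmain

end Groth.Agent.Lib.CDivConn
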