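import Mathlib
import Groth.Prelude.Def_CInt
import Groth.Agent.Lib.Cart1_helper8
import Groth.Agent.Lib.ComapId1_helper8
import Groth.Agent.Lib.CDivConn_helper2

/-!
# Effective Cartier divisors on a normal scheme with equal pullbacks under a proper surjection
(S17733)
-/

set_option autoImplicit false
open AlgebraicGeometry CategoryTheory TopologicalSpace IsLocalRing
open QcqsLoc
universe u
namespace Groth.Agent.Lib.CDivProper

/-- The classical argument: in a normal Noetherian local domain, if `𝔪 y ⊆ (e)` and `y ∉ (e)`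
then `𝔪` is principal. -/
theorem principal_max_of_colon {R : Type*} [CommRing R] [IsDomain R] [IsLocalRing R]
    [IsNoetherianRing R] [IsIntegrallyClosed R] (e y : R) (he : e ≠ 0)
    (hy : y ∉ Ideal.span {e}) (hym : ∀ m ∈ maximalIdeal R, y * m ∈ Ideal.span {e}) :
    (maximalIdeal R).IsPrincipal := by
  have hy0 : y ≠ 0 := fun h => hy (h ▸ zero_mem _)
  have he_nonunit : ¬ IsUnit e := fun hu => hy (by
    rw [Ideal.span_singleton_eq_top.mpr hu]; trivial)
  by_cases hA : ∃ m ∈ maximalIdeal R, ∃ u, IsUnit u ∧ y * m = e * u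
  · obtain ⟨m, hm, u, hu, hmu⟩ := hA
    obtain ⟨u', hu'⟩ := hu.exists_right_inv
    refine ⟨⟨m, le_antisymm ?_ ?_⟩⟩
    · intro n hn
      obtain ⟨r, hr⟩ := Ideal.mem_span_singleton'.mp (hym n hn)
      have h1 : y * (n - r * m * u') = 0 := by
        have e1 : e = y * m * u' := by
          calc e = e * (u * u') := by rw [hu', mul_one]
            _ = (e * u) * u' := by ring
            _ = y * m * u' := by rw [hmu]
        calc y * (n - r * m * u') = y * n - r * (y * m * u') := by ring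
          _ = y * n - r * e := by rw [← e1]
          _ = 0 := by rw [hr, sub_self]
      have h2 : n - r * m * u' = 0 := (mul_eq_zero.mp h1).resolve_left hy0
      have h3 : n = (r * u') * m := by
        have := sub_eq_zero.mp h2
        rw [this]; ring
      rw [h3]
      exact Submodule.smul_mem _ _ (Submodule.mem_span_singleton_self m)
    · rw [Submodule.span_le]
      intro x hx
      rw [Set.mem_singleton_iff.mp hx]
      exact hm
  · push_neg at hA
    exfalso
    apply hy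
    have heK : algebraMap R (FractionRing R) e ≠ 0 :=
      (map_ne_zero_iff _ (IsFractionRing.injective R (FractionRing R))).mpr he
    have hint : IsIntegral R
        (algebraMap R (FractionRing R) y / algebraMap R (FractionRing R) e) := by
      refine isIntegral_of_smul_mem_submodule (M := FractionRing R)
        (Submodule.map (Algebra.linearMap R (FractionRing R)) (maximalIdeal R)) ?_ ?_ _ ?_
      · rw [Submodule.ne_bot_iff]
        refine ⟨algebraMap R (FractionRing R) e, Submodule.mem_map.mpr ⟨e, ?_, rfl⟩, heK⟩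
        exact (mem_maximalIdeal e).mpr he_nonunit
      · exact (IsNoetherian.noetherian (maximalIdeal R)).map _
      · intro n hn
        obtain ⟨m, hm, rfl⟩ := Submodule.mem_map.mp hn
        obtain ⟨r, hr⟩ := Ideal.mem_span_singleton'.mp (hym m hm)
        have hrm : r ∈ maximalIdeal R := by
          by_contra hcon
          have hru : IsUnit r := notMem_maximalIdeal.mp hcon
          exact hA m hm r hru (by rw [← hr, mul_comm])
        refine Submodule.mem_map.mpr ⟨r, hrm, ?_⟩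
        show algebraMap R (FractionRing R) r =
          (algebraMap R (FractionRing R) y / algebraMap R (FractionRing R) e) •
            algebraMap R (FractionRing R) m
        rw [smul_eq_mul, div_mul_eq_mul_div, ← map_mul, ← hr, map_mul, mul_div_assoc,
          div_self heK, mul_one]
    obtain ⟨r₀, hr₀⟩ := (IsIntegrallyClosed.isIntegral_iff (R := R) (K := FractionRing R)).mp hint
    have h1 : algebraMap R (FractionRing R) y = algebraMap R (FractionRing R) (r₀ * e) := by
      rw [map_mul, hr₀, div_mul_cancel₀ _ heK]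
    have h2 := IsFractionRing.injective R (FractionRing R) h1
    rw [h2]
    exact Ideal.mul_mem_left _ _ (Ideal.mem_span_singleton_self e)

/-- At an associated prime of `A/(e)` at which `A` is normal and `d ∉ (e)`, `e = c d` with
`c` in the maximal ideal. -/
theorem exists_mul_of_colon {A : Type u} [CommRing A] [IsNoetherianRing A] (d e y : A)
    (he : e ∈ nonZeroDivisors A) (𝔭 : Ideal A) [h𝔭 : 𝔭.IsPrime]
    (h𝔭y : 𝔭 = Submodule.colon (Ideal.span {e}) {y})
    (hd𝔭 : Submodule.colon (Ideal.span {e}) {d} ≤ 𝔭)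
    (R : Type u) [CommRing R] [Algebra A R] [IsLocalization.AtPrime R 𝔭] [IsDomain R]
    [IsIntegrallyClosed R] [hloc : IsLocalRing R] :
    ∃ c ∈ maximalIdeal R, algebraMap A R e = c * algebraMap A R d := by
  haveI : IsNoetherianRing R := IsLocalization.isNoetherianRing 𝔭.primeCompl R inferInstance
  have hmem𝔪 : ∀ a : A, algebraMap A R a ∈ maximalIdeal R ↔ a ∈ 𝔭 := fun a =>
    IsLocalization.AtPrime.to_map_mem_maximal_iff R 𝔭 a hloc
  have hunitR : ∀ u : A, u ∉ 𝔭 → IsUnit (algebraMap A R u) := fun u hu =>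
    IsLocalization.map_units R (⟨u, hu⟩ : 𝔭.primeCompl)
  have hcolon : ∀ a : A, a ∈ 𝔭 ↔ a * y ∈ Ideal.span {e} := fun a => by
    rw [h𝔭y, Submodule.mem_colon_singleton, smul_eq_mul]
  have he₁nzd : algebraMap A R e ∈ nonZeroDivisors R :=
    IsLocalization.map_nonZeroDivisors_le 𝔭.primeCompl R (Submonoid.mem_map_of_mem _ he)
  have he₁ : algebraMap A R e ≠ 0 := nonZeroDivisors.ne_zero he₁nzd
  -- key transfer: divisibility by `e` in `R` comes from `A` up to a multiplier outside `𝔭`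
  have key : ∀ a : A, algebraMap A R a ∈ Ideal.span {algebraMap A R e} →
      ∃ t, t ∉ 𝔭 ∧ t * a ∈ Ideal.span {e} := by
    intro a ha
    obtain ⟨c, hc⟩ := Ideal.mem_span_singleton'.mp ha
    obtain ⟨⟨c₀, ⟨s, hs⟩⟩, hcs⟩ := IsLocalization.surj 𝔭.primeCompl c
    have hcs' : c * algebraMap A R s = algebraMap A R c₀ := hcs
    have e1 : algebraMap A R (s * a) = algebraMap A R (c₀ * e) := by
      rw [map_mul, map_mul, ← hc, ← hcs']; ring
    obtain ⟨⟨t, ht⟩, hte⟩ := (IsLocalization.eq_iff_exists 𝔭.primeCompl R).mp e1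
    have hte' : t * (s * a) = t * (c₀ * e) := hte
    refine ⟨t * s, 𝔭.primeCompl.mul_mem ht hs, ?_⟩
    rw [mul_assoc, hte']
    exact Ideal.mem_span_singleton'.mpr ⟨t * c₀, by ring⟩
  have hy₁ : algebraMap A R y ∉ Ideal.span {algebraMap A R e} := by
    intro hmem
    obtain ⟨t, ht, hty⟩ := key y hmem
    exact ht ((hcolon t).mpr hty)
  have hym : ∀ m ∈ maximalIdeal R, algebraMap A R y * m ∈ Ideal.span {algebraMap A R e} := by
    intro m hm
    obtain ⟨⟨m₀, ⟨s, hs⟩⟩, hms⟩ := IsLocalization.surj 𝔭.primeCompl m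
    have hms' : m * algebraMap A R s = algebraMap A R m₀ := hms
    have hm₀ : m₀ ∈ 𝔭 := by
      rw [← hmem𝔪, ← hms']
      exact Ideal.mul_mem_right _ _ hm
    obtain ⟨r, hr⟩ := Ideal.mem_span_singleton'.mp ((hcolon m₀).mp hm₀)
    have h1 : algebraMap A R s * (algebraMap A R y * m) ∈ Ideal.span {algebraMap A R e} := by
      have e1 : algebraMap A R s * (algebraMap A R y * m) = algebraMap A R (m₀ * y) := by
        rw [map_mul, ← hms']; ring
      rw [e1, ← hr, map_mul]
      exact Ideal.mul_mem_left _ _ (Ideal.mem_span_singleton_self _)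
    exact (Ideal.unit_mul_mem_iff_mem _ (hunitR s hs)).mp h1
  have hprinc := principal_max_of_colon (algebraMap A R e) (algebraMap A R y) he₁ hy₁ hym
  have he𝔭 : e ∈ 𝔭 := (hcolon e).mpr (Ideal.mul_mem_right _ _ (Ideal.mem_span_singleton_self e))
  have hnf : ¬ IsField R := by
    rw [isField_iff_maximalIdeal_eq]
    intro h0
    have : algebraMap A R e ∈ maximalIdeal R := (hmem𝔪 e).mpr he𝔭
    rw [h0, Ideal.mem_bot] at this
    exact he₁ this
  haveI : IsDiscreteValuationRing R := ((IsDiscreteValuationRing.TFAE R hnf).out 4 0).mp hprinc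
  have hd₁ : ¬ algebraMap A R e ∣ algebraMap A R d := by
    intro hdvd
    have hmem : algebraMap A R d ∈ Ideal.span {algebraMap A R e} :=
      Ideal.mem_span_singleton.mpr hdvd
    obtain ⟨t, ht, htd⟩ := key d hmem
    exact ht (hd𝔭 (by rw [Submodule.mem_colon_singleton, smul_eq_mul]; exact htd))
  rcases ValuationRing.dvd_total (algebraMap A R d) (algebraMap A R e) with ⟨c, hc⟩ | h'
  · refine ⟨c, ?_, by rw [hc, mul_comm]⟩
    by_contra hcm
    have hcu : IsUnit c := notMem_maximalIdeal.mp hcm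
    obtain ⟨c', hc'⟩ := hcu.exists_right_inv
    exact hd₁ ⟨c', by rw [hc, mul_assoc, hc', mul_one]⟩
  · exact absurd h' hd₁

/-- One inequality. -/
theorem le_of_comap_eq {S S' : Scheme.{u}} [IsLocallyNoetherian S]
    (hnorm : ∀ x : S, IsDomain (S.presheaf.stalk x) ∧ IsIntegrallyClosed (S.presheaf.stalk x))
    (f : S' ⟶ S) (hsurj : Function.Surjective f)
    (U : S.Opens) (hU' : CInt.IsSchematicallyDense (f ⁻¹ᵁ U))
    (D E : S.IdealSheafData)
    (hD : BlowUp.IsEffCartierIdeal D) (hE : BlowUp.IsEffCartierIdeal E)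
    (hDU : (D.support : Set S) ⊆ (U : Set S)ᶜ)
    (h : D.comap f = E.comap f) : D ≤ E := by
  let ι := {W : S.affineOpens //
    (∃ d : Γ(S, W.1), d ∈ nonZeroDivisors Γ(S, W.1) ∧ D.ideal W = Ideal.span {d}) ∧
    (∃ e : Γ(S, W.1), e ∈ nonZeroDivisors Γ(S, W.1) ∧ E.ideal W = Ideal.span {e})}
  refine Scheme.IdealSheafData.le_of_iSup_eq_top (ι := ι) (fun i => i.1) ?_ ?_
  · rw [eq_top_iff]
    intro x _
    obtain ⟨U₁, hx₁, d₀, hd₀, hDd₀⟩ := hD x
    obtain ⟨U₂, hx₂, e₀, he₀, hEe₀⟩ := hE x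
    obtain ⟨_, ⟨W, hW : IsAffineOpen W, rfl⟩, hxW, hWU⟩ :=
      (S.isBasis_affineOpens).exists_subset_of_mem_open
        (show x ∈ ((U₁.1 ⊓ U₂.1 : S.Opens) : Set S) from ⟨hx₁, hx₂⟩) (U₁.1 ⊓ U₂.1).2
    have h1 : W ≤ U₁.1 := fun y hy => (hWU hy).1
    have h2 : W ≤ U₂.1 := fun y hy => (hWU hy).2
    obtain ⟨hd', hDd'⟩ := CartH8.cartier_restrict D U₁ ⟨W, hW⟩ h1 d₀ hd₀ hDd₀
    obtain ⟨he', hEe'⟩ := CartH8.cartier_restrict E U₂ ⟨W, hW⟩ h2 e₀ he₀ hEe₀
    exact Opens.mem_iSup.mpr ⟨⟨⟨W, hW⟩, ⟨_, hd', hDd'⟩, ⟨_, he', hEe'⟩⟩, hxW⟩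
  · rintro ⟨W, ⟨d, hd, hDd⟩, ⟨e, he, hEe⟩⟩
    show D.ideal W ≤ E.ideal W
    rw [hDd, hEe, Ideal.span_singleton_le_iff_mem]
    by_contra hde
    haveI : IsNoetherianRing Γ(S, W.1) := IsLocallyNoetherian.component_noetherian W
    have h𝔞 : Submodule.colon (Ideal.span {e}) {d} ≠ ⊤ := by
      intro htop
      apply hde
      have h1 := (Ideal.eq_top_iff_one _).mp htop
      rw [Submodule.mem_colon_singleton, one_smul] at h1
      exact h1
    obtain ⟨⟨𝔭, h𝔭⟩⟩ := Ideal.nonempty_minimalPrimes h𝔞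
    obtain ⟨y, hy⟩ := Submodule.exists_eq_colon_of_mem_minimalPrimes h𝔭
    haveI h𝔭prime : 𝔭.IsPrime := h𝔭.1.1
    obtain ⟨ξ', hξ'⟩ := hsurj (W.2.fromSpec (⟨𝔭, h𝔭prime⟩ : PrimeSpectrum Γ(S, W.1)))
    have hξW : f ξ' ∈ W.1 := by
      rw [hξ']
      have : W.2.fromSpec (⟨𝔭, h𝔭prime⟩ : PrimeSpectrum Γ(S, W.1)) ∈ Set.range W.2.fromSpec :=
        Set.mem_range_self _
      rw [W.2.range_fromSpec] at this
      exact this
    have hP' : W.2.primeIdealOf ⟨f ξ', hξW⟩ = (⟨𝔭, h𝔭prime⟩ : PrimeSpectrum Γ(S, W.1)) :=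
      W.2.fromSpec.isOpenEmbedding.injective
        ((W.2.fromSpec_primeIdealOf ⟨f ξ', hξW⟩).trans hξ')
    have h𝔭' : (W.2.primeIdealOf ⟨f ξ', hξW⟩).asIdeal = 𝔭 := congrArg PrimeSpectrum.asIdeal hP'
    letI : Algebra Γ(S, W.1) (S.presheaf.stalk (f ξ')) :=
      S.presheaf.algebra_section_stalk (U := W.1) ⟨f ξ', hξW⟩
    haveI : IsLocalization.AtPrime (S.presheaf.stalk (f ξ')) 𝔭 :=
      h𝔭' ▸ W.2.isLocalization_stalk ⟨f ξ', hξW⟩
    obtain ⟨hdomx, hicx⟩ := hnorm (f ξ')
    obtain ⟨c, hc, hce⟩ := exists_mul_of_colon d e y he 𝔭 hy h𝔭.1.2 (S.presheaf.stalk (f ξ'))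
    -- an affine neighbourhood of `ξ'` inside `f⁻¹ W`
    obtain ⟨_, ⟨V', hV' : IsAffineOpen V', rfl⟩, hξ'V', hV'le⟩ :=
      S'.isBasis_affineOpens.exists_subset_of_mem_open
        (show ξ' ∈ ((f ⁻¹ᵁ W.1 : S'.Opens) : Set S') from hξW) (f ⁻¹ᵁ W.1).2
    have hV'le' : V' ≤ f ⁻¹ᵁ W.1 := hV'le
    have hDc := ComapIdH8.comap_ideal f D ⟨V', hV'⟩ W hV'le'
    have hEc := ComapIdH8.comap_ideal f E ⟨V', hV'⟩ W hV'le'
    rw [hDd, Ideal.map_span, Set.image_singleton] at hDc
    rw [hEe, Ideal.map_span, Set.image_singleton] at hEc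
    have hmem : (f.appLE W.1 V' hV'le').hom d ∈ Ideal.span {(f.appLE W.1 V' hV'le').hom e} := by
      rw [← hEc, ← h, hDc]; exact Ideal.mem_span_singleton_self _
    obtain ⟨w, hw⟩ := Ideal.mem_span_singleton'.mp hmem
    -- germs
    have hgerm : ∀ a : Γ(S, W.1), S'.presheaf.germ V' ξ' hξ'V' ((f.appLE W.1 V' hV'le').hom a) =
        f.stalkMap ξ' (algebraMap Γ(S, W.1) (S.presheaf.stalk (f ξ')) a) := by
      intro a
      have e1 : (f.appLE W.1 V' hV'le').hom a =
          (S'.presheaf.map (homOfLE hV'le').op).hom ((f.app W.1).hom a) := rfl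
      rw [e1]
      have e2 := S'.presheaf.germ_res_apply (homOfLE hV'le') ξ' hξ'V' ((f.app W.1).hom a)
      refine e2.trans ?_
      exact (Scheme.Hom.germ_stalkMap_apply f W.1 ξ' hξW a).symm
    have h1 : f.stalkMap ξ' (algebraMap Γ(S, W.1) (S.presheaf.stalk (f ξ')) d) *
        (1 - S'.presheaf.germ V' ξ' hξ'V' w * f.stalkMap ξ' c) = 0 := by
      have e1 := congrArg (S'.presheaf.germ V' ξ' hξ'V') hw
      rw [map_mul, hgerm, hgerm, hce, map_mul] at e1
      linear_combination -e1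
    have hψc : f.stalkMap ξ' c ∈ maximalIdeal (S'.presheaf.stalk ξ') := by
      rw [mem_maximalIdeal, mem_nonunits_iff]
      intro hu
      exact ((mem_maximalIdeal c).mp hc) (isUnit_of_map_unit (f.stalkMap ξ').hom c hu)
    have hunit : IsUnit (1 - S'.presheaf.germ V' ξ' hξ'V' w * f.stalkMap ξ' c) :=
      isUnit_one_sub_self_of_mem_nonunits _
        ((mem_maximalIdeal _).mp (Ideal.mul_mem_left _ _ hψc))
    have h0 : f.stalkMap ξ' (algebraMap Γ(S, W.1) (S.presheaf.stalk (f ξ')) d) = 0 :=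
      (hunit.mul_left_eq_zero).mp h1
    have hg0 : S'.presheaf.germ V' ξ' hξ'V' ((f.appLE W.1 V' hV'le').hom d) = 0 := by
      rw [hgerm]; exact h0
    obtain ⟨N, hξ'N, iU, iV, hres⟩ := S'.presheaf.germ_eq ξ' hξ'V' hξ'V'
      ((f.appLE W.1 V' hV'le').hom d) 0 (by rw [hg0, map_zero])
    have hNV : N ≤ V' := leOfHom iU
    have hres' : rX hNV ((f.appLE W.1 V' hV'le').hom d) = 0 := by
      have : rX hNV ((f.appLE W.1 V' hV'le').hom d) = (S'.presheaf.map iV.op).hom 0 := hres
      rw [this, map_zero]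
    -- the section is a unit on `N ⊓ f⁻¹ U`
    have hMle : N ⊓ f ⁻¹ᵁ U ≤ S'.basicOpen ((f.appLE W.1 V' hV'le').hom d) := by
      intro z hz
      have hzV : z ∈ V' := hNV hz.1
      have hfzW : f z ∈ W.1 := hV'le' hzV
      have hfzU : f z ∈ U := hz.2
      have hns : f z ∉ (D.support : Set S) := fun hs => hDU hs hfzU
      have hbo : f z ∈ S.basicOpen d := by
        by_contra hcon
        apply hns
        rw [SetLike.mem_coe, Scheme.IdealSheafData.mem_support_iff_of_mem (U := W) hfzW, hDd,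
          Scheme.zeroLocus_span, Scheme.mem_zeroLocus_iff]
        intro g hg
        rw [Set.mem_singleton_iff.mp hg]
        exact hcon
      have hpre : z ∈ f ⁻¹ᵁ S.basicOpen d := hbo
      rw [Scheme.preimage_basicOpen] at hpre
      have e1 : (f.appLE W.1 V' hV'le').hom d =
          (S'.presheaf.map (homOfLE hV'le').op).hom ((f.app W.1).hom d) := rfl
      rw [e1, Scheme.basicOpen_res]
      exact ⟨hzV, hpre⟩
    have hMV : N ⊓ f ⁻¹ᵁ U ≤ V' := inf_le_left.trans hNV
    have hunitM : IsUnit (rX hMV ((f.appLE W.1 V' hV'le').hom d)) := by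
      have hu : IsUnit (rX (S'.basicOpen_le ((f.appLE W.1 V' hV'le').hom d))
          ((f.appLE W.1 V' hV'le').hom d)) :=
        S'.toRingedSpace.isUnit_res_basicOpen _
      have := hu.map (rX hMle)
      rwa [rX_rX] at this
    have hzeroM : rX hMV ((f.appLE W.1 V' hV'le').hom d) = 0 := by
      have : rX hMV ((f.appLE W.1 V' hV'le').hom d) =
          rX (inf_le_left : N ⊓ f ⁻¹ᵁ U ≤ N) (rX hNV ((f.appLE W.1 V' hV'le').hom d)) := by
        rw [rX_rX]
      rw [this, hres', map_zero]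
    have h10 : (1 : Γ(S', N ⊓ f ⁻¹ᵁ U)) = 0 := by
      rw [hzeroM] at hunitM
      exact (isUnit_zero_iff.mp hunitM).symm
    have hN1 : (1 : Γ(S', N)) = 0 := by
      apply hU' N
      rw [map_one, map_zero]
      exact h10
    have hNbot : N = ⊥ := by
      have e1 : S'.basicOpen (1 : Γ(S', N)) = N := S'.basicOpen_of_isUnit isUnit_one
      rw [hN1, Scheme.basicOpen_zero] at e1
      exact e1.symm
    rw [hNbot] at hξ'N
    exact hξ'N

theorem main17733 {S S' : Scheme.{u}} [IsLocallyNoetherian S]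
    (hnorm : ∀ x : S, IsDomain (S.presheaf.stalk x) ∧ IsIntegrallyClosed (S.presheaf.stalk x))
    (f : S' ⟶ S) [IsProper f] (hdom : f.ker = ⊥)
    (U : S.Opens) (hU : CInt.IsSchematicallyDense U)
    (hU' : CInt.IsSchematicallyDense (f ⁻¹ᵁ U))
    (D E : S.IdealSheafData)
    (hD : (∀ x : S, ∃ U : S.affineOpens, x ∈ (U : S.Opens) ∧ ∃ g : Γ(S, U),
      g ∈ nonZeroDivisors Γ(S, U) ∧ D.ideal U = Ideal.span {g}))
    (hE : (∀ x : S, ∃ U : S.affineOpens, x ∈ (U : S.Opens) ∧ ∃ g : Γ(S, U),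
      g ∈ nonZeroDivisors Γ(S, U) ∧ E.ideal U = Ideal.span {g}))
    (hDU : (D.support : Set S) ⊆ (U : Set S)ᶜ) (hEU : (E.support : Set S) ⊆ (U : Set S)ᶜ)
    (h : D.comap f = E.comap f) : D = E := by
  have hsurj : Function.Surjective f := by
    have h1 := Scheme.Hom.support_ker f
    rw [hdom, Scheme.IdealSheafData.support_bot] at h1
    have h2 : closure (Set.range f) = Set.univ := by
      rw [← h1]; rfl
    have h3 : IsClosed (Set.range f) := f.isClosedMap.isClosed_range
    rw [h3.closure_eq] at h2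
    exact Set.range_eq_univ.mp h2
  exact le_antisymm (le_of_comap_eq hnorm f hsurj U hU' D E hD hE hDU h)
    (le_of_comap_eq hnorm f hsurj U hU' E D hE hD hEU h.symm)

end Groth.Agent.Lib.CDivProper
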