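import Mathlib

/-!
# Lengths of kernels and cokernels, the index of a composite, and alternating sums (helper6)
-/

set_option autoImplicit false

namespace Groth.Agent.Lib.LenIndex_helper6

open Function

lemma add_ne_top' {a b : ℕ∞} (ha : a ≠ ⊤) (hb : b ≠ ⊤) : a + b ≠ ⊤ := by
  rw [Ne, ENat.add_eq_top]
  tauto

section basic

variable {R : Type*} [CommRing R]
variable {Y Z W X Y' Z' : Type*} [AddCommGroup Y] [Module R Y] [AddCommGroup Z] [Module R Z]
  [AddCommGroup W] [Module R W] [AddCommGroup X] [Module R X] [AddCommGroup Y'] [Module R Y']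
  [AddCommGroup Z'] [Module R Z']

theorem length_ker_add_range (f : Y →ₗ[R] Z) :
    Module.length R Y = Module.length R (LinearMap.ker f) + Module.length R (LinearMap.range f) :=
  Module.length_eq_add_of_exact (LinearMap.ker f).subtype f.rangeRestrict
    (Submodule.subtype_injective _) f.surjective_rangeRestrict
    (by
      rw [LinearMap.exact_iff, LinearMap.ker_rangeRestrict, Submodule.range_subtype])

/-- length of the kernel -/
noncomputable def kerLen (f : Y →ₗ[R] Z) : ℕ∞ := Module.length R (LinearMap.ker f)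

/-- length of the cokernel -/
noncomputable def cokLen (f : Y →ₗ[R] Z) : ℕ∞ := Module.length R (Z ⧸ LinearMap.range f)

/-- the index of a linear map: length of the cokernel minus length of the kernel -/
noncomputable def ind (f : Y →ₗ[R] Z) : ℤ := ((cokLen f).toNat : ℤ) - ((kerLen f).toNat : ℤ)

lemma kerLen_eq_zero_of_subsingleton [Subsingleton Y] (f : Y →ₗ[R] Z) : kerLen f = 0 := by
  unfold kerLen
  exact Module.length_eq_zero

lemma cokLen_eq_zero_of_subsingleton [Subsingleton Z] (f : Y →ₗ[R] Z) : cokLen f = 0 := by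
  unfold cokLen
  haveI : Subsingleton (Z ⧸ LinearMap.range f) :=
    (Submodule.mkQ_surjective (LinearMap.range f)).subsingleton
  exact Module.length_eq_zero

lemma ind_eq_zero_of_subsingleton [Subsingleton Y] [Subsingleton Z] (f : Y →ₗ[R] Z) :
    ind f = 0 := by
  unfold ind
  rw [kerLen_eq_zero_of_subsingleton, cokLen_eq_zero_of_subsingleton]
  simp

theorem length_mid (φ : Y →ₗ[R] Z) (α : Z →ₗ[R] X) (β : X →ₗ[R] Y') (φ' : Y' →ₗ[R] Z')
    (h1 : Exact φ α) (h2 : Exact α β) (h3 : Exact β φ') :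
    Module.length R X = cokLen φ + kerLen φ' := by
  rw [length_ker_add_range β]
  have e1 : LinearMap.ker β = LinearMap.range α := LinearMap.exact_iff.mp h2
  have e2 : LinearMap.ker α = LinearMap.range φ := LinearMap.exact_iff.mp h1
  have e3 : LinearMap.ker φ' = LinearMap.range β := LinearMap.exact_iff.mp h3
  congr 1
  · unfold cokLen
    rw [(LinearEquiv.ofEq _ _ e1).length_eq, ← (LinearMap.quotKerEquivRange α).length_eq]
    exact (Submodule.quotEquivOfEq _ _ e2).length_eq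
  · unfold kerLen
    exact (LinearEquiv.ofEq _ _ e3.symm).length_eq

section comp

variable (φ : Y →ₗ[R] Z) (ψ : Z →ₗ[R] W)

/-- b -/
noncomputable def midLen : ℕ∞ := Module.length R ↥(LinearMap.range φ ⊓ LinearMap.ker ψ)
/-- c -/
noncomputable def cLen : ℕ∞ :=
  Module.length R ↥((LinearMap.ker ψ).map (LinearMap.range φ).mkQ)
/-- d -/
noncomputable def dLen : ℕ∞ := Module.length R (Z ⧸ (LinearMap.range φ ⊔ LinearMap.ker ψ))

theorem kerLen_comp : kerLen (ψ ∘ₗ φ) = kerLen φ + midLen φ ψ := by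
  unfold kerLen midLen
  let φ' : ↥(LinearMap.ker (ψ ∘ₗ φ)) →ₗ[R] Z := φ ∘ₗ (LinearMap.ker (ψ ∘ₗ φ)).subtype
  rw [length_ker_add_range φ']
  have hle : LinearMap.ker φ ≤ LinearMap.ker (ψ ∘ₗ φ) := by
    intro y hy
    rw [LinearMap.mem_ker] at hy ⊢
    rw [LinearMap.comp_apply, hy, map_zero]
  have e1 : LinearMap.ker φ' = (LinearMap.ker φ).comap (LinearMap.ker (ψ ∘ₗ φ)).subtype :=
    LinearMap.ker_comp _ _
  have e2 : LinearMap.range φ' = LinearMap.range φ ⊓ LinearMap.ker ψ := by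
    rw [LinearMap.range_comp, Submodule.range_subtype, LinearMap.ker_comp,
      Submodule.map_comap_eq]
  congr 1
  · rw [(LinearEquiv.ofEq _ _ e1).length_eq]
    exact (Submodule.comapSubtypeEquivOfLe hle).length_eq
  · exact (LinearEquiv.ofEq _ _ e2).length_eq

theorem kerLen_right : kerLen ψ = midLen φ ψ + cLen φ ψ := by
  unfold kerLen midLen cLen
  let θ : ↥(LinearMap.ker ψ) →ₗ[R] Z ⧸ LinearMap.range φ :=
    (LinearMap.range φ).mkQ ∘ₗ (LinearMap.ker ψ).subtype
  rw [length_ker_add_range θ]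
  have e1 : LinearMap.ker θ =
      (LinearMap.range φ ⊓ LinearMap.ker ψ).comap (LinearMap.ker ψ).subtype := by
    rw [LinearMap.ker_comp, Submodule.ker_mkQ]
    ext z
    simp only [Submodule.mem_comap, Submodule.subtype_apply, Submodule.mem_inf]
    exact ⟨fun h => ⟨h, z.2⟩, fun h => h.1⟩
  have e2 : LinearMap.range θ = (LinearMap.ker ψ).map (LinearMap.range φ).mkQ := by
    rw [LinearMap.range_comp, Submodule.range_subtype]
  congr 1
  · rw [(LinearEquiv.ofEq _ _ e1).length_eq]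
    exact (Submodule.comapSubtypeEquivOfLe inf_le_right).length_eq
  · exact (LinearEquiv.ofEq _ _ e2).length_eq

theorem cokLen_left : cokLen φ = cLen φ ψ + dLen φ ψ := by
  unfold cokLen cLen dLen
  rw [Module.length_eq_add_of_exact ((LinearMap.ker ψ).map (LinearMap.range φ).mkQ).subtype
    ((LinearMap.ker ψ).map (LinearMap.range φ).mkQ).mkQ (Submodule.subtype_injective _)
    (Submodule.mkQ_surjective _) (LinearMap.exact_subtype_mkQ _)]
  congr 1
  exact (Submodule.quotientQuotientEquivQuotientSup (LinearMap.range φ)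
    (LinearMap.ker ψ)).length_eq

theorem cokLen_comp : cokLen (ψ ∘ₗ φ) = dLen φ ψ + cokLen ψ := by
  unfold cokLen dLen
  rw [Module.length_eq_add_of_exact
    ((LinearMap.range ψ).map (LinearMap.range (ψ ∘ₗ φ)).mkQ).subtype
    ((LinearMap.range ψ).map (LinearMap.range (ψ ∘ₗ φ)).mkQ).mkQ (Submodule.subtype_injective _)
    (Submodule.mkQ_surjective _) (LinearMap.exact_subtype_mkQ _)]
  congr 1
  · let ψ' : Z →ₗ[R] W ⧸ LinearMap.range (ψ ∘ₗ φ) := (LinearMap.range (ψ ∘ₗ φ)).mkQ ∘ₗ ψ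
    have e1 : LinearMap.ker ψ' = LinearMap.range φ ⊔ LinearMap.ker ψ := by
      rw [LinearMap.ker_comp, Submodule.ker_mkQ, LinearMap.range_comp, Submodule.comap_map_eq]
    have e2 : LinearMap.range ψ' =
        (LinearMap.range ψ).map (LinearMap.range (ψ ∘ₗ φ)).mkQ :=
      LinearMap.range_comp ψ _
    rw [← (LinearEquiv.ofEq _ _ e2).length_eq, ← (LinearMap.quotKerEquivRange ψ').length_eq]
    exact (Submodule.quotEquivOfEq _ _ e1).length_eq
  · have hle : LinearMap.range (ψ ∘ₗ φ) ≤ LinearMap.range ψ := LinearMap.range_comp_le_range φ ψ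
    rw [(Submodule.quotientQuotientEquivQuotientSup (LinearMap.range (ψ ∘ₗ φ))
      (LinearMap.range ψ)).length_eq]
    exact (Submodule.quotEquivOfEq _ _ (sup_eq_right.mpr hle)).length_eq

theorem index_comp :
    cokLen (ψ ∘ₗ φ) + kerLen φ + kerLen ψ = kerLen (ψ ∘ₗ φ) + cokLen φ + cokLen ψ := by
  have h1 := cokLen_comp φ ψ
  have h2 := kerLen_comp φ ψ
  have h3 := cokLen_left φ ψ
  have h4 := kerLen_right φ ψ
  rw [h1, h2, h3, h4]
  ring

theorem kerLen_comp_le : kerLen (ψ ∘ₗ φ) ≤ kerLen φ + kerLen ψ := by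
  rw [kerLen_comp φ ψ, kerLen_right φ ψ]
  exact add_le_add (le_refl _) le_self_add

theorem cokLen_comp_le : cokLen (ψ ∘ₗ φ) ≤ cokLen φ + cokLen ψ := by
  rw [cokLen_comp φ ψ, cokLen_left φ ψ]
  exact add_le_add le_add_self (le_refl _)

theorem ind_comp (h1 : kerLen φ ≠ ⊤) (h2 : cokLen φ ≠ ⊤) (h3 : kerLen ψ ≠ ⊤)
    (h4 : cokLen ψ ≠ ⊤) : ind (ψ ∘ₗ φ) = ind φ + ind ψ := by
  have h5 : kerLen (ψ ∘ₗ φ) ≠ ⊤ := ne_top_of_le_ne_top (add_ne_top' h1 h3) (kerLen_comp_le φ ψ)
  have h6 : cokLen (ψ ∘ₗ φ) ≠ ⊤ := ne_top_of_le_ne_top (add_ne_top' h2 h4) (cokLen_comp_le φ ψ)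
  have key := congrArg ENat.toNat (index_comp φ ψ)
  rw [ENat.toNat_add (add_ne_top' h6 h1) h3, ENat.toNat_add h6 h1,
    ENat.toNat_add (add_ne_top' h5 h2) h4, ENat.toNat_add h5 h2] at key
  unfold ind
  omega

end comp

end basic

section sums

theorem finsum_alt_shift (u v : ℤ → ℤ) (hu : (Function.support u).Finite)
    (hv : (Function.support v).Finite) :
    ∑ᶠ i : ℤ, ((i.negOnePow : ℤˣ) : ℤ) * (u i + v (i + 1)) =
      ∑ᶠ i : ℤ, ((i.negOnePow : ℤˣ) : ℤ) * (u i - v i) := by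
  have hu' : (Function.support fun i : ℤ => ((i.negOnePow : ℤˣ) : ℤ) * u i).Finite :=
    hu.subset (fun i hi => by
      rw [Function.mem_support] at hi ⊢
      intro h0
      apply hi
      rw [h0, mul_zero])
  have hv' : (Function.support fun i : ℤ => ((i.negOnePow : ℤˣ) : ℤ) * v i).Finite :=
    hv.subset (fun i hi => by
      rw [Function.mem_support] at hi ⊢
      intro h0
      apply hi
      rw [h0, mul_zero])
  have hv'' : (Function.support fun i : ℤ => ((i.negOnePow : ℤˣ) : ℤ) * v (i + 1)).Finite := by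
    apply (Set.Finite.preimage (f := fun i : ℤ => i + 1)
      ((add_left_injective (1 : ℤ)).injOn) hv).subset
    intro i hi
    rw [Function.mem_support] at hi
    show i + 1 ∈ Function.support v
    rw [Function.mem_support]
    intro h0
    apply hi
    rw [h0, mul_zero]
  have e1 : (fun i : ℤ => ((i.negOnePow : ℤˣ) : ℤ) * (u i + v (i + 1))) =
      fun i => ((i.negOnePow : ℤˣ) : ℤ) * u i + ((i.negOnePow : ℤˣ) : ℤ) * v (i + 1) := by
    funext i
    ring
  have e2 : (fun i : ℤ => ((i.negOnePow : ℤˣ) : ℤ) * (u i - v i)) =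
      fun i => ((i.negOnePow : ℤˣ) : ℤ) * u i - ((i.negOnePow : ℤˣ) : ℤ) * v i := by
    funext i
    ring
  have e3 : ∑ᶠ i : ℤ, ((i.negOnePow : ℤˣ) : ℤ) * v (i + 1) =
      - ∑ᶠ i : ℤ, ((i.negOnePow : ℤˣ) : ℤ) * v i := by
    rw [← finsum_comp_equiv (Equiv.addRight (1 : ℤ))
      (f := fun i : ℤ => ((i.negOnePow : ℤˣ) : ℤ) * v i), ← finsum_neg_distrib]
    apply finsum_congr
    intro i
    show _ = -((((i + 1).negOnePow : ℤˣ) : ℤ) * v (i + 1))
    rw [Int.negOnePow_succ, Units.val_neg]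
    ring
  rw [e1, e2, finsum_add_distrib hu' hv'', finsum_sub_distrib hu' hv', e3]
  ring

end sums

section triangle

variable {R : Type*} [CommRing R]
variable {Y Z X : ℤ → Type*} [∀ i, AddCommGroup (Y i)] [∀ i, Module R (Y i)]
  [∀ i, AddCommGroup (Z i)] [∀ i, Module R (Z i)] [∀ i, AddCommGroup (X i)] [∀ i, Module R (X i)]
  (φ : ∀ i, Y i →ₗ[R] Z i) (α : ∀ i, Z i →ₗ[R] X i) (β : ∀ i, X i →ₗ[R] Y (i + 1))
  (h1 : ∀ i, Exact (φ i) (α i)) (h2 : ∀ i, Exact (α i) (β i))
  (h3 : ∀ i, Exact (β i) (φ (i + 1)))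

include h1 h2 h3

theorem length_X (i : ℤ) : Module.length R (X i) = cokLen (φ i) + kerLen (φ (i + 1)) :=
  length_mid (φ i) (α i) (β i) (φ (i + 1)) (h1 i) (h2 i) (h3 i)

theorem cokLen_ne_top (hfin : ∀ i, Module.length R (X i) ≠ ⊤) (i : ℤ) : cokLen (φ i) ≠ ⊤ := by
  have h := hfin i
  rw [length_X φ α β h1 h2 h3 i] at h
  intro h0
  apply h
  rw [h0, top_add]

theorem kerLen_ne_top (hfin : ∀ i, Module.length R (X i) ≠ ⊤) (i : ℤ) : kerLen (φ i) ≠ ⊤ := by
  have h := hfin (i - 1)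
  rw [length_X φ α β h1 h2 h3 (i - 1)] at h
  have e : i - 1 + 1 = i := by ring
  rw [e] at h
  intro h0
  apply h
  rw [h0, add_top]

theorem length_X_ne_top (hk : ∀ i, kerLen (φ i) ≠ ⊤) (hc : ∀ i, cokLen (φ i) ≠ ⊤) (i : ℤ) :
    Module.length R (X i) ≠ ⊤ := by
  rw [length_X φ α β h1 h2 h3 i]
  exact add_ne_top' (hc i) (hk (i + 1))

theorem euler_triangle (a b : ℤ) (hY : ∀ i, i ∉ Set.Icc a b → Subsingleton (Y i))
    (hZ : ∀ i, i ∉ Set.Icc a b → Subsingleton (Z i))
    (hfin : ∀ i, Module.length R (X i) ≠ ⊤) :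
    ∑ᶠ i : ℤ, ((i.negOnePow : ℤˣ) : ℤ) * ((Module.length R (X i)).toNat : ℤ) =
      ∑ᶠ i : ℤ, ((i.negOnePow : ℤˣ) : ℤ) * ind (φ i) := by
  have hc := cokLen_ne_top φ α β h1 h2 h3 hfin
  have hk := kerLen_ne_top φ α β h1 h2 h3 hfin
  have hu : (Function.support fun i : ℤ => ((cokLen (φ i)).toNat : ℤ)).Finite := by
    apply (Set.finite_Icc a b).subset
    intro i hi
    by_contra hni
    apply hi
    haveI := hZ i hni
    show ((cokLen (φ i)).toNat : ℤ) = 0
    rw [cokLen_eq_zero_of_subsingleton]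
    rfl
  have hv : (Function.support fun i : ℤ => ((kerLen (φ i)).toNat : ℤ)).Finite := by
    apply (Set.finite_Icc a b).subset
    intro i hi
    by_contra hni
    apply hi
    haveI := hY i hni
    show ((kerLen (φ i)).toNat : ℤ) = 0
    rw [kerLen_eq_zero_of_subsingleton]
    rfl
  have hterm : ∀ i : ℤ, ((Module.length R (X i)).toNat : ℤ) =
      ((cokLen (φ i)).toNat : ℤ) + ((kerLen (φ (i + 1))).toNat : ℤ) := by
    intro i
    rw [length_X φ α β h1 h2 h3 i, ENat.toNat_add (hc i) (hk (i + 1))]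
    push_cast
    rfl
  calc ∑ᶠ i : ℤ, ((i.negOnePow : ℤˣ) : ℤ) * ((Module.length R (X i)).toNat : ℤ)
      = ∑ᶠ i : ℤ, ((i.negOnePow : ℤˣ) : ℤ) *
          (((cokLen (φ i)).toNat : ℤ) + ((kerLen (φ (i + 1))).toNat : ℤ)) :=
        finsum_congr (fun i => by rw [hterm i])
    _ = ∑ᶠ i : ℤ, ((i.negOnePow : ℤˣ) : ℤ) *
          (((cokLen (φ i)).toNat : ℤ) - ((kerLen (φ i)).toNat : ℤ)) :=
        finsum_alt_shift (fun i => ((cokLen (φ i)).toNat : ℤ))
          (fun i => ((kerLen (φ i)).toNat : ℤ)) hu hv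
    _ = ∑ᶠ i : ℤ, ((i.negOnePow : ℤˣ) : ℤ) * ind (φ i) := rfl

end triangle

end Groth.Agent.Lib.LenIndex_helper6
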