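import Mathlib
import Groth.Prelude.Def_ega3
import Groth.Prelude.Def_Koszul
import Groth.Prelude.Def_DRing2
import Groth.Agent.Lib.LenIndex_helper6
import Groth.Agent.Lib.KoszulLim2_helper6
import Groth.Agent.Lib.KoszulFlat_helper9
import Groth.Agent.Lib.DimTheory_helper5

/-!
# Euler characteristics of Koszul complexes (helper6)
-/

set_option autoImplicit false
universe u
open CategoryTheory CategoryTheory.Limits CochainComplex HomologicalComplex MonoidalCategory

namespace Groth.Agent.Lib.KoszulEuler_helper6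

open Groth.Agent.Lib.LenIndex_helper6 Groth.Agent.Lib.KoszulLim_helper6
  Groth.Agent.Lib.KoszulLim2_helper6

variable {A : Type u} [CommRing A]

/-- the Euler characteristic of a complex of modules (alternating sum of lengths of cohomology) -/
noncomputable def chi (K : CochainComplex (ModuleCat.{u} A) ℤ) : ℤ :=
  ∑ᶠ i : ℤ, ((i.negOnePow : ℤˣ) : ℤ) * ((Module.length A (K.homology i)).toNat : ℤ)

theorem chi_congr {K K' : CochainComplex (ModuleCat.{u} A) ℤ} (e : K ≅ K') : chi K = chi K' := by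
  unfold chi
  apply finsum_congr
  intro i
  rw [(HomologicalComplex.homologyMapIso e i).toLinearEquiv.length_eq]

section tensor

lemma tensorRight_map_smul (N : ModuleCat.{u} A) (r : A) (P : ModuleCat.{u} A) :
    (tensorRight N).map (r • 𝟙 P) = r • 𝟙 ((tensorRight N).obj P) := by
  show (r • 𝟙 P) ▷ N = r • 𝟙 (P ⊗ N)
  rw [MonoidalLinear.smul_whiskerRight, id_whiskerRight]

/-- the Koszul complex tensored with a module is the Koszul complex of the module -/
noncomputable def tIso (N : ModuleCat.{u} A) : ∀ l : List A,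
    DRing.tensorCx (Koszul.koszul A l) N ≅ CohIII.koszulCx N l
  | [] => (HomologicalComplex.singleMapHomologicalComplex (tensorRight N) (ComplexShape.up ℤ) 0).app
        (ModuleCat.of A A) ≪≫
      (HomologicalComplex.single (ModuleCat.{u} A) (ComplexShape.up ℤ) 0).mapIso (λ_ N)
  | f :: l =>
    (mappingCone.mapHomologicalComplexIso (f • 𝟙 (Koszul.koszul A l)) (tensorRight N)) ≪≫
      Groth.Agent.Lib.KoszulRegH7.coneIso _ (f • 𝟙 (CohIII.koszulCx N l)) (tIso N l) (tIso N l)
        (by
          rw [Groth.Agent.KoszulFlat9.map_smul_id (tensorRight N) id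
            (fun r P => tensorRight_map_smul N r P), Linear.smul_comp, Linear.comp_smul,
            Category.id_comp, Category.comp_id]
          rfl)

theorem chi_tensor (N : ModuleCat.{u} A) (l : List A) :
    chi (DRing.tensorCx (Koszul.koszul A l) N) = chi (CohIII.koszulCx N l) :=
  chi_congr (tIso N l)

end tensor

section kmap

lemma single_map_smul {M N : ModuleCat.{u} A} (c : A) (g : M ⟶ N) :
    (HomologicalComplex.single (ModuleCat.{u} A) (ComplexShape.up ℤ) 0).map (c • g) =
      c • (HomologicalComplex.single (ModuleCat.{u} A) (ComplexShape.up ℤ) 0).map g := by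
  apply HomologicalComplex.hom_ext
  intro i
  by_cases hi : i = 0
  · subst hi
    rw [HomologicalComplex.smul_f_apply, HomologicalComplex.single_map_f_self,
      HomologicalComplex.single_map_f_self, Linear.smul_comp, Linear.comp_smul]
  · apply (HomologicalComplex.isZero_single_obj_X (ComplexShape.up ℤ) 0 M i hi).eq_of_src

lemma cone_map_smul {K₁ L₁ K₂ L₂ : CochainComplex (ModuleCat.{u} A) ℤ} (φ₁ : K₁ ⟶ L₁)
    (φ₂ : K₂ ⟶ L₂) (a : K₁ ⟶ K₂) (b : L₁ ⟶ L₂) (comm : φ₁ ≫ b = a ≫ φ₂) (c : A)
    (comm' : φ₁ ≫ (c • b) = (c • a) ≫ φ₂) :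
    mappingCone.map φ₁ φ₂ (c • a) (c • b) comm' = c • mappingCone.map φ₁ φ₂ a b comm := by
  apply HomologicalComplex.hom_ext
  intro n
  simp [mappingCone.ext_from_iff _ (n + 1) n rfl, mappingCone.map]

lemma kMap_id (M : ModuleCat.{u} A) : ∀ l : List A, kMap (𝟙 M) l = 𝟙 _
  | [] => (HomologicalComplex.single (ModuleCat.{u} A) (ComplexShape.up ℤ) 0).map_id M
  | f :: l => by
    show mappingCone.map _ _ (kMap (𝟙 M) l) (kMap (𝟙 M) l) _ = 𝟙 _
    exact (map_congr _ _ (kMap_id M l) (kMap_id M l) _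
      (by rw [Category.comp_id, Category.id_comp])).trans (mappingCone.map_id _)

lemma kMap_comp {M N P : ModuleCat.{u} A} (g : M ⟶ N) (g' : N ⟶ P) :
    ∀ l : List A, kMap (g ≫ g') l = kMap g l ≫ kMap g' l
  | [] => (HomologicalComplex.single (ModuleCat.{u} A) (ComplexShape.up ℤ) 0).map_comp g g'
  | f :: l => by
    show mappingCone.map _ _ (kMap (g ≫ g') l) (kMap (g ≫ g') l) _ =
      mappingCone.map _ _ (kMap g l) (kMap g l) (kcomm f _) ≫
        mappingCone.map _ _ (kMap g' l) (kMap g' l) (kcomm f _)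
    rw [← mappingCone.map_comp]
    exact map_congr _ _ (kMap_comp g g' l) (kMap_comp g g' l) _ _

lemma kMap_smul {M N : ModuleCat.{u} A} (c : A) (g : M ⟶ N) :
    ∀ l : List A, kMap (c • g) l = c • kMap g l
  | [] => single_map_smul c g
  | f :: l => by
    show mappingCone.map _ _ (kMap (c • g) l) (kMap (c • g) l) _ =
      c • mappingCone.map _ _ (kMap g l) (kMap g l) (kcomm f _)
    rw [← cone_map_smul _ _ _ _ (kcomm f _) c (kcomm f _)]
    exact map_congr _ _ (kMap_smul c g l) (kMap_smul c g l) _ _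

lemma kMap_smul_id (M : ModuleCat.{u} A) (c : A) (l : List A) :
    kMap (c • 𝟙 M) l = c • 𝟙 (CohIII.koszulCx M l) := by
  rw [kMap_smul, kMap_id]

lemma kMap_zero (M N : ModuleCat.{u} A) (l : List A) : kMap (0 : M ⟶ N) l = 0 := by
  have h := kMap_smul (0 : A) (0 : M ⟶ N) l
  rw [zero_smul, zero_smul] at h
  exact h

end kmap

section cone

variable {K L : CochainComplex (ModuleCat.{u} A) ℤ} (φ : K ⟶ L)

/-- the connecting map of the cone sequence -/
noncomputable def δc (i : ℤ) : ((mappingCone φ).homology i : ModuleCat.{u} A) →ₗ[A]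
    (K.homology (i + 1) : ModuleCat.{u} A) :=
  (homologyδOfTriangle (mappingCone.triangle φ) i (i + 1) rfl).hom

lemma cone_exact₁ (i : ℤ) : Function.Exact (δc φ i) (homologyMap φ (i + 1)).hom := by
  letI : HasDerivedCategory (ModuleCat.{u} A) := HasDerivedCategory.standard _
  have hT := DerivedCategory.mappingCone_triangle_distinguished φ
  have e := CochainComplex.homologyMap_exact₁_of_distTriang (mappingCone.triangle φ) hT i
    (i + 1) rfl
  exact LinearMap.exact_iff.mpr ((ShortComplex.moduleCat_exact_iff_range_eq_ker _).mp e).symm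

lemma cone_exact₂ (i : ℤ) :
    Function.Exact (homologyMap φ i).hom (homologyMap (mappingCone.inr φ) i).hom := by
  letI : HasDerivedCategory (ModuleCat.{u} A) := HasDerivedCategory.standard _
  have hT := DerivedCategory.mappingCone_triangle_distinguished φ
  have e := CochainComplex.homologyMap_exact₂_of_distTriang (mappingCone.triangle φ) hT i
  exact LinearMap.exact_iff.mpr ((ShortComplex.moduleCat_exact_iff_range_eq_ker _).mp e).symm

lemma cone_exact₃ (i : ℤ) :
    Function.Exact (homologyMap (mappingCone.inr φ) i).hom (δc φ i) := by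
  letI : HasDerivedCategory (ModuleCat.{u} A) := HasDerivedCategory.standard _
  have hT := DerivedCategory.mappingCone_triangle_distinguished φ
  have e := CochainComplex.homologyMap_exact₃_of_distTriang (mappingCone.triangle φ) hT i
    (i + 1) rfl
  exact LinearMap.exact_iff.mpr ((ShortComplex.moduleCat_exact_iff_range_eq_ker _).mp e).symm

theorem chi_cone (a b : ℤ) (hK : ∀ i, i ∉ Set.Icc a b → IsZero (K.homology i))
    (hL : ∀ i, i ∉ Set.Icc a b → IsZero (L.homology i))
    (hfin : ∀ i, Module.length A ((mappingCone φ).homology i) ≠ ⊤) :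
    chi (mappingCone φ) = ∑ᶠ i : ℤ, ((i.negOnePow : ℤˣ) : ℤ) * ind (homologyMap φ i).hom :=
  euler_triangle (R := A) (Y := fun i => (K.homology i : ModuleCat.{u} A))
    (Z := fun i => (L.homology i : ModuleCat.{u} A))
    (X := fun i => ((mappingCone φ).homology i : ModuleCat.{u} A))
    (fun i => (homologyMap φ i).hom) (fun i => (homologyMap (mappingCone.inr φ) i).hom)
    (fun i => δc φ i) (cone_exact₂ φ) (cone_exact₃ φ) (cone_exact₁ φ) a b
    (fun i hi => ModuleCat.subsingleton_of_isZero (hK i hi))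
    (fun i hi => ModuleCat.subsingleton_of_isZero (hL i hi)) hfin

theorem cone_kerLen_ne_top (hfin : ∀ i, Module.length A ((mappingCone φ).homology i) ≠ ⊤)
    (i : ℤ) : kerLen (homologyMap φ i).hom ≠ ⊤ :=
  kerLen_ne_top (R := A) (Y := fun i => (K.homology i : ModuleCat.{u} A))
    (Z := fun i => (L.homology i : ModuleCat.{u} A))
    (X := fun i => ((mappingCone φ).homology i : ModuleCat.{u} A))
    (fun i => (homologyMap φ i).hom) (fun i => (homologyMap (mappingCone.inr φ) i).hom)
    (fun i => δc φ i) (cone_exact₂ φ) (cone_exact₃ φ) (cone_exact₁ φ) hfin i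

theorem cone_cokLen_ne_top (hfin : ∀ i, Module.length A ((mappingCone φ).homology i) ≠ ⊤)
    (i : ℤ) : cokLen (homologyMap φ i).hom ≠ ⊤ :=
  cokLen_ne_top (R := A) (Y := fun i => (K.homology i : ModuleCat.{u} A))
    (Z := fun i => (L.homology i : ModuleCat.{u} A))
    (X := fun i => ((mappingCone φ).homology i : ModuleCat.{u} A))
    (fun i => (homologyMap φ i).hom) (fun i => (homologyMap (mappingCone.inr φ) i).hom)
    (fun i => δc φ i) (cone_exact₂ φ) (cone_exact₃ φ) (cone_exact₁ φ) hfin i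

theorem cone_length_ne_top (hk : ∀ i, kerLen (homologyMap φ i).hom ≠ ⊤)
    (hc : ∀ i, cokLen (homologyMap φ i).hom ≠ ⊤) (i : ℤ) :
    Module.length A ((mappingCone φ).homology i) ≠ ⊤ :=
  length_X_ne_top (R := A) (Y := fun i => (K.homology i : ModuleCat.{u} A))
    (Z := fun i => (L.homology i : ModuleCat.{u} A))
    (X := fun i => ((mappingCone φ).homology i : ModuleCat.{u} A))
    (fun i => (homologyMap φ i).hom) (fun i => (homologyMap (mappingCone.inr φ) i).hom)
    (fun i => δc φ i) (cone_exact₂ φ) (cone_exact₃ φ) (cone_exact₁ φ) hk hc i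

end cone

section smul

variable (K : CochainComplex (ModuleCat.{u} A) ℤ)

/-- multiplication by `c` on cohomology -/
noncomputable abbrev Φ (c : A) (i : ℤ) :
    (K.homology i : ModuleCat.{u} A) →ₗ[A] (K.homology i : ModuleCat.{u} A) :=
  (homologyMap (c • 𝟙 K) i).hom

lemma Φ_mul (x y : A) (i : ℤ) : Φ K (x * y) i = Φ K y i ∘ₗ Φ K x i := by
  have h : ((x * y) • 𝟙 K : K ⟶ K) = (x • 𝟙 K) ≫ (y • 𝟙 K) := by
    rw [Linear.smul_comp, Category.id_comp, smul_smul]
  show (homologyMap ((x * y) • 𝟙 K) i).hom = _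
  rw [h, homologyMap_comp, ModuleCat.hom_comp]

theorem chi_mul_head (x y : A) (a b : ℤ) (hK : ∀ i, i ∉ Set.Icc a b → IsZero (K.homology i))
    (hx : ∀ i, Module.length A ((mappingCone (x • 𝟙 K)).homology i) ≠ ⊤)
    (hy : ∀ i, Module.length A ((mappingCone (y • 𝟙 K)).homology i) ≠ ⊤) :
    chi (mappingCone ((x * y) • 𝟙 K)) =
        chi (mappingCone (x • 𝟙 K)) + chi (mappingCone (y • 𝟙 K)) ∧
      ∀ i, Module.length A ((mappingCone ((x * y) • 𝟙 K)).homology i) ≠ ⊤ := by
  have kx := cone_kerLen_ne_top (x • 𝟙 K) hx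
  have cx := cone_cokLen_ne_top (x • 𝟙 K) hx
  have ky := cone_kerLen_ne_top (y • 𝟙 K) hy
  have cy := cone_cokLen_ne_top (y • 𝟙 K) hy
  have kxy : ∀ i, kerLen (homologyMap ((x * y) • 𝟙 K) i).hom ≠ ⊤ := by
    intro i
    rw [show (homologyMap ((x * y) • 𝟙 K) i).hom = Φ K y i ∘ₗ Φ K x i from Φ_mul K x y i]
    exact ne_top_of_le_ne_top (add_ne_top' (kx i) (ky i)) (kerLen_comp_le _ _)
  have cxy : ∀ i, cokLen (homologyMap ((x * y) • 𝟙 K) i).hom ≠ ⊤ := by
    intro i
    rw [show (homologyMap ((x * y) • 𝟙 K) i).hom = Φ K y i ∘ₗ Φ K x i from Φ_mul K x y i]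
    exact ne_top_of_le_ne_top (add_ne_top' (cx i) (cy i)) (cokLen_comp_le _ _)
  have hxy := cone_length_ne_top ((x * y) • 𝟙 K) kxy cxy
  refine ⟨?_, hxy⟩
  have hs : ∀ c : A, (Function.support fun i : ℤ =>
      ((i.negOnePow : ℤˣ) : ℤ) * ind (homologyMap (c • 𝟙 K) i).hom).Finite := by
    intro c
    apply (Set.finite_Icc a b).subset
    intro i hi
    by_contra hni
    apply hi
    haveI : Subsingleton (K.homology i : ModuleCat.{u} A) :=
      ModuleCat.subsingleton_of_isZero (hK i hni)
    show ((i.negOnePow : ℤˣ) : ℤ) * ind (homologyMap (c • 𝟙 K) i).hom = 0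
    rw [ind_eq_zero_of_subsingleton, mul_zero]
  rw [chi_cone _ a b hK hK hxy, chi_cone _ a b hK hK hx, chi_cone _ a b hK hK hy,
    ← finsum_add_distrib (hs x) (hs y)]
  apply finsum_congr
  intro i
  rw [show (homologyMap ((x * y) • 𝟙 K) i).hom = Φ K y i ∘ₗ Φ K x i from Φ_mul K x y i,
    ind_comp _ _ (kx i) (cx i) (ky i) (cy i)]
  ring

end smul

section finlen

open Groth.Agent.Lib.KoszulDepthH7

lemma isZero_homology_koszulCx (N : ModuleCat.{u} A) (l : List A) (i : ℤ)
    (hi : i ∉ Set.Icc (-(l.length : ℤ)) 0) : IsZero ((CohIII.koszulCx N l).homology i) := by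
  apply isZero_homology_of_isZero_X
  rw [Set.mem_Icc, not_and_or, not_le, not_le] at hi
  rcases hi with hi | hi
  · exact isZero_X_of_lt N l i hi
  · exact isZero_X_of_pos N l i hi

lemma smul_homology_eq_zero (K : CochainComplex (ModuleCat.{u} A) ℤ) (r : A)
    (h : Nonempty (Homotopy (r • 𝟙 K) 0)) (i : ℤ) (z : (K.homology i : ModuleCat.{u} A)) :
    r • z = 0 := by
  obtain ⟨hh⟩ := h
  have h1 := hh.homologyMap_eq i
  rw [hφ, homologyMap_zero] at h1
  have h2 : (r • 𝟙 (K.homology i)).hom z = 0 := by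
    rw [h1]
    rfl
  rw [ModuleCat.hom_smul, ModuleCat.hom_id] at h2
  exact h2

theorem finiteLength_homology [IsNoetherianRing A] (N : ModuleCat.{u} A) [Module.Finite A N]
    (l : List A)
    (h : IsFiniteLength A (N ⧸ (Ideal.span {a : A | a ∈ l} • (⊤ : Submodule A N)))) (i : ℤ) :
    IsFiniteLength A ((CohIII.koszulCx N l).homology i) := by
  haveI := Groth.Agent.Lib.KoszulDepth2H7.finite_X N l i
  haveI := Groth.Agent.Lib.KoszulDepth2H7.finite_homology (CohIII.koszulCx N l) i
  apply Groth.Agent.DimLib.isFiniteLength_of_support_isMaximal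
  intro p hp
  rw [Module.mem_support_iff_of_finite] at hp
  have h1 : Ideal.span {a : A | a ∈ l} ≤
      Module.annihilator A ((CohIII.koszulCx N l).homology i : ModuleCat.{u} A) := by
    intro a ha
    rw [Module.mem_annihilator]
    intro z
    exact smul_homology_eq_zero _ a (Groth.Agent.Lib.KoszulHtpyH7.main N l a ha) i z
  have h2 : Module.annihilator A N ≤
      Module.annihilator A ((CohIII.koszulCx N l).homology i : ModuleCat.{u} A) := by
    intro r hr
    rw [Module.mem_annihilator] at hr ⊢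
    intro z
    have h0 : (r • 𝟙 N : N ⟶ N) = 0 := by
      ext n
      show r • n = 0
      exact hr n
    have h3 : (r • 𝟙 (CohIII.koszulCx N l) : CohIII.koszulCx N l ⟶ CohIII.koszulCx N l) = 0 := by
      rw [← kMap_smul_id, h0, kMap_zero]
    exact smul_homology_eq_zero _ r ⟨Homotopy.ofEq h3⟩ i z
  apply Groth.Agent.DimLib.isMaximal_of_mem_support_of_isFiniteLength h p
  rw [Module.support_quotient]
  refine ⟨?_, ?_⟩
  · rw [Module.mem_support_iff_of_finite]
    exact h2.trans hp
  · rw [PrimeSpectrum.mem_zeroLocus]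
    exact h1.trans hp

end finlen

section main

theorem chi_koszul_mul_head [IsNoetherianRing A] (x y : A) (l : List A) (N : ModuleCat.{u} A)
    [Module.Finite A N]
    (hx : IsFiniteLength A (N ⧸ (Ideal.span {a : A | a ∈ x :: l} • (⊤ : Submodule A N))))
    (hy : IsFiniteLength A (N ⧸ (Ideal.span {a : A | a ∈ y :: l} • (⊤ : Submodule A N)))) :
    chi (CohIII.koszulCx N ((x * y) :: l)) =
      chi (CohIII.koszulCx N (x :: l)) + chi (CohIII.koszulCx N (y :: l)) :=
  (chi_mul_head (CohIII.koszulCx N l) x y (-(l.length : ℤ)) 0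
    (isZero_homology_koszulCx N l)
    (fun i => Module.length_ne_top_iff.mpr (finiteLength_homology N (x :: l) hx i))
    (fun i => Module.length_ne_top_iff.mpr (finiteLength_homology N (y :: l) hy i))).1

theorem main8151 [IsNoetherianRing A] (x y : A) (l : List A) (M : Type u) [AddCommGroup M]
    [Module A M] [Module.Finite A M]
    (hx : IsFiniteLength A (M ⧸ (Ideal.span ({x} ∪ {a : A | a ∈ l}) • (⊤ : Submodule A M))))
    (hy : IsFiniteLength A (M ⧸ (Ideal.span ({y} ∪ {a : A | a ∈ l}) • (⊤ : Submodule A M)))) :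
    (∑ᶠ i : ℤ, ((i.negOnePow : ℤˣ) : ℤ) * ((Module.length A ((DRing.tensorCx (Koszul.koszul A ((x * y) :: l)) (ModuleCat.of A M)).homology i)).toNat : ℤ)) =
      (∑ᶠ i : ℤ, ((i.negOnePow : ℤˣ) : ℤ) * ((Module.length A ((DRing.tensorCx (Koszul.koszul A (x :: l)) (ModuleCat.of A M)).homology i)).toNat : ℤ)) +
      (∑ᶠ i : ℤ, ((i.negOnePow : ℤˣ) : ℤ) * ((Module.length A ((DRing.tensorCx (Koszul.koszul A (y :: l)) (ModuleCat.of A M)).homology i)).toNat : ℤ)) := by
  have hs : ∀ c : A, ({c} ∪ {a : A | a ∈ l} : Set A) = {a : A | a ∈ c :: l} := by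
    intro c
    ext a
    simp [List.mem_cons]
  rw [hs x] at hx
  rw [hs y] at hy
  show chi (DRing.tensorCx (Koszul.koszul A ((x * y) :: l)) (ModuleCat.of A M)) =
    chi (DRing.tensorCx (Koszul.koszul A (x :: l)) (ModuleCat.of A M)) +
      chi (DRing.tensorCx (Koszul.koszul A (y :: l)) (ModuleCat.of A M))
  rw [chi_tensor, chi_tensor, chi_tensor]
  exact chi_koszul_mul_head x y l (ModuleCat.of A M) hx hy

end main

end Groth.Agent.Lib.KoszulEuler_helper6
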