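import Mathlib
import Groth.Agent.Lib.HS5_helper9

/-!
# Hilbert–Samuel polynomial of a local ring and multiplicities of powers (helper9)
APPEND-ONLY once landed.
-/

set_option autoImplicit false
universe u

namespace Groth.Agent.HS9

open Polynomial Filter

/-- The Hilbert–Samuel polynomial of a Noetherian local ring of dimension `r`. -/
theorem exists_local_samuel (O : Type u) [CommRing O] [IsNoetherianRing O] [IsLocalRing O]
    (r : ℕ) (hr : ringKrullDim O = r) :
    ∃ (P : Polynomial ℚ) (N : ℕ), P.natDegree = r ∧ P ≠ 0 ∧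
      ∀ n, N ≤ n → 1 ≤ (Module.length O (O ⧸ IsLocalRing.maximalIdeal O ^ n)).toNat ∧
        ((Module.length O (O ⧸ IsLocalRing.maximalIdeal O ^ n)).toNat : ℚ) = P.eval (n : ℚ) := by
  obtain ⟨P, ⟨N, hN⟩, hdeg⟩ := hilbertSamuel O O
  rw [Module.supportDim_self_eq_ringKrullDim, hr] at hdeg
  have hdeg' : P.natDegree = r := by exact_mod_cast hdeg
  have hsm : ∀ n, (Ring.jacobson O ^ n • (⊤ : Submodule O O)) = IsLocalRing.maximalIdeal O ^ n := by
    intro n
    rw [IsLocalRing.ringJacobson_eq_maximalIdeal, smul_eq_mul, Ideal.mul_top]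
  have hval : ∀ n, N ≤ n → 1 ≤ n → 1 ≤ (Module.length O (O ⧸ IsLocalRing.maximalIdeal O ^ n)).toNat ∧
        ((Module.length O (O ⧸ IsLocalRing.maximalIdeal O ^ n)).toNat : ℚ) = P.eval (n : ℚ) := by
    intro n hn hn1
    obtain ⟨ℓ, h1, h2⟩ := hN n hn
    rw [hsm n] at h1
    have h3 : (Module.length O (O ⧸ IsLocalRing.maximalIdeal O ^ n)).toNat = ℓ := by
      rw [h1]; exact ENat.toNat_coe ℓ
    rw [h3]
    refine ⟨?_, h2⟩
    by_contra hlt
    have hℓ : ℓ = 0 := by omega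
    rw [hℓ] at h1
    have h4 : Module.length O (O ⧸ IsLocalRing.maximalIdeal O ^ n) = 0 := by exact_mod_cast h1
    rw [Module.length_eq_zero_iff, Submodule.Quotient.subsingleton_iff] at h4
    have h5 : IsLocalRing.maximalIdeal O ^ n ≤ IsLocalRing.maximalIdeal O :=
      Ideal.pow_le_self (by omega)
    rw [h4] at h5
    exact (IsLocalRing.maximalIdeal.isMaximal O).ne_top (top_le_iff.mp h5)
  refine ⟨P, max N 1, hdeg', ?_, fun n hn => hval n (le_trans (le_max_left _ _) hn)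
    (le_trans (le_max_right _ _) hn)⟩
  intro hP0
  obtain ⟨h1, h2⟩ := hval (max N 1) (le_max_left _ _) (le_max_right _ _)
  rw [hP0, eval_zero] at h2
  have : (Module.length O (O ⧸ IsLocalRing.maximalIdeal O ^ (max N 1))).toNat = 0 := by
    exact_mod_cast h2
  omega

/-- `r! · P(kn)/n^r → r! · k^r · lc(P)` for a rational polynomial of degree `r`. -/
theorem tendsto_poly_mul (P : Polynomial ℚ) (r : ℕ) (hdeg : P.natDegree = r) (hP : P ≠ 0) (k : ℕ)
    (hk : 1 ≤ k) :
    Tendsto (fun n : ℕ => (r.factorial : ℝ) * ((P.eval ((k * n : ℕ) : ℚ) : ℚ) : ℝ) / (n : ℝ) ^ r) atTop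
      (nhds ((r.factorial : ℝ) * (k : ℝ) ^ r * ((P.leadingCoeff : ℚ) : ℝ))) := by
  set PR : Polynomial ℝ := P.map (algebraMap ℚ ℝ) with hPR
  have hPRdeg : PR.degree = ((X : Polynomial ℝ) ^ r).degree := by
    rw [hPR, degree_map, degree_X_pow, degree_eq_natDegree hP, hdeg]
  have h1 := div_tendsto_atTop_leadingCoeff_div_of_degree_eq PR (X ^ r) hPRdeg
  have hlc : PR.leadingCoeff = ((P.leadingCoeff : ℚ) : ℝ) := by
    rw [hPR, leadingCoeff_map]; rfl
  rw [hlc, leadingCoeff_X_pow, div_one] at h1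
  have hkn : Tendsto (fun n : ℕ => ((k * n : ℕ) : ℝ)) atTop atTop := by
    refine tendsto_natCast_atTop_atTop.comp ?_
    exact Filter.tendsto_atTop_mono (fun n => Nat.le_mul_of_pos_left n hk) tendsto_id
  have h2 := h1.comp hkn
  have h3 := h2.const_mul ((r.factorial : ℝ) * (k : ℝ) ^ r)
  refine h3.congr' ?_
  filter_upwards [eventually_gt_atTop 0] with n hn
  simp only [Function.comp_apply, eval_pow, eval_X]
  have hev : PR.eval ((k * n : ℕ) : ℝ) = ((P.eval ((k * n : ℕ) : ℚ) : ℚ) : ℝ) := by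
    rw [hPR]
    have h5 : ((algebraMap ℚ ℝ) ((k * n : ℕ) : ℚ)) = ((k * n : ℕ) : ℝ) := by simp
    rw [← h5, eval_map, eval₂_at_apply]
    rfl
  rw [hev]
  have hn' : (n : ℝ) ≠ 0 := by exact_mod_cast hn.ne'
  have hk' : (k : ℝ) ≠ 0 := by exact_mod_cast (by omega : k ≠ 0)
  push_cast
  field_simp
  ring

end Groth.Agent.HS9
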