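import Mathlib
import Groth.Agent.Lib.Samuel3_helper9

/-!
# Hilbert–Samuel functions, part 4 (helper9)

Additivity of the normalised Samuel limit on short exact sequences.
-/

set_option autoImplicit false
universe u v

namespace Groth.Agent.Samuel9

open Module Submodule Filter Topology

/-- The analytic squeeze used for additivity. -/
theorem tendsto_of_AR (d c : ℕ) (a a' a'' : ℕ → ℕ)
    (h : ∀ t, c ≤ t → a' (t - c) + a'' t ≤ a t ∧ a t ≤ a' t + a'' t) (e' e'' : ℝ)
    (h' : Tendsto (fun t : ℕ => (d.factorial : ℝ) * (a' t : ℝ) / (t : ℝ) ^ d) atTop (𝓝 e'))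
    (h'' : Tendsto (fun t : ℕ => (d.factorial : ℝ) * (a'' t : ℝ) / (t : ℝ) ^ d) atTop (𝓝 e'')) :
    Tendsto (fun t : ℕ => (d.factorial : ℝ) * (a t : ℝ) / (t : ℝ) ^ d) atTop (𝓝 (e' + e'')) := by
  have hup : Tendsto (fun t : ℕ => (d.factorial : ℝ) * (a' t : ℝ) / (t : ℝ) ^ d +
      (d.factorial : ℝ) * (a'' t : ℝ) / (t : ℝ) ^ d) atTop (𝓝 (e' + e'')) := h'.add h''
  -- shifted sequence
  have hshift : Tendsto (fun t : ℕ => (d.factorial : ℝ) * (a' (t - c) : ℝ) /
      ((t - c : ℕ) : ℝ) ^ d) atTop (𝓝 e') := h'.comp (tendsto_sub_atTop_nat c)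
  have hratio : Tendsto (fun t : ℕ => (((t - c : ℕ) : ℝ) / (t : ℝ)) ^ d) atTop (𝓝 1) := by
    have h1 : Tendsto (fun t : ℕ => (1 : ℝ) - (c : ℝ) / (t : ℝ)) atTop (𝓝 (1 - 0)) :=
      tendsto_const_nhds.sub (tendsto_const_div_atTop_nhds_zero_nat (c : ℝ))
    rw [sub_zero] at h1
    have h2 : Tendsto (fun t : ℕ => ((1 : ℝ) - (c : ℝ) / (t : ℝ)) ^ d) atTop (𝓝 (1 ^ d)) :=
      h1.pow d
    rw [one_pow] at h2
    refine h2.congr' ?_
    filter_upwards [eventually_gt_atTop c] with t ht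
    have ht0 : (t : ℝ) ≠ 0 := by
      have : 0 < t := by omega
      positivity
    congr 1
    rw [Nat.cast_sub ht.le]
    field_simp
  have hlow : Tendsto (fun t : ℕ => (d.factorial : ℝ) * (a' (t - c) : ℝ) /
      ((t - c : ℕ) : ℝ) ^ d * (((t - c : ℕ) : ℝ) / (t : ℝ)) ^ d +
      (d.factorial : ℝ) * (a'' t : ℝ) / (t : ℝ) ^ d) atTop (𝓝 (e' * 1 + e'')) :=
    (hshift.mul hratio).add h''
  rw [mul_one] at hlow
  refine tendsto_of_tendsto_of_tendsto_of_le_of_le' hlow hup ?_ ?_
  · filter_upwards [eventually_gt_atTop c] with t ht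
    have ht0 : (0 : ℝ) < (t : ℝ) := by
      have : 0 < t := by omega
      positivity
    have htc : (0 : ℝ) < ((t - c : ℕ) : ℝ) := by
      have : 0 < t - c := by omega
      positivity
    have h1 := (h t ht.le).1
    have h2 : (d.factorial : ℝ) * (a' (t - c) : ℝ) /
        ((t - c : ℕ) : ℝ) ^ d * (((t - c : ℕ) : ℝ) / (t : ℝ)) ^ d =
        (d.factorial : ℝ) * (a' (t - c) : ℝ) / (t : ℝ) ^ d := by
      rw [div_pow]
      field_simp
    rw [h2, ← add_div, ← mul_add]
    apply div_le_div_of_nonneg_right _ (by positivity)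
    apply mul_le_mul_of_nonneg_left _ (by positivity)
    exact_mod_cast h1
  · filter_upwards [eventually_ge_atTop c] with t ht
    have h1 := (h t ht).2
    rw [← add_div, ← mul_add]
    apply div_le_div_of_nonneg_right _ (by positivity)
    apply mul_le_mul_of_nonneg_left _ (by positivity)
    exact_mod_cast h1

variable {A : Type u} [CommRing A] [IsNoetherianRing A] [Finite (MaximalSpectrum A)]

/-- Additivity of the Samuel limit (no dimension hypothesis needed). -/
theorem tendsto_chi_add {I : Ideal A} (hI : IsDef I)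
    {M' M M'' : Type v} [AddCommGroup M'] [Module A M'] [AddCommGroup M] [Module A M]
    [AddCommGroup M''] [Module A M''] [Module.Finite A M'] [Module.Finite A M]
    [Module.Finite A M'']
    (f : M' →ₗ[A] M) (g : M →ₗ[A] M'') (hf : Function.Injective f) (hg : Function.Surjective g)
    (hfg : Function.Exact f g) (d : ℕ) (e' e'' : ℝ)
    (h' : Tendsto (fun t : ℕ => (d.factorial : ℝ) * ((chiE I M' t).toNat : ℝ) / (t : ℝ) ^ d)
      atTop (𝓝 e'))
    (h'' : Tendsto (fun t : ℕ => (d.factorial : ℝ) * ((chiE I M'' t).toNat : ℝ) / (t : ℝ) ^ d)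
      atTop (𝓝 e'')) :
    Tendsto (fun t : ℕ => (d.factorial : ℝ) * ((chiE I M t).toNat : ℝ) / (t : ℝ) ^ d)
      atTop (𝓝 (e' + e'')) := by
  obtain ⟨c, hc⟩ := exists_AR_exact I f g hf hg hfg
  refine tendsto_of_AR d c _ _ _ (fun t ht => ?_) e' e'' h' h''
  obtain ⟨h1, h2⟩ := hc t ht
  have hM := chiE_ne_top hI M t
  have hM' := chiE_ne_top hI M' t
  have hM'c := chiE_ne_top hI M' (t - c)
  have hM'' := chiE_ne_top hI M'' t
  constructor
  · have := ENat.toNat_le_toNat h1 hM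
    rwa [ENat.toNat_add hM'c hM''] at this
  · have := ENat.toNat_le_toNat h2 (by simp [hM', hM''])
    rwa [ENat.toNat_add hM' hM''] at this

end Groth.Agent.Samuel9
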