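import Mathlib
import Groth.Agent.Lib.Samuel4_helper9

/-!
# Hilbert–Samuel functions, part 5 (helper9)

The associativity formula for the normalised Samuel limit:
`e(M, d) = Σ_{dim A/p = d} length(M_p) e(A/p, d)`.
-/

set_option autoImplicit false
universe u v

namespace Groth.Agent.Samuel9

open Module Submodule Filter Topology PrimeSpectrum

variable {A : Type u} [CommRing A]

/-- The length of the localisation at a prime. -/
noncomputable def lenp (N : Type v) [AddCommGroup N] [Module A N] (p : PrimeSpectrum A) : ℕ∞ :=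
  Module.length (Localization.AtPrime p.asIdeal) (LocalizedModule p.asIdeal.primeCompl N)

theorem lenp_of_subsingleton (N : Type v) [AddCommGroup N] [Module A N] [Subsingleton N]
    (p : PrimeSpectrum A) : lenp N p = 0 := by
  unfold lenp
  rw [Module.length_eq_zero_iff]
  constructor
  intro a b
  induction a using LocalizedModule.induction_on with
  | _ m s =>
  induction b using LocalizedModule.induction_on with
  | _ m' s' =>
  rw [Subsingleton.elim m 0, Subsingleton.elim m' 0, LocalizedModule.zero_mk,
    LocalizedModule.zero_mk]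

theorem lenp_add {N₁ N₂ N₃ : Type v} [AddCommGroup N₁] [Module A N₁] [AddCommGroup N₂]
    [Module A N₂] [AddCommGroup N₃] [Module A N₃] (f : N₁ →ₗ[A] N₂) (g : N₂ →ₗ[A] N₃)
    (hf : Function.Injective f) (hg : Function.Surjective g) (hfg : Function.Exact f g)
    (p : PrimeSpectrum A) : lenp N₂ p = lenp N₁ p + lenp N₃ p := by
  unfold lenp
  exact Module.length_eq_add_of_exact (LocalizedModule.map p.asIdeal.primeCompl f)
    (LocalizedModule.map p.asIdeal.primeCompl g)
    (LocalizedModule.map_injective _ f hf) (LocalizedModule.map_surjective _ g hg)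
    (LocalizedModule.map_exact _ f g hfg)

theorem lenp_congr {N N' : Type*} [AddCommGroup N] [Module A N] [AddCommGroup N'] [Module A N']
    (e : N ≃ₗ[A] N') (p : PrimeSpectrum A) : lenp N p = lenp N' p := by
  unfold lenp
  exact LinearEquiv.length_eq (LinearEquiv.ofBijective
    (LocalizedModule.map p.asIdeal.primeCompl e.toLinearMap)
    ⟨LocalizedModule.map_injective _ _ e.injective, LocalizedModule.map_surjective _ _ e.surjective⟩)

theorem lenp_quot_of_not_le (q p : PrimeSpectrum A) (h : ¬ q.asIdeal ≤ p.asIdeal) :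
    lenp (A ⧸ q.asIdeal) p = 0 := by
  unfold lenp
  rw [Module.length_eq_zero_iff]
  obtain ⟨s, hsq, hsp⟩ := SetLike.not_le_iff_exists.mp h
  have hz : ∀ a : LocalizedModule p.asIdeal.primeCompl (A ⧸ q.asIdeal), a = 0 := by
    intro a
    induction a using LocalizedModule.induction_on with
    | _ m t =>
    rw [← LocalizedModule.zero_mk (1 : p.asIdeal.primeCompl), LocalizedModule.mk_eq]
    have hs' : s ∈ p.asIdeal.primeCompl := hsp
    refine ⟨⟨s, hs'⟩, ?_⟩
    obtain ⟨a, rfl⟩ := Ideal.Quotient.mk_surjective m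
    simp only [smul_zero, one_smul]
    rw [Submonoid.smul_def]
    change s • (Ideal.Quotient.mk q.asIdeal) a = 0
    rw [Algebra.smul_def]
    simp only [Ideal.Quotient.algebraMap_eq]
    rw [← map_mul, Ideal.Quotient.eq_zero_iff_mem]
    exact Ideal.mul_mem_right _ _ hsq
  exact ⟨fun a b => by rw [hz a, hz b]⟩

theorem lenp_quot_self (p : PrimeSpectrum A) : lenp (A ⧸ p.asIdeal) p = 1 := by
  unfold lenp
  set B := Localization.AtPrime p.asIdeal with hB
  set Q := LocalizedModule p.asIdeal.primeCompl (A ⧸ p.asIdeal) with hQ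
  set v : Q := LocalizedModule.mk (1 : A ⧸ p.asIdeal) (1 : p.asIdeal.primeCompl) with hv
  set φ : B →ₗ[B] Q := LinearMap.toSpanSingleton B Q v with hφ
  have hsurj : Function.Surjective φ := by
    intro y
    induction y using LocalizedModule.induction_on with
    | _ m t =>
    obtain ⟨a, rfl⟩ := Ideal.Quotient.mk_surjective m
    refine ⟨Localization.mk a t, ?_⟩
    rw [hφ, LinearMap.toSpanSingleton_apply, hv, LocalizedModule.mk_smul_mk, mul_one]
    congr 1
    rw [Algebra.smul_def, mul_one]
    rfl
  have hv0 : v ≠ 0 := by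
    intro h0
    rw [hv, ← LocalizedModule.zero_mk (1 : p.asIdeal.primeCompl), LocalizedModule.mk_eq] at h0
    obtain ⟨u, hu⟩ := h0
    simp only [one_smul, smul_zero] at hu
    rw [Submonoid.smul_def, Algebra.smul_def, mul_one] at hu
    have : (u : A) ∈ p.asIdeal := Ideal.Quotient.eq_zero_iff_mem.mp hu
    exact u.2 this
  have hker : LinearMap.ker φ = IsLocalRing.maximalIdeal B := by
    symm
    apply (IsLocalRing.maximalIdeal.isMaximal B).eq_of_le
    · intro htop
      have : (1 : B) ∈ LinearMap.ker φ := by rw [htop]; trivial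
      rw [LinearMap.mem_ker, hφ, LinearMap.toSpanSingleton_apply, one_smul] at this
      exact hv0 this
    · intro b hb
      obtain ⟨a, t, rfl⟩ := IsLocalization.exists_mk'_eq p.asIdeal.primeCompl b
      rw [IsLocalization.AtPrime.mk'_mem_maximal_iff B p.asIdeal] at hb
      rw [LinearMap.mem_ker, hφ, LinearMap.toSpanSingleton_apply, hv, ← Localization.mk_eq_mk',
        LocalizedModule.mk_smul_mk]
      have : a • (1 : A ⧸ p.asIdeal) = 0 := by
        rw [Algebra.smul_def, mul_one]
        exact Ideal.Quotient.eq_zero_iff_mem.mpr hb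
      rw [this, LocalizedModule.zero_mk]
  have e : (B ⧸ IsLocalRing.maximalIdeal B) ≃ₗ[B] Q :=
    (Submodule.quotEquivOfEq _ _ hker.symm).trans (φ.quotKerEquivOfSurjective hsurj)
  rw [← LinearEquiv.length_eq e]
  haveI : IsSimpleModule B (B ⧸ IsLocalRing.maximalIdeal B) := by
    rw [isSimpleModule_iff_isCoatom]
    exact (IsLocalRing.maximalIdeal.isMaximal B).out
  exact Module.length_eq_one B _

/-- `dim A/q ≥ dim A/p + 1` for `q < p`. -/
theorem dimQuot_add_one_le {q p : PrimeSpectrum A} (h : q < p) :
    ringKrullDim (A ⧸ p.asIdeal) + 1 ≤ ringKrullDim (A ⧸ q.asIdeal) := by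
  have hc : ∀ r : PrimeSpectrum A, ringKrullDim (A ⧸ r.asIdeal) = (Order.coheight r : ℕ∞) := by
    intro r
    rw [ringKrullDim_quotient, Order.coheight_eq_krullDim_Ici]
    have : zeroLocus (r.asIdeal : Set A) = Set.Ici r := by
      ext x
      simp [mem_zeroLocus, PrimeSpectrum.asIdeal_le_asIdeal]
    rw [this]
  rw [hc, hc]
  have := Order.coheight_add_one_le h
  exact_mod_cast this

end Groth.Agent.Samuel9
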