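import Mathlib
import Groth.Agent.Lib.Samuel5_helper9

/-!
# Hilbert–Samuel functions, part 6 (helper9)

The associativity formula, main induction.
-/

set_option autoImplicit false
universe u v

namespace Groth.Agent.Samuel9

open Module Submodule Filter Topology PrimeSpectrum

variable {A : Type u} [CommRing A] [IsNoetherianRing A] [Finite (MaximalSpectrum A)]

/-- The Samuel limit vanishes below the dimension. -/
theorem tendsto_chi_zero_of_dim_lt {I : Ideal A} (hI : IsDef I) (M : Type v) [AddCommGroup M]
    [Module A M] [Module.Finite A M] (d : ℕ) (hd : Module.supportDim A M ≤ d) :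
    Tendsto (fun t : ℕ => ((d + 1).factorial : ℝ) * ((chiE I M t).toNat : ℝ) /
      (t : ℝ) ^ (d + 1)) atTop (𝓝 0) := by
  obtain ⟨C, hC⟩ := chiE_le_of_dim hI M d hd
  have hbound : ∀ t : ℕ, ((chiE I M t).toNat : ℝ) ≤ (C : ℝ) * ((t : ℝ) + 1) ^ d := by
    intro t
    have h1 := ENat.toNat_le_toNat (hC t) (ENat.coe_ne_top _)
    rw [ENat.toNat_coe] at h1
    have h2 : ((chiE I M t).toNat : ℝ) ≤ ((C * (t + 1) ^ d : ℕ) : ℝ) := by exact_mod_cast h1
    simpa using h2
  -- upper bound tends to zero
  have hup : Tendsto (fun t : ℕ => ((d + 1).factorial : ℝ) * (C : ℝ) *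
      (((1 : ℝ) + 1 / (t : ℝ)) ^ d * (1 / (t : ℝ)))) atTop
      (𝓝 (((d + 1).factorial : ℝ) * (C : ℝ) * ((1 + 0) ^ d * 0))) := by
    have h1 : Tendsto (fun t : ℕ => (1 : ℝ) / (t : ℝ)) atTop (𝓝 0) :=
      tendsto_const_div_atTop_nhds_zero_nat 1
    exact (((tendsto_const_nhds.add h1).pow d).mul h1).const_mul _
  simp only [mul_zero] at hup
  refine tendsto_of_tendsto_of_tendsto_of_le_of_le' tendsto_const_nhds hup ?_ ?_
  · filter_upwards with t
    positivity
  · filter_upwards [eventually_gt_atTop 0] with t ht
    have ht0 : (0 : ℝ) < (t : ℝ) := by exact_mod_cast ht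
    have h1 := hbound t
    have h2 : ((d + 1).factorial : ℝ) * ((chiE I M t).toNat : ℝ) / (t : ℝ) ^ (d + 1) ≤
        ((d + 1).factorial : ℝ) * ((C : ℝ) * ((t : ℝ) + 1) ^ d) / (t : ℝ) ^ (d + 1) := by
      apply div_le_div_of_nonneg_right _ (by positivity)
      exact mul_le_mul_of_nonneg_left h1 (by positivity)
    refine h2.trans (le_of_eq ?_)
    have : ((1 : ℝ) + 1 / (t : ℝ)) = ((t : ℝ) + 1) / (t : ℝ) := by field_simp
    rw [this, div_pow, pow_succ]
    field_simp

open Classical in
/-- The associativity formula for Samuel limits, with auxiliary finiteness statements. -/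
theorem samuel_assoc {I : Ideal A} (hI : IsDef I) (d : ℕ) (e : PrimeSpectrum A → ℝ)
    (he : ∀ p : PrimeSpectrum A, ringKrullDim (A ⧸ p.asIdeal) = d →
      Tendsto (fun t : ℕ => (d.factorial : ℝ) * ((chiE I (A ⧸ p.asIdeal) t).toNat : ℝ) /
        (t : ℝ) ^ d) atTop (𝓝 (e p)))
    (M : Type v) [AddCommGroup M] [Module A M] [hM : Module.Finite A M]
    (hd : Module.supportDim A M ≤ d) :
    (∀ p : PrimeSpectrum A, ringKrullDim (A ⧸ p.asIdeal) = d → lenp M p ≠ ⊤) ∧
    {p : PrimeSpectrum A | ringKrullDim (A ⧸ p.asIdeal) = d ∧ lenp M p ≠ 0}.Finite ∧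
    Tendsto (fun t : ℕ => (d.factorial : ℝ) * ((chiE I M t).toNat : ℝ) / (t : ℝ) ^ d) atTop
      (𝓝 (∑ᶠ p : PrimeSpectrum A, if ringKrullDim (A ⧸ p.asIdeal) = d then
        ((lenp M p).toNat : ℝ) * e p else 0)) := by
  revert hd
  induction hM using IsNoetherianRing.induction_on_isQuotientEquivQuotientPrime A with
  | subsingleton N =>
    intro _
    refine ⟨fun p _ => by simp [lenp_of_subsingleton], ?_, ?_⟩
    · convert Set.finite_empty
      ext p
      simp [lenp_of_subsingleton]
    · have h0 : ∀ t, chiE I N t = 0 := fun t => by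
        unfold chiE
        rw [Module.length_eq_zero_iff]
        infer_instance
      simp [h0, lenp_of_subsingleton]
  | quotient N q f =>
    intro hd
    have hdimN : Module.supportDim A N = ringKrullDim (A ⧸ q.asIdeal) := by
      rw [Module.supportDim_eq_of_equiv f, Module.supportDim_quotient_eq_ringKrullDim]
    rw [hdimN] at hd
    have hlen : ∀ p : PrimeSpectrum A, ringKrullDim (A ⧸ p.asIdeal) = d →
        lenp N p = if p = q ∧ ringKrullDim (A ⧸ q.asIdeal) = d then 1 else 0 := by
      intro p hp
      rw [lenp_congr f]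
      by_cases hqp : q.asIdeal ≤ p.asIdeal
      · by_cases hqp' : p = q
        · subst hqp'
          rw [lenp_quot_self]
          simp [hp]
        · exfalso
          have hlt : q < p := lt_of_le_of_ne hqp (Ne.symm hqp')
          have h1 := dimQuot_add_one_le hlt
          rw [hp] at h1
          have h2 : ((d : ℕ) : WithBot ℕ∞) + 1 ≤ (d : ℕ) := h1.trans hd
          have h3 : ((d + 1 : ℕ) : WithBot ℕ∞) ≤ (d : ℕ) := by exact_mod_cast h2
          have h4 : d + 1 ≤ d := by exact_mod_cast h3
          omega
      · rw [lenp_quot_of_not_le q p hqp]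
        have : ¬ (p = q ∧ ringKrullDim (A ⧸ q.asIdeal) = d) := by
          rintro ⟨rfl, -⟩
          exact hqp le_rfl
        simp [this]
    refine ⟨fun p hp => ?_, ?_, ?_⟩
    · rw [hlen p hp]
      split_ifs <;> simp
    · apply (Set.finite_singleton q).subset
      rintro p ⟨hp, hne⟩
      rw [hlen p hp] at hne
      by_contra hpq
      have : ¬ (p = q ∧ ringKrullDim (A ⧸ q.asIdeal) = d) := fun h => hpq h.1
      simp [this] at hne
    · have hchi : ∀ t, chiE I N t = chiE I (A ⧸ q.asIdeal) t := fun t => chiE_congr I f t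
      simp only [hchi]
      by_cases hq : ringKrullDim (A ⧸ q.asIdeal) = d
      · have hsum : (∑ᶠ p : PrimeSpectrum A, if ringKrullDim (A ⧸ p.asIdeal) = d then
            ((lenp N p).toNat : ℝ) * e p else 0) = e q := by
          rw [finsum_eq_single _ q]
          · rw [if_pos hq, hlen q hq]
            simp [hq]
          · intro p hpq
            by_cases hp : ringKrullDim (A ⧸ p.asIdeal) = d
            · rw [if_pos hp, hlen p hp]
              have : ¬ (p = q ∧ ringKrullDim (A ⧸ q.asIdeal) = d) := fun h => hpq h.1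
              simp [this]
            · rw [if_neg hp]
        rw [hsum]
        exact he q hq
      · have hsum : (∑ᶠ p : PrimeSpectrum A, if ringKrullDim (A ⧸ p.asIdeal) = d then
            ((lenp N p).toNat : ℝ) * e p else 0) = 0 := by
          apply finsum_eq_zero_of_forall_eq_zero
          intro p
          by_cases hp : ringKrullDim (A ⧸ p.asIdeal) = d
          · rw [if_pos hp, hlen p hp]
            have : ¬ (p = q ∧ ringKrullDim (A ⧸ q.asIdeal) = d) := fun h => hq h.2
            simp [this]
          · rw [if_neg hp]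
        rw [hsum]
        -- dim A/q < d
        have hnn : (0 : WithBot ℕ∞) ≤ ringKrullDim (A ⧸ q.asIdeal) :=
          ringKrullDim_nonneg_of_nontrivial
        have hd0 : d ≠ 0 := by
          rintro rfl
          apply hq
          exact le_antisymm hd (by exact_mod_cast hnn)
        obtain ⟨d', rfl⟩ := Nat.exists_eq_succ_of_ne_zero hd0
        have hle : Module.supportDim A (A ⧸ q.asIdeal) ≤ (d' : ℕ) := by
          rw [Module.supportDim_quotient_eq_ringKrullDim]
          generalize ringKrullDim (A ⧸ q.asIdeal) = x at hd hq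
          induction x using WithBot.recBotCoe with
          | bot => exact bot_le
          | coe t =>
            have h1' : t ≤ ((d' + 1 : ℕ) : ℕ∞) := by exact_mod_cast hd
            have ht : t ≠ ⊤ := ne_top_of_le_ne_top (ENat.coe_ne_top _) h1'
            lift t to ℕ using ht
            have h3 : t ≤ d' + 1 := by exact_mod_cast h1'
            have h4 : t ≠ d' + 1 := by
              rintro rfl
              exact hq rfl
            have h5 : t ≤ d' := by omega
            exact_mod_cast h5
        exact tendsto_chi_zero_of_dim_lt hI (A ⧸ q.asIdeal) d' hle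
  | exact N₁ N₂ N₃ f g hf hg hfg ih₁ ih₃ =>
    intro hd
    have hd₁ : Module.supportDim A N₁ ≤ d := (Module.supportDim_le_of_injective f hf).trans hd
    have hd₃ : Module.supportDim A N₃ ≤ d := (Module.supportDim_le_of_surjective g hg).trans hd
    obtain ⟨hfin₁, hset₁, hlim₁⟩ := ih₁ hd₁
    obtain ⟨hfin₃, hset₃, hlim₃⟩ := ih₃ hd₃
    have hadd : ∀ p, lenp N₂ p = lenp N₁ p + lenp N₃ p := fun p => lenp_add f g hf hg hfg p
    refine ⟨fun p hp => ?_, ?_, ?_⟩
    · rw [hadd p]
      simp [hfin₁ p hp, hfin₃ p hp]
    · apply (hset₁.union hset₃).subset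
      rintro p ⟨hp, hne⟩
      rw [hadd p] at hne
      by_cases h1 : lenp N₁ p = 0
      · right
        refine ⟨hp, ?_⟩
        intro h3
        apply hne
        rw [h1, h3, add_zero]
      · left
        exact ⟨hp, h1⟩
    · have hlim := tendsto_chi_add hI f g hf hg hfg d _ _ hlim₁ hlim₃
      convert hlim using 2
      rw [← finsum_add_distrib]
      · apply finsum_congr
        intro p
        by_cases hp : ringKrullDim (A ⧸ p.asIdeal) = d
        · rw [if_pos hp, if_pos hp, if_pos hp, hadd p, ENat.toNat_add (hfin₁ p hp) (hfin₃ p hp)]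
          push_cast
          ring
        · rw [if_neg hp, if_neg hp, if_neg hp, add_zero]
      · apply hset₁.subset
        intro p hp
        rw [Function.mem_support] at hp
        by_cases hpd : ringKrullDim (A ⧸ p.asIdeal) = d
        · refine ⟨hpd, ?_⟩
          intro h0
          apply hp
          rw [if_pos hpd, h0]
          simp
        · exact absurd (if_neg hpd) hp
      · apply hset₃.subset
        intro p hp
        rw [Function.mem_support] at hp
        by_cases hpd : ringKrullDim (A ⧸ p.asIdeal) = d
        · refine ⟨hpd, ?_⟩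
          intro h0
          apply hp
          rw [if_pos hpd, h0]
          simp
        · exact absurd (if_neg hpd) hp

end Groth.Agent.Samuel9
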