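import Mathlib
import Groth.Agent.Lib.HS6_helper9
import Groth.Agent.Lib.Samuel6_helper9

/-!
# Samuel polynomials for ideals of definition, sharp growth bound, integrality (helper9)
APPEND-ONLY once landed.
-/

set_option autoImplicit false
universe u v

namespace Groth.Agent.HS9

open Module Submodule Pointwise Polynomial Filter Topology Groth.Agent.Samuel9

section Sharp

variable {A : Type u} [CommRing A] {M : Type v} [AddCommGroup M] [Module A M]

/-- Sharp growth bound from parameters: `χ_N(t) ≤ ℓ(M/(N + (x)M)) · C(t+s, s)`. -/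
theorem chiS_le_choose (I : Ideal A) : ∀ (s : ℕ) (N : Submodule A M) (x : Fin s → A),
    (∀ i, x i ∈ I) → ∀ t : ℕ, chiS I N t ≤
      Module.length A (M ⧸ (N ⊔ Ideal.span (Set.range x) • (⊤ : Submodule A M))) *
        (((t + s).choose s : ℕ) : ℕ∞) := by
  intro s
  induction s with
  | zero =>
    intro N x _ t
    have h0 : Ideal.span (Set.range x) = ⊥ := by
      rw [Set.range_eq_empty x, Ideal.span_empty]
    rw [h0, Submodule.bot_smul, sup_bot_eq, Nat.choose_zero_right, Nat.cast_one, mul_one]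
    exact chiS_le_length I N t
  | succ s ih =>
    intro N x hx
    set N' : Submodule A M := N ⊔ x 0 • (⊤ : Submodule A M) with hN'
    have hspan : N ⊔ Ideal.span (Set.range x) • (⊤ : Submodule A M) =
        N' ⊔ Ideal.span (Set.range (Fin.tail x)) • (⊤ : Submodule A M) := by
      have h1 : Set.range x = insert (x 0) (Set.range (Fin.tail x)) := by
        conv_lhs => rw [← Fin.cons_self_tail x]
        rw [Fin.range_cons]
      rw [h1, Ideal.span_insert, Submodule.sup_smul, Submodule.ideal_span_singleton_smul, hN',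
        sup_assoc]
    rw [hspan]
    have hC' := ih N' (Fin.tail x) (fun i => hx _)
    intro t
    induction t with
    | zero => simp [chiS_zero]
    | succ t iht =>
      have h1 := chiS_succ_le I N (x 0) (hx 0) t
      have h2 := hC' (t + 1)
      refine h1.trans ((add_le_add iht h2).trans ?_)
      rw [← mul_add]
      refine mul_le_mul_right ?_ _
      have : (t + (s + 1)).choose (s + 1) + (t + 1 + s).choose s = (t + 1 + (s + 1)).choose (s + 1) := by
        have e1 : t + 1 + (s + 1) = (t + 1 + s) + 1 := by ring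
        have e2 : t + (s + 1) = t + 1 + s := by ring
        rw [e1, Nat.choose_succ_succ', e2, add_comm]
      exact_mod_cast this.le

end Sharp

section Poly

variable {A : Type u} [CommRing A] [IsNoetherianRing A] [Finite (MaximalSpectrum A)]

/-- The Samuel polynomial of a module with respect to an ideal of definition. -/
theorem samuel_poly {I : Ideal A} (hI : IsDef I) (M : Type u) [AddCommGroup M] [Module A M]
    [Module.Finite A M] [Nontrivial M] :
    ∃ (P : ℚ[X]) (n₀ : ℕ), (∀ n, n₀ ≤ n → ((chiE I M n).toNat : ℚ) = P.eval (n : ℚ)) ∧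
      (P.natDegree : WithBot ℕ∞) = Module.supportDim A M := by
  have hfin : ∀ t, Module.length A (M ⧸ I ^ t • (⊤ : Submodule A M)) ≠ ⊤ := chiE_ne_top hI M
  obtain ⟨P, n₀, hP⟩ := EP_chi hfin
  obtain ⟨D, hD⟩ := Groth.Agent.DimLib.exists_nat_ringKrullDim_le (A := A)
  have hle : Module.supportDim A M ≤ D := (Module.supportDim_le_ringKrullDim A M).trans hD
  have hne : Module.supportDim A M ≠ ⊥ := Module.supportDim_ne_bot_of_nontrivial A M
  obtain ⟨e, he⟩ := WithBot.ne_bot_iff_exists.mp hne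
  have he_le : e ≤ (D : ℕ∞) := by
    rw [← he] at hle
    exact_mod_cast hle
  have hetop : e ≠ ⊤ := ne_top_of_le_ne_top (ENat.coe_ne_top D) he_le
  lift e to ℕ using hetop with d
  have hdim : Module.supportDim A M = ((d : ℕ) : WithBot ℕ∞) := he.symm
  have hPval : ∀ n, n₀ ≤ n →
      P.eval (n : ℚ) = ((chiE I M n).toNat : ℚ) := fun n hn => (hP n hn).symm
  refine ⟨P, n₀, fun n hn => hP n hn, ?_⟩
  rw [hdim]
  have hdeg : P.natDegree = d := by
    apply le_antisymm
    · obtain ⟨C₀, hC₀⟩ := chiE_le_of_dim hI M d hdim.le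
      refine Groth.Agent.HilbDim9.natDegree_le_of_growth P d ((C₀ : ℚ) * 2 ^ d) (max n₀ 1)
        (fun m hm => ?_) (fun m hm => ?_)
      · rw [hPval m (le_trans (le_max_left _ _) hm)]
        positivity
      · rw [hPval m (le_trans (le_max_left _ _) hm)]
        have hm1 : 1 ≤ m := le_trans (le_max_right _ _) hm
        have h1 : (chiE I M m).toNat ≤ C₀ * (m + 1) ^ d := ENat.toNat_le_of_le_coe (hC₀ m)
        have h2 : ((chiE I M m).toNat : ℚ) ≤ (C₀ : ℚ) * ((m : ℚ) + 1) ^ d := by exact_mod_cast h1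
        refine h2.trans ?_
        have h3 : ((m : ℚ) + 1) ^ d ≤ (2 * (m : ℚ)) ^ d := by
          apply pow_le_pow_left₀ (by positivity)
          have : (1 : ℚ) ≤ (m : ℚ) := by exact_mod_cast hm1
          linarith
        rw [mul_pow] at h3
        calc (C₀ : ℚ) * ((m : ℚ) + 1) ^ d ≤ (C₀ : ℚ) * (2 ^ d * (m : ℚ) ^ d) :=
              mul_le_mul_of_nonneg_left h3 (by positivity)
          _ = (C₀ : ℚ) * 2 ^ d * (m : ℚ) ^ d := by ring
    · obtain ⟨a, ha, hLB⟩ := LB_of_supportDim hI.1 M d hdim.ge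
      rw [← natDegree_comp_affine P a ha]
      refine Groth.Agent.HilbDim9.le_natDegree_of_growth _ d (1 / (2 ^ d * (d.factorial : ℚ)))
        (by positivity) (max n₀ (2 * d)) (fun m hm => ?_)
      have hm0 : n₀ ≤ a * (m + 1) := by
        have : n₀ ≤ m := le_trans (le_max_left _ _) hm
        nlinarith
      have hm2 : 2 * d ≤ m := le_trans (le_max_right _ _) hm
      rw [eval_comp, eval_mul, eval_C, eval_add, eval_X, eval_one]
      have e1 : (a : ℚ) * ((m : ℚ) + 1) = ((a * (m + 1) : ℕ) : ℚ) := by push_cast; ring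
      rw [e1, hPval _ hm0]
      refine (choose_growth d m hm2).trans ?_
      have h1 : m.choose d ≤ (chiE I M (a * (m + 1))).toNat := by
        have h0 : ((m.choose d : ℕ) : ℕ∞) ≤ chiE I M (a * (m + 1)) := hLB m
        have h00 : chiE I M (a * (m + 1)) ≠ ⊤ := hfin (a * (m + 1))
        rw [← ENat.coe_toNat h00] at h0
        exact_mod_cast h0
      exact_mod_cast h1
  rw [hdeg]

/-- Integrality of `d! ·` leading coefficient for integer valued polynomials. -/
theorem factorial_mul_leadingCoeff_int (P : ℚ[X]) (n₀ : ℕ)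
    (h : ∀ n : ℕ, n₀ ≤ n → ∃ z : ℤ, P.eval (n : ℚ) = z) :
    ∃ z : ℤ, P.leadingCoeff * (P.natDegree.factorial : ℚ) = z := by
  have h1 := congrFun (Polynomial.fwdDiff_iter_degree_eq_factorial P) (n₀ : ℚ)
  rw [fwdDiff_iter_eq_sum_shift] at h1
  have h2 : (P.leadingCoeff • (P.natDegree.factorial : ℚ → ℚ)) (n₀ : ℚ) =
      P.leadingCoeff * (P.natDegree.factorial : ℚ) := by
    simp
  rw [h2] at h1
  rw [← h1]
  refine Finset.sum_induction _ (fun q : ℚ => ∃ z : ℤ, q = z) ?_ ⟨0, by simp⟩ ?_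
  · rintro a b ⟨za, rfl⟩ ⟨zb, rfl⟩
    exact ⟨za + zb, by push_cast; rfl⟩
  · intro k _
    obtain ⟨z, hz⟩ := h (n₀ + k) (Nat.le_add_right _ _)
    refine ⟨((-1 : ℤ) ^ (P.natDegree - k) * (P.natDegree.choose k : ℤ)) * z, ?_⟩
    have e : ((n₀ : ℚ) + k • (1 : ℚ)) = ((n₀ + k : ℕ) : ℚ) := by
      push_cast; simp
    rw [e, hz, zsmul_eq_mul]
    push_cast
    ring

/-- Existence of the multiplicity, as a real number `≥ 1`, in the top dimension. -/
theorem exists_mult_ge_one {I : Ideal A} (hI : IsDef I) (M : Type u) [AddCommGroup M]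
    [Module A M] [Module.Finite A M] (d : ℕ) (hd : Module.supportDim A M = d) :
    ∃ e : ℝ, 1 ≤ e ∧ Tendsto (fun t : ℕ => (d.factorial : ℝ) * ((chiE I M t).toNat : ℝ) /
      (t : ℝ) ^ d) atTop (𝓝 e) := by
  haveI : Nontrivial M := by
    by_contra hM
    rw [not_nontrivial_iff_subsingleton] at hM
    rw [Module.supportDim_eq_bot_of_subsingleton] at hd
    exact WithBot.bot_ne_coe hd
  obtain ⟨P, n₀, hval, hdeg⟩ := samuel_poly hI M
  rw [hd] at hdeg
  have hdeg' : P.natDegree = d := by exact_mod_cast hdeg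
  have hfin : ∀ t, chiE I M t ≠ ⊤ := chiE_ne_top hI M
  -- P ≠ 0
  obtain ⟨a, ha, hLB⟩ := LB_of_supportDim hI.1 M d hd.ge
  have hP0 : P ≠ 0 := by
    intro h0
    have hm0 : n₀ ≤ a * (max n₀ d + 1) := by
      have : n₀ ≤ max n₀ d := le_max_left _ _
      nlinarith
    have h1 := hval _ hm0
    rw [h0, eval_zero] at h1
    have h2 : (chiE I M (a * (max n₀ d + 1))).toNat = 0 := by exact_mod_cast h1
    have h3 := hLB (max n₀ d)
    rw [← ENat.coe_toNat (hfin _), h2] at h3
    have h4 : (max n₀ d).choose d ≤ 0 := by exact_mod_cast h3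
    have h5 : 0 < (max n₀ d).choose d := Nat.choose_pos (le_max_right _ _)
    omega
  have hlim := tendsto_poly_mul P d hdeg' hP0 1 le_rfl
  have hχ : Tendsto (fun n : ℕ => (d.factorial : ℝ) * ((chiE I M n).toNat : ℝ) / (n : ℝ) ^ d) atTop
      (𝓝 ((d.factorial : ℝ) * ((P.leadingCoeff : ℚ) : ℝ))) := by
    have h1 : (d.factorial : ℝ) * ((1 : ℕ) : ℝ) ^ d * ((P.leadingCoeff : ℚ) : ℝ) =
        (d.factorial : ℝ) * ((P.leadingCoeff : ℚ) : ℝ) := by
      push_cast; ring
    rw [h1] at hlim
    refine hlim.congr' ?_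
    filter_upwards [eventually_ge_atTop n₀] with n hn
    have h2 := hval n hn
    rw [one_mul, ← h2]
    push_cast
    rfl
  have hnonneg : 0 ≤ (d.factorial : ℝ) * ((P.leadingCoeff : ℚ) : ℝ) :=
    ge_of_tendsto' hχ (fun n => by positivity)
  obtain ⟨z, hz⟩ := factorial_mul_leadingCoeff_int P n₀ (fun n hn => ⟨((chiE I M n).toNat : ℤ), by
    rw [← hval n hn]; push_cast; rfl⟩)
  rw [hdeg'] at hz
  have hzR : (d.factorial : ℝ) * ((P.leadingCoeff : ℚ) : ℝ) = (z : ℝ) := by
    have : ((P.leadingCoeff * (d.factorial : ℚ) : ℚ) : ℝ) = ((z : ℚ) : ℝ) := by rw [hz]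
    push_cast at this
    rw [← this]; ring
  have hz0 : z ≠ 0 := by
    intro h0
    rw [h0] at hz
    have hf : (d.factorial : ℚ) ≠ 0 := by exact_mod_cast (Nat.factorial_pos d).ne'
    have hz' : P.leadingCoeff * (d.factorial : ℚ) = 0 := by rw [hz]; simp
    have : P.leadingCoeff = 0 := by
      rcases mul_eq_zero.mp hz' with h | h
      · exact h
      · exact absurd h hf
    exact hP0 (leadingCoeff_eq_zero.mp this)
  have hz1 : 1 ≤ z := by
    have h0 : (0 : ℝ) ≤ (z : ℝ) := by rw [← hzR]; exact hnonneg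
    have : 0 ≤ z := by exact_mod_cast h0
    omega
  refine ⟨(z : ℝ), by exact_mod_cast hz1, ?_⟩
  rw [← hzR]
  exact hχ

end Poly

end Groth.Agent.HS9
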