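import Mathlib
import Groth.Agent.Lib.KoszulEuler_helper6

/-!
# Euler characteristics of Koszul complexes II: additivity, Northcott's recursion, powers (helper6)
-/

set_option autoImplicit false
universe u
open CategoryTheory CategoryTheory.Limits CochainComplex HomologicalComplex
open scoped Pointwise

namespace Groth.Agent.Lib.KoszulEuler2_helper6

open Groth.Agent.Lib.LenIndex_helper6 Groth.Agent.Lib.KoszulLim_helper6
  Groth.Agent.Lib.KoszulLim2_helper6 Groth.Agent.Lib.KoszulEuler_helper6 Groth.Agent.DepthLib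

section algebra

variable {R : Type*} [CommRing R] {Y Z : Type*} [AddCommGroup Y] [Module R Y] [AddCommGroup Z]
  [Module R Z]

lemma kerLen_of_injective (f : Y →ₗ[R] Z) (hf : Function.Injective f) : kerLen f = 0 := by
  unfold kerLen
  rw [Module.length_eq_zero_iff]
  exact ⟨fun a b => Subtype.ext
    (hf ((LinearMap.mem_ker.mp a.2).trans (LinearMap.mem_ker.mp b.2).symm))⟩

lemma cokLen_of_surjective (f : Y →ₗ[R] Z) (hf : Function.Surjective f) : cokLen f = 0 := by
  unfold cokLen
  rw [Module.length_eq_zero_iff, Submodule.Quotient.subsingleton_iff]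
  exact LinearMap.range_eq_top.mpr hf

lemma ind_of_bijective (f : Y →ₗ[R] Z) (hf : Function.Bijective f) : ind f = 0 := by
  unfold ind
  rw [kerLen_of_injective f hf.1, cokLen_of_surjective f hf.2]
  simp

lemma ind_eq_sub (f : Y →ₗ[R] Z) (hY : Module.length R Y ≠ ⊤) (hZ : Module.length R Z ≠ ⊤) :
    ind f = ((Module.length R Z).toNat : ℤ) - ((Module.length R Y).toNat : ℤ) := by
  have h1 := length_ker_add_range f
  have h2 : Module.length R Z = Module.length R (LinearMap.range f) +
      Module.length R (Z ⧸ LinearMap.range f) :=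
    Module.length_eq_add_of_exact (LinearMap.range f).subtype (LinearMap.range f).mkQ
      (Submodule.subtype_injective _) (Submodule.mkQ_surjective _)
      (LinearMap.exact_subtype_mkQ _)
  have hk : Module.length R (LinearMap.ker f) ≠ ⊤ := by
    intro h0
    apply hY
    rw [h1, h0, top_add]
  have hr : Module.length R (LinearMap.range f) ≠ ⊤ := by
    intro h0
    apply hY
    rw [h1, h0, add_top]
  have hc : Module.length R (Z ⧸ LinearMap.range f) ≠ ⊤ := by
    intro h0
    apply hZ
    rw [h2, h0, add_top]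
  have e1 := congrArg ENat.toNat h1
  have e2 := congrArg ENat.toNat h2
  rw [ENat.toNat_add hk hr] at e1
  rw [ENat.toNat_add hr hc] at e2
  unfold ind kerLen cokLen
  omega

lemma finsum_alt_succ (w : ℤ → ℤ) :
    ∑ᶠ i : ℤ, ((i.negOnePow : ℤˣ) : ℤ) * w (i + 1) =
      - ∑ᶠ i : ℤ, ((i.negOnePow : ℤˣ) : ℤ) * w i := by
  rw [← finsum_comp_equiv (Equiv.addRight (1 : ℤ))
    (f := fun i : ℤ => ((i.negOnePow : ℤˣ) : ℤ) * w i), ← finsum_neg_distrib]
  apply finsum_congr
  intro i
  show _ = -((((i + 1).negOnePow : ℤˣ) : ℤ) * w (i + 1))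
  rw [Int.negOnePow_succ, Units.val_neg]
  ring

end algebra

variable {A : Type u} [CommRing A]

section ses

variable (T : ShortComplex (CochainComplex (ModuleCat.{u} A) ℤ)) (hT : T.ShortExact)

/-- the connecting map of the long exact sequence -/
noncomputable def δs (i : ℤ) : (T.X₃.homology i : ModuleCat.{u} A) →ₗ[A]
    (T.X₁.homology (i + 1) : ModuleCat.{u} A) :=
  (hT.δ i (i + 1) rfl).hom

lemma ses_exact₁ (i : ℤ) : Function.Exact (δs T hT i) (homologyMap T.f (i + 1)).hom :=
  LinearMap.exact_iff.mpr ((ShortComplex.moduleCat_exact_iff_range_eq_ker _).mp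
    (hT.homology_exact₁ i (i + 1) rfl)).symm

include hT in
lemma ses_exact₂ (i : ℤ) : Function.Exact (homologyMap T.f i).hom (homologyMap T.g i).hom :=
  LinearMap.exact_iff.mpr ((ShortComplex.moduleCat_exact_iff_range_eq_ker _).mp
    (hT.homology_exact₂ i)).symm

lemma ses_exact₃ (i : ℤ) : Function.Exact (homologyMap T.g i).hom (δs T hT i) :=
  LinearMap.exact_iff.mpr ((ShortComplex.moduleCat_exact_iff_range_eq_ker _).mp
    (hT.homology_exact₃ i (i + 1) rfl)).symm

lemma chi_support_finite (K : CochainComplex (ModuleCat.{u} A) ℤ) (a b : ℤ)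
    (h : ∀ i, i ∉ Set.Icc a b → IsZero (K.homology i)) :
    (Function.support fun i : ℤ =>
      ((i.negOnePow : ℤˣ) : ℤ) * ((Module.length A (K.homology i)).toNat : ℤ)).Finite := by
  apply (Set.finite_Icc a b).subset
  intro i hi
  by_contra hni
  apply hi
  haveI : Subsingleton (K.homology i : ModuleCat.{u} A) :=
    ModuleCat.subsingleton_of_isZero (h i hni)
  show ((i.negOnePow : ℤˣ) : ℤ) * ((Module.length A (K.homology i)).toNat : ℤ) = 0
  rw [Module.length_eq_zero]
  simp

include hT in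
theorem chi_ses (a b : ℤ) (h1 : ∀ i, i ∉ Set.Icc a b → IsZero (T.X₁.homology i))
    (h2 : ∀ i, i ∉ Set.Icc a b → IsZero (T.X₂.homology i))
    (f1 : ∀ i, Module.length A (T.X₁.homology i) ≠ ⊤)
    (f2 : ∀ i, Module.length A (T.X₂.homology i) ≠ ⊤)
    (f3 : ∀ i, Module.length A (T.X₃.homology i) ≠ ⊤) :
    chi T.X₂ = chi T.X₁ + chi T.X₃ := by
  have key : chi T.X₃ = ∑ᶠ i : ℤ, ((i.negOnePow : ℤˣ) : ℤ) * ind (homologyMap T.f i).hom :=
    euler_triangle (R := A) (Y := fun i => (T.X₁.homology i : ModuleCat.{u} A))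
      (Z := fun i => (T.X₂.homology i : ModuleCat.{u} A))
      (X := fun i => (T.X₃.homology i : ModuleCat.{u} A))
      (fun i => (homologyMap T.f i).hom) (fun i => (homologyMap T.g i).hom)
      (fun i => δs T hT i) (ses_exact₂ T hT) (ses_exact₃ T hT) (ses_exact₁ T hT) a b
      (fun i hi => ModuleCat.subsingleton_of_isZero (h1 i hi))
      (fun i hi => ModuleCat.subsingleton_of_isZero (h2 i hi)) f3
  have e : ∑ᶠ i : ℤ, ((i.negOnePow : ℤˣ) : ℤ) * ind (homologyMap T.f i).hom =
      chi T.X₂ - chi T.X₁ := by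
    unfold chi
    rw [← finsum_sub_distrib (chi_support_finite T.X₂ a b h2) (chi_support_finite T.X₁ a b h1)]
    apply finsum_congr
    intro i
    rw [ind_eq_sub _ (f1 i) (f2 i)]
    ring
  rw [e] at key
  omega

end ses

section misc

lemma fl_general [IsNoetherianRing A] (P Q : Type*) [AddCommGroup P] [Module A P]
    [Module.Finite A P] [AddCommGroup Q] [Module A Q] [Module.Finite A Q] (I J : Ideal A)
    (hsub : Module.support A Q ∩ PrimeSpectrum.zeroLocus J ⊆
      Module.support A P ∩ PrimeSpectrum.zeroLocus I)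
    (hP : IsFiniteLength A (P ⧸ (I • (⊤ : Submodule A P)))) :
    IsFiniteLength A (Q ⧸ (J • (⊤ : Submodule A Q))) := by
  apply Groth.Agent.DimLib.isFiniteLength_of_support_isMaximal
  intro p hp
  rw [Module.support_quotient] at hp
  apply Groth.Agent.DimLib.isMaximal_of_mem_support_of_isFiniteLength hP p
  rw [Module.support_quotient]
  exact hsub hp

lemma isZero_homology_of_subsingleton (P : ModuleCat.{u} A) [Subsingleton P] (l : List A)
    (i : ℤ) : IsZero ((CohIII.koszulCx P l).homology i) := by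
  rw [IsZero.iff_id_eq_zero]
  have h0 : 𝟙 P = 0 := by
    ext x
    exact Subsingleton.elim _ _
  have h1 : 𝟙 (CohIII.koszulCx P l) = 0 := by
    rw [← kMap_id, h0, kMap_zero]
  rw [← homologyMap_id, h1, homologyMap_zero]

lemma chi_of_subsingleton (P : ModuleCat.{u} A) [Subsingleton P] (l : List A) :
    chi (CohIII.koszulCx P l) = 0 := by
  unfold chi
  apply finsum_eq_zero_of_forall_eq_zero
  intro i
  haveI : Subsingleton ((CohIII.koszulCx P l).homology i : ModuleCat.{u} A) :=
    ModuleCat.subsingleton_of_isZero (isZero_homology_of_subsingleton P l i)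
  rw [Module.length_eq_zero]
  simp

theorem chi_pow_head (K : CochainComplex (ModuleCat.{u} A) ℤ) (c : A) (a b : ℤ)
    (hK : ∀ i, i ∉ Set.Icc a b → IsZero (K.homology i))
    (hc : ∀ i, Module.length A ((mappingCone (c • 𝟙 K)).homology i) ≠ ⊤) (n : ℕ) :
    chi (mappingCone ((c ^ n) • 𝟙 K)) = (n : ℤ) * chi (mappingCone (c • 𝟙 K)) ∧
      ∀ i, Module.length A ((mappingCone ((c ^ n) • 𝟙 K)).homology i) ≠ ⊤ := by
  induction n with
  | zero =>
    have hid : ∀ i, (homologyMap ((c ^ 0) • 𝟙 K) i).hom = LinearMap.id := by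
      intro i
      rw [pow_zero, one_smul, homologyMap_id, ModuleCat.hom_id]
    have hk : ∀ i, kerLen (homologyMap ((c ^ 0) • 𝟙 K) i).hom ≠ ⊤ := by
      intro i
      rw [hid i, kerLen_of_injective _ (fun _ _ h => h)]
      exact ENat.zero_ne_top
    have hcc : ∀ i, cokLen (homologyMap ((c ^ 0) • 𝟙 K) i).hom ≠ ⊤ := by
      intro i
      rw [hid i, cokLen_of_surjective _ (fun x => ⟨x, rfl⟩)]
      exact ENat.zero_ne_top
    have hfin := cone_length_ne_top ((c ^ 0) • 𝟙 K) hk hcc
    refine ⟨?_, hfin⟩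
    rw [chi_cone _ a b hK hK hfin, Nat.cast_zero, zero_mul]
    apply finsum_eq_zero_of_forall_eq_zero
    intro i
    rw [hid i, ind_of_bijective _ ⟨fun _ _ h => h, fun x => ⟨x, rfl⟩⟩, mul_zero]
  | succ n ih =>
    have h := chi_mul_head K (c ^ n) c a b hK ih.2 hc
    rw [← pow_succ] at h
    refine ⟨?_, h.2⟩
    rw [h.1, ih.1]
    push_cast
    ring

end misc

section northcott

variable [IsNoetherianRing A] (c : A) (l : List A) (M : Type u) [AddCommGroup M] [Module A M]

/-- multiplication by `c`, as a map onto `cM` -/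
noncomputable def pC : M →ₗ[A] ↥(c • (⊤ : Submodule A M)) :=
  (LinearMap.lsmul A M c).codRestrict (c • (⊤ : Submodule A M))
    (fun m => Submodule.smul_mem_pointwise_smul m c ⊤ Submodule.mem_top)

lemma pC_surjective : Function.Surjective (pC c M) := by
  rintro ⟨z, hz⟩
  obtain ⟨m, -, rfl⟩ := (Submodule.mem_smul_pointwise_iff_exists _ _ _).mp hz
  exact ⟨m, Subtype.ext rfl⟩

lemma pC_exact : Function.Exact (LinearMap.ker (LinearMap.lsmul A M c)).subtype (pC c M) := by
  rw [LinearMap.exact_iff, Submodule.range_subtype]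
  exact LinearMap.ker_codRestrict _ _ _

/-- `0 → M[c] → M → cM → 0` -/
noncomputable abbrev S1 : ShortComplex (ModuleCat.{u} A) :=
  shortComplexOf (LinearMap.ker (LinearMap.lsmul A M c)).subtype (pC c M) (pC_exact c M)

lemma S1_exact : (S1 c M).ShortExact :=
  shortComplexOf_shortExact _ _ (Submodule.subtype_injective _) (pC_surjective c M)
    (pC_exact c M)

/-- `0 → cM → M → M/cM → 0` -/
noncomputable abbrev S2 : ShortComplex (ModuleCat.{u} A) :=
  shortComplexOf (c • (⊤ : Submodule A M)).subtype (c • (⊤ : Submodule A M)).mkQ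
    (LinearMap.exact_subtype_mkQ _)

lemma S2_exact : (S2 c M).ShortExact :=
  shortComplexOf_shortExact _ _ (Submodule.subtype_injective _) (Submodule.mkQ_surjective _)
    (LinearMap.exact_subtype_mkQ _)

lemma S1g_S2f : (S1 c M).g ≫ (S2 c M).f = c • 𝟙 (ModuleCat.of A M) := by
  ext m
  rfl

variable [Module.Finite A M]

lemma fl_of_ann (P : Type u) [AddCommGroup P] [Module A P] [Module.Finite A P]
    (hsupp : Module.support A P ⊆ Module.support A M) (hc : ∀ z : P, c • z = 0)
    (hfl : IsFiniteLength A (M ⧸ (Ideal.span {a : A | a ∈ c :: l} • (⊤ : Submodule A M)))) :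
    IsFiniteLength A (P ⧸ (Ideal.span {a : A | a ∈ l} • (⊤ : Submodule A P))) := by
  apply fl_general M P _ _ _ hfl
  rintro p ⟨hp1, hp2⟩
  refine ⟨hsupp hp1, ?_⟩
  rw [PrimeSpectrum.mem_zeroLocus] at hp2 ⊢
  have hcp : c ∈ p.asIdeal := by
    rw [Module.mem_support_iff_of_finite] at hp1
    apply hp1
    rw [Module.mem_annihilator]
    exact hc
  have : Ideal.span {a : A | a ∈ c :: l} ≤ p.asIdeal := by
    rw [Ideal.span_le]
    intro a ha
    rcases List.mem_cons.mp ha with rfl | ha
    · exact hcp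
    · exact hp2 (Ideal.subset_span ha)
  exact this

theorem northcott
    (hfl : IsFiniteLength A (M ⧸ (Ideal.span {a : A | a ∈ c :: l} • (⊤ : Submodule A M)))) :
    chi (CohIII.koszulCx (ModuleCat.of A M) (c :: l)) =
      chi (CohIII.koszulCx (ModuleCat.of A (M ⧸ c • (⊤ : Submodule A M))) l) -
        chi (CohIII.koszulCx
          (ModuleCat.of A ↥(LinearMap.ker (LinearMap.lsmul A M c))) l) := by
  set K := CohIII.koszulCx (ModuleCat.of A M) l with hKdef
  have hT1 := kSC_shortExact (S1 c M) (S1_exact c M) l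
  have hT2 := kSC_shortExact (S2 c M) (S2_exact c M) l
  have hb : ∀ (N : ModuleCat.{u} A) (i : ℤ), i ∉ Set.Icc (-(l.length : ℤ)) 0 →
      IsZero ((CohIII.koszulCx N l).homology i) := fun N => isZero_homology_koszulCx N l
  -- finite lengths
  have hflT : IsFiniteLength A (↥(LinearMap.ker (LinearMap.lsmul A M c)) ⧸
      (Ideal.span {a : A | a ∈ l} •
        (⊤ : Submodule A ↥(LinearMap.ker (LinearMap.lsmul A M c))))) :=
    fl_of_ann c l M _ (Module.support_subset_of_injective _ (Submodule.subtype_injective _))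
      (fun z => Subtype.ext (LinearMap.mem_ker.mp z.2)) hfl
  have hflQ : IsFiniteLength A ((M ⧸ c • (⊤ : Submodule A M)) ⧸
      (Ideal.span {a : A | a ∈ l} • (⊤ : Submodule A (M ⧸ c • (⊤ : Submodule A M))))) :=
    fl_of_ann c l M _ (Module.support_subset_of_surjective _ (Submodule.mkQ_surjective _))
      (fun z => by
        obtain ⟨m, rfl⟩ := Submodule.mkQ_surjective _ z
        rw [← map_smul]
        exact (Submodule.Quotient.mk_eq_zero _).mpr
          (Submodule.smul_mem_pointwise_smul m c ⊤ Submodule.mem_top)) hfl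
  have f1 : ∀ i, Module.length A ((CohIII.koszulCx
      (ModuleCat.of A ↥(LinearMap.ker (LinearMap.lsmul A M c))) l).homology i) ≠ ⊤ :=
    fun i => Module.length_ne_top_iff.mpr (finiteLength_homology _ l hflT i)
  have fQ : ∀ i, Module.length A ((CohIII.koszulCx
      (ModuleCat.of A (M ⧸ c • (⊤ : Submodule A M))) l).homology i) ≠ ⊤ :=
    fun i => Module.length_ne_top_iff.mpr (finiteLength_homology _ l hflQ i)
  -- the two triangles
  have eQ : chi (CohIII.koszulCx (ModuleCat.of A (M ⧸ c • (⊤ : Submodule A M))) l) =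
      ∑ᶠ i : ℤ, ((i.negOnePow : ℤˣ) : ℤ) * ind (homologyMap (kMap (S2 c M).f l) i).hom :=
    euler_triangle (R := A)
      (Y := fun i => ((kSC (S2 c M) l).X₁.homology i : ModuleCat.{u} A))
      (Z := fun i => ((kSC (S2 c M) l).X₂.homology i : ModuleCat.{u} A))
      (X := fun i => ((kSC (S2 c M) l).X₃.homology i : ModuleCat.{u} A))
      (fun i => (homologyMap (kSC (S2 c M) l).f i).hom)
      (fun i => (homologyMap (kSC (S2 c M) l).g i).hom)
      (fun i => δs (kSC (S2 c M) l) hT2 i) (ses_exact₂ _ hT2) (ses_exact₃ _ hT2)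
      (ses_exact₁ _ hT2) (-(l.length : ℤ)) 0
      (fun i hi => ModuleCat.subsingleton_of_isZero (hb _ i hi))
      (fun i hi => ModuleCat.subsingleton_of_isZero (hb _ i hi)) fQ
  have k2 : ∀ i, kerLen (homologyMap (kMap (S2 c M).f l) i).hom ≠ ⊤ :=
    kerLen_ne_top (R := A)
      (Y := fun i => ((kSC (S2 c M) l).X₁.homology i : ModuleCat.{u} A))
      (Z := fun i => ((kSC (S2 c M) l).X₂.homology i : ModuleCat.{u} A))
      (X := fun i => ((kSC (S2 c M) l).X₃.homology i : ModuleCat.{u} A))
      (fun i => (homologyMap (kSC (S2 c M) l).f i).hom)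
      (fun i => (homologyMap (kSC (S2 c M) l).g i).hom)
      (fun i => δs (kSC (S2 c M) l) hT2 i) (ses_exact₂ _ hT2) (ses_exact₃ _ hT2)
      (ses_exact₁ _ hT2) fQ
  have c2 : ∀ i, cokLen (homologyMap (kMap (S2 c M).f l) i).hom ≠ ⊤ :=
    cokLen_ne_top (R := A)
      (Y := fun i => ((kSC (S2 c M) l).X₁.homology i : ModuleCat.{u} A))
      (Z := fun i => ((kSC (S2 c M) l).X₂.homology i : ModuleCat.{u} A))
      (X := fun i => ((kSC (S2 c M) l).X₃.homology i : ModuleCat.{u} A))
      (fun i => (homologyMap (kSC (S2 c M) l).f i).hom)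
      (fun i => (homologyMap (kSC (S2 c M) l).g i).hom)
      (fun i => δs (kSC (S2 c M) l) hT2 i) (ses_exact₂ _ hT2) (ses_exact₃ _ hT2)
      (ses_exact₁ _ hT2) fQ
  have e1 : ∑ᶠ i : ℤ, ((i.negOnePow : ℤˣ) : ℤ) * ((Module.length A ((CohIII.koszulCx
      (ModuleCat.of A ↥(LinearMap.ker (LinearMap.lsmul A M c))) l).homology (i + 1))).toNat : ℤ) =
      ∑ᶠ i : ℤ, ((i.negOnePow : ℤˣ) : ℤ) * ind (homologyMap (kMap (S1 c M).g l) i).hom :=
    euler_triangle (R := A)
      (Y := fun i => ((kSC (S1 c M) l).X₂.homology i : ModuleCat.{u} A))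
      (Z := fun i => ((kSC (S1 c M) l).X₃.homology i : ModuleCat.{u} A))
      (X := fun i => ((kSC (S1 c M) l).X₁.homology (i + 1) : ModuleCat.{u} A))
      (fun i => (homologyMap (kSC (S1 c M) l).g i).hom)
      (fun i => δs (kSC (S1 c M) l) hT1 i)
      (fun i => (homologyMap (kSC (S1 c M) l).f (i + 1)).hom)
      (ses_exact₃ _ hT1) (ses_exact₁ _ hT1) (fun i => ses_exact₂ _ hT1 (i + 1))
      (-(l.length : ℤ)) 0
      (fun i hi => ModuleCat.subsingleton_of_isZero (hb _ i hi))
      (fun i hi => ModuleCat.subsingleton_of_isZero (hb _ i hi)) (fun i => f1 (i + 1))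
  have k1 : ∀ i, kerLen (homologyMap (kMap (S1 c M).g l) i).hom ≠ ⊤ :=
    kerLen_ne_top (R := A)
      (Y := fun i => ((kSC (S1 c M) l).X₂.homology i : ModuleCat.{u} A))
      (Z := fun i => ((kSC (S1 c M) l).X₃.homology i : ModuleCat.{u} A))
      (X := fun i => ((kSC (S1 c M) l).X₁.homology (i + 1) : ModuleCat.{u} A))
      (fun i => (homologyMap (kSC (S1 c M) l).g i).hom)
      (fun i => δs (kSC (S1 c M) l) hT1 i)
      (fun i => (homologyMap (kSC (S1 c M) l).f (i + 1)).hom)
      (ses_exact₃ _ hT1) (ses_exact₁ _ hT1) (fun i => ses_exact₂ _ hT1 (i + 1))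
      (fun i => f1 (i + 1))
  have c1 : ∀ i, cokLen (homologyMap (kMap (S1 c M).g l) i).hom ≠ ⊤ :=
    cokLen_ne_top (R := A)
      (Y := fun i => ((kSC (S1 c M) l).X₂.homology i : ModuleCat.{u} A))
      (Z := fun i => ((kSC (S1 c M) l).X₃.homology i : ModuleCat.{u} A))
      (X := fun i => ((kSC (S1 c M) l).X₁.homology (i + 1) : ModuleCat.{u} A))
      (fun i => (homologyMap (kSC (S1 c M) l).g i).hom)
      (fun i => δs (kSC (S1 c M) l) hT1 i)
      (fun i => (homologyMap (kSC (S1 c M) l).f (i + 1)).hom)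
      (ses_exact₃ _ hT1) (ses_exact₁ _ hT1) (fun i => ses_exact₂ _ hT1 (i + 1))
      (fun i => f1 (i + 1))
  have e1' : ∑ᶠ i : ℤ, ((i.negOnePow : ℤˣ) : ℤ) * ind (homologyMap (kMap (S1 c M).g l) i).hom =
      - chi (CohIII.koszulCx (ModuleCat.of A ↥(LinearMap.ker (LinearMap.lsmul A M c))) l) := by
    rw [← e1]
    exact finsum_alt_succ (fun i => ((Module.length A ((CohIII.koszulCx
      (ModuleCat.of A ↥(LinearMap.ker (LinearMap.lsmul A M c))) l).homology i)).toNat : ℤ))
  -- composition
  have hcomp : ∀ i, (homologyMap (c • 𝟙 K) i).hom =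
      (homologyMap (kMap (S2 c M).f l) i).hom ∘ₗ (homologyMap (kMap (S1 c M).g l) i).hom := by
    intro i
    have h0 : kMap (S1 c M).g l ≫ kMap (S2 c M).f l = c • 𝟙 K :=
      (kMap_comp (S1 c M).g (S2 c M).f l).symm.trans
        ((congrArg (fun t : (S1 c M).X₂ ⟶ (S2 c M).X₂ => kMap t l) (S1g_S2f c M)).trans
          (kMap_smul_id (ModuleCat.of A M) c l))
    have h2 : homologyMap (c • 𝟙 K) i =
        homologyMap (kMap (S1 c M).g l) i ≫ homologyMap (kMap (S2 c M).f l) i := by
      rw [← h0]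
      exact homologyMap_comp _ _ i
    rw [h2]
    exact ModuleCat.hom_comp _ _
  have hcone : ∀ i, Module.length A ((mappingCone (c • 𝟙 K)).homology i) ≠ ⊤ :=
    cone_length_ne_top (c • 𝟙 K)
      (fun i => by
        rw [hcomp i]
        exact ne_top_of_le_ne_top (add_ne_top' (k1 i) (k2 i)) (kerLen_comp_le _ _))
      (fun i => by
        rw [hcomp i]
        exact ne_top_of_le_ne_top (add_ne_top' (c1 i) (c2 i)) (cokLen_comp_le _ _))
  have hs : ∀ (N N' : ModuleCat.{u} A) (g : N ⟶ N'), (Function.support fun i : ℤ =>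
      ((i.negOnePow : ℤˣ) : ℤ) * ind (homologyMap (kMap g l) i).hom).Finite := by
    intro N N' g
    apply (Set.finite_Icc (-(l.length : ℤ)) 0).subset
    intro i hi
    by_contra hni
    apply hi
    haveI : Subsingleton ((CohIII.koszulCx N l).homology i : ModuleCat.{u} A) :=
      ModuleCat.subsingleton_of_isZero (hb N i hni)
    haveI : Subsingleton ((CohIII.koszulCx N' l).homology i : ModuleCat.{u} A) :=
      ModuleCat.subsingleton_of_isZero (hb N' i hni)
    show ((i.negOnePow : ℤˣ) : ℤ) * ind (homologyMap (kMap g l) i).hom = 0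
    rw [ind_eq_zero_of_subsingleton, mul_zero]
  show chi (mappingCone (c • 𝟙 K)) = _
  rw [chi_cone _ (-(l.length : ℤ)) 0 (hb _) (hb _) hcone, eQ, sub_eq_add_neg, ← e1', add_comm,
    ← finsum_add_distrib (hs _ _ _) (hs _ _ _)]
  apply finsum_congr
  intro i
  have hi : ind (homologyMap (c • 𝟙 K) i).hom =
      ind (homologyMap (kMap (S1 c M).g l) i).hom + ind (homologyMap (kMap (S2 c M).f l) i).hom :=
    (congrArg ind (hcomp i)).trans (ind_comp _ _ (k1 i) (c1 i) (k2 i) (c2 i))
  rw [hi]
  ring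

end northcott

section powers

variable [IsNoetherianRing A]

lemma fl_tors (c : A) (l : List A) (M : Type u) [AddCommGroup M] [Module A M] [Module.Finite A M]
    (hfl : IsFiniteLength A (M ⧸ (Ideal.span {a : A | a ∈ c :: l} • (⊤ : Submodule A M)))) :
    IsFiniteLength A (↥(LinearMap.ker (LinearMap.lsmul A M c)) ⧸
      (Ideal.span {a : A | a ∈ l} •
        (⊤ : Submodule A ↥(LinearMap.ker (LinearMap.lsmul A M c))))) :=
  fl_of_ann c l M _ (Module.support_subset_of_injective _ (Submodule.subtype_injective _))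
    (fun z => Subtype.ext (LinearMap.mem_ker.mp z.2)) hfl

lemma fl_quot (c : A) (l : List A) (M : Type u) [AddCommGroup M] [Module A M] [Module.Finite A M]
    (hfl : IsFiniteLength A (M ⧸ (Ideal.span {a : A | a ∈ c :: l} • (⊤ : Submodule A M)))) :
    IsFiniteLength A ((M ⧸ c • (⊤ : Submodule A M)) ⧸
      (Ideal.span {a : A | a ∈ l} • (⊤ : Submodule A (M ⧸ c • (⊤ : Submodule A M))))) :=
  fl_of_ann c l M _ (Module.support_subset_of_surjective _ (Submodule.mkQ_surjective _))
    (fun z => by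
      obtain ⟨m, rfl⟩ := Submodule.mkQ_surjective _ z
      rw [← map_smul]
      exact (Submodule.Quotient.mk_eq_zero _).mpr
        (Submodule.smul_mem_pointwise_smul m c ⊤ Submodule.mem_top)) hfl

theorem chi_pow_cons (x0 : A) (m0 : ℕ) (l' : List A) (M : Type u) [AddCommGroup M] [Module A M]
    [Module.Finite A M]
    (hfl' : IsFiniteLength A (M ⧸ (Ideal.span {a : A | a ∈ x0 :: l'} • (⊤ : Submodule A M)))) :
    chi (CohIII.koszulCx (ModuleCat.of A M) (x0 ^ m0 :: l')) =
      (m0 : ℤ) * chi (CohIII.koszulCx (ModuleCat.of A M) (x0 :: l')) := by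
  have hc : ∀ i, Module.length A
      ((CohIII.koszulCx (ModuleCat.of A M) (x0 :: l')).homology i) ≠ ⊤ :=
    fun i => Module.length_ne_top_iff.mpr
      (finiteLength_homology (ModuleCat.of A M) (x0 :: l') hfl' i)
  exact (chi_pow_head (CohIII.koszulCx (ModuleCat.of A M) l') x0 (-(l'.length : ℤ)) 0
    (isZero_homology_koszulCx _ l') hc m0).1

theorem chi_pow (ps : List (A × ℕ)) : ∀ (M : Type u) [AddCommGroup M] [Module A M]
    [Module.Finite A M],
    IsFiniteLength A (M ⧸ (Ideal.span {a : A | a ∈ ps.map Prod.fst} • (⊤ : Submodule A M))) →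
    chi (CohIII.koszulCx (ModuleCat.of A M) (ps.map fun p => p.1 ^ p.2)) =
      (ps.map fun p => (p.2 : ℤ)).prod *
        chi (CohIII.koszulCx (ModuleCat.of A M) (ps.map Prod.fst)) := by
  induction ps with
  | nil =>
    intro M _ _ _ _
    simp only [List.map_nil, List.prod_nil, one_mul]
  | cons q ps ih =>
    obtain ⟨x0, m0⟩ := q
    intro M _ _ _ hfl
    simp only [List.map_cons, List.prod_cons] at hfl ⊢
    have hfl' : IsFiniteLength A (M ⧸ (Ideal.span
        {a : A | a ∈ x0 :: ps.map fun p => p.1 ^ p.2} • (⊤ : Submodule A M))) := by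
      apply fl_general M M _ _ _ hfl
      rintro p ⟨hp1, hp2⟩
      refine ⟨hp1, ?_⟩
      rw [PrimeSpectrum.mem_zeroLocus] at hp2 ⊢
      have : Ideal.span {a : A | a ∈ x0 :: ps.map Prod.fst} ≤ p.asIdeal := by
        rw [Ideal.span_le]
        intro a ha
        rcases List.mem_cons.mp ha with rfl | ha
        · exact hp2 (Ideal.subset_span List.mem_cons_self)
        · obtain ⟨q, hq, rfl⟩ := List.mem_map.mp ha
          apply p.isPrime.mem_of_pow_mem q.2
          exact hp2 (Ideal.subset_span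
            (List.mem_cons_of_mem _ (List.mem_map.mpr ⟨q, hq, rfl⟩)))
      exact this
    have step1' := chi_pow_cons x0 m0 _ M hfl'
    have step2 := northcott x0 _ M hfl'
    have step4 := northcott x0 _ M hfl
    have ihQ := ih (M ⧸ x0 • (⊤ : Submodule A M)) (fl_quot x0 _ M hfl)
    have ihT := ih ↥(LinearMap.ker (LinearMap.lsmul A M x0)) (fl_tors x0 _ M hfl)
    rw [step1', step2, ihQ, ihT, step4]
    ring

theorem main8152 (k : ℕ) (x : Fin k → A) (m : Fin k → ℕ) (M : Type u) [AddCommGroup M]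
    [Module A M] [Module.Finite A M]
    (hfl : IsFiniteLength A (M ⧸ (Ideal.span (Set.range x) • (⊤ : Submodule A M)))) :
    (∑ᶠ i : ℤ, ((i.negOnePow : ℤˣ) : ℤ) * ((Module.length A ((DRing.tensorCx (Koszul.koszul A (List.ofFn fun j => x j ^ m j)) (ModuleCat.of A M)).homology i)).toNat : ℤ)) =
      (∏ j, (m j : ℤ)) * (∑ᶠ i : ℤ, ((i.negOnePow : ℤˣ) : ℤ) * ((Module.length A ((DRing.tensorCx (Koszul.koszul A (List.ofFn x)) (ModuleCat.of A M)).homology i)).toNat : ℤ)) := by
  have h1 : (List.ofFn fun j => (x j, m j)).map Prod.fst = List.ofFn x := by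
    rw [List.map_ofFn]
    rfl
  have h2 : ((List.ofFn fun j => (x j, m j)).map fun p => p.1 ^ p.2) =
      List.ofFn fun j => x j ^ m j := by
    rw [List.map_ofFn]
    rfl
  have h3 : ((List.ofFn fun j => (x j, m j)).map fun p => (p.2 : ℤ)).prod = ∏ j, (m j : ℤ) := by
    rw [List.map_ofFn, List.prod_ofFn]
    rfl
  have hset : {a : A | a ∈ List.ofFn x} = Set.range x := by
    ext a
    simp [List.mem_ofFn]
  have hfl' : IsFiniteLength A (M ⧸ (Ideal.span
      {a : A | a ∈ (List.ofFn fun j => (x j, m j)).map Prod.fst} • (⊤ : Submodule A M))) := by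
    rw [h1, hset]
    exact hfl
  have key := chi_pow (List.ofFn fun j => (x j, m j)) M hfl'
  rw [h1, h2, h3] at key
  show chi (DRing.tensorCx (Koszul.koszul A (List.ofFn fun j => x j ^ m j)) (ModuleCat.of A M)) =
    (∏ j, (m j : ℤ)) * chi (DRing.tensorCx (Koszul.koszul A (List.ofFn x)) (ModuleCat.of A M))
  rw [chi_tensor, chi_tensor]
  exact key

end powers

end Groth.Agent.Lib.KoszulEuler2_helper6
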