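import Mathlib
import Groth.Agent.Lib.KoszulEuler2_helper6

/-!
# Euler characteristics of Koszul complexes III: vanishing and positivity (helper6)
-/

set_option autoImplicit false
universe u
open CategoryTheory CategoryTheory.Limits CochainComplex HomologicalComplex
open scoped Pointwise

namespace Groth.Agent.Lib.KoszulEuler3_helper6

open Groth.Agent.Lib.LenIndex_helper6 Groth.Agent.Lib.KoszulLim_helper6
  Groth.Agent.Lib.KoszulLim2_helper6 Groth.Agent.Lib.KoszulEuler_helper6
  Groth.Agent.Lib.KoszulEuler2_helper6 Groth.Agent.DepthLib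

section withbot

lemma wb_lt_of_add_one_lt (x : WithBot ℕ∞) (n : ℕ)
    (h : x + 1 < ((n : ℕ) : WithBot ℕ∞) + 1) : x < ((n : ℕ) : WithBot ℕ∞) := by
  induction x using WithBot.recBotCoe with
  | bot =>
    rw [bot_lt_iff_ne_bot]
    exact WithBot.natCast_ne_bot n
  | coe e =>
    have h' : (e + 1 : ℕ∞) < (n : ℕ∞) + 1 := by exact_mod_cast h
    have h'' : e < (n : ℕ∞) := (ENat.add_lt_add_iff_right ENat.one_ne_top).mp h'
    exact_mod_cast h''

lemma wb_eq_of_add_one_eq (x : WithBot ℕ∞) (n : ℕ)
    (h : x + 1 = ((n : ℕ) : WithBot ℕ∞) + 1) : x = ((n : ℕ) : WithBot ℕ∞) := by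
  induction x using WithBot.recBotCoe with
  | bot =>
    exfalso
    rw [WithBot.bot_add] at h
    have : (((n + 1 : ℕ)) : WithBot ℕ∞) ≠ ⊥ := WithBot.natCast_ne_bot _
    apply this
    rw [Nat.cast_succ]
    exact h.symm
  | coe e =>
    have h' : (e + 1 : ℕ∞) = (n : ℕ∞) + 1 := by exact_mod_cast h
    have h'' : e = (n : ℕ∞) := ENat.add_left_injective_of_ne_top ENat.one_ne_top h'
    rw [h'']
    rfl

lemma wb_lt_succ (n : ℕ) : ((n : ℕ) : WithBot ℕ∞) < ((n : ℕ) : WithBot ℕ∞) + 1 := by
  have : ((n : ℕ) : WithBot ℕ∞) < ((n + 1 : ℕ) : WithBot ℕ∞) := by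
    exact_mod_cast Nat.lt_succ_self n
  rwa [Nat.cast_succ] at this

end withbot

variable {A : Type u} [CommRing A]

section nil

lemma chi_nil (M : ModuleCat.{u} A) :
    chi (CohIII.koszulCx M []) = ((Module.length A M).toNat : ℤ) := by
  show chi ((HomologicalComplex.single (ModuleCat.{u} A) (ComplexShape.up ℤ) 0).obj M) = _
  unfold chi
  rw [finsum_eq_single _ 0]
  · rw [(HomologicalComplex.singleObjHomologySelfIso (ComplexShape.up ℤ) 0
      M).toLinearEquiv.length_eq]
    simp
  · intro i hi
    haveI : Subsingleton (((HomologicalComplex.single (ModuleCat.{u} A) (ComplexShape.up ℤ)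
        0).obj M).homology i : ModuleCat.{u} A) :=
      ModuleCat.subsingleton_of_isZero
        (Groth.Agent.Lib.KoszulDepthH7.isZero_homology_of_isZero_X _ i
          (HomologicalComplex.isZero_single_obj_X (ComplexShape.up ℤ) 0 M i hi))
    rw [Module.length_eq_zero]
    simp

lemma fl_of_nil (M : Type u) [AddCommGroup M] [Module A M]
    (h : IsFiniteLength A (M ⧸ (Ideal.span {a : A | a ∈ ([] : List A)} •
      (⊤ : Submodule A M)))) : Module.length A M ≠ ⊤ := by
  have h0 : Ideal.span {a : A | a ∈ ([] : List A)} • (⊤ : Submodule A M) = ⊥ := by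
    simp
  rw [← (Submodule.quotEquivOfEqBot _ h0).length_eq]
  exact Module.length_ne_top_iff.mpr h

end nil

section stable

variable [IsNoetherianRing A]

lemma exists_stable (c : A) (M : Type u) [AddCommGroup M] [Module A M] [Module.Finite A M] :
    ∃ k : ℕ, 1 ≤ k ∧ ∀ z : M, c ^ (k + 1) • z = 0 → c ^ k • z = 0 := by
  haveI : IsNoetherian A M := isNoetherian_of_isNoetherianRing_of_finite A M
  let f : ℕ →o Submodule A M :=
    { toFun := fun n => LinearMap.ker (LinearMap.lsmul A M (c ^ n))
      monotone' := by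
        intro n m hnm z hz
        rw [LinearMap.mem_ker, LinearMap.lsmul_apply] at hz ⊢
        rw [← Nat.sub_add_cancel hnm, pow_add, mul_smul, hz, smul_zero] }
  obtain ⟨n, hn⟩ := monotone_stabilizes_iff_noetherian.mpr inferInstance f
  refine ⟨n + 1, Nat.le_add_left 1 n, ?_⟩
  intro z hz
  have h1 : z ∈ f (n + 1 + 1) := by
    show z ∈ LinearMap.ker (LinearMap.lsmul A M (c ^ (n + 1 + 1)))
    rw [LinearMap.mem_ker, LinearMap.lsmul_apply]
    exact hz
  rw [← hn (n + 1 + 1) (by omega), hn (n + 1) (by omega)] at h1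
  have h2 : z ∈ LinearMap.ker (LinearMap.lsmul A M (c ^ (n + 1))) := h1
  rw [LinearMap.mem_ker, LinearMap.lsmul_apply] at h2
  exact h2

lemma regular_quot (c : A) (k : ℕ) (M : Type u) [AddCommGroup M] [Module A M]
    (hst : ∀ z : M, c ^ (k + 1) • z = 0 → c ^ k • z = 0) :
    IsSMulRegular (M ⧸ LinearMap.ker (LinearMap.lsmul A M (c ^ k))) c := by
  rw [isSMulRegular_iff_right_eq_zero_of_smul]
  intro z hz
  obtain ⟨m, rfl⟩ := Submodule.mkQ_surjective _ z
  rw [Submodule.mkQ_apply] at hz ⊢
  rw [← Submodule.Quotient.mk_smul, Submodule.Quotient.mk_eq_zero, LinearMap.mem_ker,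
    LinearMap.lsmul_apply] at hz
  rw [Submodule.Quotient.mk_eq_zero, LinearMap.mem_ker, LinearMap.lsmul_apply]
  apply hst
  rw [pow_succ, mul_smul]
  exact hz

theorem chi_of_pow_kills (c : A) (l : List A) (N : Type u) [AddCommGroup N] [Module A N]
    [Module.Finite A N] (k : ℕ) (hN : ∀ z : N, c ^ k • z = 0)
    (hfl : IsFiniteLength A (N ⧸ (Ideal.span {a : A | a ∈ c :: l} • (⊤ : Submodule A N)))) :
    chi (CohIII.koszulCx (ModuleCat.of A N) (c :: l)) = 0 ∧
      IsFiniteLength A (N ⧸ (Ideal.span {a : A | a ∈ l} • (⊤ : Submodule A N))) := by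
  have hcp : ∀ p ∈ Module.support A N, c ∈ p.asIdeal := by
    intro p hp
    rw [Module.mem_support_iff_of_finite] at hp
    apply p.isPrime.mem_of_pow_mem k
    apply hp
    rw [Module.mem_annihilator]
    exact hN
  have hfl0 : IsFiniteLength A (N ⧸ (Ideal.span {a : A | a ∈ l} • (⊤ : Submodule A N))) := by
    apply fl_general N N _ _ _ hfl
    rintro p ⟨hp1, hp2⟩
    refine ⟨hp1, ?_⟩
    rw [PrimeSpectrum.mem_zeroLocus] at hp2 ⊢
    have : Ideal.span {a : A | a ∈ c :: l} ≤ p.asIdeal := by
      rw [Ideal.span_le]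
      intro a ha
      rcases List.mem_cons.mp ha with rfl | ha
      · exact hcp p hp1
      · exact hp2 (Ideal.subset_span ha)
    exact this
  refine ⟨?_, hfl0⟩
  set K := CohIII.koszulCx (ModuleCat.of A N) l with hK
  have hfin : ∀ i, Module.length A ((mappingCone (c • 𝟙 K)).homology i) ≠ ⊤ :=
    fun i => Module.length_ne_top_iff.mpr
      (finiteLength_homology (ModuleCat.of A N) (c :: l) hfl i)
  have hfK : ∀ i, Module.length A (K.homology i) ≠ ⊤ :=
    fun i => Module.length_ne_top_iff.mpr (finiteLength_homology (ModuleCat.of A N) l hfl0 i)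
  show chi (mappingCone (c • 𝟙 K)) = 0
  rw [chi_cone _ (-(l.length : ℤ)) 0 (isZero_homology_koszulCx _ l)
    (isZero_homology_koszulCx _ l) hfin]
  apply finsum_eq_zero_of_forall_eq_zero
  intro i
  rw [ind_eq_sub _ (hfK i) (hfK i), sub_self, mul_zero]

theorem chi_cons_reduce (c : A) (l : List A) (M : Type u) [AddCommGroup M] [Module A M]
    [Module.Finite A M] (k : ℕ) (hst : ∀ z : M, c ^ (k + 1) • z = 0 → c ^ k • z = 0)
    (hfl : IsFiniteLength A (M ⧸ (Ideal.span {a : A | a ∈ c :: l} • (⊤ : Submodule A M)))) :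
    chi (CohIII.koszulCx (ModuleCat.of A M) (c :: l)) =
      chi (CohIII.koszulCx (ModuleCat.of A
        ((M ⧸ LinearMap.ker (LinearMap.lsmul A M (c ^ k))) ⧸
          c • (⊤ : Submodule A (M ⧸ LinearMap.ker (LinearMap.lsmul A M (c ^ k)))))) l) := by
  set N : Submodule A M := LinearMap.ker (LinearMap.lsmul A M (c ^ k)) with hN
  have hS := shortComplexOf_shortExact N.subtype N.mkQ (Submodule.subtype_injective _)
    (Submodule.mkQ_surjective _) (LinearMap.exact_subtype_mkQ N)
  have hT := kSC_shortExact _ hS (c :: l)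
  have hflN : IsFiniteLength A (↥N ⧸ (Ideal.span {a : A | a ∈ c :: l} •
      (⊤ : Submodule A ↥N))) := by
    apply fl_general M ↥N _ _ _ hfl
    rintro p ⟨hp1, hp2⟩
    exact ⟨Module.support_subset_of_injective _ (Submodule.subtype_injective N) hp1, hp2⟩
  have hflM' : IsFiniteLength A ((M ⧸ N) ⧸ (Ideal.span {a : A | a ∈ c :: l} •
      (⊤ : Submodule A (M ⧸ N)))) := by
    apply fl_general M (M ⧸ N) _ _ _ hfl
    rintro p ⟨hp1, hp2⟩
    exact ⟨Module.support_subset_of_surjective _ (Submodule.mkQ_surjective N) hp1, hp2⟩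
  have hb : ∀ (P : ModuleCat.{u} A) (i : ℤ), i ∉ Set.Icc (-((c :: l).length : ℤ)) 0 →
      IsZero ((CohIII.koszulCx P (c :: l)).homology i) :=
    fun P => isZero_homology_koszulCx P (c :: l)
  have hadd := chi_ses (kSC (shortComplexOf N.subtype N.mkQ (LinearMap.exact_subtype_mkQ N))
    (c :: l)) hT (-((c :: l).length : ℤ)) 0 (hb _) (hb _)
    (fun i => Module.length_ne_top_iff.mpr
      (finiteLength_homology (ModuleCat.of A ↥N) (c :: l) hflN i))
    (fun i => Module.length_ne_top_iff.mpr
      (finiteLength_homology (ModuleCat.of A M) (c :: l) hfl i))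
    (fun i => Module.length_ne_top_iff.mpr
      (finiteLength_homology (ModuleCat.of A (M ⧸ N)) (c :: l) hflM' i))
  have h1 : chi (CohIII.koszulCx (ModuleCat.of A ↥N) (c :: l)) = 0 :=
    (chi_of_pow_kills c l ↥N k
      (fun z => Subtype.ext (by
        have : (z : M) ∈ LinearMap.ker (LinearMap.lsmul A M (c ^ k)) := z.2
        rw [LinearMap.mem_ker, LinearMap.lsmul_apply] at this
        exact this)) hflN).1
  have h2 := northcott c l (M ⧸ N) hflM'
  have hreg := regular_quot c k M hst
  haveI : Subsingleton ↥(LinearMap.ker (LinearMap.lsmul A (M ⧸ N) c)) := by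
    refine ⟨fun a b => ?_⟩
    have ha : (a : M ⧸ N) = 0 :=
      (isSMulRegular_iff_right_eq_zero_of_smul.mp hreg) _ (LinearMap.mem_ker.mp a.2)
    have hb' : (b : M ⧸ N) = 0 :=
      (isSMulRegular_iff_right_eq_zero_of_smul.mp hreg) _ (LinearMap.mem_ker.mp b.2)
    exact Subtype.ext (ha.trans hb'.symm)
  have h3 : chi (CohIII.koszulCx
      (ModuleCat.of A ↥(LinearMap.ker (LinearMap.lsmul A (M ⧸ N) c))) l) = 0 :=
    chi_of_subsingleton _ l
  have hadd' : chi (CohIII.koszulCx (ModuleCat.of A M) (c :: l)) =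
      chi (CohIII.koszulCx (ModuleCat.of A ↥N) (c :: l)) +
        chi (CohIII.koszulCx (ModuleCat.of A (M ⧸ N)) (c :: l)) := hadd
  rw [hadd', h1, h2, h3, zero_add, sub_zero]

end stable

section dim

variable [IsNoetherianRing A]

lemma supportDim_le_max {N M P : Type*} [AddCommGroup N] [Module A N] [AddCommGroup M]
    [Module A M] [AddCommGroup P] [Module A P] (f : N →ₗ[A] M) (g : M →ₗ[A] P)
    (h : Function.Exact f g) (hf : Function.Injective f) (hg : Function.Surjective g) :
    Module.supportDim A M ≤ max (Module.supportDim A N) (Module.supportDim A P) := by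
  show (⨆ p : LTSeries (Module.support A M), (p.length : WithBot ℕ∞)) ≤ _
  apply iSup_le
  intro p
  have hsup := Module.support_of_exact h hf hg
  have hhead : (p.head : PrimeSpectrum A) ∈ Module.support A N ∪ Module.support A P := by
    rw [← hsup]
    exact p.head.2
  rcases hhead with hN | hP
  · let q : LTSeries (Module.support A N) := LTSeries.mk p.length
      (fun i => ⟨(p i).1, Module.mem_support_mono (LTSeries.head_le p i) hN⟩)
      (fun i j hij => p.strictMono hij)
    exact (Order.LTSeries.length_le_krullDim q).trans (le_max_left _ _)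
  · let q : LTSeries (Module.support A P) := LTSeries.mk p.length
      (fun i => ⟨(p i).1, Module.mem_support_mono (LTSeries.head_le p i) hP⟩)
      (fun i j hij => p.strictMono hij)
    exact (Order.LTSeries.length_le_krullDim q).trans (le_max_right _ _)

variable [IsLocalRing A]

lemma supportDim_le_length (l : List A) (hl : ∀ a ∈ l, a ∈ IsLocalRing.maximalIdeal A)
    (P : Type u) [AddCommGroup P] [Module A P] [Module.Finite A P]
    (h : IsFiniteLength A (P ⧸ (Ideal.span {a : A | a ∈ l} • (⊤ : Submodule A P)))) :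
    Module.supportDim A P ≤ (l.length : WithBot ℕ∞) := by
  apply Groth.Agent.DimLib.supportDim_le_of_isFiniteLength_quotient l.get
  · intro i
    rw [IsLocalRing.ringJacobson_eq_maximalIdeal]
    exact hl _ (List.get_mem l i)
  · rw [Set.range_list_get]
    exact h

theorem chi_dim (l : List A) : (∀ a ∈ l, a ∈ IsLocalRing.maximalIdeal A) →
    ∀ (M : Type u) [AddCommGroup M] [Module A M] [Module.Finite A M],
    IsFiniteLength A (M ⧸ (Ideal.span {a : A | a ∈ l} • (⊤ : Submodule A M))) →
    (Module.supportDim A M < (l.length : WithBot ℕ∞) →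
        chi (CohIII.koszulCx (ModuleCat.of A M) l) = 0) ∧
      (Module.supportDim A M = (l.length : WithBot ℕ∞) →
        0 < chi (CohIII.koszulCx (ModuleCat.of A M) l)) := by
  induction l with
  | nil =>
    intro _ M _ _ _ hfl
    have hfin := fl_of_nil M hfl
    rw [chi_nil]
    simp only [List.length_nil, Nat.cast_zero]
    constructor
    · intro h
      have hs : Subsingleton M := by
        by_contra hns
        rw [not_subsingleton_iff_nontrivial] at hns
        haveI : Nonempty (Module.support A M) :=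
          Module.nonempty_support_of_nontrivial.to_subtype
        have h0 : (0 : WithBot ℕ∞) ≤ Module.supportDim A M := Order.krullDim_nonneg
        exact absurd h (not_lt.mpr h0)
      show (((Module.length A M).toNat : ℕ) : ℤ) = 0
      rw [Module.length_eq_zero]
      rfl
    · intro h
      haveI : Nontrivial M := by
        rw [← Module.supportDim_ne_bot_iff_nontrivial A, h]
        exact WithBot.coe_ne_bot
      have hpos : 0 < Module.length A M := Module.length_pos
      have hne : (Module.length A M).toNat ≠ 0 := by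
        rw [Ne, ENat.toNat_eq_zero]
        rintro (h0 | h0)
        · exact absurd h0 hpos.ne'
        · exact hfin h0
      show (0 : ℤ) < (((Module.length A M).toNat : ℕ) : ℤ)
      exact_mod_cast Nat.pos_of_ne_zero hne
  | cons c l ih =>
    intro hl M _ _ _ hfl
    have hc : c ∈ IsLocalRing.maximalIdeal A := hl c List.mem_cons_self
    have hl' : ∀ a ∈ l, a ∈ IsLocalRing.maximalIdeal A :=
      fun a ha => hl a (List.mem_cons_of_mem _ ha)
    obtain ⟨k, -, hst⟩ := exists_stable c M
    have hred := chi_cons_reduce c l M k hst hfl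
    set N : Submodule A M := LinearMap.ker (LinearMap.lsmul A M (c ^ k)) with hN
    have hflN : IsFiniteLength A (↥N ⧸ (Ideal.span {a : A | a ∈ c :: l} •
        (⊤ : Submodule A ↥N))) := by
      apply fl_general M ↥N _ _ _ hfl
      rintro p ⟨hp1, hp2⟩
      exact ⟨Module.support_subset_of_injective _ (Submodule.subtype_injective N) hp1, hp2⟩
    have hflM' : IsFiniteLength A ((M ⧸ N) ⧸ (Ideal.span {a : A | a ∈ c :: l} •
        (⊤ : Submodule A (M ⧸ N)))) := by
      apply fl_general M (M ⧸ N) _ _ _ hfl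
      rintro p ⟨hp1, hp2⟩
      exact ⟨Module.support_subset_of_surjective _ (Submodule.mkQ_surjective N) hp1, hp2⟩
    have hflQ := fl_quot c l (M ⧸ N) hflM'
    obtain ⟨iha, ihb⟩ := ih hl' ((M ⧸ N) ⧸ c • (⊤ : Submodule A (M ⧸ N))) hflQ
    have hreg := regular_quot c k M hst
    have d1 : Module.supportDim A (M ⧸ N) ≤ Module.supportDim A M :=
      Module.supportDim_le_of_surjective N.mkQ (Submodule.mkQ_surjective N)
    have d2 : Module.supportDim A ((M ⧸ N) ⧸ c • (⊤ : Submodule A (M ⧸ N))) + 1 =
        Module.supportDim A (M ⧸ N) :=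
      Module.supportDim_quotSMulTop_succ_eq_supportDim hreg hc
    rw [hred]
    simp only [List.length_cons, Nat.cast_succ]
    constructor
    · intro h
      apply iha
      apply wb_lt_of_add_one_lt
      rw [d2]
      exact lt_of_le_of_lt d1 h
    · intro h
      apply ihb
      apply wb_eq_of_add_one_eq
      rw [d2]
      apply le_antisymm (h ▸ d1)
      have hflN0 := (chi_of_pow_kills c l ↥N k
        (fun z => Subtype.ext (by
          have : (z : M) ∈ LinearMap.ker (LinearMap.lsmul A M (c ^ k)) := z.2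
          rw [LinearMap.mem_ker, LinearMap.lsmul_apply] at this
          exact this)) hflN).2
      have dN : Module.supportDim A ↥N ≤ (l.length : WithBot ℕ∞) :=
        supportDim_le_length l hl' ↥N hflN0
      have dmax := supportDim_le_max N.subtype N.mkQ (LinearMap.exact_subtype_mkQ N)
        (Submodule.subtype_injective N) (Submodule.mkQ_surjective N)
      rw [h] at dmax
      rcases le_max_iff.mp dmax with h1 | h1
      · exact absurd (h1.trans dN) (not_le.mpr (wb_lt_succ l.length))
      · exact h1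

end dim

section mains

variable [IsNoetherianRing A] [IsLocalRing A]

lemma ofFn_data (d : ℕ) (x : Fin d → A) (hx : ∀ j, x j ∈ IsLocalRing.maximalIdeal A)
    (M : Type u) [AddCommGroup M] [Module A M]
    (hfl : IsFiniteLength A (M ⧸ (Ideal.span (Set.range x) • (⊤ : Submodule A M)))) :
    (∀ a ∈ List.ofFn x, a ∈ IsLocalRing.maximalIdeal A) ∧
      IsFiniteLength A (M ⧸ (Ideal.span {a : A | a ∈ List.ofFn x} • (⊤ : Submodule A M))) := by
  have hset : {a : A | a ∈ List.ofFn x} = Set.range x := by
    ext a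
    simp [List.mem_ofFn]
  refine ⟨?_, ?_⟩
  · intro a ha
    rw [List.mem_ofFn] at ha
    obtain ⟨j, rfl⟩ := ha
    exact hx j
  · rw [hset]
    exact hfl

theorem main8153 (d : ℕ) (x : Fin d → A) (hx : ∀ j, x j ∈ IsLocalRing.maximalIdeal A)
    (M : Type u) [AddCommGroup M] [Module A M] [Module.Finite A M]
    (hfl : IsFiniteLength A (M ⧸ (Ideal.span (Set.range x) • (⊤ : Submodule A M))))
    (hdim : Module.supportDim A M < (d : WithBot ℕ∞)) :
    (∑ᶠ i : ℤ, ((i.negOnePow : ℤˣ) : ℤ) * ((Module.length A ((DRing.tensorCx (Koszul.koszul A (List.ofFn x)) (ModuleCat.of A M)).homology i)).toNat : ℤ)) = 0 := by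
  obtain ⟨hl, hfl'⟩ := ofFn_data d x hx M hfl
  have key := (chi_dim (List.ofFn x) hl M hfl').1 (by rw [List.length_ofFn]; exact hdim)
  show chi (DRing.tensorCx (Koszul.koszul A (List.ofFn x)) (ModuleCat.of A M)) = 0
  rw [chi_tensor]
  exact key

theorem main8154 (d : ℕ) (x : Fin d → A) (hx : ∀ j, x j ∈ IsLocalRing.maximalIdeal A)
    (M : Type u) [AddCommGroup M] [Module A M] [Module.Finite A M]
    (hfl : IsFiniteLength A (M ⧸ (Ideal.span (Set.range x) • (⊤ : Submodule A M))))
    (hdim : Module.supportDim A M = (d : WithBot ℕ∞)) :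
    0 < (∑ᶠ i : ℤ, ((i.negOnePow : ℤˣ) : ℤ) * ((Module.length A ((DRing.tensorCx (Koszul.koszul A (List.ofFn x)) (ModuleCat.of A M)).homology i)).toNat : ℤ)) := by
  obtain ⟨hl, hfl'⟩ := ofFn_data d x hx M hfl
  have key := (chi_dim (List.ofFn x) hl M hfl').2 (by rw [List.length_ofFn]; exact hdim)
  show 0 < chi (DRing.tensorCx (Koszul.koszul A (List.ofFn x)) (ModuleCat.of A M))
  rw [chi_tensor]
  exact key

end mains

end Groth.Agent.Lib.KoszulEuler3_helper6
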