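import Mathlib
import Groth.Agent.Lib.KoszulEuler3_helper6

/-!
# Euler characteristics of Koszul complexes IV: the rank formula over a domain (helper6)
-/

set_option autoImplicit false
universe u
open CategoryTheory CategoryTheory.Limits CochainComplex HomologicalComplex
open scoped Pointwise TensorProduct

namespace Groth.Agent.Lib.KoszulEuler4_helper6

open Groth.Agent.Lib.LenIndex_helper6 Groth.Agent.Lib.KoszulLim_helper6
  Groth.Agent.Lib.KoszulLim2_helper6 Groth.Agent.Lib.KoszulEuler_helper6
  Groth.Agent.Lib.KoszulEuler2_helper6 Groth.Agent.Lib.KoszulEuler3_helper6 Groth.Agent.DepthLib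

lemma wb_lt_of_add_one_le (x : WithBot ℕ∞) (n : ℕ) (h : x + 1 ≤ ((n : ℕ) : WithBot ℕ∞)) :
    x < ((n : ℕ) : WithBot ℕ∞) := by
  induction x using WithBot.recBotCoe with
  | bot =>
    rw [bot_lt_iff_ne_bot]
    exact WithBot.natCast_ne_bot n
  | coe e =>
    have h' : (e + 1 : ℕ∞) ≤ (n : ℕ∞) := by exact_mod_cast h
    have he : e ≠ ⊤ := by
      rintro rfl
      rw [top_add, top_le_iff] at h'
      exact ENat.coe_ne_top n h'
    have h'' : e < (n : ℕ∞) := (ENat.add_one_le_iff he).mp h'
    exact_mod_cast h''

variable {A : Type u} [CommRing A]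

section iso

/-- `chi` is invariant under isomorphisms of modules -/
lemma chi_equiv {N N' : Type u} [AddCommGroup N] [Module A N] [AddCommGroup N'] [Module A N']
    (e : N ≃ₗ[A] N') (l : List A) :
    chi (CohIII.koszulCx (ModuleCat.of A N) l) = chi (CohIII.koszulCx (ModuleCat.of A N') l) := by
  apply chi_congr
  exact
    { hom := kMap e.toModuleIso.hom l
      inv := kMap e.toModuleIso.inv l
      hom_inv_id := by rw [← kMap_comp, Iso.hom_inv_id, kMap_id]
      inv_hom_id := by rw [← kMap_comp, Iso.inv_hom_id, kMap_id] }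

end iso

section rank

variable (A) [IsDomain A]

lemma rank_exact {N₁ N₂ N₃ : Type u} [AddCommGroup N₁] [Module A N₁] [AddCommGroup N₂]
    [Module A N₂] [AddCommGroup N₃] [Module A N₃] [Module.Finite A N₂]
    (f : N₁ →ₗ[A] N₂) (g : N₂ →ₗ[A] N₃) (hf : Function.Injective f)
    (hg : Function.Surjective g) (hfg : Function.Exact f g) :
    Module.finrank (FractionRing A) (FractionRing A ⊗[A] N₂) =
      Module.finrank (FractionRing A) (FractionRing A ⊗[A] N₁) +
        Module.finrank (FractionRing A) (FractionRing A ⊗[A] N₃) := by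
  haveI : Module.Flat A (FractionRing A) :=
    IsLocalization.flat (FractionRing A) (nonZeroDivisors A)
  have hfK : Function.Injective (f.baseChange (FractionRing A)) :=
    Module.Flat.lTensor_preserves_injective_linearMap (M := FractionRing A) f hf
  have hgK : Function.Surjective (g.baseChange (FractionRing A)) :=
    LinearMap.lTensor_surjective (FractionRing A) hg
  have hex : LinearMap.ker (g.baseChange (FractionRing A)) =
      LinearMap.range (f.baseChange (FractionRing A)) := by
    ext z
    have := Module.Flat.lTensor_exact (FractionRing A) hfg z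
    rw [LinearMap.mem_ker, LinearMap.mem_range]
    exact this
  have h1 := LinearMap.finrank_range_add_finrank_ker (g.baseChange (FractionRing A))
  rw [LinearMap.range_eq_top.mpr hgK, finrank_top, hex, LinearMap.finrank_range_of_inj hfK] at h1
  omega

lemma rank_quot_prime (p : Ideal A) (hp : p ≠ ⊥) :
    Module.finrank (FractionRing A) (FractionRing A ⊗[A] (A ⧸ p)) = 0 := by
  obtain ⟨r, hrp, hr0⟩ := Submodule.exists_mem_ne_zero_of_ne_bot hp
  have hr : algebraMap A (FractionRing A) r ≠ 0 := by
    rw [Ne, map_eq_zero_iff _ (IsFractionRing.injective A (FractionRing A))]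
    exact hr0
  haveI : Subsingleton (FractionRing A ⊗[A] (A ⧸ p)) := by
    have h0 : ∀ z : FractionRing A ⊗[A] (A ⧸ p), z = 0 := by
      intro z
      induction z using TensorProduct.induction_on with
      | zero => rfl
      | tmul t m =>
        have ht : t = r • (t * (algebraMap A (FractionRing A) r)⁻¹) := by
          rw [Algebra.smul_def, mul_comm t, ← mul_assoc, mul_inv_cancel₀ hr, one_mul]
        have hm : r • m = 0 := by
          obtain ⟨a, rfl⟩ := Submodule.mkQ_surjective p m
          rw [Submodule.mkQ_apply, ← Submodule.Quotient.mk_smul, Submodule.Quotient.mk_eq_zero,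
            smul_eq_mul]
          exact p.mul_mem_right a hrp
        rw [ht, TensorProduct.smul_tmul, hm, TensorProduct.tmul_zero]
      | add x y hx hy => rw [hx, hy, add_zero]
    exact ⟨fun a b => (h0 a).trans (h0 b).symm⟩
  exact Module.finrank_zero_of_subsingleton

lemma rank_self : Module.finrank (FractionRing A) (FractionRing A ⊗[A] A) = 1 := by
  rw [(TensorProduct.AlgebraTensorModule.rid A (FractionRing A) (FractionRing A)).finrank_eq,
    Module.finrank_self]

lemma rank_of_subsingleton (N : Type u) [AddCommGroup N] [Module A N] [Subsingleton N] :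
    Module.finrank (FractionRing A) (FractionRing A ⊗[A] N) = 0 := by
  haveI : Subsingleton (FractionRing A ⊗[A] N) := by
    have h0 : ∀ z : FractionRing A ⊗[A] N, z = 0 := by
      intro z
      induction z using TensorProduct.induction_on with
      | zero => rfl
      | tmul t m => rw [Subsingleton.elim m 0, TensorProduct.tmul_zero]
      | add x y hx hy => rw [hx, hy, add_zero]
    exact ⟨fun a b => (h0 a).trans (h0 b).symm⟩
  exact Module.finrank_zero_of_subsingleton

end rank

section sop

variable [IsNoetherianRing A]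

lemma fl_of_sop (I : Ideal A) (hI : IsFiniteLength A (A ⧸ I)) (N : Type u) [AddCommGroup N]
    [Module A N] [Module.Finite A N] : IsFiniteLength A (N ⧸ I • (⊤ : Submodule A N)) := by
  have e : I • (⊤ : Submodule A A) = I := by
    rw [smul_eq_mul, Ideal.mul_top]
  have hP : IsFiniteLength A (A ⧸ I • (⊤ : Submodule A A)) := by
    rw [← Module.length_ne_top_iff, (Submodule.quotEquivOfEq _ _ e).length_eq]
    exact Module.length_ne_top_iff.mpr hI
  apply fl_general A N I I _ hP
  rintro p ⟨-, hp2⟩
  refine ⟨?_, hp2⟩
  rw [Module.mem_support_iff_of_finite]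
  intro r hr
  rw [Module.mem_annihilator] at hr
  have h1 := hr 1
  rw [smul_eq_mul, mul_one] at h1
  rw [h1]
  exact zero_mem _

end sop

section main

variable [IsNoetherianRing A] [IsLocalRing A] [IsDomain A]

theorem main8155 (d : ℕ) (hd : ringKrullDim A = d) (x : Fin d → A)
    (hx : ∀ j, x j ∈ IsLocalRing.maximalIdeal A)
    (hsop : IsFiniteLength A (A ⧸ Ideal.span (Set.range x))) (M : Type u) [AddCommGroup M]
    [Module A M] [Module.Finite A M] :
    (∑ᶠ i : ℤ, ((i.negOnePow : ℤˣ) : ℤ) * ((Module.length A ((DRing.tensorCx (Koszul.koszul A (List.ofFn x)) (ModuleCat.of A M)).homology i)).toNat : ℤ)) =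
      (Module.finrank (FractionRing A) (FractionRing A ⊗[A] M) : ℤ) *
        (∑ᶠ i : ℤ, ((i.negOnePow : ℤˣ) : ℤ) * ((Module.length A ((DRing.tensorCx (Koszul.koszul A (List.ofFn x)) (ModuleCat.of A A)).homology i)).toNat : ℤ)) := by
  show chi (DRing.tensorCx (Koszul.koszul A (List.ofFn x)) (ModuleCat.of A M)) =
    (Module.finrank (FractionRing A) (FractionRing A ⊗[A] M) : ℤ) *
      chi (DRing.tensorCx (Koszul.koszul A (List.ofFn x)) (ModuleCat.of A A))
  rw [chi_tensor, chi_tensor]
  have hset : {a : A | a ∈ List.ofFn x} = Set.range x := by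
    ext a
    simp [List.mem_ofFn]
  have hlm : ∀ a ∈ List.ofFn x, a ∈ IsLocalRing.maximalIdeal A := by
    intro a ha
    rw [List.mem_ofFn] at ha
    obtain ⟨j, rfl⟩ := ha
    exact hx j
  have hlen : (List.ofFn x).length = d := List.length_ofFn
  have hfl : ∀ (N : Type u) [AddCommGroup N] [Module A N] [Module.Finite A N],
      IsFiniteLength A (N ⧸ (Ideal.span {a : A | a ∈ List.ofFn x} • (⊤ : Submodule A N))) := by
    intro N _ _ _
    rw [hset]
    exact fl_of_sop _ hsop N
  have hfin : ∀ (N : Type u) [AddCommGroup N] [Module A N] [Module.Finite A N] (i : ℤ),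
      Module.length A ((CohIII.koszulCx (ModuleCat.of A N) (List.ofFn x)).homology i) ≠ ⊤ := by
    intro N _ _ _ i
    exact Module.length_ne_top_iff.mpr
      (finiteLength_homology (ModuleCat.of A N) (List.ofFn x) (hfl N) i)
  induction ‹Module.Finite A M› using
    IsNoetherianRing.induction_on_isQuotientEquivQuotientPrime A with
  | subsingleton N =>
    rw [chi_of_subsingleton, rank_of_subsingleton A N]
    simp
  | quotient N p f =>
    by_cases hp : p.asIdeal = ⊥
    · have e : N ≃ₗ[A] A := f ≪≫ₗ (Submodule.quotEquivOfEqBot _ hp)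
      rw [chi_equiv e (List.ofFn x),
        (LinearEquiv.baseChange A (FractionRing A) N A e).finrank_eq, rank_self]
      simp
    · have hr : Module.finrank (FractionRing A) (FractionRing A ⊗[A] N) = 0 := by
        rw [(LinearEquiv.baseChange A (FractionRing A) N (A ⧸ p.asIdeal) f).finrank_eq]
        exact rank_quot_prime A p.asIdeal hp
      have hdimN : Module.supportDim A N < ((List.ofFn x).length : WithBot ℕ∞) := by
        rw [Module.supportDim_eq_of_equiv f, Module.supportDim_quotient_eq_ringKrullDim, hlen]
        obtain ⟨r, hrp, hr0⟩ := Submodule.exists_mem_ne_zero_of_ne_bot hp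
        have h1 := ringKrullDim_quotient_succ_le_of_nonZeroDivisor
          (mem_nonZeroDivisors_of_ne_zero hr0)
        rw [hd] at h1
        have hle : Ideal.span {r} ≤ p.asIdeal := by
          rw [Ideal.span_le]
          intro a ha
          rw [Set.mem_singleton_iff.mp ha]
          exact hrp
        have h2 : ringKrullDim (A ⧸ p.asIdeal) ≤ ringKrullDim (A ⧸ Ideal.span {r}) :=
          ringKrullDim_le_of_surjective (Ideal.Quotient.factor hle)
            (Ideal.Quotient.factor_surjective hle)
        apply wb_lt_of_add_one_le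
        exact (add_le_add h2 le_rfl).trans h1
      rw [(chi_dim (List.ofFn x) hlm N (hfl N)).1 hdimN, hr]
      simp
  | exact N₁ N₂ N₃ f g hf hg hfg h₁ h₃ =>
    have hS := shortComplexOf_shortExact f g hf hg hfg
    have hT := kSC_shortExact _ hS (List.ofFn x)
    have hadd := chi_ses (kSC (shortComplexOf f g hfg) (List.ofFn x)) hT
      (-((List.ofFn x).length : ℤ)) 0 (isZero_homology_koszulCx _ _)
      (isZero_homology_koszulCx _ _) (hfin N₁) (hfin N₂) (hfin N₃)
    have hadd' : chi (CohIII.koszulCx (ModuleCat.of A N₂) (List.ofFn x)) =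
        chi (CohIII.koszulCx (ModuleCat.of A N₁) (List.ofFn x)) +
          chi (CohIII.koszulCx (ModuleCat.of A N₃) (List.ofFn x)) := hadd
    rw [hadd', h₁, h₃, rank_exact A f g hf hg hfg]
    push_cast
    ring

end main

end Groth.Agent.Lib.KoszulEuler4_helper6
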