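import Mathlib
import Groth.Agent.Lib.KoszulEuler4_helper6

/-!
# Lengths of Koszul homology of powers of a sequence (helper6)
-/

set_option autoImplicit false
universe u
open CategoryTheory CategoryTheory.Limits CochainComplex HomologicalComplex
open scoped Pointwise

namespace Groth.Agent.Lib.KoszulEuler5_helper6

open Groth.Agent.Lib.LenIndex_helper6 Groth.Agent.Lib.KoszulLim_helper6
  Groth.Agent.Lib.KoszulLim2_helper6 Groth.Agent.Lib.KoszulEuler_helper6
  Groth.Agent.Lib.KoszulEuler2_helper6 Groth.Agent.Lib.KoszulEuler3_helper6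
  Groth.Agent.Lib.KoszulEuler4_helper6 Groth.Agent.DepthLib

section algebra

variable {R : Type*} [CommRing R] {X Y Z : Type*} [AddCommGroup X] [Module R X] [AddCommGroup Y]
  [Module R Y] [AddCommGroup Z] [Module R Z]

lemma kerLen_le (f : Y →ₗ[R] Z) : kerLen f ≤ Module.length R Y :=
  Module.length_le_of_injective (LinearMap.ker f).subtype (Submodule.subtype_injective _)

lemma cokLen_le (f : Y →ₗ[R] Z) : cokLen f ≤ Module.length R Z :=
  Module.length_le_of_surjective (LinearMap.range f).mkQ (Submodule.mkQ_surjective _)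

lemma length_le_of_exact (f : X →ₗ[R] Y) (g : Y →ₗ[R] Z) (h : Function.Exact f g) :
    Module.length R Y ≤ Module.length R X + Module.length R Z := by
  rw [length_ker_add_range g]
  have e : LinearMap.ker g = LinearMap.range f := LinearMap.exact_iff.mp h
  apply add_le_add
  · rw [(LinearEquiv.ofEq _ _ e).length_eq]
    exact Module.length_le_of_surjective f.rangeRestrict f.surjective_rangeRestrict
  · exact Module.length_le_of_injective (LinearMap.range g).subtype
      (Submodule.subtype_injective _)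

end algebra

variable {A : Type u} [CommRing A]

/-- the length of the Koszul cohomology -/
noncomputable abbrev hlen (N : Type u) [AddCommGroup N] [Module A N] (l : List A) (j : ℤ) : ℕ∞ :=
  Module.length A ((CohIII.koszulCx (ModuleCat.of A N) l).homology j)

section complexes

theorem len_ses_le (T : ShortComplex (CochainComplex (ModuleCat.{u} A) ℤ)) (hT : T.ShortExact)
    (j : ℤ) : Module.length A (T.X₂.homology j) ≤
      Module.length A (T.X₁.homology j) + Module.length A (T.X₃.homology j) :=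
  length_le_of_exact _ _ (ses_exact₂ T hT j)

theorem cone_length_eq {K L : CochainComplex (ModuleCat.{u} A) ℤ} (φ : K ⟶ L) (j : ℤ) :
    Module.length A ((mappingCone φ).homology j) =
      cokLen (homologyMap φ j).hom + kerLen (homologyMap φ (j + 1)).hom :=
  length_X (R := A) (Y := fun i => (K.homology i : ModuleCat.{u} A))
    (Z := fun i => (L.homology i : ModuleCat.{u} A))
    (X := fun i => ((mappingCone φ).homology i : ModuleCat.{u} A))
    (fun i => (homologyMap φ i).hom) (fun i => (homologyMap (mappingCone.inr φ) i).hom)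
    (fun i => δc φ i) (cone_exact₂ φ) (cone_exact₃ φ) (cone_exact₁ φ) j

theorem len_cone_le {K L : CochainComplex (ModuleCat.{u} A) ℤ} (φ : K ⟶ L) (j : ℤ) :
    Module.length A ((mappingCone φ).homology j) ≤
      Module.length A (L.homology j) + Module.length A (K.homology (j + 1)) := by
  rw [cone_length_eq]
  exact add_le_add (cokLen_le _) (kerLen_le _)

theorem len_cone_mul_le (K : CochainComplex (ModuleCat.{u} A) ℤ) (x y : A) (j : ℤ) :
    Module.length A ((mappingCone ((x * y) • 𝟙 K)).homology j) ≤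
      Module.length A ((mappingCone (x • 𝟙 K)).homology j) +
        Module.length A ((mappingCone (y • 𝟙 K)).homology j) := by
  rw [cone_length_eq, cone_length_eq, cone_length_eq,
    show (homologyMap ((x * y) • 𝟙 K) j).hom = Φ K y j ∘ₗ Φ K x j from Φ_mul K x y j,
    show (homologyMap ((x * y) • 𝟙 K) (j + 1)).hom = Φ K y (j + 1) ∘ₗ Φ K x (j + 1) from
      Φ_mul K x y (j + 1)]
  calc cokLen (Φ K y j ∘ₗ Φ K x j) + kerLen (Φ K y (j + 1) ∘ₗ Φ K x (j + 1))
      ≤ (cokLen (Φ K x j) + cokLen (Φ K y j)) +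
          (kerLen (Φ K x (j + 1)) + kerLen (Φ K y (j + 1))) :=
        add_le_add (cokLen_comp_le _ _) (kerLen_comp_le _ _)
    _ = _ := add_add_add_comm _ _ _ _

theorem len_cone_pow_le (K : CochainComplex (ModuleCat.{u} A) ℤ) (c : A) (n : ℕ) (j : ℤ) :
    Module.length A ((mappingCone ((c ^ n) • 𝟙 K)).homology j) ≤
      (n : ℕ∞) * Module.length A ((mappingCone (c • 𝟙 K)).homology j) := by
  induction n with
  | zero =>
    have hid : ∀ i, (homologyMap ((c ^ 0) • 𝟙 K) i).hom = LinearMap.id := by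
      intro i
      rw [pow_zero, one_smul, homologyMap_id, ModuleCat.hom_id]
    rw [cone_length_eq, hid j, hid (j + 1), kerLen_of_injective _ (fun _ _ h => h),
      cokLen_of_surjective _ (fun x => ⟨x, rfl⟩)]
    simp
  | succ n ih =>
    have h := len_cone_mul_le K (c ^ n) c j
    rw [← pow_succ] at h
    refine h.trans ?_
    rw [Nat.cast_succ, add_one_mul]
    exact add_le_add ih le_rfl

lemma smul_factor [IsNoetherianRing A] (c : A) (l : List A) (M : Type u) [AddCommGroup M] [Module A M] (i : ℤ) :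
    (homologyMap (c • 𝟙 (CohIII.koszulCx (ModuleCat.of A M) l)) i).hom =
      (homologyMap (kMap (S2 c M).f l) i).hom ∘ₗ (homologyMap (kMap (S1 c M).g l) i).hom := by
  have h0 : kMap (S1 c M).g l ≫ kMap (S2 c M).f l =
      c • 𝟙 (CohIII.koszulCx (ModuleCat.of A M) l) :=
    (kMap_comp (S1 c M).g (S2 c M).f l).symm.trans
      ((congrArg (fun t : (S1 c M).X₂ ⟶ (S2 c M).X₂ => kMap t l) (S1g_S2f c M)).trans
        (kMap_smul_id (ModuleCat.of A M) c l))
  have h2 : homologyMap (c • 𝟙 (CohIII.koszulCx (ModuleCat.of A M) l)) i =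
      homologyMap (kMap (S1 c M).g l) i ≫ homologyMap (kMap (S2 c M).f l) i := by
    rw [← h0]
    exact homologyMap_comp _ _ i
  rw [h2]
  exact ModuleCat.hom_comp _ _

theorem len_cons_le [IsNoetherianRing A] (c : A) (l : List A) (M : Type u) [AddCommGroup M] [Module A M] (j : ℤ) :
    hlen M (c :: l) j ≤ hlen ↥(LinearMap.ker (LinearMap.lsmul A M c)) l (j + 1) +
      hlen (M ⧸ c • (⊤ : Submodule A M)) l j := by
  have hT1 := kSC_shortExact (S1 c M) (S1_exact c M) l
  have hT2 := kSC_shortExact (S2 c M) (S2_exact c M) l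
  have e2 : hlen (M ⧸ c • (⊤ : Submodule A M)) l j =
      cokLen (homologyMap (kMap (S2 c M).f l) j).hom +
        kerLen (homologyMap (kMap (S2 c M).f l) (j + 1)).hom :=
    length_X (R := A)
      (Y := fun i => ((kSC (S2 c M) l).X₁.homology i : ModuleCat.{u} A))
      (Z := fun i => ((kSC (S2 c M) l).X₂.homology i : ModuleCat.{u} A))
      (X := fun i => ((kSC (S2 c M) l).X₃.homology i : ModuleCat.{u} A))
      (fun i => (homologyMap (kSC (S2 c M) l).f i).hom)
      (fun i => (homologyMap (kSC (S2 c M) l).g i).hom)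
      (fun i => δs (kSC (S2 c M) l) hT2 i) (ses_exact₂ _ hT2) (ses_exact₃ _ hT2)
      (ses_exact₁ _ hT2) j
  have e1 : hlen ↥(LinearMap.ker (LinearMap.lsmul A M c)) l (j + 1) =
      cokLen (homologyMap (kMap (S1 c M).g l) j).hom +
        kerLen (homologyMap (kMap (S1 c M).g l) (j + 1)).hom :=
    length_X (R := A)
      (Y := fun i => ((kSC (S1 c M) l).X₂.homology i : ModuleCat.{u} A))
      (Z := fun i => ((kSC (S1 c M) l).X₃.homology i : ModuleCat.{u} A))
      (X := fun i => ((kSC (S1 c M) l).X₁.homology (i + 1) : ModuleCat.{u} A))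
      (fun i => (homologyMap (kSC (S1 c M) l).g i).hom)
      (fun i => δs (kSC (S1 c M) l) hT1 i)
      (fun i => (homologyMap (kSC (S1 c M) l).f (i + 1)).hom)
      (ses_exact₃ _ hT1) (ses_exact₁ _ hT1) (fun i => ses_exact₂ _ hT1 (i + 1)) j
  have e0 : hlen M (c :: l) j =
      cokLen (homologyMap (c • 𝟙 (CohIII.koszulCx (ModuleCat.of A M) l)) j).hom +
        kerLen (homologyMap (c • 𝟙 (CohIII.koszulCx (ModuleCat.of A M) l)) (j + 1)).hom :=
    cone_length_eq (c • 𝟙 (CohIII.koszulCx (ModuleCat.of A M) l)) j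
  have hc : cokLen (homologyMap (c • 𝟙 (CohIII.koszulCx (ModuleCat.of A M) l)) j).hom ≤
      cokLen (homologyMap (kMap (S1 c M).g l) j).hom +
        cokLen (homologyMap (kMap (S2 c M).f l) j).hom := by
    rw [smul_factor c l M j]
    exact cokLen_comp_le _ _
  have hk : kerLen (homologyMap (c • 𝟙 (CohIII.koszulCx (ModuleCat.of A M) l)) (j + 1)).hom ≤
      kerLen (homologyMap (kMap (S1 c M).g l) (j + 1)).hom +
        kerLen (homologyMap (kMap (S2 c M).f l) (j + 1)).hom := by
    rw [smul_factor c l M (j + 1)]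
    exact kerLen_comp_le _ _
  rw [e0, e1, e2]
  exact (add_le_add hc hk).trans (le_of_eq (add_add_add_comm _ _ _ _))

lemma hlen_nil_le (M : Type u) [AddCommGroup M] [Module A M] (j : ℤ) :
    hlen M ([] : List A) j ≤ Module.length A M := by
  by_cases hj : j = 0
  · subst hj
    show Module.length A (((HomologicalComplex.single (ModuleCat.{u} A) (ComplexShape.up ℤ)
      0).obj (ModuleCat.of A M)).homology 0) ≤ _
    rw [(HomologicalComplex.singleObjHomologySelfIso (ComplexShape.up ℤ) 0
      (ModuleCat.of A M)).toLinearEquiv.length_eq]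
  · haveI : Subsingleton (((HomologicalComplex.single (ModuleCat.{u} A) (ComplexShape.up ℤ)
        0).obj (ModuleCat.of A M)).homology j : ModuleCat.{u} A) :=
      ModuleCat.subsingleton_of_isZero
        (Groth.Agent.Lib.KoszulDepthH7.isZero_homology_of_isZero_X _ j
          (HomologicalComplex.isZero_single_obj_X (ComplexShape.up ℤ) 0 (ModuleCat.of A M) j hj))
    show Module.length A (((HomologicalComplex.single (ModuleCat.{u} A) (ComplexShape.up ℤ)
      0).obj (ModuleCat.of A M)).homology j) ≤ _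
    rw [Module.length_eq_zero]
    exact zero_le

lemma hlen_eq_zero_of_subsingleton (P : Type u) [AddCommGroup P] [Module A P] [Subsingleton P]
    (l : List A) (j : ℤ) : hlen P l j = 0 := by
  haveI : Subsingleton ((CohIII.koszulCx (ModuleCat.of A P) l).homology j : ModuleCat.{u} A) :=
    ModuleCat.subsingleton_of_isZero (isZero_homology_of_subsingleton (ModuleCat.of A P) l j)
  exact Module.length_eq_zero

lemma hlen_eq_zero_of_lt (P : Type u) [AddCommGroup P] [Module A P] (l : List A) (j : ℤ)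
    (hj : j < -(l.length : ℤ)) : hlen P l j = 0 := by
  haveI : Subsingleton ((CohIII.koszulCx (ModuleCat.of A P) l).homology j : ModuleCat.{u} A) :=
    ModuleCat.subsingleton_of_isZero (isZero_homology_koszulCx (ModuleCat.of A P) l j
      (fun h => absurd h.1 (not_le.mpr hj)))
  exact Module.length_eq_zero

lemma hlen_equiv {N N' : Type u} [AddCommGroup N] [Module A N] [AddCommGroup N'] [Module A N']
    (e : N ≃ₗ[A] N') (l : List A) (j : ℤ) : hlen N l j = hlen N' l j := by
  have iso : CohIII.koszulCx (ModuleCat.of A N) l ≅ CohIII.koszulCx (ModuleCat.of A N') l :=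
    { hom := kMap e.toModuleIso.hom l
      inv := kMap e.toModuleIso.inv l
      hom_inv_id := by rw [← kMap_comp, Iso.hom_inv_id, kMap_id]
      inv_hom_id := by rw [← kMap_comp, Iso.inv_hom_id, kMap_id] }
  exact (HomologicalComplex.homologyMapIso iso j).toLinearEquiv.length_eq

end complexes

section wb

lemma wb_le_of_add_one_le_succ (x : WithBot ℕ∞) (n : ℕ)
    (h : x + 1 ≤ ((n + 1 : ℕ) : WithBot ℕ∞)) : x ≤ ((n : ℕ) : WithBot ℕ∞) := by
  induction x using WithBot.recBotCoe with
  | bot => exact bot_le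
  | coe e =>
    have h' : (e + 1 : ℕ∞) ≤ ((n + 1 : ℕ) : ℕ∞) := by exact_mod_cast h
    have he : e ≠ ⊤ := by
      rintro rfl
      rw [top_add, top_le_iff] at h'
      exact ENat.coe_ne_top _ h'
    lift e to ℕ using he
    have h'' : e + 1 ≤ n + 1 := by exact_mod_cast h'
    have h3 : e ≤ n := by omega
    exact_mod_cast h3

lemma wb_eq_bot_of_add_one_le_zero (x : WithBot ℕ∞)
    (h : x + 1 ≤ ((0 : ℕ) : WithBot ℕ∞)) : x = ⊥ := by
  induction x using WithBot.recBotCoe with
  | bot => rfl
  | coe e =>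
    exfalso
    have h' : (e + 1 : ℕ∞) ≤ ((0 : ℕ) : ℕ∞) := by exact_mod_cast h
    simp at h'

end wb

section bounds

variable [IsNoetherianRing A]

/-- the list of `n`-th powers -/
abbrev pw (n : ℕ) (l : List A) : List A := l.map (· ^ n)

/-- the exponent in the bound -/
def ex (l : List A) (j : ℤ) : ℕ := ((l.length : ℤ) + j).toNat

lemma ex_cons (c : A) (l : List A) (j : ℤ) : ex (c :: l) j = ex l (j + 1) := by
  unfold ex
  simp only [List.length_cons]
  push_cast
  congr 1
  ring

lemma ex_le (l : List A) (j : ℤ) : ex l j ≤ ex l (j + 1) :=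
  Int.toNat_le_toNat (by linarith)

lemma ex_succ (l : List A) (j : ℤ) (h : 0 ≤ (l.length : ℤ) + j) : ex l (j + 1) = ex l j + 1 := by
  unfold ex
  omega

lemma mul_bound (l : List A) (Q : Type u) [AddCommGroup Q] [Module A Q] (j : ℤ) (C : ℕ)
    (hC : ∀ n : ℕ, 1 ≤ n → hlen Q (pw n l) j ≤ ((C * n ^ ex l j : ℕ) : ℕ∞)) :
    ∃ C' : ℕ, ∀ n : ℕ, 1 ≤ n →
      (n : ℕ∞) * hlen Q (pw n l) j ≤ ((C' * n ^ ex l (j + 1) : ℕ) : ℕ∞) := by
  by_cases h : 0 ≤ (l.length : ℤ) + j
  · refine ⟨C, fun n hn => ?_⟩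
    calc (n : ℕ∞) * hlen Q (pw n l) j ≤ (n : ℕ∞) * ((C * n ^ ex l j : ℕ) : ℕ∞) :=
          mul_le_mul' le_rfl (hC n hn)
      _ = ((C * n ^ ex l (j + 1) : ℕ) : ℕ∞) := by
          rw [ex_succ l j h, ← Nat.cast_mul]
          congr 1
          ring
  · refine ⟨0, fun n hn => ?_⟩
    rw [hlen_eq_zero_of_lt Q (pw n l) j (by rw [List.length_map]; omega)]
    simp

lemma ker_subsingleton_of_regular (c : A) (P : Type u) [AddCommGroup P] [Module A P]
    (hreg : IsSMulRegular P c) : Subsingleton ↥(LinearMap.ker (LinearMap.lsmul A P c)) := by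
  refine ⟨fun a b => ?_⟩
  have ha : (a : P) = 0 :=
    (isSMulRegular_iff_right_eq_zero_of_smul.mp hreg) _ (LinearMap.mem_ker.mp a.2)
  have hb' : (b : P) = 0 :=
    (isSMulRegular_iff_right_eq_zero_of_smul.mp hreg) _ (LinearMap.mem_ker.mp b.2)
  exact Subtype.ext (ha.trans hb'.symm)

/-- for `c` regular on `P`: `ℓ(H^j(c^n :: l; P)) ≤ n ℓ(H^j(l; P/cP))` -/
lemma hlen_regular_le (c : A) (l : List A) (P : Type u) [AddCommGroup P] [Module A P]
    (hreg : IsSMulRegular P c) (n : ℕ) (j : ℤ) :
    hlen P (c ^ n :: l) j ≤ (n : ℕ∞) * hlen (P ⧸ c • (⊤ : Submodule A P)) l j := by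
  haveI := ker_subsingleton_of_regular c P hreg
  have h3 : hlen P (c ^ n :: l) j ≤ (n : ℕ∞) * hlen P (c :: l) j :=
    len_cone_pow_le (CohIII.koszulCx (ModuleCat.of A P) l) c n j
  have h4 := len_cons_le c l P j
  rw [hlen_eq_zero_of_subsingleton ↥(LinearMap.ker (LinearMap.lsmul A P c)) l (j + 1),
    zero_add] at h4
  exact h3.trans (mul_le_mul' le_rfl h4)

theorem bound_pow (l : List A) : ∀ (M : Type u) [AddCommGroup M] [Module A M] [Module.Finite A M],
    IsFiniteLength A (M ⧸ (Ideal.span {a : A | a ∈ l} • (⊤ : Submodule A M))) → ∀ j : ℤ,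
    ∃ C : ℕ, ∀ n : ℕ, 1 ≤ n → hlen M (pw n l) j ≤ ((C * n ^ ex l j : ℕ) : ℕ∞) := by
  induction l with
  | nil =>
    intro M _ _ _ hfl j
    have hfin := fl_of_nil M hfl
    refine ⟨(Module.length A M).toNat, fun n hn => ?_⟩
    have h1 : hlen M (pw n ([] : List A)) j ≤ Module.length A M := hlen_nil_le M j
    refine h1.trans ?_
    have h2 : Module.length A M = (((Module.length A M).toNat : ℕ) : ℕ∞) :=
      (ENat.coe_toNat hfin).symm
    rw [h2]
    have h3 : (Module.length A M).toNat ≤
        (Module.length A M).toNat * n ^ ex ([] : List A) j :=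
      Nat.le_mul_of_pos_right _ (Nat.pow_pos (by omega))
    rw [ENat.toNat_coe]
    exact_mod_cast h3
  | cons c l ih =>
    intro M _ _ _ hfl j
    obtain ⟨k, -, hst⟩ := exists_stable c M
    set N : Submodule A M := LinearMap.ker (LinearMap.lsmul A M (c ^ k)) with hN
    have hflN : IsFiniteLength A (↥N ⧸ (Ideal.span {a : A | a ∈ c :: l} •
        (⊤ : Submodule A ↥N))) := by
      apply fl_general M ↥N _ _ _ hfl
      rintro p ⟨hp1, hp2⟩
      exact ⟨Module.support_subset_of_injective _ (Submodule.subtype_injective N) hp1, hp2⟩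
    have hflM' : IsFiniteLength A ((M ⧸ N) ⧸ (Ideal.span {a : A | a ∈ c :: l} •
        (⊤ : Submodule A (M ⧸ N)))) := by
      apply fl_general M (M ⧸ N) _ _ _ hfl
      rintro p ⟨hp1, hp2⟩
      exact ⟨Module.support_subset_of_surjective _ (Submodule.mkQ_surjective N) hp1, hp2⟩
    have hflN0 := (chi_of_pow_kills c l ↥N k
      (fun z => Subtype.ext (by
        have : (z : M) ∈ LinearMap.ker (LinearMap.lsmul A M (c ^ k)) := z.2
        rw [LinearMap.mem_ker, LinearMap.lsmul_apply] at this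
        exact this)) hflN).2
    have hflQ := fl_quot c l (M ⧸ N) hflM'
    have hreg := regular_quot c k M hst
    obtain ⟨C1, hC1⟩ := ih ↥N hflN0 j
    obtain ⟨C2, hC2⟩ := ih ↥N hflN0 (j + 1)
    obtain ⟨C3, hC3⟩ := ih ((M ⧸ N) ⧸ c • (⊤ : Submodule A (M ⧸ N))) hflQ j
    obtain ⟨C3', hC3'⟩ := mul_bound l _ j C3 hC3
    refine ⟨C1 + C2 + C3', fun n hn => ?_⟩
    show hlen M (c ^ n :: pw n l) j ≤ _
    have hS := shortComplexOf_shortExact N.subtype N.mkQ (Submodule.subtype_injective _)
      (Submodule.mkQ_surjective _) (LinearMap.exact_subtype_mkQ N)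
    have hT := kSC_shortExact _ hS (c ^ n :: pw n l)
    have h1 : hlen M (c ^ n :: pw n l) j ≤
        hlen ↥N (c ^ n :: pw n l) j + hlen (M ⧸ N) (c ^ n :: pw n l) j :=
      len_ses_le _ hT j
    have h2 : hlen ↥N (c ^ n :: pw n l) j ≤ hlen ↥N (pw n l) j + hlen ↥N (pw n l) (j + 1) :=
      len_cone_le (c ^ n • 𝟙 (CohIII.koszulCx (ModuleCat.of A ↥N) (pw n l))) j
    have h3 := hlen_regular_le c (pw n l) (M ⧸ N) hreg n j
    have hp : n ^ ex l j ≤ n ^ ex l (j + 1) := Nat.pow_le_pow_right hn (ex_le l j)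
    have hnum : C1 * n ^ ex l j + C2 * n ^ ex l (j + 1) + C3' * n ^ ex l (j + 1) ≤
        (C1 + C2 + C3') * n ^ ex l (j + 1) := by
      nlinarith [Nat.mul_le_mul_left C1 hp]
    calc hlen M (c ^ n :: pw n l) j
        ≤ (hlen ↥N (pw n l) j + hlen ↥N (pw n l) (j + 1)) +
            (n : ℕ∞) * hlen ((M ⧸ N) ⧸ c • (⊤ : Submodule A (M ⧸ N))) (pw n l) j :=
          h1.trans (add_le_add h2 h3)
      _ ≤ (((C1 * n ^ ex l j : ℕ) : ℕ∞) + ((C2 * n ^ ex l (j + 1) : ℕ) : ℕ∞)) +
            ((C3' * n ^ ex l (j + 1) : ℕ) : ℕ∞) :=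
          add_le_add (add_le_add (hC1 n hn) (hC2 n hn)) (hC3' n hn)
      _ ≤ (((C1 + C2 + C3') * n ^ ex (c :: l) j : ℕ) : ℕ∞) := by
          rw [ex_cons]
          exact_mod_cast hnum

end bounds

section mains

variable [IsNoetherianRing A]

theorem main8156 (k : ℕ) (x : Fin k → A) (M : Type u) [AddCommGroup M] [Module A M]
    [Module.Finite A M]
    (hfl : IsFiniteLength A (M ⧸ (Ideal.span (Set.range x) • (⊤ : Submodule A M))))
    (i : ℕ) (hi : i ≤ k) :
    ∃ c : ℕ, ∀ n : ℕ, 0 < n →
      Module.length A ((DRing.tensorCx (Koszul.koszul A (List.ofFn fun j => x j ^ n)) (ModuleCat.of A M)).homology (-(i : ℤ))) ≤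
        ((c * n ^ (k - i) : ℕ) : ℕ∞) := by
  have hset : {a : A | a ∈ List.ofFn x} = Set.range x := by
    ext a
    simp [List.mem_ofFn]
  have hfl' : IsFiniteLength A (M ⧸ (Ideal.span {a : A | a ∈ List.ofFn x} •
      (⊤ : Submodule A M))) := by
    rw [hset]
    exact hfl
  obtain ⟨C, hC⟩ := bound_pow (List.ofFn x) M hfl' (-(i : ℤ))
  refine ⟨C, fun n hn => ?_⟩
  have h1 : pw n (List.ofFn x) = List.ofFn fun j => x j ^ n := by
    unfold pw
    rw [List.map_ofFn]
    rfl
  have h2 : ex (List.ofFn x) (-(i : ℤ)) = k - i := by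
    unfold ex
    rw [List.length_ofFn]
    omega
  have h3 := hC n hn
  rw [h1, h2] at h3
  rw [(HomologicalComplex.homologyMapIso (tIso (ModuleCat.of A M) _) _).toLinearEquiv.length_eq]
  exact h3

variable [IsLocalRing A]

theorem bound_dim (l : List A) : (∀ a ∈ l, a ∈ IsLocalRing.maximalIdeal A) → ∀ (d : ℕ)
    (M : Type u) [AddCommGroup M] [Module A M] [Module.Finite A M],
    IsFiniteLength A (M ⧸ (Ideal.span {a : A | a ∈ l} • (⊤ : Submodule A M))) →
    Module.supportDim A M ≤ (d : WithBot ℕ∞) → ∀ j : ℤ,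
    ∃ C : ℕ, ∀ n : ℕ, 1 ≤ n → hlen M (pw n l) j ≤ ((C * n ^ d : ℕ) : ℕ∞) := by
  induction l with
  | nil =>
    intro _ d M _ _ _ hfl _ j
    have hfin := fl_of_nil M hfl
    refine ⟨(Module.length A M).toNat, fun n hn => ?_⟩
    have h1 : hlen M (pw n ([] : List A)) j ≤ Module.length A M := hlen_nil_le M j
    refine h1.trans ?_
    have h2 : Module.length A M = (((Module.length A M).toNat : ℕ) : ℕ∞) :=
      (ENat.coe_toNat hfin).symm
    rw [h2]
    have h3 : (Module.length A M).toNat ≤ (Module.length A M).toNat * n ^ d :=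
      Nat.le_mul_of_pos_right _ (Nat.pow_pos (by omega))
    rw [ENat.toNat_coe]
    exact_mod_cast h3
  | cons c l ih =>
    intro hl d M _ _ _
    have hc : c ∈ IsLocalRing.maximalIdeal A := hl c List.mem_cons_self
    have hl' : ∀ a ∈ l, a ∈ IsLocalRing.maximalIdeal A :=
      fun a ha => hl a (List.mem_cons_of_mem _ ha)
    induction ‹Module.Finite A M› using
      IsNoetherianRing.induction_on_isQuotientEquivQuotientPrime A with
    | subsingleton N =>
      intro _ _ j
      refine ⟨0, fun n _ => ?_⟩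
      rw [hlen_eq_zero_of_subsingleton]
      simp
    | quotient N p f =>
      intro hfl hdim j
      have hflB : IsFiniteLength A ((A ⧸ p.asIdeal) ⧸ (Ideal.span {a : A | a ∈ c :: l} •
          (⊤ : Submodule A (A ⧸ p.asIdeal)))) := by
        apply fl_general N (A ⧸ p.asIdeal) _ _ _ hfl
        rintro q ⟨hq1, hq2⟩
        exact ⟨Module.support_subset_of_injective f.symm.toLinearMap f.symm.injective hq1, hq2⟩
      have hdimB : Module.supportDim A (A ⧸ p.asIdeal) ≤ (d : WithBot ℕ∞) := by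
        rw [← Module.supportDim_eq_of_equiv f]
        exact hdim
      by_cases hcp : c ∈ p.asIdeal
      · have hkill : ∀ z : A ⧸ p.asIdeal, c • z = 0 := by
          intro z
          obtain ⟨a, rfl⟩ := Submodule.mkQ_surjective p.asIdeal z
          rw [Submodule.mkQ_apply, ← Submodule.Quotient.mk_smul, Submodule.Quotient.mk_eq_zero,
            smul_eq_mul]
          exact p.asIdeal.mul_mem_right a hcp
        have hflB0 := fl_of_ann c l (A ⧸ p.asIdeal) (A ⧸ p.asIdeal) subset_rfl hkill hflB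
        obtain ⟨C1, hC1⟩ := ih hl' d (A ⧸ p.asIdeal) hflB0 hdimB j
        obtain ⟨C2, hC2⟩ := ih hl' d (A ⧸ p.asIdeal) hflB0 hdimB (j + 1)
        refine ⟨C1 + C2, fun n hn => ?_⟩
        rw [hlen_equiv f]
        have h2 : hlen (A ⧸ p.asIdeal) (c ^ n :: pw n l) j ≤
            hlen (A ⧸ p.asIdeal) (pw n l) j + hlen (A ⧸ p.asIdeal) (pw n l) (j + 1) :=
          len_cone_le (c ^ n • 𝟙 (CohIII.koszulCx (ModuleCat.of A (A ⧸ p.asIdeal)) (pw n l))) j
        have hnum : C1 * n ^ d + C2 * n ^ d = (C1 + C2) * n ^ d := by ring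
        calc hlen (A ⧸ p.asIdeal) (pw n (c :: l)) j
            ≤ hlen (A ⧸ p.asIdeal) (pw n l) j + hlen (A ⧸ p.asIdeal) (pw n l) (j + 1) := h2
          _ ≤ ((C1 * n ^ d : ℕ) : ℕ∞) + ((C2 * n ^ d : ℕ) : ℕ∞) :=
              add_le_add (hC1 n hn) (hC2 n hn)
          _ = (((C1 + C2) * n ^ d : ℕ) : ℕ∞) := by
              rw [← hnum]
              push_cast
              rfl
      · have hreg : IsSMulRegular (A ⧸ p.asIdeal) c := by
          rw [isSMulRegular_iff_right_eq_zero_of_smul]
          intro z hz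
          obtain ⟨a, rfl⟩ := Submodule.mkQ_surjective p.asIdeal z
          rw [Submodule.mkQ_apply] at hz ⊢
          rw [← Submodule.Quotient.mk_smul, Submodule.Quotient.mk_eq_zero, smul_eq_mul] at hz
          rw [Submodule.Quotient.mk_eq_zero]
          exact (p.isPrime.mem_or_mem hz).resolve_left hcp
        have d2 : Module.supportDim A ((A ⧸ p.asIdeal) ⧸ c • (⊤ : Submodule A (A ⧸ p.asIdeal))) + 1 =
            Module.supportDim A (A ⧸ p.asIdeal) :=
          Module.supportDim_quotSMulTop_succ_eq_supportDim hreg hc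
        have hflQ := fl_quot c l (A ⧸ p.asIdeal) hflB
        have main : ∀ n : ℕ, hlen N (pw n (c :: l)) j ≤ (n : ℕ∞) *
            hlen ((A ⧸ p.asIdeal) ⧸ c • (⊤ : Submodule A (A ⧸ p.asIdeal))) (pw n l) j := by
          intro n
          rw [hlen_equiv f]
          exact hlen_regular_le c (pw n l) (A ⧸ p.asIdeal) hreg n j
        rcases d with _ | d'
        · have hbot : Module.supportDim A
              ((A ⧸ p.asIdeal) ⧸ c • (⊤ : Submodule A (A ⧸ p.asIdeal))) = ⊥ := by
            apply wb_eq_bot_of_add_one_le_zero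
            rw [d2]
            exact hdimB
          haveI : Subsingleton ((A ⧸ p.asIdeal) ⧸ c • (⊤ : Submodule A (A ⧸ p.asIdeal))) :=
            (Module.supportDim_eq_bot_iff_subsingleton A _).mp hbot
          refine ⟨0, fun n _ => ?_⟩
          refine (main n).trans ?_
          rw [hlen_eq_zero_of_subsingleton]
          simp
        · have hdQ : Module.supportDim A
              ((A ⧸ p.asIdeal) ⧸ c • (⊤ : Submodule A (A ⧸ p.asIdeal))) ≤ (d' : WithBot ℕ∞) := by
            apply wb_le_of_add_one_le_succ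
            rw [d2]
            exact hdimB
          obtain ⟨C, hC⟩ := ih hl' d' _ hflQ hdQ j
          refine ⟨C, fun n hn => ?_⟩
          refine (main n).trans ?_
          calc (n : ℕ∞) * hlen ((A ⧸ p.asIdeal) ⧸ c • (⊤ : Submodule A (A ⧸ p.asIdeal))) (pw n l) j
              ≤ (n : ℕ∞) * ((C * n ^ d' : ℕ) : ℕ∞) := mul_le_mul' le_rfl (hC n hn)
            _ = ((C * n ^ (d' + 1) : ℕ) : ℕ∞) := by
                rw [← Nat.cast_mul]
                congr 1
                ring
    | exact N₁ N₂ N₃ f g hf hg hfg h₁ h₃ =>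
      intro hfl hdim j
      have hfl1 : IsFiniteLength A (N₁ ⧸ (Ideal.span {a : A | a ∈ c :: l} •
          (⊤ : Submodule A N₁))) := by
        apply fl_general N₂ N₁ _ _ _ hfl
        rintro q ⟨hq1, hq2⟩
        exact ⟨Module.support_subset_of_injective f hf hq1, hq2⟩
      have hfl3 : IsFiniteLength A (N₃ ⧸ (Ideal.span {a : A | a ∈ c :: l} •
          (⊤ : Submodule A N₃))) := by
        apply fl_general N₂ N₃ _ _ _ hfl
        rintro q ⟨hq1, hq2⟩
        exact ⟨Module.support_subset_of_surjective g hg hq1, hq2⟩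
      obtain ⟨C1, hC1⟩ := h₁ hfl1 ((Module.supportDim_le_of_injective f hf).trans hdim) j
      obtain ⟨C3, hC3⟩ := h₃ hfl3 ((Module.supportDim_le_of_surjective g hg).trans hdim) j
      refine ⟨C1 + C3, fun n hn => ?_⟩
      have hS := shortComplexOf_shortExact f g hf hg hfg
      have hT := kSC_shortExact _ hS (pw n (c :: l))
      have h1 : hlen N₂ (pw n (c :: l)) j ≤
          hlen N₁ (pw n (c :: l)) j + hlen N₃ (pw n (c :: l)) j := len_ses_le _ hT j
      have hnum : C1 * n ^ d + C3 * n ^ d = (C1 + C3) * n ^ d := by ring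
      calc hlen N₂ (pw n (c :: l)) j
          ≤ hlen N₁ (pw n (c :: l)) j + hlen N₃ (pw n (c :: l)) j := h1
        _ ≤ ((C1 * n ^ d : ℕ) : ℕ∞) + ((C3 * n ^ d : ℕ) : ℕ∞) :=
            add_le_add (hC1 n hn) (hC3 n hn)
        _ = (((C1 + C3) * n ^ d : ℕ) : ℕ∞) := by
            rw [← hnum]
            push_cast
            rfl

theorem main8157 (k : ℕ) (x : Fin k → A) (hx : ∀ j, x j ∈ IsLocalRing.maximalIdeal A)
    (M : Type u) [AddCommGroup M] [Module A M] [Module.Finite A M]
    (d : ℕ) (hdim : Module.supportDim A M = (d : WithBot ℕ∞))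
    (hfl : IsFiniteLength A (M ⧸ (Ideal.span (Set.range x) • (⊤ : Submodule A M)))) (i : ℤ) :
    ∃ c : ℕ, ∀ n : ℕ, 0 < n →
      Module.length A ((DRing.tensorCx (Koszul.koszul A (List.ofFn fun j => x j ^ n)) (ModuleCat.of A M)).homology i) ≤
        ((c * n ^ d : ℕ) : ℕ∞) := by
  obtain ⟨hl, hfl'⟩ := ofFn_data k x hx M hfl
  obtain ⟨C, hC⟩ := bound_dim (List.ofFn x) hl d M hfl' hdim.le i
  refine ⟨C, fun n hn => ?_⟩
  have h1 : pw n (List.ofFn x) = List.ofFn fun j => x j ^ n := by
    unfold pw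
    rw [List.map_ofFn]
    rfl
  have h3 := hC n hn
  rw [h1] at h3
  rw [(HomologicalComplex.homologyMapIso (tIso (ModuleCat.of A M) _) _).toLinearEquiv.length_eq]
  exact h3

end mains

end Groth.Agent.Lib.KoszulEuler5_helper6
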