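import Mathlib
import Groth.Prelude.Def_CE
import Groth.Agent.Lib.FinDimRes_helper9
import Groth.Agent.Lib.Horseshoe0_helper9

/-!
# Cartan–Eilenberg resolutions (helper9)

For a cochain complex `K` in an abelian category with enough injectives we construct the
"Cartan–Eilenberg hull" `φ K : K ⟶ E K`: a termwise monomorphism which is injective on homology,
where `E K` has injective terms, injective cycles and injective homology, and vanishes in the degrees
where `K` vanishes below a bound.  Iterating on the cokernel gives a Cartan–Eilenberg resolution.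
-/

open CategoryTheory CategoryTheory.Limits

namespace Groth.Agent.Lib.CEHull

universe v u

variable {A : Type u} [Category.{v} A] [Abelian A]

/-! ### Additivity of the cycles functor -/

instance cyclesFunctor_additive (p : ℤ) :
    (HomologicalComplex.cyclesFunctor A (ComplexShape.up ℤ) p).Additive where
  map_add {K L f g} := by
    change HomologicalComplex.cyclesMap (f + g) p =
      HomologicalComplex.cyclesMap f p + HomologicalComplex.cyclesMap g p
    rw [← cancel_mono (L.iCycles p)]
    simp [HomologicalComplex.cyclesMap_i]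

/-! ### Complexes with zero differentials -/

section zeroD

variable (N : ℤ → A)

/-- the complex with terms `N p` and zero differentials -/
@[simps]
def SN : CochainComplex A ℤ where
  X p := N p
  d _ _ := 0

lemma injective_cycles_SN [∀ p, Injective (N p)] (p : ℤ) : Injective ((SN N).cycles p) :=
  Injective.of_iso ((SN N).iCyclesIso p (p + 1) (by simp) rfl).symm
    (inferInstanceAs (Injective (N p)))

lemma injective_homology_SN [∀ p, Injective (N p)] (p : ℤ) : Injective ((SN N).homology p) :=
  haveI := injective_cycles_SN N p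
  Injective.of_iso ((SN N).isoHomologyπ (p - 1) p (by simp) rfl) inferInstance

end zeroD

/-! ### The disk complex `Cx M` -/

section Cx

open Groth.Agent.Lib.FinDimRes

variable (M : ℤ → A)

lemma exact_dCx (p : ℤ) :
    (ShortComplex.mk (biprod.snd ≫ biprod.inl : M p ⊞ M (p + 1) ⟶ M (p + 1) ⊞ M (p + 1 + 1))
      (biprod.snd ≫ biprod.inl : M (p + 1) ⊞ M (p + 1 + 1) ⟶ M (p + 1 + 1) ⊞ M (p + 1 + 1 + 1))
      (by simp)).Exact := by
  rw [ShortComplex.exact_iff_exact_up_to_refinements]
  intro T x hx
  have hx' : x ≫ biprod.snd ≫ (biprod.inl : M (p + 1 + 1) ⟶ M (p + 1 + 1) ⊞ M (p + 1 + 1 + 1)) = 0 :=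
    hx
  have hx2 : x ≫ biprod.snd = 0 := by
    rw [← cancel_mono (biprod.inl : M (p + 1 + 1) ⟶ M (p + 1 + 1) ⊞ M (p + 1 + 1 + 1)),
      Category.assoc, hx', zero_comp]
  refine ⟨T, 𝟙 T, inferInstance, x ≫ biprod.fst ≫ biprod.inr, ?_⟩
  rw [Category.id_comp]
  change x = (x ≫ biprod.fst ≫ biprod.inr) ≫ biprod.snd ≫ biprod.inl
  apply biprod.hom_ext
  · simp
  · simp [hx2]

lemma acyclic_Cx : (Cx M).Acyclic := by
  intro q
  obtain ⟨p, rfl⟩ : ∃ p, q = p + 1 := ⟨q - 1, by omega⟩
  rw [HomologicalComplex.exactAt_iff' _ p (p + 1) (p + 1 + 1) (by simp) (by simp)]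
  have h1 := Cx_d M p
  have h2 := Cx_d M (p + 1)
  suffices ∀ (f : (Cx M).X p ⟶ (Cx M).X (p + 1)) (g : (Cx M).X (p + 1) ⟶ (Cx M).X (p + 1 + 1))
      (w : f ≫ g = 0), f = biprod.snd ≫ biprod.inl → g = biprod.snd ≫ biprod.inl →
      (ShortComplex.mk f g w).Exact from this _ _ _ h1 h2
  rintro f g w rfl rfl
  exact exact_dCx M p

lemma inl_d_Cx (p : ℤ) :
    (biprod.inl : M p ⟶ M p ⊞ M (p + 1)) ≫ (Cx M).d p (p + 1) = 0 := by
  rw [Cx_d]
  simp

/-- `M p` is the kernel of the differential of `Cx M` -/
noncomputable def isLimitKernelForkCx (p : ℤ) :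
    IsLimit (KernelFork.ofι (biprod.inl : M p ⟶ (Cx M).X p) (inl_d_Cx M p)) :=
  KernelFork.IsLimit.ofι _ _ (fun {W} x _ => x ≫ (biprod.fst : M p ⊞ M (p + 1) ⟶ M p))
    (fun {W} x hx => by
      have hx' : x ≫ (biprod.snd : M p ⊞ M (p + 1) ⟶ M (p + 1)) ≫
          (biprod.inl : M (p + 1) ⟶ M (p + 1) ⊞ M (p + 1 + 1)) = 0 := by
        rw [← Cx_d]; exact hx
      have hx2 : x ≫ (biprod.snd : M p ⊞ M (p + 1) ⟶ M (p + 1)) = 0 := by
        rw [← cancel_mono (biprod.inl : M (p + 1) ⟶ M (p + 1) ⊞ M (p + 1 + 1)),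
          Category.assoc, hx', zero_comp]
      apply biprod.hom_ext
      · simp
      · simp [hx2])
    (fun {W} x _ m hm => by
      rw [← hm]
      simp)

/-- the cycles of `Cx M` -/
noncomputable def cyclesCxIso (p : ℤ) : (Cx M).cycles p ≅ M p :=
  IsLimit.conePointUniqueUpToIso ((Cx M).cyclesIsKernel p (p + 1) (by simp))
    (isLimitKernelForkCx M p)

lemma injective_cycles_Cx [∀ p, Injective (M p)] (p : ℤ) : Injective ((Cx M).cycles p) :=
  Injective.of_iso (cyclesCxIso M p).symm inferInstance

lemma injective_homology_Cx (p : ℤ) : Injective ((Cx M).homology p) :=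
  (((Cx M).exactAt_iff_isZero_homology p).1 (acyclic_Cx M p)).injective

lemma injective_X_Cx [∀ p, Injective (M p)] (p : ℤ) : Injective ((Cx M).X p) :=
  inferInstanceAs (Injective (M p ⊞ M (p + 1)))

end Cx

/-! ### The Cartan–Eilenberg hull -/

section hull

open Groth.Agent.Lib.FinDimRes

variable [EnoughInjectives A] (K : CochainComplex A ℤ)

/-- an injective object containing the opcycles -/
noncomputable abbrev NN (p : ℤ) : A := Injective.under (K.opcycles p)

/-- the boundaries -/
noncomputable abbrev Bd (p : ℤ) : A := kernel (K.pOpcycles p)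

/-- an injective object containing the boundaries -/
noncomputable abbrev MM (p : ℤ) : A := Injective.under (Bd K p)

/-- an extension to `Kᵖ` of the inclusion of the boundaries in `M p` -/
noncomputable def vM (p : ℤ) : K.X p ⟶ MM K p :=
  Injective.factorThru (Injective.ι (Bd K p)) (kernel.ι (K.pOpcycles p))

lemma ι_vM (p : ℤ) : kernel.ι (K.pOpcycles p) ≫ vM K p = Injective.ι (Bd K p) :=
  Injective.comp_factorThru _ _

/-- the map `Kᵖ ⟶ N p`, with values in the term of `SN (NN K)` -/
noncomputable def jN (p : ℤ) : K.opcycles p ⟶ (SN (NN K)).X p := Injective.ι (K.opcycles p)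

instance (p : ℤ) : Mono (jN K p) := inferInstanceAs (Mono (Injective.ι (K.opcycles p)))

/-- the morphism from `K` to the complex with zero differentials `SN (NN K)` -/
noncomputable def gS : K ⟶ SN (NN K) where
  f p := K.pOpcycles p ≫ jN K p
  comm' p q _ := by
    have h : K.d p q ≫ K.pOpcycles q ≫ jN K q = 0 := by
      rw [K.d_pOpcycles_assoc, zero_comp]
    exact comp_zero.trans h.symm

lemma gS_f (p : ℤ) : (gS K).f p = K.pOpcycles p ≫ jN K p := rfl

/-- the hull -/
noncomputable abbrev E : CochainComplex A ℤ := Cx (MM K) ⊞ SN (NN K)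

/-- the morphism to the hull -/
noncomputable def φ : K ⟶ E K := biprod.lift (iota K (MM K) (vM K)) (gS K)

lemma φ_fst : φ K ≫ biprod.fst = iota K (MM K) (vM K) := biprod.lift_fst _ _

lemma φ_snd : φ K ≫ biprod.snd = gS K := biprod.lift_snd _ _

instance mono_φ_f (p : ℤ) : Mono ((φ K).f p) := by
  apply Preadditive.mono_of_cancel_zero
  intro T z hz
  have h1 : z ≫ K.pOpcycles p ≫ jN K p = 0 := by
    have := congrArg (fun (t : K ⟶ SN (NN K)) => z ≫ t.f p) (φ_snd K)
    simp only [HomologicalComplex.comp_f] at this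
    rw [← Category.assoc, hz, zero_comp, gS_f] at this
    exact this.symm
  have h2 : z ≫ vM K p = 0 := by
    have := congrArg (fun (t : K ⟶ Cx (MM K)) => z ≫ t.f p ≫ biprod.fst) (φ_fst K)
    simp only [HomologicalComplex.comp_f] at this
    rw [← Category.assoc, ← Category.assoc, hz, zero_comp, zero_comp, iota_f,
      biprod.lift_fst] at this
    exact this.symm
  have h3 : z ≫ K.pOpcycles p = 0 := by
    rw [← cancel_mono (jN K p), Category.assoc, zero_comp]
    exact h1
  have h4 : kernel.lift _ z h3 = 0 := by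
    rw [← cancel_mono (Injective.ι (Bd K p)), zero_comp, ← ι_vM, ← Category.assoc,
      kernel.lift_ι, h2]
  rw [← kernel.lift_ι _ z h3, h4, zero_comp]

instance mono_φ : Mono (φ K) := HomologicalComplex.mono_of_mono_f _ (fun p => mono_φ_f K p)

lemma mono_homologyMap_gS (p : ℤ) : Mono (HomologicalComplex.homologyMap (gS K) p) := by
  haveI : IsIso ((SN (NN K)).pOpcycles p) :=
    (SN (NN K)).isIso_pOpcycles (p - 1) p (by simp) rfl
  have h1 : HomologicalComplex.opcyclesMap (gS K) p =
      jN K p ≫ (SN (NN K)).pOpcycles p := by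
    rw [← cancel_epi (K.pOpcycles p), HomologicalComplex.p_opcyclesMap, gS_f, Category.assoc]
  haveI : Mono (HomologicalComplex.opcyclesMap (gS K) p) := by
    rw [h1]
    infer_instance
  have h2 := HomologicalComplex.homologyι_naturality (gS K) p
  haveI : Mono (HomologicalComplex.homologyMap (gS K) p ≫ (SN (NN K)).homologyι p) := by
    rw [h2]
    infer_instance
  exact mono_of_mono _ ((SN (NN K)).homologyι p)

instance mono_homologyMap_φ (p : ℤ) : Mono (HomologicalComplex.homologyMap (φ K) p) := by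
  haveI := mono_homologyMap_gS K p
  haveI : Mono (HomologicalComplex.homologyMap (φ K) p ≫
      HomologicalComplex.homologyMap (biprod.snd : E K ⟶ SN (NN K)) p) := by
    rw [← HomologicalComplex.homologyMap_comp, φ_snd]
    infer_instance
  exact mono_of_mono _ (HomologicalComplex.homologyMap (biprod.snd : E K ⟶ SN (NN K)) p)

end hull

/-! ### Boundedness and injectivity properties of the hull -/

section hullProps

open Groth.Agent.Lib.FinDimRes

variable [EnoughInjectives A] (K : CochainComplex A ℤ)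

lemma isZero_NN (p : ℤ) (h : IsZero (K.X p)) : IsZero (NN K p) :=
  Injective.isZero_under _ (IsZero.of_epi (K.pOpcycles p) h)

lemma isZero_MM_of_isZero (p : ℤ) (h : IsZero (K.X p)) : IsZero (MM K p) :=
  Injective.isZero_under _ (IsZero.of_mono (kernel.ι (K.pOpcycles p)) h)

lemma isZero_MM_of_prev (p : ℤ) (h : IsZero (K.X (p - 1))) : IsZero (MM K p) := by
  haveI : IsIso (K.pOpcycles p) :=
    K.isIso_pOpcycles (p - 1) p (by simp) (h.eq_of_src _ _)
  exact Injective.isZero_under _ (isZero_kernel_of_mono _)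

lemma isStrictlyGE_E (n : ℤ) [K.IsStrictlyGE n] : (E K).IsStrictlyGE n := by
  rw [CochainComplex.isStrictlyGE_iff]
  intro p hp
  refine IsZero.of_iso ?_ ((HomologicalComplex.eval A (ComplexShape.up ℤ) p).mapBiprod _ _)
  rw [biprod_isZero_iff]
  constructor
  · change IsZero (MM K p ⊞ MM K (p + 1))
    rw [biprod_isZero_iff]
    exact ⟨isZero_MM_of_isZero K p (K.isZero_of_isStrictlyGE n p hp),
      isZero_MM_of_prev K (p + 1) (by
        rw [add_sub_cancel_right]
        exact K.isZero_of_isStrictlyGE n p hp)⟩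
  · exact isZero_NN K p (K.isZero_of_isStrictlyGE n p hp)

lemma injective_of_biprod (G : CochainComplex A ℤ ⥤ A) [G.Additive]
    (X Y : CochainComplex A ℤ) (hX : Injective (G.obj X)) (hY : Injective (G.obj Y)) :
    Injective (G.obj (X ⊞ Y)) :=
  haveI : PreservesBinaryBiproducts G := preservesBinaryBiproducts_of_preservesBiproducts G
  Injective.of_iso (G.mapBiprod X Y).symm inferInstance

lemma injective_E_X (p : ℤ) : Injective ((E K).X p) :=
  injective_of_biprod (HomologicalComplex.eval A (ComplexShape.up ℤ) p) _ _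
    (injective_X_Cx (MM K) p) (inferInstanceAs (Injective (NN K p)))

lemma injective_E_cycles (p : ℤ) : Injective ((E K).cycles p) :=
  injective_of_biprod (HomologicalComplex.cyclesFunctor A (ComplexShape.up ℤ) p) _ _
    (injective_cycles_Cx (MM K) p) (injective_cycles_SN (NN K) p)

lemma injective_E_homology (p : ℤ) : Injective ((E K).homology p) :=
  injective_of_biprod (HomologicalComplex.homologyFunctor A (ComplexShape.up ℤ) p) _ _
    (injective_homology_Cx (MM K) p) (injective_homology_SN (NN K) p)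

end hullProps

/-! ### Short exact sequences of complexes which are injective on homology -/

section CEExact

variable (S : ShortComplex (CochainComplex A ℤ)) (hS : S.ShortExact)
  (hH : ∀ p, Mono (HomologicalComplex.homologyMap S.f p))

include hS hH

lemma epi_homologyMap_g (p : ℤ) : Epi (HomologicalComplex.homologyMap S.g p) := by
  have h3 := hS.homology_exact₃ p (p + 1) (by simp)
  have hδ : hS.δ p (p + 1) (by simp) = 0 := by
    haveI := hH (p + 1)
    rw [← cancel_mono (HomologicalComplex.homologyMap S.f (p + 1)), zero_comp]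
    exact hS.δ_comp p (p + 1) _
  exact h3.epi_f hδ

lemma shortExact_homology (p : ℤ) :
    (S.map (HomologicalComplex.homologyFunctor A (ComplexShape.up ℤ) p)).ShortExact :=
  { exact := hS.homology_exact₂ p
    mono_f := hH p
    epi_g := epi_homologyMap_g S hS hH p }

omit hS hH in
lemma toCycles_cyclesMap (p q : ℤ) {K L : CochainComplex A ℤ} (f : K ⟶ L) :
    K.toCycles p q ≫ HomologicalComplex.cyclesMap f q = f.f p ≫ L.toCycles p q := by
  rw [← cancel_mono (L.iCycles q), Category.assoc, HomologicalComplex.cyclesMap_i,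
    HomologicalComplex.toCycles_i_assoc, Category.assoc, HomologicalComplex.toCycles_i,
    f.comm]

lemma epi_cyclesMap_g (p : ℤ) : Epi (HomologicalComplex.cyclesMap S.g p) := by
  rw [epi_iff_surjective_up_to_refinements]
  intro T z₃
  haveI := epi_homologyMap_g S hS hH p
  haveI : Epi (S.g.f (p - 1)) :=
    (hS.map_of_exact (HomologicalComplex.eval A (ComplexShape.up ℤ) (p - 1))).epi_g
  obtain ⟨T₁, π₁, hπ₁, h₂, eq₁⟩ := surjective_up_to_refinements_of_epi
    (HomologicalComplex.homologyMap S.g p) (z₃ ≫ S.X₃.homologyπ p)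
  obtain ⟨T₂, π₂, hπ₂, z₂, eq₂⟩ := surjective_up_to_refinements_of_epi (S.X₂.homologyπ p) h₂
  have hw : (z₂ ≫ HomologicalComplex.cyclesMap S.g p - π₂ ≫ π₁ ≫ z₃) ≫ S.X₃.homologyπ p = 0 := by
    rw [Preadditive.sub_comp, Category.assoc, ← HomologicalComplex.homologyπ_naturality,
      ← Category.assoc z₂, ← eq₂, Category.assoc, Category.assoc, Category.assoc, ← eq₁,
      sub_self]
  have hex : (ShortComplex.mk (S.X₃.toCycles (p - 1) p) (S.X₃.homologyπ p)
      (S.X₃.toCycles_comp_homologyπ (p - 1) p)).Exact :=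
    ShortComplex.exact_of_g_is_cokernel _ (S.X₃.homologyIsCokernel (p - 1) p (by simp))
  obtain ⟨T₃, π₃, hπ₃, x₃, eq₃⟩ := hex.exact_up_to_refinements _ hw
  obtain ⟨T₄, π₄, hπ₄, x₂, eq₄⟩ := surjective_up_to_refinements_of_epi (S.g.f (p - 1)) x₃
  dsimp only at eq₃
  have key : (π₄ ≫ x₃) ≫ S.X₃.toCycles (p - 1) p =
      π₄ ≫ π₃ ≫ (z₂ ≫ HomologicalComplex.cyclesMap S.g p - π₂ ≫ π₁ ≫ z₃) := by
    rw [Category.assoc, ← eq₃]
  refine ⟨T₄, π₄ ≫ π₃ ≫ π₂ ≫ π₁, inferInstance,
    π₄ ≫ π₃ ≫ z₂ - x₂ ≫ S.X₂.toCycles (p - 1) p, ?_⟩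
  rw [Preadditive.sub_comp, Category.assoc x₂, toCycles_cyclesMap, ← Category.assoc x₂, ← eq₄,
    key]
  simp only [Category.assoc, Preadditive.comp_sub]
  abel

lemma shortExact_cycles (p : ℤ) :
    (S.map (HomologicalComplex.cyclesFunctor A (ComplexShape.up ℤ) p)).ShortExact := by
  haveI := hS.mono_f
  haveI : Mono (S.f.f p) :=
    (hS.map_of_exact (HomologicalComplex.eval A (ComplexShape.up ℤ) p)).mono_f
  have hm : Mono (HomologicalComplex.cyclesMap S.f p) :=
    mono_of_mono_fac (HomologicalComplex.cyclesMap_i S.f p)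
  exact
    { exact := HomologicalComplex.cycles_left_exact S hS.exact p
      mono_f := hm
      epi_g := epi_cyclesMap_g S hS hH p }

end CEExact

/-! ### Splicing short exact sequences into a resolution -/

section splice

open ZeroObject

variable {C : Type*} [Category C] [Abelian C]
variable (Q J : ℕ → C) (f : ∀ q, Q q ⟶ J q) (g : ∀ q, J q ⟶ Q (q + 1))

/-- terms of the spliced complex -/
noncomputable def XI : ℤ → C
  | Int.ofNat m => J m
  | Int.negSucc _ => 0

/-- differentials of the spliced complex -/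
noncomputable def dI : ∀ q : ℤ, XI J q ⟶ XI J (q + 1)
  | Int.ofNat m => (g m ≫ f (m + 1) : J m ⟶ J (m + 1))
  | Int.negSucc _ => 0

variable (w : ∀ q, f q ≫ g q = 0)

include w in
lemma dI_sq (q : ℤ) : dI Q J f g q ≫ dI Q J f g (q + 1) = 0 := by
  cases q with
  | ofNat m =>
    change (g m ≫ f (m + 1)) ≫ (g (m + 1) ≫ f (m + 1 + 1)) = 0
    rw [Category.assoc, ← Category.assoc (f (m + 1)), w, zero_comp, comp_zero]
  | negSucc m =>
    change (0 : XI J (Int.negSucc m) ⟶ _) ≫ _ = 0
    rw [zero_comp]

/-- the spliced complex -/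
noncomputable def II : CochainComplex C ℤ := CochainComplex.of (XI J) (dI Q J f g) (dI_sq Q J f g w)

lemma II_d (m : ℕ) :
    (II Q J f g w).d (Int.ofNat m) (Int.ofNat (m + 1)) = g m ≫ f (m + 1) :=
  CochainComplex.of_d _ _ (Int.ofNat m)

variable {B : Type*} [Category B] [Abelian B] (G : C ⥤ B) [G.Additive]

lemma map_II_d (m : ℕ) :
    G.map ((II Q J f g w).d (Int.ofNat m) (Int.ofNat (m + 1))) =
      (G.map (g m) ≫ G.map (f (m + 1)) : G.obj (J m) ⟶ G.obj (J (m + 1))) :=
  (congrArg (fun x : J m ⟶ J (m + 1) => G.map x) (II_d Q J f g w m)).trans (G.map_comp _ _)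

lemma isInjResolutionVia
    (hS : ∀ q, ((ShortComplex.mk (f q) (g q) (w q)).map G).ShortExact)
    (hJ : ∀ q, Injective (G.obj (J q))) :
    CE.IsInjResolutionVia ((G.mapHomologicalComplex (ComplexShape.up ℤ)).obj (II Q J f g w))
      (G.obj (Q 0)) (G.map (f 0)) := by
  have hw : ∀ q, G.map (f q) ≫ G.map (g q) = 0 := fun q => by
    rw [← G.map_comp, w, G.map_zero]
  have hex : ∀ q, (ShortComplex.mk (G.map (f q)) (G.map (g q)) (hw q)).Exact := fun q =>
    (hS q).exact
  haveI : ∀ q, Mono (G.map (f q)) := fun q => (hS q).mono_f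
  haveI : ∀ q, Epi (G.map (g q)) := fun q => (hS q).epi_g
  have h0 : G.map (f 0) ≫ G.map ((II Q J f g w).d 0 1) = 0 :=
    (congrArg (fun x : G.obj (J 0) ⟶ G.obj (J 1) => G.map (f 0) ≫ x)
      (map_II_d Q J f g w G 0)).trans (by rw [← Category.assoc, hw, zero_comp]; rfl)
  refine ⟨h0, ?_, ?_, ?_, (hS 0).mono_f, ?_⟩
  · rw [CochainComplex.isStrictlyGE_iff]
    intro q hq
    cases q with
    | ofNat m => exact absurd hq (by simp)
    | negSucc m => exact G.map_isZero (isZero_zero C)
  · intro q
    cases q with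
    | ofNat m => exact hJ m
    | negSucc m => exact (G.map_isZero (isZero_zero C)).injective
  · intro q hq
    cases q with
    | ofNat m =>
      cases m with
      | zero => exact absurd rfl hq
      | succ m =>
        rw [HomologicalComplex.exactAt_iff' _ (Int.ofNat m) (Int.ofNat (m + 1))
          (Int.ofNat (m + 1 + 1)) (by simp) (by simp)]
        exact Horseshoe0.exact_congr (f' := G.map (g m) ≫ G.map (f (m + 1)))
          (g' := G.map (g (m + 1)) ≫ G.map (f (m + 1 + 1)))
          (map_II_d Q J f g w G m) (map_II_d Q J f g w G (m + 1)) _ _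
          (Horseshoe0.exact_splice (G.map (g m)) (G.map (f (m + 1))) (G.map (g (m + 1)))
            (hw (m + 1)) (hex (m + 1)) (G.map (f (m + 1 + 1))))
    | negSucc m =>
      exact HomologicalComplex.ExactAt.of_isZero (G.map_isZero (isZero_zero C))
  · exact Horseshoe0.exact_congr (f' := G.map (f 0)) (g' := G.map (g 0) ≫ G.map (f 1)) rfl
      (map_II_d Q J f g w G 0) _ _
      (Horseshoe0.exact_comp_mono (G.map (f 0)) (G.map (g 0)) (hw 0) (hex 0) (G.map (f 1)))

end splice

/-! ### The Cartan–Eilenberg resolution -/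

section tower

variable [EnoughInjectives A] (K : CochainComplex A ℤ)

/-- the successive cokernels of the Cartan–Eilenberg hulls -/
noncomputable def Qn : ℕ → CochainComplex A ℤ
  | 0 => K
  | (q + 1) => cokernel (φ (Qn q))

/-- the rows of the Cartan–Eilenberg resolution -/
noncomputable abbrev Jn (q : ℕ) : CochainComplex A ℤ := E (Qn K q)

/-- the hull map `Qn q ⟶ Jn q` -/
noncomputable def fn (q : ℕ) : Qn K q ⟶ Jn K q := φ (Qn K q)

/-- the projection `Jn q ⟶ Qn (q + 1)` -/
noncomputable def gn (q : ℕ) : Jn K q ⟶ Qn K (q + 1) := cokernel.π (φ (Qn K q))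

lemma fn_gn (q : ℕ) : fn K q ≫ gn K q = 0 := cokernel.condition _

instance (q : ℕ) : Mono (fn K q) := inferInstanceAs (Mono (φ (Qn K q)))

instance (q : ℕ) : Epi (gn K q) := inferInstanceAs (Epi (cokernel.π (φ (Qn K q))))

lemma shortExact_n (q : ℕ) : (ShortComplex.mk (fn K q) (gn K q) (fn_gn K q)).ShortExact :=
  ShortComplex.ShortExact.mk' (ShortComplex.exact_cokernel (φ (Qn K q)))
    (inferInstanceAs (Mono (fn K q))) (inferInstanceAs (Epi (gn K q)))

lemma mono_homologyMap_fn (q : ℕ) (p : ℤ) :
    Mono (HomologicalComplex.homologyMap (fn K q) p) :=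
  mono_homologyMap_φ (Qn K q) p

lemma isStrictlyGE_Qn (n : ℤ) [K.IsStrictlyGE n] (q : ℕ) : (Qn K q).IsStrictlyGE n := by
  induction q with
  | zero => exact inferInstanceAs (K.IsStrictlyGE n)
  | succ q ih =>
    haveI := ih
    haveI := isStrictlyGE_E (Qn K q) n
    rw [CochainComplex.isStrictlyGE_iff]
    intro p hp
    haveI : Epi ((gn K q).f p) :=
      ((shortExact_n K q).map_of_exact (HomologicalComplex.eval A (ComplexShape.up ℤ) p)).epi_g
    exact IsZero.of_epi ((gn K q).f p) ((Jn K q).isZero_of_isStrictlyGE n p hp)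

/-- the Cartan–Eilenberg resolution as a complex of complexes -/
noncomputable def CEres : CochainComplex (CochainComplex A ℤ) ℤ :=
  II (Qn K) (Jn K) (fn K) (gn K) (fn_gn K)

/-- the augmentation -/
noncomputable def ε : K ⟶ (CEres K).X 0 := fn K 0

theorem main (n : ℤ) [K.IsStrictlyGE n] :
    ∃ (I : CochainComplex (CochainComplex A ℤ) ℤ) (ε : K ⟶ I.X 0) (_ : ε ≫ I.d 0 1 = 0),
      (∃ i : ℤ, ∀ p q : ℤ, p < i → IsZero ((I.X q).X p)) ∧
      (∀ p : ℤ, CE.IsInjResolutionVia
        (((HomologicalComplex.eval A (ComplexShape.up ℤ) p).mapHomologicalComplex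
          (ComplexShape.up ℤ)).obj I) (K.X p) (ε.f p)) ∧
      (∀ p : ℤ, CE.IsInjResolutionVia
        (((HomologicalComplex.cyclesFunctor A (ComplexShape.up ℤ) p).mapHomologicalComplex
          (ComplexShape.up ℤ)).obj I) (K.cycles p) (HomologicalComplex.cyclesMap ε p)) ∧
      (∀ p : ℤ, CE.IsInjResolutionVia
        (((HomologicalComplex.homologyFunctor A (ComplexShape.up ℤ) p).mapHomologicalComplex
          (ComplexShape.up ℤ)).obj I) (K.homology p) (HomologicalComplex.homologyMap ε p)) := by
  have hε : ε K ≫ (CEres K).d 0 1 = 0 :=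
    (congrArg (fun x : Jn K 0 ⟶ Jn K 1 => fn K 0 ≫ x) (II_d (Qn K) (Jn K) (fn K) (gn K)
      (fn_gn K) 0)).trans (by rw [← Category.assoc, fn_gn, zero_comp]; rfl)
  refine ⟨CEres K, ε K, hε, ⟨n, ?_⟩, ?_, ?_, ?_⟩
  · intro p q hp
    cases q with
    | ofNat m =>
      haveI := isStrictlyGE_Qn K n m
      haveI := isStrictlyGE_E (Qn K m) n
      exact (Jn K m).isZero_of_isStrictlyGE n p hp
    | negSucc m =>
      exact (HomologicalComplex.eval A (ComplexShape.up ℤ) p).map_isZero
        (isZero_zero (CochainComplex A ℤ))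
  · intro p
    exact isInjResolutionVia (Qn K) (Jn K) (fn K) (gn K) (fn_gn K)
      (HomologicalComplex.eval A (ComplexShape.up ℤ) p)
      (fun q => (shortExact_n K q).map_of_exact _)
      (fun q => injective_E_X (Qn K q) p)
  · intro p
    exact isInjResolutionVia (Qn K) (Jn K) (fn K) (gn K) (fn_gn K)
      (HomologicalComplex.cyclesFunctor A (ComplexShape.up ℤ) p)
      (fun q => shortExact_cycles _ (shortExact_n K q) (mono_homologyMap_fn K q) p)
      (fun q => injective_E_cycles (Qn K q) p)
  · intro p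
    exact isInjResolutionVia (Qn K) (Jn K) (fn K) (gn K) (fn_gn K)
      (HomologicalComplex.homologyFunctor A (ComplexShape.up ℤ) p)
      (fun q => shortExact_homology _ (shortExact_n K q) (mono_homologyMap_fn K q) p)
      (fun q => injective_E_homology (Qn K q) p)

end tower

end Groth.Agent.Lib.CEHull
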