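import Groth.Prelude.Def_CGrpSh
import Groth.Prelude.Def_AlgGrp
import Mathlib.AlgebraicGeometry.Morphisms.Flat
import Mathlib.AlgebraicGeometry.Morphisms.FiniteType
import Mathlib.AlgebraicGeometry.Morphisms.Separated
import Mathlib.AlgebraicGeometry.Morphisms.QuasiSeparated
import Mathlib.AlgebraicGeometry.Sites.Fpqc
import Mathlib.CategoryTheory.Sites.LocallySurjective
import Mathlib.Algebra.Homology.ShortComplex.ShortExact

/-! # Exactness of the sequence of sheaves of points of a kernel / faithfully flat quotient (lead) -/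

set_option backward.isDefEq.respectTransparency false
set_option backward.isDefEq.respectTransparency.types false
set_option linter.unusedSimpArgs false
set_option linter.unusedVariables false
set_option linter.unusedSectionVars false
set_option linter.style.longLine false
set_option maxHeartbeats 800000

universe u

open CategoryTheory CategoryTheory.Limits MonoidalCategory CartesianMonoidalCategory MonObj GrpObj
  AlgebraicGeometry Opposite

namespace Groth.Agent.Lib.CGrpShExact

variable {S : Scheme.{u}}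

/-- A morphism whose underlying singleton family is a `K`-covering generates a covering sieve of the
big `K`-site of `S`. -/
theorem generate_singleton_mem_J (K : Precoverage Scheme.{u}) {T' T : Over S} (r : T' ⟶ T)
    (h : Presieve.singleton r.left ∈ K T.left) :
    Sieve.generate (Presieve.singleton r) ∈ QuotSh.J K S T := by
  rw [GrothendieckTopology.mem_over_iff]
  refine (K.toGrothendieck).superset_covering ?_ (Precoverage.generate_mem_toGrothendieck h)
  rintro Z f ⟨W, a, b, ⟨⟩, rfl⟩
  rw [Sieve.overEquiv_iff]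
  refine ⟨T', Over.homMk a ?_, r, Presieve.singleton.mk, ?_⟩
  · change a ≫ T'.hom = (a ≫ r.left) ≫ T.hom
    rw [Category.assoc, Over.w]
  · ext
    rfl

variable (K : Precoverage Scheme.{u}) [(QuotSh.J K S).Subcanonical]
variable {F G H : Over S} [GrpObj F] [IsCommMonObj F] [GrpObj G] [IsCommMonObj G]
  [GrpObj H] [IsCommMonObj H]

theorem epi_ptsMap_of_cover (p : G ⟶ H) [IsMonHom p]
    (hcov : ∀ (T : Over S) (h : T ⟶ H), ∃ (T' : Over S) (r : T' ⟶ T) (g : T' ⟶ G),
      Sieve.generate (Presieve.singleton r) ∈ QuotSh.J K S T ∧ g ≫ p = r ≫ h) :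
    Epi (CGrpSh.ptsMap K p) := by
  haveI : Sheaf.IsLocallySurjective (CGrpSh.ptsMap K p) := by
    constructor
    intro T x
    let x₀ : ULift.{u + 1} (Additive (T ⟶ H)) := x
    obtain ⟨T', r, g, hr, hg⟩ := hcov T (Additive.toMul x₀.down)
    refine (QuotSh.J K S).superset_covering ?_ hr
    rintro Z m ⟨Y, a, b, ⟨⟩, rfl⟩
    refine ⟨(ULift.up (Additive.ofMul (a ≫ g)) : ULift.{u + 1} (Additive (Z ⟶ G))), ?_⟩
    apply ULift.ext
    show Additive.ofMul ((a ≫ g) ≫ p) = Additive.ofMul ((a ≫ r) ≫ Additive.toMul x₀.down)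
    rw [Category.assoc, hg, Category.assoc]
  infer_instance

theorem exists_cover_of_flat_surjective_qc (p : G ⟶ H) [Flat p.left] [Surjective p.left]
    [QuasiCompact p.left] (T : Over S) (h : T ⟶ H) :
    ∃ (T' : Over S) (r : T' ⟶ T) (g : T' ⟶ G),
      Sieve.generate (Presieve.singleton r) ∈ QuotSh.J Scheme.fpqcPrecoverage S T ∧
        g ≫ p = r ≫ h := by
  let r₀ : pullback h.left p.left ⟶ T.left := pullback.fst _ _
  let g₀ : pullback h.left p.left ⟶ G.left := pullback.snd _ _
  have hc : r₀ ≫ h.left = g₀ ≫ p.left := pullback.condition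
  refine ⟨Over.mk (r₀ ≫ T.hom), Over.homMk r₀ rfl, Over.homMk g₀ ?_, ?_, ?_⟩
  · show g₀ ≫ G.hom = r₀ ≫ T.hom
    rw [← Over.w p, ← Category.assoc, ← hc, Category.assoc, Over.w h]
  · apply generate_singleton_mem_J
    show Presieve.singleton r₀ ∈ Scheme.fpqcPrecoverage T.left
    haveI : Flat r₀ := MorphismProperty.pullback_fst (P := @Flat) _ _ inferInstance
    haveI : Surjective r₀ := MorphismProperty.pullback_fst (P := @Surjective) _ _ inferInstance
    haveI : QuasiCompact r₀ :=
      MorphismProperty.pullback_fst (P := @QuasiCompact) _ _ inferInstance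
    exact Scheme.Hom.singleton_mem_fpqcPrecoverage r₀
  · ext
    exact hc.symm

theorem isLimit_kernelFork (f : F ⟶ G) (p : G ⟶ H) [IsMonHom f] [IsMonHom p]
    (hker : AlgGrp.IsKernel f p) (w : f ≫ p = 1) :
    Nonempty (IsLimit (KernelFork.ofι (CGrpSh.seq K f p w).f (CGrpSh.seq K f p w).zero)) := by
  have hinj : ∀ (T : Over S) (x y : T ⟶ F), x ≫ f = y ≫ f → x = y :=
    fun T x y h => hker.hom_ext h (toUnit_unique _ _)
  haveI hm : Mono (CGrpSh.ptsMap K f) := by
    haveI : Mono (CGrpSh.ptsMap K f).hom := by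
      haveI : ∀ T, Mono ((CGrpSh.ptsMap K f).hom.app T) := fun T => by
        rw [AddCommGrpCat.mono_iff_injective]
        intro x y hxy
        let x₀ : ULift.{u + 1} (Additive (unop T ⟶ F)) := x
        let y₀ : ULift.{u + 1} (Additive (unop T ⟶ F)) := y
        have h1 : Additive.ofMul (Additive.toMul x₀.down ≫ f) =
            Additive.ofMul (Additive.toMul y₀.down ≫ f) := congrArg ULift.down hxy
        have h2 : Additive.toMul x₀.down = Additive.toMul y₀.down :=
          hinj _ _ _ (Additive.ofMul.injective h1)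
        exact ULift.ext x₀ y₀ (Additive.toMul.injective h2)
      exact NatTrans.mono_of_mono_app _
    exact Sheaf.Hom.mono_of_presheaf_mono _ _ _
  refine ⟨KernelFork.IsLimit.ofι' (hi := (hm : Mono (CGrpSh.seq K f p w).f)) _ _
    (fun {W} k hk => ?_)⟩
  have hk' : ∀ (T : (Over S)ᵒᵖ) (x : ToType (W.obj.obj T)),
      Additive.toMul (ULift.down (show ULift.{u + 1} (Additive (unop T ⟶ G)) from
        k.hom.app T x)) ≫ p = toUnit _ ≫ η[H] := by
    intro T x
    have h0 := congrArg (fun m : W ⟶ CGrpSh.pts K H => ULift.down (show ULift.{u + 1}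
      (Additive (unop T ⟶ H)) from m.hom.app T x)) hk
    rw [← Hom.one_def]
    exact Additive.ofMul.injective h0
  let φ : ∀ (T : (Over S)ᵒᵖ) (x : ToType (W.obj.obj T)), (unop T ⟶ F) := fun T x =>
    hker.lift (Additive.toMul (ULift.down (show ULift.{u + 1} (Additive (unop T ⟶ G)) from
      k.hom.app T x))) (toUnit _) (hk' T x)
  have hφ : ∀ (T : (Over S)ᵒᵖ) (x : ToType (W.obj.obj T)), φ T x ≫ f =
      Additive.toMul (ULift.down (show ULift.{u + 1} (Additive (unop T ⟶ G)) from
        k.hom.app T x)) := fun T x => hker.lift_fst _ _ _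
  have hadd : ∀ (T : (Over S)ᵒᵖ) (x y : ToType (W.obj.obj T)),
      φ T (x + y) = φ T x * φ T y := by
    intro T x y
    apply hinj
    rw [hφ, MonObj.mul_comp, hφ, hφ, map_add]
    rfl
  let l : W ⟶ CGrpSh.pts K F :=
    ⟨{ app := fun T => AddCommGrpCat.ofHom (AddMonoidHom.mk'
          (fun x => (ULift.up (Additive.ofMul (φ T x)) :
            ULift.{u + 1} (Additive (unop T ⟶ F))))
          (fun x y => by
            apply ULift.ext
            show Additive.ofMul (φ T (x + y)) = Additive.ofMul (φ T x * φ T y)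
            rw [hadd]))
       naturality := fun T T' g => AddCommGrpCat.ext fun x => ULift.ext _ _ (by
        show Additive.ofMul (φ T' (W.obj.map g x)) = Additive.ofMul (g.unop ≫ φ T x)
        congr 1
        apply hinj
        rw [hφ, Category.assoc, hφ]
        have hn := ConcreteCategory.congr_hom (k.hom.naturality g) x
        exact congrArg (fun z : ULift.{u + 1} (Additive (unop T' ⟶ G)) =>
          Additive.toMul z.down) hn) }⟩
  refine ⟨l, ?_⟩
  refine Sheaf.hom_ext (NatTrans.ext (funext fun T => AddCommGrpCat.ext fun x =>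
    ULift.ext _ _ ?_))
  show Additive.ofMul (φ T x ≫ f) = _
  rw [hφ]
  rfl

theorem shortExact_fpqc (f : F ⟶ G) (p : G ⟶ H) [IsMonHom f] [IsMonHom p]
    [QuasiCompact G.hom] [QuasiSeparated H.hom] [Flat p.left] [Surjective p.left]
    (hker : AlgGrp.IsKernel f p) (w : f ≫ p = 1) :
    (CGrpSh.seq Scheme.fpqcPrecoverage f p w).ShortExact := by
  obtain ⟨hl⟩ := isLimit_kernelFork Scheme.fpqcPrecoverage f p hker w
  have h := ((CGrpSh.seq Scheme.fpqcPrecoverage f p w).exact_and_mono_f_iff_f_is_kernel).2 ⟨hl⟩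
  haveI : QuasiCompact p.left := by
    haveI : QuasiCompact (p.left ≫ H.hom) := by
      rw [Over.w]
      infer_instance
    exact QuasiCompact.of_comp p.left H.hom
  have he : Epi (CGrpSh.seq Scheme.fpqcPrecoverage f p w).g :=
    epi_ptsMap_of_cover Scheme.fpqcPrecoverage p (exists_cover_of_flat_surjective_qc p)
  exact ShortComplex.ShortExact.mk' h.1 h.2 he

end Groth.Agent.Lib.CGrpShExact
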