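import Mathlib
import Groth.Prelude.Def_PolLaw2

/-!
# The (inhomogeneous) determinant law of a finite projective module (helper1)

`M` a `B`-module, finite projective over `A`.  Choose a finite free `F` with `i : M → F`, `p : F → M`,
`p ∘ i = id`.  For a ring test algebra `R` and `x : R ⊗ B` let `EE R x = 1 + ι (T_x - 1) π` on `R ⊗ F`; its determinant is
natural in `R`, multiplicative, and over local `R` equals the determinant of `T_x` on the free module `R ⊗ M`.
-/

universe u

open scoped TensorProduct

namespace Groth.Agent.Lib.DetProjH1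

section EE

variable {A : Type u} [CommRing A] {B : Type u} [CommRing B] [Algebra A B]
  (M : Type u) [AddCommGroup M] [Module A M] [Module B M] [IsScalarTower A B M]
  {F : Type u} [AddCommGroup F] [Module A F] (i : M →ₗ[A] F) (p : F →ₗ[A] M)

/-- `1 + ι (T_x - 1) π` on `R ⊗ F`. -/
noncomputable def EE (R : Type u) [CommRing R] [Algebra A R] (x : R ⊗[A] B) :
    Module.End R (R ⊗[A] F) :=
  1 + (i.baseChange R) ∘ₗ (PolLaw.actEnd M R x - 1) ∘ₗ (p.baseChange R)

theorem EE_apply (R : Type u) [CommRing R] [Algebra A R] (x : R ⊗[A] B) (z : R ⊗[A] F) :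
    EE M i p R x z =
      z + i.baseChange R (PolLaw.actEnd M R x (p.baseChange R z) - p.baseChange R z) := rfl

theorem EE_one (R : Type u) [CommRing R] [Algebra A R] : EE M i p R (1 : R ⊗[A] B) = 1 := by
  apply LinearMap.ext; intro z
  simp only [EE_apply, map_one, Module.End.one_apply, sub_self, map_zero, add_zero]

theorem bc_pi (hpi : p ∘ₗ i = LinearMap.id) (R : Type u) [CommRing R] [Algebra A R] (w : R ⊗[A] M) :
    p.baseChange R (i.baseChange R w) = w := by
  rw [← LinearMap.comp_apply, ← LinearMap.baseChange_comp, hpi, LinearMap.baseChange_id]; rfl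

theorem EE_mul (hpi : p ∘ₗ i = LinearMap.id) (R : Type u) [CommRing R] [Algebra A R] (x y : R ⊗[A] B) :
    EE M i p R (x * y) = EE M i p R x * EE M i p R y := by
  apply LinearMap.ext; intro z
  rw [Module.End.mul_apply]
  simp only [EE_apply, map_add, map_sub, map_mul, Module.End.mul_apply, bc_pi M i p hpi]
  abel

theorem rT_baseChange {N N' : Type u} [AddCommGroup N] [Module A N] [AddCommGroup N'] [Module A N']
    (f : N →ₗ[A] N')
    {R R' : Type u} [CommRing R] [Algebra A R] [CommRing R'] [Algebra A R'] (ψ : R →ₐ[A] R')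
    (w : R ⊗[A] N) :
    ψ.toLinearMap.rTensor N' (f.baseChange R w) = f.baseChange R' (ψ.toLinearMap.rTensor N w) := by
  induction w using TensorProduct.induction_on with
  | zero => simp
  | tmul r n => simp [LinearMap.baseChange_tmul, LinearMap.rTensor_tmul]
  | add a b ha hb => simp only [map_add, ha, hb]

theorem EE_nat {R R' : Type u} [CommRing R] [Algebra A R] [CommRing R'] [Algebra A R']
    (ψ : R →ₐ[A] R') (x : R ⊗[A] B) (z : R ⊗[A] F) :
    ψ.toLinearMap.rTensor F (EE M i p R x z) =
      EE M i p R' (Algebra.TensorProduct.map ψ (AlgHom.id A B) x) (ψ.toLinearMap.rTensor F z) := by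
  simp only [EE_apply, map_add, map_sub, rT_baseChange, PolLaw.rTensor_actEnd M]

/-- The determinant of `EE`. -/
noncomputable def detE (R : Type u) [CommRing R] [Algebra A R] (x : R ⊗[A] B) : R :=
  LinearMap.det (EE M i p R x)

theorem detE_one (R : Type u) [CommRing R] [Algebra A R] : detE M i p R (1 : R ⊗[A] B) = 1 := by
  rw [detE, EE_one, map_one]

theorem detE_mul (hpi : p ∘ₗ i = LinearMap.id) (R : Type u) [CommRing R] [Algebra A R]
    (x y : R ⊗[A] B) : detE M i p R (x * y) = detE M i p R x * detE M i p R y := by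
  rw [detE, EE_mul M i p hpi, map_mul]; rfl

theorem map_smul' {R R' : Type u} [CommRing R] [Algebra A R] [CommRing R'] [Algebra A R']
    (φ : R →ₐ[A] R') (r : R) (x : R ⊗[A] B) :
    Algebra.TensorProduct.map φ (AlgHom.id A B) (r • x) =
      φ r • Algebra.TensorProduct.map φ (AlgHom.id A B) x := by
  induction x using TensorProduct.induction_on with
  | zero => simp
  | tmul s b => simp [TensorProduct.smul_tmul', Algebra.TensorProduct.map_tmul]
  | add x y hx hy => simp only [smul_add, map_add, hx, hy]

section Free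

variable [Module.Free A F] [Module.Finite A F]

theorem detE_map {R R' : Type u} [CommRing R] [Algebra A R] [CommRing R'] [Algebra A R']
    (ψ : R →ₐ[A] R') (x : R ⊗[A] B) :
    detE M i p R' (Algebra.TensorProduct.map ψ (AlgHom.id A B) x) = ψ (detE M i p R x) := by
  classical
  let bF := Module.Free.chooseBasis A F
  unfold detE
  rw [← LinearMap.det_toMatrix (Algebra.TensorProduct.basis R' bF),
    ← LinearMap.det_toMatrix (Algebra.TensorProduct.basis R bF), AlgHom.map_det]
  congr 1
  ext a b
  simp only [AlgHom.mapMatrix_apply, Matrix.map_apply, LinearMap.toMatrix_apply,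
    Algebra.TensorProduct.basis_apply]
  rw [← PolLaw.basis_repr_rTensor F ψ, EE_nat M i p ψ, LinearMap.rTensor_tmul,
    AlgHom.toLinearMap_apply, map_one]

/-- The value of the law on a (semiring) test algebra. -/
noncomputable def NFun (S : Type u) [CommSemiring S] [Algebra A S] (x : S ⊗[A] B) : S ⊗[A] A :=
  (Algebra.TensorProduct.lid A S (detE M i p (A ⊗[A] S) (PolLaw.toRing A B S x))) ⊗ₜ[A] (1 : A)

theorem NFun_compat {S S' : Type u} [CommSemiring S] [Algebra A S] [CommSemiring S'] [Algebra A S']
    (φ : S →ₐ[A] S') (x : S ⊗[A] B) :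
    φ.toLinearMap.rTensor A (NFun M i p S x) = NFun M i p S' (φ.toLinearMap.rTensor B x) := by
  let ψ : A ⊗[A] S →ₐ[A] A ⊗[A] S' := Algebra.TensorProduct.map (AlgHom.id A A) φ
  have hψ : Algebra.TensorProduct.map ψ (AlgHom.id A B) (PolLaw.toRing A B S x) =
      PolLaw.toRing A B S' (φ.toLinearMap.rTensor B x) := by
    induction x using TensorProduct.induction_on with
    | zero => simp
    | tmul s b => simp [ψ, Algebra.TensorProduct.map_tmul, Algebra.TensorProduct.lid_symm_apply,
        LinearMap.rTensor_tmul]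
    | add x y hx hy => simp only [map_add, hx, hy]
  have hlid : ∀ r : A ⊗[A] S,
      Algebra.TensorProduct.lid A S' (ψ r) = φ (Algebra.TensorProduct.lid A S r) := by
    intro r
    induction r using TensorProduct.induction_on with
    | zero => simp
    | tmul a s => simp [ψ, Algebra.TensorProduct.map_tmul, Algebra.TensorProduct.lid_tmul]
    | add x y hx hy => simp only [map_add, hx, hy]
  unfold NFun
  rw [LinearMap.rTensor_tmul, ← hψ, detE_map M i p ψ, AlgHom.toLinearMap_apply, hlid]

theorem NFun_eq (S : Type u) [CommRing S] [Algebra A S] (x : S ⊗[A] B) :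
    NFun M i p S x = (detE M i p S x) ⊗ₜ[A] (1 : A) := by
  have h1 : Algebra.TensorProduct.map (Algebra.TensorProduct.lid A S).toAlgHom (AlgHom.id A B)
      (PolLaw.toRing A B S x) = x := by
    induction x using TensorProduct.induction_on with
    | zero => simp
    | tmul s b => simp [Algebra.TensorProduct.map_tmul, Algebra.TensorProduct.lid_symm_apply]
    | add x y hx hy => simp only [map_add, hx, hy]
  have h2 := detE_map M i p (Algebra.TensorProduct.lid A S).toAlgHom (PolLaw.toRing A B S x)
  rw [h1] at h2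
  unfold NFun
  rw [h2]
  rfl

theorem NFun_one (S : Type u) [CommSemiring S] [Algebra A S] :
    NFun M i p S (1 : S ⊗[A] B) = 1 := by
  have h : PolLaw.toRing A B S 1 = 1 := by
    first
      | exact map_one (PolLaw.toRing A B S)
      | simp [Algebra.TensorProduct.one_def, Algebra.TensorProduct.map_tmul, Algebra.TensorProduct.lid_symm_apply]
  have h1 : Algebra.TensorProduct.lid A S 1 = 1 := by
    first
      | exact map_one (Algebra.TensorProduct.lid A S)
      | simp [Algebra.TensorProduct.one_def, Algebra.TensorProduct.lid_tmul]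
  unfold NFun
  rw [h, detE_one, h1]
  rfl

theorem NFun_mul (hpi : p ∘ₗ i = LinearMap.id) (S : Type u) [CommSemiring S] [Algebra A S]
    (x y : S ⊗[A] B) : NFun M i p S (x * y) = NFun M i p S x * NFun M i p S y := by
  unfold NFun
  rw [map_mul, detE_mul M i p hpi, map_mul, Algebra.TensorProduct.tmul_mul_tmul, mul_one]

/-- The law. -/
noncomputable def Nlaw : B →ₚₗ[A] A where
  toFun' S _ _ := NFun M i p S
  isCompat' φ := funext (NFun_compat M i p φ)

theorem Nlaw_isMult (hpi : p ∘ₗ i = LinearMap.id) : PolLaw.IsMult (Nlaw (B := B) M i p) :=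
  fun S _ _ => ⟨NFun_one M i p S, NFun_mul M i p hpi S⟩

theorem Nlaw_ring (S : Type u) [CommRing S] [Algebra A S] (x : S ⊗[A] B) :
    (Nlaw M i p).toFun' S x = (detE M i p S x) ⊗ₜ[A] (1 : A) := NFun_eq M i p S x

variable [Module.Finite A M] [Module.Projective A M]

/-- Over a local test ring, `detE` is the determinant of the action on the free module `S ⊗ M`. -/
theorem detE_local (hpi : p ∘ₗ i = LinearMap.id)
    (S : Type u) [CommRing S] [IsLocalRing S] [Algebra A S] (x : S ⊗[A] B) :
    detE M i p S x = PolLaw.detAct M S x := by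
  classical
  have : Module.Free S (S ⊗[A] M) := Module.free_of_flat_of_isLocalRing
  let bM := Module.Free.chooseBasis S (S ⊗[A] M)
  let bF := Module.Free.chooseBasis S (S ⊗[A] F)
  unfold PolLaw.detAct detE
  rw [← LinearMap.det_toMatrix bF, ← LinearMap.det_toMatrix bM]
  have h1 : LinearMap.toMatrix bF bF (EE M i p S x) =
      1 + LinearMap.toMatrix bM bF (i.baseChange S) *
        (LinearMap.toMatrix bM bM (PolLaw.actEnd M S x - 1) *
          LinearMap.toMatrix bF bM (p.baseChange S)) := by
    rw [EE, map_add, LinearMap.toMatrix_one, LinearMap.toMatrix_comp bF bM bF,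
      LinearMap.toMatrix_comp bF bM bM]
  have h2 : LinearMap.toMatrix bM bM (PolLaw.actEnd M S x) =
      LinearMap.toMatrix bM bM (PolLaw.actEnd M S x - 1) + 1 := by
    conv_lhs => rw [← sub_add_cancel (PolLaw.actEnd M S x) 1]
    rw [map_add, LinearMap.toMatrix_one]
  rw [h1, Matrix.det_one_add_mul_comm, Matrix.mul_assoc, ← LinearMap.toMatrix_comp bM bF bM,
    ← LinearMap.baseChange_comp, hpi, LinearMap.baseChange_id, LinearMap.toMatrix_id, Matrix.mul_one,
    h2, add_comm]

theorem finrank_local (d : ℕ) (hd : ∀ q : PrimeSpectrum A, Module.rankAtStalk M q = d)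
    (S : Type u) [CommRing S] [IsLocalRing S] [Algebra A S] : Module.finrank S (S ⊗[A] M) = d := by
  have : Module.Free S (S ⊗[A] M) := Module.free_of_flat_of_isLocalRing
  have h1 := Module.rankAtStalk_baseChange (R := A) (M := M) (S := S) (IsLocalRing.closedPoint S)
  rw [hd] at h1
  have h2 := congrFun (Module.rankAtStalk_eq_finrank_of_free (R := S) (M := S ⊗[A] M))
    (IsLocalRing.closedPoint S)
  rw [h1] at h2
  simpa using h2.symm

theorem detAct_smul_local (d : ℕ) (hd : ∀ q : PrimeSpectrum A, Module.rankAtStalk M q = d)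
    (S : Type u) [CommRing S] [IsLocalRing S] [Algebra A S] (s : S) (x : S ⊗[A] B) :
    PolLaw.detAct M S (s • x) = s ^ d * PolLaw.detAct M S x := by
  have : Module.Free S (S ⊗[A] M) := Module.free_of_flat_of_isLocalRing
  unfold PolLaw.detAct
  rw [map_smul, LinearMap.det_smul, finrank_local M d hd S]

theorem detE_smul (hpi : p ∘ₗ i = LinearMap.id) (d : ℕ)
    (hd : ∀ q : PrimeSpectrum A, Module.rankAtStalk M q = d)
    (R : Type u) [CommRing R] [Algebra A R] (r : R) (x : R ⊗[A] B) :
    detE M i p R (r • x) = r ^ d * detE M i p R x := by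
  rw [← sub_eq_zero]
  apply eq_zero_of_localization
  intro J hJ
  rw [map_sub, sub_eq_zero]
  let φ : R →ₐ[A] Localization.AtPrime J := IsScalarTower.toAlgHom A R _
  change φ _ = φ _
  rw [← detE_map M i p φ, map_mul, map_pow, ← detE_map M i p φ, map_smul', detE_local M i p hpi,
    detE_local M i p hpi, detAct_smul_local M d hd]

theorem NFun_smul (hpi : p ∘ₗ i = LinearMap.id) (d : ℕ)
    (hd : ∀ q : PrimeSpectrum A, Module.rankAtStalk M q = d)
    (S : Type u) [CommSemiring S] [Algebra A S] (s : S) (x : S ⊗[A] B) :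
    NFun M i p S (s • x) = s ^ d • NFun M i p S x := by
  have hx : PolLaw.toRing A B S (s • x) = ((1 : A) ⊗ₜ[A] s) • PolLaw.toRing A B S x := by
    induction x using TensorProduct.induction_on with
    | zero => simp
    | tmul t b =>
        simp [TensorProduct.smul_tmul', Algebra.TensorProduct.map_tmul,
          Algebra.TensorProduct.lid_symm_apply, Algebra.TensorProduct.tmul_mul_tmul]
    | add x y hx hy => simp only [smul_add, map_add, hx, hy]
  unfold NFun
  rw [hx, detE_smul M i p hpi d hd, map_mul, map_pow, Algebra.TensorProduct.lid_tmul, one_smul,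
    TensorProduct.smul_tmul', smul_eq_mul]

end Free

end EE

section Uniq

variable {A : Type u} [CommRing A] {B : Type u} [AddCommGroup B] [Module A B]

theorem rid_rTensor {R R' : Type u} [CommSemiring R] [Algebra A R] [CommSemiring R'] [Algebra A R']
    (φ : R →ₐ[A] R') (v : R ⊗[A] A) :
    TensorProduct.rid A R' (φ.toLinearMap.rTensor A v) = φ (TensorProduct.rid A R v) := by
  induction v using TensorProduct.induction_on with
  | zero => simp
  | tmul r a => simp [LinearMap.rTensor_tmul]
  | add a b ha hb => simp only [map_add, ha, hb]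

/-- Two laws with values in `A` agreeing on local ring test algebras agree on all ring test algebras. -/
theorem eq_of_local_ring {N N' : B →ₚₗ[A] A}
    (h : ∀ (S : Type u) [CommRing S] [IsLocalRing S] [Algebra A S] (x : S ⊗[A] B),
      N.toFun' S x = N'.toFun' S x)
    (R : Type u) [CommRing R] [Algebra A R] (x : R ⊗[A] B) : N.toFun' R x = N'.toFun' R x := by
  apply (TensorProduct.rid A R).injective
  rw [← sub_eq_zero]
  apply eq_zero_of_localization
  intro J hJ
  rw [map_sub, sub_eq_zero]
  let φ : R →ₐ[A] Localization.AtPrime J := IsScalarTower.toAlgHom A R _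
  have e1 := rid_rTensor φ (N.toFun' R x)
  have e2 := rid_rTensor φ (N'.toFun' R x)
  have c1 := PolynomialLaw.isCompat_apply' (f := N) φ x
  have c2 := PolynomialLaw.isCompat_apply' (f := N') φ x
  change φ _ = φ _
  rw [← e1, ← e2, c1, c2, h]

/-- Two laws agreeing on all ring test algebras are equal. -/
theorem ext_of_ring {P : Type u} [AddCommGroup P] [Module A P] {N N' : B →ₚₗ[A] P}
    (h : ∀ (R : Type u) [CommRing R] [Algebra A R] (x : R ⊗[A] B), N.toFun' R x = N'.toFun' R x) :
    N = N' := by
  apply PolynomialLaw.ext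
  funext S _ _ x
  let e : S →ₐ[A] A ⊗[A] S := (Algebra.TensorProduct.lid A S).symm.toAlgHom
  let e' : A ⊗[A] S →ₐ[A] S := (Algebra.TensorProduct.lid A S).toAlgHom
  have hinj : Function.Injective (e.toLinearMap.rTensor P) := by
    apply Function.LeftInverse.injective (g := e'.toLinearMap.rTensor P)
    intro v
    rw [← LinearMap.comp_apply, ← LinearMap.rTensor_comp]
    have : e'.toLinearMap ∘ₗ e.toLinearMap = LinearMap.id := by
      ext s; simp [e, e']
    rw [this, LinearMap.rTensor_id]; rfl
  apply hinj
  rw [PolynomialLaw.isCompat_apply', PolynomialLaw.isCompat_apply', h]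

end Uniq

section Main

variable {A B M : Type u} [CommRing A] [CommRing B] [Algebra A B]
    [AddCommGroup M] [Module A M] [Module B M] [IsScalarTower A B M] [Module.Finite A M]
    [Module.Projective A M]

theorem main19867 :
    ∃! N : B →ₚₗ[A] A, PolLaw.IsMult N ∧
      ∀ (S : Type u) [CommRing S] [IsLocalRing S] [Algebra A S] (x : S ⊗[A] B),
      N.toFun' S x = PolLaw.detAct M S x ⊗ₜ[A] (1 : A) := by
  obtain ⟨n, f, hf⟩ := Module.Finite.exists_fin' A M
  obtain ⟨g, hg⟩ := Module.projective_lifting_property f LinearMap.id hf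
  refine ⟨Nlaw M g f, ⟨Nlaw_isMult M g f hg, fun S _ _ _ x => ?_⟩, ?_⟩
  · rw [Nlaw_ring, detE_local M g f hg]
  · rintro N' ⟨-, h'⟩
    apply ext_of_ring
    intro R _ _ x
    apply eq_of_local_ring
    intro S _ _ _ y
    rw [h', Nlaw_ring, detE_local M g f hg]

theorem main13876 (d : ℕ) (hd : ∀ p : PrimeSpectrum A, Module.rankAtStalk M p = d) :
    ∃! N : PolLaw.MulLaw A B A d,
      ∀ (S : Type u) [CommRing S] [IsLocalRing S] [Algebra A S] (x : S ⊗[A] B),
      N.law.toFun' S x = PolLaw.detAct M S x ⊗ₜ[A] (1 : A) := by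
  obtain ⟨n, f, hf⟩ := Module.Finite.exists_fin' A M
  obtain ⟨g, hg⟩ := Module.projective_lifting_property f LinearMap.id hf
  refine ⟨⟨Nlaw M g f, fun S _ _ s x => NFun_smul M g f hg d hd S s x, Nlaw_isMult M g f hg⟩,
    fun S _ _ _ x => ?_, ?_⟩
  · show (Nlaw M g f).toFun' S x = _
    rw [Nlaw_ring, detE_local M g f hg]
  · intro N' h'
    apply PolLaw.MulLaw.ext
    show N'.law = Nlaw M g f
    apply ext_of_ring
    intro R _ _ x
    apply eq_of_local_ring
    intro S _ _ _ y
    rw [h', Nlaw_ring, detE_local M g f hg]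

end Main

end Groth.Agent.Lib.DetProjH1
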