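import Mathlib

/-!
# Polynomial laws are determined by (and can be built from) their restriction to polynomial rings
(helper1)
-/

set_option autoImplicit false
universe u v w
open scoped TensorProduct
open MvPolynomial

namespace Groth.Agent.Lib.PolLawRestrH1

variable {A : Type u} [CommRing A] {M : Type v} [AddCommGroup M] [Module A M]
  {N : Type w} [AddCommGroup N] [Module A N]

/-- Compatibility of a family of maps on polynomial rings. -/
def Compat (T : ∀ n : ℕ, MvPolynomial (Fin n) A ⊗[A] M → MvPolynomial (Fin n) A ⊗[A] N) : Prop :=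
  ∀ (n m : ℕ) (φ : MvPolynomial (Fin n) A →ₐ[A] MvPolynomial (Fin m) A),
    φ.toLinearMap.rTensor N ∘ T n = T m ∘ φ.toLinearMap.rTensor M

theorem rT_comp {S S' S'' : Type*} [Semiring S] [Algebra A S] [Semiring S'] [Algebra A S']
    [Semiring S''] [Algebra A S''] (Q : Type*) [AddCommMonoid Q] [Module A Q]
    (g : S' →ₐ[A] S'') (f : S →ₐ[A] S') (y : S ⊗[A] Q) :
    g.toLinearMap.rTensor Q (f.toLinearMap.rTensor Q y) =
      (g.comp f).toLinearMap.rTensor Q y := by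
  rw [AlgHom.comp_toLinearMap, LinearMap.rTensor_comp, LinearMap.comp_apply]

theorem rT_id {S : Type*} [Semiring S] [Algebra A S] (Q : Type*) [AddCommMonoid Q] [Module A Q]
    (y : S ⊗[A] Q) : (AlgHom.id A S).toLinearMap.rTensor Q y = y := by
  rw [AlgHom.toLinearMap_id, LinearMap.rTensor_id, LinearMap.id_apply]

theorem compat_apply {T : ∀ n : ℕ, MvPolynomial (Fin n) A ⊗[A] M → MvPolynomial (Fin n) A ⊗[A] N}
    (hT : Compat T) {n m : ℕ} (φ : MvPolynomial (Fin n) A →ₐ[A] MvPolynomial (Fin m) A)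
    (p : MvPolynomial (Fin n) A ⊗[A] M) :
    φ.toLinearMap.rTensor N (T n p) = T m (φ.toLinearMap.rTensor M p) :=
  congr_fun (hT n m φ) p

section Exact

variable {P : Type u} [CommRing P] [Algebra A P]

theorem exists_sum_pure (I : Ideal P) (w : ↥(I.restrictScalars A) ⊗[A] M) :
    ∃ (k : ℕ) (i : Fin k → P) (m : Fin k → M), (∀ j, i j ∈ I) ∧
      (I.restrictScalars A).subtype.rTensor M w = ∑ j, i j ⊗ₜ[A] m j := by
  induction w using TensorProduct.induction_on with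
  | zero => exact ⟨0, Fin.elim0, Fin.elim0, fun j => j.elim0, by simp⟩
  | tmul a m => exact ⟨1, fun _ => a.1, fun _ => m, fun _ => a.2, by simp⟩
  | add w₁ w₂ h₁ h₂ =>
    obtain ⟨k₁, i₁, m₁, hi₁, e₁⟩ := h₁
    obtain ⟨k₂, i₂, m₂, hi₂, e₂⟩ := h₂
    refine ⟨k₁ + k₂, Fin.append i₁ i₂, Fin.append m₁ m₂, ?_, ?_⟩
    · intro j
      refine Fin.addCases (fun a => ?_) (fun b => ?_) j
      · rw [Fin.append_left]
        exact hi₁ a
      · rw [Fin.append_right]
        exact hi₂ b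
    · rw [map_add, e₁, e₂, Fin.sum_univ_add]
      simp only [Fin.append_left, Fin.append_right]

theorem exists_sum_of_mk_eq_zero (I : Ideal P) (x : P ⊗[A] M)
    (hx : (Ideal.Quotient.mkₐ A I).toLinearMap.rTensor M x = 0) :
    ∃ (k : ℕ) (i : Fin k → P) (m : Fin k → M), (∀ j, i j ∈ I) ∧ x = ∑ j, i j ⊗ₜ[A] m j := by
  have hex : Function.Exact ((I.restrictScalars A).subtype)
      ((Ideal.Quotient.mkₐ A I).toLinearMap) := by
    intro y
    constructor
    · intro hy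
      exact ⟨⟨y, Ideal.Quotient.eq_zero_iff_mem.mp hy⟩, rfl⟩
    · rintro ⟨z, rfl⟩
      exact Ideal.Quotient.eq_zero_iff_mem.mpr z.2
  have hsurj : Function.Surjective ((Ideal.Quotient.mkₐ A I).toLinearMap) :=
    Ideal.Quotient.mkₐ_surjective A I
  have h2 := rTensor_exact M hex hsurj
  obtain ⟨w, hw⟩ := (h2 x).mp hx
  obtain ⟨k, i, m, hi, e⟩ := exists_sum_pure (A := A) (M := M) I w
  exact ⟨k, i, m, hi, by rw [← hw, e]⟩

end Exact

section Trick

variable {T : ∀ n : ℕ, MvPolynomial (Fin n) A ⊗[A] M → MvPolynomial (Fin n) A ⊗[A] N}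
  {S : Type u} [CommSemiring S] [Algebra A S]

theorem zTrick (hT : Compat T) {n : ℕ}
    (ψ : MvPolynomial (Fin n) A →ₐ[A] S) (q q' : MvPolynomial (Fin n) A ⊗[A] M)
    {k : ℕ} (i : Fin k → MvPolynomial (Fin n) A) (m : Fin k → M) (hi : ∀ j, ψ (i j) = 0)
    (hq : q = q' + ∑ j, i j ⊗ₜ[A] m j) :
    ψ.toLinearMap.rTensor N (T n q) = ψ.toLinearMap.rTensor N (T n q') := by
  obtain ⟨ι, hι⟩ : ∃ ι : MvPolynomial (Fin n) A →ₐ[A] MvPolynomial (Fin (n + k)) A,
      ι = rename (Fin.castAdd k) := ⟨_, rfl⟩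
  obtain ⟨ev₁, hev₁⟩ : ∃ ev₁ : MvPolynomial (Fin (n + k)) A →ₐ[A] MvPolynomial (Fin n) A,
      ev₁ = aeval (Fin.append (fun a => (X a : MvPolynomial (Fin n) A)) i) := ⟨_, rfl⟩
  obtain ⟨ev₀, hev₀⟩ : ∃ ev₀ : MvPolynomial (Fin (n + k)) A →ₐ[A] MvPolynomial (Fin n) A,
      ev₀ = aeval (Fin.append (fun a => (X a : MvPolynomial (Fin n) A)) (fun _ => 0)) :=
    ⟨_, rfl⟩
  obtain ⟨Q, hQ⟩ : ∃ Q : MvPolynomial (Fin (n + k)) A ⊗[A] M,
      Q = ι.toLinearMap.rTensor M q' +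
        ∑ j, (X (Fin.natAdd n j) : MvPolynomial (Fin (n + k)) A) ⊗ₜ[A] m j := ⟨_, rfl⟩
  have h1ι : ev₁.comp ι = AlgHom.id A _ := by
    apply MvPolynomial.algHom_ext
    intro a
    rw [hev₁, hι, AlgHom.comp_apply, rename_X, aeval_X, Fin.append_left]
    rfl
  have h0ι : ev₀.comp ι = AlgHom.id A _ := by
    apply MvPolynomial.algHom_ext
    intro a
    rw [hev₀, hι, AlgHom.comp_apply, rename_X, aeval_X, Fin.append_left]
    rfl
  have hQ1 : ev₁.toLinearMap.rTensor M Q = q := by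
    rw [hq, hQ, map_add, map_sum, rT_comp, h1ι, rT_id]
    congr 1
    refine Finset.sum_congr rfl fun j _ => ?_
    rw [LinearMap.rTensor_tmul, AlgHom.toLinearMap_apply, hev₁, aeval_X, Fin.append_right]
  have hQ0 : ev₀.toLinearMap.rTensor M Q = q' := by
    rw [hQ, map_add, map_sum, rT_comp, h0ι, rT_id]
    rw [Finset.sum_eq_zero, add_zero]
    intro j _
    rw [LinearMap.rTensor_tmul, AlgHom.toLinearMap_apply, hev₀, aeval_X, Fin.append_right,
      TensorProduct.zero_tmul]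
  have hψ : ψ.comp ev₁ = ψ.comp ev₀ := by
    apply MvPolynomial.algHom_ext
    intro a
    refine Fin.addCases (fun b => ?_) (fun j => ?_) a
    · rw [AlgHom.comp_apply, AlgHom.comp_apply, hev₁, hev₀, aeval_X, aeval_X, Fin.append_left,
        Fin.append_left]
    · rw [AlgHom.comp_apply, AlgHom.comp_apply, hev₁, hev₀, aeval_X, aeval_X, Fin.append_right,
        Fin.append_right, hi, map_zero]
  calc ψ.toLinearMap.rTensor N (T n q)
      = ψ.toLinearMap.rTensor N (T n (ev₁.toLinearMap.rTensor M Q)) := by rw [hQ1]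
    _ = ψ.toLinearMap.rTensor N (ev₁.toLinearMap.rTensor N (T (n + k) Q)) := by
        rw [compat_apply hT]
    _ = (ψ.comp ev₁).toLinearMap.rTensor N (T (n + k) Q) := rT_comp N _ _ _
    _ = (ψ.comp ev₀).toLinearMap.rTensor N (T (n + k) Q) := by rw [hψ]
    _ = ψ.toLinearMap.rTensor N (ev₀.toLinearMap.rTensor N (T (n + k) Q)) :=
        (rT_comp N _ _ _).symm
    _ = ψ.toLinearMap.rTensor N (T n (ev₀.toLinearMap.rTensor M Q)) := by
        rw [compat_apply hT]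
    _ = ψ.toLinearMap.rTensor N (T n q') := by rw [hQ0]

theorem eq_of_rangeRestrict_eq (hT : Compat T) {n : ℕ}
    (ψ : MvPolynomial (Fin n) A →ₐ[A] S) (q q' : MvPolynomial (Fin n) A ⊗[A] M)
    (h : ψ.rangeRestrict.toLinearMap.rTensor M q = ψ.rangeRestrict.toLinearMap.rTensor M q') :
    ψ.toLinearMap.rTensor N (T n q) = ψ.toLinearMap.rTensor N (T n q') := by
  obtain ⟨θ, hθ⟩ : ∃ θ : (MvPolynomial (Fin n) A ⧸ RingHom.ker ψ) ≃ₐ[A] ψ.range,
      θ = Ideal.quotientKerEquivRange ψ := ⟨_, rfl⟩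
  have hcomp : θ.toAlgHom.comp (Ideal.Quotient.mkₐ A (RingHom.ker ψ)) = ψ.rangeRestrict := by
    apply AlgHom.ext
    intro a
    rw [hθ]
    rfl
  have h1 : ∀ y : MvPolynomial (Fin n) A ⊗[A] M,
      ψ.rangeRestrict.toLinearMap.rTensor M y =
        (θ.toLinearEquiv.rTensor M) ((Ideal.Quotient.mkₐ A (RingHom.ker ψ)).toLinearMap.rTensor M y) := by
    intro y
    rw [← hcomp, ← rT_comp]
    rfl
  rw [h1, h1] at h
  have h2 := (θ.toLinearEquiv.rTensor M).injective h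
  have h3 : (Ideal.Quotient.mkₐ A (RingHom.ker ψ)).toLinearMap.rTensor M (q - q') = 0 := by
    rw [map_sub, h2, sub_self]
  obtain ⟨k, i, m, hi, e⟩ := exists_sum_of_mk_eq_zero (A := A) (M := M) (RingHom.ker ψ) (q - q') h3
  exact zTrick hT ψ q q' i m (fun j => hi j) (by rw [← e]; abel)

theorem eq_of_eq_same (hT : Compat T) {n : ℕ}
    (ψ : MvPolynomial (Fin n) A →ₐ[A] S) (q q' : MvPolynomial (Fin n) A ⊗[A] M)
    (h : ψ.toLinearMap.rTensor M q = ψ.toLinearMap.rTensor M q') :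
    ψ.toLinearMap.rTensor N (T n q) = ψ.toLinearMap.rTensor N (T n q') := by
  classical
  have hB₀ : (ψ.range).FG := by
    rw [← Algebra.map_top]
    exact Subalgebra.FG.map _ Algebra.FiniteType.out
  have hval : ∀ y : MvPolynomial (Fin n) A ⊗[A] M,
      ψ.range.val.toLinearMap.rTensor M (ψ.rangeRestrict.toLinearMap.rTensor M y) =
        ψ.toLinearMap.rTensor M y := by
    intro y
    rw [rT_comp, AlgHom.val_comp_rangeRestrict]
  have h0 : ψ.range.val.toLinearMap.rTensor M (ψ.rangeRestrict.toLinearMap.rTensor M q) =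
      ψ.range.val.toLinearMap.rTensor M (ψ.rangeRestrict.toLinearMap.rTensor M q') := by
    rw [hval, hval, h]
  obtain ⟨B, hAB, ⟨w, hw⟩, hEq⟩ := TensorProduct.Algebra.eq_of_fg_of_subtype_eq hB₀ h0
  obtain ⟨k, hk⟩ : ∃ k : ℕ, k = w.card := ⟨_, rfl⟩
  obtain ⟨gens, hgens⟩ : ∃ gens : Fin k → S, gens = fun j => ((w.equivFin.symm (hk ▸ j) : w) : S) :=
    ⟨_, rfl⟩
  obtain ⟨ψ₄, hψ₄⟩ : ∃ ψ₄ : MvPolynomial (Fin (n + k)) A →ₐ[A] S,
      ψ₄ = aeval (Fin.append (fun a => ψ (X a)) gens) := ⟨_, rfl⟩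
  obtain ⟨ι, hι⟩ : ∃ ι : MvPolynomial (Fin n) A →ₐ[A] MvPolynomial (Fin (n + k)) A,
      ι = rename (Fin.castAdd k) := ⟨_, rfl⟩
  have hψι : ψ₄.comp ι = ψ := by
    apply MvPolynomial.algHom_ext
    intro a
    rw [hψ₄, hι, AlgHom.comp_apply, rename_X, aeval_X, Fin.append_left]
  have hBB' : B ≤ ψ₄.range := by
    rw [← hw]
    apply Algebra.adjoin_le
    intro s hs
    have hs' : s ∈ w := hs
    subst hk
    refine ⟨X (Fin.natAdd n (w.equivFin ⟨s, hs'⟩)), ?_⟩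
    rw [hψ₄]
    show aeval _ (X _) = s
    rw [aeval_X, Fin.append_right, hgens]
    simp
  have hincl : (Subalgebra.inclusion (hAB.trans hBB')).comp ψ.rangeRestrict =
      ψ₄.rangeRestrict.comp ι := by
    apply AlgHom.ext
    intro a
    apply Subtype.ext
    show ψ a = ψ₄ (ι a)
    rw [← AlgHom.comp_apply, hψι]
  have hEq' : ψ₄.rangeRestrict.toLinearMap.rTensor M (ι.toLinearMap.rTensor M q) =
      ψ₄.rangeRestrict.toLinearMap.rTensor M (ι.toLinearMap.rTensor M q') := by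
    rw [rT_comp, rT_comp, ← hincl, ← rT_comp, ← rT_comp]
    have h5 : Subalgebra.inclusion (hAB.trans hBB') =
        (Subalgebra.inclusion hBB').comp (Subalgebra.inclusion hAB) := by
      apply AlgHom.ext
      intro a
      rfl
    rw [h5, ← rT_comp, ← rT_comp, hEq]
  have h6 := eq_of_rangeRestrict_eq hT ψ₄ _ _ hEq'
  rw [← compat_apply hT, ← compat_apply hT, rT_comp, rT_comp, hψι] at h6
  exact h6

theorem eq_of_eq (hT : Compat T) {n₁ n₂ : ℕ}
    (ψ₁ : MvPolynomial (Fin n₁) A →ₐ[A] S) (ψ₂ : MvPolynomial (Fin n₂) A →ₐ[A] S)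
    (p₁ : MvPolynomial (Fin n₁) A ⊗[A] M) (p₂ : MvPolynomial (Fin n₂) A ⊗[A] M)
    (h : ψ₁.toLinearMap.rTensor M p₁ = ψ₂.toLinearMap.rTensor M p₂) :
    ψ₁.toLinearMap.rTensor N (T n₁ p₁) = ψ₂.toLinearMap.rTensor N (T n₂ p₂) := by
  obtain ⟨ψ₃, hψ₃⟩ : ∃ ψ₃ : MvPolynomial (Fin (n₁ + n₂)) A →ₐ[A] S,
      ψ₃ = aeval (Fin.append (fun a => ψ₁ (X a)) (fun b => ψ₂ (X b))) := ⟨_, rfl⟩
  obtain ⟨ι₁, hι₁⟩ : ∃ ι₁ : MvPolynomial (Fin n₁) A →ₐ[A] MvPolynomial (Fin (n₁ + n₂)) A,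
      ι₁ = rename (Fin.castAdd n₂) := ⟨_, rfl⟩
  obtain ⟨ι₂, hι₂⟩ : ∃ ι₂ : MvPolynomial (Fin n₂) A →ₐ[A] MvPolynomial (Fin (n₁ + n₂)) A,
      ι₂ = rename (Fin.natAdd n₁) := ⟨_, rfl⟩
  have h1 : ψ₃.comp ι₁ = ψ₁ := by
    apply MvPolynomial.algHom_ext
    intro a
    rw [hψ₃, hι₁, AlgHom.comp_apply, rename_X, aeval_X, Fin.append_left]
  have h2 : ψ₃.comp ι₂ = ψ₂ := by
    apply MvPolynomial.algHom_ext
    intro a
    rw [hψ₃, hι₂, AlgHom.comp_apply, rename_X, aeval_X, Fin.append_right]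
  have h3 : ψ₃.toLinearMap.rTensor M (ι₁.toLinearMap.rTensor M p₁) =
      ψ₃.toLinearMap.rTensor M (ι₂.toLinearMap.rTensor M p₂) := by
    rw [rT_comp, rT_comp, h1, h2, h]
  have h4 := eq_of_eq_same hT ψ₃ _ _ h3
  rw [← compat_apply hT, ← compat_apply hT, rT_comp, rT_comp, h1, h2] at h4
  exact h4

end Trick

section Law

variable (T : ∀ n : ℕ, MvPolynomial (Fin n) A ⊗[A] M → MvPolynomial (Fin n) A ⊗[A] N)
  (S : Type u) [CommSemiring S] [Algebra A S]

/-- Presentations of elements of `S ⊗ M` through polynomial rings. -/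
def Lifts (A : Type u) [CommRing A] (M : Type v) [AddCommGroup M] [Module A M]
    (S : Type u) [CommSemiring S] [Algebra A S] : Type (max u v) :=
  Σ n : ℕ, (MvPolynomial (Fin n) A →ₐ[A] S) × (MvPolynomial (Fin n) A ⊗[A] M)

/-- The element presented. -/
noncomputable def proj : Lifts A M S → S ⊗[A] M := fun x => x.2.1.toLinearMap.rTensor M x.2.2

/-- The value on a presentation. -/
noncomputable def lifted : Lifts A M S → S ⊗[A] N := fun x => x.2.1.toLinearMap.rTensor N (T x.1 x.2.2)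

/-- The extension of `T` to `S`. -/
noncomputable def toFunS : S ⊗[A] M → S ⊗[A] N :=
  Function.extend (proj (A := A) (M := M) S) (lifted T S) (fun _ => 0)

variable {T} {S}

theorem toFunS_apply (hT : Compat T) {n : ℕ} (ψ : MvPolynomial (Fin n) A →ₐ[A] S)
    (p : MvPolynomial (Fin n) A ⊗[A] M) :
    toFunS T S (ψ.toLinearMap.rTensor M p) = ψ.toLinearMap.rTensor N (T n p) := by
  have hf : Function.FactorsThrough (lifted T S) (proj (A := A) (M := M) S) := by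
    rintro ⟨n₁, ψ₁, p₁⟩ ⟨n₂, ψ₂, p₂⟩ h
    exact eq_of_eq hT ψ₁ ψ₂ p₁ p₂ h
  exact hf.extend_apply _ (⟨n, ψ, p⟩ : Lifts A M S)

variable (T)

/-- The polynomial law built from a compatible family. -/
noncomputable def law (hT : Compat T) : M →ₚₗ[A] N where
  toFun' S _ _ := toFunS T S
  isCompat' {S _ _ S' _ _} φ := by
    funext x
    obtain ⟨n, ψ, p, rfl⟩ := PolynomialLaw.exists_lift (R := A) (M := M) x
    simp only [Function.comp_apply]
    rw [toFunS_apply hT, rT_comp, rT_comp, toFunS_apply hT]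

end Law

theorem main : Function.Bijective (fun F : M →ₚₗ[A] N =>
      (⟨fun n => F.toFun' (MvPolynomial (Fin n) A), fun n m φ => F.isCompat' φ⟩ :
        {T : ∀ n : ℕ, MvPolynomial (Fin n) A ⊗[A] M → MvPolynomial (Fin n) A ⊗[A] N //
          ∀ (n m : ℕ) (φ : MvPolynomial (Fin n) A →ₐ[A] MvPolynomial (Fin m) A),
            φ.toLinearMap.rTensor N ∘ T n = T m ∘ φ.toLinearMap.rTensor M})) := by
  constructor
  · intro F G h
    have h' : ∀ n, F.toFun' (MvPolynomial (Fin n) A) = G.toFun' (MvPolynomial (Fin n) A) :=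
      fun n => congr_fun (congr_arg Subtype.val h) n
    apply PolynomialLaw.ext
    funext S _ _ x
    obtain ⟨n, ψ, p, rfl⟩ := PolynomialLaw.exists_lift (R := A) (M := M) x
    rw [← PolynomialLaw.isCompat_apply', ← PolynomialLaw.isCompat_apply', h' n]
  · rintro ⟨T, hT⟩
    refine ⟨law T hT, Subtype.ext ?_⟩
    funext n x
    show toFunS T (MvPolynomial (Fin n) A) x = T n x
    have h1 := toFunS_apply (T := T) hT (AlgHom.id A (MvPolynomial (Fin n) A)) x
    rwa [rT_id, rT_id] at h1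

end Groth.Agent.Lib.PolLawRestrH1
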