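import Mathlib
import Groth.Prelude.Def_PolLaw

/-!
# Kernels of multiplicative polynomial laws: base change to polynomial rings (helper1)
-/

set_option autoImplicit false
universe u
open scoped TensorProduct
open Polynomial

namespace Groth.Agent.Lib.PolLawKerH1

variable {A : Type u} [CommRing A] {B : Type u} [CommRing B] [Algebra A B]

section Basic

variable {C : Type u} [CommRing C] [Algebra A C]

theorem rT_eq_map {S S' : Type u} [CommSemiring S] [Algebra A S] [CommSemiring S'] [Algebra A S']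
    (C : Type u) [CommRing C] [Algebra A C] (φ : S →ₐ[A] S') (z : S ⊗[A] C) :
    φ.toLinearMap.rTensor C z = Algebra.TensorProduct.map φ (AlgHom.id A C) z := by
  induction z using TensorProduct.induction_on with
  | zero => simp
  | tmul a b => rfl
  | add a b ha hb => simp [ha, hb]

theorem compat_map (F : B →ₚₗ[A] C) {S S' : Type u} [CommSemiring S] [Algebra A S]
    [CommSemiring S'] [Algebra A S'] (φ : S →ₐ[A] S') (z : S ⊗[A] B) :
    Algebra.TensorProduct.map φ (AlgHom.id A C) (F.toFun' S z) =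
      F.toFun' S' (Algebra.TensorProduct.map φ (AlgHom.id A B) z) := by
  rw [← rT_eq_map, ← rT_eq_map]
  exact congr_fun (F.isCompat' φ) z

theorem mem_ker_iff (F : B →ₚₗ[A] C) (b : B) :
    b ∈ PolLaw.ker F ↔ ∀ (S : Type u) [CommSemiring S] [Algebra A S] (x w : S ⊗[A] B),
      F.toFun' S (x + w * (1 ⊗ₜ[A] b)) = F.toFun' S x := Iff.rfl

theorem mem_kerBC_iff (F : B →ₚₗ[A] C) (A' : Type u) [CommRing A'] [Algebra A A']
    (b' : A' ⊗[A] B) :
    b' ∈ PolLaw.kerBC F A' ↔ ∀ (R : Type u) [CommSemiring R] [Algebra A R] [Algebra A' R]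
      [IsScalarTower A A' R] (x w : R ⊗[A] B),
      F.toFun' R (x + w * Algebra.TensorProduct.map (IsScalarTower.toAlgHom A A' R)
        (AlgHom.id A B) b') = F.toFun' R x := Iff.rfl

theorem toFun_add_sum_of_mem_ker (F : B →ₚₗ[A] C) {S : Type u} [CommSemiring S] [Algebra A S]
    {ι : Type*} (s : Finset ι) (v : ι → S ⊗[A] B) (c : ι → B)
    (hc : ∀ j ∈ s, c j ∈ PolLaw.ker F) (y : S ⊗[A] B) :
    F.toFun' S (y + ∑ j ∈ s, v j * ((1 : S) ⊗ₜ[A] c j)) = F.toFun' S y := by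
  classical
  induction s using Finset.induction_on with
  | empty => simp
  | insert a s ha ih =>
    rw [Finset.sum_insert ha, add_comm (v a * _), ← add_assoc]
    rw [(mem_ker_iff F (c a)).1 (hc a (Finset.mem_insert_self a s)) S _ (v a)]
    exact ih (fun j hj => hc j (Finset.mem_insert_of_mem hj))

theorem map_ker_le_kerBC (F : B →ₚₗ[A] C) (A' : Type u) [CommRing A'] [Algebra A A'] :
    (PolLaw.ker F).map (Algebra.TensorProduct.includeRight : B →ₐ[A] A' ⊗[A] B) ≤
      PolLaw.kerBC F A' := by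
  rw [Ideal.map_le_iff_le_comap]
  intro b hb
  show (Algebra.TensorProduct.includeRight : B →ₐ[A] A' ⊗[A] B) b ∈ PolLaw.kerBC F A'
  rw [mem_kerBC_iff]
  intro R _ _ _ _ x w
  have h1 : Algebra.TensorProduct.map (IsScalarTower.toAlgHom A A' R) (AlgHom.id A B)
      ((Algebra.TensorProduct.includeRight : B →ₐ[A] A' ⊗[A] B) b) = (1 : R) ⊗ₜ[A] b := by
    rw [Algebra.TensorProduct.includeRight_apply, Algebra.TensorProduct.map_tmul, map_one]
    rfl
  rw [h1]
  exact (mem_ker_iff F b).1 hb R x w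

theorem tmul_one_mul {S : Type u} [CommSemiring S] [Algebra A S] (r : S) (z : S ⊗[A] C) :
    (r ⊗ₜ[A] (1 : C)) * z = r • z := by
  induction z using TensorProduct.induction_on with
  | zero => simp
  | tmul a b =>
    rw [Algebra.TensorProduct.tmul_mul_tmul, one_mul, TensorProduct.smul_tmul', smul_eq_mul]
  | add a b ha hb => rw [mul_add, smul_add, ha, hb]

end Basic

section Poly

theorem exists_repr (b' : A[X] ⊗[A] B) :
    ∃ (n : ℕ) (c : ℕ → B), b' = ∑ i ∈ Finset.range n, (X ^ i : A[X]) ⊗ₜ[A] c i := by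
  induction b' using TensorProduct.induction_on with
  | zero => exact ⟨0, fun _ => 0, by simp⟩
  | tmul p b =>
    refine ⟨p.natDegree + 1, fun i => p.coeff i • b, ?_⟩
    conv_lhs => rw [p.as_sum_range_C_mul_X_pow, TensorProduct.sum_tmul]
    refine Finset.sum_congr rfl fun i _ => ?_
    rw [Polynomial.C_mul', TensorProduct.smul_tmul]
  | add y z hy hz =>
    obtain ⟨n₁, c₁, rfl⟩ := hy
    obtain ⟨n₂, c₂, rfl⟩ := hz
    refine ⟨max n₁ n₂, fun i => (if i < n₁ then c₁ i else 0) + (if i < n₂ then c₂ i else 0), ?_⟩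
    simp only [TensorProduct.tmul_add, Finset.sum_add_distrib]
    congr 1
    · rw [← Finset.sum_subset (Finset.range_subset_range.2 (le_max_left n₁ n₂))]
      · refine Finset.sum_congr rfl fun i hi => ?_
        rw [if_pos (Finset.mem_range.1 hi)]
      · intro i _ hi
        rw [if_neg (fun h => hi (Finset.mem_range.2 h)), TensorProduct.tmul_zero]
    · rw [← Finset.sum_subset (Finset.range_subset_range.2 (le_max_right n₁ n₂))]
      · refine Finset.sum_congr rfl fun i hi => ?_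
        rw [if_pos (Finset.mem_range.1 hi)]
      · intro i _ hi
        rw [if_neg (fun h => hi (Finset.mem_range.2 h)), TensorProduct.tmul_zero]

variable {d : ℕ}

theorem coeff_mem_ker (F : PolLaw.MulLaw A B A d) (i m : ℕ) (c : ℕ → B)
    (hlow : ∀ j < i, c j ∈ PolLaw.ker F.law)
    (hb : (∑ j ∈ Finset.range (i + 1 + m), (X ^ j : A[X]) ⊗ₜ[A] c j) ∈
      PolLaw.kerBC F.law A[X]) :
    c i ∈ PolLaw.ker F.law := by
  rw [mem_ker_iff]
  intro S _ _ x w
  letI : Algebra A[X] S[X] := (Polynomial.mapRingHom (algebraMap A S)).toAlgebra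
  haveI : IsScalarTower A A[X] S[X] := IsScalarTower.of_algebraMap_eq (fun a => by
    show algebraMap A S[X] a = Polynomial.map (algebraMap A S) (algebraMap A A[X] a)
    simp [Polynomial.algebraMap_apply])
  obtain ⟨ιS, hιS⟩ : ∃ ιS : S →ₐ[A] S[X], ιS = IsScalarTower.toAlgHom A S S[X] := ⟨_, rfl⟩
  obtain ⟨ev₀, hev₀⟩ : ∃ ev₀ : S[X] →ₐ[A] S, ev₀ = (Polynomial.aeval (0 : S)).restrictScalars A :=
    ⟨_, rfl⟩
  have hevι : ∀ s : S, ev₀ (ιS s) = s := by
    intro s
    rw [hev₀, hιS]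
    show Polynomial.aeval (0 : S) (algebraMap S S[X] s) = s
    simp
  have hevX : ev₀ (X : S[X]) = 0 := by
    rw [hev₀]
    show Polynomial.aeval (0 : S) (X : S[X]) = 0
    simp
  obtain ⟨mB, hmB⟩ : ∃ mB : S ⊗[A] B →ₐ[A] S[X] ⊗[A] B,
      mB = Algebra.TensorProduct.map ιS (AlgHom.id A B) := ⟨_, rfl⟩
  obtain ⟨eB, heB⟩ : ∃ eB : S[X] ⊗[A] B →ₐ[A] S ⊗[A] B,
      eB = Algebra.TensorProduct.map ev₀ (AlgHom.id A B) := ⟨_, rfl⟩
  have heBmB : ∀ z : S ⊗[A] B, eB (mB z) = z := by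
    intro z
    induction z using TensorProduct.induction_on with
    | zero => simp
    | tmul a b =>
      rw [hmB, heB, Algebra.TensorProduct.map_tmul, Algebra.TensorProduct.map_tmul, hevι]
      rfl
    | add a b ha hb => rw [map_add, map_add, ha, hb]
  obtain ⟨t, ht⟩ : ∃ t : S[X], t = X := ⟨_, rfl⟩
  -- the image of the element in `S[X] ⊗ B`
  have hbR : Algebra.TensorProduct.map (IsScalarTower.toAlgHom A A[X] S[X]) (AlgHom.id A B)
      (∑ j ∈ Finset.range (i + 1 + m), (X ^ j : A[X]) ⊗ₜ[A] c j) =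
      ∑ j ∈ Finset.range (i + 1 + m), (t ^ j) ⊗ₜ[A] c j := by
    rw [map_sum]
    refine Finset.sum_congr rfl fun j _ => ?_
    rw [Algebra.TensorProduct.map_tmul, ht]
    congr 1
    show Polynomial.map (algebraMap A S) (X ^ j) = X ^ j
    rw [Polynomial.map_pow, Polynomial.map_X]
  obtain ⟨v, hv⟩ : ∃ v : S[X] ⊗[A] B, v = ∑ k ∈ Finset.range m, (t ^ k) ⊗ₜ[A] c (i + 1 + k) :=
    ⟨_, rfl⟩
  have hsplit : ∑ j ∈ Finset.range (i + 1 + m), (t ^ j) ⊗ₜ[A] c j =
      ∑ j ∈ Finset.range i, ((t ^ j) ⊗ₜ[A] (1 : B)) * ((1 : S[X]) ⊗ₜ[A] c j) +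
        ((t ^ i) ⊗ₜ[A] (1 : B)) * (((1 : S[X]) ⊗ₜ[A] c i) + (t ⊗ₜ[A] (1 : B)) * v) := by
    rw [Finset.sum_range_add, Finset.sum_range_succ, add_assoc]
    congr 1
    · refine Finset.sum_congr rfl fun j _ => ?_
      rw [Algebra.TensorProduct.tmul_mul_tmul, mul_one, one_mul]
    · rw [mul_add, Algebra.TensorProduct.tmul_mul_tmul, mul_one, one_mul]
      congr 1
      rw [hv, Finset.mul_sum, Finset.mul_sum]
      refine Finset.sum_congr rfl fun k _ => ?_
      rw [Algebra.TensorProduct.tmul_mul_tmul, Algebra.TensorProduct.tmul_mul_tmul, one_mul,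
        one_mul, pow_add, pow_add, pow_one, mul_assoc]
  have key := (mem_kerBC_iff F.law A[X] _).1 hb S[X] (t ^ i • mB x) (mB w)
  rw [hbR, hsplit] at key
  -- reorganize
  have hre : t ^ i • mB x + mB w *
      (∑ j ∈ Finset.range i, ((t ^ j) ⊗ₜ[A] (1 : B)) * ((1 : S[X]) ⊗ₜ[A] c j) +
        ((t ^ i) ⊗ₜ[A] (1 : B)) * (((1 : S[X]) ⊗ₜ[A] c i) + (t ⊗ₜ[A] (1 : B)) * v)) =
      t ^ i • (mB x + mB w * (((1 : S[X]) ⊗ₜ[A] c i) + (t ⊗ₜ[A] (1 : B)) * v)) +
        ∑ j ∈ Finset.range i, (mB w * ((t ^ j) ⊗ₜ[A] (1 : B))) * ((1 : S[X]) ⊗ₜ[A] c j) := by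
    rw [mul_add, Finset.mul_sum, smul_add, ← tmul_one_mul (t ^ i) (mB w * _)]
    simp only [mul_assoc]
    rw [mul_left_comm (mB w) ((t ^ i) ⊗ₜ[A] (1 : B))]
    abel
  rw [hre, toFun_add_sum_of_mem_ker F.law (Finset.range i) _ c
    (fun j hj => hlow j (Finset.mem_range.1 hj)), F.homog, F.homog] at key
  -- cancel the power of `t`
  have hcancel : F.law.toFun' S[X] (mB x + mB w * (((1 : S[X]) ⊗ₜ[A] c i) +
      (t ⊗ₜ[A] (1 : B)) * v)) = F.law.toFun' S[X] (mB x) := by
    have h2 := congr_arg (Algebra.TensorProduct.rid A S[X] S[X]) key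
    rw [map_smul, map_smul, smul_eq_mul, smul_eq_mul, ← pow_mul] at h2
    have hreg : IsLeftRegular (t ^ (i * d)) := by
      rw [ht]; exact (Polynomial.isRegular_X_pow (i * d)).left
    exact (Algebra.TensorProduct.rid A S[X] S[X]).injective (hreg h2)
  -- evaluate at zero
  have h3 := congr_arg (Algebra.TensorProduct.map ev₀ (AlgHom.id A A)) hcancel
  rw [compat_map, compat_map, ← heB, map_add, map_mul, map_add, map_mul, heBmB, heBmB] at h3
  have h4 : eB (t ⊗ₜ[A] (1 : B)) = 0 := by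
    rw [heB, Algebra.TensorProduct.map_tmul, ht, hevX, TensorProduct.zero_tmul]
  have h5 : eB ((1 : S[X]) ⊗ₜ[A] c i) = (1 : S) ⊗ₜ[A] c i := by
    rw [heB, Algebra.TensorProduct.map_tmul, map_one]
    rfl
  rw [h4, h5, zero_mul, add_zero] at h3
  exact h3

theorem main13699 (F : PolLaw.MulLaw A B A d) :
    (PolLaw.ker F.law).map (Algebra.TensorProduct.includeRight : B →ₐ[A] A[X] ⊗[A] B) =
      PolLaw.kerBC F.law A[X] := by
  apply le_antisymm (map_ker_le_kerBC F.law A[X])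
  intro b' hb'
  obtain ⟨n, c, rfl⟩ := exists_repr b'
  have hc : ∀ i, i < n → c i ∈ PolLaw.ker F.law := by
    intro i
    induction i using Nat.strong_induction_on with
    | _ i ih =>
      intro hi
      obtain ⟨m, rfl⟩ : ∃ m, n = i + 1 + m := ⟨n - (i + 1), by omega⟩
      exact coeff_mem_ker F i m c (fun j hj => ih j hj (by omega)) hb'
  refine Ideal.sum_mem _ fun i hi => ?_
  have h1 : (X ^ i : A[X]) ⊗ₜ[A] c i = ((X ^ i : A[X]) ⊗ₜ[A] (1 : B)) *
      (Algebra.TensorProduct.includeRight : B →ₐ[A] A[X] ⊗[A] B) (c i) := by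
    rw [Algebra.TensorProduct.includeRight_apply, Algebra.TensorProduct.tmul_mul_tmul, mul_one,
      one_mul]
  rw [h1]
  exact Ideal.mul_mem_left _ _ (Ideal.mem_map_of_mem _ (hc i (Finset.mem_range.mp hi)))

end Poly

end Groth.Agent.Lib.PolLawKerH1
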