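import Mathlib
import Groth.Prelude.Def_PolLaw
import Groth.Agent.Lib.PolLawKer_helper1

/-!
# Kernels of multiplicative laws and direct limits of the source algebra (helper1)
-/

set_option autoImplicit false
universe u
open scoped TensorProduct

namespace Groth.Agent.Lib.PolLawLimH1

open Groth.Agent.Lib.PolLawKerH1

variable {A : Type u} [CommRing A] {B : Type u} [CommRing B] [Algebra A B]
  {C : Type u} [CommRing C] [Algebra A C]

theorem precomp_toFun' {B' : Type u} [CommRing B'] [Algebra A B'] {d : ℕ}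
    (F : PolLaw.MulLaw A B C d) (f : B' →ₐ[A] B) (S : Type u) [CommSemiring S] [Algebra A S]
    (z : S ⊗[A] B') :
    (F.precomp f).law.toFun' S z =
      F.law.toFun' S (Algebra.TensorProduct.map (AlgHom.id S S) f z) := by
  rw [← PolLaw.lTensor_algHom_apply]
  rfl

theorem main13720 {ι : Type u} [Preorder ι] [IsDirected ι (fun i j => i ≤ j)] [Nonempty ι]
    (Bi : ι → Type u) [∀ i, CommRing (Bi i)] [∀ i, Algebra A (Bi i)]
    (t : ∀ i j : ι, i ≤ j → (Bi i →ₐ[A] Bi j)) (φ : ∀ i : ι, Bi i →ₐ[A] B)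
    (hcomp : ∀ (i j : ι) (h : i ≤ j), (φ j).comp (t i j h) = φ i)
    (hsurj : ∀ b : B, ∃ (i : ι) (x : Bi i), φ i x = b)
    {d : ℕ} (F : PolLaw.MulLaw A B C d) (b : B) :
    b ∈ PolLaw.ker F.law ↔ ∃ (i : ι) (x : Bi i), φ i x = b ∧
      ∀ (j : ι) (h : i ≤ j), t i j h x ∈ PolLaw.ker (F.precomp (φ j)).law := by
  have hφt : ∀ (i j : ι) (h : i ≤ j) (x : Bi i), φ j (t i j h x) = φ i x := by
    intro i j h x
    rw [← hcomp i j h]; rfl
  constructor
  · intro hb
    obtain ⟨i, x, hx⟩ := hsurj b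
    refine ⟨i, x, hx, fun j h => ?_⟩
    rw [mem_ker_iff]
    intro S _ _ x' w'
    rw [precomp_toFun', precomp_toFun', map_add, map_mul, Algebra.TensorProduct.map_tmul, hφt, hx,
      map_one]
    exact (mem_ker_iff F.law b).1 hb S _ _
  · rintro ⟨i, x, hx, hker⟩
    rw [mem_ker_iff]
    intro S _ _ X W
    have hmapcomp : ∀ (i j : ι) (h : i ≤ j) (Z' : S ⊗[A] Bi i),
        Algebra.TensorProduct.map (AlgHom.id S S) (φ j)
          (Algebra.TensorProduct.map (AlgHom.id S S) (t i j h) Z') =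
        Algebra.TensorProduct.map (AlgHom.id S S) (φ i) Z' := by
      intro i j h Z'
      induction Z' using TensorProduct.induction_on with
      | zero => simp
      | tmul s y =>
        rw [Algebra.TensorProduct.map_tmul, Algebra.TensorProduct.map_tmul,
          Algebra.TensorProduct.map_tmul, hφt]
        rfl
      | add a b ha hb => rw [map_add, map_add, map_add, ha, hb]
    have hlift : ∀ (i₀ : ι) (Z : S ⊗[A] B), ∃ (j : ι) (_ : i₀ ≤ j) (Z' : S ⊗[A] Bi j),
        Algebra.TensorProduct.map (AlgHom.id S S) (φ j) Z' = Z := by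
      intro i₀ Z
      induction Z using TensorProduct.induction_on with
      | zero => exact ⟨i₀, le_refl _, 0, map_zero _⟩
      | tmul s b' =>
        obtain ⟨k, y, hy⟩ := hsurj b'
        obtain ⟨j, hj1, hj2⟩ := directed_of (fun i j : ι => i ≤ j) i₀ k
        refine ⟨j, hj1, s ⊗ₜ[A] t k j hj2 y, ?_⟩
        rw [Algebra.TensorProduct.map_tmul, hφt, hy]
        rfl
      | add Z₁ Z₂ h₁ h₂ =>
        obtain ⟨j₁, hj₁, Z₁', hZ₁⟩ := h₁
        obtain ⟨j₂, hj₂, Z₂', hZ₂⟩ := h₂
        obtain ⟨j, hj1, hj2⟩ := directed_of (fun i j : ι => i ≤ j) j₁ j₂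
        refine ⟨j, hj₁.trans hj1,
          Algebra.TensorProduct.map (AlgHom.id S S) (t j₁ j hj1) Z₁' +
            Algebra.TensorProduct.map (AlgHom.id S S) (t j₂ j hj2) Z₂', ?_⟩
        rw [map_add, hmapcomp, hmapcomp, hZ₁, hZ₂]
    obtain ⟨j₁, hj₁, X', hX⟩ := hlift i X
    obtain ⟨j₂, hj₂, W', hW⟩ := hlift j₁ W
    have h := (mem_ker_iff _ _).1 (hker j₂ (hj₁.trans hj₂)) S
      (Algebra.TensorProduct.map (AlgHom.id S S) (t j₁ j₂ hj₂) X') W'
    rw [precomp_toFun', precomp_toFun', map_add, map_mul, Algebra.TensorProduct.map_tmul, hφt, hx,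
      hmapcomp, hX, hW, map_one] at h
    exact h

end Groth.Agent.Lib.PolLawLimH1
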