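import Mathlib
import Groth.Prelude.Def_PolLaw
import Groth.Agent.Lib.PolLawKer_helper1
import Groth.Agent.Lib.PolLawLim_helper1

/-!
# Descent of polynomial laws along surjections; surjectivity of `Γ^d(B) → Γ^d(B')` (helper1)
-/

set_option autoImplicit false
universe u
open scoped TensorProduct

namespace Groth.Agent.Lib.PolLawSurjH1

open Groth.Agent.Lib.PolLawKerH1 Groth.Agent.Lib.PolLawLimH1

variable {A : Type u} [CommRing A] {B : Type u} [CommRing B] [Algebra A B]
  {C : Type u} [CommRing C] [Algebra A C]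

theorem map_map_left {S S' S'' : Type u} [CommSemiring S] [Algebra A S] [CommSemiring S']
    [Algebra A S'] [CommSemiring S''] [Algebra A S''] (ψ : S' →ₐ[A] S'') (ρ : S →ₐ[A] S')
    (p : S ⊗[A] B) :
    Algebra.TensorProduct.map ψ (AlgHom.id A B) (Algebra.TensorProduct.map ρ (AlgHom.id A B) p) =
      Algebra.TensorProduct.map (ψ.comp ρ) (AlgHom.id A B) p := by
  induction p using TensorProduct.induction_on with
  | zero => simp
  | tmul a b => rfl
  | add a b ha hb => rw [map_add, map_add, map_add, ha, hb]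

/-- simultaneous lift of two tensors to a polynomial ring -/
theorem exists_lift₂ {S : Type u} [CommSemiring S] [Algebra A S] (x w : S ⊗[A] B) :
    ∃ (n : ℕ) (ψ : MvPolynomial (Fin n) A →ₐ[A] S) (x₀ w₀ : MvPolynomial (Fin n) A ⊗[A] B),
      Algebra.TensorProduct.map ψ (AlgHom.id A B) x₀ = x ∧
      Algebra.TensorProduct.map ψ (AlgHom.id A B) w₀ = w := by
  obtain ⟨n₁, ψ₁, p₁, h₁⟩ := PolynomialLaw.exists_lift (R := A) (M := B) x
  obtain ⟨n₂, ψ₂, p₂, h₂⟩ := PolynomialLaw.exists_lift (R := A) (M := B) w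
  rw [rT_eq_map] at h₁ h₂
  obtain ⟨ψ, hψ⟩ : ∃ ψ : MvPolynomial (Fin (n₁ + n₂)) A →ₐ[A] S, ψ =
    MvPolynomial.aeval (Fin.addCases (fun i => ψ₁ (MvPolynomial.X i))
      (fun j => ψ₂ (MvPolynomial.X j))) := ⟨_, rfl⟩
  obtain ⟨ρ₁, hρ₁⟩ : ∃ ρ₁ : MvPolynomial (Fin n₁) A →ₐ[A] MvPolynomial (Fin (n₁ + n₂)) A,
    ρ₁ = MvPolynomial.rename (Fin.castAdd n₂) := ⟨_, rfl⟩
  obtain ⟨ρ₂, hρ₂⟩ : ∃ ρ₂ : MvPolynomial (Fin n₂) A →ₐ[A] MvPolynomial (Fin (n₁ + n₂)) A,
    ρ₂ = MvPolynomial.rename (Fin.natAdd n₁) := ⟨_, rfl⟩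
  have hψ₁ : ψ.comp ρ₁ = ψ₁ := by
    apply MvPolynomial.algHom_ext
    intro i
    rw [AlgHom.comp_apply, hρ₁, MvPolynomial.rename_X, hψ, MvPolynomial.aeval_X,
      Fin.addCases_left]
  have hψ₂ : ψ.comp ρ₂ = ψ₂ := by
    apply MvPolynomial.algHom_ext
    intro i
    rw [AlgHom.comp_apply, hρ₂, MvPolynomial.rename_X, hψ, MvPolynomial.aeval_X,
      Fin.addCases_right]
  refine ⟨n₁ + n₂, ψ, Algebra.TensorProduct.map ρ₁ (AlgHom.id A B) p₁,
    Algebra.TensorProduct.map ρ₂ (AlgHom.id A B) p₂, ?_, ?_⟩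
  · rw [map_map_left, hψ₁, h₁]
  · rw [map_map_left, hψ₂, h₂]

theorem mem_ker_of_mvPolynomial (F : B →ₚₗ[A] C) (b : B)
    (h : ∀ (n : ℕ) (x w : MvPolynomial (Fin n) A ⊗[A] B),
      F.toFun' (MvPolynomial (Fin n) A) (x + w * (1 ⊗ₜ[A] b)) =
        F.toFun' (MvPolynomial (Fin n) A) x) :
    b ∈ PolLaw.ker F := by
  rw [mem_ker_iff]
  intro S _ _ x w
  obtain ⟨n, ψ, x₀, w₀, rfl, rfl⟩ := exists_lift₂ x w
  have h1 := congr_arg (Algebra.TensorProduct.map ψ (AlgHom.id A C)) (h n x₀ w₀)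
  rw [compat_map, compat_map, map_add, map_mul, Algebra.TensorProduct.map_tmul, map_one] at h1
  exact h1

theorem ker_postcomp_le_of_injective {C' : Type u} [CommRing C'] [Algebra A C']
    (F : B →ₚₗ[A] C) (ι : C →ₗ[A] C') (hι : Function.Injective ι) :
    PolLaw.ker (PolLaw.postcomp ι F) ≤ PolLaw.ker F := by
  intro b hb
  apply mem_ker_of_mvPolynomial
  intro n x w
  have h := (mem_ker_iff _ b).1 hb (MvPolynomial (Fin n) A) x w
  have hinj : Function.Injective (ι.lTensor (MvPolynomial (Fin n) A)) :=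
    Module.Flat.lTensor_preserves_injective_linearMap ι hι
  exact hinj h

theorem toFun_add_lTensor_ker (F : B →ₚₗ[A] C) {S : Type u} [CommSemiring S] [Algebra A S]
    (K : Submodule A B) (hK : ∀ c ∈ K, c ∈ PolLaw.ker F) (ε : S ⊗[A] K) (x : S ⊗[A] B) :
    F.toFun' S (x + K.subtype.lTensor S ε) = F.toFun' S x := by
  induction ε using TensorProduct.induction_on generalizing x with
  | zero => rw [map_zero, add_zero]
  | tmul s c =>
    have h1 : K.subtype.lTensor S (s ⊗ₜ[A] c) =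
        (s ⊗ₜ[A] (1 : B)) * ((1 : S) ⊗ₜ[A] (c : B)) := by
      rw [LinearMap.lTensor_tmul, Algebra.TensorProduct.tmul_mul_tmul, mul_one, one_mul]
      rfl
    rw [h1]
    exact (mem_ker_iff F _).1 (hK c c.2) S x _
  | add a b ha hb =>
    rw [map_add, ← add_assoc, hb, ha]

theorem toFun_eq_of_map_eq (F : B →ₚₗ[A] C) {B' : Type u} [CommRing B'] [Algebra A B']
    (π : B →ₐ[A] B') (hπ : Function.Surjective π) (hker : RingHom.ker π ≤ PolLaw.ker F)
    {S : Type u} [CommSemiring S] [Algebra A S] (x x' : S ⊗[A] B)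
    (h : π.toLinearMap.lTensor S x = π.toLinearMap.lTensor S x') :
    F.toFun' S x = F.toFun' S x' := by
  obtain ⟨δ, hδ⟩ : ∃ δ, δ = x + (-1 : A) • x' := ⟨_, rfl⟩
  have hneg : ∀ {N : Type u} [AddCommMonoid N] [Module A N] (y : N), y + (-1 : A) • y = 0 := by
    intro N _ _ y
    nth_rewrite 1 [← one_smul A y]
    rw [← add_smul, add_neg_cancel, zero_smul]
  have hδ0 : π.toLinearMap.lTensor S δ = 0 := by
    rw [hδ, map_add, map_smul, h]
    exact hneg _
  have hx : x = x' + δ := by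
    rw [hδ, add_left_comm, hneg, add_zero]
  have hex : Function.Exact (LinearMap.ker π.toLinearMap).subtype π.toLinearMap :=
    LinearMap.exact_subtype_ker_map π.toLinearMap
  obtain ⟨ε, hε⟩ : ∃ ε : S ⊗[A] (LinearMap.ker π.toLinearMap),
      (LinearMap.ker π.toLinearMap).subtype.lTensor S ε = δ := by
    letI : AddCommGroup S := Module.addCommMonoidToAddCommGroup A
    exact (lTensor_exact S hex hπ δ).1 hδ0
  rw [hx, ← hε]
  exact toFun_add_lTensor_ker F _ (fun c hc => hker (RingHom.mem_ker.2 (LinearMap.mem_ker.1 hc)))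
    ε x'

theorem exists_descend {d : ℕ} (F : PolLaw.MulLaw A B C d) {B' : Type u} [CommRing B']
    [Algebra A B'] (π : B →ₐ[A] B') (hπ : Function.Surjective π)
    (hker : RingHom.ker π ≤ PolLaw.ker F.law) :
    ∃ G : PolLaw.MulLaw A B' C d, ∀ (S : Type u) [CommSemiring S] [Algebra A S] (x : S ⊗[A] B),
      G.law.toFun' S (π.toLinearMap.lTensor S x) = F.law.toFun' S x := by
  have hs : ∀ (S : Type u) [CommSemiring S] [Algebra A S],
      Function.Surjective (π.toLinearMap.lTensor S) :=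
    fun S _ _ => LinearMap.lTensor_surjective S hπ
  obtain ⟨G₀, hG₀⟩ : ∃ G₀ : B' →ₚₗ[A] C, ∀ (S : Type u) [CommSemiring S] [Algebra A S]
      (y : S ⊗[A] B'), G₀.toFun' S y = F.law.toFun' S (Function.surjInv (hs S) y) := by
    refine ⟨{ toFun' := fun S _ _ y => F.law.toFun' S (Function.surjInv (hs S) y)
              isCompat' := ?_ }, fun S _ _ y => rfl⟩
    intro S _ _ S' _ _ ψ
    funext y
    simp only [Function.comp_apply]
    rw [PolynomialLaw.isCompat_apply']
    apply toFun_eq_of_map_eq F.law π hπ hker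
    rw [← LinearMap.comp_apply, LinearMap.lTensor_comp_rTensor, ← LinearMap.rTensor_comp_lTensor,
      LinearMap.comp_apply, Function.surjInv_eq (hs S), Function.surjInv_eq (hs S')]
  have key : ∀ (S : Type u) [CommSemiring S] [Algebra A S] (x : S ⊗[A] B),
      G₀.toFun' S (π.toLinearMap.lTensor S x) = F.law.toFun' S x := by
    intro S _ _ x
    rw [hG₀]
    apply toFun_eq_of_map_eq F.law π hπ hker
    rw [Function.surjInv_eq (hs S)]
  refine ⟨⟨G₀, ?_, ?_⟩, key⟩
  · intro S _ _ s y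
    obtain ⟨x, rfl⟩ := hs S y
    have h1 : s • π.toLinearMap.lTensor S x = π.toLinearMap.lTensor S (s • x) := by
      rw [PolLaw.lTensor_algHom_apply, PolLaw.lTensor_algHom_apply, map_smul]
    rw [h1, key, key, F.homog]
  · intro S _ _
    refine ⟨?_, fun y y' => ?_⟩
    · have h1 : (1 : S ⊗[A] B') = π.toLinearMap.lTensor S 1 := by
        rw [PolLaw.lTensor_algHom_apply, map_one]
      rw [h1, key, (F.mult S).1]
    · obtain ⟨x, rfl⟩ := hs S y
      obtain ⟨x', rfl⟩ := hs S y'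
      have h1 : π.toLinearMap.lTensor S x * π.toLinearMap.lTensor S x' =
          π.toLinearMap.lTensor S (x * x') := by
        rw [PolLaw.lTensor_algHom_apply, PolLaw.lTensor_algHom_apply,
          PolLaw.lTensor_algHom_apply, map_mul]
      rw [h1, key, key, key, (F.mult S).2]

theorem main13717 {B' C' : Type u} [CommRing B'] [Algebra A B'] [CommRing C'] [Algebra A C']
    {d : ℕ} (γ : PolLaw.MulLaw A B C d) (γ' : PolLaw.MulLaw A B' C' d)
    (hγ' : PolLaw.IsGammaD γ')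
    (π : B →ₐ[A] B') (hπ : Function.Surjective π) (φ : C →ₐ[A] C')
    (hφ : PolLaw.postcomp φ.toLinearMap γ.law = (γ'.precomp π).law) :
    Function.Surjective φ := by
  obtain ⟨q, hq⟩ : ∃ q : C →ₐ[A] φ.range, q = φ.rangeRestrict := ⟨_, rfl⟩
  obtain ⟨ι, hιdef⟩ : ∃ ι : φ.range →ₐ[A] C', ι = φ.range.val := ⟨_, rfl⟩
  have hι : Function.Injective ι := by rw [hιdef]; exact Subtype.val_injective
  have hιq : ι.toLinearMap ∘ₗ q.toLinearMap = φ.toLinearMap := by
    rw [hιdef, hq]; rfl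
  have hφS : ∀ (S : Type u) [CommSemiring S] [Algebra A S] (x : S ⊗[A] B),
      φ.toLinearMap.lTensor S (γ.law.toFun' S x) =
        γ'.law.toFun' S (π.toLinearMap.lTensor S x) := by
    intro S _ _ x
    have h3 : (PolLaw.postcomp φ.toLinearMap γ.law).toFun' S x =
        (γ'.precomp π).law.toFun' S x := by rw [hφ]
    exact h3
  obtain ⟨G₀, hG₀⟩ : ∃ G₀ : PolLaw.MulLaw A B φ.range d, G₀ = γ.postcomp q := ⟨_, rfl⟩
  have hG₀S : ∀ (S : Type u) [CommSemiring S] [Algebra A S] (x : S ⊗[A] B),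
      ι.toLinearMap.lTensor S (G₀.law.toFun' S x) =
        γ'.law.toFun' S (π.toLinearMap.lTensor S x) := by
    intro S _ _ x
    rw [← hφS, ← hιq, LinearMap.lTensor_comp, LinearMap.comp_apply, hG₀]
    rfl
  have hker : RingHom.ker π ≤ PolLaw.ker G₀.law := by
    intro b hb
    apply ker_postcomp_le_of_injective G₀.law ι.toLinearMap hι
    rw [mem_ker_iff]
    intro S _ _ x w
    show ι.toLinearMap.lTensor S (G₀.law.toFun' S _) = ι.toLinearMap.lTensor S (G₀.law.toFun' S _)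
    rw [hG₀S, hG₀S]
    congr 1
    rw [PolLaw.lTensor_algHom_apply, PolLaw.lTensor_algHom_apply, map_add, map_mul,
      Algebra.TensorProduct.map_tmul, (RingHom.mem_ker).1 hb, TensorProduct.tmul_zero, mul_zero,
      add_zero]
  obtain ⟨G, hG⟩ := exists_descend G₀ π hπ hker
  obtain ⟨f, hf, -⟩ := hγ' φ.range G
  have hfS : ∀ (S : Type u) [CommSemiring S] [Algebra A S] (y : S ⊗[A] B'),
      f.toLinearMap.lTensor S (γ'.law.toFun' S y) = G.law.toFun' S y := by
    intro S _ _ y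
    have h3 : (PolLaw.postcomp f.toLinearMap γ'.law).toFun' S y = G.law.toFun' S y := by rw [hf]
    exact h3
  have hcomp : PolLaw.postcomp (ι.comp f).toLinearMap γ'.law = γ'.law := by
    apply PolynomialLaw.ext
    funext S _ _ y
    obtain ⟨x, rfl⟩ := (LinearMap.lTensor_surjective S hπ :
      Function.Surjective (π.toLinearMap.lTensor S)) y
    show (ι.comp f).toLinearMap.lTensor S (γ'.law.toFun' S _) = _
    have h2 : (ι.comp f).toLinearMap = ι.toLinearMap ∘ₗ f.toLinearMap := rfl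
    rw [h2, LinearMap.lTensor_comp, LinearMap.comp_apply, hfS, hG, hG₀S]
  have hidlaw : PolLaw.postcomp (AlgHom.id A C').toLinearMap γ'.law = γ'.law := by
    apply PolynomialLaw.ext
    funext S _ _ y
    show (AlgHom.id A C').toLinearMap.lTensor S (γ'.law.toFun' S y) = _
    rw [AlgHom.toLinearMap_id, LinearMap.lTensor_id, LinearMap.id_apply]
  have hid : ι.comp f = AlgHom.id A C' := (hγ' C' γ').unique hcomp hidlaw
  intro c'
  have h1 : ι (f c') = c' := by
    have := congr_arg (fun g : C' →ₐ[A] C' => g c') hid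
    exact this
  obtain ⟨c, hc⟩ := (f c').2
  refine ⟨c, ?_⟩
  rw [← h1, hιdef]
  exact hc

end Groth.Agent.Lib.PolLawSurjH1
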