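import Mathlib
import Groth.Prelude.Def_PolLaw
import Groth.Agent.Lib.PolLawRestr_helper1
import Groth.Agent.Lib.PolLawSurj_helper1

/-!
# A universal divided power algebra is spanned by the coefficients of its universal law (helper1)
-/

set_option autoImplicit false
universe u
open scoped TensorProduct

namespace Groth.Agent.Lib.GammaSpanH1

open Groth.Agent.Lib.PolLawKerH1 Groth.Agent.Lib.PolLawSurjH1 Groth.Agent.Lib.PolLawRestrH1

variable {A : Type u} [CommRing A] {B : Type u} [CommRing B] [Algebra A B]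
  {C : Type u} [CommRing C] [Algebra A C]

section ev

variable {S : Type u} [CommSemiring S] [Algebra A S] (M : Type u) [AddCommGroup M] [Module A M]

/-- coefficient extraction -/
noncomputable def ev (ℓ : S →ₗ[A] A) : S ⊗[A] M →ₗ[A] M :=
  (TensorProduct.lid A M).toLinearMap ∘ₗ ℓ.rTensor M

@[simp]
theorem ev_tmul (ℓ : S →ₗ[A] A) (s : S) (c : M) : ev M ℓ (s ⊗ₜ[A] c) = ℓ s • c := by
  simp [ev]

theorem ev_lTensor {M' : Type u} [AddCommGroup M'] [Module A M'] (ℓ : S →ₗ[A] A)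
    (f : M →ₗ[A] M') (w : S ⊗[A] M) : ev M' ℓ (f.lTensor S w) = f (ev M ℓ w) := by
  induction w using TensorProduct.induction_on with
  | zero => simp
  | tmul s c => simp
  | add a b ha hb => simp only [map_add, ha, hb]

theorem ev_rTensor {S' : Type u} [CommSemiring S'] [Algebra A S'] (ℓ : S' →ₗ[A] A)
    (ψ : S →ₗ[A] S') (w : S ⊗[A] M) : ev M ℓ (ψ.rTensor M w) = ev M (ℓ ∘ₗ ψ) w := by
  induction w using TensorProduct.induction_on with
  | zero => simp
  | tmul s c => simp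
  | add a b ha hb => simp only [map_add, ha, hb]

end ev

section decomp

variable (M : Type u) [AddCommGroup M] [Module A M]

theorem exists_decomp {n : ℕ} (w : MvPolynomial (Fin n) A ⊗[A] M) :
    ∃ s₀ : Finset (Fin n →₀ ℕ), ∀ s : Finset (Fin n →₀ ℕ), s₀ ⊆ s →
      w = ∑ m ∈ s, (MvPolynomial.monomial m (1 : A)) ⊗ₜ[A] ev M (MvPolynomial.lcoeff A m) w := by
  induction w using TensorProduct.induction_on with
  | zero => exact ⟨∅, fun s _ => by simp⟩
  | tmul p c =>
    refine ⟨p.support, fun s hs => ?_⟩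
    have h1 : ∀ m ∈ s, (MvPolynomial.monomial m (1 : A)) ⊗ₜ[A]
        ev M (MvPolynomial.lcoeff A m) (p ⊗ₜ[A] c) = (MvPolynomial.monomial m (p.coeff m)) ⊗ₜ[A] c := by
      intro m _
      rw [ev_tmul, MvPolynomial.lcoeff_apply, TensorProduct.tmul_smul, TensorProduct.smul_tmul',
        MvPolynomial.smul_monomial, smul_eq_mul, mul_one]
    rw [Finset.sum_congr rfl h1, ← TensorProduct.sum_tmul]
    congr 1
    rw [← Finset.sum_subset hs (fun m _ hm => by
      rw [MvPolynomial.notMem_support_iff.mp hm, MvPolynomial.monomial_zero])]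
    exact (MvPolynomial.support_sum_monomial_coeff p).symm
  | add a b ha hb =>
    obtain ⟨s₁, h₁⟩ := ha
    obtain ⟨s₂, h₂⟩ := hb
    refine ⟨s₁ ∪ s₂, fun s hs => ?_⟩
    have e₁ := h₁ s (Finset.union_subset_left hs)
    have e₂ := h₂ s (Finset.union_subset_right hs)
    simp only [map_add, TensorProduct.tmul_add, Finset.sum_add_distrib]
    rw [← e₁, ← e₂]

theorem mem_range_of_coeffs {n : ℕ} (C₁ : Subalgebra A C) (w : MvPolynomial (Fin n) A ⊗[A] C)
    (h : ∀ m, ev C (MvPolynomial.lcoeff A m) w ∈ C₁) :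
    w ∈ LinearMap.range (C₁.val.toLinearMap.lTensor (MvPolynomial (Fin n) A)) := by
  obtain ⟨s₀, hs₀⟩ := exists_decomp C w
  refine ⟨∑ m ∈ s₀, (MvPolynomial.monomial m (1 : A)) ⊗ₜ[A]
    (⟨ev C (MvPolynomial.lcoeff A m) w, h m⟩ : C₁), ?_⟩
  rw [map_sum]
  conv_rhs => rw [hs₀ s₀ subset_rfl]
  refine Finset.sum_congr rfl fun m _ => ?_
  rw [LinearMap.lTensor_tmul]
  rfl

end decomp

section restrict

theorem lTensor_rTensor_comm {S S' : Type u} [CommSemiring S] [Algebra A S] [CommSemiring S']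
    [Algebra A S'] {M M' : Type u} [AddCommGroup M] [Module A M] [AddCommGroup M'] [Module A M']
    (v : M →ₗ[A] M') (ψ : S →ₗ[A] S') (t : S ⊗[A] M) :
    v.lTensor S' (ψ.rTensor M t) = ψ.rTensor M' (v.lTensor S t) := by
  induction t using TensorProduct.induction_on with
  | zero => simp
  | tmul s c => simp
  | add a b ha hb => simp only [map_add, ha, hb]

theorem rT_smul {S S' : Type u} [CommSemiring S] [Algebra A S] [CommSemiring S'] [Algebra A S']
    (D : Type u) [CommRing D] [Algebra A D] (ψ : S →ₐ[A] S') (q : S) (t : S ⊗[A] D) :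
    ψ.toLinearMap.rTensor D (q • t) = ψ q • ψ.toLinearMap.rTensor D t := by
  rw [rT_eq_map, rT_eq_map, ← tmul_one_mul, map_mul, Algebra.TensorProduct.map_tmul, ← tmul_one_mul]
  simp

theorem lT_smul {S : Type u} [CommSemiring S] [Algebra A S] {D D' : Type u} [CommRing D]
    [Algebra A D] [CommRing D'] [Algebra A D'] (v : D →ₐ[A] D') (q : S) (t : S ⊗[A] D) :
    v.toLinearMap.lTensor S (q • t) = q • v.toLinearMap.lTensor S t := by
  rw [PolLaw.lTensor_algHom_apply, PolLaw.lTensor_algHom_apply, ← tmul_one_mul, map_mul,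
    Algebra.TensorProduct.map_tmul, ← tmul_one_mul]
  simp

set_option maxHeartbeats 1600000 in
/-- a multiplicative law whose values on polynomial rings lie in a subalgebra restricts to it -/
theorem exists_restrict {d : ℕ} (γ : PolLaw.MulLaw A B C d) (C₁ : Subalgebra A C)
    (h : ∀ (n : ℕ) (z : MvPolynomial (Fin n) A ⊗[A] B),
      γ.law.toFun' (MvPolynomial (Fin n) A) z ∈
        LinearMap.range (C₁.val.toLinearMap.lTensor (MvPolynomial (Fin n) A))) :
    ∃ γ₁ : PolLaw.MulLaw A B C₁ d, PolLaw.postcomp C₁.val.toLinearMap γ₁.law = γ.law := by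
  have hinj : ∀ n : ℕ, Function.Injective (C₁.val.toLinearMap.lTensor (MvPolynomial (Fin n) A)) :=
    fun n => Module.Flat.lTensor_preserves_injective_linearMap _ Subtype.val_injective
  choose T hT using h
  have hcompat : Compat T := by
    intro n m φ
    funext z
    apply hinj m
    show C₁.val.toLinearMap.lTensor _ (φ.toLinearMap.rTensor C₁ (T n z)) =
      C₁.val.toLinearMap.lTensor _ (T m (φ.toLinearMap.rTensor B z))
    rw [hT m, lTensor_rTensor_comm, hT n, PolynomialLaw.isCompat_apply']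
  obtain ⟨L, hL⟩ : ∃ L : B →ₚₗ[A] C₁, L = law T hcompat := ⟨_, rfl⟩
  have key : ∀ (S : Type u) [CommSemiring S] [Algebra A S] {n : ℕ}
      (ψ : MvPolynomial (Fin n) A →ₐ[A] S) (p : MvPolynomial (Fin n) A ⊗[A] B),
      L.toFun' S (ψ.toLinearMap.rTensor B p) = ψ.toLinearMap.rTensor C₁ (T n p) := by
    intro S _ _ n ψ p
    rw [hL]
    exact toFunS_apply hcompat ψ p
  have hpost : PolLaw.postcomp C₁.val.toLinearMap L = γ.law := by
    apply PolynomialLaw.ext
    funext S _ _ x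
    obtain ⟨n, ψ, p, rfl⟩ := PolynomialLaw.exists_lift (R := A) (M := B) x
    show C₁.val.toLinearMap.lTensor S (L.toFun' S (ψ.toLinearMap.rTensor B p)) = _
    rw [key, lTensor_rTensor_comm, hT, PolynomialLaw.isCompat_apply']
  have hhomog : PolLaw.IsHomog L d := by
    intro S _ _ s x
    obtain ⟨n, ψ, p, q, rfl, rfl⟩ := PolynomialLaw.exists_lift' (R := A) (M := B) x s
    have hT' : T n (q • p) = q ^ d • T n p := by
      apply hinj n
      rw [hT, γ.homog, lT_smul, hT]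
    rw [← rT_smul, key, key, hT', rT_smul, map_pow]
  have hone0 : T 0 1 = 1 := by
    apply hinj 0
    rw [hT, (γ.mult _).1, PolLaw.lTensor_algHom_apply, map_one]
  have hmul0 : ∀ (n : ℕ) (p p' : MvPolynomial (Fin n) A ⊗[A] B), T n (p * p') = T n p * T n p' := by
    intro n p p'
    apply hinj n
    rw [hT, (γ.mult _).2, PolLaw.lTensor_algHom_apply, map_mul, ← PolLaw.lTensor_algHom_apply,
      ← PolLaw.lTensor_algHom_apply, hT, hT]
  have hmult : PolLaw.IsMult L := by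
    intro S _ _
    constructor
    · obtain ⟨ψ, -⟩ : ∃ ψ : MvPolynomial (Fin 0) A →ₐ[A] S, True :=
        ⟨MvPolynomial.aeval (fun i => Fin.elim0 i), trivial⟩
      have h1 : (1 : S ⊗[A] B) = ψ.toLinearMap.rTensor B 1 := by
        rw [rT_eq_map, map_one]
      rw [h1, key, hone0, rT_eq_map, map_one]
    · intro x y
      obtain ⟨n, ψ, x₀, y₀, rfl, rfl⟩ := exists_lift₂ x y
      rw [← map_mul, ← rT_eq_map, ← rT_eq_map, ← rT_eq_map, key, key, key, hmul0, rT_eq_map,
        rT_eq_map, rT_eq_map, map_mul]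
  exact ⟨⟨L, hhomog, hmult⟩, hpost⟩

end restrict

section coeffSet

/-- the coefficients of the values of the law `γ` on tensors with `B`-components in `B₁` -/
def coeffSetOn {d : ℕ} (γ : PolLaw.MulLaw A B C d) (B₁ : Subalgebra A B) : Set C :=
  {c | ∃ (S : Type u) (_ : CommRing S) (_ : Algebra A S) (z : S ⊗[A] B) (ℓ : S →ₗ[A] A),
      z ∈ LinearMap.range (B₁.val.toLinearMap.lTensor S) ∧ c = ev C ℓ (γ.law.toFun' S z)}

theorem mem_coeffSetOn_top {d : ℕ} (γ : PolLaw.MulLaw A B C d) (S : Type u) [CommRing S] [Algebra A S]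
    (z : S ⊗[A] B) (ℓ : S →ₗ[A] A) : ev C ℓ (γ.law.toFun' S z) ∈ coeffSetOn γ ⊤ := by
  refine ⟨S, inferInstance, inferInstance, z, ℓ, ?_, rfl⟩
  have hsurj : Function.Surjective ((⊤ : Subalgebra A B).val.toLinearMap.lTensor S) := by
    apply LinearMap.lTensor_surjective
    intro b
    exact ⟨⟨b, Algebra.mem_top⟩, rfl⟩
  exact LinearMap.mem_range.2 (hsurj z)

theorem coeffSetOn_mono {d : ℕ} (γ : PolLaw.MulLaw A B C d) {B₁ B₂ : Subalgebra A B} (h : B₁ ≤ B₂) :
    coeffSetOn γ B₁ ⊆ coeffSetOn γ B₂ := by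
  rintro c ⟨S, _, _, z, ℓ, ⟨z₀, rfl⟩, rfl⟩
  refine ⟨S, inferInstance, inferInstance, _, ℓ, ?_, rfl⟩
  refine ⟨(Subalgebra.inclusion h).toLinearMap.lTensor S z₀, ?_⟩
  rw [← LinearMap.comp_apply, ← LinearMap.lTensor_comp]
  rfl

theorem adjoin_coeffSet_eq_top {d : ℕ} (γ : PolLaw.MulLaw A B C d) (hγ : PolLaw.IsGammaD γ) :
    Algebra.adjoin A (coeffSetOn γ ⊤) = ⊤ := by
  obtain ⟨C₁, hC₁⟩ : ∃ C₁ : Subalgebra A C, C₁ = Algebra.adjoin A (coeffSetOn γ ⊤) := ⟨_, rfl⟩
  rw [← hC₁]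
  have h : ∀ (n : ℕ) (z : MvPolynomial (Fin n) A ⊗[A] B),
      γ.law.toFun' (MvPolynomial (Fin n) A) z ∈
        LinearMap.range (C₁.val.toLinearMap.lTensor (MvPolynomial (Fin n) A)) := by
    intro n z
    apply mem_range_of_coeffs
    intro m
    rw [hC₁]
    exact Algebra.subset_adjoin (mem_coeffSetOn_top γ _ z _)
  obtain ⟨γ₁, hγ₁⟩ := exists_restrict γ C₁ h
  obtain ⟨f, hf, -⟩ := hγ C₁ γ₁
  have hcomp : C₁.val.comp f = AlgHom.id A C := by
    refine (hγ C γ).unique ?_ ?_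
    · apply PolynomialLaw.ext
      funext S _ _ x
      show (C₁.val.comp f).toLinearMap.lTensor S (γ.law.toFun' S x) = _
      have h2 : (C₁.val.comp f).toLinearMap = C₁.val.toLinearMap ∘ₗ f.toLinearMap := rfl
      rw [h2, LinearMap.lTensor_comp, LinearMap.comp_apply]
      have h3 : f.toLinearMap.lTensor S (γ.law.toFun' S x) = γ₁.law.toFun' S x := by
        have : (PolLaw.postcomp f.toLinearMap γ.law).toFun' S x = γ₁.law.toFun' S x := by rw [hf]
        exact this
      rw [h3]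
      have : (PolLaw.postcomp C₁.val.toLinearMap γ₁.law).toFun' S x = γ.law.toFun' S x := by
        rw [hγ₁]
      exact this
    · apply PolynomialLaw.ext
      funext S _ _ x
      show (AlgHom.id A C).toLinearMap.lTensor S (γ.law.toFun' S x) = _
      have : (AlgHom.id A C).toLinearMap = LinearMap.id := rfl
      rw [this, LinearMap.lTensor_id, LinearMap.id_apply]
  rw [eq_top_iff]
  intro c _
  have : c = C₁.val (f c) := by
    have := congrArg (fun g : C →ₐ[A] C => g c) hcomp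
    simpa using this.symm
  rw [this]
  exact (f c).2

theorem one_mem_coeffSetOn {d : ℕ} (γ : PolLaw.MulLaw A B C d) (B₁ : Subalgebra A B) :
    (1 : C) ∈ coeffSetOn γ B₁ := by
  refine ⟨A, inferInstance, inferInstance, 1, LinearMap.id, ⟨1, ?_⟩, ?_⟩
  · rw [PolLaw.lTensor_algHom_apply, map_one]
  · rw [(γ.mult A).1, Algebra.TensorProduct.one_def, ev_tmul]
    simp

theorem ev_mul {S S' : Type u} [CommRing S] [Algebra A S] [CommRing S'] [Algebra A S']
    (ℓ : S →ₗ[A] A) (ℓ' : S' →ₗ[A] A) (w : S ⊗[A] C) (w' : S' ⊗[A] C) :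
    ev C ((LinearMap.mul' A A) ∘ₗ TensorProduct.map ℓ ℓ')
      ((Algebra.TensorProduct.includeLeft : S →ₐ[A] S ⊗[A] S').toLinearMap.rTensor C w *
        (Algebra.TensorProduct.includeRight : S' →ₐ[A] S ⊗[A] S').toLinearMap.rTensor C w') =
      ev C ℓ w * ev C ℓ' w' := by
  induction w using TensorProduct.induction_on with
  | zero => simp
  | tmul s c =>
    induction w' using TensorProduct.induction_on with
    | zero => simp
    | tmul s' c' =>
      simp only [LinearMap.rTensor_tmul, AlgHom.toLinearMap_apply,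
        Algebra.TensorProduct.includeLeft_apply, Algebra.TensorProduct.includeRight_apply,
        Algebra.TensorProduct.tmul_mul_tmul, mul_one, one_mul, ev_tmul, LinearMap.comp_apply,
        TensorProduct.map_tmul, LinearMap.mul'_apply]
      rw [smul_mul_smul_comm]
    | add a b ha hb => simp only [map_add, mul_add, ha, hb]
  | add a b ha hb => simp only [map_add, add_mul, ha, hb]

theorem mul_mem_coeffSetOn {d : ℕ} (γ : PolLaw.MulLaw A B C d) (B₁ : Subalgebra A B) {c c' : C}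
    (hc : c ∈ coeffSetOn γ B₁) (hc' : c' ∈ coeffSetOn γ B₁) : c * c' ∈ coeffSetOn γ B₁ := by
  obtain ⟨S, _, _, z, ℓ, ⟨z₀, rfl⟩, rfl⟩ := hc
  obtain ⟨S', _, _, z', ℓ', ⟨z₀', rfl⟩, rfl⟩ := hc'
  obtain ⟨ι₁, hι₁⟩ : ∃ ι₁ : S →ₐ[A] S ⊗[A] S', ι₁ = Algebra.TensorProduct.includeLeft := ⟨_, rfl⟩
  obtain ⟨ι₂, hι₂⟩ : ∃ ι₂ : S' →ₐ[A] S ⊗[A] S', ι₂ = Algebra.TensorProduct.includeRight := ⟨_, rfl⟩
  refine ⟨S ⊗[A] S', inferInstance, inferInstance,
    ι₁.toLinearMap.rTensor B (B₁.val.toLinearMap.lTensor S z₀) *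
      ι₂.toLinearMap.rTensor B (B₁.val.toLinearMap.lTensor S' z₀'),
    (LinearMap.mul' A A) ∘ₗ TensorProduct.map ℓ ℓ', ?_, ?_⟩
  · refine ⟨ι₁.toLinearMap.rTensor B₁ z₀ * ι₂.toLinearMap.rTensor B₁ z₀', ?_⟩
    rw [PolLaw.lTensor_algHom_apply, map_mul, ← PolLaw.lTensor_algHom_apply,
      ← PolLaw.lTensor_algHom_apply, lTensor_rTensor_comm, lTensor_rTensor_comm]
  · rw [(γ.mult _).2, ← PolynomialLaw.isCompat_apply', ← PolynomialLaw.isCompat_apply', hι₁, hι₂,
      ev_mul]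

theorem span_coeffSetOn_eq {d : ℕ} (γ : PolLaw.MulLaw A B C d) (B₁ : Subalgebra A B) :
    Submodule.span A (coeffSetOn γ B₁) = Subalgebra.toSubmodule (Algebra.adjoin A (coeffSetOn γ B₁)) := by
  rw [Algebra.adjoin_eq_span]
  congr 1
  let M : Submonoid C :=
    { carrier := coeffSetOn γ B₁
      mul_mem' := fun h h' => mul_mem_coeffSetOn γ B₁ h h'
      one_mem' := one_mem_coeffSetOn γ B₁ }
  exact (congrArg (fun N : Submonoid C => (N : Set C)) (Submonoid.closure_eq M)).symm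

theorem span_coeffSet_eq_top {d : ℕ} (γ : PolLaw.MulLaw A B C d) (hγ : PolLaw.IsGammaD γ) :
    Submodule.span A (coeffSetOn γ ⊤) = ⊤ := by
  rw [span_coeffSetOn_eq, adjoin_coeffSet_eq_top γ hγ]
  rfl

theorem exists_coeffs_on (B₁ : Subalgebra A B) {n : ℕ} (b : Fin n → B)
    (hb : Submodule.span A (Set.range b) = Subalgebra.toSubmodule B₁)
    {S : Type u} [CommRing S] [Algebra A S] (z₀ : S ⊗[A] B₁) :
    ∃ s : Fin n → S, B₁.val.toLinearMap.lTensor S z₀ = ∑ k, s k ⊗ₜ[A] b k := by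
  induction z₀ using TensorProduct.induction_on with
  | zero => exact ⟨fun _ => 0, by simp⟩
  | tmul r b₁ =>
    have hb₁ : (b₁ : B) ∈ Submodule.span A (Set.range b) := by rw [hb]; exact b₁.2
    obtain ⟨a, ha⟩ := (Submodule.mem_span_range_iff_exists_fun A).1 hb₁
    refine ⟨fun k => a k • r, ?_⟩
    rw [LinearMap.lTensor_tmul]
    show r ⊗ₜ[A] (b₁ : B) = _
    rw [← ha, TensorProduct.tmul_sum]
    refine Finset.sum_congr rfl fun k _ => ?_
    rw [TensorProduct.tmul_smul, TensorProduct.smul_tmul']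
  | add x y hx hy =>
    obtain ⟨ρ₁, h₁⟩ := hx
    obtain ⟨ρ₂, h₂⟩ := hy
    refine ⟨fun k => ρ₁ k + ρ₂ k, ?_⟩
    rw [map_add, h₁, h₂, ← Finset.sum_add_distrib]
    exact Finset.sum_congr rfl fun k _ => (TensorProduct.add_tmul _ _ _).symm

theorem span_coeffSetOn_fg {d : ℕ} (γ : PolLaw.MulLaw A B C d) (B₁ : Subalgebra A B)
    (hfin : (Subalgebra.toSubmodule B₁).FG) : (Submodule.span A (coeffSetOn γ B₁)).FG := by
  obtain ⟨n, b, hb⟩ := Submodule.fg_iff_exists_fin_generating_family.1 hfin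
  obtain ⟨g, hg⟩ : ∃ g : MvPolynomial (Fin n) A ⊗[A] B, g = ∑ k, MvPolynomial.X k ⊗ₜ[A] b k :=
    ⟨_, rfl⟩
  obtain ⟨s₀, hs₀⟩ := exists_decomp C (γ.law.toFun' (MvPolynomial (Fin n) A) g)
  have hw := hs₀ s₀ subset_rfl
  obtain ⟨W, hW⟩ : ∃ W : Submodule A C, W = Submodule.span A
      ((fun m => ev C (MvPolynomial.lcoeff A m) (γ.law.toFun' (MvPolynomial (Fin n) A) g)) '' (s₀ : Set _)) :=
    ⟨_, rfl⟩
  have hWfg : W.FG := by
    rw [hW]
    exact Submodule.fg_span ((Finset.finite_toSet s₀).image _)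
  have hle : Submodule.span A (coeffSetOn γ B₁) ≤ W := by
    rw [Submodule.span_le]
    rintro c ⟨S, _, _, z, ℓ, ⟨z₀, rfl⟩, rfl⟩
    obtain ⟨s, hs⟩ := exists_coeffs_on B₁ b hb z₀
    obtain ⟨ψ, hψ⟩ : ∃ ψ : MvPolynomial (Fin n) A →ₐ[A] S, ψ = MvPolynomial.aeval s := ⟨_, rfl⟩
    have hz : B₁.val.toLinearMap.lTensor S z₀ = ψ.toLinearMap.rTensor B g := by
      rw [hs, hg, map_sum]
      refine Finset.sum_congr rfl fun k _ => ?_
      rw [LinearMap.rTensor_tmul, AlgHom.toLinearMap_apply, hψ, MvPolynomial.aeval_X]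
    rw [hz, ← PolynomialLaw.isCompat_apply', hw, map_sum, map_sum]
    refine Submodule.sum_mem _ fun m hm => ?_
    rw [LinearMap.rTensor_tmul, ev_tmul]
    refine Submodule.smul_mem _ _ ?_
    rw [hW]
    exact Submodule.subset_span ⟨m, hm, rfl⟩
  have hge : W ≤ Submodule.span A (coeffSetOn γ B₁) := by
    rw [hW, Submodule.span_le]
    rintro c ⟨m, _, rfl⟩
    refine Submodule.subset_span ⟨MvPolynomial (Fin n) A, inferInstance, inferInstance, g, _, ?_, rfl⟩
    refine ⟨∑ k, MvPolynomial.X k ⊗ₜ[A] (⟨b k, ?_⟩ : B₁), ?_⟩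
    · have : b k ∈ Submodule.span A (Set.range b) := Submodule.subset_span ⟨k, rfl⟩
      rw [hb] at this
      exact this
    · rw [map_sum, hg]
      rfl
  rw [le_antisymm hle hge]
  exact hWfg

end coeffSet

section finite

theorem moduleFinite_of_isGammaD {d : ℕ} (γ : PolLaw.MulLaw A B C d) (hγ : PolLaw.IsGammaD γ)
    [Module.Finite A B] : Module.Finite A C := by
  have h1 : (Subalgebra.toSubmodule (⊤ : Subalgebra A B)).FG := by
    rw [Algebra.top_toSubmodule]
    exact Module.Finite.fg_top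
  have h2 := span_coeffSetOn_fg γ ⊤ h1
  rw [span_coeffSet_eq_top γ hγ] at h2
  exact ⟨h2⟩

theorem range_lTensor_mono {S : Type u} [CommRing S] [Algebra A S] {B₁ B₂ : Subalgebra A B}
    (h : B₁ ≤ B₂) :
    LinearMap.range (B₁.val.toLinearMap.lTensor S) ≤ LinearMap.range (B₂.val.toLinearMap.lTensor S) := by
  rintro z ⟨z₀, rfl⟩
  refine ⟨(Subalgebra.inclusion h).toLinearMap.lTensor S z₀, ?_⟩
  rw [← LinearMap.comp_apply, ← LinearMap.lTensor_comp]
  rfl

theorem exists_finset_range {S : Type u} [CommRing S] [Algebra A S] (z : S ⊗[A] B) :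
    ∃ t : Finset B, z ∈ LinearMap.range ((Algebra.adjoin A (t : Set B)).val.toLinearMap.lTensor S) := by
  classical
  induction z using TensorProduct.induction_on with
  | zero => exact ⟨∅, Submodule.zero_mem _⟩
  | tmul s b =>
    have hb : b ∈ Algebra.adjoin A ((({b} : Finset B)) : Set B) :=
      Algebra.subset_adjoin (by simp)
    refine ⟨{b}, ⟨s ⊗ₜ[A] ⟨b, hb⟩, ?_⟩⟩
    rw [LinearMap.lTensor_tmul]
    rfl
  | add x y hx hy =>
    obtain ⟨t₁, hx⟩ := hx
    obtain ⟨t₂, hy⟩ := hy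
    have h₁ : Algebra.adjoin A (t₁ : Set B) ≤ Algebra.adjoin A ((t₁ ∪ t₂ : Finset B) : Set B) :=
      Algebra.adjoin_mono (by simp)
    have h₂ : Algebra.adjoin A (t₂ : Set B) ≤ Algebra.adjoin A ((t₁ ∪ t₂ : Finset B) : Set B) :=
      Algebra.adjoin_mono (by simp)
    exact ⟨t₁ ∪ t₂, Submodule.add_mem _ (range_lTensor_mono h₁ hx) (range_lTensor_mono h₂ hy)⟩

theorem isIntegral_of_isGammaD {d : ℕ} (γ : PolLaw.MulLaw A B C d) (hγ : PolLaw.IsGammaD γ)
    [Algebra.IsIntegral A B] : Algebra.IsIntegral A C := by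
  have hle : Algebra.adjoin A (coeffSetOn γ ⊤) ≤ integralClosure A C := by
    apply Algebra.adjoin_le
    rintro c ⟨S, _, _, z, ℓ, -, rfl⟩
    obtain ⟨t, ht⟩ := exists_finset_range z
    have hfg : (Subalgebra.toSubmodule (Algebra.adjoin A (t : Set B))).FG :=
      fg_adjoin_of_finite t.finite_toSet (fun x _ => Algebra.IsIntegral.isIntegral x)
    have hfg' := span_coeffSetOn_fg γ _ hfg
    rw [span_coeffSetOn_eq] at hfg'
    refine IsIntegral.of_mem_of_fg _ hfg' _ (Algebra.subset_adjoin ?_)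
    exact ⟨S, inferInstance, inferInstance, z, ℓ, ht, rfl⟩
  rw [adjoin_coeffSet_eq_top γ hγ] at hle
  constructor
  intro c
  exact hle Algebra.mem_top

end finite

end Groth.Agent.Lib.GammaSpanH1
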