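import Mathlib
import Groth.Prelude.Def_W4c5normfunctorschNorm
import Groth.Agent.Lib.GammaSpan_helper1

/-!
# The symmetric tensor attached to an element of `Γ^d` acts on the top exterior power by the norm map
(helper1)
-/

set_option autoImplicit false
universe u
open scoped TensorProduct
open Module

namespace Groth.Agent.Lib.GammaDetH1

open Groth.Agent.Lib.GammaSpanH1 Groth.Agent.Lib.PolLawKerH1

variable (R : Type u) [CommRing R] (R' : Type u) [CommRing R'] [Algebra R R'] (d : ℕ)

/-- the tensor power -/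
abbrev T : Type u := ⨂[R] _ : Fin d, R'

/-- the quotient of the tensor power by the alternating relations -/
abbrev Lam : Type u := T R R' d ⧸ SymTen.altSpan R R' d

/-- the quotient map -/
noncomputable abbrev q : T R R' d →ₗ[R] Lam R R' d := (SymTen.altSpan R R' d).mkQ

/-- the canonical alternating map -/
noncomputable def alt : R' [⋀^Fin d]→ₗ[R] Lam R R' d :=
  { (q R R' d).compMultilinearMap (PiTensorProduct.tprod R) with
    map_eq_zero_of_eq' := fun v i j hv hij =>
      (Submodule.Quotient.mk_eq_zero _).2 (Submodule.subset_span ⟨v, i, j, hij, hv, rfl⟩) }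

theorem alt_apply (p : Fin d → R') : alt R R' d p = q R R' d (PiTensorProduct.tprod R p) := rfl

theorem tpowAct_self (t x : T R R' d) : SymTen.tpowAct R R' R' d t x = t * x := by
  induction t using PiTensorProduct.induction_on with
  | smul_tprod r a =>
    induction x using PiTensorProduct.induction_on with
    | smul_tprod r' p =>
      have h0 : SymTen.tpowAct R R' R' d (PiTensorProduct.tprod R a) (PiTensorProduct.tprod R p) =
          PiTensorProduct.tprod R a * PiTensorProduct.tprod R p := by
        rw [PiTensorProduct.tprod_mul_tprod]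
        simp [SymTen.tpowAct, PiTensorProduct.lift.tprod, MultilinearMap.compLinearMap_apply,
          PiTensorProduct.mapMultilinear_apply, PiTensorProduct.map_tprod]
        rfl
      simp only [map_smul, LinearMap.smul_apply]
      rw [h0, smul_mul_smul_comm, smul_smul, mul_comm]
    | add x y hx hy => rw [map_add, mul_add, hx, hy]
  | add t t' ht ht' => rw [map_add, LinearMap.add_apply, add_mul, ht, ht']

theorem prod_single (p : Fin d → R') :
    ∏ j, PiTensorProduct.singleAlgHom (R := R) (A := fun _ : Fin d => R') j (p j) =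
      PiTensorProduct.tprod R p := by
  simp only [PiTensorProduct.singleAlgHom_apply, MonoidHom.mulSingle_apply]
  rw [← PiTensorProduct.tprod_prod]
  exact congrArg _ (Finset.univ_prod_mulSingle p)

section S

variable (S : Type u) [CommRing S] [Algebra R S]

/-- the `j`-th coordinate map, base changed -/
noncomputable def hh (j : Fin d) : S ⊗[R] R' →ₐ[S] S ⊗[R] T R R' d :=
  Algebra.TensorProduct.map (AlgHom.id S S)
    (PiTensorProduct.singleAlgHom (R := R) (A := fun _ : Fin d => R') j)

/-- the product of the coordinate maps -/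
noncomputable def Psi : MultilinearMap S (fun _ : Fin d => S ⊗[R] R') (S ⊗[R] T R R' d) :=
  (MultilinearMap.mkPiAlgebra S (Fin d) (S ⊗[R] T R R' d)).compLinearMap
    (fun j => (hh R R' d S j).toLinearMap)

theorem Psi_apply (y : Fin d → S ⊗[R] R') : Psi R R' d S y = ∏ j, hh R R' d S j (y j) := by
  simp [Psi, MultilinearMap.compLinearMap_apply, MultilinearMap.mkPiAlgebra_apply]

theorem tpowLaw_eq (z : S ⊗[R] R') :
    (SymTen.tpowLaw R R' d).law.toFun' S z = Psi R R' d S (fun _ => z) := by
  rw [Psi_apply]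
  rfl

theorem Psi_mul (z : S ⊗[R] R') (y : Fin d → S ⊗[R] R') :
    Psi R R' d S (fun j => z * y j) = (SymTen.tpowLaw R R' d).law.toFun' S z * Psi R R' d S y := by
  rw [tpowLaw_eq, Psi_apply, Psi_apply, Psi_apply, ← Finset.prod_mul_distrib]
  exact Finset.prod_congr rfl fun j _ => map_mul _ _ _

theorem Psi_one_tmul (p : Fin d → R') :
    Psi R R' d S (fun j => (1 : S) ⊗ₜ[R] p j) = (1 : S) ⊗ₜ[R] PiTensorProduct.tprod R p := by
  rw [Psi_apply]
  have h1 : ∀ j, hh R R' d S j ((1 : S) ⊗ₜ[R] p j) =
      (Algebra.TensorProduct.includeRight : T R R' d →ₐ[R] S ⊗[R] T R R' d)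
        (PiTensorProduct.singleAlgHom (R := R) (A := fun _ : Fin d => R') j (p j)) := by
    intro j
    simp [hh]
  rw [Finset.prod_congr rfl fun j _ => h1 j, ← map_prod, prod_single]
  rfl

/-- the base-changed quotient map -/
noncomputable abbrev qS : S ⊗[R] T R R' d →ₗ[S] S ⊗[R] Lam R R' d := (q R R' d).baseChange S

variable {R R' d}

theorem core (b : Basis (Fin d) R R') :
    (qS R R' d S).compMultilinearMap (Psi R R' d S) =
      ((Algebra.TensorProduct.basis S b).det.toMultilinearMap).smulRight
        ((1 : S) ⊗ₜ[R] alt R R' d b) := by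
  classical
  refine Basis.ext_multilinear (fun _ => Algebra.TensorProduct.basis S b) fun v => ?_
  have hv1 : (fun i => (Algebra.TensorProduct.basis S b) (v i)) = fun i => (1 : S) ⊗ₜ[R] b (v i) := by
    funext i
    rw [Algebra.TensorProduct.basis_apply]
  rw [LinearMap.compMultilinearMap_apply, MultilinearMap.smulRight_apply, hv1, Psi_one_tmul,
    LinearMap.baseChange_tmul, ← hv1]
  show (1 : S) ⊗ₜ[R] alt R R' d (fun i => b (v i)) = _
  by_cases hinj : Function.Injective v
  · obtain ⟨σ, hσ⟩ : ∃ σ : Equiv.Perm (Fin d), ⇑σ = v :=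
      ⟨Equiv.ofBijective v (Finite.injective_iff_bijective.1 hinj), rfl⟩
    have e1 : (fun i => b (v i)) = (⇑b) ∘ σ := by rw [hσ]; rfl
    have e2 : (fun i => (Algebra.TensorProduct.basis S b) (v i)) =
        (⇑(Algebra.TensorProduct.basis S b)) ∘ σ := by rw [hσ]; rfl
    rw [e1, e2, AlternatingMap.map_perm]
    have e3 : (Algebra.TensorProduct.basis S b).det.toMultilinearMap
        ((⇑(Algebra.TensorProduct.basis S b)) ∘ σ) =
        (Algebra.TensorProduct.basis S b).det ((⇑(Algebra.TensorProduct.basis S b)) ∘ σ) := rfl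
    rw [e3, AlternatingMap.map_perm, Basis.det_self]
    rcases Int.units_eq_one_or (Equiv.Perm.sign σ) with h | h
    · rw [h, one_smul, one_smul, one_smul]
    · rw [h, Units.neg_smul, one_smul, Units.neg_smul, one_smul, neg_smul, one_smul,
        TensorProduct.tmul_neg]
  · obtain ⟨i, j, hij, hne⟩ := Function.not_injective_iff.1 hinj
    have h1 : alt R R' d (fun i => b (v i)) = 0 :=
      (alt R R' d).map_eq_zero_of_eq _ (congrArg b hij) hne
    have h2 : (Algebra.TensorProduct.basis S b).det.toMultilinearMap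
        (fun i => (Algebra.TensorProduct.basis S b) (v i)) = 0 :=
      (Algebra.TensorProduct.basis S b).det.map_eq_zero_of_eq _
        (congrArg (Algebra.TensorProduct.basis S b) hij) hne
    rw [h1, h2, TensorProduct.tmul_zero, zero_smul]

theorem key (b : Basis (Fin d) R R') (z : S ⊗[R] R') (y : Fin d → S ⊗[R] R') :
    qS R R' d S (Psi R R' d S (fun j => z * y j)) =
      Algebra.norm S z • qS R R' d S (Psi R R' d S y) := by
  have h1 := MultilinearMap.congr_fun (core S b) (fun j => z * y j)
  have h2 := MultilinearMap.congr_fun (core S b) y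
  rw [LinearMap.compMultilinearMap_apply, MultilinearMap.smulRight_apply] at h1 h2
  rw [h1, h2, smul_smul]
  congr 1
  have h3 := Basis.det_comp (Algebra.TensorProduct.basis S b) (Algebra.lmul S (S ⊗[R] R') z) y
  rw [Algebra.norm_apply]
  exact h3

theorem main_S (b : Basis (Fin d) R R') (z : S ⊗[R] R') (x : T R R' d) :
    qS R R' d S ((SymTen.tpowLaw R R' d).law.toFun' S z * ((1 : S) ⊗ₜ[R] x)) =
      Algebra.norm S z • ((1 : S) ⊗ₜ[R] q R R' d x) := by
  induction x using PiTensorProduct.induction_on with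
  | smul_tprod r p =>
    have h1 := key S b z (fun j => (1 : S) ⊗ₜ[R] p j)
    have h2 : (fun j => z * (1 : S) ⊗ₜ[R] p j) = fun j => z * ((1 : S) ⊗ₜ[R] p j) := rfl
    rw [Psi_mul, Psi_one_tmul, LinearMap.baseChange_tmul] at h1
    rw [TensorProduct.tmul_smul, ← algebraMap_smul S r ((1 : S) ⊗ₜ[R] PiTensorProduct.tprod R p),
      mul_smul_comm, map_smul, h1, map_smul (q R R' d), TensorProduct.tmul_smul,
      ← algebraMap_smul S r ((1 : S) ⊗ₜ[R] (q R R' d) (PiTensorProduct.tprod R p)), smul_comm]
  | add x y hx hy =>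
    rw [TensorProduct.tmul_add, mul_add, map_add, hx, hy, map_add, TensorProduct.tmul_add, smul_add]

end S

section final

variable {R R' d}

theorem ev_mul_const {S : Type u} [CommRing S] [Algebra R S] (ℓ : S →ₗ[R] R)
    (W : S ⊗[R] T R R' d) (x : T R R' d) :
    ev (T R R' d) ℓ W * x = ev (T R R' d) ℓ (W * ((1 : S) ⊗ₜ[R] x)) := by
  induction W using TensorProduct.induction_on with
  | zero => simp
  | tmul s t => simp [Algebra.TensorProduct.tmul_mul_tmul]
  | add a b ha hb => simp only [map_add, add_mul, ha, hb]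

variable [Module.Free R R'] [Module.Finite R R']

theorem main19898 (hd : Module.finrank R R' = d)
    {C : Type u} [CommRing C] [Algebra R C] (γ : PolLaw.MulLaw R R' C d) (hγ : PolLaw.IsGammaD γ)
    (φ : C →ₐ[R] (⨂[R] _ : Fin d, R')) (hφ : PolLaw.MulLaw.postcomp φ γ = SymTen.tpowLaw R R' d)
    (π : C →ₐ[R] R) (hπ : PolLaw.MulLaw.postcomp π γ = PolLaw.normLaw R R' d hd)
    (c : C) (x : ⨂[R] _ : Fin d, R') :
    SymTen.tpowAct R R' R' d (φ c) x - π c • x ∈ SymTen.altSpan R R' d := by
  rcases subsingleton_or_nontrivial R with hR | hR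
  · haveI : Subsingleton (T R R' d) := Module.subsingleton R _
    rw [Subsingleton.elim (SymTen.tpowAct R R' R' d (φ c) x - π c • x) 0]
    exact Submodule.zero_mem _
  let Good : Submodule R C :=
    { carrier := {c | ∀ x : T R R' d, (φ c) * x - π c • x ∈ SymTen.altSpan R R' d}
      add_mem' := by
        intro a b ha hb x
        have : φ (a + b) * x - π (a + b) • x = (φ a * x - π a • x) + (φ b * x - π b • x) := by
          rw [map_add, map_add, add_mul, add_smul]; abel
        rw [this]; exact Submodule.add_mem _ (ha x) (hb x)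
      zero_mem' := by intro x; simp
      smul_mem' := by
        intro r a ha x
        have : φ (r • a) * x - π (r • a) • x = r • (φ a * x - π a • x) := by
          rw [map_smul, map_smul, smul_mul_assoc, smul_assoc, smul_sub]
        rw [this]; exact Submodule.smul_mem _ _ (ha x) }
  have hsub : coeffSetOn γ ⊤ ⊆ (Good : Set C) := by
    rintro _ ⟨S, _, _, z, ℓ, -, rfl⟩ x
    obtain ⟨b⟩ : Nonempty (Basis (Fin d) R R') := ⟨Module.finBasisOfFinrankEq R R' hd⟩
    have hφc : φ (ev C ℓ (γ.law.toFun' S z)) =
        ev (T R R' d) ℓ ((SymTen.tpowLaw R R' d).law.toFun' S z) := by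
      have h1 : (PolLaw.MulLaw.postcomp φ γ).law.toFun' S z =
          (SymTen.tpowLaw R R' d).law.toFun' S z := by rw [hφ]
      rw [← h1]
      exact (ev_lTensor C ℓ φ.toLinearMap (γ.law.toFun' S z)).symm
    have hπc : π (ev C ℓ (γ.law.toFun' S z)) = ℓ (Algebra.norm S z) := by
      have h1 : (PolLaw.MulLaw.postcomp π γ).law.toFun' S z =
          (PolLaw.normLaw R R' d hd).law.toFun' S z := by rw [hπ]
      rw [PolLaw.normLaw_apply] at h1
      have h2 := ev_lTensor C ℓ π.toLinearMap (γ.law.toFun' S z)
      have h3 : π.toLinearMap.lTensor S (γ.law.toFun' S z) = Algebra.norm S z ⊗ₜ[R] (1 : R) := h1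
      rw [h3, ev_tmul] at h2
      rw [AlgHom.toLinearMap_apply] at h2
      rw [← h2]
      simp
    show φ (ev C ℓ (γ.law.toFun' S z)) * x - π (ev C ℓ (γ.law.toFun' S z)) • x ∈
      SymTen.altSpan R R' d
    rw [← Submodule.Quotient.mk_eq_zero]
    show q R R' d (φ (ev C ℓ (γ.law.toFun' S z)) * x - π (ev C ℓ (γ.law.toFun' S z)) • x) = 0
    rw [map_sub, map_smul, hφc, hπc, ev_mul_const, ← ev_lTensor (T R R' d) ℓ (q R R' d)]
    have h4 : (q R R' d).lTensor S ((SymTen.tpowLaw R R' d).law.toFun' S z * ((1 : S) ⊗ₜ[R] x)) =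
        qS R R' d S ((SymTen.tpowLaw R R' d).law.toFun' S z * ((1 : S) ⊗ₜ[R] x)) := rfl
    rw [h4, main_S S b z x, TensorProduct.smul_tmul', ev_tmul, smul_eq_mul, mul_one, sub_self]
  have htop : (⊤ : Submodule R C) ≤ Good := by
    rw [← span_coeffSet_eq_top γ hγ]
    exact Submodule.span_le.2 hsub
  rw [tpowAct_self]
  exact htop Submodule.mem_top x

end final

end Groth.Agent.Lib.GammaDetH1
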