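import Mathlib
import Groth.Prelude.Def_PolLaw2
import Groth.Agent.Lib.GammaSpan_helper1
import Groth.Agent.Lib.GammaDet_helper1

/-!
# Coefficients of homogeneous polynomial laws on free modules (helper1)

For a free module `M` with basis `e` indexed by `I`, a homogeneous law `G : M → N` of degree `d`
is determined by its coefficients at the generic elements `∑_{i ∈ J} X_i ⊗ e_i`.
-/

set_option autoImplicit false
universe u
open scoped TensorProduct
open Module

namespace Groth.Agent.Lib.FreeCoefH1

open Groth.Agent.Lib.GammaSpanH1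
open Classical

variable {A : Type u} [CommRing A] {I : Type u}

section poly

/-- the substitution killing the variables outside `J` -/
noncomputable def kill (J : Finset I) : MvPolynomial I A →ₐ[A] MvPolynomial I A :=
  MvPolynomial.aeval (fun i => if i ∈ J then (MvPolynomial.X i : MvPolynomial I A) else 0)

theorem kill_monomial (J : Finset I) (m : I →₀ ℕ) (a : A) :
    kill J (MvPolynomial.monomial m a) = if m.support ⊆ J then MvPolynomial.monomial m a else 0 := by
  classical
  rw [kill, MvPolynomial.aeval_monomial]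
  split_ifs with h
  · rw [MvPolynomial.monomial_eq]
    congr 1
    apply Finsupp.prod_congr
    intro i hi
    rw [if_pos (h hi)]
  · obtain ⟨i, hi, hiJ⟩ := Finset.not_subset.1 h
    rw [Finsupp.prod, Finset.prod_eq_zero hi, mul_zero]
    rw [if_neg hiJ, zero_pow (Finsupp.mem_support_iff.1 hi)]

theorem coeff_kill (J : Finset I) (m : I →₀ ℕ) (p : MvPolynomial I A) :
    MvPolynomial.coeff m (kill J p) = if m.support ⊆ J then MvPolynomial.coeff m p else 0 := by
  classical
  induction p using MvPolynomial.induction_on' with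
  | monomial m' a =>
    rw [kill_monomial]
    by_cases hm : m' = m
    · subst hm
      split_ifs <;> simp
    · split_ifs <;> simp [MvPolynomial.coeff_monomial, hm]
  | add p q hp hq =>
    rw [map_add, MvPolynomial.coeff_add, hp, hq, MvPolynomial.coeff_add]
    split_ifs <;> simp

theorem lcoeff_comp_kill (J : Finset I) (m : I →₀ ℕ) :
    (MvPolynomial.lcoeff A m) ∘ₗ (kill (A := A) J).toLinearMap =
      if m.support ⊆ J then MvPolynomial.lcoeff A m else 0 := by
  apply LinearMap.ext
  intro p
  rw [LinearMap.comp_apply, AlgHom.toLinearMap_apply, MvPolynomial.lcoeff_apply, coeff_kill]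
  split_ifs <;> simp

/-- the scaling substitution -/
noncomputable def scl : MvPolynomial I A →ₐ[A] Polynomial (MvPolynomial I A) :=
  MvPolynomial.aeval (fun i => Polynomial.C (MvPolynomial.X i) * Polynomial.X)

theorem scl_monomial (m : I →₀ ℕ) (a : A) :
    scl (MvPolynomial.monomial m a) =
      Polynomial.C (MvPolynomial.monomial m a) * Polynomial.X ^ (Finsupp.degree m) := by
  rw [scl, MvPolynomial.aeval_monomial]
  have h1 : (m.prod fun i k => (Polynomial.C (MvPolynomial.X i : MvPolynomial I A) * Polynomial.X) ^ k) =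
      Polynomial.C (m.prod fun i k => (MvPolynomial.X i : MvPolynomial I A) ^ k) *
        Polynomial.X ^ (Finsupp.degree m) := by
    simp_rw [mul_pow]
    rw [Finsupp.prod_mul, map_finsuppProd]
    congr 1
    · apply Finsupp.prod_congr
      intro i _
      rw [map_pow]
    · rw [Finsupp.prod, Finset.prod_pow_eq_pow_sum]
      rfl
  rw [h1, ← mul_assoc]
  congr 1
  rw [MvPolynomial.monomial_eq, map_mul]
  rfl

/-- coefficient functional on `S[T]` -/
noncomputable def lco (k : ℕ) (m : I →₀ ℕ) : Polynomial (MvPolynomial I A) →ₗ[A] A :=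
  (MvPolynomial.lcoeff A m) ∘ₗ ((Polynomial.lcoeff (MvPolynomial I A) k).restrictScalars A)

theorem lco_apply (k : ℕ) (m : I →₀ ℕ) (q : Polynomial (MvPolynomial I A)) :
    lco k m q = MvPolynomial.coeff m (q.coeff k) := rfl

theorem lco_scl (k : ℕ) (m : I →₀ ℕ) (p : MvPolynomial I A) :
    lco k m (scl p) = if Finsupp.degree m = k then MvPolynomial.coeff m p else 0 := by
  classical
  induction p using MvPolynomial.induction_on' with
  | monomial m' a =>
    rw [scl_monomial, lco_apply, Polynomial.coeff_C_mul_X_pow]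
    by_cases hm : m' = m
    · subst hm
      by_cases hk : k = Finsupp.degree m'
      · rw [if_pos hk, if_pos hk.symm]
      · rw [if_neg hk, if_neg (Ne.symm hk), MvPolynomial.coeff_zero]
    · have : MvPolynomial.coeff m (MvPolynomial.monomial m' a) = 0 := by
        rw [MvPolynomial.coeff_monomial, if_neg hm]
      split_ifs <;> simp [this]
  | add p q hp hq =>
    rw [map_add, map_add, hp, hq, MvPolynomial.coeff_add]
    split_ifs <;> simp

theorem lco_X_pow_mul_C (k d : ℕ) (m : I →₀ ℕ) (p : MvPolynomial I A) :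
    lco k m (Polynomial.X ^ d * Polynomial.C p) = if k = d then MvPolynomial.coeff m p else 0 := by
  rw [lco_apply, mul_comm, Polynomial.coeff_C_mul_X_pow]
  split_ifs <;> simp

end poly

section law

variable {M : Type u} [AddCommGroup M] [Module A M] {N : Type u} [AddCommGroup N] [Module A N]
  (e : I → M) (G : M →ₚₗ[A] N)

/-- the generic element on a finite set of indices -/
noncomputable def zJ (J : Finset I) : MvPolynomial I A ⊗[A] M :=
  ∑ i ∈ J, (MvPolynomial.X i : MvPolynomial I A) ⊗ₜ[A] e i

/-- the coefficients of the law -/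
noncomputable def coefOn (J : Finset I) (m : I →₀ ℕ) : N :=
  ev N (MvPolynomial.lcoeff A m) (G.toFun' (MvPolynomial I A) (zJ e J))

/-- the coefficient at a multi-index -/
noncomputable def coefG (m : I →₀ ℕ) : N := coefOn e G m.support m

theorem kill_zJ {J J' : Finset I} (h : J' ⊆ J) :
    (kill (A := A) J').toLinearMap.rTensor M (zJ e J) = zJ e J' := by
  classical
  rw [zJ, map_sum]
  simp only [LinearMap.rTensor_tmul, AlgHom.toLinearMap_apply, kill, MvPolynomial.aeval_X]
  have : ∀ i ∈ J, (if i ∈ J' then (MvPolynomial.X i : MvPolynomial I A) else 0) ⊗ₜ[A] e i =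
      if i ∈ J' then (MvPolynomial.X i : MvPolynomial I A) ⊗ₜ[A] e i else 0 := by
    intro i _
    split_ifs <;> simp
  rw [Finset.sum_congr rfl this, Finset.sum_ite_mem, Finset.inter_eq_right.2 h, zJ]

theorem coefOn_eq_zero_of_not_subset {J : Finset I} {m : I →₀ ℕ} (h : ¬ m.support ⊆ J) :
    coefOn e G J m = 0 := by
  have h1 := kill_zJ (A := A) e (subset_refl J)
  have h2 : G.toFun' (MvPolynomial I A) (zJ e J) =
      (kill (A := A) J).toLinearMap.rTensor N (G.toFun' (MvPolynomial I A) (zJ e J)) := by
    rw [PolynomialLaw.isCompat_apply', h1]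
  rw [coefOn, h2, ev_rTensor, lcoeff_comp_kill, if_neg h]
  simp [ev]

theorem coefOn_eq_of_subset {J J' : Finset I} {m : I →₀ ℕ} (h : J' ⊆ J) (hm : m.support ⊆ J') :
    coefOn e G J m = coefOn e G J' m := by
  have h1 := kill_zJ (A := A) e h
  have h2 : G.toFun' (MvPolynomial I A) (zJ e J') =
      (kill (A := A) J').toLinearMap.rTensor N (G.toFun' (MvPolynomial I A) (zJ e J)) := by
    rw [PolynomialLaw.isCompat_apply', h1]
  conv_rhs => rw [coefOn, h2, ev_rTensor, lcoeff_comp_kill, if_pos hm]
  rfl

theorem scl_zJ (J : Finset I) :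
    (scl (A := A)).toLinearMap.rTensor M (zJ e J) =
      (Polynomial.X : Polynomial (MvPolynomial I A)) •
        (Polynomial.CAlgHom (R := A) (A := MvPolynomial I A)).toLinearMap.rTensor M (zJ e J) := by
  rw [zJ, map_sum, map_sum, Finset.smul_sum]
  refine Finset.sum_congr rfl fun i _ => ?_
  rw [LinearMap.rTensor_tmul, LinearMap.rTensor_tmul, AlgHom.toLinearMap_apply,
    AlgHom.toLinearMap_apply, scl, MvPolynomial.aeval_X, TensorProduct.smul_tmul', smul_eq_mul,
    mul_comm]
  rfl

theorem coefOn_eq_zero_of_degree_ne {d : ℕ} (hG : PolLaw.IsHomog G d) {J : Finset I} {m : I →₀ ℕ}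
    (h : Finsupp.degree m ≠ d) : coefOn e G J m = 0 := by
  obtain ⟨w, hw⟩ : ∃ w, w = G.toFun' (MvPolynomial I A) (zJ e J) := ⟨_, rfl⟩
  have h1 : (scl (A := A)).toLinearMap.rTensor N w =
      (Polynomial.X : Polynomial (MvPolynomial I A)) ^ d •
        (Polynomial.CAlgHom (R := A) (A := MvPolynomial I A)).toLinearMap.rTensor N w := by
    rw [hw, PolynomialLaw.isCompat_apply', PolynomialLaw.isCompat_apply', scl_zJ, hG]
  have h2 := congrArg (ev N (lco (Finsupp.degree m) m)) h1
  rw [ev_rTensor] at h2
  have e1 : (lco (A := A) (Finsupp.degree m) m) ∘ₗ (scl (A := A)).toLinearMap =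
      MvPolynomial.lcoeff A m := by
    apply LinearMap.ext
    intro p
    rw [LinearMap.comp_apply, AlgHom.toLinearMap_apply, lco_scl, if_pos rfl]
    rfl
  have e2 : ∀ w' : MvPolynomial I A ⊗[A] N, ev N (lco (Finsupp.degree m) m)
      ((Polynomial.X : Polynomial (MvPolynomial I A)) ^ d •
        (Polynomial.CAlgHom (R := A) (A := MvPolynomial I A)).toLinearMap.rTensor N w') = 0 := by
    intro w'
    induction w' using TensorProduct.induction_on with
    | zero => simp
    | tmul p c =>
      rw [LinearMap.rTensor_tmul, TensorProduct.smul_tmul', ev_tmul, smul_eq_mul,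
        AlgHom.toLinearMap_apply]
      have : lco (Finsupp.degree m) m ((Polynomial.X : Polynomial (MvPolynomial I A)) ^ d *
          (Polynomial.CAlgHom (R := A) (A := MvPolynomial I A)) p) = 0 := by
        show lco (Finsupp.degree m) m (Polynomial.X ^ d * Polynomial.C p) = 0
        rw [lco_X_pow_mul_C, if_neg h]
      rw [this, zero_smul]
    | add a b ha hb => rw [map_add, smul_add, map_add, ha, hb, add_zero]
  rw [e1, e2] at h2
  rw [coefOn, ← hw]
  exact h2

theorem exists_decomp' (w : MvPolynomial I A ⊗[A] N) :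
    ∃ s₀ : Finset (I →₀ ℕ), ∀ s : Finset (I →₀ ℕ), s₀ ⊆ s →
      w = ∑ m ∈ s, (MvPolynomial.monomial m (1 : A)) ⊗ₜ[A] ev N (MvPolynomial.lcoeff A m) w := by
  induction w using TensorProduct.induction_on with
  | zero => exact ⟨∅, fun s _ => by simp⟩
  | tmul p c =>
    refine ⟨p.support, fun s hs => ?_⟩
    have h1 : ∀ m ∈ s, (MvPolynomial.monomial m (1 : A)) ⊗ₜ[A]
        ev N (MvPolynomial.lcoeff A m) (p ⊗ₜ[A] c) = (MvPolynomial.monomial m (p.coeff m)) ⊗ₜ[A] c := by
      intro m _
      rw [ev_tmul, MvPolynomial.lcoeff_apply, TensorProduct.tmul_smul, TensorProduct.smul_tmul',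
        MvPolynomial.smul_monomial, smul_eq_mul, mul_one]
    rw [Finset.sum_congr rfl h1, ← TensorProduct.sum_tmul]
    congr 1
    rw [← Finset.sum_subset hs (fun m _ hm => by
      rw [MvPolynomial.notMem_support_iff.mp hm, MvPolynomial.monomial_zero])]
    exact (MvPolynomial.support_sum_monomial_coeff p).symm
  | add a b ha hb =>
    obtain ⟨s₁, h₁⟩ := ha
    obtain ⟨s₂, h₂⟩ := hb
    refine ⟨s₁ ∪ s₂, fun s hs => ?_⟩
    have e₁ := h₁ s (Finset.union_subset_left hs)
    have e₂ := h₂ s (Finset.union_subset_right hs)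
    simp only [map_add, TensorProduct.tmul_add, Finset.sum_add_distrib]
    rw [← e₁, ← e₂]

/-- the expansion of a homogeneous law at the generic element -/
theorem toFun_zJ {d : ℕ} (hG : PolLaw.IsHomog G d) (J : Finset I) :
    G.toFun' (MvPolynomial I A) (zJ e J) =
      ∑ m ∈ J.finsuppAntidiag d, (MvPolynomial.monomial m (1 : A)) ⊗ₜ[A] coefG e G m := by
  classical
  obtain ⟨s₀, hs₀⟩ := exists_decomp' (G.toFun' (MvPolynomial I A) (zJ e J))
  rw [hs₀ (s₀ ∪ J.finsuppAntidiag d) Finset.subset_union_left]
  symm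
  rw [← Finset.sum_subset (Finset.subset_union_right (s₁ := s₀))]
  · refine Finset.sum_congr rfl fun m hm => ?_
    rw [Finset.mem_finsuppAntidiag] at hm
    show _ ⊗ₜ[A] coefOn e G m.support m = _ ⊗ₜ[A] coefOn e G J m
    rw [coefOn_eq_of_subset e G hm.2 subset_rfl]
  · intro m _ hm
    rw [Finset.mem_finsuppAntidiag] at hm
    show _ ⊗ₜ[A] coefOn e G J m = 0
    by_cases hs : m.support ⊆ J
    · have hdeg : Finsupp.degree m ≠ d := by
        intro hd
        apply hm
        refine ⟨?_, hs⟩
        rw [← hd, Finsupp.degree_apply]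
        symm
        apply Finset.sum_subset hs
        intro i _ hi
        exact Finsupp.notMem_support_iff.1 hi
      rw [coefOn_eq_zero_of_degree_ne e G hG hdeg, TensorProduct.tmul_zero]
    · rw [coefOn_eq_zero_of_not_subset e G hs, TensorProduct.tmul_zero]

/-- the expansion of a homogeneous law on a finite combination of the `e i` -/
theorem toFun_sum {d : ℕ} (hG : PolLaw.IsHomog G d) {S : Type u} [CommRing S] [Algebra A S]
    (J : Finset I) (s : I → S) :
    G.toFun' S (∑ i ∈ J, s i ⊗ₜ[A] e i) =
      ∑ m ∈ J.finsuppAntidiag d, (m.prod fun i k => s i ^ k) ⊗ₜ[A] coefG e G m := by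
  have h1 : (MvPolynomial.aeval s : MvPolynomial I A →ₐ[A] S).toLinearMap.rTensor M (zJ e J) =
      ∑ i ∈ J, s i ⊗ₜ[A] e i := by
    rw [zJ, map_sum]
    refine Finset.sum_congr rfl fun i _ => ?_
    rw [LinearMap.rTensor_tmul, AlgHom.toLinearMap_apply, MvPolynomial.aeval_X]
  rw [← h1, ← PolynomialLaw.isCompat_apply', toFun_zJ e G hG, map_sum]
  refine Finset.sum_congr rfl fun m _ => ?_
  rw [LinearMap.rTensor_tmul, AlgHom.toLinearMap_apply, MvPolynomial.aeval_monomial, map_one, one_mul]

end law

end Groth.Agent.Lib.FreeCoefH1
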