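import Mathlib
import Groth.Prelude.Def_PolLaw2
import Groth.Agent.Lib.FreeCoef_helper1
import Groth.Agent.Lib.DetProj_helper1

/-!
# Factorisation of multiplicative laws on a free algebra through symmetric tensors (helper1)

For a commutative `A`-algebra `P` which is free as an `A`-module, every multiplicative law
`G : P → C'` homogeneous of degree `d` factors as `f ∘ τ_W` where `W ⊆ T^d(P)` is the subalgebra
generated by the coefficients of the tensor power law and `f : W → C'` is an algebra map.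
-/

set_option autoImplicit false
universe u
open scoped TensorProduct
open Module

namespace Groth.Agent.Lib.FreeFactH1

open Groth.Agent.Lib.GammaSpanH1 Groth.Agent.Lib.FreeCoefH1
open Classical

variable {A : Type u} [CommRing A] {I : Type u}

section ty

variable {d : ℕ}

/-- the type (multiset of values) of an index function -/
noncomputable def ty (K : Fin d → I) : I →₀ ℕ := ∑ k, Finsupp.single (K k) 1

theorem degree_ty (K : Fin d → I) : Finsupp.degree (ty K) = d := by
  rw [ty, map_sum]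
  simp [Finsupp.degree_single]

theorem support_ty_subset {K : Fin d → I} {J : Finset I} (h : ∀ k, K k ∈ J) :
    (ty K).support ⊆ J := by
  intro i hi
  rw [ty] at hi
  have h1 := Finsupp.support_finset_sum hi
  rw [Finset.mem_biUnion] at h1
  obtain ⟨k, -, hk⟩ := h1
  have h2 := Finsupp.support_single_subset hk
  rw [Finset.mem_singleton] at h2
  rw [h2]
  exact h k

theorem mem_support_ty (K : Fin d → I) (k : Fin d) : K k ∈ (ty K).support := by
  rw [Finsupp.mem_support_iff, ty, Finsupp.finset_sum_apply]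
  have h1 : (Finsupp.single (K k) 1 : I →₀ ℕ) (K k) ≤
      ∑ k', (Finsupp.single (K k') 1 : I →₀ ℕ) (K k) :=
    Finset.single_le_sum (f := fun k' => (Finsupp.single (K k') 1 : I →₀ ℕ) (K k))
      (fun _ _ => Nat.zero_le _) (Finset.mem_univ k)
  rw [Finsupp.single_eq_same] at h1
  omega

theorem sum_eq_degree {m : I →₀ ℕ} {J : Finset I} (h : m.support ⊆ J) :
    J.sum m = Finsupp.degree m := by
  rw [Finsupp.degree_apply]
  symm
  apply Finset.sum_subset h
  intro i _ hi
  exact Finsupp.notMem_support_iff.1 hi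

theorem mem_antidiag_iff {m : I →₀ ℕ} {J : Finset I} :
    m ∈ J.finsuppAntidiag d ↔ Finsupp.degree m = d ∧ m.support ⊆ J := by
  rw [Finset.mem_finsuppAntidiag]
  constructor
  · rintro ⟨h1, h2⟩
    exact ⟨by rw [← sum_eq_degree h2, h1], h2⟩
  · rintro ⟨h1, h2⟩
    exact ⟨by rw [sum_eq_degree h2, h1], h2⟩

theorem exists_ty_eq : ∀ (d : ℕ) (m : I →₀ ℕ), Finsupp.degree m = d →
    ∃ K : Fin d → I, ty K = m := by
  intro d
  induction d with
  | zero =>
    intro m hm
    refine ⟨Fin.elim0, ?_⟩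
    rw [Finsupp.degree_eq_zero_iff] at hm
    rw [hm, ty]
    simp
  | succ d ih =>
    intro m hm
    have hm0 : m ≠ 0 := by
      rintro rfl
      simp at hm
    obtain ⟨i, hi⟩ : ∃ i, m i ≠ 0 := by
      by_contra h
      push_neg at h
      exact hm0 (Finsupp.ext h)
    have hle : Finsupp.single i 1 ≤ m :=
      Finsupp.single_le_iff.2 (Nat.one_le_iff_ne_zero.2 hi)
    have hm' : m - Finsupp.single i 1 + Finsupp.single i 1 = m := tsub_add_cancel_of_le hle
    have hdeg : Finsupp.degree (m - Finsupp.single i 1) = d := by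
      have h1 := congrArg Finsupp.degree hm'
      rw [map_add, Finsupp.degree_single, hm] at h1
      omega
    obtain ⟨K', hK'⟩ := ih _ hdeg
    refine ⟨Fin.cons i K', ?_⟩
    rw [ty, Fin.sum_univ_succ]
    simp only [Fin.cons_zero, Fin.cons_succ]
    rw [← hm', add_comm]
    congr 1

theorem prod_ty {S : Type u} [CommSemiring S] (s : I → S) (K : Fin d → I) :
    (ty K).prod (fun i k => s i ^ k) = ∏ k, s (K k) := by
  rw [ty, ← Finsupp.prod_finsetSum_index (h_zero := fun i => pow_zero _)
    (h_add := fun i a b => pow_add _ _ _)]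
  refine Finset.prod_congr rfl fun k _ => ?_
  exact (Finsupp.prod_single_index (h := fun i k => s i ^ k) (pow_zero (s (K k)))).trans (pow_one (s (K k)))

/-- a chosen representative of the class of index functions of the same type -/
noncomputable def repOf (K : Fin d → I) : Fin d → I :=
  Classical.choose (⟨K, rfl⟩ : ∃ K' : Fin d → I, ty K' = ty K)

theorem ty_repOf (K : Fin d → I) : ty (repOf K) = ty K :=
  Classical.choose_spec (⟨K, rfl⟩ : ∃ K' : Fin d → I, ty K' = ty K)

theorem repOf_congr {K₁ K₂ : Fin d → I} (h : ty K₁ = ty K₂) : repOf K₁ = repOf K₂ := by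
  have aux : ∀ (m₁ m₂ : I →₀ ℕ) (_ : m₁ = m₂) (h₁ : ∃ K' : Fin d → I, ty K' = m₁)
      (h₂ : ∃ K' : Fin d → I, ty K' = m₂), Classical.choose h₁ = Classical.choose h₂ := by
    intro m₁ m₂ h
    subst h
    intro h₁ h₂
    rfl
  exact aux _ _ h _ _

end ty

section prodtmul

theorem prod_tmul {S : Type u} [CommSemiring S] [Algebra A S] {C : Type u} [CommRing C]
    [Algebra A C] {ι : Type*} (t : Finset ι) (a : ι → S) (b : ι → C) :
    ∏ j ∈ t, (a j ⊗ₜ[A] b j) = (∏ j ∈ t, a j) ⊗ₜ[A] (∏ j ∈ t, b j) := by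
  induction t using Finset.induction_on with
  | empty => simp [Algebra.TensorProduct.one_def]
  | insert j s hj ih =>
    rw [Finset.prod_insert hj, Finset.prod_insert hj, Finset.prod_insert hj, ih,
      Algebra.TensorProduct.tmul_mul_tmul]

end prodtmul

section K1

variable {d : ℕ} {P : Type u} [CommRing P] [Algebra A P] (e : Basis I A P)
  {N : Type u} [AddCommGroup N] [Module A N] (G : P →ₚₗ[A] N)

/-- the basis of the tensor power -/
noncomputable def eT : Basis (Fin d → I) A (⨂[A] _ : Fin d, P) :=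
  Basis.piTensorProduct (fun _ => e)

theorem eT_apply (K : Fin d → I) :
    eT (d := d) e K = PiTensorProduct.tprod A (fun k => e (K k)) :=
  Basis.piTensorProduct_apply _ _

/-- the linear map on the tensor power attached to the coefficients of the law -/
noncomputable def ftil : (⨂[A] _ : Fin d, P) →ₗ[A] N :=
  (eT (d := d) e).constr A (fun K => if repOf K = K then coefG (⇑e) G (ty K) else 0)

theorem ftil_eT (K : Fin d → I) :
    ftil (d := d) e G (eT e K) = if repOf K = K then coefG (⇑e) G (ty K) else 0 := by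
  rw [ftil, Basis.constr_basis]

theorem exists_sum_repr {S : Type u} [CommRing S] [Algebra A S] (z : S ⊗[A] P) :
    ∃ (J : Finset I) (s : I → S), z = ∑ i ∈ J, s i ⊗ₜ[A] e i := by
  obtain ⟨bS, hbS⟩ : ∃ bS : Basis I S (S ⊗[A] P), bS = Algebra.TensorProduct.basis S e := ⟨_, rfl⟩
  refine ⟨(bS.repr z).support, fun i => bS.repr z i, ?_⟩
  conv_lhs => rw [← bS.linearCombination_repr z, Finsupp.linearCombination_apply, Finsupp.sum]
  refine Finset.sum_congr rfl fun i _ => ?_
  rw [hbS, Algebra.TensorProduct.basis_apply, TensorProduct.smul_tmul', smul_eq_mul, mul_one]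

theorem tpowLaw_sum {S : Type u} [CommRing S] [Algebra A S] (J : Finset I) (s : I → S) :
    (SymTen.tpowLaw A P d).law.toFun' S (∑ i ∈ J, s i ⊗ₜ[A] e i) =
      ∑ c ∈ Fintype.piFinset (fun _ : Fin d => J), (∏ k, s (c k)) ⊗ₜ[A] eT e c := by
  show ∏ j, Algebra.TensorProduct.map (AlgHom.id S S)
    (PiTensorProduct.singleAlgHom (R := A) (A := fun _ : Fin d => P) j)
      (∑ i ∈ J, s i ⊗ₜ[A] e i) = _
  simp only [map_sum, Algebra.TensorProduct.map_tmul, AlgHom.id_apply]
  rw [Finset.prod_univ_sum]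
  refine Finset.sum_congr rfl fun c _ => ?_
  rw [prod_tmul, Groth.Agent.Lib.GammaDetH1.prod_single, eT_apply]

theorem ftil_tpow_sum (hG : PolLaw.IsHomog G d) {S : Type u} [CommRing S] [Algebra A S]
    (J : Finset I) (s : I → S) :
    (ftil (d := d) e G).lTensor S
        ((SymTen.tpowLaw A P d).law.toFun' S (∑ i ∈ J, s i ⊗ₜ[A] e i)) =
      G.toFun' S (∑ i ∈ J, s i ⊗ₜ[A] e i) := by
  rw [toFun_sum (⇑e) G hG J s, tpowLaw_sum, map_sum]
  simp only [LinearMap.lTensor_tmul, ftil_eT]
  have h2 : ∀ c ∈ Fintype.piFinset (fun _ : Fin d => J),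
      (∏ k, s (c k)) ⊗ₜ[A] (if repOf c = c then coefG (⇑e) G (ty c) else 0) =
        if repOf c = c then (∏ k, s (c k)) ⊗ₜ[A] coefG (⇑e) G (ty c) else 0 := by
    intro c _
    split_ifs <;> simp
  rw [Finset.sum_congr rfl h2, ← Finset.sum_filter]
  refine Finset.sum_bij (fun c _ => ty c) ?_ ?_ ?_ ?_
  · intro c hc
    rw [Finset.mem_filter, Fintype.mem_piFinset] at hc
    exact mem_antidiag_iff.2 ⟨degree_ty c, support_ty_subset hc.1⟩
  · intro c₁ h₁ c₂ h₂ h
    rw [Finset.mem_filter] at h₁ h₂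
    rw [← h₁.2, ← h₂.2, repOf_congr h]
  · intro m hm
    obtain ⟨hdeg, hsupp⟩ := mem_antidiag_iff.1 hm
    obtain ⟨K, hK⟩ := exists_ty_eq d m hdeg
    refine ⟨repOf K, ?_, ?_⟩
    · rw [Finset.mem_filter, Fintype.mem_piFinset]
      refine ⟨fun k => ?_, repOf_congr (ty_repOf K)⟩
      apply hsupp
      rw [← hK, ← ty_repOf K]
      exact mem_support_ty _ k
    · rw [ty_repOf, hK]
  · intro c _
    rw [prod_ty]

theorem postcomp_ftil (hG : PolLaw.IsHomog G d) :
    PolLaw.postcomp (ftil (d := d) e G) (SymTen.tpowLaw A P d).law = G := by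
  apply Groth.Agent.Lib.DetProjH1.ext_of_ring
  intro R _ _ x
  obtain ⟨J, s, rfl⟩ := exists_sum_repr e x
  exact ftil_tpow_sum e G hG J s

end K1

section mult

variable {B C C' : Type u} [CommRing B] [Algebra A B] [CommRing C] [Algebra A C] [CommRing C']
  [Algebra A C'] {d : ℕ} (γ : PolLaw.MulLaw A B C d) (G : PolLaw.MulLaw A B C' d) (f : C →ₗ[A] C')
  (hf : PolLaw.postcomp f γ.law = G.law)

include hf

theorem map_ev (S : Type u) [CommRing S] [Algebra A S] (z : S ⊗[A] B) (ℓ : S →ₗ[A] A) :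
    f (ev C ℓ (γ.law.toFun' S z)) = ev C' ℓ (G.law.toFun' S z) := by
  rw [← ev_lTensor, ← hf]
  rfl

theorem map_one_of_postcomp : f 1 = 1 := by
  have h1 : (1 : C) = ev C (LinearMap.id : A →ₗ[A] A) (γ.law.toFun' A 1) := by
    rw [(γ.mult A).1, Algebra.TensorProduct.one_def, ev_tmul]
    simp
  have h2 : (1 : C') = ev C' (LinearMap.id : A →ₗ[A] A) (G.law.toFun' A 1) := by
    rw [(G.mult A).1, Algebra.TensorProduct.one_def, ev_tmul]
    simp
  rw [h1, map_ev γ G f hf, ← h2]

theorem map_mul_of_mem_coeffSet {c c' : C} (hc : c ∈ coeffSetOn γ ⊤) (hc' : c' ∈ coeffSetOn γ ⊤) :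
    f (c * c') = f c * f c' := by
  obtain ⟨S, _, _, z, ℓ, -, rfl⟩ := hc
  obtain ⟨S', _, _, z', ℓ', -, rfl⟩ := hc'
  rw [map_ev γ G f hf, map_ev γ G f hf]
  obtain ⟨ι₁, hι₁⟩ : ∃ ι₁ : S →ₐ[A] S ⊗[A] S', ι₁ = Algebra.TensorProduct.includeLeft := ⟨_, rfl⟩
  obtain ⟨ι₂, hι₂⟩ : ∃ ι₂ : S' →ₐ[A] S ⊗[A] S', ι₂ = Algebra.TensorProduct.includeRight := ⟨_, rfl⟩
  have e1 : ev C ℓ (γ.law.toFun' S z) * ev C ℓ' (γ.law.toFun' S' z') =
      ev C ((LinearMap.mul' A A) ∘ₗ TensorProduct.map ℓ ℓ')
        (γ.law.toFun' (S ⊗[A] S') (ι₁.toLinearMap.rTensor B z * ι₂.toLinearMap.rTensor B z')) := by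
    rw [(γ.mult _).2, ← PolynomialLaw.isCompat_apply', ← PolynomialLaw.isCompat_apply', hι₁, hι₂,
      ev_mul]
  have e2 : ev C' ℓ (G.law.toFun' S z) * ev C' ℓ' (G.law.toFun' S' z') =
      ev C' ((LinearMap.mul' A A) ∘ₗ TensorProduct.map ℓ ℓ')
        (G.law.toFun' (S ⊗[A] S') (ι₁.toLinearMap.rTensor B z * ι₂.toLinearMap.rTensor B z')) := by
    rw [(G.mult _).2, ← PolynomialLaw.isCompat_apply', ← PolynomialLaw.isCompat_apply', hι₁, hι₂,
      ev_mul]
  rw [e1, map_ev γ G f hf, e2]

theorem map_mul_of_mem_span {x y : C} (hx : x ∈ Submodule.span A (coeffSetOn γ ⊤))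
    (hy : y ∈ Submodule.span A (coeffSetOn γ ⊤)) : f (x * y) = f x * f y := by
  induction hx using Submodule.span_induction with
  | mem x hx =>
    induction hy using Submodule.span_induction with
    | mem y hy => exact map_mul_of_mem_coeffSet γ G f hf hx hy
    | zero => simp
    | add y y' _ _ h h' => rw [mul_add, map_add, map_add, mul_add, h, h']
    | smul a y _ h => rw [mul_smul_comm, map_smul, map_smul, mul_smul_comm, h]
  | zero => simp
  | add x x' _ _ h h' => rw [add_mul, map_add, map_add, add_mul, h, h']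
  | smul a x _ h => rw [smul_mul_assoc, map_smul, map_smul, smul_mul_assoc, h]

end mult

section factor

variable {d : ℕ} {P : Type u} [CommRing P] [Algebra A P] {C' : Type u} [CommRing C'] [Algebra A C']

/-- the subalgebra of the tensor power generated by the coefficients of the tensor power law -/
noncomputable def WW (A : Type u) [CommRing A] (P : Type u) [CommRing P] [Algebra A P] (d : ℕ) :
    Subalgebra A (⨂[A] _ : Fin d, P) :=
  Algebra.adjoin A (coeffSetOn (SymTen.tpowLaw A P d) ⊤)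

theorem exists_tauW (A : Type u) [CommRing A] (P : Type u) [CommRing P] [Algebra A P] (d : ℕ) :
    ∃ τW : PolLaw.MulLaw A P (WW A P d) d,
      PolLaw.postcomp (WW A P d).val.toLinearMap τW.law = (SymTen.tpowLaw A P d).law := by
  apply exists_restrict
  intro n z
  apply mem_range_of_coeffs
  intro m
  exact Algebra.subset_adjoin (mem_coeffSetOn_top (SymTen.tpowLaw A P d) _ z _)

/-- the tensor power law with values in `WW` -/
noncomputable def tauW (A : Type u) [CommRing A] (P : Type u) [CommRing P] [Algebra A P] (d : ℕ) :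
    PolLaw.MulLaw A P (WW A P d) d := Classical.choose (exists_tauW A P d)

theorem tauW_spec (A : Type u) [CommRing A] (P : Type u) [CommRing P] [Algebra A P] (d : ℕ) :
    PolLaw.postcomp (WW A P d).val.toLinearMap (tauW A P d).law = (SymTen.tpowLaw A P d).law :=
  Classical.choose_spec (exists_tauW A P d)

theorem val_tauW (S : Type u) [CommSemiring S] [Algebra A S] (x : S ⊗[A] P) :
    (WW A P d).val.toLinearMap.lTensor S ((tauW A P d).law.toFun' S x) =
      (SymTen.tpowLaw A P d).law.toFun' S x := by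
  have := congrArg (fun L : P →ₚₗ[A] (⨂[A] _ : Fin d, P) => L.toFun' S x) (tauW_spec A P d)
  exact this

theorem mem_span_of_mem_WW (x : WW A P d) :
    (x : ⨂[A] _ : Fin d, P) ∈ Submodule.span A (coeffSetOn (SymTen.tpowLaw A P d) ⊤) := by
  rw [span_coeffSetOn_eq]
  exact x.2

/-- every multiplicative law on a free algebra factors through `WW` by an algebra map -/
theorem exists_factor (e : Basis I A P) (G : PolLaw.MulLaw A P C' d) :
    ∃ f : WW A P d →ₐ[A] C', PolLaw.postcomp f.toLinearMap (tauW A P d).law = G.law := by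
  obtain ⟨g, hg⟩ : ∃ g : (⨂[A] _ : Fin d, P) →ₗ[A] C', g = ftil (d := d) e G.law := ⟨_, rfl⟩
  have hpost : PolLaw.postcomp g (SymTen.tpowLaw A P d).law = G.law := by
    rw [hg]
    exact postcomp_ftil e G.law G.homog
  have h1 : (g ∘ₗ (WW A P d).val.toLinearMap) 1 = 1 := by
    rw [LinearMap.comp_apply]
    exact map_one_of_postcomp (SymTen.tpowLaw A P d) G g hpost
  have hmul : ∀ x y : WW A P d, (g ∘ₗ (WW A P d).val.toLinearMap) (x * y) =
      (g ∘ₗ (WW A P d).val.toLinearMap) x * (g ∘ₗ (WW A P d).val.toLinearMap) y := by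
    intro x y
    rw [LinearMap.comp_apply, LinearMap.comp_apply, LinearMap.comp_apply]
    exact map_mul_of_mem_span (SymTen.tpowLaw A P d) G g hpost (mem_span_of_mem_WW x)
      (mem_span_of_mem_WW y)
  refine ⟨AlgHom.ofLinearMap (g ∘ₗ (WW A P d).val.toLinearMap) h1 hmul, ?_⟩
  apply PolynomialLaw.ext
  funext S _ _ x
  show (AlgHom.ofLinearMap (g ∘ₗ (WW A P d).val.toLinearMap) h1 hmul).toLinearMap.lTensor S
    ((tauW A P d).law.toFun' S x) = _
  rw [AlgHom.toLinearMap_ofLinearMap, LinearMap.lTensor_comp, LinearMap.comp_apply, val_tauW, ← hpost]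
  rfl

end factor

end Groth.Agent.Lib.FreeFactH1
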