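import Mathlib
import Groth.Prelude.Def_PolLaw2
import Groth.Agent.Lib.FreeFact_helper1
import Groth.Agent.Lib.PolLawSurj_helper1

/-!
# The Cayley–Hamilton ideal of a multiplicative law (helper1)
-/

set_option autoImplicit false
universe u
open scoped TensorProduct
open Module Polynomial

namespace Groth.Agent.Lib.CHIdealH1

open Groth.Agent.Lib.GammaSpanH1 Groth.Agent.Lib.FreeCoefH1 Groth.Agent.Lib.FreeFactH1
  Groth.Agent.Lib.PolLawKerH1 Groth.Agent.Lib.PolLawSurjH1 Groth.Agent.Lib.PolLawLimH1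

variable {A : Type u} [CommRing A]

section mulHom

variable {Q Q' D D' : Type u} [CommRing Q] [Algebra A Q] [CommRing Q'] [Algebra A Q']
  [CommRing D] [Algebra A D] [CommRing D'] [Algebra A D']

/-- `q ⊗ x ↦ q * h x` -/
noncomputable def mulHom (h : D →ₐ[A] Q) : Q ⊗[A] D →ₐ[A] Q :=
  Algebra.TensorProduct.lift (AlgHom.id A Q) h (fun _ _ => Commute.all _ _)

@[simp]
theorem mulHom_tmul (h : D →ₐ[A] Q) (q : Q) (x : D) : mulHom h (q ⊗ₜ[A] x) = q * h x := by
  simp [mulHom]

theorem mulHom_nat (a : Q →ₐ[A] Q') (b : D →ₐ[A] D') (h : D →ₐ[A] Q) (h' : D' →ₐ[A] Q')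
    (hab : ∀ x, a (h x) = h' (b x)) (z : Q ⊗[A] D) :
    a (mulHom h z) = mulHom h' (Algebra.TensorProduct.map a b z) := by
  induction z using TensorProduct.induction_on with
  | zero => simp
  | tmul q x => simp [hab]
  | add z z' hz hz' => simp only [map_add, hz, hz']

theorem mulHom_map_id (b : D →ₐ[A] D') (h' : D' →ₐ[A] Q) (z : Q ⊗[A] D) :
    mulHom h' (Algebra.TensorProduct.map (AlgHom.id Q Q) b z) = mulHom (h'.comp b) z := by
  induction z using TensorProduct.induction_on with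
  | zero => simp
  | tmul q x => simp
  | add z z' hz hz' => simp only [map_add, hz, hz']

end mulHom

section free

variable {d : ℕ} {P : Type u} [CommRing P] [Algebra A P] (S : Type u) [CommRing S] [Algebra A S]
  (f : WW A P d →ₐ[A] A)

/-- `s ⊗ w ↦ s * f w` -/
noncomputable def psi : S ⊗[A] (WW A P d) →ₐ[A] S := mulHom ((Algebra.ofId A S).comp f)

theorem psi_tmul (s : S) (w : WW A P d) : psi S f (s ⊗ₜ[A] w) = s * algebraMap A S (f w) := by
  rw [psi, mulHom_tmul]
  rfl

variable (A P d) in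
/-- the inclusion `S ⊗ W → S ⊗ T` -/
noncomputable def jj : S ⊗[A] (WW A P d) →ₐ[A] S ⊗[A] (⨂[A] _ : Fin d, P) :=
  Algebra.TensorProduct.map (AlgHom.id A S) (WW A P d).val

theorem lT_val_eq (z : S ⊗[A] (WW A P d)) :
    (WW A P d).val.toLinearMap.lTensor S z = jj A d P S z := by
  induction z using TensorProduct.induction_on with
  | zero => simp
  | tmul a b => rfl
  | add a b ha hb => simp only [map_add, ha, hb]

theorem jj_injective [Module.Flat A S] :
    Function.Injective (jj A d P S) := by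
  have h := Module.Flat.lTensor_preserves_injective_linearMap (M := S)
    (WW A P d).val.toLinearMap Subtype.val_injective
  intro x y hxy
  apply h
  rw [lT_val_eq, lT_val_eq, hxy]

variable (A P d) in
/-- the `k`-th evaluation `(S ⊗ T) ⊗ P → S ⊗ T` -/
noncomputable def EE (k : Fin d) :
    (S ⊗[A] (⨂[A] _ : Fin d, P)) ⊗[A] P →ₐ[A] S ⊗[A] (⨂[A] _ : Fin d, P) :=
  mulHom ((Algebra.TensorProduct.includeRight :
    (⨂[A] _ : Fin d, P) →ₐ[A] S ⊗[A] (⨂[A] _ : Fin d, P)).comp
      (PiTensorProduct.singleAlgHom (R := A) (A := fun _ : Fin d => P) k))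

theorem jj_mul_tauW (Y : (S ⊗[A] (WW A P d)) ⊗[A] P) :
    jj A d P S (mulHom (Algebra.TensorProduct.includeRight : WW A P d →ₐ[A] S ⊗[A] (WW A P d))
      ((tauW A P d).law.toFun' (S ⊗[A] (WW A P d)) Y)) =
    ∏ k, EE A d P S k (Algebra.TensorProduct.map (jj A d P S) (AlgHom.id A P) Y) := by
  rw [mulHom_nat (jj A d P S) (WW A P d).val _ (Algebra.TensorProduct.includeRight :
    (⨂[A] _ : Fin d, P) →ₐ[A] S ⊗[A] (⨂[A] _ : Fin d, P)) (fun x => rfl)]
  have h3 : ∀ Z : (S ⊗[A] (WW A P d)) ⊗[A] (WW A P d),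
      Algebra.TensorProduct.map (jj A d P S) (WW A P d).val Z =
        Algebra.TensorProduct.map (jj A d P S) (AlgHom.id A (⨂[A] _ : Fin d, P))
          ((WW A P d).val.toLinearMap.lTensor (S ⊗[A] (WW A P d)) Z) := by
    intro Z
    induction Z using TensorProduct.induction_on with
    | zero => simp
    | tmul a b => rfl
    | add a b ha hb => simp only [map_add, ha, hb]
  rw [h3, val_tauW, compat_map]
  show mulHom _ (∏ k, Algebra.TensorProduct.map (AlgHom.id _ _)
    (PiTensorProduct.singleAlgHom (R := A) (A := fun _ : Fin d => P) k) _) = _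
  rw [map_prod]
  refine Finset.prod_congr rfl fun k _ => ?_
  rw [mulHom_map_id]
  rfl

variable (G : PolLaw.MulLaw A P A d)
  (hf : PolLaw.postcomp f.toLinearMap (tauW A P d).law = G.law)

include hf

theorem G_map_psi (Y : (S ⊗[A] (WW A P d)) ⊗[A] P) :
    G.law.toFun' S (Algebra.TensorProduct.map (psi S f) (AlgHom.id A P) Y) =
      psi S f (mulHom (Algebra.TensorProduct.includeRight : WW A P d →ₐ[A] S ⊗[A] (WW A P d))
        ((tauW A P d).law.toFun' (S ⊗[A] (WW A P d)) Y)) ⊗ₜ[A] (1 : A) := by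
  have h1 : ∀ y : S ⊗[A] P, G.law.toFun' S y =
      f.toLinearMap.lTensor S ((tauW A P d).law.toFun' S y) := by
    intro y
    rw [← hf]
    rfl
  rw [h1, ← compat_map]
  generalize (tauW A P d).law.toFun' (S ⊗[A] (WW A P d)) Y = Z
  induction Z using TensorProduct.induction_on with
  | zero => simp
  | tmul r w =>
    rw [Algebra.TensorProduct.map_tmul, LinearMap.lTensor_tmul, mulHom_tmul, map_mul,
      Algebra.TensorProduct.includeRight_apply, psi_tmul, one_mul, AlgHom.id_apply,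
      AlgHom.toLinearMap_apply, Algebra.algebraMap_eq_smul_one, mul_smul_comm, mul_one,
      TensorProduct.smul_tmul, smul_eq_mul, mul_one]
  | add a b ha hb => simp only [map_add, TensorProduct.add_tmul, ha, hb]

theorem G_eq_of_EE_eq [Module.Flat A S] (Y₁ Y₂ : (S ⊗[A] (WW A P d)) ⊗[A] P)
    (h : ∀ k, EE A d P S k (Algebra.TensorProduct.map (jj A d P S) (AlgHom.id A P) Y₁) =
      EE A d P S k (Algebra.TensorProduct.map (jj A d P S) (AlgHom.id A P) Y₂)) :
    G.law.toFun' S (Algebra.TensorProduct.map (psi S f) (AlgHom.id A P) Y₁) =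
      G.law.toFun' S (Algebra.TensorProduct.map (psi S f) (AlgHom.id A P) Y₂) := by
  rw [G_map_psi S f G hf, G_map_psi S f G hf]
  congr 2
  apply jj_injective S
  rw [jj_mul_tauW, jj_mul_tauW]
  exact Finset.prod_congr rfl fun k _ => h k

omit hf

variable (p : P)

variable (A P d) in
/-- `u ⊗ w ↦ (1 ⊗ w) ⊗ u(p)` -/
noncomputable def kap : A[X] ⊗[A] (WW A P d) →ₐ[A] (S ⊗[A] (WW A P d)) ⊗[A] P :=
  (Algebra.TensorProduct.map
    (Algebra.TensorProduct.includeRight : WW A P d →ₐ[A] S ⊗[A] (WW A P d))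
    (Polynomial.aeval p : A[X] →ₐ[A] P)).comp
    (Algebra.TensorProduct.comm A A[X] (WW A P d)).toAlgHom

theorem kap_tmul (u : A[X]) (w : WW A P d) :
    kap A d P S p (u ⊗ₜ[A] w) = ((1 : S) ⊗ₜ[A] w) ⊗ₜ[A] Polynomial.aeval p u := by
  simp [kap, Algebra.TensorProduct.tmul_mul_tmul]

theorem map_psi_kap (ω : A[X] ⊗[A] (WW A P d)) :
    Algebra.TensorProduct.map (psi S f) (AlgHom.id A P) (kap A d P S p ω) =
      (1 : S) ⊗ₜ[A] Polynomial.aeval p
        (TensorProduct.rid A A[X] (f.toLinearMap.lTensor A[X] ω)) := by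
  induction ω using TensorProduct.induction_on with
  | zero => simp
  | tmul u w =>
    rw [kap_tmul, Algebra.TensorProduct.map_tmul, psi_tmul, one_mul, LinearMap.lTensor_tmul,
      TensorProduct.rid_tmul, map_smul, TensorProduct.tmul_smul, Algebra.algebraMap_eq_smul_one,
      TensorProduct.smul_tmul']
    rfl
  | add a b ha hb => simp only [map_add, TensorProduct.tmul_add, ha, hb]

variable (A P d) in
/-- evaluation at the `k`-th copy of `p` -/
noncomputable def theta (k : Fin d) :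
    A[X] ⊗[A] (⨂[A] _ : Fin d, P) →ₐ[A] (⨂[A] _ : Fin d, P) :=
  Algebra.TensorProduct.lift
    (Polynomial.aeval (PiTensorProduct.singleAlgHom (R := A) (A := fun _ : Fin d => P) k p))
    (AlgHom.id A _) (fun _ _ => Commute.all _ _)

theorem theta_tmul (k : Fin d) (u : A[X]) (x : ⨂[A] _ : Fin d, P) :
    theta A d P p k (u ⊗ₜ[A] x) =
      Polynomial.aeval (PiTensorProduct.singleAlgHom (R := A) (A := fun _ : Fin d => P) k p) u *
        x := by
  simp [theta]

theorem EE_kap (k : Fin d) (ω : A[X] ⊗[A] (WW A P d)) :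
    EE A d P S k (Algebra.TensorProduct.map (jj A d P S) (AlgHom.id A P) (kap A d P S p ω)) =
      (1 : S) ⊗ₜ[A] theta A d P p k ((WW A P d).val.toLinearMap.lTensor A[X] ω) := by
  induction ω using TensorProduct.induction_on with
  | zero => simp
  | tmul u w =>
    rw [kap_tmul, Algebra.TensorProduct.map_tmul, LinearMap.lTensor_tmul, theta_tmul, EE,
      mulHom_tmul, AlgHom.comp_apply, Algebra.TensorProduct.includeRight_apply,
      AlgHom.id_apply, ← Polynomial.aeval_algHom_apply]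
    show ((1 : S) ⊗ₜ[A] (w : ⨂[A] _ : Fin d, P)) * _ = _
    rw [Algebra.TensorProduct.tmul_mul_tmul, one_mul, mul_comm]
    rfl
  | add a b ha hb => simp only [map_add, TensorProduct.tmul_add, ha, hb]

theorem theta_tpow (k : Fin d) :
    theta A d P p k ((SymTen.tpowLaw A P d).law.toFun' A[X]
      ((1 : A[X]) ⊗ₜ[A] p - X ⊗ₜ[A] (1 : P))) = 0 := by
  show theta A d P p k (∏ j, Algebra.TensorProduct.map (AlgHom.id A[X] A[X])
    (PiTensorProduct.singleAlgHom (R := A) (A := fun _ : Fin d => P) j)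
      ((1 : A[X]) ⊗ₜ[A] p - X ⊗ₜ[A] (1 : P))) = 0
  rw [map_prod]
  apply Finset.prod_eq_zero (Finset.mem_univ k)
  rw [map_sub, Algebra.TensorProduct.map_tmul, Algebra.TensorProduct.map_tmul, map_sub,
    theta_tmul, theta_tmul]
  simp

include hf

theorem ch_free_aux [Module.Flat A S] (x w : S ⊗[A] P) :
    G.law.toFun' S (x + w * ((1 : S) ⊗ₜ[A] Polynomial.aeval p (TensorProduct.rid A A[X]
      (G.law.toFun' A[X] ((1 : A[X]) ⊗ₜ[A] p - X ⊗ₜ[A] (1 : P)))))) = G.law.toFun' S x := by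
  obtain ⟨ω, hω⟩ : ∃ ω, ω = (tauW A P d).law.toFun' A[X]
    ((1 : A[X]) ⊗ₜ[A] p - X ⊗ₜ[A] (1 : P)) := ⟨_, rfl⟩
  have hχ : G.law.toFun' A[X] ((1 : A[X]) ⊗ₜ[A] p - X ⊗ₜ[A] (1 : P)) =
      f.toLinearMap.lTensor A[X] ω := by
    rw [hω, ← hf]
    rfl
  rw [hχ, ← map_psi_kap S f p ω]
  obtain ⟨ιL, hιL⟩ : ∃ ιL : S →ₐ[A] S ⊗[A] (WW A P d),
    ιL = Algebra.TensorProduct.includeLeft := ⟨_, rfl⟩
  have hψι : (psi S f).comp ιL = AlgHom.id A S := by
    ext s
    rw [AlgHom.comp_apply, hιL, Algebra.TensorProduct.includeLeft_apply, psi_tmul, map_one,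
      map_one, mul_one]
    rfl
  have hx : ∀ y : S ⊗[A] P, Algebra.TensorProduct.map (psi S f) (AlgHom.id A P)
      (Algebra.TensorProduct.map ιL (AlgHom.id A P) y) = y := by
    intro y
    rw [map_map_left, hψι, Algebra.TensorProduct.map_id]
    rfl
  have h1 : x + w * Algebra.TensorProduct.map (psi S f) (AlgHom.id A P) (kap A d P S p ω) =
      Algebra.TensorProduct.map (psi S f) (AlgHom.id A P)
        (Algebra.TensorProduct.map ιL (AlgHom.id A P) x +
          Algebra.TensorProduct.map ιL (AlgHom.id A P) w * kap A d P S p ω) := by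
    rw [map_add, map_mul, hx, hx]
  rw [h1]
  conv_rhs => rw [← hx x]
  apply G_eq_of_EE_eq S f G hf
  intro k
  rw [map_add, map_mul, map_add, map_mul, EE_kap, hω, val_tauW, theta_tpow,
    TensorProduct.tmul_zero, mul_zero, add_zero]

omit hf

end free

section general

variable {d : ℕ}

theorem ch_free {I : Type u} {P : Type u} [CommRing P] [Algebra A P] (e : Basis I A P)
    (G : PolLaw.MulLaw A P A d) (p : P) :
    Polynomial.aeval p (TensorProduct.rid A A[X]
      (G.law.toFun' A[X] ((1 : A[X]) ⊗ₜ[A] p - X ⊗ₜ[A] (1 : P)))) ∈ PolLaw.ker G.law := by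
  obtain ⟨f, hf⟩ := exists_factor e G
  apply mem_ker_of_mvPolynomial
  intro n x w
  exact ch_free_aux (MvPolynomial (Fin n) A) f G hf p x w

variable {B : Type u} [CommRing B] [Algebra A B]

theorem ch_mem_ker (F : PolLaw.MulLaw A B A d) (b : B) :
    Polynomial.aeval b (TensorProduct.rid A A[X]
      (F.law.toFun' A[X] ((1 : A[X]) ⊗ₜ[A] b - X ⊗ₜ[A] (1 : B)))) ∈ PolLaw.ker F.law := by
  obtain ⟨π, hπ⟩ : ∃ π : MvPolynomial B A →ₐ[A] B, π = MvPolynomial.aeval id := ⟨_, rfl⟩
  have hπX : ∀ b : B, π (MvPolynomial.X b) = b := by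
    intro b
    rw [hπ, MvPolynomial.aeval_X]
    rfl
  have hsurj : Function.Surjective π := fun b => ⟨MvPolynomial.X b, hπX b⟩
  obtain ⟨G, hG⟩ : ∃ G : PolLaw.MulLaw A (MvPolynomial B A) A d, G = F.precomp π := ⟨_, rfl⟩
  have hch := ch_free (MvPolynomial.basisMonomials B A) G (MvPolynomial.X b)
  have hχ : G.law.toFun' A[X] ((1 : A[X]) ⊗ₜ[A] (MvPolynomial.X b : MvPolynomial B A) -
      X ⊗ₜ[A] (1 : MvPolynomial B A)) =
      F.law.toFun' A[X] ((1 : A[X]) ⊗ₜ[A] b - X ⊗ₜ[A] (1 : B)) := by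
    rw [hG, precomp_toFun', map_sub, Algebra.TensorProduct.map_tmul,
      Algebra.TensorProduct.map_tmul, hπX]
    simp only [map_one, AlgHom.coe_id, id_eq]
  rw [hχ] at hch
  obtain ⟨χ, hχ'⟩ : ∃ χ : A[X], χ = TensorProduct.rid A A[X]
    (F.law.toFun' A[X] ((1 : A[X]) ⊗ₜ[A] b - X ⊗ₜ[A] (1 : B))) := ⟨_, rfl⟩
  rw [← hχ'] at hch ⊢
  apply mem_ker_of_mvPolynomial
  intro n x w
  have hs : Function.Surjective (π.toLinearMap.lTensor (MvPolynomial (Fin n) A)) :=
    LinearMap.lTensor_surjective _ hsurj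
  obtain ⟨x', rfl⟩ := hs x
  obtain ⟨w', rfl⟩ := hs w
  have key := (mem_ker_iff G.law _).1 hch (MvPolynomial (Fin n) A) x' w'
  rw [hG, precomp_toFun', precomp_toFun', map_add, map_mul, Algebra.TensorProduct.map_tmul,
    map_one, ← Polynomial.aeval_algHom_apply, hπX] at key
  rw [PolLaw.lTensor_algHom_apply, PolLaw.lTensor_algHom_apply]
  exact key

theorem ker_le_radical (F : PolLaw.MulLaw A B A d) (χ : B → Polynomial A)
    (hχ : ∀ b : B, χ b = TensorProduct.rid A (Polynomial A)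
      (F.law.toFun' (Polynomial A) ((1 : Polynomial A) ⊗ₜ[A] b - Polynomial.X ⊗ₜ[A] (1 : B))))
    (c : B) (hc : c ∈ PolLaw.ker F.law) :
    c ∈ (Ideal.span (Set.range fun b : B => Polynomial.aeval b (χ b))).radical := by
  have h := (mem_ker_iff _ c).1 hc A[X] (-((X : A[X]) ⊗ₜ[A] (1 : B))) 1
  have e1 : -((X : A[X]) ⊗ₜ[A] (1 : B)) + 1 * ((1 : A[X]) ⊗ₜ[A] c) =
      (1 : A[X]) ⊗ₜ[A] c - X ⊗ₜ[A] (1 : B) := by
    rw [one_mul]
    abel
  have e2 : -((X : A[X]) ⊗ₜ[A] (1 : B)) = (-X : A[X]) • (1 : A[X] ⊗[A] B) := by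
    rw [Algebra.TensorProduct.one_def, TensorProduct.smul_tmul', smul_eq_mul, mul_one,
      TensorProduct.neg_tmul]
  rw [e1, e2, F.homog, (F.mult _).1] at h
  have h3 : χ c = (-X) ^ d := by
    rw [hχ, h, Algebra.TensorProduct.one_def, TensorProduct.smul_tmul', smul_eq_mul, mul_one,
      TensorProduct.rid_tmul, one_smul]
  have h4 : (-c) ^ d ∈ Ideal.span (Set.range fun b : B => Polynomial.aeval b (χ b)) := by
    have : Polynomial.aeval c (χ c) = (-c) ^ d := by
      rw [h3, map_pow, map_neg, Polynomial.aeval_X]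
    rw [← this]
    exact Ideal.subset_span ⟨c, rfl⟩
  have h5 : -c ∈ (Ideal.span (Set.range fun b : B => Polynomial.aeval b (χ b))).radical :=
    ⟨d, h4⟩
  simpa using neg_mem h5

theorem main13696 (F : PolLaw.MulLaw A B A d) (χ : B → Polynomial A)
    (hχ : ∀ b : B, χ b = TensorProduct.rid A (Polynomial A)
      (F.law.toFun' (Polynomial A) ((1 : Polynomial A) ⊗ₜ[A] b - Polynomial.X ⊗ₜ[A] (1 : B)))) :
    Ideal.span (Set.range fun b : B => Polynomial.aeval b (χ b)) ≤ PolLaw.ker F.law ∧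
      PolLaw.ker F.law ≤ (Ideal.span (Set.range fun b : B => Polynomial.aeval b (χ b))).radical := by
  constructor
  · rw [Ideal.span_le]
    rintro _ ⟨b, rfl⟩
    show Polynomial.aeval b (χ b) ∈ PolLaw.ker F.law
    rw [hχ]
    exact ch_mem_ker F b
  · intro c hc
    exact ker_le_radical F χ hχ c hc

end general

end Groth.Agent.Lib.CHIdealH1
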