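import Mathlib
import Groth.Prelude.Def_PolLaw2
import Groth.Agent.Lib.CHIdeal_helper1

/-!
# Binary expansion of a homogeneous law and integrality of the image of a multiplicative law
(helper1)
-/

set_option autoImplicit false
universe u
open scoped TensorProduct
open Module Polynomial

namespace Groth.Agent.Lib.CHIntegralH1

open Groth.Agent.Lib.GammaSpanH1 Groth.Agent.Lib.FreeCoefH1 Groth.Agent.Lib.FreeFactH1
  Groth.Agent.Lib.PolLawKerH1 Groth.Agent.Lib.CHIdealH1
open Classical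

variable {A : Type u} [CommRing A]

section binexp

variable {M N : Type u} [AddCommGroup M] [Module A M] [AddCommGroup N] [Module A N]

/-- the exponent `(k, d - k)` on the two element index type -/
noncomputable def mk2 (d k : ℕ) : ULift.{u} Bool →₀ ℕ :=
  Finsupp.single ⟨true⟩ k + Finsupp.single ⟨false⟩ (d - k)

theorem mk2_true (d k : ℕ) : mk2.{u} d k ⟨true⟩ = k := by
  simp [mk2]

theorem mk2_false (d k : ℕ) : mk2.{u} d k ⟨false⟩ = d - k := by
  simp [mk2]

theorem sum_ulift_bool {α : Type*} [AddCommMonoid α] (g : ULift.{u} Bool → α) :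
    ∑ i, g i = g ⟨true⟩ + g ⟨false⟩ := by
  rw [← Fintype.sum_equiv Equiv.ulift.symm (fun b : Bool => g ⟨b⟩) g (fun b => rfl),
    Fintype.sum_bool]

/-- the binary expansion of a homogeneous law -/
theorem binexp (G : M →ₚₗ[A] N) {d : ℕ} (hG : PolLaw.IsHomog G d) (x y : M) :
    ∃ c : ℕ → N, ∀ (S : Type u) [CommRing S] [Algebra A S] (s₀ s₁ : S),
      G.toFun' S (s₀ ⊗ₜ[A] x + s₁ ⊗ₜ[A] y) =
        ∑ k ∈ Finset.range (d + 1), (s₀ ^ k * s₁ ^ (d - k)) ⊗ₜ[A] c k := by
  obtain ⟨e, he⟩ : ∃ e : ULift.{u} Bool → M, e = fun i => if i.down then x else y := ⟨_, rfl⟩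
  refine ⟨fun k => coefG e G (mk2 d k), ?_⟩
  intro S _ _ s₀ s₁
  obtain ⟨s, hs⟩ : ∃ s : ULift.{u} Bool → S, s = fun i => if i.down then s₀ else s₁ := ⟨_, rfl⟩
  have h1 : s₀ ⊗ₜ[A] x + s₁ ⊗ₜ[A] y = ∑ i ∈ Finset.univ, s i ⊗ₜ[A] e i := by
    rw [sum_ulift_bool, hs, he]
    simp
  rw [h1, toFun_sum e G hG]
  symm
  refine Finset.sum_bij (fun k _ => mk2 d k) ?_ ?_ ?_ ?_
  · intro k hk
    rw [Finset.mem_range] at hk
    rw [mem_antidiag_iff]
    refine ⟨?_, Finset.subset_univ _⟩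
    rw [mk2, map_add, Finsupp.degree_single, Finsupp.degree_single]
    omega
  · intro k _ k' _ h
    have := congrArg (fun m : ULift.{u} Bool →₀ ℕ => m ⟨true⟩) h
    simpa [mk2_true] using this
  · intro m hm
    rw [mem_antidiag_iff] at hm
    have hsum : m ⟨true⟩ + m ⟨false⟩ = d := by
      rw [← hm.1, Finsupp.degree_eq_sum, sum_ulift_bool]
    refine ⟨m ⟨true⟩, Finset.mem_range.2 (by omega), ?_⟩
    ext ⟨b⟩
    cases b
    · rw [mk2_false]
      omega
    · rw [mk2_true]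
  · intro k _
    congr 1
    rw [mk2, Finsupp.prod_add_index' (fun i => pow_zero _) (fun i a b => pow_add _ _ _)]
    have e1 : ((Finsupp.single (⟨true⟩ : ULift.{u} Bool) k).prod fun i k => s i ^ k) = s₀ ^ k :=
      (Finsupp.prod_single_index (h := fun i k => s i ^ k) (pow_zero _)).trans (by rw [hs]; simp)
    have e2 : ((Finsupp.single (⟨false⟩ : ULift.{u} Bool) (d - k)).prod fun i k => s i ^ k) =
        s₁ ^ (d - k) :=
      (Finsupp.prod_single_index (h := fun i k => s i ^ k) (pow_zero _)).trans (by rw [hs]; simp)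
    rw [e1, e2]

end binexp

section integral

variable {B : Type u} [CommRing B] [Algebra A B] {d : ℕ}

theorem chi_eq_sum (F : PolLaw.MulLaw A B A d) (b : B) :
    ∃ c : ℕ → A, c 0 = 1 ∧ TensorProduct.rid A A[X]
      (F.law.toFun' A[X] ((1 : A[X]) ⊗ₜ[A] b - X ⊗ₜ[A] (1 : B))) =
        ∑ k ∈ Finset.range (d + 1), Polynomial.monomial (d - k) (c k * (-1) ^ (d - k)) := by
  obtain ⟨c, hc⟩ := binexp F.law F.homog b 1
  refine ⟨c, ?_, ?_⟩
  · have h := hc A 0 1
    rw [TensorProduct.zero_tmul, zero_add, ← Algebra.TensorProduct.one_def, (F.mult A).1,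
      Finset.sum_range_succ'] at h
    have h0 : ∀ k ∈ Finset.range d, ((0 : A) ^ (k + 1) * 1 ^ (d - (k + 1))) ⊗ₜ[A] c (k + 1) = 0 := by
      intro k _
      rw [pow_succ, mul_zero, zero_mul, TensorProduct.zero_tmul]
    rw [Finset.sum_eq_zero h0, zero_add, pow_zero, one_pow, one_mul,
      Algebra.TensorProduct.one_def] at h
    have h2 := congrArg (TensorProduct.lid A A) h
    rw [TensorProduct.lid_tmul, TensorProduct.lid_tmul, one_smul, one_smul] at h2
    exact h2.symm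
  · have h := hc A[X] 1 (-X)
    have e1 : (1 : A[X]) ⊗ₜ[A] b - X ⊗ₜ[A] (1 : B) = (1 : A[X]) ⊗ₜ[A] b + (-X) ⊗ₜ[A] (1 : B) := by
      rw [TensorProduct.neg_tmul, sub_eq_add_neg]
    rw [e1, h, map_sum]
    refine Finset.sum_congr rfl fun k _ => ?_
    rw [TensorProduct.rid_tmul, one_pow, one_mul, neg_pow, ← Polynomial.C_mul_X_pow_eq_monomial,
      Polynomial.smul_eq_C_mul, ← mul_assoc, map_mul, map_pow, map_neg, map_one]

theorem isIntegral_mk (F : PolLaw.MulLaw A B A d) (b : B) :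
    IsIntegral A (Ideal.Quotient.mk (PolLaw.ker F.law) b) := by
  obtain ⟨c, hc0, hχ⟩ := chi_eq_sum F b
  obtain ⟨χ, hχ'⟩ : ∃ χ : A[X], χ = TensorProduct.rid A A[X]
    (F.law.toFun' A[X] ((1 : A[X]) ⊗ₜ[A] b - X ⊗ₜ[A] (1 : B))) := ⟨_, rfl⟩
  have hmem : Polynomial.aeval b χ ∈ PolLaw.ker F.law := by
    rw [hχ']
    exact ch_mem_ker F b
  rw [← hχ'] at hχ
  have hdeg : χ.natDegree ≤ d := by
    rw [hχ]
    apply Polynomial.natDegree_sum_le_of_forall_le
    intro k _
    exact (Polynomial.natDegree_monomial_le _).trans (Nat.sub_le d k)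
  have hcoeff : χ.coeff d = (-1) ^ d := by
    rw [hχ, Polynomial.finsetSum_coeff, Finset.sum_eq_single 0]
    · rw [Polynomial.coeff_monomial, if_pos (Nat.sub_zero d), hc0, one_mul, Nat.sub_zero]
    · intro k hk hk0
      rw [Finset.mem_range] at hk
      rw [Polynomial.coeff_monomial, if_neg (by omega)]
    · intro h
      exact absurd (Finset.mem_range.2 (Nat.succ_pos d)) h
  refine ⟨Polynomial.C ((-1) ^ d) * χ, ?_, ?_⟩
  · apply Polynomial.monic_of_natDegree_le_of_coeff_eq_one d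
    · exact (Polynomial.natDegree_C_mul_le _ _).trans hdeg
    · rw [Polynomial.coeff_C_mul, hcoeff, ← mul_pow, neg_mul_neg, one_mul, one_pow]
  · rw [← Polynomial.aeval_def, map_mul]
    have h1 : Polynomial.aeval (Ideal.Quotient.mk (PolLaw.ker F.law) b) χ = 0 := by
      have h2 := Polynomial.aeval_algHom_apply (Ideal.Quotient.mkₐ A (PolLaw.ker F.law)) b χ
      rw [Ideal.Quotient.mkₐ_eq_mk] at h2
      rw [h2, Ideal.Quotient.eq_zero_iff_mem]
      exact hmem
    rw [h1, mul_zero]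

theorem main13695 (F : PolLaw.MulLaw A B A d) :
    Algebra.IsIntegral A (PolLaw.image F.law) := by
  constructor
  intro x
  obtain ⟨b, rfl⟩ := Ideal.Quotient.mk_surjective x
  exact isIntegral_mk F b

end integral

end Groth.Agent.Lib.CHIntegralH1
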