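import Mathlib
import Groth.Prelude.Def_PolLaw2
import Groth.Agent.Lib.CHIntegral_helper1

/-!
# Consequences of the Cayley–Hamilton ideal (helper1): push-forward of supports, components of the
support dominate the base.
-/

set_option autoImplicit false
universe u
open scoped TensorProduct
open Module Polynomial

namespace Groth.Agent.Lib.CHMoreH1

open Groth.Agent.Lib.GammaSpanH1 Groth.Agent.Lib.PolLawKerH1 Groth.Agent.Lib.PolLawSurjH1
  Groth.Agent.Lib.PolLawLimH1 Groth.Agent.Lib.CHIdealH1 Groth.Agent.Lib.CHIntegralH1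

variable {A : Type u} [CommRing A] {B : Type u} [CommRing B] [Algebra A B] {d : ℕ}

/-- the characteristic polynomial of an element of the kernel is `(-X)^d` -/
theorem chi_of_mem_ker (F : PolLaw.MulLaw A B A d) {c : B} (hc : c ∈ PolLaw.ker F.law) :
    TensorProduct.rid A A[X] (F.law.toFun' A[X] ((1 : A[X]) ⊗ₜ[A] c - X ⊗ₜ[A] (1 : B))) =
      (-X) ^ d := by
  have h := (mem_ker_iff _ c).1 hc A[X] (-((X : A[X]) ⊗ₜ[A] (1 : B))) 1
  have e1 : -((X : A[X]) ⊗ₜ[A] (1 : B)) + 1 * ((1 : A[X]) ⊗ₜ[A] c) =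
      (1 : A[X]) ⊗ₜ[A] c - X ⊗ₜ[A] (1 : B) := by
    rw [one_mul]
    abel
  have e2 : -((X : A[X]) ⊗ₜ[A] (1 : B)) = (-X : A[X]) • (1 : A[X] ⊗[A] B) := by
    rw [Algebra.TensorProduct.one_def, TensorProduct.smul_tmul', smul_eq_mul, mul_one,
      TensorProduct.neg_tmul]
  rw [e1, e2, F.homog, (F.mult _).1] at h
  rw [h, Algebra.TensorProduct.one_def, TensorProduct.smul_tmul', smul_eq_mul, mul_one,
    TensorProduct.rid_tmul, one_smul]

section pushforward

variable {B' : Type u} [CommRing B'] [Algebra A B']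

theorem main13718 (F : PolLaw.MulLaw A B A d) (φ : B' →ₐ[A] B) :
    (PolLaw.ker (F.precomp φ).law).radical = ((PolLaw.ker F.law).comap φ).radical := by
  apply le_antisymm
  · rw [Ideal.radical_le_radical_iff]
    intro b' hb'
    have h1 := chi_of_mem_ker (F.precomp φ) hb'
    have h2 : (F.precomp φ).law.toFun' A[X] ((1 : A[X]) ⊗ₜ[A] b' - X ⊗ₜ[A] (1 : B')) =
        F.law.toFun' A[X] ((1 : A[X]) ⊗ₜ[A] φ b' - X ⊗ₜ[A] (1 : B)) := by
      rw [precomp_toFun', map_sub, Algebra.TensorProduct.map_tmul,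
        Algebra.TensorProduct.map_tmul]
      simp only [map_one, AlgHom.coe_id, id_eq]
    rw [h2] at h1
    have h3 := ch_mem_ker F (φ b')
    rw [h1, map_pow, map_neg, Polynomial.aeval_X] at h3
    have h4 : (-b') ^ d ∈ (PolLaw.ker F.law).comap φ := by
      rw [Ideal.mem_comap, map_pow, map_neg]
      exact h3
    have h5 : -b' ∈ ((PolLaw.ker F.law).comap φ).radical := ⟨d, h4⟩
    simpa using neg_mem h5
  · apply Ideal.radical_mono
    intro b' hb'
    rw [Ideal.mem_comap] at hb'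
    rw [mem_ker_iff]
    intro S _ _ x w
    rw [precomp_toFun', precomp_toFun', map_add, map_mul, Algebra.TensorProduct.map_tmul,
      map_one]
    exact (mem_ker_iff _ _).1 hb' S _ _

end pushforward

section domain

variable [IsDomain A]

theorem mem_ker_of_smul_mem (F : PolLaw.MulLaw A B A d) {a : A} (ha : a ≠ 0) {b : B}
    (hab : algebraMap A B a * b ∈ PolLaw.ker F.law) : b ∈ PolLaw.ker F.law := by
  apply mem_ker_of_mvPolynomial
  intro n x w
  obtain ⟨s, hs⟩ : ∃ s : MvPolynomial (Fin n) A, s = algebraMap A (MvPolynomial (Fin n) A) a :=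
    ⟨_, rfl⟩
  have hs0 : s ≠ 0 := by
    rw [hs, MvPolynomial.algebraMap_eq]
    intro h
    exact ha (MvPolynomial.C_eq_zero.1 h)
  have key := (mem_ker_iff F.law _).1 hab (MvPolynomial (Fin n) A) (s • x) w
  have e1 : s • x + w * ((1 : MvPolynomial (Fin n) A) ⊗ₜ[A] (algebraMap A B a * b)) =
      s • (x + w * ((1 : MvPolynomial (Fin n) A) ⊗ₜ[A] b)) := by
    rw [smul_add]
    congr 1
    rw [← Algebra.smul_def, TensorProduct.tmul_smul, mul_smul_comm, hs, algebraMap_smul]
  rw [e1, F.homog, F.homog] at key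
  have h2 := congr_arg (Algebra.TensorProduct.rid A (MvPolynomial (Fin n) A)
    (MvPolynomial (Fin n) A)) key
  rw [map_smul, map_smul, smul_eq_mul, smul_eq_mul] at h2
  exact (Algebra.TensorProduct.rid A (MvPolynomial (Fin n) A)
    (MvPolynomial (Fin n) A)).injective (mul_left_cancel₀ (pow_ne_zero d hs0) h2)

theorem main13703 (F : PolLaw.MulLaw A B A d) {P : Ideal B}
    (hP : P ∈ (PolLaw.ker F.law).minimalPrimes) :
    P.comap (algebraMap A B) = ⊥ ∧
      ∀ q : Ideal A, q.IsPrime →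
        ∃ Q : Ideal B, Q.IsPrime ∧ P ≤ Q ∧ Q.comap (algebraMap A B) = q := by
  haveI hPprime : P.IsPrime := hP.1.1
  have hle : PolLaw.ker F.law ≤ P := hP.1.2
  have h1 : P.comap (algebraMap A B) = ⊥ := by
    rw [eq_bot_iff]
    intro a ha
    rw [Ideal.mem_comap] at ha
    rw [Ideal.mem_bot]
    by_contra ha0
    obtain ⟨y, hy, hay⟩ := Ideal.exists_mul_mem_of_mem_minimalPrimes hP ha
    exact hy (mem_ker_of_smul_mem F ha0 hay)
  refine ⟨h1, fun q hq => ?_⟩
  haveI : Algebra.IsIntegral A (B ⧸ P) := by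
    constructor
    intro x
    obtain ⟨b, rfl⟩ := Ideal.Quotient.mk_surjective x
    exact (isIntegral_mk F b).map (Ideal.Quotient.factorₐ A hle)
  have hker : RingHom.ker (algebraMap A (B ⧸ P)) ≤ q := by
    intro a ha
    rw [RingHom.mem_ker] at ha
    have h2 : algebraMap A B a ∈ P := Ideal.Quotient.eq_zero_iff_mem.1 ha
    have h3 : a ∈ P.comap (algebraMap A B) := h2
    rw [h1, Ideal.mem_bot] at h3
    rw [h3]
    exact q.zero_mem
  obtain ⟨Q', hQ'prime, hQ'⟩ := Ideal.exists_ideal_over_prime_of_isIntegral_of_isDomain q hker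
  refine ⟨Q'.comap (Ideal.Quotient.mk P), Ideal.comap_isPrime _ _, ?_, ?_⟩
  · intro x hx
    rw [Ideal.mem_comap, Ideal.Quotient.eq_zero_iff_mem.2 hx]
    exact Q'.zero_mem
  · rw [Ideal.comap_comap]
    exact hQ'

end domain

end Groth.Agent.Lib.CHMoreH1
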