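import Mathlib
import Groth.Prelude.Def_Pi1
import Groth.Agent.Lib.ComplTensor_helper3
import Groth.Agent.Lib.CompletionRegular_helper5

/-!
# Quotients of regular local rings by regular sequences are complete intersections (helper6)

`exists_completion_quot_equiv`: for a Noetherian local ring `A` and an ideal `I` (with `A/I` local),
the completion of `A/I` is `Â / IÂ`.
`ci_of_isRegular`: `A` regular local, `I` generated by a regular sequence: `A/I` is a complete
intersection in the sense of `Pi1.IsCompleteIntersection`.
-/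

set_option autoImplicit false
universe u
open IsLocalRing TensorProduct

namespace Groth.Agent.Lib.CIQuot_helper6

theorem exists_completion_quot_equiv (A : Type u) [CommRing A] [IsLocalRing A]
    [IsNoetherianRing A] (I : Ideal A) [IsLocalRing (A ⧸ I)] :
    Nonempty (AdicCompletion (maximalIdeal (A ⧸ I)) (A ⧸ I) ≃+*
      AdicCompletion (maximalIdeal A) A ⧸
        I.map (algebraMap A (AdicCompletion (maximalIdeal A) A))) := by
  have hmap : (maximalIdeal A).map (algebraMap A (A ⧸ I)) = maximalIdeal (A ⧸ I) :=
    IsLocalRing.map_maximalIdeal_of_surjective (Ideal.Quotient.mk I) Ideal.Quotient.mk_surjective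
  haveI : Module.Finite A (A ⧸ I) :=
    Module.Finite.of_surjective (Ideal.Quotient.mkₐ A I).toLinearMap
      (Ideal.Quotient.mkₐ_surjective A I)
  obtain ⟨e, -⟩ := Groth.Agent.Lib.ComplTensorH3.exists_ringEquiv A (A ⧸ I)
    (maximalIdeal (A ⧸ I)) 1 hmap.le (by rw [pow_one, hmap])
  exact ⟨e.trans ((Algebra.TensorProduct.comm A (A ⧸ I)
    (AdicCompletion (maximalIdeal A) A)).toRingEquiv.trans
    (Algebra.TensorProduct.quotIdealMapEquivTensorQuot
      (AdicCompletion (maximalIdeal A) A) I).symm.toRingEquiv)⟩

theorem ci_of_isRegular (A : Type u) [CommRing A] [IsRegularLocalRing A] (l : List A)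
    (hl : RingTheory.Sequence.IsRegular A l) (I : Ideal A) (hI : I = Ideal.ofList l)
    [IsLocalRing (A ⧸ I)] : Pi1.IsCompleteIntersection (A ⧸ I) := by
  obtain ⟨hloc, hnoeth, hcompl, hff, hlh, hmax⟩ := Groth.Agent.Lib.AnUnramH3.completion_facts A
  haveI := hloc
  haveI := hnoeth
  haveI := hff
  have hBreg : IsRegularLocalRing (AdicCompletion (maximalIdeal A) A) :=
    (Groth.Agent.RegularLib.isRegularLocalRing_adicCompletion_iff A (maximalIdeal A)
      (IsLocalRing.maximalIdeal.isMaximal A).ne_top).mp inferInstance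
  have hl' : RingTheory.Sequence.IsRegular (AdicCompletion (maximalIdeal A) A)
      (l.map (algebraMap A (AdicCompletion (maximalIdeal A) A))) := hl.of_faithfullyFlat
  have hne : Ideal.ofList (l.map (algebraMap A (AdicCompletion (maximalIdeal A) A))) ≠ ⊤ := by
    intro h
    apply hl'.top_ne_smul
    rw [h, Submodule.top_smul]
  obtain ⟨e⟩ := exists_completion_quot_equiv A I
  refine ⟨AdicCompletion (maximalIdeal A) A, inferInstance, hBreg,
    l.map (algebraMap A (AdicCompletion (maximalIdeal A) A)), ?_, hl',
    ⟨e.trans (Ideal.quotEquivOfEq ?_)⟩⟩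
  · intro r hr
    exact IsLocalRing.le_maximalIdeal hne (Ideal.subset_span hr)
  · rw [hI, Ideal.map_ofList]

end Groth.Agent.Lib.CIQuot_helper6
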