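import Mathlib

/-!
# Elementary first Koszul homology counts (helper8)
APPEND-ONLY once landed.

For a finite family `x : ι → A` we consider the syzygy module `Z x`, the Koszul relations `B x`,
and `Gen x m`: "`Z x / B x` is generated by at most `m` elements".
-/

set_option autoImplicit false
set_option maxHeartbeats 400000
universe u

namespace Groth.Agent.Lib.KosH1H8

open IsLocalRing

section defs
variable {A : Type*} [CommRing A] {ι : Type*} [Fintype ι] [DecidableEq ι]

/-- Syzygies of a finite family. -/
def Z (x : ι → A) : Submodule A (ι → A) := LinearMap.ker (Fintype.linearCombination A x)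

theorem mem_Z {x : ι → A} {a : ι → A} : a ∈ Z x ↔ ∑ i, a i * x i = 0 := by
  simp [Z, Fintype.linearCombination_apply]

/-- Koszul relations. -/
def kos (x : ι → A) (i j : ι) : ι → A := Pi.single i (x j) - Pi.single j (x i)

/-- The submodule of Koszul relations. -/
def B (x : ι → A) : Submodule A (ι → A) :=
  Submodule.span A (Set.range fun p : ι × ι => kos x p.1 p.2)

theorem kos_mem_B (x : ι → A) (i j : ι) : kos x i j ∈ B x :=
  Submodule.subset_span ⟨(i, j), rfl⟩

theorem kos_mem_Z (x : ι → A) (i j : ι) : kos x i j ∈ Z x := by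
  rw [mem_Z]
  simp only [kos, Pi.sub_apply, sub_mul, Finset.sum_sub_distrib, Pi.single_apply, ite_mul,
    zero_mul, Finset.sum_ite_eq', Finset.mem_univ, if_true]
  ring

theorem B_le_Z (x : ι → A) : B x ≤ Z x :=
  Submodule.span_le.2 (by rintro _ ⟨p, rfl⟩; exact kos_mem_Z x p.1 p.2)

/-- `Z x / B x` is generated by at most `m` elements. -/
def Gen (x : ι → A) (m : ℕ) : Prop :=
  ∃ s : Finset (ι → A), s.card ≤ m ∧ (↑s : Set (ι → A)) ⊆ Z x ∧
    Z x ≤ B x ⊔ Submodule.span A (↑s : Set (ι → A))

theorem Gen.mono {x : ι → A} {m m' : ℕ} (h : Gen x m) (hm : m ≤ m') : Gen x m' := by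
  obtain ⟨s, hs, h1, h2⟩ := h
  exact ⟨s, hs.trans hm, h1, h2⟩

end defs

section reindex
variable {A : Type*} [CommRing A] {ι ι' : Type*} [Fintype ι] [DecidableEq ι]
  [Fintype ι'] [DecidableEq ι']

theorem comp_mem_Z (e : ι' ≃ ι) {x : ι → A} {a : ι → A} (ha : a ∈ Z x) : a ∘ e ∈ Z (x ∘ e) := by
  rw [mem_Z] at ha ⊢
  rw [← ha]
  exact Equiv.sum_comp e (fun i => a i * x i)

theorem kos_comp (e : ι' ≃ ι) (x : ι → A) (i j : ι) :
    kos x i j ∘ e = kos (x ∘ e) (e.symm i) (e.symm j) := by
  funext t
  simp only [kos, Function.comp_apply, Pi.sub_apply, Pi.single_apply, Equiv.apply_symm_apply]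
  congr 1
  · by_cases h : e t = i
    · rw [if_pos h, if_pos (by rw [← h, Equiv.symm_apply_apply])]
    · rw [if_neg h, if_neg (fun h' => h (by rw [h', Equiv.apply_symm_apply]))]
  · by_cases h : e t = j
    · rw [if_pos h, if_pos (by rw [← h, Equiv.symm_apply_apply])]
    · rw [if_neg h, if_neg (fun h' => h (by rw [h', Equiv.apply_symm_apply]))]

theorem map_B_le (e : ι' ≃ ι) (x : ι → A) :
    (B x).map (LinearEquiv.funCongrLeft A A e).toLinearMap ≤ B (x ∘ e) := by
  rw [B, Submodule.map_span, Submodule.span_le]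
  rintro _ ⟨_, ⟨p, rfl⟩, rfl⟩
  have : (LinearEquiv.funCongrLeft A A e).toLinearMap (kos x p.1 p.2) = kos x p.1 p.2 ∘ e := rfl
  rw [this, kos_comp]
  exact kos_mem_B _ _ _

theorem Gen.reindex (e : ι' ≃ ι) {x : ι → A} {m : ℕ} (h : Gen x m) : Gen (x ∘ e) m := by
  classical
  obtain ⟨s, hs, h1, h2⟩ := h
  let L := (LinearEquiv.funCongrLeft A A e).toLinearMap
  refine ⟨s.image L, Finset.card_image_le.trans hs, ?_, ?_⟩
  · intro a ha
    rw [Finset.coe_image] at ha
    obtain ⟨b, hb, rfl⟩ := ha
    exact comp_mem_Z e (h1 hb)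
  · intro a' ha'
    have ha : a' ∘ e.symm ∈ Z x := by
      have := comp_mem_Z e.symm ha'
      have hx : (x ∘ e) ∘ e.symm = x := by funext t; simp
      rwa [hx] at this
    have h3 := h2 ha
    have h4 : L (a' ∘ e.symm) ∈ (B x ⊔ Submodule.span A (↑s : Set (ι → A))).map L :=
      Submodule.mem_map_of_mem h3
    have h5 : L (a' ∘ e.symm) = a' := by
      funext t
      show (a' ∘ e.symm) (e t) = a' t
      simp
    rw [h5, Submodule.map_sup, Submodule.map_span] at h4
    rw [Finset.coe_image]
    exact (sup_le_sup_right (map_B_le e x) _) h4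

end reindex

section option
variable {A : Type*} [CommRing A] {ι : Type*} [Fintype ι] [DecidableEq ι]

/-- Add the element `z = ∑ c i * x i` to the family. -/
def xo (x c : ι → A) : Option ι → A := fun o => Option.elim o (∑ i, c i * x i) x

/-- `θ a = a ∘ some + a none • c`. -/
def theta (c : ι → A) : (Option ι → A) →ₗ[A] (ι → A) where
  toFun a := fun i => a (some i) + a none * c i
  map_add' a b := by funext i; simp only [Pi.add_apply]; ring
  map_smul' r a := by funext i; simp only [Pi.smul_apply, smul_eq_mul, RingHom.id_apply]; ring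

/-- Extension by zero. -/
def ext0 : (ι → A) →ₗ[A] (Option ι → A) where
  toFun a := fun o => Option.elim o 0 a
  map_add' a b := by funext o; cases o <;> simp
  map_smul' r a := by funext o; cases o <;> simp

/-- The distinguished syzygy `(-1, c)`. -/
def zeta (c : ι → A) : Option ι → A := fun o => Option.elim o (-1) c

theorem theta_ext0 (c : ι → A) (a : ι → A) : theta c (ext0 a) = a := by
  funext i; simp [theta, ext0]

theorem decomp (c : ι → A) (a : Option ι → A) :
    a = ext0 (theta c a) - a none • zeta c := by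
  funext o
  cases o <;> simp [theta, ext0, zeta]

theorem mem_Z_xo {x c : ι → A} {a : Option ι → A} : a ∈ Z (xo x c) ↔ theta c a ∈ Z x := by
  rw [mem_Z, mem_Z, Fintype.sum_option]
  simp only [xo, Option.elim_none, Option.elim_some, theta, LinearMap.coe_mk, AddHom.coe_mk]
  have : ∑ i, (a (some i) + a none * c i) * x i
      = a none * ∑ i, c i * x i + ∑ i, a (some i) * x i := by
    rw [Finset.mul_sum, ← Finset.sum_add_distrib]
    refine Finset.sum_congr rfl fun i _ => ?_
    ring
  rw [this]

theorem zeta_mem_Z (x c : ι → A) : zeta c ∈ Z (xo x c) := by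
  rw [mem_Z_xo, mem_Z]
  simp [theta, zeta]

theorem ext0_mem_Z {x c : ι → A} {a : ι → A} (ha : a ∈ Z x) : ext0 a ∈ Z (xo x c) := by
  rw [mem_Z_xo, theta_ext0]; exact ha

theorem ext0_kos (x c : ι → A) (i j : ι) :
    ext0 (kos x i j) = kos (xo x c) (some i) (some j) := by
  funext o
  cases o with
  | none => simp [ext0, kos]
  | some t => simp [ext0, kos, xo, Pi.single_apply]

theorem ext0_B_le (x c : ι → A) : (B x).map ext0 ≤ B (xo x c) := by
  rw [B, Submodule.map_span, Submodule.span_le]
  rintro _ ⟨_, ⟨p, rfl⟩, rfl⟩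
  rw [ext0_kos x c]
  exact kos_mem_B _ _ _

theorem kos_swap (x : ι → A) (i j : ι) : kos x i j = - kos x j i := by
  simp [kos]

theorem theta_kos_none_some (x c : ι → A) (j : ι) :
    theta c (kos (xo x c) none (some j)) = ∑ i, c i • kos x i j := by
  funext t
  have hL : theta c (kos (xo x c) none (some j)) t
      = x j * c t - (if t = j then ∑ i, c i * x i else 0) := by
    simp only [theta, kos, xo, LinearMap.coe_mk, AddHom.coe_mk, Pi.sub_apply, Pi.single_apply,
      Option.elim_none, Option.elim_some, Option.some.injEq, reduceCtorEq, if_false, if_true]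
    ring
  have hR : (∑ i, c i • kos x i j) t
      = x j * c t - (if t = j then ∑ i, c i * x i else 0) := by
    simp only [Finset.sum_apply, Pi.smul_apply, smul_eq_mul, kos, Pi.sub_apply, Pi.single_apply,
      mul_sub, Finset.sum_sub_distrib]
    congr 1
    · rw [Finset.sum_eq_single t]
      · simp [mul_comm]
      · intro b _ hb
        simp [Ne.symm hb]
      · intro h; exact absurd (Finset.mem_univ t) h
    · by_cases h : t = j
      · simp [h]
      · simp [h]
  rw [hL, hR]

theorem theta_B_le (x c : ι → A) : (B (xo x c)).map (theta c) ≤ B x := by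
  rw [B, Submodule.map_span, Submodule.span_le]
  rintro _ ⟨_, ⟨⟨o, o'⟩, rfl⟩, rfl⟩
  cases o with
  | none =>
    cases o' with
    | none =>
      have : kos (xo x c) none none = 0 := by simp [kos]
      simp only [this, map_zero]
      exact Submodule.zero_mem _
    | some j =>
      show theta c (kos (xo x c) none (some j)) ∈ _
      rw [theta_kos_none_some]
      exact Submodule.sum_mem _ fun i _ => Submodule.smul_mem _ _ (kos_mem_B x i j)
  | some i =>
    cases o' with
    | none =>
      show theta c (kos (xo x c) (some i) none) ∈ _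
      rw [kos_swap, map_neg, theta_kos_none_some]
      exact Submodule.neg_mem _
        (Submodule.sum_mem _ fun t _ => Submodule.smul_mem _ _ (kos_mem_B x t i))
    | some j =>
      show theta c (kos (xo x c) (some i) (some j)) ∈ _
      rw [← ext0_kos x c, theta_ext0]
      exact kos_mem_B x i j

theorem proj_none_B (x c : ι → A) {b : Option ι → A} (hb : b ∈ B (xo x c)) :
    b none ∈ Ideal.span (Set.range x) := by
  induction hb using Submodule.span_induction with
  | mem b h =>
    obtain ⟨⟨o, o'⟩, rfl⟩ := h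
    cases o with
    | none =>
      cases o' with
      | none => simp [kos]
      | some j =>
        simp only [kos, xo, Pi.sub_apply, Pi.single_apply, Option.elim_some, if_true,
          reduceCtorEq, if_false, sub_zero]
        exact Ideal.subset_span ⟨j, rfl⟩
    | some i =>
      cases o' with
      | none =>
        simp only [kos, xo, Pi.sub_apply, Pi.single_apply, Option.elim_some, if_true,
          reduceCtorEq, if_false, zero_sub]
        exact Ideal.neg_mem_iff _ |>.2 (Ideal.subset_span ⟨i, rfl⟩)
      | some j => simp [kos, Pi.single_apply]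
  | zero => simp
  | add a b _ _ ha hb => exact Ideal.add_mem _ ha hb
  | smul r a _ ha => exact Ideal.mul_mem_left _ _ ha

theorem Gen.up {x : ι → A} {m : ℕ} (c : ι → A) (h : Gen x m) : Gen (xo x c) (m + 1) := by
  classical
  obtain ⟨s, hs, h1, h2⟩ := h
  refine ⟨insert (zeta c) (s.image ext0), ?_, ?_, ?_⟩
  · exact (Finset.card_insert_le _ _).trans (Nat.succ_le_succ (Finset.card_image_le.trans hs))
  · intro a ha
    rw [Finset.coe_insert, Finset.coe_image] at ha
    rcases ha with rfl | ⟨b, hb, rfl⟩
    · exact zeta_mem_Z x c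
    · exact ext0_mem_Z (h1 hb)
  · intro a ha
    have h3 := h2 (mem_Z_xo.1 ha)
    have h4 : ext0 (theta c a) ∈ (B x ⊔ Submodule.span A (↑s : Set (ι → A))).map ext0 :=
      Submodule.mem_map_of_mem h3
    rw [Submodule.map_sup, Submodule.map_span] at h4
    rw [decomp c a]
    refine Submodule.sub_mem _ ?_ ?_
    · refine (sup_le_sup (ext0_B_le x c) (Submodule.span_mono ?_)) h4
      rw [Finset.coe_insert, Finset.coe_image]
      exact Set.subset_insert _ _
    · refine Submodule.mem_sup_right (Submodule.smul_mem _ _ (Submodule.subset_span ?_))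
      rw [Finset.coe_insert]
      exact Set.mem_insert _ _

end option

section down
variable {A : Type*} [CommRing A] [IsLocalRing A] {ι : Type*} [Fintype ι] [DecidableEq ι]

theorem Gen.down {x : ι → A} {m : ℕ} (c : ι → A) (hx : ∀ i, x i ∈ maximalIdeal A)
    (hfg : (Z x).FG) (h : Gen (xo x c) m) : 1 ≤ m ∧ Gen x (m - 1) := by
  classical
  obtain ⟨s, hs, h1, h2⟩ := h
  have hxle : Ideal.span (Set.range x) ≤ maximalIdeal A :=
    Ideal.span_le.2 (by rintro _ ⟨i, rfl⟩; exact hx i)
  -- a generator with unit `none`-component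
  obtain ⟨w₀, hw₀s, hw₀u⟩ : ∃ w₀ ∈ s, IsUnit (w₀ none) := by
    by_contra hcon
    push Not at hcon
    have hζ := h2 (zeta_mem_Z x c)
    obtain ⟨β, hβ, σ, hσ, hsum⟩ := Submodule.mem_sup.1 hζ
    obtain ⟨f, -, hf⟩ := Submodule.mem_span_finset.1 hσ
    have h3 := congrFun hsum none
    rw [Pi.add_apply, ← hf, Finset.sum_apply] at h3
    simp only [Pi.smul_apply, smul_eq_mul, zeta, Option.elim_none] at h3
    have h4 : β none + ∑ w ∈ s, f w * w none ∈ maximalIdeal A :=
      Ideal.add_mem _ (hxle (proj_none_B x c hβ))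
        (Ideal.sum_mem _ fun w hw => Ideal.mul_mem_left _ _ ((mem_maximalIdeal _).2 (hcon w hw)))
    rw [h3] at h4
    exact (mem_maximalIdeal _).1 h4 (isUnit_one.neg)
  obtain ⟨u, hu⟩ := hw₀u
  have hcard : 1 ≤ s.card := Finset.card_pos.2 ⟨w₀, hw₀s⟩
  refine ⟨hcard.trans hs, ?_⟩
  let T : (Option ι → A) → (ι → A) := fun w => theta c (w - (w none * (↑u⁻¹ : A)) • w₀)
  have hTZ : ∀ w ∈ s, T w ∈ Z x := by
    intro w hw
    apply mem_Z_xo.1
    exact Submodule.sub_mem _ (h1 hw) (Submodule.smul_mem _ _ (h1 hw₀s))
  have hT0 : T w₀ = 0 := by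
    have : w₀ - (w₀ none * (↑u⁻¹ : A)) • w₀ = 0 := by
      rw [← hu, Units.mul_inv, one_smul, sub_self]
    simp only [T, this, map_zero]
  refine ⟨(s.erase w₀).image T, ?_, ?_, ?_⟩
  · refine Finset.card_image_le.trans ?_
    rw [Finset.card_erase_of_mem hw₀s]
    omega
  · intro a ha
    rw [Finset.coe_image] at ha
    obtain ⟨w, hw, rfl⟩ := ha
    exact hTZ w (Finset.mem_of_mem_erase hw)
  · refine Submodule.le_of_le_smul_of_le_jacobson_bot (I := maximalIdeal A) hfg ?_ ?_
    · rw [IsLocalRing.jacobson_eq_maximalIdeal ⊥ bot_ne_top]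
    · intro a ha
      have hea := h2 (ext0_mem_Z (c := c) ha)
      obtain ⟨β, hβ, σ, hσ, hsum⟩ := Submodule.mem_sup.1 hea
      obtain ⟨g, -, hg⟩ := Submodule.mem_span_finset.1 hσ
      set b' : A := ∑ w ∈ s, g w * (w none * (↑u⁻¹ : A)) with hb'
      have hσ' : σ = ∑ w ∈ s, g w • (w - (w none * (↑u⁻¹ : A)) • w₀) + b' • w₀ := by
        rw [← hg, hb', Finset.sum_smul, ← Finset.sum_add_distrib]
        refine Finset.sum_congr rfl fun w _ => ?_
        rw [smul_sub, smul_smul]
        abel
      have hnone : b' * (u : A) = - β none := by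
        have h3 := congrFun hsum none
        rw [Pi.add_apply, hσ', Pi.add_apply, Finset.sum_apply] at h3
        simp only [Pi.smul_apply, Pi.sub_apply, smul_eq_mul, ext0, LinearMap.coe_mk,
          AddHom.coe_mk, Option.elim_none] at h3
        have h5 : ∀ w ∈ s, g w * (w none - w none * (↑u⁻¹ : A) * w₀ none) = 0 := by
          intro w _
          rw [← hu, mul_assoc, Units.inv_mul, mul_one, sub_self, mul_zero]
        rw [Finset.sum_eq_zero h5, zero_add, ← hu] at h3
        linear_combination h3
      have hb'm : b' ∈ maximalIdeal A := by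
        have h6 : b' = - β none * (↑u⁻¹ : A) := by
          rw [← hnone, mul_assoc, Units.mul_inv, mul_one]
        rw [h6]
        exact Ideal.mul_mem_right _ _ (Ideal.neg_mem_iff _ |>.2 (hxle (proj_none_B x c hβ)))
      have ha' : a = theta c β + (∑ w ∈ s, g w • T w + b' • theta c w₀) := by
        have h7 := congrArg (theta c) hsum
        rw [theta_ext0, map_add, hσ', map_add, map_sum, map_smul] at h7
        rw [← h7]
        congr 2
        refine Finset.sum_congr rfl fun w _ => ?_
        rw [map_smul]
      rw [ha']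
      refine Submodule.add_mem _ ?_ (Submodule.add_mem _ ?_ ?_)
      · exact Submodule.mem_sup_left (Submodule.mem_sup_left
          (theta_B_le x c (Submodule.mem_map_of_mem hβ)))
      · refine Submodule.mem_sup_left (Submodule.mem_sup_right ?_)
        refine Submodule.sum_mem _ fun w hw => Submodule.smul_mem _ _ ?_
        by_cases hww : w = w₀
        · rw [hww, hT0]; exact Submodule.zero_mem _
        · apply Submodule.subset_span
          rw [Finset.coe_image]
          exact ⟨w, Finset.mem_erase.2 ⟨hww, hw⟩, rfl⟩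
      · exact Submodule.mem_sup_right
          (Submodule.smul_mem_smul hb'm (mem_Z_xo.1 (h1 hw₀s)))

end down

section sum
variable {A : Type*} [CommRing A] {ι : Type*} [Fintype ι] [DecidableEq ι]

/-- The equivalence `ι ⊕ Fin (n+1) ≃ Option (ι ⊕ Fin n)` putting the last element at `none`. -/
def eOpt (ι : Type*) (n : ℕ) : ι ⊕ Fin (n + 1) ≃ Option (ι ⊕ Fin n) where
  toFun := Sum.elim (fun i => some (Sum.inl i)) (fun j => (finSuccEquivLast j).map Sum.inr)
  invFun := fun o => Option.elim o (Sum.inr (Fin.last n))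
    (Sum.elim Sum.inl (fun j => Sum.inr j.castSucc))
  left_inv := by
    rintro (i | j)
    · rfl
    · induction j using Fin.lastCases with
      | last => simp
      | cast j => simp
  right_inv := by
    rintro (_ | (i | j))
    · simp
    · rfl
    · simp

theorem sum_elim_eq (x : ι → A) {n : ℕ} (y : Fin (n + 1) → A) (c : ι ⊕ Fin n → A)
    (hc : ∑ t, c t * (Sum.elim x (Fin.init y)) t = y (Fin.last n)) :
    Sum.elim x y = (xo (Sum.elim x (Fin.init y)) c) ∘ (eOpt ι n) := by
  funext t
  rcases t with i | j
  · rfl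
  · induction j using Fin.lastCases with
    | last => simp [eOpt, xo, hc]
    | cast j => simp [eOpt, xo, Fin.init]

theorem mem_span_elim (x : ι → A) {n : ℕ} (y : Fin n → A) {a : A}
    (ha : a ∈ Ideal.span (Set.range x)) : a ∈ Ideal.span (Set.range (Sum.elim x y)) := by
  refine Ideal.span_mono ?_ ha
  rintro _ ⟨i, rfl⟩
  exact ⟨Sum.inl i, rfl⟩

theorem Gen.sum_up {x : ι → A} : ∀ (n : ℕ) (y : Fin n → A),
    (∀ j, y j ∈ Ideal.span (Set.range x)) → ∀ m, Gen x m → Gen (Sum.elim x y) (m + n) := by
  intro n
  induction n with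
  | zero =>
    intro y _ m h
    have e1 : Sum.elim x y = x ∘ (Equiv.sumEmpty ι (Fin 0)) := by
      funext t
      rcases t with i | j
      · rfl
      · exact j.elim0
    rw [e1]
    exact h.reindex _
  | succ n ih =>
    intro y hy m h
    have h1 := ih (Fin.init y) (fun j => hy _) m h
    obtain ⟨c, hc⟩ := (Ideal.mem_span_range_iff_exists_fun).1
      (mem_span_elim x (Fin.init y) (hy (Fin.last n)))
    rw [sum_elim_eq x y c hc]
    exact (h1.up c).reindex _

theorem Gen.sum_down [IsLocalRing A] [IsNoetherianRing A] {x : ι → A}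
    (hx : ∀ i, x i ∈ maximalIdeal A) : ∀ (n : ℕ) (y : Fin n → A),
    (∀ j, y j ∈ Ideal.span (Set.range x)) → ∀ m, Gen (Sum.elim x y) m → n ≤ m ∧ Gen x (m - n) := by
  have hxle : Ideal.span (Set.range x) ≤ maximalIdeal A :=
    Ideal.span_le.2 (by rintro _ ⟨i, rfl⟩; exact hx i)
  intro n
  induction n with
  | zero =>
    intro y _ m h
    refine ⟨Nat.zero_le _, ?_⟩
    have e1 : x = (Sum.elim x y) ∘ (Equiv.sumEmpty ι (Fin 0)).symm := by
      funext t
      rfl
    rw [e1]
    exact h.reindex _
  | succ n ih =>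
    intro y hy m h
    obtain ⟨c, hc⟩ := (Ideal.mem_span_range_iff_exists_fun).1
      (mem_span_elim x (Fin.init y) (hy (Fin.last n)))
    have e1 := sum_elim_eq x y c hc
    have e2 : xo (Sum.elim x (Fin.init y)) c = (Sum.elim x y) ∘ (eOpt ι n).symm := by
      rw [e1]; funext t; simp
    have h2 : Gen (xo (Sum.elim x (Fin.init y)) c) m := by
      rw [e2]; exact h.reindex _
    have hx' : ∀ t, (Sum.elim x (Fin.init y)) t ∈ maximalIdeal A := by
      rintro (i | j)
      · exact hx i
      · exact hxle (hy _)
    obtain ⟨h3, h4⟩ := h2.down c hx' (IsNoetherian.noetherian _)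
    obtain ⟨h5, h6⟩ := ih (Fin.init y) (fun j => hy _) (m - 1) h4
    refine ⟨by omega, ?_⟩
    have : m - (n + 1) = m - 1 - n := by omega
    rw [this]
    exact h6

end sum

section K1
variable {R : Type*} [CommRing R]

theorem Z_le_B_of_isWeaklyRegular (rs : List R)
    (h : RingTheory.Sequence.IsWeaklyRegular R rs) :
    Z (fun i : Fin rs.length => rs[i]) ≤ B (fun i : Fin rs.length => rs[i]) := by
  classical
  set x : Fin rs.length → R := fun i => rs[i] with hxdef
  have hreg := (RingTheory.Sequence.isWeaklyRegular_iff_Fin R rs).1 h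
  have hreg' : ∀ (k : Fin rs.length) (t : R), t * x k ∈ Ideal.ofList (rs.take k) →
      t ∈ Ideal.ofList (rs.take k) := by
    intro k t ht
    have h1 := hreg k
    have h2 : rs[k] • (Submodule.Quotient.mk t :
        R ⧸ (Ideal.ofList (rs.take k) • ⊤ : Submodule R R)) = rs[k] • 0 := by
      rw [smul_zero, ← Submodule.Quotient.mk_smul, Submodule.Quotient.mk_eq_zero, smul_eq_mul,
        Ideal.mul_top, smul_eq_mul, mul_comm]
      exact ht
    have h3 := h1 h2
    rwa [Submodule.Quotient.mk_eq_zero, smul_eq_mul, Ideal.mul_top] at h3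
  have hmemtake : ∀ (k : ℕ) (i : Fin rs.length), i.val < k → x i ∈ Ideal.ofList (rs.take k) := by
    intro k i hik
    apply Ideal.subset_span
    show rs[i] ∈ rs.take k
    rw [List.mem_take_iff_getElem]
    exact ⟨i.val, by simp only [lt_min_iff]; exact ⟨hik, i.2⟩, rfl⟩
  have hlift : ∀ (k : Fin rs.length) (t : R), t ∈ Ideal.ofList (rs.take k) →
      ∃ d : Fin rs.length → R, (∀ i, k ≤ i → d i = 0) ∧ Pi.single k t - d ∈ B x := by
    intro k t ht
    induction ht using Submodule.span_induction with
    | mem r hr =>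
      have hr' : r ∈ rs.take k := hr
      rw [List.mem_take_iff_getElem] at hr'
      obtain ⟨i, hi, rfl⟩ := hr'
      have hi1 : i < k.val := (lt_min_iff.1 hi).1
      have hi2 : i < rs.length := (lt_min_iff.1 hi).2
      refine ⟨Pi.single ⟨i, hi2⟩ (x k), ?_, ?_⟩
      · intro j hkj
        rw [Pi.single_apply, if_neg]
        intro hj
        rw [hj] at hkj
        exact absurd (Fin.le_def.1 hkj) (by simp; exact hi1)
      · exact kos_mem_B x k ⟨i, hi2⟩
    | zero =>
      exact ⟨0, fun _ _ => rfl, by simp⟩
    | add t₁ t₂ _ _ h₁ h₂ =>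
      obtain ⟨d₁, hd₁, hb₁⟩ := h₁
      obtain ⟨d₂, hd₂, hb₂⟩ := h₂
      refine ⟨d₁ + d₂, fun i hi => by rw [Pi.add_apply, hd₁ i hi, hd₂ i hi, add_zero], ?_⟩
      have : Pi.single k (t₁ + t₂) - (d₁ + d₂)
          = (Pi.single k t₁ - d₁) + (Pi.single k t₂ - d₂) := by
        rw [Pi.single_add]; abel
      rw [this]
      exact Submodule.add_mem _ hb₁ hb₂
    | smul r t _ h₁ =>
      obtain ⟨d₁, hd₁, hb₁⟩ := h₁
      refine ⟨r • d₁, fun i hi => by rw [Pi.smul_apply, hd₁ i hi, smul_zero], ?_⟩
      have : Pi.single k (r • t) - r • d₁ = r • (Pi.single k t - d₁) := by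
        rw [Pi.single_smul, smul_sub]
      rw [this]
      exact Submodule.smul_mem _ _ hb₁
  have main : ∀ (k : ℕ) (a : Fin rs.length → R),
      (∀ i : Fin rs.length, k ≤ i.val → a i = 0) → a ∈ Z x → a ∈ B x := by
    intro k
    induction k with
    | zero =>
      intro a ha _
      have : a = 0 := funext fun i => ha i (Nat.zero_le _)
      rw [this]
      exact Submodule.zero_mem _
    | succ k ih =>
      intro a ha haZ
      by_cases hk : k < rs.length
      · set kk : Fin rs.length := ⟨k, hk⟩ with hkk
        have hsum := mem_Z.1 haZ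
        have ht : a kk * x kk ∈ Ideal.ofList (rs.take kk) := by
          have e1 : a kk * x kk = - ∑ i ∈ Finset.univ.erase kk, a i * x i := by
            rw [← Finset.add_sum_erase _ _ (Finset.mem_univ kk)] at hsum
            linear_combination hsum
          rw [e1]
          refine Ideal.neg_mem_iff _ |>.2 (Ideal.sum_mem _ fun i hi => ?_)
          have hne : i ≠ kk := Finset.ne_of_mem_erase hi
          by_cases hik : i.val < k
          · exact Ideal.mul_mem_left _ _ (hmemtake k i hik)
          · have : k + 1 ≤ i.val := by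
              have : i.val ≠ k := fun h => hne (Fin.ext h)
              omega
            rw [ha i this, zero_mul]
            exact Ideal.zero_mem _
        have ht' := hreg' kk (a kk) ht
        obtain ⟨d, hd, hb⟩ := hlift kk (a kk) ht'
        have hZ' : a - (Pi.single kk (a kk) - d) ∈ Z x :=
          Submodule.sub_mem _ haZ (B_le_Z x hb)
        have hsupp : ∀ i : Fin rs.length, k ≤ i.val →
            (a - ((Pi.single kk (a kk) : Fin rs.length → R) - d)) i = 0 := by
          intro i hi
          have hdi : d i = 0 := hd i (Fin.le_def.2 hi)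
          by_cases hik : i = kk
          · subst hik
            simp [hdi]
          · have : k + 1 ≤ i.val := by
              have : i.val ≠ k := fun h => hik (Fin.ext h)
              omega
            simp [ha i this, hdi, Pi.single_apply, hik]
        have h5 := ih _ hsupp hZ'
        have : a = (a - (Pi.single kk (a kk) - d)) + (Pi.single kk (a kk) - d) := by abel
        rw [this]
        exact Submodule.add_mem _ h5 hb
      · exact ih a (fun i hi => absurd i.2 (by omega)) haZ
  intro a ha
  exact main rs.length a (fun i hi => absurd i.2 (by omega)) ha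

end K1

end Groth.Agent.Lib.KosH1H8
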