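import Mathlib
import Groth.Agent.Lib.KosH1_helper8

/-!
# First Koszul homology counts and presentations (helper8)
APPEND-ONLY once landed.
-/

set_option autoImplicit false
set_option maxHeartbeats 400000
universe u

namespace Groth.Agent.Lib.KosH1H8

open IsLocalRing

section transfer
variable {A : Type*} [CommRing A] [IsLocalRing A] [IsNoetherianRing A]

theorem Gen.transfer {n n' : ℕ} (x : Fin n → A) (y : Fin n' → A)
    (hx : Ideal.span (Set.range x) = maximalIdeal A)
    (hy : Ideal.span (Set.range y) = maximalIdeal A) {c : ℕ} (h : Gen y c) :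
    n' ≤ c + n ∧ Gen x (c + n - n') := by
  have hxm : ∀ i, x i ∈ maximalIdeal A := fun i => hx ▸ Ideal.subset_span ⟨i, rfl⟩
  have hym : ∀ i, y i ∈ maximalIdeal A := fun i => hy ▸ Ideal.subset_span ⟨i, rfl⟩
  have h1 : Gen (Sum.elim y x) (c + n) :=
    h.sum_up n x (fun j => by rw [hy]; exact hxm j) c
  have e1 : Sum.elim x y = (Sum.elim y x) ∘ (Equiv.sumComm (Fin n) (Fin n')) := by
    funext t
    rcases t with i | j <;> rfl
  have h2 : Gen (Sum.elim x y) (c + n) := by
    rw [e1]; exact h1.reindex _
  exact Gen.sum_down hxm n' y (fun j => by rw [hx]; exact hym j) (c + n) h2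

end transfer

section pres
variable {R A : Type*} [CommRing R] [CommRing A] {ι : Type*} [Fintype ι] [DecidableEq ι]

theorem comp_kos (f : R →+* A) (x : ι → R) (i j : ι) :
    (fun t => f (kos x i j t)) = kos (fun t => f (x t)) i j := by
  funext t
  simp only [kos, Pi.sub_apply, Pi.single_apply, map_sub]
  congr 1 <;> split_ifs <;> simp

theorem comp_mem_B (f : R →+* A) (x : ι → R) {b : ι → R} (hb : b ∈ B x) :
    (fun t => f (b t)) ∈ B (fun t => f (x t)) := by
  induction hb using Submodule.span_induction with
  | mem b h =>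
    obtain ⟨p, rfl⟩ := h
    rw [comp_kos]
    exact kos_mem_B _ _ _
  | zero =>
    have : (fun t => f ((0 : ι → R) t)) = 0 := by funext t; simp
    rw [this]; exact Submodule.zero_mem _
  | add a b _ _ ha hb =>
    have : (fun t => f ((a + b) t)) = (fun t => f (a t)) + (fun t => f (b t)) := by
      funext t; simp
    rw [this]; exact Submodule.add_mem _ ha hb
  | smul r a _ ha =>
    have : (fun t => f ((r • a) t)) = f r • (fun t => f (a t)) := by
      funext t; simp
    rw [this]; exact Submodule.smul_mem _ _ ha

theorem exists_lift_B (f : R →+* A) (hf : Function.Surjective f) (x : ι → R) {b : ι → A}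
    (hb : b ∈ B (fun t => f (x t))) : ∃ b' ∈ B x, (fun t => f (b' t)) = b := by
  induction hb using Submodule.span_induction with
  | mem b h =>
    obtain ⟨p, rfl⟩ := h
    exact ⟨kos x p.1 p.2, kos_mem_B _ _ _, comp_kos f x p.1 p.2⟩
  | zero =>
    exact ⟨0, Submodule.zero_mem _, by funext t; simp⟩
  | add a b _ _ ha hb =>
    obtain ⟨a', ha', rfl⟩ := ha
    obtain ⟨b', hb', rfl⟩ := hb
    exact ⟨a' + b', Submodule.add_mem _ ha' hb', by funext t; simp⟩
  | smul r a _ ha =>
    obtain ⟨a', ha', rfl⟩ := ha
    obtain ⟨r', rfl⟩ := hf r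
    exact ⟨r' • a', Submodule.smul_mem _ _ ha', by funext t; simp⟩

end pres

section K2
variable {R A : Type*} [CommRing R] [CommRing A] {ι : Type*} [Fintype ι] [DecidableEq ι]

/-- Generators of the kernel give generators of `Z / B` downstairs. -/
theorem Gen.of_ker (f : R →+* A) (hf : Function.Surjective f) (x : ι → R)
    (hZB : Z x ≤ B x) (l : List R) (hl : Ideal.ofList l = RingHom.ker f)
    (hle : RingHom.ker f ≤ Ideal.span (Set.range x)) :
    Gen (fun t => f (x t)) l.length := by
  classical
  have hmem : ∀ g : R, g ∈ l → ∃ s : ι → R, ∑ i, s i * x i = g := by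
    intro g hg
    have : g ∈ Ideal.span (Set.range x) := hle (hl ▸ Ideal.subset_span hg)
    exact (Ideal.mem_span_range_iff_exists_fun).1 this
  let S : R → (ι → R) := fun g => if hg : g ∈ l then Classical.choose (hmem g hg) else 0
  have hS : ∀ g ∈ l, ∑ i, S g i * x i = g := by
    intro g hg
    simp only [S, dif_pos hg]
    exact Classical.choose_spec (hmem g hg)
  refine ⟨l.toFinset.image (fun g => fun t => f (S g t)), ?_, ?_, ?_⟩
  · exact Finset.card_image_le.trans (List.toFinset_card_le l)
  · intro w hw
    rw [Finset.coe_image] at hw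
    obtain ⟨g, hg, rfl⟩ := hw
    have hg' : g ∈ l := List.mem_toFinset.1 hg
    show (fun t => f (S g t)) ∈ Z (fun t => f (x t))
    rw [mem_Z]
    have : ∑ i, f (S g i) * f (x i) = f (∑ i, S g i * x i) := by
      rw [map_sum]; simp
    rw [this, hS g hg']
    have : g ∈ RingHom.ker f := hl ▸ Ideal.subset_span hg'
    exact this
  · intro a ha
    choose a' ha' using fun i => hf (a i)
    have h1 : ∑ i, a' i * x i ∈ RingHom.ker f := by
      rw [RingHom.mem_ker, map_sum]
      have := mem_Z.1 ha
      rw [← this]
      refine Finset.sum_congr rfl fun i _ => ?_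
      rw [map_mul, ha']
    rw [← hl, Ideal.ofList] at h1
    have h2 : ({r | r ∈ l} : Set R) = ↑l.toFinset := by ext; simp
    rw [h2] at h1
    obtain ⟨b, -, hb⟩ := Submodule.mem_span_finset.1 h1
    have h3 : a' - ∑ g ∈ l.toFinset, b g • S g ∈ Z x := by
      rw [mem_Z]
      have : ∑ i, (a' - ∑ g ∈ l.toFinset, b g • S g) i * x i
          = ∑ i, a' i * x i - ∑ g ∈ l.toFinset, b g * ∑ i, S g i * x i := by
        simp only [Pi.sub_apply, Finset.sum_apply, Pi.smul_apply, smul_eq_mul, sub_mul,
          Finset.sum_sub_distrib, Finset.sum_mul, Finset.mul_sum]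
        congr 1
        rw [Finset.sum_comm]
        refine Finset.sum_congr rfl fun g _ => Finset.sum_congr rfl fun i _ => ?_
        ring
      rw [this, ← hb, sub_eq_zero]
      refine Finset.sum_congr rfl fun g hg => ?_
      rw [hS g (List.mem_toFinset.1 hg), smul_eq_mul]
    have h4 := comp_mem_B f x (hZB h3)
    have h5 : (fun t => f ((a' - ∑ g ∈ l.toFinset, b g • S g) t))
        = a - ∑ g ∈ l.toFinset, f (b g) • (fun t => f (S g t)) := by
      funext t
      simp only [Pi.sub_apply, Finset.sum_apply, Pi.smul_apply, smul_eq_mul, map_sub, map_sum,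
        map_mul, ha']
    rw [h5] at h4
    have h6 : a = (a - ∑ g ∈ l.toFinset, f (b g) • (fun t => f (S g t)))
        + ∑ g ∈ l.toFinset, f (b g) • (fun t => f (S g t)) := by abel
    rw [h6]
    refine Submodule.add_mem _ (Submodule.mem_sup_left h4) (Submodule.mem_sup_right ?_)
    refine Submodule.sum_mem _ fun g hg => Submodule.smul_mem _ _ (Submodule.subset_span ?_)
    rw [Finset.coe_image]
    exact ⟨g, hg, rfl⟩

/-- Generators of `Z / B` downstairs give generators of the kernel. -/
theorem Gen.ker_fg [IsLocalRing R] [IsNoetherianRing R] (f : R →+* A)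
    (hf : Function.Surjective f) (x : ι → R)
    (hx : Ideal.span (Set.range x) = maximalIdeal R)
    (hker : RingHom.ker f ≤ maximalIdeal R) {m : ℕ}
    (h : Gen (fun t => f (x t)) m) :
    ∃ l : List R, l.length ≤ m ∧ Ideal.ofList l = RingHom.ker f := by
  classical
  obtain ⟨s, hs, h1, h2⟩ := h
  have hlift : ∀ w : ι → A, ∃ r : ι → R, (fun t => f (r t)) = w := by
    intro w
    choose r hr using fun i => hf (w i)
    exact ⟨r, funext hr⟩
  choose L hL using hlift
  let F : (ι → A) → R := fun w => ∑ i, L w i * x i
  have hFker : ∀ w ∈ s, F w ∈ RingHom.ker f := by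
    intro w hw
    rw [RingHom.mem_ker, map_sum]
    have := mem_Z.1 (h1 hw)
    rw [← this]
    refine Finset.sum_congr rfl fun i _ => ?_
    rw [map_mul]
    exact congrArg (· * f (x i)) (congrFun (hL w) i)
  have hspan : Ideal.span (↑(s.image F) : Set R) = RingHom.ker f := by
    refine le_antisymm (Ideal.span_le.2 ?_) ?_
    · intro r hr
      rw [Finset.coe_image] at hr
      obtain ⟨w, hw, rfl⟩ := hr
      exact hFker w hw
    · refine Submodule.le_of_le_smul_of_le_jacobson_bot (I := maximalIdeal R)
        (IsNoetherian.noetherian _) ?_ ?_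
      · rw [IsLocalRing.jacobson_eq_maximalIdeal ⊥ bot_ne_top]
      · intro g hg
        have hgm : g ∈ Ideal.span (Set.range x) := by rw [hx]; exact hker hg
        obtain ⟨c, hc⟩ := (Ideal.mem_span_range_iff_exists_fun).1 hgm
        have hcZ : (fun t => f (c t)) ∈ Z (fun t => f (x t)) := by
          rw [mem_Z]
          have : ∑ i, f (c i) * f (x i) = f (∑ i, c i * x i) := by
            rw [map_sum]; simp
          rw [this, hc]
          exact hg
        obtain ⟨β, hβ, σ, hσ, hsum⟩ := Submodule.mem_sup.1 (h2 hcZ)
        obtain ⟨β', hβ', rfl⟩ := exists_lift_B f hf x hβ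
        obtain ⟨b, -, hb⟩ := Submodule.mem_span_finset.1 hσ
        choose b' hb' using fun w => hf (b w)
        set t : ι → R := c - β' - ∑ w ∈ s, b' w • L w with ht
        have htker : ∀ i, t i ∈ RingHom.ker f := by
          intro i
          rw [RingHom.mem_ker]
          have h3 := congrFun hsum i
          rw [← hb] at h3
          simp only [Pi.add_apply, Finset.sum_apply, Pi.smul_apply, smul_eq_mul] at h3
          simp only [ht, Pi.sub_apply, Finset.sum_apply, Pi.smul_apply, smul_eq_mul, map_sub,
            map_sum, map_mul, hb']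
          have h4 : ∀ w, f (L w i) = w i := fun w => congrFun (hL w) i
          simp only [h4]
          linear_combination -h3
        have hβZ := mem_Z.1 (B_le_Z x hβ')
        have hg' : g = ∑ w ∈ s, b' w * F w + ∑ i, t i * x i := by
          rw [← hc]
          have : ∑ i, t i * x i
              = ∑ i, c i * x i - ∑ i, β' i * x i - ∑ w ∈ s, b' w * F w := by
            simp only [ht, F, Pi.sub_apply, Finset.sum_apply, Pi.smul_apply, smul_eq_mul, sub_mul,
              Finset.sum_sub_distrib, Finset.sum_mul, Finset.mul_sum]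
            congr 1
            rw [Finset.sum_comm]
            refine Finset.sum_congr rfl fun w _ => Finset.sum_congr rfl fun i _ => ?_
            ring
          rw [this, hβZ]
          ring
        rw [hg']
        refine Submodule.add_mem _ (Submodule.mem_sup_left ?_) (Submodule.mem_sup_right ?_)
        · refine Ideal.sum_mem _ fun w hw => Ideal.mul_mem_left _ _ (Ideal.subset_span ?_)
          rw [Finset.coe_image]
          exact ⟨w, hw, rfl⟩
        · refine Ideal.sum_mem _ fun i _ => ?_
          rw [smul_eq_mul, mul_comm (t i)]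
          exact Ideal.mul_mem_mul (hx ▸ Ideal.subset_span ⟨i, rfl⟩) (htker i)
  refine ⟨(s.image F).toList, ?_, ?_⟩
  · rw [Finset.length_toList]
    exact Finset.card_image_le.trans hs
  · rw [← hspan, Ideal.ofList]
    congr 1
    ext r
    simp

end K2

end Groth.Agent.Lib.KosH1H8
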