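import Mathlib
import Groth.Agent.Lib.KosH2_helper8
import Groth.Agent.Lib.Link4_helper9
import Groth.Agent.Lib.CIQuot_helper6

/-!
# Complete intersections do not depend on the presentation (helper8)
APPEND-ONLY once landed.
-/

set_option autoImplicit false
set_option maxHeartbeats 400000
universe u

namespace Groth.Agent.Lib.CIInvH8

open IsLocalRing RingTheory.Sequence Groth.Agent.DepthLib Groth.Agent.Lib.KosH1H8

/-- A regular system of parameters as a weakly regular list. -/
theorem exists_rsop (R : Type u) [CommRing R] [IsRegularLocalRing R] :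
    ∃ xs : List R, Ideal.ofList xs = maximalIdeal R ∧
      ((xs.length : ℕ) : WithBot ℕ∞) = ringKrullDim R ∧ IsWeaklyRegular R xs := by
  classical
  have hfg : (maximalIdeal R : Submodule R R).FG := IsNoetherian.noetherian _
  obtain ⟨s, hcard, hspan⟩ := Submodule.FG.exists_span_finset_card_eq_spanFinrank hfg
  have hof : Ideal.ofList s.toList = maximalIdeal R := by
    rw [← hspan, Ideal.ofList]
    congr 1
    ext r
    simp
  have hlen : ((s.toList.length : ℕ) : WithBot ℕ∞) = ringKrullDim R := by
    rw [Finset.length_toList, hcard]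
    exact IsRegularLocalRing.spanFinrank_maximalIdeal
  refine ⟨s.toList, hof, hlen, ?_⟩
  have hCM : LocCoh.IsCohenMacaulayModule R R := _root_.RegUCH8.isCM_of_regular R
  have hmem : ∀ x ∈ s.toList, x ∈ maximalIdeal R := fun x hx =>
    hof ▸ Ideal.subset_span hx
  rw [(isCM_list s.toList R hCM hmem).1, supportDim_quot_smul_top_self,
    Module.supportDim_self_eq_ringKrullDim, hof, ← hlen]
  have : ringKrullDim (R ⧸ maximalIdeal R) = 0 :=
    ringKrullDim_eq_zero_of_isField
      ((Ideal.Quotient.maximal_ideal_iff_isField_quotient _).1 (maximalIdeal.isMaximal R))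
  rw [this, zero_add]

theorem span_range_getElem {R : Type*} [CommRing R] (xs : List R) :
    Ideal.span (Set.range fun i : Fin xs.length => xs[i]) = Ideal.ofList xs := by
  rw [Ideal.ofList]
  congr 1
  ext r
  simp only [Set.mem_range, Set.mem_setOf_eq]
  constructor
  · rintro ⟨i, rfl⟩
    exact List.getElem_mem _
  · intro hr
    obtain ⟨i, hi, rfl⟩ := List.getElem_of_mem hr
    exact ⟨⟨i, hi⟩, rfl⟩

/-- **Independence of the presentation.** -/
theorem core {R B A : Type u} [CommRing R] [CommRing B] [CommRing A]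
    [IsRegularLocalRing R] [IsRegularLocalRing B] [IsLocalRing A]
    (f : R →+* A) (hf : Function.Surjective f) (g : B →+* A) (hg : Function.Surjective g)
    (rs : List B) (hrs : IsWeaklyRegular B rs) (hmem : ∀ r ∈ rs, r ∈ maximalIdeal B)
    (hker : RingHom.ker g = Ideal.ofList rs) :
    ∃ l : List R, Ideal.ofList l = RingHom.ker f ∧
      ((l.length : ℕ) : WithBot ℕ∞) + ringKrullDim A ≤ ringKrullDim R := by
  classical
  haveI : IsNoetherianRing A := isNoetherianRing_of_surjective R A f hf
  obtain ⟨xs, hxs, hxlen, hxreg⟩ := exists_rsop R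
  obtain ⟨ys, hys, hylen, hyreg⟩ := exists_rsop B
  have hZBx := Z_le_B_of_isWeaklyRegular xs hxreg
  have hZBy := Z_le_B_of_isWeaklyRegular ys hyreg
  have hxspan : Ideal.span (Set.range fun i : Fin xs.length => xs[i]) = maximalIdeal R := by
    rw [span_range_getElem, hxs]
  have hyspan : Ideal.span (Set.range fun i : Fin ys.length => ys[i]) = maximalIdeal B := by
    rw [span_range_getElem, hys]
  -- kernels are contained in the maximal ideals
  have hkf : RingHom.ker f ≤ maximalIdeal R :=
    IsLocalRing.le_maximalIdeal (RingHom.ker_ne_top f)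
  have hkg : RingHom.ker g ≤ maximalIdeal B :=
    IsLocalRing.le_maximalIdeal (RingHom.ker_ne_top g)
  -- images generate the maximal ideal of `A`
  have hfx : Ideal.span (Set.range fun i : Fin xs.length => f xs[i]) = maximalIdeal A := by
    have h1 := map_maximalIdeal_of_surjective f hf
    rw [← h1, ← hxspan, Ideal.map_span]
    congr 1
    ext a
    simp
  have hgy : Ideal.span (Set.range fun i : Fin ys.length => g ys[i]) = maximalIdeal A := by
    have h1 := map_maximalIdeal_of_surjective g hg
    rw [← h1, ← hyspan, Ideal.map_span]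
    congr 1
    ext a
    simp
  -- the count
  have hGy : Gen (fun i : Fin ys.length => g ys[i]) rs.length :=
    Gen.of_ker g hg (fun i : Fin ys.length => ys[i]) hZBy rs hker.symm
      (by rw [hyspan]; exact hkg)
  obtain ⟨hle, hGx⟩ := Gen.transfer (fun i : Fin xs.length => f xs[i])
    (fun i : Fin ys.length => g ys[i]) hfx hgy hGy
  obtain ⟨l, hl, hlker⟩ := Gen.ker_fg f hf (fun i : Fin xs.length => xs[i]) hxspan hkf hGx
  refine ⟨l, hlker, ?_⟩
  -- dimensions
  have hCM : LocCoh.IsCohenMacaulayModule B B := _root_.RegUCH8.isCM_of_regular B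
  have hdimB := ((isCM_list rs B hCM hmem).1).mp hrs
  rw [supportDim_quot_smul_top_self, Module.supportDim_self_eq_ringKrullDim] at hdimB
  have hAB : ringKrullDim (B ⧸ Ideal.ofList rs) = ringKrullDim A := by
    rw [← hker]
    exact ringKrullDim_eq_of_ringEquiv (RingHom.quotientKerEquivOfSurjective hg)
  rw [hAB] at hdimB
  obtain ⟨dA, hdA⟩ := Equi133H8.exists_nat_ringKrullDim A
  rw [hdA, ← hylen] at hdimB
  rw [hdA, ← hxlen]
  have h1 : dA + rs.length = ys.length := by exact_mod_cast hdimB
  have h2 : l.length + dA ≤ xs.length := by omega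
  exact_mod_cast h2


/-- Given a ring isomorphism `A ≃ B ⧸ (rs)`, the composite `B → A` is surjective with kernel
`(rs)`. -/
theorem quot_symm_comp {A B : Type u} [CommRing A] [CommRing B] (rs : List B)
    (e : A ≃+* B ⧸ Ideal.span {r | r ∈ rs}) :
    Function.Surjective (e.symm.toRingHom.comp (Ideal.Quotient.mk (Ideal.span {r | r ∈ rs}))) ∧
      RingHom.ker (e.symm.toRingHom.comp (Ideal.Quotient.mk (Ideal.span {r | r ∈ rs}))) =
        Ideal.ofList rs := by
  constructor
  · exact e.symm.surjective.comp Ideal.Quotient.mk_surjective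
  · ext b
    rw [RingHom.mem_ker, RingHom.comp_apply]
    change e.symm _ = 0 ↔ _
    rw [map_eq_zero_iff _ e.symm.injective, Ideal.Quotient.eq_zero_iff_mem]

/-- From `core` to a regular sequence. -/
theorem regular_of_core {R A : Type u} [CommRing R] [CommRing A] [IsRegularLocalRing R]
    [Nontrivial A]
    (f : R →+* A) (hf : Function.Surjective f)
    (h : ∃ l : List R, Ideal.ofList l = RingHom.ker f ∧
      ((l.length : ℕ) : WithBot ℕ∞) + ringKrullDim A ≤ ringKrullDim R) :
    ∃ rs : List R, Ideal.ofList rs = RingHom.ker f ∧ RingTheory.Sequence.IsRegular R rs := by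
  obtain ⟨l, hl, hdim⟩ := h
  rw [Groth.Agent.Link9.regularSeq_iff_cotangent (RingHom.ker f) (RingHom.ker_ne_top f)]
  have hA : ringKrullDim (R ⧸ RingHom.ker f) = ringKrullDim A :=
    ringKrullDim_eq_of_ringEquiv (RingHom.quotientKerEquivOfSurjective hf)
  rw [hA]
  have h1 : ∀ (J : Ideal R), Ideal.ofList l = J →
      (⊤ : Submodule (R ⧸ J) J.Cotangent).spanFinrank ≤ l.length := by
    intro J hJ
    subst hJ
    exact Groth.Agent.Link9.spanFinrank_cotangent_le l
  have h2 := h1 _ hl
  refine le_trans ?_ hdim
  gcongr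

theorem main2169 {A R : Type u} [CommRing A] [CommRing R]
    [IsNoetherianRing A] [IsLocalRing A] [IsAdicComplete (IsLocalRing.maximalIdeal A) A]
    [IsRegularLocalRing R] (f : R →+* A) (hf : Function.Surjective f)
    (hA : Pi1.IsCompleteIntersection A) :
    ∃ rs : List R, Ideal.ofList rs = RingHom.ker f ∧ RingTheory.Sequence.IsRegular R rs := by
  obtain ⟨B, _, hB, rs, hmem, hreg, ⟨e⟩⟩ := hA
  let e0 : A ≃+* AdicCompletion (maximalIdeal A) A :=
    (AdicCompletion.ofAlgEquiv (maximalIdeal A)).toRingEquiv
  obtain ⟨hg, hker⟩ := quot_symm_comp rs (e0.trans e)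
  exact regular_of_core f hf
    (core f hf _ hg rs hreg.toIsWeaklyRegular hmem hker)

end Groth.Agent.Lib.CIInvH8
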