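import Mathlib
import Groth.Agent.Lib.CIInv_helper8
import Groth.Agent.Lib.AnUnram_helper3
import Groth.Agent.Lib.CompletionRegular_helper5

/-!
# Complete intersections: descent of generators from the completion (helper8)
APPEND-ONLY once landed.
-/

set_option autoImplicit false
set_option maxHeartbeats 400000
universe u

namespace Groth.Agent.Lib.CIInvH8

open IsLocalRing RingTheory.Sequence TensorProduct

/-- From a generating family of a finite module over a local ring one can extract a
minimal one. -/
theorem exists_sub_family {R : Type u} [CommRing R] [IsLocalRing R] {M : Type u}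
    [AddCommGroup M] [Module R M] (N : Submodule R M) (fg : N.FG) {ι : Type u} (v : ι → N)
    (hv : Submodule.span R (Set.range v) = ⊤) :
    ∃ (κ : Type u) (_ : Fintype κ) (a : κ → ι), Fintype.card κ = N.spanFinrank ∧
      Submodule.span R (Set.range (v ∘ a)) = ⊤ := by
  haveI : Module.Finite R N := Module.Finite.iff_fg.mpr fg
  have h1 := (map_tensorProduct_mk_eq_top (N := Submodule.span R (Set.range v))).mpr hv
  rw [← Submodule.span_image, ← Set.range_comp, eq_top_iff, ← SetLike.coe_subset_coe,
    Submodule.top_coe] at h1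
  have h2 : Submodule.span (ResidueField R)
      (Set.range (TensorProduct.mk R (ResidueField R) N 1 ∘ v)) = ⊤ := by
    rw [eq_top_iff]
    exact Set.Subset.trans h1 (Submodule.span_subset_span _ _ _)
  obtain ⟨κ, a, ha, hsp, hli⟩ :=
    exists_linearIndependent' (ResidueField R) (TensorProduct.mk R (ResidueField R) N 1 ∘ v)
  rw [h2] at hsp
  let b : Module.Basis κ (ResidueField R) (ResidueField R ⊗[R] N) := Module.Basis.mk hli hsp.ge
  haveI : Finite κ := Module.Finite.finite_basis b
  haveI : Fintype κ := Fintype.ofFinite κ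
  refine ⟨κ, inferInstance, a, ?_, span_eq_top_of_tmul_eq_basis (v ∘ a) b (by simp [b])⟩
  rw [← Module.finrank_eq_card_basis b, Module.finrank_eq_spanFinrank_of_free,
    TensorProduct.spanFinrank_top_eq_of_residueField N fg]

/-- The number of generators of an ideal does not drop under a faithfully flat extension to a
local ring. -/
theorem spanFinrank_le_map_of_faithfullyFlat (A B : Type u) [CommRing A] [CommRing B]
    [IsNoetherianRing A] [IsLocalRing B] [IsNoetherianRing B] [Algebra A B]
    [Module.FaithfullyFlat A B] (I : Ideal A) :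
    I.spanFinrank ≤ (I.map (algebraMap A B)).spanFinrank := by
  classical
  obtain ⟨s, hscard, hsspan⟩ := Submodule.FG.exists_span_finset_card_eq_spanFinrank
    (IsNoetherian.noetherian I)
  have hmem : ∀ i : s, algebraMap A B i ∈ I.map (algebraMap A B) := fun i =>
    Ideal.mem_map_of_mem _ (hsspan ▸ Submodule.subset_span i.2)
  let f : s → I.map (algebraMap A B) := fun i => ⟨algebraMap A B i, hmem i⟩
  have hsub : ∀ S : Set s, Submodule.map (I.map (algebraMap A B)).subtype
      (Submodule.span B (f '' S)) = Ideal.span ((fun i : s => algebraMap A B i) '' S) := by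
    intro S
    rw [Submodule.map_span, Set.image_image]
    rfl
  have hf : Submodule.span B (Set.range f) = ⊤ := by
    apply Submodule.map_injective_of_injective (I.map (algebraMap A B)).injective_subtype
    rw [← Set.image_univ, hsub, Submodule.map_top, Submodule.range_subtype, Set.image_univ]
    have : I = Ideal.span (s : Set A) := hsspan.symm
    conv_rhs => rw [this, Ideal.map_span]
    congr 1
    ext y
    simp
  obtain ⟨κ, _, a, hcard, hspan⟩ := exists_sub_family (I.map (algebraMap A B))
    (IsNoetherian.noetherian _) f hf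
  have hJ : (Ideal.span (Set.range fun j : κ => ((a j : s) : A))).map (algebraMap A B) =
      I.map (algebraMap A B) := by
    rw [Ideal.map_span, ← Set.range_comp]
    have h3 := hsub (Set.range a)
    rw [← Set.range_comp, ← Set.range_comp] at h3
    have h4 : f ∘ a = (f ∘ a) := rfl
    rw [show (f ∘ a) = (f ∘ a) from rfl, hspan, Submodule.map_top, Submodule.range_subtype] at h3
    rw [h3]
    rfl
  have hJm : Ideal.span (Set.range fun j : κ => ((a j : s) : A)) = I := by
    rw [← Ideal.comap_map_eq_self_of_faithfullyFlat (B := B)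
      (Ideal.span (Set.range fun j : κ => ((a j : s) : A))), hJ,
      Ideal.comap_map_eq_self_of_faithfullyFlat]
  calc I.spanFinrank
      = (Ideal.span (Set.range fun j : κ => ((a j : s) : A))).spanFinrank := by rw [hJm]
    _ ≤ (Set.range fun j : κ => ((a j : s) : A)).ncard :=
        Submodule.spanFinrank_span_le_ncard_of_finite (Set.finite_range _)
    _ ≤ Fintype.card κ := by
        rw [← Set.image_univ, ← Nat.card_eq_fintype_card, ← Set.ncard_univ]
        exact Set.ncard_image_le Set.finite_univ
    _ = _ := hcard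


/-- Counting criterion for an ideal of a regular local ring. -/
theorem regular_of_count {R : Type u} [CommRing R] [IsRegularLocalRing R]
    (I : Ideal R) (hI : I ≠ ⊤) (n : ℕ) (hn : I.spanFinrank ≤ n)
    (hdim : ((n : ℕ) : WithBot ℕ∞) + ringKrullDim (R ⧸ I) ≤ ringKrullDim R) :
    ∃ rs : List R, Ideal.ofList rs = I ∧ RingTheory.Sequence.IsRegular R rs := by
  classical
  rw [Groth.Agent.Link9.regularSeq_iff_cotangent I hI]
  obtain ⟨s, hscard, hsspan⟩ := Submodule.FG.exists_span_finset_card_eq_spanFinrank
    (IsNoetherian.noetherian I)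
  have hof : Ideal.ofList s.toList = I := by
    rw [← hsspan, Ideal.ofList]
    congr 1
    ext r
    simp
  have h1 : ∀ (J : Ideal R), Ideal.ofList s.toList = J →
      (⊤ : Submodule (R ⧸ J) J.Cotangent).spanFinrank ≤ s.toList.length := by
    intro J hJ
    subst hJ
    exact Groth.Agent.Link9.spanFinrank_cotangent_le s.toList
  have h2 := h1 _ hof
  rw [Finset.length_toList, hscard] at h2
  refine le_trans ?_ hdim
  gcongr
  exact_mod_cast h2.trans hn

theorem main2166_mp {R : Type u} [CommRing R] [IsRegularLocalRing R]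
    (I : Ideal R) (hI : I ≠ ⊤) [IsLocalRing (R ⧸ I)]
    (h : Pi1.IsCompleteIntersection (R ⧸ I)) :
    ∃ rs : List R, Ideal.ofList rs = I ∧ RingTheory.Sequence.IsRegular R rs := by
  classical
  obtain ⟨B, _, hB, rs, hmem, hreg, ⟨e⟩⟩ := h
  obtain ⟨hloc, hnoeth, hcompl, hff, hlh, hmax⟩ := Groth.Agent.Lib.AnUnramH3.completion_facts R
  haveI := hloc
  haveI := hnoeth
  haveI := hff
  have hRreg : IsRegularLocalRing (AdicCompletion (maximalIdeal R) R) :=
    (Groth.Agent.RegularLib.isRegularLocalRing_adicCompletion_iff R (maximalIdeal R)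
      (IsLocalRing.maximalIdeal.isMaximal R).ne_top).mp inferInstance
  obtain ⟨e1⟩ := Groth.Agent.Lib.CIQuot_helper6.exists_completion_quot_equiv R I
  have hne : Ideal.span {r | r ∈ rs} ≠ ⊤ := by
    intro htop
    apply hreg.top_ne_smul
    have : Ideal.ofList rs = ⊤ := htop
    rw [this, Submodule.top_smul]
  haveI : Nontrivial (B ⧸ Ideal.span {r | r ∈ rs}) := Ideal.Quotient.nontrivial_iff.mpr hne
  haveI : IsLocalRing (B ⧸ Ideal.span {r | r ∈ rs}) :=
    IsLocalRing.of_surjective' (Ideal.Quotient.mk _) Ideal.Quotient.mk_surjective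
  let f' : AdicCompletion (maximalIdeal R) R →+* B ⧸ Ideal.span {r | r ∈ rs} :=
    (e1.symm.trans e).toRingHom.comp
      (Ideal.Quotient.mk (I.map (algebraMap R (AdicCompletion (maximalIdeal R) R))))
  have hf' : Function.Surjective f' :=
    (e1.symm.trans e).surjective.comp Ideal.Quotient.mk_surjective
  have hkerf' : RingHom.ker f' = I.map (algebraMap R (AdicCompletion (maximalIdeal R) R)) := by
    ext b
    rw [RingHom.mem_ker, RingHom.comp_apply]
    change (e1.symm.trans e) _ = 0 ↔ _
    rw [map_eq_zero_iff _ (e1.symm.trans e).injective, Ideal.Quotient.eq_zero_iff_mem]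
  have hg : Function.Surjective (Ideal.Quotient.mk (Ideal.span {r | r ∈ rs})) :=
    Ideal.Quotient.mk_surjective
  have hkerg : RingHom.ker (Ideal.Quotient.mk (Ideal.span {r | r ∈ rs})) = Ideal.ofList rs :=
    Ideal.mk_ker
  obtain ⟨l, hl, hdim⟩ := core f' hf' _ hg rs hreg.toIsWeaklyRegular hmem hkerg
  have d1 : ringKrullDim (AdicCompletion (maximalIdeal R) R) = ringKrullDim R :=
    Groth.Agent.RegularLib.ringKrullDim_adicCompletion R (maximalIdeal R)
      (IsLocalRing.maximalIdeal.isMaximal R).ne_top
  haveI : IsNoetherianRing (R ⧸ I) := inferInstance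
  have d2 : ringKrullDim (B ⧸ Ideal.span {r | r ∈ rs}) = ringKrullDim (R ⧸ I) := by
    rw [← ringKrullDim_eq_of_ringEquiv e,
      Groth.Agent.RegularLib.ringKrullDim_adicCompletion (R ⧸ I) (maximalIdeal (R ⧸ I))
        (IsLocalRing.maximalIdeal.isMaximal _).ne_top]
  rw [d1, d2] at hdim
  refine regular_of_count I hI l.length ?_ hdim
  refine (spanFinrank_le_map_of_faithfullyFlat R (AdicCompletion (maximalIdeal R) R) I).trans ?_
  rw [← hkerf', ← hl, Ideal.ofList]
  refine (Submodule.spanFinrank_span_le_ncard_of_finite (List.finite_toSet l)).trans ?_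
  have : {r | r ∈ l} = (l.toFinset : Set _) := by
    ext r
    simp
  rw [this, Set.ncard_coe_finset]
  exact List.toFinset_card_le l

theorem main2166 {R : Type u} [CommRing R] [IsRegularLocalRing R]
    (I : Ideal R) (hI : I ≠ ⊤) [IsLocalRing (R ⧸ I)] :
    Pi1.IsCompleteIntersection (R ⧸ I) ↔
      ∃ rs : List R, Ideal.ofList rs = I ∧ RingTheory.Sequence.IsRegular R rs := by
  constructor
  · exact main2166_mp I hI
  · rintro ⟨rs, hrs, hreg⟩
    exact Groth.Agent.Lib.CIQuot_helper6.ci_of_isRegular R rs hreg I hrs.symm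

end Groth.Agent.Lib.CIInvH8
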