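import Mathlib
import Groth.Agent.Lib.CIInvB_helper8

/-!
# Geometric depth and complete intersections (helper8)
APPEND-ONLY once landed.
-/

set_option autoImplicit false
set_option maxHeartbeats 400000
universe u

namespace Groth.Agent.Lib.CIInvH8

open IsLocalRing RingTheory.Sequence Groth.Agent.DepthLib

/-- `dim R ≤ dim R/I + μ(I)` for a proper ideal of a Noetherian local ring. -/
theorem dim_le_quot_add_spanFinrank {R : Type u} [CommRing R] [IsLocalRing R] [IsNoetherianRing R]
    (I : Ideal R) (hI : I ≠ ⊤) :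
    ringKrullDim R ≤ ringKrullDim (R ⧸ I) + ((I.spanFinrank : ℕ) : WithBot ℕ∞) := by
  classical
  obtain ⟨s, hscard, hsspan⟩ := Submodule.FG.exists_span_finset_card_eq_spanFinrank
    (IsNoetherian.noetherian I)
  have hof : Ideal.ofList s.toList = I := by
    rw [← hsspan, Ideal.ofList]
    congr 1
    ext r
    simp
  have hmem : ∀ x ∈ s.toList, x ∈ maximalIdeal R := fun x hx =>
    IsLocalRing.le_maximalIdeal hI (hof ▸ Ideal.subset_span hx)
  have h1 := supportDim_le_supportDim_quot_ofList_add_length s.toList R hmem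
  rw [supportDim_quot_smul_top_self, Module.supportDim_self_eq_ringKrullDim, hof,
    Finset.length_toList, hscard] at h1
  exact h1

theorem main5178 (A : Type u) [CommRing A] [IsLocalRing A] [IsNoetherianRing A] (B : Type u)
    [CommRing B] [IsRegularLocalRing B] (I : Ideal B)
    (hpres : Nonempty (AdicCompletion (IsLocalRing.maximalIdeal A) A ≃+* B ⧸ I)) (d e : ℕ)
    (hd : ringKrullDim A = (d : WithBot ℕ∞)) (he : ringKrullDim B = (e : WithBot ℕ∞)) :
    (e : ℤ) - (I.spanFinrank : ℤ) ≤ (d : ℤ) ∧
      ((e : ℤ) - (I.spanFinrank : ℤ) = (d : ℤ) ↔ Pi1.IsCompleteIntersection A) := by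
  classical
  obtain ⟨e0⟩ := hpres
  obtain ⟨hloc, hnoeth, hcompl, hff, hlh, hmax⟩ := Groth.Agent.Lib.AnUnramH3.completion_facts A
  haveI := hloc
  haveI := hnoeth
  have dA' : ringKrullDim (AdicCompletion (maximalIdeal A) A) = d := by
    rw [Groth.Agent.RegularLib.ringKrullDim_adicCompletion A (maximalIdeal A)
      (IsLocalRing.maximalIdeal.isMaximal A).ne_top, hd]
  have dBI : ringKrullDim (B ⧸ I) = d := by
    rw [← ringKrullDim_eq_of_ringEquiv e0, dA']
  haveI : Nontrivial (B ⧸ I) := e0.injective.nontrivial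
  have hI : I ≠ ⊤ := Ideal.Quotient.nontrivial_iff.mp inferInstance
  haveI : IsLocalRing (B ⧸ I) :=
    IsLocalRing.of_surjective' (Ideal.Quotient.mk _) Ideal.Quotient.mk_surjective
  have h1 := dim_le_quot_add_spanFinrank I hI
  rw [dBI, he] at h1
  have hle : e ≤ d + I.spanFinrank := by exact_mod_cast h1
  refine ⟨by omega, ?_⟩
  constructor
  · intro heq
    have h2 : I.spanFinrank + d ≤ e := by omega
    obtain ⟨rs, hrs, hreg⟩ := regular_of_count I hI I.spanFinrank le_rfl
      (by rw [dBI, he]; exact_mod_cast h2)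
    refine ⟨B, inferInstance, inferInstance, rs, ?_, hreg, ⟨e0.trans (Ideal.quotEquivOfEq ?_)⟩⟩
    · intro r hr
      exact IsLocalRing.le_maximalIdeal hI (hrs ▸ Ideal.subset_span hr)
    · exact hrs.symm
  · rintro ⟨B', _, hB', rs, hmem, hreg, ⟨e'⟩⟩
    obtain ⟨hg, hker⟩ := quot_symm_comp rs (e0.symm.trans e')
    obtain ⟨l, hl, hdim⟩ := core (Ideal.Quotient.mk I) Ideal.Quotient.mk_surjective _ hg rs
      hreg.toIsWeaklyRegular hmem hker
    rw [dBI, he] at hdim
    have h3 : l.length + d ≤ e := by exact_mod_cast hdim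
    have h4 : I.spanFinrank ≤ l.length := by
      rw [Ideal.mk_ker] at hl
      rw [← hl, Ideal.ofList]
      refine (Submodule.spanFinrank_span_le_ncard_of_finite (List.finite_toSet l)).trans ?_
      have : {r | r ∈ l} = (l.toFinset : Set _) := by
        ext r
        simp
      rw [this, Set.ncard_coe_finset]
      exact List.toFinset_card_le l
    omega

end Groth.Agent.Lib.CIInvH8
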