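import Mathlib
import Groth.Agent.Lib.KosH2_helper8

/-!
# First Koszul homology counts under flat base change (helper8)
APPEND-ONLY once landed.
-/

set_option autoImplicit false
set_option maxHeartbeats 400000
universe u

namespace Groth.Agent.Lib.KosH1H8

open IsLocalRing

section basic
variable {A : Type*} [CommRing A] {ι : Type*} [Fintype ι] [DecidableEq ι]

/-- The family annihilates `Z / B`. -/
theorem smul_mem_B {x : ι → A} {a : ι → A} (ha : a ∈ Z x) (i : ι) : x i • a ∈ B x := by
  have h : x i • a = ∑ j, a j • kos x j i := by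
    funext t
    rw [mem_Z] at ha
    simp only [Pi.smul_apply, smul_eq_mul, Finset.sum_apply, kos, Pi.sub_apply, Pi.single_apply,
      mul_sub, mul_ite, mul_zero, Finset.sum_sub_distrib, Finset.sum_ite_eq, Finset.mem_univ,
      if_true]
    by_cases hti : t = i
    · subst hti
      simp only [if_true, ha, sub_zero]
      ring
    · simp only [if_neg hti, Finset.sum_const_zero, sub_zero]
      ring
  rw [h]
  exact Submodule.sum_mem _ (fun j _ => Submodule.smul_mem _ _ (kos_mem_B _ _ _))

theorem ideal_smul_mem_B {x : ι → A} {a : ι → A} (ha : a ∈ Z x) {μ : A}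
    (hμ : μ ∈ Ideal.span (Set.range x)) : μ • a ∈ B x := by
  induction hμ using Submodule.span_induction with
  | mem r h =>
    obtain ⟨i, rfl⟩ := h
    exact smul_mem_B ha i
  | zero => rw [zero_smul]; exact Submodule.zero_mem _
  | add r s _ _ hr hs => rw [add_smul]; exact Submodule.add_mem _ hr hs
  | smul r s _ hs => rw [smul_eq_mul, mul_smul]; exact Submodule.smul_mem _ _ hs

end basic

section flat
variable {A : Type*} (A' : Type*) [CommRing A] [CommRing A'] [Algebra A A']
  {ι : Type*} [Fintype ι] [DecidableEq ι]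

/-- Push a vector forward along the algebra map, as an `A`-linear map. -/
def pushL : (ι → A) →ₗ[A] (ι → A') := (Algebra.linearMap A A').compLeft ι

theorem pushL_apply (a : ι → A) (t : ι) : pushL A' a t = algebraMap A A' (a t) := rfl

theorem pushL_eq (a : ι → A) : pushL A' a = fun t => algebraMap A A' (a t) := rfl

theorem pushL_smul (c : A) (a : ι → A) : pushL A' (c • a) = algebraMap A A' c • pushL A' a := by
  funext t
  simp [pushL_apply]

theorem pushL_kos (x : ι → A) (i j : ι) : pushL A' (kos x i j) = kos (pushL A' x) i j :=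
  comp_kos (algebraMap A A') x i j

theorem pushL_mem_B (x : ι → A) {b : ι → A} (hb : b ∈ B x) : pushL A' b ∈ B (pushL A' x) :=
  comp_mem_B (algebraMap A A') x hb

theorem pushL_mem_Z (x : ι → A) {a : ι → A} (ha : a ∈ Z x) : pushL A' a ∈ Z (pushL A' x) := by
  rw [mem_Z] at ha ⊢
  simp only [pushL_apply, ← map_mul, ← map_sum, ha, map_zero]

/-- Flatness: syzygies upstairs are combinations of syzygies downstairs. -/
theorem flat_mem_span [Module.Flat A A'] (x : ι → A) {a' : ι → A'}
    (ha' : a' ∈ Z (pushL A' x)) :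
    a' ∈ Submodule.span A' (pushL A' '' (Z x : Set (ι → A))) := by
  rw [mem_Z] at ha'
  have h0 : ∑ i, x i • a' i = 0 := by
    rw [← ha']
    refine Finset.sum_congr rfl (fun i _ => ?_)
    rw [Algebra.smul_def, pushL_apply, mul_comm]
  obtain ⟨k, α, y, h1, h2⟩ := Module.Flat.isTrivialRelation_of_sum_smul_eq_zero
    (R := A) (M := A') (f := x) (x := a') h0
  have h3 : a' = ∑ j, y j • pushL A' (fun i => α i j) := by
    funext t
    rw [h1 t, Finset.sum_apply]
    refine Finset.sum_congr rfl (fun j _ => ?_)
    rw [Pi.smul_apply, pushL_apply, Algebra.smul_def, smul_eq_mul, mul_comm]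
  rw [h3]
  refine Submodule.sum_mem _ (fun j _ => Submodule.smul_mem _ _
    (Submodule.subset_span ⟨fun i => α i j, ?_, rfl⟩))
  rw [SetLike.mem_coe, mem_Z, ← h2 j]
  exact Finset.sum_congr rfl (fun i _ => mul_comm _ _)

theorem pushL_mem_span (s : Set (ι → A)) {c : ι → A} (hc : c ∈ Submodule.span A s) :
    pushL A' c ∈ Submodule.span A' (pushL A' '' s) := by
  induction hc using Submodule.span_induction with
  | mem c h => exact Submodule.subset_span ⟨c, h, rfl⟩
  | zero => rw [map_zero]; exact Submodule.zero_mem _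
  | add c d _ _ hc hd => rw [map_add]; exact Submodule.add_mem _ hc hd
  | smul r c _ hc => rw [pushL_smul]; exact Submodule.smul_mem _ _ hc

theorem Gen.ascend [Module.Flat A A'] {x : ι → A} {m : ℕ} (h : Gen x m) :
    Gen (pushL A' x) m := by
  classical
  obtain ⟨s, hs, h1, h2⟩ := h
  refine ⟨s.image (pushL A'), Finset.card_image_le.trans hs, ?_, ?_⟩
  · intro a' ha'
    rw [Finset.coe_image] at ha'
    obtain ⟨a, ha, rfl⟩ := ha'
    exact pushL_mem_Z A' x (h1 ha)
  · intro a' ha'
    have h3 := flat_mem_span A' x ha'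
    refine (Submodule.span_le.2 ?_) h3
    rintro _ ⟨a, ha, rfl⟩
    have h4 := h2 ha
    obtain ⟨b, hb, c, hc, rfl⟩ := Submodule.mem_sup.1 h4
    rw [map_add]
    refine Submodule.add_mem _ (Submodule.mem_sup_left (pushL_mem_B A' x hb))
      (Submodule.mem_sup_right ?_)
    rw [Finset.coe_image]
    exact pushL_mem_span A' _ hc

end flat


section descend
variable {A : Type*} (A' : Type*) [CommRing A] [CommRing A'] [Algebra A A']
  {ι : Type*} [Fintype ι] [DecidableEq ι]

/-- Approximation of syzygies upstairs by syzygies downstairs, modulo Koszul relations. -/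
theorem approx (x : ι → A) (M' : Ideal A')
    (h1 : ∀ c' : A', ∃ c : A, c' - algebraMap A A' c ∈ M')
    (h2 : M' ≤ Ideal.span (Set.range (pushL A' x))) (N : Submodule A (ι → A)) (hN : N ≤ Z x)
    {a' : ι → A'}
    (ha' : a' ∈ Submodule.span A' (pushL A' '' (N : Set (ι → A)) ∪ (B (pushL A' x) : Set _))) :
    a' ∈ Z (pushL A' x) ∧ ∃ a ∈ N, a' - pushL A' a ∈ B (pushL A' x) := by
  induction ha' using Submodule.span_induction with
  | mem a' h =>
    rcases h with ⟨a, ha, rfl⟩ | h
    · exact ⟨pushL_mem_Z A' x (hN ha), a, ha, by rw [sub_self]; exact Submodule.zero_mem _⟩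
    · exact ⟨B_le_Z _ h, 0, Submodule.zero_mem _, by rw [map_zero, sub_zero]; exact h⟩
  | zero =>
    exact ⟨Submodule.zero_mem _, 0, Submodule.zero_mem _, by
      rw [map_zero, sub_zero]; exact Submodule.zero_mem _⟩
  | add a' b' _ _ ha hb =>
    obtain ⟨ha1, a, ha2, ha3⟩ := ha
    obtain ⟨hb1, b, hb2, hb3⟩ := hb
    refine ⟨Submodule.add_mem _ ha1 hb1, a + b, Submodule.add_mem _ ha2 hb2, ?_⟩
    have : a' + b' - pushL A' (a + b) = (a' - pushL A' a) + (b' - pushL A' b) := by
      rw [map_add]; abel
    rw [this]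
    exact Submodule.add_mem _ ha3 hb3
  | smul c' a' _ ha =>
    obtain ⟨ha1, a, ha2, ha3⟩ := ha
    obtain ⟨c, hc⟩ := h1 c'
    refine ⟨Submodule.smul_mem _ _ ha1, c • a, Submodule.smul_mem _ _ ha2, ?_⟩
    have : c' • a' - pushL A' (c • a) =
        algebraMap A A' c • (a' - pushL A' a) + (c' - algebraMap A A' c) • a' := by
      rw [pushL_smul, smul_sub, sub_smul]; abel
    rw [this]
    exact Submodule.add_mem _ (Submodule.smul_mem _ _ ha3) (ideal_smul_mem_B ha1 (h2 hc))

/-- Residue surjectivity upgrades to all powers of the maximal ideal. -/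
theorem exists_approx_pow (M : Ideal A) (M' : Ideal A') (hM : M.map (algebraMap A A') = M')
    (h1 : ∀ c' : A', ∃ c : A, c' - algebraMap A A' c ∈ M') (k : ℕ) :
    ∀ c' : A', ∃ c : A, c' - algebraMap A A' c ∈ M' ^ k := by
  induction k with
  | zero =>
    intro c'
    exact ⟨0, by rw [pow_zero, Ideal.one_eq_top]; exact Submodule.mem_top⟩
  | succ k ih =>
    intro c'
    obtain ⟨c, hc⟩ := ih c'
    have key : ∀ e ∈ (M ^ k).map (algebraMap A A'), ∃ d : A, e - algebraMap A A' d ∈ M' ^ (k + 1) := by
      intro e he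
      have hpow : (M ^ k).map (algebraMap A A') = M' ^ k := by rw [Ideal.map_pow, hM]
      induction he using Submodule.span_induction with
      | mem e h =>
        obtain ⟨m, hm, rfl⟩ := h
        exact ⟨m, by rw [sub_self]; exact Submodule.zero_mem _⟩
      | zero => exact ⟨0, by rw [map_zero, sub_zero]; exact Submodule.zero_mem _⟩
      | add e f _ _ he hf =>
        obtain ⟨d, hd⟩ := he
        obtain ⟨d', hd'⟩ := hf
        refine ⟨d + d', ?_⟩
        have : e + f - algebraMap A A' (d + d') =
            (e - algebraMap A A' d) + (f - algebraMap A A' d') := by rw [map_add]; ring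
        rw [this]
        exact Submodule.add_mem _ hd hd'
      | smul r' e he' he =>
        obtain ⟨d, hd⟩ := he
        obtain ⟨r, hr⟩ := h1 r'
        refine ⟨r * d, ?_⟩
        have : r' • e - algebraMap A A' (r * d) =
            algebraMap A A' r * (e - algebraMap A A' d) + (r' - algebraMap A A' r) * e := by
          rw [map_mul, smul_eq_mul]; ring
        rw [this]
        refine Submodule.add_mem _ (Ideal.mul_mem_left _ _ hd) ?_
        rw [pow_succ']
        have he'' : e ∈ M' ^ k := by
          rw [← hpow]; exact he'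
        exact Ideal.mul_mem_mul hr he''
    have hc' : c' - algebraMap A A' c ∈ (M ^ k).map (algebraMap A A') := by
      rw [Ideal.map_pow, hM]; exact hc
    obtain ⟨d, hd⟩ := key _ hc'
    refine ⟨c + d, ?_⟩
    have : c' - algebraMap A A' (c + d) = (c' - algebraMap A A' c) - algebraMap A A' d := by
      rw [map_add]; ring
    rw [this]
    exact hd

theorem mem_smul_top_of_forall {I : Ideal A} {v : ι → A} (hv : ∀ t, v t ∈ I) :
    v ∈ (I • ⊤ : Submodule A (ι → A)) := by
  have : v = ∑ t, v t • (Pi.single t (1 : A) : ι → A) := by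
    funext s
    simp [Finset.sum_apply, Pi.single_apply]
  rw [this]
  exact Submodule.sum_mem _ (fun t _ => Submodule.smul_mem_smul (hv t) Submodule.mem_top)

/-- Koszul relations descend along a faithfully flat local map with trivial residue extension. -/
theorem push_mem_B_imp [IsLocalRing A] [IsNoetherianRing A] [IsLocalRing A']
    [Module.FaithfullyFlat A A']
    (hmax : (maximalIdeal A).map (algebraMap A A') = maximalIdeal A')
    (h1 : ∀ c' : A', ∃ c : A, c' - algebraMap A A' c ∈ maximalIdeal A')
    (x : ι → A) {a : ι → A} (ha : pushL A' a ∈ B (pushL A' x)) : a ∈ B x := by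
  classical
  -- step (iii): approximation modulo every power
  have hk : ∀ k : ℕ, a ∈ B x ⊔ (maximalIdeal A ^ k • ⊤ : Submodule A (ι → A)) := by
    intro k
    obtain ⟨c', hc'⟩ := (Submodule.mem_span_range_iff_exists_fun A').1 ha
    have h1k := exists_approx_pow A' (maximalIdeal A) (maximalIdeal A') hmax h1 k
    choose c hc using h1k
    let b : ι → A := ∑ p : ι × ι, c (c' p) • kos x p.1 p.2
    have hb : b ∈ B x := Submodule.sum_mem _ (fun p _ => Submodule.smul_mem _ _ (kos_mem_B _ _ _))
    have hpb : pushL A' (a - b) =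
        ∑ p : ι × ι, (c' p - algebraMap A A' (c (c' p))) • kos (pushL A' x) p.1 p.2 := by
      rw [map_sub, ← hc', map_sum, ← Finset.sum_sub_distrib]
      refine Finset.sum_congr rfl (fun p _ => ?_)
      rw [pushL_smul, pushL_kos, sub_smul]
    have hcoord : ∀ t, (a - b) t ∈ maximalIdeal A ^ k := by
      intro t
      have h3 : algebraMap A A' ((a - b) t) ∈ maximalIdeal A' ^ k := by
        rw [← pushL_apply, hpb, Finset.sum_apply]
        refine Ideal.sum_mem _ (fun p _ => ?_)
        rw [Pi.smul_apply, smul_eq_mul]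
        exact Ideal.mul_mem_right _ _ (hc (c' p))
      rw [← Ideal.comap_map_eq_self_of_faithfullyFlat (B := A') (maximalIdeal A ^ k),
        Ideal.mem_comap, Ideal.map_pow, hmax]
      exact h3
    have : a = b + (a - b) := by abel
    rw [this]
    exact Submodule.add_mem _ (Submodule.mem_sup_left hb)
      (Submodule.mem_sup_right (mem_smul_top_of_forall hcoord))
  -- Krull intersection in the quotient
  have hK := Ideal.iInf_pow_smul_eq_bot_of_isLocalRing (R := A) (M := (ι → A) ⧸ B x)
    (maximalIdeal A) (maximalIdeal.isMaximal A).ne_top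
  have hq : (B x).mkQ a ∈ (⨅ i : ℕ, maximalIdeal A ^ i • ⊤ : Submodule A ((ι → A) ⧸ B x)) := by
    rw [Submodule.mem_iInf]
    intro k
    obtain ⟨b, hb, m, hm, hbm⟩ := Submodule.mem_sup.1 (hk k)
    have hb0 : (B x).mkQ b = 0 := (Submodule.Quotient.mk_eq_zero _).2 hb
    rw [← hbm, map_add, hb0, zero_add]
    have : (B x).mkQ m ∈ Submodule.map (B x).mkQ (maximalIdeal A ^ k • ⊤ : Submodule A (ι → A)) :=
      Submodule.mem_map_of_mem hm
    rw [Submodule.map_smul''] at this
    exact Submodule.smul_mono le_rfl le_top this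
  rw [hK, Submodule.mem_bot] at hq
  exact (Submodule.Quotient.mk_eq_zero _).1 hq

theorem Gen.descend [IsLocalRing A] [IsNoetherianRing A] [IsLocalRing A']
    [Module.FaithfullyFlat A A']
    (hmax : (maximalIdeal A).map (algebraMap A A') = maximalIdeal A')
    (h1 : ∀ c' : A', ∃ c : A, c' - algebraMap A A' c ∈ maximalIdeal A')
    (x : ι → A) (hx : Ideal.span (Set.range x) = maximalIdeal A) {m : ℕ}
    (h : Gen (pushL A' x) m) : Gen x m := by
  classical
  obtain ⟨s', hs', hs1, hs2⟩ := h
  have h2 : maximalIdeal A' ≤ Ideal.span (Set.range (pushL A' x)) := by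
    rw [← hmax, ← hx, Ideal.map_span]
    apply Ideal.span_mono
    rintro _ ⟨_, ⟨i, rfl⟩, rfl⟩
    exact ⟨i, rfl⟩
  -- choose approximations of the generators
  have hex : ∀ σ : ι → A', σ ∈ s' → ∃ a ∈ Z x, σ - pushL A' a ∈ B (pushL A' x) := by
    intro σ hσ
    have h3 := flat_mem_span A' x (hs1 hσ)
    exact (approx A' x (maximalIdeal A') h1 h2 (Z x) le_rfl
      (Submodule.span_mono Set.subset_union_left h3)).2
  let g : (ι → A') → (ι → A) := fun σ => if hσ : σ ∈ s' then Classical.choose (hex σ hσ) else 0
  have hg1 : ∀ σ ∈ s', g σ ∈ Z x := by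
    intro σ hσ
    simp only [g, dif_pos hσ]
    exact (Classical.choose_spec (hex σ hσ)).1
  have hg2 : ∀ σ ∈ s', σ - pushL A' (g σ) ∈ B (pushL A' x) := by
    intro σ hσ
    simp only [g, dif_pos hσ]
    exact (Classical.choose_spec (hex σ hσ)).2
  refine ⟨s'.image g, Finset.card_image_le.trans hs', ?_, ?_⟩
  · intro a ha
    rw [Finset.coe_image] at ha
    obtain ⟨σ, hσ, rfl⟩ := ha
    exact hg1 σ hσ
  · intro z hz
    set N : Submodule A (ι → A) := B x ⊔ Submodule.span A ((s'.image g : Finset _) : Set (ι → A))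
      with hNdef
    have hN : N ≤ Z x := by
      refine sup_le (B_le_Z x) (Submodule.span_le.2 ?_)
      intro a ha
      rw [Finset.coe_image] at ha
      obtain ⟨σ, hσ, rfl⟩ := ha
      exact hg1 σ hσ
    have h3 : pushL A' z ∈ Submodule.span A'
        (pushL A' '' (N : Set (ι → A)) ∪ (B (pushL A' x) : Set _)) := by
      have h4 := hs2 (pushL_mem_Z A' x hz)
      have hle : B (pushL A' x) ⊔ Submodule.span A' (↑s' : Set (ι → A')) ≤ Submodule.span A'
          (pushL A' '' (N : Set (ι → A)) ∪ (B (pushL A' x) : Set _)) := by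
        refine sup_le ?_ (Submodule.span_le.2 ?_)
        · intro b hb
          exact Submodule.subset_span (Or.inr hb)
        · intro σ hσ
          have hσ' : σ ∈ s' := hσ
          have : σ = pushL A' (g σ) + (σ - pushL A' (g σ)) := by abel
          rw [this]
          refine Submodule.add_mem _ (Submodule.subset_span (Or.inl ⟨g σ, ?_, rfl⟩))
            (Submodule.subset_span (Or.inr (hg2 σ hσ')))
          exact Submodule.mem_sup_right (Submodule.subset_span (Finset.mem_image_of_mem g hσ'))
      exact hle h4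
    obtain ⟨-, a, haN, hdiff⟩ := approx A' x (maximalIdeal A') h1 h2 N hN h3
    rw [← map_sub] at hdiff
    have h5 := push_mem_B_imp A' hmax h1 x hdiff
    have : z = (z - a) + a := by abel
    rw [this]
    exact Submodule.add_mem _ (Submodule.mem_sup_left h5) haN

end descend

end Groth.Agent.Lib.KosH1H8
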