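import Mathlib
import Groth.Agent.Lib.KosH3_helper8

/-!
# First Koszul homology counts along a flat local homomorphism (helper8)
APPEND-ONLY once landed.
-/

set_option autoImplicit false
set_option maxHeartbeats 800000
universe u

namespace Groth.Agent.Lib.KosH1H8

open IsLocalRing

section flatsum
variable {A C : Type*} [CommRing A] [CommRing C] [Algebra A C]
  {ι κ : Type*} [Fintype ι] [DecidableEq ι] [Fintype κ] [DecidableEq κ]

theorem kos_inr_inr (z : ι ⊕ κ → C) (j j' : κ) :
    (kos z (Sum.inr j) (Sum.inr j')) ∘ Sum.inr = kos (z ∘ Sum.inr) j j' := by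
  funext t
  simp only [kos, Function.comp_apply, Pi.sub_apply, Pi.single_apply, Sum.inr.injEq]

theorem kos_inl_inl (z : ι ⊕ κ → C) (i i' : ι) :
    kos z (Sum.inl i) (Sum.inl i') = Sum.elim (kos (z ∘ Sum.inl) i i') 0 := by
  funext t
  rcases t with t | t
  · simp only [kos, Function.comp_apply, Pi.sub_apply, Pi.single_apply, Sum.inl.injEq,
      Sum.elim_inl]
  · simp only [kos, Pi.sub_apply, Pi.single_apply, Sum.elim_inr, Pi.zero_apply]
    simp

/-- extension by zero on the second block -/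
def inlL : (ι → C) →ₗ[C] (ι ⊕ κ → C) where
  toFun u := Sum.elim u 0
  map_add' u v := by
    funext t
    rcases t with t | t <;> simp
  map_smul' r u := by
    funext t
    rcases t with t | t <;> simp

theorem inlL_apply (u : ι → C) : (inlL (κ := κ) u : ι ⊕ κ → C) = Sum.elim u 0 := rfl

theorem inlL_B_le (z : ι ⊕ κ → C) : (B (z ∘ Sum.inl)).map (inlL (κ := κ)) ≤ B z := by
  rw [B, Submodule.map_span, Submodule.span_le]
  rintro _ ⟨_, ⟨p, rfl⟩, rfl⟩
  rw [inlL_apply, ← kos_inl_inl]
  exact kos_mem_B _ _ _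

theorem Gen.flat_sum [Module.Flat A C] (I : Ideal A) (x : ι → A)
    (hx : Ideal.span (Set.range x) = I) (y : κ → C) {a b : ℕ}
    (ha : Gen x a) (hb : Gen (pushL (C ⧸ I.map (algebraMap A C)) y) b) :
    Gen (Sum.elim (pushL C x) y) (a + b) := by
  classical
  obtain ⟨s, hs, hs1, hs2⟩ := ha
  obtain ⟨tb, htb, htb1, htb2⟩ := hb
  have hJspan : I.map (algebraMap A C) = Ideal.span (Set.range (pushL C x)) := by
    rw [← hx, Ideal.map_span]
    congr 1
    ext c
    constructor
    · rintro ⟨_, ⟨i, rfl⟩, rfl⟩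
      exact ⟨i, rfl⟩
    · rintro ⟨i, rfl⟩
      exact ⟨x i, ⟨i, rfl⟩, rfl⟩
  -- lifts of the generators of the fibre
  have hlift : ∀ τb : κ → C ⧸ I.map (algebraMap A C), τb ∈ tb →
      ∃ w : ι ⊕ κ → C, w ∈ Z (Sum.elim (pushL C x) y) ∧
        pushL (C ⧸ I.map (algebraMap A C)) (w ∘ Sum.inr) = τb := by
    intro τb hτb
    have hsurj : ∀ j, ∃ c : C, Ideal.Quotient.mk (I.map (algebraMap A C)) c = τb j :=
      fun j => Ideal.Quotient.mk_surjective _
    choose τ hτ using hsurj
    have hmem : ∑ j, τ j * y j ∈ I.map (algebraMap A C) := by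
      rw [← Ideal.Quotient.eq_zero_iff_mem, map_sum]
      have h0 := mem_Z.1 (htb1 hτb)
      rw [← h0]
      refine Finset.sum_congr rfl (fun j _ => ?_)
      rw [map_mul, hτ j]
      rfl
    rw [hJspan] at hmem
    obtain ⟨ρ, hρ⟩ := (Ideal.mem_span_range_iff_exists_fun).1 hmem
    refine ⟨Sum.elim (-ρ) τ, ?_, ?_⟩
    · rw [mem_Z, Fintype.sum_sum_type]
      simp only [Sum.elim_inl, Sum.elim_inr, Pi.neg_apply, neg_mul, Finset.sum_neg_distrib]
      rw [hρ]
      ring
    · funext j
      rw [pushL_apply]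
      exact hτ j
  let w : (κ → C ⧸ I.map (algebraMap A C)) → (ι ⊕ κ → C) :=
    fun τb => if h : τb ∈ tb then Classical.choose (hlift τb h) else 0
  have hw1 : ∀ τb ∈ tb, w τb ∈ Z (Sum.elim (pushL C x) y) := by
    intro τb h
    simp only [w, dif_pos h]
    exact (Classical.choose_spec (hlift τb h)).1
  have hw2 : ∀ τb ∈ tb, pushL (C ⧸ I.map (algebraMap A C)) (w τb ∘ Sum.inr) = τb := by
    intro τb h
    simp only [w, dif_pos h]
    exact (Classical.choose_spec (hlift τb h)).2
  let v : (ι → A) → (ι ⊕ κ → C) := fun σ => inlL (pushL C σ)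
  have hv1 : ∀ σ ∈ s, v σ ∈ Z (Sum.elim (pushL C x) y) := by
    intro σ hσ
    have h0 := mem_Z.1 (pushL_mem_Z C x (hs1 hσ))
    rw [mem_Z, Fintype.sum_sum_type]
    simp only [v, inlL_apply, Sum.elim_inl, Sum.elim_inr, Pi.zero_apply, zero_mul,
      Finset.sum_const_zero, add_zero]
    exact h0
  refine ⟨s.image v ∪ tb.image w, ?_, ?_, ?_⟩
  · exact (Finset.card_union_le _ _).trans
      (add_le_add (Finset.card_image_le.trans hs) (Finset.card_image_le.trans htb))
  · intro c hc
    rw [Finset.coe_union, Finset.coe_image, Finset.coe_image] at hc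
    rcases hc with ⟨σ, hσ, rfl⟩ | ⟨τb, hτb, rfl⟩
    · exact hv1 σ hσ
    · exact hw1 τb hτb
  · set z : ι ⊕ κ → C := Sum.elim (pushL C x) y with hz
    set W : Submodule C (ι ⊕ κ → C) :=
      B z ⊔ Submodule.span C ((s.image v ∪ tb.image w : Finset _) : Set (ι ⊕ κ → C)) with hW
    have hWZ : W ≤ Z z := by
      refine sup_le (B_le_Z z) (Submodule.span_le.2 ?_)
      intro c hc
      rw [Finset.coe_union, Finset.coe_image, Finset.coe_image] at hc
      rcases hc with ⟨σ, hσ, rfl⟩ | ⟨τb, hτb, rfl⟩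
      · exact hv1 σ hσ
      · exact hw1 τb hτb
    -- the projection to the fibre
    let Φ : (ι ⊕ κ → C) →ₗ[C] (κ → C ⧸ I.map (algebraMap A C)) :=
      (pushL (C ⧸ I.map (algebraMap A C))).comp (LinearMap.funLeft C C Sum.inr)
    have hΦ : ∀ c, Φ c = pushL (C ⧸ I.map (algebraMap A C)) (c ∘ Sum.inr) := fun c => rfl
    have hsurjF : Function.Surjective (algebraMap C (C ⧸ I.map (algebraMap A C))) :=
      Ideal.Quotient.mk_surjective
    have hclaimA : ∀ ub ∈ B (pushL (C ⧸ I.map (algebraMap A C)) y) ⊔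
        Submodule.span (C ⧸ I.map (algebraMap A C)) (↑tb : Set (κ → C ⧸ I.map (algebraMap A C))),
        ub ∈ W.map Φ := by
      intro ub hub
      have h1 : B (pushL (C ⧸ I.map (algebraMap A C)) y) ⊔
          Submodule.span (C ⧸ I.map (algebraMap A C)) (↑tb : Set _) =
          Submodule.span (C ⧸ I.map (algebraMap A C))
            (Set.range (fun p : κ × κ => kos (pushL (C ⧸ I.map (algebraMap A C)) y) p.1 p.2) ∪ ↑tb) := by
        rw [Submodule.span_union]
        rfl
      rw [h1] at hub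
      have h2 : ub ∈ Submodule.restrictScalars C (Submodule.span (C ⧸ I.map (algebraMap A C))
          (Set.range (fun p : κ × κ => kos (pushL (C ⧸ I.map (algebraMap A C)) y) p.1 p.2) ∪ ↑tb)) :=
        hub
      rw [Submodule.restrictScalars_span C (C ⧸ I.map (algebraMap A C)) hsurjF] at h2
      refine (Submodule.span_le.2 ?_) h2
      rintro _ (⟨p, rfl⟩ | hτb)
      · refine ⟨kos z (Sum.inr p.1) (Sum.inr p.2), Submodule.mem_sup_left (kos_mem_B _ _ _), ?_⟩
        rw [hΦ, kos_inr_inr, pushL_kos]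
        rfl
      · rename_i τb
        refine ⟨w τb, Submodule.mem_sup_right (Submodule.subset_span ?_), ?_⟩
        · rw [Finset.coe_union]
          exact Or.inr (Finset.mem_image_of_mem w hτb)
        · rw [hΦ]; exact hw2 τb hτb
    intro c hc
    -- Step 1: the fibre part
    have hcb : pushL (C ⧸ I.map (algebraMap A C)) (c ∘ Sum.inr) ∈
        Z (pushL (C ⧸ I.map (algebraMap A C)) y) := by
      rw [mem_Z]
      have h0 := mem_Z.1 hc
      rw [Fintype.sum_sum_type] at h0
      have h3 : ∑ j, c (Sum.inr j) * y j = - ∑ i, c (Sum.inl i) * pushL C x i := by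
        have : ∑ j, c (Sum.inr j) * y j = ∑ j, c (Sum.inr j) * z (Sum.inr j) := rfl
        rw [this]
        have h4 : ∑ i, c (Sum.inl i) * pushL C x i = ∑ i, c (Sum.inl i) * z (Sum.inl i) := rfl
        rw [h4]
        linear_combination h0
      have h5 : (∑ j, c (Sum.inr j) * y j) ∈ I.map (algebraMap A C) := by
        rw [h3, hJspan]
        refine neg_mem (Ideal.sum_mem _ (fun i _ => ?_))
        exact Ideal.mul_mem_left _ _ (Ideal.subset_span ⟨i, rfl⟩)
      rw [← Ideal.Quotient.eq_zero_iff_mem, map_sum] at h5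
      rw [← h5]
      refine Finset.sum_congr rfl (fun j _ => ?_)
      rw [map_mul]
      rfl
    obtain ⟨w0, hw0W, hw0⟩ := hclaimA _ (htb2 hcb)
    rw [hΦ] at hw0
    -- Step 2: kill the second block
    have hc1 : c - w0 ∈ Z z := Submodule.sub_mem _ hc (hWZ hw0W)
    have hcoord : ∀ j, (c - w0) (Sum.inr j) ∈ Ideal.span (Set.range (pushL C x)) := by
      intro j
      rw [← hJspan, ← Ideal.Quotient.eq_zero_iff_mem]
      have := congrFun hw0 j
      rw [pushL_apply, pushL_apply] at this
      rw [Pi.sub_apply, map_sub, sub_eq_zero]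
      exact this.symm
    have hβ : ∀ j, ∃ β : ι → C, ∑ i, β i * pushL C x i = (c - w0) (Sum.inr j) :=
      fun j => (Ideal.mem_span_range_iff_exists_fun).1 (hcoord j)
    choose β hβ' using hβ
    let k : ι ⊕ κ → C := ∑ j, ∑ i, β j i • kos z (Sum.inr j) (Sum.inl i)
    have hkB : k ∈ B z := Submodule.sum_mem _ (fun j _ => Submodule.sum_mem _
      (fun i _ => Submodule.smul_mem _ _ (kos_mem_B _ _ _)))
    have hk_inr : ∀ j, k (Sum.inr j) = (c - w0) (Sum.inr j) := by
      intro j
      rw [← hβ' j]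
      simp only [k, Finset.sum_apply, Pi.smul_apply, smul_eq_mul, kos, Pi.sub_apply,
        Pi.single_apply, Sum.inr.injEq, reduceCtorEq, if_false, sub_zero]
      rw [Finset.sum_eq_single j]
      · simp only [if_true]
        rfl
      · intro j' _ hj'
        simp only [if_neg (Ne.symm hj'), mul_zero, Finset.sum_const_zero]
      · intro h; exact absurd (Finset.mem_univ j) h
    -- Step 3: the first block
    set c2 : ι ⊕ κ → C := c - w0 - k with hc2
    have hc2Z : c2 ∈ Z z := Submodule.sub_mem _ hc1 (B_le_Z z hkB)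
    have hc2_inr : ∀ j, c2 (Sum.inr j) = 0 := by
      intro j
      rw [hc2, Pi.sub_apply, hk_inr j, sub_self]
    have hc2eq : c2 = inlL (c2 ∘ Sum.inl) := by
      funext t
      rcases t with t | t
      · rfl
      · rw [inlL_apply, Sum.elim_inr, Pi.zero_apply]; exact hc2_inr t
    have hu : (c2 ∘ Sum.inl) ∈ Z (pushL C x) := by
      rw [mem_Z]
      have h0 := mem_Z.1 hc2Z
      rw [Fintype.sum_sum_type] at h0
      simp only [hc2_inr, zero_mul, Finset.sum_const_zero, add_zero] at h0
      exact h0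
    have hu2 : (c2 ∘ Sum.inl) ∈ B (pushL C x) ⊔
        Submodule.span C (pushL C '' (↑s : Set (ι → A))) := by
      have h3 := flat_mem_span C x hu
      refine (Submodule.span_le.2 ?_) h3
      rintro _ ⟨a0, ha0, rfl⟩
      obtain ⟨b0, hb0, d0, hd0, rfl⟩ := Submodule.mem_sup.1 (hs2 ha0)
      rw [map_add]
      exact Submodule.add_mem _ (Submodule.mem_sup_left (pushL_mem_B C x hb0))
        (Submodule.mem_sup_right (pushL_mem_span C _ hd0))
    have hc2W : c2 ∈ W := by
      rw [hc2eq]
      obtain ⟨b0, hb0, d0, hd0, hbd⟩ := Submodule.mem_sup.1 hu2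
      rw [← hbd, map_add]
      refine Submodule.add_mem _ (Submodule.mem_sup_left ?_) (Submodule.mem_sup_right ?_)
      · exact inlL_B_le z (Submodule.mem_map_of_mem hb0)
      · have h4 : inlL (κ := κ) d0 ∈ Submodule.map (inlL (κ := κ))
            (Submodule.span C (pushL C '' (↑s : Set (ι → A)))) := Submodule.mem_map_of_mem hd0
        rw [Submodule.map_span] at h4
        refine (Submodule.span_mono ?_) h4
        rintro _ ⟨_, ⟨σ, hσ, rfl⟩, rfl⟩
        rw [Finset.coe_union]
        exact Or.inl (Finset.mem_image_of_mem v hσ)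
    have : c = c2 + k + w0 := by rw [hc2]; abel
    rw [this]
    exact Submodule.add_mem _ (Submodule.add_mem _ hc2W (Submodule.mem_sup_left hkB)) hw0W

end flatsum

end Groth.Agent.Lib.KosH1H8
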