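import Mathlib
import Groth.Agent.Lib.CIInvC_helper8
import Groth.Agent.Lib.KosH4_helper8
import Groth.Agent.Lib.CohenStruct_helper3
import Groth.Agent.Lib.RegPS_helper3
import Groth.Agent.Lib.NonVan2_helper7

/-!
# Complete intersections via the first Koszul homology (helper8)
APPEND-ONLY once landed.
-/

set_option autoImplicit false
set_option maxHeartbeats 800000
universe u

namespace Groth.Agent.Lib.CIInvH8

open IsLocalRing RingTheory.Sequence Groth.Agent.DepthLib Groth.Agent.Lib.KosH1H8

/-- "Absolute" complete intersection: a quotient of a regular local ring by a regular sequence. -/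
def AbsCI (C : Type u) [CommRing C] : Prop :=
  ∃ (B : Type u) (_ : CommRing B) (_ : IsRegularLocalRing B) (rs : List B),
    (∀ r ∈ rs, r ∈ IsLocalRing.maximalIdeal B) ∧ RingTheory.Sequence.IsRegular B rs ∧
    Nonempty (C ≃+* B ⧸ Ideal.span {r | r ∈ rs})

theorem ci_iff_absCI (A : Type u) [CommRing A] [IsLocalRing A] :
    Pi1.IsCompleteIntersection A ↔ AbsCI (AdicCompletion (maximalIdeal A) A) := Iff.rfl

/-- The dimension is at most the number of generators of the maximal ideal. -/
theorem dim_le_card {C : Type u} [CommRing C] [IsLocalRing C] [IsNoetherianRing C] {n : ℕ}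
    (z : Fin n → C) (hz : Ideal.span (Set.range z) = maximalIdeal C) (d : ℕ)
    (hd : ringKrullDim C = d) : d ≤ n := by
  have h1 := dim_le_quot_add_spanFinrank (maximalIdeal C) (maximalIdeal.isMaximal C).ne_top
  have h2 : ringKrullDim (C ⧸ maximalIdeal C) = 0 :=
    ringKrullDim_eq_zero_of_isField
      ((Ideal.Quotient.maximal_ideal_iff_isField_quotient _).1 (maximalIdeal.isMaximal C))
  rw [h2, zero_add, hd] at h1
  have h3 : (maximalIdeal C).spanFinrank ≤ n := by
    rw [← hz]
    refine (Submodule.spanFinrank_span_le_ncard_of_finite (Set.finite_range z)).trans ?_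
    have := Set.ncard_image_le (f := z) (Set.finite_univ (α := Fin n))
    rw [Set.image_univ, Set.ncard_univ, Nat.card_fin] at this
    exact this
  have h4 : d ≤ (maximalIdeal C).spanFinrank := by exact_mod_cast h1
  exact h4.trans h3

theorem span_range_comp {R C : Type*} [CommRing R] [CommRing C] [IsLocalRing R] [IsLocalRing C]
    (f : R →+* C) (hf : Function.Surjective f) (xs : List R)
    (hxs : Ideal.ofList xs = maximalIdeal R) :
    Ideal.span (Set.range fun i : Fin xs.length => f xs[i]) = maximalIdeal C := by
  have h1 := map_maximalIdeal_of_surjective f hf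
  rw [← h1, ← hxs, ← span_range_getElem, Ideal.map_span]
  congr 1
  ext a
  simp

/-- Complete local case: `C` is a quotient of a regular local ring by a regular sequence iff the
first Koszul homology on `n` generators of the maximal ideal needs at most `n - dim C`
generators. -/
theorem absCI_iff_gen (C : Type u) [CommRing C] [IsLocalRing C] [IsNoetherianRing C]
    [IsAdicComplete (maximalIdeal C) C] {n : ℕ} (z : Fin n → C)
    (hz : Ideal.span (Set.range z) = maximalIdeal C) (d : ℕ) (hd : ringKrullDim C = d) :
    AbsCI C ↔ Gen z (n - d) := by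
  classical
  have hdn : d ≤ n := dim_le_card z hz d hd
  constructor
  · rintro ⟨B', _, hB', rs, hmem, hreg, ⟨e⟩⟩
    obtain ⟨hg, hker⟩ := quot_symm_comp rs e
    set g : B' →+* C := e.symm.toRingHom.comp (Ideal.Quotient.mk (Ideal.span {r | r ∈ rs}))
      with hgdef
    obtain ⟨ys, hys, hylen, hyreg⟩ := exists_rsop B'
    have hZBy := Z_le_B_of_isWeaklyRegular ys hyreg
    have hyspan : Ideal.span (Set.range fun i : Fin ys.length => ys[i]) = maximalIdeal B' := by
      rw [span_range_getElem, hys]
    have hkg : RingHom.ker g ≤ maximalIdeal B' :=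
      IsLocalRing.le_maximalIdeal (RingHom.ker_ne_top g)
    have hgy := span_range_comp g hg ys hys
    have hGy : Gen (fun i : Fin ys.length => g ys[i]) rs.length :=
      Gen.of_ker g hg (fun i : Fin ys.length => ys[i]) hZBy rs hker.symm
        (by rw [hyspan]; exact hkg)
    obtain ⟨hle, hGz⟩ := Gen.transfer z (fun i : Fin ys.length => g ys[i]) hz hgy hGy
    have hCM : LocCoh.IsCohenMacaulayModule B' B' := _root_.RegUCH8.isCM_of_regular B'
    have hdimB := ((isCM_list rs B' hCM hmem).1).mp hreg.toIsWeaklyRegular
    rw [supportDim_quot_smul_top_self, Module.supportDim_self_eq_ringKrullDim] at hdimB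
    have hAB : ringKrullDim (B' ⧸ Ideal.ofList rs) = ringKrullDim C := by
      rw [← hker]
      exact ringKrullDim_eq_of_ringEquiv (RingHom.quotientKerEquivOfSurjective hg)
    rw [hAB, hd, ← hylen] at hdimB
    have h1 : d + rs.length = ys.length := by exact_mod_cast hdimB
    have h2 : rs.length + n - ys.length = n - d := by omega
    rw [h2] at hGz
    exact hGz
  · intro hG
    obtain ⟨Λ, instΛ, N, f, hΛ, hf⟩ :=
      Groth.Agent.Lib.CohenStructH3.exists_surjective_of_complete C (IsNoetherian.noetherian _)
    haveI hΛreg : IsRegularLocalRing Λ := by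
      rcases hΛ with hΛ | hΛ
      · exact Groth.Agent.Lib.NonVan2H7.isRegularLocalRing_of_isField Λ hΛ
      · obtain ⟨hdom, hdvr, -, -⟩ := hΛ
        infer_instance
    haveI hreg : IsRegularLocalRing (MvPowerSeries (Fin N) Λ) :=
      Groth.Agent.Lib.RegPSH3.isRegularLocalRing_mvPowerSeries Λ N
    obtain ⟨xs, hxs, hxlen, hxreg⟩ := exists_rsop (MvPowerSeries (Fin N) Λ)
    have hxspan : Ideal.span (Set.range fun i : Fin xs.length => xs[i]) =
        maximalIdeal (MvPowerSeries (Fin N) Λ) := by
      rw [span_range_getElem, hxs]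
    have hkf : RingHom.ker f ≤ maximalIdeal (MvPowerSeries (Fin N) Λ) :=
      IsLocalRing.le_maximalIdeal (RingHom.ker_ne_top f)
    have hfx := span_range_comp f hf xs hxs
    obtain ⟨hle, hGx⟩ := Gen.transfer (fun i : Fin xs.length => f xs[i]) z hfx hz hG
    obtain ⟨l, hl, hlker⟩ := Gen.ker_fg f hf (fun i : Fin xs.length => xs[i]) hxspan hkf hGx
    have hdimq : ringKrullDim (MvPowerSeries (Fin N) Λ ⧸ RingHom.ker f) = d := by
      rw [← hd]
      exact ringKrullDim_eq_of_ringEquiv (RingHom.quotientKerEquivOfSurjective hf)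
    have hcount : l.length + d ≤ xs.length := by omega
    have hspan : (RingHom.ker f).spanFinrank ≤ l.length := by
      rw [← hlker, Ideal.ofList]
      refine (Submodule.spanFinrank_span_le_ncard_of_finite (List.finite_toSet l)).trans ?_
      have : {r | r ∈ l} = (l.toFinset : Set _) := by
        ext r
        simp
      rw [this, Set.ncard_coe_finset]
      exact List.toFinset_card_le l
    obtain ⟨rs, hrs, hrsreg⟩ := regular_of_count (RingHom.ker f) (RingHom.ker_ne_top f) l.length
      hspan (by rw [hdimq, ← hxlen]; exact_mod_cast hcount)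
    refine ⟨MvPowerSeries (Fin N) Λ, inferInstance, hreg, rs, ?_, hrsreg,
      ⟨(RingHom.quotientKerEquivOfSurjective hf).symm.trans (Ideal.quotEquivOfEq ?_)⟩⟩
    · intro r hr
      exact hkf (hrs ▸ Ideal.subset_span hr)
    · exact hrs.symm

/-- Residue fields of a Noetherian local ring and of its completion agree. -/
theorem completion_residue (A : Type u) [CommRing A] [IsLocalRing A] [IsNoetherianRing A]
    [IsLocalRing (AdicCompletion (maximalIdeal A) A)]
    (hmax : (maximalIdeal A).map (algebraMap A (AdicCompletion (maximalIdeal A) A)) =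
      maximalIdeal (AdicCompletion (maximalIdeal A) A)) :
    ∀ c' : AdicCompletion (maximalIdeal A) A, ∃ c : A,
      c' - algebraMap A (AdicCompletion (maximalIdeal A) A) c ∈
        maximalIdeal (AdicCompletion (maximalIdeal A) A) := by
  intro c'
  obtain ⟨c, hc⟩ := Ideal.Quotient.mk_surjective (AdicCompletion.evalOneₐ (maximalIdeal A) c')
  refine ⟨c, ?_⟩
  rw [← hmax, ← AdicCompletion.ker_evalOneₐ_eq_map (maximalIdeal A) (IsNoetherian.noetherian _),
    RingHom.mem_ker]
  change (AdicCompletion.evalOneₐ (maximalIdeal A)) (c' - _) = 0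
  rw [map_sub, AlgHom.commutes, ← hc, sub_eq_zero]
  rfl

/-- **Intrinsic characterization of complete intersections**. -/
theorem ci_iff_gen (A : Type u) [CommRing A] [IsLocalRing A] [IsNoetherianRing A] {n : ℕ}
    (x : Fin n → A) (hx : Ideal.span (Set.range x) = maximalIdeal A) (d : ℕ)
    (hd : ringKrullDim A = d) :
    Pi1.IsCompleteIntersection A ↔ Gen x (n - d) := by
  obtain ⟨hloc, hnoeth, hcompl, hff, hlh, hmax⟩ := Groth.Agent.Lib.AnUnramH3.completion_facts A
  haveI := hloc
  haveI := hnoeth
  haveI := hff
  haveI := hcompl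
  have hres := completion_residue A hmax
  have hx' : Ideal.span (Set.range (pushL (AdicCompletion (maximalIdeal A) A) x)) =
      maximalIdeal (AdicCompletion (maximalIdeal A) A) := by
    rw [← hmax, ← hx, Ideal.map_span]
    congr 1
    ext c
    constructor
    · rintro ⟨i, rfl⟩
      exact ⟨x i, ⟨i, rfl⟩, rfl⟩
    · rintro ⟨_, ⟨i, rfl⟩, rfl⟩
      exact ⟨i, rfl⟩
  have hd' : ringKrullDim (AdicCompletion (maximalIdeal A) A) = d := by
    rw [Groth.Agent.RegularLib.ringKrullDim_adicCompletion A (maximalIdeal A)
      (IsLocalRing.maximalIdeal.isMaximal A).ne_top, hd]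
  rw [ci_iff_absCI, absCI_iff_gen (AdicCompletion (maximalIdeal A) A)
    (pushL (AdicCompletion (maximalIdeal A) A) x) hx' d hd']
  constructor
  · exact Gen.descend (AdicCompletion (maximalIdeal A) A) hmax hres x hx
  · exact Gen.ascend (AdicCompletion (maximalIdeal A) A)

end Groth.Agent.Lib.CIInvH8
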