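import Mathlib
import Groth.Agent.Lib.CIGen_helper8
import Groth.Agent.Lib.FlatCM_helper9

/-!
# Ascent of complete intersections along flat local homomorphisms (helper8)
APPEND-ONLY once landed.
-/

set_option autoImplicit false
set_option maxHeartbeats 800000
universe u

namespace Groth.Agent.Lib.CIInvH8

open IsLocalRing RingTheory.Sequence Groth.Agent.DepthLib Groth.Agent.Lib.KosH1H8

theorem exists_fin_gen (A : Type u) [CommRing A] [IsLocalRing A] [IsNoetherianRing A] :
    ∃ (n : ℕ) (x : Fin n → A), Ideal.span (Set.range x) = maximalIdeal A :=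
  Submodule.fg_iff_exists_fin_generating_family.1 (IsNoetherian.noetherian (maximalIdeal A))

/-- **Ascent**: for a flat local homomorphism `A → B` of Noetherian local rings, if `A` and the
closed fibre `B / 𝔪_A B` are complete intersections then so is `B`. -/
theorem ci_of_flat_local (A B : Type u) [CommRing A] [CommRing B] [IsLocalRing A] [IsLocalRing B]
    [IsNoetherianRing A] [IsNoetherianRing B] [Algebra A B] [IsLocalHom (algebraMap A B)]
    [Module.Flat A B] [IsLocalRing (B ⧸ (maximalIdeal A).map (algebraMap A B))]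
    (hA : Pi1.IsCompleteIntersection A)
    (hF : Pi1.IsCompleteIntersection (B ⧸ (maximalIdeal A).map (algebraMap A B))) :
    Pi1.IsCompleteIntersection B := by
  classical
  obtain ⟨n, x, hx⟩ := exists_fin_gen A
  obtain ⟨m, yb, hyb⟩ := exists_fin_gen (B ⧸ (maximalIdeal A).map (algebraMap A B))
  obtain ⟨dA, hdA⟩ := Equi133H8.exists_nat_ringKrullDim A
  obtain ⟨dF, hdF⟩ := Equi133H8.exists_nat_ringKrullDim (B ⧸ (maximalIdeal A).map (algebraMap A B))
  have hGA := (ci_iff_gen A x hx dA hdA).1 hA
  have hGF := (ci_iff_gen _ yb hyb dF hdF).1 hF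
  have hnA := dim_le_card x hx dA hdA
  have hmF := dim_le_card yb hyb dF hdF
  have hsurj : ∀ j, ∃ c : B, Ideal.Quotient.mk ((maximalIdeal A).map (algebraMap A B)) c = yb j :=
    fun j => Ideal.Quotient.mk_surjective _
  choose y hy using hsurj
  have hyb' : pushL (B ⧸ (maximalIdeal A).map (algebraMap A B)) y = yb := funext hy
  have hsum := Gen.flat_sum (maximalIdeal A) x hx y (a := n - dA) (b := m - dF) hGA
    (by rw [hyb']; exact hGF)
  have hre := hsum.reindex (finSumFinEquiv (m := n) (n := m)).symm
  have hJspan : (maximalIdeal A).map (algebraMap A B) = Ideal.span (Set.range (pushL B x)) := by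
    rw [← hx, Ideal.map_span]
    congr 1
    ext c
    constructor
    · rintro ⟨_, ⟨i, rfl⟩, rfl⟩
      exact ⟨i, rfl⟩
    · rintro ⟨i, rfl⟩
      exact ⟨x i, ⟨i, rfl⟩, rfl⟩
  have hzspan : Ideal.span (Set.range (Sum.elim (pushL B x) y ∘
      (finSumFinEquiv (m := n) (n := m)).symm)) = maximalIdeal B := by
    rw [(finSumFinEquiv (m := n) (n := m)).symm.surjective.range_comp, Set.Sum.elim_range,
      Ideal.span_union, ← hJspan]
    have h1 : maximalIdeal (B ⧸ (maximalIdeal A).map (algebraMap A B)) =
        (Ideal.span (Set.range y)).map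
          (Ideal.Quotient.mk ((maximalIdeal A).map (algebraMap A B))) := by
      rw [Ideal.map_span, ← Set.range_comp, ← hyb]
      congr 2
      funext j
      exact (hy j).symm
    have h2 : (maximalIdeal (B ⧸ (maximalIdeal A).map (algebraMap A B))).comap
        (Ideal.Quotient.mk ((maximalIdeal A).map (algebraMap A B))) = maximalIdeal B := by
      haveI := Ideal.comap_isMaximal_of_surjective
        (Ideal.Quotient.mk ((maximalIdeal A).map (algebraMap A B))) Ideal.Quotient.mk_surjective
        (K := maximalIdeal (B ⧸ (maximalIdeal A).map (algebraMap A B)))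
      exact IsLocalRing.eq_maximalIdeal inferInstance
    rw [← h2, h1, Ideal.comap_map_of_surjective _ Ideal.Quotient.mk_surjective,
      ← RingHom.ker_eq_comap_bot, Ideal.mk_ker, sup_comm]
  have hdB : ringKrullDim B = ((dA + dF : ℕ) : WithBot ℕ∞) := by
    rw [Groth.Agent.FlatCM.dim_eq_add A B, hdA]
    have : ringKrullDim (EGA4.FibRing A B) = dF := hdF
    rw [this]
    push_cast
    rfl
  rw [ci_iff_gen B _ hzspan (dA + dF) hdB]
  have : n + m - (dA + dF) = (n - dA) + (m - dF) := by omega
  rw [this]
  exact hre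

end Groth.Agent.Lib.CIInvH8
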