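import Mathlib
import Groth.Prelude.Def_CInt
import Groth.Agent.Lib.CIFlat_helper8
import Groth.Agent.Lib.FibStalkIso_helper5
import Groth.Agent.Lib.FibStalkCM_helper5

/-!
# Ascent of complete intersections along flat morphisms of schemes (helper8)
APPEND-ONLY once landed.
-/

set_option autoImplicit false
set_option maxHeartbeats 800000
universe u

namespace Groth.Agent.Lib.CIInvH8

open IsLocalRing RingTheory.Sequence Groth.Agent.Lib.KosH1H8

/-- Complete intersections are invariant under ring isomorphisms (Noetherian local rings). -/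
theorem ci_of_ringEquiv {A A' : Type u} [CommRing A] [CommRing A'] [IsLocalRing A]
    [IsLocalRing A'] [IsNoetherianRing A] [IsNoetherianRing A'] (e : A ≃+* A')
    (h : Pi1.IsCompleteIntersection A') : Pi1.IsCompleteIntersection A := by
  classical
  obtain ⟨n, x, hx⟩ := exists_fin_gen A
  obtain ⟨d, hd⟩ := Equi133H8.exists_nat_ringKrullDim A
  have hd' : ringKrullDim A' = d := by
    rw [← hd]
    exact (ringKrullDim_eq_of_ringEquiv e).symm
  have hx' : Ideal.span (Set.range fun i => e (x i)) = maximalIdeal A' := by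
    have h1 := map_maximalIdeal_of_surjective e.toRingHom e.surjective
    rw [← h1, ← hx, Ideal.map_span]
    congr 1
    ext a
    simp
  have hG := (ci_iff_gen A' (fun i => e (x i)) hx' d hd').1 h
  letI : Algebra A' A := e.symm.toRingHom.toAlgebra
  haveI : Module.Flat A' A := RingHom.Flat.of_bijective e.symm.bijective
  have hG2 := Gen.ascend A hG
  have hpush : pushL A (fun i => e (x i)) = x := by
    funext i
    rw [pushL_apply]
    exact e.symm_apply_apply (x i)
  rw [hpush] at hG2
  exact (ci_iff_gen A x hx d hd).2 hG2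

open AlgebraicGeometry CategoryTheory
open Groth.Agent.FibStalkDimH8 FibRedH8 Groth.Agent.FibStalkIso

theorem main2847 {X S : Scheme.{u}} (f : X ⟶ S) (hf : CInt.IsCIMorphism f)
    (x : ↥X) [IsNoetherianRing (S.presheaf.stalk (f.base x))]
    (hs : Pi1.IsCompleteIntersection (S.presheaf.stalk (f.base x))) :
    Pi1.IsCompleteIntersection (X.presheaf.stalk x) := by
  obtain ⟨hflat, hlfp, hfib⟩ := hf
  haveI := hflat
  haveI := hlfp
  have hfl : (f.stalkMap x).hom.Flat := Flat.stalkMap f x
  have hess : (f.stalkMap x).hom.EssFiniteType := LocallyOfFiniteType.stalkMap f x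
  letI : Algebra (S.presheaf.stalk (f x)) (X.presheaf.stalk x) := (f.stalkMap x).hom.toAlgebra
  haveI : IsLocalHom (algebraMap (S.presheaf.stalk (f x)) (X.presheaf.stalk x)) :=
    inferInstanceAs (IsLocalHom (f.stalkMap x).hom)
  haveI : Module.Flat (S.presheaf.stalk (f x)) (X.presheaf.stalk x) := hfl
  haveI : Algebra.EssFiniteType (S.presheaf.stalk (f x)) (X.presheaf.stalk x) := hess
  haveI : IsNoetherianRing (S.presheaf.stalk (f x)) := ‹_›
  haveI : IsNoetherianRing (X.presheaf.stalk x) :=
    Algebra.EssFiniteType.isNoetherianRing (S.presheaf.stalk (f x)) (X.presheaf.stalk x)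
  haveI hloc : IsLocalRing (X.presheaf.stalk x ⧸ fibIdeal f x) :=
    Groth.Agent.FibDim.isLocalRing_quot (Groth.Agent.FibStalkCM.fibIdeal_le f x)
  haveI : IsNoetherianRing ↑(CInt.fiberStalk f x) :=
    isNoetherianRing_of_ringEquiv _ (fibStalkEquiv f x)
  have hF : Pi1.IsCompleteIntersection (X.presheaf.stalk x ⧸ fibIdeal f x) :=
    ci_of_ringEquiv (fibStalkEquiv f x) (hfib x)
  exact ci_of_flat_local (S.presheaf.stalk (f x)) (X.presheaf.stalk x) hs hF

end Groth.Agent.Lib.CIInvH8
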