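import Mathlib
import Groth.Prelude.Def_Found
import Groth.Agent.Lib.CIFlatSch_helper8
import Groth.Agent.Lib.FlatCM3_helper9

/-!
# Complete intersection fibres and composition with regular maps (helper8)
APPEND-ONLY once landed.
-/

set_option autoImplicit false
set_option maxHeartbeats 800000
universe u

namespace Groth.Agent.Lib.CIInvH8

open IsLocalRing RingTheory.Sequence Groth.Agent.Lib.KosH1H8

/-- A regular local ring is a complete intersection. -/
theorem ci_of_regular (T : Type u) [CommRing T] [IsRegularLocalRing T] :
    Pi1.IsCompleteIntersection T := by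
  classical
  obtain ⟨xs, hxs, hxlen, hxreg⟩ := exists_rsop T
  have hZB := Z_le_B_of_isWeaklyRegular xs hxreg
  have hspan : Ideal.span (Set.range fun i : Fin xs.length => xs[i]) = maximalIdeal T := by
    rw [span_range_getElem, hxs]
  rw [ci_iff_gen T (fun i : Fin xs.length => xs[i]) hspan xs.length hxlen.symm, Nat.sub_self]
  refine ⟨∅, le_rfl, by simp, ?_⟩
  exact hZB.trans le_sup_left

section quot
variable (A B : Type u) [CommRing A] [CommRing B] [IsLocalRing A] [IsLocalRing B]
  [IsNoetherianRing A] [IsNoetherianRing B] [Algebra A B] [IsLocalHom (algebraMap A B)]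
  (I : Ideal A)

/-- `B/IB` is CI if `A/I` and the closed fibre of `A → B` are. -/
theorem ci_quot_of_flat [Module.Flat A B] (hI : I ≤ maximalIdeal A)
    [IsLocalRing (A ⧸ I)] [IsLocalRing (B ⧸ I.map (algebraMap A B))]
    [IsLocalRing (EGA4.FibRing A B)]
    (h1 : Pi1.IsCompleteIntersection (A ⧸ I))
    (h2 : Pi1.IsCompleteIntersection (EGA4.FibRing A B)) :
    Pi1.IsCompleteIntersection (B ⧸ I.map (algebraMap A B)) := by
  haveI := Groth.Agent.FibDim.isLocalHom_quot (B := B) hI
  haveI : Module.Flat (A ⧸ I) (B ⧸ I.map (algebraMap A B)) :=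
    Groth.Agent.Lib.FSNilpH3.flat_quot I
  obtain ⟨e⟩ := Groth.Agent.FlatCM.fibRing_quot_equiv A B I
  haveI : IsLocalRing (EGA4.FibRing (A ⧸ I) (B ⧸ I.map (algebraMap A B))) :=
    e.symm.isLocalRing
  have h3 : Pi1.IsCompleteIntersection (EGA4.FibRing (A ⧸ I) (B ⧸ I.map (algebraMap A B))) :=
    ci_of_ringEquiv e h2
  exact ci_of_flat_local (A ⧸ I) (B ⧸ I.map (algebraMap A B)) h1 h3

end quot

section Comp

variable (A B C : Type u) [CommRing A] [CommRing B] [CommRing C] [Algebra A B] [Algebra B C]
  [Algebra A C] [IsScalarTower A B C] [IsNoetherianRing B] [IsNoetherianRing C] [Module.Flat B C]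

open Groth.Agent.FlatCM in
/-- For `A → B → C` with `C` flat over `B`: the fibre local ring of `A → C` at `P` is CI if the
fibre local ring of `A → B` at `P ∩ B` and that of `B → C` at `P` are. -/
theorem ci_fibLocRing_comp (P : Ideal C) [P.IsPrime]
    (h1 : Pi1.IsCompleteIntersection (EGA4.FibLocRing A B (P.comap (algebraMap B C))))
    (h2 : Pi1.IsCompleteIntersection (EGA4.FibLocRing B C P)) :
    Pi1.IsCompleteIntersection (EGA4.FibLocRing A C P) := by
  set q := P.comap (algebraMap B C) with hq
  haveI : P.LiesOver q := ⟨rfl⟩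
  letI := Localization.AtPrime.algebraOfLiesOver q P
  haveI : IsLocalHom (algebraMap (Localization.AtPrime q) (Localization.AtPrime P)) :=
    Localization.isLocalHom_localRingHom _ _ _ _
  haveI : Module.Flat B (Localization.AtPrime P) := Module.Flat.trans B C (Localization.AtPrime P)
  haveI : Module.Flat (Localization.AtPrime q) (Localization.AtPrime P) := by
    rw [Module.flat_iff_of_isLocalization (Localization.AtPrime q) q.primeCompl]
    infer_instance
  haveI : IsNoetherianRing (Localization.AtPrime q) :=
    IsLocalization.isNoetherianRing q.primeCompl _ inferInstance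
  haveI : IsNoetherianRing (Localization.AtPrime P) :=
    IsLocalization.isNoetherianRing P.primeCompl _ inferInstance
  set I : Ideal (Localization.AtPrime q) :=
    (q.comap (algebraMap A B)).map (algebraMap A (Localization.AtPrime q)) with hIdef
  have hI : I ≤ maximalIdeal (Localization.AtPrime q) := fibLocRing_ideal_le A B q
  have hpq : q.comap (algebraMap A B) = P.comap (algebraMap A C) := by
    rw [hq, Ideal.comap_comap, ← IsScalarTower.algebraMap_eq]
  have hImap : I.map (algebraMap (Localization.AtPrime q) (Localization.AtPrime P)) =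
      (P.comap (algebraMap A C)).map (algebraMap A (Localization.AtPrime P)) := by
    rw [hIdef, Ideal.map_map, ← IsScalarTower.algebraMap_eq, hpq]
  have hm : (maximalIdeal (Localization.AtPrime q)).map
      (algebraMap (Localization.AtPrime q) (Localization.AtPrime P)) =
      q.map (algebraMap B (Localization.AtPrime P)) := by
    rw [← Localization.AtPrime.map_eq_maximalIdeal, Ideal.map_map,
      ← IsScalarTower.algebraMap_eq]
  let e1 : (Localization.AtPrime P ⧸
      I.map (algebraMap (Localization.AtPrime q) (Localization.AtPrime P))) ≃+*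
      EGA4.FibLocRing A C P := Ideal.quotEquivOfEq hImap
  let e2 : EGA4.FibRing (Localization.AtPrime q) (Localization.AtPrime P) ≃+*
      EGA4.FibLocRing B C P := Ideal.quotEquivOfEq hm
  haveI : IsLocalRing (Localization.AtPrime q ⧸ I) := Groth.Agent.FibDim.isLocalRing_quot hI
  haveI : IsLocalRing (Localization.AtPrime P ⧸
      I.map (algebraMap (Localization.AtPrime q) (Localization.AtPrime P))) :=
    Groth.Agent.FibDim.isLocalRing_quot (Groth.Agent.FibDim.map_le_maximalIdeal hI)
  haveI : IsLocalRing (EGA4.FibRing (Localization.AtPrime q) (Localization.AtPrime P)) :=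
    e2.symm.isLocalRing
  have h2' : Pi1.IsCompleteIntersection
      (EGA4.FibRing (Localization.AtPrime q) (Localization.AtPrime P)) :=
    ci_of_ringEquiv e2 h2
  have h3 := ci_quot_of_flat (Localization.AtPrime q) (Localization.AtPrime P) I hI h1 h2'
  exact ci_of_ringEquiv e1.symm h3

end Comp


section S8951

open Groth.Agent.FlatCM in
theorem main8951 (A B C : Type u) [CommRing A] [CommRing B] [CommRing C] [IsNoetherianRing A]
    [IsNoetherianRing B] [IsNoetherianRing C] [Algebra A B] [Algebra B C] [Algebra A C]
    [IsScalarTower A B C] [Module.Flat A B] [Module.Flat B C]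
    (hAB : ∀ (q : Ideal A) [q.IsPrime] (P : Ideal (q.Fiber B)) [P.IsPrime],
      Pi1.IsCompleteIntersection (Localization.AtPrime P))
    (hBC : CAlg.IsRegularHom B C) :
    ∀ (q : Ideal A) [q.IsPrime] (P : Ideal (q.Fiber C)) [P.IsPrime],
      Pi1.IsCompleteIntersection (Localization.AtPrime P) := by
  intro q _ P _
  obtain ⟨e⟩ := fibre_equiv_of_prime A C q P
  haveI : IsNoetherianRing (Localization.AtPrime
      (P.comap (Algebra.TensorProduct.includeRight : C →ₐ[A] q.Fiber C))) :=
    IsLocalization.isNoetherianRing
      (P.comap (Algebra.TensorProduct.includeRight : C →ₐ[A] q.Fiber C)).primeCompl _ inferInstance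
  haveI : IsNoetherianRing (Localization.AtPrime P) := isNoetherianRing_of_ringEquiv _ e.symm
  refine ci_of_ringEquiv e ?_
  apply ci_fibLocRing_comp A B C
  · -- the fibre of `A → B`
    obtain ⟨q', hq', ⟨e'⟩⟩ := exists_fibre_equiv A B
      ((P.comap (Algebra.TensorProduct.includeRight : C →ₐ[A] q.Fiber C)).comap (algebraMap B C))
    haveI := hq'
    have h1 := hAB _ q'
    haveI : IsNoetherianRing (Localization.AtPrime
        ((P.comap (Algebra.TensorProduct.includeRight : C →ₐ[A] q.Fiber C)).comap
          (algebraMap B C))) :=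
      IsLocalization.isNoetherianRing
        ((P.comap (Algebra.TensorProduct.includeRight : C →ₐ[A] q.Fiber C)).comap
          (algebraMap B C)).primeCompl _ inferInstance
    haveI : IsNoetherianRing (Localization.AtPrime q') := isNoetherianRing_of_ringEquiv _ e'.symm
    exact ci_of_ringEquiv e'.symm h1
  · -- the fibre of `B → C`
    obtain ⟨q'', hq'', ⟨e''⟩⟩ := exists_fibre_equiv B C
      (P.comap (Algebra.TensorProduct.includeRight : C →ₐ[A] q.Fiber C))
    haveI := hq''
    have hregF : ∀ (p : Ideal B) [p.IsPrime], IsRegularRing (p.Fiber C) := by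
      intro p _
      obtain ⟨hN, hgr⟩ := hBC.2 p
      haveI := hN
      haveI hreg0 : IsRegularRing (TensorProduct p.ResidueField p.ResidueField (p.Fiber C)) :=
        hgr p.ResidueField (Module.Finite.self _)
      have e0 : TensorProduct p.ResidueField p.ResidueField (p.Fiber C) ≃+* p.Fiber C :=
        (Algebra.TensorProduct.lid p.ResidueField (p.Fiber C)).toRingEquiv
      exact @IsRegularRing.of_ringEquiv (TensorProduct p.ResidueField p.ResidueField (p.Fiber C)) _
        (p.Fiber C) _ e0 hreg0
    haveI := hregF
      ((P.comap (Algebra.TensorProduct.includeRight : C →ₐ[A] q.Fiber C)).comap (algebraMap B C))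
    haveI : IsRegularLocalRing (Localization.AtPrime q'') :=
      IsRegularRing.isRegularLocalRing_localization q''
    haveI : IsNoetherianRing (Localization.AtPrime q'') :=
      IsLocalization.isNoetherianRing q''.primeCompl _ inferInstance
    have e3 : EGA4.FibLocRing B C
        (P.comap (Algebra.TensorProduct.includeRight : C →ₐ[A] q.Fiber C)) ≃+*
        Localization.AtPrime q'' := e''.symm
    exact ci_of_ringEquiv e3 (ci_of_regular (Localization.AtPrime q''))

end S8951

end Groth.Agent.Lib.CIInvH8
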