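import Mathlib
import Groth.Agent.Lib.CIFib_helper8
import Groth.Agent.Lib.GorField_helper9

/-!
# Complete intersections and finitely generated field extensions (helper8)
APPEND-ONLY once landed.
-/

set_option autoImplicit false
set_option maxHeartbeats 800000
universe u

namespace Groth.Agent.Lib.CIInvH8

open IsLocalRing RingTheory.Sequence TensorProduct Groth.Agent.Lib.KosH1H8

/-- The closed fibre of a flat local homomorphism of regular local rings is a complete
intersection. -/
theorem ci_fib_of_regular_local (A B : Type u) [CommRing A] [CommRing B] [IsRegularLocalRing A]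
    [IsRegularLocalRing B] [Algebra A B] [IsLocalHom (algebraMap A B)] [Module.Flat A B]
    [IsLocalRing (EGA4.FibRing A B)] :
    Pi1.IsCompleteIntersection (EGA4.FibRing A B) := by
  obtain ⟨xs, hxs, -, hxreg⟩ := exists_rsop A
  haveI : Module.FaithfullyFlat A B := Module.FaithfullyFlat.of_flat_of_isLocalHom
  have hreg : IsRegular A xs := by
    refine ⟨hxreg, ?_⟩
    rw [hxs, smul_eq_mul, Ideal.mul_top]
    exact (maximalIdeal.isMaximal A).ne_top.symm
  have hreg' : IsRegular B (xs.map (algebraMap A B)) := hreg.of_faithfullyFlat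
  refine Groth.Agent.Lib.CIQuot_helper6.ci_of_isRegular B (xs.map (algebraMap A B)) hreg'
    (EGA4.mB A B) ?_
  rw [← Ideal.map_ofList, hxs]

/-- All local rings are complete intersections. -/
def LCI (S : Type u) [CommRing S] : Prop :=
  IsNoetherianRing S ∧ ∀ (P : Ideal S) [P.IsPrime],
    Pi1.IsCompleteIntersection (Localization.AtPrime P)

theorem lci_of_ringEquiv {S S' : Type u} [CommRing S] [CommRing S'] (e : S ≃+* S')
    (h : LCI S) : LCI S' := by
  obtain ⟨hN, hci⟩ := h
  haveI := hN
  haveI : IsNoetherianRing S' := isNoetherianRing_of_ringEquiv S e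
  refine ⟨inferInstance, fun P' hP' => ?_⟩
  have e' : Localization.AtPrime (P'.comap e) ≃+* Localization.AtPrime P' :=
    IsLocalization.ringEquivOfRingEquiv
      (Localization.AtPrime (P'.comap e)) (Localization.AtPrime P') e
      (e.map_primeCompl_comap_eq P')
  haveI : IsNoetherianRing (Localization.AtPrime (P'.comap e)) :=
    IsLocalization.isNoetherianRing (P'.comap e).primeCompl _ inferInstance
  haveI : IsNoetherianRing (Localization.AtPrime P') :=
    IsLocalization.isNoetherianRing P'.primeCompl _ inferInstance
  exact ci_of_ringEquiv e'.symm (hci (P'.comap e))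

section Fib
variable (B C : Type u) [CommRing B] [CommRing C] [Algebra B C] [IsNoetherianRing B]
  [IsNoetherianRing C] [Module.Flat B C]

open Groth.Agent.FlatCM in
/-- Flat local data at a prime `P` of `C`. -/
theorem ci_localization_of_flat (P : Ideal C) [P.IsPrime]
    (h1 : Pi1.IsCompleteIntersection (Localization.AtPrime (P.comap (algebraMap B C))))
    (h2 : Pi1.IsCompleteIntersection (EGA4.FibLocRing B C P)) :
    Pi1.IsCompleteIntersection (Localization.AtPrime P) := by
  set q := P.comap (algebraMap B C) with hq
  haveI : P.LiesOver q := ⟨rfl⟩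
  letI := Localization.AtPrime.algebraOfLiesOver q P
  haveI : IsLocalHom (algebraMap (Localization.AtPrime q) (Localization.AtPrime P)) :=
    Localization.isLocalHom_localRingHom _ _ _ _
  haveI : Module.Flat B (Localization.AtPrime P) := Module.Flat.trans B C (Localization.AtPrime P)
  haveI : Module.Flat (Localization.AtPrime q) (Localization.AtPrime P) := by
    rw [Module.flat_iff_of_isLocalization (Localization.AtPrime q) q.primeCompl]
    infer_instance
  haveI : IsNoetherianRing (Localization.AtPrime q) :=
    IsLocalization.isNoetherianRing q.primeCompl _ inferInstance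
  haveI : IsNoetherianRing (Localization.AtPrime P) :=
    IsLocalization.isNoetherianRing P.primeCompl _ inferInstance
  have hm : (maximalIdeal (Localization.AtPrime q)).map
      (algebraMap (Localization.AtPrime q) (Localization.AtPrime P)) =
      q.map (algebraMap B (Localization.AtPrime P)) := by
    rw [← Localization.AtPrime.map_eq_maximalIdeal, Ideal.map_map,
      ← IsScalarTower.algebraMap_eq]
  let e2 : EGA4.FibRing (Localization.AtPrime q) (Localization.AtPrime P) ≃+*
      EGA4.FibLocRing B C P := Ideal.quotEquivOfEq hm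
  haveI : IsLocalRing (EGA4.FibRing (Localization.AtPrime q) (Localization.AtPrime P)) :=
    e2.symm.isLocalRing
  have h2' : Pi1.IsCompleteIntersection
      (EGA4.FibRing (Localization.AtPrime q) (Localization.AtPrime P)) :=
    ci_of_ringEquiv e2 h2
  exact ci_of_flat_local (Localization.AtPrime q) (Localization.AtPrime P) h1 h2'

open Groth.Agent.FlatCM in
/-- Fibre local rings of a flat map between regular rings are complete intersections. -/
theorem ci_fibLocRing_of_regular [IsRegularRing B] [IsRegularRing C] (P : Ideal C) [P.IsPrime] :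
    Pi1.IsCompleteIntersection (EGA4.FibLocRing B C P) := by
  set q := P.comap (algebraMap B C) with hq
  haveI : P.LiesOver q := ⟨rfl⟩
  letI := Localization.AtPrime.algebraOfLiesOver q P
  haveI : IsLocalHom (algebraMap (Localization.AtPrime q) (Localization.AtPrime P)) :=
    Localization.isLocalHom_localRingHom _ _ _ _
  haveI : Module.Flat B (Localization.AtPrime P) := Module.Flat.trans B C (Localization.AtPrime P)
  haveI : Module.Flat (Localization.AtPrime q) (Localization.AtPrime P) := by
    rw [Module.flat_iff_of_isLocalization (Localization.AtPrime q) q.primeCompl]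
    infer_instance
  have hm : (maximalIdeal (Localization.AtPrime q)).map
      (algebraMap (Localization.AtPrime q) (Localization.AtPrime P)) =
      q.map (algebraMap B (Localization.AtPrime P)) := by
    rw [← Localization.AtPrime.map_eq_maximalIdeal, Ideal.map_map,
      ← IsScalarTower.algebraMap_eq]
  let e2 : EGA4.FibRing (Localization.AtPrime q) (Localization.AtPrime P) ≃+*
      EGA4.FibLocRing B C P := Ideal.quotEquivOfEq hm
  haveI : IsLocalRing (EGA4.FibRing (Localization.AtPrime q) (Localization.AtPrime P)) :=
    e2.symm.isLocalRing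
  have h := ci_fib_of_regular_local (Localization.AtPrime q) (Localization.AtPrime P)
  haveI : IsNoetherianRing (Localization.AtPrime P) :=
    IsLocalization.isNoetherianRing P.primeCompl _ inferInstance
  exact ci_of_ringEquiv e2.symm h

attribute [local instance] Algebra.TensorProduct.rightAlgebra in
/-- Fibre rings of Noetherian algebras are Noetherian. -/
theorem isNoetherianRing_fiber (p : Ideal B) [p.IsPrime] : IsNoetherianRing (p.Fiber C) := by
  haveI : IsNoetherianRing (Localization (Algebra.algebraMapSubmonoid C p.primeCompl)) :=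
    IsLocalization.isNoetherianRing (Algebra.algebraMapSubmonoid C p.primeCompl) _ inferInstance
  exact isNoetherianRing_of_ringEquiv _ (Ideal.Fiber.algEquivQuotient p (S := C)).toRingEquiv.symm

open Groth.Agent.FlatCM in
theorem lci_fiber_of_regular [IsRegularRing B] [IsRegularRing C] (p : Ideal B) [p.IsPrime] :
    LCI (p.Fiber C) := by
  haveI := isNoetherianRing_fiber B C p
  refine ⟨inferInstance, fun q hq => ?_⟩
  obtain ⟨e⟩ := fibre_equiv_of_prime B C p q
  haveI : IsNoetherianRing (Localization.AtPrime q) :=
    IsLocalization.isNoetherianRing q.primeCompl _ inferInstance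
  haveI : IsNoetherianRing (Localization.AtPrime
      (q.comap (Algebra.TensorProduct.includeRight : C →ₐ[B] p.Fiber C))) :=
    IsLocalization.isNoetherianRing
      (q.comap (Algebra.TensorProduct.includeRight : C →ₐ[B] p.Fiber C)).primeCompl _ inferInstance
  exact ci_of_ringEquiv e (ci_fibLocRing_of_regular B C _)

end Fib

section Field
variable (k K : Type u) [Field k] [Field K] [Algebra k K]

/-- Tensor products of a finitely generated field extension with an arbitrary field extension have
complete intersection local rings. -/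
theorem lci_tensor_field (L : Type u) [Field L] [Algebra k L]
    (hK : ∃ s : Finset K, IntermediateField.adjoin k (s : Set K) = ⊤) : LCI (K ⊗[k] L) := by
  obtain ⟨s, hs⟩ := hK
  obtain ⟨p, hp, ⟨ψ⟩⟩ := Groth.Agent.GorFlat9.exists_residueField_equiv k K s hs
  let e : (MvPolynomial s k) ⊗[k] L ≃+* MvPolynomial s L :=
    (Algebra.TensorProduct.comm k (MvPolynomial s k) L).toRingEquiv.trans
      (MvPolynomial.algebraTensorAlgEquiv k L).toRingEquiv
  haveI : IsRegularRing (MvPolynomial s L) := inferInstance
  haveI hS : IsRegularRing ((MvPolynomial s k) ⊗[k] L) := IsRegularRing.of_ringEquiv e.symm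
  haveI : IsRegularRing (MvPolynomial s k) := inferInstance
  have hfib := lci_fiber_of_regular (MvPolynomial s k) ((MvPolynomial s k) ⊗[k] L) p
  let e1 : p.ResidueField ⊗[MvPolynomial s k] ((MvPolynomial s k) ⊗[k] L) ≃ₐ[p.ResidueField]
      p.ResidueField ⊗[k] L :=
    Algebra.TensorProduct.cancelBaseChange k (MvPolynomial s k) p.ResidueField p.ResidueField L
  let e2 : p.ResidueField ⊗[k] L ≃ₐ[k] K ⊗[k] L :=
    Algebra.TensorProduct.congr ψ AlgEquiv.refl
  exact lci_of_ringEquiv (e1.toRingEquiv.trans e2.toRingEquiv) hfib

end Field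


section S8950
variable (k K : Type u) [Field k] [Field K] [Algebra k K]

open Groth.Agent.FlatCM in
theorem lci_tensor_right (R : Type u) [CommRing R] [Algebra k R] [IsNoetherianRing R]
    (hK : ∃ s : Finset K, IntermediateField.adjoin k (s : Set K) = ⊤)
    (hR : ∀ (p : Ideal R) [p.IsPrime], Pi1.IsCompleteIntersection (Localization.AtPrime p)) :
    LCI (R ⊗[k] K) := by
  -- Noetherian
  have hN : IsNoetherianRing (R ⊗[k] K) := by
    obtain ⟨s, hs⟩ := hK
    obtain ⟨p, hp, ⟨ψ⟩⟩ := Groth.Agent.GorFlat9.exists_residueField_equiv k K s hs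
    let e : (MvPolynomial s k) ⊗[k] R ≃+* MvPolynomial s R :=
      (Algebra.TensorProduct.comm k (MvPolynomial s k) R).toRingEquiv.trans
        (MvPolynomial.algebraTensorAlgEquiv k R).toRingEquiv
    haveI : IsNoetherianRing ((MvPolynomial s k) ⊗[k] R) :=
      isNoetherianRing_of_ringEquiv _ e.symm
    haveI := isNoetherianRing_fiber (MvPolynomial s k) ((MvPolynomial s k) ⊗[k] R) p
    let e1 : p.ResidueField ⊗[MvPolynomial s k] ((MvPolynomial s k) ⊗[k] R) ≃ₐ[p.ResidueField]
        p.ResidueField ⊗[k] R :=
      Algebra.TensorProduct.cancelBaseChange k (MvPolynomial s k) p.ResidueField p.ResidueField R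
    let e2 : p.ResidueField ⊗[k] R ≃ₐ[k] K ⊗[k] R :=
      Algebra.TensorProduct.congr ψ AlgEquiv.refl
    exact isNoetherianRing_of_ringEquiv _ ((e1.toRingEquiv.trans e2.toRingEquiv).trans
      (Algebra.TensorProduct.comm k K R).toRingEquiv)
  haveI := hN
  refine ⟨hN, fun P hP => ?_⟩
  apply ci_localization_of_flat R (R ⊗[k] K) P (hR _)
  obtain ⟨q', hq', ⟨e'⟩⟩ := exists_fibre_equiv R (R ⊗[k] K) P
  haveI := hq'
  have hL : LCI (K ⊗[k] (P.comap (algebraMap R (R ⊗[k] K))).ResidueField) :=
    lci_tensor_field k K _ hK
  let e3 : (P.comap (algebraMap R (R ⊗[k] K))).ResidueField ⊗[R] (R ⊗[k] K) ≃ₐ[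
      (P.comap (algebraMap R (R ⊗[k] K))).ResidueField]
      (P.comap (algebraMap R (R ⊗[k] K))).ResidueField ⊗[k] K :=
    Algebra.TensorProduct.cancelBaseChange k R _ _ K
  have hF : LCI ((P.comap (algebraMap R (R ⊗[k] K))).Fiber (R ⊗[k] K)) :=
    lci_of_ringEquiv ((Algebra.TensorProduct.comm k K _).toRingEquiv.trans e3.symm.toRingEquiv) hL
  obtain ⟨hNF, hciF⟩ := hF
  haveI := hNF
  haveI : IsNoetherianRing (Localization.AtPrime q') :=
    IsLocalization.isNoetherianRing q'.primeCompl _ inferInstance
  haveI : IsNoetherianRing (Localization.AtPrime P) :=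
    IsLocalization.isNoetherianRing P.primeCompl _ inferInstance
  have e4 : EGA4.FibLocRing R (R ⊗[k] K) P ≃+* Localization.AtPrime q' := e'.symm
  exact ci_of_ringEquiv e4 (hciF q')

theorem main8950 (R : Type u)
    (hK : ∃ s : Finset K, IntermediateField.adjoin k (s : Set K) = ⊤) [CommRing R] [Algebra k R]
    [IsNoetherianRing R]
    (hR : ∀ (p : Ideal R) [p.IsPrime], Pi1.IsCompleteIntersection (Localization.AtPrime p)) :
    IsNoetherianRing (K ⊗[k] R) ∧ ∀ (P : Ideal (K ⊗[k] R)) [P.IsPrime],
      Pi1.IsCompleteIntersection (Localization.AtPrime P) :=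
  lci_of_ringEquiv (Algebra.TensorProduct.comm k R K).toRingEquiv (lci_tensor_right k K R hK hR)

end S8950

end Groth.Agent.Lib.CIInvH8
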