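import Mathlib
import Groth.Agent.Lib.CIField_helper8
import Groth.Agent.Lib.FibStalkCM_helper5

/-!
# Composition of complete intersection morphisms (helper8)
APPEND-ONLY once landed.
-/

set_option autoImplicit false
set_option maxHeartbeats 800000
universe u

namespace Groth.Agent.Lib.CICompH8

open IsLocalRing Groth.Agent.Lib.CIInvH8

section Alg

variable (A B : Type u) [CommRing A] [CommRing B] [IsLocalRing A] [IsLocalRing B]
  [Algebra A B] [IsLocalHom (algebraMap A B)] (I : Ideal A)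

/-- `B/IB` is CI if `A/I` and the closed fibre of `A → B` are (only the quotients Noetherian). -/
theorem ci_quot_of_flat' [Module.Flat A B] (hI : I ≤ maximalIdeal A)
    [IsNoetherianRing (A ⧸ I)] [IsNoetherianRing (B ⧸ I.map (algebraMap A B))]
    [IsLocalRing (A ⧸ I)] [IsLocalRing (B ⧸ I.map (algebraMap A B))]
    (h1 : Pi1.IsCompleteIntersection (A ⧸ I))
    (h2 : Pi1.IsCompleteIntersection (EGA4.FibRing A B)) :
    Pi1.IsCompleteIntersection (B ⧸ I.map (algebraMap A B)) := by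
  haveI := Groth.Agent.FibDim.isLocalHom_quot (B := B) hI
  haveI : Module.Flat (A ⧸ I) (B ⧸ I.map (algebraMap A B)) :=
    Groth.Agent.Lib.FSNilpH3.flat_quot I
  obtain ⟨e⟩ := Groth.Agent.FibStalkCM.fibRing_quot_equiv' A B I hI
  haveI : IsNoetherianRing (EGA4.FibRing (A ⧸ I) (B ⧸ I.map (algebraMap A B))) := inferInstance
  haveI : IsNoetherianRing (EGA4.FibRing A B) := isNoetherianRing_of_ringEquiv _ e
  have h3 : Pi1.IsCompleteIntersection (EGA4.FibRing (A ⧸ I) (B ⧸ I.map (algebraMap A B))) :=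
    ci_of_ringEquiv e h2
  exact ci_of_flat_local (A ⧸ I) (B ⧸ I.map (algebraMap A B)) h1 h3

end Alg

open AlgebraicGeometry CategoryTheory
open Groth.Agent.FibStalkDimH8 FibRedH8 Groth.Agent.FibStalkIso Groth.Agent.FibStalkCM

variable {X Y Z : Scheme.{u}} (f : X ⟶ Y) (g : Y ⟶ Z) (x : X)

theorem ci_comp (hf1 : (f.stalkMap x).hom.Flat)
    (hN1 : IsNoetherianRing ((g.fiber (g.base (f x))).presheaf.stalk (g.asFiber (f x))))
    (hN2 : IsNoetherianRing
      (((f ≫ g).fiber ((f ≫ g).base x)).presheaf.stalk ((f ≫ g).asFiber x)))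
    (hg : Pi1.IsCompleteIntersection (CInt.fiberStalk g (f x)))
    (hf : Pi1.IsCompleteIntersection (CInt.fiberStalk f x)) :
    Pi1.IsCompleteIntersection (CInt.fiberStalk (f ≫ g) x) := by
  letI : Algebra (Y.presheaf.stalk (f x)) (X.presheaf.stalk x) := (f.stalkMap x).hom.toAlgebra
  haveI : IsLocalHom (algebraMap (Y.presheaf.stalk (f x)) (X.presheaf.stalk x)) :=
    inferInstanceAs (IsLocalHom (f.stalkMap x).hom)
  haveI : Module.Flat (Y.presheaf.stalk (f x)) (X.presheaf.stalk x) := hf1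
  have hIle : fibIdeal g (f x) ≤ maximalIdeal (Y.presheaf.stalk (f x)) := fibIdeal_le g (f x)
  have hmap : (fibIdeal g (f x)).map (algebraMap (Y.presheaf.stalk (f x)) (X.presheaf.stalk x)) =
      fibIdeal (f ≫ g) x := (fibIdeal_comp f g x).symm
  let e : (X.presheaf.stalk x ⧸ (fibIdeal g (f x)).map
        (algebraMap (Y.presheaf.stalk (f x)) (X.presheaf.stalk x))) ≃+*
      ((f ≫ g).fiber ((f ≫ g).base x)).presheaf.stalk ((f ≫ g).asFiber x) :=
    (Ideal.quotEquivOfEq hmap).trans (fibStalkEquiv (f ≫ g) x)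
  haveI : IsNoetherianRing (X.presheaf.stalk x ⧸ (fibIdeal g (f x)).map
      (algebraMap (Y.presheaf.stalk (f x)) (X.presheaf.stalk x))) :=
    isNoetherianRing_of_ringEquiv _ e.symm
  haveI : IsNoetherianRing (Y.presheaf.stalk (f x) ⧸ fibIdeal g (f x)) :=
    isNoetherianRing_of_ringEquiv _ (fibStalkEquiv g (f x)).symm
  haveI : IsLocalRing (Y.presheaf.stalk (f x) ⧸ fibIdeal g (f x)) :=
    Groth.Agent.FibDim.isLocalRing_quot hIle
  haveI : IsLocalRing (X.presheaf.stalk x ⧸ (fibIdeal g (f x)).map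
      (algebraMap (Y.presheaf.stalk (f x)) (X.presheaf.stalk x))) :=
    Groth.Agent.FibDim.isLocalRing_quot (Groth.Agent.FibDim.map_le_maximalIdeal hIle)
  have h2' : Pi1.IsCompleteIntersection (Y.presheaf.stalk (f x) ⧸ fibIdeal g (f x)) :=
    ci_of_ringEquiv (fibStalkEquiv g (f x)) hg
  haveI : IsLocalRing (X.presheaf.stalk x ⧸ fibIdeal f x) :=
    Groth.Agent.FibDim.isLocalRing_quot (fibIdeal_le f x)
  have hN3 : IsNoetherianRing (EGA4.FibRing (Y.presheaf.stalk (f x)) (X.presheaf.stalk x)) := by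
    obtain ⟨e'⟩ := Groth.Agent.FibStalkCM.fibRing_quot_equiv' (Y.presheaf.stalk (f x))
      (X.presheaf.stalk x) (fibIdeal g (f x)) hIle
    exact isNoetherianRing_of_ringEquiv _ e'
  have h3' : Pi1.IsCompleteIntersection
      (EGA4.FibRing (Y.presheaf.stalk (f x)) (X.presheaf.stalk x)) := by
    haveI : IsNoetherianRing (X.presheaf.stalk x ⧸ fibIdeal f x) := hN3
    haveI : IsNoetherianRing ↑(CInt.fiberStalk f x) :=
      isNoetherianRing_of_ringEquiv _ (fibStalkEquiv f x)
    have : Pi1.IsCompleteIntersection (X.presheaf.stalk x ⧸ fibIdeal f x) :=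
      ci_of_ringEquiv (fibStalkEquiv f x) hf
    exact this
  have key := ci_quot_of_flat' (Y.presheaf.stalk (f x)) (X.presheaf.stalk x)
    (fibIdeal g (f x)) hIle h2' h3'
  exact ci_of_ringEquiv e.symm key

theorem isNoetherianRing_fiberStalk {X S : Scheme.{u}} (f : X ⟶ S) [LocallyOfFiniteType f]
    (x : X) : IsNoetherianRing ↑(CInt.fiberStalk f x) := by
  haveI : LocallyOfFiniteType (f.fiberToSpecResidueField (f.base x)) :=
    MorphismProperty.pullback_snd _ _ inferInstance
  haveI : IsLocallyNoetherian (f.fiber (f.base x)) :=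
    LocallyOfFiniteType.isLocallyNoetherian (f.fiberToSpecResidueField (f.base x))
  infer_instance

theorem main2846 {X Y Z : Scheme.{u}} (f : X ⟶ Y) (g : Y ⟶ Z) (hf : CInt.IsCIMorphism f)
    (hg : CInt.IsCIMorphism g) : CInt.IsCIMorphism (f ≫ g) := by
  obtain ⟨hf1, hf2, hf3⟩ := hf
  obtain ⟨hg1, hg2, hg3⟩ := hg
  haveI := hf1
  haveI := hf2
  haveI := hg1
  haveI := hg2
  refine ⟨inferInstance, inferInstance, fun x => ?_⟩
  exact ci_comp f g x (Flat.stalkMap f x) (isNoetherianRing_fiberStalk g (f x))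
    (isNoetherianRing_fiberStalk (f ≫ g) x) (hg3 (f x)) (hf3 x)

end Groth.Agent.Lib.CICompH8
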