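import Mathlib
import Groth.Agent.Lib.CIComp_helper8
import Groth.Agent.Lib.CMLocusBC_helper5

/-!
# Base change of complete intersection morphisms (helper8)
APPEND-ONLY once landed.
-/

set_option autoImplicit false
set_option maxHeartbeats 800000
universe u

namespace Groth.Agent.Lib.CIBCH8

open AlgebraicGeometry CategoryTheory Limits TensorProduct IsLocalRing
open Groth.Agent.Lib.CIInvH8 Groth.Agent.Lib.CICompH8

/-- stalks of an affine scheme with LCI coordinate ring are CI -/
theorem ci_stalk_of_isAffine {T : Scheme.{u}} [IsAffine T]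
    (hT : LCI Γ(T, ⊤)) (t : T) :
    Pi1.IsCompleteIntersection (T.presheaf.stalk t) := by
  obtain ⟨hN, hci⟩ := hT
  haveI := hN
  have hU : IsAffineOpen (⊤ : T.Opens) := isAffineOpen_top T
  letI := TopCat.Presheaf.algebra_section_stalk T.presheaf (⟨t, trivial⟩ : (⊤ : T.Opens))
  haveI := hU.isLocalization_stalk ⟨t, trivial⟩
  have h1 : Pi1.IsCompleteIntersection
      (Localization.AtPrime (hU.primeIdealOf ⟨t, trivial⟩).asIdeal) := hci _
  have e : (T.presheaf.stalk t) ≃+*
      Localization.AtPrime (hU.primeIdealOf ⟨t, trivial⟩).asIdeal :=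
    (IsLocalization.algEquiv (hU.primeIdealOf ⟨t, trivial⟩).asIdeal.primeCompl
      (Localization.AtPrime (hU.primeIdealOf ⟨t, trivial⟩).asIdeal)
      (T.presheaf.stalk t)).toRingEquiv.symm
  haveI : IsNoetherianRing (Localization.AtPrime (hU.primeIdealOf ⟨t, trivial⟩).asIdeal) :=
    IsLocalization.isNoetherianRing (hU.primeIdealOf ⟨t, trivial⟩).asIdeal.primeCompl _
      inferInstance
  haveI : IsNoetherianRing (T.presheaf.stalk t) := isNoetherianRing_of_ringEquiv _ e.symm
  exact ci_of_ringEquiv e h1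

open Groth.Agent.FibMapFlat Groth.Agent.FibNoeth Groth.Agent.CMAscent Groth.Agent.CMLocusBC in
theorem ci_stalk_fiber_fibMap' {P X Y Z : Scheme.{u}} {fst : P ⟶ X} {snd : P ⟶ Y}
    {f : X ⟶ Z} {g : Y ⟶ Z} [LocallyOfFiniteType f] (h : IsPullback fst snd f g) (y : Y)
    (z : f.fiber (g y)) (t : (fibMap h y).fiber z) :
    Pi1.IsCompleteIntersection (((fibMap h y).fiber z).presheaf.stalk t) := by
  have sqφ := isPullback_fibMap h y
  haveI : IsAffineHom (fibMap h y) :=
    MorphismProperty.of_isPullback (P := @IsAffineHom) sqφ.flip inferInstance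
  have sqT : IsPullback ((fibMap h y).fiberι z) ((fibMap h y).fiberToSpecResidueField z)
      (fibMap h y) ((f.fiber (g y)).fromSpecResidueField z) := IsPullback.of_hasPullback _ _
  have s2 := sqT.paste_horiz sqφ.flip
  have hcψ : Spec.map (Spec.preimage ((f.fiber (g y)).fromSpecResidueField z ≫
      f.fiberToSpecResidueField (g y))) = (f.fiber (g y)).fromSpecResidueField z ≫
      f.fiberToSpecResidueField (g y) := Spec.map_preimage _
  rw [← hcψ] at s2
  haveI : LocallyOfFiniteType (f.fiberToSpecResidueField (g y)) :=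
    MorphismProperty.pullback_snd _ _ inferInstance
  letI : Algebra (Z.residueField (g y)) (Y.residueField y) :=
    (g.residueFieldMap y).hom.toAlgebra
  letI : Algebra (Z.residueField (g y)) ((f.fiber (g y)).residueField z) :=
    (Spec.preimage ((f.fiber (g y)).fromSpecResidueField z ≫
      f.fiberToSpecResidueField (g y))).hom.toAlgebra
  haveI : Algebra.EssFiniteType (Z.residueField (g y)) ((f.fiber (g y)).residueField z) :=
    essFiniteType_preimage (f.fiberToSpecResidueField (g y)) z
  obtain ⟨eΓ⟩ := gamma_equiv_of_isPullback_Spec (Z.residueField (g y))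
    ((f.fiber (g y)).residueField z) (Y.residueField y) _ _ s2
  have hCI0 : LCI
      ((f.fiber (g y)).residueField z ⊗[Z.residueField (g y)] Y.residueField y) :=
    lci_tensor_field (Z.residueField (g y)) ((f.fiber (g y)).residueField z) (Y.residueField y)
      (IntermediateField.fg_top _ _)
  have hCI : LCI
      (Y.residueField y ⊗[Z.residueField (g y)] (f.fiber (g y)).residueField z) :=
    lci_of_ringEquiv
      (Algebra.TensorProduct.comm (Z.residueField (g y)) ((f.fiber (g y)).residueField z)
        (Y.residueField y)).toRingEquiv hCI0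
  have hΓ : LCI Γ((fibMap h y).fiber z, ⊤) := lci_of_ringEquiv eΓ hCI
  exact ci_stalk_of_isAffine hΓ t

open Groth.Agent.FibMapFlat Groth.Agent.FibNoeth Groth.Agent.FibStalkIso
  Groth.Agent.FibStalkDimH8 FibRedH8 Groth.Agent.CMLocusBC in
/-- CI fibre local rings ascend along an arbitrary base change when `f` is locally of finite
type -/
theorem ci_ascent' {X Y X' Y' : Scheme.{u}} (f : X ⟶ Y) [LocallyOfFiniteType f]
    (f' : X' ⟶ Y') (g' : X' ⟶ X) (g : Y' ⟶ Y) (hc : IsPullback g' f' f g) (x' : X')
    (hCI : Pi1.IsCompleteIntersection (CInt.fiberStalk f (g' x'))) :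
    Pi1.IsCompleteIntersection (CInt.fiberStalk f' x') := by
  haveI hflφ : Flat (fibMap hc (f' x')) := flat_fibMap hc (f' x')
  have hpt : (f.fiberι (g (f' x'))) (fibMap hc (f' x') (f'.asFiber x')) = g' x' := by
    rw [fiberι_fibMap_apply, Scheme.Hom.fiberι_asFiber]
  obtain ⟨e⟩ := fiberStalk_transport_equiv f (g (f' x')) (fibMap hc (f' x') (f'.asFiber x'))
    (g' x') hpt
  haveI : IsLocallyNoetherian (f.fiber (g (f' x'))) := isLocallyNoetherian_fiber f _
  haveI : IsNoetherianRing
      ((f.fiber (g (f' x'))).presheaf.stalk (fibMap hc (f' x') (f'.asFiber x'))) :=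
    inferInstance
  haveI : IsNoetherianRing ↑(CInt.fiberStalk f (g' x')) := isNoetherianRing_fiberStalk f _
  have hB : Pi1.IsCompleteIntersection
      ((f.fiber (g (f' x'))).presheaf.stalk (fibMap hc (f' x') (f'.asFiber x'))) :=
    ci_of_ringEquiv e.symm hCI
  letI : Algebra ((f.fiber (g (f' x'))).presheaf.stalk (fibMap hc (f' x') (f'.asFiber x')))
      ((f'.fiber (f' x')).presheaf.stalk (f'.asFiber x')) :=
    ((fibMap hc (f' x')).stalkMap (f'.asFiber x')).hom.toAlgebra
  haveI : IsLocalHom (algebraMap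
      ((f.fiber (g (f' x'))).presheaf.stalk (fibMap hc (f' x') (f'.asFiber x')))
      ((f'.fiber (f' x')).presheaf.stalk (f'.asFiber x'))) :=
    inferInstanceAs (IsLocalHom ((fibMap hc (f' x')).stalkMap (f'.asFiber x')).hom)
  haveI : Module.Flat
      ((f.fiber (g (f' x'))).presheaf.stalk (fibMap hc (f' x') (f'.asFiber x')))
      ((f'.fiber (f' x')).presheaf.stalk (f'.asFiber x')) :=
    Flat.stalkMap (fibMap hc (f' x')) (f'.asFiber x')
  haveI : LocallyOfFiniteType f' :=
    MorphismProperty.of_isPullback (P := @LocallyOfFiniteType) hc inferInstance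
  haveI : IsLocallyNoetherian (f'.fiber (f' x')) := isLocallyNoetherian_fiber f' (f' x')
  haveI : IsNoetherianRing ((f'.fiber (f' x')).presheaf.stalk (f'.asFiber x')) :=
    inferInstance
  haveI : IsLocalRing ((f'.fiber (f' x')).presheaf.stalk (f'.asFiber x') ⧸
      fibIdeal (fibMap hc (f' x')) (f'.asFiber x')) :=
    Groth.Agent.FibDim.isLocalRing_quot
      (Groth.Agent.FibStalkCM.fibIdeal_le (fibMap hc (f' x')) (f'.asFiber x'))
  have hF : Pi1.IsCompleteIntersection
      ((f'.fiber (f' x')).presheaf.stalk (f'.asFiber x') ⧸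
        (maximalIdeal ((f.fiber (g (f' x'))).presheaf.stalk
          (fibMap hc (f' x') (f'.asFiber x')))).map
          (algebraMap ((f.fiber (g (f' x'))).presheaf.stalk (fibMap hc (f' x') (f'.asFiber x')))
            ((f'.fiber (f' x')).presheaf.stalk (f'.asFiber x')))) := by
    have h1 := ci_stalk_fiber_fibMap' hc (f' x') (fibMap hc (f' x') (f'.asFiber x'))
      ((fibMap hc (f' x')).asFiber (f'.asFiber x'))
    have e2 := fibStalkEquiv (fibMap hc (f' x')) (f'.asFiber x')
    haveI : IsNoetherianRing ↑(((fibMap hc (f' x')).fiber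
        ((fibMap hc (f' x')) (f'.asFiber x'))).presheaf.stalk
        ((fibMap hc (f' x')).asFiber (f'.asFiber x'))) :=
      isNoetherianRing_of_ringEquiv _ e2
    have : Pi1.IsCompleteIntersection
        ((f'.fiber (f' x')).presheaf.stalk (f'.asFiber x') ⧸
          fibIdeal (fibMap hc (f' x')) (f'.asFiber x')) :=
      ci_of_ringEquiv e2 h1
    exact this
  exact ci_of_flat_local
    ((f.fiber (g (f' x'))).presheaf.stalk (fibMap hc (f' x') (f'.asFiber x')))
    ((f'.fiber (f' x')).presheaf.stalk (f'.asFiber x')) hB hF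

theorem main2844 {X S S' : Scheme.{u}} (f : X ⟶ S) (g : S' ⟶ S) (hf : CInt.IsCIMorphism f) :
    CInt.IsCIMorphism (pullback.snd f g) := by
  obtain ⟨hf1, hf2, hf3⟩ := hf
  haveI := hf1
  haveI := hf2
  refine ⟨inferInstance, inferInstance, fun x' => ?_⟩
  exact ci_ascent' f (pullback.snd f g) (pullback.fst f g) g (IsPullback.of_hasPullback f g) x'
    (hf3 _)

end Groth.Agent.Lib.CIBCH8
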