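import Mathlib
import Groth.Agent.Lib.CIComp_helper8

/-!
# Descent of complete intersections along flat maps of regular local rings (helper8)
APPEND-ONLY once landed.
-/

set_option autoImplicit false
set_option maxHeartbeats 800000
universe u

namespace Groth.Agent.Lib.CIDescH8

open IsLocalRing RingTheory.Sequence Groth.Agent.Lib.CIInvH8

/-- **Lemma D**: for a flat local homomorphism `R → R'` of regular local rings and an ideal `I`
of `R`, if `R'/IR'` is a complete intersection then so is `R/I`. -/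
theorem ci_descent_regular {R R' : Type u} [CommRing R] [CommRing R'] [IsRegularLocalRing R]
    [IsRegularLocalRing R'] [Algebra R R'] [IsLocalHom (algebraMap R R')] [Module.Flat R R']
    (I : Ideal R) (hI : I ≠ ⊤)
    [IsLocalRing (R ⧸ I)] [IsLocalRing (R' ⧸ I.map (algebraMap R R'))]
    (h : Pi1.IsCompleteIntersection (R' ⧸ I.map (algebraMap R R'))) :
    Pi1.IsCompleteIntersection (R ⧸ I) := by
  classical
  have hIle : I ≤ maximalIdeal R := le_maximalIdeal hI
  have hI' : I.map (algebraMap R R') ≠ ⊤ := fun htop =>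
    (Ideal.Quotient.nontrivial_iff.mp (inferInstance :
      Nontrivial (R' ⧸ I.map (algebraMap R R')))) htop
  obtain ⟨rs, hrs, hreg⟩ := (main2166 (I.map (algebraMap R R')) hI').mp h
  have hdim1 := ringKrullDim_add_length_eq_ringKrullDim_of_isRegular rs hreg
  rw [hrs] at hdim1
  -- dimension formulas
  have hdim2 := Groth.Agent.FlatCM.dim_eq_add R R'
  haveI := Groth.Agent.FibDim.isLocalHom_quot (B := R') hIle
  haveI : Module.Flat (R ⧸ I) (R' ⧸ I.map (algebraMap R R')) :=
    Groth.Agent.Lib.FSNilpH3.flat_quot I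
  have hdim3 := Groth.Agent.FlatCM.dim_eq_add (R ⧸ I) (R' ⧸ I.map (algebraMap R R'))
  obtain ⟨e⟩ := Groth.Agent.FlatCM.fibRing_quot_equiv R R' I
  rw [ringKrullDim_eq_of_ringEquiv e] at hdim3
  obtain ⟨a, ha⟩ := Equi133H8.exists_nat_ringKrullDim R
  obtain ⟨a', ha'⟩ := Equi133H8.exists_nat_ringKrullDim R'
  obtain ⟨b, hb⟩ := Equi133H8.exists_nat_ringKrullDim (R ⧸ I)
  obtain ⟨b', hb'⟩ := Equi133H8.exists_nat_ringKrullDim (R' ⧸ I.map (algebraMap R R'))
  obtain ⟨c, hc⟩ := Equi133H8.exists_nat_ringKrullDim (EGA4.FibRing R R')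
  rw [ha', ha, hc] at hdim2
  rw [hb', hb, hc] at hdim3
  rw [hb', ha'] at hdim1
  have e1 : a' = a + c := by exact_mod_cast hdim2
  have e2 : b' = b + c := by exact_mod_cast hdim3
  have e3 : b' + rs.length = a' := by exact_mod_cast hdim1
  have hcount : ((rs.length : ℕ) : WithBot ℕ∞) + ringKrullDim (R ⧸ I) ≤ ringKrullDim R := by
    rw [ha, hb]
    have : rs.length + b ≤ a := by omega
    exact_mod_cast this
  haveI : Module.FaithfullyFlat R R' := Module.FaithfullyFlat.of_flat_of_isLocalHom
  have hμ : I.spanFinrank ≤ rs.length := by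
    refine (spanFinrank_le_map_of_faithfullyFlat R R' I).trans ?_
    rw [← hrs, Ideal.ofList]
    refine (Submodule.spanFinrank_span_le_ncard_of_finite (List.finite_toSet rs)).trans ?_
    have : {r | r ∈ rs} = (rs.toFinset : Set _) := by
      ext r
      simp
    rw [this, Set.ncard_coe_finset]
    exact List.toFinset_card_le rs
  obtain ⟨l, hl, hlreg⟩ := regular_of_count I hI rs.length hμ hcount
  exact (main2166 I hI).mpr ⟨l, hl, hlreg⟩

end Groth.Agent.Lib.CIDescH8
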