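import Mathlib
import Groth.Agent.Lib.CIDesc_helper8
import Groth.Agent.Lib.CIField1_helper2

/-!
# Descent of complete intersections along field extensions: algebra (helper8)
APPEND-ONLY once landed.
-/

set_option autoImplicit false
set_option maxHeartbeats 1600000
universe u

namespace Groth.Agent.Lib.CIDescH8

open IsLocalRing TensorProduct Groth.Agent.Lib.CIInvH8 Groth.Agent.Lib.CIField

/-- **Lemma E₀** (abstract form): compatible presentations `P → A₀`, `T → B₀` by regular rings with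
`P → T` flat and `ker (T → B₀) = ker (P → A₀) T`. -/
theorem ci_descent_of_presentation {P T A₀ B₀ : Type u} [CommRing P] [CommRing T] [CommRing A₀]
    [CommRing B₀] [Algebra P T] [IsRegularRing P] [IsRegularRing T] [Module.Flat P T]
    (π : P →+* A₀) (hπ : Function.Surjective π) (πT : T →+* B₀) (hπT : Function.Surjective πT)
    (φ : A₀ →+* B₀) (hcomm : ∀ x, πT (algebraMap P T x) = φ (π x))
    (hkerT : RingHom.ker πT = (RingHom.ker π).map (algebraMap P T))
    (𝔭' : Ideal B₀) [𝔭'.IsPrime]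
    (h : Pi1.IsCompleteIntersection (Localization.AtPrime 𝔭')) :
    Pi1.IsCompleteIntersection (Localization.AtPrime (𝔭'.comap φ)) := by
  classical
  haveI : IsNoetherianRing A₀ := isNoetherianRing_of_surjective _ _ π hπ
  haveI : IsNoetherianRing B₀ := isNoetherianRing_of_surjective _ _ πT hπT
  set 𝔭 : Ideal A₀ := 𝔭'.comap φ with h𝔭
  letI algA : Algebra P A₀ := π.toAlgebra
  letI algB : Algebra T B₀ := πT.toAlgebra
  obtain ⟨π1, hπ1, hk1⟩ := exists_localAlgHom (k := P) (Algebra.ofId P A₀) hπ 𝔭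
  obtain ⟨π2, hπ2, hk2⟩ := exists_localAlgHom (k := T) (Algebra.ofId T B₀) hπT 𝔭'
  have hkπ : RingHom.ker (Algebra.ofId P A₀).toRingHom = RingHom.ker π := rfl
  have hkπT : RingHom.ker (Algebra.ofId T B₀).toRingHom = RingHom.ker πT := rfl
  have hcπ : 𝔭.comap (Algebra.ofId P A₀).toRingHom = 𝔭.comap π := rfl
  have hcπT : 𝔭'.comap (Algebra.ofId T B₀).toRingHom = 𝔭'.comap πT := rfl
  set 𝔓 : Ideal P := 𝔭.comap (Algebra.ofId P A₀).toRingHom with h𝔓
  set 𝔔 : Ideal T := 𝔭'.comap (Algebra.ofId T B₀).toRingHom with h𝔔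
  have hlies : 𝔓 = 𝔔.comap (algebraMap P T) := by
    rw [hcπ, hcπT]
    ext x
    simp only [h𝔭, Ideal.mem_comap]
    rw [hcomm x]
  haveI : 𝔔.LiesOver 𝔓 := ⟨hlies⟩
  letI := Localization.AtPrime.algebraOfLiesOver 𝔓 𝔔
  haveI : IsLocalHom (algebraMap (Localization.AtPrime 𝔓) (Localization.AtPrime 𝔔)) :=
    Localization.isLocalHom_localRingHom _ _ _ _
  haveI : Module.Flat P (Localization.AtPrime 𝔔) :=
    Module.Flat.trans P T (Localization.AtPrime 𝔔)
  haveI : Module.Flat (Localization.AtPrime 𝔓) (Localization.AtPrime 𝔔) := by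
    rw [Module.flat_iff_of_isLocalization (Localization.AtPrime 𝔓) 𝔓.primeCompl]
    infer_instance
  haveI : IsNoetherianRing (Localization.AtPrime 𝔭) :=
    IsLocalization.isNoetherianRing 𝔭.primeCompl _ inferInstance
  haveI : IsNoetherianRing (Localization.AtPrime 𝔭') :=
    IsLocalization.isNoetherianRing 𝔭'.primeCompl _ inferInstance
  rw [hkπ] at hk1
  rw [hkπT] at hk2
  set I : Ideal (Localization.AtPrime 𝔓) := (RingHom.ker π).map
    (algebraMap P (Localization.AtPrime 𝔓)) with hI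
  set I' : Ideal (Localization.AtPrime 𝔔) :=
    I.map (algebraMap (Localization.AtPrime 𝔓) (Localization.AtPrime 𝔔)) with hI'def
  have hI' : I' = RingHom.ker π2.toRingHom := by
    rw [hk2, hkerT, hI'def, hI, Ideal.map_map, Ideal.map_map, ← IsScalarTower.algebraMap_eq,
      ← IsScalarTower.algebraMap_eq]
  let e1 : (Localization.AtPrime 𝔓 ⧸ I) ≃+* Localization.AtPrime 𝔭 :=
    (Ideal.quotEquivOfEq hk1.symm).trans
      (RingHom.quotientKerEquivOfSurjective (f := π1.toRingHom) hπ1)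
  let e2 : (Localization.AtPrime 𝔔 ⧸ I') ≃+* Localization.AtPrime 𝔭' :=
    (Ideal.quotEquivOfEq hI').trans
      (RingHom.quotientKerEquivOfSurjective (f := π2.toRingHom) hπ2)
  haveI : IsLocalRing (Localization.AtPrime 𝔓 ⧸ I) := e1.symm.isLocalRing
  haveI : IsLocalRing (Localization.AtPrime 𝔔 ⧸ I') := e2.symm.isLocalRing
  have hItop : I ≠ ⊤ := Ideal.Quotient.nontrivial_iff.mp inferInstance
  have h2 : Pi1.IsCompleteIntersection (Localization.AtPrime 𝔔 ⧸ I') :=
    ci_of_ringEquiv e2 h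
  have h1 := ci_descent_regular I hItop h2
  exact ci_of_ringEquiv e1.symm h1

/-- **Lemma E**: for a finitely generated `K`-algebra `A₀`, a field extension `K'/K` and a prime
`𝔭'` of `A₀ ⊗[K] K'` with contraction `𝔭`, if `(A₀ ⊗ K')_𝔭'` is a complete intersection then so
is `(A₀)_𝔭`. -/
theorem ci_descent_tensor (K K' : Type u) [Field K] [Field K'] [Algebra K K'] (A₀ : Type u)
    [CommRing A₀] [Algebra K A₀] [Algebra.FiniteType K A₀] (𝔭' : Ideal (A₀ ⊗[K] K'))
    [𝔭'.IsPrime]
    (h : Pi1.IsCompleteIntersection (Localization.AtPrime 𝔭')) :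
    Pi1.IsCompleteIntersection
      (Localization.AtPrime (𝔭'.comap (algebraMap A₀ (A₀ ⊗[K] K')))) := by
  classical
  obtain ⟨n, π, hπ⟩ := Algebra.FiniteType.iff_quotient_mvPolynomial''.mp
    (inferInstance : Algebra.FiniteType K A₀)
  let πT : (MvPolynomial (Fin n) K) ⊗[K] K' →ₐ[K] A₀ ⊗[K] K' :=
    Algebra.TensorProduct.map π (AlgHom.id K K')
  have hπT : Function.Surjective πT :=
    Algebra.TensorProduct.map_surjective π (AlgHom.id K K') hπ Function.surjective_id
  have hkerT : RingHom.ker πT.toRingHom = (RingHom.ker π.toRingHom).map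
      (algebraMap (MvPolynomial (Fin n) K) (MvPolynomial (Fin n) K ⊗[K] K')) :=
    Algebra.TensorProduct.rTensor_ker π hπ
  let eT : (MvPolynomial (Fin n) K) ⊗[K] K' ≃+* MvPolynomial (Fin n) K' :=
    (Algebra.TensorProduct.comm K (MvPolynomial (Fin n) K) K').toRingEquiv.trans
      (MvPolynomial.algebraTensorAlgEquiv K K').toRingEquiv
  haveI : IsRegularRing (MvPolynomial (Fin n) K') := inferInstance
  haveI hT : IsRegularRing ((MvPolynomial (Fin n) K) ⊗[K] K') :=
    IsRegularRing.of_ringEquiv eT.symm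
  haveI : IsRegularRing (MvPolynomial (Fin n) K) := inferInstance
  haveI : Module.Flat (MvPolynomial (Fin n) K) (MvPolynomial (Fin n) K ⊗[K] K') := inferInstance
  exact ci_descent_of_presentation π.toRingHom hπ πT.toRingHom hπT
    (algebraMap A₀ (A₀ ⊗[K] K')) (fun x => by
      show πT (x ⊗ₜ 1) = (π x) ⊗ₜ 1
      simp [πT]) hkerT 𝔭' h

end Groth.Agent.Lib.CIDescH8
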