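import Mathlib
import Groth.Agent.Lib.CIDesc2_helper8

/-!
# Descent of complete intersections along field extensions: categorical pushout form (helper8)
APPEND-ONLY once landed.
-/

set_option autoImplicit false
set_option maxHeartbeats 1600000
universe u

namespace Groth.Agent.Lib.CIDescH8

open IsLocalRing TensorProduct CategoryTheory Groth.Agent.Lib.CIInvH8

/-- transport of CI along a ring isomorphism, for localisations at corresponding primes -/
theorem ci_localization_of_ringEquiv {S S' : Type u} [CommRing S] [CommRing S']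
    [IsNoetherianRing S] (e : S ≃+* S') (P' : Ideal S') [P'.IsPrime]
    (h : Pi1.IsCompleteIntersection (Localization.AtPrime P')) :
    Pi1.IsCompleteIntersection (Localization.AtPrime (P'.comap e.toRingHom)) := by
  haveI : IsNoetherianRing S' := isNoetherianRing_of_ringEquiv S e
  have e' : Localization.AtPrime (P'.comap e.toRingHom) ≃+* Localization.AtPrime P' :=
    IsLocalization.ringEquivOfRingEquiv
      (M := (P'.comap e.toRingHom).primeCompl) (T := P'.primeCompl)
      (Localization.AtPrime (P'.comap e.toRingHom)) (Localization.AtPrime P') e (by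
        ext x
        simp only [Submonoid.mem_map, Ideal.mem_primeCompl_iff, Ideal.mem_comap]
        constructor
        · rintro ⟨y, hy, rfl⟩
          exact hy
        · intro hx
          exact ⟨e.symm x, by simpa using hx, by simp⟩)
  haveI : IsNoetherianRing (Localization.AtPrime (P'.comap e.toRingHom)) :=
    IsLocalization.isNoetherianRing (P'.comap e.toRingHom).primeCompl _ inferInstance
  haveI : IsNoetherianRing (Localization.AtPrime P') :=
    IsLocalization.isNoetherianRing P'.primeCompl _ inferInstance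
  exact ci_of_ringEquiv e' h

/-- **Lemma E'**: pushout form. -/
theorem ci_descent_pushout {K₀ K₀' A₀ B₀ : CommRingCat.{u}} (a : K₀ ⟶ A₀) (ι : K₀ ⟶ K₀')
    (φ : A₀ ⟶ B₀) (b : K₀' ⟶ B₀) (sq : IsPushout a ι φ b) (hK : IsField K₀) (hK' : IsField K₀')
    (ha : a.hom.FiniteType) (𝔭' : Ideal B₀) [𝔭'.IsPrime]
    (h : Pi1.IsCompleteIntersection (Localization.AtPrime 𝔭')) :
    Pi1.IsCompleteIntersection (Localization.AtPrime (𝔭'.comap φ.hom)) := by
  letI := hK.toField
  letI := hK'.toField
  letI : Algebra K₀ A₀ := a.hom.toAlgebra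
  letI : Algebra K₀ K₀' := ι.hom.toAlgebra
  haveI : Algebra.FiniteType K₀ A₀ := ha
  have sq' : IsPushout (CommRingCat.ofHom (algebraMap K₀ A₀))
      (CommRingCat.ofHom (algebraMap K₀ K₀')) φ b := sq
  let ec := (CommRingCat.isPushout_tensorProduct K₀ A₀ K₀').isoIsPushout _ _ sq'
  have hec : ∀ x : A₀, ec.hom (x ⊗ₜ[K₀] (1 : K₀')) = φ x := by
    intro x
    have := (CommRingCat.isPushout_tensorProduct K₀ A₀ K₀').inl_isoIsPushout_hom _ _ sq'
    exact congr($(this).hom x)
  let e : A₀ ⊗[K₀] K₀' ≃+* B₀ := ec.commRingCatIsoToRingEquiv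
  have he : ∀ x : A₀, e (x ⊗ₜ[K₀] (1 : K₀')) = φ x := hec
  haveI : IsNoetherianRing A₀ := Algebra.FiniteType.isNoetherianRing K₀ A₀
  haveI : IsNoetherianRing (A₀ ⊗[K₀] K₀') := by
    haveI : Algebra.FiniteType K₀' (K₀' ⊗[K₀] A₀) := inferInstance
    haveI : IsNoetherianRing (K₀' ⊗[K₀] A₀) := Algebra.FiniteType.isNoetherianRing K₀' _
    exact isNoetherianRing_of_ringEquiv _ (Algebra.TensorProduct.comm K₀ K₀' A₀).toRingEquiv
  have h1 := ci_localization_of_ringEquiv e 𝔭' h
  have h2 := ci_descent_tensor K₀ K₀' A₀ (𝔭'.comap e.toRingHom) h1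
  have hcomap : (𝔭'.comap e.toRingHom).comap (algebraMap A₀ (A₀ ⊗[K₀] K₀')) =
      𝔭'.comap φ.hom := by
    ext x
    simp only [Ideal.mem_comap]
    have : e.toRingHom (algebraMap A₀ (A₀ ⊗[K₀] K₀') x) = φ.hom x := he x
    rw [this]
  have key : ∀ (J₁ J₂ : Ideal A₀) [J₁.IsPrime] [J₂.IsPrime], J₁ = J₂ →
      Pi1.IsCompleteIntersection (Localization.AtPrime J₁) →
      Pi1.IsCompleteIntersection (Localization.AtPrime J₂) := by
    intro J₁ J₂ _ _ hJ hc
    subst hJ
    exact hc
  exact key _ _ hcomap h2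

end Groth.Agent.Lib.CIDescH8
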