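import Mathlib
import Groth.Agent.Lib.CIDesc3_helper8
import Groth.Agent.Lib.CIBC_helper8

/-!
# Descent of complete intersection fibres along base change (helper8)
APPEND-ONLY once landed.
-/

set_option autoImplicit false
set_option maxHeartbeats 1600000
universe u

namespace Groth.Agent.Lib.CIDescH8

open AlgebraicGeometry CategoryTheory Limits TensorProduct IsLocalRing
open Groth.Agent.Lib.CIInvH8 Groth.Agent.Lib.CICompH8

/-- the stalk of a scheme at a point of an affine open, as a localisation -/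
theorem exists_stalk_equiv {T : Scheme.{u}} {U : T.Opens} (hU : IsAffineOpen U) (t : T)
    (ht : t ∈ U) :
    Nonempty ((T.presheaf.stalk t) ≃+*
      Localization.AtPrime (hU.primeIdealOf ⟨t, ht⟩).asIdeal) := by
  letI := TopCat.Presheaf.algebra_section_stalk T.presheaf (⟨t, ht⟩ : U)
  haveI := hU.isLocalization_stalk ⟨t, ht⟩
  exact ⟨(IsLocalization.algEquiv (hU.primeIdealOf ⟨t, ht⟩).asIdeal.primeCompl
      (Localization.AtPrime (hU.primeIdealOf ⟨t, ht⟩).asIdeal)
      (T.presheaf.stalk t)).toRingEquiv.symm⟩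

/-- descent over a field extension: scheme form -/
theorem ci_descent_field {W W' : Scheme.{u}} {K K' : CommRingCat.{u}} (hK : IsField K)
    (hK' : IsField K') (p : W ⟶ Spec K) [LocallyOfFiniteType p] (p' : W' ⟶ Spec K')
    (φ : W' ⟶ W) (ι : K ⟶ K') (H : IsPullback φ p' p (Spec.map ι)) (w' : W')
    [IsNoetherianRing (W'.presheaf.stalk w')] [IsNoetherianRing (W.presheaf.stalk (φ w'))]
    (h : Pi1.IsCompleteIntersection (W'.presheaf.stalk w')) :
    Pi1.IsCompleteIntersection (W.presheaf.stalk (φ w')) := by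
  obtain ⟨_, ⟨U, hU, rfl⟩, hwU, -⟩ :=
    W.isBasis_affineOpens.exists_subset_of_mem_open (Set.mem_univ (φ w')) isOpen_univ
  have hU : IsAffineOpen U := hU
  haveI : IsAffineHom φ :=
    MorphismProperty.of_isPullback (P := @IsAffineHom) H.flip inferInstance
  have hUY' : IsAffineOpen (φ ⁻¹ᵁ U) := hU.preimage φ
  have hUST : (⊤ : (Spec K').Opens) ≤ (Spec.map ι) ⁻¹ᵁ (⊤ : (Spec K).Opens) := fun _ _ => trivial
  have hUSX : U ≤ p ⁻¹ᵁ (⊤ : (Spec K).Opens) := fun _ _ => trivial
  have hUY : φ ⁻¹ᵁ U = φ ⁻¹ᵁ U ⊓ p' ⁻¹ᵁ (⊤ : (Spec K').Opens) := by simp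
  have hiso := isIso_pushoutSection_of_isAffineOpen H hUST hUSX hUY (isAffineOpen_top _)
    (isAffineOpen_top _) hU
  have hpush := (isIso_pushoutSection_iff H hUST hUSX hUY).mp hiso
  have hK₀ : IsField Γ(Spec K, ⊤) :=
    MulEquiv.isField hK (Scheme.ΓSpecIso K).commRingCatIsoToRingEquiv.toMulEquiv
  have hK₀' : IsField Γ(Spec K', ⊤) :=
    MulEquiv.isField hK' (Scheme.ΓSpecIso K').commRingCatIsoToRingEquiv.toMulEquiv
  have hft : (p.appLE ⊤ U hUSX).hom.FiniteType :=
    HasRingHomProperty.appLE (P := @LocallyOfFiniteType) p inferInstance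
      ⟨⊤, isAffineOpen_top _⟩ ⟨U, hU⟩ hUSX
  have hw' : w' ∈ φ ⁻¹ᵁ U := hwU
  obtain ⟨e'⟩ := exists_stalk_equiv hUY' w' hw'
  obtain ⟨e⟩ := exists_stalk_equiv hU (φ w') hwU
  haveI : IsNoetherianRing
      (Localization.AtPrime (hUY'.primeIdealOf ⟨w', hw'⟩).asIdeal) :=
    isNoetherianRing_of_ringEquiv _ e'
  haveI : IsNoetherianRing
      (Localization.AtPrime (hU.primeIdealOf ⟨φ w', hwU⟩).asIdeal) :=
    isNoetherianRing_of_ringEquiv _ e
  have h1 : Pi1.IsCompleteIntersection
      (Localization.AtPrime (hUY'.primeIdealOf ⟨w', hw'⟩).asIdeal) :=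
    ci_of_ringEquiv e'.symm h
  have h2 := ci_descent_pushout _ _ _ _ hpush hK₀ hK₀' hft
    (hUY'.primeIdealOf ⟨w', hw'⟩).asIdeal h1
  have hcomap := IsAffineOpen.comap_primeIdealOf_appLE (f := φ) (x := w') U hU (φ ⁻¹ᵁ U) hUY'
    le_rfl hw'
  have hcomap' : (hUY'.primeIdealOf ⟨w', hw'⟩).asIdeal.comap
      (φ.appLE U (φ ⁻¹ᵁ U) (by simp)).hom =
      (hU.primeIdealOf ⟨φ w', hwU⟩).asIdeal := congrArg PrimeSpectrum.asIdeal hcomap
  have key : ∀ (J₁ J₂ : Ideal Γ(W, U)) [J₁.IsPrime] [J₂.IsPrime], J₁ = J₂ →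
      Pi1.IsCompleteIntersection (Localization.AtPrime J₁) →
      Pi1.IsCompleteIntersection (Localization.AtPrime J₂) := by
    intro J₁ J₂ _ _ hJ hc
    subst hJ
    exact hc
  have h3 := key _ _ hcomap' h2
  exact ci_of_ringEquiv e h3

open Groth.Agent.FibMapFlat Groth.Agent.FibNoeth Groth.Agent.FibStalkIso
  Groth.Agent.FibStalkDimH8 FibRedH8 Groth.Agent.CMLocusBC in
/-- CI fibre local rings descend along an arbitrary base change when `f` is locally of finite
type -/
theorem ci_descent' {X Y X' Y' : Scheme.{u}} (f : X ⟶ Y) [LocallyOfFiniteType f]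
    (f' : X' ⟶ Y') (g' : X' ⟶ X) (g : Y' ⟶ Y) (hc : IsPullback g' f' f g) (x' : X')
    (hCI : Pi1.IsCompleteIntersection (CInt.fiberStalk f' x')) :
    Pi1.IsCompleteIntersection (CInt.fiberStalk f (g' x')) := by
  have hpt : (f.fiberι (g (f' x'))) (fibMap hc (f' x') (f'.asFiber x')) = g' x' := by
    rw [fiberι_fibMap_apply, Scheme.Hom.fiberι_asFiber]
  obtain ⟨e⟩ := fiberStalk_transport_equiv f (g (f' x')) (fibMap hc (f' x') (f'.asFiber x'))
    (g' x') hpt
  haveI : IsLocallyNoetherian (f.fiber (g (f' x'))) := isLocallyNoetherian_fiber f _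
  haveI : IsNoetherianRing
      ((f.fiber (g (f' x'))).presheaf.stalk (fibMap hc (f' x') (f'.asFiber x'))) :=
    inferInstance
  haveI : IsNoetherianRing ↑(CInt.fiberStalk f (g' x')) := isNoetherianRing_fiberStalk f _
  haveI : LocallyOfFiniteType f' :=
    MorphismProperty.of_isPullback (P := @LocallyOfFiniteType) hc inferInstance
  haveI : IsLocallyNoetherian (f'.fiber (f' x')) := isLocallyNoetherian_fiber f' (f' x')
  haveI : IsNoetherianRing ((f'.fiber (f' x')).presheaf.stalk (f'.asFiber x')) :=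
    inferInstance
  haveI : LocallyOfFiniteType (f.fiberToSpecResidueField (g (f' x'))) :=
    MorphismProperty.pullback_snd _ _ inferInstance
  have hK : IsField (Y.residueField (g (f' x'))) := Field.toIsField _
  have hK' : IsField (Y'.residueField (f' x')) := Field.toIsField _
  have h1 := ci_descent_field hK hK' (f.fiberToSpecResidueField (g (f' x')))
    (f'.fiberToSpecResidueField (f' x')) (fibMap hc (f' x')) (g.residueFieldMap (f' x'))
    (isPullback_fibMap hc (f' x')) (f'.asFiber x') hCI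
  exact ci_of_ringEquiv e h1

end Groth.Agent.Lib.CIDescH8
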