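import Mathlib
import Groth.Agent.Lib.CIDesc4_helper8

/-!
# CI morphisms: fpqc descent; CI local rings under field base change (helper8)
S2845, S2843.  APPEND-ONLY once landed.
-/

set_option autoImplicit false
set_option maxHeartbeats 1600000
universe u

namespace Groth.Agent.Lib.CIDescH8

open AlgebraicGeometry CategoryTheory Limits TensorProduct IsLocalRing MorphismProperty
open Groth.Agent.Lib.CIInvH8 Groth.Agent.Lib.CICompH8 Groth.Agent.Lib.CIBCH8

lemma ringHom_flat_codescendsAlong_faithfullyFlat :
    RingHom.CodescendsAlong RingHom.Flat RingHom.FaithfullyFlat := by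
  refine .mk _ RingHom.Flat.respectsIso fun R S T _ _ _ _ _ h h' ↦ ?_
  rw [RingHom.flat_algebraMap_iff] at h' ⊢
  rw [RingHom.faithfullyFlat_algebraMap_iff] at h
  exact Module.Flat.of_flat_tensorProduct R T S

theorem flat_descendsAlong : DescendsAlong @Flat (@Surjective ⊓ @Flat ⊓ @QuasiCompact) :=
  HasRingHomProperty.descendsAlong_flat ringHom_flat_codescendsAlong_faithfullyFlat

theorem main2845 {X S S' : Scheme.{u}} (f : X ⟶ S) (g : S' ⟶ S)
    [QuasiCompact g] [Flat g] [Surjective g] (h : CInt.IsCIMorphism (pullback.snd f g)) :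
    CInt.IsCIMorphism f := by
  obtain ⟨h1, h2, h3⟩ := h
  have hg : (@Surjective ⊓ @Flat ⊓ @QuasiCompact : MorphismProperty Scheme.{u}) g :=
    ⟨⟨inferInstance, inferInstance⟩, inferInstance⟩
  have hflat : Flat f := by
    haveI := flat_descendsAlong.{u}
    exact MorphismProperty.of_pullback_snd_of_descendsAlong (P := @Flat)
      (Q := (@Surjective ⊓ @Flat ⊓ @QuasiCompact)) (f := f) (g := g) hg h1
  have hlfp : LocallyOfFinitePresentation f :=
    MorphismProperty.of_pullback_snd_of_descendsAlong (P := @LocallyOfFinitePresentation)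
      (Q := (@Surjective ⊓ @Flat ⊓ @QuasiCompact)) (f := f) (g := g) hg h2
  refine ⟨hflat, hlfp, fun x => ?_⟩
  obtain ⟨s', hs'⟩ := (inferInstance : Surjective g).surj (f x)
  obtain ⟨x', hx', -⟩ := Scheme.Pullback.exists_preimage_pullback (f := f) (g := g) x s' hs'.symm
  have := ci_descent' f (pullback.snd f g) (pullback.fst f g) g (IsPullback.of_hasPullback f g) x'
    (h3 x')
  rw [hx'] at this
  exact this

section field

open Groth.Agent.FibStalkDimH8 Groth.Agent.FibStalkIso

/-- the maximal ideal of a local ring of the spectrum of a field is zero -/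
theorem maximalIdeal_stalk_Spec_field (k : Type u) [Field k] (y : Spec (CommRingCat.of k)) :
    maximalIdeal ((Spec (CommRingCat.of k)).presheaf.stalk y) = ⊥ := by
  have e : ((Spec (CommRingCat.of k)).presheaf.stalk y) ≃+*
      Localization.AtPrime (y : PrimeSpectrum k).asIdeal :=
    (Spec.stalkIso (CommRingCat.of k) y).commRingCatIsoToRingEquiv
  have hy : (y : PrimeSpectrum k).asIdeal = ⊥ :=
    Ideal.eq_bot_of_prime (y : PrimeSpectrum k).asIdeal
  have hm : maximalIdeal (Localization.AtPrime (y : PrimeSpectrum k).asIdeal) = ⊥ := by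
    rw [← Localization.AtPrime.map_eq_maximalIdeal, eq_bot_iff, Ideal.map_le_iff_le_comap]
    intro a ha
    rw [hy, Ideal.mem_bot] at ha
    rw [ha]
    exact Ideal.zero_mem _
  rw [eq_bot_iff]
  intro a ha
  have h1 : e a ∈ maximalIdeal (Localization.AtPrime (y : PrimeSpectrum k).asIdeal) := by
    rw [mem_maximalIdeal, mem_nonunits_iff] at ha ⊢
    intro hu
    apply ha
    have := hu.map e.symm
    rwa [RingEquiv.symm_apply_apply] at this
  rw [hm, Ideal.mem_bot] at h1
  rw [Ideal.mem_bot]
  exact e.injective (by rw [h1, map_zero])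

/-- over the spectrum of a field the fibre local ring is the local ring -/
theorem exists_stalk_equiv_fiberStalk {k : Type u} [Field k] {X : Scheme.{u}}
    (f : X ⟶ Spec (CommRingCat.of k)) (x : X) :
    Nonempty ((X.presheaf.stalk x) ≃+* ↑(CInt.fiberStalk f x)) := by
  have h0 : fibIdeal f x = ⊥ := by
    show (maximalIdeal ((Spec (CommRingCat.of k)).presheaf.stalk (f x))).map _ = ⊥
    rw [maximalIdeal_stalk_Spec_field, Ideal.map_bot]
  exact ⟨(RingEquiv.quotientBot _).symm.trans
    ((Ideal.quotEquivOfEq h0.symm).trans (fibStalkEquiv f x))⟩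

theorem main2843' {k k' : Type u} [Field k] [Field k']
    (X : Scheme.{u}) (f : X ⟶ Spec (CommRingCat.of k)) [LocallyOfFiniteType f]
    (ι : CommRingCat.of k ⟶ CommRingCat.of k')
    (x' : ↥(pullback f (Spec.map ι))) :
    Pi1.IsCompleteIntersection (X.presheaf.stalk ((pullback.fst f (Spec.map ι)).base x')) ↔
      Pi1.IsCompleteIntersection ((pullback f (Spec.map ι)).presheaf.stalk x') := by
  have hc : IsPullback (pullback.fst f (Spec.map ι)) (pullback.snd f (Spec.map ι)) f (Spec.map ι) :=
    IsPullback.of_hasPullback f _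
  haveI : IsLocallyNoetherian X := LocallyOfFiniteType.isLocallyNoetherian f
  haveI : LocallyOfFiniteType (pullback.snd f (Spec.map ι)) :=
    MorphismProperty.pullback_snd _ _ inferInstance
  haveI : IsLocallyNoetherian (pullback f (Spec.map ι)) :=
    LocallyOfFiniteType.isLocallyNoetherian (pullback.snd f (Spec.map ι))
  constructor
  · intro h
    obtain ⟨e1⟩ := exists_stalk_equiv_fiberStalk f ((pullback.fst f (Spec.map ι)).base x')
    obtain ⟨e2⟩ := exists_stalk_equiv_fiberStalk (pullback.snd f (Spec.map ι)) x'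
    haveI : IsNoetherianRing ↑(CInt.fiberStalk f ((pullback.fst f (Spec.map ι)).base x')) :=
      isNoetherianRing_fiberStalk f _
    haveI : IsNoetherianRing ↑(CInt.fiberStalk (pullback.snd f (Spec.map ι)) x') :=
      isNoetherianRing_fiberStalk _ _
    have h1 : Pi1.IsCompleteIntersection
        (CInt.fiberStalk f ((pullback.fst f (Spec.map ι)).base x')) :=
      ci_of_ringEquiv e1.symm h
    have h2 := ci_ascent' f (pullback.snd f (Spec.map ι)) (pullback.fst f (Spec.map ι))
      (Spec.map ι) hc x' h1
    exact ci_of_ringEquiv e2 h2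
  · intro h
    exact ci_descent_field (Field.toIsField k) (Field.toIsField k') f
      (pullback.snd f (Spec.map ι)) (pullback.fst f (Spec.map ι)) ι hc x' h

theorem main2843 {k k' : Type u} [Field k] [Field k'] [Algebra k k']
    (X : Scheme.{u}) (f : X ⟶ Spec (CommRingCat.of k)) [LocallyOfFiniteType f]
    (x' : ↥(pullback f (Spec.map (CommRingCat.ofHom (algebraMap k k'))))) :
    Pi1.IsCompleteIntersection (X.presheaf.stalk
        ((pullback.fst f (Spec.map (CommRingCat.ofHom (algebraMap k k')))).base x')) ↔
      Pi1.IsCompleteIntersection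
        ((pullback f (Spec.map (CommRingCat.ofHom (algebraMap k k')))).presheaf.stalk x') :=
  main2843' X f (CommRingCat.ofHom (algebraMap k k')) x'

end field

end Groth.Agent.Lib.CIDescH8
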