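import Mathlib
import Groth.Prelude.Def_RegImm
import Groth.Agent.Lib.CIField2_helper2
import Groth.Agent.Lib.SyntStd_helper2
import Groth.Agent.Lib.SyntCover_lead

/-!
# Complete intersections over a field, part 3 (helper2): schemes locally of finite type over a
field (S9368).  APPEND-ONLY once landed.
-/

set_option autoImplicit false
universe u

namespace Groth.Agent.Lib.CIField

open AlgebraicGeometry CategoryTheory TopologicalSpace
open Groth.Agent.Lib.SyntTA Groth.Agent.Lib.SyntStd Groth.Agent.Lib.SyntSch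
open Groth.Agent.Lib.SyntCover_lead

section ringlevel

variable (k : Type u) [Field k]

theorem isSyntomic_field_iff (B : Type u) [CommRing B] [Algebra k B] :
    Synt.IsSyntomic k B ↔ Synt.IsLCIOver k B := by
  rw [main9287, isLCIOver_iff_isLCI]
  exact ⟨fun h => h.2, fun h => ⟨inferInstance, h⟩⟩

theorem isGlobalCI_away_transport {B B' : Type u} [CommRing B] [CommRing B'] [Algebra k B]
    [Algebra B B'] [Algebra k B'] [IsScalarTower k B B'] (g : B) [IsLocalization.Away g B'] :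
    Synt.IsGlobalCI k (Localization.Away g) ↔ Synt.IsGlobalCI k B' := by
  let e : Localization.Away g ≃ₐ[k] B' :=
    (IsLocalization.algEquiv (Submonoid.powers g) (Localization.Away g) B').restrictScalars k
  exact ⟨isGlobalCI_of_algEquiv e, isGlobalCI_of_algEquiv e.symm⟩

theorem isLCIOver_away_transport {B B' : Type u} [CommRing B] [CommRing B'] [Algebra k B]
    [Algebra B B'] [Algebra k B'] [IsScalarTower k B B'] (g : B) [IsLocalization.Away g B'] :
    Synt.IsLCIOver k (Localization.Away g) ↔ Synt.IsLCIOver k B' := by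
  let e : Localization.Away g ≃ₐ[k] B' :=
    (IsLocalization.algEquiv (Submonoid.powers g) (Localization.Away g) B').restrictScalars k
  exact ⟨isLCIOver_of_algEquiv e, isLCIOver_of_algEquiv e.symm⟩

theorem isCIOver_atPrime_transport {B B' : Type u} [CommRing B] [CommRing B'] [Algebra k B]
    [Algebra B B'] [Algebra k B'] [IsScalarTower k B B'] (q : Ideal B) [q.IsPrime]
    [IsLocalization.AtPrime B' q] [IsLocalRing B'] :
    Synt.IsCIOver k (Localization.AtPrime q) ↔ Synt.IsCIOver k B' := by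
  let e : Localization.AtPrime q ≃ₐ[k] B' :=
    (IsLocalization.algEquiv q.primeCompl (Localization.AtPrime q) B').restrictScalars k
  exact ⟨isCIOver_of_algEquiv k e, isCIOver_of_algEquiv k e.symm⟩

end ringlevel

section scheme

variable (k : Type u) [Field k] {X : Scheme.{u}} (p : X ⟶ Spec (CommRingCat.of k))

/-- the structure map `k → Γ(X, U)`. -/
noncomputable def phi (U : X.Opens) : k →+* Γ(X, U) :=
  ((Scheme.ΓSpecIso (CommRingCat.of k)).inv ≫ p.appLE ⊤ U le_top).hom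

lemma phi_res {U U' : X.Opens} (i : U' ⟶ U) :
    (X.presheaf.map i.op).hom.comp (phi k p U) = phi k p U' := by
  unfold phi
  rw [← Scheme.Hom.appLE_map p (le_top : U ≤ p ⁻¹ᵁ ⊤) i.op]
  rfl

lemma phi_res_apply {U U' : X.Opens} (i : U' ⟶ U) (r : k) :
    (X.presheaf.map i.op).hom (phi k p U r) = phi k p U' r := by
  rw [← phi_res k p i]
  rfl

theorem isSyntomicAt_of_isLCIOver (x : X) (U : X.affineOpens) (hx : x ∈ U.1)
    (h : @Synt.IsLCIOver k _ Γ(X, U.1) _ (phi k p U.1).toAlgebra) : Synt.IsSyntomicAt p x := by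
  have e : U.1 ≤ p ⁻¹ᵁ (⊤ : (Spec (CommRingCat.of k)).Opens) := le_top
  refine ⟨U, ⟨⊤, isAffineOpen_top _⟩, e, hx, ?_⟩
  show @Synt.IsSyntomic Γ(Spec (CommRingCat.of k), ⊤) _ Γ(X, U.1) _
    (p.appLE ⊤ U.1 e).hom.toAlgebra
  rw [← syntHom_iff]
  have h1 : SyntHom (phi k p U.1) := by
    rw [syntHom_iff]
    letI := (phi k p U.1).toAlgebra
    exact (isSyntomic_field_iff k _).mpr h
  exact (syntHom_respectsIso.cancel_left_isIso (Scheme.ΓSpecIso (CommRingCat.of k)).inv
    (p.appLE ⊤ U.1 e)).mp h1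

theorem isLCIOver_of_isSyntomicMor (h : Synt.IsSyntomicMor p) (U : X.affineOpens) :
    @Synt.IsLCIOver k _ Γ(X, U.1) _ (phi k p U.1).toAlgebra := by
  have e : U.1 ≤ p ⁻¹ᵁ (⊤ : (Spec (CommRingCat.of k)).Opens) := le_top
  have h0 := (main9363 p).mp h U ⟨⊤, isAffineOpen_top _⟩ e
  have h1 : SyntHom (p.appLE ⊤ U.1 e).hom := (syntHom_iff _).mpr h0
  have h2 : SyntHom (phi k p U.1) :=
    (syntHom_respectsIso.cancel_left_isIso (Scheme.ΓSpecIso (CommRingCat.of k)).inv
      (p.appLE ⊤ U.1 e)).mpr h1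
  letI := (phi k p U.1).toAlgebra
  exact (isSyntomic_field_iff k _).mp ((syntHom_iff _).mp h2)

theorem finiteType_phi [LocallyOfFiniteType p] (U : X.affineOpens) :
    @Algebra.FiniteType k Γ(X, U.1) _ _ (phi k p U.1).toAlgebra := by
  have e : U.1 ≤ p ⁻¹ᵁ (⊤ : (Spec (CommRingCat.of k)).Opens) := le_top
  have h1 : (p.appLE ⊤ U.1 e).hom.FiniteType := p.finiteType_appLE (isAffineOpen_top _) U.2 e
  have h2 : (phi k p U.1).FiniteType :=
    (RingHom.finiteType_respectsIso.cancel_left_isIso (Scheme.ΓSpecIso (CommRingCat.of k)).inv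
      (p.appLE ⊤ U.1 e)).mpr h1
  exact h2

theorem isGlobalCI_basicOpen_iff (U : X.affineOpens) (g : Γ(X, U.1)) :
    (letI := (phi k p U.1).toAlgebra; Synt.IsGlobalCI k (Localization.Away g)) ↔
      @Synt.IsGlobalCI k _ Γ(X, X.basicOpen g) _ (phi k p (X.basicOpen g)).toAlgebra := by
  letI : Algebra k Γ(X, U.1) := (phi k p U.1).toAlgebra
  letI : Algebra k Γ(X, X.basicOpen g) := (phi k p (X.basicOpen g)).toAlgebra
  haveI : IsScalarTower k Γ(X, U.1) Γ(X, X.basicOpen g) :=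
    IsScalarTower.of_algebraMap_eq (fun r =>
      (phi_res_apply k p (homOfLE (X.basicOpen_le g)) r).symm)
  haveI := U.2.isLocalization_basicOpen g
  exact isGlobalCI_away_transport k g

theorem isLCIOver_basicOpen_iff (U : X.affineOpens) (g : Γ(X, U.1)) :
    (letI := (phi k p U.1).toAlgebra; Synt.IsLCIOver k (Localization.Away g)) ↔
      @Synt.IsLCIOver k _ Γ(X, X.basicOpen g) _ (phi k p (X.basicOpen g)).toAlgebra := by
  letI : Algebra k Γ(X, U.1) := (phi k p U.1).toAlgebra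
  letI : Algebra k Γ(X, X.basicOpen g) := (phi k p (X.basicOpen g)).toAlgebra
  haveI : IsScalarTower k Γ(X, U.1) Γ(X, X.basicOpen g) :=
    IsScalarTower.of_algebraMap_eq (fun r =>
      (phi_res_apply k p (homOfLE (X.basicOpen_le g)) r).symm)
  haveI := U.2.isLocalization_basicOpen g
  exact isLCIOver_away_transport k g

theorem isCIOver_stalk_iff (U : X.affineOpens) (x : X) (hx : x ∈ U.1) :
    (letI := (phi k p U.1).toAlgebra;
      Synt.IsCIOver k (Localization.AtPrime (U.2.primeIdealOf ⟨x, hx⟩).asIdeal)) ↔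
      @Synt.IsCIOver k _ (X.presheaf.stalk x) _
        ((X.presheaf.germ ⊤ x trivial).hom.comp (phi k p ⊤)).toAlgebra _ := by
  letI : Algebra k Γ(X, U.1) := (phi k p U.1).toAlgebra
  letI : Algebra k (X.presheaf.stalk x) :=
    ((X.presheaf.germ ⊤ x trivial).hom.comp (phi k p ⊤)).toAlgebra
  letI : Algebra Γ(X, U.1) (X.presheaf.stalk x) :=
    TopCat.Presheaf.algebra_section_stalk X.presheaf ⟨x, hx⟩
  haveI : IsScalarTower k Γ(X, U.1) (X.presheaf.stalk x) :=
    IsScalarTower.of_algebraMap_eq (fun r => by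
      show (X.presheaf.germ ⊤ x trivial).hom (phi k p ⊤ r) =
        (X.presheaf.germ U.1 x hx).hom (phi k p U.1 r)
      rw [← phi_res_apply k p (homOfLE (le_top : U.1 ≤ ⊤)) r]
      exact (TopCat.Presheaf.germ_res_apply X.presheaf (homOfLE (le_top : U.1 ≤ ⊤)) x hx _).symm)
  haveI := U.2.isLocalization_stalk ⟨x, hx⟩
  exact isCIOver_atPrime_transport k _

theorem mem_basicOpen_iff_notMem_primeIdealOf (U : X.affineOpens) (x : X) (hx : x ∈ U.1)
    (g : Γ(X, U.1)) :
    x ∈ X.basicOpen g ↔ g ∉ (U.2.primeIdealOf ⟨x, hx⟩).asIdeal := by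
  have h1 : U.2.primeIdealOf ⟨x, hx⟩ ∈ U.2.fromSpec ⁻¹ᵁ X.basicOpen g ↔
      g ∉ (U.2.primeIdealOf ⟨x, hx⟩).asIdeal := by
    rw [U.2.fromSpec_preimage_basicOpen]
    exact Iff.rfl
  rw [← h1]
  show _ ↔ U.2.fromSpec (U.2.primeIdealOf ⟨x, hx⟩) ∈ X.basicOpen g
  rw [U.2.fromSpec_primeIdealOf]

theorem main9368 (X : Scheme.{u}) (p : X ⟶ Spec (CommRingCat.of k)) [LocallyOfFiniteType p] :
    [Synt.IsSyntomicMor p,
      ∀ x : ↑X, ∃ U : X.affineOpens, x ∈ U.1 ∧
        letI := ((Scheme.ΓSpecIso (CommRingCat.of k)).inv ≫ p.appLE ⊤ U.1 le_top).hom.toAlgebra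
        Synt.IsGlobalCI k Γ(X, U.1),
      ∀ x : ↑X,
        letI := ((Scheme.ΓSpecIso (CommRingCat.of k)).inv ≫ p.appLE ⊤ ⊤ le_top ≫
          X.presheaf.germ ⊤ x trivial).hom.toAlgebra
        Synt.IsCIOver k (X.presheaf.stalk x)].TFAE := by
  have exU : ∀ x : X, ∃ U : X.affineOpens, x ∈ U.1 := by
    intro x
    obtain ⟨U, hU, hxU, -⟩ := (Opens.isBasis_iff_nbhd.mp X.isBasis_affineOpens)
      (show x ∈ (⊤ : X.Opens) from trivial)
    exact ⟨⟨U, hU⟩, hxU⟩
  tfae_have 1 → 2 := by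
    intro h x
    obtain ⟨U, hxU⟩ := exU x
    have hL := isLCIOver_of_isSyntomicMor k p h U
    obtain ⟨g, hg, hG⟩ := hL.2 (U.2.primeIdealOf ⟨x, hxU⟩)
    refine ⟨⟨X.basicOpen g, U.2.basicOpen g⟩,
      (mem_basicOpen_iff_notMem_primeIdealOf U x hxU g).mpr hg, ?_⟩
    exact (isGlobalCI_basicOpen_iff k p U g).mp hG
  tfae_have 2 → 3 := by
    intro h x
    obtain ⟨U, hxU, hG⟩ := h x
    have hG' : @Synt.IsGlobalCI k _ Γ(X, U.1) _ (phi k p U.1).toAlgebra := hG
    refine (isCIOver_stalk_iff k p U x hxU).mp ?_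
    letI : Algebra k Γ(X, U.1) := (phi k p U.1).toAlgebra
    haveI : Algebra.FiniteType k Γ(X, U.1) := finiteType_phi k p U
    exact ((main9144 k Γ(X, U.1) (U.2.primeIdealOf ⟨x, hxU⟩).asIdeal).2).mpr
      ⟨1, fun h1 => (U.2.primeIdealOf ⟨x, hxU⟩).isPrime.ne_top ((Ideal.eq_top_iff_one _).mpr h1),
        Groth.Agent.Lib.SyntCM.isGlobalCI_localization_away k 1 hG'⟩
  tfae_have 3 → 1 := by
    intro h x
    obtain ⟨U, hxU⟩ := exU x
    have h3 := (isCIOver_stalk_iff k p U x hxU).mpr (h x)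
    letI : Algebra k Γ(X, U.1) := (phi k p U.1).toAlgebra
    haveI : Algebra.FiniteType k Γ(X, U.1) := finiteType_phi k p U
    obtain ⟨g, hg, hG⟩ := ((main9144 k Γ(X, U.1) (U.2.primeIdealOf ⟨x, hxU⟩).asIdeal).1).mp h3
    have hG' := (isLCIOver_basicOpen_iff k p U g).mp hG
    exact isSyntomicAt_of_isLCIOver k p x ⟨X.basicOpen g, U.2.basicOpen g⟩
      ((mem_basicOpen_iff_notMem_primeIdealOf U x hxU g).mpr hg) hG'
  tfae_finish

end scheme

end Groth.Agent.Lib.CIField
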