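import Mathlib
import Groth.Agent.Lib.CIField1_helper2
import Groth.Agent.Lib.CIField_helper8

/-!
# The complete intersection locus of a quotient of a regular ring is open (helper8)
APPEND-ONLY once landed.
-/

set_option autoImplicit false
set_option maxHeartbeats 800000
universe u

namespace Groth.Agent.Lib.CILocusH8

open IsLocalRing AlgebraicGeometry Groth.Agent.Lib.FibKoszul Groth.Agent.Lib.CIField
  Groth.Agent.Lib.CIInvH8

/-- `KRAt` is an open condition on the prime. -/
theorem isOpen_krAt {P : Type u} [CommRing P] (J : Ideal P) :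
    IsOpen {𝔔 : PrimeSpectrum P | KRAt J 𝔔.asIdeal} := by
  rw [isOpen_iff_forall_mem_open]
  rintro 𝔔 ⟨g, hg, T, i1, i2, i3, l, hl, hJ⟩
  refine ⟨(PrimeSpectrum.basicOpen g : Set (PrimeSpectrum P)), ?_,
    (PrimeSpectrum.basicOpen g).isOpen, hg⟩
  intro 𝔔' hg'
  exact ⟨g, hg', T, i1, i2, i3, l, hl, hJ⟩

/-- For `B` regular, `(B/I)_q` is a complete intersection iff `I` is Koszul-regular near the
preimage of `q`. -/
theorem ci_atPrime_quot_iff (B : Type u) [CommRing B] [IsRegularRing B] (I : Ideal B)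
    (q : Ideal (B ⧸ I)) [q.IsPrime] :
    Pi1.IsCompleteIntersection (Localization.AtPrime q) ↔
      KRAt I (q.comap (Ideal.Quotient.mk I)) := by
  classical
  haveI : (q.comap (Ideal.Quotient.mk I)).IsPrime := Ideal.comap_isPrime _ _
  set Q : Ideal B := q.comap (Ideal.Quotient.mk I) with hQ
  have hIQ : I ≤ Q := by
    intro x hx
    rw [hQ, Ideal.mem_comap, Ideal.Quotient.eq_zero_iff_mem.mpr hx]
    exact zero_mem _
  obtain ⟨πq, hsurj, hker⟩ := exists_localAlgHom (k := B) (Ideal.Quotient.mkₐ B I)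
    (Ideal.Quotient.mkₐ_surjective B I) q
  have hkerI : RingHom.ker (Ideal.Quotient.mkₐ B I).toRingHom = I := by
    ext x
    rw [RingHom.mem_ker]
    exact Ideal.Quotient.eq_zero_iff_mem
  rw [hkerI] at hker
  change Localization.AtPrime Q →ₐ[B] Localization.AtPrime q at πq
  set J : Ideal (Localization.AtPrime Q) := I.map (algebraMap B (Localization.AtPrime Q)) with hJ
  have e : (Localization.AtPrime Q ⧸ J) ≃+* Localization.AtPrime q :=
    (Ideal.quotEquivOfEq hker.symm).trans
      (RingHom.quotientKerEquivOfSurjective (f := πq.toRingHom) hsurj)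
  haveI : IsNoetherianRing (Localization.AtPrime Q) :=
    IsLocalization.isNoetherianRing Q.primeCompl _ inferInstance
  haveI : IsNoetherianRing (B ⧸ I) := inferInstance
  haveI : IsNoetherianRing (Localization.AtPrime q) :=
    IsLocalization.isNoetherianRing q.primeCompl _ inferInstance
  have hJle : J ≤ maximalIdeal (Localization.AtPrime Q) := by
    rw [hJ, Ideal.map_le_iff_le_comap]
    intro x hx
    rw [Ideal.mem_comap, IsLocalization.AtPrime.to_map_mem_maximal_iff (Localization.AtPrime Q) Q]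
    exact hIQ hx
  have hJtop : J ≠ ⊤ := fun h =>
    (maximalIdeal.isMaximal (Localization.AtPrime Q)).ne_top (top_le_iff.mp (h ▸ hJle))
  haveI : Nontrivial (Localization.AtPrime Q ⧸ J) := Ideal.Quotient.nontrivial_iff.mpr hJtop
  haveI : IsLocalRing (Localization.AtPrime Q ⧸ J) :=
    IsLocalRing.of_surjective' (Ideal.Quotient.mk J) Ideal.Quotient.mk_surjective
  rw [← isRegularIdeal_map_atPrime_iff_krAt I Q hIQ]
  constructor
  · intro h
    have h' : Pi1.IsCompleteIntersection (Localization.AtPrime Q ⧸ J) := ci_of_ringEquiv e h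
    obtain ⟨rs, hrs, hreg⟩ := (main2166 J hJtop).mp h'
    exact ⟨rs, hreg, hrs⟩
  · rintro ⟨rs, hreg, hrs⟩
    have h' : Pi1.IsCompleteIntersection (Localization.AtPrime Q ⧸ J) :=
      (main2166 J hJtop).mpr ⟨rs, hrs, hreg⟩
    exact ci_of_ringEquiv e.symm h'

/-- S2842. -/
theorem main2842 (B : Type u) [CommRing B] [IsRegularRing B] (I : Ideal B) :
    IsOpen {x : ↥(Spec (CommRingCat.of (B ⧸ I))) |
        Pi1.IsCompleteIntersection ((Spec (CommRingCat.of (B ⧸ I))).presheaf.stalk x)} ∧
      ∀ x : ↥(Spec (CommRingCat.of (B ⧸ I))),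
        IsRegularLocalRing ((Spec (CommRingCat.of (B ⧸ I))).presheaf.stalk x) →
        Pi1.IsCompleteIntersection ((Spec (CommRingCat.of (B ⧸ I))).presheaf.stalk x) := by
  classical
  refine ⟨?_, fun x h => by haveI := h; exact ci_of_regular _⟩
  haveI : IsNoetherianRing (B ⧸ I) := inferInstance
  have key : ∀ x : ↥(Spec (CommRingCat.of (B ⧸ I))),
      Pi1.IsCompleteIntersection ((Spec (CommRingCat.of (B ⧸ I))).presheaf.stalk x) ↔
        KRAt I ((PrimeSpectrum.comap (Ideal.Quotient.mk I) (x : PrimeSpectrum (B ⧸ I))).asIdeal) := by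
    intro x
    have e : ((Spec (CommRingCat.of (B ⧸ I))).presheaf.stalk x) ≃+*
        Localization.AtPrime x.asIdeal :=
      (Spec.stalkIso (CommRingCat.of (B ⧸ I)) x).commRingCatIsoToRingEquiv
    haveI : IsNoetherianRing (Localization.AtPrime x.asIdeal) :=
      IsLocalization.isNoetherianRing x.asIdeal.primeCompl _ inferInstance
    haveI : IsNoetherianRing ((Spec (CommRingCat.of (B ⧸ I))).presheaf.stalk x) :=
      isNoetherianRing_of_ringEquiv _ e.symm
    rw [PrimeSpectrum.comap_asIdeal, ← ci_atPrime_quot_iff B I x.asIdeal]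
    exact ⟨fun h => ci_of_ringEquiv e.symm h, fun h => ci_of_ringEquiv e h⟩
  have : {x : ↥(Spec (CommRingCat.of (B ⧸ I))) |
        Pi1.IsCompleteIntersection ((Spec (CommRingCat.of (B ⧸ I))).presheaf.stalk x)} =
      (fun x : ↥(Spec (CommRingCat.of (B ⧸ I))) =>
        PrimeSpectrum.comap (Ideal.Quotient.mk I) (x : PrimeSpectrum (B ⧸ I))) ⁻¹'
        {𝔔 : PrimeSpectrum B | KRAt I 𝔔.asIdeal} := by
    ext x
    exact key x
  rw [this]
  exact (isOpen_krAt I).preimage (PrimeSpectrum.continuous_comap (Ideal.Quotient.mk I))
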