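import Mathlib
import Groth.Agent.Lib.CISat_helper9
import Groth.Agent.Lib.SerreNormal_helper5
import Groth.Agent.Lib.DepthLoc_helper5

/-!
# Normal complete intersections are projectively normal (helper9)
-/

set_option autoImplicit false
universe u

namespace Groth.Agent.CINormal

open MvPolynomial IsLocalRing Groth.Agent.CISat

section Reg

variable (k : Type u) [Field k] (N r : ℕ) (f : Fin r → MvPolynomial (Fin N) k)

/-- the irrelevant ideal is not associated to a complete intersection of positive dimension -/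
theorem irr_not_mem_ass (hr : r < N) (hfm : ∀ i, f i ∈ irr k N)
    (hJ : (r : ℕ∞) ≤ (Ideal.span (Set.range f)).height) :
    irr k N ∉ associatedPrimes (MvPolynomial (Fin N) k)
      (MvPolynomial (Fin N) k ⧸ Ideal.span (Set.range f)) := by
  intro h
  obtain ⟨hprime, x, hx⟩ := (isAssociatedPrime_iff).1 h
  obtain ⟨g, rfl⟩ := Ideal.Quotient.mk_surjective x
  have hmem : ∀ a : MvPolynomial (Fin N) k, a ∈ irr k N ↔ a * g ∈ Ideal.span (Set.range f) := by
    intro a
    rw [hx, Submodule.mem_colon_singleton, Submodule.mem_bot]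
    rw [show a • (Ideal.Quotient.mk (Ideal.span (Set.range f)) g) =
      Ideal.Quotient.mk (Ideal.span (Set.range f)) (a * g) from rfl, Ideal.Quotient.eq_zero_iff_mem]
  have hg := ci_saturated k N r hr f hfm hJ g
    (fun i => ⟨1, by rw [pow_one]; exact (hmem _).1 (X_mem_irr k N i)⟩)
  have h1 : (1 : MvPolynomial (Fin N) k) ∈ irr k N := by
    rw [hmem, one_mul]
    exact hg
  exact (irr_isMaximal k N).ne_top ((Ideal.eq_top_iff_one _).2 h1)

/-- there is an element of the irrelevant ideal regular on the quotient -/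
theorem exists_regular (hr : r < N) (hfm : ∀ i, f i ∈ irr k N)
    (hJ : (r : ℕ∞) ≤ (Ideal.span (Set.range f)).height) :
    ∃ x ∈ irr k N, IsSMulRegular (MvPolynomial (Fin N) k ⧸ Ideal.span (Set.range f)) x := by
  classical
  by_contra hcon
  push_neg at hcon
  have hfin := associatedPrimes.finite (MvPolynomial (Fin N) k)
    (MvPolynomial (Fin N) k ⧸ Ideal.span (Set.range f))
  have hsub : ((irr k N : Ideal (MvPolynomial (Fin N) k)) : Set (MvPolynomial (Fin N) k)) ⊆
      ⋃ P ∈ (hfin.toFinset : Set (Ideal (MvPolynomial (Fin N) k))), (P : Set _) := by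
    intro x hx
    have h1 : x ∈ { r : MvPolynomial (Fin N) k | IsSMulRegular
        (MvPolynomial (Fin N) k ⧸ Ideal.span (Set.range f)) r }ᶜ := hcon x hx
    rw [← biUnion_associatedPrimes_eq_compl_regular] at h1
    simpa using h1
  rw [Ideal.subset_union_prime (f := fun P => P) ⊥ ⊥ (by
    intro P hP _ _
    rw [Set.Finite.mem_toFinset] at hP
    exact hP.isPrime)] at hsub
  obtain ⟨P, hP, hle⟩ := hsub
  rw [Set.Finite.mem_toFinset] at hP
  have hPeq : irr k N = P := (irr_isMaximal k N).eq_of_le hP.isPrime.ne_top hle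
  rw [← hPeq] at hP
  exact irr_not_mem_ass k N r f hr hfm hJ hP

/-- adding a regular element raises the height -/
theorem height_cons (hJ : (r : ℕ∞) ≤ (Ideal.span (Set.range f)).height)
    (x : MvPolynomial (Fin N) k)
    (hx : IsSMulRegular (MvPolynomial (Fin N) k ⧸ Ideal.span (Set.range f)) x) :
    ((r + 1 : ℕ) : ℕ∞) ≤ (Ideal.span (Set.range (Fin.cons x f : Fin (r + 1) → _))).height := by
  rw [Ideal.height_eq_inf_minimalPrimes]
  refine le_iInf₂ (fun P hP => ?_)
  haveI : P.IsPrime := hP.1.1
  have hJP : Ideal.span (Set.range f) ≤ P := by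
    refine le_trans (Ideal.span_mono ?_) hP.1.2
    rw [Fin.range_cons]
    exact Set.subset_insert _ _
  have hxP : x ∈ P := hP.1.2 (Ideal.subset_span ⟨0, by simp⟩)
  obtain ⟨P0, hP0, hP0P⟩ := Ideal.exists_minimalPrimes_le hJP
  haveI : P0.IsPrime := hP0.1.1
  have hass : P0 ∈ associatedPrimes (MvPolynomial (Fin N) k)
      (MvPolynomial (Fin N) k ⧸ Ideal.span (Set.range f)) := by
    apply Module.associatedPrimes.minimalPrimes_annihilator_subset_associatedPrimes
    rw [Ideal.annihilator_quotient]
    exact hP0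
  have hxP0 : x ∉ P0 := by
    intro hx0
    have : x ∈ ⋃ p ∈ associatedPrimes (MvPolynomial (Fin N) k)
        (MvPolynomial (Fin N) k ⧸ Ideal.span (Set.range f)), (p : Set _) :=
      Set.mem_biUnion hass hx0
    rw [biUnion_associatedPrimes_eq_compl_regular] at this
    exact this hx
  have hlt : P0 < P := lt_of_le_of_ne hP0P (fun h => hxP0 (h ▸ hxP))
  have h1 := Ideal.height_add_one_le_of_lt_of_isPrime hlt
  have h2 : (r : ℕ∞) ≤ P0.height := le_trans hJ (Ideal.height_mono hP0.1.2)
  have h3 : ((r + 1 : ℕ) : ℕ∞) = (r : ℕ∞) + 1 := by push_cast; rfl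
  rw [h3]
  exact le_trans (add_le_add_left h2 1) h1

end Reg

section Depth

variable (k : Type u) [Field k] (N r : ℕ) (f : Fin r → MvPolynomial (Fin N) k)

open RingTheory.Sequence Pointwise in
/-- regularity on the iterated quotient from regularity modulo the bigger ideal -/
theorem isSMulRegular_quotSMulTop (x y : MvPolynomial (Fin N) k)
    (hy : IsSMulRegular (MvPolynomial (Fin N) k ⧸
      Ideal.span (Set.range (Fin.cons x f : Fin (r + 1) → MvPolynomial (Fin N) k))) y) :
    IsSMulRegular (QuotSMulTop x (MvPolynomial (Fin N) k ⧸ Ideal.span (Set.range f))) y := by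
  rw [isSMulRegular_iff_right_eq_zero_of_smul] at hy ⊢
  intro z hz
  obtain ⟨z, rfl⟩ := Submodule.Quotient.mk_surjective _ z
  obtain ⟨g, rfl⟩ := Ideal.Quotient.mk_surjective z
  rw [← Submodule.Quotient.mk_smul, Submodule.Quotient.mk_eq_zero] at hz
  rw [Submodule.Quotient.mk_eq_zero]
  obtain ⟨w, -, hw⟩ := (Submodule.mem_smul_pointwise_iff_exists _ _ _).1 hz
  obtain ⟨h, rfl⟩ := Ideal.Quotient.mk_surjective w
  have hJle : Ideal.span (Set.range f) ≤
      Ideal.span (Set.range (Fin.cons x f : Fin (r + 1) → MvPolynomial (Fin N) k)) := by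
    apply Ideal.span_mono
    rw [Fin.range_cons]
    exact Set.subset_insert _ _
  have hxJ' : x ∈ Ideal.span (Set.range (Fin.cons x f : Fin (r + 1) → MvPolynomial (Fin N) k)) :=
    Ideal.subset_span ⟨0, by simp⟩
  have h1 : y * g - x * h ∈ Ideal.span (Set.range f) := by
    rw [← Ideal.Quotient.eq]
    exact hw.symm
  have h2 : y * g ∈ Ideal.span (Set.range (Fin.cons x f : Fin (r + 1) → MvPolynomial (Fin N) k)) := by
    have : y * g = (y * g - x * h) + h * x := by ring
    rw [this]
    exact Ideal.add_mem _ (hJle h1) (Ideal.mul_mem_left _ _ hxJ')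
  have h3 : g ∈ Ideal.span (Set.range (Fin.cons x f : Fin (r + 1) → MvPolynomial (Fin N) k)) := by
    have := hy (Ideal.Quotient.mk _ g) (by
      rw [show y • (Ideal.Quotient.mk (Ideal.span (Set.range
        (Fin.cons x f : Fin (r + 1) → MvPolynomial (Fin N) k))) g) =
        Ideal.Quotient.mk _ (y * g) from rfl, Ideal.Quotient.eq_zero_iff_mem]
      exact h2)
    rwa [Ideal.Quotient.eq_zero_iff_mem] at this
  rw [Fin.range_cons, Ideal.mem_span_insert] at h3
  obtain ⟨a, z, hzJ, rfl⟩ := h3
  rw [Submodule.mem_smul_pointwise_iff_exists]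
  refine ⟨Ideal.Quotient.mk _ a, trivial, ?_⟩
  rw [show x • (Ideal.Quotient.mk (Ideal.span (Set.range f)) a) =
    Ideal.Quotient.mk _ (x * a) from rfl, Ideal.Quotient.eq]
  have : x * a - (a * x + z) = -z := by ring
  rw [this]
  exact Ideal.neg_mem_iff _ |>.2 hzJ

open RingTheory.Sequence Pointwise in
/-- `depth ≥ 2` at the vertex of a complete intersection of dimension `≥ 2` -/
theorem two_le_idealDepth (hr : r + 1 < N) (hfm : ∀ i, f i ∈ irr k N)
    (hJ : (r : ℕ∞) ≤ (Ideal.span (Set.range f)).height) :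
    (2 : ℕ∞) ≤ LocCoh.idealDepth ((irr k N).map (Ideal.Quotient.mk (Ideal.span (Set.range f))))
      (MvPolynomial (Fin N) k ⧸ Ideal.span (Set.range f)) := by
  obtain ⟨x, hxm, hxreg⟩ := exists_regular k N r f (by omega) hfm hJ
  have hJ' := height_cons k N r f hJ x hxreg
  have hfm' : ∀ i, (Fin.cons x f : Fin (r + 1) → MvPolynomial (Fin N) k) i ∈ irr k N := by
    intro i
    refine Fin.cases ?_ (fun j => ?_) i
    · simpa using hxm
    · simpa using hfm j
  obtain ⟨y, hym, hyreg⟩ := exists_regular k N (r + 1) (Fin.cons x f) hr hfm' hJ'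
  have h2 : ((2 : ℕ) : ℕ∞) ≤ LocCoh.idealDepth
      ((irr k N).map (Ideal.Quotient.mk (Ideal.span (Set.range f))))
      (MvPolynomial (Fin N) k ⧸ Ideal.span (Set.range f)) := by
    rw [Groth.Agent.DepthLib.le_idealDepth_iff]
    right
    refine ⟨[x, y].map (algebraMap (MvPolynomial (Fin N) k)
      (MvPolynomial (Fin N) k ⧸ Ideal.span (Set.range f))), ?_, ?_, rfl⟩
    · rw [isWeaklyRegular_map_algebraMap_iff, isWeaklyRegular_cons_iff, isWeaklyRegular_cons_iff]
      exact ⟨hxreg, isSMulRegular_quotSMulTop k N r f x y hyreg, IsWeaklyRegular.nil _ _⟩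
    · intro a ha
      rw [List.map_cons, List.map_cons, List.map_nil, List.mem_cons, List.mem_singleton] at ha
      rcases ha with rfl | rfl
      · exact Ideal.mem_map_of_mem _ hxm
      · exact Ideal.mem_map_of_mem _ hym
  exact_mod_cast h2

end Depth

section Homog

variable (k : Type u) [Field k] (N : ℕ)

attribute [local instance] MvPolynomial.gradedAlgebra

/-- minimal primes of a homogeneous ideal lie in the irrelevant ideal -/
theorem minimalPrimes_le_irr (s : Set (MvPolynomial (Fin N) k))
    (hs : ∀ x ∈ s, ∃ d, x.IsHomogeneous d) (P : Ideal (MvPolynomial (Fin N) k))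
    (hP : P ∈ (Ideal.span s).minimalPrimes) : P ≤ irr k N := by
  have hJh : (Ideal.span s).IsHomogeneous (homogeneousSubmodule (Fin N) k) := by
    apply Ideal.homogeneous_span
    intro x hx
    obtain ⟨d, hd⟩ := hs x hx
    exact ⟨d, (mem_homogeneousSubmodule _ _).2 hd⟩
  haveI : P.IsPrime := hP.1.1
  have hcore : (P.homogeneousCore (homogeneousSubmodule (Fin N) k)).toIdeal.IsPrime :=
    Ideal.IsPrime.homogeneousCore inferInstance
  have hle : (P.homogeneousCore (homogeneousSubmodule (Fin N) k)).toIdeal ≤ P :=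
    Ideal.toIdeal_homogeneousCore_le _ P
  have hJle : Ideal.span s ≤ (P.homogeneousCore (homogeneousSubmodule (Fin N) k)).toIdeal := by
    rw [← hJh.toIdeal_homogeneousCore_eq_self]
    exact Ideal.homogeneousCore_mono _ hP.1.2
  have hPle : P ≤ (P.homogeneousCore (homogeneousSubmodule (Fin N) k)).toIdeal :=
    hP.2 ⟨hcore, hJle⟩ hle
  have hPh : P.IsHomogeneous (homogeneousSubmodule (Fin N) k) := by
    have h1 : (P.homogeneousCore (homogeneousSubmodule (Fin N) k)).toIdeal = P :=
      le_antisymm hle hPle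
    rw [← h1]
    exact (P.homogeneousCore (homogeneousSubmodule (Fin N) k)).isHomogeneous
  intro g hg
  have h0 := homogeneousComponent_mem_of_mem hPh hg 0
  rw [homogeneousComponent_zero] at h0
  by_contra hgi
  have hc : coeff 0 g ≠ 0 := by
    intro h
    apply hgi
    rw [irr, RingHom.mem_ker, constantCoeff_eq, h]
  apply hP.1.1.ne_top
  rw [Ideal.eq_top_iff_one]
  have h1 : C (coeff 0 g)⁻¹ * C (coeff 0 g) ∈ P := P.mul_mem_left _ h0
  rwa [← C_mul, inv_mul_cancel₀ hc, C_1] at h1

end Homog

section Main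

variable (k : Type u) [Field k]

/-- projective normality of normal complete intersections of dimension `≥ 1` -/
theorem ci_normal (N r : ℕ) (hr : r + 1 < N) (f : Fin r → MvPolynomial (Fin N) k)
    (hfh : ∀ i, ∃ d, (f i).IsHomogeneous d) (hfm : ∀ i, f i ∈ irr k N)
    (hJ : (r : ℕ∞) ≤ (Ideal.span (Set.range f)).height)
    (hnorm : ∀ (Q : Ideal (MvPolynomial (Fin N) k ⧸ Ideal.span (Set.range f))) [Q.IsPrime],
      (∃ i, Ideal.Quotient.mk (Ideal.span (Set.range f)) (MvPolynomial.X i) ∉ Q) →
        IsDomain (Localization.AtPrime Q) ∧ IsIntegrallyClosed (Localization.AtPrime Q)) :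
    IsDomain (MvPolynomial (Fin N) k ⧸ Ideal.span (Set.range f)) ∧
      IsIntegrallyClosed (MvPolynomial (Fin N) k ⧸ Ideal.span (Set.range f)) := by
  have hJm : Ideal.span (Set.range f) ≤ irr k N := by
    rw [Ideal.span_le]
    rintro _ ⟨i, rfl⟩
    exact hfm i
  -- the vertex
  have hm'max : ((irr k N).map (Ideal.Quotient.mk (Ideal.span (Set.range f)))).IsMaximal :=
    Ideal.IsMaximal.map_of_surjective_of_ker_le (f := Ideal.Quotient.mk (Ideal.span (Set.range f)))
      Ideal.Quotient.mk_surjective (m := irr k N) (by rw [Ideal.mk_ker]; exact hJm)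
  have hm'prime : ((irr k N).map (Ideal.Quotient.mk (Ideal.span (Set.range f)))).IsPrime :=
    hm'max.isPrime
  -- primes other than the vertex miss some coordinate
  have hcoord : ∀ (Q : Ideal (MvPolynomial (Fin N) k ⧸ Ideal.span (Set.range f))) [Q.IsPrime],
      Q ≠ (irr k N).map (Ideal.Quotient.mk (Ideal.span (Set.range f))) →
      ∃ i, Ideal.Quotient.mk (Ideal.span (Set.range f)) (MvPolynomial.X i) ∉ Q := by
    intro Q hQ hne
    by_contra hcon
    push Not at hcon
    apply hne
    have h1 : irr k N ≤ Q.comap (Ideal.Quotient.mk (Ideal.span (Set.range f))) :=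
      irr_le_of_X_mem k N _ (fun i => hcon i)
    have h2 : (irr k N).map (Ideal.Quotient.mk (Ideal.span (Set.range f))) ≤ Q :=
      Ideal.map_le_iff_le_comap.2 h1
    exact (hm'max.eq_of_le hQ.ne_top h2).symm
  -- height of the vertex
  have hht : (2 : ℕ∞) ≤ ((irr k N).map (Ideal.Quotient.mk (Ideal.span (Set.range f)))).height := by
    have h1 := Ideal.height_le_height_add_encard_of_subset (Set.range f) (p := irr k N)
      (by rintro _ ⟨i, rfl⟩; exact hfm i)
    have h2 : (Set.range f).encard ≤ r := by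
      rw [← Set.image_univ]
      refine le_trans (Set.encard_image_le _ _) ?_
      rw [Set.encard_univ, ENat.card_eq_coe_fintype_card, Fintype.card_fin]
    have h3 := le_height_irr k N
    by_contra hlt
    push Not at hlt
    obtain ⟨h, hh⟩ := ENat.ne_top_iff_exists.1 (ne_top_of_lt hlt)
    rw [← hh] at hlt h1
    have h4 : h < 2 := by exact_mod_cast hlt
    have h5 : (N : ℕ∞) ≤ ((h + r : ℕ) : ℕ∞) := by
      refine le_trans h3 (le_trans h1 ?_)
      push_cast
      exact add_le_add_right h2 _
    have h6 : N ≤ h + r := by exact_mod_cast h5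
    omega
  have hR1 : LocCoh.HasRk 1 (MvPolynomial (Fin N) k ⧸ Ideal.span (Set.range f)) := by
    intro Q hQ hQht
    have hne : Q ≠ (irr k N).map (Ideal.Quotient.mk (Ideal.span (Set.range f))) := by
      rintro rfl
      have h1 := le_trans hht hQht
      exact absurd h1 (by norm_num)
    obtain ⟨hd, hic⟩ := hnorm Q (hcoord Q hne)
    refine Groth.Agent.SerreLib.regular_of_normal_of_dim_le_one (Localization.AtPrime Q) ?_
    rw [IsLocalization.AtPrime.ringKrullDim_eq_height Q]
    exact_mod_cast hQht
  have hS2 : LocCoh.HasSk 2 (MvPolynomial (Fin N) k ⧸ Ideal.span (Set.range f))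
      (MvPolynomial (Fin N) k ⧸ Ideal.span (Set.range f)) := by
    intro Q hQ
    rw [Groth.Agent.DepthLib.supportDim_locSelf, Groth.Agent.DepthLib.depth_locSelf]
    by_cases hne : Q = (irr k N).map (Ideal.Quotient.mk (Ideal.span (Set.range f)))
    · subst hne
      have h1 := Groth.Agent.DepthLib.idealDepth_le_depth_localization
        ((irr k N).map (Ideal.Quotient.mk (Ideal.span (Set.range f))))
        (MvPolynomial (Fin N) k ⧸ Ideal.span (Set.range f))
        ((irr k N).map (Ideal.Quotient.mk (Ideal.span (Set.range f)))) le_rfl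
      rw [Groth.Agent.DepthLib.depth_locSelf] at h1
      have h2 := two_le_idealDepth k N r f hr hfm hJ
      refine (min_le_left _ _).trans ?_
      have h3 := le_trans h2 h1
      have h4 : ((2 : ℕ∞) : WithBot ℕ∞) ≤ ((LocCoh.depth (Localization.AtPrime
          ((irr k N).map (Ideal.Quotient.mk (Ideal.span (Set.range f)))))
          (Localization.AtPrime ((irr k N).map (Ideal.Quotient.mk (Ideal.span (Set.range f)))))
          : ℕ∞) : WithBot ℕ∞) := WithBot.coe_le_coe.2 h3
      exact h4
    · obtain ⟨hd, hic⟩ := hnorm Q (hcoord Q hne)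
      rw [← IsLocalization.AtPrime.ringKrullDim_eq_height Q (Localization.AtPrime Q)]
      exact Groth.Agent.SerreLib.min_two_dim_le_depth (Localization.AtPrime Q)
  have hall := (Groth.Agent.SerreLib.serre_criterion
    (MvPolynomial (Fin N) k ⧸ Ideal.span (Set.range f))).2 ⟨hR1, hS2⟩
  haveI hred : IsReduced (MvPolynomial (Fin N) k ⧸ Ideal.span (Set.range f)) :=
    isReduced_ofLocalizationMaximal _ (fun Q hQ => by
      haveI := hQ.isPrime
      obtain ⟨hd, -⟩ := hall Q
      infer_instance)
  -- minimal primes lie below the vertex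
  have hmin : ∀ P ∈ minimalPrimes (MvPolynomial (Fin N) k ⧸ Ideal.span (Set.range f)),
      P ≤ (irr k N).map (Ideal.Quotient.mk (Ideal.span (Set.range f))) := by
    intro P hP
    have h1 : P.comap (Ideal.Quotient.mk (Ideal.span (Set.range f))) ∈
        (Ideal.span (Set.range f)).minimalPrimes := by
      rw [Ideal.minimalPrimes_eq_comap]
      exact ⟨P, hP, rfl⟩
    have h2 := minimalPrimes_le_irr k N (Set.range f)
      (by rintro _ ⟨i, rfl⟩; exact hfh i) _ h1
    rw [← Ideal.map_comap_of_surjective (Ideal.Quotient.mk (Ideal.span (Set.range f)))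
      Ideal.Quotient.mk_surjective P]
    exact Ideal.map_mono h2
  obtain ⟨hdm, -⟩ := hall ((irr k N).map (Ideal.Quotient.mk (Ideal.span (Set.range f))))
  have key : ∀ c : MvPolynomial (Fin N) k ⧸ Ideal.span (Set.range f),
      algebraMap _ (Localization.AtPrime
        ((irr k N).map (Ideal.Quotient.mk (Ideal.span (Set.range f))))) c = 0 → c = 0 := by
    intro c hc
    rw [IsLocalization.map_eq_zero_iff
      ((irr k N).map (Ideal.Quotient.mk (Ideal.span (Set.range f)))).primeCompl] at hc
    obtain ⟨s, hs⟩ := hc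
    have hnil : c ∈ nilradical (MvPolynomial (Fin N) k ⧸ Ideal.span (Set.range f)) := by
      rw [nilradical_eq_sInf, Ideal.mem_sInf]
      intro P hP
      haveI : P.IsPrime := hP
      obtain ⟨P0, hP0, hP0P⟩ := Ideal.exists_minimalPrimes_le (bot_le : ⊥ ≤ P)
      apply hP0P
      have h1 : (s : MvPolynomial (Fin N) k ⧸ Ideal.span (Set.range f)) * c ∈ P0 := by
        rw [hs]; exact P0.zero_mem
      rcases hP0.1.1.mem_or_mem h1 with h2 | h2
      · exact absurd (hmin P0 hP0 h2) s.2
      · exact h2
    exact (mem_nilradical.1 hnil).eq_zero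
  have hdom : IsDomain (MvPolynomial (Fin N) k ⧸ Ideal.span (Set.range f)) := by
    haveI : Nontrivial (MvPolynomial (Fin N) k ⧸ Ideal.span (Set.range f)) :=
      Ideal.Quotient.nontrivial_iff.2 (ne_top_of_le_ne_top (irr_isMaximal k N).ne_top hJm)
    haveI : NoZeroDivisors (MvPolynomial (Fin N) k ⧸ Ideal.span (Set.range f)) := by
      constructor
      intro a b hab
      have h1 : algebraMap _ (Localization.AtPrime
          ((irr k N).map (Ideal.Quotient.mk (Ideal.span (Set.range f))))) a *
          algebraMap _ (Localization.AtPrime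
          ((irr k N).map (Ideal.Quotient.mk (Ideal.span (Set.range f))))) b = 0 := by
        rw [← map_mul, hab, map_zero]
      rcases mul_eq_zero.1 h1 with h2 | h2
      · exact Or.inl (key a h2)
      · exact Or.inr (key b h2)
    exact NoZeroDivisors.to_isDomain _
  refine ⟨hdom, ?_⟩
  exact IsIntegrallyClosed.of_localization_maximal (fun P _ _ => (hall P).2)

end Main

end Groth.Agent.CINormal
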