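import Mathlib
import Groth.Prelude.Def_RegImm
import Groth.Agent.Lib.RegImmRelBC_helper2

/-!
# S8892: arbitrary base change of relative `H_1`-regular / quasi-regular immersions (helper2)
-/

set_option autoImplicit false
universe u
open CategoryTheory CategoryTheory.Limits AlgebraicGeometry TopologicalSpace

namespace Groth.Agent.Lib.RegImmRelBCMain

open Groth.Agent.Lib.RegImmRelBC

theorem main8892 {Z X S S' : Scheme.{u}} (f : X ⟶ S) (i : Z ⟶ X) (k : RegImm.Kind)
    (hk : k = RegImm.Kind.h1 ∨ k = RegImm.Kind.quasi) (hi : RegImm.IsRelRegularImmersion k f i)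
    (g : S' ⟶ S) :
    RegImm.IsRelRegularImmersion k (pullback.snd f g) (pullback.snd i (pullback.fst f g)) := by
  obtain ⟨⟨himm, hat⟩, hflat⟩ := hi
  have hsq2 : IsPullback (pullback.fst f g) (pullback.snd f g) f g := IsPullback.of_hasPullback f g
  have hsq1 : IsPullback (pullback.fst i (pullback.fst f g)) (pullback.snd i (pullback.fst f g)) i
      (pullback.fst f g) := IsPullback.of_hasPullback i (pullback.fst f g)
  refine ⟨⟨?_, ?_⟩, ?_⟩
  · exact MorphismProperty.of_isPullback (P := @IsImmersion) hsq1 himm
  · intro z'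
    obtain ⟨U, hxU, hcU, rs, hrs, hkU⟩ := hat ((pullback.fst i (pullback.fst f g)) z')
    exact rel_bc_at f i k hk hflat g (pullback.fst f g) (pullback.snd f g) hsq2
      (pullback.fst i (pullback.fst f g)) (pullback.snd i (pullback.fst f g)) hsq1 z' U hxU hcU
      rs hrs hkU
  · have hbig : IsPullback (pullback.fst i (pullback.fst f g))
        (pullback.snd i (pullback.fst f g) ≫ pullback.snd f g) (i ≫ f) g :=
      hsq1.paste_vert hsq2
    exact MorphismProperty.of_isPullback (P := @Flat) hbig hflat

end Groth.Agent.Lib.RegImmRelBCMain
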