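import Mathlib

/-!
# Algebra for extending effective Cartier divisors across points with factorial local rings
-/

set_option autoImplicit false
universe u
namespace Groth.Agent.Lib.CartExt

section UFD

variable {R : Type*} [CommRing R] [IsDomain R] [UniqueFactorizationMonoid R]

/-- In a UFD: if every power of a prime in `𝔮` dividing `f` divides `h`, then `f ∣ s * h` for some
`s ∉ 𝔮`. -/
theorem exists_notMem_dvd_mul (𝔮 : Ideal R) [h𝔮 : 𝔮.IsPrime] (f : R) (hf : f ≠ 0) (h : R)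
    (hyp : ∀ ρ : R, Prime ρ → ρ ∈ 𝔮 → ∀ k : ℕ, ρ ^ k ∣ f → ρ ^ k ∣ h) :
    ∃ s, s ∉ 𝔮 ∧ f ∣ s * h := by
  revert hf h
  refine UniqueFactorizationMonoid.induction_on_prime (P := fun f => f ≠ 0 → ∀ h : R,
    (∀ ρ : R, Prime ρ → ρ ∈ 𝔮 → ∀ k : ℕ, ρ ^ k ∣ f → ρ ^ k ∣ h) → ∃ s, s ∉ 𝔮 ∧ f ∣ s * h) f ?_ ?_ ?_
  · intro h0; exact absurd rfl h0
  · intro x hx _ h _
    exact ⟨1, (Ideal.ne_top_iff_one 𝔮).mp h𝔮.ne_top, hx.dvd⟩
  · intro f' ρ hf' hρ ih _ h hyp
    by_cases hρq : ρ ∈ 𝔮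
    · obtain ⟨h', rfl⟩ : ρ ∣ h := by
        have := hyp ρ hρ hρq 1 (by rw [pow_one]; exact dvd_mul_right _ _)
        rwa [pow_one] at this
      obtain ⟨s, hs, hdvd⟩ := ih hf' h' (fun ρ' hρ' hρ'q k hk => by
        by_cases hdiv : ρ' ∣ ρ
        · obtain ⟨u, hu⟩ := (hρ'.dvd_prime_iff_associated hρ).mp hdiv
          have h1 : ρ' ^ (k + 1) ∣ ρ * f' := by
            rw [← hu, pow_succ', mul_assoc]
            exact mul_dvd_mul_left ρ' (dvd_mul_of_dvd_right hk _)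
          have h2 := hyp ρ' hρ' hρ'q (k + 1) h1
          rw [← hu, pow_succ', mul_assoc] at h2
          have h3 := (mul_dvd_mul_iff_left hρ'.ne_zero).mp h2
          exact Units.dvd_mul_left.mp h3
        · have h1 : ρ' ^ k ∣ ρ * f' := dvd_mul_of_dvd_right hk _
          exact hρ'.pow_dvd_of_dvd_mul_left k hdiv (hyp ρ' hρ' hρ'q k h1))
      refine ⟨s, hs, ?_⟩
      rw [mul_left_comm]
      exact mul_dvd_mul_left ρ hdvd
    · obtain ⟨s, hs, hdvd⟩ := ih hf' h (fun ρ' hρ' hρ'q k hk =>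
        hyp ρ' hρ' hρ'q k (dvd_mul_of_dvd_right hk _))
      refine ⟨ρ * s, fun hmem => (h𝔮.mem_or_mem hmem).elim hρq hs, ?_⟩
      rw [mul_assoc]
      exact mul_dvd_mul_left ρ hdvd

/-- An ideal of a Noetherian UFD which is "locally principal" at the primes of a set `𝒱` and
determined by its localizations at the primes of `𝒱` is principal. -/
theorem principal_of_local_conditions [IsNoetherianRing R] (J : Ideal R)
    (𝒱 : Set (PrimeSpectrum R))
    (R1 : ∀ 𝔮 ∈ 𝒱, ∃ f : R, f ≠ 0 ∧ ∀ a : R,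
      (∃ s, s ∉ 𝔮.asIdeal ∧ s * a ∈ J) ↔ (∃ s, s ∉ 𝔮.asIdeal ∧ f ∣ s * a))
    (R2 : ∀ a : R, (∀ 𝔮 ∈ 𝒱, ∃ s, s ∉ 𝔮.asIdeal ∧ s * a ∈ J) → a ∈ J) :
    ∃ h : R, h ≠ 0 ∧ J = Ideal.span {h} := by
  classical
  obtain ⟨inst⟩ : Nonempty (NormalizedGCDMonoid R) := inferInstance
  letI := inst
  obtain ⟨T, hT⟩ := (isNoetherianRing_iff_ideal_fg R).mp inferInstance J
  have G1 : ∀ a ∈ J, T.gcd id ∣ a := by
    intro a ha
    rw [← hT] at ha
    have hle : Ideal.span (T : Set R) ≤ Ideal.span {T.gcd id} :=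
      Ideal.span_le.mpr fun t ht => Ideal.mem_span_singleton.mpr (Finset.gcd_dvd (f := id) ht)
    exact Ideal.mem_span_singleton.mp (hle ha)
  have G2 : ∀ g, (∀ a ∈ J, g ∣ a) → g ∣ T.gcd id := fun g hg =>
    Finset.dvd_gcd fun t ht => hg t (hT ▸ Ideal.subset_span ht)
  have hone : ∀ 𝔮 : PrimeSpectrum R, (1 : R) ∉ 𝔮.asIdeal := fun 𝔮 =>
    (Ideal.ne_top_iff_one _).mp 𝔮.isPrime.ne_top
  have hmem : T.gcd id ∈ J := by
    apply R2
    intro 𝔮 h𝔮V
    obtain ⟨f, hf0, hf⟩ := R1 𝔮 h𝔮V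
    haveI := 𝔮.isPrime
    obtain ⟨s₁, hs₁, hs₁f⟩ := (hf f).mpr ⟨1, hone 𝔮, by rw [one_mul]⟩
    obtain ⟨s, hs, hdvd⟩ := exists_notMem_dvd_mul 𝔮.asIdeal f hf0 (T.gcd id)
      (fun ρ hρ hρq k hk => by
        apply G2
        intro a ha
        obtain ⟨s', hs', hfs'⟩ := (hf a).mp ⟨1, hone 𝔮, by rwa [one_mul]⟩
        have hρs : ¬ ρ ∣ s' := by
          rintro ⟨c, rfl⟩
          exact hs' (𝔮.asIdeal.mul_mem_right c hρq)
        exact hρ.pow_dvd_of_dvd_mul_left k hρs (hk.trans hfs'))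
    obtain ⟨c, hc⟩ := hdvd
    refine ⟨s₁ * s, fun hm => (𝔮.isPrime.mem_or_mem hm).elim hs₁ hs, ?_⟩
    have e : s₁ * s * T.gcd id = (s₁ * f) * c := by rw [mul_assoc, hc]; ring
    rw [e]
    exact J.mul_mem_right c hs₁f
  refine ⟨T.gcd id, ?_, ?_⟩
  · intro h0
    have hJ : J = ⊥ := by
      rw [eq_bot_iff]
      intro a ha
      have h1 := G1 a ha
      rw [h0, zero_dvd_iff] at h1
      rw [h1]
      exact zero_mem _
    by_cases hne : 𝒱.Nonempty
    · obtain ⟨𝔮, h𝔮V⟩ := hne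
      obtain ⟨f, hf0, hf⟩ := R1 𝔮 h𝔮V
      obtain ⟨s₁, hs₁, hs₁f⟩ := (hf f).mpr ⟨1, hone 𝔮, by rw [one_mul]⟩
      rw [hJ, Ideal.mem_bot] at hs₁f
      rcases mul_eq_zero.mp hs₁f with h1 | h1
      · exact hs₁ (h1 ▸ 𝔮.asIdeal.zero_mem)
      · exact hf0 h1
    · have h1 : (1 : R) ∈ J := R2 1 (fun 𝔮 h𝔮V => absurd ⟨𝔮, h𝔮V⟩ hne)
      rw [hJ, Ideal.mem_bot] at h1
      exact one_ne_zero h1
  · apply le_antisymm
    · intro a ha; exact Ideal.mem_span_singleton.mpr (G1 a ha)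
    · exact (Ideal.span_singleton_le_iff_mem _).mpr hmem

end UFD

section General

variable {A : Type u} [CommRing A]

/-- Elementwise form of "`I A_t` is generated by a non-zero-divisor". -/
theorem away_elementwise (I : Ideal A) (t : A) (B : Type*) [CommRing B] [Algebra A B]
    [IsLocalization.Away t B] (f : B) (hf : f ∈ nonZeroDivisors B)
    (hI : I.map (algebraMap A B) = Ideal.span {f}) :
    ∃ f₁ : A, (∀ i ∈ I, ∃ n : ℕ, t ^ n * i ∈ Ideal.span {f₁}) ∧ (∃ n : ℕ, t ^ n * f₁ ∈ I) ∧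
      (∀ a : A, f₁ * a = 0 → ∃ n : ℕ, t ^ n * a = 0) := by
  obtain ⟨⟨f₁, ⟨_, k, rfl⟩⟩, hk⟩ := IsLocalization.surj (Submonoid.powers t) f
  have hk' : f * algebraMap A B (t ^ k) = algebraMap A B f₁ := hk
  have hu : IsUnit (algebraMap A B (t ^ k)) :=
    IsLocalization.map_units B (⟨t ^ k, k, rfl⟩ : Submonoid.powers t)
  have hspan : Ideal.span {f} = Ideal.span {algebraMap A B f₁} := by
    rw [← hk']; exact (Ideal.span_singleton_mul_right_unit hu f).symm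
  have hnzd : algebraMap A B f₁ ∈ nonZeroDivisors B := by
    rw [← hk']; exact mul_mem hf hu.mem_nonZeroDivisors
  refine ⟨f₁, ?_, ?_, ?_⟩
  · intro i hi
    have h1 : algebraMap A B i ∈ Ideal.span {algebraMap A B f₁} := by
      rw [← hspan, ← hI]; exact Ideal.mem_map_of_mem _ hi
    obtain ⟨c, hc⟩ := Ideal.mem_span_singleton'.mp h1
    obtain ⟨⟨c₀, ⟨_, m, rfl⟩⟩, hm⟩ := IsLocalization.surj (Submonoid.powers t) c
    have hm' : c * algebraMap A B (t ^ m) = algebraMap A B c₀ := hm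
    have e : algebraMap A B (t ^ m * i) = algebraMap A B (c₀ * f₁) := by
      rw [map_mul, map_mul, ← hc, ← hm']; ring
    obtain ⟨⟨_, n, rfl⟩, hn⟩ := (IsLocalization.eq_iff_exists (Submonoid.powers t) B).mp e
    have hn' : t ^ n * (t ^ m * i) = t ^ n * (c₀ * f₁) := hn
    refine ⟨n + m, ?_⟩
    rw [pow_add, mul_assoc, hn']
    exact Ideal.mem_span_singleton'.mpr ⟨t ^ n * c₀, by ring⟩
  · have h1 : algebraMap A B f₁ ∈ I.map (algebraMap A B) := by
      rw [hI, hspan]; exact Ideal.mem_span_singleton_self _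
    obtain ⟨⟨⟨i, hi⟩, ⟨_, m, rfl⟩⟩, hm⟩ :=
      (IsLocalization.mem_map_algebraMap_iff (Submonoid.powers t) B).mp h1
    have hm' : algebraMap A B f₁ * algebraMap A B (t ^ m) = algebraMap A B i := hm
    have e : algebraMap A B (f₁ * t ^ m) = algebraMap A B i := by rw [map_mul]; exact hm'
    obtain ⟨⟨_, n, rfl⟩, hn⟩ := (IsLocalization.eq_iff_exists (Submonoid.powers t) B).mp e
    have hn' : t ^ n * (f₁ * t ^ m) = t ^ n * i := hn
    refine ⟨n + m, ?_⟩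
    have e2 : t ^ (n + m) * f₁ = t ^ n * (f₁ * t ^ m) := by ring
    rw [e2, hn']
    exact I.mul_mem_left _ hi
  · intro a ha
    have h1 : algebraMap A B f₁ * algebraMap A B a = 0 := by rw [← map_mul, ha, map_zero]
    have h0 : algebraMap A B a = 0 := (mem_nonZeroDivisors_iff.mp hnzd).1 _ h1
    obtain ⟨⟨_, n, rfl⟩, hn⟩ := (IsLocalization.map_eq_zero_iff (Submonoid.powers t) B a).mp h0
    exact ⟨n, hn⟩

/-- A common multiplier outside a prime. -/
theorem exists_common_mul (𝔭 : Ideal A) [h𝔭 : 𝔭.IsPrime] (K : Ideal A) (T : Finset A)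
    (h : ∀ i ∈ T, ∃ u, u ∉ 𝔭 ∧ u * i ∈ K) : ∃ s, s ∉ 𝔭 ∧ ∀ i ∈ T, s * i ∈ K := by
  classical
  induction T using Finset.induction_on with
  | empty => exact ⟨1, (Ideal.ne_top_iff_one 𝔭).mp h𝔭.ne_top, fun i hi => absurd hi (Finset.notMem_empty i)⟩
  | insert b T' hb ih =>
    obtain ⟨s₁, hs₁, h₁⟩ := ih (fun i hi => h i (Finset.mem_insert_of_mem hi))
    obtain ⟨s₂, hs₂, h₂⟩ := h b (Finset.mem_insert_self b T')
    refine ⟨s₁ * s₂, fun hm => (h𝔭.mem_or_mem hm).elim hs₁ hs₂, fun i hi => ?_⟩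
    rcases Finset.mem_insert.mp hi with rfl | hi'
    · have e : s₁ * s₂ * i = s₁ * (s₂ * i) := by ring
      rw [e]; exact K.mul_mem_left _ h₂
    · have e : s₁ * s₂ * i = s₂ * (s₁ * i) := by ring
      rw [e]; exact K.mul_mem_left _ (h₁ i hi')

/-- Localized form of closedness under the primes of `𝒱`. -/
theorem exists_notMem_mul_mem [IsNoetherianRing A] (I : Ideal A)
    (𝒱 : Set (PrimeSpectrum A))
    (h𝒱 : ∀ 𝔮 𝔮' : PrimeSpectrum A, 𝔮 ∈ 𝒱 → 𝔮'.asIdeal ≤ 𝔮.asIdeal → 𝔮' ∈ 𝒱)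
    (H2 : ∀ a : A, (∀ 𝔮 ∈ 𝒱, ∃ t : A, t ∉ 𝔮.asIdeal ∧ t * a ∈ I) → a ∈ I)
    (𝔭 : Ideal A) [𝔭.IsPrime] (a₀ : A)
    (h : ∀ 𝔮 ∈ 𝒱, 𝔮.asIdeal ≤ 𝔭 → ∃ t : A, t ∉ 𝔮.asIdeal ∧ t * a₀ ∈ I) :
    ∃ t : A, t ∉ 𝔭 ∧ t * a₀ ∈ I := by
  by_contra hcon
  push_neg at hcon
  have h𝔞 : ∀ t, t ∈ Submodule.colon I {a₀} ↔ t * a₀ ∈ I := fun t => by
    rw [Submodule.mem_colon_singleton, smul_eq_mul]
  have hle : Submodule.colon I {a₀} ≤ 𝔭 := fun t ht => by
    by_contra h'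
    exact hcon t h' ((h𝔞 t).mp ht)
  obtain ⟨𝔮₀, h𝔮₀, h𝔮₀le⟩ := Ideal.exists_minimalPrimes_le hle
  obtain ⟨y, hy⟩ := Submodule.exists_eq_colon_of_mem_minimalPrimes h𝔮₀
  have hprime : 𝔮₀.IsPrime := h𝔮₀.1.1
  by_cases hV : (⟨𝔮₀, hprime⟩ : PrimeSpectrum A) ∈ 𝒱
  · obtain ⟨t, ht, hta⟩ := h _ hV h𝔮₀le
    exact ht (h𝔮₀.1.2 ((h𝔞 t).mpr hta))
  · have hyI : y ∈ I := by
      apply H2
      intro 𝔮 h𝔮
      have hnle : ¬ 𝔮₀ ≤ 𝔮.asIdeal := fun hle' => hV (h𝒱 𝔮 ⟨𝔮₀, hprime⟩ h𝔮 hle')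
      obtain ⟨b, hb𝔮₀, hb𝔮⟩ := SetLike.not_le_iff_exists.mp hnle
      refine ⟨b, hb𝔮, ?_⟩
      rw [hy, Submodule.mem_colon_singleton, smul_eq_mul] at hb𝔮₀
      exact hb𝔮₀
    apply hprime.ne_top
    rw [hy, Ideal.eq_top_iff_one, Submodule.mem_colon_singleton, one_smul]
    exact hyI

/-- **Main algebraic statement.** -/
theorem exists_principal_nhd [IsNoetherianRing A] (I : Ideal A)
    (𝒱 : Set (PrimeSpectrum A))
    (h𝒱 : ∀ 𝔮 𝔮' : PrimeSpectrum A, 𝔮 ∈ 𝒱 → 𝔮'.asIdeal ≤ 𝔮.asIdeal → 𝔮' ∈ 𝒱)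
    (𝔭 : Ideal A) [h𝔭 : 𝔭.IsPrime] (R : Type u) [CommRing R] [Algebra A R]
    [IsLocalization.AtPrime R 𝔭] [IsDomain R] [UniqueFactorizationMonoid R]
    (H1 : ∀ 𝔮 ∈ 𝒱, ∃ t : A, t ∉ 𝔮.asIdeal ∧ ∃ (B : Type u) (_ : CommRing B) (_ : Algebra A B)
        (_ : IsLocalization.Away t B), ∃ f : B, f ∈ nonZeroDivisors B ∧
          I.map (algebraMap A B) = Ideal.span {f})
    (H2 : ∀ a : A, (∀ 𝔮 ∈ 𝒱, ∃ t : A, t ∉ 𝔮.asIdeal ∧ t * a ∈ I) → a ∈ I) :
    ∃ s : A, s ∉ 𝔭 ∧ ∃ g : A, ∀ (B : Type u) [CommRing B] [Algebra A B]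
      [IsLocalization.Away s B], algebraMap A B g ∈ nonZeroDivisors B ∧
        I.map (algebraMap A B) = Ideal.span {algebraMap A B g} := by
  classical
  haveI : IsNoetherianRing R := IsLocalization.isNoetherianRing 𝔭.primeCompl R inferInstance
  have hunitR : ∀ u : A, u ∉ 𝔭 → IsUnit (algebraMap A R u) := fun u hu =>
    IsLocalization.map_units R (⟨u, hu⟩ : 𝔭.primeCompl)
  have hnotmem : ∀ (𝔮 : PrimeSpectrum R) (u : A), u ∉ 𝔭 → algebraMap A R u ∉ 𝔮.asIdeal :=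
    fun 𝔮 u hu hm => 𝔮.isPrime.ne_top (Ideal.eq_top_of_isUnit_mem _ hm (hunitR u hu))
  have hcomap_le : ∀ 𝔮 : PrimeSpectrum R, (𝔮.asIdeal.comap (algebraMap A R)) ≤ 𝔭 := by
    intro 𝔮 a ha
    by_contra h'
    exact hnotmem 𝔮 a h' ha
  set J : Ideal R := I.map (algebraMap A R) with hJ
  set 𝒱R : Set (PrimeSpectrum R) := {𝔮 | PrimeSpectrum.comap (algebraMap A R) 𝔮 ∈ 𝒱} with h𝒱R
  -- (R1)
  have R1 : ∀ 𝔮 ∈ 𝒱R, ∃ f : R, f ≠ 0 ∧ ∀ a : R,
      (∃ s, s ∉ 𝔮.asIdeal ∧ s * a ∈ J) ↔ (∃ s, s ∉ 𝔮.asIdeal ∧ f ∣ s * a) := by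
    intro 𝔮 h𝔮
    have h𝔮A𝔭 : (PrimeSpectrum.comap (algebraMap A R) 𝔮).asIdeal ≤ 𝔭 := hcomap_le 𝔮
    obtain ⟨t, ht, B, _, _, _, f, hf, hIf⟩ := H1 _ h𝔮
    obtain ⟨f₁, h1, ⟨n₂, h2⟩, h3⟩ := away_elementwise I t B f hf hIf
    have htq : algebraMap A R t ∉ 𝔮.asIdeal := ht
    have htq' : ∀ n : ℕ, algebraMap A R (t ^ n) ∉ 𝔮.asIdeal := fun n hm => by
      rw [map_pow] at hm
      exact htq (𝔮.isPrime.mem_of_pow_mem n hm)
    refine ⟨algebraMap A R f₁, ?_, ?_⟩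
    · intro h0
      obtain ⟨⟨u, hu⟩, hu0⟩ := (IsLocalization.map_eq_zero_iff 𝔭.primeCompl R f₁).mp h0
      have hu0' : u * f₁ = 0 := hu0
      obtain ⟨n, hn⟩ := h3 u (by rw [mul_comm]; exact hu0')
      have hmem : t ^ n * u ∈ (PrimeSpectrum.comap (algebraMap A R) 𝔮).asIdeal := by
        rw [hn]; exact zero_mem _
      rcases (PrimeSpectrum.comap (algebraMap A R) 𝔮).isPrime.mem_or_mem hmem with h' | h'
      · exact ht ((PrimeSpectrum.comap (algebraMap A R) 𝔮).isPrime.mem_of_pow_mem n h')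
      · exact hu (h𝔮A𝔭 h')
    · intro a
      constructor
      · rintro ⟨s, hs, hsa⟩
        obtain ⟨⟨⟨i, hi⟩, ⟨u, hu⟩⟩, hiu⟩ :=
          (IsLocalization.mem_map_algebraMap_iff 𝔭.primeCompl R).mp hsa
        have hiu' : s * a * algebraMap A R u = algebraMap A R i := hiu
        obtain ⟨n, hn⟩ := h1 i hi
        obtain ⟨c, hc⟩ := Ideal.mem_span_singleton'.mp hn
        refine ⟨algebraMap A R (t ^ n) * algebraMap A R u * s, ?_, algebraMap A R c, ?_⟩
        · intro hm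
          rcases 𝔮.isPrime.mem_or_mem hm with h' | h'
          · rcases 𝔮.isPrime.mem_or_mem h' with h'' | h''
            · exact htq' n h''
            · exact hnotmem 𝔮 u hu h''
          · exact hs h'
        · calc algebraMap A R (t ^ n) * algebraMap A R u * s * a
              = algebraMap A R (t ^ n) * (s * a * algebraMap A R u) := by ring
            _ = algebraMap A R (t ^ n) * algebraMap A R i := by rw [hiu']
            _ = algebraMap A R (t ^ n * i) := (map_mul _ _ _).symm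
            _ = algebraMap A R (c * f₁) := by rw [hc]
            _ = algebraMap A R f₁ * algebraMap A R c := by rw [map_mul]; ring
      · rintro ⟨s, hs, c, hc⟩
        refine ⟨algebraMap A R (t ^ n₂) * s, ?_, ?_⟩
        · intro hm
          rcases 𝔮.isPrime.mem_or_mem hm with h' | h'
          · exact htq' n₂ h'
          · exact hs h'
        · have e : algebraMap A R (t ^ n₂) * s * a = algebraMap A R (t ^ n₂ * f₁) * c := by
            rw [mul_assoc, hc, map_mul]; ring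
          rw [e]
          exact Ideal.mul_mem_right _ _ (Ideal.mem_map_of_mem _ h2)
  -- (R2)
  have R2 : ∀ a : R, (∀ 𝔮 ∈ 𝒱R, ∃ s, s ∉ 𝔮.asIdeal ∧ s * a ∈ J) → a ∈ J := by
    intro a hyp
    obtain ⟨⟨a₀, ⟨u, hu⟩⟩, hau⟩ := IsLocalization.surj 𝔭.primeCompl a
    have hau' : a * algebraMap A R u = algebraMap A R a₀ := hau
    have key : ∃ t, t ∉ 𝔭 ∧ t * a₀ ∈ I := by
      refine exists_notMem_mul_mem I 𝒱 h𝒱 H2 𝔭 a₀ (fun 𝔮A h𝔮A hle => ?_)
      have hdisj : Disjoint (𝔭.primeCompl : Set A) (𝔮A.asIdeal : Set A) := by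
        rw [Set.disjoint_left]
        intro x hx hx'
        exact hx (hle hx')
      have hprime : (𝔮A.asIdeal.map (algebraMap A R)).IsPrime :=
        IsLocalization.isPrime_of_isPrime_disjoint 𝔭.primeCompl R _ 𝔮A.isPrime hdisj
      have hcomap : (𝔮A.asIdeal.map (algebraMap A R)).comap (algebraMap A R) = 𝔮A.asIdeal :=
        IsLocalization.under_map_of_isPrime_disjoint 𝔭.primeCompl R 𝔮A.isPrime hdisj
      have h𝔮V : (⟨𝔮A.asIdeal.map (algebraMap A R), hprime⟩ : PrimeSpectrum R) ∈ 𝒱R := by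
        show PrimeSpectrum.comap (algebraMap A R) _ ∈ 𝒱
        have : PrimeSpectrum.comap (algebraMap A R)
            (⟨𝔮A.asIdeal.map (algebraMap A R), hprime⟩ : PrimeSpectrum R) = 𝔮A :=
          PrimeSpectrum.ext hcomap
        rw [this]
        exact h𝔮A
      obtain ⟨s, hs, hsa⟩ := hyp _ h𝔮V
      obtain ⟨⟨s₀, ⟨v, hv⟩⟩, hsv⟩ := IsLocalization.surj 𝔭.primeCompl s
      have hsv' : s * algebraMap A R v = algebraMap A R s₀ := hsv
      have hs₀ : s₀ ∉ 𝔮A.asIdeal := by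
        intro hmem
        have h1 : algebraMap A R s₀ ∈ 𝔮A.asIdeal.map (algebraMap A R) := Ideal.mem_map_of_mem _ hmem
        rw [← hsv'] at h1
        rcases hprime.mem_or_mem h1 with h' | h'
        · exact hs h'
        · exact hprime.ne_top (Ideal.eq_top_of_isUnit_mem _ h' (hunitR v hv))
      have hmem : algebraMap A R (s₀ * a₀) ∈ J := by
        have e : algebraMap A R (s₀ * a₀) = algebraMap A R v * algebraMap A R u * (s * a) := by
          rw [map_mul, ← hsv', ← hau']; ring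
        rw [e]
        exact J.mul_mem_left _ hsa
      obtain ⟨⟨⟨i, hi⟩, ⟨w, hw⟩⟩, hiw⟩ :=
        (IsLocalization.mem_map_algebraMap_iff 𝔭.primeCompl R).mp hmem
      have hiw' : algebraMap A R (s₀ * a₀) * algebraMap A R w = algebraMap A R i := hiw
      have e : algebraMap A R (s₀ * a₀ * w) = algebraMap A R i := by rw [map_mul]; exact hiw'
      obtain ⟨⟨w', hw'⟩, hw'e⟩ := (IsLocalization.eq_iff_exists 𝔭.primeCompl R).mp e
      have hw'e' : w' * (s₀ * a₀ * w) = w' * i := hw'e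
      refine ⟨w' * w * s₀, ?_, ?_⟩
      · intro hm
        rcases 𝔮A.isPrime.mem_or_mem hm with h' | h'
        · rcases 𝔮A.isPrime.mem_or_mem h' with h'' | h''
          · exact hw' (hle h'')
          · exact hw (hle h'')
        · exact hs₀ h'
      · have e2 : w' * w * s₀ * a₀ = w' * (s₀ * a₀ * w) := by ring
        rw [e2, hw'e']
        exact I.mul_mem_left _ hi
    obtain ⟨t, ht, hta⟩ := key
    have hunit : IsUnit (algebraMap A R (t * u)) := hunitR _ (𝔭.primeCompl.mul_mem ht hu)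
    have e : algebraMap A R (t * u) * a = algebraMap A R (t * a₀) := by
      rw [map_mul, map_mul, ← hau']; ring
    have h1 : algebraMap A R (t * u) * a ∈ J := e ▸ Ideal.mem_map_of_mem _ hta
    exact (Ideal.unit_mul_mem_iff_mem J hunit).mp h1
  obtain ⟨h, hh0, hJh⟩ := principal_of_local_conditions J 𝒱R R1 R2
  -- choose a generator coming from `I`
  obtain ⟨⟨g₁, ⟨u, hu⟩⟩, hg₁⟩ := IsLocalization.surj 𝔭.primeCompl h
  have hg₁' : h * algebraMap A R u = algebraMap A R g₁ := hg₁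
  have hspan1 : Ideal.span {h} = Ideal.span {algebraMap A R g₁} := by
    rw [← hg₁']; exact (Ideal.span_singleton_mul_right_unit (hunitR u hu) h).symm
  have hg₁J : algebraMap A R g₁ ∈ J := by
    rw [hJh, hspan1]; exact Ideal.mem_span_singleton_self _
  obtain ⟨⟨⟨g, hgI⟩, ⟨u', hu'⟩⟩, hgu⟩ :=
    (IsLocalization.mem_map_algebraMap_iff 𝔭.primeCompl R).mp hg₁J
  have hgu' : algebraMap A R g₁ * algebraMap A R u' = algebraMap A R g := hgu
  have hspan2 : J = Ideal.span {algebraMap A R g} := by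
    rw [hJh, hspan1, ← hgu']
    exact (Ideal.span_singleton_mul_right_unit (hunitR u' hu') _).symm
  have hg0 : algebraMap A R g ≠ 0 := by
    intro h0
    rw [h0] at hspan2
    have : h ∈ J := by rw [hJh]; exact Ideal.mem_span_singleton_self _
    rw [hspan2, Ideal.span_singleton_eq_bot.mpr rfl, Ideal.mem_bot] at this
    exact hh0 this
  -- spread out
  obtain ⟨T, hT⟩ := (isNoetherianRing_iff_ideal_fg A).mp inferInstance I
  obtain ⟨s₁, hs₁, hs₁T⟩ := exists_common_mul 𝔭 (Ideal.span {g}) T (fun i hi => by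
    have hiI : i ∈ I := hT ▸ Ideal.subset_span hi
    have h1 : algebraMap A R i ∈ Ideal.span {algebraMap A R g} := by
      rw [← hspan2]; exact Ideal.mem_map_of_mem _ hiI
    obtain ⟨c, hc⟩ := Ideal.mem_span_singleton'.mp h1
    obtain ⟨⟨c₀, ⟨v, hv⟩⟩, hcv⟩ := IsLocalization.surj 𝔭.primeCompl c
    have hcv' : c * algebraMap A R v = algebraMap A R c₀ := hcv
    have e : algebraMap A R (v * i) = algebraMap A R (c₀ * g) := by
      rw [map_mul, map_mul, ← hc, ← hcv']; ring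
    obtain ⟨⟨w, hw⟩, hwe⟩ := (IsLocalization.eq_iff_exists 𝔭.primeCompl R).mp e
    have hwe' : w * (v * i) = w * (c₀ * g) := hwe
    refine ⟨w * v, 𝔭.primeCompl.mul_mem hw hv, ?_⟩
    rw [mul_assoc, hwe']
    exact Ideal.mem_span_singleton'.mpr ⟨w * c₀, by ring⟩)
  have hs₁I : ∀ i ∈ I, s₁ * i ∈ Ideal.span {g} := by
    intro i hi
    rw [← hT] at hi
    refine Submodule.span_induction (p := fun i _ => s₁ * i ∈ Ideal.span {g}) ?_ ?_ ?_ ?_ hi
    · intro x hx; exact hs₁T x hx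
    · rw [mul_zero]; exact zero_mem _
    · intro x y _ _ hx hy; rw [mul_add]; exact add_mem hx hy
    · intro a x _ hx
      rw [smul_eq_mul, mul_left_comm]
      exact Ideal.mul_mem_left _ _ hx
  obtain ⟨T', hT'⟩ := (isNoetherianRing_iff_ideal_fg A).mp inferInstance
    (Submodule.colon (⊥ : Ideal A) {g})
  obtain ⟨s₂, hs₂, hs₂T⟩ := exists_common_mul 𝔭 (⊥ : Ideal A) T' (fun n hn => by
    have hnN : n ∈ Submodule.colon (⊥ : Ideal A) {g} := hT' ▸ Ideal.subset_span hn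
    rw [Submodule.mem_colon_singleton, smul_eq_mul, Submodule.mem_bot] at hnN
    have h1 : algebraMap A R n * algebraMap A R g = 0 := by rw [← map_mul, hnN, map_zero]
    have h2 : algebraMap A R n = 0 := (mul_eq_zero.mp h1).resolve_right hg0
    obtain ⟨⟨w, hw⟩, hw0⟩ := (IsLocalization.map_eq_zero_iff 𝔭.primeCompl R n).mp h2
    exact ⟨w, hw, by rw [Submodule.mem_bot]; exact hw0⟩)
  have hs₂N : ∀ n : A, n * g = 0 → s₂ * n = 0 := by
    intro n hn
    have hnN : n ∈ Submodule.colon (⊥ : Ideal A) {g} := by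
      rw [Submodule.mem_colon_singleton, smul_eq_mul, Submodule.mem_bot]; exact hn
    rw [← hT'] at hnN
    refine Submodule.span_induction (p := fun n _ => s₂ * n = 0) ?_ ?_ ?_ ?_ hnN
    · intro x hx; exact (Submodule.mem_bot A).mp (hs₂T x hx)
    · rw [mul_zero]
    · intro x y _ _ hx hy; rw [mul_add, hx, hy, add_zero]
    · intro a x _ hx
      rw [smul_eq_mul, mul_left_comm, hx, mul_zero]
  refine ⟨s₁ * s₂, fun hm => (h𝔭.mem_or_mem hm).elim hs₁ hs₂, g, ?_⟩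
  intro B _ _ _
  have hsunit : IsUnit (algebraMap A B (s₁ * s₂)) :=
    IsLocalization.map_units B (⟨s₁ * s₂, 1, pow_one _⟩ : Submonoid.powers (s₁ * s₂))
  have hs₁unit : IsUnit (algebraMap A B s₁) := by
    rw [map_mul] at hsunit
    exact isUnit_of_mul_isUnit_left hsunit
  have hs₂unit : IsUnit (algebraMap A B s₂) := by
    rw [map_mul] at hsunit
    exact isUnit_of_mul_isUnit_right hsunit
  constructor
  · rw [mem_nonZeroDivisors_iff]
    have key : ∀ b : B, algebraMap A B g * b = 0 → b = 0 := by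
      intro b hb
      obtain ⟨⟨b₀, ⟨_, m, rfl⟩⟩, hbm⟩ := IsLocalization.surj (Submonoid.powers (s₁ * s₂)) b
      have hbm' : b * algebraMap A B ((s₁ * s₂) ^ m) = algebraMap A B b₀ := hbm
      have h1 : algebraMap A B (g * b₀) = 0 := by
        rw [map_mul, ← hbm', ← mul_assoc, hb, zero_mul]
      obtain ⟨⟨_, k, rfl⟩, hk⟩ :=
        (IsLocalization.map_eq_zero_iff (Submonoid.powers (s₁ * s₂)) B _).mp h1
      have hk' : (s₁ * s₂) ^ k * (g * b₀) = 0 := hk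
      have h2 : s₂ * ((s₁ * s₂) ^ k * b₀) = 0 := hs₂N _ (by
        have e : (s₁ * s₂) ^ k * b₀ * g = (s₁ * s₂) ^ k * (g * b₀) := by ring
        rw [e, hk'])
      have h3 : algebraMap A B s₂ * (algebraMap A B ((s₁ * s₂) ^ k) * algebraMap A B b₀) = 0 := by
        rw [← map_mul, ← map_mul, h2, map_zero]
      have hku : IsUnit (algebraMap A B ((s₁ * s₂) ^ k)) := by
        rw [map_pow]; exact hsunit.pow k
      have h4 : algebraMap A B b₀ = 0 := by
        have h5 := (hs₂unit.mul_right_eq_zero).mp h3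
        exact (hku.mul_right_eq_zero).mp h5
      have hmu : IsUnit (algebraMap A B ((s₁ * s₂) ^ m)) := by
        rw [map_pow]; exact hsunit.pow m
      rw [h4] at hbm'
      exact (hmu.mul_left_eq_zero).mp hbm'
    exact ⟨key, fun b hb => key b (by rw [mul_comm]; exact hb)⟩
  · apply le_antisymm
    · rw [Ideal.map_le_iff_le_comap]
      intro i hi
      obtain ⟨c, hc⟩ := Ideal.mem_span_singleton'.mp (hs₁I i hi)
      show algebraMap A B i ∈ Ideal.span {algebraMap A B g}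
      have h1 : algebraMap A B s₁ * algebraMap A B i ∈ Ideal.span {algebraMap A B g} := by
        rw [← map_mul, ← hc, map_mul]
        exact Ideal.mul_mem_left _ _ (Ideal.mem_span_singleton_self _)
      exact (Ideal.unit_mul_mem_iff_mem _ hs₁unit).mp h1
    · rw [Ideal.span_singleton_le_iff_mem]
      exact Ideal.mem_map_of_mem _ hgI

end General

end Groth.Agent.Lib.CartExt
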