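import Mathlib
import Groth.Agent.Lib.Cart1_helper8
import Groth.Agent.Lib.CDivConn_helper2
import Groth.Agent.Lib.CartExtAlg_helper2

/-!
# Extending an effective Cartier divisor from an open subscheme (S1660)
-/

set_option autoImplicit false
open AlgebraicGeometry CategoryTheory TopologicalSpace
open QcqsLoc
universe u
namespace Groth.Agent.Lib.CartExt

variable {X : Scheme.{u}}

/-- Restricting the scheme-theoretic closure of `D ⊆ U` back to `U` gives `D`. -/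
theorem comap_map_ι [IsLocallyNoetherian X] (U : X.Opens) (D : (U : Scheme.{u}).IdealSheafData) :
    (D.map U.ι).comap U.ι = D := by
  apply le_antisymm (Scheme.IdealSheafData.comap_map_le D U.ι)
  intro V
  rw [Scheme.IdealSheafData.ideal_comap_of_isOpenImmersion]
  have hV' : IsAffineOpen (U.ι ⁻¹ᵁ (U.ι ''ᵁ V.1)) := by
    rw [Scheme.Hom.preimage_image_eq]; exact V.2
  rw [Scheme.IdealSheafData.ideal_map D U.ι ⟨U.ι ''ᵁ V.1, V.2.image_of_isOpenImmersion U.ι⟩ hV']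
  intro a ha
  rw [Ideal.mem_comap, Ideal.mem_comap]
  have e : (U.ι.appIso V.1).inv ≫ U.ι.app (U.ι ''ᵁ V.1) =
      (U : Scheme.{u}).presheaf.map (eqToHom (U.ι.preimage_image_eq V.1)).op :=
    Scheme.Hom.appIso_inv_app _ _
  have e2 : (U.ι.app (U.ι ''ᵁ V.1)).hom ((U.ι.appIso V.1).inv.hom a) =
      ((U : Scheme.{u}).presheaf.map (eqToHom (U.ι.preimage_image_eq V.1)).op).hom a := by
    rw [← e]; rfl
  rw [e2]
  have h3 := D.map_ideal' (U := ⟨U.ι ⁻¹ᵁ (U.ι ''ᵁ V.1), hV'⟩) (V := V)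
    (eqToHom (U.ι.preimage_image_eq V.1)).op
  rw [← h3]
  exact Ideal.mem_map_of_mem _ ha

/-- An ideal sheaf whose restriction to `U` is effective Cartier is locally generated by a
non-zero-divisor at the points of `U`. -/
theorem effCartier_at_of_mem (U : X.Opens) (D' : X.IdealSheafData)
    (hD : BlowUp.IsEffCartierIdeal (D'.comap U.ι)) (y : X) (hy : y ∈ U) :
    ∃ W : X.affineOpens, y ∈ W.1 ∧ ∃ f : Γ(X, W.1), f ∈ nonZeroDivisors Γ(X, W.1) ∧
      D'.ideal W = Ideal.span {f} := by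
  obtain ⟨V, hyV, f, hf, hDf⟩ := hD ⟨y, hy⟩
  rw [Scheme.IdealSheafData.ideal_comap_of_isOpenImmersion] at hDf
  set φ := U.ι.appIso V.1 with hφ
  have h1 : ∀ x, φ.hom.hom (φ.inv.hom x) = x := fun x => φ.inv_hom_id_apply x
  have h2 : ∀ x, φ.inv.hom (φ.hom.hom x) = x := fun x => φ.hom_inv_id_apply x
  refine ⟨⟨U.ι ''ᵁ V.1, V.2.image_of_isOpenImmersion U.ι⟩, ⟨⟨y, hy⟩, hyV, rfl⟩, φ.inv.hom f, ?_, ?_⟩
  · rw [mem_nonZeroDivisors_iff]
    have key : ∀ b, φ.inv.hom f * b = 0 → b = 0 := by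
      intro b hb
      have h3 : f * φ.hom.hom b = 0 := by
        have := congrArg φ.hom.hom hb
        rwa [map_mul, h1, map_zero] at this
      have h4 := (mem_nonZeroDivisors_iff.mp hf).1 _ h3
      have := congrArg φ.inv.hom h4
      rwa [h2, map_zero] at this
    exact ⟨key, fun b hb => key b (by rw [mul_comm]; exact hb)⟩
  · apply le_antisymm
    · intro a ha
      have h3 : φ.hom.hom a ∈ Ideal.span {f} := by
        rw [← hDf, Ideal.mem_comap, h2]; exact ha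
      obtain ⟨c, hc⟩ := Ideal.mem_span_singleton'.mp h3
      refine Ideal.mem_span_singleton'.mpr ⟨φ.inv.hom c, ?_⟩
      rw [← map_mul, hc, h2]
    · rw [Ideal.span_singleton_le_iff_mem]
      have h3 : f ∈ Ideal.span {f} := Ideal.mem_span_singleton_self f
      rw [← hDf, Ideal.mem_comap] at h3
      exact h3

/-- The scheme-theoretic closure of `D ⊆ U` is determined by its restriction to `U`. -/
theorem mem_map_ι_of_local [IsLocallyNoetherian X] (U : X.Opens)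
    (D : (U : Scheme.{u}).IdealSheafData) (W : X.affineOpens) (a : Γ(X, W.1))
    (h : ∀ y : X, y ∈ W.1 → y ∈ U → ∃ t : Γ(X, W.1), y ∈ X.basicOpen t ∧
      t * a ∈ (D.map U.ι).ideal W) :
    a ∈ (D.map U.ι).ideal W := by
  have hker : ∀ b : Γ(X, W.1), b ∈ (D.map U.ι).ideal W ↔
      ((D.subschemeι ≫ U.ι).app W.1).hom b = 0 := by
    intro b
    show b ∈ ((D.subschemeι ≫ U.ι).ker).ideal W ↔ _
    rw [Scheme.Hom.ker_apply, RingHom.mem_ker]
  rw [hker]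
  refine StrictTrH8.ring_eq_zero_of_cover _ (fun z hz => ?_)
  have hyW : (D.subschemeι ≫ U.ι) z ∈ W.1 := hz
  have hyU : (D.subschemeι ≫ U.ι) z ∈ U := (D.subschemeι z).2
  obtain ⟨t, hyt, hta⟩ := h _ hyW hyU
  rw [hker] at hta
  have hN : D.subscheme.basicOpen (((D.subschemeι ≫ U.ι).app W.1).hom t) ≤
      (D.subschemeι ≫ U.ι) ⁻¹ᵁ W.1 := Scheme.basicOpen_le _ _
  refine ⟨D.subscheme.basicOpen (((D.subschemeι ≫ U.ι).app W.1).hom t), hN, ?_, ?_⟩
  · have := Scheme.preimage_basicOpen (D.subschemeι ≫ U.ι) t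
    rw [← this]
    exact hyt
  · have hu : IsUnit (rX hN (((D.subschemeι ≫ U.ι).app W.1).hom t)) :=
      D.subscheme.toRingedSpace.isUnit_res_basicOpen _
    have h0 : rX hN (((D.subschemeι ≫ U.ι).app W.1).hom t) *
        rX hN (((D.subschemeι ≫ U.ι).app W.1).hom a) = 0 := by
      rw [← map_mul, ← map_mul, hta, map_zero]
    exact (hu.mul_right_eq_zero).mp h0

theorem mem_basicOpen_iff {W : X.Opens} (hW : IsAffineOpen W) (𝔮 : PrimeSpectrum Γ(X, W))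
    (t : Γ(X, W)) : hW.fromSpec 𝔮 ∈ X.basicOpen t ↔ t ∉ 𝔮.asIdeal := by
  have h := SetLike.ext_iff.mp (hW.fromSpec_preimage_basicOpen t) 𝔮
  exact h

theorem main1660 (X : Scheme.{u}) [IsLocallyNoetherian X] (U : X.Opens)
    (D : (U : Scheme.{u}).IdealSheafData) (hD : BlowUp.IsEffCartierIdeal D)
    (hufd : ∀ x : X, x ∉ U → IsDomain (X.presheaf.stalk x) ∧
      UniqueFactorizationMonoid (X.presheaf.stalk x)) :
    ∃ D' : X.IdealSheafData, BlowUp.IsEffCartierIdeal D' ∧ D'.comap U.ι = D := by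
  refine ⟨D.map U.ι, ?_, comap_map_ι U D⟩
  have hD' : BlowUp.IsEffCartierIdeal ((D.map U.ι).comap U.ι) := by
    rw [comap_map_ι]; exact hD
  intro x
  by_cases hx : x ∈ U
  · exact effCartier_at_of_mem U (D.map U.ι) hD' x hx
  · obtain ⟨_, ⟨W, hW : IsAffineOpen W, rfl⟩, hxW, -⟩ :=
      (X.isBasis_affineOpens).exists_subset_of_mem_open (Set.mem_univ x) isOpen_univ
    haveI : IsNoetherianRing Γ(X, W) := IsLocallyNoetherian.component_noetherian ⟨W, hW⟩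
    obtain ⟨hdom, hufd'⟩ := hufd x hx
    letI : Algebra Γ(X, W) (X.presheaf.stalk x) :=
      X.presheaf.algebra_section_stalk (U := W) ⟨x, hxW⟩
    haveI : IsLocalization.AtPrime (X.presheaf.stalk x) (hW.primeIdealOf ⟨x, hxW⟩).asIdeal :=
      hW.isLocalization_stalk ⟨x, hxW⟩
    have h𝒱 : ∀ 𝔮 𝔮' : PrimeSpectrum Γ(X, W), 𝔮 ∈ {𝔮 : PrimeSpectrum Γ(X, W) | hW.fromSpec 𝔮 ∈ U} →
        𝔮'.asIdeal ≤ 𝔮.asIdeal → 𝔮' ∈ {𝔮 : PrimeSpectrum Γ(X, W) | hW.fromSpec 𝔮 ∈ U} := by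
      intro 𝔮 𝔮' h𝔮 hle
      have hsp : 𝔮' ⤳ 𝔮 := (PrimeSpectrum.le_iff_specializes 𝔮' 𝔮).mp hle
      exact (hsp.map hW.fromSpec.continuous).mem_open U.2 h𝔮
    have H1 : ∀ 𝔮 ∈ {𝔮 : PrimeSpectrum Γ(X, W) | hW.fromSpec 𝔮 ∈ U}, ∃ t : Γ(X, W),
        t ∉ 𝔮.asIdeal ∧ ∃ (B : Type u) (_ : CommRing B) (_ : Algebra Γ(X, W) B)
        (_ : IsLocalization.Away t B), ∃ f : B, f ∈ nonZeroDivisors B ∧
          ((D.map U.ι).ideal ⟨W, hW⟩).map (algebraMap Γ(X, W) B) = Ideal.span {f} := by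
      intro 𝔮 h𝔮
      have hyW : hW.fromSpec 𝔮 ∈ W := by
        have : hW.fromSpec 𝔮 ∈ Set.range hW.fromSpec := Set.mem_range_self 𝔮
        rw [hW.range_fromSpec] at this
        exact this
      obtain ⟨W'', hyW'', f'', hf'', hDf''⟩ :=
        effCartier_at_of_mem U (D.map U.ι) hD' (hW.fromSpec 𝔮) h𝔮
      obtain ⟨t, g, hfg, hyt⟩ := exists_basicOpen_le_affine_inter hW W''.2 (hW.fromSpec 𝔮)
        ⟨hyW, hyW''⟩
      have hle : X.basicOpen t ≤ W''.1 := hfg ▸ X.basicOpen_le g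
      obtain ⟨hnzd, hspan⟩ := CartH8.cartier_restrict (D.map U.ι) W''
        ⟨X.basicOpen t, hW.basicOpen t⟩ hle f'' hf'' hDf''
      refine ⟨t, (mem_basicOpen_iff hW 𝔮 t).mp hyt, Γ(X, X.basicOpen t), inferInstance,
        inferInstance, hW.isLocalization_basicOpen t, rX hle f'', hnzd, ?_⟩
      rw [← hspan]
      exact (D.map U.ι).map_ideal_basicOpen ⟨W, hW⟩ t
    have H2 : ∀ a : Γ(X, W), (∀ 𝔮 ∈ {𝔮 : PrimeSpectrum Γ(X, W) | hW.fromSpec 𝔮 ∈ U},
        ∃ t : Γ(X, W), t ∉ 𝔮.asIdeal ∧ t * a ∈ (D.map U.ι).ideal ⟨W, hW⟩) →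
        a ∈ (D.map U.ι).ideal ⟨W, hW⟩ := by
      intro a hyp
      refine mem_map_ι_of_local U D ⟨W, hW⟩ a (fun y hyW hyU => ?_)
      have hy : hW.fromSpec (hW.primeIdealOf ⟨y, hyW⟩) = y := hW.fromSpec_primeIdealOf ⟨y, hyW⟩
      obtain ⟨t, ht, hta⟩ := hyp (hW.primeIdealOf ⟨y, hyW⟩) (by
        show hW.fromSpec (hW.primeIdealOf ⟨y, hyW⟩) ∈ U
        rw [hy]; exact hyU)
      refine ⟨t, ?_, hta⟩
      rw [← hy]
      exact (mem_basicOpen_iff hW _ t).mpr ht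
    obtain ⟨s, hs, g, hg⟩ := exists_principal_nhd ((D.map U.ι).ideal ⟨W, hW⟩)
      {𝔮 : PrimeSpectrum Γ(X, W) | hW.fromSpec 𝔮 ∈ U} h𝒱
      (hW.primeIdealOf ⟨x, hxW⟩).asIdeal (X.presheaf.stalk x) H1 H2
    haveI := hW.isLocalization_basicOpen s
    obtain ⟨hnzd, hspan⟩ := hg Γ(X, X.basicOpen s)
    refine ⟨X.affineBasicOpen s, ?_, algebraMap Γ(X, W) Γ(X, X.basicOpen s) g, hnzd, ?_⟩
    · have hy : hW.fromSpec (hW.primeIdealOf ⟨x, hxW⟩) = x := hW.fromSpec_primeIdealOf ⟨x, hxW⟩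
      show x ∈ X.basicOpen s
      rw [← hy]
      exact (mem_basicOpen_iff hW _ s).mpr hs
    · exact ((D.map U.ι).map_ideal_basicOpen ⟨W, hW⟩ s).symm.trans hspan

end Groth.Agent.Lib.CartExt
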