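import Mathlib
import Groth.Prelude.Def_BlowUp2
import Groth.Agent.Lib.FibKoszulSch_helper2
import Groth.Agent.Lib.ComapId1_helper8
import Groth.Agent.Lib.CartierFlat_helper9
import Groth.Agent.Lib.CartExtSch_helper2

/-!
# Affine charts of scheme-theoretic fibres, and containment of relative divisors via fibres
(S17814) (helper2)

* `W φ s U`: the chart of the fibre `φ.fiber s` over an affine open `U` of the source; it is affine
  with ring of sections the pushout `Γ(U) ⊗_{Γ(V)} κ(s)` (`isAffineOpen_W`, `isPushout_W`).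
* `le_of_fibre`: over a reduced Noetherian base, an ideal `I` is contained in `I'` with `B/I'` flat
  as soon as this holds on the fibres over the generic points.
APPEND-ONLY once landed.
-/

set_option autoImplicit false
open AlgebraicGeometry CategoryTheory CategoryTheory.Limits TopologicalSpace TensorProduct
universe u
namespace Groth.Agent.Lib.FibChart

section Chart

variable {X S : Scheme.{u}} (φ : X ⟶ S) (s : S)

/-- the chart of the fibre over `U` -/
noncomputable abbrev W (U : X.Opens) : (φ.fiber s).Opens :=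
  (φ.fiberι s) ⁻¹ᵁ U ⊓
    (φ.fiberToSpecResidueField s) ⁻¹ᵁ (⊤ : (Spec (S.residueField s)).Opens)

theorem isPullback_fiber :
    IsPullback (φ.fiberι s) (φ.fiberToSpecResidueField s) φ (S.fromSpecResidueField s) :=
  IsPullback.of_hasPullback φ (S.fromSpecResidueField s)

theorem top_le {V : S.Opens} (hs : s ∈ V) :
    (⊤ : (Spec (S.residueField s)).Opens) ≤ (S.fromSpecResidueField s) ⁻¹ᵁ V := by
  intro z _
  show (S.fromSpecResidueField s) z ∈ V
  rw [Scheme.fromSpecResidueField_apply]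
  exact hs

theorem isAffineOpen_W {V : S.Opens} (hV : IsAffineOpen V) (hs : s ∈ V) {U : X.Opens}
    (hU : IsAffineOpen U) (hUV : U ≤ φ ⁻¹ᵁ V) : IsAffineOpen (W φ s U) :=
  Groth.Agent.Lib.FibKoszulSch.chart_affine (isPullback_fiber φ s) hV (isAffineOpen_top _) hU
    (top_le s hs) hUV

theorem isPushout_W {V : S.Opens} (hV : IsAffineOpen V) (hs : s ∈ V) {U : X.Opens}
    (hU : IsAffineOpen U) (hUV : U ≤ φ ⁻¹ᵁ V) :
    IsPushout (φ.appLE V U hUV) ((S.fromSpecResidueField s).appLE V ⊤ (top_le s hs))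
      ((φ.fiberι s).appLE U (W φ s U) inf_le_left)
      ((φ.fiberToSpecResidueField s).appLE ⊤ (W φ s U) inf_le_right) :=
  Groth.Agent.Lib.FibKoszulSch.chart_pushout (isPullback_fiber φ s) hV (isAffineOpen_top _) hU
    (top_le s hs) hUV

theorem isField_K : IsField Γ(Spec (S.residueField s), ⊤) :=
  MulEquiv.isField (Field.toIsField (S.residueField s))
    (Scheme.ΓSpecIso (S.residueField s)).commRingCatIsoToRingEquiv.toMulEquiv

theorem notMem_basicOpen_of_ker {V : S.Opens} (hs : s ∈ V) (a : Γ(S, V))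
    (ha : ((S.fromSpecResidueField s).appLE V ⊤ (top_le s hs)).hom a = 0) :
    s ∉ S.basicOpen a := by
  intro hsa
  have h1 := Scheme.basicOpen_appLE (S.fromSpecResidueField s) ⊤ V (top_le s hs) a
  have h2 : (Spec (S.residueField s)).basicOpen
      (((S.fromSpecResidueField s).appLE V ⊤ (top_le s hs)).hom a) = ⊥ := by
    rw [ha]
    exact Scheme.basicOpen_zero _ _
  have h3 : IsLocalRing.closedPoint (S.residueField s) ∈
      (⊤ : (Spec (S.residueField s)).Opens) ⊓
        (S.fromSpecResidueField s) ⁻¹ᵁ (S.basicOpen a) := by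
    refine ⟨trivial, ?_⟩
    show (S.fromSpecResidueField s) _ ∈ S.basicOpen a
    rw [Scheme.fromSpecResidueField_apply]
    exact hsa
  rw [← h1] at h3
  have h4 : IsLocalRing.closedPoint (S.residueField s) ∈
      (⊥ : (Spec (S.residueField s)).Opens) := by
    rw [← h2]
    exact h3
  exact h4

/-- the ideal of the inverse image on the chart -/
theorem comap_ideal_W (𝓘 : X.IdealSheafData) {U : X.Opens} (hU : IsAffineOpen U)
    (hW : IsAffineOpen (W φ s U)) :
    (𝓘.comap (φ.fiberι s)).ideal ⟨W φ s U, hW⟩ =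
      (𝓘.ideal ⟨U, hU⟩).map ((φ.fiberι s).appLE U (W φ s U) inf_le_left).hom :=
  ComapIdH8.comap_ideal (φ.fiberι s) 𝓘 ⟨W φ s U, hW⟩ ⟨U, hU⟩ inf_le_left

end Chart

section Alg

/-- a flat module over a ring with finitely many ideals of zero intersection -/
theorem eq_zero_of_mem_smul_top {A : Type u} [CommRing A] {M : Type u} [AddCommGroup M]
    [Module A M] [Module.Flat A M] {ι : Type*} [Fintype ι] [DecidableEq ι] (p : ι → Ideal A)
    (hp : ⨅ i, p i = ⊥) (x : M) (hx : ∀ i, x ∈ p i • (⊤ : Submodule A M)) : x = 0 := by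
  let g : A →ₗ[A] (∀ i, A ⧸ p i) := LinearMap.pi (fun i => (p i).mkQ)
  have hg : Function.Injective g := by
    rw [← LinearMap.ker_eq_bot, LinearMap.ker_pi]
    simp only [Submodule.ker_mkQ]
    exact hp
  have h := Module.Flat.lTensor_preserves_injective_linearMap (M := M) g hg
  have h0 : (g.lTensor M) (x ⊗ₜ[A] (1 : A)) = 0 := by
    rw [LinearMap.lTensor_tmul]
    apply (TensorProduct.piRight A A M (fun i => A ⧸ p i)).injective
    rw [map_zero]
    funext i
    rw [TensorProduct.piRight_apply, TensorProduct.piRightHom_tmul]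
    show x ⊗ₜ[A] ((p i).mkQ (1 : A)) = 0
    refine Submodule.smul_induction_on (hx i) (fun r hr m _ => ?_) (fun y z hy hz => ?_)
    · rw [TensorProduct.smul_tmul]
      have : r • ((p i).mkQ (1 : A)) = 0 := by
        rw [← map_smul, smul_eq_mul, mul_one]
        exact (Submodule.Quotient.mk_eq_zero _).mpr hr
      rw [this, TensorProduct.tmul_zero]
    · rw [TensorProduct.add_tmul, hy, hz, add_zero]
  have h1 : x ⊗ₜ[A] (1 : A) = 0 := h (by rw [h0, map_zero])
  have h2 := congrArg (TensorProduct.rid A M) h1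
  rw [TensorProduct.rid_tmul, one_smul, map_zero] at h2
  exact h2

/-- flatness: vanishing in the fibre over a field implies membership modulo the kernel -/
theorem mem_smul_top_of_tmul_eq_zero {A K : Type u} [CommRing A] [Field K] [Algebra A K]
    {M : Type u} [AddCommGroup M] [Module A M] [Module.Flat A M] (x : M)
    (h : x ⊗ₜ[A] (1 : K) = 0) :
    x ∈ RingHom.ker (algebraMap A K) • (⊤ : Submodule A M) := by
  set p : Ideal A := RingHom.ker (algebraMap A K) with hp
  let j : (A ⧸ p) →ₗ[A] K := Submodule.liftQ p (Algebra.linearMap A K) (fun a ha => ha)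
  have hj : Function.Injective j := by
    rw [← LinearMap.ker_eq_bot]
    exact Submodule.ker_liftQ_eq_bot _ _ _ (fun a ha => ha)
  have hinj := Module.Flat.lTensor_preserves_injective_linearMap (M := M) j hj
  have h0 : (j.lTensor M) (x ⊗ₜ[A] (Ideal.Quotient.mk p (1 : A))) = 0 := by
    rw [LinearMap.lTensor_tmul]
    have : j (Ideal.Quotient.mk p (1 : A)) = 1 := by
      show algebraMap A K 1 = 1
      exact map_one _
    rw [this, h]
  have h1 : x ⊗ₜ[A] (Ideal.Quotient.mk p (1 : A)) = 0 := hinj (by rw [h0, map_zero])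
  have h2 := congrArg (TensorProduct.tensorQuotEquivQuotSMul M p) h1
  rw [TensorProduct.tensorQuotEquivQuotSMul_tmul_mk, one_smul, map_zero,
    Submodule.Quotient.mk_eq_zero] at h2
  exact h2

variable {A B K BK : Type u} [CommRing A] [CommRing B] [CommRing K] [CommRing BK]

/-- membership in the fibre gives membership modulo the kernel of `A → K` -/
theorem mk_mem_of_fibre (α : A →+* B) (hK : IsField K) (κ : A →+* K) (βB : B →+* BK)
    (κB : K →+* BK)
    (h1 : IsPushout (CommRingCat.ofHom α) (CommRingCat.ofHom κ) (CommRingCat.ofHom βB)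
      (CommRingCat.ofHom κB))
    (I' : Ideal B) (hfl : ((Ideal.Quotient.mk I').comp α).Flat) (a : B)
    (ha : βB a ∈ I'.map βB) :
    letI := α.toAlgebra
    Ideal.Quotient.mk I' a ∈ RingHom.ker κ • (⊤ : Submodule A (B ⧸ I')) := by
  letI := hK.toField
  letI algAB : Algebra A B := α.toAlgebra
  letI algAK : Algebra A K := κ.toAlgebra
  haveI : Module.Flat A (B ⧸ I') := (Groth.Agent.Lib.CartierFlat.flat_comp_mk_iff α I').mp hfl
  have hT := CommRingCat.isPushout_tensorProduct A B K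
  let e := hT.isoIsPushout _ _ h1
  have he : ∀ b : B, e.hom.hom (b ⊗ₜ[A] (1 : K)) = βB b := by
    intro b
    have := congrArg (fun t => t.hom b) (hT.inl_isoIsPushout_hom _ _ h1)
    exact this
  let ψ : B ⊗[A] K →ₐ[A] (B ⧸ I') ⊗[A] K :=
    Algebra.TensorProduct.map (Ideal.Quotient.mkₐ A I') (AlgHom.id A K)
  have hβ : βB = (e.hom.hom).comp
      (Algebra.TensorProduct.includeLeftRingHom : B →+* B ⊗[A] K) := by
    ext b
    exact (he b).symm
  have hJ : a ⊗ₜ[A] (1 : K) ∈ I'.map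
      (Algebra.TensorProduct.includeLeftRingHom : B →+* B ⊗[A] K) := by
    have h2 : e.hom.hom (a ⊗ₜ[A] (1 : K)) ∈ (I'.map
        (Algebra.TensorProduct.includeLeftRingHom : B →+* B ⊗[A] K)).map e.hom.hom := by
      rw [Ideal.map_map, ← hβ, he]
      exact ha
    have hbij : Function.Bijective e.hom.hom :=
      ConcreteCategory.bijective_of_isIso e.hom
    have h3 := Ideal.mem_comap.mpr h2
    rw [Ideal.comap_map_of_bijective _ hbij] at h3
    exact h3
  have hle : I'.map (Algebra.TensorProduct.includeLeftRingHom : B →+* B ⊗[A] K) ≤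
      RingHom.ker ψ.toRingHom := by
    rw [Ideal.map_le_iff_le_comap]
    intro i hi
    rw [Ideal.mem_comap, RingHom.mem_ker]
    show ψ (i ⊗ₜ[A] (1 : K)) = 0
    rw [Algebra.TensorProduct.map_tmul]
    have : (Ideal.Quotient.mkₐ A I') i = 0 := Ideal.Quotient.eq_zero_iff_mem.mpr hi
    rw [this, TensorProduct.zero_tmul]
  have h4 : ψ (a ⊗ₜ[A] (1 : K)) = 0 := hle hJ
  rw [Algebra.TensorProduct.map_tmul] at h4
  have h5 : (Ideal.Quotient.mk I' a) ⊗ₜ[A] (1 : K) = 0 := h4
  exact mem_smul_top_of_tmul_eq_zero (A := A) (K := K) (M := B ⧸ I') _ h5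

/-- **Containment via fibres over the generic points** (reduced Noetherian base). -/
theorem le_of_fibre [IsNoetherianRing A] [IsReduced A] (α : A →+* B) (I I' : Ideal B)
    (hfl : ((Ideal.Quotient.mk I').comp α).Flat)
    (H : ∀ p : Ideal A, p ∈ minimalPrimes A → ∃ (K BK : Type u) (_ : CommRing K)
      (_ : CommRing BK) (_ : IsField K) (κ : A →+* K) (βB : B →+* BK) (κB : K →+* BK),
      IsPushout (CommRingCat.ofHom α) (CommRingCat.ofHom κ) (CommRingCat.ofHom βB)
        (CommRingCat.ofHom κB) ∧ RingHom.ker κ ≤ p ∧ I.map βB ≤ I'.map βB) :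
    I ≤ I' := by
  classical
  intro a ha
  letI algAB : Algebra A B := α.toAlgebra
  haveI : Module.Flat A (B ⧸ I') := (Groth.Agent.Lib.CartierFlat.flat_comp_mk_iff α I').mp hfl
  have hfin : (minimalPrimes A).Finite := minimalPrimes.finite_of_isNoetherianRing A
  haveI : Fintype ↥(minimalPrimes A) := hfin.fintype
  have key : ∀ p : ↥(minimalPrimes A),
      Ideal.Quotient.mk I' a ∈ (p : Ideal A) • (⊤ : Submodule A (B ⧸ I')) := by
    intro p
    obtain ⟨K, BK, _, _, hK, κ, βB, κB, h1, hker, hle⟩ := H p.1 p.2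
    have h2 := mk_mem_of_fibre α hK κ βB κB h1 I' hfl a (hle (Ideal.mem_map_of_mem _ ha))
    exact Submodule.smul_mono_left hker h2
  have hinf : ⨅ p : ↥(minimalPrimes A), (p : Ideal A) = ⊥ := by
    have h1 : sInf (minimalPrimes A) = (⊥ : Ideal A) := by
      show sInf ((⊥ : Ideal A).minimalPrimes) = ⊥
      rw [Ideal.sInf_minimalPrimes]
      exact nilradical_eq_zero A
    rw [← h1, sInf_eq_iInf']
  have h0 := eq_zero_of_mem_smul_top (M := B ⧸ I') (fun p : ↥(minimalPrimes A) => (p : Ideal A))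
    hinf (Ideal.Quotient.mk I' a) key
  exact Ideal.Quotient.eq_zero_iff_mem.mp h0

end Alg

section Main17814

theorem main17814 {𝒞 T : Scheme.{u}} [IsLocallyNoetherian T] [AlgebraicGeometry.IsReduced T]
    (π : 𝒞 ⟶ T) (D D' : 𝒞.IdealSheafData) (hD' : Flat (D'.subschemeι ≫ π))
    (hfib : ∀ t : ↥T, D.comap (π.fiberι t) ≤ D'.comap (π.fiberι t)) : D ≤ D' := by
  refine Scheme.IdealSheafData.le_of_iSup_eq_top
    (fun i : {U : 𝒞.affineOpens // ∃ V : T.affineOpens, U.1 ≤ π ⁻¹ᵁ V.1} => i.1) ?_ ?_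
  · rw [eq_top_iff]
    intro x _
    obtain ⟨V, hV, hxV, -⟩ := (Opens.isBasis_iff_nbhd.mp T.isBasis_affineOpens)
      (show π x ∈ (⊤ : T.Opens) from trivial)
    obtain ⟨U, hU, hxU, hUV⟩ := (Opens.isBasis_iff_nbhd.mp 𝒞.isBasis_affineOpens)
      (show x ∈ π ⁻¹ᵁ V from hxV)
    exact Opens.mem_iSup.mpr ⟨⟨⟨U, hU⟩, ⟨V, hV⟩, hUV⟩, hxU⟩
  · rintro ⟨⟨U, hU⟩, ⟨V, hV⟩, hUV⟩
    haveI : IsNoetherianRing Γ(T, V) := IsLocallyNoetherian.component_noetherian ⟨V, hV⟩
    have hfl := Groth.Agent.Lib.CartierFlat.flat_quot_of_flat D' π hD' ⟨V, hV⟩ ⟨U, hU⟩ hUV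
    refine le_of_fibre (π.appLE V U hUV).hom (D.ideal ⟨U, hU⟩) (D'.ideal ⟨U, hU⟩) hfl ?_
    intro p hp
    haveI hpp : p.IsPrime := hp.1.1
    have htV : hV.fromSpec ⟨p, hpp⟩ ∈ V := by
      have h1 : hV.fromSpec ⟨p, hpp⟩ ∈ Set.range hV.fromSpec := ⟨_, rfl⟩
      rw [hV.range_fromSpec] at h1
      exact h1
    have hW := isAffineOpen_W π (hV.fromSpec ⟨p, hpp⟩) hV htV hU hUV
    refine ⟨Γ(Spec (T.residueField (hV.fromSpec ⟨p, hpp⟩)), ⊤),
      Γ(π.fiber (hV.fromSpec ⟨p, hpp⟩), W π (hV.fromSpec ⟨p, hpp⟩) U), inferInstance,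
      inferInstance, isField_K _,
      ((T.fromSpecResidueField (hV.fromSpec ⟨p, hpp⟩)).appLE V ⊤ (top_le _ htV)).hom,
      ((π.fiberι (hV.fromSpec ⟨p, hpp⟩)).appLE U (W π (hV.fromSpec ⟨p, hpp⟩) U) inf_le_left).hom,
      ((π.fiberToSpecResidueField (hV.fromSpec ⟨p, hpp⟩)).appLE ⊤
        (W π (hV.fromSpec ⟨p, hpp⟩) U) inf_le_right).hom, ?_, ?_, ?_⟩
    · exact isPushout_W π _ hV htV hU hUV
    · intro a ha
      have h1 := notMem_basicOpen_of_ker _ htV a ha
      by_contra hap
      exact h1 ((Groth.Agent.Lib.CartExt.mem_basicOpen_iff hV ⟨p, hpp⟩ a).mpr hap)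
    · have h1 := hfib (hV.fromSpec ⟨p, hpp⟩) ⟨W π (hV.fromSpec ⟨p, hpp⟩) U, hW⟩
      rw [comap_ideal_W π _ D hU hW, comap_ideal_W π _ D' hU hW] at h1
      exact h1

end Main17814

end Groth.Agent.Lib.FibChart
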