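import Mathlib
import Groth.Agent.Lib.QuasiReg_helper5
import Groth.Agent.Lib.Regular_helper5
import Groth.Agent.Lib.Regular2_helper5
import Groth.Agent.Lib.Regular3_helper5

/-!
# Hilbert function of a regular local ring; quasi-regular generators of the maximal ideal
-/

set_option autoImplicit false

namespace Groth.Agent.Lib.HilbRegH4

open MvPolynomial IsLocalRing
open Groth.Agent.QuasiReg

universe u

/-! ### ENat arithmetic -/
section ENatLemmas

theorem enat_self_add {L x : ℕ∞} (hL : L ≠ ⊤) (h : L = x + L) : x = 0 := by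
  lift L to ℕ using hL
  induction x using ENat.recTopCoe with
  | top => simp at h
  | coe x => norm_cast at *; omega

theorem enat_cancel' {x : ℕ∞} {a b : ℕ} (h : ((a + b : ℕ) : ℕ∞) = x + a) : x = b := by
  induction x using ENat.recTopCoe with
  | top => simp at h
  | coe x => norm_cast at *; omega

end ENatLemmas

/-! ### Part 1: monomials -/
section Mon
variable {A : Type u} [CommRing A] {r : ℕ}

/-- exponent vectors of degree `n` in `r` variables -/
noncomputable def Mon (r n : ℕ) : Finset (Fin r →₀ ℕ) :=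
  (Finset.univ : Finset (Fin r)).finsuppAntidiag n

theorem mem_Mon {n : ℕ} {μ : Fin r →₀ ℕ} : μ ∈ Mon r n ↔ ∑ i, μ i = n := by
  simp [Mon, Finset.mem_finsuppAntidiag]

theorem card_Mon (r n : ℕ) : (Mon r n).card = r.multichoose n := by
  rw [Mon, Finset.card_finsuppAntidiag_nat_eq_multichoose, Finset.card_univ, Fintype.card_fin]

theorem mem_Mon_of_support {n : ℕ} {P : MvPolynomial (Fin r) A} (hP : P.IsHomogeneous n)
    {μ : Fin r →₀ ℕ} (hμ : μ ∈ P.support) : μ ∈ Mon r n := by
  rw [mem_Mon, ← Finsupp.degree_eq_sum, Finsupp.degree_apply]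
  exact (hP.degree_eq_sum_deg_support hμ).symm

theorem coeff_eq_zero_of_not_mem_Mon {n : ℕ} {P : MvPolynomial (Fin r) A}
    (hP : P.IsHomogeneous n) {μ : Fin r →₀ ℕ} (hμ : μ ∉ Mon r n) : P.coeff μ = 0 := by
  by_contra h
  exact hμ (mem_Mon_of_support hP (MvPolynomial.mem_support_iff.mpr h))

/-- value of a monomial at `f` -/
noncomputable abbrev fpow (f : Fin r → A) (μ : Fin r →₀ ℕ) : A := ∏ i, f i ^ μ i

theorem eval_eq_sum_Mon (f : Fin r → A) {n : ℕ} (P : MvPolynomial (Fin r) A)
    (hP : P.IsHomogeneous n) : eval f P = ∑ μ ∈ Mon r n, P.coeff μ * fpow f μ := by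
  rw [eval_eq']
  refine Finset.sum_subset (fun μ hμ => mem_Mon_of_support hP hμ) ?_
  intro μ _ hμ
  have h0 : P.coeff μ = 0 := by
    by_contra h
    exact hμ (MvPolynomial.mem_support_iff.mpr h)
  rw [h0, zero_mul]

theorem fpow_mem (f : Fin r → A) {n : ℕ} {μ : Fin r →₀ ℕ} (hμ : μ ∈ Mon r n) :
    fpow f μ ∈ Ideal.span (Set.range f) ^ n := by
  have h := prod_pow_mem f μ
  rw [Finsupp.degree_eq_sum, mem_Mon.mp hμ, Finsupp.prod_fintype] at h
  · exact h
  · intro i; exact pow_zero _

/-- the polynomial with prescribed coefficients -/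
noncomputable def polyOf {n : ℕ} (c : ↥(Mon r n) → A) : MvPolynomial (Fin r) A :=
  ∑ μ : ↥(Mon r n), monomial μ.1 (c μ)

theorem polyOf_isHomogeneous {n : ℕ} (c : ↥(Mon r n) → A) : (polyOf c).IsHomogeneous n := by
  unfold polyOf
  refine IsHomogeneous.sum _ _ _ fun μ _ => ?_
  refine isHomogeneous_monomial _ ?_
  rw [Finsupp.degree_eq_sum]; exact mem_Mon.mp μ.2

theorem coeff_polyOf {n : ℕ} (c : ↥(Mon r n) → A) (μ : ↥(Mon r n)) :
    (polyOf c).coeff μ.1 = c μ := by
  classical
  unfold polyOf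
  rw [coeff_sum]
  simp only [coeff_monomial]
  rw [Finset.sum_eq_single μ]
  · simp
  · intro ν _ hν
    rw [if_neg]
    intro h
    exact hν (Subtype.ext h)
  · intro h; exact absurd (Finset.mem_univ μ) h

theorem eval_polyOf (f : Fin r → A) {n : ℕ} (c : ↥(Mon r n) → A) :
    eval f (polyOf c) = ∑ μ : ↥(Mon r n), c μ * fpow f μ.1 := by
  unfold polyOf
  rw [map_sum]
  refine Finset.sum_congr rfl fun μ _ => ?_
  rw [eval_monomial, Finsupp.prod_fintype]
  intro i; exact pow_zero _

/-- quasi-regularity in degree `n`, in coefficient form -/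
def D (f : Fin r → A) (n : ℕ) : Prop :=
  ∀ c : ↥(Mon r n) → A,
    (∑ μ : ↥(Mon r n), c μ * fpow f μ.1) ∈ Ideal.span (Set.range f) ^ (n + 1) →
      ∀ μ, c μ ∈ Ideal.span (Set.range f)

theorem D_of_qr (f : Fin r → A) (h : QR f) (n : ℕ) : D f n := by
  intro c hc μ
  have := h n (polyOf c) (polyOf_isHomogeneous c) (by rw [eval_polyOf]; exact hc) μ.1
  rwa [coeff_polyOf] at this

theorem qr_of_D (f : Fin r → A) (h : ∀ n, D f n) : QR f := by
  intro n P hP hev ν
  by_cases hν : ν ∈ Mon r n
  · have h1 : (∑ μ : ↥(Mon r n), P.coeff μ.1 * fpow f μ.1)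
        ∈ Ideal.span (Set.range f) ^ (n + 1) := by
      rw [Finset.sum_coe_sort (Mon r n) (fun μ => P.coeff μ * fpow f μ),
        ← eval_eq_sum_Mon f P hP]
      exact hev
    exact h n (fun μ => P.coeff μ.1) h1 ⟨ν, hν⟩
  · rw [coeff_eq_zero_of_not_mem_Mon hP hν]; exact zero_mem _

end Mon

/-! ### Part 2: quasi-regular generators of the maximal ideal give regularity -/
section QRreg
variable {A : Type u} [CommRing A]

theorem mem_pow_of_f0_mul_mem {c : ℕ} {f : Fin (c + 1) → A} (h : QR f) :
    ∀ (j : ℕ) (a : A), f 0 * a ∈ Ideal.span (Set.range f) ^ (j + 1) →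
      a ∈ Ideal.span (Set.range f) ^ j := by
  intro j
  induction j with
  | zero => intro a _; simp
  | succ j ih =>
    intro a ha
    have h1 : a ∈ Ideal.span (Set.range f) ^ j :=
      ih a (Ideal.pow_le_pow_right (Nat.le_succ _) ha)
    obtain ⟨R, hR, rfl⟩ := (Ideal.mem_span_pow_iff_exists_isHomogeneous f a).1 h1
    have h2 : ∀ d, (X 0 * R).coeff d ∈ Ideal.span (Set.range f) := by
      refine h (j + 1) (X 0 * R) ?_ ?_
      · have := (isHomogeneous_X A (0 : Fin (c + 1))).mul hR
        exact (Nat.add_comm 1 j) ▸ this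
      · rw [map_mul, eval_X]; exact ha
    have h3 : ∀ d, R.coeff d ∈ Ideal.span (Set.range f) := by
      intro d
      have := h2 (Finsupp.single 0 1 + d)
      rwa [coeff_X_mul] at this
    have h4 := eval_mem_mul_pow f _ R hR h3
    rwa [← pow_succ'] at h4

theorem f0_nzd {c : ℕ} [IsLocalRing A] [IsNoetherianRing A] {f : Fin (c + 1) → A}
    (hspan : Ideal.span (Set.range f) = maximalIdeal A) (h : QR f) :
    f 0 ∈ nonZeroDivisors A := by
  rw [mem_nonZeroDivisors_iff_right]
  intro x hx
  have hx' : f 0 * x = 0 := by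
    first
      | exact hx
      | (rw [mul_comm]; exact hx)
  have h1 : ∀ j, x ∈ maximalIdeal A ^ j := by
    intro j
    rw [← hspan]
    refine mem_pow_of_f0_mul_mem h j x ?_
    rw [hx']; exact zero_mem _
  have h2 : x ∈ ⨅ i : ℕ, maximalIdeal A ^ i := by
    rw [Ideal.mem_iInf]; exact h1
  rw [Ideal.iInf_pow_eq_bot_of_isLocalRing _ (IsLocalRing.maximalIdeal.isMaximal A).ne_top] at h2
  exact h2

theorem map_eval' {B : Type*} [CommRing B] (φ : A →+* B) {σ : Type*} (g : σ → A)
    (P : MvPolynomial σ A) :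
    φ (eval g P) = eval (fun i => φ (g i)) (map φ P) := by
  induction P using MvPolynomial.induction_on with
  | C a => simp
  | add p q hp hq => simp only [map_add, hp, hq]
  | mul_X p i hp => simp only [map_mul, eval_X, map_X, hp]

theorem exists_homogeneous_lift {B : Type*} [CommRing B] (φ : A →+* B)
    (hφ : Function.Surjective φ) {σ : Type*} {n : ℕ} (P : MvPolynomial σ B)
    (hP : P.IsHomogeneous n) :
    ∃ Q : MvPolynomial σ A, Q.IsHomogeneous n ∧ map φ Q = P := by
  classical
  choose s hs using hφ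
  refine ⟨∑ ν ∈ P.support, monomial ν (s (P.coeff ν)), ?_, ?_⟩
  · refine IsHomogeneous.sum _ _ _ fun ν hν => ?_
    refine isHomogeneous_monomial _ ?_
    rw [Finsupp.degree_apply]; exact (hP.degree_eq_sum_deg_support hν).symm
  · rw [map_sum]
    simp only [map_monomial, hs]
    exact (P.as_sum).symm

theorem lemmaT {c : ℕ} {f : Fin (c + 1) → A} (h : QR f) (n : ℕ) (a : A)
    (ha : f 0 * a ∈ Ideal.span (Set.range f) ^ n) :
    ∃ T : MvPolynomial (Fin (c + 1)) A, T.IsHomogeneous n ∧ eval f T = f 0 * a ∧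
      ∀ μ : Fin (c + 1) →₀ ℕ, μ 0 = 0 → T.coeff μ ∈ Ideal.span (Set.range f) := by
  classical
  cases n with
  | zero =>
    refine ⟨C (f 0 * a), isHomogeneous_C _ _, eval_C _, ?_⟩
    intro μ _
    rw [coeff_C]
    split_ifs
    · exact Ideal.mul_mem_right _ _ (Ideal.subset_span ⟨0, rfl⟩)
    · exact zero_mem _
  | succ j =>
    have h1 := mem_pow_of_f0_mul_mem h j a ha
    obtain ⟨S, hS, rfl⟩ := (Ideal.mem_span_pow_iff_exists_isHomogeneous f a).1 h1
    refine ⟨X 0 * S, ?_, by rw [map_mul, eval_X], ?_⟩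
    · have := (isHomogeneous_X A (0 : Fin (c + 1))).mul hS
      exact (Nat.add_comm 1 j) ▸ this
    · intro μ hμ
      rw [coeff_X_mul', if_neg]
      · exact zero_mem _
      · rw [Finsupp.mem_support_iff, not_not]; exact hμ

theorem qr_quotient {c : ℕ} {f : Fin (c + 1) → A} (h : QR f) :
    QR (fun i : Fin c => Ideal.Quotient.mk (Ideal.span {f 0}) (f i.succ)) := by
  classical
  intro n P hP hev ν
  have hsurj : Function.Surjective (Ideal.Quotient.mk (Ideal.span {f 0})) :=
    Ideal.Quotient.mk_surjective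
  obtain ⟨Q, hQ, rfl⟩ :=
    exists_homogeneous_lift (Ideal.Quotient.mk (Ideal.span {f 0})) hsurj P hP
  have hJmap : ∀ x ∈ Ideal.span (Set.range f), Ideal.Quotient.mk (Ideal.span {f 0}) x ∈
      Ideal.span (Set.range fun i : Fin c => Ideal.Quotient.mk (Ideal.span {f 0}) (f i.succ)) := by
    intro x hx
    have hle : Ideal.span (Set.range f) ≤
        (Ideal.span (Set.range fun i : Fin c =>
          Ideal.Quotient.mk (Ideal.span {f 0}) (f i.succ))).comap
          (Ideal.Quotient.mk (Ideal.span {f 0})) := by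
      rw [Ideal.span_le]
      rintro _ ⟨i, rfl⟩
      refine Fin.cases ?_ (fun j => ?_) i
      · rw [SetLike.mem_coe, Ideal.mem_comap,
          Ideal.Quotient.eq_zero_iff_mem.mpr (Ideal.mem_span_singleton_self (f 0))]
        exact zero_mem _
      · exact Ideal.subset_span ⟨j, rfl⟩
    exact hle hx
  rw [coeff_map]
  apply hJmap
  have hev' : Ideal.Quotient.mk (Ideal.span {f 0}) (eval (fun i : Fin c => f i.succ) Q) ∈
      Ideal.map (Ideal.Quotient.mk (Ideal.span {f 0}))
        (Ideal.span (Set.range fun i : Fin c => f i.succ) ^ (n + 1)) := by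
    rw [map_eval', Ideal.map_pow, Ideal.map_span, ← Set.range_comp]
    exact hev
  obtain ⟨y, hy, hyeq⟩ := (Ideal.mem_map_iff_of_surjective _ hsurj).mp hev'
  obtain ⟨Q₂, hQ₂, rfl⟩ :=
    (Ideal.mem_span_pow_iff_exists_isHomogeneous (fun i : Fin c => f i.succ) y).1 hy
  have hdiff : eval (fun i : Fin c => f i.succ) Q - eval (fun i : Fin c => f i.succ) Q₂
      ∈ Ideal.span {f 0} := by
    rw [← Ideal.Quotient.eq]; exact hyeq.symm
  obtain ⟨a, ha⟩ := Ideal.mem_span_singleton'.mp hdiff
  have e1 : eval f (rename Fin.succ Q) = eval (fun i : Fin c => f i.succ) Q := by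
    rw [eval_rename]; rfl
  have e2 : eval f (rename Fin.succ Q₂) = eval (fun i : Fin c => f i.succ) Q₂ := by
    rw [eval_rename]; rfl
  have hf0a : f 0 * a ∈ Ideal.span (Set.range f) ^ n := by
    rw [mul_comm, ha, ← e1, ← e2]
    refine Ideal.sub_mem _ ?_ ?_
    · exact (Ideal.mem_span_pow_iff_exists_isHomogeneous f _).2
        ⟨_, hQ.rename_isHomogeneous, rfl⟩
    · exact Ideal.pow_le_pow_right (Nat.le_succ n)
        ((Ideal.mem_span_pow_iff_exists_isHomogeneous f _).2
          ⟨_, hQ₂.rename_isHomogeneous, rfl⟩)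
  obtain ⟨T, hT, hTev, hTc⟩ := lemmaT h n a hf0a
  have hG : ∀ μ, (rename Fin.succ Q - T).coeff μ ∈ Ideal.span (Set.range f) := by
    refine h n (rename Fin.succ Q - T) (hQ.rename_isHomogeneous.sub hT) ?_
    rw [map_sub, hTev, e1, mul_comm, ha, sub_sub_cancel, ← e2]
    exact (Ideal.mem_span_pow_iff_exists_isHomogeneous f _).2
      ⟨_, hQ₂.rename_isHomogeneous, rfl⟩
  have hμ0 : (ν.mapDomain Fin.succ) (0 : Fin (c + 1)) = 0 := by
    apply Finsupp.mapDomain_of_notMem_range
    rintro ⟨j, hj⟩
    exact Fin.succ_ne_zero j hj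
  have h3 := hG (ν.mapDomain Fin.succ)
  rw [coeff_sub, coeff_rename_mapDomain Fin.succ (Fin.succ_injective _) Q ν] at h3
  have h4 := hTc _ hμ0
  have h5 : Q.coeff ν = (Q.coeff ν - T.coeff (ν.mapDomain Fin.succ))
      + T.coeff (ν.mapDomain Fin.succ) := by ring
  rw [h5]
  exact Ideal.add_mem _ h3 h4

/-- quasi-regular generators of the maximal ideal of a Noetherian local ring force regularity -/
theorem regular_of_qr : ∀ (c : ℕ) (A : Type u) [CommRing A] [IsLocalRing A] [IsNoetherianRing A]
    (f : Fin c → A), Ideal.span (Set.range f) = maximalIdeal A → QR f →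
    IsRegularLocalRing A := by
  intro c
  induction c with
  | zero =>
    intro A _ _ _ f hspan _
    apply IsRegularLocalRing.of_spanFinrank_maximalIdeal_le
    have hbot : maximalIdeal A = ⊥ := by
      rw [← hspan, Ideal.span_eq_bot]
      rintro _ ⟨i, rfl⟩
      exact i.elim0
    rw [hbot, Submodule.spanFinrank_bot]
    exact_mod_cast ringKrullDim_nonneg_of_nontrivial
  | succ c ih =>
    intro A _ _ _ f hspan hqr
    have hf0 : f 0 ∈ maximalIdeal A := by
      rw [← hspan]; exact Ideal.subset_span ⟨0, rfl⟩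
    have hnzd := f0_nzd hspan hqr
    haveI : IsLocalRing (A ⧸ Ideal.span {f 0}) :=
      Groth.Agent.RegularLib.isLocalRing_quotient _
        (Groth.Agent.RegularLib.span_singleton_ne_top (f 0) hf0)
    have hq := qr_quotient hqr
    have hspan' : Ideal.span (Set.range (fun i : Fin c =>
        Ideal.Quotient.mk (Ideal.span {f 0}) (f i.succ)))
        = maximalIdeal (A ⧸ Ideal.span {f 0}) := by
      rw [← IsLocalRing.map_maximalIdeal_of_surjective (Ideal.Quotient.mk (Ideal.span {f 0}))
        Ideal.Quotient.mk_surjective, ← hspan, Ideal.map_span]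
      apply le_antisymm
      · apply Ideal.span_mono
        rintro _ ⟨j, rfl⟩
        exact ⟨f j.succ, ⟨j.succ, rfl⟩, rfl⟩
      · rw [Ideal.span_le]
        rintro _ ⟨_, ⟨i, rfl⟩, rfl⟩
        refine Fin.cases ?_ (fun j => ?_) i
        · show Ideal.Quotient.mk (Ideal.span {f 0}) (f 0) ∈ _
          rw [Ideal.Quotient.eq_zero_iff_mem.mpr (Ideal.mem_span_singleton_self (f 0))]
          exact zero_mem _
        · exact Ideal.subset_span ⟨j, rfl⟩
    haveI := ih (A ⧸ Ideal.span {f 0}) _ hspan' hq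
    exact Groth.Agent.RegularLib.of_quotient_regular A (f 0) hf0 hnzd

end QRreg

/-! ### Part 3: lengths -/
section Length
variable {A : Type u} [CommRing A] [IsLocalRing A] {r : ℕ} (f : Fin r → A)

/-- `c ↦ ∑ c_μ f^μ` -/
noncomputable def Psi (n : ℕ) : (↥(Mon r n) → A) →ₗ[A] A where
  toFun c := ∑ μ : ↥(Mon r n), c μ * fpow f μ.1
  map_add' c c' := by simp only [Pi.add_apply, add_mul, Finset.sum_add_distrib]
  map_smul' a c := by
    simp only [Pi.smul_apply, smul_eq_mul, RingHom.id_apply, Finset.mul_sum, mul_assoc]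

theorem Psi_apply (n : ℕ) (c : ↥(Mon r n) → A) :
    Psi f n c = ∑ μ : ↥(Mon r n), c μ * fpow f μ.1 := rfl

/-- `Psi` followed by the quotient map -/
noncomputable def Psi' (n : ℕ) : (↥(Mon r n) → A) →ₗ[A] (A ⧸ maximalIdeal A ^ (n + 1)) :=
  (Submodule.mkQ (maximalIdeal A ^ (n + 1))) ∘ₗ Psi f n

theorem Psi'_apply (n : ℕ) (c : ↥(Mon r n) → A) :
    Psi' f n c = Submodule.Quotient.mk (Psi f n c) := rfl

variable (A) in
/-- the projection `A/𝔪^(n+1) → A/𝔪^n` -/
noncomputable def proj (n : ℕ) :
    (A ⧸ maximalIdeal A ^ (n + 1)) →ₗ[A] (A ⧸ maximalIdeal A ^ n) :=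
  Submodule.mapQ (maximalIdeal A ^ (n + 1)) (maximalIdeal A ^ n) LinearMap.id (by
    intro x hx
    exact Ideal.pow_le_pow_right (Nat.le_succ n) hx)

theorem proj_mk (n : ℕ) (x : A) :
    proj A n (Submodule.Quotient.mk x) = Submodule.Quotient.mk x := rfl

theorem proj_surjective (n : ℕ) : Function.Surjective (proj A n) := by
  intro y
  obtain ⟨x, rfl⟩ := Submodule.mkQ_surjective _ y
  exact ⟨Submodule.Quotient.mk x, rfl⟩

variable (hspan : Ideal.span (Set.range f) = maximalIdeal A)
include hspan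

theorem Psi_mem (n : ℕ) (c : ↥(Mon r n) → A) : Psi f n c ∈ maximalIdeal A ^ n := by
  rw [Psi_apply]
  refine Ideal.sum_mem _ fun μ _ => ?_
  refine Ideal.mul_mem_left _ _ ?_
  rw [← hspan]; exact fpow_mem f μ.2

theorem Psi_mem_succ (n : ℕ) (c : ↥(Mon r n) → A) (hc : ∀ μ, c μ ∈ maximalIdeal A) :
    Psi f n c ∈ maximalIdeal A ^ (n + 1) := by
  rw [Psi_apply]
  refine Ideal.sum_mem _ fun μ _ => ?_
  rw [pow_succ']
  refine Ideal.mul_mem_mul (hc μ) ?_
  rw [← hspan]; exact fpow_mem f μ.2

theorem exists_Psi_eq (n : ℕ) (x : A) (hx : x ∈ maximalIdeal A ^ n) :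
    ∃ c, Psi f n c = x := by
  rw [← hspan] at hx
  obtain ⟨P, hP, rfl⟩ := (Ideal.mem_span_pow_iff_exists_isHomogeneous f x).1 hx
  refine ⟨fun μ => P.coeff μ.1, ?_⟩
  rw [eval_eq_sum_Mon f P hP, Psi_apply]
  exact Finset.sum_coe_sort (Mon r n) (fun μ => P.coeff μ * fpow f μ)

theorem ker_proj_eq (n : ℕ) : LinearMap.ker (proj A n) = LinearMap.range (Psi' f n) := by
  ext y
  obtain ⟨x, rfl⟩ := Submodule.mkQ_surjective _ y
  rw [LinearMap.mem_ker, LinearMap.mem_range]
  constructor
  · intro hx
    have hx' : x ∈ maximalIdeal A ^ n := by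
      have h1 : (Submodule.Quotient.mk x : A ⧸ maximalIdeal A ^ n) = 0 := hx
      exact (Submodule.Quotient.mk_eq_zero _).mp h1
    obtain ⟨c, hc⟩ := exists_Psi_eq f hspan n x hx'
    exact ⟨c, by rw [Psi'_apply, hc]; rfl⟩
  · rintro ⟨c, hc⟩
    rw [← hc, Psi'_apply, proj_mk]
    exact (Submodule.Quotient.mk_eq_zero _).mpr (Psi_mem f hspan n c)

theorem length_succ (n : ℕ) :
    Module.length A (A ⧸ maximalIdeal A ^ (n + 1))
      = Module.length A (LinearMap.range (Psi' f n))
        + Module.length A (A ⧸ maximalIdeal A ^ n) := by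
  refine Module.length_eq_add_of_exact (LinearMap.range (Psi' f n)).subtype (proj A n)
    (Submodule.subtype_injective _) (proj_surjective n) ?_
  rw [LinearMap.exact_iff, ker_proj_eq f hspan n, Submodule.range_subtype]

omit hspan

theorem lemmaG {M : Type*} [AddCommGroup M] [Module A M] (K K' : Submodule A M)
    (hKK' : K ≤ K') :
    Module.length A (M ⧸ K') ≤ Module.length A (M ⧸ K) ∧
    (Module.length A (M ⧸ K) ≠ ⊤ → Module.length A (M ⧸ K') = Module.length A (M ⧸ K) →
      K' ≤ K) := by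
  let g : (M ⧸ K) →ₗ[A] (M ⧸ K') :=
    Submodule.mapQ K K' LinearMap.id (by intro x hx; exact hKK' hx)
  have hg : Function.Surjective g := by
    intro y
    obtain ⟨x, rfl⟩ := Submodule.mkQ_surjective _ y
    exact ⟨Submodule.Quotient.mk x, rfl⟩
  have hadd := Module.length_eq_add_of_exact (LinearMap.ker g).subtype g
    (Submodule.subtype_injective _) hg (LinearMap.exact_subtype_ker_map g)
  refine ⟨by rw [hadd]; exact le_add_self, ?_⟩
  intro hfin heq x hx
  have h0 : Module.length A (LinearMap.ker g) = 0 := by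
    rw [heq] at hadd
    exact enat_self_add hfin hadd
  have hsub : Subsingleton (LinearMap.ker g) := Module.length_eq_zero_iff.mp h0
  have hmem : (Submodule.Quotient.mk x : M ⧸ K) ∈ LinearMap.ker g := by
    rw [LinearMap.mem_ker]
    show (Submodule.Quotient.mk x : M ⧸ K') = 0
    exact (Submodule.Quotient.mk_eq_zero _).mpr hx
  have h1 : (⟨_, hmem⟩ : LinearMap.ker g) = 0 := Subsingleton.elim _ _
  have h2 : (Submodule.Quotient.mk x : M ⧸ K) = 0 := congrArg Subtype.val h1
  exact (Submodule.Quotient.mk_eq_zero _).mp h2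

variable (A r) in
/-- coefficientwise reduction modulo the maximal ideal -/
noncomputable def rho (n : ℕ) : (↥(Mon r n) → A) →ₗ[A] (↥(Mon r n) → A ⧸ maximalIdeal A) :=
  (Submodule.mkQ (maximalIdeal A)).compLeft _

theorem rho_surjective (n : ℕ) : Function.Surjective (rho A r n) := by
  intro y
  choose x hx using fun μ => Submodule.mkQ_surjective (maximalIdeal A) (y μ)
  exact ⟨x, funext hx⟩

theorem mem_ker_rho (n : ℕ) (c : ↥(Mon r n) → A) :
    c ∈ LinearMap.ker (rho A r n) ↔ ∀ μ, c μ ∈ maximalIdeal A := by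
  rw [LinearMap.mem_ker]
  constructor
  · intro h μ
    have h1 : (Submodule.Quotient.mk (c μ) : A ⧸ maximalIdeal A) = 0 := congrFun h μ
    exact (Submodule.Quotient.mk_eq_zero _).mp h1
  · intro h
    funext μ
    exact (Submodule.Quotient.mk_eq_zero _).mpr (h μ)

theorem length_quot_ker_rho (n : ℕ) :
    Module.length A ((↥(Mon r n) → A) ⧸ LinearMap.ker (rho A r n))
      = ((r.multichoose n : ℕ) : ℕ∞) := by
  rw [((rho A r n).quotKerEquivOfSurjective (rho_surjective n)).length_eq, Module.length_pi]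
  haveI : IsSimpleModule A (A ⧸ maximalIdeal A) :=
    isSimpleModule_iff_isCoatom.mpr (Ideal.isMaximal_def.mp (IsLocalRing.maximalIdeal.isMaximal A))
  rw [Module.length_eq_one A (A ⧸ maximalIdeal A), mul_one, ENat.card_eq_coe_fintype_card,
    Fintype.card_coe, card_Mon]

include hspan

theorem ker_rho_le (n : ℕ) : LinearMap.ker (rho A r n) ≤ LinearMap.ker (Psi' f n) := by
  intro c hc
  rw [mem_ker_rho] at hc
  rw [LinearMap.mem_ker, Psi'_apply]
  exact (Submodule.Quotient.mk_eq_zero _).mpr (Psi_mem_succ f hspan n c hc)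

theorem length_range_le (n : ℕ) :
    Module.length A (LinearMap.range (Psi' f n)) ≤ ((r.multichoose n : ℕ) : ℕ∞) := by
  rw [← (Psi' f n).quotKerEquivRange.length_eq, ← length_quot_ker_rho (A := A) (r := r) n]
  exact (lemmaG _ _ (ker_rho_le f hspan n)).1

theorem D_of_length_eq (n : ℕ)
    (h : Module.length A (LinearMap.range (Psi' f n)) = ((r.multichoose n : ℕ) : ℕ∞)) :
    D f n := by
  have hle := (lemmaG _ _ (ker_rho_le f hspan n)).2
    (by rw [length_quot_ker_rho]; exact ENat.coe_ne_top _)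
    (by rw [(Psi' f n).quotKerEquivRange.length_eq, h, length_quot_ker_rho])
  intro c hc μ
  have hc' : c ∈ LinearMap.ker (Psi' f n) := by
    rw [LinearMap.mem_ker, Psi'_apply]
    refine (Submodule.Quotient.mk_eq_zero _).mpr ?_
    rw [← hspan]; exact hc
  have h1 := (mem_ker_rho n c).mp (hle hc') μ
  rw [hspan]; exact h1

theorem length_range_eq_of_D (n : ℕ) (hD : D f n) :
    Module.length A (LinearMap.range (Psi' f n)) = ((r.multichoose n : ℕ) : ℕ∞) := by
  have hker : LinearMap.ker (Psi' f n) = LinearMap.ker (rho A r n) := by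
    apply le_antisymm
    · intro c hc
      rw [mem_ker_rho]
      intro μ
      have h1 : Psi f n c ∈ maximalIdeal A ^ (n + 1) :=
        (Submodule.Quotient.mk_eq_zero _).mp (LinearMap.mem_ker.mp hc)
      have h2 := hD c (by rw [hspan]; exact h1) μ
      rwa [hspan] at h2
    · exact ker_rho_le f hspan n
  rw [← (Psi' f n).quotKerEquivRange.length_eq, ← length_quot_ker_rho (A := A) (r := r) n]
  exact (Submodule.quotEquivOfEq _ _ hker).length_eq

omit hspan in
theorem length_zero : Module.length A (A ⧸ maximalIdeal A ^ 0) = 0 := by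
  haveI : Subsingleton (A ⧸ maximalIdeal A ^ 0) :=
    Ideal.Quotient.subsingleton_iff.mpr (by rw [pow_zero, Ideal.one_eq_top])
  exact Module.length_eq_zero

theorem length_eq_sum (s : ℕ) :
    Module.length A (A ⧸ maximalIdeal A ^ s)
      = ∑ n ∈ Finset.range s, Module.length A (LinearMap.range (Psi' f n)) := by
  induction s with
  | zero => rw [Finset.sum_range_zero]; exact length_zero
  | succ s ih => rw [length_succ f hspan s, ih, Finset.sum_range_succ, add_comm]

theorem length_of_qr (hqr : QR f) (s : ℕ) :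
    Module.length A (A ⧸ maximalIdeal A ^ (s + 1)) = (((s + r).choose r : ℕ) : ℕ∞) := by
  rw [length_eq_sum f hspan (s + 1)]
  have h1 : ∀ n ∈ Finset.range (s + 1), Module.length A (LinearMap.range (Psi' f n))
      = ((r.multichoose n : ℕ) : ℕ∞) :=
    fun n _ => length_range_eq_of_D f hspan n (D_of_qr f hqr n)
  rw [Finset.sum_congr rfl h1, ← Nat.cast_sum, Nat.sum_range_multichoose]

theorem qr_of_length
    (hlen : ∀ s, Module.length A (A ⧸ maximalIdeal A ^ (s + 1))
      = (((s + r).choose r : ℕ) : ℕ∞)) : QR f := by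
  apply qr_of_D
  have hL : ∀ s, Module.length A (A ⧸ maximalIdeal A ^ s)
      = ((∑ n ∈ Finset.range s, r.multichoose n : ℕ) : ℕ∞) := by
    intro s
    cases s with
    | zero => rw [Finset.sum_range_zero, Nat.cast_zero]; exact length_zero
    | succ s => rw [hlen s, Nat.sum_range_multichoose]
  intro n
  apply D_of_length_eq f hspan n
  have h1 := length_succ f hspan n
  rw [hL (n + 1), hL n, Finset.sum_range_succ] at h1
  exact enat_cancel' h1

end Length

/-! ### Main theorems -/
section Main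

theorem span_range_get {A : Type u} [CommRing A] (l : List A) :
    Ideal.span (Set.range l.get) = Ideal.ofList l := by
  have hrange : Set.range l.get = {x | x ∈ l} := by
    ext x
    constructor
    · rintro ⟨i, rfl⟩; exact List.get_mem l i
    · intro hx; exact List.mem_iff_get.mp hx
  rw [hrange]

theorem exists_gens (A : Type u) [CommRing A] [IsLocalRing A] [IsNoetherianRing A] :
    ∃ (r : ℕ) (f : Fin r → A), r = (maximalIdeal A).spanFinrank ∧
      Ideal.span (Set.range f) = maximalIdeal A := by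
  classical
  obtain ⟨s, hcard, hspan⟩ := Submodule.FG.exists_span_finset_card_eq_spanFinrank
    (IsNoetherian.noetherian (maximalIdeal A))
  have hl_span : Ideal.ofList s.toList = maximalIdeal A := by
    rw [Groth.Agent.RegularLib.ofList_toList]; exact hspan
  have hl_len : s.toList.length = (maximalIdeal A).spanFinrank := by
    rw [Finset.length_toList]; exact hcard
  exact ⟨s.toList.length, s.toList.get, hl_len, by rw [span_range_get, hl_span]⟩

theorem exists_qr_gens (A : Type u) [CommRing A] [IsRegularLocalRing A] :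
    ∃ (r : ℕ) (f : Fin r → A), r = (maximalIdeal A).spanFinrank ∧
      Ideal.span (Set.range f) = maximalIdeal A ∧ QR f := by
  classical
  obtain ⟨s, hcard, hspan⟩ := Submodule.FG.exists_span_finset_card_eq_spanFinrank
    (IsNoetherian.noetherian (maximalIdeal A))
  have hl_span : Ideal.ofList s.toList = maximalIdeal A := by
    rw [Groth.Agent.RegularLib.ofList_toList]; exact hspan
  have hl_len : s.toList.length = (maximalIdeal A).spanFinrank := by
    rw [Finset.length_toList]; exact hcard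
  have hreg := Groth.Agent.RegularLib.isRegular_of_ofList_eq A s.toList hl_span hl_len
  refine ⟨s.toList.length, s.toList.get, hl_len, by rw [span_range_get, hl_span], ?_⟩
  apply qr_of_isWeaklyRegular
  rw [List.ofFn_get]
  exact hreg.toIsWeaklyRegular

theorem main8163 (A : Type u) [CommRing A] [IsRegularLocalRing A]
    (d : ℕ) (hd : ringKrullDim A = d) (i : ℕ) (hi : 1 ≤ i) :
    Module.length A (A ⧸ IsLocalRing.maximalIdeal A ^ i) = ((i + d - 1).choose d : ℕ∞) := by
  obtain ⟨r, f, hr, hspan, hqr⟩ := exists_qr_gens A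
  have hrd : r = d := by
    have h1 : ((maximalIdeal A).spanFinrank : WithBot ℕ∞) = ringKrullDim A :=
      IsRegularLocalRing.spanFinrank_maximalIdeal
    rw [hd, ← hr] at h1
    have h2 : r ≤ d := by exact_mod_cast h1.le
    have h3 : d ≤ r := by exact_mod_cast h1.ge
    omega
  subst hrd
  obtain ⟨s, rfl⟩ : ∃ s, i = s + 1 := ⟨i - 1, by omega⟩
  rw [length_of_qr f hspan hqr s]
  have h4 : s + 1 + r - 1 = s + r := by omega
  rw [h4]

theorem main5778 (A : Type u) [CommRing A] [IsLocalRing A] [IsNoetherianRing A] :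
    IsRegularLocalRing A ↔
      ∀ s : ℕ, Module.length A (A ⧸ IsLocalRing.maximalIdeal A ^ (s + 1)) =
        ((s + Module.finrank (IsLocalRing.ResidueField A) (IsLocalRing.CotangentSpace A)).choose s
          : ℕ∞) := by
  rw [← IsLocalRing.spanFinrank_maximalIdeal_eq_finrank_cotangentSpace A]
  constructor
  · intro hreg s
    obtain ⟨r, f, hr, hspan, hqr⟩ := exists_qr_gens A
    rw [← hr, length_of_qr f hspan hqr s, Nat.choose_symm_add]
  · intro h
    obtain ⟨r, f, hr, hspan⟩ := exists_gens A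
    refine regular_of_qr r A f hspan (qr_of_length f hspan ?_)
    intro s
    rw [h s, ← hr, Nat.choose_symm_add]

end Main

end Groth.Agent.Lib.HilbRegH4
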