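import Mathlib
import Groth.Agent.Lib.HilbReg_helper4

namespace Groth.Agent.Lib.QRJacH4

open Groth.Agent.QuasiReg Groth.Agent.Lib.HilbRegH4

universe u

theorem isWeaklyRegular_quotSMulTop_iff {R : Type u} [CommRing R] (a : R) (l : List R) :
    RingTheory.Sequence.IsWeaklyRegular (QuotSMulTop a R) l ↔
    RingTheory.Sequence.IsWeaklyRegular (R ⧸ Ideal.span {a})
      (l.map (Ideal.Quotient.mk (Ideal.span {a}))) := by
  let e : QuotSMulTop a R ≃ₗ[R] (R ⧸ Ideal.span {a}) :=
    Submodule.quotEquivOfEq _ _ (by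
      rw [← Submodule.ideal_span_singleton_smul a (⊤ : Submodule R R)]
      exact Ideal.mul_top _)
  refine e.toAddEquiv.isWeaklyRegular_congr (List.forall₂_map_right_iff.mpr
    (List.forall₂_same.mpr fun r _ x => ?_))
  have h1 : e (r • x) = r • e x := map_smul e r x
  have h2 : r • e x = Ideal.Quotient.mk (Ideal.span {a}) r • e x := by
    rw [Algebra.smul_def, smul_eq_mul]; rfl
  exact h1.trans h2

theorem main : ∀ (c : ℕ) (A : Type u) [CommRing A] [IsNoetherianRing A] (f : Fin c → A),
    (∀ i, f i ∈ Ring.jacobson A) → QR f →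
    RingTheory.Sequence.IsWeaklyRegular A (List.ofFn f) := by
  intro c
  induction c with
  | zero =>
    intro A _ _ f _ _
    rw [List.ofFn_zero]
    exact RingTheory.Sequence.IsWeaklyRegular.nil A A
  | succ c ih =>
    intro A _ _ f hjac hqr
    rw [List.ofFn_succ]
    have hJ : Ideal.span (Set.range f) ≤ Ideal.jacobson ⊥ := by
      rw [Ideal.span_le, Ideal.jacobson_bot]
      rintro _ ⟨i, rfl⟩
      exact hjac i
    have hreg : IsSMulRegular A (f 0) := by
      rw [isSMulRegular_iff_right_eq_zero_of_smul]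
      intro x hx
      have h1 : ∀ j, x ∈ Ideal.span (Set.range f) ^ j := fun j =>
        mem_pow_of_f0_mul_mem hqr j x (by rw [← smul_eq_mul, hx]; exact zero_mem _)
      have h2 : x ∈ (⨅ i : ℕ, Ideal.span (Set.range f) ^ i • ⊤ : Submodule A A) := by
        rw [Submodule.mem_iInf]
        intro j
        rw [smul_eq_mul, Ideal.mul_top]
        exact h1 j
      rw [Ideal.iInf_pow_smul_eq_bot_of_le_jacobson _ hJ] at h2
      exact h2
    refine RingTheory.Sequence.IsWeaklyRegular.cons hreg ?_
    rw [isWeaklyRegular_quotSMulTop_iff, List.map_ofFn]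
    apply ih (A ⧸ Ideal.span {f 0}) (Ideal.Quotient.mk (Ideal.span {f 0}) ∘ fun i => f i.succ)
    · intro i
      have hi := hjac i.succ
      rw [← Ideal.jacobson_bot, Ideal.mem_jacobson_bot] at hi ⊢
      intro y
      obtain ⟨y, rfl⟩ := Ideal.Quotient.mk_surjective y
      have := (hi y).map (Ideal.Quotient.mk (Ideal.span {f 0}))
      simpa using this
    · exact qr_quotient hqr

theorem main5803 (A : Type u) [CommRing A] [IsNoetherianRing A]
    (c : ℕ) (f : Fin c → A) (hf : ∀ i, f i ∈ Ring.jacobson A) (hq : CAlgX.IsQuasiRegular f) :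
    RingTheory.Sequence.IsWeaklyRegular A (List.ofFn f) :=
  main c A f hf hq

end Groth.Agent.Lib.QRJacH4
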