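import Mathlib
import Groth.Prelude.Def_RegImm
import Groth.Agent.Lib.QRJac_helper4
import Groth.Agent.Lib.Vasc5_helper9
import Groth.Agent.Lib.RegKindFlat_helper2
import Groth.Agent.Lib.RegImmKinds_helper2
import Groth.Agent.Lib.RegImmComp_helper2
import Groth.Agent.Lib.AffStalk3_helper3

/-!
# Quasi-regular = regular on locally Noetherian schemes (S5003, S5004) (helper2)
APPEND-ONLY once landed.
-/

set_option autoImplicit false
open AlgebraicGeometry CategoryTheory CategoryTheory.Limits TopologicalSpace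
universe u
namespace Groth.Agent.Lib.QRegNoeth

open Groth.Agent.Lib.RegImmComp

/-- a quasi-regular sequence in a Noetherian ring is a regular sequence on a principal open
neighbourhood of any prime containing it -/
theorem exists_away_regular_of_quasi {A : Type u} [CommRing A] [IsNoetherianRing A] (rs : List A)
    (hq : CAlgX.IsQuasiRegular rs.get) (q : Ideal A) [q.IsPrime] (hle : Ideal.ofList rs ≤ q) :
    ∃ g, g ∉ q ∧ RingTheory.Sequence.IsRegular (Localization.Away g)
      (rs.map (algebraMap A (Localization.Away g))) := by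
  have hfl : (algebraMap A (Localization.AtPrime q)).Flat :=
    RingHom.flat_algebraMap_iff.mpr (IsLocalization.flat _ q.primeCompl)
  have h1 := Groth.Agent.Lib.RegKindFlat.quasi_map_of_flat _ hfl rs hq
  haveI : IsNoetherianRing (Localization.AtPrime q) :=
    IsLocalization.isNoetherianRing q.primeCompl _ inferInstance
  have hjac : ∀ i, (rs.map (algebraMap A (Localization.AtPrime q))).get i ∈
      Ring.jacobson (Localization.AtPrime q) := by
    intro i
    rw [IsLocalRing.ringJacobson_eq_maximalIdeal]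
    have h2 : (rs.map (algebraMap A (Localization.AtPrime q))).get i ∈
        rs.map (algebraMap A (Localization.AtPrime q)) := List.get_mem _ i
    obtain ⟨a, ha, hai⟩ := List.mem_map.mp h2
    rw [← hai, IsLocalization.AtPrime.to_map_mem_maximal_iff (Localization.AtPrime q) q]
    exact hle (Ideal.subset_span ha)
  have h2 := Groth.Agent.Lib.QRJacH4.main5803 (Localization.AtPrime q) _
    (rs.map (algebraMap A (Localization.AtPrime q))).get hjac h1
  rw [List.ofFn_get] at h2
  obtain ⟨g, hg, hreg, -⟩ := Groth.Agent.Vasc9.exists_away_regular q (Ideal.ofList rs) hle rs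
    (fun a ha => Ideal.subset_span ha) h2 le_rfl
  exact ⟨g, hg, hreg⟩

/-- transport of a regular sequence from the abstract localization to the sections over the
basic open -/
theorem regular_res_of_away {X : Scheme.{u}} {U : X.Opens} (hU : IsAffineOpen U) (g : Γ(X, U))
    (rs : List Γ(X, U))
    (hreg : RingTheory.Sequence.IsRegular (Localization.Away g)
      (rs.map (algebraMap Γ(X, U) (Localization.Away g)))) :
    RingTheory.Sequence.IsRegular Γ(X, X.basicOpen g)
      (rs.map (X.presheaf.map (homOfLE (X.basicOpen_le g)).op).hom) := by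
  haveI := hU.isLocalization_basicOpen g
  let e : Localization.Away g ≃ₐ[Γ(X, U)] Γ(X, X.basicOpen g) :=
    IsLocalization.algEquiv (Submonoid.powers g) _ _
  have hbij : Function.Bijective
      ((e.toRingEquiv : Localization.Away g ≃+* Γ(X, X.basicOpen g)) :
        Localization.Away g →+* Γ(X, X.basicOpen g)) := e.bijective
  have hfl : ((e.toRingEquiv : Localization.Away g ≃+* Γ(X, X.basicOpen g)) :
      Localization.Away g →+* Γ(X, X.basicOpen g)).Flat := RingHom.Flat.of_bijective hbij
  have hmap : (rs.map (algebraMap Γ(X, U) (Localization.Away g))).map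
      ((e.toRingEquiv : Localization.Away g ≃+* Γ(X, X.basicOpen g)) :
        Localization.Away g →+* Γ(X, X.basicOpen g)) =
      rs.map (X.presheaf.map (homOfLE (X.basicOpen_le g)).op).hom := by
    rw [List.map_map]
    apply List.map_congr_left
    intro a _
    exact e.commutes a
  have hne : Ideal.ofList ((rs.map (algebraMap Γ(X, U) (Localization.Away g))).map
      ((e.toRingEquiv : Localization.Away g ≃+* Γ(X, X.basicOpen g)) :
        Localization.Away g →+* Γ(X, X.basicOpen g))) ≠ ⊤ := by
    rw [← Ideal.map_ofList]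
    intro htop
    have h1 := (Ideal.map_eq_top_of_bijective _ hbij).mp htop
    apply hreg.top_ne_smul
    rw [smul_eq_mul, Ideal.mul_top]
    exact h1.symm
  have h3 := Groth.Agent.Lib.RegKindFlat.seq_map_of_flat RegImm.Kind.regular _ hfl _ hreg hne
  rw [hmap] at h3
  exact h3

/-- the ideal on an affine chart lies in the prime of a point of the support -/
theorem ideal_le_of_mem_support {X : Scheme.{u}} (I : X.IdealSheafData) {U : X.Opens}
    (hU : IsAffineOpen U) (x : X) (hxU : x ∈ U) (hx : x ∈ I.support) :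
    I.ideal ⟨U, hU⟩ ≤ (hU.primeIdealOf ⟨x, hxU⟩).asIdeal := by
  intro f hf
  by_contra hnot
  have h1 : x ∈ X.basicOpen f :=
    (Groth.Agent.Lib.AffStalk_helper3.mem_basicOpen_iff hU f ⟨x, hxU⟩).mpr hnot
  have h2 := (Scheme.IdealSheafData.mem_support_iff_of_mem (I := I) (U := ⟨U, hU⟩) hxU).mp hx
  exact (Scheme.mem_zeroLocus_iff _ _ _).mp h2 f hf h1

/-- S5004 -/
theorem main5004 {X : Scheme.{u}} [IsLocallyNoetherian X] (I : X.IdealSheafData)
    (h : RegImm.IsRegularIdeal RegImm.Kind.quasi I) :
    RegImm.IsRegularIdeal RegImm.Kind.regular I := by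
  intro x hx
  obtain ⟨⟨U, hU⟩, hxU, rs, hrs, hI⟩ := h x hx
  haveI : IsNoetherianRing Γ(X, U) := IsLocallyNoetherian.component_noetherian ⟨U, hU⟩
  haveI : (hU.primeIdealOf ⟨x, hxU⟩).asIdeal.IsPrime := (hU.primeIdealOf ⟨x, hxU⟩).isPrime
  have hle : Ideal.ofList rs ≤ (hU.primeIdealOf ⟨x, hxU⟩).asIdeal := by
    rw [← hI]
    exact ideal_le_of_mem_support I hU x hxU hx
  obtain ⟨g, hg, hreg⟩ := exists_away_regular_of_quasi rs hrs _ hle
  have hxg : x ∈ X.basicOpen g :=
    (Groth.Agent.Lib.AffStalk_helper3.mem_basicOpen_iff hU g ⟨x, hxU⟩).mpr hg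
  have hle2 : (⟨_, hU.basicOpen g⟩ : X.affineOpens) ≤ ⟨U, hU⟩ := X.basicOpen_le g
  refine ⟨⟨X.basicOpen g, hU.basicOpen g⟩, hxg,
    rs.map (X.presheaf.map (homOfLE (X.basicOpen_le g)).op).hom,
    regular_res_of_away hU g rs hreg, ?_⟩
  rw [← I.map_ideal hle2, hI, Ideal.map_ofList]
  rfl

/-- S5003 -/
theorem main5003 {X Y : Scheme.{u}} [IsLocallyNoetherian X] (j : Y ⟶ X) :
    RegImm.IsRegularImmersion RegImm.Kind.regular j ↔
      RegImm.IsRegularImmersion RegImm.Kind.quasi j := by
  constructor
  · intro h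
    exact Groth.Agent.Lib.RegImmKinds.h1_quasi j (Groth.Agent.Lib.RegImmKinds.koszul_h1 j
      (Groth.Agent.Lib.RegImmKinds.regular_koszul j h))
  · intro h
    refine ⟨h.1, fun z => ?_⟩
    obtain ⟨⟨U, hU⟩, hzU, hcU, rs, hrs, hker⟩ := h.2 z
    haveI : IsNoetherianRing Γ(X, U) := IsLocallyNoetherian.component_noetherian ⟨U, hU⟩
    haveI : (hU.primeIdealOf ⟨j z, hzU⟩).asIdeal.IsPrime := (hU.primeIdealOf ⟨j z, hzU⟩).isPrime
    obtain ⟨hZU, hsurj⟩ := affine_and_surjective j hU hcU
    have hle : Ideal.ofList rs ≤ (hU.primeIdealOf ⟨j z, hzU⟩).asIdeal := by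
      rw [← hker]
      intro f hf
      by_contra hnot
      have h1 : j z ∈ X.basicOpen f :=
        (Groth.Agent.Lib.AffStalk_helper3.mem_basicOpen_iff hU f ⟨j z, hzU⟩).mpr hnot
      have h2 : z ∈ j ⁻¹ᵁ X.basicOpen f := h1
      have h3 : (j.app U).hom f = 0 := hf
      have h4 : j ⁻¹ᵁ X.basicOpen f = Y.basicOpen ((j.app U).hom f) :=
        Scheme.preimage_basicOpen j f
      rw [h4, h3, Scheme.basicOpen_zero] at h2
      exact h2
    obtain ⟨g, hg, hreg⟩ := exists_away_regular_of_quasi rs hrs _ hle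
    have hzg : j z ∈ X.basicOpen g :=
      (Groth.Agent.Lib.AffStalk_helper3.mem_basicOpen_iff hU g ⟨j z, hzU⟩).mpr hg
    refine ⟨⟨X.basicOpen g, hU.basicOpen g⟩, hzg,
      isClosedImmersion_restrict_of_le j (X.basicOpen_le g) hcU,
      rs.map (X.presheaf.map (homOfLE (X.basicOpen_le g)).op).hom,
      regular_res_of_away hU g rs hreg, ?_⟩
    rw [ker_app_basicOpen j hU hZU g (X.basicOpen g) rfl (X.basicOpen_le g), hker,
      Ideal.map_ofList]

end Groth.Agent.Lib.QRegNoeth
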