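import Mathlib
import Groth.Prelude.Def_RegImm
import Groth.Agent.Lib.QRegNoeth_helper2
import Groth.Agent.Lib.CancelSch_helper2
import Groth.Agent.Lib.FibKoszulSch_helper2
import Groth.Agent.Lib.FibChartCart_helper2

/-!
# Fibrewise quasi-regular immersions are relative quasi-regular immersions (S8896) (helper2)
APPEND-ONLY once landed.
-/

set_option autoImplicit false
open AlgebraicGeometry CategoryTheory CategoryTheory.Limits TopologicalSpace
universe u
namespace Groth.Agent.Lib.RelQRegFib

open Groth.Agent.Lib.FibChart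

/-- the fibre of a morphism locally of finite type is locally Noetherian -/
theorem isLocallyNoetherian_fiber {X S : Scheme.{u}} (φ : X ⟶ S) [LocallyOfFiniteType φ] (s : S) :
    IsLocallyNoetherian (φ.fiber s) := by
  haveI : LocallyOfFiniteType (φ.fiberToSpecResidueField s) :=
    MorphismProperty.pullback_snd _ _ inferInstance
  exact LocallyOfFiniteType.isLocallyNoetherian (φ.fiberToSpecResidueField s)

/-- Koszul points of a closed subscheme from the fibres -/
theorem koszulAt_of_fibres {X S : Scheme.{u}} (φ : X ⟶ S) [Flat φ] [LocallyOfFinitePresentation φ]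
    (𝓘 : X.IdealSheafData) [Flat (𝓘.subschemeι ≫ φ)]
    [LocallyOfFinitePresentation (𝓘.subschemeι ≫ φ)]
    (hfib : ∀ s : ↥S, RegImm.IsRegularImmersion RegImm.Kind.quasi
      (pullback.snd 𝓘.subschemeι (φ.fiberι s))) (z : 𝓘.subscheme) :
    Synt.IsKoszulAt 𝓘.subschemeι z := by
  have hs : ∀ s : S, φ (𝓘.subschemeι z) = s → Synt.IsKoszulAt 𝓘.subschemeι z := by
    intro s hsz
    haveI : LocallyOfFiniteType φ := inferInstance
    haveI := isLocallyNoetherian_fiber φ s
    have h1 := (Groth.Agent.Lib.QRegNoeth.main5003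
      (pullback.snd 𝓘.subschemeι (φ.fiberι s))).mpr (hfib s)
    have h2 := Groth.Agent.Lib.RegImmKinds.regular_koszul _ h1
    -- a point of the fibre product above `z`
    have hy : ∃ y : φ.fiber s, (φ.fiberι s) y = 𝓘.subschemeι z := by
      subst hsz
      exact ⟨φ.asFiber (𝓘.subschemeι z), φ.fiberι_asFiber _⟩
    obtain ⟨y, hy⟩ := hy
    obtain ⟨z', hz'1, -⟩ := Scheme.Pullback.exists_preimage_pullback (f := 𝓘.subschemeι)
      (g := φ.fiberι s) z y hy.symm
    have h3 := Groth.Agent.Lib.CancelSch.koszulAt_of_regImm_comp_smooth _ h2 (𝟙 (φ.fiber s)) z'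
    rw [Category.comp_id] at h3
    have hY := isPullback_fiber φ s
    have hX : IsPullback (pullback.fst 𝓘.subschemeι (φ.fiberι s))
        (pullback.snd 𝓘.subschemeι (φ.fiberι s) ≫ φ.fiberToSpecResidueField s)
        (𝓘.subschemeι ≫ φ) (S.fromSpecResidueField s) :=
      ((IsPullback.of_hasPullback 𝓘.subschemeι (φ.fiberι s)).flip.paste_horiz hY.flip).flip
    have h4 := Groth.Agent.Lib.FibKoszulSch.koszulAt_of_fibre (S.residueField s)
      (Field.toIsField _) 𝓘.subschemeι φ (S.fromSpecResidueField s) (φ.fiberι s)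
      (φ.fiberToSpecResidueField s) hY (pullback.fst 𝓘.subschemeι (φ.fiberι s))
      (pullback.snd 𝓘.subschemeι (φ.fiberι s)) hX pullback.condition z' h3
    rw [hz'1] at h4
    exact h4
  exact hs _ rfl

theorem main8896 {X S : Scheme.{u}} (φ : X ⟶ S) [Flat φ] [LocallyOfFinitePresentation φ]
    (𝓘 : X.IdealSheafData) [Flat (𝓘.subschemeι ≫ φ)]
    [LocallyOfFinitePresentation (𝓘.subschemeι ≫ φ)]
    (hfib : ∀ s : ↥S, RegImm.IsRegularImmersion RegImm.Kind.quasi
      (pullback.snd 𝓘.subschemeι (φ.fiberι s))) :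
    RegImm.IsRelRegularImmersion RegImm.Kind.quasi φ 𝓘.subschemeι := by
  refine ⟨?_, inferInstance⟩
  apply Groth.Agent.Lib.RegImmKinds.h1_quasi
  apply Groth.Agent.Lib.RegImmKinds.koszul_h1
  exact Groth.Agent.Lib.CancelSch.main8656 𝓘.subschemeι (koszulAt_of_fibres φ 𝓘 hfib) (𝟙 X)
    𝓘.subschemeι (Category.comp_id _)

end Groth.Agent.Lib.RelQRegFib
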