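import Mathlib
import Groth.Prelude.Def_RegImm
import Groth.Agent.Lib.FlatFibre_helper9
import Groth.Agent.Lib.LocalCrit9_helper9

/-!
# Transversally regular sequences and the closed fibre (helper8)
APPEND-ONLY once landed.
-/

set_option autoImplicit false
set_option maxHeartbeats 800000
universe u

namespace Groth.Agent.Lib.TransRegH8

open IsLocalRing TensorProduct

section general

variable (A : Type u) [CommRing A] {C : Type u} [CommRing C] [Algebra A C]

/-- `r` is a non-zero-divisor modulo `K`. -/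
def RegMod (K : Ideal C) (r : C) : Prop := ∀ c : C, r * c ∈ K → c ∈ K

/-- multiplication by `r` on `C ⧸ K`, as an `A`-linear map. -/
noncomputable def mulL (K : Ideal C) (r : C) : (C ⧸ K) →ₗ[A] (C ⧸ K) :=
  (LinearMap.lsmul C (C ⧸ K) r).restrictScalars A

omit [Algebra A C] in
theorem regMod_iff_isSMulRegular (K : Ideal C) (r : C) :
    IsSMulRegular (C ⧸ (K • ⊤ : Submodule C C)) r ↔ RegMod K r := by
  rw [isSMulRegular_quotient_iff_mem_of_smul_mem]
  have : (K • ⊤ : Submodule C C) = K := by rw [smul_eq_mul, Ideal.mul_top]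
  rw [this]
  rfl

theorem mulL_mk (K : Ideal C) (r c : C) :
    mulL A K r (Ideal.Quotient.mk K c) = Ideal.Quotient.mk K (r * c) := rfl

theorem mulL_injective_iff (K : Ideal C) (r : C) :
    Function.Injective (mulL A K r) ↔ RegMod K r := by
  rw [injective_iff_map_eq_zero]
  constructor
  · intro h c hc
    have := h (Ideal.Quotient.mk K c) (by rw [mulL_mk]; exact Ideal.Quotient.eq_zero_iff_mem.mpr hc)
    exact Ideal.Quotient.eq_zero_iff_mem.mp this
  · intro h x hx
    obtain ⟨c, rfl⟩ := Ideal.Quotient.mk_surjective x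
    rw [mulL_mk] at hx
    exact Ideal.Quotient.eq_zero_iff_mem.mpr (h c (Ideal.Quotient.eq_zero_iff_mem.mp hx))

/-- membership of a class in `𝔞 (C/K)`. -/
theorem mk_mem_smul_top_iff (K : Ideal C) (𝔞 : Ideal A) (c : C) :
    (Ideal.Quotient.mk K c : C ⧸ K) ∈ 𝔞 • (⊤ : Submodule A (C ⧸ K)) ↔
      c ∈ K ⊔ 𝔞.map (algebraMap A C) := by
  have h1 : (Ideal.Quotient.mk K c : C ⧸ K) ∈ 𝔞 • (⊤ : Submodule A (C ⧸ K)) ↔
      (Ideal.Quotient.mk K c : C ⧸ K) ∈ 𝔞.map (algebraMap A C) • (⊤ : Submodule C (C ⧸ K)) :=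
    ⟨fun h => Groth.Agent.Lib.FlatFibre.smul_top_le_map_smul_top (S := C) 𝔞 _ h,
      fun h => Groth.Agent.Lib.FlatFibre.map_smul_top_le_smul_top (S := C) 𝔞 _ h⟩
  rw [h1]
  have h2 : (𝔞.map (algebraMap A C) • (⊤ : Submodule C (C ⧸ K))) =
      Submodule.map (Submodule.mkQ K) (𝔞.map (algebraMap A C)) := by
    have := Submodule.map_smul'' (𝔞.map (algebraMap A C)) (⊤ : Submodule C C) (Submodule.mkQ K)
    rw [Submodule.map_top, Submodule.range_mkQ, smul_eq_mul, Ideal.mul_top] at this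
    exact this.symm
  rw [h2]
  constructor
  · rintro ⟨y, hy, hyc⟩
    have : c - y ∈ K := by
      rw [← Ideal.Quotient.eq_zero_iff_mem, map_sub, sub_eq_zero]
      exact hyc.symm
    have hc : c = (c - y) + y := by ring
    rw [hc]
    exact Ideal.add_mem _ (Ideal.mem_sup_left this) (Ideal.mem_sup_right hy)
  · intro hc
    obtain ⟨k, hk, y, hy, rfl⟩ := Submodule.mem_sup.mp hc
    refine ⟨y, hy, ?_⟩
    show Ideal.Quotient.mk K y = Ideal.Quotient.mk K (k + y)
    rw [map_add, Ideal.Quotient.eq_zero_iff_mem.mpr hk, zero_add]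

theorem mulL_mod_iff (K : Ideal C) (r : C) (𝔞 : Ideal A) :
    (∀ x : C ⧸ K, mulL A K r x ∈ 𝔞 • (⊤ : Submodule A (C ⧸ K)) →
      x ∈ 𝔞 • (⊤ : Submodule A (C ⧸ K))) ↔ RegMod (K ⊔ 𝔞.map (algebraMap A C)) r := by
  constructor
  · intro h c hc
    have := h (Ideal.Quotient.mk K c) (by rw [mulL_mk, mk_mem_smul_top_iff]; exact hc)
    exact (mk_mem_smul_top_iff A K 𝔞 c).mp this
  · intro h x hx
    obtain ⟨c, rfl⟩ := Ideal.Quotient.mk_surjective x
    rw [mulL_mk, mk_mem_smul_top_iff] at hx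
    exact (mk_mem_smul_top_iff A K 𝔞 c).mpr (h c hx)

/-- the cokernel of multiplication by `r` on `C/K` is `C/(K + (r))`. -/
noncomputable def cokerEquiv (K : Ideal C) (r : C) :
    ((C ⧸ K) ⧸ LinearMap.range (mulL A K r)) ≃ₗ[A] (C ⧸ (K ⊔ Ideal.span {r})) := by
  let φ : (C ⧸ K) →ₗ[A] (C ⧸ (K ⊔ Ideal.span {r})) :=
    (Ideal.Quotient.factorₐ A (le_sup_left : K ≤ K ⊔ Ideal.span {r})).toLinearMap
  have hφ : ∀ c : C, φ (Ideal.Quotient.mk K c) = Ideal.Quotient.mk _ c := fun c => rfl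
  have hsurj : Function.Surjective φ := by
    intro y
    obtain ⟨c, rfl⟩ := Ideal.Quotient.mk_surjective y
    exact ⟨Ideal.Quotient.mk K c, hφ c⟩
  have hker : LinearMap.range (mulL A K r) = LinearMap.ker φ := by
    ext x
    obtain ⟨c, rfl⟩ := Ideal.Quotient.mk_surjective x
    rw [LinearMap.mem_ker, hφ, Ideal.Quotient.eq_zero_iff_mem]
    constructor
    · rintro ⟨y, hy⟩
      obtain ⟨d, rfl⟩ := Ideal.Quotient.mk_surjective y
      rw [mulL_mk] at hy
      have : c - r * d ∈ K := by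
        rw [← Ideal.Quotient.eq_zero_iff_mem, map_sub, sub_eq_zero]
        exact hy.symm
      have hc : c = (c - r * d) + r * d := by ring
      rw [hc]
      exact Ideal.add_mem _ (Ideal.mem_sup_left this)
        (Ideal.mem_sup_right (Ideal.mul_mem_right _ _ (Ideal.subset_span rfl)))
    · intro hc
      obtain ⟨k, hk, y, hy, rfl⟩ := Submodule.mem_sup.mp hc
      obtain ⟨d, rfl⟩ := Ideal.mem_span_singleton'.mp hy
      refine ⟨Ideal.Quotient.mk K d, ?_⟩
      rw [mulL_mk, map_add, Ideal.Quotient.eq_zero_iff_mem.mpr hk, zero_add, mul_comm]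
  exact (Submodule.quotEquivOfEq _ _ hker).trans (φ.quotKerEquivOfSurjective hsurj)

/-- **L1**: if `r` is regular modulo `K` and `C/(K + (r))` is `A`-flat, then `r` is regular modulo
`K + 𝔞C` for every ideal `𝔞` of `A`. -/
theorem regMod_sup_map_of_flat (K : Ideal C) (r : C) (hr : RegMod K r)
    [Module.Flat A (C ⧸ (K ⊔ Ideal.span {r}))] (𝔞 : Ideal A) :
    RegMod (K ⊔ 𝔞.map (algebraMap A C)) r := by
  haveI : Module.Flat A ((C ⧸ K) ⧸ LinearMap.range (mulL A K r)) :=
    Module.Flat.of_linearEquiv (cokerEquiv A K r)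
  have h1 := Groth.Agent.Lib.LocalCrit9.lTensor_injective_of_flat_coker (mulL A K r)
    ((mulL_injective_iff A K r).mpr hr) (A ⧸ 𝔞)
  rw [Groth.Agent.Lib.FlatFibre.lTensor_quot_injective_iff] at h1
  exact (mulL_mod_iff A K r 𝔞).mp h1

/-- **L3**: if `C/J` is `A`-flat then `J ∩ 𝔞C = 𝔞J`. -/
theorem mem_mul_of_flat (J : Ideal C) [Module.Flat A (C ⧸ J)] (𝔞 : Ideal A) (z : C) (hz : z ∈ J)
    (hz' : z ∈ 𝔞.map (algebraMap A C)) : z ∈ 𝔞.map (algebraMap A C) * J := by
  let v : ↥(J.restrictScalars A) →ₗ[A] C := (J.restrictScalars A).subtype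
  have hv : Function.Injective v := Submodule.injective_subtype _
  have hrange : LinearMap.range v = J.restrictScalars A := Submodule.range_subtype _
  haveI : Module.Flat A (C ⧸ LinearMap.range v) :=
    Module.Flat.of_linearEquiv ((Submodule.quotEquivOfEq _ _ hrange).trans
      (Submodule.Quotient.restrictScalarsEquiv A J))
  have h1 := Groth.Agent.Lib.LocalCrit9.lTensor_injective_of_flat_coker v hv (A ⧸ 𝔞)
  rw [Groth.Agent.Lib.FlatFibre.lTensor_quot_injective_iff] at h1
  have hzA : z ∈ 𝔞 • (⊤ : Submodule A C) := by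
    apply Groth.Agent.Lib.FlatFibre.map_smul_top_le_smul_top (S := C) 𝔞 z
    rw [smul_eq_mul, Ideal.mul_top]
    exact hz'
  have h2 := h1 ⟨z, hz⟩ hzA
  have h3 : Submodule.map v (𝔞 • (⊤ : Submodule A ↥(J.restrictScalars A))) =
      𝔞 • (J.restrictScalars A) := by
    rw [Submodule.map_smul'', Submodule.map_top, hrange]
  have h4 : z ∈ 𝔞 • (J.restrictScalars A) := by
    rw [← h3]
    exact ⟨⟨z, hz⟩, h2, rfl⟩
  rw [← Ideal.smul_restrictScalars] at h4
  exact h4

end general

section local_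

variable {A C : Type u} [CommRing A] [CommRing C] [IsLocalRing A] [IsLocalRing C]
  [IsNoetherianRing C] [Algebra A C] [IsLocalHom (algebraMap A C)]

/-- **L2**: local criterion. -/
theorem regMod_and_flat_of_fib (K : Ideal C) [Module.Flat A (C ⧸ K)] (r : C)
    (hr : RegMod (K ⊔ (maximalIdeal A).map (algebraMap A C)) r) :
    RegMod K r ∧ Module.Flat A (C ⧸ (K ⊔ Ideal.span {r})) := by
  have h1 : Function.Injective ((mulL A K r).lTensor (A ⧸ maximalIdeal A)) := by
    rw [Groth.Agent.Lib.FlatFibre.lTensor_quot_injective_iff]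
    exact (mulL_mod_iff A K r (maximalIdeal A)).mpr hr
  refine ⟨(mulL_injective_iff A K r).mp
    (Groth.Agent.Lib.FlatFibre.injective_of_injective_mod C (mulL A K r) h1), ?_⟩
  haveI := Groth.Agent.Lib.FlatFibre.flat_coker_of_injective_mod C (mulL A K r) h1
  exact Module.Flat.of_linearEquiv (cokerEquiv A K r).symm

end local_

end Groth.Agent.Lib.TransRegH8
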