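import Mathlib
import Groth.Agent.Lib.TransReg_helper8
import Groth.Agent.Lib.CIField_helper8

/-!
# Transversally regular sequences, flatness and complete intersection fibres (helper8)
APPEND-ONLY once landed.
-/

set_option autoImplicit false
set_option maxHeartbeats 800000
universe u

namespace Groth.Agent.Lib.TransRegH8

open IsLocalRing TensorProduct RingTheory.Sequence Groth.Agent.Lib.CIInvH8

section lists

variable (A : Type u) [CommRing A] {C : Type u} [CommRing C] [Algebra A C]

omit [Algebra A C] in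
theorem isWeaklyRegular_iff_regMod (rs : List C) :
    IsWeaklyRegular C rs ↔
      ∀ i (h : i < rs.length), RegMod (Ideal.ofList (rs.take i)) rs[i] := by
  rw [isWeaklyRegular_iff]
  exact forall_congr' fun i => forall_congr' fun h => regMod_iff_isSMulRegular _ _

omit [Algebra A C] in
theorem ofList_take_succ (rs : List C) (i : ℕ) (h : i < rs.length) :
    Ideal.ofList (rs.take (i + 1)) = Ideal.ofList (rs.take i) ⊔ Ideal.span {rs[i]} := by
  rw [List.take_succ_eq_append_getElem h, Ideal.ofList_append, Ideal.ofList_singleton]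

omit [Algebra A C] in
theorem regMod_map_mk_iff (𝔫 K : Ideal C) (r : C) :
    RegMod (K.map (Ideal.Quotient.mk 𝔫)) (Ideal.Quotient.mk 𝔫 r) ↔ RegMod (K ⊔ 𝔫) r := by
  constructor
  · intro h c hc
    have := h (Ideal.Quotient.mk 𝔫 c) (by
      rw [← map_mul, Ideal.mem_quotient_iff_mem_sup]; exact hc)
    exact Ideal.mem_quotient_iff_mem_sup.mp this
  · intro h x hx
    obtain ⟨c, rfl⟩ := Ideal.Quotient.mk_surjective x
    rw [← map_mul, Ideal.mem_quotient_iff_mem_sup] at hx
    exact Ideal.mem_quotient_iff_mem_sup.mpr (h c hx)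

omit [Algebra A C] in
theorem isWeaklyRegular_map_mk_iff (𝔫 : Ideal C) (rs : List C) :
    IsWeaklyRegular (C ⧸ 𝔫) (rs.map (Ideal.Quotient.mk 𝔫)) ↔
      ∀ i (h : i < rs.length), RegMod (Ideal.ofList (rs.take i) ⊔ 𝔫) rs[i] := by
  rw [isWeaklyRegular_iff_regMod]
  constructor
  · intro H i h
    have := H i (by rw [List.length_map]; exact h)
    rw [List.getElem_map, ← List.map_take, ← Ideal.map_ofList, regMod_map_mk_iff] at this
    exact this
  · intro H i h
    have h' : i < rs.length := by rw [List.length_map] at h; exact h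
    rw [List.getElem_map, ← List.map_take, ← Ideal.map_ofList, regMod_map_mk_iff]
    exact H i h'

theorem weaklyRegular_fib_of_trans (rs : List C) (h : RegImm.IsTransRegularSeq A C rs)
    (𝔞 : Ideal A) :
    IsWeaklyRegular (C ⧸ 𝔞.map (algebraMap A C))
      (rs.map (Ideal.Quotient.mk (𝔞.map (algebraMap A C)))) := by
  rw [isWeaklyRegular_map_mk_iff]
  intro i hi
  have h1 := (isWeaklyRegular_iff_regMod rs).mp h.1 i hi
  haveI : Module.Flat A (C ⧸ (Ideal.ofList (rs.take i) ⊔ Ideal.span {rs[i]})) := by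
    rw [← ofList_take_succ rs i hi]
    exact h.2 (i + 1) hi
  exact regMod_sup_map_of_flat A _ _ h1 𝔞

end lists

section local_

variable {A C : Type u} [CommRing A] [CommRing C] [IsLocalRing A] [IsLocalRing C]
  [IsNoetherianRing C] [Algebra A C] [IsLocalHom (algebraMap A C)] [Module.Flat A C]

theorem trans_of_weaklyRegular_fib (rs : List C)
    (h : IsWeaklyRegular (C ⧸ (maximalIdeal A).map (algebraMap A C))
      (rs.map (Ideal.Quotient.mk ((maximalIdeal A).map (algebraMap A C))))) :
    RegImm.IsTransRegularSeq A C rs := by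
  rw [isWeaklyRegular_map_mk_iff] at h
  have key : ∀ j, j ≤ rs.length → Module.Flat A (C ⧸ Ideal.ofList (rs.take j)) := by
    intro j
    induction j with
    | zero =>
      intro _
      rw [List.take_zero, Ideal.ofList_nil]
      exact Module.Flat.of_linearEquiv (AlgEquiv.quotientBot A C).toLinearEquiv
    | succ j ih =>
      intro hj
      haveI := ih (by omega)
      rw [ofList_take_succ rs j hj]
      exact (regMod_and_flat_of_fib _ _ (h j hj)).2
  refine ⟨(isWeaklyRegular_iff_regMod rs).mpr fun i hi => ?_, key⟩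
  haveI := key i hi.le
  exact (regMod_and_flat_of_fib _ _ (h i hi)).1

end local_

section main

theorem exists_lift_list {C : Type u} [CommRing C] (𝔫 J : Ideal C) (s : List (C ⧸ 𝔫))
    (h : ∀ x ∈ s, x ∈ J.map (Ideal.Quotient.mk 𝔫)) :
    ∃ rs : List C, (∀ r ∈ rs, r ∈ J) ∧ rs.map (Ideal.Quotient.mk 𝔫) = s := by
  induction s with
  | nil => exact ⟨[], by simp, rfl⟩
  | cons a l ih =>
    obtain ⟨rs, hrs, hmap⟩ := ih (fun x hx => h x (List.mem_cons_of_mem _ hx))
    obtain ⟨r, hr, hra⟩ := (Ideal.mem_map_iff_of_surjective _ Ideal.Quotient.mk_surjective).mp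
      (h a List.mem_cons_self)
    refine ⟨r :: rs, ?_, ?_⟩
    · intro x hx
      rcases List.mem_cons.mp hx with rfl | hx
      · exact hr
      · exact hrs x hx
    · rw [List.map_cons, hra, hmap]

variable (A C B : Type u) [CommRing A] [IsLocalRing A]
    [CommRing C] [IsLocalRing C] [Algebra A C] [IsLocalHom (algebraMap A C)]
    [CommRing B] [IsLocalRing B] [Algebra C B] [Algebra A B] [IsScalarTower A C B]
    [IsLocalHom (algebraMap A B)]

/-- the closed fibre of `B = C/J` is the quotient of the closed fibre of `C` by the image of `J`. -/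
theorem exists_fib_equiv (hsurj : Function.Surjective (algebraMap C B)) :
    Nonempty (EGA4.FibRing A B ≃+* (EGA4.FibRing A C ⧸
      (RingHom.ker (algebraMap C B)).map (Ideal.Quotient.mk (EGA4.mB A C)))) := by
  set J := RingHom.ker (algebraMap C B) with hJ
  set 𝔫 := EGA4.mB A C with h𝔫
  let ψ : C →+* EGA4.FibRing A B := (Ideal.Quotient.mk (EGA4.mB A B)).comp (algebraMap C B)
  have hψ : Function.Surjective ψ := Ideal.Quotient.mk_surjective.comp hsurj
  let φ : C →+* (EGA4.FibRing A C ⧸ J.map (Ideal.Quotient.mk 𝔫)) :=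
    (Ideal.Quotient.mk _).comp (Ideal.Quotient.mk 𝔫)
  have hφ : Function.Surjective φ := Ideal.Quotient.mk_surjective.comp Ideal.Quotient.mk_surjective
  have hmB : EGA4.mB A B = 𝔫.map (algebraMap C B) := by
    show (maximalIdeal A).map (algebraMap A B) = ((maximalIdeal A).map (algebraMap A C)).map _
    rw [Ideal.map_map, ← IsScalarTower.algebraMap_eq]
  have hkψ : RingHom.ker ψ = 𝔫 ⊔ J := by
    rw [← RingHom.comap_ker, Ideal.mk_ker, hmB, Ideal.comap_map_of_surjective _ hsurj]
    rfl
  have hkφ : RingHom.ker φ = 𝔫 ⊔ J := by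
    rw [← RingHom.comap_ker, Ideal.mk_ker,
      Ideal.comap_map_of_surjective _ Ideal.Quotient.mk_surjective, sup_comm]
    congr 1
    rw [← RingHom.ker_eq_comap_bot, Ideal.mk_ker]
  exact ⟨(RingHom.quotientKerEquivOfSurjective hψ).symm.trans
    ((Ideal.quotEquivOfEq (hkψ.trans hkφ.symm)).trans (RingHom.quotientKerEquivOfSurjective hφ))⟩

theorem main5068 [IsNoetherianRing A] [IsNoetherianRing C] [Module.Flat A C]
    (hreg : IsRegularLocalRing (EGA4.FibRing A C))
    (hsurj : Function.Surjective (algebraMap C B)) :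
    (∃ rs : List C, Ideal.ofList rs = RingHom.ker (algebraMap C B) ∧
        RegImm.IsTransRegularSeq A C rs) ↔
      (Module.Flat A B ∧ Pi1.IsCompleteIntersection (EGA4.FibRing A B)) := by
  classical
  set J := RingHom.ker (algebraMap C B) with hJ
  set 𝔫 := EGA4.mB A C with h𝔫
  obtain ⟨e⟩ := exists_fib_equiv A C B hsurj
  haveI : IsNoetherianRing B := isNoetherianRing_of_surjective C B _ hsurj
  haveI : IsNoetherianRing (EGA4.FibRing A B) := inferInstance
  haveI : IsNoetherianRing (EGA4.FibRing A C) := inferInstance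
  haveI : Nontrivial (EGA4.FibRing A C ⧸ J.map (Ideal.Quotient.mk 𝔫)) := e.injective.nontrivial
  haveI : IsLocalRing (EGA4.FibRing A C ⧸ J.map (Ideal.Quotient.mk 𝔫)) :=
    IsLocalRing.of_surjective' (Ideal.Quotient.mk _) Ideal.Quotient.mk_surjective
  have hJbar : J.map (Ideal.Quotient.mk 𝔫) ≠ ⊤ := fun h =>
    (Ideal.Quotient.nontrivial_iff.mp inferInstance) h
  let eA : (C ⧸ J) ≃ₗ[A] B :=
    (Ideal.quotientKerAlgEquivOfSurjective (f := IsScalarTower.toAlgHom A C B) hsurj).toLinearEquiv
  constructor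
  · rintro ⟨rs, hrs, htr⟩
    have hflat : Module.Flat A (C ⧸ J) := by
      have := htr.2 rs.length le_rfl
      rw [List.take_length, hrs] at this
      exact this
    refine ⟨Module.Flat.of_linearEquiv eA.symm, ?_⟩
    have hw := weaklyRegular_fib_of_trans A rs htr (maximalIdeal A)
    have hI : J.map (Ideal.Quotient.mk 𝔫) = Ideal.ofList (rs.map (Ideal.Quotient.mk 𝔫)) := by
      rw [← Ideal.map_ofList, hrs]
    have hregseq : IsRegular (EGA4.FibRing A C) (rs.map (Ideal.Quotient.mk 𝔫)) := by
      refine ⟨hw, ?_⟩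
      rw [smul_eq_mul, Ideal.mul_top, ← hI]
      exact fun h => hJbar h.symm
    have hci := Groth.Agent.Lib.CIQuot_helper6.ci_of_isRegular (EGA4.FibRing A C) _ hregseq _ hI
    exact ci_of_ringEquiv e hci
  · rintro ⟨hflatB, hci⟩
    haveI : Module.Flat A (C ⧸ J) := Module.Flat.of_linearEquiv eA
    have hci' : Pi1.IsCompleteIntersection (EGA4.FibRing A C ⧸ J.map (Ideal.Quotient.mk 𝔫)) :=
      ci_of_ringEquiv e.symm hci
    obtain ⟨s, hs, hsreg⟩ := (main2166 _ hJbar).mp hci'
    obtain ⟨rs, hrsJ, hrsmap⟩ := exists_lift_list 𝔫 J s (fun x hx => by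
      rw [← hs]; exact Ideal.subset_span hx)
    have hKJ : Ideal.ofList rs ≤ J := Ideal.span_le.mpr fun x hx => hrsJ x hx
    have h𝔫le : 𝔫 ≤ maximalIdeal C := IsLocalRing.map_maximalIdeal_le (algebraMap A C)
    have hJK : J ≤ Ideal.ofList rs := by
      apply Submodule.le_of_le_smul_of_le_jacobson_bot (I := maximalIdeal C)
        (IsNoetherian.noetherian J) (IsLocalRing.maximalIdeal_le_jacobson _)
      intro x hx
      have h1 : Ideal.Quotient.mk 𝔫 x ∈ (Ideal.ofList rs).map (Ideal.Quotient.mk 𝔫) := by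
        rw [Ideal.map_ofList, hrsmap, hs]
        exact Ideal.mem_map_of_mem _ hx
      rw [Ideal.mem_quotient_iff_mem_sup] at h1
      obtain ⟨y, hy, z, hz, rfl⟩ := Submodule.mem_sup.mp h1
      have hzJ : z ∈ J := by
        have := J.sub_mem hx (hKJ hy)
        rwa [add_sub_cancel_left] at this
      have hz' := mem_mul_of_flat A J (maximalIdeal A) z hzJ hz
      exact Submodule.add_mem _ (Submodule.mem_sup_left hy)
        (Submodule.mem_sup_right (Ideal.mul_mono_left h𝔫le hz'))
    refine ⟨rs, le_antisymm hKJ hJK, trans_of_weaklyRegular_fib rs ?_⟩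
    rw [hrsmap]
    exact hsreg.toIsWeaklyRegular

end main

end Groth.Agent.Lib.TransRegH8
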