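import Mathlib
import Groth.Prelude.Def_CohB1
import Groth.Agent.Lib.DimFT3_helper8

set_option autoImplicit false

universe u

open HomogeneousIdeal

namespace Groth.Agent.Lib.ProjDimH8

section General

variable {A σ : Type*} [CommRing A] [SetLike σ A] [AddSubmonoidClass σ A] (𝒜 : ℕ → σ)
  [GradedRing 𝒜]

/-- minimal primes over a homogeneous ideal are homogeneous. -/
theorem isHomogeneous_of_mem_minimalPrimes {I Q : Ideal A} (hI : I.IsHomogeneous 𝒜)
    (hQ : Q ∈ I.minimalPrimes) : Q.IsHomogeneous 𝒜 := by
  have hQp : Q.IsPrime := hQ.1.1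
  have h1 : (Q.homogeneousCore 𝒜).toIdeal.IsPrime := hQp.homogeneousCore
  have h2 : I ≤ (Q.homogeneousCore 𝒜).toIdeal :=
    hI.toIdeal_homogeneousCore_eq_self.symm.trans_le (Ideal.homogeneousCore_mono _ hQ.1.2)
  have h3 : (Q.homogeneousCore 𝒜).toIdeal ≤ Q := Ideal.toIdeal_homogeneousCore_le 𝒜 Q
  have h4 : Q ≤ (Q.homogeneousCore 𝒜).toIdeal := hQ.2 ⟨h1, h2⟩ h3
  have : Q = (Q.homogeneousCore 𝒜).toIdeal := le_antisymm h4 h3
  rw [this]
  exact (Q.homogeneousCore 𝒜).isHomogeneous

end General

variable (k : Type u) [Field k] (n : ℕ)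

/-- the irrelevant ideal of the polynomial ring is the kernel of the constant coefficient. -/
theorem irrelevant_eq_ker :
    (irrelevant (CohB1.polyGrading n k)).toIdeal =
      RingHom.ker (MvPolynomial.constantCoeff (σ := Fin (n + 1)) (R := k)) := by
  ext a
  rw [HomogeneousIdeal.mem_iff, mem_irrelevant_iff, RingHom.mem_ker, GradedRing.proj_apply]
  have : ((DirectSum.decompose (CohB1.polyGrading n k) a 0 :
      (CohB1.polyGrading n k 0)) : MvPolynomial (Fin (n + 1)) k) =
      MvPolynomial.homogeneousComponent 0 a :=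
    MvPolynomial.decomposition.decompose'_apply a 0
  rw [this, MvPolynomial.homogeneousComponent_zero]
  constructor
  · intro h
    have := congrArg MvPolynomial.constantCoeff h
    rw [MvPolynomial.constantCoeff_C, map_zero] at this
    rw [MvPolynomial.constantCoeff_eq]
    exact this
  · intro h
    rw [MvPolynomial.constantCoeff_eq] at h
    rw [h, map_zero]

instance irrelevant_isMaximal : (irrelevant (CohB1.polyGrading n k)).toIdeal.IsMaximal := by
  rw [irrelevant_eq_ker]
  exact RingHom.ker_isMaximal_of_surjective _ (fun c => ⟨MvPolynomial.C c, by simp⟩)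

/-- every proper homogeneous ideal is contained in the irrelevant ideal. -/
theorem le_irrelevant_of_ne_top (I : Ideal (MvPolynomial (Fin (n + 1)) k))
    (hI : I.IsHomogeneous (CohB1.polyGrading n k)) (hne : I ≠ ⊤) :
    I ≤ (irrelevant (CohB1.polyGrading n k)).toIdeal := by
  intro a ha
  rw [irrelevant_eq_ker, RingHom.mem_ker]
  by_contra hc
  apply hne
  have h0 := hI 0 ha
  have : ((DirectSum.decompose (CohB1.polyGrading n k) a 0 :
      (CohB1.polyGrading n k 0)) : MvPolynomial (Fin (n + 1)) k) =
      MvPolynomial.C (MvPolynomial.constantCoeff a) := by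
    rw [MvPolynomial.constantCoeff_eq, ← MvPolynomial.homogeneousComponent_zero]
    exact MvPolynomial.decomposition.decompose'_apply a 0
  rw [this] at h0
  exact Ideal.eq_top_of_isUnit_mem _ h0 ((isUnit_iff_ne_zero.mpr hc).map MvPolynomial.C)

end Groth.Agent.Lib.ProjDimH8
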