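import Mathlib
import Groth.Prelude.Def_CohB1
import Groth.Agent.Lib.DimFT3_helper8
import Groth.Agent.Lib.ProjDim1_helper8
import Groth.Agent.Lib.ProjDim2_helper8

set_option autoImplicit false

universe u

open HomogeneousIdeal AlgebraicGeometry

namespace Groth.Agent.Lib.ProjDimH8

section Top

variable {A σ : Type*} [CommRing A] [SetLike σ A] [AddSubgroupClass σ A] (𝒜 : ℕ → σ)
  [GradedRing 𝒜]

instance t0Space_projectiveSpectrum : T0Space (ProjectiveSpectrum 𝒜) := by
  refine ⟨fun x y h => ?_⟩
  have h1 : x ⤳ y := h.specializes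
  have h2 : y ⤳ x := h.specializes'
  rw [specializes_iff_mem_closure, ← ProjectiveSpectrum.le_iff_mem_closure] at h1 h2
  exact le_antisymm h1 h2

instance quasiSober_projectiveSpectrum : QuasiSober (ProjectiveSpectrum 𝒜) :=
  inferInstanceAs (QuasiSober (Proj 𝒜))

theorem closure_singleton_eq_Ici (x : ProjectiveSpectrum 𝒜) :
    closure ({x} : Set (ProjectiveSpectrum 𝒜)) = Set.Ici x := by
  ext y
  rw [← ProjectiveSpectrum.le_iff_mem_closure]
  rfl

/-- dimension of the closure of a point of `Proj` is its coheight. -/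
theorem topologicalKrullDim_closure_singleton (x : ProjectiveSpectrum 𝒜) :
    topologicalKrullDim ↥(closure ({x} : Set (ProjectiveSpectrum 𝒜))) = Order.coheight x := by
  have hset := closure_singleton_eq_Ici 𝒜 x
  have hclosed : IsClosed (Set.Ici x : Set (ProjectiveSpectrum 𝒜)) := hset ▸ isClosed_closure
  rw [hset]
  have hemb : Topology.IsClosedEmbedding (Subtype.val : Set.Ici x → ProjectiveSpectrum 𝒜) :=
    hclosed.isClosedEmbedding_subtypeVal
  haveI : QuasiSober (Set.Ici x) := hemb.quasiSober
  have h1 : topologicalKrullDim ↥(Set.Ici x) =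
      @Order.krullDim (Set.Ici x) (specializationPreorder _) := by
    unfold topologicalKrullDim
    exact @Order.krullDim_eq_of_orderIso (TopologicalSpace.IrreducibleCloseds (Set.Ici x))
      (Set.Ici x) _ (specializationPreorder _) (irreducibleSetEquivPoints (α := Set.Ici x))
  rw [h1, Order.coheight_eq_krullDim_Ici, ← Order.krullDim_orderDual (α := Set.Ici x)]
  refine @Order.krullDim_eq_of_orderIso _ _ (specializationPreorder _) _ ?_
  refine @RelIso.mk _ _ (@LE.le _ (specializationPreorder (Set.Ici x)).toLE) (· ≤ ·)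
    (OrderDual.toDual) ?_
  intro a b
  change (b : ProjectiveSpectrum 𝒜) ≤ (a : ProjectiveSpectrum 𝒜) ↔ b ⤳ a
  rw [subtype_specializes_iff, specializes_iff_mem_closure,
    ← ProjectiveSpectrum.le_iff_mem_closure]

end Top

end Groth.Agent.Lib.ProjDimH8
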