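import Mathlib
import Groth.Prelude.Def_CohB1
import Groth.Agent.Lib.DimFT3_helper8
import Groth.Agent.Lib.ProjDim1_helper8
import Groth.Agent.Lib.ProjDim2_helper8
import Groth.Agent.Lib.ProjDim3_helper8

set_option autoImplicit false

universe u

open HomogeneousIdeal AlgebraicGeometry

namespace Groth.Agent.Lib.ProjDimH8

variable (k : Type u) [Field k] (n : ℕ)

/-- point of `Proj` from a homogeneous prime different from the irrelevant ideal. -/
noncomputable def pointOf (Q : Ideal (MvPolynomial (Fin (n + 1)) k))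
    (hQh : Q.IsHomogeneous (CohB1.polyGrading n k)) (hQp : Q.IsPrime)
    (hne : Q ≠ (irrelevant (CohB1.polyGrading n k)).toIdeal) :
    ProjectiveSpectrum (CohB1.polyGrading n k) :=
  ⟨⟨Q, hQh⟩, hQp, fun hle => hne (((irrelevant_isMaximal k n).eq_of_le hQp.ne_top hle).symm)⟩

@[simp]
theorem pointOf_toIdeal (Q : Ideal (MvPolynomial (Fin (n + 1)) k))
    (hQh : Q.IsHomogeneous (CohB1.polyGrading n k)) (hQp : Q.IsPrime)
    (hne : Q ≠ (irrelevant (CohB1.polyGrading n k)).toIdeal) :
    (pointOf k n Q hQh hQp hne).asHomogeneousIdeal.toIdeal = Q := rfl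

variable {k n}

theorem asIdeal_le_irrelevant (x : ProjectiveSpectrum (CohB1.polyGrading n k)) :
    x.asHomogeneousIdeal.toIdeal ≤ (irrelevant (CohB1.polyGrading n k)).toIdeal :=
  le_irrelevant_of_ne_top k n _ x.asHomogeneousIdeal.isHomogeneous x.isPrime.ne_top

theorem asIdeal_ne_irrelevant (x : ProjectiveSpectrum (CohB1.polyGrading n k)) :
    x.asHomogeneousIdeal.toIdeal ≠ (irrelevant (CohB1.polyGrading n k)).toIdeal := by
  intro h
  apply x.not_irrelevant_le
  intro a ha
  change a ∈ x.asHomogeneousIdeal.toIdeal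
  rw [h]
  exact ha

theorem asIdeal_lt_irrelevant (x : ProjectiveSpectrum (CohB1.polyGrading n k)) :
    x.asHomogeneousIdeal.toIdeal < (irrelevant (CohB1.polyGrading n k)).toIdeal :=
  lt_of_le_of_ne (asIdeal_le_irrelevant x) (asIdeal_ne_irrelevant x)

variable (k n)

theorem ringKrullDim_quotient_irrelevant :
    ringKrullDim (MvPolynomial (Fin (n + 1)) k ⧸ (irrelevant (CohB1.polyGrading n k)).toIdeal) = 0 := by
  letI := Ideal.Quotient.field (irrelevant (CohB1.polyGrading n k)).toIdeal
  exact ringKrullDim_eq_zero_of_field _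

variable {k n}

/-- a homogeneous element of the irrelevant ideal outside a given point. -/
theorem exists_homogeneous_notMem (x : ProjectiveSpectrum (CohB1.polyGrading n k)) :
    ∃ (i : ℕ) (f : MvPolynomial (Fin (n + 1)) k), f ∈ CohB1.polyGrading n k i ∧
      f ∈ (irrelevant (CohB1.polyGrading n k)).toIdeal ∧ f ∉ x.asHomogeneousIdeal.toIdeal := by
  obtain ⟨a, ha, hax⟩ := Set.exists_of_ssubset (asIdeal_lt_irrelevant x)
  by_contra hcon
  push Not at hcon
  apply hax
  have hx := x.asHomogeneousIdeal.isHomogeneous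
  classical
  rw [← DirectSum.sum_support_decompose (CohB1.polyGrading n k) a]
  refine Ideal.sum_mem _ (fun i _ => ?_)
  exact hcon i _ (SetLike.coe_mem _) ((irrelevant (CohB1.polyGrading n k)).isHomogeneous i ha)

/-- Going one step up: a point of dimension `≥ 1` has a homogeneous prime above it, cut out by any
homogeneous element, of dimension one less. -/
theorem exists_prime_over (x : ProjectiveSpectrum (CohB1.polyGrading n k))
    (f : MvPolynomial (Fin (n + 1)) k) (i : ℕ) (hfi : f ∈ CohB1.polyGrading n k i)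
    (hfm : f ∈ (irrelevant (CohB1.polyGrading n k)).toIdeal)
    (hfx : f ∉ x.asHomogeneousIdeal.toIdeal) :
    ∃ Q : Ideal (MvPolynomial (Fin (n + 1)) k), Q.IsPrime ∧ Q.IsHomogeneous (CohB1.polyGrading n k) ∧
      Q ∈ (x.asHomogeneousIdeal.toIdeal ⊔ Ideal.span {f}).minimalPrimes ∧
      Q ≤ (irrelevant (CohB1.polyGrading n k)).toIdeal ∧
      ringKrullDim (MvPolynomial (Fin (n + 1)) k ⧸ Q) + 1 =
        ringKrullDim (MvPolynomial (Fin (n + 1)) k ⧸ x.asHomogeneousIdeal.toIdeal) := by
  have hle : x.asHomogeneousIdeal.toIdeal ⊔ Ideal.span {f} ≤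
      (irrelevant (CohB1.polyGrading n k)).toIdeal :=
    sup_le (asIdeal_le_irrelevant x) ((Ideal.span_singleton_le_iff_mem _).mpr hfm)
  obtain ⟨Q, hQ, hQm⟩ := Ideal.exists_minimalPrimes_le hle
  have hhom : (x.asHomogeneousIdeal.toIdeal ⊔ Ideal.span {f}).IsHomogeneous
      (CohB1.polyGrading n k) := by
    refine Ideal.IsHomogeneous.sup x.asHomogeneousIdeal.isHomogeneous ?_
    refine Ideal.homogeneous_span _ _ ?_
    rintro _ rfl
    exact ⟨i, hfi⟩
  exact ⟨Q, hQ.1.1, isHomogeneous_of_mem_minimalPrimes _ hhom hQ, hQ, hQm,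
    dim_quotient_of_mem_minimalPrimes k _ _ f hfx Q hQ⟩

end Groth.Agent.Lib.ProjDimH8
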