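import Mathlib
import Groth.Prelude.Def_CohB1
import Groth.Agent.Lib.DimFT3_helper8
import Groth.Agent.Lib.ProjDim4_helper8

set_option autoImplicit false

universe u

open HomogeneousIdeal AlgebraicGeometry

namespace Groth.Agent.Lib.ProjDimH8

variable {k : Type u} [Field k] {n : ℕ}

theorem lt_of_prime_over (x : ProjectiveSpectrum (CohB1.polyGrading n k))
    (f : MvPolynomial (Fin (n + 1)) k) (hfx : f ∉ x.asHomogeneousIdeal.toIdeal)
    (Q : Ideal (MvPolynomial (Fin (n + 1)) k))
    (hQ : Q ∈ (x.asHomogeneousIdeal.toIdeal ⊔ Ideal.span {f}).minimalPrimes)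
    (hQh : Q.IsHomogeneous (CohB1.polyGrading n k))
    (hne : Q ≠ (irrelevant (CohB1.polyGrading n k)).toIdeal) :
    x < pointOf k n Q hQh hQ.1.1 hne := by
  refine lt_of_le_of_ne ?_ ?_
  · intro a ha
    exact (le_sup_left.trans hQ.1.2) ha
  · intro h
    apply hfx
    have : f ∈ (pointOf k n Q hQh hQ.1.1 hne).asHomogeneousIdeal.toIdeal :=
      hQ.1.2 (Ideal.mem_sup_right (Ideal.subset_span rfl))
    rw [← h] at this
    exact this

theorem asIdeal_lt_of_lt {x y : ProjectiveSpectrum (CohB1.polyGrading n k)} (hxy : x < y) :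
    x.asHomogeneousIdeal.toIdeal < y.asHomogeneousIdeal.toIdeal := by
  refine lt_of_le_of_ne ?_ ?_
  · intro a ha
    exact hxy.le ha
  · intro h
    apply hxy.ne
    apply ProjectiveSpectrum.ext
    exact HomogeneousIdeal.toIdeal_injective h

theorem le_coheight : ∀ (d : ℕ) (x : ProjectiveSpectrum (CohB1.polyGrading n k)),
    ringKrullDim (MvPolynomial (Fin (n + 1)) k ⧸ x.asHomogeneousIdeal.toIdeal) = ((d + 1 : ℕ) : WithBot ℕ∞) →
    (d : ℕ∞) ≤ Order.coheight x := by
  intro d
  induction d with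
  | zero => intro x _; simp
  | succ d ih =>
    intro x hx
    obtain ⟨i, f, hfi, hfm, hfx⟩ := exists_homogeneous_notMem x
    obtain ⟨Q, hQp, hQh, hQ, hQm, hdim⟩ := exists_prime_over x f i hfi hfm hfx
    obtain ⟨r, hr, -⟩ := exists_dim_quotient k _ Q
    rw [hx, hr] at hdim
    have hr' : r + 1 = d + 1 + 1 := by exact_mod_cast hdim
    have hne : Q ≠ (irrelevant (CohB1.polyGrading n k)).toIdeal := by
      intro h
      rw [h, ringKrullDim_quotient_irrelevant] at hr
      have : (0 : ℕ) = r := by exact_mod_cast hr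
      omega
    have hlt := lt_of_prime_over x f hfx Q hQ hQh hne
    have h1 := ih (pointOf k n Q hQh hQ.1.1 hne) (by
      rw [pointOf_toIdeal, hr]
      have : r = d + 1 := by omega
      rw [this])
    have h2 := Order.coheight_add_one_le hlt
    calc ((d + 1 : ℕ) : ℕ∞) = (d : ℕ∞) + 1 := by push_cast; rfl
      _ ≤ Order.coheight (pointOf k n Q hQh hQ.1.1 hne) + 1 := by gcongr
      _ ≤ Order.coheight x := h2

/-- the strictly monotone map `Proj ∪ {irrelevant} → Spec`. -/
noncomputable def toSpecWithTop :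
    WithTop (ProjectiveSpectrum (CohB1.polyGrading n k)) → PrimeSpectrum (MvPolynomial (Fin (n + 1)) k)
  | ⊤ => ⟨(irrelevant (CohB1.polyGrading n k)).toIdeal, (irrelevant_isMaximal k n).isPrime⟩
  | (x : ProjectiveSpectrum (CohB1.polyGrading n k)) => ⟨x.asHomogeneousIdeal.toIdeal, x.isPrime⟩

theorem toSpecWithTop_strictMono : StrictMono (toSpecWithTop (k := k) (n := n)) := by
  intro a b hab
  cases a with
  | top => exact absurd hab (not_top_lt)
  | coe x =>
    cases b with
    | top =>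
      change (⟨_, _⟩ : PrimeSpectrum _) < ⟨_, _⟩
      rw [← PrimeSpectrum.asIdeal_lt_asIdeal]
      exact asIdeal_lt_irrelevant x
    | coe y =>
      have hxy : x < y := WithTop.coe_lt_coe.mp hab
      change (⟨_, _⟩ : PrimeSpectrum _) < ⟨_, _⟩
      rw [← PrimeSpectrum.asIdeal_lt_asIdeal]
      exact asIdeal_lt_of_lt hxy

theorem coheight_add_one_le (x : ProjectiveSpectrum (CohB1.polyGrading n k)) :
    (((Order.coheight x + 1 : ℕ∞)) : WithBot ℕ∞) ≤
      ringKrullDim (MvPolynomial (Fin (n + 1)) k ⧸ x.asHomogeneousIdeal.toIdeal) := by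
  rw [Groth.Agent.DimFT3H8.ringKrullDim_quotient_eq_coheight, WithBot.coe_le_coe,
    ← Order.coheight_coe_withTop]
  exact Order.coheight_le_coheight_apply_of_strictMono _ toSpecWithTop_strictMono
    (x : WithTop (ProjectiveSpectrum (CohB1.polyGrading n k)))

/-- **dimension of a point of projective space**: `dim closure{x} + 1 = dim A/P_x`. -/
theorem coheight_add_one (x : ProjectiveSpectrum (CohB1.polyGrading n k)) :
    ((Order.coheight x : ℕ∞) : WithBot ℕ∞) + 1 =
      ringKrullDim (MvPolynomial (Fin (n + 1)) k ⧸ x.asHomogeneousIdeal.toIdeal) := by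
  obtain ⟨r, hr, -⟩ := exists_dim_quotient k _ x.asHomogeneousIdeal.toIdeal
  have h1 := coheight_add_one_le x
  rw [hr] at h1 ⊢
  have h1' : Order.coheight x + 1 ≤ (r : ℕ∞) := by exact_mod_cast h1
  obtain ⟨c, hc⟩ := ENat.ne_top_iff_exists.mp
    (ne_top_of_le_ne_top (ENat.natCast_ne_top r) (le_self_add.trans h1'))
  rw [← hc] at h1' ⊢
  have h2 : c + 1 ≤ r := by exact_mod_cast h1'
  obtain ⟨d, rfl⟩ : ∃ d, r = d + 1 := ⟨r - 1, by omega⟩
  have h3 := le_coheight d x (by rw [hr])
  rw [← hc] at h3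
  have h4 : d ≤ c := by exact_mod_cast h3
  have : c = d := by omega
  rw [this]
  rfl

end Groth.Agent.Lib.ProjDimH8
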