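import Mathlib
import Groth.Prelude.Def_CohB1
import Groth.Agent.Lib.DimFT3_helper8
import Groth.Agent.Lib.ProjDim5_helper8

set_option autoImplicit false

universe u

open HomogeneousIdeal AlgebraicGeometry

namespace Groth.Agent.Lib.ProjDimH8

variable {k : Type u} [Field k] {n : ℕ}

theorem le_iff_asIdeal_le {x y : ProjectiveSpectrum (CohB1.polyGrading n k)} :
    x ≤ y ↔ x.asHomogeneousIdeal.toIdeal ≤ y.asHomogeneousIdeal.toIdeal := Iff.rfl

/-- BETWEEN: below a point containing `f` there is a minimal one. -/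
theorem exists_minimal_between (x c : ProjectiveSpectrum (CohB1.polyGrading n k)) (hxc : x ≤ c)
    (f : MvPolynomial (Fin (n + 1)) k) (i : ℕ) (hfi : f ∈ CohB1.polyGrading n k i)
    (hfc : f ∈ c.asHomogeneousIdeal.toIdeal) :
    ∃ w : ProjectiveSpectrum (CohB1.polyGrading n k), x ≤ w ∧ w ≤ c ∧
      f ∈ w.asHomogeneousIdeal.toIdeal ∧
      w.asHomogeneousIdeal.toIdeal ∈
        (x.asHomogeneousIdeal.toIdeal ⊔ Ideal.span {f}).minimalPrimes := by
  have hle : x.asHomogeneousIdeal.toIdeal ⊔ Ideal.span {f} ≤ c.asHomogeneousIdeal.toIdeal :=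
    sup_le hxc ((Ideal.span_singleton_le_iff_mem _).mpr hfc)
  obtain ⟨Q, hQ, hQc⟩ := Ideal.exists_minimalPrimes_le hle
  have hhom : (x.asHomogeneousIdeal.toIdeal ⊔ Ideal.span {f}).IsHomogeneous
      (CohB1.polyGrading n k) := by
    refine Ideal.IsHomogeneous.sup x.asHomogeneousIdeal.isHomogeneous ?_
    refine Ideal.homogeneous_span _ _ ?_
    rintro _ rfl
    exact ⟨i, hfi⟩
  have hQh := isHomogeneous_of_mem_minimalPrimes _ hhom hQ
  have hne : Q ≠ (irrelevant (CohB1.polyGrading n k)).toIdeal := by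
    intro h
    exact absurd (lt_of_le_of_lt (h ▸ hQc) (asIdeal_lt_irrelevant c)) (lt_irrefl _)
  refine ⟨pointOf k n Q hQh hQ.1.1 hne, ?_, hQc, ?_, hQ⟩
  · exact le_sup_left.trans hQ.1.2
  · exact hQ.1.2 (Ideal.mem_sup_right (Ideal.subset_span rfl))

/-- MIN: a point maximal among those above `x` containing `f` is a minimal prime. -/
theorem mem_minimalPrimes_of_maximal (x w : ProjectiveSpectrum (CohB1.polyGrading n k))
    (hxw : x ≤ w) (f : MvPolynomial (Fin (n + 1)) k) (i : ℕ) (hfi : f ∈ CohB1.polyGrading n k i)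
    (hfw : f ∈ w.asHomogeneousIdeal.toIdeal)
    (hmax : ∀ w₁ : ProjectiveSpectrum (CohB1.polyGrading n k), x ≤ w₁ →
      f ∈ w₁.asHomogeneousIdeal.toIdeal → w₁ ≤ w → w₁ = w) :
    w.asHomogeneousIdeal.toIdeal ∈
      (x.asHomogeneousIdeal.toIdeal ⊔ Ideal.span {f}).minimalPrimes := by
  obtain ⟨w₁, h1, h2, h3, h4⟩ := exists_minimal_between x w hxw f i hfi hfw
  rw [← hmax w₁ h1 h3 h2]
  exact h4

/-- CUTb: such a point has dimension one less. -/
theorem coheight_add_one_of_mem_minimalPrimes (x w : ProjectiveSpectrum (CohB1.polyGrading n k))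
    (f : MvPolynomial (Fin (n + 1)) k) (hfx : f ∉ x.asHomogeneousIdeal.toIdeal)
    (hw : w.asHomogeneousIdeal.toIdeal ∈
      (x.asHomogeneousIdeal.toIdeal ⊔ Ideal.span {f}).minimalPrimes) :
    Order.coheight w + 1 = Order.coheight x := by
  have h1 := dim_quotient_of_mem_minimalPrimes k _ _ f hfx _ hw
  rw [← coheight_add_one, ← coheight_add_one] at h1
  have h2 : ((Order.coheight w + 1 + 1 : ℕ∞) : WithBot ℕ∞) = ((Order.coheight x + 1 : ℕ∞) : WithBot ℕ∞) := by
    push_cast
    exact h1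
  have h3 : Order.coheight w + 1 + 1 = Order.coheight x + 1 := by exact_mod_cast h2
  exact (ENat.add_left_injective_of_ne_top ENat.one_ne_top) h3

/-- CUTa: a point of positive dimension meets every hypersurface. -/
theorem exists_point_over (x : ProjectiveSpectrum (CohB1.polyGrading n k))
    (f : MvPolynomial (Fin (n + 1)) k) (i : ℕ) (hfi : f ∈ CohB1.polyGrading n k i)
    (hfm : f ∈ (irrelevant (CohB1.polyGrading n k)).toIdeal)
    (hfx : f ∉ x.asHomogeneousIdeal.toIdeal) (hx : 1 ≤ Order.coheight x) :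
    ∃ w : ProjectiveSpectrum (CohB1.polyGrading n k), x ≤ w ∧
      f ∈ w.asHomogeneousIdeal.toIdeal ∧ Order.coheight w + 1 = Order.coheight x := by
  obtain ⟨Q, hQp, hQh, hQ, hQm, hdim⟩ := exists_prime_over x f i hfi hfm hfx
  have hne : Q ≠ (irrelevant (CohB1.polyGrading n k)).toIdeal := by
    intro h
    rw [h, ringKrullDim_quotient_irrelevant, ← coheight_add_one] at hdim
    have h2 : (((0 : ℕ∞) + 1 : ℕ∞) : WithBot ℕ∞) = ((Order.coheight x + 1 : ℕ∞) : WithBot ℕ∞) := by
      push_cast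
      exact hdim
    have h3 : (0 : ℕ∞) + 1 = Order.coheight x + 1 := by exact_mod_cast h2
    have h4 := (ENat.add_left_injective_of_ne_top ENat.one_ne_top) h3
    rw [← h4] at hx
    exact absurd hx (by simp)
  refine ⟨pointOf k n Q hQh hQ.1.1 hne, le_sup_left.trans hQ.1.2,
    hQ.1.2 (Ideal.mem_sup_right (Ideal.subset_span rfl)), ?_⟩
  exact coheight_add_one_of_mem_minimalPrimes x _ f hfx hQ

end Groth.Agent.Lib.ProjDimH8
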