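import Mathlib
import Groth.Prelude.Def_CohB1
import Groth.Agent.Lib.DimFT3_helper8
import Groth.Agent.Lib.ProjDim6_helper8

set_option autoImplicit false

universe u

open HomogeneousIdeal AlgebraicGeometry

namespace Groth.Agent.Lib.ProjDimH8

variable {k : Type u} [Field k] {n : ℕ}

/-- MULTI: a point maximal among those above `x` containing `r` homogeneous elements has
codimension at most `r` in `closure {x}`. -/
theorem coheight_le_of_maximal : ∀ (r : ℕ) (f : Fin r → MvPolynomial (Fin (n + 1)) k)
    (d : Fin r → ℕ), (∀ i, f i ∈ CohB1.polyGrading n k (d i)) →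
    ∀ x c : ProjectiveSpectrum (CohB1.polyGrading n k), x ≤ c →
    (∀ i, f i ∈ c.asHomogeneousIdeal.toIdeal) →
    (∀ c₁ : ProjectiveSpectrum (CohB1.polyGrading n k), x ≤ c₁ →
      (∀ i, f i ∈ c₁.asHomogeneousIdeal.toIdeal) → c₁ ≤ c → c₁ = c) →
    Order.coheight x ≤ Order.coheight c + r := by
  intro r
  induction r with
  | zero =>
    intro f d _ x c hxc _ hmax
    have := hmax x le_rfl (fun i => i.elim0) hxc
    rw [this]
    simp
  | succ r ih =>
    intro f d hfd x c hxc hfc hmax
    by_cases hg : f (Fin.last r) ∈ x.asHomogeneousIdeal.toIdeal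
    · have := ih (fun i => f i.castSucc) (fun i => d i.castSucc) (fun i => hfd _) x c hxc
        (fun i => hfc _) (fun c₁ h1 h2 h3 => hmax c₁ h1 (fun i => by
          refine Fin.lastCases ?_ (fun j => ?_) i
          · exact h1 hg
          · exact h2 j) h3)
      refine this.trans ?_
      gcongr
      exact_mod_cast Nat.le_succ r
    · obtain ⟨w, hxw, hwc, hgw, hw⟩ := exists_minimal_between x c hxc (f (Fin.last r))
        (d (Fin.last r)) (hfd _) (hfc _)
      have h1 := coheight_add_one_of_mem_minimalPrimes x w _ hg hw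
      have := ih (fun i => f i.castSucc) (fun i => d i.castSucc) (fun i => hfd _) w c hwc
        (fun i => hfc _) (fun c₁ h1 h2 h3 => hmax c₁ (hxw.trans h1) (fun i => by
          refine Fin.lastCases ?_ (fun j => ?_) i
          · exact h1 hgw
          · exact h2 j) h3)
      rw [← h1]
      calc Order.coheight w + 1 ≤ Order.coheight c + r + 1 := by gcongr
        _ = Order.coheight c + ((r + 1 : ℕ) : ℕ∞) := by push_cast; rw [add_assoc]

/-- MULTI_ne: `r` hypersurfaces meet a closed irreducible set of dimension `≥ r`. -/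
theorem exists_point_over_multi : ∀ (r : ℕ) (f : Fin r → MvPolynomial (Fin (n + 1)) k)
    (d : Fin r → ℕ), (∀ i, f i ∈ CohB1.polyGrading n k (d i)) →
    (∀ i, f i ∈ (irrelevant (CohB1.polyGrading n k)).toIdeal) →
    ∀ x : ProjectiveSpectrum (CohB1.polyGrading n k), (r : ℕ∞) ≤ Order.coheight x →
    ∃ c : ProjectiveSpectrum (CohB1.polyGrading n k), x ≤ c ∧
      ∀ i, f i ∈ c.asHomogeneousIdeal.toIdeal := by
  intro r
  induction r with
  | zero =>
    intro f d _ _ x _
    exact ⟨x, le_rfl, fun i => i.elim0⟩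
  | succ r ih =>
    intro f d hfd hfm x hx
    have hr1 : (r : ℕ∞) + 1 ≤ Order.coheight x := by
      have : ((r + 1 : ℕ) : ℕ∞) = (r : ℕ∞) + 1 := by push_cast; rfl
      rwa [this] at hx
    by_cases hg : f (Fin.last r) ∈ x.asHomogeneousIdeal.toIdeal
    · obtain ⟨c, hxc, hc⟩ := ih (fun i => f i.castSucc) (fun i => d i.castSucc) (fun i => hfd _)
        (fun i => hfm _) x (le_self_add.trans hr1)
      refine ⟨c, hxc, fun i => ?_⟩
      refine Fin.lastCases ?_ (fun j => ?_) i
      · exact hxc hg
      · exact hc j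
    · obtain ⟨w, hxw, hgw, hw⟩ := exists_point_over x (f (Fin.last r)) (d (Fin.last r)) (hfd _)
        (hfm _) hg (le_add_self.trans hr1)
      have hrw : (r : ℕ∞) ≤ Order.coheight w := by
        rw [← hw] at hr1
        exact (ENat.add_le_add_iff_right ENat.one_ne_top).mp hr1
      obtain ⟨c, hwc, hc⟩ := ih (fun i => f i.castSucc) (fun i => d i.castSucc) (fun i => hfd _)
        (fun i => hfm _) w hrw
      refine ⟨c, hxw.trans hwc, fun i => ?_⟩
      refine Fin.lastCases ?_ (fun j => ?_) i
      · exact hwc hgw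
      · exact hc j

end Groth.Agent.Lib.ProjDimH8
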