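import Mathlib
import Groth.Prelude.Def_CohB1
import Groth.Agent.Lib.SubComp_helper8
import Groth.Agent.Lib.ProjDim7_helper8

set_option autoImplicit false

universe u

open HomogeneousIdeal AlgebraicGeometry

namespace Groth.Agent.Lib.ProjDimH8

section Top

variable {A σ : Type*} [CommRing A] [SetLike σ A] [AddSubgroupClass σ A] (𝒜 : ℕ → σ)
  [GradedRing 𝒜]

/-- T1: generic point of an irreducible closed subset. -/
theorem exists_generic (X : Set (ProjectiveSpectrum 𝒜)) (hXc : IsClosed X)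
    (hXi : IsIrreducible X) :
    ∃ x : ProjectiveSpectrum 𝒜, X = Set.Ici x ∧ topologicalKrullDim ↥X = Order.coheight x := by
  obtain ⟨x, hx⟩ := QuasiSober.sober hXi hXc
  have h1 : X = closure {x} := hx.def.symm
  refine ⟨x, h1.trans (closure_singleton_eq_Ici 𝒜 x), ?_⟩
  rw [h1]
  exact topologicalKrullDim_closure_singleton 𝒜 x

/-- T3: components of a closed subset correspond to its maximal points. -/
theorem exists_maximal_of_component (Y : Set (ProjectiveSpectrum 𝒜)) (hY : IsClosed Y)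
    (C : Set ↥Y) (hC : C ∈ irreducibleComponents ↥Y) :
    ∃ w : ProjectiveSpectrum 𝒜, w ∈ Y ∧ topologicalKrullDim ↥C = Order.coheight w ∧
      ∀ w₁ ∈ Y, w₁ ≤ w → w₁ = w := by
  obtain ⟨w, hwY, hCw, hmax⟩ := SubCompH8.exists_generic_of_component_closed Y hY C hC
  refine ⟨w, hwY, ?_, ?_⟩
  · rw [← SubCompH8.dim_image_val Y C, hCw]
    exact topologicalKrullDim_closure_singleton 𝒜 w
  · intro w₁ hw₁ hle
    apply hmax w₁ hw₁
    rw [specializes_iff_mem_closure, ← ProjectiveSpectrum.le_iff_mem_closure]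
    exact hle

end Top

variable {k : Type u} [Field k] {n : ℕ}

theorem mem_polyGrading_of_isHomogeneous {f : MvPolynomial (Fin (n + 1)) k} {d : ℕ}
    (hf : f.IsHomogeneous d) : f ∈ CohB1.polyGrading n k d :=
  (MvPolynomial.mem_homogeneousSubmodule _ _).mpr hf

theorem mem_irrelevant_of_isHomogeneous {f : MvPolynomial (Fin (n + 1)) k} {d : ℕ}
    (hf : f.IsHomogeneous d) (hd : 0 < d) :
    f ∈ (irrelevant (CohB1.polyGrading n k)).toIdeal :=
  HomogeneousIdeal.mem_irrelevant_of_mem _ hd (mem_polyGrading_of_isHomogeneous hf)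

/-- S10823 core. -/
theorem main10823 (r : ℕ)
    (X : Set (ProjectiveSpectrum (CohB1.polyGrading n k))) (hXc : IsClosed X) (hXi : IsIrreducible X)
    (f : Fin r → MvPolynomial (Fin (n + 1)) k) (d : Fin r → ℕ)
    (hf : ∀ i, (f i).IsHomogeneous (d i)) (hd : ∀ i, 0 < d i) :
    (∀ C ∈ irreducibleComponents ↥(X ∩ ProjectiveSpectrum.zeroLocus (CohB1.polyGrading n k) (Set.range f)),
        topologicalKrullDim ↥X ≤ topologicalKrullDim ↥C + (r : WithBot ℕ∞)) ∧
      ((r : WithBot ℕ∞) ≤ topologicalKrullDim ↥X →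
        (X ∩ ProjectiveSpectrum.zeroLocus (CohB1.polyGrading n k) (Set.range f)).Nonempty) := by
  obtain ⟨x, hXx, hdimX⟩ := exists_generic _ X hXc hXi
  have hYc : IsClosed (X ∩ ProjectiveSpectrum.zeroLocus (CohB1.polyGrading n k) (Set.range f)) :=
    hXc.inter (ProjectiveSpectrum.isClosed_zeroLocus _ _)
  have hmemY : ∀ y : ProjectiveSpectrum (CohB1.polyGrading n k),
      y ∈ X ∩ ProjectiveSpectrum.zeroLocus (CohB1.polyGrading n k) (Set.range f) ↔
        x ≤ y ∧ ∀ i, f i ∈ y.asHomogeneousIdeal.toIdeal := by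
    intro y
    rw [Set.mem_inter_iff, hXx, Set.mem_Ici, ProjectiveSpectrum.mem_zeroLocus]
    refine and_congr Iff.rfl ?_
    constructor
    · intro h i
      exact h ⟨i, rfl⟩
    · rintro h _ ⟨i, rfl⟩
      exact h i
  constructor
  · intro C hC
    obtain ⟨w, hwY, hdimC, hmax⟩ := exists_maximal_of_component _ _ hYc C hC
    rw [hdimX, hdimC]
    have hw := (hmemY w).mp hwY
    have := coheight_le_of_maximal r f d (fun i => mem_polyGrading_of_isHomogeneous (hf i)) x w
      hw.1 hw.2 (fun c₁ h1 h2 h3 => hmax c₁ ((hmemY c₁).mpr ⟨h1, h2⟩) h3)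
    exact_mod_cast this
  · intro hr
    rw [hdimX] at hr
    have hr' : (r : ℕ∞) ≤ Order.coheight x := by exact_mod_cast hr
    obtain ⟨c, hxc, hc⟩ := exists_point_over_multi r f d
      (fun i => mem_polyGrading_of_isHomogeneous (hf i))
      (fun i => mem_irrelevant_of_isHomogeneous (hf i) (hd i)) x hr'
    exact ⟨c, (hmemY c).mpr ⟨hxc, hc⟩⟩

end Groth.Agent.Lib.ProjDimH8
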