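import Mathlib
import Groth.Prelude.Def_CohB1
import Groth.Agent.Lib.ProjDim8_helper8

set_option autoImplicit false

universe u

open HomogeneousIdeal AlgebraicGeometry

namespace Groth.Agent.Lib.ProjDimH8

variable {k : Type u} [Field k] {n : ℕ}

/-- S10822 core. -/
theorem main10822 (d : ℕ)
    (X : Set (ProjectiveSpectrum (CohB1.polyGrading n k))) (hXc : IsClosed X) (hXi : IsIrreducible X)
    (hXd : 0 < topologicalKrullDim ↥X)
    (f : MvPolynomial (Fin (n + 1)) k) (hf : f.IsHomogeneous d)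
    (hV : (ProjectiveSpectrum.zeroLocus (CohB1.polyGrading n k)
      ({f} : Set (MvPolynomial (Fin (n + 1)) k))).Nonempty)
    (hX : ¬ X ⊆ ProjectiveSpectrum.zeroLocus (CohB1.polyGrading n k)
      ({f} : Set (MvPolynomial (Fin (n + 1)) k))) :
    (X ∩ ProjectiveSpectrum.zeroLocus (CohB1.polyGrading n k)
        ({f} : Set (MvPolynomial (Fin (n + 1)) k))).Nonempty ∧
      ∀ C ∈ irreducibleComponents ↥(X ∩ ProjectiveSpectrum.zeroLocus (CohB1.polyGrading n k)
          ({f} : Set (MvPolynomial (Fin (n + 1)) k))),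
        topologicalKrullDim ↥C + 1 = topologicalKrullDim ↥X := by
  obtain ⟨x, hXx, hdimX⟩ := exists_generic _ X hXc hXi
  have hYc : IsClosed (X ∩ ProjectiveSpectrum.zeroLocus (CohB1.polyGrading n k) {f}) :=
    hXc.inter (ProjectiveSpectrum.isClosed_zeroLocus _ _)
  have hmemV : ∀ y : ProjectiveSpectrum (CohB1.polyGrading n k),
      y ∈ ProjectiveSpectrum.zeroLocus (CohB1.polyGrading n k) {f} ↔
        f ∈ y.asHomogeneousIdeal.toIdeal := by
    intro y
    rw [ProjectiveSpectrum.mem_zeroLocus, Set.singleton_subset_iff]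
    rfl
  have hmemY : ∀ y : ProjectiveSpectrum (CohB1.polyGrading n k),
      y ∈ X ∩ ProjectiveSpectrum.zeroLocus (CohB1.polyGrading n k) {f} ↔
        x ≤ y ∧ f ∈ y.asHomogeneousIdeal.toIdeal := by
    intro y
    rw [Set.mem_inter_iff, hXx, Set.mem_Ici, hmemV]
  have hfi := mem_polyGrading_of_isHomogeneous hf
  have hfm : f ∈ (irrelevant (CohB1.polyGrading n k)).toIdeal := by
    obtain ⟨y, hy⟩ := hV
    exact asIdeal_le_irrelevant y ((hmemV y).mp hy)
  have hfx : f ∉ x.asHomogeneousIdeal.toIdeal := by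
    intro h
    apply hX
    intro y hy
    rw [hXx, Set.mem_Ici] at hy
    exact (hmemV y).mpr (hy h)
  have hx1 : 1 ≤ Order.coheight x := by
    rw [hdimX] at hXd
    have : (0 : ℕ∞) < Order.coheight x := by exact_mod_cast hXd
    exact Order.one_le_iff_pos.mpr this
  constructor
  · obtain ⟨w, hxw, hfw, -⟩ := exists_point_over x f d hfi hfm hfx hx1
    exact ⟨w, (hmemY w).mpr ⟨hxw, hfw⟩⟩
  · intro C hC
    obtain ⟨w, hwY, hdimC, hmax⟩ := exists_maximal_of_component _ _ hYc C hC
    rw [hdimX, hdimC]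
    have hw := (hmemY w).mp hwY
    have h1 := mem_minimalPrimes_of_maximal x w hw.1 f d hfi hw.2
      (fun w₁ h1 h2 h3 => hmax w₁ ((hmemY w₁).mpr ⟨h1, h2⟩) h3)
    have h2 := coheight_add_one_of_mem_minimalPrimes x w f hfx h1
    rw [← h2]
    push_cast
    rfl

end Groth.Agent.Lib.ProjDimH8
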