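import Mathlib
import Groth.Prelude.Def_CohB1
import Groth.Agent.Lib.ProjDim9_helper8

set_option autoImplicit false

universe u

open HomogeneousIdeal AlgebraicGeometry

namespace Groth.Agent.Lib.ProjDimH8

variable (k : Type u) [Field k] (n : ℕ)

theorem height_irrelevant :
    (irrelevant (CohB1.polyGrading n k)).toIdeal.height = ((n + 1 : ℕ) : ℕ∞) :=
  Groth.Agent.DimFTH8.height_of_isMaximal_mvPolynomial k (n + 1) _

theorem bot_ne_irrelevant :
    (⊥ : Ideal (MvPolynomial (Fin (n + 1)) k)) ≠ (irrelevant (CohB1.polyGrading n k)).toIdeal := by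
  intro h
  have h1 := height_irrelevant k n
  rw [← h, Ideal.height_bot] at h1
  have : (0 : ℕ) = n + 1 := by exact_mod_cast h1
  omega

/-- the generic point of projective space. -/
noncomputable def genericPt : ProjectiveSpectrum (CohB1.polyGrading n k) :=
  pointOf k n ⊥ (Ideal.IsHomogeneous.bot _) Ideal.isPrime_bot (bot_ne_irrelevant k n)

theorem genericPt_le (y : ProjectiveSpectrum (CohB1.polyGrading n k)) : genericPt k n ≤ y := by
  intro a ha
  have : a = 0 := ha
  rw [this]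
  exact zero_mem _

theorem coheight_genericPt : Order.coheight (genericPt k n) = (n : ℕ∞) := by
  have h1 := coheight_add_one (genericPt k n)
  have h2 : ringKrullDim (MvPolynomial (Fin (n + 1)) k ⧸
      (genericPt k n).asHomogeneousIdeal.toIdeal) = ((n + 1 : ℕ) : WithBot ℕ∞) := by
    change ringKrullDim (MvPolynomial (Fin (n + 1)) k ⧸ (⊥ : Ideal _)) = _
    rw [ringKrullDim_eq_of_ringEquiv (RingEquiv.quotientBot _),
      MvPolynomial.ringKrullDim_of_isNoetherianRing, ringKrullDim_eq_zero_of_field]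
    simp
  rw [h2] at h1
  have h3 : ((Order.coheight (genericPt k n) + 1 : ℕ∞) : WithBot ℕ∞) = ((n + 1 : ℕ) : WithBot ℕ∞) := by
    push_cast
    exact h1
  have h4 : Order.coheight (genericPt k n) + 1 = (n : ℕ∞) + 1 := by exact_mod_cast h3
  exact (ENat.add_left_injective_of_ne_top ENat.one_ne_top) h4

variable {k n}

/-- two points whose ideals have height one have a common specialization when `n ≥ 2`. -/
theorem exists_common_specialization (hn : 2 ≤ n)
    (c₁ c₂ : ProjectiveSpectrum (CohB1.polyGrading n k))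
    (h1 : c₁.asHomogeneousIdeal.toIdeal.height = 1)
    (h2 : c₂.asHomogeneousIdeal.toIdeal.height = 1) :
    ∃ w : ProjectiveSpectrum (CohB1.polyGrading n k), c₁ ≤ w ∧ c₂ ≤ w := by
  classical
  obtain ⟨g₁, hg₁⟩ := UniqueFactorizationMonoid.isPrincipal_of_height_eq_one h1
  obtain ⟨g₂, hg₂⟩ := UniqueFactorizationMonoid.isPrincipal_of_height_eq_one h2
  have hI : c₁.asHomogeneousIdeal.toIdeal ⊔ c₂.asHomogeneousIdeal.toIdeal =
      Ideal.span (({g₁, g₂} : Finset _) : Set (MvPolynomial (Fin (n + 1)) k)) := by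
    rw [hg₁, hg₂]
    change Ideal.span {g₁} ⊔ Ideal.span {g₂} = _
    rw [← Ideal.span_union]
    congr 1
    ext a
    simp [or_comm]
  have hle : c₁.asHomogeneousIdeal.toIdeal ⊔ c₂.asHomogeneousIdeal.toIdeal ≤
      (irrelevant (CohB1.polyGrading n k)).toIdeal :=
    sup_le (asIdeal_le_irrelevant c₁) (asIdeal_le_irrelevant c₂)
  obtain ⟨Q, hQ, hQm⟩ := Ideal.exists_minimalPrimes_le hle
  have hhom : (c₁.asHomogeneousIdeal.toIdeal ⊔ c₂.asHomogeneousIdeal.toIdeal).IsHomogeneous
      (CohB1.polyGrading n k) :=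
    Ideal.IsHomogeneous.sup c₁.asHomogeneousIdeal.isHomogeneous c₂.asHomogeneousIdeal.isHomogeneous
  have hQh := isHomogeneous_of_mem_minimalPrimes _ hhom hQ
  have hht : Q.height ≤ 2 := by
    have hQ' := hQ
    rw [hI] at hQ'
    refine (Ideal.height_le_card_of_mem_minimalPrimes_span_finset hQ').trans ?_
    exact_mod_cast Finset.card_le_two
  have hne : Q ≠ (irrelevant (CohB1.polyGrading n k)).toIdeal := by
    intro h
    rw [h, height_irrelevant] at hht
    have : n + 1 ≤ 2 := by exact_mod_cast hht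
    omega
  refine ⟨pointOf k n Q hQh hQ.1.1 hne, ?_, ?_⟩
  · exact le_sup_left.trans hQ.1.2
  · exact le_sup_right.trans hQ.1.2

/-- S10820 core. -/
theorem main10820 (d : ℕ) (hn : 2 ≤ n)
    (f : MvPolynomial (Fin (n + 1)) k) (hf : f.IsHomogeneous d) (hd : 0 < d) (hf0 : f ≠ 0) :
    IsConnected (ProjectiveSpectrum.zeroLocus (CohB1.polyGrading n k)
      ({f} : Set (MvPolynomial (Fin (n + 1)) k))) := by
  have hmemV : ∀ y : ProjectiveSpectrum (CohB1.polyGrading n k),
      y ∈ ProjectiveSpectrum.zeroLocus (CohB1.polyGrading n k) {f} ↔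
        f ∈ y.asHomogeneousIdeal.toIdeal := by
    intro y
    rw [ProjectiveSpectrum.mem_zeroLocus, Set.singleton_subset_iff]
    rfl
  have hfi := mem_polyGrading_of_isHomogeneous hf
  have hfm := mem_irrelevant_of_isHomogeneous hf hd
  have hfξ : f ∉ (genericPt k n).asHomogeneousIdeal.toIdeal := fun h => hf0 h
  -- maximal points
  have hmaxpt : ∀ z : ProjectiveSpectrum (CohB1.polyGrading n k),
      f ∈ z.asHomogeneousIdeal.toIdeal →
      ∃ c : ProjectiveSpectrum (CohB1.polyGrading n k), c ≤ z ∧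
        f ∈ c.asHomogeneousIdeal.toIdeal ∧ c.asHomogeneousIdeal.toIdeal.height = 1 := by
    intro z hz
    obtain ⟨c, -, hcz, hfc, hc⟩ := exists_minimal_between (genericPt k n) z (genericPt_le k n z)
      f d hfi hz
    refine ⟨c, hcz, hfc, ?_⟩
    have hc' : c.asHomogeneousIdeal.toIdeal ∈ (Ideal.span {f}).minimalPrimes := by
      have : (genericPt k n).asHomogeneousIdeal.toIdeal ⊔ Ideal.span {f} = Ideal.span {f} := by
        change (⊥ : Ideal _) ⊔ _ = _
        exact bot_sup_eq _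
      rwa [this] at hc
    refine le_antisymm (Ideal.height_le_one_of_isPrincipal_of_mem_minimalPrimes _ _ hc') ?_
    rw [Order.one_le_iff_pos, pos_iff_ne_zero, Ne, Ideal.height_eq_zero_iff,
      IsDomain.minimalPrimes_eq_singleton_bot]
    intro hbot
    apply hf0
    have : f ∈ (⊥ : Ideal (MvPolynomial (Fin (n + 1)) k)) := by
      rw [← Set.mem_singleton_iff.mp hbot]
      exact hfc
    exact this
  constructor
  · have h1 : (1 : ℕ∞) ≤ Order.coheight (genericPt k n) := by
      rw [coheight_genericPt]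
      exact_mod_cast (by omega : 1 ≤ n)
    obtain ⟨w, -, hfw, -⟩ := exists_point_over (genericPt k n) f d hfi hfm hfξ h1
    exact ⟨w, (hmemV w).mpr hfw⟩
  · rw [isPreconnected_closed_iff]
    intro t t' ht ht' hsub ⟨z₁, hz₁V, hz₁t⟩ ⟨z₂, hz₂V, hz₂t'⟩
    obtain ⟨c₁, hc₁z, hfc₁, hh₁⟩ := hmaxpt z₁ ((hmemV z₁).mp hz₁V)
    obtain ⟨c₂, hc₂z, hfc₂, hh₂⟩ := hmaxpt z₂ ((hmemV z₂).mp hz₂V)
    have hcl : ∀ (s : Set (ProjectiveSpectrum (CohB1.polyGrading n k))), IsClosed s →
        ∀ a b : ProjectiveSpectrum (CohB1.polyGrading n k), a ≤ b → a ∈ s → b ∈ s := by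
      intro s hs a b hab ha
      rw [ProjectiveSpectrum.le_iff_mem_closure] at hab
      exact (hs.closure_subset_iff.mpr (Set.singleton_subset_iff.mpr ha)) hab
    rcases hsub ((hmemV c₁).mpr hfc₁) with h1 | h1
    · rcases hsub ((hmemV c₂).mpr hfc₂) with h2 | h2
      · exact ⟨z₂, hz₂V, hcl t ht c₂ z₂ hc₂z h2, hz₂t'⟩
      · obtain ⟨w, hw1, hw2⟩ := exists_common_specialization hn c₁ c₂ hh₁ hh₂
        exact ⟨w, (hmemV w).mpr (hw1 hfc₁), hcl t ht c₁ w hw1 h1, hcl t' ht' c₂ w hw2 h2⟩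
    · exact ⟨z₁, hz₁V, hz₁t, hcl t' ht' c₁ z₁ hc₁z h1⟩

end Groth.Agent.Lib.ProjDimH8
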