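import Mathlib
import Groth.Prelude.Def_CohB1
import Groth.Agent.Lib.ProjDim10_helper8

set_option autoImplicit false

universe u

open HomogeneousIdeal AlgebraicGeometry

namespace Groth.Agent.Lib.ProjDimH8

variable {k : Type u} [Field k] {n : ℕ}

theorem zeroLocus_asIdeal (x : ProjectiveSpectrum (CohB1.polyGrading n k)) :
    ProjectiveSpectrum.zeroLocus (CohB1.polyGrading n k)
      (x.asHomogeneousIdeal.toIdeal : Set (MvPolynomial (Fin (n + 1)) k)) = Set.Ici x := by
  ext y
  rw [ProjectiveSpectrum.mem_zeroLocus, Set.mem_Ici]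
  rfl

/-- S19926 core: `dim S/p = dim V_+(p) + 1`. -/
theorem main19926 (p : Ideal (MvPolynomial (Fin (n + 1)) k)) [hp : p.IsPrime]
    (hph : p.IsHomogeneous (CohB1.polyGrading n k))
    (hrel : ¬ (HomogeneousIdeal.irrelevant (CohB1.polyGrading n k)).toIdeal ≤ p) :
    ringKrullDim (MvPolynomial (Fin (n + 1)) k ⧸ p) =
      topologicalKrullDim ↥(ProjectiveSpectrum.zeroLocus (CohB1.polyGrading n k)
        (p : Set (MvPolynomial (Fin (n + 1)) k))) + 1 := by
  have hne : p ≠ (irrelevant (CohB1.polyGrading n k)).toIdeal := fun h => hrel h.ge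
  let x := pointOf k n p hph hp hne
  have h1 := coheight_add_one x
  have h2 : ProjectiveSpectrum.zeroLocus (CohB1.polyGrading n k)
      (p : Set (MvPolynomial (Fin (n + 1)) k)) = closure {x} := by
    rw [closure_singleton_eq_Ici]
    exact zeroLocus_asIdeal x
  rw [h2, topologicalKrullDim_closure_singleton]
  exact h1.symm

end Groth.Agent.Lib.ProjDimH8
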