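import Mathlib
import Groth.Prelude.Def_CohB1
import Groth.Agent.Lib.ProjDim11_helper8

set_option autoImplicit false

universe u

open HomogeneousIdeal AlgebraicGeometry

namespace Groth.Agent.Lib.ProjDimH8

section Top

variable {A σ : Type*} [CommRing A] [SetLike σ A] [AddSubgroupClass σ A] (𝒜 : ℕ → σ)
  [GradedRing 𝒜]

theorem mem_of_le_of_isClosed {D : Set (ProjectiveSpectrum 𝒜)} (hD : IsClosed D)
    {a b : ProjectiveSpectrum 𝒜} (hab : a ≤ b) (ha : a ∈ D) : b ∈ D := by
  rw [ProjectiveSpectrum.le_iff_mem_closure] at hab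
  exact (hD.closure_subset_iff.mpr (Set.singleton_subset_iff.mpr ha)) hab

/-- dimension of a closed subset of `Proj` as the supremum of the coheights of its points. -/
theorem topologicalKrullDim_closed (D : Set (ProjectiveSpectrum 𝒜)) (hD : IsClosed D) :
    topologicalKrullDim ↥D =
      ⨆ z : ↥D, ((Order.coheight (z : ProjectiveSpectrum 𝒜) : ℕ∞) : WithBot ℕ∞) := by
  have hemb : Topology.IsClosedEmbedding (Subtype.val : D → ProjectiveSpectrum 𝒜) :=
    hD.isClosedEmbedding_subtypeVal
  haveI : QuasiSober D := hemb.quasiSober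
  have h1 : topologicalKrullDim ↥D = @Order.krullDim D (specializationPreorder _) := by
    unfold topologicalKrullDim
    exact @Order.krullDim_eq_of_orderIso (TopologicalSpace.IrreducibleCloseds D)
      D _ (specializationPreorder _) (irreducibleSetEquivPoints (α := D))
  have h2 : @Order.krullDim D (specializationPreorder _) = Order.krullDim D := by
    rw [← Order.krullDim_orderDual (α := D)]
    refine @Order.krullDim_eq_of_orderIso _ _ (specializationPreorder _) _ ?_
    refine @RelIso.mk _ _ (@LE.le _ (specializationPreorder D).toLE) (· ≤ ·)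
      (OrderDual.toDual) ?_
    intro a b
    change (b : ProjectiveSpectrum 𝒜) ≤ (a : ProjectiveSpectrum 𝒜) ↔ b ⤳ a
    rw [subtype_specializes_iff, specializes_iff_mem_closure,
      ← ProjectiveSpectrum.le_iff_mem_closure]
  rw [h1, h2, Order.krullDim_eq_iSup_coheight]
  congr 1
  funext z
  congr 1
  refine Order.coheight_eq_of_strictMono (Subtype.val : D → ProjectiveSpectrum 𝒜)
    (fun _ _ h => h) ?_ z
  intro a b hab
  exact ⟨⟨b, mem_of_le_of_isClosed 𝒜 hD hab.le a.2⟩, hab, rfl⟩

theorem coheight_le_dim_of_mem (D : Set (ProjectiveSpectrum 𝒜)) (hD : IsClosed D)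
    (z : ProjectiveSpectrum 𝒜) (hz : z ∈ D) :
    ((Order.coheight z : ℕ∞) : WithBot ℕ∞) ≤ topologicalKrullDim ↥D := by
  rw [topologicalKrullDim_closed 𝒜 D hD]
  exact le_iSup (fun z : ↥D => ((Order.coheight (z : ProjectiveSpectrum 𝒜) : ℕ∞) : WithBot ℕ∞))
    ⟨z, hz⟩

theorem exists_coheight_ge_one (D : Set (ProjectiveSpectrum 𝒜)) (hD : IsClosed D)
    (h : ¬ topologicalKrullDim ↥D ≤ 0) :
    ∃ z ∈ D, 1 ≤ Order.coheight z := by
  by_contra hcon
  push Not at hcon
  apply h
  rw [topologicalKrullDim_closed 𝒜 D hD]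
  refine iSup_le (fun z => ?_)
  have := hcon z.1 z.2
  have h0 : Order.coheight (z : ProjectiveSpectrum 𝒜) = 0 := by
    rwa [Order.lt_one_iff] at this
  rw [h0]
  rfl

end Top

end Groth.Agent.Lib.ProjDimH8
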