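import Mathlib
import Groth.Prelude.Def_CohB1
import Groth.Agent.Lib.ProjDim12_helper8

set_option autoImplicit false

universe u

open HomogeneousIdeal AlgebraicGeometry

namespace Groth.Agent.Lib.ProjDimH8

variable {k : Type u} [Field k] {n : ℕ}

theorem ringKrullDim_quotient_le_one (P : Ideal (MvPolynomial (Fin (n + 1)) k))
    (hP : ∀ j : Fin (n + 1), j ≠ 0 → (MvPolynomial.X j : MvPolynomial (Fin (n + 1)) k) ∈ P) :
    ringKrullDim (MvPolynomial (Fin (n + 1)) k ⧸ P) ≤ 1 := by
  let φ : Polynomial k →ₐ[k] (MvPolynomial (Fin (n + 1)) k ⧸ P) :=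
    Polynomial.aeval (Ideal.Quotient.mk P (MvPolynomial.X 0))
  have hsurj : Function.Surjective φ := by
    intro y
    obtain ⟨a, rfl⟩ := Ideal.Quotient.mk_surjective y
    induction a using MvPolynomial.induction_on with
    | C c =>
      refine ⟨Polynomial.C c, ?_⟩
      rw [Polynomial.aeval_C]
      rfl
    | add p q hp hq =>
      obtain ⟨p', hp'⟩ := hp
      obtain ⟨q', hq'⟩ := hq
      exact ⟨p' + q', by rw [map_add, hp', hq', map_add]⟩
    | mul_X p j hp =>
      obtain ⟨p', hp'⟩ := hp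
      by_cases hj : j = 0
      · subst hj
        refine ⟨p' * Polynomial.X, ?_⟩
        rw [map_mul, hp', Polynomial.aeval_X, map_mul]
      · refine ⟨0, ?_⟩
        rw [map_zero, map_mul, Ideal.Quotient.eq_zero_iff_mem.mpr (hP j hj), mul_zero]
  have h1 := ringKrullDim_le_of_surjective φ.toRingHom hsurj
  rw [Polynomial.ringKrullDim_of_isNoetherianRing, ringKrullDim_eq_zero_of_field, zero_add] at h1
  exact h1

/-- S13907 core. -/
theorem main13907 (C : Set (ProjectiveSpectrum (CohB1.polyGrading n k)))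
    (hC : IsClosed C) (hirr : IsIrreducible C) :
    ∃ i : ℕ, i ≤ n ∧
      (C ∩ ProjectiveSpectrum.zeroLocus (CohB1.polyGrading n k)
          ((fun j : Fin (n + 1) => (MvPolynomial.X j : MvPolynomial (Fin (n + 1)) k)) ''
            {j : Fin (n + 1) | 1 ≤ j.val ∧ j.val ≤ i})).Nonempty ∧
      topologicalKrullDim ↥(C ∩ ProjectiveSpectrum.zeroLocus (CohB1.polyGrading n k)
          ((fun j : Fin (n + 1) => (MvPolynomial.X j : MvPolynomial (Fin (n + 1)) k)) ''
            {j : Fin (n + 1) | 1 ≤ j.val ∧ j.val ≤ i})) = 0 := by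
  classical
  let L : ℕ → Set (ProjectiveSpectrum (CohB1.polyGrading n k)) := fun i =>
    ProjectiveSpectrum.zeroLocus (CohB1.polyGrading n k)
      ((fun j : Fin (n + 1) => (MvPolynomial.X j : MvPolynomial (Fin (n + 1)) k)) ''
        {j : Fin (n + 1) | 1 ≤ j.val ∧ j.val ≤ i})
  have hmemL : ∀ (i : ℕ) (y : ProjectiveSpectrum (CohB1.polyGrading n k)),
      y ∈ L i ↔ ∀ j : Fin (n + 1), 1 ≤ j.val → j.val ≤ i →
        (MvPolynomial.X j : MvPolynomial (Fin (n + 1)) k) ∈ y.asHomogeneousIdeal.toIdeal := by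
    intro i y
    change y ∈ ProjectiveSpectrum.zeroLocus _ _ ↔ _
    rw [ProjectiveSpectrum.mem_zeroLocus]
    constructor
    · intro h j h1 h2
      exact h ⟨j, ⟨h1, h2⟩, rfl⟩
    · rintro h _ ⟨j, ⟨h1, h2⟩, rfl⟩
      exact h j h1 h2
  have hDc : ∀ i, IsClosed (C ∩ L i) := fun i =>
    hC.inter (ProjectiveSpectrum.isClosed_zeroLocus _ _)
  have hnonneg : ∀ i, (C ∩ L i).Nonempty → 0 ≤ topologicalKrullDim ↥(C ∩ L i) := by
    rintro i ⟨z, hz⟩
    refine le_trans ?_ (coheight_le_dim_of_mem _ _ (hDc i) z hz)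
    exact_mod_cast bot_le
  -- terminal bound
  have hterm : topologicalKrullDim ↥(C ∩ L n) ≤ 0 := by
    rw [topologicalKrullDim_closed _ _ (hDc n)]
    refine iSup_le (fun z => ?_)
    have hz := (hmemL n z.1).mp z.2.2
    have h1 := ringKrullDim_quotient_le_one (z.1.asHomogeneousIdeal.toIdeal) (fun j hj =>
      hz j (Nat.one_le_iff_ne_zero.mpr (fun h => hj (Fin.ext h))) (Nat.lt_succ_iff.mp j.2))
    rw [← coheight_add_one] at h1
    have h2 : ((Order.coheight z.1 + 1 : ℕ∞) : WithBot ℕ∞) ≤ ((1 : ℕ∞) : WithBot ℕ∞) := by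
      push_cast
      exact h1
    have h3 : Order.coheight z.1 + 1 ≤ 1 := by exact_mod_cast h2
    have h4 : Order.coheight z.1 = 0 := by
      have : Order.coheight z.1 + 1 ≤ 0 + 1 := by simpa using h3
      exact le_antisymm ((ENat.add_le_add_iff_right ENat.one_ne_top).mp this) bot_le
    rw [h4]
    rfl
  have hex : ∃ i, topologicalKrullDim ↥(C ∩ L i) ≤ 0 := ⟨n, hterm⟩
  refine ⟨Nat.find hex, Nat.find_min' hex hterm, ?_⟩
  have hspec := Nat.find_spec hex
  have hne : (C ∩ L (Nat.find hex)).Nonempty := by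
    rcases Nat.eq_zero_or_pos (Nat.find hex) with h0 | hpos
    · obtain ⟨z, hz⟩ := hirr.nonempty
      refine ⟨z, hz, ?_⟩
      rw [hmemL, h0]
      intro j h1 h2
      omega
    · obtain ⟨i, hi⟩ : ∃ i, Nat.find hex = i + 1 := ⟨Nat.find hex - 1, by omega⟩
      have hmin := Nat.find_min hex (m := i) (by omega)
      obtain ⟨z, hzD, hz1⟩ := exists_coheight_ge_one _ _ (hDc i) hmin
      have hin : i + 1 ≤ n := hi ▸ Nat.find_min' hex hterm
      let j : Fin (n + 1) := ⟨i + 1, by omega⟩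
      have hkey : ∃ w : ProjectiveSpectrum (CohB1.polyGrading n k), z ≤ w ∧
          (MvPolynomial.X j : MvPolynomial (Fin (n + 1)) k) ∈ w.asHomogeneousIdeal.toIdeal := by
        by_cases hj : (MvPolynomial.X j : MvPolynomial (Fin (n + 1)) k) ∈
            z.asHomogeneousIdeal.toIdeal
        · exact ⟨z, le_rfl, hj⟩
        · have hX : (MvPolynomial.X j : MvPolynomial (Fin (n + 1)) k).IsHomogeneous 1 :=
            MvPolynomial.isHomogeneous_X k j
          obtain ⟨w, hzw, hw, -⟩ := exists_point_over z _ 1 (mem_polyGrading_of_isHomogeneous hX)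
            (mem_irrelevant_of_isHomogeneous hX one_pos) hj hz1
          exact ⟨w, hzw, hw⟩
      obtain ⟨w, hzw, hw⟩ := hkey
      rw [hi]
      refine ⟨w, mem_of_le_of_isClosed _ hC hzw hzD.1, ?_⟩
      rw [hmemL]
      intro j' h1 h2
      by_cases h3 : j'.val ≤ i
      · exact hzw ((hmemL i z).mp hzD.2 j' h1 h3)
      · have : j' = j := Fin.ext (by simp only [j]; omega)
        rw [this]
        exact hw
  exact ⟨hne, le_antisymm hspec (hnonneg _ hne)⟩

end Groth.Agent.Lib.ProjDimH8
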