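import Mathlib
import Groth.Prelude.Def_CohB1
import Groth.Agent.Lib.ProjDim13_helper8

set_option autoImplicit false

universe u

open HomogeneousIdeal AlgebraicGeometry

namespace Groth.Agent.Lib.ProjDimH8

section Top

variable {A σ : Type*} [CommRing A] [SetLike σ A] [AddSubgroupClass σ A] (𝒜 : ℕ → σ)
  [GradedRing 𝒜]

/-- irreducible closed subsets of `Proj` and points, order reversing. -/
noncomputable def irrClosedsOrderIso :
    TopologicalSpace.IrreducibleCloseds (ProjectiveSpectrum 𝒜) ≃o (ProjectiveSpectrum 𝒜)ᵒᵈ where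
  toEquiv := (irreducibleSetEquivPoints (α := ProjectiveSpectrum 𝒜)).toEquiv.trans
    OrderDual.toDual
  map_rel_iff' := by
    intro Z Z'
    have h := (irreducibleSetEquivPoints (α := ProjectiveSpectrum 𝒜)).map_rel_iff' (a := Z) (b := Z')
    rw [← h]
    change ((irreducibleSetEquivPoints (α := ProjectiveSpectrum 𝒜)).toEquiv Z') ≤
      ((irreducibleSetEquivPoints (α := ProjectiveSpectrum 𝒜)).toEquiv Z) ↔
      ((irreducibleSetEquivPoints (α := ProjectiveSpectrum 𝒜)).toEquiv Z') ⤳
      ((irreducibleSetEquivPoints (α := ProjectiveSpectrum 𝒜)).toEquiv Z)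
    rw [specializes_iff_mem_closure, ← ProjectiveSpectrum.le_iff_mem_closure]

/-- codimension of an irreducible closed subset is the height of its generic point. -/
theorem coheight_irreducibleCloseds
    (Z : TopologicalSpace.IrreducibleCloseds (ProjectiveSpectrum 𝒜)) :
    ∃ z : ProjectiveSpectrum 𝒜, (Z : Set (ProjectiveSpectrum 𝒜)) = closure {z} ∧
      Order.coheight Z = Order.height z := by
  refine ⟨OrderDual.ofDual (irrClosedsOrderIso 𝒜 Z), ?_, ?_⟩
  · have h1 : (irreducibleSetEquivPoints (α := ProjectiveSpectrum 𝒜)).toEquiv.symm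
        ((irreducibleSetEquivPoints (α := ProjectiveSpectrum 𝒜)).toEquiv Z) = Z :=
      Equiv.symm_apply_apply _ Z
    have h2 : (((irreducibleSetEquivPoints (α := ProjectiveSpectrum 𝒜)).toEquiv.symm
        ((irreducibleSetEquivPoints (α := ProjectiveSpectrum 𝒜)).toEquiv Z) :
        TopologicalSpace.IrreducibleCloseds (ProjectiveSpectrum 𝒜)) :
        Set (ProjectiveSpectrum 𝒜)) =
        closure {(irreducibleSetEquivPoints (α := ProjectiveSpectrum 𝒜)).toEquiv Z} := rfl
    rw [h1] at h2
    exact h2
  · rw [← Order.coheight_orderIso (irrClosedsOrderIso 𝒜) Z]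
    rfl

end Top

end Groth.Agent.Lib.ProjDimH8
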