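import Mathlib
import Groth.Prelude.Def_CohB1
import Groth.Agent.Lib.ProjDim14_helper8

set_option autoImplicit false

universe u

open HomogeneousIdeal AlgebraicGeometry

namespace Groth.Agent.Lib.ProjDimH8

variable {k : Type u} [Field k] {n : ℕ}

/-- a generator of a principal homogeneous ideal is homogeneous. -/
theorem isHomogeneous_of_span_isHomogeneous (f : MvPolynomial (Fin (n + 1)) k)
    (h : (Ideal.span {f}).IsHomogeneous (CohB1.polyGrading n k)) :
    f.IsHomogeneous f.totalDegree := by
  by_cases hf0 : f = 0
  · rw [hf0]; exact MvPolynomial.isHomogeneous_zero _ _ _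
  have hcomp : ∀ i, MvPolynomial.homogeneousComponent i f ≠ 0 → i = f.totalDegree := by
    intro i hi
    have hmem : MvPolynomial.homogeneousComponent i f ∈ Ideal.span {f} := by
      have := h i (Ideal.mem_span_singleton_self f)
      rwa [show ((DirectSum.decompose (CohB1.polyGrading n k) f i :
        (CohB1.polyGrading n k i)) : MvPolynomial (Fin (n + 1)) k) =
        MvPolynomial.homogeneousComponent i f from
        MvPolynomial.decomposition.decompose'_apply f i] at this
    obtain ⟨u, hu⟩ := Ideal.mem_span_singleton.mp hmem
    have hu0 : u ≠ 0 := by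
      rintro rfl
      rw [mul_zero] at hu
      exact hi hu
    have h1 : (MvPolynomial.homogeneousComponent i f).totalDegree = i :=
      (MvPolynomial.homogeneousComponent_isHomogeneous i f).totalDegree hi
    rw [hu, MvPolynomial.totalDegree_mul_of_isDomain hf0 hu0] at h1
    have h2 : i ≤ f.totalDegree := by
      by_contra hlt
      push Not at hlt
      exact hi (MvPolynomial.homogeneousComponent_eq_zero i f hlt)
    omega
  have hsum := MvPolynomial.sum_homogeneousComponent f
  rw [Finset.sum_eq_single f.totalDegree] at hsum
  · have key := MvPolynomial.homogeneousComponent_isHomogeneous f.totalDegree f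
    rw [hsum] at key
    exact key
  · intro i _ hi
    by_contra hne
    exact hi (hcomp i hne)
  · intro h
    exact absurd (Finset.mem_range.mpr (Nat.lt_succ_self _)) h

theorem genericPt_lt_of_ne_bot (z : ProjectiveSpectrum (CohB1.polyGrading n k))
    (hz : z.asHomogeneousIdeal.toIdeal ≠ ⊥) : genericPt k n < z := by
  refine lt_of_le_of_ne (genericPt_le k n z) ?_
  intro h
  apply hz
  rw [← h]
  rfl

/-- HT2 -/
theorem height_eq_one_of_height_eq_one (z : ProjectiveSpectrum (CohB1.polyGrading n k))
    (hz : z.asHomogeneousIdeal.toIdeal.height = 1) : Order.height z = 1 := by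
  apply le_antisymm
  · have h1 := Order.height_le_height_apply_of_strictMono
      (fun y : ProjectiveSpectrum (CohB1.polyGrading n k) =>
        (⟨y.asHomogeneousIdeal.toIdeal, y.isPrime⟩ : PrimeSpectrum (MvPolynomial (Fin (n + 1)) k)))
      (fun a b hab => by
        change (⟨_, _⟩ : PrimeSpectrum _) < ⟨_, _⟩
        rw [← PrimeSpectrum.asIdeal_lt_asIdeal]
        exact asIdeal_lt_of_lt hab) z
    rw [← PrimeSpectrum.height_eq_orderHeight] at h1
    exact h1.trans hz.le
  · have hne : z.asHomogeneousIdeal.toIdeal ≠ ⊥ := by
      intro h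
      rw [h, Ideal.height_bot] at hz
      exact zero_ne_one hz
    have := Order.height_add_one_le (genericPt_lt_of_ne_bot z hne)
    exact le_trans (by simp) this

/-- HT1 -/
theorem height_eq_one_of_orderHeight_eq_one (z : ProjectiveSpectrum (CohB1.polyGrading n k))
    (hz : Order.height z = 1) : z.asHomogeneousIdeal.toIdeal.height = 1 := by
  have hne : z.asHomogeneousIdeal.toIdeal ≠ ⊥ := by
    intro h
    have : z = genericPt k n := by
      apply ProjectiveSpectrum.ext
      exact HomogeneousIdeal.toIdeal_injective h
    rw [this] at hz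
    have h0 : Order.height (genericPt k n) = 0 := by
      rw [Order.height_eq_zero]
      intro y hy
      exact genericPt_le k n y
    rw [h0] at hz
    exact zero_ne_one hz
  -- a nonzero homogeneous element
  obtain ⟨a, haz, ha0⟩ := Submodule.exists_mem_ne_zero_of_ne_bot hne
  have hex : ∃ i, MvPolynomial.homogeneousComponent i a ≠ 0 := by
    by_contra hcon
    push Not at hcon
    apply ha0
    rw [← MvPolynomial.sum_homogeneousComponent a]
    exact Finset.sum_eq_zero (fun i _ => hcon i)
  obtain ⟨i, hi⟩ := hex
  let g := MvPolynomial.homogeneousComponent i a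
  have hgz : g ∈ z.asHomogeneousIdeal.toIdeal := by
    have := z.asHomogeneousIdeal.isHomogeneous i haz
    rwa [show ((DirectSum.decompose (CohB1.polyGrading n k) a i :
        (CohB1.polyGrading n k i)) : MvPolynomial (Fin (n + 1)) k) =
        MvPolynomial.homogeneousComponent i a from
        MvPolynomial.decomposition.decompose'_apply a i] at this
  have hgi : g ∈ CohB1.polyGrading n k i :=
    mem_polyGrading_of_isHomogeneous (MvPolynomial.homogeneousComponent_isHomogeneous i a)
  obtain ⟨c, -, hcz, hgc, hc⟩ := exists_minimal_between (genericPt k n) z (genericPt_le k n z)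
    g i hgi hgz
  have hc' : c.asHomogeneousIdeal.toIdeal ∈ (Ideal.span {g}).minimalPrimes := by
    have : (genericPt k n).asHomogeneousIdeal.toIdeal ⊔ Ideal.span {g} = Ideal.span {g} := by
      change (⊥ : Ideal _) ⊔ _ = _
      exact bot_sup_eq _
    rwa [this] at hc
  have hcne : c.asHomogeneousIdeal.toIdeal ≠ ⊥ := by
    intro h
    apply hi
    have : g ∈ (⊥ : Ideal (MvPolynomial (Fin (n + 1)) k)) := h ▸ hgc
    exact this
  have hch : c.asHomogeneousIdeal.toIdeal.height = 1 := by
    refine le_antisymm (Ideal.height_le_one_of_isPrincipal_of_mem_minimalPrimes _ _ hc') ?_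
    rw [Order.one_le_iff_pos, pos_iff_ne_zero, Ne, Ideal.height_eq_zero_iff,
      IsDomain.minimalPrimes_eq_singleton_bot]
    exact hcne
  have hcz' : c = z := by
    by_contra hne'
    have hlt : c < z := lt_of_le_of_ne hcz hne'
    have h1 := Order.height_add_one_le hlt
    have h2 := Order.height_add_one_le (genericPt_lt_of_ne_bot c hcne)
    rw [hz] at h1
    have h3 : Order.height c + 1 ≤ 0 + 1 := by simpa using h1
    have h4 : Order.height c = 0 :=
      le_antisymm ((ENat.add_le_add_iff_right ENat.one_ne_top).mp h3) bot_le
    rw [h4] at h2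
    simp at h2
  rw [← hcz']
  exact hch

end Groth.Agent.Lib.ProjDimH8
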