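import Mathlib
import Groth.Prelude.Def_CohB1
import Groth.Agent.Lib.ProjDim15_helper8

set_option autoImplicit false

universe u

open HomogeneousIdeal AlgebraicGeometry

namespace Groth.Agent.Lib.ProjDimH8

variable {k : Type u} [Field k] {n : ℕ}

/-- S10821 core. -/
theorem main10821
    (Z : TopologicalSpace.IrreducibleCloseds (ProjectiveSpectrum (CohB1.polyGrading n k))) :
    Order.coheight Z = 1 ↔
      ∃ (d : ℕ) (f : MvPolynomial (Fin (n + 1)) k), f.IsHomogeneous d ∧ Irreducible f ∧
        (Z : Set (ProjectiveSpectrum (CohB1.polyGrading n k))) =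
          ProjectiveSpectrum.zeroLocus (CohB1.polyGrading n k) ({f} : Set (MvPolynomial (Fin (n + 1)) k)) := by
  obtain ⟨z, hZz, hcoh⟩ := coheight_irreducibleCloseds (CohB1.polyGrading n k) Z
  rw [hcoh, hZz, closure_singleton_eq_Ici, ← zeroLocus_asIdeal]
  constructor
  · intro hz
    have h1 := height_eq_one_of_orderHeight_eq_one z hz
    obtain ⟨f, hf⟩ := UniqueFactorizationMonoid.isPrincipal_of_height_eq_one h1
    change z.asHomogeneousIdeal.toIdeal = Ideal.span {f} at hf
    have hf0 : f ≠ 0 := by
      rintro rfl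
      rw [hf, Ideal.span_singleton_zero, Ideal.height_bot] at h1
      exact zero_ne_one h1
    have hprime : (Ideal.span {f}).IsPrime := hf ▸ z.isPrime
    have hfp : Prime f := (Ideal.span_singleton_prime hf0).mp hprime
    have hfh := isHomogeneous_of_span_isHomogeneous f (hf ▸ z.asHomogeneousIdeal.isHomogeneous)
    refine ⟨f.totalDegree, f, hfh, hfp.irreducible, ?_⟩
    rw [hf, ProjectiveSpectrum.zeroLocus_span]
  · rintro ⟨d, f, hfh, hfirr, hZ⟩
    have hfp : Prime f := UniqueFactorizationMonoid.irreducible_iff_prime.mp hfirr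
    have hf0 : f ≠ 0 := hfp.ne_zero
    have hprime : (Ideal.span {f}).IsPrime := (Ideal.span_singleton_prime hf0).mpr hfp
    have hfz : f ∈ z.asHomogeneousIdeal.toIdeal := by
      have : z ∈ ProjectiveSpectrum.zeroLocus (CohB1.polyGrading n k)
          ({f} : Set (MvPolynomial (Fin (n + 1)) k)) := by
        rw [← hZ, zeroLocus_asIdeal]
        exact Set.mem_Ici.mpr le_rfl
      rw [ProjectiveSpectrum.mem_zeroLocus, Set.singleton_subset_iff] at this
      exact this
    have hle : Ideal.span {f} ≤ z.asHomogeneousIdeal.toIdeal :=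
      (Ideal.span_singleton_le_iff_mem _).mpr hfz
    have hne : Ideal.span {f} ≠ (irrelevant (CohB1.polyGrading n k)).toIdeal := by
      intro h
      exact absurd (lt_of_le_of_lt (h ▸ hle) (asIdeal_lt_irrelevant z)) (lt_irrefl _)
    have hhom : (Ideal.span {f}).IsHomogeneous (CohB1.polyGrading n k) := by
      refine Ideal.homogeneous_span _ _ ?_
      rintro _ rfl
      exact ⟨d, mem_polyGrading_of_isHomogeneous hfh⟩
    let w := pointOf k n (Ideal.span {f}) hhom hprime hne
    have hw : w ∈ ProjectiveSpectrum.zeroLocus (CohB1.polyGrading n k)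
        (z.asHomogeneousIdeal.toIdeal : Set (MvPolynomial (Fin (n + 1)) k)) := by
      rw [hZ, ProjectiveSpectrum.mem_zeroLocus, Set.singleton_subset_iff]
      exact Ideal.mem_span_singleton_self f
    rw [zeroLocus_asIdeal, Set.mem_Ici] at hw
    have heq : z.asHomogeneousIdeal.toIdeal = Ideal.span {f} := le_antisymm hw hle
    apply height_eq_one_of_height_eq_one
    rw [heq]
    have hmin : Ideal.span {f} ∈ (Ideal.span {f}).minimalPrimes :=
      ⟨⟨hprime, le_rfl⟩, fun q hq _ => hq.2⟩
    refine le_antisymm (Ideal.height_le_one_of_isPrincipal_of_mem_minimalPrimes _ _ hmin) ?_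
    rw [Order.one_le_iff_pos, pos_iff_ne_zero, Ne, Ideal.height_eq_zero_iff,
      IsDomain.minimalPrimes_eq_singleton_bot]
    intro hbot
    apply hf0
    have : f ∈ (⊥ : Ideal (MvPolynomial (Fin (n + 1)) k)) := by
      rw [← Set.mem_singleton_iff.mp hbot]
      exact Ideal.mem_span_singleton_self f
    exact this

end Groth.Agent.Lib.ProjDimH8
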