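import Mathlib
import Groth.Prelude.Def_CohB1
import Groth.Agent.Lib.ProjDim16_helper8

set_option autoImplicit false

universe u

open HomogeneousIdeal AlgebraicGeometry

namespace Groth.Agent.Lib.ProjDimH8

variable {k : Type u} [Field k] {n : ℕ}

/-- dimension formula in the polynomial ring. -/
theorem height_add_dim_quotient (P : Ideal (MvPolynomial (Fin (n + 1)) k)) [P.IsPrime] :
    ∃ r : ℕ, ringKrullDim (MvPolynomial (Fin (n + 1)) k ⧸ P) = r ∧
      P.height + r = ((n + 1 : ℕ) : ℕ∞) := by
  obtain ⟨N, -, hN, hdimA, -⟩ := Groth.Agent.DimFTH8.exists_dim_eq k (MvPolynomial (Fin (n + 1)) k)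
  have hN' : N = n + 1 := by
    rw [MvPolynomial.ringKrullDim_of_isNoetherianRing, ringKrullDim_eq_zero_of_field] at hdimA
    have : ((n + 1 : ℕ) : WithBot ℕ∞) = (N : WithBot ℕ∞) := by
      rw [← hdimA]; simp
    exact_mod_cast this.symm
  obtain ⟨r, hr1, hr2⟩ := Groth.Agent.DimFT3H8.height_add_trdeg_quotient N k _ hN P
  obtain ⟨r', hr'1, hr'2⟩ := exists_dim_quotient k _ P
  have : r = r' := by
    have : (r : Cardinal) = (r' : Cardinal) := by rw [← hr1, ← hr'2]
    exact_mod_cast this
  subst this
  exact ⟨r, hr'1, by rw [hr2, hN']⟩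

/-- S10840 core. -/
theorem main10840 (a b : ℕ)
    (f g : MvPolynomial (Fin 3) k) (hf : f.IsHomogeneous a) (hg : g.IsHomogeneous b)
    (ha : 0 < a) (hb : 0 < b) (hf0 : f ≠ 0) (hg0 : g ≠ 0) :
    topologicalKrullDim ↥(ProjectiveSpectrum.zeroLocus (CohB1.polyGrading 2 k)
        ({f, g} : Set (MvPolynomial (Fin 3) k))) = 0 ↔ IsRelPrime f g := by
  have hDc : IsClosed (ProjectiveSpectrum.zeroLocus (CohB1.polyGrading 2 k)
      ({f, g} : Set (MvPolynomial (Fin 3) k))) := ProjectiveSpectrum.isClosed_zeroLocus _ _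
  have hmemD : ∀ y : ProjectiveSpectrum (CohB1.polyGrading 2 k),
      y ∈ ProjectiveSpectrum.zeroLocus (CohB1.polyGrading 2 k)
        ({f, g} : Set (MvPolynomial (Fin 3) k)) ↔
      f ∈ y.asHomogeneousIdeal.toIdeal ∧ g ∈ y.asHomogeneousIdeal.toIdeal := by
    intro y
    rw [ProjectiveSpectrum.mem_zeroLocus, Set.insert_subset_iff, Set.singleton_subset_iff]
    rfl
  constructor
  · intro hdim c hcf hcg
    by_contra hcu
    have hne : Ideal.span {c} ≠ ⊤ := by
      rwa [Ne, Ideal.span_singleton_eq_top]
    obtain ⟨Q, hQ⟩ := Ideal.nonempty_minimalPrimes hne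
    haveI hQp : Q.IsPrime := hQ.1.1
    have hQh : Q.height ≤ 1 := Ideal.height_le_one_of_isPrincipal_of_mem_minimalPrimes _ _ hQ
    have hcQ : c ∈ Q := hQ.1.2 (Ideal.mem_span_singleton_self c)
    have hfQ : f ∈ Q := Q.mem_of_dvd hcf hcQ
    have hgQ : g ∈ Q := Q.mem_of_dvd hcg hcQ
    let P := (Q.homogeneousCore (CohB1.polyGrading 2 k)).toIdeal
    haveI hPp : P.IsPrime := hQp.homogeneousCore
    have hPQ : P ≤ Q := Ideal.toIdeal_homogeneousCore_le _ Q
    have hfP : f ∈ P := Ideal.mem_homogeneousCore_of_homogeneous_of_mem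
      ⟨a, mem_polyGrading_of_isHomogeneous hf⟩ hfQ
    have hgP : g ∈ P := Ideal.mem_homogeneousCore_of_homogeneous_of_mem
      ⟨b, mem_polyGrading_of_isHomogeneous hg⟩ hgQ
    have hPh : P.height ≤ 1 := (Ideal.height_mono hPQ).trans hQh
    have hPne : P ≠ (irrelevant (CohB1.polyGrading 2 k)).toIdeal := by
      intro h
      rw [h, height_irrelevant] at hPh
      have : (2 + 1 : ℕ) ≤ 1 := by exact_mod_cast hPh
      omega
    let y := pointOf k 2 P (Q.homogeneousCore (CohB1.polyGrading 2 k)).isHomogeneous hPp hPne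
    have hyD := (hmemD y).mpr ⟨hfP, hgP⟩
    have h1 := coheight_le_dim_of_mem _ _ hDc y hyD
    rw [hdim] at h1
    have h2 : Order.coheight y = 0 := by
      have : Order.coheight y ≤ 0 := by exact_mod_cast h1
      exact le_antisymm this bot_le
    obtain ⟨r, hr1, hr2⟩ := height_add_dim_quotient P
    have h3 := coheight_add_one y
    rw [pointOf_toIdeal, hr1, h2] at h3
    have h4 : r = 1 := by
      have : ((0 + 1 : ℕ∞) : WithBot ℕ∞) = ((r : ℕ∞) : WithBot ℕ∞) := by
        push_cast
        exact h3
      have : (0 + 1 : ℕ∞) = (r : ℕ∞) := by exact_mod_cast this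
      have : (1 : ℕ∞) = (r : ℕ∞) := by simpa using this
      exact_mod_cast this.symm
    rw [h4] at hr2
    have h5 : P.height + ((1 : ℕ) : ℕ∞) ≤ 1 + ((1 : ℕ) : ℕ∞) := by gcongr
    rw [hr2] at h5
    have : (2 + 1 : ℕ) ≤ 1 + 1 := by exact_mod_cast h5
    omega
  · intro hrel
    -- nonempty
    have hne : (ProjectiveSpectrum.zeroLocus (CohB1.polyGrading 2 k)
        ({f, g} : Set (MvPolynomial (Fin 3) k))).Nonempty := by
      obtain ⟨c, -, hc⟩ := exists_point_over_multi 2 ![f, g] ![a, b]
        (fun i => by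
          fin_cases i
          · exact mem_polyGrading_of_isHomogeneous hf
          · exact mem_polyGrading_of_isHomogeneous hg)
        (fun i => by
          fin_cases i
          · exact mem_irrelevant_of_isHomogeneous hf ha
          · exact mem_irrelevant_of_isHomogeneous hg hb)
        (genericPt k 2) (by rw [coheight_genericPt])
      exact ⟨c, (hmemD c).mpr ⟨hc 0, hc 1⟩⟩
    apply le_antisymm
    · rw [topologicalKrullDim_closed _ _ hDc]
      refine iSup_le (fun z => ?_)
      have hz := (hmemD z.1).mp z.2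
      have hz0 : Order.coheight z.1 = 0 := by
        by_contra hne0
        have h1 : 1 ≤ Order.coheight z.1 := Order.one_le_iff_pos.mpr (pos_iff_ne_zero.mpr hne0)
        obtain ⟨r, hr1, hr2⟩ := height_add_dim_quotient z.1.asHomogeneousIdeal.toIdeal
        have h3 := coheight_add_one z.1
        rw [hr1] at h3
        have h4 : Order.coheight z.1 + 1 = (r : ℕ∞) := by
          have : ((Order.coheight z.1 + 1 : ℕ∞) : WithBot ℕ∞) = ((r : ℕ∞) : WithBot ℕ∞) := by
            push_cast
            exact h3
          exact_mod_cast this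
        have h5 : (2 : ℕ∞) ≤ r := by
          rw [← h4]
          have : (1 : ℕ∞) + 1 ≤ Order.coheight z.1 + 1 := by gcongr
          simpa [one_add_one_eq_two] using this
        have h6 : z.1.asHomogeneousIdeal.toIdeal.height ≤ 1 := by
          by_contra hlt
          push Not at hlt
          have h7 : (2 : ℕ∞) ≤ z.1.asHomogeneousIdeal.toIdeal.height := by
            have := Order.add_one_le_of_lt hlt
            simpa [one_add_one_eq_two] using this
          have : (2 : ℕ∞) + 2 ≤ z.1.asHomogeneousIdeal.toIdeal.height + r := add_le_add h7 h5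
          rw [hr2] at this
          have : (4 : ℕ) ≤ 3 := by exact_mod_cast this
          omega
        have hzne : z.1.asHomogeneousIdeal.toIdeal ≠ ⊥ := by
          intro h
          apply hf0
          have : f ∈ (⊥ : Ideal (MvPolynomial (Fin 3) k)) := h ▸ hz.1
          exact this
        have h8 : z.1.asHomogeneousIdeal.toIdeal.height = 1 := by
          refine le_antisymm h6 ?_
          rw [Order.one_le_iff_pos, pos_iff_ne_zero, Ne, Ideal.height_eq_zero_iff,
            IsDomain.minimalPrimes_eq_singleton_bot]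
          exact hzne
        obtain ⟨p, hp⟩ := UniqueFactorizationMonoid.isPrincipal_of_height_eq_one h8
        change z.1.asHomogeneousIdeal.toIdeal = Ideal.span {p} at hp
        have hpf : p ∣ f := Ideal.mem_span_singleton.mp (hp ▸ hz.1)
        have hpg : p ∣ g := Ideal.mem_span_singleton.mp (hp ▸ hz.2)
        have hpu := hrel hpf hpg
        have : z.1.asHomogeneousIdeal.toIdeal = ⊤ := by
          rw [hp, Ideal.span_singleton_eq_top]
          exact hpu
        exact z.1.isPrime.ne_top this
      rw [hz0]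
      rfl
    · obtain ⟨z, hz⟩ := hne
      refine le_trans ?_ (coheight_le_dim_of_mem _ _ hDc z hz)
      exact_mod_cast bot_le

end Groth.Agent.Lib.ProjDimH8
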