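import Mathlib
import Groth.Prelude.Def_CohB1
import Groth.Agent.Lib.ProjDim17_helper8
import Groth.Agent.Lib.AffInt1_helper8

set_option autoImplicit false

universe u

open HomogeneousIdeal AlgebraicGeometry

namespace Groth.Agent.Lib.ProjDimH8

section Top

variable {A σ : Type*} [CommRing A] [SetLike σ A] [AddSubgroupClass σ A] (𝒜 : ℕ → σ)
  [GradedRing 𝒜]

/-- a finite dimension is attained by a point. -/
theorem exists_coheight_eq (D : Set (ProjectiveSpectrum 𝒜)) (hD : IsClosed D) (hne : D.Nonempty)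
    (r : ℕ) (h : topologicalKrullDim ↥D = r) : ∃ z ∈ D, Order.coheight z = r := by
  by_contra hcon
  push Not at hcon
  have hle : ∀ z ∈ D, Order.coheight z ≤ (r : ℕ∞) := by
    intro z hz
    have := coheight_le_dim_of_mem 𝒜 D hD z hz
    rw [h] at this
    exact_mod_cast this
  have hlt : ∀ z ∈ D, Order.coheight z < (r : ℕ∞) := fun z hz => lt_of_le_of_ne (hle z hz) (hcon z hz)
  obtain ⟨z₀, hz₀⟩ := hne
  have hr : 0 < r := by
    by_contra h0
    have hr0 : r = 0 := by omega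
    have hz' := hlt z₀ hz₀
    rw [hr0] at hz'
    simp at hz'
  obtain ⟨r', rfl⟩ : ∃ r', r = r' + 1 := ⟨r - 1, by omega⟩
  have hle' : ∀ z ∈ D, Order.coheight z ≤ (r' : ℕ∞) := by
    intro z hz
    have := hlt z hz
    have h2 : ((r' + 1 : ℕ) : ℕ∞) = (r' : ℕ∞) + 1 := by push_cast; rfl
    rw [h2] at this
    exact Order.le_of_lt_add_one this
  have : topologicalKrullDim ↥D ≤ ((r' : ℕ∞) : WithBot ℕ∞) := by
    rw [topologicalKrullDim_closed 𝒜 D hD]
    refine iSup_le (fun z => ?_)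
    exact_mod_cast hle' z.1 z.2
  rw [h] at this
  have : (r' + 1 : ℕ) ≤ r' := by exact_mod_cast this
  omega

end Top

variable {k : Type u} [Field k] {n : ℕ}

/-- S7675 core: projective dimension theorem for two closed subsets. -/
theorem main7675 (r s : ℕ)
    (X Y : Set (ProjectiveSpectrum (CohB1.polyGrading n k))) (hX : IsClosed X) (hY : IsClosed Y)
    (hXne : X.Nonempty) (hYne : Y.Nonempty)
    (hXr : topologicalKrullDim ↥X = r) (hYs : topologicalKrullDim ↥Y = s) (hrs : n ≤ r + s) :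
    (X ∩ Y).Nonempty ∧
      ((r + s : ℕ) : WithBot ℕ∞) ≤ topologicalKrullDim ↥(X ∩ Y) + (n : WithBot ℕ∞) := by
  obtain ⟨x, hxX, hxr⟩ := exists_coheight_eq _ X hX hXne r hXr
  obtain ⟨y, hyY, hys⟩ := exists_coheight_eq _ Y hY hYne s hYs
  have hle : x.asHomogeneousIdeal.toIdeal ⊔ y.asHomogeneousIdeal.toIdeal ≤
      (irrelevant (CohB1.polyGrading n k)).toIdeal :=
    sup_le (asIdeal_le_irrelevant x) (asIdeal_le_irrelevant y)
  obtain ⟨Q, hQ, hQm⟩ := Ideal.exists_minimalPrimes_le hle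
  have hhom : (x.asHomogeneousIdeal.toIdeal ⊔ y.asHomogeneousIdeal.toIdeal).IsHomogeneous
      (CohB1.polyGrading n k) :=
    Ideal.IsHomogeneous.sup x.asHomogeneousIdeal.isHomogeneous y.asHomogeneousIdeal.isHomogeneous
  have hQh := isHomogeneous_of_mem_minimalPrimes _ hhom hQ
  haveI hQp : Q.IsPrime := hQ.1.1
  have key := Groth.Agent.Lib.AffIntH8.affine_dimension_theorem k (n + 1)
    x.asHomogeneousIdeal.toIdeal y.asHomogeneousIdeal.toIdeal Q hQ
  rw [← coheight_add_one, ← coheight_add_one, hxr, hys] at key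
  obtain ⟨t, ht, -⟩ := exists_dim_quotient k _ Q
  rw [ht] at key
  have key' : (r + 1) + (s + 1) ≤ t + (n + 1) := by
    have h1 : (((r : ℕ∞) : WithBot ℕ∞) + 1 + (((s : ℕ∞) : WithBot ℕ∞) + 1)) =
        (((r + 1 + (s + 1) : ℕ)) : WithBot ℕ∞) := by push_cast; rfl
    have h2 : ((t : WithBot ℕ∞) + ((n + 1 : ℕ) : WithBot ℕ∞)) = ((t + (n + 1) : ℕ) : WithBot ℕ∞) := by
      push_cast; rfl
    rw [h1, h2] at key
    exact_mod_cast key
  have hne : Q ≠ (irrelevant (CohB1.polyGrading n k)).toIdeal := by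
    intro h
    rw [h, ringKrullDim_quotient_irrelevant] at ht
    have : (0 : ℕ) = t := by exact_mod_cast ht
    omega
  let q := pointOf k n Q hQh hQp hne
  have hxq : x ≤ q := le_sup_left.trans hQ.1.2
  have hyq : y ≤ q := le_sup_right.trans hQ.1.2
  have hqXY : q ∈ X ∩ Y :=
    ⟨mem_of_le_of_isClosed _ hX hxq hxX, mem_of_le_of_isClosed _ hY hyq hyY⟩
  refine ⟨⟨q, hqXY⟩, ?_⟩
  have h3 := coheight_add_one q
  rw [pointOf_toIdeal, ht] at h3
  obtain ⟨c, hc⟩ : ∃ c : ℕ, Order.coheight q = c := by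
    have h4 : ((Order.coheight q + 1 : ℕ∞) : WithBot ℕ∞) = ((t : ℕ∞) : WithBot ℕ∞) := by
      push_cast; exact h3
    have h5 : Order.coheight q + 1 = (t : ℕ∞) := by exact_mod_cast h4
    have : Order.coheight q ≠ ⊤ := by
      intro htop
      rw [htop] at h5
      simp at h5
    exact (ENat.ne_top_iff_exists.mp this).imp fun _ h => h.symm
  rw [hc] at h3
  have hct : c + 1 = t := by
    have : (((c + 1 : ℕ) : ℕ∞) : WithBot ℕ∞) = ((t : ℕ∞) : WithBot ℕ∞) := by
      push_cast; exact h3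
    exact_mod_cast this
  have h6 := coheight_le_dim_of_mem _ _ (hX.inter hY) q hqXY
  rw [hc] at h6
  calc ((r + s : ℕ) : WithBot ℕ∞) ≤ ((c + n : ℕ) : WithBot ℕ∞) := by
        exact_mod_cast (by omega : r + s ≤ c + n)
    _ = ((c : ℕ∞) : WithBot ℕ∞) + (n : WithBot ℕ∞) := by push_cast; rfl
    _ ≤ topologicalKrullDim ↥(X ∩ Y) + (n : WithBot ℕ∞) := by gcongr

end Groth.Agent.Lib.ProjDimH8
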