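import Mathlib
import Groth.Prelude
import Groth.Agent.Lib.CIsec4_helper9
import Groth.Agent.Lib.CIsec5_helper9

/-!
# Complete intersections in projective space: the restriction sequences (helper9)
APPEND-ONLY once landed.  Towards S14332, S14333, S14334.
-/

set_option autoImplicit false
set_option linter.style.haveILetI false
universe u
open CategoryTheory CategoryTheory.Limits AlgebraicGeometry TopologicalSpace Opposite MvPolynomial

namespace Groth.Agent.CIsec

open Groth.Agent.HypIdeal Groth.Agent.ProjCech Groth.Agent.ProjHom QCohExtn QcqsLoc SerreCrit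
open GenLocH8 PBH8

section Mul

variable {n : ℕ} {k : Type u} [Field k] {d : ℕ} (F : LefPen.Form n k d)

/-- multiplication by `F` as a morphism `O(i - d) ⟶ O(i)` -/
noncomputable def mulTw (i : ℤ) :
    Twist.twistProjSpace n k (i - d) ⟶ Twist.twistProjSpace n k i :=
  (exists_mulBy (n := n) (R := k) (i - d) i d (by omega) F).choose

theorem isMulBy_mulTw (i : ℤ) : IsMulBy (mulTw F i) F.1 :=
  (exists_mulBy (n := n) (R := k) (i - d) i d (by omega) F).choose_spec

/-- the generator `T_j^m` of `O(m)` over the chart `D_+(T_j)` -/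
noncomputable def genTw (m : ℤ) (j : Fin (n + 1)) :
    Γ(Twist.twistProjSpace n k m, LefPen.chart n k j) :=
  Groth.Agent.ProjTw.genSecK (𝒜 n k) (LefPen.X_mem n k j) m m (by simp)

theorem isGen_genTw (m : ℤ) (j : Fin (n + 1)) :
    IsGen (Twist.twistProjSpace n k m) (LefPen.chart n k j) (genTw (k := k) m j) :=
  Groth.Agent.ProjTw.isGen_genSecK (𝒜 n k) one_pos (LefPen.X_mem n k j) m m (by simp)

theorem pow_toNat_notMem (m : ℤ) (j : Fin (n + 1)) (x : LefPen.chart n k j) :
    (X j : MvPolynomial (Fin (n + 1)) k) ^ m.toNat ∈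
      (x.1 : ProjectiveSpectrum (𝒜 n k)).asHomogeneousIdeal.toIdeal.primeCompl :=
  fun h => x.2 ((x.1 : ProjectiveSpectrum (𝒜 n k)).isPrime.mem_of_pow_mem _ h)

theorem val_genTw (m : ℤ) (j : Fin (n + 1)) (x : LefPen.chart n k j) :
    val (n := n) (R := k) (d := m) (genTw (k := k) m j) x =
      Localization.mk ((X j : MvPolynomial (Fin (n + 1)) k) ^ m.toNat)
        ⟨(X j : MvPolynomial (Fin (n + 1)) k) ^ (-m).toNat, pow_toNat_notMem (-m) j x⟩ := rfl

/-- **multiplication by `F` in terms of the generators on a standard chart** -/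
theorem ap_mulTw_genTw (i : ℤ) (j : Fin (n + 1)) :
    ap (mulTw F i) (LefPen.chart n k j) (genTw (i - d) j) =
      LefPen.dehom F j • genTw (k := k) i j := by
  apply ext_val (n := n) (R := k) (d := i)
  intro x
  refine (isMulBy_mulTw F i (LefPen.chart n k j) (genTw (i - d) j) x).trans ?_
  refine Eq.trans ?_ (val_smul (n := n) (R := k) (d := i) (LefPen.dehom F j) (genTw i j) x).symm
  rw [valO_dehom, val_genTw, val_genTw, Localization.mk_mul, Localization.mk_mul,
    Localization.mk_eq_mk_iff, Localization.r_iff_exists]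
  refine ⟨1, ?_⟩
  simp only [Submonoid.coe_mul, Submonoid.coe_one, one_mul]
  have h1 : (i - (d : ℤ)).toNat + (d + (-i).toNat) = i.toNat + (-(i - (d : ℤ))).toNat := by omega
  calc (X j : MvPolynomial (Fin (n + 1)) k) ^ d * X j ^ (-i).toNat * (F.1 * X j ^ (i - (d : ℤ)).toNat)
      = F.1 * X j ^ ((i - (d : ℤ)).toNat + (d + (-i).toNat)) := by
        rw [pow_add, pow_add]; ring
    _ = F.1 * X j ^ (i.toNat + (-(i - (d : ℤ))).toNat) := by rw [h1]
    _ = X j ^ (-(i - (d : ℤ))).toNat * (F.1 * X j ^ i.toNat) := by rw [pow_add]; ring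

end Mul

section Gen

theorem map_pullSect {P Y : Scheme.{u}} (ι : Y ⟶ P) {M N : P.Modules} (φ : M ⟶ N) (U : P.Opens)
    (s : Γ(M, U)) :
    ap ((Scheme.Modules.pullback ι).map φ) (ι ⁻¹ᵁ U) (OmegaSh.pullSect ι M U s) =
      OmegaSh.pullSect ι N U (ap φ U s) := by
  have h1 := (Scheme.Modules.pullbackPushforwardAdjunction ι).unit.naturality φ
  have h2 := congrArg (fun ψ => (Scheme.Modules.Hom.app ψ U) s) h1
  exact h2.symm

/-- the ideal of a closed subscheme `V(J)` inside `V(I)`, `I ≤ J` -/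
theorem ker_inclusion_ideal {P : Scheme.{u}} {I J : P.IdealSheafData} (h : I ≤ J)
    (U : P.affineOpens) :
    (Scheme.IdealSheafData.inclusion h).ker.ideal
      ⟨I.subschemeι ⁻¹ᵁ U.1, U.2.preimage I.subschemeι⟩ =
      (J.ideal U).map (I.subschemeι.app U.1).hom := by
  rw [Scheme.Hom.ker_apply]
  have hsurj : Function.Surjective (I.subschemeι.app U.1).hom :=
    I.subschemeι.app_surjective U.1 U.2
  have h1 : (Scheme.IdealSheafData.inclusion h ≫ I.subschemeι).ker = J := by
    rw [Scheme.IdealSheafData.inclusion_subschemeι, Scheme.IdealSheafData.ker_subschemeι]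
  have h2 : RingHom.ker ((Scheme.IdealSheafData.inclusion h ≫ I.subschemeι).app U.1).hom =
      J.ideal U := by
    rw [← Scheme.Hom.ker_apply, h1]
  have h2' : RingHom.ker (((Scheme.IdealSheafData.inclusion h).app
      (I.subschemeι ⁻¹ᵁ U.1)).hom.comp (I.subschemeι.app U.1).hom) = J.ideal U := h2
  rw [← RingHom.comap_ker] at h2'
  rw [← h2', Ideal.map_comap_of_surjective _ hsurj]

end Gen

section CI

variable {n : ℕ} {k : Type u} [Field k]

/-- the local data of the restriction sequence over the preimage of a standard chart -/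
noncomputable def locData (I J : (CohB1.ProjSpace n k).IdealSheafData) (h : I ≤ J) {d : ℕ}
    (F : LefPen.Form n k d) (i : ℤ) (j : Fin (n + 1))
    (hJ : J.ideal ⟨LefPen.chart n k j, isAffineOpen_chart k n j⟩ =
      I.ideal ⟨LefPen.chart n k j, isAffineOpen_chart k n j⟩ ⊔ Ideal.span {LefPen.dehom F j})
    (hnzd : ∀ (y : I.subscheme) (hy : I.subschemeι y ∈ LefPen.chart n k j)
      (c : I.subscheme.presheaf.stalk y),
      (I.subscheme.presheaf.germ (I.subschemeι ⁻¹ᵁ LefPen.chart n k j) y hy).hom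
        ((I.subschemeι.app (LefPen.chart n k j)).hom (LefPen.dehom F j)) * c = 0 → c = 0) :
    LocData (Scheme.IdealSheafData.inclusion h)
      ((Scheme.Modules.pullback I.subschemeι).map (mulTw F i))
      (I.subschemeι ⁻¹ᵁ LefPen.chart n k j) where
  hV := (isAffineOpen_chart k n j).preimage I.subschemeι
  γ' := cUV I.subschemeι (Twist.twistProjSpace n k (i - d))
    (le_rfl : I.subschemeι ⁻¹ᵁ LefPen.chart n k j ≤ I.subschemeι ⁻¹ᵁ LefPen.chart n k j)
    (genTw (i - d) j)
  γ := cUV I.subschemeι (Twist.twistProjSpace n k i)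
    (le_rfl : I.subschemeι ⁻¹ᵁ LefPen.chart n k j ≤ I.subschemeι ⁻¹ᵁ LefPen.chart n k j)
    (genTw i j)
  f := (I.subschemeι.app (LefPen.chart n k j)).hom (LefPen.dehom F j)
  hγ' := TensH8.isGen_cUV I.subschemeι (Groth.Agent.Horrocks.isInvertible_OO n k (i - d))
    (isAffineOpen_chart k n j) (isGen_genTw (i - d) j)
  hγ := TensH8.isGen_cUV I.subschemeι (Groth.Agent.Horrocks.isInvertible_OO n k i)
    (isAffineOpen_chart k n j) (isGen_genTw i j)
  hψ := by
    rw [cUV_eq_pullSect, cUV_eq_pullSect, map_pullSect, ap_mulTw_genTw, OmegaSh.pullSect_smul]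
  hker := by
    rw [ker_inclusion_ideal h ⟨LefPen.chart n k j, isAffineOpen_chart k n j⟩, hJ, Ideal.map_sup,
      Ideal.map_span, Set.image_singleton]
    have h0 : (I.ideal ⟨LefPen.chart n k j, isAffineOpen_chart k n j⟩).map
        (I.subschemeι.app (LefPen.chart n k j)).hom = ⊥ := by
      rw [Ideal.map_eq_bot_iff_le_ker,
        Scheme.IdealSheafData.ker_subschemeι_app I ⟨LefPen.chart n k j, isAffineOpen_chart k n j⟩]
    rw [h0, bot_sup_eq]
  hnzd := hnzd

/-- **the restriction sequence `0 → O_Y(i - d) → O_Y(i) → κ_* O_X(i) → 0` for the hypersurface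
section `X = Y ∩ V(F)` of `Y = V(I)`** -/
theorem exists_ses (I J : (CohB1.ProjSpace n k).IdealSheafData) (h : I ≤ J) {d : ℕ}
    (F : LefPen.Form n k d)
    (hJ : ∀ j, J.ideal ⟨LefPen.chart n k j, isAffineOpen_chart k n j⟩ =
      I.ideal ⟨LefPen.chart n k j, isAffineOpen_chart k n j⟩ ⊔ Ideal.span {LefPen.dehom F j})
    (hnzd : ∀ (j : Fin (n + 1)) (y : I.subscheme) (hy : I.subschemeι y ∈ LefPen.chart n k j)
      (c : I.subscheme.presheaf.stalk y),
      (I.subscheme.presheaf.germ (I.subschemeι ⁻¹ᵁ LefPen.chart n k j) y hy).hom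
        ((I.subschemeι.app (LefPen.chart n k j)).hom (LefPen.dehom F j)) * c = 0 → c = 0)
    (i : ℤ) :
    ∃ (ψ : (Scheme.Modules.pullback I.subschemeι).obj (Twist.twistProjSpace n k (i - d)) ⟶
        (Scheme.Modules.pullback I.subschemeι).obj (Twist.twistProjSpace n k i))
      (w : ψ ≫ unitMap (Scheme.IdealSheafData.inclusion h)
        ((Scheme.Modules.pullback I.subschemeι).obj (Twist.twistProjSpace n k i)) = 0),
      (ShortComplex.mk ψ (unitMap (Scheme.IdealSheafData.inclusion h)
        ((Scheme.Modules.pullback I.subschemeι).obj (Twist.twistProjSpace n k i))) w).ShortExact := by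
  refine ⟨(Scheme.Modules.pullback I.subschemeι).map (mulTw F i), ?_⟩
  apply shortExact_of_locData (Scheme.IdealSheafData.inclusion h)
    ((Scheme.Modules.pullback I.subschemeι).map (mulTw F i))
    (TensH8.isInvertible_pullback I.subschemeι (Groth.Agent.Horrocks.isInvertible_OO n k i))
  intro y
  obtain ⟨j, hj⟩ := chart_cover (I.subschemeι y)
  exact ⟨I.subschemeι ⁻¹ᵁ LefPen.chart n k j, hj, ⟨locData I J h F i j (hJ j) (hnzd j)⟩⟩

end CI

end Groth.Agent.CIsec
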