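import Mathlib
import Groth.Prelude
import Groth.Agent.Lib.CIsec6_helper9
import Groth.Agent.Lib.Snap25_helper9
import Groth.Agent.Lib.ProjDual2_helper9
import Groth.Agent.Lib.ClImmTw1_helper9
import Groth.Agent.Lib.HHVan_helper9
import Groth.Agent.Lib.LimHomGlue_helper2
import Groth.Agent.Lib.PrinPart1_helper6
import Groth.Agent.S0844

/-!
# Complete intersections in projective space: cohomology of the twists (helper9)
APPEND-ONLY once landed.  Towards S14332, S14333, S14334.
-/

set_option autoImplicit false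
set_option linter.style.haveILetI false
universe u
open CategoryTheory CategoryTheory.Limits AlgebraicGeometry TopologicalSpace Opposite MvPolynomial

namespace Groth.Agent.CIsec

open QCohExtn QcqsLoc SerreCrit Groth.Agent.Lib.LimMod

section Surj

/-- surjectivity on global sections when `H^1` of the kernel vanishes -/
theorem surjective_ap_top (k : Type u) [Field k] {X : Scheme.{u}}
    [X.Over (Spec (CommRingCat.of k))] (S : ShortComplex X.Modules) (hS : S.ShortExact)
    (h1 : Subsingleton (Coh.HH X S.X₁ 1)) : Function.Surjective (ap S.g ⊤) := by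
  have hinj : Function.Injective (Canon.HHlin k S.f (0 + 1)) :=
    fun a b _ => Subsingleton.elim (h := h1) a b
  have hK := Snap9.surjective_HHlin_g_of_injective k S hS 0 hinj
  intro q
  obtain ⟨w, hw⟩ := hK ((Groth.Agent.ProjDual.h0 _).symm q)
  refine ⟨Groth.Agent.ProjDual.h0 _ w, ?_⟩
  have key := Groth.Agent.ProjDual.h0_nat S.g w
  rw [key]
  have hw' : Groth.Agent.HHVan.hmap S.g 0 w = (Groth.Agent.ProjDual.h0 _).symm q := hw
  rw [hw', AddEquiv.apply_symm_apply]

end Surj

section Good

variable (k : Type u) [Field k] (n : ℕ)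

/-- the cohomological properties of a closed subscheme of codimension `c` in `P^n` -/
structure Good (c : ℕ) {Y : Scheme.{u}} (ι : Y ⟶ CohB1.ProjSpace n k) : Prop where
  vanish : ∀ (i : ℤ) (p : ℕ), 0 < p → p < n - c →
    Subsingleton (Coh.HH Y ((Scheme.Modules.pullback ι).obj (Twist.twistProjSpace n k i)) p)
  surj : 1 ≤ n - c → ∀ i : ℤ, Function.Surjective (unitSec ι (Twist.twistProjSpace n k i) ⊤)

variable {k n}

theorem good_of_isIso {Y : Scheme.{u}} (ι : Y ⟶ CohB1.ProjSpace n k) [IsIso ι] : Good k n 0 ι where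
  vanish i p hp0 hpn := by
    have h : Subsingleton (Coh.HH (CohB1.ProjSpace n k) (Twist.twistProjSpace n k i) p) :=
      Groth.Agent.S0844.result k n i p (fun h => by omega) (fun h => by omega)
    haveI := Groth.Agent.Lib.PrinPart1H6.isIso_unit_app ι (Twist.twistProjSpace n k i)
    have h2 := Groth.Agent.HHVan.subsingleton_of_iso
      (asIso ((Scheme.Modules.pullbackPushforwardAdjunction ι).unit.app
        (Twist.twistProjSpace n k i))) p h
    exact Groth.Agent.ClImmTw.subsingleton_HH_of_push ι _ p h2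
  surj _ i := (Groth.Agent.Lib.PrinPart1H6.pullSect_bijective ι (Twist.twistProjSpace n k i) ⊤).2

/-- **the inductive step**: from `Y` to a closed subscheme `X` of `Y` with restriction sequences
`0 → O_Y(i - d) → O_Y(i) → κ_* O_X(i) → 0` -/
theorem good_step {Y X : Scheme.{u}} (ι : Y ⟶ CohB1.ProjSpace n k) (κ : X ⟶ Y)
    [IsClosedImmersion κ] (c d : ℕ) (hG : Good k n c ι)
    (hses : ∀ i : ℤ, ∃ (ψ : (Scheme.Modules.pullback ι).obj (Twist.twistProjSpace n k (i - d)) ⟶
        (Scheme.Modules.pullback ι).obj (Twist.twistProjSpace n k i))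
      (w : ψ ≫ unitMap κ ((Scheme.Modules.pullback ι).obj (Twist.twistProjSpace n k i)) = 0),
      (ShortComplex.mk ψ (unitMap κ
        ((Scheme.Modules.pullback ι).obj (Twist.twistProjSpace n k i))) w).ShortExact) :
    Good k n (c + 1) (κ ≫ ι) where
  vanish i p hp0 hpn := by
    obtain ⟨ψ, w, hS⟩ := hses i
    have h2 := hG.vanish i p hp0 (by omega)
    have h1 := hG.vanish (i - d) (p + 1) (by omega) (by omega)
    have h3 := Groth.Agent.HHVan.subsingleton_right (ShortComplex.mk ψ _ w) hS p h2 h1
    have h4 := Groth.Agent.ClImmTw.subsingleton_HH_of_push κ _ p h3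
    exact Groth.Agent.HHVan.subsingleton_of_iso
      ((Scheme.Modules.pullbackComp κ ι).app (Twist.twistProjSpace n k i)) p h4
  surj h1 i := by
    obtain ⟨ψ, w, hS⟩ := hses i
    letI : Y.Over (Spec (CommRingCat.of k)) := ⟨ι ≫ CohB1.ProjSpace.toSpec n k⟩
    have hH1 := hG.vanish (i - d) 1 one_pos (by omega)
    have hsurjκ := surjective_ap_top k (ShortComplex.mk ψ _ w) hS hH1
    have hsurjι := hG.surj (by omega) i
    intro t
    obtain ⟨u, hu⟩ := hsurjκ
      (((Scheme.Modules.pullbackComp κ ι).inv.app (Twist.twistProjSpace n k i)).app ⊤ t)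
    obtain ⟨s, hs⟩ := hsurjι u
    refine ⟨s, ?_⟩
    have key := pullbackComp_unit κ ι (Twist.twistProjSpace n k i) ⊤ s
    refine key.symm.trans ?_
    rw [hs]
    have hu' : unitSec κ ((Scheme.Modules.pullback ι).obj (Twist.twistProjSpace n k i)) ⊤ u =
        ((Scheme.Modules.pullbackComp κ ι).inv.app (Twist.twistProjSpace n k i)).app ⊤ t := hu
    refine (congrArg (fun z => ((Scheme.Modules.pullbackComp κ ι).hom.app
      (Twist.twistProjSpace n k i)).app ⊤ z) hu').trans ?_
    have h3 : (Scheme.Modules.pullbackComp κ ι).inv.app (Twist.twistProjSpace n k i) ≫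
        (Scheme.Modules.pullbackComp κ ι).hom.app (Twist.twistProjSpace n k i) = 𝟙 _ :=
      Iso.inv_hom_id_app _ _
    exact congrArg (fun φ => (Scheme.Modules.Hom.app φ ⊤) t) h3

/-- **the cohomology of the twists on a global complete intersection in `P^n`** -/
theorem good_ci : ∀ (r : ℕ) (a : Fin r → ℕ) (_ : ∀ j, 1 ≤ a j)
    (G : ∀ j : Fin r, LefPen.Form n k (a j)) (_ : r ≤ n)
    (_ : topologicalKrullDim ↥(LefPen.ciIdeal G).subscheme = ((n - r : ℕ) : WithBot ℕ∞)),
    Good k n r (LefPen.ciIdeal G).subschemeι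
  | 0, a, _, G, _, _ => by
    have h0 : LefPen.ciIdeal G = ⊥ := by
      unfold LefPen.ciIdeal
      exact iSup_of_empty _
    haveI : IsIso (LefPen.ciIdeal G).subschemeι := by
      rw [h0]
      infer_instance
    exact good_of_isIso _
  | r + 1, a, ha, G, hr, hdim => by
    have hdimY := dim_castSucc n r hr a ha G hdim
    have hY := good_ci r (fun j => a j.castSucc) (fun j => ha _) (fun j => G j.castSucc)
      (by omega) hdimY
    have hle : LefPen.ciIdeal (fun j : Fin r => G j.castSucc) ≤ LefPen.ciIdeal G := by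
      rw [ciIdeal_succ k n G]
      exact le_sup_left
    have hJ : ∀ j, (LefPen.ciIdeal G).ideal ⟨LefPen.chart n k j, isAffineOpen_chart k n j⟩ =
        (LefPen.ciIdeal (fun j : Fin r => G j.castSucc)).ideal
          ⟨LefPen.chart n k j, isAffineOpen_chart k n j⟩ ⊔
          Ideal.span {LefPen.dehom (G (Fin.last r)) j} := by
      intro j
      rw [ciIdeal_succ k n G, Scheme.IdealSheafData.ideal_sup, Pi.sup_apply,
        hypIdeal_ideal_chart]
    have hses := fun i : ℤ => exists_ses (LefPen.ciIdeal (fun j : Fin r => G j.castSucc))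
      (LefPen.ciIdeal G) hle (G (Fin.last r)) hJ
      (fun j y hy c hc => nzd_germ (LefPen.ciIdeal (fun j : Fin r => G j.castSucc))
        (fun j i => LefPen.dehom (G i.castSucc) j)
        (fun j => ciIdeal_ideal_chart (fun j : Fin r => G j.castSucc) j) (G (Fin.last r)) hr
        ((dim_section G).trans hdim) j y hy c hc) i
    have h3 := good_step (LefPen.ciIdeal (fun j : Fin r => G j.castSucc)).subschemeι
      (Scheme.IdealSheafData.inclusion hle) r (a (Fin.last r)) hY hses
    rw [Scheme.IdealSheafData.inclusion_subschemeι] at h3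
    exact h3

end Good

end Groth.Agent.CIsec
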