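import Mathlib
import Groth.Prelude
import Groth.Agent.Lib.FLF8_helper8

set_option autoImplicit false
set_option linter.style.haveILetI false
set_option linter.unusedVariables false

universe u

open CategoryTheory CategoryTheory.Limits AlgebraicGeometry TopologicalSpace Opposite

namespace Groth.Agent.Lib.CoverRankH4

theorem rankAtStalk_transfer {A B N : Type u} [CommRing A] [CommRing B] [AddCommGroup N]
    [Module A N] (ψ : A →+* B) (e : N ≃+ B) (hsm : ∀ (a : A) (n : N), e (a • n) = ψ a * e n)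
    (p : PrimeSpectrum A) :
    ψ.finrank p = Module.rankAtStalk (R := A) N p := by
  letI := ψ.toAlgebra
  have hsm' : ∀ (a : A) (n : N), e (a • n) = a • e n := fun a n => hsm a n
  let eL : N ≃ₗ[A] B := { e with map_smul' := hsm' }
  have h2 : ψ.finrank = Module.rankAtStalk (R := A) B := by
    rw [← RingHom.algebraMap_toAlgebra ψ]; exact RingHom.finrank_algebraMap
  rw [h2]
  exact (congrFun (Module.rankAtStalk_eq_of_equiv eL) p).symm

variable {X Y : Scheme.{u}} (f : X ⟶ Y)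

theorem finrank_eq_rankAtStalk [IsFinite f] [Flat f] {V : Y.Opens} (hV : IsAffineOpen V) (y : Y)
    (hy : y ∈ V) :
    f.finrank y = Module.rankAtStalk (R := Γ(Y, V)) Γ(FLFH8.pushO f, V)
      (hV.primeIdealOf ⟨y, hy⟩) := by
  have hU : IsAffineOpen (f ⁻¹ᵁ V) := hV.preimage f
  have hcomm : hU.fromSpec ≫ f = Spec.map (f.app V) ≫ hV.fromSpec := by
    rw [Scheme.Hom.app_eq_appLE]
    exact (IsAffineOpen.SpecMap_appLE_fromSpec f hV hU le_rfl).symm
  have hsq : IsPullback (Spec.map (f.app V)) hU.fromSpec hV.fromSpec f :=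
    IsOpenImmersion.isPullback _ _ _ _ hcomm
      (by rw [hV.opensRange_fromSpec, hU.opensRange_fromSpec])
  have h1 : Scheme.Hom.finrank (Spec.map (f.app V)) (hV.primeIdealOf ⟨y, hy⟩) = f.finrank y := by
    have h0 := Scheme.Hom.finrank_of_isPullback hU.fromSpec (Spec.map (f.app V)) f hV.fromSpec
      hsq.flip (hV.primeIdealOf ⟨y, hy⟩)
    rw [hV.fromSpec_primeIdealOf ⟨y, hy⟩] at h0
    exact h0
  have hfin : (f.app V).hom.Finite := f.finite_app V hV
  have hflat : (f.app V).hom.Flat := by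
    rw [Scheme.Hom.app_eq_appLE]
    exact HasRingHomProperty.appLE (P := @Flat) f inferInstance ⟨V, hV⟩ ⟨_, hU⟩ le_rfl
  rw [Scheme.Hom.finrank_SpecMap_eq_finrank hfin hflat] at h1
  rw [← h1]
  exact rankAtStalk_transfer (N := Γ(FLFH8.pushO f, V)) (B := Γ(X, f ⁻¹ᵁ V)) (f.app V).hom
    (AddEquiv.refl _) (fun _ _ => rfl) _

theorem finrank_eq_stalk [IsFinite f] [Flat f] (y : Y) :
    f.finrank y = Module.finrank (Y.presheaf.stalk y) ((FLFH8.pushO f).presheaf.stalk y) := by
  obtain ⟨_, ⟨V, hV : IsAffineOpen V, rfl⟩, hyV, -⟩ :=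
    (Y.isBasis_affineOpens).exists_subset_of_mem_open (Set.mem_univ y) isOpen_univ
  haveI := FLFH8.isQuasicoherent_pushO f
  rw [finrank_eq_rankAtStalk f hV y hyV, FLFH8.rankAtStalk_sections (FLFH8.pushO f) hV hyV]

theorem stalk_finrank_of_iso (F : Y.Modules) [F.IsQuasicoherent] {U : Y.Opens} {n : ℕ} {y : Y}
    (hyU : y ∈ U) (α : F.restrict U.ι ≅ FlatMod.freeMod (↑U) n) :
    Module.finrank (Y.presheaf.stalk y) (F.presheaf.stalk y) = n := by
  obtain ⟨W, hW, hyW, -, t, ht⟩ := FLFH8.exists_affine_bases F hyU α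
  obtain ⟨h1, h2⟩ := FLFH8.BasisOn.self F t (ht W le_rfl)
  exact (FLFH8.free_stalk_of_basis F hW hyW t h1 h2).2

theorem main19692 {X Y : Scheme.{u}} (f : X ⟶ Y) (d : ℕ) :
    FinCov.IsCover f d ↔
      IsAffineHom f ∧ FlatMod.IsFinLocFreeOfRank d ((Scheme.Modules.pushforward f).obj (Coh.structureModule X)) := by
  constructor
  · rintro ⟨hflf, hrank⟩
    obtain ⟨haff, hF⟩ := (FLFH8.isFinLocFree_iff f).mpr hflf
    haveI := haff
    haveI := hflf.1
    haveI := hflf.2.1
    haveI := FLFH8.isQuasicoherent_pushO f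
    refine ⟨haff, fun y => ?_⟩
    obtain ⟨U, n, hyU, ⟨α⟩⟩ := hF y
    have hn : Module.finrank (Y.presheaf.stalk y) ((FLFH8.pushO f).presheaf.stalk y) = n :=
      stalk_finrank_of_iso _ hyU α
    have hd : f.finrank y =
        Module.finrank (Y.presheaf.stalk y) ((FLFH8.pushO f).presheaf.stalk y) :=
      finrank_eq_stalk f y
    have hnd : n = d := by rw [← hn, ← hd]; exact hrank y
    subst hnd
    exact ⟨U, hyU, ⟨α⟩⟩
  · rintro ⟨haff, hF⟩
    haveI := haff
    have hF' : FlatMod.IsFinLocFree (FLFH8.pushO f) := FLFH8.IsFinLocFreeOfRank.isFinLocFree _ hF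
    have hflf : Mor2.IsFinLocFree f := (FLFH8.isFinLocFree_iff f).mp ⟨haff, hF'⟩
    haveI := hflf.1
    haveI := hflf.2.1
    refine ⟨hflf, fun y => ?_⟩
    rw [finrank_eq_stalk f y]
    exact (FLFH8.free_stalk_of_finLocFreeOfRank _ hF y).2

end Groth.Agent.Lib.CoverRankH4
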