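import Mathlib
import Groth.Prelude
import Groth.Agent.Lib.ConnIrr1_helper8
import Groth.Agent.Lib.Regular_helper5
import Groth.Agent.S1535

/-!
# Euler characteristics of finite étale covers of curves, part 1: clopen pieces (helper9)

A locally Noetherian scheme whose local rings are domains (e.g. a scheme smooth over a field) is,
locally around any point, an open and closed integral subscheme.
APPEND-ONLY once landed.
-/

set_option autoImplicit false
universe u
open CategoryTheory CategoryTheory.Limits AlgebraicGeometry Opposite TopologicalSpace

namespace FEtEuler9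

/-- every point of a locally Noetherian scheme with integral local rings has an open and closed
irreducible neighbourhood -/
theorem exists_clopen_irreducible (X : Scheme.{u}) [IsLocallyNoetherian X]
    (h : ∀ x : X, IsDomain (X.presheaf.stalk x)) (x₀ : X) :
    ∃ U : X.Opens, x₀ ∈ U ∧ IsClosed (U : Set X) ∧ IsIrreducible (U : Set X) := by
  have hW : ∀ x : X, ∃ W : X.Opens, x ∈ W ∧ IsIrreducible (W : Set X) := fun x => by
    haveI := h x
    exact ConnIrrH8.exists_irreducible_open_nhds X x
  choose W hxW hWirr using hW
  have hZopen : IsOpen (closure (W x₀ : Set X)) := by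
    rw [isOpen_iff_forall_mem_open]
    intro y hy
    refine ⟨W y, ?_, (W y).isOpen, hxW y⟩
    have hne : ((W y : Set X) ∩ W x₀).Nonempty :=
      mem_closure_iff.mp hy (W y) (W y).isOpen (hxW y)
    calc (W y : Set X) ⊆ closure ((W y : Set X) ∩ W x₀) :=
          subset_closure_inter_of_isPreirreducible_of_isOpen (hWirr y).isPreirreducible
            (W x₀).isOpen hne
      _ ⊆ closure (W x₀) := closure_mono Set.inter_subset_right
  exact ⟨⟨closure (W x₀), hZopen⟩, subset_closure (hxW x₀), isClosed_closure, (hWirr x₀).closure⟩

/-- the inclusion of an open and closed subscheme is a closed immersion -/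
theorem isClosedImmersion_ι {X : Scheme.{u}} (U : X.Opens) (hU : IsClosed (U : Set X)) :
    IsClosedImmersion U.ι :=
  IsClosedImmersion.of_isPreimmersion U.ι (by rw [Scheme.Opens.range_ι]; exact hU)

/-- an irreducible open subscheme of a scheme with integral local rings is integral -/
theorem isIntegral_opens (X : Scheme.{u}) (h : ∀ x : X, IsDomain (X.presheaf.stalk x))
    (U : X.Opens) (hU : IsIrreducible (U : Set X)) : IsIntegral (U : Scheme.{u}) := by
  haveI : IrreducibleSpace ↥(U : Scheme.{u}) := Subtype.irreducibleSpace hU
  haveI : IsReduced X := by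
    haveI : ∀ x : ↥X, _root_.IsReduced (X.presheaf.stalk x) := fun x => by
      haveI := h x
      infer_instance
    exact isReduced_of_isReduced_stalk X
  exact isIntegral_of_irreducibleSpace_of_isReduced _

/-- the local rings of a scheme smooth over a field are domains -/
theorem isDomain_stalk_of_smooth (k : Type u) [Field k] (X : Scheme.{u})
    (q : X ⟶ Spec (CommRingCat.of k)) [Smooth q] (x : X) : IsDomain (X.presheaf.stalk x) := by
  letI : X.Over (Spec (CommRingCat.of k)) := ⟨q⟩
  haveI : Smooth (X ↘ Spec (CommRingCat.of k)) := ‹Smooth q›
  haveI := Groth.Agent.S1535.result k X x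
  exact Groth.Agent.RegularLib.isDomain _

end FEtEuler9
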