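import Mathlib
import Groth.Prelude
import Groth.Agent.Lib.BasisHom_helper7
import Groth.Agent.Lib.AffVanish_helper9
import Groth.Agent.Lib.BirCurve3_helper9

/-!
# Euler characteristics of finite étale covers of curves, part 2: open and closed decompositions
(helper9)

For complementary open subschemes `A`, `B` of a scheme `W`, the structure sheaf of `W` is the
direct sum of the direct images of the structure sheaves of `A` and `B`; consequently
`χ(O_W) = χ(O_A) + χ(O_B)` for `W` proper over a field.
APPEND-ONLY once landed.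
-/

set_option autoImplicit false
universe u
open CategoryTheory CategoryTheory.Limits AlgebraicGeometry Opposite TopologicalSpace

namespace FEtEuler9

open QcqsLoc QCohExtn SerreCrit

variable {W : Scheme.{u}}

/-- the direct image of the structure sheaf of an open subscheme -/
noncomputable abbrev pushOpen (A : W.Opens) : W.Modules :=
  (Scheme.Modules.pushforward A.ι).obj (OO (A : Scheme.{u}))

/-- the opens of `W` over which the sections of `pushOpen A` over `V` live -/
abbrev openOf (A V : W.Opens) : W.Opens := A.ι ''ᵁ (A.ι ⁻¹ᵁ V)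

theorem openOf_eq (A V : W.Opens) : openOf A V = A ⊓ V := by
  show A.ι ''ᵁ (A.ι ⁻¹ᵁ V) = A ⊓ V
  rw [Scheme.Hom.image_preimage_eq_opensRange_inf, Scheme.Opens.opensRange_ι]

theorem openOf_le (A V : W.Opens) : openOf A V ≤ V := by
  rw [openOf_eq]; exact inf_le_right

theorem ap_unitToPush (A V : W.Opens) (s : Γ(OO W, V)) :
    (ap (ClSub.unitToPush A.ι) V s : Γ(W, openOf A V)) = rX (openOf_le A V) (toFn s) := by
  show (A.ι.app V).hom s = _
  rw [Scheme.Opens.ι_app]
  rfl

/-- the abelian sheaf underlying the structure sheaf -/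
noncomputable abbrev FO (W : Scheme.{u}) : TopCat.Sheaf AddCommGrpCat.{u} W.carrier :=
  ⟨(OO W).presheaf, (OO W).isSheaf⟩

theorem rs_eq {V' V : W.Opens} (h : V' ≤ V) (s : Γ(OO W, V)) :
    AffVanish.rs (FO W) h s = rX h (toFn s) := rfl

section Compl

variable (A B : W.Opens) (hAB : IsCompl A B)

include hAB in
theorem le_sup_openOf (V : W.Opens) : V ≤ openOf A V ⊔ openOf B V := by
  rw [openOf_eq, openOf_eq, ← inf_sup_right, hAB.sup_eq_top, top_inf_eq]

include hAB in
theorem openOf_inf_eq_bot (V : W.Opens) : openOf A V ⊓ openOf B V = ⊥ := by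
  rw [openOf_eq, openOf_eq]
  have h1 : A ⊓ V ⊓ (B ⊓ V) ≤ A ⊓ B := le_inf (inf_le_left.trans inf_le_left)
    (inf_le_right.trans inf_le_left)
  rw [hAB.inf_eq_bot] at h1
  exact le_bot_iff.mp h1

/-- the comparison morphism -/
noncomputable def splitMap : OO W ⟶ pushOpen A ⊞ pushOpen B :=
  biprod.lift (ClSub.unitToPush A.ι) (ClSub.unitToPush B.ι)

theorem ap_fst_splitMap (V : W.Opens) (s : Γ(OO W, V)) :
    ap biprod.fst V (ap (splitMap A B) V s) = ap (ClSub.unitToPush A.ι) V s := by
  have h : splitMap A B ≫ biprod.fst = ClSub.unitToPush A.ι := biprod.lift_fst _ _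
  rw [← h]
  rfl

theorem ap_snd_splitMap (V : W.Opens) (s : Γ(OO W, V)) :
    ap biprod.snd V (ap (splitMap A B) V s) = ap (ClSub.unitToPush B.ι) V s := by
  have h : splitMap A B ≫ biprod.snd = ClSub.unitToPush B.ι := biprod.lift_snd _ _
  rw [← h]
  rfl

theorem eq_of_fst_snd {M N : W.Modules} (V : W.Opens) (t t' : Γ(M ⊞ N, V))
    (h1 : ap biprod.fst V t = ap biprod.fst V t') (h2 : ap biprod.snd V t = ap biprod.snd V t') :
    t = t' := by
  have key : ∀ t : Γ(M ⊞ N, V), t = ap biprod.inl V (ap biprod.fst V t) +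
      ap biprod.inr V (ap biprod.snd V t) := by
    intro t
    have h := congrArg (fun φ : M ⊞ N ⟶ M ⊞ N => ap φ V t) (biprod.total (X := M) (Y := N))
    exact h.symm
  rw [key t, key t', h1, h2]

include hAB in
theorem bijective_splitMap (V : W.Opens) : Function.Bijective (ap (splitMap A B) V) := by
  have hA : openOf A V ≤ V := openOf_le A V
  have hB : openOf B V ≤ V := openOf_le B V
  have hV : V ≤ openOf A V ⊔ openOf B V := le_sup_openOf A B hAB V
  constructor
  · rw [injective_iff_map_eq_zero]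
    intro s hs
    have h1 : ap (ClSub.unitToPush A.ι) V s = 0 := by
      rw [← ap_fst_splitMap A B V s, hs, map_zero]
    have h2 : ap (ClSub.unitToPush B.ι) V s = 0 := by
      rw [← ap_snd_splitMap A B V s, hs, map_zero]
    have h1' : AffVanish.rs (FO W) hA s = 0 := by
      rw [rs_eq, ← ap_unitToPush]; exact h1
    have h2' : AffVanish.rs (FO W) hB s = 0 := by
      rw [rs_eq, ← ap_unitToPush]; exact h2
    exact AffVanish.eq_of_cover₂ (FO W) hA hB hV s 0 (by rw [h1', map_zero]) (by rw [h2', map_zero])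
  · intro t
    let a : AffVanish.Sec (FO W) (openOf A V) := (ap biprod.fst V t : Γ(W, openOf A V))
    let b : AffVanish.Sec (FO W) (openOf B V) := (ap biprod.snd V t : Γ(W, openOf B V))
    obtain ⟨s, hsa, hsb⟩ := AffVanish.glue₂ (FO W) hA hB hV a b
      (AffVanish.eq_of_bot (FO W) (openOf_inf_eq_bot A B hAB V) _ _)
    refine ⟨s, eq_of_fst_snd V _ _ ?_ ?_⟩
    · rw [ap_fst_splitMap]
      have h := ap_unitToPush A V s
      rw [← rs_eq] at h
      exact h.trans hsa
    · rw [ap_snd_splitMap]
      have h := ap_unitToPush B V s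
      rw [← rs_eq] at h
      exact h.trans hsb

include hAB in
theorem bijective_pair (V : W.Opens) : Function.Bijective
    (fun s : Γ(OO W, V) => ((ap (ClSub.unitToPush A.ι) V s, ap (ClSub.unitToPush B.ι) V s) :
      Γ(pushOpen A, V) × Γ(pushOpen B, V))) := by
  have hA : openOf A V ≤ V := openOf_le A V
  have hB : openOf B V ≤ V := openOf_le B V
  have hV : V ≤ openOf A V ⊔ openOf B V := le_sup_openOf A B hAB V
  constructor
  · intro s s' hs
    have h1 : ap (ClSub.unitToPush A.ι) V s = ap (ClSub.unitToPush A.ι) V s' :=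
      congrArg Prod.fst hs
    have h2 : ap (ClSub.unitToPush B.ι) V s = ap (ClSub.unitToPush B.ι) V s' :=
      congrArg Prod.snd hs
    have h1' : AffVanish.rs (FO W) hA s = AffVanish.rs (FO W) hA s' := by
      rw [rs_eq, rs_eq, ← ap_unitToPush, ← ap_unitToPush]; exact h1
    have h2' : AffVanish.rs (FO W) hB s = AffVanish.rs (FO W) hB s' := by
      rw [rs_eq, rs_eq, ← ap_unitToPush, ← ap_unitToPush]; exact h2
    exact AffVanish.eq_of_cover₂ (FO W) hA hB hV s s' h1' h2'
  · rintro ⟨a₀, b₀⟩
    let a : AffVanish.Sec (FO W) (openOf A V) := (a₀ : Γ(W, openOf A V))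
    let b : AffVanish.Sec (FO W) (openOf B V) := (b₀ : Γ(W, openOf B V))
    obtain ⟨s, hsa, hsb⟩ := AffVanish.glue₂ (FO W) hA hB hV a b
      (AffVanish.eq_of_bot (FO W) (openOf_inf_eq_bot A B hAB V) _ _)
    refine ⟨s, Prod.ext ?_ ?_⟩
    · have h := ap_unitToPush A V s
      rw [← rs_eq] at h
      exact h.trans hsa
    · have h := ap_unitToPush B V s
      rw [← rs_eq] at h
      exact h.trans hsb

include hAB in
theorem isIso_splitMap : IsIso (splitMap A B) :=
  Groth.Agent.Lib.BasisHomH7.isIso_of_bijective_basis (B := Set.univ)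
    (Opens.isBasis_iff_nbhd.mpr (fun {U x} hx => ⟨U, trivial, hx, le_rfl⟩)) (splitMap A B)
    (fun V _ => bijective_splitMap A B hAB V)

end Compl

section Euler

variable (k : Type u) [Field k] (W : Scheme.{u}) [W.Over (Spec (CommRingCat.of k))]
  [IsProper (W ↘ Spec (CommRingCat.of k))]

/-- the Euler characteristic of the structure sheaf is additive on open and closed
decompositions -/
theorem euler_clopen (A B : W.Opens) (hAB : IsCompl A B) (hA : IsClosed (A : Set W))
    (hB : IsClosed (B : Set W)) [iA : (A : Scheme.{u}).Over (Spec (CommRingCat.of k))]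
    [iB : (B : Scheme.{u}).Over (Spec (CommRingCat.of k))]
    (hιA : A.ι ≫ (W ↘ Spec (CommRingCat.of k)) = (A : Scheme.{u}) ↘ Spec (CommRingCat.of k))
    (hιB : B.ι ≫ (W ↘ Spec (CommRingCat.of k)) = (B : Scheme.{u}) ↘ Spec (CommRingCat.of k)) :
    Curv2.euler k W (OO W) =
      Curv2.euler k (A : Scheme.{u}) (OO (A : Scheme.{u})) +
      Curv2.euler k (B : Scheme.{u}) (OO (B : Scheme.{u})) := by
  haveI : IsLocallyNoetherian W :=
    LocallyOfFiniteType.isLocallyNoetherian (W ↘ Spec (CommRingCat.of k))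
  haveI : IsClosedImmersion A.ι :=
    IsClosedImmersion.of_isPreimmersion A.ι (by rw [Scheme.Opens.range_ι]; exact hA)
  haveI : IsClosedImmersion B.ι :=
    IsClosedImmersion.of_isPreimmersion B.ι (by rw [Scheme.Opens.range_ι]; exact hB)
  haveI := isIso_splitMap A B hAB
  have hcA : Coh.IsCoh (pushOpen A) := BirCurve.isCoh_push_OO A.ι
  have hcB : Coh.IsCoh (pushOpen B) := BirCurve.isCoh_push_OO B.ι
  have h1 := CurveTens.euler_of_iso k W (asIso (splitMap A B))
  have hS := (ShortComplex.Splitting.ofHasBinaryBiproduct (pushOpen A) (pushOpen B)).shortExact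
  have h2 := EulerField.euler_additive k W _ hS hcA (CohDevH8.isCoh_biprod hcA hcB) hcB
  have h3 := BirCurve.euler_push k A.ι hιA (OO (A : Scheme.{u}))
  have h4 := BirCurve.euler_push k B.ι hιB (OO (B : Scheme.{u}))
  have h2' : Curv2.euler k W (pushOpen A ⊞ pushOpen B) =
      Curv2.euler k W (pushOpen A) + Curv2.euler k W (pushOpen B) := h2
  rw [h1, h2', h3, h4]

end Euler

end FEtEuler9
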