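import Mathlib
import Groth.Prelude
import Groth.Agent.Lib.FEtEuler2_helper9

/-!
# Euler characteristics of finite étale covers of curves, part 3: additivity of the rank (helper9)

For a finite flat morphism `p : W ⟶ Y` and complementary open and closed subschemes `A`, `B` of
`W`, the rank of `p` is the sum of the ranks of the restrictions of `p` to `A` and `B`.
APPEND-ONLY once landed.
-/

set_option autoImplicit false
universe u
open CategoryTheory CategoryTheory.Limits AlgebraicGeometry Opposite TopologicalSpace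

namespace FEtEuler9

open QcqsLoc QCohExtn SerreCrit

section Algebra

theorem ringHom_finrank_prod {R S S₁ S₂ : Type u} [CommRing R] [CommRing S] [CommRing S₁]
    [CommRing S₂] (ψ : R →+* S) (ψ₁ : R →+* S₁) (ψ₂ : R →+* S₂) (e₁ : S →+* S₁) (e₂ : S →+* S₂)
    (hbij : Function.Bijective (fun s : S => (e₁ s, e₂ s)))
    (h₁ : e₁.comp ψ = ψ₁) (h₂ : e₂.comp ψ = ψ₂)
    (hfin₁ : ψ₁.Finite) (hflat₁ : ψ₁.Flat) (hfin₂ : ψ₂.Finite) (hflat₂ : ψ₂.Flat)
    (x : PrimeSpectrum R) : ψ.finrank x = ψ₁.finrank x + ψ₂.finrank x := by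
  letI := ψ.toAlgebra
  letI := ψ₁.toAlgebra
  letI := ψ₂.toAlgebra
  haveI : Module.Finite R S₁ := hfin₁
  haveI : Module.Finite R S₂ := hfin₂
  haveI : Module.Flat R S₁ := hflat₁
  haveI : Module.Flat R S₂ := hflat₂
  let l : S →ₗ[R] S₁ × S₂ :=
    { toFun := fun s => (e₁ s, e₂ s)
      map_add' := fun s t => by simp
      map_smul' := fun r s => by
        have e1 : e₁ (ψ r) = ψ₁ r := by rw [← h₁]; rfl
        have e2 : e₂ (ψ r) = ψ₂ r := by rw [← h₂]; rfl
        show (e₁ (ψ r * s), e₂ (ψ r * s)) = (ψ₁ r * e₁ s, ψ₂ r * e₂ s)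
        rw [map_mul, map_mul, e1, e2] }
  let e : S ≃ₗ[R] S₁ × S₂ := LinearEquiv.ofBijective l hbij
  show Module.rankAtStalk (R := R) S x = Module.rankAtStalk (R := R) S₁ x +
    Module.rankAtStalk (R := R) S₂ x
  rw [Module.rankAtStalk_eq_of_equiv e, Module.rankAtStalk_prod]
  rfl

end Algebra

section Scheme

variable {X Y : Scheme.{u}} (f : X ⟶ Y)

/-- the rank of a finite flat morphism, computed over an affine open (extracted from helper4's
`CoverRankH4.finrank_eq_rankAtStalk`) -/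
theorem finrank_eq_ringHom_finrank [IsFinite f] [Flat f] {V : Y.Opens} (hV : IsAffineOpen V)
    (y : Y) (hy : y ∈ V) :
    f.finrank y = (f.app V).hom.finrank (hV.primeIdealOf ⟨y, hy⟩) := by
  have hU : IsAffineOpen (f ⁻¹ᵁ V) := hV.preimage f
  have hcomm : hU.fromSpec ≫ f = Spec.map (f.app V) ≫ hV.fromSpec := by
    rw [Scheme.Hom.app_eq_appLE]
    exact (IsAffineOpen.SpecMap_appLE_fromSpec f hV hU le_rfl).symm
  have hsq : IsPullback (Spec.map (f.app V)) hU.fromSpec hV.fromSpec f :=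
    IsOpenImmersion.isPullback _ _ _ _ hcomm
      (by rw [hV.opensRange_fromSpec, hU.opensRange_fromSpec])
  have h1 : Scheme.Hom.finrank (Spec.map (f.app V)) (hV.primeIdealOf ⟨y, hy⟩) = f.finrank y := by
    have h0 := Scheme.Hom.finrank_of_isPullback hU.fromSpec (Spec.map (f.app V)) f hV.fromSpec
      hsq.flip (hV.primeIdealOf ⟨y, hy⟩)
    rw [hV.fromSpec_primeIdealOf ⟨y, hy⟩] at h0
    exact h0
  have hfin : (f.app V).hom.Finite := f.finite_app V hV
  have hflat : (f.app V).hom.Flat := by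
    rw [Scheme.Hom.app_eq_appLE]
    exact HasRingHomProperty.appLE (P := @Flat) f inferInstance ⟨V, hV⟩ ⟨_, hU⟩ le_rfl
  rw [Scheme.Hom.finrank_SpecMap_eq_finrank hfin hflat] at h1
  exact h1.symm

end Scheme

section Clopen

variable {W Y : Scheme.{u}} (p : W ⟶ Y) [IsFinite p] [Flat p]

theorem finrank_clopen (A B : W.Opens) (hAB : IsCompl A B) (hA : IsClosed (A : Set W))
    (hB : IsClosed (B : Set W)) (y : Y) :
    p.finrank y = (A.ι ≫ p).finrank y + (B.ι ≫ p).finrank y := by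
  haveI : IsClosedImmersion A.ι :=
    IsClosedImmersion.of_isPreimmersion A.ι (by rw [Scheme.Opens.range_ι]; exact hA)
  haveI : IsClosedImmersion B.ι :=
    IsClosedImmersion.of_isPreimmersion B.ι (by rw [Scheme.Opens.range_ι]; exact hB)
  obtain ⟨_, ⟨V, hV : IsAffineOpen V, rfl⟩, hyV, -⟩ :=
    (Y.isBasis_affineOpens).exists_subset_of_mem_open (Set.mem_univ y) isOpen_univ
  have hyV' : y ∈ V := hyV
  rw [finrank_eq_ringHom_finrank p hV y hyV', finrank_eq_ringHom_finrank (A.ι ≫ p) hV y hyV',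
    finrank_eq_ringHom_finrank (B.ι ≫ p) hV y hyV']
  have hUA : IsAffineOpen ((A.ι ≫ p) ⁻¹ᵁ V) := hV.preimage (A.ι ≫ p)
  have hUB : IsAffineOpen ((B.ι ≫ p) ⁻¹ᵁ V) := hV.preimage (B.ι ≫ p)
  refine ringHom_finrank_prod (p.app V).hom ((A.ι ≫ p).app V).hom ((B.ι ≫ p).app V).hom
    (A.ι.app (p ⁻¹ᵁ V)).hom (B.ι.app (p ⁻¹ᵁ V)).hom ?_ ?_ ?_
    ((A.ι ≫ p).finite_app V hV) ?_ ((B.ι ≫ p).finite_app V hV) ?_ _
  · exact bijective_pair A B hAB (p ⁻¹ᵁ V)
  · rfl
  · rfl
  · rw [Scheme.Hom.app_eq_appLE]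
    exact HasRingHomProperty.appLE (P := @Flat) (A.ι ≫ p) inferInstance ⟨V, hV⟩ ⟨_, hUA⟩ le_rfl
  · rw [Scheme.Hom.app_eq_appLE]
    exact HasRingHomProperty.appLE (P := @Flat) (B.ι ≫ p) inferInstance ⟨V, hV⟩ ⟨_, hUB⟩ le_rfl

end Clopen

end FEtEuler9
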