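import Mathlib
import Groth.Prelude
import Groth.Agent.Lib.FEtEuler1_helper9
import Groth.Agent.Lib.FEtEuler3_helper9
import Groth.Agent.Lib.DegPull3_helper9
import Groth.Agent.Lib.CoverRank_helper4
import Groth.Agent.Lib.GenusZero1_helper9
import Groth.Agent.Lib.FibPt2_helper9
import Groth.Agent.Lib.EtNbhdFin6_helper4
import Groth.Agent.S12131

/-!
# Euler characteristics of finite étale covers of curves, part 4: multiplicativity (helper9)

For a finite étale morphism `φ : X ⟶ Y` of constant rank `d` onto a smooth proper integral curve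
`Y` over a field, `χ(O_X) = d · χ(O_Y)`.  The proof is by induction on `d`: the base change of `φ`
along a connected component `X₁` of `X` has a section, which is open and closed; the complement
has rank `d - 1` over `X₁`.  Together with the multiplicativity of degrees of finite locally free
modules under finite pullbacks (`DegPull.deg_pullback`) this gives `deg φ_* O_X = 0`.
APPEND-ONLY once landed.
-/

set_option autoImplicit false
set_option linter.style.haveILetI false
universe u
open CategoryTheory CategoryTheory.Limits AlgebraicGeometry Opposite TopologicalSpace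

namespace FEtEuler9

open QcqsLoc QCohExtn SerreCrit

section Helpers

/-- an integral flat surjective morphism preserves the dimension -/
theorem dim_eq_of_integral_flat_surjective {N U : Scheme.{u}} (g : N ⟶ U) [IsIntegralHom g]
    [Flat g] [Surjective g] : topologicalKrullDim N = topologicalKrullDim U := by
  apply le_antisymm
  · refine GZ9.topologicalKrullDim_le_of_fd g g.continuous (fun y y' h hs => ?_)
    exact (GZ9.eq_of_specializes_of_map_eq g hs h.symm).symm
  · exact GZ9.topologicalKrullDim_le_of_lift g g.continuous (Flat.generalizingMap g) g.surjective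

variable (k : Type u) [Field k]

/-- the Euler characteristic of the structure sheaf is invariant under isomorphisms of
`k`-schemes -/
theorem euler_OO_of_iso {X Z : Scheme.{u}} [X.Over (Spec (CommRingCat.of k))]
    [Z.Over (Spec (CommRingCat.of k))] (ψ : X ⟶ Z) [IsIso ψ]
    (hψ : ψ ≫ (Z ↘ Spec (CommRingCat.of k)) = X ↘ Spec (CommRingCat.of k)) :
    Curv2.euler k X (OO X) = Curv2.euler k Z (OO Z) := by
  have h1 : Curv2.euler k X ((Scheme.Modules.pullback ψ).obj (OO Z)) = Curv2.euler k Z (OO Z) := by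
    unfold Curv2.euler
    congr 1
    funext i
    rw [FibPt.finrank_HH_pullback_of_isIso ψ hψ (OO Z) i]
  rw [← h1]
  exact (CurveTens.euler_of_iso k X (PBH8.pullbackUnitIso ψ)).symm

/-- a finite flat morphism of finite presentation from a nonempty scheme to a connected scheme is
surjective -/
theorem surjective_of_finite_flat {X Y : Scheme.{u}} (f : X ⟶ Y) [IsFinite f] [Flat f]
    [LocallyOfFinitePresentation f] [Nonempty X] [PreconnectedSpace Y] : Surjective f := by
  rw [← Scheme.Hom.one_le_finrank_iff_surjective]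
  obtain ⟨x⟩ := (inferInstance : Nonempty X)
  intro y
  have h := (Scheme.Hom.isLocallyConstant_finrank f).apply_eq_of_preconnectedSpace y (f x)
  rw [h]
  exact Scheme.Hom.one_le_finrank_map f x

/-- a surjective morphism of integral schemes maps the generic point to the generic point -/
theorem map_genericPoint_of_surjective {X Y : Scheme.{u}} [IsIntegral X] [IsIntegral Y]
    (f : X ⟶ Y) [Surjective f] : f (genericPoint X) = genericPoint Y := by
  obtain ⟨x, hx⟩ := f.surjective (genericPoint Y)
  have h1 : genericPoint X ⤳ x := (genericPoint_spec X).specializes trivial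
  have h2 : f (genericPoint X) ⤳ genericPoint Y := hx ▸ h1.map f.continuous
  have h3 : genericPoint Y ⤳ f (genericPoint X) := (genericPoint_spec Y).specializes trivial
  exact (h2.antisymm h3).eq

/-- the residue degree of a finite morphism is positive -/
theorem residueDegree_pos {X Y : Scheme.{u}} (f : X ⟶ Y) [IsFinite f] (x : X) :
    0 < f.residueDegree x := by
  have h := Groth.Agent.Lib.EtNbhdFinH4.finite_residueFieldMap f x (Scheme.Hom.quasiFiniteAt f x)
  letI := (f.residueFieldMap x).hom.toAlgebra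
  haveI : Module.Finite (Y.residueField (f x)) (X.residueField x) := h
  exact Module.finrank_pos

end Helpers

section Main

variable (k : Type u) [Field k]

/-- **multiplicativity of the Euler characteristic of the structure sheaf in finite étale covers
of smooth proper curves** -/
theorem euler_finite_etale : ∀ (d : ℕ) (Y : Scheme.{u}) (qY : Y ⟶ Spec (CommRingCat.of k))
    [IsProper qY] [Smooth qY] [IsIntegral Y] (_ : topologicalKrullDim Y = 1) (X : Scheme.{u})
    (φ : X ⟶ Y) [IsFinite φ] [Etale φ] (_ : ∀ y : Y, φ.finrank y = d),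
    @Curv2.euler k _ X ⟨φ ≫ qY⟩ (OO X) = d * @Curv2.euler k _ Y ⟨qY⟩ (OO Y) := by
  intro d
  induction d with
  | zero =>
    intro Y qY _ _ _ hdim X φ _ _ hrk
    haveI : IsEmpty X := ⟨fun x => by
      have h := Scheme.Hom.one_le_finrank_map φ x
      rw [hrk] at h
      exact absurd h (by norm_num)⟩
    letI : X.Over (Spec (CommRingCat.of k)) := ⟨φ ≫ qY⟩
    rw [CurveDegAdd.euler_eq_zero_of_isEmpty k X]
    simp
  | succ d ih =>
    intro Y qY _ _ _ hdim X φ _ _ hrk
    letI iY : Y.Over (Spec (CommRingCat.of k)) := ⟨qY⟩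
    letI iX : X.Over (Spec (CommRingCat.of k)) := ⟨φ ≫ qY⟩
    haveI : IsProper (Y ↘ Spec (CommRingCat.of k)) := ‹IsProper qY›
    haveI : IsLocallyNoetherian X := LocallyOfFiniteType.isLocallyNoetherian (φ ≫ qY)
    have hdom : ∀ x : X, IsDomain (X.presheaf.stalk x) := isDomain_stalk_of_smooth k X (φ ≫ qY)
    -- `X` is nonempty
    haveI : Surjective φ := by
      rw [← Scheme.Hom.one_le_finrank_iff_surjective]
      intro y
      rw [hrk]
      exact Nat.succ_le_succ (Nat.zero_le d)
    obtain ⟨x₀, -⟩ := φ.surjective (genericPoint Y)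
    obtain ⟨U, hx₀U, hUcl, hUirr⟩ := exists_clopen_irreducible X hdom x₀
    haveI : IsIntegral (U : Scheme.{u}) := isIntegral_opens X hdom U hUirr
    haveI : IsClosedImmersion U.ι := isClosedImmersion_ι U hUcl
    obtain ⟨φ₁, hφ₁⟩ : ∃ φ₁ : (U : Scheme.{u}) ⟶ Y, φ₁ = U.ι ≫ φ := ⟨_, rfl⟩
    haveI : IsFinite φ₁ := by rw [hφ₁]; infer_instance
    haveI : Etale φ₁ := by rw [hφ₁]; infer_instance
    obtain ⟨q₁, hq₁⟩ : ∃ q₁ : (U : Scheme.{u}) ⟶ Spec (CommRingCat.of k), q₁ = φ₁ ≫ qY :=
      ⟨_, rfl⟩
    haveI : IsProper q₁ := by rw [hq₁]; infer_instance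
    haveI : Smooth q₁ := by rw [hq₁]; infer_instance
    haveI : Surjective φ₁ := surjective_of_finite_flat φ₁
    have hdim₁ : topologicalKrullDim (U : Scheme.{u}) = 1 := by
      rw [dim_eq_of_integral_flat_surjective φ₁, hdim]
    letI i₁ : (U : Scheme.{u}).Over (Spec (CommRingCat.of k)) := ⟨q₁⟩
    haveI : IsProper ((U : Scheme.{u}) ↘ Spec (CommRingCat.of k)) := ‹IsProper q₁›
    -- the fibre product
    obtain ⟨Wp, p₁, p₂, hpb⟩ : ∃ (Wp : Scheme.{u}) (p₁ : Wp ⟶ X) (p₂ : Wp ⟶ (U : Scheme.{u})),
      IsPullback p₁ p₂ φ φ₁ := ⟨_, _, _, IsPullback.of_hasPullback φ φ₁⟩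
    haveI : IsFinite p₂ := MorphismProperty.of_isPullback hpb ‹IsFinite φ›
    haveI : Etale p₂ := MorphismProperty.of_isPullback hpb ‹Etale φ›
    have hrk₂ : ∀ u, p₂.finrank u = d + 1 := fun u => by
      rw [Scheme.Hom.finrank_of_isPullback p₁ p₂ φ φ₁ hpb u, hrk]
    letI iW : Wp.Over (Spec (CommRingCat.of k)) := ⟨p₂ ≫ q₁⟩
    haveI : IsProper (Wp ↘ Spec (CommRingCat.of k)) :=
      inferInstanceAs (IsProper (p₂ ≫ q₁))
    -- the section
    obtain ⟨σ, hσ₁, hσ₂⟩ : ∃ σ : (U : Scheme.{u}) ⟶ Wp, σ ≫ p₁ = U.ι ∧ σ ≫ p₂ = 𝟙 _ :=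
      ⟨hpb.lift U.ι (𝟙 _) (by rw [hφ₁, Category.id_comp]), hpb.lift_fst _ _ _,
        hpb.lift_snd _ _ _⟩
    haveI : IsClosedImmersion σ :=
      MorphismProperty.of_postcomp (W := @IsClosedImmersion) (W' := @IsSeparated) σ p₂
        inferInstance (by rw [hσ₂]; infer_instance)
    haveI : Etale (σ ≫ p₂) := by rw [hσ₂]; infer_instance
    haveI : Etale σ := Etale.of_comp σ p₂
    haveI : Mono σ := mono_of_mono_fac hσ₂
    haveI : IsOpenImmersion σ := IsOpenImmersion.of_flat_of_mono σ
    -- the image of the section and its complement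
    have hAcl : IsClosed (σ.opensRange : Set Wp) := σ.isClosedEmbedding.isClosed_range
    obtain ⟨B, hB⟩ : ∃ B : Wp.Opens, (B : Set Wp) = (σ.opensRange : Set Wp)ᶜ :=
      ⟨⟨(σ.opensRange : Set Wp)ᶜ, hAcl.isOpen_compl⟩, rfl⟩
    have hBcl : IsClosed (B : Set Wp) := by rw [hB]; exact σ.opensRange.isOpen.isClosed_compl
    have hAB : IsCompl σ.opensRange B := by
      refine ⟨disjoint_iff.mpr ?_, codisjoint_iff.mpr ?_⟩
      · apply Opens.ext
        rw [Opens.coe_inf, hB]
        simp
      · apply Opens.ext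
        rw [Opens.coe_sup, hB]
        simp
    haveI : IsClosedImmersion B.ι := isClosedImmersion_ι B hBcl
    haveI : IsClosedImmersion σ.opensRange.ι := isClosedImmersion_ι _ hAcl
    -- the section identifies `U` with its image
    have he : σ.isoOpensRange.hom ≫ (σ.opensRange.ι ≫ p₂) = 𝟙 _ := by
      rw [← Category.assoc, Scheme.Hom.isoOpensRange_hom_ι, hσ₂]
    have hA1 : σ.opensRange.ι ≫ p₂ = σ.isoOpensRange.inv := by
      rw [← cancel_epi σ.isoOpensRange.hom, he, Iso.hom_inv_id]
    have hrkB : ∀ u, (B.ι ≫ p₂).finrank u = d := fun u => by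
      have h1 := finrank_clopen p₂ σ.opensRange B hAB hAcl hBcl u
      have h2 : (σ.opensRange.ι ≫ p₂).finrank u = 1 := by
        rw [hA1, Scheme.Hom.finrank_eq_one_of_isIso]
        rfl
      rw [hrk₂, h2] at h1
      omega
    -- induction hypothesis for the complement
    letI iA : (σ.opensRange : Scheme.{u}).Over (Spec (CommRingCat.of k)) :=
      ⟨σ.opensRange.ι ≫ p₂ ≫ q₁⟩
    letI iB : (B : Scheme.{u}).Over (Spec (CommRingCat.of k)) := ⟨(B.ι ≫ p₂) ≫ q₁⟩
    have ihB : Curv2.euler k (B : Scheme.{u}) (OO (B : Scheme.{u})) =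
        d * Curv2.euler k (U : Scheme.{u}) (OO (U : Scheme.{u})) :=
      ih (U : Scheme.{u}) q₁ hdim₁ (B : Scheme.{u}) (B.ι ≫ p₂) hrkB
    have hcl : Curv2.euler k Wp (OO Wp) =
        Curv2.euler k (σ.opensRange : Scheme.{u}) (OO (σ.opensRange : Scheme.{u})) +
        Curv2.euler k (B : Scheme.{u}) (OO (B : Scheme.{u})) :=
      euler_clopen k Wp σ.opensRange B hAB hAcl hBcl rfl (Category.assoc _ _ _).symm
    have hAU : Curv2.euler k (σ.opensRange : Scheme.{u}) (OO (σ.opensRange : Scheme.{u})) =
        Curv2.euler k (U : Scheme.{u}) (OO (U : Scheme.{u})) := by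
      refine (euler_OO_of_iso k σ.isoOpensRange.hom ?_).symm
      show σ.isoOpensRange.hom ≫ (σ.opensRange.ι ≫ p₂ ≫ q₁) = q₁
      rw [← Category.assoc, ← Category.assoc, Scheme.Hom.isoOpensRange_hom_ι, hσ₂,
        Category.id_comp]
    -- `χ(W) = χ(U, φ₁^* φ_* O_X)`
    have hpush : Curv2.euler k (U : Scheme.{u}) ((Scheme.Modules.pushforward p₂).obj (OO Wp)) =
        Curv2.euler k Wp (OO Wp) := BirCurve.euler_push k p₂ rfl (OO Wp)
    haveI : Coh.IsQCoh (OO X) := (CohDevH8.isCoh_structureModule X).1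
    obtain ⟨bc⟩ : Nonempty ((Scheme.Modules.pullback φ₁).obj
        ((Scheme.Modules.pushforward φ).obj (OO X)) ≅
        (Scheme.Modules.pushforward p₂).obj ((Scheme.Modules.pullback p₁).obj (OO X))) :=
      ⟨@asIso _ _ _ _ _ (Groth.Agent.S12131.result φ φ₁ p₁ p₂ hpb (OO X))⟩
    have e2 : (Scheme.Modules.pushforward p₂).obj ((Scheme.Modules.pullback p₁).obj (OO X)) ≅
        (Scheme.Modules.pushforward p₂).obj (OO Wp) :=
      (Scheme.Modules.pushforward p₂).mapIso (PBH8.pullbackUnitIso p₁)
    have hbc : Curv2.euler k (U : Scheme.{u}) ((Scheme.Modules.pullback φ₁).obj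
        ((Scheme.Modules.pushforward φ).obj (OO X))) =
        Curv2.euler k (U : Scheme.{u}) ((Scheme.Modules.pushforward p₂).obj (OO Wp)) :=
      CurveTens.euler_of_iso k (U : Scheme.{u}) (bc ≪≫ e2)
    -- degrees
    have hE : FlatMod.IsFinLocFreeOfRank (d + 1) ((Scheme.Modules.pushforward φ).obj (OO X)) :=
      ((Groth.Agent.Lib.CoverRankH4.main19692 φ (d + 1)).mp
        ⟨⟨inferInstance, inferInstance, inferInstance⟩, hrk⟩).2
    have hdeg : Curv2.euler k (U : Scheme.{u}) ((Scheme.Modules.pullback φ₁).obj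
        ((Scheme.Modules.pushforward φ).obj (OO X))) -
          ((d + 1 : ℕ) : ℤ) * Curv2.euler k (U : Scheme.{u}) (OO (U : Scheme.{u})) =
        (φ₁.residueDegree (genericPoint (U : Scheme.{u})) : ℤ) *
          (Curv2.euler k Y ((Scheme.Modules.pushforward φ).obj (OO X)) -
            ((d + 1 : ℕ) : ℤ) * Curv2.euler k Y (OO Y)) :=
      DegPull.deg_pullback k hdim₁ hdim φ₁ hq₁.symm
        (map_genericPoint_of_surjective φ₁) (d + 1) _ hE
    have hpushX : Curv2.euler k Y ((Scheme.Modules.pushforward φ).obj (OO X)) =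
        Curv2.euler k X (OO X) := BirCurve.euler_push k φ rfl (OO X)
    have hr := residueDegree_pos φ₁ (genericPoint (U : Scheme.{u}))
    have hr' : (φ₁.residueDegree (genericPoint (U : Scheme.{u})) : ℤ) ≠ 0 := by
      exact_mod_cast hr.ne'
    rw [hbc, hpush, hcl, hAU, ihB] at hdeg
    have h0 : (φ₁.residueDegree (genericPoint (U : Scheme.{u})) : ℤ) *
        (Curv2.euler k Y ((Scheme.Modules.pushforward φ).obj (OO X)) -
          ((d + 1 : ℕ) : ℤ) * Curv2.euler k Y (OO Y)) = 0 := by
      rw [← hdeg]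
      push_cast
      ring
    have h1 := (mul_eq_zero.mp h0).resolve_left hr'
    rw [← hpushX]
    linarith

end Main

end FEtEuler9
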