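import Mathlib
import Groth.Prelude
import Groth.Agent.Lib.DegPull5_helper9
import Groth.Agent.Lib.DegPull4_helper9
import Groth.Agent.Lib.CoverRank_helper4
import Groth.Agent.Lib.CurveSub1_helper9
import Groth.Agent.Lib.CurveTens4_helper9

/-!
# Finite flat covers of proper curves: degree of pullbacks, sections of pullbacks (helper9)
APPEND-ONLY once landed.  Towards S14340, S18892.
-/

set_option autoImplicit false
set_option linter.style.haveILetI false
universe u
open CategoryTheory CategoryTheory.Limits AlgebraicGeometry Opposite TopologicalSpace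

namespace HypEll

open QcqsLoc QCohExtn SerreCrit Groth.Agent.TensInv CurveAmple

section Mono

variable {X Y : Scheme.{u}}

/-- `O_Y → f_* O_X` is a monomorphism for a surjective morphism to a reduced scheme -/
theorem mono_unitToPush (f : X ⟶ Y) [Surjective f] [IsReduced Y] : Mono (ClSub.unitToPush f) := by
  apply DescH8.mono_of_app_injective
  intro U
  have hinj : Function.Injective ((f.app U).hom : Γ(Y, U) → Γ(X, f ⁻¹ᵁ U)) := by
    rw [injective_iff_map_eq_zero]
    intro s hs
    have h1 : Y.basicOpen s = ⊥ := by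
      rw [eq_bot_iff]
      intro y hy
      obtain ⟨z, rfl⟩ := f.surjective y
      have h2 : z ∈ f ⁻¹ᵁ Y.basicOpen s := hy
      rw [Scheme.preimage_basicOpen] at h2
      have h3 : (f.app U) s = 0 := hs
      rw [h3, Scheme.basicOpen_zero] at h2
      exact h2.elim
    exact (basicOpen_eq_bot_iff s).mp h1
  exact fun a b hab => hinj hab

end Mono

section Cover

variable (k : Type u) [Field k] {C P : Scheme.{u}} [C.Over (Spec (CommRingCat.of k))]
  [P.Over (Spec (CommRingCat.of k))] [IsProper (P ↘ Spec (CommRingCat.of k))]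
  (f : C ⟶ P) (hf : f ≫ (P ↘ Spec (CommRingCat.of k)) = C ↘ Spec (CommRingCat.of k))
  [IsFinite f] [Flat f]

include k in
/-- the direct image of the structure sheaf under a finite flat morphism of constant rank -/
theorem isFinLocFreeOfRank_pushO {d : ℕ} (hrk : ∀ y : P, f.finrank y = d) :
    FlatMod.IsFinLocFreeOfRank d ((Scheme.Modules.pushforward f).obj (Coh.structureModule C)) := by
  haveI : IsLocallyNoetherian P :=
    LocallyOfFiniteType.isLocallyNoetherian (P ↘ Spec (CommRingCat.of k))
  haveI : LocallyOfFinitePresentation f :=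
    LocallyOfFinitePresentation.iff_locallyOfFiniteType.mpr inferInstance
  exact ((Groth.Agent.Lib.CoverRankH4.main19692 f d).mp ⟨⟨inferInstance, inferInstance,
    inferInstance⟩, hrk⟩).2

include hf in
/-- **`deg f^* E = d · deg E`** for a finite flat morphism of constant rank `d` -/
theorem deg_pullback_cover (hdim : topologicalKrullDim P ≤ 1) {d : ℕ}
    (hrk : ∀ y : P, f.finrank y = d) (E : P.Modules) (hE : FlatMod.IsFinLocFreeOfRank 1 E) :
    Curv2.deg k C ((Scheme.Modules.pullback f).obj E) 1 = (d : ℤ) * Curv2.deg k P E 1 := by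
  haveI : IsLocallyNoetherian P :=
    LocallyOfFiniteType.isLocallyNoetherian (P ↘ Spec (CommRingCat.of k))
  have hA := isFinLocFreeOfRank_pushO k f hrk
  have hE' := TensBasis.isFinLocFree_of_rank hE
  have e1 := DegPull.euler_pullback_eq k f hf E hE'
  have e2 := DegPull.deg_tensorMod_locFree k P hdim d 1 _ E hA hE
  haveI : (Coh.structureModule C).IsQuasicoherent := TensH8.isQuasicoherent_structureModule
  have e3 := BirCurve.euler_push k f hf (Coh.structureModule C)
  have e4 : Curv2.euler k C ((Scheme.Modules.pullback f).obj (Coh.structureModule P)) =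
      Curv2.euler k C (Coh.structureModule C) :=
    CurveTens.euler_of_iso k C (PBH8.pullbackUnitIso f)
  unfold Curv2.deg at e2 ⊢
  rw [e1, ← e3]
  push_cast at e2 ⊢
  linarith

omit [IsFinite f] [Flat f] in
include k in
/-- `h⁰(P, E) ≤ h⁰(P, f_* O_C ⊗ E)` -/
theorem finrank_HH0_le_tensor_pushO [IsIntegral P] [Surjective f] (E : P.Modules)
    (hE : PicF.IsInvertible E)
    (hAc : Coh.IsCoh ((Scheme.Modules.pushforward f).obj (Coh.structureModule C))) :
    Module.finrank k (Coh.HH P E 0) ≤ Module.finrank k (Coh.HH P (CohB1.tensorMod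
        ((Scheme.Modules.pushforward f).obj (Coh.structureModule C)) E) 0) := by
  haveI : IsLocallyNoetherian P :=
    LocallyOfFiniteType.isLocallyNoetherian (P ↘ Spec (CommRingCat.of k))
  haveI := mono_unitToPush f
  have hm1 : Mono ((tR E).map (ClSub.unitToPush f)) := CurveTens.mono_tR hE (ClSub.unitToPush f)
  have hm2 : Mono (Groth.Agent.CMMul.unitorL E).inv := inferInstance
  have hm : Mono ((Groth.Agent.CMMul.unitorL E).inv ≫ (tR E).map (ClSub.unitToPush f)) :=
    @mono_comp _ _ _ _ _ _ hm2 _ hm1
  have hc : Coh.IsCoh (CohB1.tensorMod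
      ((Scheme.Modules.pushforward f).obj (Coh.structureModule C)) E) :=
    isCoh_tensorMod P hAc hE
  exact @CurveSub.finrank_HH0_le_of_mono k _ P _ _ _ _ _ _ hm hc

include hf in
/-- **`h⁰(P, E) ≤ h⁰(C, f^* E)`** for a finite flat surjective morphism to an integral scheme -/
theorem finrank_HH0_le_pullback [IsIntegral P] [Surjective f] {d : ℕ}
    (hrk : ∀ y : P, f.finrank y = d) (E : P.Modules) (hE : PicF.IsInvertible E) :
    Module.finrank k (Coh.HH P E 0) ≤
      Module.finrank k (Coh.HH C ((Scheme.Modules.pullback f).obj E) 0) := by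
  haveI : IsLocallyNoetherian P :=
    LocallyOfFiniteType.isLocallyNoetherian (P ↘ Spec (CommRingCat.of k))
  have hA := isFinLocFreeOfRank_pushO k f hrk
  have hE1 := FLFH8.finLocFreeOfRank_one_of_isInvertible hE
  have hE' := TensBasis.isFinLocFree_of_rank hE1
  have hpE := PBH8.isFinLocFree_pullback f hE'
  haveI : ((Scheme.Modules.pullback f).obj E).IsQuasicoherent :=
    FLFH8.isQuasicoherent_of_finLocFree _ hpE
  have hAc : Coh.IsCoh ((Scheme.Modules.pushforward f).obj (Coh.structureModule C)) :=
    KerFreeH8.isCoh_of_finLocFree (TensBasis.isFinLocFree_of_rank hA)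
  -- `H⁰(C, f^*E) ≅ H⁰(P, A ⊗ E)`
  have e1 : Module.finrank k (Coh.HH P ((Scheme.Modules.pushforward f).obj
      ((Scheme.Modules.pullback f).obj E)) 0) =
      Module.finrank k (Coh.HH C ((Scheme.Modules.pullback f).obj E) 0) :=
    (Groth.Agent.PushEdgeNat.pushEdgeEquiv f hf ((Scheme.Modules.pullback f).obj E) 0).finrank_eq
  have φ : (Scheme.Modules.pushforward f).obj ((Scheme.Modules.pullback f).obj E) ≅
      CohB1.tensorMod ((Scheme.Modules.pushforward f).obj (Coh.structureModule C)) E :=
    (Scheme.Modules.pushforward f).mapIso (rightUnit ((Scheme.Modules.pullback f).obj E)).symm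
      ≪≫ ((PFormH9.projIso f E hE').app (Coh.structureModule C)).symm ≪≫
      comm E ((Scheme.Modules.pushforward f).obj (Coh.structureModule C))
  have e2 : Module.finrank k (Coh.HH P ((Scheme.Modules.pushforward f).obj
      ((Scheme.Modules.pullback f).obj E)) 0) =
      Module.finrank k (Coh.HH P (CohB1.tensorMod
        ((Scheme.Modules.pushforward f).obj (Coh.structureModule C)) E) 0) :=
    finrank_HH_of_iso k P φ 0
  have h3 := finrank_HH0_le_tensor_pushO k f E hE hAc
  omega

end Cover

end HypEll
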