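import Mathlib
import Groth.Prelude
import Groth.Agent.Lib.CurveCliff1_helper9
import Groth.Agent.Lib.CurveTens4_helper9
import Groth.Agent.Lib.CurveRR1_helper9

/-!
# `h⁰(M^r) = r + 1` for a `g¹₂` on a curve over an algebraically closed field (helper9)
APPEND-ONLY once landed.  Towards S14340.
-/

set_option autoImplicit false
set_option linter.style.haveILetI false
universe u
open CategoryTheory CategoryTheory.Limits AlgebraicGeometry Opposite TopologicalSpace

namespace HypEll

open QcqsLoc QCohExtn GenLocH8 TensH8 FLFH8 CohB1 Groth.Agent.HHVan CurveAmple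

section AlgClosed

variable (k : Type u) [Field k] [IsAlgClosed k] (X : Scheme.{u}) [X.Over (Spec (CommRingCat.of k))]
  [IsIntegral X] [IsProper (X ↘ Spec (CommRingCat.of k))]

/-- `h⁰(M^r) ≥ r + 1` when `h⁰(M) ≥ 2` -/
theorem le_finrank_HH0_tensorPow (hdim : topologicalKrullDim X = 1) {M : X.Modules}
    (hM : PicF.IsInvertible M) (h2 : 2 ≤ Module.finrank k (Coh.HH X M 0)) (r : ℕ) :
    r + 1 ≤ Module.finrank k (Coh.HH X (CohB1.tensorPow M r) 0) := by
  induction r with
  | zero =>
    have h0 := CurveSpec.finrank_HH0_structureModule k X hdim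
    show 0 + 1 ≤ Module.finrank k (Coh.HH X (Coh.structureModule X) 0)
    omega
  | succ r ih =>
    have hs : Nontrivial (Coh.HH X (CohB1.tensorPow M r) 0) :=
      Module.nontrivial_of_finrank_pos (R := k) (by omega)
    have hs' : Nontrivial (Coh.HH X M 0) := Module.nontrivial_of_finrank_pos (R := k) (by omega)
    have h := CurveCliff.finrank_HH0_add_le k X (isInvertible_tensorPow hM r) hM hs hs'
    show r + 1 + 1 ≤ Module.finrank k (Coh.HH X (CohB1.tensorMod (CohB1.tensorPow M r) M) 0)
    omega

/-- **`h⁰(M^r) = r + 1`** for `M` of degree two with two sections and `r ≤ g - 1` -/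
theorem finrank_HH0_tensorPow_eq (hdim : topologicalKrullDim X = 1) {M : X.Modules}
    (hM : PicF.IsInvertible M) (hdeg : Curv2.deg k X M 1 = 2)
    (h2 : 2 ≤ Module.finrank k (Coh.HH X M 0)) (r : ℕ) (hr : r + 1 ≤ Curv2.genus k X) :
    Module.finrank k (Coh.HH X (CohB1.tensorPow M r) 0) = r + 1 := by
  haveI : IsLocallyNoetherian X :=
    LocallyOfFiniteType.isLocallyNoetherian (X ↘ Spec (CommRingCat.of k))
  have hge := le_finrank_HH0_tensorPow k X hdim hM h2 r
  have hinv := isInvertible_tensorPow hM r
  have hc := ProperFinH9.isCoh_of_isInvertible hinv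
  haveI := hc.1
  haveI := (CohDevH8.isCoh_structureModule X).1
  have hd : Curv2.deg k X (CohB1.tensorPow M r) 1 = 2 * (r : ℤ) := by
    rw [CurveTens.deg_tensorPow k X hdim.le hM r, hdeg]
    ring
  have e2 := CurveRR.euler_eq_sub k X hdim.le (CohB1.tensorPow M r)
  have e3 := CurveRR.euler_eq_sub k X hdim.le (Coh.structureModule X)
  have e4 := CurveSpec.finrank_HH0_structureModule k X hdim
  have hg : Curv2.genus k X = Module.finrank k (Coh.HH X (Coh.structureModule X) 1) := rfl
  have hd' := hd
  unfold Curv2.deg at hd'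
  rw [e2, e3, e4, ← hg] at hd'
  push_cast at hd'
  have hs : Nontrivial (Coh.HH X (CohB1.tensorPow M r) 0) :=
    Module.nontrivial_of_finrank_pos (R := k) (by omega)
  have hs1 : Nontrivial (Coh.HH X (CohB1.tensorPow M r) 1) :=
    Module.nontrivial_of_finrank_pos (R := k) (by omega)
  have hcl := CurveCliff.two_mul_finrank_HH0_le k X hdim hinv hs hs1
  rw [hd] at hcl
  omega

end AlgClosed

end HypEll
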