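import Mathlib
import Groth.Prelude
import Groth.Agent.Lib.CurvePtInv3_helper9
import Groth.Agent.Lib.CurveLin3_helper9

/-!
# One step of the long exact sequence (helper9), towards S6487.
APPEND-ONLY once landed.

For `0 → A → B → C → 0` on a proper scheme over a field with `H¹(B) = 0`, `h⁰(C) ≤ 1` and a global
section of `B` with nonzero image in `C`: `H¹(A) = 0` and `h⁰(A) + 1 = h⁰(B)`.
-/

set_option autoImplicit false
set_option linter.style.haveILetI false
universe u
open CategoryTheory CategoryTheory.Limits AlgebraicGeometry Opposite TopologicalSpace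

namespace PicBC

open QcqsLoc QCohExtn GenLocH8 TensH8 FLFH8 Groth.Agent.TensInv CurveAmple Groth.Agent.HHVan

variable (K : Type u) [Field K] (Y : Scheme.{u}) [Y.Over (Spec (CommRingCat.of K))]

omit [Y.Over (Spec (CommRingCat.of K))] in
theorem theta_comp [Y.Over (Spec (CommRingCat.of K))] {A B : Y.Modules}
    (v : Coh.structureModule Y ⟶ A) (g : A ⟶ B) :
    theta K B (v ≫ g) = hmap g 0 (theta K A v) := by
  show Canon.HHlin K (v ≫ g) 0 (oneClass Y) = Canon.HHlin K g 0 (Canon.HHlin K v 0 (oneClass Y))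
  rw [HHlin_comp]
  rfl

variable [IsProper (Y ↘ Spec (CommRingCat.of K))]

theorem step_of_ses (S : ShortComplex Y.Modules) (hS : S.ShortExact)
    (h1 : Coh.IsCoh S.X₁) (h2 : Coh.IsCoh S.X₂) (h3 : Coh.IsCoh S.X₃)
    (hH1 : Subsingleton (Coh.HH Y S.X₂ 1))
    (hQ : Module.finrank K (Coh.HH Y S.X₃ 0) ≤ 1)
    (σ : Coh.structureModule Y ⟶ S.X₂) (hσ : σ ≫ S.g ≠ 0) :
    Subsingleton (Coh.HH Y S.X₁ 1) ∧
      Module.finrank K (Coh.HH Y S.X₁ 0) + 1 = Module.finrank K (Coh.HH Y S.X₂ 0) := by
  haveI := ProperFinH9.finite_HH_of_proper K Y _ h1 0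
  haveI := ProperFinH9.finite_HH_of_proper K Y _ h2 0
  haveI := ProperFinH9.finite_HH_of_proper K Y _ h3 0
  haveI : Module.Finite K (Coh.structureModule Y ⟶ S.X₁) :=
    Module.Finite.equiv (CurveIdeal.thetaEquiv K _).symm
  haveI : Module.Finite K (Coh.structureModule Y ⟶ S.X₂) :=
    Module.Finite.equiv (CurveIdeal.thetaEquiv K _).symm
  haveI : Module.Finite K (Coh.structureModule Y ⟶ S.X₃) :=
    Module.Finite.equiv (CurveIdeal.thetaEquiv K _).symm
  haveI := hS.mono_f
  let a : (Coh.structureModule Y ⟶ S.X₁) →ₗ[K] (Coh.structureModule Y ⟶ S.X₂) :=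
    Linear.rightComp K (Coh.structureModule Y) S.f
  let b : (Coh.structureModule Y ⟶ S.X₂) →ₗ[K] (Coh.structureModule Y ⟶ S.X₃) :=
    Linear.rightComp K (Coh.structureModule Y) S.g
  have hker : LinearMap.ker b = LinearMap.range a := by
    apply le_antisymm
    · intro u hu
      have hu' : u ≫ S.g = 0 := hu
      exact ⟨hS.exact.lift u hu', hS.exact.lift_f u hu'⟩
    · rintro _ ⟨w, rfl⟩
      show (w ≫ S.f) ≫ S.g = 0
      rw [Category.assoc, S.zero, comp_zero]
  have hainj : Function.Injective a := fun u v h => (cancel_mono S.f).mp h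
  have h3' : Module.finrank K (Coh.structureModule Y ⟶ S.X₃) ≤ 1 := by
    rw [(CurveIdeal.thetaEquiv K S.X₃).finrank_eq]
    exact hQ
  have hrange_pos : 0 < Module.finrank K (LinearMap.range b) := by
    rw [Module.finrank_pos_iff_exists_ne_zero]
    refine ⟨⟨b σ, LinearMap.mem_range_self b σ⟩, ?_⟩
    intro h0
    exact hσ (congrArg Subtype.val h0)
  have hrange_le : Module.finrank K (LinearMap.range b) ≤
      Module.finrank K (Coh.structureModule Y ⟶ S.X₃) := Submodule.finrank_le _
  have hrange : Module.finrank K (LinearMap.range b) =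
      Module.finrank K (Coh.structureModule Y ⟶ S.X₃) := by omega
  have hbsurj : Function.Surjective b :=
    LinearMap.range_eq_top.mp (Submodule.eq_top_of_finrank_eq hrange)
  have hrn := LinearMap.finrank_range_add_finrank_ker b
  have hka : Module.finrank K (LinearMap.ker b) =
      Module.finrank K (Coh.structureModule Y ⟶ S.X₁) := by
    rw [hker]
    exact LinearMap.finrank_range_of_inj hainj
  have hcount : Module.finrank K (Coh.structureModule Y ⟶ S.X₁) + 1 =
      Module.finrank K (Coh.structureModule Y ⟶ S.X₂) := by omega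
  have hgsurj : Function.Surjective (hmap S.g 0) := by
    intro x
    obtain ⟨u, hu⟩ := (CurveIdeal.thetaEquiv K S.X₃).surjective x
    obtain ⟨v, hv⟩ := hbsurj u
    refine ⟨theta K S.X₂ v, ?_⟩
    rw [← theta_comp]
    have hv' : v ≫ S.g = u := hv
    rw [hv']
    exact hu
  have hinj := CurveLin.hmap_f_injective_of_g_surjective S hS 0 hgsurj
  refine ⟨⟨fun x y => hinj (Subsingleton.elim _ _)⟩, ?_⟩
  rw [← (CurveIdeal.thetaEquiv K S.X₁).finrank_eq, ← (CurveIdeal.thetaEquiv K S.X₂).finrank_eq]
  exact hcount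

end PicBC
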