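import Mathlib
import Groth.Prelude
import Groth.Agent.Lib.Snap14_helper9
import Groth.Agent.Lib.CurveGG2_helper9

/-!
# Sections of twists of invertible modules (helper9), towards S6487.
APPEND-ONLY once landed.

* `exists_section_ne_zero`: an invertible module has a nonzero section over every nonempty affine
  open;
* `exists_nonzero_hom_twist`: if `s : O ⟶ B` has a nonempty affine locus then `L ⊗ B^N` has a
  nonzero global section for all large `N`;
* `genLocus_nonempty_of_ne_zero`: on a reduced scheme, a nonzero section of an invertible module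
  generates it somewhere.
-/

set_option autoImplicit false
set_option linter.style.haveILetI false
universe u
open CategoryTheory CategoryTheory.Limits AlgebraicGeometry Opposite TopologicalSpace

namespace PicBC

open QcqsLoc QCohExtn GenLocH8 TensH8 FLFH8 Groth.Agent.TensInv

variable {X : Scheme.{u}}

/-- an invertible module has a nonzero section over every nonempty affine open -/
theorem exists_section_ne_zero {L : X.Modules} (hL : PicF.IsInvertible L) {V : X.Opens}
    (hV : IsAffineOpen V) (hne : (V : Set X).Nonempty) : ∃ t : Γ(L, V), t ≠ 0 := by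
  haveI := isQuasicoherent_of_isInvertible hL
  obtain ⟨y, hy⟩ := hne
  obtain ⟨W, -, hyW, hWV, e, he⟩ := exists_isGen_le hL y V hy
  obtain ⟨f, hfW, hyf⟩ := hV.exists_basicOpen_le (V := W) ⟨y, hyW⟩ hy
  have hD : X.basicOpen f ≤ V := X.basicOpen_le f
  obtain ⟨n, t, ht⟩ := surj_of_qcqs L f hV.isCompact hV.isQuasiSeparated (homOfLE hD) rfl
    (rF L hfW e)
  refine ⟨t, ?_⟩
  rintro rfl
  rw [map_zero] at ht
  have h1 : ((X.presheaf.map (homOfLE hD).op).hom f) ^ n = 0 := by
    refine ((he.res hfW) (X.basicOpen f) le_rfl).2 _ ?_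
    rw [SubExt.rF_self]
    exact ht
  have hunit : IsUnit ((X.presheaf.map (homOfLE hD).op).hom f) :=
    X.toRingedSpace.isUnit_res_basicOpen f
  have h2 : IsUnit (0 : Γ(X, X.basicOpen f)) := h1 ▸ hunit.pow n
  have h3 : (0 : Γ(X, X.basicOpen f)) = 1 := isUnit_zero_iff.mp h2
  have h4 := congrArg (X.presheaf.germ (X.basicOpen f) y hyf).hom h3
  rw [map_zero, map_one] at h4
  exact zero_ne_one h4

/-- the twist of a nonzero section by powers of `s` is nonzero on the locus of `s` -/
theorem twist_ne_zero {B : X.Modules} (s : Coh.structureModule X ⟶ B) (N : ℕ) (L : X.Modules)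
    {t : Γ(L, CohB1.genLocus B s)} (ht : t ≠ 0) :
    SecTwist.twist s N L (CohB1.genLocus B s) t ≠ 0 := by
  have h1 : IsGen B (CohB1.genLocus B s) (SecTwist.val s (CohB1.genLocus B s)) :=
    isGen_val_of_le_genLocus s le_rfl
  have h2 := isGen_lpow h1 N
  rw [CycCov.lpow_val] at h2
  intro h
  exact ht ((CurveTens.tmul_eq_zero_iff L h2 t).mp h)

/-- if `s : O ⟶ B` has a nonempty affine locus then `L ⊗ B^N` has a nonzero global section for
all large `N` -/
theorem exists_nonzero_hom_twist [CompactSpace X] [QuasiSeparatedSpace X] {B L : X.Modules}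
    (hB : PicF.IsInvertible B) (hL : PicF.IsInvertible L) (s : Coh.structureModule X ⟶ B)
    (haff : IsAffineOpen (CohB1.genLocus B s))
    (hne : ((CohB1.genLocus B s : X.Opens) : Set X).Nonempty) :
    ∃ n₁ : ℕ, ∀ N : ℕ, n₁ ≤ N →
      ∃ u : Coh.structureModule X ⟶ CohB1.tensorMod L (CohB1.tensorPow B N), u ≠ 0 := by
  haveI := isQuasicoherent_of_isInvertible hL
  obtain ⟨t, ht⟩ := exists_section_ne_zero hL haff hne
  obtain ⟨n0, hn0⟩ := exists_twist_extends hB s L t
  refine ⟨n0, fun N hN => ?_⟩
  obtain ⟨t', ht'⟩ := hn0 N hN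
  refine ⟨homOfSec _ t', ?_⟩
  intro h0
  have h1 := val_homOfSec _ t' (CohB1.genLocus B s)
  rw [ht'] at h1
  apply twist_ne_zero s N L ht
  rw [← h1, h0]
  rfl

/-- on a reduced scheme, a nonzero section of an invertible module generates it somewhere -/
theorem genLocus_nonempty_of_ne_zero [IsReduced X] {M : X.Modules} (hM : PicF.IsInvertible M)
    (σ : Coh.structureModule X ⟶ M) (hσ : σ ≠ 0) :
    ((CohB1.genLocus M σ : X.Opens) : Set X).Nonempty := by
  by_contra hne
  rw [Set.not_nonempty_iff_eq_empty] at hne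
  apply hσ
  apply CurveIdeal.hom_eq_zero_of_ap_one
  apply eq_zero_of_cover
  intro y _
  obtain ⟨W, hW, hyW, e, he⟩ := exists_isGen hM y
  refine ⟨W, le_top, hyW, ?_⟩
  rw [CurveLin.ap_one_res σ le_top]
  obtain ⟨f, hf⟩ := he.exists_coef (ap σ W (toM (1 : Γ(X, W))))
  have h1 := genLocus_inf_eq_basicOpen σ e he f hf
  have h2 : X.basicOpen f = ⊥ := by
    rw [← h1]
    ext z
    simp only [Opens.coe_inf, Opens.coe_bot, hne, Set.empty_inter]
  rw [AlgebraicGeometry.basicOpen_eq_bot_iff] at h2
  rw [hf, h2, zero_smul]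

end PicBC
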