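import Mathlib
import Groth.Prelude.Def_ega3
import Groth.Agent.Lib.UnramLoc_helper4

/-!
# Unramifiedness at a point and base change / fibres (helper4)
-/

universe u

set_option linter.style.haveILetI false

open CategoryTheory CategoryTheory.Limits AlgebraicGeometry

namespace Groth.Agent.Lib.UnramLocH4

/-- FU at a point is preserved by base change. -/
theorem stalk_unramified_baseChange {X Y X' Y' : Scheme.{u}} {f : X ⟶ Y} {g : Y' ⟶ Y}
    {f' : X' ⟶ Y'} {g' : X' ⟶ X} (sq : IsPullback g' f' f g) [LocallyOfFiniteType f] (x' : X')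
    (h : (f.stalkMap (g'.base x')).hom.FormallyUnramified) :
    (f'.stalkMap x').hom.FormallyUnramified := by
  have hx : g'.base x' ∈ unramLocus f := h
  have hx' : x' ∈ g' ⁻¹ᵁ unramLocus f := hx
  have hU : FormallyUnramified ((unramLocus f).ι ≫ f) := formallyUnramified_unramLocus f
  have big : IsPullback (g' ∣_ unramLocus f) ((g' ⁻¹ᵁ unramLocus f).ι ≫ f')
      ((unramLocus f).ι ≫ f) g :=
    (isPullback_morphismRestrict g' (unramLocus f)).paste_vert sq
  have hV : FormallyUnramified ((g' ⁻¹ᵁ unramLocus f).ι ≫ f') :=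
    MorphismProperty.of_isPullback (P := @FormallyUnramified) big hU
  exact stalk_of_nhd f' x' _ hx' hV

theorem stalk_unramified_iff_of_isPullback {X Y X' Y' : Scheme.{u}} {f : X ⟶ Y} {g : Y' ⟶ Y}
    {f' : X' ⟶ Y'} {g' : X' ⟶ X} (sq : IsPullback g' f' f g) [LocallyOfFiniteType f] (x' : X') :
    (f'.stalkMap x').hom.FormallyUnramified ↔
      (f.stalkMap (g'.base x')).hom.FormallyUnramified := by
  refine ⟨fun h => ?_, stalk_unramified_baseChange sq x'⟩
  have h1 : sq.isoPullback.hom ≫ pullback.snd f g = f' ≫ 𝟙 _ := by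
    rw [Category.comp_id]; exact sq.isoPullback_hom_snd
  have h2 : ((pullback.snd f g).stalkMap (sq.isoPullback.hom.base x')).hom.FormallyUnramified :=
    (stalk_transfer RingHom.FormallyUnramified.respectsIso sq.isoPullback.hom
      (pullback.snd f g) f' (𝟙 _) h1 x').mp h
  have h3 := stalk_unramified_descent f g (sq.isoPullback.hom.base x') h2
  have hpt : (pullback.fst f g).base (sq.isoPullback.hom.base x') = g'.base x' := by
    rw [← Scheme.Hom.comp_apply, sq.isoPullback_hom_fst]
  exact (stalk_congr_point (P := RingHom.FormallyUnramified) f hpt).mp h3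

theorem fiber_sq {X Y S : Scheme.{u}} (f : X ⟶ Y) (h : X ⟶ S) (g : Y ⟶ S) (w : f ≫ g = h)
    (s : S) :
    IsPullback (h.fiberι s) (CohIII.fiberMapOver f h g w s) f (g.fiberι s) := by
  subst w
  have A : IsPullback (pullback.fst (f ≫ g) (S.fromSpecResidueField s))
      (pullback.snd (f ≫ g) (S.fromSpecResidueField s)) (f ≫ g) (S.fromSpecResidueField s) :=
    IsPullback.of_hasPullback _ _
  have B : IsPullback (pullback.fst g (S.fromSpecResidueField s))
      (pullback.snd g (S.fromSpecResidueField s)) g (S.fromSpecResidueField s) :=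
    IsPullback.of_hasPullback _ _
  have e1 : pullback.map (f ≫ g) (S.fromSpecResidueField s) g (S.fromSpecResidueField s) f
      (𝟙 _) (𝟙 _) (by rw [Category.comp_id]) (by rw [Category.comp_id, Category.id_comp]) ≫
      pullback.snd g (S.fromSpecResidueField s) =
      pullback.snd (f ≫ g) (S.fromSpecResidueField s) :=
    (pullback.lift_snd _ _ _).trans (Category.comp_id _)
  have e2 : pullback.map (f ≫ g) (S.fromSpecResidueField s) g (S.fromSpecResidueField s) f
      (𝟙 _) (𝟙 _) (by rw [Category.comp_id]) (by rw [Category.comp_id, Category.id_comp]) ≫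
      pullback.fst g (S.fromSpecResidueField s) =
      pullback.fst (f ≫ g) (S.fromSpecResidueField s) ≫ f :=
    pullback.lift_fst _ _ _
  have key : IsPullback (pullback.fst (f ≫ g) (S.fromSpecResidueField s))
      (pullback.map (f ≫ g) (S.fromSpecResidueField s) g (S.fromSpecResidueField s) f
        (𝟙 _) (𝟙 _) (by rw [Category.comp_id]) (by rw [Category.comp_id, Category.id_comp]))
      f (pullback.fst g (S.fromSpecResidueField s)) :=
    (IsPullback.of_right (by rw [e1]; exact A.flip) e2 B.flip).flip
  exact key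

theorem main16765 {X Y S : Scheme.{u}} (g : Y ⟶ S) (h : X ⟶ S)
    [LocallyOfFinitePresentation g] [LocallyOfFinitePresentation h] (f : X ⟶ Y) (w : f ≫ g = h)
    (x : ↥X) (x' : ↥(h.fiber (h x))) (hx' : (h.fiberι (h x)) x' = x) :
    (∃ U : X.Opens, x ∈ U ∧ FormallyUnramified (U.ι ≫ f)) ↔
      ∃ V : (h.fiber (h x)).Opens, x' ∈ V ∧
        FormallyUnramified (V.ι ≫ CohIII.fiberMapOver f h g w (h x)) := by
  haveI : LocallyOfFiniteType f := by
    haveI : LocallyOfFiniteType (f ≫ g) := by rw [w]; infer_instance
    exact locallyOfFiniteType_of_comp f g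
  have sq := fiber_sq f h g w (h x)
  haveI : LocallyOfFiniteType (CohIII.fiberMapOver f h g w (h x)) :=
    MorphismProperty.of_isPullback (P := @LocallyOfFiniteType) sq inferInstance
  rw [exists_nhd_iff_stalk, exists_nhd_iff_stalk, stalk_unramified_iff_of_isPullback sq x']
  exact stalk_congr_point (P := RingHom.FormallyUnramified) f hx'.symm

end Groth.Agent.Lib.UnramLocH4
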