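import Mathlib

/-!
# Flat separated morphisms which are injective with trivial residue field extensions at generic
points are universally injective (helper4)
-/

set_option autoImplicit false
universe u
set_option linter.style.haveILetI false

open CategoryTheory CategoryTheory.Limits AlgebraicGeometry TopologicalSpace

namespace Groth.Agent.Lib.UnivInjGenH4

/-- A generic point of an irreducible component has no proper generalization. -/
theorem eq_of_specializes_of_mem_irreducibleComponents {P : Type*} [TopologicalSpace P] [T0Space P]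
    {ζ ζ' : P} (hζ : closure ({ζ} : Set P) ∈ irreducibleComponents P) (h : ζ' ⤳ ζ) : ζ' = ζ := by
  have h1 : closure ({ζ} : Set P) ⊆ closure {ζ'} := specializes_iff_closure_subset.mp h
  have h2 : closure ({ζ'} : Set P) ⊆ closure {ζ} :=
    hζ.2 (isIrreducible_singleton.closure) h1
  exact (h.antisymm (specializes_iff_closure_subset.mpr h2)).eq

/-- A generalizing map between quasi-sober T0 spaces maps generic points of irreducible components
to generic points of irreducible components. -/
theorem closure_image_mem_irreducibleComponents {P X : Type*} [TopologicalSpace P] [T0Space P]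
    [TopologicalSpace X] [QuasiSober X] (p : P → X) (hp : GeneralizingMap p)
    {ζ : P} (hζ : closure ({ζ} : Set P) ∈ irreducibleComponents P) :
    closure ({p ζ} : Set X) ∈ irreducibleComponents X := by
  obtain ⟨ξ', hξ'⟩ := QuasiSober.sober (isIrreducible_irreducibleComponent (x := p ζ))
    isClosed_irreducibleComponent
  have h1 : ξ' ⤳ p ζ := by
    rw [specializes_iff_mem_closure, hξ'.def]
    exact mem_irreducibleComponent
  obtain ⟨ζ', hζ', hpζ'⟩ := hp h1
  have : ζ' = ζ := eq_of_specializes_of_mem_irreducibleComponents hζ hζ'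
  subst this
  rw [hpζ', hξ'.def]
  exact irreducibleComponent_mem_irreducibleComponents _

set_option backward.isDefEq.respectTransparency.types false in
set_option backward.defeqAttrib.useBackward true in
theorem eq_of_comp_eq {X Y : Scheme.{u}} (f : X ⟶ Y) {K : Type u} [Field K]
    (g₁ g₂ : Spec (.of K) ⟶ X) (hg : g₁ ≫ f = g₂ ≫ f)
    (hpt : g₁ (IsLocalRing.closedPoint K) = g₂ (IsLocalRing.closedPoint K))
    (hs : Function.Surjective (f.residueFieldMap (g₁ (IsLocalRing.closedPoint K))).hom) :
    g₁ = g₂ := by
  obtain ⟨e, h⟩ := Scheme.SpecToEquivOfField_eq_iff.mp congr((Y.SpecToEquivOfField K) $(hg))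
  apply (X.SpecToEquivOfField K).injective
  dsimp at e h
  simp only [Scheme.descResidueField_stalkClosedPointTo_comp] at e h
  rw [← f.residueFieldMap_congr'_assoc hpt, CommRingCat.hom_ext_iff] at h
  rw [Scheme.SpecToEquivOfField_eq_iff]
  refine ⟨hpt, CommRingCat.hom_ext ?_⟩
  exact (RingHom.cancel_right hs).mp h

theorem main1162 {X Y : Scheme.{u}} (f : X ⟶ Y) [Flat f] [IsSeparated f]
    (h2 : ∀ ξ : X, closure ({ξ} : Set X) ∈ irreducibleComponents (X : Type u) →
      Function.Surjective (f.residueFieldMap ξ).hom)
    (h3 : Set.InjOn f.base {ξ : X | closure ({ξ} : Set X) ∈ irreducibleComponents (X : Type u)}) :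
    UniversallyInjective f := by
  rw [UniversallyInjective.iff_diagonal]
  refine ⟨fun z => ?_⟩
  obtain ⟨ζ, hζ⟩ := QuasiSober.sober (isIrreducible_irreducibleComponent (x := z))
    isClosed_irreducibleComponent
  have hζcomp : closure ({ζ} : Set ↥(pullback f f)) ∈ irreducibleComponents ↥(pullback f f) := by
    rw [hζ.def]; exact irreducibleComponent_mem_irreducibleComponents z
  have hzζ : z ∈ closure ({ζ} : Set ↥(pullback f f)) := by
    rw [hζ.def]; exact mem_irreducibleComponent
  have hclosed : IsClosed (Set.range (pullback.diagonal f)) :=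
    (pullback.diagonal f).isClosedEmbedding.isClosed_range
  suffices hζr : ζ ∈ Set.range (pullback.diagonal f) from
    (hclosed.closure_subset_iff.mpr (Set.singleton_subset_iff.mpr hζr)) hzζ
  have hξ1 : closure ({pullback.fst f f ζ} : Set X) ∈ irreducibleComponents (X : Type u) :=
    closure_image_mem_irreducibleComponents _ (Flat.generalizingMap (pullback.fst f f)) hζcomp
  have hξ2 : closure ({pullback.snd f f ζ} : Set X) ∈ irreducibleComponents (X : Type u) :=
    closure_image_mem_irreducibleComponents _ (Flat.generalizingMap (pullback.snd f f)) hζcomp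
  have hfe : f (pullback.fst f f ζ) = f (pullback.snd f f ζ) := by
    rw [← Scheme.Hom.comp_apply, ← Scheme.Hom.comp_apply, pullback.condition]
  have hξ : pullback.fst f f ζ = pullback.snd f f ζ := h3 hξ1 hξ2 hfe
  let K : Type u := (pullback f f).residueField ζ
  let φ : Spec (CommRingCat.of K) ⟶ pullback f f := (pullback f f).fromSpecResidueField ζ
  have hpt1 : (φ ≫ pullback.fst f f) (IsLocalRing.closedPoint K) = pullback.fst f f ζ := by
    rw [Scheme.Hom.comp_apply, Scheme.fromSpecResidueField_apply]
  have hpt2 : (φ ≫ pullback.snd f f) (IsLocalRing.closedPoint K) = pullback.snd f f ζ := by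
    rw [Scheme.Hom.comp_apply, Scheme.fromSpecResidueField_apply]
  have hφ : φ ≫ pullback.fst f f = φ ≫ pullback.snd f f := by
    refine eq_of_comp_eq f _ _ (by simp [pullback.condition]) (by rw [hpt1, hpt2, hξ]) ?_
    rw [hpt1]
    exact h2 _ hξ1
  have hφ₂ : φ = (φ ≫ pullback.fst f f) ≫ pullback.diagonal f := by
    apply pullback.hom_ext
    · simp
    · simp [hφ]
  refine ⟨(φ ≫ pullback.fst f f) (IsLocalRing.closedPoint K), ?_⟩
  rw [← Scheme.Hom.comp_apply, ← hφ₂, Scheme.fromSpecResidueField_apply]

end Groth.Agent.Lib.UnivInjGenH4
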