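import Mathlib
import Groth.Agent.Lib.FibreUnram_helper4
import Groth.Agent.Lib.UnivInjGen_helper4

/-!
# Closed immersions in a neighbourhood of a fibre (helper4)

A universally closed morphism locally of finite type whose fibre over `y` is empty, or a single
point at which `f` is unramified with trivial residue field extension, is a closed immersion over
a neighbourhood of `y`.
-/

set_option autoImplicit false
universe u
set_option linter.style.haveILetI false

open CategoryTheory CategoryTheory.Limits AlgebraicGeometry TopologicalSpace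

namespace Groth.Agent.Lib.ClImmNhdH4

open Groth.Agent.Lib.UnramLocH4 Groth.Agent.Lib.UnivInjGenH4

section Residue

variable {A B C D : Scheme.{u}}

theorem res_comp_apply (p : A ⟶ B) (q : B ⟶ D) (a : A) (t : D.residueField ((p ≫ q) a)) :
    ((p ≫ q).residueFieldMap a).hom t =
      (p.residueFieldMap a).hom ((q.residueFieldMap (p a)).hom t) := by
  rw [Scheme.residueFieldMap_comp]
  rfl

theorem res_surj_congr {φ ψ : A ⟶ D} (e : φ = ψ) (a : A) :
    Function.Surjective (φ.residueFieldMap a).hom ↔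
      Function.Surjective (ψ.residueFieldMap a).hom := by
  subst e; rfl

theorem res_surj_comp (p : A ⟶ B) (q : B ⟶ D) (a : A)
    (hp : Function.Surjective (p.residueFieldMap a).hom)
    (hq : Function.Surjective (q.residueFieldMap (p a)).hom) :
    Function.Surjective ((p ≫ q).residueFieldMap a).hom := by
  intro t
  obtain ⟨u₁, hu₁⟩ := hp t
  obtain ⟨u₂, hu₂⟩ := hq u₁
  refine ⟨u₂, ?_⟩
  rw [res_comp_apply]
  exact (congrArg (p.residueFieldMap a).hom hu₂).trans hu₁

theorem residue_surjective_right (p : A ⟶ B) (q : B ⟶ D) (r : A ⟶ C) (s : C ⟶ D)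
    (w : p ≫ q = r ≫ s) (a : A)
    (hr : Function.Surjective (r.residueFieldMap a).hom)
    (hs : Function.Surjective (s.residueFieldMap (r a)).hom) :
    Function.Surjective (q.residueFieldMap (p a)).hom := by
  have h1 : Function.Surjective ((r ≫ s).residueFieldMap a).hom := res_surj_comp r s a hr hs
  rw [← res_surj_congr w a] at h1
  have hinj : Function.Injective (p.residueFieldMap a).hom := RingHom.injective _
  intro t
  obtain ⟨u, hu⟩ := h1 ((p.residueFieldMap a).hom t)
  rw [res_comp_apply] at hu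
  exact ⟨u, hinj hu⟩

theorem residue_surjective_left (p : A ⟶ B) (q : B ⟶ D) (r : A ⟶ C) (s : C ⟶ D)
    (w : p ≫ q = r ≫ s) (a : A)
    (hp : Function.Surjective (p.residueFieldMap a).hom)
    (hq : Function.Surjective (q.residueFieldMap (p a)).hom) :
    Function.Surjective (r.residueFieldMap a).hom := by
  have h1 : Function.Surjective ((p ≫ q).residueFieldMap a).hom := res_surj_comp p q a hp hq
  rw [res_surj_congr w a] at h1
  intro t
  obtain ⟨u, hu⟩ := h1 t
  rw [res_comp_apply] at hu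
  exact ⟨_, hu⟩

theorem residue_surjective_of_stalk (f : A ⟶ B) (x : A)
    (h : Function.Surjective (f.stalkMap x)) :
    Function.Surjective (f.residueFieldMap x).hom := by
  intro t
  obtain ⟨t', rfl⟩ := A.residue_surjective x t
  obtain ⟨u, rfl⟩ := h t'
  exact ⟨B.residue (f x) u, ConcreteCategory.congr_hom (Scheme.residue_residueFieldMap f x) u⟩

end Residue

section Restrict

variable {P : MorphismProperty Scheme.{u}} [IsZariskiLocalAtTarget P] {X Y : Scheme.{u}}

theorem restrict_of_le (f : X ⟶ Y) {U V : Y.Opens} (hVU : V ≤ U) (h : P (f ∣_ U)) :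
    P (f ∣_ V) := by
  have h1 : P (f ∣_ U ∣_ (U.ι ⁻¹ᵁ V)) := IsZariskiLocalAtTarget.restrict h _
  rw [MorphismProperty.arrow_mk_iso_iff P (morphismRestrictRestrict f U (U.ι ⁻¹ᵁ V))] at h1
  have e : U.ι ''ᵁ (U.ι ⁻¹ᵁ V) = V := by
    rw [Scheme.Hom.image_preimage_eq_opensRange_inf, Scheme.Opens.opensRange_ι]
    exact inf_eq_right.mpr hVU
  rwa [e] at h1

theorem restrict_of_forall_exists (f : X ⟶ Y) (A : Y.Opens)
    (H : ∀ a ∈ A, ∃ V : Y.Opens, a ∈ V ∧ P (f ∣_ V)) : P (f ∣_ A) := by
  refine IsZariskiLocalAtTarget.of_forall_exists_morphismRestrict (P := P) fun a => ?_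
  obtain ⟨V, haV, hV⟩ := H a.1 a.2
  have h1 : P (f ∣_ (A ⊓ V)) := restrict_of_le f inf_le_right hV
  refine ⟨A.ι ⁻¹ᵁ V, haV, ?_⟩
  rw [MorphismProperty.arrow_mk_iso_iff P (morphismRestrictRestrict f A (A.ι ⁻¹ᵁ V))]
  have e : A.ι ''ᵁ (A.ι ⁻¹ᵁ V) = A ⊓ V := by
    rw [Scheme.Hom.image_preimage_eq_opensRange_inf, Scheme.Opens.opensRange_ι]
  rw [e]
  exact h1

theorem exists_nhd_of_fibre (f : X ⟶ Y) {S : Scheme.{u}} (h : Y ⟶ S) [UniversallyClosed h]
    (s : S) (H : ∀ y : Y, h y = s → ∃ V : Y.Opens, y ∈ V ∧ P (f ∣_ V)) :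
    ∃ U : S.Opens, s ∈ U ∧ P (f ∣_ (h ⁻¹ᵁ U)) := by
  let T : Set Y := {y | ∃ V : Y.Opens, y ∈ V ∧ P (f ∣_ V)}
  have hT : IsOpen T := by
    refine isOpen_iff_forall_mem_open.mpr ?_
    rintro y ⟨V, hyV, hV⟩
    exact ⟨V, fun y' hy' => ⟨V, hy', hV⟩, V.2, hyV⟩
  have hcl : IsClosed (h '' Tᶜ) := h.isClosedMap _ hT.isClosed_compl
  refine ⟨⟨(h '' Tᶜ)ᶜ, hcl.isOpen_compl⟩, ?_, ?_⟩
  · rintro ⟨y, hy, hys⟩
    exact hy (H y hys)
  · refine restrict_of_forall_exists f _ fun a ha => ?_
    have ha' : h a ∉ h '' Tᶜ := ha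
    by_contra hnot
    exact ha' ⟨a, hnot, rfl⟩

end Restrict

section Main

variable {X Y : Scheme.{u}}

theorem exists_preimage_of_isPullback {P' X' Y' Z' : Scheme.{u}} {fst : P' ⟶ X'} {snd : P' ⟶ Y'}
    {f : X' ⟶ Z'} {g : Y' ⟶ Z'} (sq : IsPullback fst snd f g) (x : X') (y : Y')
    (h : f x = g y) : ∃ z : P', fst z = x ∧ snd z = y := by
  obtain ⟨w, hw1, hw2⟩ := Scheme.Pullback.exists_preimage_pullback x y h
  refine ⟨sq.isoPullback.inv w, ?_, ?_⟩
  · rw [← Scheme.Hom.comp_apply, sq.isoPullback_inv_fst]; exact hw1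
  · rw [← Scheme.Hom.comp_apply, sq.isoPullback_inv_snd]; exact hw2

theorem eq_diagonal_of_fst_eq_snd (f : X ⟶ Y) (z : ↥(pullback f f))
    (h : pullback.fst f f z = pullback.snd f f z)
    (hs : Function.Surjective (f.residueFieldMap (pullback.fst f f z)).hom) :
    z = pullback.diagonal f (pullback.fst f f z) := by
  let K : Type u := (pullback f f).residueField z
  let φ : Spec (CommRingCat.of K) ⟶ pullback f f := (pullback f f).fromSpecResidueField z
  have hpt1 : (φ ≫ pullback.fst f f) (IsLocalRing.closedPoint K) = pullback.fst f f z := by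
    rw [Scheme.Hom.comp_apply, Scheme.fromSpecResidueField_apply]
  have hpt2 : (φ ≫ pullback.snd f f) (IsLocalRing.closedPoint K) = pullback.snd f f z := by
    rw [Scheme.Hom.comp_apply, Scheme.fromSpecResidueField_apply]
  have hφ : φ ≫ pullback.fst f f = φ ≫ pullback.snd f f := by
    refine eq_of_comp_eq f _ _ (by simp [pullback.condition]) (by rw [hpt1, hpt2, h]) ?_
    rw [hpt1]
    exact hs
  have hφ₂ : φ = (φ ≫ pullback.fst f f) ≫ pullback.diagonal f := by
    apply pullback.hom_ext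
    · simp
    · simp [hφ]
  have key : pullback.diagonal f ((φ ≫ pullback.fst f f) (IsLocalRing.closedPoint K)) = z := by
    rw [← Scheme.Hom.comp_apply, ← hφ₂, Scheme.fromSpecResidueField_apply]
  rw [hpt1] at key
  exact key.symm

theorem exists_nhd_of_empty (f : X ⟶ Y) [UniversallyClosed f] (y : Y)
    (h : f ⁻¹' {y} = ∅) : ∃ U : Y.Opens, y ∈ U ∧ IsClosedImmersion (f ∣_ U) := by
  have hcl : IsClosed (Set.range f) := f.isClosedMap.isClosed_range
  refine ⟨⟨(Set.range f)ᶜ, hcl.isOpen_compl⟩, ?_, ?_⟩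
  · rintro ⟨x, hx⟩
    have : x ∈ f ⁻¹' {y} := hx
    rw [h] at this; exact this
  · haveI : IsEmpty ↥((f ⁻¹ᵁ (⟨(Set.range f)ᶜ, hcl.isOpen_compl⟩ : Y.Opens)).toScheme) :=
      ⟨fun x => x.2 ⟨x.1, rfl⟩⟩
    infer_instance

theorem exists_nhd_of_singleton (f : X ⟶ Y) [LocallyOfFiniteType f] [UniversallyClosed f]
    (y : Y) (x : X) (hx : f ⁻¹' {y} = {x})
    (hunr : (f.stalkMap x).hom.FormallyUnramified)
    (hres : Function.Surjective (f.residueFieldMap x).hom) :
    ∃ U : Y.Opens, y ∈ U ∧ IsClosedImmersion (f ∣_ U) := by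
  have hxW : x ∈ unramLocus f := hunr
  obtain ⟨g, hg⟩ : ∃ g : (unramLocus f).toScheme ⟶ Y, g = (unramLocus f).ι ≫ f := ⟨_, rfl⟩
  haveI : FormallyUnramified g := by rw [hg]; exact formallyUnramified_unramLocus f
  haveI : LocallyOfFiniteType g := by rw [hg]; infer_instance
  obtain ⟨m, hmdef⟩ : ∃ m : pullback g g ⟶ pullback f f,
      m = pullback.map g g f f (unramLocus f).ι (unramLocus f).ι (𝟙 Y)
        (by rw [Category.comp_id, hg]) (by rw [Category.comp_id, hg]) := ⟨_, rfl⟩
  haveI : IsOpenImmersion m := by rw [hmdef]; infer_instance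
  have hm : pullback.diagonal g ≫ m = (unramLocus f).ι ≫ pullback.diagonal f := by
    rw [hmdef]
    apply pullback.hom_ext
    · rw [Category.assoc, pullback.lift_fst, pullback.diagonal_fst_assoc, Category.assoc,
        pullback.diagonal_fst, Category.comp_id]
    · rw [Category.assoc, pullback.lift_snd, pullback.diagonal_snd_assoc, Category.assoc,
        pullback.diagonal_snd, Category.comp_id]
  have h3 : ∀ a : X, pullback.fst f f (pullback.diagonal f a) = a := fun a => by
    rw [← Scheme.Hom.comp_apply, pullback.diagonal_fst]; rfl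
  let O : Set ↥(pullback f f) := Set.range ((unramLocus f).ι ≫ pullback.diagonal f)
  have hO : IsOpen O := by
    show IsOpen (Set.range ((unramLocus f).ι ≫ pullback.diagonal f))
    rw [← hm]; exact (pullback.diagonal g ≫ m).isOpenEmbedding.isOpen_range
  have hOW : ∀ a : X, a ∈ unramLocus f → pullback.diagonal f a ∈ O := fun a ha =>
    ⟨⟨a, ha⟩, by rw [Scheme.Hom.comp_apply]; rfl⟩
  have hOW' : ∀ z ∈ O, pullback.fst f f z ∈ unramLocus f ∧
      z = pullback.diagonal f (pullback.fst f f z) := by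
    rintro z ⟨w, rfl⟩
    rw [Scheme.Hom.comp_apply, h3]
    exact ⟨w.2, rfl⟩
  obtain ⟨p, hp⟩ : ∃ p : pullback f f ⟶ Y, p = pullback.fst f f ≫ f := ⟨_, rfl⟩
  haveI : UniversallyClosed p := by rw [hp]; infer_instance
  have hpz : ∀ z : ↥(pullback f f), p z = f (pullback.fst f f z) := fun z => by
    rw [hp, Scheme.Hom.comp_apply]
  have hcl : IsClosed (p '' Oᶜ) := p.isClosedMap _ hO.isClosed_compl
  have hy : y ∉ p '' Oᶜ := by
    rintro ⟨z, hz, hzy⟩
    apply hz
    rw [hpz] at hzy
    have h1 : pullback.fst f f z = x := by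
      have : pullback.fst f f z ∈ f ⁻¹' {y} := hzy
      rw [hx] at this; exact this
    have h2 : pullback.snd f f z = x := by
      have : pullback.snd f f z ∈ f ⁻¹' {y} := by
        show f (pullback.snd f f z) = y
        rw [← Scheme.Hom.comp_apply, ← pullback.condition, Scheme.Hom.comp_apply]; exact hzy
      rw [hx] at this; exact this
    have hz' : z = pullback.diagonal f (pullback.fst f f z) :=
      eq_diagonal_of_fst_eq_snd f z (h1.trans h2.symm) (by rw [h1]; exact hres)
    rw [hz', h1]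
    exact hOW x hxW
  obtain ⟨U, hUdef⟩ : ∃ U : Y.Opens, U = ⟨(p '' Oᶜ)ᶜ, hcl.isOpen_compl⟩ := ⟨_, rfl⟩
  have hUmem : ∀ b : Y, b ∈ U ↔ b ∉ p '' Oᶜ := fun b => by rw [hUdef]; rfl
  have hUO : ∀ z : ↥(pullback f f), p z ∈ U → z ∈ O := fun z hz => by
    by_contra hzO
    exact (hUmem _).mp hz ⟨z, hzO, rfl⟩
  have hUW : f ⁻¹ᵁ U ≤ unramLocus f := by
    intro a ha
    have ha' : f a ∈ U := ha
    have h4 : pullback.diagonal f a ∈ O := hUO _ (by rw [hpz, h3]; exact ha')
    have h5 := (hOW' _ h4).1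
    rwa [h3] at h5
  haveI hFU : FormallyUnramified (f ∣_ U) := by
    haveI : FormallyUnramified (f ∣_ U ≫ U.ι) := by
      rw [morphismRestrict_ι]
      have e : (f ⁻¹ᵁ U).ι ≫ f = X.homOfLE hUW ≫ (unramLocus f).ι ≫ f := by
        rw [← Category.assoc, Scheme.homOfLE_ι]
      rw [e]
      exact MorphismProperty.comp_mem @FormallyUnramified (X.homOfLE hUW)
        ((unramLocus f).ι ≫ f) inferInstance (formallyUnramified_unramLocus f)
    exact FormallyUnramified.of_comp (f ∣_ U) U.ι
  obtain ⟨mU, hmUdef⟩ : ∃ mU : pullback (f ∣_ U) (f ∣_ U) ⟶ pullback f f,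
      mU = pullback.map (f ∣_ U) (f ∣_ U) f f (f ⁻¹ᵁ U).ι (f ⁻¹ᵁ U).ι U.ι
        (morphismRestrict_ι f U) (morphismRestrict_ι f U) := ⟨_, rfl⟩
  haveI : IsOpenImmersion mU := by rw [hmUdef]; infer_instance
  have hmU : pullback.diagonal (f ∣_ U) ≫ mU = (f ⁻¹ᵁ U).ι ≫ pullback.diagonal f := by
    rw [hmUdef]
    apply pullback.hom_ext
    · rw [Category.assoc, pullback.lift_fst, pullback.diagonal_fst_assoc, Category.assoc,
        pullback.diagonal_fst, Category.comp_id]
    · rw [Category.assoc, pullback.lift_snd, pullback.diagonal_snd_assoc, Category.assoc,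
        pullback.diagonal_snd, Category.comp_id]
  have hmU1 : mU ≫ pullback.fst f f = pullback.fst (f ∣_ U) (f ∣_ U) ≫ (f ⁻¹ᵁ U).ι := by
    rw [hmUdef]; exact pullback.lift_fst _ _ _
  have hsurj : Function.Surjective (pullback.diagonal (f ∣_ U)) := by
    intro z'
    refine ⟨pullback.fst (f ∣_ U) (f ∣_ U) z', ?_⟩
    apply mU.isOpenEmbedding.injective
    have h5 : pullback.fst f f (mU z') =
        (f ⁻¹ᵁ U).ι (pullback.fst (f ∣_ U) (f ∣_ U) z') := by
      rw [← Scheme.Hom.comp_apply, hmU1, Scheme.Hom.comp_apply]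
    have h6 : mU z' ∈ O := by
      apply hUO
      rw [hpz, h5]
      exact (pullback.fst (f ∣_ U) (f ∣_ U) z').2
    have h7 := (hOW' _ h6).2
    rw [← Scheme.Hom.comp_apply, hmU, Scheme.Hom.comp_apply, ← h5]
    exact h7.symm
  haveI : IsIso (pullback.diagonal (f ∣_ U)) :=
    (isIso_iff_isOpenImmersion_and_surjective _).mpr ⟨inferInstance, ⟨hsurj⟩⟩
  haveI : Mono (f ∣_ U) := (pullback.isIso_diagonal_iff _).mp inferInstance
  haveI : IsProper (f ∣_ U) := {}
  exact ⟨U, (hUmem y).mpr hy,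
    (IsClosedImmersion.iff_isProper_and_mono _).mpr ⟨inferInstance, inferInstance⟩⟩

theorem exists_nhd_local (f : X ⟶ Y) [LocallyOfFiniteType f] (y : Y) (V : Y.Opens) (hyV : y ∈ V)
    [UniversallyClosed (f ∣_ V)]
    (H : f ⁻¹' {y} = ∅ ∨ ∃ x : X, f ⁻¹' {y} = {x} ∧ (f.stalkMap x).hom.FormallyUnramified ∧
      Function.Surjective (f.residueFieldMap x).hom) :
    ∃ U : Y.Opens, y ∈ U ∧ IsClosedImmersion (f ∣_ U) := by
  have hpt : ∀ a : ↥(f ⁻¹ᵁ V).toScheme, V.ι ((f ∣_ V) a) = f ((f ⁻¹ᵁ V).ι a) := fun a => by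
    rw [← Scheme.Hom.comp_apply, ← Scheme.Hom.comp_apply, morphismRestrict_ι]
  have hfib : ∀ a : ↥(f ⁻¹ᵁ V).toScheme,
      (f ∣_ V) a = ⟨y, hyV⟩ ↔ f ((f ⁻¹ᵁ V).ι a) = y := by
    intro a
    rw [← hpt]
    constructor
    · intro h; rw [h]; rfl
    · intro h; exact V.ι.isOpenEmbedding.injective h
  have key : ∃ U' : V.toScheme.Opens, (⟨y, hyV⟩ : ↥V.toScheme) ∈ U' ∧
      IsClosedImmersion (f ∣_ V ∣_ U') := by
    rcases H with h0 | ⟨x, hx, hunr, hres⟩
    · refine exists_nhd_of_empty (f ∣_ V) ⟨y, hyV⟩ ?_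
      refine Set.eq_empty_iff_forall_notMem.mpr fun a ha => ?_
      have : (f ⁻¹ᵁ V).ι a ∈ f ⁻¹' {y} := (hfib a).mp ha
      rw [h0] at this; exact this
    · have hfx : f x = y := by
        have : x ∈ f ⁻¹' {y} := by rw [hx]; exact Set.mem_singleton _
        exact this
      have hxV : x ∈ f ⁻¹ᵁ V := by
        show f x ∈ V
        rw [hfx]; exact hyV
      refine exists_nhd_of_singleton (f ∣_ V) ⟨y, hyV⟩ ⟨x, hxV⟩ ?_ ?_ ?_
      · ext a
        constructor
        · intro ha
          have : (f ⁻¹ᵁ V).ι a ∈ f ⁻¹' {y} := (hfib a).mp ha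
          rw [hx] at this
          exact Subtype.ext this
        · intro ha
          rw [Set.mem_singleton_iff] at ha
          rw [ha]
          exact (hfib _).mpr hfx
      · exact (stalk_transfer RingHom.FormallyUnramified.respectsIso (f ⁻¹ᵁ V).ι f (f ∣_ V) V.ι
          (morphismRestrict_ι f V).symm ⟨x, hxV⟩).mpr hunr
      · exact residue_surjective_left (f ⁻¹ᵁ V).ι f (f ∣_ V) V.ι
          (morphismRestrict_ι f V).symm ⟨x, hxV⟩
          (ConcreteCategory.bijective_of_isIso ((f ⁻¹ᵁ V).ι.residueFieldMap ⟨x, hxV⟩)).2 hres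
  obtain ⟨U', hyU', hU'⟩ := key
  refine ⟨V.ι ''ᵁ U', ⟨⟨y, hyV⟩, hyU', rfl⟩, ?_⟩
  exact (MorphismProperty.arrow_mk_iso_iff @IsClosedImmersion
    (morphismRestrictRestrict f V U')).mp hU'

theorem residue_surjective_of_isIso_fiber (f : X ⟶ Y) (x : X)
    [IsIso (f.fiberToSpecResidueField (f x))] :
    Function.Surjective (f.residueFieldMap x).hom := by
  haveI : IsPreimmersion (Spec.map (f.residueFieldMap x)) := by
    rw [← f.asFiberHom_fiberToSpecResidueField x]
    infer_instance
  have h1 : (f.residueFieldMap x).hom.SurjectiveOnStalks :=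
    ((IsPreimmersion.SpecMap_iff _).mp inferInstance).2
  haveI : IsLocalHom (f.residueFieldMap x).hom := ⟨fun a ha => by
    rcases eq_or_ne a 0 with rfl | h
    · rw [map_zero] at ha; exact absurd ha not_isUnit_zero
    · exact isUnit_iff_ne_zero.mpr h⟩
  exact (RingHom.surjectiveOnStalks_iff_of_isLocalHom).mp h1

theorem exists_point_of_isIso_fiber (f : X ⟶ Y) [LocallyOfFiniteType f] (y : Y)
    [IsIso (f.fiberToSpecResidueField y)] :
    ∃ x : X, f ⁻¹' {y} = {x} ∧ (f.stalkMap x).hom.FormallyUnramified ∧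
      Function.Surjective (f.residueFieldMap x).hom := by
  have hsub : ∀ a b : ↥(f.fiber y), a = b := fun a b =>
    (f.fiberToSpecResidueField y).isOpenEmbedding.injective
      (Subsingleton.elim (α := PrimeSpectrum _) _ _)
  obtain ⟨x', -⟩ : ∃ x' : ↥(f.fiber y), x' = x' :=
    ⟨(inv (f.fiberToSpecResidueField y)) (IsLocalRing.closedPoint (Y.residueField y)), rfl⟩
  obtain ⟨x, hxdef⟩ : ∃ x : X, x = f.fiberι y x' := ⟨_, rfl⟩
  have hfx : f x = y := by
    have : x ∈ f ⁻¹' {y} := by rw [← f.range_fiberι y, hxdef]; exact ⟨x', rfl⟩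
    exact this
  refine ⟨x, ?_, ?_, ?_⟩
  · rw [← f.range_fiberι y]
    ext t
    constructor
    · rintro ⟨a, rfl⟩
      rw [hsub a x', ← hxdef]; exact Set.mem_singleton _
    · intro ht
      rw [Set.mem_singleton_iff] at ht
      rw [ht, hxdef]; exact ⟨x', rfl⟩
  · have h1 : ((f.fiberToSpecResidueField y).stalkMap x').hom.FormallyUnramified :=
      RingHom.FormallyUnramified.of_surjective
        (ConcreteCategory.bijective_of_isIso ((f.fiberToSpecResidueField y).stalkMap x')).2
    have h2 := (stalk_unramified_iff_of_isPullback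
      (IsPullback.of_hasPullback f (Y.fromSpecResidueField y)) x').mp h1
    rw [hxdef]; exact h2
  · haveI : IsIso (f.fiberToSpecResidueField (f x)) := by rw [hfx]; infer_instance
    exact residue_surjective_of_isIso_fiber f x

theorem isEmpty_or_isIso_of_isClosedImmersion {Z : Scheme.{u}} {R : CommRingCat.{u}}
    (hR : IsField R) (g : Z ⟶ Spec R) [IsClosedImmersion g] : IsEmpty Z ∨ IsIso g := by
  by_cases hZ : IsEmpty Z
  · exact Or.inl hZ
  · right
    rw [not_isEmpty_iff] at hZ
    haveI : Nontrivial Γ(Z, ⊤) := @Scheme.component_nontrivial Z ⊤ ⟨⟨hZ.some, trivial⟩⟩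
    apply IsClosedImmersion.isIso_of_injective_of_isAffine
    obtain ⟨φ, hφdef⟩ : ∃ φ : R ⟶ Γ(Z, ⊤), φ = (Scheme.ΓSpecIso R).inv ≫ g.appTop := ⟨_, rfl⟩
    have hφ : Function.Injective φ.hom := by
      refine (injective_iff_map_eq_zero φ.hom).mpr fun a ha => ?_
      by_contra h
      obtain ⟨b, hb⟩ := hR.mul_inv_cancel h
      have h1 := congrArg φ.hom hb
      rw [map_mul, ha, zero_mul, map_one] at h1
      exact zero_ne_one h1
    have e : ∀ a, g.appTop a = φ ((Scheme.ΓSpecIso R).hom a) := fun a => by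
      rw [hφdef]; simp
    intro a b hab
    rw [e, e] at hab
    exact (ConcreteCategory.bijective_of_isIso (Scheme.ΓSpecIso R).hom).1 (hφ hab)

theorem main2803 (f : X ⟶ Y) [LocallyOfFiniteType f] (y : Y) :
    (∃ U : Y.Opens, y ∈ U ∧ IsClosedImmersion (f ∣_ U)) ↔
      ((IsEmpty ↥(f.fiber y) ∨ IsIso (f.fiberToSpecResidueField y)) ∧
        ∃ V : Y.Opens, y ∈ V ∧ UniversallyClosed (f ∣_ V)) := by
  constructor
  · rintro ⟨U, hyU, hU⟩
    refine ⟨?_, U, hyU, inferInstance⟩
    have hrange : Set.range (Y.fromSpecResidueField y) ⊆ Set.range U.ι := by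
      rw [Scheme.range_fromSpecResidueField, Scheme.Opens.range_ι]
      exact Set.singleton_subset_iff.mpr hyU
    obtain ⟨σ', hσ'⟩ : ∃ σ' : Spec (Y.residueField y) ⟶ U.toScheme,
        σ' ≫ U.ι = Y.fromSpecResidueField y :=
      ⟨IsOpenImmersion.lift U.ι _ hrange, IsOpenImmersion.lift_fac _ _ _⟩
    have s : IsPullback (f.fiberι y) (f.fiberToSpecResidueField y) f (σ' ≫ U.ι) := by
      rw [hσ']; exact IsPullback.of_hasPullback _ _
    have t : IsPullback (f ⁻¹ᵁ U).ι (f ∣_ U) f U.ι := (isPullback_morphismRestrict f U).flip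
    have r := IsPullback.of_right' s t
    haveI : IsClosedImmersion (f.fiberToSpecResidueField y) :=
      MorphismProperty.of_isPullback (P := @IsClosedImmersion) r hU
    exact isEmpty_or_isIso_of_isClosedImmersion (Field.toIsField _)
      (f.fiberToSpecResidueField y)
  · rintro ⟨hfib, V, hyV, hV⟩
    haveI := hV
    refine exists_nhd_local f y V hyV ?_
    rcases hfib with h0 | hiso
    · left
      rw [← f.range_fiberι y]
      exact Set.range_eq_empty _
    · right
      haveI := hiso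
      exact exists_point_of_isIso_fiber f y

theorem main10861 {X Y S : Scheme.{u}} (f : X ⟶ Y) (g : X ⟶ S) (h : Y ⟶ S)
    (w : f ≫ h = g) [IsProper g] [IsProper h] (s : S) :
    (IsFinite (CohIII.fiberMapOver f g h w s) →
      ∃ U : S.Opens, s ∈ U ∧ IsFinite (f ∣_ (h ⁻¹ᵁ U))) ∧
    (IsClosedImmersion (CohIII.fiberMapOver f g h w s) →
      ∃ U : S.Opens, s ∈ U ∧ IsClosedImmersion (f ∣_ (h ⁻¹ᵁ U))) := by
  haveI : IsProper (f ≫ h) := by rw [w]; infer_instance
  haveI : IsProper f := IsProper.of_comp f h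
  have sq := fiber_sq f g h w s
  have hlift : ∀ (y' : ↥(h.fiber s)) (t : X), f t = h.fiberι s y' →
      ∃ z : ↥(g.fiber s), g.fiberι s z = t ∧ CohIII.fiberMapOver f g h w s z = y' :=
    fun y' t ht => exists_preimage_of_isPullback sq t y' ht
  have hyy : ∀ y : Y, h y = s → ∃ y' : ↥(h.fiber s), h.fiberι s y' = y := by
    intro y hy
    have : y ∈ Set.range (h.fiberι s) := by rw [h.range_fiberι s]; exact hy
    exact this
  constructor
  · intro hfin
    haveI := hfin
    refine exists_nhd_of_fibre (P := @IsFinite) f h s fun y hy => ?_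
    obtain ⟨y', rfl⟩ := hyy y hy
    refine exists_isFinite_morphismRestrict_of_finite_preimage_singleton f _ ?_
    refine Set.Finite.subset
      (((CohIII.fiberMapOver f g h w s).finite_preimage_singleton y').image (g.fiberι s)) ?_
    intro t ht
    obtain ⟨z, hz1, hz2⟩ := hlift y' t ht
    exact ⟨z, hz2, hz1⟩
  · intro hcl
    haveI := hcl
    refine exists_nhd_of_fibre (P := @IsClosedImmersion) f h s fun y hy => ?_
    obtain ⟨y', rfl⟩ := hyy y hy
    have hinj : Function.Injective (CohIII.fiberMapOver f g h w s) :=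
      (CohIII.fiberMapOver f g h w s).isClosedEmbedding.injective
    by_cases hz : ∃ z : ↥(g.fiber s), CohIII.fiberMapOver f g h w s z = y'
    · obtain ⟨z, hz⟩ := hz
      have hfz : f (g.fiberι s z) = h.fiberι s y' := by
        rw [← hz, ← Scheme.Hom.comp_apply, ← Scheme.Hom.comp_apply, sq.w]
      refine exists_nhd_of_singleton f _ (g.fiberι s z) ?_ ?_ ?_
      · ext t
        constructor
        · intro ht
          obtain ⟨z', hz'1, hz'2⟩ := hlift y' t ht
          have : z' = z := hinj (hz'2.trans hz.symm)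
          rw [← hz'1, this]; exact Set.mem_singleton _
        · intro ht
          rw [Set.mem_singleton_iff] at ht
          rw [ht]; exact hfz
      · exact (stalk_unramified_iff_of_isPullback sq z).mp
          (RingHom.FormallyUnramified.of_surjective
            ((CohIII.fiberMapOver f g h w s).stalkMap_surjective z))
      · refine residue_surjective_right (g.fiberι s) f (CohIII.fiberMapOver f g h w s)
          (h.fiberι s) sq.w z ?_ ?_
        · exact residue_surjective_of_stalk _ z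
            ((CohIII.fiberMapOver f g h w s).stalkMap_surjective z)
        · exact residue_surjective_of_stalk _ _ ((h.fiberι s).stalkMap_surjective _)
    · refine exists_nhd_of_empty f _ ?_
      refine Set.eq_empty_iff_forall_notMem.mpr fun t ht => hz ?_
      obtain ⟨z', -, hz'2⟩ := hlift y' t ht
      exact ⟨z', hz'2⟩

end Main

end Groth.Agent.Lib.ClImmNhdH4
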