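import Mathlib
import Groth.Agent.Lib.ClImmNhd_helper4

/-!
# A proper morphism of finite type schemes over an algebraically closed field which is injective
on closed points and on tangent spaces is a closed immersion (helper4)
-/

set_option autoImplicit false
universe u
set_option linter.style.haveILetI false

open CategoryTheory CategoryTheory.Limits AlgebraicGeometry TopologicalSpace IsLocalRing

namespace Groth.Agent.Lib.ClImmNhdH4

theorem isSeparable_of_surjective (K L : Type*) [Field K] [Field L] [Algebra K L]
    (h : Function.Surjective (algebraMap K L)) : Algebra.IsSeparable K L :=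
  ⟨fun x => by
    obtain ⟨a, rfl⟩ := h x
    show (minpoly K (algebraMap K L a)).Separable
    rw [minpoly.eq_X_sub_C_of_algebraMap_inj a (algebraMap K L).injective]
    exact Polynomial.separable_X_sub_C⟩

/-- Unramifiedness from the cotangent condition and trivial residue extension. -/
theorem unramified_of_cotangent {X Y : Scheme.{u}} (f : X ⟶ Y) (x : X)
    [IsNoetherianRing (X.presheaf.stalk x)] (hess : (f.stalkMap x).hom.EssFiniteType)
    (hres : Function.Surjective (f.residueFieldMap x).hom)
    (hT : Ideal.map (f.stalkMap x).hom (maximalIdeal (Y.presheaf.stalk (f.base x))) ⊔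
        maximalIdeal (X.presheaf.stalk x) ^ 2 = maximalIdeal (X.presheaf.stalk x)) :
    (f.stalkMap x).hom.FormallyUnramified := by
  letI := (f.stalkMap x).hom.toAlgebra
  haveI : Algebra.EssFiniteType (Y.presheaf.stalk (f x)) (X.presheaf.stalk x) := hess
  haveI : IsLocalHom (algebraMap (Y.presheaf.stalk (f x)) (X.presheaf.stalk x)) :=
    inferInstanceAs (IsLocalHom (f.stalkMap x).hom)
  have hsurj : Function.Surjective (algebraMap (ResidueField (Y.presheaf.stalk (f x)))
      (ResidueField (X.presheaf.stalk x))) := by
    intro b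
    obtain ⟨a, rfl⟩ := hres b
    obtain ⟨a', rfl⟩ := IsLocalRing.residue_surjective a
    exact ⟨IsLocalRing.residue _ a', rfl⟩
  haveI : Algebra.IsSeparable (ResidueField (Y.presheaf.stalk (f x)))
      (ResidueField (X.presheaf.stalk x)) := isSeparable_of_surjective _ _ hsurj
  have hm : (maximalIdeal (Y.presheaf.stalk (f x))).map
      (algebraMap (Y.presheaf.stalk (f x)) (X.presheaf.stalk x)) =
      maximalIdeal (X.presheaf.stalk x) := by
    refine le_antisymm (le_sup_left.trans_eq hT) ?_
    refine Submodule.le_of_le_smul_of_le_jacobson_bot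
      (I := maximalIdeal (X.presheaf.stalk x)) (IsNoetherian.noetherian _)
      (le_of_eq (IsLocalRing.jacobson_eq_maximalIdeal ⊥ bot_ne_top).symm) ?_
    have h2 : maximalIdeal (X.presheaf.stalk x) • maximalIdeal (X.presheaf.stalk x) =
        maximalIdeal (X.presheaf.stalk x) ^ 2 := by rw [pow_two]; rfl
    rw [h2]
    exact le_of_eq hT.symm
  exact Algebra.FormallyUnramified.of_map_maximalIdeal hm

/-- Residue fields of closed points of schemes locally of finite type over an algebraically
closed field are trivial. -/
theorem residue_surjective_of_isClosed (k : Type u) [Field k] [IsAlgClosed k] {X : Scheme.{u}}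
    (π : X ⟶ Spec (CommRingCat.of k)) [LocallyOfFiniteType π] (x : X)
    (hx : IsClosed ({x} : Set X)) : Function.Surjective (π.residueFieldMap x).hom := by
  have e := pointOfClosedPoint_comp π x hx
  have hid : ∀ t : ↥(Spec (CommRingCat.of k)), Function.Surjective
      (Scheme.Hom.residueFieldMap (𝟙 (Spec (CommRingCat.of k))) t).hom := fun t => by
    rw [Scheme.residueFieldMap_id]; exact fun u => ⟨u, rfl⟩
  have h2 := residue_surjective_right (pointOfClosedPoint π x hx) π (𝟙 _) (𝟙 _)
    (by rw [e, Category.comp_id]) (IsLocalRing.closedPoint k) (hid _) (hid _)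
  rwa [pointOfClosedPoint_apply] at h2

theorem main10867 (k : Type u) [Field k] [IsAlgClosed k]
    {X Y : Scheme.{u}} (f : X ⟶ Y) (q : Y ⟶ Spec (CommRingCat.of k)) [LocallyOfFiniteType q]
    [QuasiCompact q] [LocallyOfFiniteType (f ≫ q)] [IsProper f]
    (hinj : Set.InjOn f.base {x : X | IsClosed ({x} : Set X)})
    (hT : ∀ x : X, IsClosed ({x} : Set X) →
      Ideal.map (f.stalkMap x).hom (IsLocalRing.maximalIdeal (Y.presheaf.stalk (f.base x))) ⊔
        IsLocalRing.maximalIdeal (X.presheaf.stalk x) ^ 2 =
          IsLocalRing.maximalIdeal (X.presheaf.stalk x)) :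
    IsClosedImmersion f := by
  haveI : JacobsonSpace X := LocallyOfFiniteType.jacobsonSpace (f ≫ q)
  haveI : IsLocallyNoetherian X := LocallyOfFiniteType.isLocallyNoetherian (f ≫ q)
  haveI : CompactSpace Y := QuasiCompact.compactSpace_of_compactSpace q
  have hA : ∀ y : Y, IsClosed ({y} : Set Y) →
      ∃ U : Y.Opens, y ∈ U ∧ IsClosedImmersion (f ∣_ U) := by
    intro y hy
    have hZ : IsClosed (f ⁻¹' {y}) := hy.preimage f.continuous
    have hcl := JacobsonSpace.closure_inter_closedPoints hZ
    by_cases hne : (f ⁻¹' {y} ∩ closedPoints X).Nonempty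
    · obtain ⟨x, hxZ, hxc⟩ := hne
      have hxc' : IsClosed ({x} : Set X) := hxc
      have hsing : f ⁻¹' {y} ∩ closedPoints X = {x} := by
        ext a
        constructor
        · rintro ⟨haZ, hac⟩
          have hfa : f a = y := haZ
          have hfx : f x = y := hxZ
          exact hinj hac hxc (hfa.trans hfx.symm)
        · intro ha
          rw [Set.mem_singleton_iff] at ha
          rw [ha]; exact ⟨hxZ, hxc⟩
      rw [hsing, hxc'.closure_eq] at hcl
      have hπ := residue_surjective_of_isClosed k (f ≫ q) x hxc'
      have hres : Function.Surjective (f.residueFieldMap x).hom := by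
        intro v
        obtain ⟨t, ht⟩ := hπ v
        rw [res_comp_apply] at ht
        exact ⟨_, ht⟩
      have hunr := unramified_of_cotangent f x (LocallyOfFiniteType.stalkMap f x) hres (hT x hxc')
      exact exists_nhd_of_singleton f y x hcl.symm hunr hres
    · rw [Set.not_nonempty_iff_eq_empty] at hne
      rw [hne, closure_empty] at hcl
      exact exists_nhd_of_empty f y hcl.symm
  refine IsZariskiLocalAtTarget.of_forall_exists_morphismRestrict (P := @IsClosedImmersion)
    fun y => ?_
  obtain ⟨y₀, hy₀, hy₀c⟩ := IsClosed.exists_closed_singleton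
    (isClosed_closure (s := ({y} : Set Y))) ⟨y, subset_closure rfl⟩
  obtain ⟨U, hU, hcl⟩ := hA y₀ hy₀c
  have hsp : y ⤳ y₀ := specializes_iff_mem_closure.mpr hy₀
  exact ⟨U, hsp.mem_open U.2 hU, hcl⟩

end Groth.Agent.Lib.ClImmNhdH4
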