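import Mathlib
import Groth.Prelude

/-!
# The closed subscheme supported at a point defined by an ideal of the local ring (helper9).
APPEND-ONLY once landed.
-/

set_option autoImplicit false
set_option linter.style.haveILetI false
universe u
open CategoryTheory CategoryTheory.Limits AlgebraicGeometry Opposite TopologicalSpace

namespace VAmpC

section Stalk

variable {X : Scheme.{u}} (x : X) (I : Ideal (X.presheaf.stalk x))

open Classical in
/-- the ideals of the subscheme defined by an ideal of the local ring at `x` -/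
noncomputable def stalkIdealFam (U : X.affineOpens) : Ideal Γ(X, U) :=
  if h : x ∈ U.1 then Ideal.comap (X.presheaf.germ U.1 x h).hom I else ⊤

theorem stalkIdealFam_of_mem (U : X.affineOpens) (h : x ∈ U.1) :
    stalkIdealFam x I U = Ideal.comap (X.presheaf.germ U.1 x h).hom I := by
  unfold stalkIdealFam
  rw [dif_pos h]

theorem stalkIdealFam_of_notMem (U : X.affineOpens) (h : x ∉ U.1) :
    stalkIdealFam x I U = ⊤ := by
  unfold stalkIdealFam
  rw [dif_neg h]

variable (hI : ∃ n : ℕ, IsLocalRing.maximalIdeal (X.presheaf.stalk x) ^ n ≤ I)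

include hI in
theorem stalkIdealFam_map (U : X.affineOpens) (f : Γ(X, U)) :
    (stalkIdealFam x I U).map (X.presheaf.map (homOfLE <| X.basicOpen_le f).op).hom =
      stalkIdealFam x I (X.affineBasicOpen f) := by
  by_cases hxU : x ∈ U.1
  · by_cases hxf : x ∈ X.basicOpen f
    · have hxf' : x ∈ (X.affineBasicOpen f).1 := hxf
      rw [stalkIdealFam_of_mem x I U hxU, stalkIdealFam_of_mem x I _ hxf']
      change Ideal.map (X.presheaf.map (homOfLE <| X.basicOpen_le f).op).hom _ =
        Ideal.comap (X.presheaf.germ (X.basicOpen f) x hxf).hom I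
      have hgerm : ∀ c : Γ(X, U), (X.presheaf.germ (X.basicOpen f) x hxf).hom
          ((X.presheaf.map (homOfLE <| X.basicOpen_le f).op).hom c) =
          (X.presheaf.germ U.1 x hxU).hom c := fun c =>
        TopCat.Presheaf.germ_res_apply X.presheaf (homOfLE <| X.basicOpen_le f) x hxf c
      apply le_antisymm
      · rw [Ideal.map_le_iff_le_comap]
        intro a ha
        rw [Ideal.mem_comap] at ha
        rw [Ideal.mem_comap, Ideal.mem_comap, hgerm a]
        exact ha
      · intro b hb
        rw [Ideal.mem_comap] at hb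
        haveI := U.2.isLocalization_basicOpen f
        obtain ⟨⟨a, s⟩, has⟩ := IsLocalization.surj (Submonoid.powers f) b
        obtain ⟨n, hn⟩ := s.2
        have hn' : f ^ n = (s : Γ(X, U)) := hn
        have has' : b * (X.presheaf.map (homOfLE <| X.basicOpen_le f).op).hom (f ^ n) =
            (X.presheaf.map (homOfLE <| X.basicOpen_le f).op).hom a := by
          rw [hn']; exact has
        have ha : a ∈ Ideal.comap (X.presheaf.germ U.1 x hxU).hom I := by
          rw [Ideal.mem_comap, ← hgerm a, ← has', map_mul]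
          exact Ideal.mul_mem_right _ _ hb
        have hu : IsUnit ((X.presheaf.map (homOfLE <| X.basicOpen_le f).op).hom (f ^ n)) := by
          rw [map_pow]
          exact (X.toRingedSpace.isUnit_res_basicOpen f).pow n
        obtain ⟨u, hu⟩ := hu
        have hb' : b = (X.presheaf.map (homOfLE <| X.basicOpen_le f).op).hom a *
            ((u⁻¹ : (Γ(X, X.basicOpen f))ˣ) : Γ(X, X.basicOpen f)) := by
          rw [← has', ← hu, mul_assoc, Units.mul_inv, mul_one]
        rw [hb']
        exact Ideal.mul_mem_right _ _ (Ideal.mem_map_of_mem _ ha)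
    · have hxf' : x ∉ (X.affineBasicOpen f).1 := hxf
      rw [stalkIdealFam_of_mem x I U hxU, stalkIdealFam_of_notMem x I _ hxf']
      obtain ⟨n, hn⟩ := hI
      have hfm : (X.presheaf.germ U.1 x hxU).hom f ∈
          IsLocalRing.maximalIdeal (X.presheaf.stalk x) := by
        rw [IsLocalRing.mem_maximalIdeal, mem_nonunits_iff]
        intro hu
        exact hxf ((X.mem_basicOpen f x hxU).2 hu)
      have h1 : f ^ n ∈ Ideal.comap (X.presheaf.germ U.1 x hxU).hom I := by
        rw [Ideal.mem_comap, map_pow]
        exact hn (Ideal.pow_mem_pow hfm n)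
      have hu : IsUnit ((X.presheaf.map (homOfLE <| X.basicOpen_le f).op).hom (f ^ n)) := by
        rw [map_pow]
        exact (X.toRingedSpace.isUnit_res_basicOpen f).pow n
      exact Ideal.eq_top_of_isUnit_mem _ (Ideal.mem_map_of_mem _ h1) hu
  · have hxf' : x ∉ (X.affineBasicOpen f).1 := fun h => hxU (X.basicOpen_le f h)
    rw [stalkIdealFam_of_notMem x I U hxU, stalkIdealFam_of_notMem x I _ hxf', Ideal.map_top]
    rfl

/-- the closed subscheme supported at `x` defined by an `𝔪`-primary ideal of the local ring -/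
noncomputable def ofStalkIdeal : X.IdealSheafData where
  ideal := stalkIdealFam x I
  map_ideal_basicOpen := stalkIdealFam_map x I hI

theorem ofStalkIdeal_ideal (U : X.affineOpens) :
    (ofStalkIdeal x I hI).ideal U = stalkIdealFam x I U := rfl

theorem mem_ofStalkIdeal_iff {W : X.Opens} (hW : IsAffineOpen W) (hx : x ∈ W) (a : Γ(X, W)) :
    a ∈ (ofStalkIdeal x I hI).ideal ⟨W, hW⟩ ↔ (X.presheaf.germ W x hx).hom a ∈ I := by
  rw [ofStalkIdeal_ideal, stalkIdealFam_of_mem x I ⟨W, hW⟩ hx, Ideal.mem_comap]

theorem ofStalkIdeal_ideal_of_notMem {W : X.Opens} (hW : IsAffineOpen W) (hx : x ∉ W) :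
    (ofStalkIdeal x I hI).ideal ⟨W, hW⟩ = ⊤ := by
  rw [ofStalkIdeal_ideal, stalkIdealFam_of_notMem x I ⟨W, hW⟩ hx]

theorem support_ofStalkIdeal_subset (hx : IsClosed ({x} : Set X)) :
    ((ofStalkIdeal x I hI).support : Set X) ⊆ {x} := by
  intro y hy
  by_contra hne
  have hne' : y ≠ x := hne
  have hyo : y ∈ ({x} : Set X)ᶜ := hne'
  obtain ⟨_, ⟨W, hW : IsAffineOpen W, rfl⟩, hyW, hWx⟩ :=
    X.isBasis_affineOpens.exists_subset_of_mem_open hyo hx.isOpen_compl
  have hxW : x ∉ W := fun h => hWx h rfl
  have h1 := (Scheme.IdealSheafData.mem_support_iff_of_mem (I := ofStalkIdeal x I hI)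
    (U := ⟨W, hW⟩) hyW).1 hy
  rw [ofStalkIdeal_ideal_of_notMem x I hI hW hxW] at h1
  simp at h1
  exact h1 hyW

end Stalk

end VAmpC
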