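import Mathlib
import Groth.Prelude
import Groth.Agent.Lib.VAmpC3_helper9
import Groth.Agent.Lib.PtTwist1_helper9
import Groth.Agent.Lib.RatPts_helper4

/-!
# Degrees of some zero-dimensional subschemes (helper9).  APPEND-ONLY once landed.
-/

set_option autoImplicit false
set_option linter.style.haveILetI false
universe u
open CategoryTheory CategoryTheory.Limits AlgebraicGeometry Opposite TopologicalSpace

namespace VAmpC

open QuotSec

section Rat

variable (k : Type u) [Field k] [IsAlgClosed k] (X : Scheme.{u}) [X.Over (Spec (CommRingCat.of k))]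
  [LocallyOfFiniteType (X ↘ Spec (CommRingCat.of k))]

/-- closed points of schemes locally of finite type over an algebraically closed field are
rational -/
theorem resMap_surjective_of_isClosed {x : X} (hx : IsClosed ({x} : Set X)) :
    Function.Surjective (Curv2.resMap k X x) := by
  haveI : IsClosedImmersion (X.fromSpecResidueField x) :=
    isClosed_singleton_iff_isClosedImmersion.mp hx
  have h1 := Groth.Agent.Lib.RatPtsH4.fromSpecResidueField_comp k X x
  haveI : LocallyOfFiniteType (Spec.map (CommRingCat.ofHom (Curv2.resMap k X x))) := by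
    rw [← h1]; infer_instance
  have h2 : RingHom.FiniteType (CommRingCat.ofHom (Curv2.resMap k X x)).hom :=
    HasRingHomProperty.Spec_iff.mp ‹LocallyOfFiniteType (Spec.map _)›
  have h3 : (Curv2.resMap k X x).FiniteType := h2
  have h4 : (Curv2.resMap k X x).Finite :=
    RingHom.finite_iff_finiteType_of_isJacobsonRing.mpr h3
  letI := (Curv2.resMap k X x).toAlgebra
  haveI : Module.Finite k (X.residueField x) := h4
  haveI : Algebra.IsIntegral k (X.residueField x) := Algebra.IsIntegral.of_finite k _
  exact (IsAlgClosed.algebraMap_bijective_of_isIntegral (k := k) (K := X.residueField x)).2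

end Rat

section Deg

variable (k : Type u) [Field k] (X : Scheme.{u}) [X.Over (Spec (CommRingCat.of k))]
  [IsProper (X ↘ Spec (CommRingCat.of k))]

/-- a closed point of a proper scheme over an algebraically closed field has degree one -/
theorem finrank_HH0_quotMod_closedPoint [IsAlgClosed k] {x : X} (hx : IsClosed ({x} : Set X)) :
    Module.finrank k (Coh.HH X (ClSub.quotMod
      (Scheme.IdealSheafData.vanishingIdeal ⟨{x}, hx⟩)) 0) = 1 := by
  letI := Curv2.resAlgebra k X x
  have h1 := PtTwist.finrank_HH0_quotMod_point k X hx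
  rw [PtTwist.ker_fromSpecResidueField hx] at h1
  rw [h1]
  have hs := resMap_surjective_of_isClosed k X hx
  have hb : Function.Bijective (algebraMap k (X.residueField x)) :=
    ⟨(algebraMap k (X.residueField x)).injective, hs⟩
  have e : k ≃ₗ[k] X.residueField x :=
    { (RingEquiv.ofBijective (algebraMap k (X.residueField x)) hb) with
      map_smul' := fun c z => by
        show algebraMap k (X.residueField x) (c * z) = c • algebraMap k (X.residueField x) z
        rw [map_mul, Algebra.smul_def] }
  rw [← e.finrank_eq, Module.finrank_self]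

variable {X}

/-- the subscheme defined by an ideal of the local ring strictly smaller than the maximal ideal
has degree at least two -/
theorem two_le_finrank_HH0_ofStalkIdeal [IsLocallyNoetherian X] (x : X)
    (I : Ideal (X.presheaf.stalk x))
    (hI : ∃ n : ℕ, IsLocalRing.maximalIdeal (X.presheaf.stalk x) ^ n ≤ I)
    (hIm : I < IsLocalRing.maximalIdeal (X.presheaf.stalk x)) (hx : IsClosed ({x} : Set X)) :
    2 ≤ Module.finrank k (Coh.HH X (ClSub.quotMod (ofStalkIdeal x I hI)) 0) := by
  set Z := ofStalkIdeal x I hI with hZ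
  obtain ⟨_, ⟨U₀, hU₀, rfl⟩, hxU, -⟩ :=
    X.isBasis_affineOpens.exists_subset_of_mem_open (Set.mem_univ x) isOpen_univ
  let U : X.affineOpens := ⟨U₀, hU₀⟩
  letI := algU k U
  have hsupp : (Z.support : Set X) ⊆ (U : Set X) := by
    intro y hy
    have : y = x := support_ofStalkIdeal_subset x I hI hx hy
    rw [this]
    exact hxU
  set J : Ideal Γ(X, U) := Ideal.comap (X.presheaf.germ U.1 x hxU).hom I with hJ
  have hZU : Z.ideal U = J := stalkIdealFam_of_mem x I U hxU
  obtain ⟨e⟩ := nonempty_linearEquiv k Z U hsupp J hZU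
  haveI : Module.Finite k (Coh.HH X (ClSub.quotMod Z) 0) :=
    ProperFinH9.finite_HH_of_proper k X _ (CurveIdeal.isCoh_quotMod Z) 0
  haveI : Module.Finite k (Γ(X, U) ⧸ J) := Module.Finite.equiv e
  rw [e.finrank_eq]
  -- an element of `𝔪 \ I` coming from `Γ(X, U)`
  obtain ⟨u, hum, huI⟩ := SetLike.exists_of_lt hIm
  letI : Algebra Γ(X, U.1) (X.presheaf.stalk x) :=
    TopCat.Presheaf.algebra_section_stalk X.presheaf ⟨x, hxU⟩
  haveI : IsLocalization.AtPrime (X.presheaf.stalk x) (U.2.primeIdealOf ⟨x, hxU⟩).asIdeal :=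
    U.2.isLocalization_stalk ⟨x, hxU⟩
  obtain ⟨⟨a, s⟩, has⟩ := IsLocalization.surj (U.2.primeIdealOf ⟨x, hxU⟩).asIdeal.primeCompl u
  have has' : u * (X.presheaf.germ U.1 x hxU).hom (s : Γ(X, U)) =
      (X.presheaf.germ U.1 x hxU).hom a := has
  have hsu : IsUnit ((X.presheaf.germ U.1 x hxU).hom (s : Γ(X, U))) :=
    IsLocalization.map_units (M := (U.2.primeIdealOf ⟨x, hxU⟩).asIdeal.primeCompl)
      (X.presheaf.stalk x) s
  have ham : (X.presheaf.germ U.1 x hxU).hom a ∈
      IsLocalRing.maximalIdeal (X.presheaf.stalk x) := by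
    rw [← has']; exact Ideal.mul_mem_right _ _ hum
  have haI : (X.presheaf.germ U.1 x hxU).hom a ∉ I := by
    intro h
    apply huI
    obtain ⟨v, hv⟩ := hsu
    have : u = (X.presheaf.germ U.1 x hxU).hom a * ((v⁻¹ : (X.presheaf.stalk x)ˣ) : _) := by
      rw [← has', ← hv, mul_assoc, Units.mul_inv, mul_one]
    rw [this]
    exact Ideal.mul_mem_right _ _ h
  -- units
  have hunit : ∀ c : k, c ≠ 0 → IsUnit ((X.presheaf.germ U.1 x hxU).hom (strU k X U.1 c)) :=
    fun c hc => ((IsUnit.mk0 c hc).map (strU k X U.1)).map (X.presheaf.germ U.1 x hxU).hom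
  have hli : LinearIndependent k ![(Ideal.Quotient.mk J 1), (Ideal.Quotient.mk J a)] := by
    rw [LinearIndependent.pair_iff]
    intro c d hcd
    have h1 : c • (Ideal.Quotient.mk J 1) + d • (Ideal.Quotient.mk J a) =
        Ideal.Quotient.mk J (strU k X U.1 c * 1 + strU k X U.1 d * a) := by
      rw [Algebra.smul_def, Algebra.smul_def, map_add, map_mul, map_mul]
      rfl
    rw [h1, Ideal.Quotient.eq_zero_iff_mem, hJ, Ideal.mem_comap, map_add, map_mul, map_mul,
      map_one, mul_one] at hcd
    have hc : c = 0 := by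
      by_contra hc
      have h2 : (X.presheaf.germ U.1 x hxU).hom (strU k X U.1 c) ∈
          IsLocalRing.maximalIdeal (X.presheaf.stalk x) := by
        have h3 := (Ideal.add_mem_iff_left (IsLocalRing.maximalIdeal (X.presheaf.stalk x))
          (Ideal.mul_mem_left _ ((X.presheaf.germ U.1 x hxU).hom (strU k X U.1 d)) ham)).1
          (hIm.le hcd)
        exact h3
      exact (IsLocalRing.mem_maximalIdeal _).1 h2 (hunit c hc)
    subst hc
    refine ⟨rfl, ?_⟩
    by_contra hd
    rw [map_zero, map_zero, zero_add] at hcd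
    obtain ⟨v, hv⟩ := hunit d hd
    apply haI
    have : (X.presheaf.germ U.1 x hxU).hom a =
        ((v⁻¹ : (X.presheaf.stalk x)ˣ) : _) *
          ((X.presheaf.germ U.1 x hxU).hom (strU k X U.1 d) *
            (X.presheaf.germ U.1 x hxU).hom a) := by
      rw [← mul_assoc, ← hv, Units.inv_mul, one_mul]
    rw [this]
    exact Ideal.mul_mem_left _ _ hcd
  have := hli.fintype_card_le_finrank
  simpa using this

end Deg

end VAmpC
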