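import Mathlib
import Groth.Prelude
import Groth.Agent.Lib.CurveGG3_helper9

/-!
# Separation of zero-dimensional subschemes by sections of an invertible module of degree
`≥ 2g + 1` on an integral proper curve (helper9).  APPEND-ONLY once landed.
-/

set_option autoImplicit false
set_option linter.style.haveILetI false
universe u
open CategoryTheory CategoryTheory.Limits AlgebraicGeometry Opposite TopologicalSpace

namespace VAmpC

open QcqsLoc QCohExtn GenLocH8 TensH8 FLFH8 CohB1 Groth.Agent.HHVan CurveAmple CurveGG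

section Lift

variable {X : Scheme.{u}}

/-- a section of `L` which locally has coefficients in the ideal `Z` (with respect to some local
sections of `L`) comes from `I_Z ⊗ L` -/
theorem exists_lift_of_local (Z : X.IdealSheafData) {L : X.Modules} (hL : PicF.IsInvertible L)
    (σ : Coh.structureModule X ⟶ L)
    (h : ∀ y : X, ∃ (W : X.Opens) (hW : IsAffineOpen W), y ∈ W ∧ ∃ (e : Γ(L, W)) (f : Γ(X, W)),
      f ∈ Z.ideal ⟨W, hW⟩ ∧ ap σ W (toM (1 : Γ(X, W))) = f • e) :
    ∃ s : Coh.structureModule X ⟶ CohB1.tensorMod (ClSub.idealMod Z) L,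
      s ≫ twistι Z L = σ := by
  haveI := mono_twistι Z hL
  have key : σ ≫ cokernel.π (twistι Z L) = 0 := by
    apply CurveIdeal.hom_eq_zero_of_ap_one
    show ap (cokernel.π (twistι Z L)) ⊤ (ap σ ⊤ (toM (1 : Γ(X, ⊤)))) = 0
    apply eq_zero_of_cover
    intro y _
    obtain ⟨W, hW, hyW, e, f, hfZ, hf⟩ := h y
    refine ⟨W, le_top, hyW, ?_⟩
    rw [← ap_rF, CurveLin.ap_one_res σ le_top]
    obtain ⟨m, hm⟩ := ap_twistι_tmul Z L hW f hfZ e
    rw [hf, ← hm]
    have h1 : ap (cokernel.π (twistι Z L)) W (ap (twistι Z L) W m) =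
        ap (twistι Z L ≫ cokernel.π (twistι Z L)) W m := rfl
    rw [h1, cokernel.condition]
    rfl
  exact ⟨Abelian.monoLift _ σ key, Abelian.monoLift_comp _ _ _⟩

end Lift

section Sep

variable (k : Type u) [Field k] (X : Scheme.{u}) [X.Over (Spec (CommRingCat.of k))]
  [IsIntegral X] [IsProper (X ↘ Spec (CommRingCat.of k))]

/-- the sections of `L` coming from `I_Z ⊗ L`, as a subspace of `Hom(O, L)` -/
noncomputable def liftSub (Z : X.IdealSheafData) (L : X.Modules) :
    Submodule k (Coh.structureModule X ⟶ L) :=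
  LinearMap.range (Linear.rightComp k (Coh.structureModule X) (twistι Z L))

theorem mem_liftSub_iff (Z : X.IdealSheafData) (L : X.Modules) (σ : Coh.structureModule X ⟶ L) :
    σ ∈ liftSub k X Z L ↔
      ∃ s : Coh.structureModule X ⟶ CohB1.tensorMod (ClSub.idealMod Z) L, s ≫ twistι Z L = σ :=
  Iff.rfl

theorem finrank_liftSub (Z : X.IdealSheafData) {L : X.Modules} (hL : PicF.IsInvertible L) :
    Module.finrank k (liftSub k X Z L) =
      Module.finrank k (Coh.HH X (CohB1.tensorMod (ClSub.idealMod Z) L) 0) := by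
  haveI := mono_twistι Z hL
  have hinj : Function.Injective
      (Linear.rightComp k (Coh.structureModule X) (twistι Z L)) := by
    intro a b hab
    exact (cancel_mono (twistι Z L)).1 hab
  unfold liftSub
  rw [LinearMap.finrank_range_of_inj hinj]
  exact (CurveIdeal.thetaEquiv k _).finrank_eq

end Sep

end VAmpC
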