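import Mathlib
import Groth.Prelude
import Groth.Agent.Lib.VAmpC1_helper9

/-!
# Separation lemma (helper9).  APPEND-ONLY once landed.
-/

set_option autoImplicit false
set_option linter.style.haveILetI false
universe u
open CategoryTheory CategoryTheory.Limits AlgebraicGeometry Opposite TopologicalSpace

namespace VAmpC

open QcqsLoc QCohExtn GenLocH8 TensH8 FLFH8 CohB1 Groth.Agent.HHVan CurveAmple CurveGG

section Sep

variable (k : Type u) [Field k] (X : Scheme.{u}) [X.Over (Spec (CommRingCat.of k))]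
  [IsIntegral X] [IsProper (X ↘ Spec (CommRingCat.of k))]

/-- **separation lemma**: on an integral proper curve with `H⁰(O) = k`, for `L` of degree
`≥ 2g + 1`, a subscheme `Z₁` of degree one and a zero-dimensional subscheme `Z` of degree at
least two, some section of `L` comes from `I_{Z₁} ⊗ L` but not from `I_Z ⊗ L`. -/
theorem exists_mem_liftSub_notMem (hdim : topologicalKrullDim X = 1)
    (h0 : Module.finrank k (Coh.HH X (Coh.structureModule X) 0) = 1)
    {L : X.Modules} (hL : PicF.IsInvertible L)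
    (hdeg : 2 * (Curv2.genus k X : ℤ) + 1 ≤ Curv2.deg k X L 1)
    (Z₁ Z : X.IdealSheafData)
    (hZ₁ : topologicalKrullDim (Z₁.support : Set X) ≤ 0)
    (hZ : topologicalKrullDim (Z.support : Set X) ≤ 0)
    (hd₁ : Module.finrank k (Coh.HH X (ClSub.quotMod Z₁) 0) = 1)
    (hd : 2 ≤ Module.finrank k (Coh.HH X (ClSub.quotMod Z) 0)) :
    ∃ σ : Coh.structureModule X ⟶ L, σ ∈ liftSub k X Z₁ L ∧ σ ∉ liftSub k X Z L := by
  haveI : IsLocallyNoetherian X :=
    LocallyOfFiniteType.isLocallyNoetherian (X ↘ Spec (CommRingCat.of k))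
  by_contra hcon
  push Not at hcon
  have hle : liftSub k X Z₁ L ≤ liftSub k X Z L := fun σ hσ => hcon σ hσ
  have hLc := ProperFinH9.isCoh_of_isInvertible hL
  haveI := hLc.1
  haveI : Module.Finite k (Coh.HH X L 0) := ProperFinH9.finite_HH_of_proper k X L hLc 0
  haveI : Module.Finite k (Coh.structureModule X ⟶ L) :=
    Module.Finite.equiv (CurveIdeal.thetaEquiv k L).symm
  have hmono := Submodule.finrank_mono hle
  rw [finrank_liftSub k X Z₁ hL, finrank_liftSub k X Z hL] at hmono
  -- coherence / quasi-coherence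
  haveI := (CurveIdeal.isCoh_idealMod Z).1
  haveI := (CurveIdeal.isCoh_idealMod Z₁).1
  have hFc : Coh.IsCoh (CohB1.tensorMod (ClSub.idealMod Z) L) :=
    isCoh_tensorMod X (CurveIdeal.isCoh_idealMod Z) hL
  haveI : (CohB1.tensorMod (ClSub.idealMod Z) L).IsQuasicoherent :=
    TensQCH8.isQuasicoherent_tensorMod _ _
  haveI : (CohB1.tensorMod (ClSub.idealMod Z₁) L).IsQuasicoherent :=
    TensQCH8.isQuasicoherent_tensorMod _ _
  -- `H¹(L) = 0`
  haveI hL1 : Subsingleton (Coh.HH X L 1) :=
    CurveAmple.HH1_subsingleton_of_deg_ge k X hdim.le hL (by linarith)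
  -- `H¹(I₁ ⊗ L) = 0`
  haveI h11 : Subsingleton (Coh.HH X (CohB1.tensorMod (ClSub.idealMod Z₁) L) 1) :=
    (CurveIdeal.genus_zero_of_deg_gt k X hdim h0 hL Z₁ hZ₁ (by rw [hd₁]; push_cast; linarith)).1
  have e₁ := CurveIdeal.euler_eq_add k X Z₁ hZ₁ hL
  have e := CurveIdeal.euler_eq_add k X Z hZ hL
  rw [CurveRR.euler_eq_sub k X hdim.le L,
    CurveRR.euler_eq_sub k X hdim.le (CohB1.tensorMod (ClSub.idealMod Z₁) L),
    Module.finrank_zero_of_subsingleton (M := Coh.HH X L 1),
    Module.finrank_zero_of_subsingleton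
      (M := Coh.HH X (CohB1.tensorMod (ClSub.idealMod Z₁) L) 1), hd₁] at e₁
  rw [CurveRR.euler_eq_sub k X hdim.le L,
    CurveRR.euler_eq_sub k X hdim.le (CohB1.tensorMod (ClSub.idealMod Z) L),
    Module.finrank_zero_of_subsingleton (M := Coh.HH X L 1)] at e
  -- `h⁰(L) = deg L + 1 - g`
  have hRR : (Module.finrank k (Coh.HH X L 0) : ℤ) =
      Curv2.deg k X L 1 + 1 - (Curv2.genus k X : ℤ) := by
    haveI := (CohDevH8.isCoh_structureModule X).1
    have h1 := CurveRR.euler_eq_sub k X hdim.le L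
    have h2 := CurveRR.euler_eq_sub k X hdim.le (Coh.structureModule X)
    rw [Module.finrank_zero_of_subsingleton (M := Coh.HH X L 1)] at h1
    rw [h0] at h2
    have h3 : Curv2.deg k X L 1 = Curv2.euler k X L - 1 * Curv2.euler k X (Coh.structureModule X) := by
      unfold Curv2.deg; push_cast; ring
    have h4 : (Module.finrank k (Coh.HH X (Coh.structureModule X) 1) : ℤ) = Curv2.genus k X := rfl
    rw [h3, h1, h2, h4]
    push_cast
    ring
  -- `H¹(I_Z ⊗ L) = 0`
  have hsub : Subsingleton (Coh.HH X (CohB1.tensorMod (ClSub.idealMod Z) L) 1) := by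
    by_contra hns
    rw [not_subsingleton_iff_nontrivial] at hns
    haveI := mono_twistι Z hL
    have h5 := finrank_HH0_le_genus_of_special k X hdim.le hFc hL (twistι Z L) hns
    have h6 : (Module.finrank k (Coh.HH X (CohB1.tensorMod (ClSub.idealMod Z₁) L) 0) : ℤ) ≤
        Module.finrank k (Coh.HH X (CohB1.tensorMod (ClSub.idealMod Z) L) 0) := by
      exact_mod_cast hmono
    have h7 : (Module.finrank k (Coh.HH X (CohB1.tensorMod (ClSub.idealMod Z) L) 0) : ℤ) ≤
        Curv2.genus k X := by exact_mod_cast h5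
    simp only [Nat.cast_zero, Nat.cast_one, sub_zero] at e₁
    linarith
  rw [Module.finrank_zero_of_subsingleton
      (M := Coh.HH X (CohB1.tensorMod (ClSub.idealMod Z) L) 1)] at e
  have h6 : (Module.finrank k (Coh.HH X (CohB1.tensorMod (ClSub.idealMod Z₁) L) 0) : ℤ) ≤
      Module.finrank k (Coh.HH X (CohB1.tensorMod (ClSub.idealMod Z) L) 0) := by
    exact_mod_cast hmono
  have h8 : (2 : ℤ) ≤ Module.finrank k (Coh.HH X (ClSub.quotMod Z) 0) := by exact_mod_cast hd
  simp only [Nat.cast_zero, Nat.cast_one, sub_zero] at e₁ e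
  linarith

end Sep

end VAmpC
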