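import Mathlib
import Groth.Prelude
import Groth.Agent.Lib.VAmpC2_helper9
import Groth.Agent.Lib.QuotSec1_helper9
import Groth.Agent.Lib.DimZeroGG_helper8

/-!
# The reduced subscheme on two distinct closed points has degree at least two (helper9).
APPEND-ONLY once landed.
-/

set_option autoImplicit false
set_option linter.style.haveILetI false
universe u
open CategoryTheory CategoryTheory.Limits AlgebraicGeometry Opposite TopologicalSpace

namespace VAmpC

open QcqsLoc QCohExtn GenLocH8 TensH8 FLFH8 CohB1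

section NZ

variable {X : Scheme.{u}} (Z : X.IdealSheafData)

/-- the image of `1` in `O/I` over an affine open meeting the support is non-zero -/
theorem one_quotMod_ne_zero {W : X.Opens} (hW : IsAffineOpen W) {p : X} (hpW : p ∈ W)
    (hp : p ∈ Z.support) :
    ap (ClSub.toSubscheme Z) W (toM (1 : Γ(X, W))) ≠ 0 := by
  intro h0
  have h1 : (1 : Γ(X, W)) ∈ RingHom.ker (Z.subschemeι.app W).hom := by
    rw [RingHom.mem_ker]
    exact h0
  rw [Z.ker_subschemeι_app ⟨W, hW⟩] at h1
  have h2 : Z.ideal ⟨W, hW⟩ = ⊤ := (Ideal.eq_top_iff_one _).2 h1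
  have h3 := (Scheme.IdealSheafData.mem_support_iff_of_mem (I := Z) (U := ⟨W, hW⟩) hpW).1 hp
  rw [h2] at h3
  simp at h3
  exact h3 hpW

end NZ

section Two

variable (k : Type u) [Field k] (X : Scheme.{u}) [X.Over (Spec (CommRingCat.of k))]
  [IsProper (X ↘ Spec (CommRingCat.of k))]

/-- the reduced subscheme on two distinct closed points has degree at least two -/
theorem two_le_finrank_HH0_two_points {x y : X} (hx : IsClosed ({x} : Set X))
    (hy : IsClosed ({y} : Set X)) (hxy : x ≠ y) :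
    2 ≤ Module.finrank k (Coh.HH X (ClSub.quotMod
      (Scheme.IdealSheafData.vanishingIdeal ((⟨{x}, hx⟩ : Closeds X) ⊔ ⟨{y}, hy⟩))) 0) := by
  haveI : IsLocallyNoetherian X :=
    LocallyOfFiniteType.isLocallyNoetherian (X ↘ Spec (CommRingCat.of k))
  set Z := Scheme.IdealSheafData.vanishingIdeal ((⟨{x}, hx⟩ : Closeds X) ⊔ ⟨{y}, hy⟩) with hZ
  set Q := ClSub.quotMod Z with hQ
  have hsupp : (Z.support : Set X) = {x} ∪ {y} := by
    rw [hZ, Scheme.IdealSheafData.coe_support_vanishingIdeal]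
    rfl
  have hxs : x ∈ Z.support := by
    show x ∈ (Z.support : Set X)
    rw [hsupp]; exact Or.inl rfl
  have hys : y ∈ Z.support := by
    show y ∈ (Z.support : Set X)
    rw [hsupp]; exact Or.inr rfl
  have hQs : CohB1.support Q ⊆ {x} ∪ {y} := by
    rw [← hsupp]
    exact CurveIdeal.support_quotMod_subset Z (Iso.refl _)
  let A : X.Opens := ⟨({y} : Set X)ᶜ, hy.isOpen_compl⟩
  let B : X.Opens := ⟨({x} : Set X)ᶜ, hx.isOpen_compl⟩
  have hxA : x ∈ A := hxy
  have hyB : y ∈ B := fun h => hxy h.symm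
  let one : ∀ W : X.Opens, Γ(Q, W) := fun W => ap (ClSub.toSubscheme Z) W (toM (1 : Γ(X, W)))
  have hone_res : ∀ {V W : X.Opens} (h : V ≤ W), rF Q h (one W) = one V := fun h =>
    CurveLin.ap_one_res (ClSub.toSubscheme Z) h
  -- gluing
  let O : Bool → X.Opens := fun b => cond b A B
  let s : ∀ b : Bool, Γ(Q, O b) := fun b =>
    match b with
    | true => one A
    | false => 0
  have hle : ∀ b, O b ≤ (⊤ : X.Opens) := fun _ => le_top
  have hcov : (⊤ : X.Opens) ≤ ⨆ b, O b := by
    intro p _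
    by_cases hp : p = y
    · refine Opens.mem_iSup.mpr ⟨false, ?_⟩
      show p ∈ B
      rw [hp]; exact hyB
    · exact Opens.mem_iSup.mpr ⟨true, hp⟩
  have hzero : ∀ (b c : Bool) (hbc : b ≠ c) (t t' : Γ(Q, O b ⊓ O c)), t = t' := by
    intro b c hbc t t'
    have hdis : ∀ p ∈ O b ⊓ O c, p ∉ CohB1.support Q := by
      intro p hp hps
      rcases hQs hps with h | h
      · have h' : p = x := h
        cases b <;> cases c
        · exact hbc rfl
        · exact hp.1 h'
        · exact hp.2 h'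
        · exact hbc rfl
      · have h' : p = y := h
        cases b <;> cases c
        · exact hbc rfl
        · exact hp.2 h'
        · exact hp.1 h'
        · exact hbc rfl
    rw [CycLenH8.eq_zero_of_disjoint_support Q hdis t,
      CycLenH8.eq_zero_of_disjoint_support Q hdis t']
  obtain ⟨ε, hε⟩ := TensH8.glue Q O ⊤ hle hcov s (by
    intro b c
    by_cases hbc : b = c
    · subst hbc
      rfl
    · exact hzero b c hbc _ _)
  have hεA : rF Q (le_top : A ≤ ⊤) ε = one A := hε true
  have hεB : rF Q (le_top : B ≤ ⊤) ε = 0 := hε false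
  -- the two classes
  let e₀ := CurveTens.e₀ Q
  let v₁ : Coh.HH X Q 0 := e₀.symm (one ⊤)
  let v₂ : Coh.HH X Q 0 := e₀.symm ε
  haveI : Module.Finite k (Coh.HH X Q 0) :=
    ProperFinH9.finite_HH_of_proper k X _ (CurveIdeal.isCoh_quotMod Z) 0
  have hsm : ∀ (c : k) (v : Coh.HH X Q 0), e₀ (c • v) =
      (QuotSec.strTop k X c) • e₀ v := by
    intro c v
    have h1 : c • v = (Coh.toGlobal (X ↘ Spec (CommRingCat.of k)) c) • v := rfl
    rw [h1]
    exact CurveTens.e₀_smul Q _ v
  have hunit : ∀ (c : k) (W : X.Opens), c ≠ 0 →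
      IsUnit (rX (le_top : W ≤ ⊤) (QuotSec.strTop k X c)) :=
    fun c W hc => ((IsUnit.mk0 c hc).map (QuotSec.strTop k X)).map (rX (le_top : W ≤ ⊤))
  have hnz : ∀ (c : k) {W : X.Opens} (hW : IsAffineOpen W) {p : X} (hpW : p ∈ W)
      (hp : p ∈ Z.support), rX (le_top : W ≤ ⊤) (QuotSec.strTop k X c) • one W = 0 → c = 0 := by
    intro c W hW p hpW hp h0
    by_contra hc
    obtain ⟨u, hu⟩ := hunit c W hc
    apply one_quotMod_ne_zero Z hW hpW hp
    show one W = 0
    have : one W = ((u⁻¹ : (Γ(X, W))ˣ) : Γ(X, W)) •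
        (rX (le_top : W ≤ ⊤) (QuotSec.strTop k X c) • one W) := by
      rw [← mul_smul, ← hu, Units.inv_mul, one_smul]
    rw [this, h0, smul_zero]
  have hli : LinearIndependent k ![v₁, v₂] := by
    rw [LinearIndependent.pair_iff]
    intro c d hcd
    have h1 := congrArg e₀ hcd
    rw [map_add, hsm, hsm, map_zero] at h1
    simp only [v₁, v₂, AddEquiv.apply_symm_apply] at h1
    -- restrict to an affine neighbourhood of `y` inside `B`
    obtain ⟨_, ⟨W, hW : IsAffineOpen W, rfl⟩, hyW, hWB⟩ :=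
      X.isBasis_affineOpens.exists_subset_of_mem_open hyB B.isOpen
    have hWB' : W ≤ B := hWB
    have h2 := congrArg (rF Q (le_top : W ≤ ⊤)) h1
    rw [map_add, rF_smul, rF_smul, map_zero, hone_res,
      ← rF_rF Q hWB' (le_top : B ≤ ⊤) ε, hεB, map_zero, smul_zero, add_zero] at h2
    have hc : c = 0 := hnz c hW hyW hys h2
    subst hc
    refine ⟨rfl, ?_⟩
    rw [map_zero, zero_smul, zero_add] at h1
    obtain ⟨_, ⟨V, hV : IsAffineOpen V, rfl⟩, hxV, hVA⟩ :=
      X.isBasis_affineOpens.exists_subset_of_mem_open hxA A.isOpen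
    have hVA' : V ≤ A := hVA
    have h3 := congrArg (rF Q (le_top : V ≤ ⊤)) h1
    rw [rF_smul, map_zero, ← rF_rF Q hVA' (le_top : A ≤ ⊤) ε, hεA, hone_res] at h3
    exact hnz d hV hxV hxs h3
  have := hli.fintype_card_le_finrank
  simpa using this

end Two

end VAmpC
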