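import Mathlib
import Groth.Prelude
import Groth.Agent.Lib.VAmpC4_helper9
import Groth.Agent.Lib.VAmpC5_helper9
import Groth.Agent.Lib.LocFlatSch_helper9

/-!
# Sections of degree `≥ 2g + 1` separate points and tangent vectors (helper9).
APPEND-ONLY once landed.
-/

set_option autoImplicit false
set_option linter.style.haveILetI false
universe u
open CategoryTheory CategoryTheory.Limits AlgebraicGeometry Opposite TopologicalSpace

namespace VAmpC

open QcqsLoc QCohExtn GenLocH8 TensH8 FLFH8 CohB1 Groth.Agent.HHVan CurveAmple CurveGG SerreCrit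

section Conv

variable {X : Scheme.{u}}

theorem ap_twistι_tmul' (Z : X.IdealSheafData) (L : X.Modules) (W : X.Opens)
    (t : Γ(ClSub.idealMod Z, W)) (e : Γ(L, W)) :
    ap (twistι Z L) W (SecTwist.tmul (ClSub.idealMod Z) L W t e) =
      toFn (ap (ClSub.idealModι Z) W t) • e := by
  show ap (Groth.Agent.CMMul.unitorL L).hom W
    (ap ((Groth.Agent.TensInv.tR L).map (ClSub.idealModι Z)) W
      (SecTwist.tmul (ClSub.idealMod Z) L W t e)) = _
  rw [Groth.Agent.CMMul.ap_tR_map_tmul]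
  exact Groth.Agent.CMMul.unitorL_tmul' L W e _

/-- the coefficient of a section coming from `I_Z ⊗ L` lies in the ideal -/
theorem coef_mem_of_lift (Z : X.IdealSheafData) {L : X.Modules}
    (s : Coh.structureModule X ⟶ CohB1.tensorMod (ClSub.idealMod Z) L)
    {W : X.Opens} (hW : IsAffineOpen W) {e : Γ(L, W)} (he : IsGen L W e) (f : Γ(X, W))
    (hf : ap (s ≫ twistι Z L) W (toM (1 : Γ(X, W))) = f • e) :
    f ∈ Z.ideal ⟨W, hW⟩ := by
  obtain ⟨t, ht⟩ := tmulGen_surjective (ClSub.idealMod Z) L he (le_refl W)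
    (ap s W (toM (1 : Γ(X, W))))
  rw [SubExt.rF_self] at ht
  have h1 : ap (s ≫ twistι Z L) W (toM (1 : Γ(X, W))) =
      ap (twistι Z L) W (ap s W (toM (1 : Γ(X, W)))) := rfl
  rw [h1, ← ht, ap_twistι_tmul'] at hf
  rw [← IsGen.coef_ext he hf]
  exact idealModι_mem Z hW t

end Conv

section Loc

variable {X : Scheme.{u}}

/-- a local expression `σ|_W = f • e` near a point, on an affine open avoiding a closed set -/
theorem exists_local_coef {L : X.Modules} (hL : PicF.IsInvertible L)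
    (σ : Coh.structureModule X ⟶ L) (p : X) (S : Set X) (hS : IsClosed S) (hpS : p ∉ S) :
    ∃ (W : X.Opens) (hW : IsAffineOpen W), p ∈ W ∧ (∀ q ∈ W, q ∉ S) ∧
      ∃ (e : Γ(L, W)) (_ : IsGen L W e) (f : Γ(X, W)),
        ap σ W (toM (1 : Γ(X, W))) = f • e := by
  obtain ⟨W₀, -, hpW₀, e₀, he₀⟩ := exists_isGen hL p
  have hpo : p ∈ (W₀ : Set X) ∩ Sᶜ := ⟨hpW₀, hpS⟩
  obtain ⟨_, ⟨W, hW : IsAffineOpen W, rfl⟩, hpW, hWsub⟩ :=
    X.isBasis_affineOpens.exists_subset_of_mem_open hpo (W₀.isOpen.inter hS.isOpen_compl)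
  have hWW₀ : W ≤ W₀ := fun q hq => (hWsub hq).1
  have he : IsGen L W (rF L hWW₀ e₀) := he₀.res hWW₀
  obtain ⟨f, hf⟩ := (he W le_rfl).1 (ap σ W (toM (1 : Γ(X, W))))
  rw [SubExt.rF_self] at hf
  exact ⟨W, hW, hpW, fun q hq => (hWsub hq).2, _, he, f, hf⟩

end Loc

section Main

variable (k : Type u) [Field k] [IsAlgClosed k] (X : Scheme.{u}) [X.Over (Spec (CommRingCat.of k))]
  [IsIntegral X] [IsProper (X ↘ Spec (CommRingCat.of k))]

/-- a section coming from `I_x ⊗ L` does not generate `L` at `x` -/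
theorem notMem_genLocus_of_mem_liftSub {L : X.Modules} (hL : PicF.IsInvertible L)
    {x : X} (hx : IsClosed ({x} : Set X)) (σ : Coh.structureModule X ⟶ L)
    (hσ : σ ∈ liftSub k X (Scheme.IdealSheafData.vanishingIdeal ⟨{x}, hx⟩) L) :
    x ∉ CohB1.genLocus L σ := by
  intro hxg
  obtain ⟨s, hs⟩ := (mem_liftSub_iff k X _ L σ).1 hσ
  obtain ⟨W, hW, hxW, -, e, he, f, hf⟩ := exists_local_coef hL σ x ∅ isClosed_empty (fun h => h)
  have h1 : f ∈ (Scheme.IdealSheafData.vanishingIdeal ⟨{x}, hx⟩).ideal ⟨W, hW⟩ :=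
    coef_mem_of_lift _ s hW he f (by rw [hs]; exact hf)
  rw [PtTwist.vanishingIdeal_point_ideal' hx ⟨W, hW⟩ hxW] at h1
  have h2 : x ∈ X.basicOpen f := by
    rw [← genLocus_inf_eq_basicOpen σ e he f hf]
    exact ⟨hxg, hxW⟩
  exact (Groth.Agent.Lib.LocFlatSch.notMem_primeIdealOf_iff hW hxW f).2 h2 h1

/-- **separation of points**: for distinct closed points `x`, `y` some section of `L` vanishes
at `x` but not at `y` -/
theorem exists_section_sep_points (hdim : topologicalKrullDim X = 1)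
    {L : X.Modules} (hL : PicF.IsInvertible L)
    (hdeg : 2 * (Curv2.genus k X : ℤ) + 1 ≤ Curv2.deg k X L 1)
    {x y : X} (hx : IsClosed ({x} : Set X)) (hy : IsClosed ({y} : Set X)) (hxy : x ≠ y) :
    ∃ σ : Coh.structureModule X ⟶ L, x ∉ CohB1.genLocus L σ ∧ y ∈ CohB1.genLocus L σ := by
  haveI : IsLocallyNoetherian X :=
    LocallyOfFiniteType.isLocallyNoetherian (X ↘ Spec (CommRingCat.of k))
  have h0 := CurveSpec.finrank_HH0_structureModule k X hdim
  set Z₁ := Scheme.IdealSheafData.vanishingIdeal ⟨{x}, hx⟩ with hZ₁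
  set Z := Scheme.IdealSheafData.vanishingIdeal ((⟨{x}, hx⟩ : Closeds X) ⊔ ⟨{y}, hy⟩) with hZ
  have hs₁ : topologicalKrullDim (Z₁.support : Set X) ≤ 0 := by
    apply CurveSpec.dim_le_zero_of_closed_points _ Z₁.support.isClosed
    intro q hq
    rw [hZ₁, Scheme.IdealSheafData.coe_support_vanishingIdeal] at hq
    have : q = x := hq
    rw [this]; exact hx
  have hs : topologicalKrullDim (Z.support : Set X) ≤ 0 := by
    apply CurveSpec.dim_le_zero_of_closed_points _ Z.support.isClosed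
    intro q hq
    rw [hZ, Scheme.IdealSheafData.coe_support_vanishingIdeal] at hq
    rcases hq with h | h
    · have : q = x := h
      rw [this]; exact hx
    · have : q = y := h
      rw [this]; exact hy
  obtain ⟨σ, hσ1, hσ2⟩ := exists_mem_liftSub_notMem k X hdim h0 hL hdeg Z₁ Z hs₁ hs
    (finrank_HH0_quotMod_closedPoint k X hx) (two_le_finrank_HH0_two_points k X hx hy hxy)
  have hxg := notMem_genLocus_of_mem_liftSub k X hL hx σ hσ1
  refine ⟨σ, hxg, ?_⟩
  by_contra hyg
  apply hσ2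
  rw [mem_liftSub_iff]
  apply exists_lift_of_local Z hL σ
  intro p
  obtain ⟨W, hW, hpW, -, e, he, f, hf⟩ := exists_local_coef hL σ p ∅ isClosed_empty (fun h => h)
  refine ⟨W, hW, hpW, e, f, ?_, hf⟩
  have hb : X.basicOpen f ≤ CohB1.genLocus L σ := by
    rw [← genLocus_inf_eq_basicOpen σ e he f hf]
    exact inf_le_left
  have hZe : Z = Scheme.IdealSheafData.vanishingIdeal ⟨{x}, hx⟩ ⊓
      Scheme.IdealSheafData.vanishingIdeal ⟨{y}, hy⟩ :=
    Scheme.IdealSheafData.vanishingIdeal_sup _ _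
  rw [hZe, Scheme.IdealSheafData.ideal_inf]
  exact ⟨mem_vanishingIdeal_of_notMem_basicOpen hx hW f (fun h => hxg (hb h)),
    mem_vanishingIdeal_of_notMem_basicOpen hy hW f (fun h => hyg (hb h))⟩

/-- **separation of tangent vectors**: for an ideal `𝔪² ≤ I < 𝔪` of the local ring at a closed
point `x`, some section of `L` vanishes at `x` and none of its local coefficients at `x` lies
in `I`. -/
theorem exists_section_sep_tangent (hdim : topologicalKrullDim X = 1)
    {L : X.Modules} (hL : PicF.IsInvertible L)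
    (hdeg : 2 * (Curv2.genus k X : ℤ) + 1 ≤ Curv2.deg k X L 1)
    {x : X} (hx : IsClosed ({x} : Set X)) (I : Ideal (X.presheaf.stalk x))
    (hI2 : IsLocalRing.maximalIdeal (X.presheaf.stalk x) ^ 2 ≤ I)
    (hIm : I < IsLocalRing.maximalIdeal (X.presheaf.stalk x)) :
    ∃ σ : Coh.structureModule X ⟶ L, x ∉ CohB1.genLocus L σ ∧
      ∀ (W : X.Opens) (_ : IsAffineOpen W) (hxW : x ∈ W) (e : Γ(L, W)) (f : Γ(X, W)),
        ap σ W (toM (1 : Γ(X, W))) = f • e → (X.presheaf.germ W x hxW).hom f ∉ I := by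
  haveI : IsLocallyNoetherian X :=
    LocallyOfFiniteType.isLocallyNoetherian (X ↘ Spec (CommRingCat.of k))
  have h0 := CurveSpec.finrank_HH0_structureModule k X hdim
  have hI : ∃ n : ℕ, IsLocalRing.maximalIdeal (X.presheaf.stalk x) ^ n ≤ I := ⟨2, hI2⟩
  set Z₁ := Scheme.IdealSheafData.vanishingIdeal ⟨{x}, hx⟩ with hZ₁
  set Z := ofStalkIdeal x I hI with hZ
  have hs₁ : topologicalKrullDim (Z₁.support : Set X) ≤ 0 := by
    apply CurveSpec.dim_le_zero_of_closed_points _ Z₁.support.isClosed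
    intro q hq
    rw [hZ₁, Scheme.IdealSheafData.coe_support_vanishingIdeal] at hq
    have : q = x := hq
    rw [this]; exact hx
  have hs : topologicalKrullDim (Z.support : Set X) ≤ 0 := by
    apply CurveSpec.dim_le_zero_of_closed_points _ Z.support.isClosed
    intro q hq
    have : q = x := support_ofStalkIdeal_subset x I hI hx hq
    rw [this]; exact hx
  obtain ⟨σ, hσ1, hσ2⟩ := exists_mem_liftSub_notMem k X hdim h0 hL hdeg Z₁ Z hs₁ hs
    (finrank_HH0_quotMod_closedPoint k X hx)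
    (two_le_finrank_HH0_ofStalkIdeal k x I hI hIm hx)
  refine ⟨σ, notMem_genLocus_of_mem_liftSub k X hL hx σ hσ1, ?_⟩
  intro W hW hxW e f hf hfI
  apply hσ2
  rw [mem_liftSub_iff]
  apply exists_lift_of_local Z hL σ
  intro p
  by_cases hp : p = x
  · subst hp
    exact ⟨W, hW, hxW, e, f, (mem_ofStalkIdeal_iff p I hI hW hxW f).2 hfI, hf⟩
  · obtain ⟨W', hW', hpW', hdis, e', -, f', hf'⟩ :=
      exists_local_coef hL σ p {x} hx hp
    refine ⟨W', hW', hpW', e', f', ?_, hf'⟩
    have hxW' : x ∉ W' := fun h => hdis x h rfl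
    rw [hZ, ofStalkIdeal_ideal_of_notMem x I hI hW' hxW']
    trivial

end Main

end VAmpC
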