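import Mathlib
import Groth.Prelude
import Groth.Agent.Lib.VAmpC6_helper9
import Groth.Agent.Lib.Tens32_helper8
import Groth.Agent.Lib.ClImmNhd2_helper4

/-!
# A closed-immersion criterion for curves via separating sections (helper9).
APPEND-ONLY once landed.
-/

set_option autoImplicit false
set_option linter.style.haveILetI false
universe u
open CategoryTheory CategoryTheory.Limits AlgebraicGeometry Opposite TopologicalSpace

namespace VAmpC

open QcqsLoc QCohExtn GenLocH8 TensH8 FLFH8 CohB1 Groth.Agent.HHVan CurveAmple CurveGG SerreCrit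

section Sc

variable (K : Type u) [Field K]

/-- a scalar of the base field restricted to an open of a `K`-scheme -/
noncomputable def scY {Y : Scheme.{u}} (q : Y ⟶ Spec (CommRingCat.of K)) (c : K) (V : Y.Opens) :
    Γ(Y, V) :=
  Y.presheaf.map (homOfLE (le_top : V ≤ ⊤)).op (Coh.toGlobal q c)

theorem appLE_scY {X Y : Scheme.{u}} (q : Y ⟶ Spec (CommRingCat.of K)) (f : X ⟶ Y) (c : K)
    (V : Y.Opens) (W : X.Opens) (hW : W ≤ f ⁻¹ᵁ V) :
    (f.appLE V W hW).hom (scY K q c V) = scY K (f ≫ q) c W := by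
  have h1 : Y.presheaf.map (homOfLE (le_top : V ≤ ⊤)).op ≫ f.appLE V W hW =
      f.appTop ≫ X.presheaf.map (homOfLE (le_top : W ≤ ⊤)).op := by
    rw [Scheme.Hom.map_appLE]
    rfl
  have h2 := congrArg (fun φ => φ.hom (Coh.toGlobal q c)) h1
  simp only [CommRingCat.hom_comp, RingHom.comp_apply] at h2
  unfold scY
  rw [h2]
  unfold Coh.toGlobal
  simp only [Scheme.Hom.comp_appTop, CommRingCat.hom_comp]
  rfl

end Sc

section Expr

variable (K : Type u) [Field K] {X : Scheme.{u}} [X.Over (Spec (CommRingCat.of K))]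

theorem val_smul_hom {L : X.Modules} (c : K) (σ : Coh.structureModule X ⟶ L) (W : X.Opens) :
    SecTwist.val (c • σ) W =
      scY K (X ↘ Spec (CommRingCat.of K)) c W • SecTwist.val σ W :=
  KLin.smul_app_apply c σ W (toM (1 : Γ(X, W)))

/-- local expression of a linear combination of sections through functions on the target -/
theorem val_eq_of_span {L : X.Modules} {Y : Scheme.{u}} (q : Y ⟶ Spec (CommRingCat.of K))
    (f : X ⟶ Y) (hf : f ≫ q = X ↘ Spec (CommRingCat.of K))
    {ι : Type} [Fintype ι] (V : ι → Y.Opens)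
    (σ : ι → (Coh.structureModule X ⟶ L))
    (h : ι → ∀ j, Γ(Y, V j))
    (C2 : ∀ i j (W : X.Opens) (hW : W ≤ f ⁻¹ᵁ V j),
      SecTwist.val (σ i) W = (f.appLE (V j) W hW).hom (h i j) • SecTwist.val (σ j) W)
    (c : ι → K) (j : ι) (W : X.Opens) (hW : W ≤ f ⁻¹ᵁ V j) :
    SecTwist.val (∑ i, c i • σ i) W =
      (f.appLE (V j) W hW).hom (∑ i, scY K q (c i) (V j) * h i j) • SecTwist.val (σ j) W := by
  rw [val_sum, map_sum, Finset.sum_smul]
  refine Finset.sum_congr rfl (fun i _ => ?_)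
  rw [val_smul_hom, C2 i j W hW, map_mul, mul_smul, appLE_scY, hf]

end Expr

section Loc

variable {X Y : Scheme.{u}}

theorem mem_genLocus_iff_of_expr {L : X.Modules} (f : X ⟶ Y) (V : Y.Opens)
    (τ σj : Coh.structureModule X ⟶ L) (C1 : f ⁻¹ᵁ V ≤ CohB1.genLocus L σj) (H : Γ(Y, V))
    (hH : ∀ (W : X.Opens) (hW : W ≤ f ⁻¹ᵁ V),
      SecTwist.val τ W = (f.appLE V W hW).hom H • SecTwist.val σj W)
    (x : X) (hx : f.base x ∈ V) :
    x ∈ CohB1.genLocus L τ ↔ f.base x ∈ Y.basicOpen H := by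
  have he := isGen_val_of_le_genLocus σj C1
  have h1 := genLocus_inf_eq_basicOpen τ _ he _ (hH (f ⁻¹ᵁ V) le_rfl)
  rw [Scheme.Hom.appLE_eq_app, ← Scheme.preimage_basicOpen] at h1
  constructor
  · intro hxg
    have : x ∈ CohB1.genLocus L τ ⊓ f ⁻¹ᵁ V := ⟨hxg, hx⟩
    rw [h1] at this
    exact this
  · intro hxb
    have : x ∈ f ⁻¹ᵁ Y.basicOpen H := hxb
    rw [← h1] at this
    exact this.1

end Loc

section CI

variable (K : Type u) [Field K] [IsAlgClosed K] (X : Scheme.{u}) [X.Over (Spec (CommRingCat.of K))]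
  [IsIntegral X] [IsProper (X ↘ Spec (CommRingCat.of K))]

/-- **closed immersion criterion**: a morphism from a proper integral curve over an algebraically
closed field given (chartwise) by a spanning family of sections of an invertible module of
degree `≥ 2g + 1` is a closed immersion. -/
theorem isClosedImmersion_of_sections
    (hdim : topologicalKrullDim X = 1)
    {L : X.Modules} (hL : PicF.IsInvertible L)
    (hdeg : 2 * (Curv2.genus K X : ℤ) + 1 ≤ Curv2.deg K X L 1)
    {Y : Scheme.{u}} (q : Y ⟶ Spec (CommRingCat.of K)) [LocallyOfFiniteType q] [QuasiCompact q]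
    [IsSeparated q]
    (f : X ⟶ Y) (hf : f ≫ q = X ↘ Spec (CommRingCat.of K))
    {ι : Type} [Fintype ι] (V : ι → Y.Opens) (hV : ∀ x : X, ∃ j, f.base x ∈ V j)
    (σ : ι → (Coh.structureModule X ⟶ L))
    (h : ι → ∀ j, Γ(Y, V j))
    (C1 : ∀ j, f ⁻¹ᵁ V j ≤ CohB1.genLocus L (σ j))
    (C2 : ∀ i j (W : X.Opens) (hW : W ≤ f ⁻¹ᵁ V j),
      SecTwist.val (σ i) W = (f.appLE (V j) W hW).hom (h i j) • SecTwist.val (σ j) W)
    (SP : ∀ τ : Coh.structureModule X ⟶ L, ∃ c : ι → K, τ = ∑ i, c i • σ i) :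
    IsClosedImmersion f := by
  haveI : IsProper (f ≫ q) := by rw [hf]; infer_instance
  haveI : IsProper f := IsProper.of_comp f q
  haveI : LocallyOfFiniteType (f ≫ q) := by rw [hf]; infer_instance
  -- the local expression of an arbitrary section
  have key : ∀ τ : Coh.structureModule X ⟶ L, ∀ j, ∃ H : Γ(Y, V j),
      ∀ (W : X.Opens) (hW : W ≤ f ⁻¹ᵁ V j),
        SecTwist.val τ W = (f.appLE (V j) W hW).hom H • SecTwist.val (σ j) W := by
    intro τ j
    obtain ⟨c, rfl⟩ := SP τ
    exact ⟨_, fun W hW => val_eq_of_span K q f hf V σ h C2 c j W hW⟩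
  apply Groth.Agent.Lib.ClImmNhdH4.main10867 K f q
  · -- injectivity on closed points
    intro x hx y hy hxy
    by_contra hne
    obtain ⟨j, hj⟩ := hV x
    have hjy : f.base y ∈ V j := by rw [← hxy]; exact hj
    obtain ⟨τ, hτx, hτy⟩ := exists_section_sep_points K X hdim hL hdeg hx hy hne
    obtain ⟨H, hH⟩ := key τ j
    have h1 := mem_genLocus_iff_of_expr f (V j) τ (σ j) (C1 j) H hH x hj
    have h2 := mem_genLocus_iff_of_expr f (V j) τ (σ j) (C1 j) H hH y hjy
    rw [← hxy] at h2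
    exact hτx (h1.2 (h2.1 hτy))
  · -- the tangent condition
    intro x hx
    set 𝔪 := IsLocalRing.maximalIdeal (X.presheaf.stalk x) with h𝔪
    set I := Ideal.map (f.stalkMap x).hom
      (IsLocalRing.maximalIdeal (Y.presheaf.stalk (f.base x))) ⊔ 𝔪 ^ 2 with hI
    have hIle : I ≤ 𝔪 := by
      refine sup_le ?_ (Ideal.pow_le_self two_ne_zero)
      have hloc : IsLocalHom (f.stalkMap x).hom := inferInstance
      exact ((IsLocalRing.local_hom_TFAE (f.stalkMap x).hom).out 0 2).1 hloc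
    by_contra hne
    have hlt : I < 𝔪 := lt_of_le_of_ne hIle hne
    obtain ⟨τ, hτx, hτ⟩ := exists_section_sep_tangent K X hdim hL hdeg hx I le_sup_right hlt
    obtain ⟨j, hj⟩ := hV x
    obtain ⟨H, hH⟩ := key τ j
    obtain ⟨_, ⟨W, hW : IsAffineOpen W, rfl⟩, hxW, hWsub⟩ :=
      X.isBasis_affineOpens.exists_subset_of_mem_open (show x ∈ (f ⁻¹ᵁ V j : Set X) from hj)
        (f ⁻¹ᵁ V j).isOpen
    have hWle : W ≤ f ⁻¹ᵁ V j := hWsub
    have h3 := hτ W hW hxW _ _ (hH W hWle)
    apply h3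
    -- the germ of the pulled back function lies in the image of the maximal ideal
    have h4 : (X.presheaf.germ W x hxW).hom ((f.appLE (V j) W hWle).hom H) =
        (f.stalkMap x).hom ((Y.presheaf.germ (V j) (f.base x) hj).hom H) := by
      rw [Scheme.Hom.germ_stalkMap_apply]
      unfold Scheme.Hom.appLE
      rw [CommRingCat.hom_comp, RingHom.comp_apply]
      exact TopCat.Presheaf.germ_res_apply _ _ _ _ _
    rw [h4]
    apply Ideal.mem_sup_left
    apply Ideal.mem_map_of_mem
    rw [IsLocalRing.mem_maximalIdeal, mem_nonunits_iff]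
    intro hu
    have h5 := (mem_genLocus_iff_of_expr f (V j) τ (σ j) (C1 j) H hH x hj).2
      ((Scheme.mem_basicOpen _ _ _ hj).2 hu)
    exact hτx h5

end CI

end VAmpC
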