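import Mathlib
import Groth.Prelude
import Groth.Agent.Lib.VAmpC7_helper9
import Groth.Agent.Lib.FieldDesc2_helper9
import Groth.Agent.Lib.FlatBC2_helper2

/-!
# Pulled back sections and their span under extension of the base field (helper9).
APPEND-ONLY once landed.
-/

set_option autoImplicit false
set_option linter.style.haveILetI false
universe u
open CategoryTheory CategoryTheory.Limits AlgebraicGeometry Opposite TopologicalSpace

namespace VAmpC

open QcqsLoc QCohExtn GenLocH8 TensH8 FLFH8 CohB1 Groth.Agent.HHVan CurveAmple CurveGG SerreCrit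

section PB

variable {X' X : Scheme.{u}} (g : X' ⟶ X)

/-- the pullback of a section of a module -/
noncomputable def pbSec {L : X.Modules} (s : Coh.structureModule X ⟶ L) :
    Coh.structureModule X' ⟶ (Scheme.Modules.pullback g).obj L :=
  (PBH8.pullbackUnitIso g).inv ≫ (Scheme.Modules.pullback g).map s

theorem ap_pullbackUnitIso_inv_one {U : X'.Opens} {V : X.Opens} (h : U ≤ g ⁻¹ᵁ V) :
    ap (PBH8.pullbackUnitIso g).inv U (ofFn (1 : Γ(X', U))) =
      PBH8.cUV g (OO X) h (ofFn (1 : Γ(X, V))) := by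
  have h1 : ap (PBH8.pullbackUnitIso g).hom U
      (PBH8.cUV g (OO X) h (ofFn (1 : Γ(X, V)))) = ofFn (1 : Γ(X', U)) := by
    have := Groth.Agent.FieldDesc.pullbackUnitIso_cUV g h (1 : Γ(X, V))
    rw [map_one] at this
    exact this
  rw [← h1]
  exact PBH8.iso_hom_inv_app (PBH8.pullbackUnitIso g) U _

/-- sections of a pulled back section -/
theorem val_pbSec {L : X.Modules} (s : Coh.structureModule X ⟶ L) {U : X'.Opens} {V : X.Opens}
    (h : U ≤ g ⁻¹ᵁ V) :
    SecTwist.val (pbSec g s) U = PBH8.cUV g L h (SecTwist.val s V) := by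
  show ap ((Scheme.Modules.pullback g).map s) U
    (ap (PBH8.pullbackUnitIso g).inv U (ofFn (1 : Γ(X', U)))) = _
  rw [ap_pullbackUnitIso_inv_one g h]
  exact PBH8.cUV_naturality g s h _

end PB

section Span

open Groth.Agent.Lib.FlatBCH2 Groth.Agent.Lib.FormalFnH2

variable {k k' : Type u} [Field k] [Field k'] [Algebra k k']
  {X X' : Scheme.{u}} [X.Over (Spec (CommRingCat.of k))] [X'.Over (Spec (CommRingCat.of k'))]
  (g : X' ⟶ X)
  (hsq : IsPullback g (X' ↘ Spec (CommRingCat.of k')) (X ↘ Spec (CommRingCat.of k))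
    (Spec.map (CommRingCat.ofHom (algebraMap k k'))))

theorem val_smul_top {Z : Scheme.{u}} {A : Type u} [CommRing A] [Z.Over (Spec (CommRingCat.of A))]
    {M : Z.Modules} (a : A) (σ : Coh.structureModule Z ⟶ M) :
    SecTwist.val (a • σ) ⊤ = rUHom (A := A) (X := Z) ⊤ a • SecTwist.val σ ⊤ :=
  KLin.smul_app_apply a σ ⊤ (toM (1 : Γ(Z, ⊤)))

include hsq in
/-- the pullbacks of a spanning family of sections span the sections of the pullback -/
theorem span_pbSec [CompactSpace X] [QuasiSeparatedSpace X] (L : X.Modules) [L.IsQuasicoherent]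
    {ι : Type} [Fintype ι] (b : ι → (Coh.structureModule X ⟶ L))
    (hb : ∀ σ : Coh.structureModule X ⟶ L, ∃ c : ι → k, σ = ∑ i, c i • b i)
    (τ : Coh.structureModule X' ⟶ (Scheme.Modules.pullback g).obj L) :
    ∃ γ : ι → k', τ = ∑ i, γ i • pbSec g (b i) := by
  letI mkM : Module k Γ(L, ⊤) := secMod k L ⊤
  letI mk'P : Module k' Γ((Scheme.Modules.pullback g).obj L, ⊤) :=
    secMod k' ((Scheme.Modules.pullback g).obj L) ⊤
  letI mkP : Module k Γ((Scheme.Modules.pullback g).obj L, ⊤) :=
    secModA k k' ((Scheme.Modules.pullback g).obj L) ⊤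
  haveI : IsScalarTower k k' Γ((Scheme.Modules.pullback g).obj L, ⊤) :=
    secTower k k' ((Scheme.Modules.pullback g).obj L) ⊤
  let v : ι → Γ(L, ⊤) := fun i => SecTwist.val (b i) ⊤
  let c : Γ(L, ⊤) →ₗ[k] Γ((Scheme.Modules.pullback g).obj L, ⊤) :=
    { toFun := fun x => PBH8.cUV g L (topLe g) x
      map_add' := fun x y => PBH8.cUV_add g L _ x y
      map_smul' := fun a x => by
        show PBH8.cUV g L (topLe g) (rUHom (A := k) (X := X) ⊤ a • x) =
          rUHom (A := k') (X := X') ⊤ (algebraMap k k' a) • PBH8.cUV g L (topLe g) x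
        rw [PBH8.cUV_smul]
        congr 1
        exact appLE_rUHom g hsq ⊤ a }
  have hc : IsBaseChange k' c := isBaseChange_cTop hsq L c (fun m => rfl)
  -- every global section is a combination
  have key : ∀ t : Γ((Scheme.Modules.pullback g).obj L, ⊤),
      ∃ γ : ι → k', t = ∑ i, γ i • c (v i) := by
    intro t
    refine hc.inductionOn t (fun t => ∃ γ : ι → k', t = ∑ i, γ i • c (v i))
      ⟨0, by simp⟩ ?_ ?_ ?_
    · intro m
      obtain ⟨a, ha⟩ := hb (SerreFT.secHom L m)
      refine ⟨fun i => algebraMap k k' (a i), ?_⟩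
      have h1 : m = ∑ i, a i • v i := by
        have h2 : SecTwist.val (SerreFT.secHom L m) ⊤ = SecTwist.val (∑ i, a i • b i) ⊤ :=
          congrArg (fun σ => SecTwist.val σ ⊤) ha
        rw [val_sum] at h2
        refine ((SerreFT.secHom_one L m).symm.trans h2).trans ?_
        exact Finset.sum_congr rfl (fun i _ => val_smul_top (a i) (b i))
      conv_lhs => rw [h1]
      rw [map_sum]
      refine Finset.sum_congr rfl (fun i _ => ?_)
      rw [map_smul, algebraMap_smul]
    · rintro s n ⟨γ, rfl⟩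
      refine ⟨fun i => s * γ i, ?_⟩
      rw [Finset.smul_sum]
      exact Finset.sum_congr rfl (fun i _ => (mul_smul _ _ _).symm)
    · rintro n₁ n₂ ⟨γ₁, rfl⟩ ⟨γ₂, rfl⟩
      refine ⟨fun i => γ₁ i + γ₂ i, ?_⟩
      rw [← Finset.sum_add_distrib]
      exact Finset.sum_congr rfl (fun i _ => (add_smul _ _ _).symm)
  obtain ⟨γ, hγ⟩ := key (SecTwist.val τ ⊤)
  refine ⟨γ, ?_⟩
  apply Groth.Agent.InvInt.hom_OO_ext
  refine hγ.trans ?_
  show _ = SecTwist.val (∑ i, γ i • pbSec g (b i)) ⊤
  rw [val_sum]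
  refine Finset.sum_congr rfl (fun i _ => ?_)
  rw [val_smul_top, val_pbSec g (b i) (topLe g)]
  rfl

end Span

end VAmpC
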