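import Mathlib
import Groth.Prelude
import Groth.Agent.Lib.PicBC1_helper9
import Groth.Agent.Lib.VAmpC8_helper9
import Groth.Agent.Lib.StalkSky2_lead
import Groth.Agent.Lib.HypSurf_helper9
import Groth.Agent.Lib.PB8_helper8

/-!
# Pulled back and twisted ideal sequences (helper9), towards S6487.
APPEND-ONLY once landed.

For a flat morphism `g : X' ⟶ X`, an ideal sheaf `Z` on `X` and an invertible module `M` on `X'`:
the short exact sequence `0 → g^*I_Z ⊗ M → g^*O_X ⊗ M → g^*(O_X/I_Z) ⊗ M → 0`, and the fact that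
a global section of `M` mapping to zero in the last term vanishes at all points over `Z`.
-/

set_option autoImplicit false
set_option linter.style.haveILetI false
universe u
open CategoryTheory CategoryTheory.Limits AlgebraicGeometry Opposite TopologicalSpace

namespace PicBC

open QcqsLoc QCohExtn GenLocH8 TensH8 FLFH8 Groth.Agent.TensInv SerreCrit

section Ideal

variable {X' X : Scheme.{u}} (g : X' ⟶ X) (Z : X.IdealSheafData)

/-- the map `g^* I_Z ⟶ O_{X'}` -/
noncomputable def pbι :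
    (Scheme.Modules.pullback g).obj (ClSub.idealMod Z) ⟶ Coh.structureModule X' :=
  (Scheme.Modules.pullback g).map (ClSub.idealModι Z) ≫ (PBH8.pullbackUnitIso g).hom

/-- sections of `g^* I_Z` map into the extended ideal -/
theorem pbι_mem {U : X.Opens} (hU : IsAffineOpen U) {W : X'.Opens} (hW : IsAffineOpen W)
    (h : W ≤ g ⁻¹ᵁ U) (a : Γ((Scheme.Modules.pullback g).obj (ClSub.idealMod Z), W)) :
    toFn (ap (pbι g Z) W a) ∈ Ideal.map (g.appLE U W h).hom (Z.ideal ⟨U, hU⟩) := by
  haveI : (ClSub.idealMod Z).IsQuasicoherent :=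
    Groth.Agent.Lib.OmegaAffH4.isQuasicoherent_idealMod Z
  have hspan := PBH8.span_cUV g (ClSub.idealMod Z) hW hU h
  have ha : a ∈ Submodule.span Γ(X', W) (Set.range (PBH8.cUV g (ClSub.idealMod Z) h)) := by
    rw [hspan]; trivial
  induction ha using Submodule.span_induction with
  | mem x hx =>
    obtain ⟨m, rfl⟩ := hx
    have h1 : ap (pbι g Z) W (PBH8.cUV g _ h m) =
        ap (PBH8.pullbackUnitIso g).hom W
          (PBH8.cUV g (OO X) h (ap (ClSub.idealModι Z) U m)) := by
      show ap (PBH8.pullbackUnitIso g).hom W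
        (ap ((Scheme.Modules.pullback g).map (ClSub.idealModι Z)) W (PBH8.cUV g _ h m)) = _
      exact congrArg (ap (PBH8.pullbackUnitIso g).hom W)
        (PBH8.cUV_naturality g (ClSub.idealModι Z) h m)
    rw [h1]
    have h2 := Groth.Agent.FieldDesc.pullbackUnitIso_cUV g h
      (toFn (ap (ClSub.idealModι Z) U m))
    refine (show toFn (ap (PBH8.pullbackUnitIso g).hom W
      (PBH8.cUV g (OO X) h (ap (ClSub.idealModι Z) U m))) =
        (g.appLE U W h).hom (toFn (ap (ClSub.idealModι Z) U m)) from h2) ▸ ?_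
    exact Ideal.mem_map_of_mem _ (idealModι_mem Z hU m)
  | zero =>
    rw [map_zero]
    exact Ideal.zero_mem _
  | add x y _ _ hx hy =>
    rw [map_add]
    exact Ideal.add_mem _ hx hy
  | smul b x _ hx =>
    rw [ap_smul]
    exact Ideal.mul_mem_left _ b hx

/-- elements of the extended ideal vanish at the points over `Z` -/
theorem not_mem_basicOpen_of_mem_map {U : X.Opens} (hU : IsAffineOpen U) {W : X'.Opens}
    (h : W ≤ g ⁻¹ᵁ U) {y : X'} (hy : g y ∈ Z.support) (hyU : g y ∈ U) {c : Γ(X', W)}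
    (hc : c ∈ Ideal.map (g.appLE U W h).hom (Z.ideal ⟨U, hU⟩)) : y ∉ X'.basicOpen c := by
  have h1 : y ∈ X'.zeroLocus (U := W)
      (Ideal.map (g.appLE U W h).hom (Z.ideal ⟨U, hU⟩) : Set Γ(X', W)) := by
    rw [Ideal.map, Scheme.zeroLocus_span, Scheme.mem_zeroLocus_iff]
    rintro _ ⟨f, hf, rfl⟩ hyf
    have hyf' : y ∈ X'.basicOpen (g.appLE U W h f) := hyf
    rw [Scheme.basicOpen_appLE] at hyf'
    have h2 := (Scheme.IdealSheafData.mem_support_iff_of_mem (U := ⟨U, hU⟩) hyU).mp hy
    rw [Scheme.mem_zeroLocus_iff] at h2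
    exact h2 f hf hyf'.2
  rw [Scheme.mem_zeroLocus_iff] at h1
  exact h1 c hc

end Ideal

section SES

variable {X' X : Scheme.{u}} (g : X' ⟶ X) [Flat g] (Z : X.IdealSheafData) (M : X'.Modules)

/-- the pulled back ideal sequence `0 → g^*I_Z → g^*O_X → g^*(O_X/I_Z) → 0` -/
noncomputable def sesPB : ShortComplex X'.Modules :=
  (Groth.Agent.HypSurf.ses Z).map (Scheme.Modules.pullback g)

theorem sesPB_shortExact : (sesPB g Z).ShortExact := by
  haveI := Groth.Agent.Lib.StalkSkyL.preservesFiniteLimits_pullback_of_flat g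
  exact (Groth.Agent.HypSurf.ses_shortExact Z).map_of_exact (Scheme.Modules.pullback g)

/-- the pulled back ideal sequence twisted by `M` -/
noncomputable def sesBC : ShortComplex X'.Modules := (sesPB g Z).map (tR M)

variable {M}

theorem sesBC_shortExact (hM : PicF.IsInvertible M) : (sesBC g Z M).ShortExact :=
  CurveTens.shortExact_tR hM _ (sesPB_shortExact g Z)

variable (M)

/-- `M ≅ g^*O_X ⊗ M`, the middle term of `sesBC` -/
noncomputable def midIso : M ≅ (sesBC g Z M).X₂ :=
  (Groth.Agent.CMMul.unitorL M).symm ≪≫ (tR M).mapIso (PBH8.pullbackUnitIso g).symm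

variable {M}

/-- a global section of `M` which dies in `g^*(O_X/I_Z) ⊗ M` vanishes at the points over `Z` -/
theorem not_mem_genLocus_of_comp_eq_zero (hM : PicF.IsInvertible M)
    (σ : Coh.structureModule X' ⟶ M)
    (h0 : (σ ≫ (midIso g Z M).hom) ≫ (sesBC g Z M).g = 0) {y : X'} (hy : g y ∈ Z.support) :
    y ∉ CohB1.genLocus M σ := by
  have hS := sesBC_shortExact g Z hM
  haveI := hS.mono_f
  obtain ⟨τ, hτ⟩ : ∃ τ : Coh.structureModule X' ⟶ (sesBC g Z M).X₁,
      τ ≫ (sesBC g Z M).f = σ ≫ (midIso g Z M).hom :=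
    ⟨hS.exact.lift _ h0, hS.exact.lift_f _ h0⟩
  intro hyG
  obtain ⟨_, ⟨U, hU : IsAffineOpen U, rfl⟩, hyU, -⟩ :=
    X.isBasis_affineOpens.exists_subset_of_mem_open (Set.mem_univ (g y)) isOpen_univ
  have hyU' : g y ∈ U := hyU
  obtain ⟨W, hW, hyW, hWU, e, he⟩ := exists_isGen_le hM y (g ⁻¹ᵁ U) hyU'
  obtain ⟨c, hc⟩ := he.exists_coef (ap σ W (toM (1 : Γ(X', W))))
  have hyc : y ∈ X'.basicOpen c := by
    rw [← genLocus_inf_eq_basicOpen σ e he c hc]
    exact ⟨hyG, hyW⟩
  obtain ⟨a, ha⟩ := tmulGen_surjective ((Scheme.Modules.pullback g).obj (ClSub.idealMod Z)) M he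
    (le_refl W) (ap τ W (toM (1 : Γ(X', W))))
  rw [SubExt.rF_self] at ha
  have h1 := congrArg (fun ψ => ap ψ W (toM (1 : Γ(X', W)))) hτ
  have hL : ap (τ ≫ (sesBC g Z M).f) W (toM (1 : Γ(X', W))) =
      SecTwist.tmul _ M W (ap ((Scheme.Modules.pullback g).map (ClSub.idealModι Z)) W a) e := by
    show ap ((tR M).map ((Scheme.Modules.pullback g).map (ClSub.idealModι Z))) W
      (ap τ W (toM (1 : Γ(X', W)))) = _
    rw [← ha]
    exact Groth.Agent.CMMul.ap_tR_map_tmul _ M W a e
  have hR : ap (σ ≫ (midIso g Z M).hom) W (toM (1 : Γ(X', W))) =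
      SecTwist.tmul _ M W (ap (PBH8.pullbackUnitIso g).inv W (ofFn c)) e := by
    show ap ((tR M).map (PBH8.pullbackUnitIso g).inv) W
      (ap (Groth.Agent.CMMul.unitorL M).inv W (ap σ W (toM (1 : Γ(X', W))))) = _
    rw [hc]
    have h2 : ap (Groth.Agent.CMMul.unitorL M).inv W (c • e) =
        SecTwist.tmul (OO X') M W (ofFn c) e := by
      rw [← Groth.Agent.CMMul.unitorL_tmul' M W e c]
      exact PBH8.iso_hom_inv_app (Groth.Agent.CMMul.unitorL M) W _
    rw [h2]
    exact Groth.Agent.CMMul.ap_tR_map_tmul _ M W (ofFn c) e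
  have h3 : SecTwist.tmul _ M W
      (ap ((Scheme.Modules.pullback g).map (ClSub.idealModι Z)) W a) e =
      SecTwist.tmul _ M W (ap (PBH8.pullbackUnitIso g).inv W (ofFn c)) e :=
    hL.symm.trans (h1.trans hR)
  have h4 : ap ((Scheme.Modules.pullback g).map (ClSub.idealModι Z)) W a =
      ap (PBH8.pullbackUnitIso g).inv W (ofFn c) := by
    apply tmulGen_injective _ M he (le_refl W)
    rw [SubExt.rF_self]
    exact h3
  have h5 : toFn (ap (pbι g Z) W a) = c := by
    show toFn (ap (PBH8.pullbackUnitIso g).hom W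
      (ap ((Scheme.Modules.pullback g).map (ClSub.idealModι Z)) W a)) = c
    rw [h4]
    exact PBH8.iso_inv_hom_app (PBH8.pullbackUnitIso g) W _
  have h6 := pbι_mem g Z hU hW hWU a
  rw [h5] at h6
  exact not_mem_basicOpen_of_mem_map g Z hU hWU hy hyU' h6 hyc

end SES

end PicBC
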