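import Mathlib
import Groth.Prelude
import Groth.Agent.Lib.PicBC2_helper9
import Groth.Agent.Lib.PicBC3_helper9
import Groth.Agent.Lib.GeomIrrSch_helper4
import Groth.Agent.Lib.RatPts_helper4
import Groth.Agent.Lib.FEtEuler1_helper9
import Groth.Agent.Lib.CurvePtInv3_helper9
import Groth.Agent.Lib.EulerBC2_helper9
import Groth.Agent.Lib.TorsorSepPt2_lead
import Groth.Agent.Lib.SuppTens2_helper8
import Groth.Agent.Lib.ConsMod1_helper2

/-!
# Base change of a curve to a field extension: subtracting rational points (helper9), towards S6487.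
APPEND-ONLY once landed.
-/

set_option autoImplicit false
set_option linter.style.haveILetI false
universe u
open CategoryTheory CategoryTheory.Limits AlgebraicGeometry Opposite TopologicalSpace

namespace PicBC

open QcqsLoc QCohExtn GenLocH8 TensH8 FLFH8 Groth.Agent.TensInv CurveAmple Groth.Agent.HHVan

section BC

variable {k : Type u} [Field k] {X : Scheme.{u}} [X.Over (Spec (CommRingCat.of k))]
  {K : Type u} [Field K] [Algebra k K] {XK : Scheme.{u}} [XK.Over (Spec (CommRingCat.of K))]
  (g : XK ⟶ X)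
  (hpb : IsPullback g (XK ↘ Spec (CommRingCat.of K)) (X ↘ Spec (CommRingCat.of k))
    (Spec.map (CommRingCat.ofHom (algebraMap k K))))

include hpb

theorem flat_of_isPullback : Flat g := by
  haveI : Flat (Spec.map (CommRingCat.ofHom (algebraMap k K))) := by
    rw [Flat.SpecMap_iff]
    exact RingHom.flat_algebraMap_iff.mpr inferInstance
  exact MorphismProperty.of_isPullback hpb.flip inferInstance

theorem isAffineHom_of_isPullback : IsAffineHom g :=
  MorphismProperty.of_isPullback hpb.flip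
    (show IsAffineHom (Spec.map (CommRingCat.ofHom (algebraMap k K))) from inferInstance)

theorem universallyOpen_of_isPullback : UniversallyOpen g :=
  MorphismProperty.of_isPullback hpb.flip (Groth.Agent.Lib.GeomIrrSchH4.universallyOpen_specMap (k := k) K)

theorem surjective_of_isPullback : Surjective g :=
  MorphismProperty.of_isPullback hpb.flip (Groth.Agent.Lib.RatPtsH4.surjective_specMap k K)

theorem isProper_of_isPullback [IsProper (X ↘ Spec (CommRingCat.of k))] :
    IsProper (XK ↘ Spec (CommRingCat.of K)) :=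
  MorphismProperty.of_isPullback hpb inferInstance

theorem smooth_of_isPullback [Smooth (X ↘ Spec (CommRingCat.of k))] :
    Smooth (XK ↘ Spec (CommRingCat.of K)) :=
  MorphismProperty.of_isPullback hpb inferInstance

theorem isReduced_of_isPullback [Smooth (X ↘ Spec (CommRingCat.of k))] : IsReduced XK := by
  haveI := smooth_of_isPullback g hpb
  haveI : ∀ y : ↥XK, _root_.IsReduced (XK.presheaf.stalk y) := fun y => by
    haveI := FEtEuler9.isDomain_stalk_of_smooth K XK (XK ↘ Spec (CommRingCat.of K)) y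
    infer_instance
  exact isReduced_of_isReduced_stalk XK

end BC

section Fiber

variable {k : Type u} [Field k] {X : Scheme.{u}} [X.Over (Spec (CommRingCat.of k))]
  {K : Type u} [Field K] [Algebra k K] {XK : Scheme.{u}} [XK.Over (Spec (CommRingCat.of K))]
  (g : XK ⟶ X)
  (hpb : IsPullback g (XK ↘ Spec (CommRingCat.of K)) (X ↘ Spec (CommRingCat.of k))
    (Spec.map (CommRingCat.ofHom (algebraMap k K))))
  (O : Spec (CommRingCat.of k) ⟶ X) (hO : O ≫ (X ↘ Spec (CommRingCat.of k)) = 𝟙 _)

include hpb hO in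
/-- the fibre of `X_K → X` over a `k`-rational point is a single point -/
theorem exists_preimage_range_eq_singleton : ∃ y₀ : XK, g ⁻¹' (Set.range O) = {y₀} := by
  have h1 := (IsPullback.of_hasPullback O g).flip.paste_horiz hpb.flip
  rw [hO] at h1
  haveI : IsIso (pullback.snd O g ≫ (XK ↘ Spec (CommRingCat.of K))) := h1.isIso_fst_of_isIso
  haveI : Subsingleton ↥(Spec (CommRingCat.of K)) :=
    inferInstanceAs (Subsingleton (PrimeSpectrum K))
  haveI : Nonempty ↥(Spec (CommRingCat.of K)) := inferInstanceAs (Nonempty (PrimeSpectrum K))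
  let e := (pullback.snd O g ≫ (XK ↘ Spec (CommRingCat.of K))).homeomorph
  haveI : Subsingleton ↥(pullback O g) := e.injective.subsingleton
  obtain ⟨p₀⟩ : Nonempty ↥(pullback O g) := ⟨e.symm (Classical.arbitrary _)⟩
  refine ⟨pullback.snd O g p₀, ?_⟩
  rw [← Scheme.Pullback.range_snd]
  ext y
  constructor
  · rintro ⟨p, rfl⟩
    rw [Subsingleton.elim p p₀]
    rfl
  · rintro rfl
    exact ⟨p₀, rfl⟩

omit [XK.Over (Spec (CommRingCat.of K))] in
include hO in
/-- the fibre of `X_K → X` over a `k`-rational point is closed -/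
theorem isClosed_preimage_range : IsClosed (g ⁻¹' (Set.range O)) := by
  haveI := CurvePtInv.isClosedImmersion_section k O hO
  exact O.isClosedEmbedding.isClosed_range.preimage g.continuous

end Fiber

section Step

variable (k : Type u) [Field k] [IsSepClosed k] {X : Scheme.{u}} [X.Over (Spec (CommRingCat.of k))]
  (K : Type u) [Field K] [Algebra k K] {XK : Scheme.{u}} [XK.Over (Spec (CommRingCat.of K))]
  (g : XK ⟶ X)
  (hpb : IsPullback g (XK ↘ Spec (CommRingCat.of K)) (X ↘ Spec (CommRingCat.of k))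
    (Spec.map (CommRingCat.ofHom (algebraMap k K))))

include hpb in
/-- a nonempty open of `X_K` contains the unique point over some `k`-rational point of `X` -/
theorem exists_ratPt_mem [Smooth (X ↘ Spec (CommRingCat.of k))] (G : XK.Opens)
    (hG : (G : Set XK).Nonempty) :
    ∃ (O : Spec (CommRingCat.of k) ⟶ X) (_ : O ≫ (X ↘ Spec (CommRingCat.of k)) = 𝟙 _) (y : XK),
      y ∈ G ∧ g y ∈ Set.range O := by
  haveI := universallyOpen_of_isPullback g hpb
  let V : X.Opens := ⟨g '' (G : Set XK), g.isOpenMap _ G.isOpen⟩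
  obtain ⟨y₁, hy₁⟩ := hG
  haveI : Nonempty ↥(V : Scheme.{u}) := ⟨⟨g y₁, ⟨y₁, hy₁, rfl⟩⟩⟩
  haveI : Smooth (Over.mk (V.ι ≫ (X ↘ Spec (CommRingCat.of k)))).hom :=
    inferInstanceAs (Smooth (V.ι ≫ (X ↘ Spec (CommRingCat.of k))))
  haveI : Nonempty ↥(Over.mk (V.ι ≫ (X ↘ Spec (CommRingCat.of k)))).left :=
    inferInstanceAs (Nonempty ↥(V : Scheme.{u}))
  obtain ⟨s, hs⟩ := Groth.Agent.Lib.TorsorSepPt.exists_section k
    (Over.mk (V.ι ≫ (X ↘ Spec (CommRingCat.of k))))
  have hs' : s ≫ V.ι ≫ (X ↘ Spec (CommRingCat.of k)) = 𝟙 _ := hs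
  haveI : Nonempty ↥(Spec (CommRingCat.of k)) := inferInstanceAs (Nonempty (PrimeSpectrum k))
  obtain ⟨a⟩ : Nonempty ↥(Spec (CommRingCat.of k)) := inferInstance
  have ha : (s ≫ V.ι) a ∈ V := by
    rw [Scheme.Hom.comp_apply]
    exact (s a).2
  obtain ⟨y, hyG, hy⟩ := ha
  exact ⟨s ≫ V.ι, by rw [Category.assoc]; exact hs', y, hyG, ⟨a, hy.symm⟩⟩

include hpb in
/-- the induction step: if `H¹(M) = 0` and `H⁰(M) ≠ 0` for an invertible `M` on `X_K`, there is an
invertible ideal sheaf `I` on `X` with `H¹(g^*I ⊗ M) = 0` and `h⁰(g^*I ⊗ M) + 1 = h⁰(M)` -/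
theorem step (hX : Curve.IsSmoothProperCurve k X (X ↘ Spec (CommRingCat.of k)))
    {M : XK.Modules} (hM : PicF.IsInvertible M)
    (hH1 : Subsingleton (Coh.HH XK M 1)) (hH0 : Module.finrank K (Coh.HH XK M 0) ≠ 0) :
    ∃ I : X.Modules, PicF.IsInvertible I ∧
      Subsingleton (Coh.HH XK (CohB1.tensorMod ((Scheme.Modules.pullback g).obj I) M) 1) ∧
      Module.finrank K (Coh.HH XK (CohB1.tensorMod ((Scheme.Modules.pullback g).obj I) M) 0) + 1 =
        Module.finrank K (Coh.HH XK M 0) := by
  obtain ⟨hprop, hsm, hint, hdim⟩ := hX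
  haveI := hprop
  haveI := hsm
  haveI := hint
  haveI : IsLocallyNoetherian X :=
    LocallyOfFiniteType.isLocallyNoetherian (X ↘ Spec (CommRingCat.of k))
  haveI : CompactSpace X :=
    QuasiCompact.compactSpace_of_compactSpace (X ↘ Spec (CommRingCat.of k))
  haveI : QuasiSeparatedSpace X := inferInstance
  haveI := flat_of_isPullback g hpb
  haveI := isProper_of_isPullback g hpb
  haveI := isReduced_of_isPullback g hpb
  haveI : IsLocallyNoetherian XK :=
    LocallyOfFiniteType.isLocallyNoetherian (XK ↘ Spec (CommRingCat.of K))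
  -- a nonzero section
  obtain ⟨v, hv⟩ : ∃ v : Coh.HH XK M 0, v ≠ 0 := by
    by_contra hcon
    push Not at hcon
    haveI : Subsingleton (Coh.HH XK M 0) := ⟨fun a b => (hcon a).trans (hcon b).symm⟩
    exact hH0 (Module.finrank_zero_of_subsingleton)
  obtain ⟨σ, hσv⟩ : ∃ σ : Coh.structureModule XK ⟶ M, CurveIdeal.thetaEquiv K M σ = v :=
    ⟨(CurveIdeal.thetaEquiv K M).symm v, (CurveIdeal.thetaEquiv K M).apply_symm_apply v⟩
  have hσ : σ ≠ 0 := by
    intro h
    apply hv
    rw [← hσv, h, map_zero]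
  -- a rational point in the image of its nonvanishing locus
  obtain ⟨O, hO, y, hyG, hyO⟩ := exists_ratPt_mem k K g hpb (CohB1.genLocus M σ)
    (genLocus_nonempty_of_ne_zero hM σ hσ)
  haveI := CurvePtInv.isClosedImmersion_section k O hO
  have hsupp : (O.ker.support : Set X) = Set.range O := by
    rw [Scheme.Hom.support_ker]
    exact O.isClosedEmbedding.isClosed_range.closure_eq
  have hyZ : g y ∈ O.ker.support := by
    show g y ∈ (O.ker.support : Set X)
    rw [hsupp]
    exact hyO
  have hne : (σ ≫ (midIso g O.ker M).hom) ≫ (sesBC g O.ker M).g ≠ 0 := fun h0 =>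
    not_mem_genLocus_of_comp_eq_zero g O.ker hM σ h0 hyZ hyG
  -- closed points
  have hpt : ∀ x ∈ O.ker.support, IsClosed ({x} : Set X) := by
    intro x hx
    have hx' : x ∈ Set.range O := by rw [← hsupp]; exact hx
    obtain ⟨z, rfl⟩ := hx'
    haveI : Subsingleton ↥(Spec (CommRingCat.of k)) :=
      inferInstanceAs (Subsingleton (PrimeSpectrum k))
    have h1 : ({O z} : Set X) = Set.range O := by
      ext w
      constructor
      · rintro rfl
        exact ⟨z, rfl⟩
      · rintro ⟨z', rfl⟩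
        rw [Subsingleton.elim z' z]
        rfl
    rw [h1]
    exact O.isClosedEmbedding.isClosed_range
  have hIinv : PicF.IsInvertible (ClSub.idealMod O.ker) :=
    CurvePtInv.isInvertible_idealMod_of_support hdim O.ker
      (fun x hx => ⟨hpt x hx, Groth.Agent.S1535.result k X x⟩)
  -- coherence
  have cM : Coh.IsCoh M := ProperFinH9.isCoh_of_isInvertible hM
  have c1 : Coh.IsCoh (sesBC g O.ker M).X₁ :=
    CurveAmple.isCoh_tensorMod XK
      (Groth.Agent.Lib.ConsModH2.isCoh_pullback g _ (CurveIdeal.isCoh_idealMod O.ker)) hM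
  have c2 : Coh.IsCoh (sesBC g O.ker M).X₂ := CohDevH8.isCoh_of_iso (midIso g O.ker M).symm cM
  have cQ : Coh.IsCoh ((Scheme.Modules.pullback g).obj (ClSub.quotMod O.ker)) :=
    Groth.Agent.Lib.ConsModH2.isCoh_pullback g _ (CurveIdeal.isCoh_quotMod O.ker)
  have c3 : Coh.IsCoh (sesBC g O.ker M).X₃ := CurveAmple.isCoh_tensorMod XK cQ hM
  have hH1' : Subsingleton (Coh.HH XK (sesBC g O.ker M).X₂ 1) :=
    subsingleton_of_iso (midIso g O.ker M) 1 hH1
  -- `h⁰` of the skyscraper
  have hQ : Module.finrank K (Coh.HH XK (sesBC g O.ker M).X₃ 0) ≤ 1 := by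
    obtain ⟨y₀, hy₀⟩ := exists_preimage_range_eq_singleton g hpb O hO
    have hcl₀ := isClosed_preimage_range g O hO
    rw [hy₀] at hcl₀
    haveI : (ClSub.quotMod O.ker).IsQuasicoherent := (CurveIdeal.isCoh_quotMod O.ker).1
    haveI : SheafOfModules.IsFiniteType (R := X.ringCatSheaf) (ClSub.quotMod O.ker) :=
      (CurveIdeal.isCoh_quotMod O.ker).2
    have hcl : ∀ x ∈ CohB1.support ((Scheme.Modules.pullback g).obj (ClSub.quotMod O.ker)),
        IsClosed ({x} : Set XK) := by
      intro x hx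
      rw [SuppTensH8.support_pullback] at hx
      have hx1 : g x ∈ (O.ker.support : Set X) :=
        CurveIdeal.support_quotMod_subset O.ker (Iso.refl _) hx
      rw [hsupp] at hx1
      have hx2 : x ∈ g ⁻¹' (Set.range O) := hx1
      rw [hy₀, Set.mem_singleton_iff] at hx2
      rw [hx2]
      exact hcl₀
    have h1 := CurvePtInv.finrank_HH0_tensor_rank K XK
      ((Scheme.Modules.pullback g).obj (ClSub.quotMod O.ker)) M cQ
      (finLocFreeOfRank_one_of_isInvertible hM) hcl
    haveI : Coh.IsQCoh (ClSub.quotMod O.ker) := (CurveIdeal.isCoh_quotMod O.ker).1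
    have h2 := Groth.Agent.EulerBC.finrank_HH_pullback g hpb (ClSub.quotMod O.ker) 0
    have h3 := CurvePtInv.finrank_HH0_quotMod_ker k O hO
    show Module.finrank K (Coh.HH XK (CohB1.tensorMod
      ((Scheme.Modules.pullback g).obj (ClSub.quotMod O.ker)) M) 0) ≤ 1
    rw [h1, h2, h3]
  obtain ⟨r1, r2⟩ := step_of_ses K XK (sesBC g O.ker M) (sesBC_shortExact g O.ker hM) c1 c2 c3
    hH1' hQ (σ ≫ (midIso g O.ker M).hom) hne
  refine ⟨ClSub.idealMod O.ker, hIinv, r1, ?_⟩
  have e := (Groth.Agent.HypConn.hhEquivOfIso (A := K) (midIso g O.ker M) 0).finrank_eq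
  rw [e]
  exact r2

end Step

end PicBC
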