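import Mathlib
import Groth.Prelude
import Groth.Agent.Lib.HypEll1_helper9
import Groth.Agent.Lib.HypEll2_helper9
import Groth.Agent.Lib.P1Iso2_helper9
import Groth.Agent.Lib.EulerBC2_helper9
import Groth.Agent.Lib.PicBC4_helper9
import Groth.Agent.Lib.VBCurve3_helper9
import Groth.Agent.Lib.GenusZero1_helper9
import Groth.Agent.Lib.FEtEuler4_helper9

/-!
# Double covers of the projective line: the `g¹₂` and its powers (helper9)
APPEND-ONLY once landed.  Statement of S14340.
-/

set_option autoImplicit false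
set_option linter.style.haveILetI false
universe u
open CategoryTheory CategoryTheory.Limits AlgebraicGeometry Opposite TopologicalSpace

namespace HypEll

open QcqsLoc QCohExtn GenLocH8 TensH8 FLFH8 CohB1 Groth.Agent.HHVan CurveAmple P1Iso

section G12

variable (k : Type u) [Field k] (C : Scheme.{u}) [C.Over (Spec (CommRingCat.of k))]
  [IsProper (C ↘ Spec (CommRingCat.of k))] [IsIntegral C]

/-- a double cover of `P¹` gives an invertible module of degree two with two sections -/
theorem g12_of_cover (f : C ⟶ CohB1.ProjSpace 1 k)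
    (hf : f ≫ CohB1.ProjSpace.toSpec 1 k = C ↘ Spec (CommRingCat.of k)) [IsFinite f] [Flat f]
    (hrk : ∀ y : ↥(CohB1.ProjSpace 1 k), Scheme.Hom.finrank f y = 2) :
    PicF.IsInvertible ((Scheme.Modules.pullback f).obj (Twist.twistProjSpace 1 k 1)) ∧
    Curv2.deg k C ((Scheme.Modules.pullback f).obj (Twist.twistProjSpace 1 k 1)) 1 = 2 ∧
    2 ≤ Module.finrank k (Coh.HH C ((Scheme.Modules.pullback f).obj
      (Twist.twistProjSpace 1 k 1)) 0) := by
  letI := overP1 k
  haveI := isIntegral_P1 k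
  haveI : IsProper ((CohB1.ProjSpace 1 k) ↘ Spec (CommRingCat.of k)) := isProper_P1 k
  haveI : IsLocallyNoetherian (CohB1.ProjSpace 1 k) :=
    LocallyOfFiniteType.isLocallyNoetherian ((CohB1.ProjSpace 1 k) ↘ Spec (CommRingCat.of k))
  haveI : LocallyOfFinitePresentation f :=
    LocallyOfFinitePresentation.iff_locallyOfFiniteType.mpr inferInstance
  haveI : Surjective f := FEtEuler9.surjective_of_finite_flat f
  have hinv1 := Groth.Agent.Horrocks.isInvertible_OO 1 k 1
  have hf' : f ≫ ((CohB1.ProjSpace 1 k) ↘ Spec (CommRingCat.of k)) =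
      C ↘ Spec (CommRingCat.of k) := hf
  refine ⟨isInvertible_pullback f hinv1, ?_, ?_⟩
  · rw [deg_pullback_cover k f hf' (dim_P1 k).le hrk _
      (FLFH8.finLocFreeOfRank_one_of_isInvertible hinv1), deg_O1]
    norm_num
  · have h1 : Module.finrank k (Coh.HH (CohB1.ProjSpace 1 k) (Twist.twistProjSpace 1 k 1) 0) ≤
        Module.finrank k (Coh.HH C ((Scheme.Modules.pullback f).obj
          (Twist.twistProjSpace 1 k 1)) 0) :=
      finrank_HH0_le_pullback k f hf' hrk _ hinv1
    have a1 : Module.finrank k (Coh.HH (CohB1.ProjSpace 1 k) (Twist.twistProjSpace 1 k 1) 0) = 2 :=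
      Groth.Agent.ProjEuler.finrank_HH_zero k 1 1
    omega

end G12

section Main

/-- **statement of S14340** -/
theorem main14340 (k : Type u) [Field k] (C : Scheme.{u}) [C.Over (Spec (CommRingCat.of k))]
    [IsProper (C ↘ Spec (CommRingCat.of k))] [Smooth (C ↘ Spec (CommRingCat.of k))]
    [GeometricallyConnected (C ↘ Spec (CommRingCat.of k))] (hC : topologicalKrullDim C = 1)
    (g : ℕ) (hg : Curv2.genus k C = g) (f : C ⟶ CohB1.ProjSpace 1 k)
    (hf : f ≫ CohB1.ProjSpace.toSpec 1 k = C ↘ Spec (CommRingCat.of k)) [IsFinite f] [Flat f]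
    (hrk : ∀ y : ↥(CohB1.ProjSpace 1 k), Scheme.Hom.finrank f y = 2) (r : ℕ) (hr : r + 1 ≤ g) :
    Module.finrank k (Coh.HH C (CohB1.tensorPow ((Scheme.Modules.pullback f).obj
      (Twist.twistProjSpace 1 k 1)) r) 0) = r + 1 := by
  haveI : IsIntegral C := VBCurve.isIntegral_of_smooth_geomConn k C
  haveI : IsLocallyNoetherian C :=
    LocallyOfFiniteType.isLocallyNoetherian (C ↘ Spec (CommRingCat.of k))
  haveI : CompactSpace C :=
    QuasiCompact.compactSpace_of_compactSpace (C ↘ Spec (CommRingCat.of k))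
  haveI : QuasiSeparatedSpace C := inferInstance
  obtain ⟨hLinv, hLdeg, hL2⟩ := g12_of_cover k C f hf hrk
  obtain ⟨L, hLdef⟩ : ∃ L : C.Modules, L = (Scheme.Modules.pullback f).obj
    (Twist.twistProjSpace 1 k 1) := ⟨_, rfl⟩
  rw [← hLdef] at hLinv hLdeg hL2 ⊢
  obtain ⟨K, hK⟩ : ∃ K : Type u, K = AlgebraicClosure k := ⟨_, rfl⟩
  subst hK
  letI : (Curv2.bc k C (AlgebraicClosure k)).Over (Spec (CommRingCat.of (AlgebraicClosure k))) :=
    ⟨Curv2.bcSnd k C (AlgebraicClosure k)⟩
  have hpb : IsPullback (Curv2.bcFst k C (AlgebraicClosure k))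
      (Curv2.bc k C (AlgebraicClosure k) ↘ Spec (CommRingCat.of (AlgebraicClosure k)))
      (C ↘ Spec (CommRingCat.of k))
      (Spec.map (CommRingCat.ofHom (algebraMap k (AlgebraicClosure k)))) :=
    IsPullback.of_hasPullback _ _
  haveI := PicBC.isProper_of_isPullback (Curv2.bcFst k C (AlgebraicClosure k)) hpb
  haveI := PicBC.smooth_of_isPullback (Curv2.bcFst k C (AlgebraicClosure k)) hpb
  haveI : GeometricallyConnected
      (Curv2.bc k C (AlgebraicClosure k) ↘ Spec (CommRingCat.of (AlgebraicClosure k))) :=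
    MorphismProperty.of_isPullback hpb inferInstance
  haveI : IsIntegral (Curv2.bc k C (AlgebraicClosure k)) :=
    VBCurve.isIntegral_of_smooth_geomConn (AlgebraicClosure k) _
  have hdimK : topologicalKrullDim (Curv2.bc k C (AlgebraicClosure k)) = 1 := by
    rw [GZ9.dim_bc]
    exact hC
  have hMinv := isInvertible_pullback (Curv2.bcFst k C (AlgebraicClosure k)) hLinv
  haveI : Coh.IsQCoh L := (ProperFinH9.isCoh_of_isInvertible hLinv).1
  have hMdeg : Curv2.deg (AlgebraicClosure k) (Curv2.bc k C (AlgebraicClosure k))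
      ((Scheme.Modules.pullback (Curv2.bcFst k C (AlgebraicClosure k))).obj L) 1 = 2 := by
    rw [← hLdeg]
    exact EulerBC.deg_bc k C (AlgebraicClosure k) L 1
  have hM2 : 2 ≤ Module.finrank (AlgebraicClosure k) (Coh.HH (Curv2.bc k C (AlgebraicClosure k))
      ((Scheme.Modules.pullback (Curv2.bcFst k C (AlgebraicClosure k))).obj L) 0) := by
    rw [Groth.Agent.EulerBC.finrank_HH_pullback (Curv2.bcFst k C (AlgebraicClosure k)) hpb L 0]
    exact hL2
  have hgK : Curv2.genus (AlgebraicClosure k) (Curv2.bc k C (AlgebraicClosure k)) = g := by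
    rw [← hg]
    exact Groth.Agent.EulerBC.finrank_HH_structure_pullback
      (Curv2.bcFst k C (AlgebraicClosure k)) hpb 1
  have key := finrank_HH0_tensorPow_eq (AlgebraicClosure k) (Curv2.bc k C (AlgebraicClosure k))
    hdimK hMinv hMdeg hM2 r (by rw [hgK]; exact hr)
  obtain ⟨φ⟩ := DegPull.nonempty_pullback_tensorPow_iso
    (Curv2.bcFst k C (AlgebraicClosure k)) hLinv r
  haveI : Coh.IsQCoh (CohB1.tensorPow L r) :=
    (ProperFinH9.isCoh_of_isInvertible (isInvertible_tensorPow hLinv r)).1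
  rw [← Groth.Agent.EulerBC.finrank_HH_pullback (Curv2.bcFst k C (AlgebraicClosure k)) hpb
    (CohB1.tensorPow L r) 0,
    finrank_HH_of_iso (AlgebraicClosure k) (Curv2.bc k C (AlgebraicClosure k)) φ 0]
  exact key

end Main

end HypEll
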