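import Mathlib
import Groth.Prelude
import Groth.Agent.Lib.P1Iso7_helper9
import Groth.Agent.Lib.CurveTens2_helper9

/-!
# The morphism to the projective line attached to a pencil (helper9)
APPEND-ONLY once landed.
-/

set_option autoImplicit false
universe u
open CategoryTheory CategoryTheory.Limits AlgebraicGeometry Opposite TopologicalSpace

namespace P1Iso

open QcqsLoc QCohExtn GenLocH8 TensH8 PBH8 FLFH8 CurveTens

section Stalk

theorem residue_bijective_of_isField {X : Scheme.{u}} (x : X)
    (h : IsField (X.presheaf.stalk x)) : Function.Bijective (X.residue x).hom := by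
  refine ⟨?_, X.residue_surjective x⟩
  letI := h.toField
  exact RingHom.injective (X.residue x).hom

/-- at points whose local rings are fields, the degree of the local ring extension is the residue
degree -/
theorem finrank_stalk_eq_residueDegree {X Y : Scheme.{u}} (f : X ⟶ Y) (x : X)
    (h1 : IsField (X.presheaf.stalk x)) (h2 : IsField (Y.presheaf.stalk (f x))) :
    (letI := (f.stalkMap x).hom.toAlgebra
     Module.finrank (Y.presheaf.stalk (f x)) (X.presheaf.stalk x)) = f.residueDegree x := by
  letI a1 := (f.stalkMap x).hom.toAlgebra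
  letI a2 := (f.residueFieldMap x).hom.toAlgebra
  have hr1 := residue_bijective_of_isField x h1
  have hr2 := residue_bijective_of_isField (f x) h2
  let i : Y.presheaf.stalk (f x) ≃+* Y.residueField (f x) :=
    RingEquiv.ofBijective (Y.residue (f x)).hom hr2
  let j : X.presheaf.stalk x ≃+* X.residueField x :=
    RingEquiv.ofBijective (X.residue x).hom hr1
  show Module.finrank (Y.presheaf.stalk (f x)) (X.presheaf.stalk x) =
    Module.finrank (Y.residueField (f x)) (X.residueField x)
  apply Algebra.finrank_eq_of_equiv_equiv i j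
  ext a
  have := Scheme.residue_residueFieldMap f x
  exact congrArg (fun m => m.hom a) this

end Stalk

section Const

variable (k : Type u) [Field k] (X : Scheme.{u}) [X.Over (Spec (CommRingCat.of k))]
  [IsIntegral X]

/-- if `H⁰(O_X) = k` then every global function is a constant -/
theorem exists_toGlobal_eq (h0 : Module.finrank k (Coh.HH X (Coh.structureModule X) 0) = 1)
    (a : Γ(X, ⊤)) :
    ∃ c : k, a = (show Γ(X, ⊤) from Coh.toGlobal (X ↘ Spec (CommRingCat.of k)) c) := by
  set Q := Coh.structureModule X with hQ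
  let one : Γ(Q, ⊤) := toM (1 : Γ(X, ⊤))
  let v : Coh.HH X Q 0 := (e₀ Q).symm one
  have hv : v ≠ 0 := by
    intro h
    have h1 : e₀ Q v = 0 := by rw [h, map_zero]
    rw [AddEquiv.apply_symm_apply] at h1
    have h2 : (1 : Γ(X, ⊤)) = 0 := h1
    exact one_ne_zero h2
  obtain ⟨c, hc⟩ := (finrank_eq_one_iff_of_nonzero' v hv).mp h0 ((e₀ Q).symm (toM a))
  refine ⟨c, ?_⟩
  have h1 : c • v = (Coh.toGlobal (X ↘ Spec (CommRingCat.of k)) c) • v := rfl
  have h2 := congrArg (e₀ Q) hc
  rw [h1, e₀_smul, AddEquiv.apply_symm_apply, AddEquiv.apply_symm_apply] at h2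
  have h3 : (show Γ(X, ⊤) from Coh.toGlobal (X ↘ Spec (CommRingCat.of k)) c) *
      (1 : Γ(X, ⊤)) = a := h2
  rw [mul_one] at h3
  exact h3.symm

end Const

section Pencil

variable (k : Type u) [Field k] (X : Scheme.{u}) [X.Over (Spec (CommRingCat.of k))]
  [IsIntegral X] [IsProper (X ↘ Spec (CommRingCat.of k))]

/-- **statement of S6579** -/
theorem pencil_dichotomy (hdim : topologicalKrullDim X = 1)
    (d : ℕ) (L : X.Modules) (s : Fin (1 + 1) → LinSer.Sect X L) (hL : LinSer.IsLinSer k X L d 1 s)
    (φ : X ⟶ CohB1.ProjSpace 1 k)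
    (α : (Scheme.Modules.pullback φ).obj (Twist.twistProjSpace 1 k 1) ⟶ L)
    (hφ : φ ≫ CohB1.ProjSpace.toSpec 1 k = X ↘ (Spec (CommRingCat.of k)))
    (t : Fin (1 + 1) → Γ((Scheme.Modules.pullback φ).obj (Twist.twistProjSpace 1 k 1), ⊤))
    (hα : ∀ i : Fin (1 + 1), ap α ⊤ (t i) = s i) :
    ((¬ ∃ p : CohB1.ProjSpace 1 k, IsClosed ({p} : Set (CohB1.ProjSpace 1 k)) ∧
        Set.range φ ⊆ {p}) ∧
      (letI := (φ.stalkMap (genericPoint X)).hom.toAlgebra
       Module.finrank ((CohB1.ProjSpace 1 k).presheaf.stalk (φ (genericPoint X)))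
        X.functionField ≤ d)) ∨
    ((∃ p : CohB1.ProjSpace 1 k, IsClosed ({p} : Set (CohB1.ProjSpace 1 k)) ∧
        Set.range φ ⊆ {p}) ∧
      Module.finrank k (Coh.HH X (Coh.structureModule X) 0) ≠ 1) := by
  haveI : IsLocallyNoetherian X :=
    LocallyOfFiniteType.isLocallyNoetherian (X ↘ Spec (CommRingCat.of k))
  letI := overP1 k
  haveI := isIntegral_P1 k
  haveI : IsProper ((CohB1.ProjSpace 1 k) ↘ Spec (CommRingCat.of k)) := isProper_P1 k
  have hφ' : φ ≫ ((CohB1.ProjSpace 1 k) ↘ Spec (CommRingCat.of k)) =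
      X ↘ Spec (CommRingCat.of k) := hφ
  obtain ⟨hLinv, hLdeg, hLli⟩ := hL
  have hinv1 := Groth.Agent.Horrocks.isInvertible_OO 1 k 1
  have hN : PicF.IsInvertible ((Scheme.Modules.pullback φ).obj (Twist.twistProjSpace 1 k 1)) :=
    isInvertible_pullback φ hinv1
  -- `s 0 ≠ 0`
  have hs0 : s 0 ≠ 0 := by
    intro h
    have := hLli (fun i => if i = 0 then 1 else 0) (by
      rw [Fin.sum_univ_two]
      simp [h])
    have h1 := congrFun this 0
    simp at h1
  have hα0 : α ≠ 0 := by
    intro h
    apply hs0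
    rw [← hα 0, h]
    rfl
  by_cases hξ : φ (genericPoint X) = genericPoint (CohB1.ProjSpace 1 k)
  · left
    constructor
    · rintro ⟨p, hp, hrange⟩
      have h1 : φ (genericPoint X) = p := hrange ⟨genericPoint X, rfl⟩
      rw [← h1, hξ] at hp
      exact DegPull.not_isClosed_generic (dim_P1 k) hp
    · have hfl : FlatMod.IsFinLocFreeOfRank 1 (Twist.twistProjSpace 1 k 1) :=
        FLFH8.finLocFreeOfRank_one_of_isInvertible hinv1
      have hd := DegPull.deg_pullback k hdim (dim_P1 k) φ hφ' hξ 1 _ hfl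
      rw [deg_O1 k, mul_one] at hd
      have hle := (CurveDeg.deg_le_of_ne_zero k X hdim hN hLinv α hα0).1
      rw [hd, hLdeg] at hle
      have hle' : φ.residueDegree (genericPoint X) ≤ d := by exact_mod_cast hle
      have hF1 : IsField (X.presheaf.stalk (genericPoint X)) :=
        Field.toIsField X.functionField
      have hF2 : IsField ((CohB1.ProjSpace 1 k).presheaf.stalk (φ (genericPoint X))) := by
        rw [hξ]
        exact Field.toIsField (CohB1.ProjSpace 1 k).functionField
      have := finrank_stalk_eq_residueDegree φ (genericPoint X) hF1 hF2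
      exact this.le.trans hle'
  · right
    have hcl := DegPull.isClosed_singleton_of_ne_generic (dim_P1 k).le _ hξ
    set y := φ (genericPoint X) with hy
    have hall : ∀ x : X, φ x = y := by
      intro x
      have h1 : genericPoint X ⤳ x := (genericPoint_spec X).specializes (Set.mem_univ x)
      have h2 : φ (genericPoint X) ⤳ φ x := h1.map φ.continuous
      have h3 : φ x ∈ ({y} : Set (CohB1.ProjSpace 1 k)) := h2.mem_closed hcl rfl
      exact h3
    refine ⟨⟨y, hcl, ?_⟩, ?_⟩
    · rintro _ ⟨x, rfl⟩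
      exact hall x
    · intro h0
      obtain ⟨W, hW, hyW, e₀, he₀⟩ := exists_isGen hinv1 y
      have htop : φ ⁻¹ᵁ W = ⊤ := by
        ext x
        simp only [Opens.coe_top, Set.mem_univ, iff_true]
        show φ x ∈ W
        rw [hall x]
        exact hyW
      have hG := isGen_cUV φ hinv1 hW he₀
      obtain ⟨m, hm⟩ : ∃ m : Γ((Scheme.Modules.pullback φ).obj (Twist.twistProjSpace 1 k 1), ⊤),
          IsGen ((Scheme.Modules.pullback φ).obj (Twist.twistProjSpace 1 k 1)) ⊤ m := by
        rw [← htop]
        exact ⟨_, hG⟩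
      -- the sections `t i` are constant multiples of `m`
      have hc : ∀ i, ∃ c : k, t i =
          (show Γ(X, ⊤) from Coh.toGlobal (X ↘ Spec (CommRingCat.of k)) c) • m := by
        intro i
        obtain ⟨a, ha⟩ := (hm ⊤ le_rfl).1 (t i)
        rw [SubExt.rF_self] at ha
        obtain ⟨c, hc⟩ := exists_toGlobal_eq k X h0 a
        exact ⟨c, by rw [ha, hc]⟩
      obtain ⟨c0, hc0⟩ := hc 0
      obtain ⟨c1, hc1⟩ := hc 1
      have hs : ∀ (i : Fin (1 + 1)) (c : k), t i =
          (show Γ(X, ⊤) from Coh.toGlobal (X ↘ Spec (CommRingCat.of k)) c) • m →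
          s i = (show Γ(X, ⊤) from Coh.toGlobal (X ↘ Spec (CommRingCat.of k)) c) • ap α ⊤ m := by
        intro i c h
        rw [← hα i, h, ap_smul]
      have e0 := hs 0 c0 hc0
      have e1 := hs 1 c1 hc1
      have hrel := hLli (fun i => if i = 0 then c1 else -c0) (by
        rw [Fin.sum_univ_two]
        simp only [if_true, Fin.one_eq_zero_iff, Nat.succ_ne_self, if_false]
        rw [e0, e1, map_neg, neg_smul]
        show (show Γ(X, ⊤) from Coh.toGlobal (X ↘ Spec (CommRingCat.of k)) c1) •
          ((show Γ(X, ⊤) from Coh.toGlobal (X ↘ Spec (CommRingCat.of k)) c0) • ap α ⊤ m) +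
          -((show Γ(X, ⊤) from Coh.toGlobal (X ↘ Spec (CommRingCat.of k)) c0) •
          ((show Γ(X, ⊤) from Coh.toGlobal (X ↘ Spec (CommRingCat.of k)) c1) • ap α ⊤ m)) = 0
        rw [smul_smul, smul_smul, mul_comm, add_neg_cancel])
      have h00 : c0 = 0 := by
        have := congrFun hrel 1
        simpa using this
      apply hs0
      rw [e0, h00, map_zero]
      exact zero_smul (Γ(X, ⊤)) (ap α ⊤ m)

end Pencil

end P1Iso
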