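import Mathlib
import Groth.Prelude
import Groth.Agent.Lib.HypEll3_helper9
import Groth.Agent.Lib.P1Iso9_helper9
import Groth.Agent.Lib.DegPull3_helper9
import Groth.Agent.Lib.OverField_helper7

/-!
# Hyperelliptic involutions: two non-trivial deck transformations of a double cover agree (helper9)
APPEND-ONLY once landed.  Towards S18892, S18893.
-/

set_option autoImplicit false
set_option linter.style.haveILetI false
universe u
open CategoryTheory CategoryTheory.Limits AlgebraicGeometry Opposite TopologicalSpace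

namespace HypInv

section Field

/-- two non-trivial endomorphisms of a quadratic field extension fixing the base agree -/
theorem ringHom_eq_of_finrank_two {F K : Type*} [Field F] [Field K] (ψ : F →+* K)
    (h2 : letI := ψ.toAlgebra
      Module.finrank F K = 2)
    (φ₁ φ₂ : K →+* K) (h₁ : φ₁.comp ψ = ψ) (h₂ : φ₂.comp ψ = ψ)
    (n₁ : φ₁ ≠ RingHom.id K) (n₂ : φ₂ ≠ RingHom.id K) : φ₁ = φ₂ := by
  letI := ψ.toAlgebra
  haveI : FiniteDimensional F K := Module.finite_of_finrank_pos (by rw [h2]; norm_num)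
  let a₁ : K →ₐ[F] K := { φ₁ with commutes' := fun r => RingHom.congr_fun h₁ r }
  let a₂ : K →ₐ[F] K := { φ₂ with commutes' := fun r => RingHom.congr_fun h₂ r }
  by_contra hne
  have d1 : a₁ ≠ AlgHom.id F K := fun h => n₁ (by
    ext x
    exact congrArg (fun a : K →ₐ[F] K => a x) h)
  have d2 : a₂ ≠ AlgHom.id F K := fun h => n₂ (by
    ext x
    exact congrArg (fun a : K →ₐ[F] K => a x) h)
  have d3 : a₁ ≠ a₂ := fun h => hne (by
    ext x
    exact congrArg (fun a : K →ₐ[F] K => a x) h)
  classical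
  have hc : ({AlgHom.id F K, a₁, a₂} : Finset (K →ₐ[F] K)).card = 3 :=
    Finset.card_eq_three.mpr ⟨_, _, _, d1.symm, d2.symm, d3, rfl⟩
  have h3 := Finset.card_le_univ ({AlgHom.id F K, a₁, a₂} : Finset (K →ₐ[F] K))
  have h4 : Fintype.card (K →ₐ[F] K) ≤ Module.finrank F K := AlgHom.card_le
  omega

end Field

section StepB

open P1Iso

variable (k : Type u) [Field k] {X : Scheme.{u}} [X.Over (Spec (CommRingCat.of k))]
  [IsIntegral X]

/-- an endomorphism commuting with a finite surjective map to an integral curve fixes the generic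
point -/
theorem map_genericPoint_eq (hdim : topologicalKrullDim X = 1) {P : Scheme.{u}} [IsIntegral P]
    (hP : topologicalKrullDim P = 1) (h : X ⟶ P) [IsFinite h] [Surjective h]
    (σ : X ⟶ X) (hσ : σ ≫ h = h) : σ (genericPoint X) = genericPoint X := by
  by_contra hne
  have hcl : IsClosed ({σ (genericPoint X)} : Set X) :=
    DegPull.isClosed_singleton_of_ne_generic hdim.le _ hne
  have hcl2 : IsClosed (h '' {σ (genericPoint X)}) := h.isClosedMap _ hcl
  rw [Set.image_singleton] at hcl2
  have h1 : h (σ (genericPoint X)) = genericPoint P := by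
    rw [← Scheme.Hom.comp_apply, hσ]
    exact FEtEuler9.map_genericPoint_of_surjective h
  rw [h1] at hcl2
  exact DegPull.not_isClosed_generic hP hcl2

/-- the endomorphism of the function field induced by a deck transformation -/
theorem exists_stalk_endo (hdim : topologicalKrullDim X = 1) {P : Scheme.{u}} [IsIntegral P]
    (hP : topologicalKrullDim P = 1) (h : X ⟶ P) [IsFinite h] [Surjective h]
    (ρ : X ⟶ X) (hρ : ρ ≫ h = h) :
    ∃ φ : X.presheaf.stalk (genericPoint X) ⟶ X.presheaf.stalk (genericPoint X),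
      X.fromSpecStalk (genericPoint X) ≫ ρ = Spec.map φ ≫ X.fromSpecStalk (genericPoint X) ∧
      h.stalkMap (genericPoint X) ≫ φ = h.stalkMap (genericPoint X) := by
  have hρξ := map_genericPoint_eq hdim hP h ρ hρ
  refine ⟨X.presheaf.stalkSpecializes (specializes_of_eq hρξ) ≫ ρ.stalkMap (genericPoint X),
    ?_, ?_⟩
  · exact (Groth.Agent.Lib.OverFieldH7.generic_stalk_iff ρ _).mp ⟨hρξ, rfl⟩
  · have e1 := (Groth.Agent.Lib.OverFieldH7.generic_stalk_iff ρ
      (X.presheaf.stalkSpecializes (specializes_of_eq hρξ) ≫ ρ.stalkMap (genericPoint X))).mp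
      ⟨hρξ, rfl⟩
    apply Spec.map_injective
    rw [← cancel_mono (P.fromSpecStalk (h (genericPoint X))), Spec.map_comp, Category.assoc,
      Scheme.SpecMap_stalkMap_fromSpecStalk, ← Category.assoc, ← e1, Category.assoc, hρ]

/-- **two non-trivial deck transformations of a double cover of `P¹` agree** -/
theorem eq_of_comp_eq [IsProper (X ↘ Spec (CommRingCat.of k))]
    (hdim : topologicalKrullDim X = 1) (h : X ⟶ CohB1.ProjSpace 1 k)
    (hh : h ≫ CohB1.ProjSpace.toSpec 1 k = X ↘ Spec (CommRingCat.of k)) [IsFinite h] [Flat h]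
    (hrk : ∀ y : ↥(CohB1.ProjSpace 1 k), h.finrank y = 2) (σ θ : X ⟶ X)
    (hσ : σ ≫ h = h) (hθ : θ ≫ h = h) (hσ1 : σ ≠ 𝟙 X) (hθ1 : θ ≠ 𝟙 X) : σ = θ := by
  letI := overP1 k
  haveI := isIntegral_P1 k
  haveI : IsProper ((CohB1.ProjSpace 1 k) ↘ Spec (CommRingCat.of k)) := isProper_P1 k
  haveI : IsLocallyNoetherian (CohB1.ProjSpace 1 k) :=
    LocallyOfFiniteType.isLocallyNoetherian ((CohB1.ProjSpace 1 k) ↘ Spec (CommRingCat.of k))
  haveI : LocallyOfFinitePresentation h :=
    LocallyOfFinitePresentation.iff_locallyOfFiniteType.mpr inferInstance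
  haveI : Surjective h := FEtEuler9.surjective_of_finite_flat h
  have hh' : h ≫ ((CohB1.ProjSpace 1 k) ↘ Spec (CommRingCat.of k)) =
      X ↘ Spec (CommRingCat.of k) := hh
  have hξ : h (genericPoint X) = genericPoint (CohB1.ProjSpace 1 k) :=
    FEtEuler9.map_genericPoint_of_surjective h
  have hinv1 := Groth.Agent.Horrocks.isInvertible_OO 1 k 1
  -- the residue degree is two
  have hdeg : h.residueDegree (genericPoint X) = 2 := by
    have h1 := DegPull.deg_pullback k hdim (dim_P1 k) h hh' hξ 1 (Twist.twistProjSpace 1 k 1)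
      (FLFH8.finLocFreeOfRank_one_of_isInvertible hinv1)
    rw [(HypEll.g12_of_cover k X h hh hrk).2.1, deg_O1, mul_one] at h1
    exact_mod_cast h1.symm
  have hK : IsField (X.presheaf.stalk (genericPoint X)) := Field.toIsField X.functionField
  have hF : IsField ((CohB1.ProjSpace 1 k).presheaf.stalk (h (genericPoint X))) := by
    rw [hξ]
    exact Field.toIsField (CohB1.ProjSpace 1 k).functionField
  have hfin := P1Iso.finrank_stalk_eq_residueDegree h (genericPoint X) hK hF
  rw [hdeg] at hfin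
  letI : Field ((CohB1.ProjSpace 1 k).presheaf.stalk (h (genericPoint X))) := hF.toField
  obtain ⟨φσ, eσ, cσ⟩ := exists_stalk_endo hdim (dim_P1 k) h σ hσ
  obtain ⟨φθ, eθ, cθ⟩ := exists_stalk_endo hdim (dim_P1 k) h θ hθ
  haveI := Groth.Agent.Lib.OverFieldH7.isDominant_fromSpecStalk_genericPoint X
  have hp : ∀ ρ : X ⟶ X, ρ ≫ h = h →
      ρ ≫ (X ↘ Spec (CommRingCat.of k)) = X ↘ Spec (CommRingCat.of k) := by
    intro ρ hρ
    rw [← hh, ← Category.assoc, hρ]
  have hne : ∀ (ρ : X ⟶ X) (hρ : ρ ≫ h = h)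
      (φ : X.presheaf.stalk (genericPoint X) ⟶ X.presheaf.stalk (genericPoint X)),
      X.fromSpecStalk (genericPoint X) ≫ ρ = Spec.map φ ≫ X.fromSpecStalk (genericPoint X) →
      ρ ≠ 𝟙 X → φ.hom ≠ RingHom.id _ := by
    intro ρ hρ φ e hρ1 hid
    apply hρ1
    have h1 : φ = 𝟙 _ := CommRingCat.hom_ext hid
    rw [h1, Spec.map_id, Category.id_comp] at e
    exact ext_of_isDominant_of_isSeparated (X ↘ Spec (CommRingCat.of k))
      (by rw [hp ρ hρ, Category.id_comp]) (X.fromSpecStalk (genericPoint X))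
      (by rw [e, Category.comp_id])
  have key : φσ.hom = φθ.hom :=
    ringHom_eq_of_finrank_two (h.stalkMap (genericPoint X)).hom hfin φσ.hom φθ.hom
      (by rw [← CommRingCat.hom_comp, cσ]) (by rw [← CommRingCat.hom_comp, cθ])
      (hne σ hσ φσ eσ hσ1) (hne θ hθ φθ eθ hθ1)
  have key' : φσ = φθ := CommRingCat.hom_ext key
  exact ext_of_isDominant_of_isSeparated (X ↘ Spec (CommRingCat.of k))
    (by rw [hp σ hσ, hp θ hθ]) (X.fromSpecStalk (genericPoint X))
    (by rw [eσ, eθ, key'])

end StepB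

end HypInv
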