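import Mathlib
import Groth.Prelude
import Groth.Agent.Lib.H0Lift4_helper2
import Groth.Agent.Lib.BCFib2_helper2
import Groth.Agent.Lib.BCFun3_helper2
import Groth.Agent.Lib.H0Const_helper4
import Groth.Agent.Lib.Tens41_helper8
import Groth.Agent.Lib.Tens17_helper8
import Groth.Agent.Lib.StalkFF1_helper2

/-!
# The seesaw principle over a reduced base (helper9)

For `f : X ⟶ Y` proper and flat over a reduced locally Noetherian base with
`dim H⁰(X_y, O) = 1` for all `y`, an invertible module `L` on `X` which is trivial on all fibres is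
the pullback of the invertible module `f_* L`.

* `lift_aux'`, `lift_over_V'`: lifting sections from a fibre when `y ↦ h⁰(X_y, F_y)` is constant
  (variant of helper2's `H0LiftH2.lift_over_V` with Grauert in place of the vanishing of `H¹`).
* `gen_near_fibre`: a fibrewise trivial invertible module has a generator over `f⁻¹ U`.
* `main`: the seesaw statement.
APPEND-ONLY once landed.
-/

set_option autoImplicit false
universe u
open CategoryTheory Limits AlgebraicGeometry TopologicalSpace Opposite TensorProduct MonoidalCategory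

namespace Seesaw9

open Groth.Agent.Lib.BCAlgH2 Groth.Agent.Lib.BCLocH2 Groth.Agent.Lib.BCFibH2
  Groth.Agent.Lib.BCMainH2 Groth.Agent.Lib.BCTruncH2 Groth.Agent.Lib.BCDvrH2
  Groth.Agent.Lib.BCBaseH2 Groth.Agent.Lib.BCCxH2 Groth.Agent.Lib.FormalFnH2
  Groth.Agent.Lib.H0LiftH2

/-- lifting sections, from the local constancy of the rank function in degree zero over a
reduced base -/
theorem lift_aux' (A : Type u) [CommRing A] [IsNoetherianRing A] [IsReduced A] (X : Scheme.{u})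
    [X.Over (Spec (CommRingCat.of A))] [IsProper (X ↘ Spec (CommRingCat.of A))]
    (F : X.Modules) (hF : Coh.IsCoh F)
    (hfl : FlatMod.IsFlatOver (X ↘ Spec (CommRingCat.of A)) F)
    (L : CochainComplex (ModuleCat.{u} A) ℤ)
    (hL : ∀ i, Module.Finite A (L.X i) ∧ Module.Free A (L.X i))
    (hiso : Nonempty (CohIII.tensorAFunctor A F ⋙ CohIII.HAb X 0 ≅
      CohIII.TFun L ((0 : ℕ) : ℤ) ⋙ forget₂ (ModuleCat.{u} A) AddCommGrpCat.{u}))
    (hd : IsLocallyConstant (CohIII.dRank (toChain L) (-((0 : ℕ) : ℤ))))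
    (A' : Type u) [CommRing A'] [Algebra A A'] (X' : Scheme.{u})
    [X'.Over (Spec (CommRingCat.of A'))] (g' : X' ⟶ X)
    (hsq : IsPullback g' (X' ↘ Spec (CommRingCat.of A')) (X ↘ Spec (CommRingCat.of A))
      (Spec.map (CommRingCat.ofHom (algebraMap A A'))))
    (hK : ∀ c : A', ∃ a b : A, IsUnit (algebraMap A A' b) ∧
      c * algebraMap A A' b = algebraMap A A' a)
    (σ : Γ((Scheme.Modules.pullback g').obj F, ⊤)) :
    ∃ (s : Γ(F, ⊤)) (b : A), IsUnit (algebraMap A A' b) ∧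
      ∀ h : (⊤ : X'.Opens) ≤ g' ⁻¹ᵁ ⊤, PBH8.cUV g' F h s =
        rUHom (A := A') (⊤ : X'.Opens) (algebraMap A A' b) • σ := by
  classical
  haveI : F.IsQuasicoherent := hF.1
  haveI : CompactSpace X :=
    QuasiCompact.compactSpace_of_compactSpace (X ↘ Spec (CommRingCat.of A))
  obtain ⟨t, U', hU', hcov'⟩ := exists_affine_cover X
  have hdd : ∀ V W : X.Opens, IsAffineOpen V → IsAffineOpen W → IsAffineOpen (V ⊓ W) :=
    inf_affine_of_separated (X ↘ Spec (CommRingCat.of A))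
  let 𝒰 : ULift.{u} (Fin t) → X.Opens := fun i => U' i.down
  have hcov : ⨆ i, 𝒰 i = ⊤ := by
    rw [eq_top_iff, ← hcov']
    exact iSup_le fun i => le_iSup 𝒰 ⟨i⟩
  have hU := isAffineOpen_biInf hdd 𝒰 (fun i => hU' i.down)
  have hL' : ∀ i, Module.Finite A (L.X i) ∧ Module.Flat A (L.X i) := fun i =>
    ⟨(hL i).1, haveI := (hL i).2; inferInstance⟩
  have hP : ∀ i, Module.Finite A ((toChain L).X i) ∧ Module.Flat A ((toChain L).X i) :=
    fun i => hL' (-i)
  have h := Groth.Agent.TFunRank5.s2381_2 (toChain L) hP (-((0 : ℕ) : ℤ)) hd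
  have e1 : CohIII.TFun (toChain L) (-((0 : ℕ) : ℤ)) ≅ CohIII.TFun L ((0 : ℕ) : ℤ) :=
    TFunRestr L (-((0 : ℕ) : ℤ)) ≪≫ eqToIso (congrArg (CohIII.TFun L) (neg_neg ((0 : ℕ) : ℤ)))
  have heL : (CohIII.TFun L ((0 : ℕ) : ℤ)).PreservesEpimorphisms :=
    haveI := h.2
    Functor.PreservesEpimorphisms.of_iso e1
  obtain ⟨e2⟩ := hiso
  have heG : (CohIII.tensorAFunctor A F ⋙ CohIII.HAb X 0).PreservesEpimorphisms :=
    (presEpi_iff e2).2 heL
  have hepi : (CohIII.TFun (CC A 𝒰 F) 0).PreservesEpimorphisms :=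
    (presEpi_iff (natIso A 𝒰 hU F hcov 0).symm).1 heG
  exact exists_section_lift hsq 𝒰 hU F hcov (flat_CC A 𝒰 hU F hfl 1) hepi hK σ

section OverV

variable {X Y : Scheme.{u}} (f : X ⟶ Y) [IsProper f] [IsLocallyNoetherian Y] [IsReduced Y]
  (F : X.Modules) (hF : Coh.IsCoh F) (hfl : FlatMod.IsFlatOver f F)
  (V : Y.Opens) [IsAffine (V : Scheme.{u})]

include hF hfl in
/-- **lifting sections from a fibre**: over an affine open `V` of a reduced base on which
`h⁰(X_y, F_y) = c` is constant, every global section of the restriction of `F` to the fibre at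
`y ∈ V` is, up to a unit, the pullback of a section over `f⁻¹ V` -/
theorem lift_over_V' (c : ℕ) (hone : ∀ y' ∈ V, CohIII.fiberRank f F 0 y' = c) (y : Y) (hy : y ∈ V)
    (σ : Γ((Scheme.Modules.pullback (gy f V y hy)).obj
      ((Scheme.Modules.pullback (f ⁻¹ᵁ V).ι).obj F), ⊤)) :
    ∃ (s : Γ((Scheme.Modules.pullback (f ⁻¹ᵁ V).ι).obj F, ⊤)) (u : Γ(f.fiber y, ⊤)), IsUnit u ∧
      ∀ h : (⊤ : (f.fiber y).Opens) ≤ (gy f V y hy) ⁻¹ᵁ ⊤,
        PBH8.cUV (gy f V y hy) ((Scheme.Modules.pullback (f ⁻¹ᵁ V).ι).obj F) h s = u • σ := by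
  haveI : IsNoetherianRing Γ((V : Scheme.{u}), ⊤) :=
    IsLocallyNoetherian.component_noetherian ⟨⊤, isAffineOpen_top _⟩
  haveI : IsReduced (V : Scheme.{u}) := isReduced_of_isOpenImmersion V.ι
  haveI : IsReduced Γ((V : Scheme.{u}), ⊤) := IsReduced.component_reduced ⊤
  letI := overV f V
  haveI : IsProper (((f ⁻¹ᵁ V : X.Opens) : Scheme.{u}) ↘
      Spec (CommRingCat.of Γ((V : Scheme.{u}), ⊤))) :=
    inferInstanceAs (IsProper ((f ∣_ V) ≫ (V : Scheme.{u}).toSpecΓ))
  haveI : F.IsQuasicoherent := hF.1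
  have hG := Groth.Agent.Lib.ConsModH2.isCoh_pullback (f ⁻¹ᵁ V).ι F hF
  haveI : ((Scheme.Modules.pullback (f ⁻¹ᵁ V).ι).obj F).IsQuasicoherent := hG.1
  have hflG := isFlatOver_V f V F hfl
  obtain ⟨L, hL, -, -, hiso, -, -, hbc⟩ := mainBC3 Γ((V : Scheme.{u}), ⊤)
    ((f ⁻¹ᵁ V : X.Opens) : Scheme.{u}) ((Scheme.Modules.pullback (f ⁻¹ᵁ V).ι).obj F) hG hflG
  have hd : ∀ x : PrimeSpectrum Γ((V : Scheme.{u}), ⊤),
      CohIII.dRank (toChain L) (-((0 : ℕ) : ℤ)) x = c := by
    intro x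
    obtain ⟨v, hv⟩ := ((V : Scheme.{u}).toSpecΓ.homeomorph).surjective x
    obtain ⟨y', hy'⟩ := v
    have hv' : ((V : Scheme.{u}).toSpecΓ ⟨y', hy'⟩ : PrimeSpectrum Γ((V : Scheme.{u}), ⊤)) = x :=
      hv
    letI := algY V y' hy'
    letI := overFib f y'
    obtain ⟨e⟩ := hbc (Y.residueField y') (f.fiber y') (gy f V y' hy')
      (isPullback_fib f V y' hy') 0
    have e3 := Groth.Agent.Lib.StalkFFH2.HHlinEquiv (Y.residueField y')
      (fibModIso f V y' hy' F) 0
    have e2 := (homologyRestrIso (CohIII.bcCx (ψy V y' hy') L) (-((0 : ℕ) : ℤ)) ((0 : ℕ) : ℤ)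
      (by simp)).toLinearEquiv
    have h1 : CohIII.fiberRank f F 0 y' = Module.finrank (Y.residueField y')
        ((CohIII.bcCx (ψy V y' hy') (toChain L)).homology (-((0 : ℕ) : ℤ))) :=
      ((e2.trans e).trans e3).finrank_eq.symm
    rw [← hv', toSpecΓ_apply V y' hy', dRank_ker (ψy V y' hy') (toChain L) (-((0 : ℕ) : ℤ)),
      ← h1]
    exact hone y' hy'
  have hlc : IsLocallyConstant (CohIII.dRank (toChain L) (-((0 : ℕ) : ℤ))) := by
    have : CohIII.dRank (toChain L) (-((0 : ℕ) : ℤ)) = fun _ => c := funext hd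
    rw [this]
    exact IsLocallyConstant.const c
  letI := algY V y hy
  letI := overFib f y
  have hK : ∀ c : Y.residueField y, ∃ a b : Γ((V : Scheme.{u}), ⊤),
      IsUnit (algebraMap Γ((V : Scheme.{u}), ⊤) (Y.residueField y) b) ∧
      c * algebraMap Γ((V : Scheme.{u}), ⊤) (Y.residueField y) b =
        algebraMap Γ((V : Scheme.{u}), ⊤) (Y.residueField y) a :=
    fraction_residueField V y hy
  obtain ⟨s, b, hb, hs⟩ := lift_aux' Γ((V : Scheme.{u}), ⊤) ((f ⁻¹ᵁ V : X.Opens) : Scheme.{u})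
    ((Scheme.Modules.pullback (f ⁻¹ᵁ V).ι).obj F) hG hflG L hL (hiso 0) hlc
    (Y.residueField y) (f.fiber y) (gy f V y hy) (isPullback_fib f V y hy) hK σ
  exact ⟨s, rUHom (A := Y.residueField y) (⊤ : (f.fiber y).Opens)
    (algebraMap Γ((V : Scheme.{u}), ⊤) (Y.residueField y) b), hb.map _, hs⟩

end OverV

end Seesaw9
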