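import Mathlib
import Groth.Prelude
import Groth.Agent.Lib.Seesaw1_helper9
import Groth.Agent.Lib.Tens21_helper8

/-!
# The seesaw principle over a reduced base, part 2 (helper9)

* `gen_aux`: a fibrewise trivial invertible module (with constant `h⁰` on fibres) has a generator
  over `f⁻¹ U` for a neighbourhood `U` of a given point (variant of helper2's `triv_aux`).
* `main_push`, `main`: the seesaw statement (S16759).
APPEND-ONLY once landed.
-/

set_option autoImplicit false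
universe u
open CategoryTheory Limits AlgebraicGeometry TopologicalSpace Opposite TensorProduct MonoidalCategory

namespace Seesaw9

open Groth.Agent.Lib.BCLocH2 QcqsLoc QCohExtn GenLocH8 FLFH8 TensH8 Groth.Agent.Lib.H0LiftH2 PBH8

section Near

variable {X Y : Scheme.{u}} (f : X ⟶ Y) [IsProper f] [IsLocallyNoetherian Y] [IsReduced Y]

theorem gen_aux (y : Y) (N : X.Modules) (hN : PicF.IsInvertible N)
    (hfl : FlatMod.IsFlatOver f N) (V : Y.Opens) [IsAffine (V : Scheme.{u})] (hy : y ∈ V)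
    (c : ℕ) (hone : ∀ y' ∈ V, CohIII.fiberRank f N 0 y' = c)
    (htriv : Nonempty (CohIII.fiberMod f N y ≅ Coh.structureModule (f.fiber y))) :
    ∃ U : Y.Opens, y ∈ U ∧ ∃ e : Γ(N, f ⁻¹ᵁ U), IsGen N (f ⁻¹ᵁ U) e := by
  have hF := isCoh_of_isInvertible hN
  have hNV : PicF.IsInvertible ((Scheme.Modules.pullback (f ⁻¹ᵁ V).ι).obj N) :=
    isInvertible_pullback (f ⁻¹ᵁ V).ι hN
  let θ : (Scheme.Modules.pullback (gy f V y hy)).obj
      ((Scheme.Modules.pullback (f ⁻¹ᵁ V).ι).obj N) ≅ Coh.structureModule (f.fiber y) :=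
    fibModIso f V y hy N ≪≫ htriv.some
  let σ : Γ((Scheme.Modules.pullback (gy f V y hy)).obj
      ((Scheme.Modules.pullback (f ⁻¹ᵁ V).ι).obj N), ⊤) :=
    ap θ.inv ⊤ (toM (1 : Γ(f.fiber y, ⊤)))
  have hσ : IsGen ((Scheme.Modules.pullback (gy f V y hy)).obj
      ((Scheme.Modules.pullback (f ⁻¹ᵁ V).ι).obj N)) ⊤ σ := isGen_of_iso θ.symm (isGen_one ⊤)
  obtain ⟨s, u, hu, hs⟩ := lift_over_V' f N hF hfl V c hone y hy σ
  have hG := preimage_genLocus_eq_top (gy f V y hy) hNV s σ hσ u hu hs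
  set G := CohB1.genLocus ((Scheme.Modules.pullback (f ⁻¹ᵁ V).ι).obj N)
    (SDivGenH8.unitHom ((Scheme.Modules.pullback (f ⁻¹ᵁ V).ι).obj N) s) with hGdef
  have hres : ∀ x' : ((f ⁻¹ᵁ V : X.Opens) : Scheme.{u}),
      V.ι ((f ∣_ V) x') = f ((f ⁻¹ᵁ V).ι x') := fun x' => by
    rw [← Scheme.Hom.comp_apply, ← Scheme.Hom.comp_apply, morphismRestrict_ι]
  -- the closed image
  have hclosed : IsClosed ((f ∣_ V) '' ((SetLike.coe G)ᶜ)) :=
    (f ∣_ V).isClosedMap _ G.isOpen.isClosed_compl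
  let U₀ : (V : Scheme.{u}).Opens :=
    ⟨((f ∣_ V) '' ((SetLike.coe G)ᶜ))ᶜ, hclosed.isOpen_compl⟩
  have hyU₀ : (⟨y, hy⟩ : ↥V) ∈ U₀ := by
    rintro ⟨x', hx'G, hx'⟩
    have h1 : f ((f ⁻¹ᵁ V).ι x') = y := by
      rw [← hres x', hx']
      rfl
    have h2 : (f ⁻¹ᵁ V).ι x' ∈ Set.range (f.fiberι y) := by
      rw [Scheme.Hom.range_fiberι]
      exact h1
    obtain ⟨z, hz⟩ := h2
    have h3 : (gy f V y hy) z = x' := by
      apply (f ⁻¹ᵁ V).ι.isOpenEmbedding.injective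
      rw [← Scheme.Hom.comp_apply, gy_ι]
      exact hz
    have h4 : z ∈ (gy f V y hy) ⁻¹ᵁ G := by
      rw [hG]
      trivial
    exact hx'G (h3 ▸ h4)
  refine ⟨V.ι ''ᵁ U₀, ⟨⟨y, hy⟩, hyU₀, rfl⟩, ?_⟩
  -- the generator
  have hW'G : (f ⁻¹ᵁ V).ι ⁻¹ᵁ (f ⁻¹ᵁ (V.ι ''ᵁ U₀)) ≤ G := by
    intro x' hx'
    by_contra hcon
    obtain ⟨v, hv, hvx⟩ := hx'
    have hv' : v = (f ∣_ V) x' := by
      apply V.ι.isOpenEmbedding.injective
      rw [hres x']
      exact hvx
    exact hv (hv' ▸ ⟨x', hcon, rfl⟩)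
  have he' := isGen_val_of_le_genLocus
    (SDivGenH8.unitHom ((Scheme.Modules.pullback (f ⁻¹ᵁ V).ι).obj N) s) hW'G
  let α : (Scheme.Modules.pullback (f ⁻¹ᵁ V).ι).obj N ≅ N.restrict (f ⁻¹ᵁ V).ι :=
    ((Scheme.Modules.restrictFunctorIsoPullback (f ⁻¹ᵁ V).ι).app N).symm
  have he'' := isGen_of_iso α he'
  have he3 := isGen_of_restrict (f ⁻¹ᵁ V).ι N _ he''
  have heq : (f ⁻¹ᵁ V).ι ''ᵁ ((f ⁻¹ᵁ V).ι ⁻¹ᵁ (f ⁻¹ᵁ (V.ι ''ᵁ U₀))) = f ⁻¹ᵁ (V.ι ''ᵁ U₀) := by
    rw [Scheme.Hom.image_preimage_eq_opensRange_inf, Scheme.Opens.opensRange_ι]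
    refine inf_eq_right.mpr (fun x hx => ?_)
    obtain ⟨v, -, hvx⟩ := hx
    show f x ∈ V
    rw [← hvx]
    exact v.2
  rw [← heq]
  exact ⟨_, he3⟩

end Near

section Main

variable {X Y : Scheme.{u}} (f : X ⟶ Y)

/-- `κ(y) → Γ(X_y, O)` is bijective when the target has dimension one -/
theorem bijective_algebraMap_of_finrank_one (y : Y)
    (h0 : Module.finrank (Y.residueField y) Γ(f.fiber y, ⊤) = 1) :
    Function.Bijective (algebraMap (Y.residueField y) Γ(f.fiber y, ⊤)) := by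
  haveI : Nontrivial Γ(f.fiber y, ⊤) := by
    by_contra hn
    rw [not_nontrivial_iff_subsingleton] at hn
    have := Module.finrank_zero_of_subsingleton (R := Y.residueField y) (M := Γ(f.fiber y, ⊤))
    omega
  refine ⟨(algebraMap (Y.residueField y) Γ(f.fiber y, ⊤)).injective, fun w => ?_⟩
  have h1 : (1 : Γ(f.fiber y, ⊤)) ≠ 0 := one_ne_zero
  obtain ⟨c, hc⟩ := (finrank_eq_one_iff_of_nonzero' (1 : Γ(f.fiber y, ⊤)) h1).1 h0 w
  exact ⟨c, by rw [Algebra.algebraMap_eq_smul_one]; exact hc⟩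

/-- `h⁰(X_y, L_y) = 1` when `L_y` is trivial and `Γ(X_y, O) = κ(y)` -/
theorem fiberRank_zero_eq_one (L : X.Modules) (y : Y)
    (hbij : Function.Bijective (algebraMap (Y.residueField y) Γ(f.fiber y, ⊤)))
    (htriv : Nonempty (CohIII.fiberMod f L y ≅ Coh.structureModule (f.fiber y))) :
    CohIII.fiberRank f L 0 y = 1 := by
  obtain ⟨θ⟩ := htriv
  letI := overFib f y
  have e3 := Groth.Agent.Lib.StalkFFH2.HHlinEquiv (Y.residueField y) θ 0
  have h1 : CohIII.fiberRank f L 0 y =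
      Module.finrank (Y.residueField y) (Coh.HH (f.fiber y) (Coh.structureModule (f.fiber y)) 0) :=
    e3.finrank_eq
  rw [h1]
  exact Groth.Agent.Lib.H0ConstH4.finrank_HH_zero_eq_one (Y.residueField y) (f.fiber y) hbij

/-- a module with a global generator is trivial -/
theorem iso_of_isGen_top {Z : Scheme.{u}} (M : Z.Modules) (e : Γ(M, ⊤)) (he : IsGen M ⊤ e) :
    Nonempty (Coh.structureModule Z ≅ M) := by
  haveI : IsIso (homOfSec M e) := by
    apply isIso_of_isGen_cover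
    intro x
    refine ⟨⊤, trivial, toM 1, isGen_one ⊤, ?_⟩
    have h1 : ap (homOfSec M e) ⊤ (toM 1) = e :=
      (val_homOfSec M e ⊤).trans (SubExt.rF_self M le_top e)
    rw [h1]
    exact he
  exact ⟨asIso (homOfSec M e)⟩

/-- the pullback of an invertible module on the base is trivial on every fibre -/
theorem fibre_trivial_of_pullback (M : Y.Modules) (hM : PicF.IsInvertible M) (y : Y) :
    Nonempty (CohIII.fiberMod f ((Scheme.Modules.pullback f).obj M) y ≅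
      Coh.structureModule (f.fiber y)) := by
  obtain ⟨V, hV, hyV, e₀, he₀⟩ := exists_isGen hM y
  have h1 := isGen_cUV (f.fiberι y ≫ f) hM hV he₀
  have htop : (⊤ : (f.fiber y).Opens) ≤ (f.fiberι y ≫ f) ⁻¹ᵁ V := by
    intro z _
    show (f.fiberι y ≫ f) z ∈ V
    have h2 : f.fiberι y z ∈ Set.range (f.fiberι y) := ⟨z, rfl⟩
    rw [Scheme.Hom.range_fiberι] at h2
    have h3 : f (f.fiberι y z) = y := h2
    rw [Scheme.Hom.comp_apply, h3]
    exact hyV
  obtain ⟨ψ⟩ := iso_of_isGen_top _ _ (h1.res htop)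
  exact ⟨(Scheme.Modules.pullbackComp (f.fiberι y) f).app M ≪≫ ψ.symm⟩

variable [IsProper f] [Flat f] [IsLocallyNoetherian Y] [IsReduced Y]

/-- A generator of `L` over `f⁻¹ V` is a generator of `f_* L` over `V` when `O_S ≅ f_* O_X`
over `V`. -/
theorem isGen_pushforward' {L : X.Modules} {V : Y.Opens}
    (hf : ∀ O : Y.Opens, O ≤ V → Function.Bijective (f.app O))
    {e : Γ(L, f ⁻¹ᵁ V)} (he : IsGen L (f ⁻¹ᵁ V) e) :
    IsGen ((Scheme.Modules.pushforward f).obj L) V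
      (show Γ((Scheme.Modules.pushforward f).obj L, V) from e) := by
  intro O hO
  have hOV : f ⁻¹ᵁ O ≤ f ⁻¹ᵁ V := fun _ hz => hO hz
  obtain ⟨h1, h2⟩ := he (f ⁻¹ᵁ O) hOV
  constructor
  · intro l
    obtain ⟨a, ha⟩ := h1 l
    obtain ⟨d, hd⟩ := (hf O hO).2 a
    refine ⟨d, ?_⟩
    rw [← hd] at ha
    exact ha
  · intro c hc
    have := h2 ((f.app O).hom c) hc
    exact (hf O hO).1 (this.trans (map_zero _).symm)

theorem key (hbij : ∀ y : Y, Function.Bijective (algebraMap (Y.residueField y) Γ(f.fiber y, ⊤)))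
    (L : X.Modules) (hL : PicF.IsInvertible L)
    (htriv : ∀ y : Y, Nonempty (CohIII.fiberMod f L y ≅ Coh.structureModule (f.fiber y)))
    (y : Y) :
    ∃ V : Y.Opens, IsAffineOpen V ∧ y ∈ V ∧
      (∀ O : Y.Opens, O ≤ V → Function.Bijective (f.app O)) ∧
      ∃ e : Γ(L, f ⁻¹ᵁ V), IsGen L (f ⁻¹ᵁ V) e := by
  obtain ⟨V₀, hV₀, hyV₀⟩ := exists_affine_nhd (Y := Y) y
  haveI : IsAffine (V₀ : Scheme.{u}) := hV₀
  have hfl := isFlatOver_of_isInvertible f hL
  obtain ⟨U₁, hyU₁, e₁, he₁⟩ := gen_aux f y L hL hfl V₀ hyV₀ 1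
    (fun y' _ => fiberRank_zero_eq_one f L y' (hbij y') (htriv y')) (htriv y)
  obtain ⟨U₂, hyU₂, hU₂⟩ := Groth.Agent.Lib.BCFunH2.main2393 f y (hbij y)
  obtain ⟨_, ⟨V, hV : IsAffineOpen V, rfl⟩, hyV, hVU⟩ :=
    (Y.isBasis_affineOpens).exists_subset_of_mem_open
      (show y ∈ ((U₁ ⊓ U₂ : Y.Opens) : Set Y) from ⟨hyU₁, hyU₂⟩) (U₁ ⊓ U₂).isOpen
  have hVU' : V ≤ U₁ ⊓ U₂ := hVU
  have hle : f ⁻¹ᵁ V ≤ f ⁻¹ᵁ U₁ := fun _ hz => (hVU' hz).1
  refine ⟨V, hV, hyV, fun O hO => ?_, rF L hle e₁, he₁.res hle⟩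
  haveI := hU₂ O (hO.trans (hVU'.trans inf_le_right))
  exact ConcreteCategory.bijective_of_isIso (f.app O)

theorem main_push
    (hbij : ∀ y : Y, Function.Bijective (algebraMap (Y.residueField y) Γ(f.fiber y, ⊤)))
    (L : X.Modules) (hL : PicF.IsInvertible L)
    (htriv : ∀ y : Y, Nonempty (CohIII.fiberMod f L y ≅ Coh.structureModule (f.fiber y))) :
    PicF.IsInvertible ((Scheme.Modules.pushforward f).obj L) ∧
      IsIso ((Scheme.Modules.pullbackPushforwardAdjunction f).counit.app L) := by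
  have hkey := key f hbij L hL htriv
  have hM : PicF.IsInvertible ((Scheme.Modules.pushforward f).obj L) := by
    apply isInvertible_of_gens
    intro s
    obtain ⟨V, hV, hsV, hf, e, he⟩ := hkey s
    exact ⟨V, hV, hsV, _, isGen_pushforward' f hf he⟩
  refine ⟨hM, ?_⟩
  apply isIso_of_isGen_cover
  intro z
  obtain ⟨V, hV, hsV, hf, e, he⟩ := hkey (f z)
  refine ⟨f ⁻¹ᵁ V, hsV, cUV f ((Scheme.Modules.pushforward f).obj L) le_rfl
    (show Γ((Scheme.Modules.pushforward f).obj L, V) from e),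
    isGen_cUV f hM hV (isGen_pushforward' f hf he), ?_⟩
  rw [counit_cUV f L (le_rfl : f ⁻¹ᵁ V ≤ f ⁻¹ᵁ V) e, SubExt.rF_self]
  exact he

/-- **S16759** -/
theorem main (h0 : ∀ y : Y, Module.finrank (Y.residueField y) Γ(f.fiber y, ⊤) = 1)
    (L : X.Modules) (hL : PicF.IsInvertible L) :
    ((∃ M : Y.Modules, PicF.IsInvertible M ∧ Nonempty ((Scheme.Modules.pullback f).obj M ≅ L)) ↔
        ∀ y : Y, Nonempty (CohIII.fiberMod f L y ≅ Coh.structureModule (f.fiber y))) ∧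
      ((∀ y : Y, Nonempty (CohIII.fiberMod f L y ≅ Coh.structureModule (f.fiber y))) →
        PicF.IsInvertible ((Scheme.Modules.pushforward f).obj L) ∧
          IsIso ((Scheme.Modules.pullbackPushforwardAdjunction f).counit.app L)) := by
  have hbij := fun y => bijective_algebraMap_of_finrank_one f y (h0 y)
  refine ⟨⟨fun ⟨M, hM, ⟨φ⟩⟩ y => ?_, fun htriv => ?_⟩, fun htriv => main_push f hbij L hL htriv⟩
  · obtain ⟨ψ⟩ := fibre_trivial_of_pullback f M hM y
    exact ⟨(Scheme.Modules.pullback (f.fiberι y)).mapIso φ.symm ≪≫ ψ⟩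
  · obtain ⟨hM, hiso⟩ := main_push f hbij L hL htriv
    haveI := hiso
    exact ⟨_, hM, ⟨asIso ((Scheme.Modules.pullbackPushforwardAdjunction f).counit.app L)⟩⟩

/-- **S14419**: geometrically connected and geometrically reduced fibres -/
theorem main14419 [GeometricallyConnected f] [GeometricallyReduced f]
    (L : X.Modules) (hL : PicF.IsInvertible L)
    (htriv : ∀ y : Y, Nonempty ((Scheme.Modules.pullback (f.fiberι y)).obj L ≅
      Coh.structureModule (f.fiber y))) :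
    PicF.IsInvertible ((Scheme.Modules.pushforward f).obj L) ∧
      IsIso ((Scheme.Modules.pullbackPushforwardAdjunction f).counit.app L) := by
  refine main_push f (fun y => ?_) L hL htriv
  haveI : IsProper (f.fiberToSpecResidueField y) :=
    MorphismProperty.pullback_snd (P := @IsProper) f (Y.fromSpecResidueField y) inferInstance
  haveI : GeometricallyReduced (f.fiberToSpecResidueField y) :=
    inferInstanceAs (GeometricallyReduced (pullback.snd f (Y.fromSpecResidueField y)))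
  haveI : GeometricallyConnected (f.fiberToSpecResidueField y) :=
    inferInstanceAs (GeometricallyConnected (pullback.snd f (Y.fromSpecResidueField y)))
  have h := Groth.Agent.Lib.H0ConstH4.toGlobal_bijective (Y.residueField y)
    (X := f.fiber y) (f.fiberToSpecResidueField y)
  exact h

end Main

end Seesaw9
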