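import Mathlib
import Groth.Prelude
import Groth.Agent.Lib.HypEll3_helper9
import Groth.Agent.Lib.ProjUP1_helper5
import Groth.Agent.Lib.Seesaw2_helper9
import Groth.Agent.Lib.CurveG12b_helper9
import Groth.Agent.Lib.CurveDeg1_helper9
import Groth.Agent.Lib.Tens16_helper8

/-!
# Hyperelliptic involutions: the pulled back coordinates span the sections of the `g¹₂` (helper9)
APPEND-ONLY once landed.  Towards S18892, S18893.
-/

set_option autoImplicit false
set_option linter.style.haveILetI false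
universe u
open CategoryTheory CategoryTheory.Limits AlgebraicGeometry Opposite TopologicalSpace

namespace HypInv

open QcqsLoc QCohExtn GenLocH8 TensH8 FLFH8 Groth.Agent.ProjUPU

section Gen

variable {X : Scheme.{u}}

/-- if a multiple of a section is a generator then so is the section -/
theorem isGen_of_isGen_smul {L : X.Modules} {W : X.Opens} {e : Γ(L, W)} (c : Γ(X, W))
    (h : IsGen L W (c • e)) : IsGen L W e := by
  intro O hO
  obtain ⟨h1, h2⟩ := h O hO
  rw [rF_smul] at h1 h2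
  refine ⟨fun l => ?_, fun c' hc' => ?_⟩
  · obtain ⟨c', hc'⟩ := h1 l
    exact ⟨c' * rX hO c, by rw [hc', mul_smul]⟩
  · apply h2
    rw [smul_comm, hc', smul_zero]

/-- solving a linear relation over a field acting through a ring map -/
theorem eq_smul_of_relation {k R M : Type*} [Field k] [CommRing R] [AddCommGroup M] [Module R M]
    (φ : k →+* R) {a b : k} (ha : a ≠ 0) {x y : M} (hc : φ a • x + φ b • y = 0) :
    x = φ (-(a⁻¹ * b)) • y := by
  have h1 : φ a • x = -(φ b • y) := eq_neg_of_add_eq_zero_left hc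
  calc x = φ (a⁻¹ * a) • x := by rw [inv_mul_cancel₀ ha, map_one, one_smul]
    _ = φ a⁻¹ • (φ a • x) := by rw [map_mul, mul_smul]
    _ = φ a⁻¹ • (-(φ b • y)) := by rw [h1]
    _ = φ (-(a⁻¹ * b)) • y := by rw [map_neg, map_mul, neg_smul, mul_smul, smul_neg]

end Gen

section Cover

variable {k : Type u} [Field k] {X : Scheme.{u}} (h : X ⟶ CohB1.ProjSpace 1 k)

/-- the pulled back coordinates -/
noncomputable def tsec (i : Fin 2) :
    Γ((Scheme.Modules.pullback h).obj (Twist.twistProjSpace 1 k 1), ⊤) :=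
  ProjUP.pullSec h (Twist.twistProjSpace 1 k 1) (ProjUP.coord 1 k i)

/-- if one pulled back coordinate is a multiple of the other, the latter generates -/
theorem isGen_tsec_of_eq_smul (i j : Fin 2) (hij : i ≠ j) (c : Γ(X, ⊤))
    (hc : tsec h j = c • tsec h i) :
    IsGen ((Scheme.Modules.pullback h).obj (Twist.twistProjSpace 1 k 1)) ⊤ (tsec h i) := by
  let 𝒮 := CohB1.polyGrading 1 k
  have hg : ∀ i : Fin 2, (MvPolynomial.X i : MvPolynomial (Fin 2) k) ∈ 𝒮 1 :=
    fun i => MvPolynomial.isHomogeneous_X k i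
  have hcovI : ∀ y : Proj 𝒮, ∃ i, y ∈ Proj.basicOpen 𝒮 (MvPolynomial.X i) :=
    Groth.Agent.ProjTw.cover_of_adjoin 𝒮 (MvPolynomial.X : Fin 2 → MvPolynomial (Fin 2) k)
      (fun _ => 1) (fun _ => one_pos) hg MvPolynomial.adjoin_range_X
  have hcov : ∀ y : Proj 𝒮, ∃ f ∈ 𝒮 1, y ∈ Proj.basicOpen 𝒮 f := fun y => by
    obtain ⟨i, hi⟩ := hcovI y
    exact ⟨_, hg i, hi⟩
  apply isGen_of_cover
  intro x _
  obtain ⟨l, hl⟩ := hcovI (h x)
  have hgen := isGen_psec 𝒮 h hcov (hg l)
    (le_rfl : h ⁻¹ᵁ Proj.basicOpen 𝒮 (MvPolynomial.X l) ≤ _)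
  refine ⟨h ⁻¹ᵁ Proj.basicOpen 𝒮 (MvPolynomial.X l), le_top, hl, ?_⟩
  have hl2 : l = i ∨ l = j := by omega
  rcases hl2 with rfl | rfl
  · exact hgen
  · have hgen' : IsGen ((Scheme.Modules.pullback h).obj (Twist.twistProjSpace 1 k 1))
        (h ⁻¹ᵁ Proj.basicOpen 𝒮 (MvPolynomial.X l))
        (rX (le_top : h ⁻¹ᵁ Proj.basicOpen 𝒮 (MvPolynomial.X l) ≤ ⊤) c •
          rF ((Scheme.Modules.pullback h).obj (Twist.twistProjSpace 1 k 1))
            (le_top : h ⁻¹ᵁ Proj.basicOpen 𝒮 (MvPolynomial.X l) ≤ ⊤) (tsec h i)) := by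
      rw [← rF_smul, ← hc]
      exact hgen
    exact isGen_of_isGen_smul _ hgen'

end Cover

section Curve

variable (k : Type u) [Field k] (X : Scheme.{u}) [X.Over (Spec (CommRingCat.of k))]
  [IsProper (X ↘ Spec (CommRingCat.of k))] [IsIntegral X]
  (h : X ⟶ CohB1.ProjSpace 1 k)
  (hh : h ≫ CohB1.ProjSpace.toSpec 1 k = X ↘ Spec (CommRingCat.of k)) [IsFinite h] [Flat h]
  (hrk : ∀ y : ↥(CohB1.ProjSpace 1 k), Scheme.Hom.finrank h y = 2)

include hh hrk in
/-- a pulled back coordinate does not generate the `g¹₂` -/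
theorem not_isGen_tsec (i : Fin 2) :
    ¬ IsGen ((Scheme.Modules.pullback h).obj (Twist.twistProjSpace 1 k 1)) ⊤ (tsec h i) := by
  intro hg
  obtain ⟨e⟩ := Seesaw9.iso_of_isGen_top _ _ hg
  have h1 := CurveTens.deg_of_iso k X e 1
  rw [CurveDeg.deg_structureModule, (HypEll.g12_of_cover k X h hh hrk).2.1] at h1
  norm_num at h1

include hh hrk in
/-- the pulled back coordinates are linearly independent -/
theorem linIndep_tsec :
    LinSer.LinIndep k X ((Scheme.Modules.pullback h).obj (Twist.twistProjSpace 1 k 1))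
      (tsec h) := by
  intro c hc
  rw [Fin.sum_univ_two] at hc
  by_contra hne
  have h01 : c 0 ≠ 0 ∨ c 1 ≠ 0 := by
    by_contra hcon
    push Not at hcon
    apply hne
    funext i
    fin_cases i
    · exact hcon.1
    · exact hcon.2
  rcases h01 with h0 | h1
  · have e1 := eq_smul_of_relation (M := Γ((Scheme.Modules.pullback h).obj
      (Twist.twistProjSpace 1 k 1), ⊤)) (R := Γ(X, ⊤))
      (Coh.toGlobal (X ↘ Spec (CommRingCat.of k))) h0 hc
    exact not_isGen_tsec k X h hh hrk 1 (isGen_tsec_of_eq_smul h 1 0 (by decide) _ e1)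
  · rw [add_comm] at hc
    have e1 := eq_smul_of_relation (M := Γ((Scheme.Modules.pullback h).obj
      (Twist.twistProjSpace 1 k 1), ⊤)) (R := Γ(X, ⊤))
      (Coh.toGlobal (X ↘ Spec (CommRingCat.of k))) h1 hc
    exact not_isGen_tsec k X h hh hrk 0 (isGen_tsec_of_eq_smul h 0 1 (by decide) _ e1)

include hh hrk in
/-- **the pulled back coordinates span the sections of the `g¹₂`** -/
theorem exists_eq_sum_tsec [IsAlgClosed k] (hdim : topologicalKrullDim X = 1)
    (hg : 2 ≤ Curv2.genus k X)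
    (s : Γ((Scheme.Modules.pullback h).obj (Twist.twistProjSpace 1 k 1), ⊤)) :
    ∃ c : Fin 2 → k, s = ∑ i, (show Γ(X, ⊤) from
      Coh.toGlobal (X ↘ Spec (CommRingCat.of k)) (c i)) • tsec h i := by
  haveI : IsLocallyNoetherian X :=
    LocallyOfFiniteType.isLocallyNoetherian (X ↘ Spec (CommRingCat.of k))
  obtain ⟨hinv, hdeg, h2⟩ := HypEll.g12_of_cover k X h hh hrk
  have hu := CurveG12.linearIndependent_secHom k X (tsec h) (linIndep_tsec k X h hh hrk)
  have hLc := ProperFinH9.isCoh_of_isInvertible hinv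
  haveI := ProperFinH9.finite_HH_of_proper k X _ hLc 0
  haveI : Module.Finite k (Coh.structureModule X ⟶ ((Scheme.Modules.pullback h).obj (Twist.twistProjSpace 1 k 1))) :=
    Module.Finite.equiv (CurveIdeal.thetaEquiv k _).symm
  have hfin : Module.finrank k (Coh.structureModule X ⟶ ((Scheme.Modules.pullback h).obj (Twist.twistProjSpace 1 k 1))) = 2 := by
    rw [(CurveIdeal.thetaEquiv k ((Scheme.Modules.pullback h).obj (Twist.twistProjSpace 1 k 1))).finrank_eq]
    have h3 := HypEll.finrank_HH0_tensorPow_eq k X hdim hinv hdeg h2 1 (by omega)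
    have h4 := CurveAmple.finrank_HH_of_iso k X (Groth.Agent.CMMul.unitorL ((Scheme.Modules.pullback h).obj (Twist.twistProjSpace 1 k 1))) 0
    have h5 : CohB1.tensorPow ((Scheme.Modules.pullback h).obj (Twist.twistProjSpace 1 k 1)) 1 = CohB1.tensorMod (Coh.structureModule X) ((Scheme.Modules.pullback h).obj (Twist.twistProjSpace 1 k 1)) := rfl
    rw [h5] at h3
    omega
  have hspan : Submodule.span k (Set.range fun i => SerreFT.secHom ((Scheme.Modules.pullback h).obj (Twist.twistProjSpace 1 k 1)) (tsec h i)) = ⊤ :=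
    hu.span_eq_top_of_card_eq_finrank' (by rw [hfin]; rfl)
  have hmem : SerreFT.secHom ((Scheme.Modules.pullback h).obj (Twist.twistProjSpace 1 k 1)) s ∈
      Submodule.span k (Set.range fun i => SerreFT.secHom ((Scheme.Modules.pullback h).obj (Twist.twistProjSpace 1 k 1)) (tsec h i)) := by
    rw [hspan]
    trivial
  obtain ⟨c, hc⟩ := (Submodule.mem_span_range_iff_exists_fun k).mp hmem
  refine ⟨c, ?_⟩
  have h1 := congrArg (CurveG12.evOne X ((Scheme.Modules.pullback h).obj (Twist.twistProjSpace 1 k 1))) hc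
  rw [map_sum, CurveG12.evOne_secHom] at h1
  rw [← h1]
  refine Finset.sum_congr rfl fun j _ => ?_
  rw [CurveG12.evOne_smul k, CurveG12.evOne_secHom]

end Curve

end HypInv
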