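import Mathlib
import Groth.Prelude
import Groth.Agent.Lib.HypInv1_helper9
import Groth.Agent.Lib.HypInv2_helper9
import Groth.Agent.Lib.LimHomGlue_helper2
import Groth.Agent.S3573

/-!
# Hyperelliptic involutions: uniqueness and centrality (helper9)
APPEND-ONLY once landed.  Statements of S18892, S18893.
-/

set_option autoImplicit false
set_option linter.style.haveILetI false
universe u
open CategoryTheory CategoryTheory.Limits AlgebraicGeometry Opposite TopologicalSpace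

namespace HypInv

open QcqsLoc QCohExtn GenLocH8 TensH8 FLFH8 Groth.Agent.Lib.LimMod

section PullSec

variable {X Y Z : Scheme.{u}}

/-- naturality of the pulled back section -/
theorem map_pullSec (f : X ⟶ Y) {M N : Y.Modules} (φ : M ⟶ N) (s : Γ(M, ⊤)) :
    ((Scheme.Modules.pullback f).map φ).app ⊤ (ProjUP.pullSec f M s) =
      ProjUP.pullSec f N (φ.app ⊤ s) := by
  have h1 := (Scheme.Modules.pullbackPushforwardAdjunction f).unit.naturality φ
  have h2 := congrArg (fun ψ => (Scheme.Modules.Hom.app ψ ⊤) s) h1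
  exact h2.symm

theorem pullbackComp_hom_pullSec (a : X ⟶ Y) (b : Y ⟶ Z) (F : Z.Modules) (p : Γ(F, ⊤)) :
    ((Scheme.Modules.pullbackComp a b).hom.app F).app ⊤
      (ProjUP.pullSec a ((Scheme.Modules.pullback b).obj F) (ProjUP.pullSec b F p)) =
      ProjUP.pullSec (a ≫ b) F p :=
  pullbackComp_unit a b F ⊤ p

theorem pullbackComp_inv_pullSec (a : X ⟶ Y) (b : Y ⟶ Z) (F : Z.Modules) (p : Γ(F, ⊤)) :
    ((Scheme.Modules.pullbackComp a b).inv.app F).app ⊤ (ProjUP.pullSec (a ≫ b) F p) =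
      ProjUP.pullSec a ((Scheme.Modules.pullback b).obj F) (ProjUP.pullSec b F p) := by
  rw [← pullbackComp_hom_pullSec]
  have h3 : (Scheme.Modules.pullbackComp a b).hom.app F ≫
      (Scheme.Modules.pullbackComp a b).inv.app F = 𝟙 _ := Iso.hom_inv_id_app _ _
  exact congrArg (fun ψ => (Scheme.Modules.Hom.app ψ ⊤)
    (ProjUP.pullSec a ((Scheme.Modules.pullback b).obj F) (ProjUP.pullSec b F p))) h3

theorem pullbackCongr_hom_pullSec {f g : X ⟶ Y} (e : f = g) (F : Y.Modules) (p : Γ(F, ⊤)) :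
    ((Scheme.Modules.pullbackCongr e).hom.app F).app ⊤ (ProjUP.pullSec f F p) =
      ProjUP.pullSec g F p := by
  subst e
  have h1 : (Scheme.Modules.pullbackCongr (rfl : f = f)).hom.app F = 𝟙 _ := by
    simp [Scheme.Modules.pullbackCongr]
  rw [h1]
  rfl

theorem pullSec_smul (f : X ⟶ Y) (M : Y.Modules) (r : Γ(Y, ⊤)) (s : Γ(M, ⊤)) :
    ProjUP.pullSec f M (r • s) = (show Γ(X, ⊤) from f.appTop r) • ProjUP.pullSec f M s :=
  OmegaSh.pullSect_smul f M ⊤ r s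

theorem pullSec_add (f : X ⟶ Y) (M : Y.Modules) (s t : Γ(M, ⊤)) :
    ProjUP.pullSec f M (s + t) = ProjUP.pullSec f M s + ProjUP.pullSec f M t :=
  map_add _ _ _

theorem appTop_toGlobal {A : Type u} [CommRing A] (τ : X ⟶ Y)
    (p : Y ⟶ Spec (CommRingCat.of A)) (a : A) :
    τ.appTop (Coh.toGlobal p a) = Coh.toGlobal (τ ≫ p) a := by
  unfold Coh.toGlobal
  rw [Scheme.Hom.comp_appTop]
  rfl

end PullSec

section LemmaA

variable (k : Type u) [Field k] {X : Scheme.{u}} [X.Over (Spec (CommRingCat.of k))]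
  (h₁ h₂ : X ⟶ CohB1.ProjSpace 1 k)

/-- **a morphism preserving one `g¹₂`-cover preserves every cover with isomorphic `g¹₂`**, provided
the pulled back coordinates span the sections -/
theorem comp_eq_of_iso (hh₁ : h₁ ≫ CohB1.ProjSpace.toSpec 1 k = X ↘ Spec (CommRingCat.of k))
    (hh₂ : h₂ ≫ CohB1.ProjSpace.toSpec 1 k = X ↘ Spec (CommRingCat.of k))
    (τ : X ⟶ X) (hτ : τ ≫ h₂ = h₂)
    (e : (Scheme.Modules.pullback h₁).obj (Twist.twistProjSpace 1 k 1) ≅ (Scheme.Modules.pullback h₂).obj (Twist.twistProjSpace 1 k 1))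
    (hspan : ∀ s : Γ((Scheme.Modules.pullback h₂).obj (Twist.twistProjSpace 1 k 1), ⊤),
      ∃ c : Fin 2 → k, s = ∑ i, (show Γ(X, ⊤) from
        Coh.toGlobal (X ↘ Spec (CommRingCat.of k)) (c i)) • tsec h₂ i) :
    τ ≫ h₁ = h₁ := by
  have hτp : τ ≫ (X ↘ Spec (CommRingCat.of k)) = X ↘ Spec (CommRingCat.of k) := by
    rw [← hh₂, ← Category.assoc, hτ]
  -- the action of `τ` on the sections of the second `g¹₂`
  let c₂ : (Scheme.Modules.pullback τ).obj ((Scheme.Modules.pullback h₂).obj (Twist.twistProjSpace 1 k 1)) ⟶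
      (Scheme.Modules.pullback h₂).obj (Twist.twistProjSpace 1 k 1) :=
    (Scheme.Modules.pullbackComp τ h₂).hom.app (Twist.twistProjSpace 1 k 1) ≫ (Scheme.Modules.pullbackCongr hτ).hom.app (Twist.twistProjSpace 1 k 1)
  have T1 : ∀ i, c₂.app ⊤ (ProjUP.pullSec τ _ (tsec h₂ i)) = tsec h₂ i := by
    intro i
    show ((Scheme.Modules.pullbackCongr hτ).hom.app (Twist.twistProjSpace 1 k 1)).app ⊤
      (((Scheme.Modules.pullbackComp τ h₂).hom.app (Twist.twistProjSpace 1 k 1)).app ⊤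
        (ProjUP.pullSec τ _ (ProjUP.pullSec h₂ (Twist.twistProjSpace 1 k 1) (ProjUP.coord 1 k i)))) = _
    rw [pullbackComp_hom_pullSec, pullbackCongr_hom_pullSec]
    rfl
  have hsm : ∀ (a : k) (s : Γ((Scheme.Modules.pullback h₂).obj (Twist.twistProjSpace 1 k 1), ⊤)),
      c₂.app ⊤ (ProjUP.pullSec τ _ ((show Γ(X, ⊤) from
        Coh.toGlobal (X ↘ Spec (CommRingCat.of k)) a) • s)) =
      (show Γ(X, ⊤) from Coh.toGlobal (X ↘ Spec (CommRingCat.of k)) a) •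
        c₂.app ⊤ (ProjUP.pullSec τ _ s) := by
    intro a s
    rw [pullSec_smul]
    have h1 : (show Γ(X, ⊤) from τ.appTop (show Γ(X, ⊤) from
        Coh.toGlobal (X ↘ Spec (CommRingCat.of k)) a)) =
        (show Γ(X, ⊤) from Coh.toGlobal (X ↘ Spec (CommRingCat.of k)) a) := by
      have := appTop_toGlobal τ (X ↘ Spec (CommRingCat.of k)) a
      rw [hτp] at this
      exact this
    rw [h1]
    exact Scheme.Modules.Hom.app_smul c₂ _ _
  have T2 : ∀ s : Γ((Scheme.Modules.pullback h₂).obj (Twist.twistProjSpace 1 k 1), ⊤),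
      c₂.app ⊤ (ProjUP.pullSec τ _ s) = s := by
    intro s
    obtain ⟨c, rfl⟩ := hspan s
    rw [Fin.sum_univ_two, pullSec_add, map_add, hsm, hsm, T1, T1]
  -- the comparison isomorphism
  let Θ : (Scheme.Modules.pullback (τ ≫ h₁)).obj (Twist.twistProjSpace 1 k 1) ≅ (Scheme.Modules.pullback h₁).obj (Twist.twistProjSpace 1 k 1) :=
    ((Scheme.Modules.pullbackComp τ h₁).app (Twist.twistProjSpace 1 k 1)).symm ≪≫ (Scheme.Modules.pullback τ).mapIso e ≪≫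
      ((Scheme.Modules.pullbackComp τ h₂).app (Twist.twistProjSpace 1 k 1) ≪≫ (Scheme.Modules.pullbackCongr hτ).app (Twist.twistProjSpace 1 k 1)) ≪≫
      e.symm
  refine Groth.Agent.S3573.result 1 (τ ≫ h₁) h₁ ?_ Θ ?_
  · rw [Category.assoc, hh₁, hτp]
  · intro i
    show e.inv.app ⊤ (c₂.app ⊤ (((Scheme.Modules.pullback τ).map e.hom).app ⊤
      (((Scheme.Modules.pullbackComp τ h₁).inv.app (Twist.twistProjSpace 1 k 1)).app ⊤
        (ProjUP.pullSec (τ ≫ h₁) (Twist.twistProjSpace 1 k 1) (ProjUP.coord 1 k i))))) = _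
    rw [pullbackComp_inv_pullSec, map_pullSec, T2]
    have h3 : e.hom ≫ e.inv = 𝟙 _ := e.hom_inv_id
    exact congrArg (fun ψ => (Scheme.Modules.Hom.app ψ ⊤)
      (ProjUP.pullSec h₁ (Twist.twistProjSpace 1 k 1) (ProjUP.coord 1 k i))) h3

end LemmaA

section G12

variable (k : Type u) [Field k] [IsAlgClosed k] (X : Scheme.{u})
  [X.Over (Spec (CommRingCat.of k))] [IsIntegral X] [IsProper (X ↘ Spec (CommRingCat.of k))]

/-- uniqueness of the `g¹₂`, in terms of `h⁰` -/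
theorem g12_iso (hdim : topologicalKrullDim X = 1)
    (hreg : ∀ x : X, IsRegularLocalRing (X.presheaf.stalk x)) (hg : 2 ≤ Curv2.genus k X)
    {M M' : X.Modules} (hM : PicF.IsInvertible M) (hdM : Curv2.deg k X M 1 = 2)
    (h2M : 2 ≤ Module.finrank k (Coh.HH X M 0))
    (hM' : PicF.IsInvertible M') (hdM' : Curv2.deg k X M' 1 = 2)
    (h2M' : 2 ≤ Module.finrank k (Coh.HH X M' 0)) : Nonempty (M ≅ M') := by
  haveI : IsLocallyNoetherian X :=
    LocallyOfFiniteType.isLocallyNoetherian (X ↘ Spec (CommRingCat.of k))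
  have hLc := ProperFinH9.isCoh_of_isInvertible hM
  haveI := ProperFinH9.finite_HH_of_proper k X _ hLc 0
  haveI : Module.Finite k (Coh.structureModule X ⟶ M) :=
    Module.Finite.equiv (CurveIdeal.thetaEquiv k _).symm
  have hfr : 2 ≤ Module.finrank k (Coh.structureModule X ⟶ M) := by
    rw [(CurveIdeal.thetaEquiv k M).finrank_eq]
    exact h2M
  obtain ⟨u, hu⟩ := exists_linearIndependent_of_le_finrank hfr
  obtain ⟨K, hK, key⟩ := CurveG12.exists_kernel k X hdim hreg hg hM hdM u hu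
  obtain ⟨e₁⟩ := key M hM hdM h2M
  obtain ⟨e₂⟩ := key M' hM' hdM' h2M'
  exact ⟨(Groth.Agent.TensInv.rightUnit M).symm ≪≫ Groth.Agent.TensInv.mapL M e₂.symm ≪≫
    (Groth.Agent.TensInv.assoc M K M').symm ≪≫
    Groth.Agent.TensInv.mapR (Groth.Agent.TensInv.comm M K ≪≫ e₁) M' ≪≫
    Groth.Agent.CMMul.unitorL M'⟩

end G12

section Main

/-- **statement of S18892** -/
theorem main18892 (k : Type u) [Field k] [IsAlgClosed k]
    {X : Scheme.{u}} (p : X ⟶ Spec (CommRingCat.of k)) [IsProper p] [Smooth p] [ConnectedSpace ↥X]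
    (hX : topologicalKrullDim ↥X = 1) (hg : 2 ≤ @Curv2.genus k _ X ⟨p⟩)
    (h₁ h₂ : X ⟶ CohB1.ProjSpace 1 k) (hh₁ : h₁ ≫ CohB1.ProjSpace.toSpec 1 k = p)
    (hh₂ : h₂ ≫ CohB1.ProjSpace.toSpec 1 k = p)
    [IsFinite h₁] [Flat h₁] (hr₁ : ∀ y : ↥(CohB1.ProjSpace 1 k), h₁.finrank y = 2)
    [IsFinite h₂] [Flat h₂] (hr₂ : ∀ y : ↥(CohB1.ProjSpace 1 k), h₂.finrank y = 2)
    (σ τ : X ⟶ X) (hσ : σ ≫ h₁ = h₁) (hσ₁ : σ ≠ 𝟙 X) (hτ : τ ≫ h₂ = h₂) (hτ₁ : τ ≠ 𝟙 X) :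
    σ = τ := by
  letI : X.Over (Spec (CommRingCat.of k)) := ⟨p⟩
  haveI : IsProper (X ↘ Spec (CommRingCat.of k)) := ‹IsProper p›
  haveI : Smooth (X ↘ Spec (CommRingCat.of k)) := ‹Smooth p›
  haveI : IsLocallyNoetherian X :=
    LocallyOfFiniteType.isLocallyNoetherian (X ↘ Spec (CommRingCat.of k))
  haveI : IsIntegral X := ConnIrrH8.isIntegral_of_connected X
    (fun x => FEtEuler9.isDomain_stalk_of_smooth k X p x)
  have hreg := fun x => VBCurve.hreg_of_smooth k X x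
  obtain ⟨i1, d1, s1⟩ := HypEll.g12_of_cover k X h₁ hh₁ hr₁
  obtain ⟨i2, d2, s2⟩ := HypEll.g12_of_cover k X h₂ hh₂ hr₂
  obtain ⟨e⟩ := g12_iso k X hX hreg hg i1 d1 s1 i2 d2 s2
  have hτ' : τ ≫ h₁ = h₁ := comp_eq_of_iso k h₁ h₂ hh₁ hh₂ τ hτ e
    (exists_eq_sum_tsec k X h₂ hh₂ hr₂ hX hg)
  exact eq_of_comp_eq k hX h₁ hh₁ hr₁ σ τ hσ hτ' hσ₁ hτ₁

/-- **statement of S18893** -/
theorem main18893 (k : Type u) [Field k] [IsAlgClosed k]
    {X : Scheme.{u}} (p : X ⟶ Spec (CommRingCat.of k)) [IsProper p] [Smooth p] [ConnectedSpace ↥X]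
    (hX : topologicalKrullDim ↥X = 1) (hg : 2 ≤ @Curv2.genus k _ X ⟨p⟩)
    (h : X ⟶ CohB1.ProjSpace 1 k) (hh : h ≫ CohB1.ProjSpace.toSpec 1 k = p)
    [IsFinite h] [Flat h] (hr : ∀ y : ↥(CohB1.ProjSpace 1 k), h.finrank y = 2)
    (σ : X ⟶ X) (hσ : σ ≫ h = h) (hσ₁ : σ ≠ 𝟙 X)
    (τ : X ≅ X) (hτ : τ.hom ≫ p = p) :
    τ.hom ≫ σ = σ ≫ τ.hom := by
  have hr' : ∀ y : ↥(CohB1.ProjSpace 1 k), (τ.hom ≫ h).finrank y = 2 := by
    intro y
    rw [Scheme.Hom.finrank_comp_left_of_isIso]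
    exact hr y
  have hσ' : (τ.hom ≫ σ ≫ τ.inv) ≫ (τ.hom ≫ h) = τ.hom ≫ h := by
    simp only [Category.assoc, Iso.inv_hom_id_assoc, hσ]
  have hσ'1 : τ.hom ≫ σ ≫ τ.inv ≠ 𝟙 X := by
    intro hid
    apply hσ₁
    have h1 : σ = τ.inv ≫ (τ.hom ≫ σ ≫ τ.inv) ≫ τ.hom := by
      simp only [Category.assoc, Iso.inv_hom_id, Category.comp_id, Iso.inv_hom_id_assoc]
    rw [h1, hid, Category.id_comp, Iso.inv_hom_id]
  have key := main18892 k p hX hg (τ.hom ≫ h) h (by rw [Category.assoc, hh, hτ]) hh hr' hr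
    (τ.hom ≫ σ ≫ τ.inv) σ hσ' hσ'1 hσ hσ₁
  have h2 : τ.hom ≫ σ = (τ.hom ≫ σ ≫ τ.inv) ≫ τ.hom := by
    simp only [Category.assoc, Iso.inv_hom_id, Category.comp_id]
  rw [h2, key]

end Main

end HypInv
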