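import Mathlib
import Groth.Prelude
import Groth.Agent.Lib.CIsec7_helper9
import Groth.Agent.Lib.EulerBC2_helper9
import Groth.Agent.Lib.HypConn_helper9
import Groth.Agent.Lib.H0Const_helper4
import Groth.Agent.Lib.Horrocks1_helper9
import Groth.Agent.Lib.RegGG_helper9
import Groth.Agent.Lib.HypInv3_helper9

/-!
# Complete intersections in projective space: geometric connectedness (helper9)
APPEND-ONLY once landed.  Towards S14334.
-/

set_option autoImplicit false
set_option linter.style.haveILetI false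
universe u
open CategoryTheory CategoryTheory.Limits AlgebraicGeometry TopologicalSpace Opposite MvPolynomial

namespace Groth.Agent.CIsec

open QCohExtn QcqsLoc SerreCrit Groth.Agent.Lib.LimMod

section GeomConn

/-- a qcqs scheme over a field with one-dimensional `H^0(O)` is geometrically connected -/
theorem geometricallyConnected_of_finrank_h0 (k : Type u) [Field k] (X : Scheme.{u})
    [X.Over (Spec (CommRingCat.of k))] [CompactSpace X] [QuasiSeparatedSpace X]
    (h : Module.finrank k (Coh.HH X (Coh.structureModule X) 0) = 1) :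
    GeometricallyConnected (X ↘ Spec (CommRingCat.of k)) := by
  constructor
  intro K _ y Z fst snd hpb
  obtain ⟨φ, rfl⟩ : ∃ φ : CommRingCat.of k ⟶ CommRingCat.of K, Spec.map φ = y :=
    ⟨Spec.preimage y, Spec.map_preimage y⟩
  letI : Algebra k K := φ.hom.toAlgebra
  letI : Z.Over (Spec (CommRingCat.of K)) := ⟨snd⟩
  have hpb' : IsPullback fst (Z ↘ Spec (CommRingCat.of K)) (X ↘ Spec (CommRingCat.of k))
      (Spec.map (CommRingCat.ofHom (algebraMap k K))) := hpb
  have h2 := Groth.Agent.EulerBC.finrank_HH_structure_pullback fst hpb' 0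
  rw [h] at h2
  exact Groth.Agent.HypConn.connectedSpace_of_finrank_h0 (k := K) h2

end GeomConn

section H0

variable (k : Type u) [Field k] (n : ℕ)

theorem pullSect_nat {X Y : Scheme.{u}} (h : Y ⟶ X) {M M' : X.Modules} (θ : M ⟶ M')
    (U : X.Opens) (m : Γ(M, U)) :
    ((Scheme.Modules.pullback h).map θ).app (h ⁻¹ᵁ U) (OmegaSh.pullSect h M U m) =
      OmegaSh.pullSect h M' U (θ.app U m) := by
  have h1 := (Scheme.Modules.pullbackPushforwardAdjunction h).unit.naturality θ
  have h2 := congrArg (fun ψ => (Scheme.Modules.Hom.app ψ U) m) h1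
  exact h2.symm

theorem pullbackUnitIso_pullSect' {X' X : Scheme.{u}} (h : X' ⟶ X) (U : X.Opens) (b : Γ(X, U)) :
    (PBH8.pullbackUnitIso h).hom.app (h ⁻¹ᵁ U)
      (OmegaSh.pullSect h (Coh.structureModule X) U (OmegaSh.strSect X U b)) =
    OmegaSh.strSect X' (h ⁻¹ᵁ U) (h.app U b) := by
  have key := SheafOfModules.pullbackPushforwardAdjunction_homEquiv_pullbackObjUnitToUnit.{u}
    h.toRingCatSheafHom
  rw [Adjunction.homEquiv_unit] at key
  exact congrArg (fun (φ : Coh.structureModule X ⟶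
    (Scheme.Modules.pushforward h).obj (Coh.structureModule X')) =>
      (Scheme.Modules.Hom.app φ U) b) key

/-- if global sections of `O(0)` surject onto those of `ι^* O(0)`, every global function on the
source is constant -/
theorem surjective_toGlobal {X : Scheme.{u}} (ι : X ⟶ CohB1.ProjSpace n k)
    (hsurj : Function.Surjective (unitSec ι (Twist.twistProjSpace n k 0) ⊤)) :
    Function.Surjective (Coh.toGlobal (ι ≫ CohB1.ProjSpace.toSpec n k)) := by
  obtain ⟨e0⟩ := Groth.Agent.ProjTens.twist_zero n k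
  intro a
  let E : (Scheme.Modules.pullback ι).obj (Twist.twistProjSpace n k 0) ≅ Coh.structureModule X :=
    (Scheme.Modules.pullback ι).mapIso e0 ≪≫ PBH8.pullbackUnitIso ι
  obtain ⟨s, hs⟩ := hsurj (E.inv.app ⊤ (OmegaSh.strSect X ⊤ a))
  obtain ⟨c, hc⟩ := (Groth.Agent.Horrocks.bijective_cc_projSpace n k).2
    (OmegaSh.fnSect _ ⊤ (e0.hom.app ⊤ s))
  refine ⟨c, ?_⟩
  have h1 : E.hom.app ⊤ (unitSec ι (Twist.twistProjSpace n k 0) ⊤ s) = OmegaSh.strSect X ⊤ a := by
    rw [hs]
    have h3 : E.inv ≫ E.hom = 𝟙 _ := E.inv_hom_id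
    exact congrArg (fun φ => (Scheme.Modules.Hom.app φ ⊤) (OmegaSh.strSect X ⊤ a)) h3
  have h2 : E.hom.app ⊤ (unitSec ι (Twist.twistProjSpace n k 0) ⊤ s) =
      OmegaSh.strSect X ⊤ (ι.app ⊤ (OmegaSh.fnSect _ ⊤ (e0.hom.app ⊤ s))) := by
    have h4 := pullSect_nat ι e0.hom ⊤ s
    have h5 := pullbackUnitIso_pullSect' ι ⊤ (OmegaSh.fnSect _ ⊤ (e0.hom.app ⊤ s))
    refine Eq.trans ?_ h5
    refine (congrArg (fun z => (PBH8.pullbackUnitIso ι).hom.app ⊤ z) h4)
  have h6 := h1.symm.trans h2
  have h7 : a = ι.app ⊤ (OmegaSh.fnSect _ ⊤ (e0.hom.app ⊤ s)) := h6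
  rw [h7, ← hc]
  exact (HypInv.appTop_toGlobal ι (CohB1.ProjSpace.toSpec n k) c).symm

end H0

section Main

variable {k : Type u} [Field k] {n : ℕ}

theorem main14334 (r : ℕ) (hr : r ≤ n) (a : Fin r → ℕ) (ha : ∀ j, 1 ≤ a j)
    (G : ∀ j : Fin r, LefPen.Form n k (a j))
    (hdim : topologicalKrullDim ↥(LefPen.ciIdeal G).subscheme = ((n - r : ℕ) : WithBot ℕ∞))
    (h1 : 1 ≤ n - r) :
    GeometricallyConnected ((LefPen.ciIdeal G).subschemeι ≫ CohB1.ProjSpace.toSpec n k) := by
  letI : (LefPen.ciIdeal G).subscheme.Over (Spec (CommRingCat.of k)) :=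
    ⟨(LefPen.ciIdeal G).subschemeι ≫ CohB1.ProjSpace.toSpec n k⟩
  haveI := RegGGH9.compactSpace_Pn n k
  haveI := RegGGH9.quasiSeparatedSpace_Pn n k
  haveI : CompactSpace ↥(LefPen.ciIdeal G).subscheme :=
    QuasiCompact.compactSpace_of_compactSpace (LefPen.ciIdeal G).subschemeι
  haveI : QuasiSeparatedSpace ↥(LefPen.ciIdeal G).subscheme :=
    quasiSeparatedSpace_of_quasiSeparated (LefPen.ciIdeal G).subschemeι
  have hne : Nonempty ↥(LefPen.ciIdeal G).subscheme := by
    by_contra hemp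
    rw [not_nonempty_iff] at hemp
    have h0 : topologicalKrullDim ↥(LefPen.ciIdeal G).subscheme = ⊥ := by
      unfold topologicalKrullDim
      haveI : IsEmpty (IrreducibleCloseds ↥(LefPen.ciIdeal G).subscheme) :=
        ⟨fun Z => hemp.elim Z.isIrreducible.nonempty.some⟩
      exact Order.krullDim_eq_bot
    rw [h0] at hdim
    exact WithBot.bot_ne_coe hdim
  have hsurj := surjective_toGlobal k n (LefPen.ciIdeal G).subschemeι
    ((good_ci r a ha G hr hdim).surj h1 0)
  have hbij : Function.Bijective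
      (Coh.toGlobal ((LefPen.ciIdeal G).subscheme ↘ Spec (CommRingCat.of k))) := by
    refine ⟨?_, hsurj⟩
    haveI : Nontrivial (Coh.Γtop (LefPen.ciIdeal G).subscheme) := by
      show Nontrivial Γ((LefPen.ciIdeal G).subscheme, ⊤)
      haveI : Nonempty ((⊤ : (LefPen.ciIdeal G).subscheme.Opens)) := ⟨⟨hne.some, trivial⟩⟩
      infer_instance
    exact RingHom.injective _
  have hfin := Groth.Agent.Lib.H0ConstH4.finrank_HH_zero_eq_one k _ hbij
  exact geometricallyConnected_of_finrank_h0 k (LefPen.ciIdeal G).subscheme hfin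

end Main

end Groth.Agent.CIsec
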