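import Mathlib
import Groth.Prelude
import Groth.Agent.Lib.CIsec4_helper9

/-!
# Complete intersections in projective space: equidimensionality (helper9)
APPEND-ONLY once landed.  Towards S14335.
-/

set_option autoImplicit false
set_option linter.style.haveILetI false
universe u
open CategoryTheory CategoryTheory.Limits AlgebraicGeometry TopologicalSpace Opposite MvPolynomial

namespace Groth.Agent.CIsec

open Groth.Agent.Lib.ProjDimH8

section Equidim

variable {k : Type u} [Field k] {n : ℕ}

/-- the underlying space of an intersection of hypersurfaces is its zero locus -/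
noncomputable def homeoZeroLocus {m : ℕ} {a : Fin m → ℕ} (G : ∀ j : Fin m, LefPen.Form n k (a j)) :
    ↥(LefPen.ciIdeal G).subscheme ≃ₜ
      ↥(ProjectiveSpectrum.zeroLocus (CohB1.polyGrading n k)
        (Set.range fun i : Fin m => (G i).1)) :=
  ((LefPen.ciIdeal G).subschemeι.isClosedEmbedding.isEmbedding.toHomeomorph).trans
    (Homeomorph.setCongr (by
      rw [Scheme.IdealSheafData.range_subschemeι, support_ciIdeal]))

theorem main14335 (r : ℕ) (_hr : r ≤ n) (a : Fin r → ℕ) (_ha : ∀ j, 1 ≤ a j)
    (G : ∀ j : Fin r, LefPen.Form n k (a j))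
    (hdim : topologicalKrullDim ↥(LefPen.ciIdeal G).subscheme = ((n - r : ℕ) : WithBot ℕ∞))
    (Z : Set ↥(LefPen.ciIdeal G).subscheme)
    (hZ : Z ∈ irreducibleComponents ↥(LefPen.ciIdeal G).subscheme) :
    topologicalKrullDim ↥Z = ((n - r : ℕ) : WithBot ℕ∞) := by
  apply le_antisymm
  · rw [← hdim]
    exact topologicalKrullDim_subspace_le _ Z
  · have hYc : IsClosed (ProjectiveSpectrum.zeroLocus (CohB1.polyGrading n k)
        (Set.range fun i : Fin r => (G i).1)) := ProjectiveSpectrum.isClosed_zeroLocus _ _
    have hmemY : ∀ z : ProjectiveSpectrum (CohB1.polyGrading n k),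
        z ∈ ProjectiveSpectrum.zeroLocus (CohB1.polyGrading n k)
          (Set.range fun i : Fin r => (G i).1) ↔
          ∀ i : Fin r, (G i).1 ∈ z.asHomogeneousIdeal.toIdeal := by
      intro z
      rw [ProjectiveSpectrum.mem_zeroLocus]
      constructor
      · intro h i
        exact h ⟨i, rfl⟩
      · rintro h _ ⟨i, rfl⟩
        exact h i
    have hC : (homeoZeroLocus G) '' Z ∈ irreducibleComponents
        ↥(ProjectiveSpectrum.zeroLocus (CohB1.polyGrading n k)
          (Set.range fun i : Fin r => (G i).1)) :=
      image_mem_irreducibleComponents_of_isPreirreducible_fiber (homeoZeroLocus G)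
        (homeoZeroLocus G).continuous (homeoZeroLocus G).isOpenMap
        (fun x => (Set.subsingleton_singleton.preimage
          (homeoZeroLocus G).injective).isPreirreducible) (homeoZeroLocus G).surjective hZ
    have hdimZ : topologicalKrullDim ↥Z = topologicalKrullDim ↥((homeoZeroLocus G) '' Z) :=
      ((homeoZeroLocus G).image Z).isHomeomorph.topologicalKrullDim_eq
    obtain ⟨w, hwY, hCw, hmax⟩ := exists_maximal_of_component (CohB1.polyGrading n k) _ hYc _ hC
    have h1 := coheight_le_of_maximal r (fun i : Fin r => (G i).1)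
      (fun i : Fin r => a i) (fun i => (G i).2) (genericPt k n) w
      (genericPt_le k n w) ((hmemY w).mp hwY)
      (fun c₁ _ h2 h3 => hmax c₁ ((hmemY c₁).mpr h2) h3)
    rw [coheight_genericPt] at h1
    rw [hdimZ, hCw]
    have h3 : ((n - r : ℕ) : ℕ∞) ≤ Order.coheight w := by
      by_cases htop : Order.coheight w = ⊤
      · rw [htop]
        exact le_top
      · lift Order.coheight w to ℕ using htop with b hb
        norm_cast at h1 ⊢
        omega
    exact (WithBot.coe_le_coe.mpr h3 : (((n - r : ℕ) : ℕ∞) : WithBot ℕ∞) ≤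
      ((Order.coheight w : ℕ∞) : WithBot ℕ∞))

end Equidim

end Groth.Agent.CIsec
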