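import Mathlib

/-!
# Closed points in locally Noetherian spaces (helper6)

Every point of a space covered by spectra of Noetherian rings (e.g. a locally Noetherian scheme)
specializes to a closed point.
-/

set_option autoImplicit false
universe u

namespace Groth.Agent.Lib.ClosedPt_helper6

theorem mem_minimalPrimes_of_forall_mem {C : Type*} [CommRing C] [IsDomain C] [IsNoetherianRing C]
    (g : C) (hg : g ≠ 0) (hall : ∀ Q : Ideal C, Q.IsPrime → Q ≠ ⊥ → g ∈ Q)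
    (Q : Ideal C) [hQ : Q.IsPrime] (hQ0 : Q ≠ ⊥) : Q ∈ (Ideal.span {g}).minimalPrimes := by
  by_contra hnot
  have hfin : (Ideal.span {g}).minimalPrimes.Finite :=
    Ideal.finite_minimalPrimes_of_isNoetherianRing C _
  have hgQ : g ∈ Q := hall Q hQ hQ0
  have hIQ : Ideal.span {g} ≤ Q := (Ideal.span_singleton_le_iff_mem _).2 hgQ
  obtain ⟨P0, hP0, hP0Q⟩ := Ideal.exists_minimalPrimes_le hIQ
  have hnotle : ∀ P ∈ (Ideal.span {g}).minimalPrimes, ¬ Q ≤ P := by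
    intro P hP hQP
    have hPQ : P ≤ Q := hP.2 ⟨hQ, hIQ⟩ hQP
    have : Q = P := le_antisymm hQP hPQ
    exact hnot (this ▸ hP)
  have hav : ¬ ((Q : Set C) ⊆ ⋃ P ∈ (hfin.toFinset : Set (Ideal C)), ((id P : Ideal C) : Set C)) := by
    rw [Ideal.subset_union_prime (f := id) P0 P0
      (fun i hi _ _ => ((hfin.mem_toFinset.1 hi).1.1))]
    rintro ⟨P, hP, hQP⟩
    exact hnotle P (hfin.mem_toFinset.1 hP) hQP
  obtain ⟨a, haQ, haU⟩ := Set.not_subset.1 hav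
  have haP : ∀ P ∈ (Ideal.span {g}).minimalPrimes, a ∉ P := by
    intro P hP haP
    exact haU (Set.mem_iUnion₂.2 ⟨P, Finset.mem_coe.2 (hfin.mem_toFinset.2 hP), haP⟩)
  have ha0 : a ≠ 0 := by
    rintro rfl
    exact haP P0 hP0 (zero_mem _)
  have haQ' : Ideal.span {a} ≤ Q := (Ideal.span_singleton_le_iff_mem _).2 haQ
  obtain ⟨P', hP', hP'Q⟩ := Ideal.exists_minimalPrimes_le haQ'
  haveI : P'.IsPrime := hP'.1.1
  have haP' : a ∈ P' := hP'.1.2 (Ideal.mem_span_singleton_self a)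
  have hP'0 : P' ≠ ⊥ := by
    rintro rfl
    exact ha0 ((Ideal.mem_bot).1 haP')
  have hgP' : g ∈ P' := hall P' hP'.1.1 hP'0
  obtain ⟨Pj, hPj, hPjP'⟩ :=
    Ideal.exists_minimalPrimes_le ((Ideal.span_singleton_le_iff_mem (I := P')).2 hgP')
  haveI : Pj.IsPrime := hPj.1.1
  haveI : (Ideal.span {a}).IsPrincipal := ⟨⟨a, rfl⟩⟩
  have hht : P'.height ≤ 1 := Ideal.height_le_one_of_isPrincipal_of_mem_minimalPrimes _ P' hP'
  have hPjeq : Pj = P' := by
    by_contra hne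
    have hlt : Pj < P' := lt_of_le_of_ne hPjP' hne
    have hPj0 : Pj ≠ ⊥ := by
      rintro rfl
      exact hg ((Ideal.mem_bot).1 (hPj.1.2 (Ideal.mem_span_singleton_self g)))
    have h1 : (⊥ : Ideal C) < Pj := bot_lt_iff_ne_bot.2 hPj0
    haveI : (⊥ : Ideal C).IsPrime := Ideal.isPrime_bot
    have h2 := Ideal.height_add_one_le_of_lt_of_isPrime h1
    have h3 := Ideal.height_add_one_le_of_lt_of_isPrime hlt
    have h4 : (1 : ℕ∞) + 1 ≤ 1 :=
      calc (1 : ℕ∞) + 1 ≤ ((⊥ : Ideal C).height + 1) + 1 := by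
            gcongr
            exact le_add_self
        _ ≤ Pj.height + 1 := by gcongr
        _ ≤ P'.height := h3
        _ ≤ 1 := hht
    exact lt_irrefl _ ((ENat.add_one_le_iff ENat.one_ne_top).1 h4)
  exact haP Pj hPj (hPjeq ▸ haP')

theorem prime_eq_of_forall_mem {B : Type*} [CommRing B] [IsNoetherianRing B] (p : Ideal B)
    [hp : p.IsPrime] (g : B) (hg : g ∉ p)
    (hall : ∀ Q : Ideal B, Q.IsPrime → p < Q → g ∈ Q) (Q1 Q2 : Ideal B) [h1 : Q1.IsPrime]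
    [h2 : Q2.IsPrime] (hp1 : p < Q1) (h12 : Q1 ≤ Q2) : Q1 = Q2 := by
  set π := Ideal.Quotient.mk p with hπdef
  have hπ : Function.Surjective π := Ideal.Quotient.mk_surjective
  have hker : RingHom.ker π = p := Ideal.mk_ker
  have hcm : ∀ Q : Ideal B, p ≤ Q → (Q.map π).comap π = Q := fun Q hQ => by
    rw [Ideal.comap_map_of_surjective π hπ, ← RingHom.ker_eq_comap_bot, hker, sup_eq_left.2 hQ]
  have hprime : ∀ Q : Ideal B, Q.IsPrime → p ≤ Q → (Q.map π).IsPrime := fun Q hQ hpQ =>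
    Ideal.map_isPrime_of_surjective hπ (by rw [hker]; exact hpQ)
  have hne : ∀ Q : Ideal B, p < Q → Q.map π ≠ ⊥ := by
    intro Q hQ h0
    have := hcm Q hQ.le
    rw [h0, ← RingHom.ker_eq_comap_bot, hker] at this
    exact hQ.ne this
  have hall' : ∀ Q' : Ideal (B ⧸ p), Q'.IsPrime → Q' ≠ ⊥ → π g ∈ Q' := by
    intro Q' hQ' hQ'0
    haveI := hQ'
    have hpQ : p ≤ Q'.comap π := by
      intro a ha
      rw [Ideal.mem_comap]
      have h0 : π a = 0 := Ideal.Quotient.eq_zero_iff_mem.2 ha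
      rw [h0]
      exact zero_mem _
    have hlt : p < Q'.comap π := by
      refine lt_of_le_of_ne hpQ (fun h => hQ'0 ?_)
      rw [← Ideal.map_comap_of_surjective π hπ Q', ← h]
      exact Ideal.map_quotient_self p
    exact hall (Q'.comap π) (Ideal.comap_isPrime π Q') hlt
  have hg' : π g ≠ 0 := by
    rwa [Ne, Ideal.Quotient.eq_zero_iff_mem]
  haveI := hprime Q1 h1 hp1.le
  haveI := hprime Q2 h2 (hp1.le.trans h12)
  have hm1 := mem_minimalPrimes_of_forall_mem (π g) hg' hall' (Q1.map π) (hne Q1 hp1)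
  have hm2 := mem_minimalPrimes_of_forall_mem (π g) hg' hall' (Q2.map π)
    (hne Q2 (lt_of_lt_of_le hp1 h12))
  have hle : Q1.map π ≤ Q2.map π := Ideal.map_mono h12
  have hge : Q2.map π ≤ Q1.map π := hm2.2 hm1.1 hle
  have heq : Q1.map π = Q2.map π := le_antisymm hle hge
  rw [← hcm Q1 hp1.le, ← hcm Q2 (hp1.le.trans h12), heq]

theorem exists_closed_specialization {X : Type u} [TopologicalSpace X]
    (h : ∀ x : X, ∃ (U : TopologicalSpace.Opens X) (R : Type u) (_ : CommRing R)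
      (_ : IsNoetherianRing R), x ∈ U ∧ Nonempty (U ≃ₜ PrimeSpectrum R)) (x : X) :
    ∃ z, x ⤳ z ∧ IsClosed ({z} : Set X) := by
  obtain ⟨U, R, _, _, hxU, ⟨φ⟩⟩ := h x
  obtain ⟨m, hm, hpm⟩ := Ideal.exists_le_maximal (φ ⟨x, hxU⟩).asIdeal
    (φ ⟨x, hxU⟩).isPrime.ne_top
  let ym : PrimeSpectrum R := ⟨m, hm.isPrime⟩
  let y : U := φ.symm ym
  have hxy : x ⤳ (y : X) := by
    have h1 : φ ⟨x, hxU⟩ ⤳ ym := (PrimeSpectrum.le_iff_specializes _ _).1 hpm
    have h2 := h1.map φ.symm.continuous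
    rw [φ.symm_apply_apply] at h2
    exact (subtype_specializes_iff _ _).1 h2
  have hyU : IsClosed ({y} : Set U) := by
    have hc : IsClosed ({ym} : Set (PrimeSpectrum R)) :=
      (PrimeSpectrum.isClosed_singleton_iff_isMaximal ym).2 hm
    have h3 := hc.preimage φ.continuous
    convert h3 using 1
    ext v
    simp only [Set.mem_singleton_iff, Set.mem_preimage]
    exact ⟨fun hv => by rw [hv]; exact φ.apply_symm_apply ym,
      fun hv => by
        show v = φ.symm ym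
        rw [← hv]
        exact (φ.symm_apply_apply v).symm⟩
  by_cases hyc : IsClosed ({(y : X)} : Set X)
  · exact ⟨y, hxy, hyc⟩
  have hex : ∃ z ∈ closure ({(y : X)} : Set X), z ≠ (y : X) := by
    by_contra hcon
    push_neg at hcon
    apply hyc
    have hcl : closure ({(y : X)} : Set X) = {(y : X)} :=
      Set.Subset.antisymm (fun z hz => hcon z hz) subset_closure
    rw [← hcl]
    exact isClosed_closure
  obtain ⟨z, hz, hzy⟩ := hex
  have hyz : (y : X) ⤳ z := specializes_iff_mem_closure.2 hz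
  refine ⟨z, hxy.trans hyz, ?_⟩
  rw [← closure_subset_iff_isClosed]
  intro w hw
  have hzw : z ⤳ w := specializes_iff_mem_closure.2 hw
  obtain ⟨V, B, _, _, hwV, ⟨ψ⟩⟩ := h w
  have hzV : z ∈ V := hzw.mem_open V.isOpen hwV
  have hyV : (y : X) ∈ V := hyz.mem_open V.isOpen hzV
  have hPyz : ψ ⟨y, hyV⟩ ≤ ψ ⟨z, hzV⟩ := (PrimeSpectrum.le_iff_specializes _ _).2
    (((subtype_specializes_iff (⟨y, hyV⟩ : V) ⟨z, hzV⟩).2 hyz).map ψ.continuous)
  have hPzw : ψ ⟨z, hzV⟩ ≤ ψ ⟨w, hwV⟩ := (PrimeSpectrum.le_iff_specializes _ _).2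
    (((subtype_specializes_iff (⟨z, hzV⟩ : V) ⟨w, hwV⟩).2 hzw).map ψ.continuous)
  have hPyz' : ψ ⟨y, hyV⟩ ≠ ψ ⟨z, hzV⟩ := fun hh =>
    hzy (congrArg Subtype.val (ψ.injective hh)).symm
  have hO : IsOpen (ψ '' {v : V | (v : X) ∈ U}) :=
    ψ.isOpenMap _ (U.isOpen.preimage continuous_subtype_val)
  have hPyO : ψ ⟨y, hyV⟩ ∈ ψ '' {v : V | (v : X) ∈ U} := ⟨⟨y, hyV⟩, y.2, rfl⟩
  obtain ⟨_, ⟨g, rfl⟩, hPyg, hgO⟩ :=
    PrimeSpectrum.isTopologicalBasis_basic_opens.exists_subset_of_mem_open hPyO hO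
  have hgPy : g ∉ (ψ ⟨y, hyV⟩).asIdeal := hPyg
  have hall : ∀ Q : Ideal B, Q.IsPrime → (ψ ⟨y, hyV⟩).asIdeal < Q → g ∈ Q := by
    intro Q hQ hlt
    by_contra hgQ
    have hQO : (⟨Q, hQ⟩ : PrimeSpectrum B) ∈ ψ '' {v : V | (v : X) ∈ U} := hgO hgQ
    obtain ⟨v, hvU, hvQ⟩ := hQO
    have hsp : ψ ⟨y, hyV⟩ ⤳ (⟨Q, hQ⟩ : PrimeSpectrum B) :=
      (PrimeSpectrum.le_iff_specializes _ _).1 hlt.le
    rw [← hvQ] at hsp
    have hsp2 := hsp.map ψ.symm.continuous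
    rw [ψ.symm_apply_apply, ψ.symm_apply_apply] at hsp2
    have hsp3 : (y : X) ⤳ (v : X) := (subtype_specializes_iff _ _).1 hsp2
    have hsp4 : y ⤳ (⟨v, hvU⟩ : U) := (subtype_specializes_iff y ⟨v, hvU⟩).2 hsp3
    have hmem : (⟨v, hvU⟩ : U) ∈ closure ({y} : Set U) := specializes_iff_mem_closure.1 hsp4
    rw [hyU.closure_eq, Set.mem_singleton_iff] at hmem
    have hval : (v : X) = (y : X) := congrArg (Subtype.val : U → X) hmem
    have hvy : v = ⟨y, hyV⟩ := Subtype.ext hval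
    rw [hvy] at hvQ
    have : (ψ ⟨y, hyV⟩).asIdeal = Q := congrArg PrimeSpectrum.asIdeal hvQ
    exact hlt.ne this
  have hlt1 : (ψ ⟨y, hyV⟩).asIdeal < (ψ ⟨z, hzV⟩).asIdeal :=
    lt_of_le_of_ne hPyz (fun hh => hPyz' (PrimeSpectrum.ext hh))
  have heq := prime_eq_of_forall_mem (ψ ⟨y, hyV⟩).asIdeal g hgPy hall (ψ ⟨z, hzV⟩).asIdeal
    (ψ ⟨w, hwV⟩).asIdeal hlt1 hPzw
  have hzw' : ψ ⟨z, hzV⟩ = ψ ⟨w, hwV⟩ := PrimeSpectrum.ext heq
  exact (congrArg Subtype.val (ψ.injective hzw')).symm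

end Groth.Agent.Lib.ClosedPt_helper6
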