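import Mathlib
import Groth.Prelude.Def_CAlg
import Groth.Agent.Lib.CM_helper5
import Groth.Agent.Lib.SemiSk_helper6
import Groth.Agent.Lib.DoubleLoc_helper6
import Groth.Agent.Lib.ClosedPt_helper6

/-!
# Cohen–Macaulay local rings: generization, ring isos, closed points of schemes (helper6)
-/

set_option autoImplicit false
universe u

namespace Groth.Agent.Lib.CMClosedPt_helper6

open Groth.Agent.Lib.SemiSk_helper6 AlgebraicGeometry

theorem cmLocalRing_of_ringEquiv {A B : Type u} [CommRing A] [CommRing B] (σ : A ≃+* B)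
    (h : LocCoh.IsCohenMacaulayLocalRing A) : LocCoh.IsCohenMacaulayLocalRing B := by
  haveI : IsNoetherianRing A := h.toIsNoetherian
  haveI : IsLocalRing A := h.toIsLocalRing
  haveI : IsNoetherianRing B := isNoetherianRing_of_ringEquiv A σ
  haveI : IsLocalRing B := σ.isLocalRing
  have hse : ∀ (r m : A), σ.toAddEquiv (r • m) = σ r • σ.toAddEquiv m := fun r m => by simp
  have hse' : ∀ (r m : B), σ.symm.toAddEquiv (r • m) = σ.symm r • σ.symm.toAddEquiv m :=
    fun r m => by simp
  have hd : Module.supportDim B B = Module.supportDim A A :=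
    le_antisymm (supportDim_le σ σ.toAddEquiv hse) (supportDim_le σ.symm σ.symm.toAddEquiv hse')
  have hdep : LocCoh.depth A A = LocCoh.depth B B :=
    le_antisymm (depth_le σ σ.toAddEquiv hse) (depth_le σ.symm σ.symm.toAddEquiv hse')
  exact { supportDim_eq_depth := by rw [hd, ← hdep]; exact h.supportDim_eq_depth }

noncomputable def locEquivSelf {R : Type u} [CommRing R] (q : Ideal R) [q.IsPrime] :
    LocalizedModule q.primeCompl R ≃ₗ[Localization.AtPrime q] Localization.AtPrime q :=
  (IsLocalizedModule.iso q.primeCompl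
    (Algebra.linearMap R (Localization.AtPrime q))).extendScalarsOfIsLocalization q.primeCompl
      (Localization.AtPrime q)

theorem cmRing_iff_cmModule {R : Type u} [CommRing R] [IsNoetherianRing R] (q : Ideal R)
    [q.IsPrime] :
    LocCoh.IsCohenMacaulayLocalRing (Localization.AtPrime q) ↔
      LocCoh.IsCohenMacaulayModule (Localization.AtPrime q) (LocalizedModule q.primeCompl R) := by
  haveI : IsNoetherianRing (Localization.AtPrime q) :=
    IsLocalization.isNoetherianRing q.primeCompl _ inferInstance
  have hdimQ : Module.supportDim (Localization.AtPrime q) (LocalizedModule q.primeCompl R) =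
      Module.supportDim (Localization.AtPrime q) (Localization.AtPrime q) :=
    Module.supportDim_eq_of_equiv (locEquivSelf q)
  have hdepthQ : LocCoh.depth (Localization.AtPrime q) (LocalizedModule q.primeCompl R) =
      LocCoh.depth (Localization.AtPrime q) (Localization.AtPrime q) := by
    apply le_antisymm
    · exact depth_le (RingEquiv.refl _) (locEquivSelf q).toAddEquiv
        (fun r m => (locEquivSelf q).map_smul r m)
    · exact depth_le (RingEquiv.refl _) (locEquivSelf q).symm.toAddEquiv
        (fun r m => (locEquivSelf q).symm.map_smul r m)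
  unfold LocCoh.IsCohenMacaulayModule
  rw [hdimQ, hdepthQ]
  exact ⟨fun h => h.supportDim_eq_depth, fun h => { supportDim_eq_depth := h }⟩

def CMAt (R : Type u) [CommRing R] (q : Ideal R) [q.IsPrime] : Prop :=
  LocCoh.IsCohenMacaulayModule (Localization.AtPrime q) (LocalizedModule q.primeCompl R)

lemma cmAt_congr {R : Type u} [CommRing R] {q q' : Ideal R} [q.IsPrime] [q'.IsPrime]
    (h : q = q') : CMAt R q ↔ CMAt R q' := by
  subst h
  exact Iff.rfl

/-- The CM property of local rings of a Noetherian ring is stable under generization. -/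
theorem cm_of_le {R : Type u} [CommRing R] [IsNoetherianRing R] (Q q' : Ideal R) [Q.IsPrime]
    [q'.IsPrime] (hle : q' ≤ Q)
    (hQ : LocCoh.IsCohenMacaulayLocalRing (Localization.AtPrime Q)) :
    LocCoh.IsCohenMacaulayLocalRing (Localization.AtPrime q') := by
  haveI : IsNoetherianRing (Localization.AtPrime Q) :=
    IsLocalization.isNoetherianRing Q.primeCompl _ inferInstance
  have hM : LocCoh.IsCohenMacaulayModule (Localization.AtPrime Q)
      (LocalizedModule Q.primeCompl R) := (cmRing_iff_cmModule Q).1 hQ
  haveI : Module.Finite (Localization.AtPrime Q) (LocalizedModule Q.primeCompl R) :=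
    Module.Finite.equiv (locEquivSelf Q).symm
  have hdisj : Disjoint (Q.primeCompl : Set R) (q' : Set R) := by
    rw [Set.disjoint_left]
    intro a ha ha'
    exact ha (hle ha')
  haveI hp : (q'.map (algebraMap R (Localization.AtPrime Q))).IsPrime :=
    IsLocalization.isPrime_of_isPrime_disjoint Q.primeCompl _ q' inferInstance hdisj
  have hcomap : (q'.map (algebraMap R (Localization.AtPrime Q))).comap
      (algebraMap R (Localization.AtPrime Q)) = q' :=
    IsLocalization.under_map_of_isPrime_disjoint Q.primeCompl _ inferInstance hdisj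
  have hsupp : (⟨q'.map (algebraMap R (Localization.AtPrime Q)), hp⟩ :
      PrimeSpectrum (Localization.AtPrime Q)) ∈
      Module.support (Localization.AtPrime Q) (LocalizedModule Q.primeCompl R) := by
    rw [Module.mem_support_iff_of_finite]
    intro a ha
    have h1 : a • (locEquivSelf Q).symm 1 = 0 := Module.mem_annihilator.1 ha _
    have h2 := congrArg (locEquivSelf Q) h1
    rw [map_smul, LinearEquiv.apply_symm_apply, smul_eq_mul, mul_one, map_zero] at h2
    rw [h2]
    exact zero_mem _
  obtain ⟨h1, h2⟩ := Groth.Agent.DepthLib.supportDim_localizedModule_of_isCM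
    (LocalizedModule Q.primeCompl R) hM (q'.map (algebraMap R (Localization.AtPrime Q))) hsupp
  have h3 : CMAt R ((q'.map (algebraMap R (Localization.AtPrime Q))).comap
      (algebraMap R (Localization.AtPrime Q))) := by
    unfold CMAt LocCoh.IsCohenMacaulayModule
    rw [← Groth.Agent.Lib.DoubleLoc_helper6.supportDim_eq R Q.primeCompl,
      ← Groth.Agent.Lib.DoubleLoc_helper6.depth_eq R Q.primeCompl, h1, h2]
  exact (cmRing_iff_cmModule q').2 ((cmAt_congr hcomap).1 h3)

theorem exists_closed_specialization_scheme (X : Scheme.{u}) [IsLocallyNoetherian X] (x : X) :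
    ∃ z : X, x ⤳ z ∧ IsClosed ({z} : Set X) := by
  apply Groth.Agent.Lib.ClosedPt_helper6.exists_closed_specialization
  intro x
  obtain ⟨_, ⟨U, hU, rfl⟩, hxU, -⟩ :=
    X.isBasis_affineOpens.exists_subset_of_mem_open (Set.mem_univ x) isOpen_univ
  have hU' : IsAffineOpen U := hU
  haveI : IsNoetherianRing Γ(X, U) := IsLocallyNoetherian.component_noetherian ⟨U, hU'⟩
  exact ⟨U, Γ(X, U), inferInstance, inferInstance, hxU, ⟨Scheme.homeoOfIso hU'.isoSpec⟩⟩

theorem cm_of_specializes (X : Scheme.{u}) [IsLocallyNoetherian X] {x z : X} (h : x ⤳ z)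
    (hz : LocCoh.IsCohenMacaulayLocalRing (X.presheaf.stalk z)) :
    LocCoh.IsCohenMacaulayLocalRing (X.presheaf.stalk x) := by
  obtain ⟨_, ⟨U, hU, rfl⟩, hzU, -⟩ :=
    X.isBasis_affineOpens.exists_subset_of_mem_open (Set.mem_univ z) isOpen_univ
  have hU' : IsAffineOpen U := hU
  have hxU : x ∈ U := h.mem_open U.isOpen hzU
  haveI : IsNoetherianRing Γ(X, U) := IsLocallyNoetherian.component_noetherian ⟨U, hU'⟩
  let zU : U := ⟨z, hzU⟩
  let xU : U := ⟨x, hxU⟩
  letI algz := X.presheaf.algebra_section_stalk zU
  letI algx := X.presheaf.algebra_section_stalk xU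
  haveI locz := hU'.isLocalization_stalk zU
  haveI locx := hU'.isLocalization_stalk xU
  have hle : (hU'.primeIdealOf xU).asIdeal ≤ (hU'.primeIdealOf zU).asIdeal := by
    have h1 : xU ⤳ zU := (subtype_specializes_iff _ _).2 h
    have h2 := h1.map hU'.isoSpec.hom.continuous
    exact (PrimeSpectrum.le_iff_specializes _ _).2 h2
  let σz : Localization.AtPrime (hU'.primeIdealOf zU).asIdeal ≃+* X.presheaf.stalk (zU : X) :=
    (IsLocalization.algEquiv (hU'.primeIdealOf zU).asIdeal.primeCompl
      (Localization.AtPrime (hU'.primeIdealOf zU).asIdeal) (X.presheaf.stalk (zU : X))).toRingEquiv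
  let σx : Localization.AtPrime (hU'.primeIdealOf xU).asIdeal ≃+* X.presheaf.stalk (xU : X) :=
    (IsLocalization.algEquiv (hU'.primeIdealOf xU).asIdeal.primeCompl
      (Localization.AtPrime (hU'.primeIdealOf xU).asIdeal) (X.presheaf.stalk (xU : X))).toRingEquiv
  have hz' : LocCoh.IsCohenMacaulayLocalRing
      (Localization.AtPrime (hU'.primeIdealOf zU).asIdeal) := cmLocalRing_of_ringEquiv σz.symm hz
  have hx' := cm_of_le _ _ hle hz'
  exact cmLocalRing_of_ringEquiv σx hx'

theorem cm_iff_closedPoints (X : Scheme.{u}) [IsLocallyNoetherian X] :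
    (∀ x : X, LocCoh.IsCohenMacaulayLocalRing (X.presheaf.stalk x)) ↔
      ∀ x : X, IsClosed ({x} : Set X) → LocCoh.IsCohenMacaulayLocalRing (X.presheaf.stalk x) := by
  constructor
  · intro h x _
    exact h x
  · intro h x
    obtain ⟨z, hxz, hz⟩ := exists_closed_specialization_scheme X x
    exact cm_of_specializes X hxz (h z hz)

end Groth.Agent.Lib.CMClosedPt_helper6
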