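import Mathlib
import Groth.Prelude.Def_MoreMor
import Groth.Prelude.Def_CAlg
import Groth.Agent.Lib.CMEquiv_helper3
import Groth.Agent.Lib.CMMor8_helper8

set_option autoImplicit false
universe u

namespace Groth.Agent.Lib.CMDecompH8

open AlgebraicGeometry CategoryTheory

/-- The stalks of the scheme-theoretic fibre of `Spec S → Spec R` over `p` are Cohen–Macaulay when
the fibre ring `κ(p) ⊗ S` is a Cohen–Macaulay ring. -/
theorem cm_stalk_fiber_spec (R S : Type u) [CommRing R] [CommRing S] [Algebra R S]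
    (p : PrimeSpectrum R) (hCM : LocCoh.IsCohenMacaulayRing (p.asIdeal.Fiber S))
    (z : ((Spec.map (CommRingCat.ofHom (algebraMap R S))).fiber p : Scheme.{u})) :
    LocCoh.IsCohenMacaulayLocalRing
      (((Spec.map (CommRingCat.ofHom (algebraMap R S))).fiber p).presheaf.stalk z) := by
  let e := Arrow.leftFunc.mapIso (Spec.fiberToSpecResidueFieldIso R S p)
  change (Spec.map (CommRingCat.ofHom (algebraMap R S))).fiber p ≅
    Spec (CommRingCat.of (p.asIdeal.Fiber S)) at e
  let w : PrimeSpectrum (p.asIdeal.Fiber S) := e.hom z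
  have h1 : LocCoh.IsCohenMacaulayLocalRing (Localization.AtPrime w.asIdeal) :=
    hCM.isCohenMacaulayLocalRing_localization w.asIdeal
  have h2 : LocCoh.IsCohenMacaulayLocalRing
      ((Spec (CommRingCat.of (p.asIdeal.Fiber S))).presheaf.stalk (e.hom z)) :=
    Groth.Agent.Lib.CMEquivH3.isCohenMacaulayLocalRing_of_ringEquiv
      (AlgebraicGeometry.Spec.stalkIso (CommRingCat.of (p.asIdeal.Fiber S)) w).symm.commRingCatIsoToRingEquiv h1
  exact Groth.Agent.Lib.CMEquivH3.isCohenMacaulayLocalRing_of_ringEquiv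
    (asIso (e.hom.stalkMap z)).commRingCatIsoToRingEquiv h2

/-- A flat, finitely presented ring map with Cohen–Macaulay fibre rings is a Cohen–Macaulay
morphism at every point of `Spec S`. -/
theorem isCMAt_spec (R S : Type u) [CommRing R] [CommRing S] [Algebra R S] [Module.Flat R S]
    (hCM : ∀ p : PrimeSpectrum R, LocCoh.IsCohenMacaulayRing (p.asIdeal.Fiber S))
    (x : Spec (CommRingCat.of S)) :
    MoreMor.IsCMAt (Spec.map (CommRingCat.ofHom (algebraMap R S))) x := by
  haveI : Flat (Spec.map (CommRingCat.ofHom (algebraMap R S))) := by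
    rw [HasRingHomProperty.Spec_iff (P := @Flat)]
    exact (RingHom.flat_algebraMap_iff).mpr inferInstance
  refine ⟨Flat.stalkMap _ x, ?_⟩
  exact cm_stalk_fiber_spec R S _ (hCM _) _

end Groth.Agent.Lib.CMDecompH8
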