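import Mathlib
import Groth.Agent.Lib.CMDecomp1_helper8
import Groth.Agent.Lib.EquidimIrr_helper8

set_option autoImplicit false
universe u

namespace Groth.Agent.Lib.CMDecompH8

open AlgebraicGeometry CategoryTheory

/-- general: a finite clopen partition of `Spec S` indexed by `Fin (N+1)` gives complete orthogonal
idempotents. -/
theorem exists_idempotents_of_partition {S : Type u} [CommRing S] (N : ℕ)
    (g : PrimeSpectrum S → ℕ) (hg : IsLocallyConstant g) (hN : ∀ q, g q ≤ N) :
    ∃ e : Fin (N + 1) → S, CompleteOrthogonalIdempotents e ∧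
      ∀ (d : Fin (N + 1)) (q : PrimeSpectrum S), e d ∉ q.asIdeal ↔ g q = (d : ℕ) := by
  have hclopen : ∀ d : Fin (N + 1), IsClopen (g ⁻¹' {(d : ℕ)}) := fun d => hg.isClopen_fiber _
  choose e he hU using fun d => PrimeSpectrum.isClopen_iff.mp (hclopen d)
  have hmem : ∀ (d : Fin (N + 1)) (q : PrimeSpectrum S), e d ∉ q.asIdeal ↔ g q = (d : ℕ) := by
    intro d q
    have : q ∈ g ⁻¹' {(d : ℕ)} ↔ q ∈ (PrimeSpectrum.basicOpen (e d) : Set (PrimeSpectrum S)) := by
      rw [hU d]
    rw [Set.mem_preimage, Set.mem_singleton_iff] at this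
    rw [this]
    rfl
  have hortho : Pairwise (fun i j => e i * e j = 0) := by
    intro i j hij
    apply ((he i).mul (he j)).eq_zero_of_isNilpotent
    rw [nilpotent_iff_mem_prime]
    intro J hJ
    by_contra hcon
    have h1 : e i ∉ J := fun h => hcon (J.mul_mem_right _ h)
    have h2 : e j ∉ J := fun h => hcon (J.mul_mem_left _ h)
    have h3 := (hmem i ⟨J, hJ⟩).mp h1
    have h4 := (hmem j ⟨J, hJ⟩).mp h2
    apply hij
    apply Fin.ext
    rw [← h3, ← h4]
  have hoi : OrthogonalIdempotents e := ⟨he, hortho⟩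
  refine ⟨e, ⟨hoi, ?_⟩, hmem⟩
  have hidem : IsIdempotentElem (1 - ∑ i, e i) :=
    (hoi.isIdempotentElem_sum (s := Finset.univ)).one_sub
  have hnil : IsNilpotent (1 - ∑ i, e i) := by
    rw [nilpotent_iff_mem_prime]
    intro J hJ
    let d0 : Fin (N + 1) := ⟨g ⟨J, hJ⟩, Nat.lt_succ_of_le (hN _)⟩
    have h0 : e d0 ∉ J := (hmem d0 ⟨J, hJ⟩).mpr rfl
    have h1 : e d0 * (1 - ∑ i, e i) = 0 := by
      classical
      rw [mul_sub, mul_one, Finset.mul_sum, Finset.sum_eq_single d0, (he d0).eq, sub_self]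
      · intro b _ hb
        exact hortho hb.symm
      · intro h; exact absurd (Finset.mem_univ _) h
    have h2 : e d0 * (1 - ∑ i, e i) ∈ J := by rw [h1]; exact J.zero_mem
    exact (hJ.mem_or_mem h2).resolve_left h0
  have := hidem.eq_zero_of_isNilpotent hnil
  rw [sub_eq_zero] at this
  exact this.symm

/-- Idempotents cutting `Spec S` into the loci of constant fibre dimension. -/
theorem exists_idempotents (R S : Type u) [CommRing R] [CommRing S] [Algebra R S] [Module.Flat R S]
    [Algebra.FinitePresentation R S]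
    (hCM : ∀ p : PrimeSpectrum R, LocCoh.IsCohenMacaulayRing (p.asIdeal.Fiber S)) :
    ∃ (N : ℕ) (e : Fin (N + 1) → S), CompleteOrthogonalIdempotents e ∧
      ∀ (d : Fin (N + 1)) (q : PrimeSpectrum S), e d ∉ q.asIdeal →
        FlatMor.fibreDimAt (Spec.map (CommRingCat.ofHom (algebraMap R S))) q =
          ((d : ℕ) : WithBot ℕ∞) := by
  set f := Spec.map (CommRingCat.ofHom (algebraMap R S)) with hf
  haveI : LocallyOfFinitePresentation f := by
    rw [hf, HasRingHomProperty.Spec_iff (P := @LocallyOfFinitePresentation)]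
    exact (RingHom.finitePresentation_algebraMap).mpr inferInstance
  have hlc := Groth.Agent.Lib.CMMorH8.isLocallyConstant_fibreDimAt f (isCMAt_spec R S hCM)
  choose D hD using fun x => EquidimIrrH8.exists_nat_fibreDimAt f x
  have hDlc : IsLocallyConstant (fun q : PrimeSpectrum S => D q) := by
    rw [IsLocallyConstant.iff_exists_open]
    intro x
    obtain ⟨U, hU, hxU, h⟩ := (IsLocallyConstant.iff_exists_open _).mp hlc x
    refine ⟨U, hU, hxU, fun x' hx' => ?_⟩
    have h1 := h x' hx'
    rw [hD, hD] at h1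
    exact_mod_cast h1
  have hfin : (Set.range (fun q : PrimeSpectrum S => D q)).Finite := hDlc.range_finite
  obtain ⟨N, hN⟩ := hfin.bddAbove
  obtain ⟨e, he, hmem⟩ := exists_idempotents_of_partition N (fun q : PrimeSpectrum S => D q) hDlc
    (fun q => hN ⟨q, rfl⟩)
  refine ⟨N, e, he, fun d q hq => ?_⟩
  have h1 : D q = (d : ℕ) := (hmem d q).mp hq
  rw [hD q, h1]

end Groth.Agent.Lib.CMDecompH8
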