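import Mathlib
import Groth.Prelude.Def_CAlg
import Groth.Prelude.Def_EGA4b
import Groth.Agent.Lib.FlatCM2_helper9

set_option autoImplicit false
universe u

namespace Groth.Agent.Lib.CMDecompH8

section Factor

variable (R : Type u) {S : Type u} [CommRing R] [CommRing S] [Algebra R S] (e : S)

theorem isLocalization_away_quot (he : IsIdempotentElem e) :
    IsLocalization.Away e (S ⧸ Ideal.span {1 - e}) :=
  IsLocalization.away_of_isIdempotentElem he
    (by rw [Ideal.Quotient.algebraMap_eq, Ideal.mk_ker]) Ideal.Quotient.mk_surjective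

theorem flat_quot (he : IsIdempotentElem e) [Module.Flat R S] :
    Module.Flat R (S ⧸ Ideal.span {1 - e}) := by
  haveI := isLocalization_away_quot e he
  haveI : Module.Flat S (S ⧸ Ideal.span {1 - e}) := IsLocalization.flat _ (Submonoid.powers e)
  exact Module.Flat.trans R S _

theorem fp_quot [Algebra.FinitePresentation R S] :
    Algebra.FinitePresentation R (S ⧸ Ideal.span {1 - e}) :=
  Algebra.FinitePresentation.quotient ⟨{1 - e}, by simp⟩

theorem fibLocRing_equiv (he : IsIdempotentElem e) (ξ : Ideal (S ⧸ Ideal.span {1 - e}))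
    [ξ.IsPrime] :
    Nonempty (EGA4.FibLocRing R S (ξ.comap (algebraMap S (S ⧸ Ideal.span {1 - e}))) ≃+*
      EGA4.FibLocRing R (S ⧸ Ideal.span {1 - e}) ξ) := by
  set T := S ⧸ Ideal.span {1 - e} with hT
  set Q := ξ.comap (algebraMap S T) with hQ
  haveI := isLocalization_away_quot e he
  haveI : IsLocalization.AtPrime (Localization.AtPrime ξ) Q :=
    IsLocalization.isLocalization_isLocalization_atPrime_isLocalization (Submonoid.powers e)
      (Localization.AtPrime ξ) ξ
  let e0 : Localization.AtPrime Q ≃ₐ[S] Localization.AtPrime ξ :=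
    IsLocalization.algEquiv Q.primeCompl _ _
  have hcomp : (e0.toRingEquiv : Localization.AtPrime Q →+* Localization.AtPrime ξ).comp
      (algebraMap R (Localization.AtPrime Q)) = algebraMap R (Localization.AtPrime ξ) := by
    ext r
    rw [RingHom.comp_apply, IsScalarTower.algebraMap_apply R S (Localization.AtPrime Q),
      IsScalarTower.algebraMap_apply R S (Localization.AtPrime ξ)]
    exact e0.commutes _
  have hcomap : Q.comap (algebraMap R S) = ξ.comap (algebraMap R T) := by
    rw [hQ, Ideal.comap_comap, ← IsScalarTower.algebraMap_eq]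
  refine ⟨Ideal.quotientEquiv _ _ e0.toRingEquiv ?_⟩
  rw [Ideal.map_map, hcomp, hcomap]

theorem cm_fibres_quot (he : IsIdempotentElem e) [Algebra.FiniteType R S]
    (hCM : ∀ p : PrimeSpectrum R, LocCoh.IsCohenMacaulayRing (p.asIdeal.Fiber S))
    (p : PrimeSpectrum R) :
    LocCoh.IsCohenMacaulayRing (p.asIdeal.Fiber (S ⧸ Ideal.span {1 - e})) := by
  set T := S ⧸ Ideal.span {1 - e} with hT
  haveI : Algebra.FiniteType R T :=
    Algebra.FiniteType.of_surjective (Ideal.Quotient.mkₐ R _) (Ideal.Quotient.mkₐ_surjective R _)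
  haveI : IsNoetherianRing (p.asIdeal.Fiber T) :=
    Algebra.FiniteType.isNoetherianRing p.asIdeal.ResidueField _
  refine ⟨fun q hq => ?_⟩
  obtain ⟨e1⟩ := Groth.Agent.FlatCM.fibre_equiv_of_prime R T p.asIdeal q
  set ξ := q.comap (Algebra.TensorProduct.includeRight : T →ₐ[R] p.asIdeal.Fiber T) with hξ
  obtain ⟨e2⟩ := fibLocRing_equiv R e he ξ
  set Q := ξ.comap (algebraMap S T) with hQ
  obtain ⟨q', hq', ⟨e3⟩⟩ := Groth.Agent.FlatCM.exists_fibre_equiv R S Q
  have h1 : LocCoh.IsCohenMacaulayLocalRing (Localization.AtPrime q') :=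
    (hCM ⟨Q.comap (algebraMap R S), inferInstance⟩).isCohenMacaulayLocalRing_localization q'
  exact Groth.Agent.FlatCM.isCMLocalRing_of_ringEquiv (T := Localization.AtPrime q')
    ((e3.trans e2).trans e1.symm)

end Factor

end Groth.Agent.Lib.CMDecompH8
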