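import Mathlib
import Groth.Prelude.Def_Dual3
import Groth.Agent.Lib.DimIneq_helper8

universe u
open AlgebraicGeometry CategoryTheory

namespace Groth.Agent.Lib.ResTrdegSpecH8

open Polynomial in
theorem isAlgebraic_of_fraction {R0 K : Type*} [CommRing R0] [Field K] [Algebra R0 K]
    (hK : ∀ y : K, ∃ a t : R0, t ≠ 0 ∧ y * algebraMap R0 K t = algebraMap R0 K a) :
    Algebra.IsAlgebraic R0 K := by
  constructor
  intro y
  obtain ⟨a, t, ht, h⟩ := hK y
  refine ⟨C t * Polynomial.X - C a, ?_, ?_⟩
  · intro h0
    have := congrArg (fun q => Polynomial.coeff q 1) h0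
    simp at this
    exact ht this
  · simp only [map_sub, map_mul, aeval_C, aeval_X]
    rw [mul_comm, h, sub_self]

/-- transcendence degree of a field extension computed on subrings with these fields as fraction
fields. -/
theorem trdeg_eq_of_fraction_square {R0 T0 K L : Type u} [CommRing R0] [CommRing T0] [Field K]
    [Field L] [Algebra R0 T0] [Algebra K L] (ιR : R0 →+* K) (ιT : T0 →+* L)
    (hα : Function.Injective (algebraMap R0 T0)) (hιR : Function.Injective ιR)
    (hιT : Function.Injective ιT)
    (hsq : ∀ r, algebraMap K L (ιR r) = ιT (algebraMap R0 T0 r))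
    (hK : ∀ y : K, ∃ a t : R0, t ≠ 0 ∧ y * ιR t = ιR a)
    (hL : ∀ y : L, ∃ a t : T0, t ≠ 0 ∧ y * ιT t = ιT a) :
    Algebra.trdeg K L = Algebra.trdeg R0 T0 := by
  letI a3 : Algebra T0 L := ιT.toAlgebra
  letI a4 : Algebra R0 K := ιR.toAlgebra
  letI a5 : Algebra R0 L := (ιT.comp (algebraMap R0 T0)).toAlgebra
  haveI : IsScalarTower R0 T0 L := IsScalarTower.of_algebraMap_eq fun d => rfl
  haveI : IsScalarTower R0 K L := IsScalarTower.of_algebraMap_eq fun d => (hsq d).symm
  haveI : FaithfulSMul R0 T0 := (faithfulSMul_iff_algebraMap_injective _ _).mpr hα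
  haveI : FaithfulSMul T0 L := (faithfulSMul_iff_algebraMap_injective _ _).mpr hιT
  haveI : FaithfulSMul R0 K := (faithfulSMul_iff_algebraMap_injective _ _).mpr hιR
  haveI : FaithfulSMul K L := (faithfulSMul_iff_algebraMap_injective _ _).mpr
    (algebraMap K L).injective
  haveI : Algebra.IsAlgebraic T0 L := isAlgebraic_of_fraction hL
  haveI : Algebra.IsAlgebraic R0 K := isAlgebraic_of_fraction hK
  haveI : Nontrivial R0 := RingHom.domain_nontrivial ιR
  rw [Groth.Agent.DimIneqH8.trdeg_eq_of_algebraic_top R0 T0 L,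
    Groth.Agent.DimIneqH8.trdeg_eq_of_algebraic_bot R0 K L]

/-- the canonical map `C → κ(x)` for a point `x` of `Spec C`. -/
noncomputable def specToRes (C : Type u) [CommRing C] (x : PrimeSpectrum C) :
    C →+* (Spec (CommRingCat.of C)).residueField x :=
  ((Scheme.Spec.residueFieldIso (CommRingCat.of C) x).inv.hom).comp
    (algebraMap C x.asIdeal.ResidueField)

theorem specToRes_eq (C : Type u) [CommRing C] (x : PrimeSpectrum C) :
    CommRingCat.ofHom (specToRes C x) =
      (Scheme.ΓSpecIso (CommRingCat.of C)).inv ≫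
        (Spec (CommRingCat.of C)).presheaf.germ ⊤ x trivial ≫
          (Spec (CommRingCat.of C)).residue x :=
  Scheme.Spec.algebraMap_residueFieldIso_inv (CommRingCat.of C) x

theorem ker_specToRes (C : Type u) [CommRing C] (x : PrimeSpectrum C) :
    RingHom.ker (specToRes C x) = x.asIdeal := by
  ext c
  rw [RingHom.mem_ker]
  unfold specToRes
  rw [RingHom.comp_apply]
  rw [map_eq_zero_iff _ (ConcreteCategory.bijective_of_isIso
    (Scheme.Spec.residueFieldIso (CommRingCat.of C) x).inv).1]
  exact Ideal.algebraMap_residueField_eq_zero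

theorem specToRes_fraction (C : Type u) [CommRing C] (x : PrimeSpectrum C)
    (y : (Spec (CommRingCat.of C)).residueField x) :
    ∃ a t : C, t ∉ x.asIdeal ∧ y * specToRes C x t = specToRes C x a := by
  set e := Scheme.Spec.residueFieldIso (CommRingCat.of C) x with he
  obtain ⟨⟨a', t'⟩, h⟩ := IsLocalization.surj (nonZeroDivisors (C ⧸ x.asIdeal)) (e.hom.hom y)
  obtain ⟨a, rfl⟩ := Ideal.Quotient.mk_surjective a'
  obtain ⟨t, ht⟩ := Ideal.Quotient.mk_surjective t'.1
  refine ⟨a, t, ?_, ?_⟩
  · intro hmem
    have h0 : t'.1 = 0 := by rw [← ht]; exact Ideal.Quotient.eq_zero_iff_mem.mpr hmem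
    exact nonZeroDivisors.ne_zero t'.2 h0
  · have hinj := (ConcreteCategory.bijective_of_isIso e.hom).1
    apply hinj
    have h1 : ∀ c : C, e.hom.hom (specToRes C x c) = algebraMap C x.asIdeal.ResidueField c := by
      intro c
      unfold specToRes
      rw [RingHom.comp_apply]
      have := congrArg (fun ψ => ψ.hom (algebraMap C x.asIdeal.ResidueField c)) e.inv_hom_id
      exact this
    rw [map_mul, h1, h1]
    have h2 : (algebraMap (C ⧸ x.asIdeal) x.asIdeal.ResidueField) t'.1 =
        algebraMap C x.asIdeal.ResidueField t := by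
      rw [← ht]; rfl
    have h3 : (algebraMap (C ⧸ x.asIdeal) x.asIdeal.ResidueField) (Ideal.Quotient.mk _ a) =
        algebraMap C x.asIdeal.ResidueField a := rfl
    rw [← h2, ← h3]
    exact h

theorem residueFieldMap_specToRes {A C : Type u} [CommRing A] [CommRing C] [Algebra A C]
    (x : PrimeSpectrum C) (a : A) :
    ((Spec.map (CommRingCat.ofHom (algebraMap A C))).residueFieldMap x).hom
      (specToRes A ((Spec.map (CommRingCat.ofHom (algebraMap A C))) x) a) =
      specToRes C x (algebraMap A C a) := by
  set f := Spec.map (CommRingCat.ofHom (algebraMap A C)) with hf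
  have key : CommRingCat.ofHom (specToRes A (f x)) ≫ f.residueFieldMap x =
      CommRingCat.ofHom (algebraMap A C) ≫ CommRingCat.ofHom (specToRes C x) := by
    rw [specToRes_eq, specToRes_eq, Category.assoc, Category.assoc,
      Scheme.residue_residueFieldMap, Scheme.Hom.germ_stalkMap_assoc,
      Scheme.ΓSpecIso_inv_naturality_assoc]
    rfl
  exact congrArg (fun ψ => ψ.hom a) key

/-- The residue transcendence degree of `Spec C → Spec A` at a prime `P` is the transcendence
degree of `C/P` over `A/(P ∩ A)`. -/
theorem resTrdeg_spec {A C : Type u} [CommRing A] [CommRing C] [Algebra A C] (P : Ideal C)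
    [hP : P.IsPrime] :
    Dual3.resTrdeg (Spec.map (CommRingCat.ofHom (algebraMap A C))) (⟨P, hP⟩ : PrimeSpectrum C) =
      Algebra.trdeg (A ⧸ P.under A) (C ⧸ P) := by
  set f := Spec.map (CommRingCat.ofHom (algebraMap A C)) with hf
  let x : PrimeSpectrum C := ⟨P, hP⟩
  unfold Dual3.resTrdeg
  letI : Algebra ((Spec (CommRingCat.of A)).residueField (f x))
      ((Spec (CommRingCat.of C)).residueField x) := (f.residueFieldMap x).hom.toAlgebra
  have hkA : ∀ a ∈ P.under A, specToRes A (f x) a = 0 := by
    intro a ha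
    rw [← RingHom.mem_ker, ker_specToRes]
    exact ha
  have hkC : ∀ c ∈ P, specToRes C x c = 0 := by
    intro c hc
    rw [← RingHom.mem_ker, ker_specToRes]
    exact hc
  refine trdeg_eq_of_fraction_square (R0 := A ⧸ P.under A) (T0 := C ⧸ P)
    (Ideal.Quotient.lift (P.under A) (specToRes A (f x)) hkA)
    (Ideal.Quotient.lift P (specToRes C x) hkC)
    Ideal.algebraMap_quotient_injective ?_ ?_ ?_ ?_ ?_
  · apply RingHom.lift_injective_of_ker_le_ideal
    intro a ha
    rw [ker_specToRes] at ha
    exact ha
  · apply RingHom.lift_injective_of_ker_le_ideal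
    intro a ha
    rw [ker_specToRes] at ha
    exact ha
  · intro r
    obtain ⟨a, rfl⟩ := Ideal.Quotient.mk_surjective r
    rw [Ideal.Quotient.algebraMap_mk_of_liesOver, Ideal.Quotient.lift_mk, Ideal.Quotient.lift_mk]
    exact residueFieldMap_specToRes x a
  · intro y
    obtain ⟨a, t, ht, h⟩ := specToRes_fraction A (f x) y
    refine ⟨Ideal.Quotient.mk _ a, Ideal.Quotient.mk _ t, ?_, ?_⟩
    · rw [Ne, Ideal.Quotient.eq_zero_iff_mem]; exact ht
    · rw [Ideal.Quotient.lift_mk, Ideal.Quotient.lift_mk]; exact h
  · intro y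
    obtain ⟨a, t, ht, h⟩ := specToRes_fraction C x y
    refine ⟨Ideal.Quotient.mk _ a, Ideal.Quotient.mk _ t, ?_, ?_⟩
    · rw [Ne, Ideal.Quotient.eq_zero_iff_mem]; exact ht
    · rw [Ideal.Quotient.lift_mk, Ideal.Quotient.lift_mk]; exact h

/-- General form: the residue transcendence degree of `Spec C → Spec A` at a prime `P`, computed
on a localization `B` of `C` (at a submonoid missing `P`) and arbitrary presentations
`A/(P ∩ A) ≅ R0`, `B/PB ≅ T0`. -/
theorem resTrdeg_spec_of_data {A C B : Type u} [CommRing A] [CommRing C] [CommRing B]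
    [Algebra A C] [Algebra C B] [Algebra A B] [IsScalarTower A C B] (P : Ideal C)
    [hP : P.IsPrime] (M : Submonoid C) [IsLocalization M B] (hM : M ≤ P.primeCompl)
    {R0 T0 : Type u} [CommRing R0] [CommRing T0] [Algebra R0 T0]
    (πA : A →+* R0) (πB : B →+* T0) (hπA : Function.Surjective πA)
    (hπB : Function.Surjective πB) (hkA : RingHom.ker πA = P.under A)
    (hkB : RingHom.ker πB = P.map (algebraMap C B))
    (hcompat : ∀ a, algebraMap R0 T0 (πA a) = πB (algebraMap A B a)) :
    Dual3.resTrdeg (Spec.map (CommRingCat.ofHom (algebraMap A C))) (⟨P, hP⟩ : PrimeSpectrum C) =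
      Algebra.trdeg R0 T0 := by
  set f := Spec.map (CommRingCat.ofHom (algebraMap A C)) with hf
  let x : PrimeSpectrum C := ⟨P, hP⟩
  unfold Dual3.resTrdeg
  letI : Algebra ((Spec (CommRingCat.of A)).residueField (f x))
      ((Spec (CommRingCat.of C)).residueField x) := (f.residueFieldMap x).hom.toAlgebra
  have hdisj : Disjoint (M : Set C) (P : Set C) := by
    rw [Set.disjoint_left]
    intro c hc hc'
    exact hM hc hc'
  have hcomapmap : (P.map (algebraMap C B)).comap (algebraMap C B) = P :=
    IsLocalization.under_map_of_isPrime_disjoint M B hP hdisj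
  have hunit : ∀ y : M, IsUnit (specToRes C x y) := by
    intro y
    rw [isUnit_iff_ne_zero, Ne, ← RingHom.mem_ker, ker_specToRes]
    exact hM y.2
  let loc : B →+* (Spec (CommRingCat.of C)).residueField x := IsLocalization.lift hunit
  have hloc : ∀ c : C, loc (algebraMap C B c) = specToRes C x c := fun c =>
    IsLocalization.lift_eq hunit c
  have hkerloc : RingHom.ker πB = RingHom.ker loc := by
    apply le_antisymm
    · rw [hkB, Ideal.map_le_iff_le_comap]
      intro c hc
      rw [Ideal.mem_comap, RingHom.mem_ker, hloc, ← RingHom.mem_ker, ker_specToRes]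
      exact hc
    · intro b hb
      rw [RingHom.mem_ker] at hb
      obtain ⟨⟨c, s⟩, h⟩ := IsLocalization.surj M b
      have h1 := congrArg loc h
      rw [map_mul, hb, zero_mul, hloc] at h1
      have hc : c ∈ P := by
        have : c ∈ RingHom.ker (specToRes C x) := h1.symm
        rw [ker_specToRes] at this
        exact this
      rw [hkB]
      have h2 : b * algebraMap C B s.1 ∈ P.map (algebraMap C B) := by
        rw [h]; exact Ideal.mem_map_of_mem _ hc
      have hu : IsUnit (algebraMap C B s.1) := IsLocalization.map_units B s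
      exact (Ideal.mul_unit_mem_iff_mem _ hu).mp h2
  have hkerA : RingHom.ker πA = RingHom.ker (specToRes A (f x)) := by
    rw [ker_specToRes, hkA]; rfl
  let ιR : R0 →+* (Spec (CommRingCat.of A)).residueField (f x) :=
    RingHom.liftOfSurjective πA hπA ⟨specToRes A (f x), hkerA.le⟩
  let ιT : T0 →+* (Spec (CommRingCat.of C)).residueField x :=
    RingHom.liftOfSurjective πB hπB ⟨loc, hkerloc.le⟩
  have hιR : ∀ a, ιR (πA a) = specToRes A (f x) a := fun a =>
    RingHom.liftOfRightInverse_comp_apply _ _ _ _ a
  have hιT : ∀ b, ιT (πB b) = loc b := fun b =>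
    RingHom.liftOfRightInverse_comp_apply _ _ _ _ b
  have hιRinj : Function.Injective ιR := by
    rw [injective_iff_map_eq_zero]
    intro r hr
    obtain ⟨a, rfl⟩ := hπA r
    rw [hιR] at hr
    have : a ∈ RingHom.ker πA := by rw [hkerA]; exact hr
    exact this
  have hιTinj : Function.Injective ιT := by
    rw [injective_iff_map_eq_zero]
    intro r hr
    obtain ⟨b, rfl⟩ := hπB r
    rw [hιT] at hr
    have : b ∈ RingHom.ker πB := by rw [hkerloc]; exact hr
    exact this
  have hsq : ∀ r, algebraMap ((Spec (CommRingCat.of A)).residueField (f x))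
      ((Spec (CommRingCat.of C)).residueField x) (ιR r) = ιT (algebraMap R0 T0 r) := by
    intro r
    obtain ⟨a, rfl⟩ := hπA r
    rw [hιR, hcompat, hιT, IsScalarTower.algebraMap_apply A C B, hloc]
    exact residueFieldMap_specToRes x a
  have hα : Function.Injective (algebraMap R0 T0) := by
    have h1 : Function.Injective (fun r => ιT (algebraMap R0 T0 r)) := by
      have : (fun r => ιT (algebraMap R0 T0 r)) = fun r =>
          algebraMap ((Spec (CommRingCat.of A)).residueField (f x))
            ((Spec (CommRingCat.of C)).residueField x) (ιR r) := by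
        funext r; exact (hsq r).symm
      rw [this]
      exact (algebraMap ((Spec (CommRingCat.of A)).residueField (f x))
        ((Spec (CommRingCat.of C)).residueField x)).injective.comp hιRinj
    exact Function.Injective.of_comp h1
  refine trdeg_eq_of_fraction_square ιR ιT hα hιRinj hιTinj hsq ?_ ?_
  · intro y
    obtain ⟨a, t, ht, h⟩ := specToRes_fraction A (f x) y
    refine ⟨πA a, πA t, ?_, ?_⟩
    · intro h0
      apply ht
      have : t ∈ RingHom.ker πA := h0
      rw [hkA] at this
      exact this
    · rw [hιR, hιR]; exact h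
  · intro y
    obtain ⟨a, t, ht, h⟩ := specToRes_fraction C x y
    refine ⟨πB (algebraMap C B a), πB (algebraMap C B t), ?_, ?_⟩
    · intro h0
      apply ht
      have h1 : algebraMap C B t ∈ RingHom.ker πB := h0
      rw [hkB] at h1
      have h2 : t ∈ (P.map (algebraMap C B)).comap (algebraMap C B) := h1
      rw [hcomapmap] at h2
      exact h2
    · rw [hιT, hιT, hloc, hloc]; exact h

end Groth.Agent.Lib.ResTrdegSpecH8
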