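import Mathlib
import Groth.Agent.Lib.ResTrdegSpec_helper8
import Groth.Agent.Lib.DimFT_helper8

set_option autoImplicit false
universe u

namespace Groth.Agent.Lib.CMDecompH8

open TensorProduct

/-- transcendence degree of the fraction field of a `K`-domain `A` computed on a subring `T0` over
`R0` (with `K = Frac R0`) when `A` is obtained from `T0` by inverting the nonzero elements of `R0`. -/
theorem trdeg_fraction_eq {R0 T0 K A : Type u} [CommRing R0] [CommRing T0] [Field K] [CommRing A]
    [IsDomain A] [Algebra R0 T0] [Algebra R0 K] [IsFractionRing R0 K] [Algebra K A] (ι : T0 →+* A)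
    (hα : Function.Injective (algebraMap R0 T0)) (hι : Function.Injective ι)
    (hsq : ∀ r, algebraMap K A (algebraMap R0 K r) = ι (algebraMap R0 T0 r))
    (hA : ∀ a : A, ∃ (r : R0) (t : T0), r ≠ 0 ∧ algebraMap K A (algebraMap R0 K r) * a = ι t) :
    Algebra.trdeg K (FractionRing A) = Algebra.trdeg R0 T0 := by
  haveI : Nontrivial R0 := (algebraMap R0 K).domain_nontrivial
  have hKinj : Function.Injective (algebraMap R0 K) := IsFractionRing.injective R0 K
  have hAinj : Function.Injective (algebraMap A (FractionRing A)) := IsFractionRing.injective _ _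
  apply Groth.Agent.Lib.ResTrdegSpecH8.trdeg_eq_of_fraction_square
    (algebraMap R0 K) ((algebraMap A (FractionRing A)).comp ι) hα hKinj (hAinj.comp hι)
  · intro r
    rw [IsScalarTower.algebraMap_apply K A (FractionRing A), hsq]
    rfl
  · intro y
    obtain ⟨⟨a, t⟩, h⟩ := IsLocalization.surj (nonZeroDivisors R0) y
    exact ⟨a, t.1, nonZeroDivisors.ne_zero t.2, h⟩
  · intro y
    obtain ⟨⟨a, b⟩, h⟩ := IsLocalization.surj (nonZeroDivisors A) y
    obtain ⟨r1, t1, hr1, h1⟩ := hA a
    obtain ⟨r2, t2, hr2, h2⟩ := hA b.1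
    refine ⟨algebraMap R0 T0 r2 * t1, algebraMap R0 T0 r1 * t2, ?_, ?_⟩
    · intro h0
      have h3 : ι (algebraMap R0 T0 r1 * t2) = 0 := by rw [h0, map_zero]
      rw [map_mul, ← hsq, ← h2] at h3
      have hb : (b.1 : A) ≠ 0 := nonZeroDivisors.ne_zero b.2
      have hc1 : algebraMap K A (algebraMap R0 K r1) ≠ 0 := by
        rw [Ne, map_eq_zero_iff _ (algebraMap K A).injective, map_eq_zero_iff _ hKinj]
        exact hr1
      have hc2 : algebraMap K A (algebraMap R0 K r2) ≠ 0 := by
        rw [Ne, map_eq_zero_iff _ (algebraMap K A).injective, map_eq_zero_iff _ hKinj]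
        exact hr2
      exact mul_ne_zero hc1 (mul_ne_zero hc2 hb) h3
    · simp only [RingHom.comp_apply, map_mul]
      rw [← hsq, ← hsq]
      have e1 : ι t1 = algebraMap K A (algebraMap R0 K r1) * a := h1.symm
      have e2 : ι t2 = algebraMap K A (algebraMap R0 K r2) * b.1 := h2.symm
      rw [e1, e2]
      simp only [map_mul]
      simp only at h
      rw [← h]
      ring

end Groth.Agent.Lib.CMDecompH8

namespace Groth.Agent.Lib.CMDecompH8

open TensorProduct

/-- The dimension of an irreducible component `V(P)` of the fibre ring `κ(p) ⊗ T` equals the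
transcendence degree of `T/ξ` over `R/p`, `ξ` the contraction of `P` to `T`. -/
theorem dim_fibre_component_eq_trdeg (R T : Type u) [CommRing R] [CommRing T] [Algebra R T]
    [Algebra.FiniteType R T] (p : Ideal R) [p.IsPrime] (P : Ideal (p.Fiber T)) [P.IsPrime]
    (ξ : Ideal T) [ξ.IsPrime] [ξ.LiesOver p]
    (hξ : ξ = P.comap (Algebra.TensorProduct.includeRight : T →ₐ[R] p.Fiber T)) :
    ∃ n : ℕ, ringKrullDim (p.Fiber T ⧸ P) = n ∧ Algebra.trdeg (R ⧸ p) (T ⧸ ξ) = n := by
  haveI : Algebra.FiniteType p.ResidueField (p.Fiber T ⧸ P) :=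
    Algebra.FiniteType.of_surjective (Ideal.Quotient.mkₐ p.ResidueField P)
      (Ideal.Quotient.mkₐ_surjective _ P)
  obtain ⟨n, hn1, -, hn3, -⟩ := Groth.Agent.DimFTH8.exists_dim_eq p.ResidueField (p.Fiber T ⧸ P)
  refine ⟨n, hn3, ?_⟩
  rw [← hn1]
  symm
  let incl : T →+* p.Fiber T := (Algebra.TensorProduct.includeRight : T →ₐ[R] p.Fiber T).toRingHom
  have hle : ξ ≤ P.comap incl := le_of_eq hξ
  let ι : T ⧸ ξ →+* p.Fiber T ⧸ P := Ideal.quotientMap P incl hle
  have hι_mk : ∀ t : T, ι (Ideal.Quotient.mk ξ t) = Ideal.Quotient.mk P (1 ⊗ₜ[R] t) := fun t => rfl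
  have hmk : ∀ a : R, algebraMap (R ⧸ p) p.ResidueField (Ideal.Quotient.mk p a) =
      algebraMap R p.ResidueField a := fun a =>
    (IsScalarTower.algebraMap_apply R (R ⧸ p) p.ResidueField a).symm
  apply trdeg_fraction_eq ι
  · exact FaithfulSMul.algebraMap_injective _ _
  · apply Ideal.quotientMap_injective'
    exact le_of_eq hξ.symm
  · intro r
    obtain ⟨a, rfl⟩ := Ideal.Quotient.mk_surjective r
    rw [Ideal.Quotient.algebraMap_mk_of_liesOver, hι_mk, hmk]
    show Ideal.Quotient.mk P (algebraMap p.ResidueField (p.Fiber T) (algebraMap R p.ResidueField a)) = _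
    congr 1
    rw [Algebra.TensorProduct.algebraMap_apply]
    have e1 : algebraMap R p.ResidueField a = a • (1 : p.ResidueField) :=
      Algebra.algebraMap_eq_smul_one a
    have e2 : algebraMap R T a = a • (1 : T) := Algebra.algebraMap_eq_smul_one a
    rw [e1, e2, TensorProduct.tmul_smul, TensorProduct.smul_tmul']
    rfl
  · intro a
    obtain ⟨x, rfl⟩ := Ideal.Quotient.mk_surjective a
    obtain ⟨r, hr, s, hs⟩ := Ideal.Fiber.exists_smul_eq_one_tmul (p := p) x
    refine ⟨Ideal.Quotient.mk p r, Ideal.Quotient.mk ξ s, ?_, ?_⟩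
    · rw [Ne, Ideal.Quotient.eq_zero_iff_mem]
      exact hr
    · rw [hι_mk, ← hs, hmk]
      show Ideal.Quotient.mk P (algebraMap p.ResidueField (p.Fiber T) (algebraMap R p.ResidueField r))
        * Ideal.Quotient.mk P x = _
      rw [← map_mul, ← IsScalarTower.algebraMap_apply R p.ResidueField (p.Fiber T),
        ← Algebra.smul_def]

end Groth.Agent.Lib.CMDecompH8
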