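import Mathlib
import Groth.Agent.Lib.FibCoh5_helper8

universe u
open AlgebraicGeometry CategoryTheory

namespace Groth.Agent.Lib.FibCohSpecH8

section
variable {A C B : Type u} [CommRing A] [CommRing C] [CommRing B] [Algebra A C] [Algebra C B]
  [Algebra A B] [IsScalarTower A C B] (q : Ideal C) [hq : q.IsPrime] [IsLocalization.AtPrime B q]

include q in
/-- the ideal generated by `q ∩ A` in `B = C_q` is proper. -/
theorem map_under_le_maximalIdeal [IsLocalRing B] :
    (q.under A).map (algebraMap A B) ≤ IsLocalRing.maximalIdeal B := by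
  rw [Ideal.map_le_iff_le_comap]
  intro a ha
  rw [Ideal.mem_comap, IsScalarTower.algebraMap_apply A C B,
    IsLocalization.AtPrime.to_map_mem_maximal_iff B q]
  exact ha

end

theorem spec_specializes_iff {C : Type u} [CommRing C] (u v : Spec (CommRingCat.of C)) :
    u ⤳ v ↔ (u : PrimeSpectrum C).asIdeal ≤ (v : PrimeSpectrum C).asIdeal :=
  (PrimeSpectrum.le_iff_specializes (u : PrimeSpectrum C) (v : PrimeSpectrum C)).symm

/-- The coheight of a prime `q` of `C` in its fibre over `A` is the Krull dimension of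
`C_q / (q ∩ A) C_q`. -/
theorem fibCoh_spec_eq {A C B : Type u} [CommRing A] [CommRing C] [CommRing B] [Algebra A C]
    [Algebra C B] [Algebra A B] [IsScalarTower A C B] (q : Ideal C) [hq : q.IsPrime]
    [IsLocalization.AtPrime B q] :
    ((FibCohH8.fibCoh (Spec.map (CommRingCat.ofHom (algebraMap A C)))
      (⟨q, hq⟩ : PrimeSpectrum C) : ℕ∞) : WithBot ℕ∞) =
      ringKrullDim (B ⧸ (q.under A).map (algebraMap A B)) := by
  haveI : IsLocalRing B := IsLocalization.AtPrime.isLocalRing B q
  set I := (q.under A).map (algebraMap A B) with hI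
  have hIle : I ≤ IsLocalRing.maximalIdeal B := map_under_le_maximalIdeal (A := A) q
  haveI : Nontrivial (B ⧸ I) := by
    apply Ideal.Quotient.nontrivial_iff.mpr
    intro h
    rw [h] at hIle
    exact (IsLocalRing.maximalIdeal.isMaximal B).ne_top (top_le_iff.mp hIle)
  haveI : IsLocalRing (B ⧸ I) :=
    IsLocalRing.of_surjective' (Ideal.Quotient.mk I) Ideal.Quotient.mk_surjective
  haveI : IsLocalHom (Ideal.Quotient.mk I) :=
    IsLocalHom.of_surjective _ Ideal.Quotient.mk_surjective
  set f := Spec.map (CommRingCat.ofHom (algebraMap A C)) with hf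
  let x : Spec (CommRingCat.of C) := (⟨q, hq⟩ : PrimeSpectrum C)
  -- the composite ring map
  let ψ : C →+* B ⧸ I := (Ideal.Quotient.mk I).comp (algebraMap C B)
  -- nonunits
  have hmem : ∀ c : C, ψ c ∈ IsLocalRing.maximalIdeal (B ⧸ I) ↔ c ∈ q := by
    intro c
    rw [IsLocalRing.mem_maximalIdeal, mem_nonunits_iff]
    show ¬ IsUnit ((Ideal.Quotient.mk I) (algebraMap C B c)) ↔ _
    rw [isUnit_map_iff (Ideal.Quotient.mk I), ← mem_nonunits_iff,
      ← IsLocalRing.mem_maximalIdeal, IsLocalization.AtPrime.to_map_mem_maximal_iff B q]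
  have hcomap_le : ∀ P : PrimeSpectrum (B ⧸ I), P.asIdeal.comap ψ ≤ q := by
    intro P c hc
    rw [← hmem c]
    exact IsLocalRing.le_maximalIdeal P.isPrime.ne_top hc
  have hmapcomap : ∀ J : Ideal (B ⧸ I), (J.comap ψ).map ψ = J := by
    intro J
    rw [← Ideal.comap_comap, ← Ideal.map_map, IsLocalization.map_under q.primeCompl B,
      Ideal.map_comap_of_surjective _ Ideal.Quotient.mk_surjective]
  have hker : ∀ a : A, a ∈ q.under A → ψ (algebraMap A C a) = 0 := by
    intro a ha
    show (Ideal.Quotient.mk I) (algebraMap C B (algebraMap A C a)) = 0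
    rw [← IsScalarTower.algebraMap_apply A C B, Ideal.Quotient.eq_zero_iff_mem]
    exact Ideal.mem_map_of_mem _ ha
  let T := {u' : Spec (CommRingCat.of C) // f u' = f x}
  have hT : ∀ P : PrimeSpectrum (B ⧸ I),
      f ((PrimeSpectrum.comap ψ P : PrimeSpectrum C) : Spec (CommRingCat.of C)) = f x := by
    intro P
    apply PrimeSpectrum.ext
    show ((P.asIdeal.comap ψ).comap (algebraMap A C)) = q.comap (algebraMap A C)
    apply le_antisymm
    · exact Ideal.comap_mono (hcomap_le P)
    · intro a ha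
      rw [Ideal.mem_comap, Ideal.mem_comap, hker a ha]
      exact zero_mem _
  let g2 : (PrimeSpectrum (B ⧸ I))ᵒᵈ → T := fun P =>
    ⟨(PrimeSpectrum.comap ψ (OrderDual.ofDual P) : PrimeSpectrum C), hT _⟩
  have hle : ∀ P P' : (PrimeSpectrum (B ⧸ I))ᵒᵈ, g2 P ≤ g2 P' ↔ P ≤ P' := by
    intro P P'
    show ((g2 P').1 ⤳ (g2 P).1) ↔ _
    rw [spec_specializes_iff]
    show (OrderDual.ofDual P').asIdeal.comap ψ ≤ (OrderDual.ofDual P).asIdeal.comap ψ ↔
      OrderDual.ofDual P' ≤ OrderDual.ofDual P
    constructor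
    · intro h
      have := Ideal.map_mono (f := ψ) h
      rw [hmapcomap, hmapcomap] at this
      exact this
    · intro h
      exact Ideal.comap_mono h
  have hmono : StrictMono g2 := by
    intro P P' hPP'
    rw [lt_iff_le_not_ge] at hPP' ⊢
    exact ⟨(hle P P').mpr hPP'.1, fun h' => hPP'.2 ((hle P' P).mp h')⟩
  have hlift : ∀ (P : (PrimeSpectrum (B ⧸ I))ᵒᵈ) (b : T), g2 P < b → ∃ P', P < P' ∧ g2 P' = b := by
    intro P b hb
    have hb1 : (b.1 : PrimeSpectrum C).asIdeal ≤ (OrderDual.ofDual P).asIdeal.comap ψ := by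
      have : (g2 P) ≤ b := hb.le
      have h2 : (b.1 ⤳ (g2 P).1) := this
      rw [spec_specializes_iff] at h2
      exact h2
    have hbq : (b.1 : PrimeSpectrum C).asIdeal ≤ q := hb1.trans (hcomap_le _)
    have hdisj : Disjoint (q.primeCompl : Set C) ((b.1 : PrimeSpectrum C).asIdeal : Set C) := by
      rw [Set.disjoint_left]
      intro c hc hc'
      exact hc (hbq hc')
    set J1 := (b.1 : PrimeSpectrum C).asIdeal.map (algebraMap C B) with hJ1
    haveI hJ1p : J1.IsPrime :=
      IsLocalization.isPrime_of_isPrime_disjoint q.primeCompl B _ (b.1 : PrimeSpectrum C).isPrime hdisj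
    have hJ1c : J1.comap (algebraMap C B) = (b.1 : PrimeSpectrum C).asIdeal :=
      IsLocalization.under_map_of_isPrime_disjoint q.primeCompl B (b.1 : PrimeSpectrum C).isPrime hdisj
    have hIJ1 : I ≤ J1 := by
      rw [hI, Ideal.map_le_iff_le_comap]
      intro a ha
      rw [Ideal.mem_comap, IsScalarTower.algebraMap_apply A C B]
      apply Ideal.mem_map_of_mem
      have hb2 : f b.1 = f x := b.2
      have hb3 := congrArg (fun z : PrimeSpectrum A => z.asIdeal) hb2
      have hb4 : ((b.1 : PrimeSpectrum C).asIdeal.comap (algebraMap A C)) =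
          q.comap (algebraMap A C) := hb3
      have : a ∈ q.comap (algebraMap A C) := ha
      rw [← hb4] at this
      exact this
    set J := J1.map (Ideal.Quotient.mk I) with hJ
    have hkerle : RingHom.ker (Ideal.Quotient.mk I) ≤ J1 := by
      rw [Ideal.mk_ker]; exact hIJ1
    haveI hJp : J.IsPrime := Ideal.map_isPrime_of_surjective Ideal.Quotient.mk_surjective hkerle
    have hJc : J.comap (Ideal.Quotient.mk I) = J1 := by
      rw [hJ, Ideal.comap_map_of_surjective _ Ideal.Quotient.mk_surjective, ← RingHom.ker_eq_comap_bot]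
      exact sup_eq_left.mpr hkerle
    have hJψ : J.comap ψ = (b.1 : PrimeSpectrum C).asIdeal := by
      rw [← Ideal.comap_comap, hJc, hJ1c]
    let P' : (PrimeSpectrum (B ⧸ I))ᵒᵈ := OrderDual.toDual ⟨J, hJp⟩
    have hg : g2 P' = b := by
      apply Subtype.ext
      apply PrimeSpectrum.ext
      exact hJψ
    refine ⟨P', ?_, hg⟩
    rw [← hg] at hb
    rw [lt_iff_le_not_ge] at hb ⊢
    exact ⟨(hle P P').mp hb.1, fun h' => hb.2 ((hle P' P).mpr h')⟩
  let a0 : (PrimeSpectrum (B ⧸ I))ᵒᵈ := OrderDual.toDual (IsLocalRing.closedPoint (B ⧸ I))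
  have ha0 : g2 a0 = ⟨x, rfl⟩ := by
    apply Subtype.ext
    apply PrimeSpectrum.ext
    show (IsLocalRing.maximalIdeal (B ⧸ I)).comap ψ = q
    ext c
    rw [Ideal.mem_comap, hmem]
  have e1 : Order.coheight (g2 a0) = Order.coheight a0 :=
    le_antisymm (EtDimH8.coheight_le_of_lift g2 hlift a0)
      (Order.coheight_le_coheight_apply_of_strictMono g2 hmono a0)
  have e2 : Order.coheight a0 = (IsLocalRing.maximalIdeal (B ⧸ I)).height := by
    rw [Order.coheight_toDual]
    exact (PrimeSpectrum.height_eq_orderHeight (IsLocalRing.closedPoint (B ⧸ I))).symm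
  rw [← IsLocalRing.maximalIdeal_height_eq_ringKrullDim, ← e2, ← e1, ha0]
  rfl

end Groth.Agent.Lib.FibCohSpecH8
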