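import Mathlib
import Groth.Agent.Lib.CMDecomp3_helper8
import Groth.Agent.Lib.CMDecomp4_helper8
import Groth.Agent.Lib.FibCoh2_helper8
import Groth.Agent.Lib.FibCohSpec_helper8

set_option autoImplicit false
universe u

namespace Groth.Agent.Lib.CMDecompH8

open AlgebraicGeometry CategoryTheory TensorProduct

set_option maxHeartbeats 800000 in
/-- On the factor `S/(1-e)` cut out by an idempotent on whose open set the fibre dimension is
constantly `d`, every irreducible component of every fibre has dimension `d`. -/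
theorem dim_component (R S : Type u) [CommRing R] [CommRing S] [Algebra R S]
    [Algebra.FiniteType R S] (e : S) (he : IsIdempotentElem e) (d : ℕ)
    (hd : ∀ q : PrimeSpectrum S, e ∉ q.asIdeal →
      FlatMor.fibreDimAt (Spec.map (CommRingCat.ofHom (algebraMap R S))) q = (d : WithBot ℕ∞))
    (p : PrimeSpectrum R) (P : Ideal (p.asIdeal.Fiber (S ⧸ Ideal.span {1 - e})))
    (hP : P ∈ minimalPrimes (p.asIdeal.Fiber (S ⧸ Ideal.span {1 - e}))) :
    ringKrullDim (p.asIdeal.Fiber (S ⧸ Ideal.span {1 - e}) ⧸ P) = (d : WithBot ℕ∞) := by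
  set T := S ⧸ Ideal.span {1 - e} with hT
  haveI hPp : P.IsPrime := hP.1.1
  haveI : Algebra.FiniteType R T :=
    Algebra.FiniteType.of_surjective (Ideal.Quotient.mkₐ R _) (Ideal.Quotient.mkₐ_surjective R _)
  set ξ := P.comap (Algebra.TensorProduct.includeRight : T →ₐ[R] p.asIdeal.Fiber T) with hξ
  haveI hξp : ξ.IsPrime := Ideal.comap_isPrime _ _
  haveI hξo : ξ.LiesOver p.asIdeal := inferInstance
  obtain ⟨n, hn1, hn2⟩ := dim_fibre_component_eq_trdeg R T p.asIdeal P ξ rfl
  rw [hn1]
  set Q := ξ.comap (algebraMap S T) with hQ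
  haveI hQp : Q.IsPrime := Ideal.comap_isPrime _ _
  have hmemQ : (1 - e) ∈ Q := by
    rw [hQ, Ideal.mem_comap]
    have : algebraMap S T (1 - e) = 0 := by
      rw [Ideal.Quotient.algebraMap_eq, Ideal.Quotient.eq_zero_iff_mem]
      exact Ideal.subset_span rfl
    rw [this]
    exact zero_mem _
  have heQ : e ∉ Q := by
    intro h
    apply hQp.ne_top
    rw [Ideal.eq_top_iff_one]
    have := Q.add_mem hmemQ h
    simpa using this
  have hQR : Q.comap (algebraMap R S) = p.asIdeal := by
    rw [hQ, Ideal.comap_comap, ← IsScalarTower.algebraMap_eq]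
    exact (Ideal.LiesOver.over (p := p.asIdeal) (P := ξ)).symm
  let x : PrimeSpectrum S := ⟨Q, hQp⟩
  have h1 := hd x heQ
  set f := Spec.map (CommRingCat.ofHom (algebraMap R S)) with hf
  haveI : LocallyOfFiniteType f := by
    rw [hf, HasRingHomProperty.Spec_iff (P := @LocallyOfFiniteType)]
    exact (RingHom.finiteType_algebraMap).mpr inferInstance
  rw [FibCohH8.fibreDimAt_eq f x] at h1
  have h2 : FibCohH8.fibCoh f x = 0 := by
    unfold FibCohH8.fibCoh
    rw [Order.coheight_eq_zero]
    rintro ⟨u', hu'⟩ hle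
    have hs1 : (u' : Spec (CommRingCat.of S)) ⤳ (x : Spec (CommRingCat.of S)) := hle
    rw [Groth.Agent.Lib.FibCohSpecH8.spec_specializes_iff] at hs1
    refine (Groth.Agent.Lib.FibCohSpecH8.spec_specializes_iff (C := S) x u').mpr ?_
    set Q' : Ideal S := (u' : PrimeSpectrum S).asIdeal with hQ'
    haveI hQ'p : Q'.IsPrime := (u' : PrimeSpectrum S).isPrime
    have hQ'Q : Q' ≤ Q := hs1
    show Q ≤ Q'
    have hb3 := congrArg (fun z : PrimeSpectrum R => z.asIdeal) hu'
    have hQ'R : Q'.comap (algebraMap R S) = Q.comap (algebraMap R S) := hb3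
    have heQ' : e ∉ Q' := fun h => heQ (hQ'Q h)
    have hmemQ' : (1 - e) ∈ Q' := by
      have h0 : e * (1 - e) ∈ Q' := by
        rw [mul_sub, mul_one, he.eq, sub_self]; exact zero_mem _
      exact (hQ'p.mem_or_mem h0).resolve_left heQ'
    have hker : RingHom.ker (algebraMap S T) ≤ Q' := by
      rw [Ideal.Quotient.algebraMap_eq, Ideal.mk_ker, Ideal.span_le]
      intro z hz
      rw [Set.mem_singleton_iff] at hz
      rw [hz]; exact hmemQ'
    set ξ' := Q'.map (algebraMap S T) with hξ'
    haveI hξ'p : ξ'.IsPrime :=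
      Ideal.map_isPrime_of_surjective (f := algebraMap S T) Ideal.Quotient.mk_surjective hker
    have hξ'c : ξ'.comap (algebraMap S T) = Q' := by
      rw [hξ', Ideal.comap_map_of_surjective (algebraMap S T) (Ideal.Quotient.mk_surjective),
        ← RingHom.ker_eq_comap_bot]
      exact sup_eq_left.mpr hker
    have hξ'le : ξ' ≤ ξ := by
      rw [hξ', Ideal.map_le_iff_le_comap]
      exact hQ'Q
    haveI hξ'o : ξ'.LiesOver p.asIdeal := by
      refine ⟨?_⟩
      have : ξ'.comap (algebraMap R T) = p.asIdeal := by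
        rw [IsScalarTower.algebraMap_eq R S T, ← Ideal.comap_comap, hξ'c, hQ'R, hQR]
      exact this.symm
    let φ := PrimeSpectrum.primesOverOrderIsoFiber R T p.asIdeal
    let a : p.asIdeal.primesOver T := ⟨ξ, hξp, hξo⟩
    let a' : p.asIdeal.primesOver T := ⟨ξ', hξ'p, hξ'o⟩
    have haa' : a' ≤ a := hξ'le
    have ha : φ.symm ⟨P, hPp⟩ = a := by
      apply Subtype.ext
      rfl
    have h5 : φ a' ≤ ⟨P, hPp⟩ := by
      have := φ.monotone haa'
      rw [← ha, OrderIso.apply_symm_apply] at this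
      exact this
    have h6 : (⟨P, hPp⟩ : PrimeSpectrum (p.asIdeal.Fiber T)) ≤ φ a' := by
      have := hP.2 (y := (φ a').asIdeal) ⟨(φ a').isPrime, bot_le⟩ h5
      exact this
    have h7 : a ≤ a' := by
      have := φ.symm.monotone h6
      rw [ha, OrderIso.symm_apply_apply] at this
      exact this
    have h8 : ξ ≤ ξ' := h7
    rw [← hξ'c, hQ]
    exact Ideal.comap_mono h8
  have h3 : Dual3.resTrdeg f x = Algebra.trdeg (R ⧸ p.asIdeal) (T ⧸ ξ) := by
    haveI : IsLocalization (Submonoid.powers e) T := isLocalization_away_quot e he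
    refine Groth.Agent.Lib.ResTrdegSpecH8.resTrdeg_spec_of_data (A := R) (C := S) (B := T) Q
      (Submonoid.powers e) (Submonoid.powers_le.mpr heQ)
      (Ideal.Quotient.mk p.asIdeal) (Ideal.Quotient.mk ξ) Ideal.Quotient.mk_surjective
      Ideal.Quotient.mk_surjective ?_ ?_ ?_
    · rw [Ideal.mk_ker]
      exact hQR.symm
    · rw [Ideal.mk_ker, hQ]
      exact (Ideal.map_comap_of_surjective (algebraMap S T) Ideal.Quotient.mk_surjective ξ).symm
    · intro a
      rfl
  rw [h2, h3, hn2] at h1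
  simp only [Cardinal.toENat_nat] at h1
  have h4 : ((0 : ℕ∞) : WithBot ℕ∞) + ((n : ℕ∞) : WithBot ℕ∞) = ((d : ℕ∞) : WithBot ℕ∞) := h1
  rw [← WithBot.coe_add, WithBot.coe_inj, zero_add] at h4
  have h5 : n = d := by exact_mod_cast h4
  rw [h5]

end Groth.Agent.Lib.CMDecompH8
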