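import Mathlib
import Groth.Agent.Lib.CMDecomp2_helper8
import Groth.Agent.Lib.CMDecomp3_helper8
import Groth.Agent.Lib.FibCoh2_helper8
import Groth.Agent.Lib.FibCohSpec_helper8
import Groth.Agent.Lib.ResTrdegSpec_helper8

set_option autoImplicit false
universe u

namespace Groth.Agent.Lib.CMDecompH8

open AlgebraicGeometry CategoryTheory TensorProduct

/-- over a field, the fibre rings of a Cohen–Macaulay algebra are Cohen–Macaulay. -/
theorem cm_fibres_of_field (k S : Type u) [Field k] [CommRing S] [Algebra k S]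
    [Algebra.FiniteType k S] [hS : LocCoh.IsCohenMacaulayRing S] (p : PrimeSpectrum k) :
    LocCoh.IsCohenMacaulayRing (p.asIdeal.Fiber S) := by
  haveI : IsNoetherianRing S := Algebra.FiniteType.isNoetherianRing k S
  apply Groth.Agent.FlatCM.isCMRing_fiber_of_fibLocRing k S p.asIdeal
  intro Q hQ hQp
  have h1 : LocCoh.IsCohenMacaulayLocalRing (Localization.AtPrime Q) :=
    hS.isCohenMacaulayLocalRing_localization Q
  have hI : (Q.comap (algebraMap k S)).map (algebraMap k (Localization.AtPrime Q)) = ⊥ := by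
    have : Q.comap (algebraMap k S) = ⊥ :=
      (Ideal.eq_bot_or_top _).resolve_right (Ideal.IsPrime.ne_top inferInstance)
    rw [this, Ideal.map_bot]
  exact Groth.Agent.FlatCM.isCMLocalRing_of_ringEquiv (T := Localization.AtPrime Q)
    ((RingEquiv.quotientBot (Localization.AtPrime Q)).symm.trans (Ideal.quotEquivOfEq hI.symm))

/-- over a field, the fibre dimension at a closed point is the height of the maximal ideal. -/
theorem height_maximal_of_fibreDimAt (k S : Type u) [Field k] [CommRing S] [Algebra k S]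
    [Algebra.FiniteType k S] (Q : Ideal S) [hQ : Q.IsMaximal] (d : ℕ)
    (hd : FlatMor.fibreDimAt (Spec.map (CommRingCat.ofHom (algebraMap k S)))
      (⟨Q, hQ.isPrime⟩ : PrimeSpectrum S) = (d : WithBot ℕ∞)) :
    Q.height = d := by
  set f := Spec.map (CommRingCat.ofHom (algebraMap k S)) with hf
  haveI : LocallyOfFiniteType f := by
    rw [hf, HasRingHomProperty.Spec_iff (P := @LocallyOfFiniteType)]
    exact (RingHom.finiteType_algebraMap).mpr inferInstance
  let x : PrimeSpectrum S := ⟨Q, hQ.isPrime⟩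
  rw [FibCohH8.fibreDimAt_eq f x] at hd
  have h3 : Dual3.resTrdeg f x = 0 := by
    rw [hf, Groth.Agent.Lib.ResTrdegSpecH8.resTrdeg_spec (A := k) (C := S) Q]
    letI : Field (S ⧸ Q) := Ideal.Quotient.field Q
    haveI : Algebra.FiniteType k (S ⧸ Q) :=
      Algebra.FiniteType.of_surjective (Ideal.Quotient.mkₐ k Q) (Ideal.Quotient.mkₐ_surjective k Q)
    haveI : Module.Finite k (S ⧸ Q) := finite_of_finite_type_of_isJacobsonRing k (S ⧸ Q)
    haveI : Algebra.IsAlgebraic k (S ⧸ Q) := Algebra.IsAlgebraic.of_finite k (S ⧸ Q)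
    haveI : Nontrivial (k ⧸ Q.under k) :=
      Ideal.Quotient.nontrivial_iff.mpr (Ideal.IsPrime.ne_top inferInstance)
    haveI : Algebra.IsAlgebraic (k ⧸ Q.under k) (S ⧸ Q) :=
      Algebra.IsAlgebraic.extendScalars (R := k) (S := k ⧸ Q.under k) (A := S ⧸ Q)
        (algebraMap k (k ⧸ Q.under k)).injective
    exact trdeg_eq_zero
  have h2 : ((FibCohH8.fibCoh f x : ℕ∞) : WithBot ℕ∞) = (Q.height : WithBot ℕ∞) := by
    rw [hf, Groth.Agent.Lib.FibCohSpecH8.fibCoh_spec_eq (A := k) (C := S)
      (B := Localization.AtPrime Q) Q]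
    have hI : (Q.under k).map (algebraMap k (Localization.AtPrime Q)) = ⊥ := by
      have : Q.under k = ⊥ :=
        (Ideal.eq_bot_or_top _).resolve_right (Ideal.IsPrime.ne_top inferInstance)
      rw [this, Ideal.map_bot]
    rw [hI, ringKrullDim_eq_of_ringEquiv (RingEquiv.quotientBot (Localization.AtPrime Q)),
      IsLocalization.AtPrime.ringKrullDim_eq_height Q]
  rw [h2, h3] at hd
  simp only [map_zero, WithBot.coe_zero, add_zero] at hd
  have h4 : ((Q.height : ℕ∞) : WithBot ℕ∞) = ((d : ℕ∞) : WithBot ℕ∞) := hd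
  exact WithBot.coe_injective h4

end Groth.Agent.Lib.CMDecompH8
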