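import Mathlib
set_option autoImplicit false
open CategoryTheory AlgebraicGeometry Opposite TopologicalSpace CategoryTheory.Limits
universe u
namespace ClImmH8

/-- pushforward along a topological embedding (e.g. closed immersion) is faithful. -/
theorem pushforward_faithful {S T : Scheme.{u}} (f : S ⟶ T) (hf : Topology.IsInducing f) :
    (Scheme.Modules.pushforward f).Faithful where
  map_injective := by
    intro E E' φ₁ φ₂ h
    ext V : 2
    obtain ⟨U, hU, hUV⟩ := hf.isOpen_iff.mp V.isOpen
    have hV : V = f ⁻¹ᵁ ⟨U, hU⟩ := by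
      ext x
      rw [← hUV]; rfl
    subst hV
    have := congrArg (fun ψ => AddCommGrpCat.Hom.hom (Scheme.Modules.Hom.app ψ ⟨U, hU⟩)) h
    exact this

section
variable {C D : Type*} [Category C] [Category D] [Abelian C] [Abelian D]

theorem epi_kernelComparison (F : C ⥤ D) [F.PreservesZeroMorphisms]
    [PreservesFiniteColimits F] {A B : C} (ψ : A ⟶ B) [Epi ψ] :
    Epi (kernelComparison ψ F) := by
  let S : ShortComplex C := ShortComplex.mk (kernel.ι ψ) ψ (kernel.condition ψ)
  have hS : S.Exact := ShortComplex.exact_kernel ψ
  have hS' : (S.map F).Exact :=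
    hS.map_of_epi_of_preservesCokernel F (inferInstanceAs (Epi ψ)) inferInstance
  have h2 := (ShortComplex.exact_iff_epi_kernel_lift (S.map F)).mp hS'
  have : kernelComparison ψ F = kernel.lift (S.map F).g (S.map F).f (S.map F).zero := by
    apply (cancel_mono (kernel.ι (F.map ψ))).mp
    rw [kernelComparison_comp_ι]
    exact (kernel.lift_ι _ _ _).symm
  rw [this]
  exact h2
end

end ClImmH8
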