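import Mathlib

set_option autoImplicit false
set_option linter.style.haveILetI false
set_option linter.unusedSectionVars false

universe v' u' u

namespace Groth.Agent.Lib.TopEmbPushH4

open CategoryTheory TopologicalSpace Opposite TopCat

variable {Z X : TopCat.{u}} (i : Z ⟶ X)

/-- largest open of `X` whose preimage is inside `W` -/
def R (W : Opens Z) : Opens X := sSup {V | (Opens.map i).obj V ≤ W}

lemma map_R_le (W : Opens Z) : (Opens.map i).obj (R i W) ≤ W := by
  intro z hz
  have hz' : i z ∈ R i W := hz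
  obtain ⟨V, hV, hzV⟩ := Opens.mem_sSup.mp hz'
  exact hV hzV

lemma le_R {V : Opens X} {W : Opens Z} (h : (Opens.map i).obj V ≤ W) : V ≤ R i W :=
  le_sSup h

lemma R_mono {W W' : Opens Z} (h : W' ≤ W) : R i W' ≤ R i W :=
  sSup_le_sSup (fun _ hV => le_trans hV h)

lemma map_R_eq (hi : Topology.IsEmbedding i) (W : Opens Z) :
    (Opens.map i).obj (R i W) = W := by
  apply le_antisymm (map_R_le i W)
  obtain ⟨t, ht, hpre⟩ := hi.isInducing.isOpen_iff.mp W.isOpen
  have hV : (Opens.map i).obj ⟨t, ht⟩ ≤ W := fun z hz => by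
    have h0 : z ∈ i ⁻¹' t := hz
    rw [hpre] at h0; exact h0
  intro z hz
  have h1 : z ∈ i ⁻¹' t := by rw [hpre]; exact hz
  exact (le_R i hV) h1

variable {A : Type u'} [Category.{v'} A]

lemma thin (P : Z.Presheaf A) {U V : (Opens Z)ᵒᵖ} (f g : U ⟶ V) : P.map f = P.map g :=
  congrArg P.map (Quiver.Hom.unop_inj (Subsingleton.elim _ _))

lemma thin2 (P : Z.Presheaf A) {U V V' W : (Opens Z)ᵒᵖ} (f : U ⟶ V) (g : V ⟶ W)
    (f' : U ⟶ V') (g' : V' ⟶ W) : P.map f ≫ P.map g = P.map f' ≫ P.map g' := by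
  rw [← P.map_comp, ← P.map_comp]; exact thin P _ _

section Lift

variable (hi : Topology.IsEmbedding i) (P Q : Z.Presheaf A)
  (α : (Opens.map i).op ⋙ P ⟶ (Opens.map i).op ⋙ Q)

/-- component of the lifted transformation -/
noncomputable def appAux (W : Opens Z) : P.obj (op W) ⟶ Q.obj (op W) :=
  P.map (homOfLE (map_R_eq i hi W).le).op ≫ α.app (op (R i W)) ≫
    Q.map (homOfLE (map_R_eq i hi W).ge).op

lemma appAux_nat {W W' : Opens Z} (g : W' ⟶ W) :
    P.map g.op ≫ appAux i hi P Q α W' = appAux i hi P Q α W ≫ Q.map g.op := by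
  have hle : W' ≤ W := leOfHom g
  let m : op ((Opens.map i).obj (R i W)) ⟶ op ((Opens.map i).obj (R i W')) :=
    ((Opens.map i).map (homOfLE (R_mono i hle))).op
  have hα : P.map m ≫ α.app (op (R i W')) = α.app (op (R i W)) ≫ Q.map m :=
    α.naturality (homOfLE (R_mono i hle)).op
  have h1 : P.map g.op ≫ P.map (homOfLE (map_R_eq i hi W').le).op =
      P.map (homOfLE (map_R_eq i hi W).le).op ≫ P.map m := thin2 P _ _ _ _
  have h3 : Q.map m ≫ Q.map (homOfLE (map_R_eq i hi W').ge).op =
      Q.map (homOfLE (map_R_eq i hi W).ge).op ≫ Q.map g.op := thin2 Q _ _ _ _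
  dsimp only [appAux]
  simp only [Category.assoc]
  rw [reassoc_of% h1, reassoc_of% hα, h3]

/-- the lifted natural transformation -/
noncomputable def lift : P ⟶ Q where
  app W := appAux i hi P Q α W.unop
  naturality W W' f := by
    obtain ⟨W⟩ := W
    obtain ⟨W'⟩ := W'
    exact appAux_nat i hi P Q α f.unop

lemma lift_spec : Functor.whiskerLeft (Opens.map i).op (lift i hi P Q α) = α := by
  apply NatTrans.ext
  funext V
  obtain ⟨V⟩ := V
  show appAux i hi P Q α ((Opens.map i).obj V) = α.app (op V)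
  have hV : V ≤ R i ((Opens.map i).obj V) := le_R i le_rfl
  let n : op ((Opens.map i).obj (R i ((Opens.map i).obj V))) ⟶ op ((Opens.map i).obj V) :=
    ((Opens.map i).map (homOfLE hV)).op
  have hα : P.map n ≫ α.app (op V) = α.app (op (R i ((Opens.map i).obj V))) ≫ Q.map n :=
    α.naturality (homOfLE hV).op
  dsimp only [appAux]
  rw [thin Q (homOfLE (map_R_eq i hi ((Opens.map i).obj V)).ge).op n, ← hα, ← Category.assoc,
    ← P.map_comp, thin P _ (𝟙 _), P.map_id, Category.id_comp]

end Lift

theorem pushforward_full (hi : Topology.IsEmbedding i) :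
    (TopCat.Sheaf.pushforward A i).Full where
  map_surjective {F G} α :=
    ⟨ObjectProperty.homMk (lift i hi F.obj G.obj α.hom), by
      apply ObjectProperty.hom_ext
      exact lift_spec i hi F.obj G.obj α.hom⟩

theorem pushforward_faithful (hi : Topology.IsEmbedding i) :
    (TopCat.Sheaf.pushforward A i).Faithful where
  map_injective {F G} φ ψ h := by
    apply ObjectProperty.hom_ext
    apply NatTrans.ext
    funext W
    obtain ⟨W⟩ := W
    have h1 : φ.hom.app (op ((Opens.map i).obj (R i W))) =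
        ψ.hom.app (op ((Opens.map i).obj (R i W))) :=
      congrArg (fun t => t.hom.app (op (R i W))) h
    have key : ∀ W' : Opens Z, W' = W → φ.hom.app (op W') = ψ.hom.app (op W') →
        φ.hom.app (op W) = ψ.hom.app (op W) := by
      rintro _ rfl h; exact h
    exact key _ (map_R_eq i hi W) h1

theorem stalk_unique (hi : Topology.IsClosedEmbedding i) (F : Z.Sheaf (Type u)) (x : X)
    (hx : x ∉ Set.range i) :
    Nonempty (Unique (((TopCat.Sheaf.pushforward (Type u) i).obj F).presheaf.stalk x)) := by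
  let V₀ : Opens X := ⟨(Set.range i)ᶜ, hi.isClosed_range.isOpen_compl⟩
  have hxV : x ∈ V₀ := hx
  have hbot : ∀ W : Opens X, W ≤ V₀ → (Opens.map i).obj W = ⊥ := by
    intro W hW
    refine le_bot_iff.mp (fun z hz => ?_)
    have h1 : i z ∈ V₀ := hW hz
    exact absurd ⟨z, rfl⟩ h1
  have hsub : ∀ W : Opens X, W ≤ V₀ →
      Subsingleton (((TopCat.Sheaf.pushforward (Type u) i).obj F).presheaf.obj (op W)) := by
    intro W hW
    have hT : Limits.IsTerminal (F.obj.obj (op ((Opens.map i).obj W))) :=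
      F.isTerminalOfEqEmpty (hbot W hW)
    exact (Limits.Types.isTerminalEquivUnique _ hT).instSubsingleton
  have hne : Nonempty (((TopCat.Sheaf.pushforward (Type u) i).obj F).presheaf.obj (op V₀)) :=
    ⟨(Limits.Types.isTerminalEquivUnique _
      (F.isTerminalOfEqEmpty (hbot V₀ le_rfl))).default⟩
  obtain ⟨s₀⟩ := hne
  refine ⟨⟨⟨((TopCat.Sheaf.pushforward (Type u) i).obj F).presheaf.germ V₀ x hxV s₀⟩,
    fun t => ?_⟩⟩
  obtain ⟨U, hxU, s, rfl⟩ :=
    ((TopCat.Sheaf.pushforward (Type u) i).obj F).presheaf.exists_germ_eq t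
  refine TopCat.Presheaf.germ_ext _ (U ⊓ V₀) ⟨hxU, hxV⟩ (homOfLE inf_le_left)
    (homOfLE inf_le_right) ?_
  haveI := hsub (U ⊓ V₀) inf_le_right
  exact Subsingleton.elim _ _

theorem main7572 (hi : Topology.IsClosedEmbedding i) (F : Z.Sheaf (Type u)) :
    (∀ x : X, x ∉ Set.range i →
      Nonempty (Unique (((TopCat.Sheaf.pushforward (Type u) i).obj F).presheaf.stalk x))) ∧
    IsIso ((TopCat.Sheaf.pullbackPushforwardAdjunction (Type u) i).counit.app F) := by
  refine ⟨fun x hx => stalk_unique i hi F x hx, ?_⟩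
  haveI := pushforward_full (A := Type u) i hi.isEmbedding
  haveI := pushforward_faithful (A := Type u) i hi.isEmbedding
  infer_instance

theorem main12443 (hj : Topology.IsOpenEmbedding i) (F : Z.Sheaf (Type u)) :
    IsIso ((TopCat.Sheaf.pullbackPushforwardAdjunction (Type u) i).counit.app F) := by
  haveI := pushforward_full (A := Type u) i hj.isEmbedding
  haveI := pushforward_faithful (A := Type u) i hj.isEmbedding
  infer_instance

end Groth.Agent.Lib.TopEmbPushH4
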