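import Mathlib
import Groth.Agent.Lib.TopEmbPush_helper4
import Groth.Agent.Lib.ClImmFaith_helper8

/-!
# Pushforward of modules along a closed immersion is fully faithful (helper4)
APPEND-ONLY once landed.
-/

set_option autoImplicit false
set_option linter.style.haveILetI false
set_option linter.unusedSectionVars false

universe u

namespace Groth.Agent.Lib.ClFullH4

open CategoryTheory CategoryTheory.Limits AlgebraicGeometry TopologicalSpace Opposite

noncomputable section

variable {Z X : Scheme.{u}} (i : Z ⟶ X) [IsClosedImmersion i] (M N : Z.Modules)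
  (h : (Scheme.Modules.pushforward i).obj M ⟶ (Scheme.Modules.pushforward i).obj N)

lemma isEmbedding : Topology.IsEmbedding i.base :=
  i.isClosedEmbedding.isEmbedding

/-- the underlying map of abelian presheaves on `X` -/
def alpha : (Opens.map i.base).op ⋙ M.presheaf ⟶ (Opens.map i.base).op ⋙ N.presheaf :=
  h.mapPresheaf

/-- the lifted map of abelian presheaves on `Z` -/
def g0 : M.presheaf ⟶ N.presheaf :=
  TopEmbPushH4.lift i.base (isEmbedding i) M.presheaf N.presheaf (alpha i M N h)

lemma g0_app_preimage (V : X.Opens) :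
    (g0 i M N h).app (op (i ⁻¹ᵁ V)) = h.app V := by
  have := congrArg (fun t => t.app (op V))
    (TopEmbPushH4.lift_spec i.base (isEmbedding i) M.presheaf N.presheaf (alpha i M N h))
  exact this

lemma g0_naturality {W W' : Z.Opens} (j : W' ⟶ W) (m : Γ(M, W)) :
    (g0 i M N h).app (op W') (M.presheaf.map j.op m) =
      N.presheaf.map j.op ((g0 i M N h).app (op W) m) :=
  CategoryTheory.congr_fun ((g0 i M N h).naturality j.op) m

lemma push_smul (V : X.Opens) (t : Γ(X, V)) (m : Γ(M, i ⁻¹ᵁ V)) :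
    (t • (show Γ((Scheme.Modules.pushforward i).obj M, V) from m) :
      Γ((Scheme.Modules.pushforward i).obj M, V)) = ((i.app V).hom t • m : Γ(M, i ⁻¹ᵁ V)) := rfl

lemma g0_smul_preimage (V : X.Opens) (hV : IsAffineOpen V) (r : Γ(Z, i ⁻¹ᵁ V))
    (m : Γ(M, i ⁻¹ᵁ V)) :
    (g0 i M N h).app (op (i ⁻¹ᵁ V)) (r • m) = r • (g0 i M N h).app (op (i ⁻¹ᵁ V)) m := by
  obtain ⟨t, rfl⟩ := i.app_surjective V hV r
  rw [g0_app_preimage]
  exact Scheme.Modules.Hom.app_smul h t m

lemma g0_smul (W : Z.Opens) (r : Γ(Z, W)) (m : Γ(M, W)) :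
    (g0 i M N h).app (op W) (r • m) = r • (g0 i M N h).app (op W) m := by
  let F : TopCat.Sheaf Ab Z := ⟨N.presheaf, N.isSheaf⟩
  let ι := {V : X.affineOpens // i ⁻¹ᵁ V.1 ≤ W}
  refine TopCat.Sheaf.eq_of_locally_eq' F (fun V : ι => i ⁻¹ᵁ V.1.1) W
    (fun V => homOfLE V.2) ?_ _ _ ?_
  · intro z hz
    obtain ⟨t, ht, hpre⟩ := (isEmbedding i).isInducing.isOpen_iff.mp W.isOpen
    have hz' : i.base z ∈ t := by
      have : z ∈ i.base ⁻¹' t := by rw [hpre]; exact hz
      exact this
    obtain ⟨_, ⟨V, hV, rfl⟩, hzV, hVt⟩ := X.isBasis_affineOpens.exists_subset_of_mem_open hz' ht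
    have hVW : i ⁻¹ᵁ (⟨V, hV⟩ : X.affineOpens).1 ≤ W := by
      intro y hy
      have : y ∈ i.base ⁻¹' t := hVt hy
      rw [hpre] at this
      exact this
    exact Opens.mem_iSup.mpr ⟨⟨⟨V, hV⟩, hVW⟩, hzV⟩
  · intro V
    show N.presheaf.map (homOfLE V.2).op ((g0 i M N h).app (op W) (r • m)) =
      N.presheaf.map (homOfLE V.2).op (r • (g0 i M N h).app (op W) m)
    rw [← g0_naturality, Scheme.Modules.map_smul, Scheme.Modules.map_smul, ← g0_naturality]
    exact g0_smul_preimage i M N h V.1.1 V.1.2 _ _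

/-- the lifted morphism of modules on `Z` -/
def liftHom : M ⟶ N :=
  ⟨PresheafOfModules.homMk (g0 i M N h) (fun W r m => g0_smul i M N h W.unop r m)⟩

lemma liftHom_app (W : Z.Opens) : (liftHom i M N h).app W = (g0 i M N h).app (op W) := rfl

lemma pushforward_map_liftHom : (Scheme.Modules.pushforward i).map (liftHom i M N h) = h := by
  apply Scheme.Modules.hom_ext
  intro V
  rw [Scheme.Modules.pushforward_map_app, liftHom_app]
  exact g0_app_preimage i M N h V

end

instance full_pushforward {Z X : Scheme.{u}} (i : Z ⟶ X) [IsClosedImmersion i] :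
    (Scheme.Modules.pushforward i).Full where
  map_surjective {M N} h := ⟨liftHom i M N h, pushforward_map_liftHom i M N h⟩

instance faithful_pushforward {Z X : Scheme.{u}} (i : Z ⟶ X) [IsClosedImmersion i] :
    (Scheme.Modules.pushforward i).Faithful :=
  ClImmH8.pushforward_faithful i (isEmbedding i).isInducing

instance isIso_counit {Z X : Scheme.{u}} (i : Z ⟶ X) [IsClosedImmersion i] (M : Z.Modules) :
    IsIso ((Scheme.Modules.pullbackPushforwardAdjunction i).counit.app M) := by
  infer_instance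

end Groth.Agent.Lib.ClFullH4
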