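import Mathlib
import Groth.Prelude
import Groth.Agent.Lib.SheafHomLF3_helper9
import Groth.Agent.Lib.CMDual2_helper4
import Groth.Agent.Lib.CIsec2_helper9

/-!
# Duality for finite locally free modules on Cohen–Macaulay projective schemes (helper4)

* `ringKrullDim_stalk_of_equidim`: closed points of an equidimensional finite type scheme;
* `main11316`: Hartshorne III.7.7.
APPEND-ONLY once landed.
-/

set_option autoImplicit false
set_option linter.style.haveILetI false
universe u
open CategoryTheory CategoryTheory.Limits AlgebraicGeometry Opposite Abelian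

namespace Groth.Agent.Lib.CMDualH4

section Dim

/-- on an equidimensional scheme of finite type over a field, the local rings at the closed
points have the dimension of the scheme -/
theorem ringKrullDim_stalk_of_equidim (k : Type u) [Field k] {X : Scheme.{u}}
    [X.Over (Spec (CommRingCat.of k))] [LocallyOfFiniteType (X ↘ Spec (CommRingCat.of k))] (n : ℕ)
    (heq : ∀ Z : Set ↥X, Z ∈ irreducibleComponents ↥X →
      topologicalKrullDim ↥Z = (n : WithBot ℕ∞))
    (x : X) (hx : IsClosed ({x} : Set ↥X)) : ringKrullDim (X.presheaf.stalk x) = n := by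
  obtain ⟨ξ, -, hmax, hh⟩ := LocDimProdH8.exists_max_height_eq k X x
  have h1 := (Groth.Agent.SchFTH8.closure_mem_irreducibleComponents_iff ξ).mpr hmax
  have h2 := heq _ h1
  rw [Groth.Agent.ClosHtH8.topologicalKrullDim_closure_singleton X ξ] at h2
  have h3 : Order.height x = 0 := by
    rw [Order.height_eq_zero]
    intro y hy
    have hy' : x ⤳ y := hy
    have hmem : y ∈ closure ({x} : Set X) := specializes_iff_mem_closure.mp hy'
    rw [hx.closure_eq, Set.mem_singleton_iff] at hmem
    rw [hmem]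
  rw [h3, add_zero] at hh
  rw [AlgebraicGeometry.ringKrullDim_stalk_eq_coheight, ← hh]
  exact h2

end Dim

section Main

open Groth.Agent.ProjDual

variable (N : ℕ) (k : Type u) [Field k] {X : Scheme.{u}} [X.Over (Spec (CommRingCat.of k))]
  (ι : X ⟶ CohB1.ProjSpace N k) [IsClosedImmersion ι]
  (hι : ι ≫ CohB1.ProjSpace.toSpec N k = X ↘ Spec (CommRingCat.of k))
  (n : ℕ) (hn : topologicalKrullDim ↥X = n)

include ι hι hn in
/-- Hartshorne III.7.7: `H^i(X, F)^∨ ≅ H^{n-i}(X, Hom(F, ω))` for `F` finite locally free on a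
Cohen–Macaulay equidimensional closed subscheme of projective space. -/
theorem main11316
    (hCM : ∀ x : X, LocCoh.IsCohenMacaulayLocalRing (X.presheaf.stalk x))
    (heq : ∀ Z : Set ↥X, Z ∈ irreducibleComponents ↥X →
      topologicalKrullDim ↥Z = (n : WithBot ℕ∞))
    (ω : X.Modules) (hω : Coh.IsCoh ω) (t : Coh.HH X ω n →ₗ[k] k)
    (hdual : ∀ F : X.Modules, Coh.IsCoh F → DInj n t F ∧ DSurj n t F)
    (F : X.Modules) (hF : FlatMod.IsFinLocFree F) [DCoh.HasSheafHom F] (i : ℕ) (hi : i ≤ n) :
    Nonempty (Module.Dual k (Coh.HH X F i) ≃ₗ[k]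
      Coh.HH X ((DCoh.sheafHom F).obj ω) (n - i)) := by
  haveI : IsProper (CohB1.ProjSpace.toSpec N k) :=
    Groth.Agent.Lib.ProjSpaceProperH4.isProper_toSpec N k
  haveI : LocallyOfFiniteType (X ↘ Spec (CommRingCat.of k)) := by
    rw [← hι]
    infer_instance
  haveI := Groth.Agent.ExtDual.enoughInjectives_modules X
  haveI : HasExt.{u} X.Modules := hasExt_of_enoughInjectives.{u} X.Modules
  have hCM' : ∀ x : X, IsClosed ({x} : Set ↥X) →
      LocCoh.IsCohenMacaulayLocalRing (X.presheaf.stalk x) ∧
        ringKrullDim (X.presheaf.stalk x) = n :=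
    fun x hx => ⟨hCM x, ringKrullDim_stalk_of_equidim k n heq x hx⟩
  haveI hqc := FLFH8.isQuasicoherent_of_finLocFree F hF
  haveI hfp := FLFH8.isFinitePresentation_of_finLocFree F hF
  have hFc : Coh.IsCoh F := ⟨inferInstance, inferInstance⟩
  obtain ⟨e⟩ := (ext_dual N k ι hι n hn hCM' ω hω t hdual F hFc).1 (n - i) (Nat.sub_le n i)
  obtain ⟨e'⟩ := SheafHomLFH9.nonempty_ext_linearEquiv_HH (A := k) F ω hF (n - i)
  have h1 : n - (n - i) = i := Nat.sub_sub_self hi
  rw [h1] at e
  exact ⟨e.symm.trans e'⟩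

end Main

end Groth.Agent.Lib.CMDualH4
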