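import Mathlib
import Groth.Prelude.Def_CAlg
import Groth.Prelude.Def_Wider
import Groth.Agent.Lib.DMod75_helper6
import Groth.Agent.Lib.DMod98_helper6
import Groth.Agent.Lib.SemiSk_helper6
import Groth.Agent.Lib.DepthRingChange_helper5

/-!
# Cohen–Macaulay locus of quotients of rings with a dualizing complex (helper6)

For a surjection `P → S` of Noetherian rings, `S_q` is a CM local ring iff `S_Q` is a CM
`P_Q`-module (`Q = q ∩ P`).  Hence the CM locus of `S` is open when `P` has a dualizing complex,
e.g. for finite type algebras over a field.
-/

set_option autoImplicit false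
universe u

namespace Groth.Agent.Lib.CMFT_helper6

open Groth.Agent.Lib.DMod_helper6

section

variable {P S : Type u} [CommRing P] [CommRing S] [IsNoetherianRing P] [IsNoetherianRing S]
  [Algebra P S]

theorem cm_iff (hs : Function.Surjective (algebraMap P S)) (q : Ideal S) [q.IsPrime] :
    LocCoh.IsCohenMacaulayLocalRing (Localization.AtPrime q) ↔
      (Subsingleton (LocalizedModule (q.comap (algebraMap P S)).primeCompl S) ∨
        LocCoh.IsCohenMacaulayModule (Localization.AtPrime (q.comap (algebraMap P S)))
          (LocalizedModule (q.comap (algebraMap P S)).primeCompl S)) := by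
  set Q : Ideal P := q.comap (algebraMap P S) with hQ
  haveI : IsNoetherianRing (Localization.AtPrime Q) :=
    IsLocalization.isNoetherianRing Q.primeCompl _ inferInstance
  haveI : IsNoetherianRing (Localization.AtPrime q) :=
    IsLocalization.isNoetherianRing q.primeCompl _ inferInstance
  letI algAB : Algebra (Localization.AtPrime Q) (Localization.AtPrime q) :=
    (Localization.localRingHom Q q (algebraMap P S) rfl).toAlgebra
  haveI : IsLocalHom (algebraMap (Localization.AtPrime Q) (Localization.AtPrime q)) :=
    (Localization.isLocalHom_localRingHom Q q (algebraMap P S) rfl :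
      IsLocalHom (Localization.localRingHom Q q (algebraMap P S) rfl))
  have hsurj : Function.Surjective (algebraMap (Localization.AtPrime Q) (Localization.AtPrime q)) :=
    RingHom.surjective_localRingHom_of_surjective (algebraMap P S) hs q
  haveI : Module.Finite (Localization.AtPrime Q) (Localization.AtPrime q) :=
    Module.Finite.of_surjective (Algebra.linearMap _ _) hsurj
  -- depth
  have hdepth : LocCoh.depth (Localization.AtPrime Q) (Localization.AtPrime q) =
      LocCoh.depth (Localization.AtPrime q) (Localization.AtPrime q) :=
    Groth.Agent.DepthLib.depth_eq_of_isLocalHom _ _ _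
  -- dimension
  have hann : Module.annihilator (Localization.AtPrime Q) (Localization.AtPrime q) =
      RingHom.ker (algebraMap (Localization.AtPrime Q) (Localization.AtPrime q)) := by
    ext a
    rw [Module.mem_annihilator, RingHom.mem_ker]
    constructor
    · intro h
      have := h 1
      rwa [Algebra.smul_def, mul_one] at this
    · intro h b
      rw [Algebra.smul_def, h, zero_mul]
  have hdim : Module.supportDim (Localization.AtPrime Q) (Localization.AtPrime q) =
      Module.supportDim (Localization.AtPrime q) (Localization.AtPrime q) := by
    rw [Module.supportDim_eq_ringKrullDim_quotient_annihilator, hann,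
      Module.supportDim_self_eq_ringKrullDim]
    exact ringKrullDim_eq_of_ringEquiv (RingHom.quotientKerEquivOfSurjective hsurj)
  -- the comparison iso
  haveI : IsScalarTower P (Localization.AtPrime Q) (Localization.AtPrime q) :=
    IsScalarTower.of_algebraMap_eq (fun x => by
      rw [IsScalarTower.algebraMap_apply P S (Localization.AtPrime q) x]
      exact (Localization.localRingHom_to_map Q q (algebraMap P S) rfl x).symm)
  have hmon : Algebra.algebraMapSubmonoid S Q.primeCompl = q.primeCompl :=
    Submonoid.map_comap_eq_of_surjective hs q.primeCompl
  haveI : IsLocalization (Algebra.algebraMapSubmonoid S Q.primeCompl) (Localization.AtPrime q) := by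
    rw [hmon]; exact Localization.isLocalization
  let e0 : LocalizedModule Q.primeCompl S ≃ₗ[P] Localization.AtPrime q :=
    IsLocalizedModule.iso Q.primeCompl (IsScalarTower.toAlgHom P S (Localization.AtPrime q)).toLinearMap
  let e1 : LocalizedModule Q.primeCompl S ≃ₗ[Localization.AtPrime Q] Localization.AtPrime q :=
    e0.extendScalarsOfIsLocalization Q.primeCompl (Localization.AtPrime Q)
  have hdimQ : Module.supportDim (Localization.AtPrime Q) (LocalizedModule Q.primeCompl S) =
      Module.supportDim (Localization.AtPrime Q) (Localization.AtPrime q) :=
    Module.supportDim_eq_of_equiv e1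
  have hdepthQ : LocCoh.depth (Localization.AtPrime Q) (LocalizedModule Q.primeCompl S) =
      LocCoh.depth (Localization.AtPrime Q) (Localization.AtPrime q) := by
    apply le_antisymm
    · exact Groth.Agent.Lib.SemiSk_helper6.depth_le (RingEquiv.refl _) e1.toAddEquiv
        (fun r m => by simp)
    · exact Groth.Agent.Lib.SemiSk_helper6.depth_le (RingEquiv.refl _) e1.symm.toAddEquiv
        (fun r m => by simp)
  constructor
  · intro h
    right
    unfold LocCoh.IsCohenMacaulayModule
    rw [hdimQ, hdepthQ, hdim, hdepth]
    exact h.supportDim_eq_depth
  · rintro (h | h)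
    · exfalso
      haveI : Subsingleton (Localization.AtPrime q) := e1.symm.toEquiv.subsingleton
      exact not_subsingleton (Localization.AtPrime q) inferInstance
    · unfold LocCoh.IsCohenMacaulayModule at h
      rw [hdimQ, hdepthQ, hdim, hdepth] at h
      exact { supportDim_eq_depth := h }

/-- CM locus of a quotient of a ring with a dualizing complex is open. -/
theorem isOpen_cm_of_surjective (ω : Dual.D P) (hω : Dual.IsDualizing P ω)
    (hs : Function.Surjective (algebraMap P S)) :
    IsOpen {q : PrimeSpectrum S |
      LocCoh.IsCohenMacaulayLocalRing (Localization.AtPrime q.asIdeal)} := by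
  haveI : Module.Finite P S := Module.Finite.of_surjective (Algebra.linearMap P S) hs
  have hopen := (isOpen_cm_locus_module_and_dense ω S hω).1
  have hcont := PrimeSpectrum.continuous_comap (algebraMap P S)
  convert hopen.preimage hcont using 1
  ext q
  exact cm_iff hs q.asIdeal

end

theorem isOpen_cm_finiteType (k S : Type u) [Field k] [CommRing S] [Algebra k S]
    [Algebra.FiniteType k S] :
    IsOpen {q : PrimeSpectrum S |
      LocCoh.IsCohenMacaulayLocalRing (Localization.AtPrime q.asIdeal)} := by
  obtain ⟨n, f, hf⟩ := Algebra.FiniteType.iff_quotient_mvPolynomial''.mp ‹Algebra.FiniteType k S›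
  letI : Algebra (MvPolynomial (Fin n) k) S := f.toRingHom.toAlgebra
  haveI : IsNoetherianRing S := Algebra.FiniteType.isNoetherianRing k S
  have hs : Function.Surjective (algebraMap (MvPolynomial (Fin n) k) S) := hf
  have hdim : ringKrullDim (MvPolynomial (Fin n) k) < ⊤ := by
    rw [MvPolynomial.ringKrullDim_of_isNoetherianRing, ringKrullDim_eq_zero_of_field, zero_add]
    exact WithBot.coe_lt_coe.2 (ENat.coe_lt_top _)
  have hω : Dual.IsDualizing (MvPolynomial (Fin n) k)
      (Dual.inD (MvPolynomial (Fin n) k) (MvPolynomial (Fin n) k)) :=
    isDualizing_self_of_regular (fun p => inferInstance) hdim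
  exact isOpen_cm_of_surjective _ hω hs

end Groth.Agent.Lib.CMFT_helper6
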