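import Mathlib
import Groth.Prelude.Def_DRing2
import Groth.Prelude.Def_DDual2
import Groth.Prelude.Def_Wider
import Groth.Prelude.Def_DualSh
import Groth.Agent.Lib.DMod83_helper6
import Groth.Agent.Lib.DMod103_helper6

/-!
# Lower bound for the cohomology of `φ^!(R)` (helper6), part 1: from a nonzero localized cohomology
module of a right adjoint of restriction of scalars to a morphism in `D(P)` which is not killed by
any element outside the prime.
-/

set_option autoImplicit false
universe u
open CategoryTheory CategoryTheory.Limits DerivedCategory Pretriangulated ZeroObject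
attribute [local instance] HasDerivedCategory.standard

namespace Groth.Agent.Lib.ShriekLowH6

open DRing Groth.Agent.Lib.DMod_helper6

section Step1a

variable {B : Type u} [CommRing B]

/-- a nonzero localized cohomology module `H^j(X)_q` is witnessed by a morphism `B[-j] → X`
which is not killed by any `s ∉ q`. -/
theorem exists_hom_of_nontrivial_localized_HD (X : Dual.D B) (q : Ideal B) [q.IsPrime] (j : ℤ)
    (h : Nontrivial (LocalizedModule q.primeCompl (Dual.HD B X j))) :
    ∃ g : toD ((HomologicalComplex.single (ModuleCat.{u} B) (ComplexShape.up ℤ) j).obj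
        (ModuleCat.of B B)) ⟶ X, ∀ s : B, s ∉ q → s • g ≠ 0 := by
  have h1 : ¬ Subsingleton (LocalizedModule q.primeCompl (Dual.HD B X j)) :=
    not_subsingleton_iff_nontrivial.2 h
  rw [LocalizedModule.subsingleton_iff] at h1
  push Not at h1
  obtain ⟨x, hx⟩ := h1
  let C : Cx B := Q.objPreimage X
  let e : toD C ≅ X := Q.objObjPreimageIso X
  let M : ModuleCat.{u} B := ModuleCat.of B B
  haveI : Projective M :=
    (IsProjective.iff_projective (R := B) B).1 (inferInstance : Module.Projective B B)
  let ι : C.homology j ≅ (DerivedCategory.homologyFunctor (ModuleCat.{u} B) j).obj X :=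
    ((homologyFunctorFactors (ModuleCat.{u} B) j).app C).symm ≪≫
      (DerivedCategory.homologyFunctor _ j).mapIso e
  let x' : C.homology j := ι.inv.hom x
  have hxx' : ι.hom.hom x' = x := by
    show ι.hom.hom (ι.inv.hom x) = x
    rw [← ModuleCat.comp_apply, Iso.inv_hom_id]
    rfl
  let v : M ⟶ C.homology j := ModuleCat.ofHom (LinearMap.toSpanSingleton B _ x')
  let w : M ⟶ C.cycles j := Projective.factorThru v (C.homologyπ j)
  have hw : w ≫ C.homologyπ j = v := Projective.factorThru_comp _ _
  refine ⟨cycLin e j w, fun s hs hsg => ?_⟩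
  have h0 : cycLin e j (s • w) = 0 := by rw [map_smul, hsg]
  have h2 := cycLin_ker_le e j (s • w) h0
  rw [Linear.smul_comp, hw] at h2
  have h3 : (s • v).hom (1 : B) = s • x' := by
    show s • (LinearMap.toSpanSingleton B _ x') 1 = s • x'
    rw [LinearMap.toSpanSingleton_apply, one_smul]
  rw [h2] at h3
  have h4 : s • x = 0 := by
    rw [← hxx', ← map_smul, ← h3]
    simp
  exact hx s hs h4

end Step1a

section Step1c

variable {A B : Type u} [CommRing A] [CommRing B] {φ : A →+* B}

/-- transfer along the adjunction: a morphism `Y → R(K)` not killed by `φ(t)`, `t ∉ φ⁻¹(q)`, gives a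
morphism `res(Y) → K` not killed by any `t ∉ φ⁻¹(q)`. -/
theorem exists_hom_restrict_of_hom_rightAdjoint (R : Dual.D A ⥤ Dual.D B)
    (adj : restrictD φ ⊣ R) (Y : Dual.D B) (K : Dual.D A) (q : Ideal B)
    (g : Y ⟶ R.obj K) (hg : ∀ s : B, s ∉ q → s • g ≠ 0) :
    ∃ f : (restrictD φ).obj Y ⟶ K, ∀ t : A, t ∉ q.comap φ → t • f ≠ 0 := by
  refine ⟨(adj.homEquiv Y K).symm g, fun t ht h0 => ?_⟩
  have h1 : (adj.homEquiv Y K).symm (φ t • g) = 0 := by
    rw [homEquiv_symm_smul, h0]
  have h2 : φ t • g = 0 := by
    apply (adj.homEquiv Y K).symm.injective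
    rw [h1, homEquiv_symm_zero]
  exact hg (φ t) (fun hc => ht (Ideal.mem_comap.2 hc)) h2

end Step1c

end Groth.Agent.Lib.ShriekLowH6
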