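import Mathlib
import Groth.Prelude.Def_DRing2
import Groth.Prelude.Def_DDual2
import Groth.Prelude.Def_Wider
import Groth.Prelude.Def_DualSh
import Groth.Agent.Lib.DMod59_helper6
import Groth.Agent.Lib.DMod79_helper6
import Groth.Agent.Lib.DMod101_helper6
import Groth.Agent.Lib.ShriekLow1_helper6

/-!
# Lower bound for the cohomology of `φ^!(R)` (helper6), part 4: from a morphism
`(P/I)[-j] → P` in `D(P)` not killed by any element outside `Q` to a nonzero
`Ext^j_{P_Q}(P_Q/IP_Q, P_Q)`.
-/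

set_option autoImplicit false
universe u
open CategoryTheory CategoryTheory.Limits DerivedCategory Pretriangulated ZeroObject
open scoped TensorProduct
attribute [local instance] HasDerivedCategory.standard

namespace Groth.Agent.Lib.ShriekLowH6

open DRing Groth.Agent.Lib.DMod_helper6 Groth.Agent.ExtendScalarsLib

section Loc

variable {P : Type u} [CommRing P]

/-- a morphism from a pseudo-coherent object to a bounded below one which is not killed by any
element outside `Q` stays nonzero in `D(P_Q)`. -/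
theorem bcD_map_ne_zero (Q : Ideal P) [Q.IsPrime] (K L : Dual.D P)
    (hK : IsPseudoCoherent' P K) (a : ℤ) [DerivedCategory.IsGE L a] (f : K ⟶ L)
    (hf : ∀ t : P, t ∉ Q → t • f ≠ 0) :
    (bcD P (Localization.AtPrime Q)).map f ≠ 0 := by
  intro h0
  obtain ⟨s, hs⟩ := (locHom (B := Localization.AtPrime Q) Q.primeCompl K L hK a).2 f h0
  exact hf s s.2 hs

end Loc

section Shift

variable {B : Type u} [CommRing B]

/-- `Hom(X[-j], Y) = 0` as soon as `Hom(X, Y[j]) = 0`. -/
lemma subsingleton_hom_shift_neg {X Y : Dual.D B} (j : ℤ) (hs : Subsingleton (X ⟶ Y⟦j⟧)) :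
    Subsingleton (X⟦-j⟧ ⟶ Y) := by
  have e1 : (X⟦-j⟧)⟦j⟧ ≅ X := (shiftFunctorCompIsoId (Dual.D B) (-j) j (by omega)).app X
  have h1 : Subsingleton ((X⟦-j⟧)⟦j⟧ ⟶ Y⟦j⟧) :=
    (Iso.homCongr e1 (Iso.refl (Y⟦j⟧))).subsingleton
  have h2 : Subsingleton (X⟦-j⟧ ⟶ Y⟦(0 : ℤ)⟧) :=
    subsingleton_hom_of_shift j j 0 (by omega) h1
  exact (Iso.homCongr (Iso.refl (X⟦-j⟧)) ((shiftFunctorZero (Dual.D B) ℤ).app Y).symm).subsingleton

/-- negative Ext groups between modules vanish. -/
lemma subsingleton_hom_inD_shift_of_neg (M N : Type u) [AddCommGroup M] [Module B M]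
    [AddCommGroup N] [Module B N] (j : ℤ) (hj : j < 0) :
    Subsingleton (Dual.inD B M ⟶ (Dual.inD B N)⟦j⟧) := by
  refine subsingleton_of_forall_eq 0 (fun f => ?_)
  haveI : DerivedCategory.IsGE ((Dual.inD B N)⟦j⟧) (-j) :=
    TStructure.t.isGE_shift (Dual.inD B N) 0 j (-j) (by omega)
  exact TStructure.t.zero_of_isLE_of_isGE f 0 (-j) (by omega) inferInstance inferInstance

end Shift

end Groth.Agent.Lib.ShriekLowH6
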