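import Mathlib
import Groth.Prelude.Def_DRing2
import Groth.Prelude.Def_DDual2
import Groth.Prelude.Def_Wider
import Groth.Prelude.Def_CAlg
import Groth.Prelude.Def_EGA4b
import Groth.Agent.Lib.DMod105_helper6
import Groth.Agent.Lib.DMod97_helper6
import Groth.Agent.Lib.DMod30_helper6
import Groth.Agent.Lib.ShriekLow4_helper6

/-!
# Cohen–Macaulay fibres and `φ^!` (helper6), part 1: the dimension function of a dualizing complex
normalized at the maximal ideals, and the Cohen–Macaulay + equidimensional criterion.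
-/

set_option autoImplicit false
set_option linter.style.haveILetI false
set_option linter.unusedSectionVars false
set_option linter.unusedVariables false
universe u
open CategoryTheory CategoryTheory.Limits DerivedCategory Pretriangulated ZeroObject
open scoped Pointwise TensorProduct
attribute [local instance] HasDerivedCategory.standard

namespace Groth.Agent.Lib.CMFibH6

open DRing Groth.Agent.ExtendScalarsLib Groth.Agent.Lib.DMod_helper6

section DimFun

variable {A : Type u} [CommRing A] [IsNoetherianRing A] (ω : Dual.D A)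

/-- For a dualizing complex normalized at every maximal ideal, the normalizing shift at a prime
`p` is `- coheight p`. -/
theorem normalizing_shift_eq_neg_coheight (hω : Dual.IsDualizing A ω)
    (hnorm : ∀ (m : Ideal A) (_ : m.IsMaximal) (i : ℤ), i ≠ 0 →
      Subsingleton (Dual.inD A (A ⧸ m) ⟶ ω⟦i⟧))
    (p : PrimeSpectrum A) (ν₀ : ℤ)
    (hν₀ : Dual.IsNormalized (Localization.AtPrime p.asIdeal) ((locD ω p.asIdeal)⟦ν₀⟧))
    (m : ℕ) (hm : Order.coheight p = (m : ℕ∞)) : ν₀ = -(m : ℤ) := by
  have hex : ∀ p : PrimeSpectrum A, ∃ n : ℤ,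
      Dual.IsNormalized (Localization.AtPrime p.asIdeal) ((locD ω p.asIdeal)⟦n⟧) :=
    fun p => exists_isNormalized_locD_shift ω p.asIdeal hω
  choose ν hν using hex
  have key' : ∀ (p : PrimeSpectrum A) (n : ℤ)
      (_ : Dual.IsNormalized (Localization.AtPrime p.asIdeal) ((locD ω p.asIdeal)⟦n⟧)) (i : ℤ),
      p ∈ Module.support A (Dual.inD A (A ⧸ p.asIdeal) ⟶ ω⟦i⟧) ↔ i = n := by
    intro p n hn i
    haveI := isNoetherianRing_atPrime p.asIdeal
    exact (mem_support_hom_quot_iff ω p.asIdeal hω i).trans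
      (nontrivial_hom_residueField_iff _ (isDualizing_locD ω p.asIdeal hω) n hn i)
  have key : ∀ (p : PrimeSpectrum A) (i : ℤ),
      p ∈ Module.support A (Dual.inD A (A ⧸ p.asIdeal) ⟶ ω⟦i⟧) ↔ i = ν p :=
    fun p i => key' p (ν p) (hν p) i
  have F1 : ∀ p q : PrimeSpectrum A, p ⋖ q → ν p = ν q - 1 := fun p q hpq =>
    normalizing_shift_covBy ω hω p q hpq (ν p) (ν q) ((key p (ν p)).2 rfl) (hν q)
  have hmax : ∀ p : PrimeSpectrum A, IsMax p → ν p = 0 := by
    intro p hp
    by_contra hne
    have hs := hnorm p.asIdeal (PrimeSpectrum.isMax_iff.1 hp) (ν p) hne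
    have hnt := nontrivial_of_mem_support ((key p (ν p)).2 rfl)
    exact (not_subsingleton_iff_nontrivial.2 hnt) hs
  have G2 : ∀ m : ℕ, ∀ p : PrimeSpectrum A, Order.coheight p = (m : ℕ∞) → ν p = -(m : ℤ) := by
    intro m
    induction m with
    | zero =>
      intro p hp
      have hmx : IsMax p := by simpa using hp
      rw [hmax p hmx]; simp
    | succ m ih =>
      intro p hp
      have hp' : Order.coheight p = (m : ℕ∞) + 1 := by simpa using hp
      obtain ⟨-, ⟨q, hpq, hq⟩, hall⟩ := Order.coheight_eq_coe_add_one_iff.1 hp'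
      have hcov : p ⋖ q := by
        refine ⟨hpq, fun c hpc hcq => ?_⟩
        have h1 := Order.coheight_add_one_le hcq
        have h2 := hall c hpc
        rw [hq] at h1
        have h3 : ((m + 1 : ℕ) : ℕ∞) ≤ (m : ℕ∞) := by
          push_cast
          exact le_trans h1 h2
        have h4 : m + 1 ≤ m := by exact_mod_cast h3
        omega
      have h5 := F1 p q hcov
      have h6 := ih q hq
      push_cast
      omega
  have h1 : ν₀ = ν p := ((key' p ν₀ hν₀ (ν p)).1 ((key p (ν p)).2 rfl)).symm
  rw [h1]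
  exact G2 m p hm

/-- For a dualizing complex normalized at every maximal ideal over a ring all of whose minimal
primes have coheight `n`, the normalizing shift at a prime of height `h` is `-n + h`. -/
theorem normalizing_shift_eq_of_height (hω : Dual.IsDualizing A ω)
    (hnorm : ∀ (m : Ideal A) (_ : m.IsMaximal) (i : ℤ), i ≠ 0 →
      Subsingleton (Dual.inD A (A ⧸ m) ⟶ ω⟦i⟧))
    (n : ℕ) (hmin : ∀ Q : PrimeSpectrum A, Q.asIdeal ∈ minimalPrimes A →
      Order.coheight Q = (n : ℕ∞)) :
    ∀ (h : ℕ) (p : PrimeSpectrum A) (ν₀ : ℤ)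
      (_ : Dual.IsNormalized (Localization.AtPrime p.asIdeal) ((locD ω p.asIdeal)⟦ν₀⟧)),
      Order.height p = (h : ℕ∞) → ν₀ = -(n : ℤ) + h := by
  have key' : ∀ (p : PrimeSpectrum A) (n : ℤ)
      (_ : Dual.IsNormalized (Localization.AtPrime p.asIdeal) ((locD ω p.asIdeal)⟦n⟧)) (i : ℤ),
      p ∈ Module.support A (Dual.inD A (A ⧸ p.asIdeal) ⟶ ω⟦i⟧) ↔ i = n := by
    intro p n hn i
    haveI := isNoetherianRing_atPrime p.asIdeal
    exact (mem_support_hom_quot_iff ω p.asIdeal hω i).trans
      (nontrivial_hom_residueField_iff _ (isDualizing_locD ω p.asIdeal hω) n hn i)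
  intro h
  induction h with
  | zero =>
    intro p ν₀ hν₀ hp
    have hmin' : IsMin p := by simpa using hp
    have hmem : p.asIdeal ∈ minimalPrimes A := PrimeSpectrum.isMin_iff.1 hmin'
    have h3 := normalizing_shift_eq_neg_coheight ω hω hnorm p ν₀ hν₀ n (hmin p hmem)
    rw [h3]; simp
  | succ m ih =>
    intro p ν₀ hν₀ hp
    have hp' : Order.height p = (m : ℕ∞) + 1 := by simpa using hp
    obtain ⟨-, ⟨q, hqp, hq⟩, hall⟩ := Order.height_eq_coe_add_one_iff.1 hp'
    have hcov : q ⋖ p := by
      refine ⟨hqp, fun c hqc hcp => ?_⟩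
      have h1 := Order.height_add_one_le hqc
      have h2 := hall c hcp
      rw [hq] at h1
      have h3 : ((m + 1 : ℕ) : ℕ∞) ≤ (m : ℕ∞) := by
        push_cast
        exact le_trans h1 h2
      have h4 : m + 1 ≤ m := by exact_mod_cast h3
      omega
    obtain ⟨νq, hνq⟩ := exists_isNormalized_locD_shift ω q.asIdeal hω
    have h5 := normalizing_shift_covBy ω hω q p hcov νq ν₀ ((key' q νq hνq νq).2 rfl) hν₀
    have h6 := ih q νq hνq hq
    push_cast
    omega

/-- **Cohen–Macaulay + equidimensional criterion.** Let `ω` be a dualizing complex of `A`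
normalized at every maximal ideal. Then `A` is Cohen–Macaulay with all minimal primes of coheight
`n` iff `ω` has cohomology only in degree `-n`. -/
theorem cm_equidim_iff_HD_single (hω : Dual.IsDualizing A ω)
    (hnorm : ∀ (m : Ideal A) (_ : m.IsMaximal) (i : ℤ), i ≠ 0 →
      Subsingleton (Dual.inD A (A ⧸ m) ⟶ ω⟦i⟧)) (n : ℕ) :
    (LocCoh.IsCohenMacaulayRing A ∧ ∀ Q : PrimeSpectrum A, Q.asIdeal ∈ minimalPrimes A →
      Order.coheight Q = (n : ℕ∞)) ↔
      ∀ i : ℤ, i ≠ -(n : ℤ) → Subsingleton (Dual.HD A ω i) := by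
  have hdimtop : ringKrullDim A < ⊤ := ringKrullDim_lt_top_of_isDualizing ω hω
  have hfinh : ∀ p : PrimeSpectrum A, ∃ h : ℕ, Order.height p = (h : ℕ∞) := by
    intro p
    have h1 : (Order.height p : WithBot ℕ∞) ≤ ringKrullDim A := Order.height_le_krullDim p
    have h3 : Order.height p ≠ ⊤ := by
      intro htop
      rw [htop] at h1
      exact absurd (lt_of_le_of_lt h1 hdimtop) (lt_irrefl _)
    obtain ⟨e, he⟩ := ENat.ne_top_iff_exists.1 h3
    exact ⟨e, he.symm⟩
  have hfinco : ∀ p : PrimeSpectrum A, ∃ e : ℕ, Order.coheight p = (e : ℕ∞) := by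
    intro p
    have h1 : (Order.coheight p : WithBot ℕ∞) ≤ ringKrullDim A := Order.coheight_le_krullDim p
    have h3 : Order.coheight p ≠ ⊤ := by
      intro htop
      rw [htop] at h1
      exact absurd (lt_of_le_of_lt h1 hdimtop) (lt_irrefl _)
    obtain ⟨e, he⟩ := ENat.ne_top_iff_exists.1 h3
    exact ⟨e, he.symm⟩
  constructor
  · rintro ⟨hCM, hmin⟩ i hi
    rw [← Module.support_eq_empty_iff (R := A), Set.eq_empty_iff_forall_notMem]
    intro p hp
    obtain ⟨h, hh⟩ := hfinh p
    obtain ⟨ν₀, hν₀⟩ := exists_isNormalized_locD_shift ω p.asIdeal hω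
    have h2 := normalizing_shift_eq_of_height ω hω hnorm n hmin h p ν₀ hν₀ hh
    obtain ⟨δp, hδ, -, -, hrange⟩ := self_depth_degrees ω hω p ν₀ hν₀ h hh
    have hr := hrange i hp
    haveI := hCM.isCohenMacaulayLocalRing_localization p.asIdeal
    have hcm := (inferInstance :
      LocCoh.IsCohenMacaulayLocalRing (Localization.AtPrime p.asIdeal)).supportDim_eq_depth
    rw [hδ, Module.supportDim_self_eq_ringKrullDim,
      IsLocalization.AtPrime.ringKrullDim_eq_height p.asIdeal,
      PrimeSpectrum.height_eq_orderHeight, hh] at hcm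
    have hδh : h = δp := by exact_mod_cast hcm
    omega
  · intro hvan
    refine ⟨{ (inferInstance : IsNoetherianRing A) with
      isCohenMacaulayLocalRing_localization := fun p _ => ?_ }, ?_⟩
    · exact (isCohenMacaulayLocalRing_atPrime_iff ω hω ⟨p, inferInstance⟩).2
        ⟨-(n : ℤ), fun i hi hmem => by
          haveI := hvan i hi
          rw [Module.support_eq_empty] at hmem
          exact hmem⟩
    · intro Q hQ
      have hmin' : IsMin Q := PrimeSpectrum.isMin_iff.2 hQ
      have hh : Order.height Q = ((0 : ℕ) : ℕ∞) := by simpa using hmin'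
      obtain ⟨ν₀, hν₀⟩ := exists_isNormalized_locD_shift ω Q.asIdeal hω
      obtain ⟨δp, hδ, -, hbot, hrange⟩ := self_depth_degrees ω hω Q ν₀ hν₀ 0 hh
      have h1 : ν₀ - ((0 : ℕ) : ℤ) = -(n : ℤ) := by
        by_contra hne
        haveI := hvan _ hne
        rw [Module.support_eq_empty] at hbot
        exact hbot
      obtain ⟨e, he⟩ := hfinco Q
      have h2 := normalizing_shift_eq_neg_coheight ω hω hnorm Q ν₀ hν₀ e he
      have h3 : e = n := by push_cast at h1; omega
      rw [he, h3]

end DimFun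

end Groth.Agent.Lib.CMFibH6
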