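import Mathlib
import Groth.Agent.Lib.RestrictRightAdj_helper2
import Groth.Agent.Lib.DMod109_helper6
import Groth.Agent.Lib.DMod75_helper6
import Groth.Agent.Lib.NonVan2_helper7
import Groth.Agent.Lib.CohenStruct_helper3
import Groth.Agent.Lib.RegPS_helper3
import Groth.Agent.S0564

/-!
# Existence of dualizing complexes (helper2)

* `exists_dualizing_of_finite`: a finite algebra over a Noetherian ring with a dualizing complex
  has a dualizing complex.
* `S0376_main`: a complete Noetherian local ring has a dualizing complex (Cohen structure theorem).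
-/

set_option autoImplicit false
universe u
open CategoryTheory CategoryTheory.Limits DerivedCategory

attribute [local instance] HasDerivedCategory.standard

namespace Groth.Agent.Lib.DualExist

open Groth.Agent.Lib.DMod_helper6 Groth.Agent.Lib.RestrictRightAdj

/-- a finite algebra over a Noetherian ring with a dualizing complex has a dualizing complex -/
theorem exists_dualizing_of_finite (A B : Type u) [CommRing A] [CommRing B] [Algebra A B]
    [IsNoetherianRing A] [IsNoetherianRing B] [Module.Finite A B] (ω : Dual.D A)
    (hω : Dual.IsDualizing A ω) : ∃ ω' : Dual.D B, Dual.IsDualizing B ω' := by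
  obtain ⟨R, ⟨adj⟩⟩ := exists_rightAdjoint_restrictD (algebraMap A B)
  exact ⟨R.obj ω, isDualizing_rightAdjoint_restrictD R adj ω hω⟩

/-- a regular local ring is Gorenstein: `A[0]` is dualizing -/
theorem isDualizing_self_of_isRegularLocalRing (P : Type u) [CommRing P] [IsRegularLocalRing P] :
    Dual.IsDualizing P (Dual.inD P P) :=
  isDualizing_self_of_regular (fun p => Groth.Agent.S0564.result P p.asIdeal) ringKrullDim_lt_top

/-- S0376. -/
theorem S0376_main (A : Type u) [CommRing A] [IsLocalRing A] [IsNoetherianRing A]
    [IsAdicComplete (IsLocalRing.maximalIdeal A) A] : ∃ ω : Dual.D A, Dual.IsDualizing A ω := by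
  obtain ⟨Λ, instΛ, N, f, hΛ, hf⟩ :=
    Groth.Agent.Lib.CohenStructH3.exists_surjective_of_complete A (IsNoetherian.noetherian _)
  haveI hΛreg : IsRegularLocalRing Λ := by
    rcases hΛ with hΛ | hΛ
    · exact Groth.Agent.Lib.NonVan2H7.isRegularLocalRing_of_isField Λ hΛ
    · obtain ⟨hdom, hdvr, -, -⟩ := hΛ
      infer_instance
  haveI hreg : IsRegularLocalRing (MvPowerSeries (Fin N) Λ) :=
    Groth.Agent.Lib.RegPSH3.isRegularLocalRing_mvPowerSeries Λ N
  letI : Algebra (MvPowerSeries (Fin N) Λ) A := f.toAlgebra
  haveI : Module.Finite (MvPowerSeries (Fin N) Λ) A :=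
    Module.Finite.of_surjective (Algebra.linearMap (MvPowerSeries (Fin N) Λ) A) hf
  exact exists_dualizing_of_finite (MvPowerSeries (Fin N) Λ) A _
    (isDualizing_self_of_isRegularLocalRing _)

end Groth.Agent.Lib.DualExist
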