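import Mathlib
import Groth.Agent.Lib.PolyDual1_helper2
import Groth.Agent.Lib.DualExist1_helper2

/-!
# Dualizing complexes for algebras essentially of finite type; universally catenary (helper2)

* `exists_dualizing_of_ringEquiv`, `exists_dualizing_mvPolynomial`, `exists_dualizing_of_finiteType`;
* `S0377_main`: algebras essentially of finite type over a ring with a dualizing complex have one;
* `isCatenary_of_dimFun`: a Noetherian ring with a dimension function is catenary;
* `S1721_main`: a Noetherian ring with a dualizing complex is universally catenary.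
-/

set_option autoImplicit false
universe u
open CategoryTheory CategoryTheory.Limits DerivedCategory
open scoped TensorProduct Polynomial

attribute [local instance] HasDerivedCategory.standard

namespace Groth.Agent.Lib.PolyDual

open Groth.Agent.Lib.DMod_helper6 DRing Groth.Agent.Lib.DualExist

/-- transport of dualizing complexes along a ring isomorphism -/
theorem exists_dualizing_of_ringEquiv {A A' : Type u} [CommRing A] [CommRing A']
    [IsNoetherianRing A] (e : A ≃+* A') (h : ∃ ω : Dual.D A, Dual.IsDualizing A ω) :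
    ∃ ω' : Dual.D A', Dual.IsDualizing A' ω' := by
  obtain ⟨ω, hω⟩ := h
  letI : Algebra A A' := e.toRingHom.toAlgebra
  haveI : IsNoetherianRing A' := isNoetherianRing_of_ringEquiv A e
  haveI : Module.Finite A A' :=
    Module.Finite.of_surjective (Algebra.linearMap A A') e.surjective
  exact exists_dualizing_of_finite A A' ω hω

theorem exists_dualizing_mvPolynomial (A : Type u) [CommRing A] [IsNoetherianRing A]
    (h : ∃ ω : Dual.D A, Dual.IsDualizing A ω) (n : ℕ) :
    ∃ ω' : Dual.D (MvPolynomial (Fin n) A), Dual.IsDualizing (MvPolynomial (Fin n) A) ω' := by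
  induction n with
  | zero =>
    exact exists_dualizing_of_ringEquiv
      (MvPolynomial.isEmptyAlgEquiv A (Fin 0)).symm.toRingEquiv h
  | succ n ih =>
    obtain ⟨ω, hω⟩ := ih
    have h1 : ∃ ω' : Dual.D (Polynomial (MvPolynomial (Fin n) A)),
        Dual.IsDualizing (Polynomial (MvPolynomial (Fin n) A)) ω' :=
      ⟨_, isDualizing_bcD_poly _ ω hω⟩
    exact exists_dualizing_of_ringEquiv (MvPolynomial.finSuccEquiv A n).symm.toRingEquiv h1

theorem exists_dualizing_of_finiteType (A C : Type u) [CommRing A] [CommRing C] [Algebra A C]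
    [IsNoetherianRing A] [hC : Algebra.FiniteType A C]
    (h : ∃ ω : Dual.D A, Dual.IsDualizing A ω) : ∃ ω' : Dual.D C, Dual.IsDualizing C ω' := by
  obtain ⟨n, f, hf⟩ := Algebra.FiniteType.iff_quotient_mvPolynomial''.1 hC
  obtain ⟨ω, hω⟩ := exists_dualizing_mvPolynomial A h n
  letI : Algebra (MvPolynomial (Fin n) A) C := f.toRingHom.toAlgebra
  haveI : IsNoetherianRing C := Algebra.FiniteType.isNoetherianRing A C
  haveI : Module.Finite (MvPolynomial (Fin n) A) C :=
    Module.Finite.of_surjective (Algebra.linearMap (MvPolynomial (Fin n) A) C) hf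
  exact exists_dualizing_of_finite (MvPolynomial (Fin n) A) C ω hω

/-- S0377. -/
theorem S0377_main (A : Type u) [CommRing A] [IsNoetherianRing A] (ω : Dual.D A)
    (hω : Dual.IsDualizing A ω) (B : Type u) [CommRing B] [Algebra A B]
    [Algebra.EssFiniteType A B] : ∃ ω' : Dual.D B, Dual.IsDualizing B ω' := by
  obtain ⟨ωC, hωC⟩ :=
    exists_dualizing_of_finiteType A (Algebra.EssFiniteType.subalgebra A B) ⟨ω, hω⟩
  haveI : IsNoetherianRing (Algebra.EssFiniteType.subalgebra A B) :=
    Algebra.FiniteType.isNoetherianRing A _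
  haveI : Module.Flat (Algebra.EssFiniteType.subalgebra A B) B :=
    IsLocalization.flat B (Algebra.EssFiniteType.submonoid A B)
  exact ⟨_, isDualizing_bcD (Algebra.EssFiniteType.submonoid A B) ωC hωC⟩

section Catenary

variable {S : Type u} [CommRing S]

theorem dimFun_series (δ : PrimeSpectrum S → ℤ) (hδ : ∀ p q : PrimeSpectrum S, p ⋖ q → δ p = δ q + 1)
    (r : LTSeries (PrimeSpectrum S))
    (hr : ∀ i : Fin r.length, r (Fin.castSucc i) ⋖ r (Fin.succ i)) (i : Fin (r.length + 1)) :
    δ (r 0) = δ (r i) + ((i : ℕ) : ℤ) := by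
  induction i using Fin.induction with
  | zero => simp
  | succ i ih =>
    rw [ih, hδ _ _ (hr i), Fin.val_succ, Fin.val_castSucc]
    push_cast
    ring

theorem isCatenary_of_dimFun [IsNoetherianRing S] (δ : PrimeSpectrum S → ℤ)
    (hδ : ∀ p q : PrimeSpectrum S, p ⋖ q → δ p = δ q + 1) : CAlg.IsCatenary S := by
  refine ⟨fun p q _ => ⟨q.asIdeal.height.toNat, fun s _ hq => ?_⟩, fun s t hh hl hs ht => ?_⟩
  · have h1 : (s.length : ℕ∞) ≤ Order.height s.last := Order.length_le_height_last
    rw [hq, ← PrimeSpectrum.height_eq_orderHeight] at h1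
    have hfin : q.asIdeal.height ≠ ⊤ := Ideal.height_ne_top_of_isPrime
    have := ENat.toNat_le_toNat h1 hfin
    rwa [ENat.toNat_natCast] at this
  · have h1 := dimFun_series δ hδ s hs (Fin.last _)
    have h2 := dimFun_series δ hδ t ht (Fin.last _)
    have h3 : s 0 = t 0 := hh
    have h4 : s (Fin.last _) = t (Fin.last _) := hl
    rw [h3, h4, h2] at h1
    simp only [Fin.val_last] at h1
    omega

end Catenary

/-- S1721. -/
theorem S1721_main (A : Type u) [CommRing A] [IsNoetherianRing A] (ω : Dual.D A)
    (hω : Dual.IsDualizing A ω) : CAlg.IsUniversallyCatenary A := by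
  refine ⟨inferInstance, fun S _ _ hS => ?_⟩
  haveI := hS
  haveI : IsNoetherianRing S := Algebra.FiniteType.isNoetherianRing A S
  obtain ⟨ωS, hωS⟩ := exists_dualizing_of_finiteType A S ⟨ω, hω⟩
  obtain ⟨δ, -, hδ⟩ := exists_dimension_function ωS hωS
  exact isCatenary_of_dimFun δ hδ

end Groth.Agent.Lib.PolyDual
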