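import Mathlib
import Groth.Agent.Lib.PolyDual2_helper2
import Groth.Agent.Lib.FormalGor_helper2

/-!
# `ω ⊗_R R[x_1,…,x_n]` is dualizing, and the upper shriek of a dualizing complex (helper2)

* `isDualizing_bcD_of_bijective`, `isDualizing_bcD_of_algEquiv`;
* `isDualizing_bcD_mvPolynomial`;
* `S1782_main`.
-/

set_option autoImplicit false
universe u
open CategoryTheory CategoryTheory.Limits DerivedCategory
open scoped TensorProduct Polynomial

attribute [local instance] HasDerivedCategory.standard

namespace Groth.Agent.Lib.PolyDual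

open Groth.Agent.Lib.DMod_helper6 DRing Groth.Agent.Lib.FlatHom Groth.Agent.Lib.FormalGor

section Transport

variable {A B : Type u} [CommRing A] [CommRing B] [Algebra A B] [IsNoetherianRing A]
  [IsNoetherianRing B] [Module.Flat A B]

theorem isDualizing_bcD_of_bijective (hbij : Function.Bijective (algebraMap A B)) (ω : Dual.D A)
    (hω : Dual.IsDualizing A ω) : Dual.IsDualizing B ((bcD A B).obj ω) :=
  isDualizing_bcD_of_maximal_map
    (fun n _ => Ideal.map_comap_of_surjective _ hbij.2 n) ω hω

end Transport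

theorem isDualizing_bcD_of_algEquiv {R B Q : Type u} [CommRing R] [CommRing B] [CommRing Q]
    [Algebra R B] [Algebra R Q] [Module.Flat R B] [Module.Flat R Q] [IsNoetherianRing B]
    [IsNoetherianRing Q] (e : Q ≃ₐ[R] B) (ω : Dual.D R)
    (h : Dual.IsDualizing Q ((bcD R Q).obj ω)) : Dual.IsDualizing B ((bcD R B).obj ω) := by
  letI : Algebra Q B := e.toRingEquiv.toRingHom.toAlgebra
  haveI : IsScalarTower R Q B := IsScalarTower.of_algebraMap_eq (fun r => (e.commutes r).symm)
  have hbij : Function.Bijective (algebraMap Q B) := e.bijective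
  haveI : Module.Flat Q B :=
    Module.Flat.of_linearEquiv (LinearEquiv.ofBijective (Algebra.linearMap Q B) hbij).symm
  obtain ⟨c⟩ := nonempty_bcD_comp_iso R Q B ω
  exact isDualizing_of_iso c (isDualizing_bcD_of_bijective hbij _ h)

/-- `ω ⊗_R R[x_1, …, x_n]` is a dualizing complex -/
theorem isDualizing_bcD_mvPolynomial (R : Type u) [CommRing R] [IsNoetherianRing R] (ω : Dual.D R)
    (hω : Dual.IsDualizing R ω) (n : ℕ) :
    Dual.IsDualizing (MvPolynomial (Fin n) R) ((bcD R (MvPolynomial (Fin n) R)).obj ω) := by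
  induction n with
  | zero =>
    refine isDualizing_bcD_of_bijective ?_ ω hω
    exact (MvPolynomial.isEmptyAlgEquiv R (Fin 0)).symm.bijective
  | succ n ih =>
    haveI : Module.Flat R (Polynomial (MvPolynomial (Fin n) R)) :=
      Module.Flat.trans R (MvPolynomial (Fin n) R) (Polynomial (MvPolynomial (Fin n) R))
    have h1 := isDualizing_bcD_poly (MvPolynomial (Fin n) R) _ ih
    obtain ⟨c⟩ := nonempty_bcD_comp_iso R (MvPolynomial (Fin n) R)
      (Polynomial (MvPolynomial (Fin n) R)) ω
    have h2 : Dual.IsDualizing (Polynomial (MvPolynomial (Fin n) R))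
        ((bcD R (Polynomial (MvPolynomial (Fin n) R))).obj ω) := isDualizing_of_iso c h1
    exact isDualizing_bcD_of_algEquiv (MvPolynomial.finSuccEquiv R n).symm ω h2

/-- S1782. -/
theorem S1782_main (R A : Type u) [CommRing R] [CommRing A] [IsNoetherianRing R]
    [IsNoetherianRing A] [Algebra R A] (n : ℕ) (ψ : MvPolynomial (Fin n) R →ₐ[R] A)
    (hψ : Function.Surjective ψ) [DRing.HasLBaseChange (algebraMap R (MvPolynomial (Fin n) R))]
    (Rψ : Dual.D (MvPolynomial (Fin n) R) ⥤ Dual.D A) (adj : DRing.restrictD ψ.toRingHom ⊣ Rψ)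
    (ω : Dual.D R) (hω : Dual.IsDualizing R ω) :
    Dual.IsDualizing A (Dual2.shriekVia n Rψ ω) := by
  letI : Algebra (MvPolynomial (Fin n) R) A := ψ.toRingHom.toAlgebra
  haveI : Module.Finite (MvPolynomial (Fin n) R) A :=
    Module.Finite.of_surjective (Algebra.linearMap (MvPolynomial (Fin n) R) A) hψ
  obtain ⟨e⟩ := nonempty_lBaseChange_iso_bcD (A := R) (B := MvPolynomial (Fin n) R)
  have h1 : Dual.IsDualizing (MvPolynomial (Fin n) R)
      ((DRing.LBaseChange (algebraMap R (MvPolynomial (Fin n) R))).obj ω) :=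
    isDualizing_of_iso (e.app ω).symm (isDualizing_bcD_mvPolynomial R ω hω n)
  have h2 : Dual.IsDualizing A
      (Rψ.obj ((DRing.LBaseChange (algebraMap R (MvPolynomial (Fin n) R))).obj ω)) :=
    isDualizing_rightAdjoint_restrictD Rψ adj _ h1
  exact isDualizing_shift _ h2 n

end Groth.Agent.Lib.PolyDual
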