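import Mathlib
import Groth.Agent.Lib.GorBC2_helper2
import Groth.Agent.Lib.PolyDual3_helper2
import Groth.Agent.Lib.GorLCI_helper9
import Groth.Agent.Lib.DimFT_helper8

/-!
# The upper shriek of a normalized dualizing complex is normalized at closed points (helper2)

* `subsingleton_hom_quot_maximal_bcD_local`: `R` local, `R → B` flat, `Q` a maximal ideal of `B` over
  `m_R` with Gorenstein fibre local ring of dimension `e`, `ω[d]` normalized:
  `Ext^j_B(B/Q, ω ⊗ B) = 0` for `j ≠ d + e`;
* `fibRing_mvPolynomial`: the closed fibre ring of `R → R[x_1..x_n]_Q` is Gorenstein of dimension `n`;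
* `S1789_main`.
-/

set_option autoImplicit false
universe u
open CategoryTheory CategoryTheory.Limits DerivedCategory
open scoped TensorProduct

attribute [local instance] HasDerivedCategory.standard

namespace Groth.Agent.Lib.ShriekNorm

open Groth.Agent.Lib.DMod_helper6 DRing Groth.Agent.Lib.FlatHom Groth.Agent.ExtendScalarsLib
open Groth.Agent.Lib.FormalGor Groth.Agent.Lib.PolyDual Groth.Agent.Lib.GorBC

section LocalBase

variable (R B : Type u) [CommRing R] [CommRing B] [Algebra R B] [IsNoetherianRing R]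
  [IsNoetherianRing B] [Module.Flat R B] [IsLocalRing R]

lemma isLocalHom_atPrime (Q : Ideal B) [Q.IsPrime]
    (hQm : Q.comap (algebraMap R B) = IsLocalRing.maximalIdeal R) :
    IsLocalHom (algebraMap R (Localization.AtPrime Q)) := by
  refine ⟨fun x hx => ?_⟩
  by_contra hnu
  have hx' : x ∈ IsLocalRing.maximalIdeal R := hnu
  rw [← hQm] at hx'
  have h1 : algebraMap B (Localization.AtPrime Q) (algebraMap R B x) ∈
      IsLocalRing.maximalIdeal (Localization.AtPrime Q) := by
    rw [← Localization.AtPrime.map_eq_maximalIdeal]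
    exact Ideal.mem_map_of_mem _ hx'
  rw [← IsScalarTower.algebraMap_apply] at h1
  exact h1 hx

/-- vanishing of `Ext^j(B/Q, ω ⊗ B)` outside the degree `d + e` -/
theorem subsingleton_hom_quot_maximal_bcD_local (ω : Dual.D R) (hω : Dual.IsDualizing R ω) (d : ℤ)
    (hd : Dual.IsNormalized R (ω⟦d⟧)) (Q : Ideal B) [hQ : Q.IsMaximal]
    (hQm : Q.comap (algebraMap R B) = IsLocalRing.maximalIdeal R)
    (hG : LocCoh.IsGorensteinLocalRing (EGA4.FibRing R (Localization.AtPrime Q))) (e : ℕ)
    (he : ringKrullDim (EGA4.FibRing R (Localization.AtPrime Q)) = e) (j : ℤ) (hj : j ≠ d + e) :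
    Subsingleton (Dual.inD B (B ⧸ Q) ⟶ ((bcD R B).obj ω)⟦j⟧) := by
  haveI := isLocalHom_atPrime R B Q hQm
  haveI : Module.Flat R (Localization.AtPrime Q) := Module.Flat.trans R B (Localization.AtPrime Q)
  haveI : IsNoetherianRing (Localization.AtPrime Q) :=
    IsLocalization.isNoetherianRing Q.primeCompl _ inferInstance
  obtain ⟨a, b, hab⟩ := hω.finite_injective_dimension
  have h2 := subsingleton_hom_residueField_bcD R (Localization.AtPrime Q) ω hω d hd hG e he j hj
  obtain ⟨c2⟩ := nonempty_bcD_comp_iso R B (Localization.AtPrime Q) ω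
  have h3 : Subsingleton (Dual.inD (Localization.AtPrime Q)
      (IsLocalRing.ResidueField (Localization.AtPrime Q)) ⟶
      ((bcD B (Localization.AtPrime Q)).obj ((bcD R B).obj ω))⟦j⟧) :=
    subsingleton_hom_of_isos (Iso.refl _)
      ((shiftFunctor (Dual.D (Localization.AtPrime Q)) j).mapIso c2) h2
  have hH : ∀ i : ℤ, (i < a ∨ b < i) → Subsingleton (Dual.HD R ω i) := fun i hi =>
    subsingleton_HD_of_hom_quot_bot ω i (hab (R ⧸ (⊥ : Ideal R)) i hi)
  haveI hge : DerivedCategory.IsGE ((bcD R B).obj ω) a := by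
    rw [DerivedCategory.isGE_iff]
    intro i hi
    obtain ⟨e'⟩ := nonempty_HD_bcD_linearEquiv (B := B) ω i
    haveI := hH i (Or.inl hi)
    haveI : Subsingleton (B ⊗[R] Dual.HD R ω i) := subsingleton_tensor B
    haveI : Subsingleton (Dual.HD B ((bcD R B).obj ω) i) := e'.toEquiv.subsingleton
    exact ModuleCat.isZero_of_subsingleton _
  haveI : DerivedCategory.IsGE (((bcD R B).obj ω)⟦j⟧) (a - j) :=
    TStructure.t.isGE_shift _ a j (a - j) (by omega)
  have hK : IsPseudoCoherent' B (Dual.inD B (B ⧸ Q)) := isPseudoCoherentModule'_of_finite _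
  obtain ⟨-, hinj⟩ := locHom (B := Localization.AtPrime Q) Q.primeCompl (Dual.inD B (B ⧸ Q))
    (((bcD R B).obj ω)⟦j⟧) hK (a - j)
  obtain ⟨iso⟩ := nonempty_tensorQuot_iso_residueField Q
  refine subsingleton_of_forall_eq 0 (fun f => ?_)
  have hb0 : (bcD B (Localization.AtPrime Q)).map f = 0 := by
    haveI : Subsingleton ((bcD B (Localization.AtPrime Q)).obj (Dual.inD B (B ⧸ Q)) ⟶
        (bcD B (Localization.AtPrime Q)).obj (((bcD R B).obj ω)⟦j⟧)) :=
      subsingleton_hom_of_isos (bcSingleIso (B := Localization.AtPrime Q) (B ⧸ Q) ≪≫ iso)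
        (((bcD B (Localization.AtPrime Q)).commShiftIso j).app ((bcD R B).obj ω)) h3
    exact Subsingleton.elim _ _
  obtain ⟨s, hs⟩ := hinj f hb0
  obtain ⟨y, i, hi, hyi⟩ := hQ.exists_inv s.2
  have h5 : i • f = 0 := smul_hom_inD_quot_eq_zero Q _ i hi f
  calc f = (1 : B) • f := (one_smul _ _).symm
    _ = (y * (s : B) + i) • f := by rw [hyi]
    _ = y • ((s : B) • f) + i • f := by rw [add_smul, mul_smul]
    _ = 0 := by rw [hs, h5, smul_zero, add_zero]

end LocalBase

section Fibre

variable (R : Type u) [CommRing R] [IsNoetherianRing R] [IsLocalRing R] (n : ℕ)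

/-- the closed fibre ring of `R → R[x_1, …, x_n]_Q`, for a maximal ideal `Q` over `m_R`, is a Gorenstein
local ring of dimension `n` -/
theorem fibRing_mvPolynomial (Q : Ideal (MvPolynomial (Fin n) R)) [hQ : Q.IsMaximal]
    (hQm : Q.comap (algebraMap R (MvPolynomial (Fin n) R)) = IsLocalRing.maximalIdeal R) :
    LocCoh.IsGorensteinLocalRing (EGA4.FibRing R (Localization.AtPrime Q)) ∧
      ringKrullDim (EGA4.FibRing R (Localization.AtPrime Q)) = n := by
  set k := IsLocalRing.ResidueField R with hk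
  let g : MvPolynomial (Fin n) R →+* MvPolynomial (Fin n) k :=
    MvPolynomial.map (IsLocalRing.residue R)
  have hg : Function.Surjective g := MvPolynomial.map_surjective _ IsLocalRing.residue_surjective
  have hkerg : RingHom.ker g = (IsLocalRing.maximalIdeal R).map
      (MvPolynomial.C : R →+* MvPolynomial (Fin n) R) := by
    rw [MvPolynomial.ker_map, IsLocalRing.ker_residue]
  have hkerQ : RingHom.ker g ≤ Q := by
    rw [hkerg, Ideal.map_le_iff_le_comap, ← hQm]
    exact le_of_eq rfl
  set Qb : Ideal (MvPolynomial (Fin n) k) := Q.map g with hQb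
  have hcomap : Qb.comap g = Q := by
    rw [hQb, Ideal.comap_map_of_surjective g hg]
    apply le_antisymm
    · exact sup_le le_rfl (by rw [← RingHom.ker_eq_comap_bot]; exact hkerQ)
    · exact le_sup_left
  haveI hQbmax : Qb.IsMaximal := by
    rcases Ideal.map_eq_top_or_isMaximal_of_surjective g hg hQ with h | h
    · exfalso
      have : Qb.comap g = ⊤ := by rw [hQb, h, Ideal.comap_top]
      rw [hcomap] at this
      exact hQ.ne_top this
    · exact h
  -- the Gorenstein local ring `k[x]_{Qb}` of dimension `n`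
  haveI : LocCoh.IsGorensteinRing k := Groth.Agent.GorFlat9.isGorRing_field k
  have hGk : LocCoh.IsGorensteinRing (MvPolynomial (Fin n) k) :=
    Groth.Agent.GorLCI9.isGorRing_mvPolynomial_fin k n
  have hG1 : LocCoh.IsGorensteinLocalRing (Localization.AtPrime Qb) :=
    hGk.isGorensteinLocalRing_localization Qb
  have hdim1 : ringKrullDim (Localization.AtPrime Qb) = n := by
    rw [IsLocalization.AtPrime.ringKrullDim_eq_height Qb (Localization.AtPrime Qb),
      Groth.Agent.DimFTH8.height_of_isMaximal_mvPolynomial k n Qb]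
    rfl
  -- comparison of the rings
  have hT : Q.primeCompl.map g = Qb.primeCompl := by
    ext y
    constructor
    · rintro ⟨x, hx, rfl⟩
      intro hmem
      apply hx
      rw [← hcomap]
      exact hmem
    · intro hy
      obtain ⟨x, rfl⟩ := hg y
      refine ⟨x, ?_, rfl⟩
      intro hx
      apply hy
      exact Ideal.mem_map_of_mem g hx
  obtain ⟨ε⟩ := Groth.Agent.GorLCI9.nonempty_quot_equiv g hg Q.primeCompl Qb.primeCompl hT
    (Localization.AtPrime Q) (Localization.AtPrime Qb)
  have hI : (RingHom.ker g).map (algebraMap (MvPolynomial (Fin n) R) (Localization.AtPrime Q)) =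
      EGA4.mB R (Localization.AtPrime Q) := by
    rw [hkerg, Ideal.map_map]
    rfl
  let ε' : EGA4.FibRing R (Localization.AtPrime Q) ≃+* Localization.AtPrime Qb :=
    (Ideal.quotEquivOfEq hI.symm).trans ε
  refine ⟨(Groth.Agent.GorFlat9.gorenstein_congr ε').2 hG1, ?_⟩
  rw [ringKrullDim_eq_of_ringEquiv ε', hdim1]

end Fibre

section Main

/-- `P/ψ⁻¹(m) ≃ A/m` as `P`-modules -/
lemma nonempty_quot_restrict_equiv {P A : Type u} [CommRing P] [CommRing A] (φ : P →+* A)
    (hφ : Function.Surjective φ) (m : Ideal A) :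
    Nonempty ((P ⧸ m.comap φ) ≃ₗ[P]
      ((ModuleCat.restrictScalars φ).obj (ModuleCat.of A (A ⧸ m)))) := by
  let g : P →ₗ[P] ((ModuleCat.restrictScalars φ).obj (ModuleCat.of A (A ⧸ m))) :=
    { toFun := fun s => (Ideal.Quotient.mk m (φ s) : A ⧸ m)
      map_add' := fun s t => by
        show Ideal.Quotient.mk m (φ (s + t)) =
          Ideal.Quotient.mk m (φ s) + Ideal.Quotient.mk m (φ t)
        rw [map_add, map_add]
      map_smul' := fun a s => by
        show Ideal.Quotient.mk m (φ (a * s)) =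
          (φ a) • (Ideal.Quotient.mk m (φ s) : A ⧸ m)
        rw [map_mul, map_mul]
        rfl }
  have hg : Function.Surjective g := by
    intro y
    obtain ⟨a, ha⟩ := Ideal.Quotient.mk_surjective (I := m) y
    obtain ⟨s, hs⟩ := hφ a
    exact ⟨s, by show Ideal.Quotient.mk m (φ s) = y; rw [hs, ha]⟩
  have hker : LinearMap.ker g = m.comap φ := by
    ext x
    rw [LinearMap.mem_ker]
    show Ideal.Quotient.mk m (φ x) = 0 ↔ x ∈ m.comap φ
    rw [Ideal.Quotient.eq_zero_iff_mem, Ideal.mem_comap]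
  exact ⟨(Submodule.quotEquivOfEq _ _ hker.symm).trans (g.quotKerEquivOfSurjective hg)⟩

/-- S1789. -/
theorem S1789_main (R A : Type u) [CommRing R] [CommRing A] [IsNoetherianRing R]
    [IsNoetherianRing A] [Algebra R A] (n : ℕ) (ψ : MvPolynomial (Fin n) R →ₐ[R] A)
    (hψ : Function.Surjective ψ) [DRing.HasLBaseChange (algebraMap R (MvPolynomial (Fin n) R))]
    (Rψ : Dual.D (MvPolynomial (Fin n) R) ⥤ Dual.D A) (adj : DRing.restrictD ψ.toRingHom ⊣ Rψ)
    [IsLocalRing R] (m : Ideal A) [hmax : m.IsMaximal]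
    (hm : m.comap (algebraMap R A) = IsLocalRing.maximalIdeal R) (ω : Dual.D R)
    (hω : Dual.IsDualizing R ω) (hn : Dual.IsNormalized R ω)
    [DRing.HasLBaseChange (algebraMap A (Localization.AtPrime m))] :
    Dual.IsDualizing (Localization.AtPrime m)
        ((DRing.LBaseChange (algebraMap A (Localization.AtPrime m))).obj
          (Dual2.shriekVia n Rψ ω)) ∧
      Dual.IsNormalized (Localization.AtPrime m)
        ((DRing.LBaseChange (algebraMap A (Localization.AtPrime m))).obj
          (Dual2.shriekVia n Rψ ω)) := by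
  set W := Dual2.shriekVia n Rψ ω with hWdef
  have hW : Dual.IsDualizing A W := S1782_main R A n ψ hψ Rψ adj ω hω
  obtain ⟨c⟩ := nonempty_lBaseChange_iso_bcD (A := A) (B := Localization.AtPrime m)
  haveI : IsNoetherianRing (Localization.AtPrime m) :=
    IsLocalization.isNoetherianRing m.primeCompl _ inferInstance
  refine ⟨isDualizing_of_iso (c.app W).symm (isDualizing_locD W m hW), ?_⟩
  -- the maximal ideal of the polynomial ring
  set Q : Ideal (MvPolynomial (Fin n) R) := m.comap ψ.toRingHom with hQ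
  haveI hQmax : Q.IsMaximal := Ideal.comap_isMaximal_of_surjective ψ.toRingHom hψ
  have hQm : Q.comap (algebraMap R (MvPolynomial (Fin n) R)) = IsLocalRing.maximalIdeal R := by
    rw [hQ, Ideal.comap_comap, ← hm]
    congr 1
    exact ψ.comp_algebraMap
  obtain ⟨hG, he⟩ := fibRing_mvPolynomial R n Q hQm
  have hn0 : Dual.IsNormalized R (ω⟦(0 : ℤ)⟧) := by
    intro i hi
    exact subsingleton_hom_of_isos (Iso.refl _)
      ((shiftFunctor (Dual.D R) i).mapIso ((shiftFunctorZero (Dual.D R) ℤ).app ω)) (hn i hi)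
  -- vanishing on the polynomial ring
  have hP : ∀ j : ℤ, j ≠ n → Subsingleton (Dual.inD (MvPolynomial (Fin n) R)
      (MvPolynomial (Fin n) R ⧸ Q) ⟶ ((bcD R (MvPolynomial (Fin n) R)).obj ω)⟦j⟧) := by
    intro j hj
    exact subsingleton_hom_quot_maximal_bcD_local R (MvPolynomial (Fin n) R) ω hω 0 hn0 Q hQm hG n
      he j (by omega)
  obtain ⟨cP⟩ := nonempty_lBaseChange_iso_bcD (A := R) (B := MvPolynomial (Fin n) R)
  set ωP := (DRing.LBaseChange (algebraMap R (MvPolynomial (Fin n) R))).obj ω with hωP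
  -- vanishing on `A`
  have hA : ∀ i : ℤ, i ≠ 0 → Subsingleton (Dual.inD A (A ⧸ m) ⟶ W⟦i⟧) := by
    intro i hi
    have h1 : Subsingleton (Dual.inD (MvPolynomial (Fin n) R) (MvPolynomial (Fin n) R ⧸ Q) ⟶
        ωP⟦(n : ℤ) + i⟧) :=
      subsingleton_hom_of_isos (Iso.refl _)
        ((shiftFunctor (Dual.D (MvPolynomial (Fin n) R)) ((n : ℤ) + i)).mapIso (cP.app ω))
        (hP ((n : ℤ) + i) (by omega))
    obtain ⟨ε⟩ := nonempty_quot_restrict_equiv ψ.toRingHom hψ m
    have h2 : Subsingleton ((DRing.restrictD ψ.toRingHom).obj (Dual.inD A (A ⧸ m)) ⟶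
        ωP⟦(n : ℤ) + i⟧) :=
      subsingleton_hom_of_isos
        (restrictDInDIso ψ.toRingHom (ModuleCat.of A (A ⧸ m)) ≪≫
          (DerivedCategory.singleFunctor (ModuleCat.{u} (MvPolynomial (Fin n) R)) 0).mapIso
            ε.symm.toModuleIso)
        (Iso.refl _) h1
    have h3 : Subsingleton (Dual.inD A (A ⧸ m) ⟶ (Rψ.obj ωP)⟦(n : ℤ) + i⟧) :=
      subsingleton_hom_shift_of_adj Rψ adj _ _ _ h2
    exact subsingleton_hom_of_isos (Iso.refl _) (shiftShiftIso (Rψ.obj ωP) n i _ rfl) h3
  -- normalization on `A_m`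
  intro i hi
  refine subsingleton_hom_of_isos (Iso.refl _)
    ((shiftFunctor (Dual.D (Localization.AtPrime m)) i).mapIso (c.app W)) ?_
  by_contra hcon
  rw [not_subsingleton_iff_nontrivial] at hcon
  have hmem := (mem_support_hom_quot_iff W m hW i).2 hcon
  have hnt : Nontrivial (Dual.inD A (A ⧸ m) ⟶ W⟦i⟧) := nontrivial_of_mem_support hmem
  haveI := hA i hi
  exact false_of_nontrivial_of_subsingleton (Dual.inD A (A ⧸ m) ⟶ W⟦i⟧)

end Main

end Groth.Agent.Lib.ShriekNorm
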