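import Mathlib
import Groth.Prelude.Def_DRing4
import Groth.Agent.Lib.HomCx2_helper2
import Groth.Agent.Lib.KFlatGen3_helper2

/-!
# `Hom•(-, M)` in the first variable: functoriality, homotopies, degreewise split sequences (helper2)

* `preG ψ M i`: precomposition of cochains with a degreewise map `ψ`.
* `homCxPre_id`, `homCxPre_comp`, `homCxPre_zero`.
* `nonempty_homotopy_homCxPre`: `Hom•(-, M)` preserves homotopies.
* `homCxHomotopyEquiv`: and homotopy equivalences.
* `homSC S M`, `homSCSplitting`: a degreewise split short exact sequence of complexes is sent to a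
  degreewise split short exact sequence.
* `kf_of_degreewiseSplit`: two out of three for K-flatness in degreewise split short exact sequences.
-/

set_option autoImplicit false
universe u
open CategoryTheory Limits MonoidalCategory CochainComplex CochainComplex.HomComplex

namespace Groth.Agent.Lib.HomKFlat

open Groth.Agent.Lib.KFlatMod Groth.Agent.Lib.HomCx Groth.Agent.Lib.KFlatGen

variable {A : Type u} [CommRing A]

section PreG

variable {L L' L'' : DRing.Cx A}

/-- precomposition with a degreewise map -/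
noncomputable def preG (ψ : ∀ p, L'.X p ⟶ L.X p) (M : DRing.Cx A) (i : ℤ) :
    Cochain L M i →ₗ[A] Cochain L' M i where
  toFun z := (Cochain.ofHoms ψ).comp z (zero_add i)
  map_add' z z' := by simp
  map_smul' a z := by simp

lemma preG_v (ψ : ∀ p, L'.X p ⟶ L.X p) (M : DRing.Cx A) (i : ℤ) (z : Cochain L M i)
    (p q : ℤ) (hpq : p + i = q) :
    (preG ψ M i z).v p q hpq = ψ p ≫ z.v p q hpq := by
  show ((Cochain.ofHoms ψ).comp z (zero_add i)).v p q hpq = _
  rw [Cochain.zero_cochain_comp_v, Cochain.ofHoms_v]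

lemma preG_id (M : DRing.Cx A) (i : ℤ) (z : Cochain L M i) :
    preG (fun p => 𝟙 (L.X p)) M i z = z := by
  ext p q hpq
  rw [preG_v, Category.id_comp]

lemma preG_comp (ψ : ∀ p, L'.X p ⟶ L.X p) (ψ' : ∀ p, L''.X p ⟶ L'.X p) (M : DRing.Cx A) (i : ℤ)
    (z : Cochain L M i) :
    preG ψ' M i (preG ψ M i z) = preG (fun p => ψ' p ≫ ψ p) M i z := by
  ext p q hpq
  rw [preG_v, preG_v, preG_v, Category.assoc]

lemma preG_add (ψ ψ' : ∀ p, L'.X p ⟶ L.X p) (M : DRing.Cx A) (i : ℤ) (z : Cochain L M i) :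
    preG (fun p => ψ p + ψ' p) M i z = preG ψ M i z + preG ψ' M i z := by
  ext p q hpq
  rw [Cochain.add_v, preG_v, preG_v, preG_v, Preadditive.add_comp]

lemma preG_zero (M : DRing.Cx A) (i : ℤ) (z : Cochain L M i) :
    preG (fun p => (0 : L'.X p ⟶ L.X p)) M i z = 0 := by
  ext p q hpq
  rw [preG_v, Limits.zero_comp, Cochain.zero_v]

lemma preG_congr {ψ ψ' : ∀ p, L'.X p ⟶ L.X p} (h : ∀ p, ψ p = ψ' p) (M : DRing.Cx A) (i : ℤ)
    (z : Cochain L M i) : preG ψ M i z = preG ψ' M i z := by
  have : ψ = ψ' := funext h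
  rw [this]

lemma homCxPre_apply (f : L' ⟶ L) (M : DRing.Cx A) (i : ℤ) (z : Cochain L M i) :
    (((homCxPre f M).f i).hom z : Cochain L' M i) = preG f.f M i z := rfl

lemma homCxPre_id (M : DRing.Cx A) : homCxPre (𝟙 L) M = 𝟙 _ := by
  refine HomologicalComplex.hom_ext _ _ fun i => ModuleCat.hom_ext (LinearMap.ext fun z => ?_)
  rw [homCxPre_apply]
  exact preG_id M i z

lemma homCxPre_comp (f : L'' ⟶ L') (g : L' ⟶ L) (M : DRing.Cx A) :
    homCxPre (f ≫ g) M = homCxPre g M ≫ homCxPre f M := by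
  refine HomologicalComplex.hom_ext _ _ fun i => ModuleCat.hom_ext (LinearMap.ext fun z => ?_)
  rw [homCxPre_apply, HomologicalComplex.comp_f, ModuleCat.hom_comp, LinearMap.comp_apply,
    homCxPre_apply, homCxPre_apply, preG_comp]
  rfl

lemma homCxPre_zero (M : DRing.Cx A) : homCxPre (0 : L' ⟶ L) M = 0 := by
  refine HomologicalComplex.hom_ext _ _ fun i => ModuleCat.hom_ext (LinearMap.ext fun z => ?_)
  rw [homCxPre_apply]
  exact preG_zero M i z

end PreG

section Homotopy

variable {L L' : DRing.Cx A}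

/-- the homotopy operator `w ↦ (-1)^p z.comp w` -/
noncomputable def sLin (z : Cochain L' L (-1)) (M : DRing.Cx A) (p q : ℤ) (hpq : p + (-1) = q) :
    Cochain L M p →ₗ[A] Cochain L' M q where
  toFun w := p.negOnePow • z.comp w (by omega)
  map_add' w w' := by rw [Cochain.comp_add, smul_add]
  map_smul' a w := by
    rw [Cochain.comp_smul, RingHom.id_apply, smul_comm]

/-- the homotopy cochain -/
noncomputable def sCochain (z : Cochain L' L (-1)) (M : DRing.Cx A) :
    Cochain (DRing.homCx L M) (DRing.homCx L' M) (-1) :=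
  Cochain.mk (fun p q hpq => ModuleCat.ofHom (sLin z M p q hpq))

lemma key_sCochain {f g : L' ⟶ L} (z : Cochain L' L (-1))
    (hz : Cochain.ofHom f = δ (-1) 0 z + Cochain.ofHom g) (M : DRing.Cx A) :
    Cochain.ofHom (homCxPre f M) = δ (-1) 0 (sCochain z M) + Cochain.ofHom (homCxPre g M) := by
  refine Cochain.ext _ _ (fun p q hpq => ?_)
  obtain rfl : p = q := by omega
  rw [Cochain.add_v, Cochain.ofHom_v, Cochain.ofHom_v,
    δ_v (-1) 0 (by norm_num) (sCochain z M) p p (add_zero p) (p - 1) (p + 1) rfl rfl]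
  refine ModuleCat.hom_ext (LinearMap.ext fun (w : Cochain L M p) => ?_)
  have hδ := δ_comp z w (show (-1 : ℤ) + p = p - 1 by omega) 0 (p + 1) p (by omega) (by norm_num) rfl
  show (Cochain.ofHom f).comp w (zero_add p) =
    δ (p - 1) p ((p.negOnePow • z.comp w (by omega) : Cochain L' M (p - 1))) +
      (0 : ℤ).negOnePow • ((p + 1).negOnePow • z.comp (δ p (p + 1) w) (by omega) : Cochain L' M p) +
      (Cochain.ofHom g).comp w (zero_add p)
  rw [δ_units_smul, hδ, Int.negOnePow_zero, one_smul, Int.negOnePow_succ, Units.neg_smul, smul_add,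
    smul_smul, Int.units_mul_self, one_smul, hz, Cochain.add_comp]
  abel

lemma nonempty_homotopy_homCxPre {f g : L' ⟶ L} (h : Homotopy f g) (M : DRing.Cx A) :
    Nonempty (Homotopy (homCxPre f M) (homCxPre g M)) := by
  obtain ⟨z, hz⟩ := Cochain.equivHomotopy f g h
  exact ⟨(Cochain.equivHomotopy _ _).symm ⟨sCochain z M, key_sCochain z hz M⟩⟩

/-- `Hom•(-, M)` preserves homotopy equivalences -/
noncomputable def homCxHomotopyEquiv (e : HomotopyEquiv L' L) (M : DRing.Cx A) :
    HomotopyEquiv (DRing.homCx L M) (DRing.homCx L' M) where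
  hom := homCxPre e.hom M
  inv := homCxPre e.inv M
  homotopyHomInvId := by
    refine (Homotopy.ofEq ?_).trans
      ((nonempty_homotopy_homCxPre e.homotopyInvHomId M).some.trans (Homotopy.ofEq ?_))
    · rw [← homCxPre_comp]
    · rw [homCxPre_id]
  homotopyInvHomId := by
    refine (Homotopy.ofEq ?_).trans
      ((nonempty_homotopy_homCxPre e.homotopyHomInvId M).some.trans (Homotopy.ofEq ?_))
    · rw [← homCxPre_comp]
    · rw [homCxPre_id]

end Homotopy

section Split

open HomologicalComplex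

/-- the image under `Hom•(-, M)` of a short complex of complexes -/
noncomputable def homSC (S : ShortComplex (DRing.Cx A)) (M : DRing.Cx A) :
    ShortComplex (DRing.Cx A) :=
  ShortComplex.mk (homCxPre S.g M) (homCxPre S.f M) (by
    rw [← homCxPre_comp, S.zero, homCxPre_zero])

section Typed

variable (S : ShortComplex (DRing.Cx A))
  (σ : ∀ n, (S.map (eval (ModuleCat.{u} A) (ComplexShape.up ℤ) n)).Splitting)

/-- the section of a degreewise splitting, with its type in normal form -/
noncomputable def σs (p : ℤ) : S.X₃.X p ⟶ S.X₂.X p := (σ p).s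

/-- the retraction of a degreewise splitting, with its type in normal form -/
noncomputable def σr (p : ℤ) : S.X₂.X p ⟶ S.X₁.X p := (σ p).r

lemma σs_g (p : ℤ) : σs S σ p ≫ S.g.f p = 𝟙 (S.X₃.X p) := (σ p).s_g

lemma f_σr (p : ℤ) : S.f.f p ≫ σr S σ p = 𝟙 (S.X₁.X p) := (σ p).f_r

lemma σ_id (p : ℤ) : σr S σ p ≫ S.f.f p + S.g.f p ≫ σs S σ p = 𝟙 (S.X₂.X p) := (σ p).id

end Typed

/-- a degreewise splitting is sent to a degreewise splitting -/
noncomputable def homSCSplitting (S : ShortComplex (DRing.Cx A))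
    (σ : ∀ n, (S.map (eval (ModuleCat.{u} A) (ComplexShape.up ℤ) n)).Splitting) (M : DRing.Cx A)
    (n : ℤ) : ((homSC S M).map (eval (ModuleCat.{u} A) (ComplexShape.up ℤ) n)).Splitting where
  r := ModuleCat.ofHom (preG (σs S σ) M n)
  s := ModuleCat.ofHom (preG (σr S σ) M n)
  f_r := by
    refine ModuleCat.hom_ext (LinearMap.ext fun (w : Cochain S.X₃ M n) => ?_)
    show preG (σs S σ) M n (preG S.g.f M n w) = w
    rw [preG_comp, preG_congr (σs_g S σ), preG_id]
  s_g := by
    refine ModuleCat.hom_ext (LinearMap.ext fun (w : Cochain S.X₁ M n) => ?_)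
    show preG S.f.f M n (preG (σr S σ) M n w) = w
    rw [preG_comp, preG_congr (f_σr S σ), preG_id]
  id := by
    refine ModuleCat.hom_ext (LinearMap.ext fun (w : Cochain S.X₂ M n) => ?_)
    show preG S.g.f M n (preG (σs S σ) M n w) + preG (σr S σ) M n (preG S.f.f M n w) = w
    rw [preG_comp, preG_comp, ← preG_add]
    have h : ∀ p, S.g.f p ≫ σs S σ p + σr S σ p ≫ S.f.f p = 𝟙 (S.X₂.X p) := fun p => by
      rw [add_comm]; exact σ_id S σ p
    rw [preG_congr h, preG_id]

end Split

section KF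

open HomologicalComplex

/-- two out of three for K-flatness in degreewise split short exact sequences -/
theorem kf_of_degreewiseSplit (S : ShortComplex (DRing.Cx A))
    (σ : ∀ n, (S.map (eval (ModuleCat.{u} A) (ComplexShape.up ℤ) n)).Splitting) :
    (KF A S.X₁ → KF A S.X₂ → KF A S.X₃) ∧ (KF A S.X₁ → KF A S.X₃ → KF A S.X₂) ∧
      (KF A S.X₂ → KF A S.X₃ → KF A S.X₁) := by
  have hT : CochainComplex.trianglehOfDegreewiseSplit S σ ∈
      Pretriangulated.distinguishedTriangles :=
    (HomotopyCategory.distinguished_iff_iso_trianglehOfDegreewiseSplit _).2 ⟨S, σ, ⟨Iso.refl _⟩⟩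
  have h := isKFlat_distTriang (F := T A) _ hT
  simp only [kf_iff]
  exact h

/-- K-flatness passes to retracts -/
theorem kf_of_retract {X Y : DRing.Cx A} (i : X ⟶ Y) (r : Y ⟶ X) (h : i ≫ r = 𝟙 X)
    (hY : KF A Y) : KF A X := by
  intro L hL j
  have h1 : (L ◁ i) ≫ (L ◁ r) = 𝟙 (L ⊗ X) := by
    rw [← MonoidalCategory.whiskerLeft_comp, h, MonoidalCategory.whiskerLeft_id]
  have h2 : HomologicalComplex.homologyMap (L ◁ i) j ≫ HomologicalComplex.homologyMap (L ◁ r) j =
      𝟙 _ := by
    rw [← HomologicalComplex.homologyMap_comp, h1, HomologicalComplex.homologyMap_id]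
  rw [IsZero.iff_id_eq_zero, ← h2, (hY L hL j).eq_of_tgt (HomologicalComplex.homologyMap (L ◁ i) j) 0,
    Limits.zero_comp]

/-- K-flatness is invariant under homotopy equivalences -/
theorem kf_of_homotopyEquiv {X Y : DRing.Cx A} (e : HomotopyEquiv X Y) (hX : KF A X) : KF A Y := by
  rw [kf_iff] at hX ⊢
  exact isKFlat_of_homotopyEquiv e hX

/-- a complex with zero terms is K-flat -/
theorem kf_of_isZero_X (X : DRing.Cx A) (hX : ∀ n, IsZero (X.X n)) : KF A X := by
  rw [kf_iff]
  exact isKFlat_of_isZero_X X hX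

end KF

end Groth.Agent.Lib.HomKFlat
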