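import Mathlib
import Groth.Prelude.Def_DRing4
import Groth.Agent.Lib.HomKFlat1_helper2
import Groth.Agent.Lib.BrutalTrunc_helper2
import Groth.Agent.Lib.PerfectCx_helper2

/-!
# `Hom•(P, K)` is K-flat for `P` perfect and `K` K-flat (helper2)

`PK K E` is the statement that `Hom•(E, K)` is K-flat. It is invariant under homotopy equivalences,
satisfies two out of three in degreewise split short exact sequences, is stable under retracts,
holds for contractible complexes and (if `K` is K-flat) for the unit complex. Hence it holds for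
bounded complexes of finite projective modules, and for every K-projective representative of a
perfect complex.
-/

set_option autoImplicit false
universe u
open CategoryTheory Limits MonoidalCategory CochainComplex CochainComplex.HomComplex
open scoped ZeroObject

namespace Groth.Agent.Lib.HomKFlat

open Groth.Agent.Lib.KFlatMod Groth.Agent.Lib.HomCx Groth.Agent.Lib.KFlatGen HomologicalComplex

variable {A : Type u} [CommRing A]

/-- a contractible complex is K-flat -/
theorem kf_of_contractible (X : DRing.Cx A) (h : Homotopy (𝟙 X) 0) : KF A X := by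
  have e : HomotopyEquiv (0 : DRing.Cx A) X :=
    { hom := 0
      inv := 0
      homotopyHomInvId := Homotopy.ofEq ((isZero_zero _).eq_of_src _ _)
      homotopyInvHomId := (Homotopy.ofEq (by simp)).trans h.symm }
  exact kf_of_homotopyEquiv e (kf_of_isZero_X 0 (fun n =>
    Functor.map_isZero (eval (ModuleCat.{u} A) (ComplexShape.up ℤ) n) (isZero_zero _)))

lemma nonempty_homotopy_id_mappingCone_id (E : DRing.Cx A) :
    Nonempty (Homotopy (𝟙 (mappingCone (𝟙 E))) 0) := by
  have hT := HomotopyCategory.mappingCone_triangleh_distinguished (𝟙 E)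
  have hiso : IsIso (mappingCone.triangleh (𝟙 E)).mor₁ := by
    show IsIso ((HomotopyCategory.quotient _ _).map (𝟙 E))
    rw [CategoryTheory.Functor.map_id]; infer_instance
  have hZ : IsZero (mappingCone.triangleh (𝟙 E)).obj₃ :=
    Pretriangulated.Triangle.isZero₃_of_isIso₁ _ hT hiso
  have h : (HomotopyCategory.quotient _ _).map (𝟙 (mappingCone (𝟙 E))) =
      (HomotopyCategory.quotient _ _).map 0 := hZ.eq_of_src _ _
  exact ⟨HomotopyCategory.homotopyOfEq _ _ h⟩

variable (K : DRing.Cx A)

/-- `Hom•(E, K)` is K-flat -/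
def PK (E : DRing.Cx A) : Prop := KF A (DRing.homCx E K)

variable {K}

lemma PK_of_homotopyEquiv {E E' : DRing.Cx A} (e : HomotopyEquiv E E') (h : PK K E) : PK K E' :=
  kf_of_homotopyEquiv (homCxHomotopyEquiv e K).symm h

lemma PK_of_iso {E E' : DRing.Cx A} (e : E ≅ E') (h : PK K E) : PK K E' :=
  PK_of_homotopyEquiv (HomotopyEquiv.ofIso e) h

lemma PK_of_degreewiseSplit (S : ShortComplex (DRing.Cx A))
    (σ : ∀ n, (S.map (eval (ModuleCat.{u} A) (ComplexShape.up ℤ) n)).Splitting) :
    (PK K S.X₁ → PK K S.X₃ → PK K S.X₂) ∧ (PK K S.X₂ → PK K S.X₃ → PK K S.X₁) ∧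
      (PK K S.X₁ → PK K S.X₂ → PK K S.X₃) := by
  obtain ⟨h1, h2, h3⟩ := kf_of_degreewiseSplit (homSC S K) (homSCSplitting S σ K)
  exact ⟨fun a c => h2 c a, fun b c => h1 c b, fun a b => h3 b a⟩

lemma PK_of_retract {E E' : DRing.Cx A} (i : E ⟶ E') (r : E' ⟶ E) (h : i ≫ r = 𝟙 E)
    (hE' : PK K E') : PK K E :=
  kf_of_retract (homCxPre r K) (homCxPre i K) (by rw [← homCxPre_comp, h, homCxPre_id]) hE'

lemma PK_of_isZero_X (E : DRing.Cx A) (hE : ∀ n, IsZero (E.X n)) : PK K E := by
  apply kf_of_isZero_X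
  intro n
  haveI : Subsingleton (Cochain E K n) := ⟨fun z z' =>
    Cochain.ext _ _ (fun p q hpq => (hE p).eq_of_src _ _)⟩
  exact ModuleCat.isZero_of_subsingleton (ModuleCat.of A (Cochain E K n))

lemma PK_of_contractible (E : DRing.Cx A) (h : Homotopy (𝟙 E) 0) : PK K E := by
  obtain ⟨h'⟩ := nonempty_homotopy_homCxPre h K
  exact kf_of_contractible _ ((Homotopy.ofEq (homCxPre_id K).symm).trans
    (h'.trans (Homotopy.ofEq (homCxPre_zero K))))

lemma PK_shift_iff (E : DRing.Cx A) : PK K (E⟦(1 : ℤ)⟧) ↔ PK K E := by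
  obtain ⟨h⟩ := nonempty_homotopy_id_mappingCone_id E
  have hc : PK K (mappingCone (𝟙 E)) := PK_of_contractible _ h
  obtain ⟨h1, h2, h3⟩ := PK_of_degreewiseSplit (K := K)
    (mappingCone.triangleRotateShortComplex (𝟙 E))
    (mappingCone.triangleRotateShortComplexSplitting (𝟙 E))
  exact ⟨fun h => h2 hc h, fun h => h3 h hc⟩

/-- the complex with `Q` in degree `m` -/
noncomputable abbrev Sg (m : ℤ) (Q : ModuleCat.{u} A) : DRing.Cx A :=
  (HomologicalComplex.single (ModuleCat.{u} A) (ComplexShape.up ℤ) m).obj Q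

lemma PK_single_succ_iff (Q : ModuleCat.{u} A) (m : ℤ) :
    PK K (Sg (m + 1) Q) ↔ PK K (Sg m Q) := by
  rw [← PK_shift_iff]
  exact ⟨PK_of_iso (((CochainComplex.singleFunctors (ModuleCat.{u} A)).shiftIso 1 m (m + 1)
      (by omega)).app Q),
    PK_of_iso (((CochainComplex.singleFunctors (ModuleCat.{u} A)).shiftIso 1 m (m + 1)
      (by omega)).app Q).symm⟩

lemma PK_single_iff (Q : ModuleCat.{u} A) (m : ℤ) : PK K (Sg m Q) ↔ PK K (Sg 0 Q) := by
  induction m using Int.induction_on with
  | zero => exact Iff.rfl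
  | succ i ih => rw [PK_single_succ_iff, ih]
  | pred i ih =>
    have := PK_single_succ_iff (K := K) Q (-(i : ℤ) - 1)
    rw [show -(i : ℤ) - 1 + 1 = -(i : ℤ) by ring] at this
    rw [← this, ih]

lemma PK_unit (hK : KF A K) : PK K (𝟙_ (DRing.Cx A)) := by
  have e : DRing.homCxFunctor (𝟙_ (DRing.Cx A)) ≅ 𝟭 _ :=
    ((adjC (𝟙_ (DRing.Cx A))).ofNatIsoLeft (rightUnitorNatIso _)).rightAdjointUniq Adjunction.id
  have e' : DRing.homCx (𝟙_ (DRing.Cx A)) K ≅ K := e.app K
  exact kf_of_homotopyEquiv (HomotopyEquiv.ofIso e'.symm) hK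

lemma PK_single_of_splitting (S : ShortComplex (ModuleCat.{u} A)) (s : S.Splitting) (m : ℤ)
    (h1 : PK K (Sg m S.X₁)) (h3 : PK K (Sg m S.X₃)) : PK K (Sg m S.X₂) := by
  have σ : ∀ n, ((S.map (HomologicalComplex.single (ModuleCat.{u} A) (ComplexShape.up ℤ) m)).map
      (eval _ _ n)).Splitting :=
    fun n => (s.map (HomologicalComplex.single _ _ m)).map (eval _ _ n)
  exact (PK_of_degreewiseSplit (K := K) _ σ).1 h1 h3

lemma PK_single_of_finite_projective (hK : KF A K) (Q : ModuleCat.{u} A) [Module.Finite A Q]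
    [Module.Projective A Q] (m : ℤ) : PK K (Sg m Q) := by
  have key : ∀ t : TensorProduct A (Module.Dual A Q) Q,
      ∃ (F : ModuleCat.{u} A) (ι : Q ⟶ F) (π : F ⟶ Q),
        PK K (Sg m F) ∧ (ι ≫ π).hom = dualTensorHom A Q Q t := by
    intro t
    induction t using TensorProduct.induction_on with
    | zero =>
      refine ⟨0, 0, 0, PK_of_isZero_X _ (fun n => ?_), ?_⟩
      · exact Functor.map_isZero (HomologicalComplex.single (ModuleCat.{u} A) (ComplexShape.up ℤ) m ⋙
          eval (ModuleCat.{u} A) (ComplexShape.up ℤ) n) (isZero_zero _)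
      · rw [map_zero, Limits.zero_comp]; rfl
    | tmul f q =>
      refine ⟨𝟙_ (ModuleCat.{u} A), ModuleCat.ofHom f,
        ModuleCat.ofHom (LinearMap.toSpanSingleton A Q q), (PK_single_iff _ m).2 (PK_unit hK), ?_⟩
      refine LinearMap.ext fun x => ?_
      rw [dualTensorHom_apply]
      rfl
    | add t₁ t₂ h₁ h₂ =>
      obtain ⟨F₁, ι₁, π₁, hF₁, e₁⟩ := h₁
      obtain ⟨F₂, ι₂, π₂, hF₂, e₂⟩ := h₂
      refine ⟨F₁ ⊞ F₂, biprod.lift ι₁ ι₂, biprod.desc π₁ π₂, ?_, ?_⟩
      · exact PK_single_of_splitting _ (ShortComplex.Splitting.ofHasBinaryBiproduct F₁ F₂) m hF₁ hF₂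
      · rw [biprod.lift_desc, ModuleCat.hom_add, e₁, e₂, map_add]
  obtain ⟨t, ht⟩ := (dualTensorHom_bijective (R := A) (M := Q) (N := Q)).2 LinearMap.id
  obtain ⟨F, ι, π, hF, e⟩ := key t
  have hιπ : ι ≫ π = 𝟙 Q := ModuleCat.hom_ext (by rw [e, ht]; rfl)
  exact PK_of_retract ((HomologicalComplex.single _ _ m).map ι)
    ((HomologicalComplex.single _ _ m).map π)
    (by rw [← CategoryTheory.Functor.map_comp, hιπ, CategoryTheory.Functor.map_id]) hF

open Groth.Agent.Lib.BrutalTrunc in
theorem PK_of_bounded_finite_projective (hK : KF A K) (E : DRing.Cx A) (a b : ℤ)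
    (hE : DRing.VanishesOutside E a b) (hfp : DRing.TermwiseFiniteProjective E) : PK K E := by
  have H : ∀ (k : ℕ) (m : ℤ), b + 1 - m ≤ k → PK K (sigmaGE E m) := by
    intro k
    induction k with
    | zero =>
      intro m hm
      apply PK_of_isZero_X
      intro n
      by_cases hn : m ≤ n
      · exact isZero_sigmaGE_X' E m n (hE n (Or.inr (by omega)))
      · exact isZero_sigmaGE_X E hn
    | succ k ih =>
      intro m hm
      have h1 : PK K (sigmaGE E (m + 1)) := ih (m + 1) (by omega)
      have hS := sc_shortExact E m (m + 1) rfl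
      have hdeg := (HomologicalComplex.shortExact_iff_degreewise_shortExact _).1 hS
      have σ : ∀ n, ((sc E m (m + 1) rfl).map
          (eval (ModuleCat.{u} A) (ComplexShape.up ℤ) n)).Splitting := fun n => by
        haveI : Projective ((sc E m (m + 1) rfl).map
            (eval (ModuleCat.{u} A) (ComplexShape.up ℤ) n)).X₃ := by
          show Projective (((HomologicalComplex.single (ModuleCat.{u} A) (ComplexShape.up ℤ)
            m).obj (E.X m)).X n)
          by_cases hn : n = m
          · subst hn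
            haveI := (hfp n).2
            exact Projective.of_iso
              (HomologicalComplex.singleObjXSelf (ComplexShape.up ℤ) n (E.X n)).symm inferInstance
          · exact (HomologicalComplex.isZero_single_obj_X (ComplexShape.up ℤ) _ _ _ hn).projective
        exact (hdeg n).splittingOfProjective
      haveI := (hfp m).1
      haveI := (hfp m).2
      exact (PK_of_degreewiseSplit (K := K) _ σ).1 h1
        (PK_single_of_finite_projective hK (E.X m) m)
  haveI : ∀ n, IsIso ((incl E a).f n) := fun n => by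
    by_cases hn : a ≤ n
    · exact isIso_ι E hn
    · exact ⟨0, (isZero_sigmaGE_X E hn).eq_of_src _ _, (hE n (Or.inl (by omega))).eq_of_src _ _⟩
  haveI : IsIso (incl E a) := HomologicalComplex.Hom.isIso_of_components _
  exact PK_of_iso (asIso (incl E a)) (H (b + 1 - a).toNat a (by omega))

/-- **`Hom•(P, K)` is K-flat for `P` a bounded above complex of projectives representing a perfect
object and `K` K-flat.** -/
theorem kf_homCx_of_perfect (P K : DRing.Cx A) (b : ℤ) (hPb : DRing.VanishesAbove P b)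
    (hPp : ∀ i : ℤ, Module.Projective A (P.X i))
    (hperf : DRing.IsPerfect A (DRing.toD P)) (hK : KF A K) : KF A (DRing.homCx P K) := by
  letI := HasDerivedCategory.standard (ModuleCat.{u} A)
  obtain ⟨E, a', b', hE, hfp, ⟨e⟩⟩ := hperf
  haveI : E.IsStrictlyLE b' := by
    rw [CochainComplex.isStrictlyLE_iff]
    exact fun i hi => hE i (Or.inr hi)
  haveI : ∀ n, Projective (E.X n) := fun n => by
    haveI := (hfp n).2
    infer_instance
  haveI : E.IsKProjective := CochainComplex.isKProjective_of_projective E b'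
  haveI : P.IsStrictlyLE b := by
    rw [CochainComplex.isStrictlyLE_iff]
    exact hPb
  haveI : ∀ n, Projective (P.X n) := fun n => by
    haveI := hPp n
    infer_instance
  haveI : P.IsKProjective := CochainComplex.isKProjective_of_projective P b
  obtain ⟨f, hf, -⟩ := Groth.Agent.PerfectCx.exists_quasiIso_of_iso E P e
  obtain ⟨e', -⟩ := (CochainComplex.IsKProjective.quasiIso_iff f).1 hf
  exact PK_of_homotopyEquiv e' (PK_of_bounded_finite_projective hK E a' b' hE hfp)

end Groth.Agent.Lib.HomKFlat
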