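import Mathlib
import Groth.Prelude.Def_DRing2
import Groth.Agent.Lib.DMod3_helper6

/-!
# Derived category toolkit (helper6), part 4: perfect objects lie in every thick subcategory
containing `A[0]`.
-/

set_option autoImplicit false
universe u
open CategoryTheory CategoryTheory.Limits Pretriangulated DerivedCategory ZeroObject
attribute [local instance] HasDerivedCategory.standard

namespace Groth.Agent.Lib.DMod_helper6

open DRing

variable {A : Type u} [CommRing A]

/-- Closure under direct summands implies closure under retracts. -/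
lemma prop_of_retract (P : ObjectProperty (Dual.D A)) [P.IsClosedUnderIsomorphisms]
    (hsum : ∀ (X Y : Dual.D A) [HasBinaryBiproduct X Y], P (X ⊞ Y) → P X)
    {X Y : Dual.D A} (i : X ⟶ Y) (r : Y ⟶ X) (h : i ≫ r = 𝟙 X) (hY : P Y) : P X := by
  obtain ⟨Z, g, δ, mem⟩ := distinguished_cocone_triangle i
  haveI : IsSplitMono i := ⟨⟨⟨r, h⟩⟩⟩
  have h0 : (Triangle.mk i g δ).mor₃ = 0 :=
    Triangle.mor₃_eq_zero_of_mono₁ _ mem (by show Mono i; infer_instance)
  obtain ⟨e, -, -⟩ := exists_iso_binaryBiproduct_of_distTriang _ mem h0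
  exact hsum X Z (P.prop_of_iso e hY)

theorem prop_of_isPerfect (P : ObjectProperty (Dual.D A)) [P.IsClosedUnderIsomorphisms]
    (hA : P (Dual.inD A A))
    (hshift : ∀ (K : Dual.D A) (n : ℤ), P K → P ((shiftFunctor (Dual.D A) n).obj K))
    (hext : ∀ T : Triangle (Dual.D A), T ∈ distTriang _ → P T.obj₁ → P T.obj₃ → P T.obj₂)
    (hsum : ∀ (X Y : Dual.D A) [HasBinaryBiproduct X Y], P (X ⊞ Y) → P X)
    (K : Dual.D A) (hK : IsPerfect A K) : P K := by
  have h0 : P (0 : Dual.D A) :=
    hsum 0 (Dual.inD A A) (P.prop_of_iso (isoZeroBiprod (isZero_zero _)) hA)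
  haveI : P.ContainsZero := ⟨⟨0, isZero_zero _, h0⟩⟩
  haveI : P.IsStableUnderShift ℤ := ⟨fun n => ⟨fun K hK => hshift K n hK⟩⟩
  haveI : P.IsTriangulatedClosed₂ := .mk' hext
  haveI : P.IsTriangulated := {}
  have hfree : ∀ n : ℕ, P (Dual.inD A (Fin n → A)) := by
    intro n
    induction n with
    | zero =>
      refine P.prop_of_isZero ((singleFunctor _ 0).map_isZero ?_)
      exact ModuleCat.isZero_of_subsingleton _
    | succ n ih =>
      have e : ModuleCat.of A (A × (Fin n → A)) ≅ ModuleCat.of A (Fin (n + 1) → A) :=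
        (Fin.consLinearEquiv A (fun _ : Fin (n + 1) => A)).toModuleIso
      have e2 : (ModuleCat.of A A ⊞ ModuleCat.of A (Fin n → A) : ModuleCat.{u} A) ≅
          ModuleCat.of A (A × (Fin n → A)) := ModuleCat.biprodIsoProd _ _
      haveI : PreservesBinaryBiproducts (singleFunctor (ModuleCat.{u} A) 0) :=
        preservesBinaryBiproducts_of_preservesBiproducts _
      have h1 : P ((singleFunctor (ModuleCat.{u} A) 0).obj (ModuleCat.of A A) ⊞
          (singleFunctor (ModuleCat.{u} A) 0).obj (ModuleCat.of A (Fin n → A))) :=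
        hext _ (binaryBiproductTriangle_distinguished _ _) hA ih
      exact P.prop_of_iso (((singleFunctor (ModuleCat.{u} A) 0).mapBiprod (ModuleCat.of A A)
        (ModuleCat.of A (Fin n → A))).symm ≪≫
        (singleFunctor (ModuleCat.{u} A) 0).mapIso (e2 ≪≫ e)) h1
  have hproj : ∀ (M : ModuleCat.{u} A), Module.Finite A M → Module.Projective A M →
      P (Dual.inD A M) := by
    intro M _ _
    obtain ⟨n, f, hf⟩ := Module.Finite.exists_fin' A M
    obtain ⟨s, hs⟩ := Module.projective_lifting_property f LinearMap.id hf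
    refine prop_of_retract P hsum
      ((singleFunctor (ModuleCat.{u} A) 0).map (ModuleCat.ofHom s))
      ((singleFunctor (ModuleCat.{u} A) 0).map (ModuleCat.ofHom f)) ?_ (hfree n)
    rw [← Functor.map_comp, ← ModuleCat.ofHom_comp, hs]
    exact (singleFunctor (ModuleCat.{u} A) 0).map_id _
  obtain ⟨E, a, b, h1, h2, ⟨e⟩⟩ := hK
  exact P.prop_of_iso e (devissage_termwise' P E a b h1 (fun i => hproj (E.X i) (h2 i).1 (h2 i).2))

end Groth.Agent.Lib.DMod_helper6
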