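import Mathlib
import Groth.Prelude.Def_DRing2
import Groth.Prelude.Def_DDual2
import Groth.Prelude.Def_Wider
import Groth.Agent.Lib.DMod82_helper6
import Groth.Agent.Lib.DMod25_helper6

/-!
# `φ^!(R)` for a local complete intersection (helper6), part 2: `H^c(X) ≃ Hom(B, X[c])`, linearly.
-/

set_option autoImplicit false
universe u
open CategoryTheory CategoryTheory.Limits DerivedCategory Pretriangulated ZeroObject
attribute [local instance] HasDerivedCategory.standard

namespace Groth.Agent.Lib.ShriekLciH6

open DRing Groth.Agent.Lib.DMod_helper6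

variable {B : Type u} [CommRing B]

/-- a chain map from a module placed in degree `c` which factors through the differential
`L^{c-1} → L^c` vanishes in the derived category -/
lemma Q_map_mkHomFromSingle_eq_zero (L : Cx B) (c' c : ℤ) (hc : c' + 1 = c) (M : ModuleCat.{u} B)
    (s : M ⟶ L.X c')
    (hg : ∀ j, (ComplexShape.up ℤ).Rel c j → (s ≫ L.d c' c) ≫ L.d c j = 0) :
    Q.map (HomologicalComplex.mkHomFromSingle (s ≫ L.d c' c) hg) = 0 := by
  let S := (HomologicalComplex.single (ModuleCat.{u} B) (ComplexShape.up ℤ) c).obj M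
  let H : Homotopy (HomologicalComplex.mkHomFromSingle (s ≫ L.d c' c) hg) (0 : S ⟶ L) :=
    { hom := fun i j => if h : i = c ∧ j = c' then
        eqToHom (by rw [h.1]) ≫
          (HomologicalComplex.singleObjXSelf (ComplexShape.up ℤ) c M).hom ≫ s ≫
            eqToHom (by rw [h.2]) else 0
      zero := fun i j hij => by
        rw [dif_neg]
        rintro ⟨rfl, rfl⟩
        exact hij hc
      comm := fun i => by
        by_cases hi : i = c
        · subst hi
          rw [dNext_eq _ (show (ComplexShape.up ℤ).Rel i (i + 1) from rfl),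
            prevD_eq _ (show (ComplexShape.up ℤ).Rel c' i from hc),
            HomologicalComplex.single_obj_d, zero_comp, zero_add,
            dif_pos ⟨rfl, rfl⟩]
          simp [HomologicalComplex.mkHomFromSingle_f]
        · exact (HomologicalComplex.isZero_single_obj_X _ c M i hi).eq_of_src _ _ }
  rw [DerivedCategory.Q_map_eq_of_homotopy _ H, Functor.map_zero]

/-- the class of a cycle map, linearly -/
noncomputable def classLin (C : Cx B) (c : ℤ) :
    (ModuleCat.of B B ⟶ C.cycles c) →ₗ[B] C.homology c where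
  toFun u := (u ≫ C.homologyπ c).hom (1 : B)
  map_add' u u' := by
    rw [Preadditive.add_comp]
    rfl
  map_smul' b u := by
    rw [Linear.smul_comp]
    rfl

lemma classLin_surjective (C : Cx B) (c : ℤ) : Function.Surjective (classLin C c) := by
  intro x
  haveI : Projective (ModuleCat.of B B) :=
    (IsProjective.iff_projective (R := B) B).1 (inferInstance : Module.Projective B B)
  let v : ModuleCat.of B B ⟶ C.homology c := ModuleCat.ofHom (LinearMap.toSpanSingleton B _ x)
  refine ⟨Projective.factorThru v (C.homologyπ c), ?_⟩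
  show (Projective.factorThru v (C.homologyπ c) ≫ C.homologyπ c).hom (1 : B) = x
  rw [Projective.factorThru_comp]
  show (LinearMap.toSpanSingleton B _ x) 1 = x
  rw [LinearMap.toSpanSingleton_apply, one_smul]

lemma classLin_eq_zero_iff (C : Cx B) (c : ℤ) (u : ModuleCat.of B B ⟶ C.cycles c) :
    classLin C c u = 0 ↔ u ≫ C.homologyπ c = 0 := by
  constructor
  · intro h
    ext
    show (u ≫ C.homologyπ c).hom (1 : B) = 0
    exact h
  · intro h
    show (u ≫ C.homologyπ c).hom (1 : B) = 0
    rw [h]
    rfl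

/-- a cycle map with vanishing class factors through the boundaries. -/
lemma exists_factor_toCycles (C : Cx B) (c' c : ℤ) (hc : c' + 1 = c)
    (u : ModuleCat.of B B ⟶ C.cycles c) (h : u ≫ C.homologyπ c = 0) :
    ∃ s : ModuleCat.of B B ⟶ C.X c', u = s ≫ C.toCycles c' c := by
  haveI : Projective (ModuleCat.of B B) :=
    (IsProjective.iff_projective (R := B) B).1 (inferInstance : Module.Projective B B)
  let S : ShortComplex (ModuleCat.{u} B) :=
    ShortComplex.mk (C.toCycles c' c) (C.homologyπ c) (C.toCycles_comp_homologyπ c' c)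
  have hS : S.Exact :=
    ShortComplex.exact_of_g_is_cokernel S (C.homologyIsCokernel c' c (by simp [← hc]))
  exact ⟨hS.liftFromProjective u h, (hS.liftFromProjective_comp u h).symm⟩

lemma cycLin_eq_zero_iff {C : Cx B} {X : Dual.D B} (e : toD C ≅ X) (c : ℤ)
    (u : ModuleCat.of B B ⟶ C.cycles c) : cycLin e c u = 0 ↔ classLin C c u = 0 := by
  rw [classLin_eq_zero_iff]
  constructor
  · exact cycLin_ker_le e c u
  · intro h
    obtain ⟨s, hs⟩ := exists_factor_toCycles C (c - 1) c (by omega) u h
    have h1 : u ≫ C.iCycles c = s ≫ C.d (c - 1) c := by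
      rw [hs, Category.assoc, HomologicalComplex.toCycles_i]
    have h2 : cycHom C c u = HomologicalComplex.mkHomFromSingle (s ≫ C.d (c - 1) c)
        (fun j _ => by rw [Category.assoc, C.d_comp_d, comp_zero]) := by
      apply HomologicalComplex.from_single_hom_ext
      rw [cycHom_f, HomologicalComplex.mkHomFromSingle_f, h1]
    show Q.map (cycHom C c u) ≫ e.hom = 0
    rw [h2, Q_map_mkHomFromSingle_eq_zero C (c - 1) c (by omega), zero_comp]

/-- `Hom(B[-c], X) ≃ H^c(X)`, linearly. -/
theorem nonempty_hom_single_linearEquiv_HD (X : Dual.D B) (c : ℤ) :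
    Nonempty ((toD ((HomologicalComplex.single (ModuleCat.{u} B) (ComplexShape.up ℤ) c).obj
      (ModuleCat.of B B)) ⟶ X) ≃ₗ[B] Dual.HD B X c) := by
  let C : Cx B := Q.objPreimage X
  let e : toD C ≅ X := Q.objObjPreimageIso X
  have hker : LinearMap.ker (cycLin e c) = LinearMap.ker (classLin C c) := by
    ext u
    rw [LinearMap.mem_ker, LinearMap.mem_ker]
    exact cycLin_eq_zero_iff e c u
  let e1 := (cycLin e c).quotKerEquivOfSurjective (cycLin_surjective e c)
  let e2 := (classLin C c).quotKerEquivOfSurjective (classLin_surjective C c)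
  let e3 : C.homology c ≅ (DerivedCategory.homologyFunctor (ModuleCat.{u} B) c).obj X :=
    ((homologyFunctorFactors (ModuleCat.{u} B) c).app C).symm ≪≫
      (DerivedCategory.homologyFunctor _ c).mapIso e
  exact ⟨e1.symm.trans ((Submodule.quotEquivOfEq _ _ hker).trans (e2.trans e3.toLinearEquiv))⟩

/-- `Hom(B, X[c]) ≃ H^c(X)`, linearly. -/
theorem nonempty_hom_inD_shift_linearEquiv_HD (X : Dual.D B) (c : ℤ) :
    Nonempty ((Dual.inD B B ⟶ X⟦c⟧) ≃ₗ[B] Dual.HD B X c) := by
  obtain ⟨e1⟩ := nonempty_hom_single_linearEquiv_HD (X⟦c⟧) 0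
  let e2 : Dual.HD B (X⟦c⟧) 0 ≃ₗ[B] Dual.HD B X c :=
    (((homologyFunctor (ModuleCat.{u} B) 0).shiftIso c 0 c (add_zero c)).app X).toLinearEquiv
  let e0 : (Dual.inD B B ⟶ X⟦c⟧) ≃ₗ[B]
      (toD ((HomologicalComplex.single (ModuleCat.{u} B) (ComplexShape.up ℤ) 0).obj
        (ModuleCat.of B B)) ⟶ X⟦c⟧) :=
    Linear.homCongr B ((singleFunctorIsoCompQ (ModuleCat.{u} B) 0).app (ModuleCat.of B B))
      (Iso.refl _)
  exact ⟨e0.trans (e1.trans e2)⟩

end Groth.Agent.Lib.ShriekLciH6
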