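import Mathlib
import Groth.Prelude.Def_DRing2
import Groth.Prelude.Def_DDual2
import Groth.Prelude.Def_Wider
import Groth.Agent.Lib.FlatBC1_helper6
import Groth.Agent.Lib.ShriekLci2_helper6

/-!
# Flat base change for `RHom` (helper6), part 2: `Hom(B[-c], K) ≃ H^c(K)` naturally.

For an object `Y` of `D(B)` and an element `g` of `H^c(Y)` we consider the evaluation
`evLin g K : Hom(Y, K) → H^c(K)`, `f ↦ H^c(f)(g)` (natural in `K`), and say that `(Y, g)`
corepresents `H^c` when it is bijective for all `K`.  The pair `(B[-c], 1)` corepresents `H^c`.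
-/

set_option autoImplicit false
universe u
open CategoryTheory CategoryTheory.Limits DerivedCategory
attribute [local instance] HasDerivedCategory.standard

namespace Groth.Agent.Lib.FlatBCH6

open DRing Groth.Agent.Lib.DMod_helper6 Groth.Agent.Lib.ShriekLciH6

variable {B : Type u} [CommRing B]

/-- evaluation at a cohomology class -/
noncomputable def evLin {Y : Dual.D B} (c : ℤ) (g : Dual.HD B Y c) (K : Dual.D B) :
    (Y ⟶ K) →ₗ[B] Dual.HD B K c where
  toFun f := ((homologyFunctor (ModuleCat.{u} B) c).map f).hom g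
  map_add' f f' := by
    rw [Functor.map_add]
    rfl
  map_smul' b f := by
    rw [Functor.map_smul]
    rfl

lemma evLin_apply {Y : Dual.D B} (c : ℤ) (g : Dual.HD B Y c) (K : Dual.D B) (f : Y ⟶ K) :
    evLin c g K f = ((homologyFunctor (ModuleCat.{u} B) c).map f).hom g := rfl

lemma evLin_comp {Y : Dual.D B} (c : ℤ) (g : Dual.HD B Y c) {K K' : Dual.D B} (f : Y ⟶ K)
    (k : K ⟶ K') :
    evLin c g K' (f ≫ k) = ((homologyFunctor (ModuleCat.{u} B) c).map k).hom (evLin c g K f) := by
  rw [evLin_apply, evLin_apply, Functor.map_comp]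
  rfl

lemma evLin_precomp {Y Y' : Dual.D B} (c : ℤ) (g : Dual.HD B Y' c) (a : Y' ⟶ Y) (K : Dual.D B)
    (f : Y ⟶ K) :
    evLin c g K (a ≫ f) =
      evLin c (((homologyFunctor (ModuleCat.{u} B) c).map a).hom g) K f := by
  rw [evLin_apply, evLin_apply, Functor.map_comp]
  rfl

lemma evLin_smul_left {Y : Dual.D B} (c : ℤ) (g : Dual.HD B Y c) (b : B) (K : Dual.D B)
    (f : Y ⟶ K) : evLin c (b • g) K f = b • evLin c g K f := by
  rw [evLin_apply, evLin_apply, map_smul]

/-- `(Y, g)` corepresents `H^c` -/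
def IsCorep (Y : Dual.D B) (c : ℤ) (g : Dual.HD B Y c) : Prop :=
  ∀ K : Dual.D B, Function.Bijective (evLin c g K)

lemma IsCorep.of_iso {Y Y' : Dual.D B} {c : ℤ} {g : Dual.HD B Y c} (h : IsCorep Y c g)
    (θ : Y ≅ Y') :
    IsCorep Y' c (((homologyFunctor (ModuleCat.{u} B) c).map θ.hom).hom g) := by
  intro K
  have h1 : ∀ f : Y' ⟶ K,
      evLin c (((homologyFunctor (ModuleCat.{u} B) c).map θ.hom).hom g) K f =
        evLin c g K (θ.hom ≫ f) := fun f => (evLin_precomp c g θ.hom K f).symm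
  constructor
  · intro f f' hff
    rw [h1, h1] at hff
    exact (cancel_epi θ.hom).1 ((h K).1 hff)
  · intro y
    obtain ⟨f, hf⟩ := (h K).2 y
    refine ⟨θ.inv ≫ f, ?_⟩
    rw [h1, Iso.hom_inv_id_assoc, hf]

lemma IsCorep.of_unit_smul {Y : Dual.D B} {c : ℤ} {g : Dual.HD B Y c} (h : IsCorep Y c g)
    (w : Bˣ) : IsCorep Y c ((w : B) • g) := by
  intro K
  have h1 : ∀ f : Y ⟶ K, evLin c ((w : B) • g) K f = (w : B) • evLin c g K f :=
    fun f => evLin_smul_left c g w K f
  constructor
  · intro f f' hff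
    rw [h1, h1] at hff
    have := congrArg (fun x => ((w⁻¹ : Bˣ) : B) • x) hff
    simp only [smul_smul, Units.inv_mul, one_smul] at this
    exact (h K).1 this
  · intro y
    obtain ⟨f, hf⟩ := (h K).2 (((w⁻¹ : Bˣ) : B) • y)
    refine ⟨f, ?_⟩
    rw [h1, hf, smul_smul, Units.mul_inv, one_smul]

/-- change of generator -/
lemma IsCorep.of_generator {Y : Dual.D B} {c : ℤ} {g g' : Dual.HD B Y c} (h : IsCorep Y c g)
    (hg : Function.Bijective (fun b : B => b • g))
    (hg' : Function.Surjective (fun b : B => b • g')) : IsCorep Y c g' := by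
  obtain ⟨w, hw⟩ := hg.2 g'
  obtain ⟨w', hw'⟩ := hg' g
  have hw1 : w' * w = 1 := by
    apply hg.1
    show (w' * w) • g = (1 : B) • g
    have hw2 : w • g = g' := hw
    have hw3 : w' • g' = g := hw'
    rw [mul_smul, hw2, hw3, one_smul]
  have hu : IsUnit w := IsUnit.of_mul_eq_one w' (by rw [mul_comm]; exact hw1)
  obtain ⟨u, rfl⟩ := hu
  have := h.of_unit_smul u
  rwa [show (u : B) • g = g' from hw] at this

section Single

variable (B)

/-- the complex `B[-c]` -/
noncomputable abbrev Sx (c : ℤ) : Cx B :=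
  (HomologicalComplex.single (ModuleCat.{u} B) (ComplexShape.up ℤ) c).obj (ModuleCat.of B B)

/-- the cycle map of `1` -/
noncomputable abbrev u₀ (c : ℤ) : ModuleCat.of B B ⟶ (Sx B c).cycles c :=
  (HomologicalComplex.singleObjCyclesSelfIso (ComplexShape.up ℤ) c (ModuleCat.of B B)).inv

/-- the canonical generator of `H^c(B[-c])` -/
noncomputable def g₀ (c : ℤ) : Dual.HD B (toD (Sx B c)) c :=
  ((homologyFunctorFactors (ModuleCat.{u} B) c).inv.app (Sx B c)).hom (classLin (Sx B c) c (u₀ B c))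

variable {B}

lemma cyclesMap_cycHom (C : Cx B) (c : ℤ) (u : ModuleCat.of B B ⟶ C.cycles c) :
    u₀ B c ≫ HomologicalComplex.cyclesMap (cycHom C c u) c = u := by
  rw [← cancel_mono (C.iCycles c), Category.assoc, HomologicalComplex.cyclesMap_i,
    HomologicalComplex.singleObjCyclesSelfIso_inv_iCycles_assoc, cycHom_f, Iso.inv_hom_id_assoc]

lemma homologyMap_cycHom_classLin (C : Cx B) (c : ℤ) (u : ModuleCat.of B B ⟶ C.cycles c) :
    (HomologicalComplex.homologyMap (cycHom C c u) c).hom (classLin (Sx B c) c (u₀ B c)) =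
      classLin C c u := by
  show ((u₀ B c ≫ (Sx B c).homologyπ c) ≫ HomologicalComplex.homologyMap (cycHom C c u) c).hom
    (1 : B) = (u ≫ C.homologyπ c).hom (1 : B)
  rw [Category.assoc, HomologicalComplex.homologyπ_naturality, ← Category.assoc,
    cyclesMap_cycHom]

lemma homologyFunctor_map_cycHom_g₀ (C : Cx B) (c : ℤ) (u : ModuleCat.of B B ⟶ C.cycles c) :
    ((homologyFunctor (ModuleCat.{u} B) c).map (Q.map (cycHom C c u))).hom (g₀ B c) =
      ((homologyFunctorFactors (ModuleCat.{u} B) c).inv.app C).hom (classLin C c u) := by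
  have h := (homologyFunctorFactors (ModuleCat.{u} B) c).inv.naturality (cycHom C c u)
  rw [← homologyMap_cycHom_classLin C c u]
  show ((homologyFunctorFactors (ModuleCat.{u} B) c).inv.app (Sx B c) ≫
    (homologyFunctor (ModuleCat.{u} B) c).map (Q.map (cycHom C c u))).hom _ = _
  exact congrArg (fun φ => (ModuleCat.Hom.hom φ) (classLin (Sx B c) c (u₀ B c))) h.symm

/-- `(B[-c], 1)` corepresents `H^c` -/
theorem isCorep_g₀ (c : ℤ) : IsCorep (toD (Sx B c)) c (g₀ B c) := by
  intro K
  let C : Cx B := Q.objPreimage K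
  let e : toD C ≅ K := Q.objObjPreimageIso K
  let e3 : C.homology c ≅ (homologyFunctor (ModuleCat.{u} B) c).obj K :=
    ((homologyFunctorFactors (ModuleCat.{u} B) c).app C).symm ≪≫
      (homologyFunctor _ c).mapIso e
  have key : ∀ u : ModuleCat.of B B ⟶ C.cycles c,
      evLin c (g₀ B c) K (cycLin e c u) = e3.hom.hom (classLin C c u) := by
    intro u
    show evLin c (g₀ B c) K (Q.map (cycHom C c u) ≫ e.hom) = _
    rw [evLin_comp, evLin_apply, homologyFunctor_map_cycHom_g₀]
    rfl
  have he3 : Function.Bijective e3.hom.hom :=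
    (ConcreteCategory.bijective_of_isIso e3.hom)
  constructor
  · intro f f' hff
    obtain ⟨u, rfl⟩ := cycLin_surjective e c f
    obtain ⟨u', rfl⟩ := cycLin_surjective e c f'
    rw [key, key] at hff
    have h1 : classLin C c (u - u') = 0 := by
      rw [map_sub, he3.1 hff, sub_self]
    have h2 := (cycLin_eq_zero_iff e c (u - u')).2 h1
    rw [map_sub, sub_eq_zero] at h2
    exact h2
  · intro y
    obtain ⟨x, hx⟩ := he3.2 y
    obtain ⟨u, hu⟩ := classLin_surjective C c x
    exact ⟨cycLin e c u, by rw [key, hu, hx]⟩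

lemma bijective_smul_g₀ (c : ℤ) : Function.Bijective (fun b : B => b • g₀ B c) := by
  let φi : ModuleCat.of B B ≅ (homologyFunctor (ModuleCat.{u} B) c).obj (toD (Sx B c)) :=
    (HomologicalComplex.singleObjHomologySelfIso (ComplexShape.up ℤ) c (ModuleCat.of B B)).symm ≪≫
      ((homologyFunctorFactors (ModuleCat.{u} B) c).app (Sx B c)).symm
  have hφ : Function.Bijective φi.hom.hom := ConcreteCategory.bijective_of_isIso φi.hom
  have h0 : φi.hom.hom (1 : B) = g₀ B c := by
    show ((HomologicalComplex.singleObjHomologySelfIso (ComplexShape.up ℤ) c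
      (ModuleCat.of B B)).inv ≫ (homologyFunctorFactors (ModuleCat.{u} B) c).inv.app (Sx B c)).hom 1
      = _
    rw [← HomologicalComplex.singleObjCyclesSelfIso_inv_homologyπ]
    rfl
  have h1 : ∀ b : B, b • g₀ B c = φi.hom.hom b := by
    intro b
    rw [← h0, ← map_smul, smul_eq_mul, mul_one]
  have : (fun b : B => b • g₀ B c) = φi.hom.hom := funext h1
  rw [this]
  exact hφ

end Single

/-- the objects `B[-c]` detect isomorphisms -/
theorem isIso_of_bijective_comp {X Y : Dual.D B} (f : X ⟶ Y)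
    (h : ∀ c : ℤ, Function.Bijective (fun a : toD (Sx B c) ⟶ X => a ≫ f)) : IsIso f := by
  rw [DerivedCategory.isIso_iff]
  intro c
  rw [ConcreteCategory.isIso_iff_bijective]
  have hX := isCorep_g₀ (B := B) c X
  have hY := isCorep_g₀ (B := B) c Y
  have hc : ∀ a : toD (Sx B c) ⟶ X,
      ((homologyFunctor (ModuleCat.{u} B) c).map f).hom (evLin c (g₀ B c) X a) =
        evLin c (g₀ B c) Y (a ≫ f) := fun a => (evLin_comp c (g₀ B c) a f).symm
  constructor
  · intro x x' hxx
    obtain ⟨a, rfl⟩ := hX.2 x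
    obtain ⟨a', rfl⟩ := hX.2 x'
    have h1 : evLin c (g₀ B c) Y (a ≫ f) = evLin c (g₀ B c) Y (a' ≫ f) := by
      rw [← hc, ← hc]
      exact hxx
    rw [(h c).1 (hY.1 h1)]
  · intro y
    obtain ⟨a', rfl⟩ := hY.2 y
    obtain ⟨a, ha⟩ := (h c).2 a'
    refine ⟨evLin c (g₀ B c) X a, ?_⟩
    have ha' : a ≫ f = a' := ha
    show ((homologyFunctor (ModuleCat.{u} B) c).map f).hom (evLin c (g₀ B c) X a) = _
    rw [hc, ha']

end Groth.Agent.Lib.FlatBCH6
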