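import Mathlib
import Groth.Prelude.Def_DRing2
import Groth.Prelude.Def_DDual2
import Groth.Agent.Lib.DMod7_helper6

/-!
# Independence of `φ^!` of the presentation (helper6), part 3: principal retractions, module level.

`Q` a `T`-algebra with a retraction `σ : Q → T` whose kernel is generated by `u`, together with a
`T`-linear "division by `u`" map `r` (`r (u q) = q`, `u r(q) + σ(q) = q`).  For a `T`-module `N` we
get the short exact sequence `0 → Q ⊗ N --u--> Q ⊗ N --ev--> N|_σ → 0` of `Q`-modules, functorial in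
`N` and split over `T`.
-/

set_option autoImplicit false
universe u
open CategoryTheory CategoryTheory.Limits
open scoped TensorProduct

namespace Groth.Agent.Lib.ShriekIndH6

open DRing Groth.Agent.Lib.DMod_helper6 Groth.Agent.ExtendScalarsLib

/-- a principal retraction of the `T`-algebra `Q`. -/
structure PrincRetr (T Q : Type u) [CommRing T] [CommRing Q] [Algebra T Q] where
  σ : Q →+* T
  hσ : ∀ t, σ (algebraMap T Q t) = t
  u : Q
  hu : σ u = 0
  r : Q →+ Q
  hrT : ∀ (t : T) (q : Q), r (algebraMap T Q t * q) = algebraMap T Q t * r q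
  hr1 : ∀ q, r (u * q) = q
  hr2 : ∀ q, u * r q + algebraMap T Q (σ q) = q

section Functor

variable (T Q : Type u) [CommRing T] [CommRing Q] [Algebra T Q]

/-- honest base change functor `N ↦ Q ⊗[T] N`. -/
noncomputable def EB : ModuleCat.{u} T ⥤ ModuleCat.{u} Q where
  obj N := ModuleCat.of Q (Q ⊗[T] N)
  map f := ModuleCat.ofHom (LinearMap.baseChange Q f.hom)
  map_id N := by
    ext : 1
    simp
  map_comp f g := by
    ext : 1
    simp [LinearMap.baseChange_comp]

/-- comparison with Mathlib's extension of scalars. -/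
noncomputable def tauIso : ES T Q ≅ EB T Q :=
  NatIso.ofComponents (fun N => (extendScalarsEquivTensor (S := Q) N).toModuleIso) (by
    intro N N' f
    apply ModuleCat.ExtendScalars.hom_ext
    intro m
    rfl)

/-- the adjunction between base change and restriction. -/
noncomputable def adjB : EB T Q ⊣ ModuleCat.restrictScalars.{u} (algebraMap T Q) :=
  (ModuleCat.extendRestrictScalarsAdj (algebraMap T Q)).ofNatIsoLeft (tauIso T Q)

instance : (EB T Q).Additive where
  map_add {N N' f g} := by
    show ModuleCat.ofHom (LinearMap.baseChange Q (f + g).hom) =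
      ModuleCat.ofHom (LinearMap.baseChange Q f.hom) + ModuleCat.ofHom (LinearMap.baseChange Q g.hom)
    rw [ModuleCat.hom_add, LinearMap.baseChange_add]
    rfl

instance : PreservesFiniteColimits (EB T Q) := by
  haveI : (EB T Q).IsLeftAdjoint := (adjB T Q).isLeftAdjoint
  infer_instance

instance [Module.Flat T Q] : PreservesFiniteLimits (EB T Q) :=
  preservesFiniteLimits_of_natIso (tauIso T Q)

end Functor

section Maps

variable {T Q : Type u} [CommRing T] [CommRing Q] [Algebra T Q] (D : PrincRetr T Q)

/-- `r` as a `T`-linear map. -/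
noncomputable def rLin : Q →ₗ[T] Q where
  toFun := D.r
  map_add' := D.r.map_add
  map_smul' t q := by
    rw [RingHom.id_apply, Algebra.smul_def, Algebra.smul_def]
    exact D.hrT t q

/-- `σ` as a `T`-linear map. -/
noncomputable def sigmaLin : Q →ₗ[T] T where
  toFun := D.σ
  map_add' := D.σ.map_add
  map_smul' t q := by
    rw [RingHom.id_apply, Algebra.smul_def, map_mul, D.hσ, smul_eq_mul]

variable (N : Type u) [AddCommGroup N] [Module T N]

/-- `q ⊗ n ↦ σ(q) n`. -/
noncomputable def evLin : Q ⊗[T] N →ₗ[T] N :=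
  (TensorProduct.lid T N).toLinearMap ∘ₗ LinearMap.rTensor N (sigmaLin D)

/-- `q ⊗ n ↦ r(q) ⊗ n`. -/
noncomputable def rT : Q ⊗[T] N →ₗ[T] Q ⊗[T] N := LinearMap.rTensor N (rLin D)

lemma evLin_tmul (q : Q) (n : N) : evLin D N (q ⊗ₜ n) = D.σ q • n := by
  simp [evLin, sigmaLin]

lemma rT_tmul (q : Q) (n : N) : rT D N (q ⊗ₜ n) = D.r q ⊗ₜ n := by
  simp [rT, rLin]

lemma evLin_smul (q : Q) (x : Q ⊗[T] N) : evLin D N (q • x) = D.σ q • evLin D N x := by
  induction x using TensorProduct.induction_on with
  | zero => simp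
  | tmul q' n =>
    rw [TensorProduct.smul_tmul', smul_eq_mul, evLin_tmul, evLin_tmul, map_mul, mul_smul]
  | add x y hx hy => rw [smul_add, map_add, hx, hy, map_add, smul_add]

lemma rT_u_smul (x : Q ⊗[T] N) : rT D N (D.u • x) = x := by
  induction x using TensorProduct.induction_on with
  | zero => simp
  | tmul q n => rw [TensorProduct.smul_tmul', smul_eq_mul, rT_tmul, D.hr1]
  | add x y hx hy => rw [smul_add, map_add, hx, hy]

lemma u_smul_rT_add (x : Q ⊗[T] N) : D.u • rT D N x + (1 : Q) ⊗ₜ[T] evLin D N x = x := by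
  induction x using TensorProduct.induction_on with
  | zero => simp
  | tmul q n =>
    rw [rT_tmul, evLin_tmul, TensorProduct.smul_tmul', smul_eq_mul, TensorProduct.tmul_smul,
      TensorProduct.smul_tmul', ← TensorProduct.add_tmul, Algebra.smul_def, mul_one, D.hr2]
  | add x y hx hy =>
    rw [map_add, map_add, smul_add, TensorProduct.tmul_add]
    nth_rewrite 3 [← hx]
    nth_rewrite 3 [← hy]
    abel

lemma evLin_u_smul (x : Q ⊗[T] N) : evLin D N (D.u • x) = 0 := by
  rw [evLin_smul, D.hu, zero_smul]

lemma evLin_one_tmul (n : N) : evLin D N ((1 : Q) ⊗ₜ n) = n := by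
  rw [evLin_tmul, map_one, one_smul]

end Maps

section Cat

variable {T Q : Type u} [CommRing T] [CommRing Q] [Algebra T Q] (D : PrincRetr T Q)

/-- the functor `N ↦ (Q ⊗ N)|_T`. -/
noncomputable abbrev GB (T Q : Type u) [CommRing T] [CommRing Q] [Algebra T Q] :
    ModuleCat.{u} T ⥤ ModuleCat.{u} T :=
  EB T Q ⋙ ModuleCat.restrictScalars.{u} (algebraMap T Q)

lemma GB_smul (N : ModuleCat.{u} T) (t : T) (x : (GB T Q).obj N) :
    t • x = (t • (show Q ⊗[T] N from x) : Q ⊗[T] N) := by
  show algebraMap T Q t • (show Q ⊗[T] N from x) = _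
  exact algebraMap_smul Q t _

/-- evaluation `Q ⊗ N → N|_σ`. -/
noncomputable def evB (N : ModuleCat.{u} T) :
    (EB T Q).obj N ⟶ (ModuleCat.restrictScalars.{u} D.σ).obj N :=
  ModuleCat.ofHom (Y := (ModuleCat.restrictScalars.{u} D.σ).obj N)
    { toFun := fun x => evLin D N x
      map_add' := fun x y => map_add _ x y
      map_smul' := fun q x => evLin_smul D N q x }

lemma evB_apply (N : ModuleCat.{u} T) (x : Q ⊗[T] N) : evB D N x = evLin D N x := rfl

/-- multiplication by `u`. -/
noncomputable def uB (N : ModuleCat.{u} T) : (EB T Q).obj N ⟶ (EB T Q).obj N := D.u • 𝟙 _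

lemma uB_apply (N : ModuleCat.{u} T) (x : Q ⊗[T] N) : uB D N x = D.u • x := rfl

/-- the `T`-linear retraction of `u`. -/
noncomputable def rhoB (N : ModuleCat.{u} T) : (GB T Q).obj N ⟶ (GB T Q).obj N :=
  ModuleCat.ofHom (X := (GB T Q).obj N) (Y := (GB T Q).obj N)
    { toFun := fun x => rT D N x
      map_add' := fun x y => map_add _ x y
      map_smul' := fun t x => by
        have h1 := GB_smul (Q := Q) N t x
        have h2 := GB_smul (Q := Q) N t (rT D N x)
        exact (congrArg (rT D N) h1).trans
          ((map_smul (rT D N) t (show Q ⊗[T] N from x)).trans h2.symm) }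

lemma rhoB_apply (N : ModuleCat.{u} T) (x : Q ⊗[T] N) : rhoB D N x = rT D N x := rfl

/-- `n ↦ 1 ⊗ n`. -/
noncomputable def sB (N : ModuleCat.{u} T) : N ⟶ (GB T Q).obj N :=
  ModuleCat.ofHom (Y := (GB T Q).obj N)
    { toFun := fun n => ((1 : Q) ⊗ₜ[T] n : Q ⊗[T] N)
      map_add' := fun x y => TensorProduct.tmul_add _ x y
      map_smul' := fun t n => by
        have h2 := GB_smul (Q := Q) N t ((1 : Q) ⊗ₜ[T] n : Q ⊗[T] N)
        exact (TensorProduct.tmul_smul t (1 : Q) n).trans h2.symm }

lemma sB_apply (N : ModuleCat.{u} T) (n : N) : sB (Q := Q) N n = ((1 : Q) ⊗ₜ[T] n : Q ⊗[T] N) := rfl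

/-- evaluation, as a `T`-linear map. -/
noncomputable def eB (N : ModuleCat.{u} T) : (GB T Q).obj N ⟶ N :=
  ModuleCat.ofHom (X := (GB T Q).obj N)
    { toFun := fun x => evLin D N x
      map_add' := fun x y => map_add _ x y
      map_smul' := fun t x => by
        have h1 := GB_smul (Q := Q) N t x
        exact (congrArg (evLin D N) h1).trans
          (map_smul (evLin D N) t (show Q ⊗[T] N from x)) }

lemma eB_apply (N : ModuleCat.{u} T) (x : Q ⊗[T] N) : eB D N x = evLin D N x := rfl

/-- multiplication by `u`, as a `T`-linear map. -/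
noncomputable def UB (N : ModuleCat.{u} T) : (GB T Q).obj N ⟶ (GB T Q).obj N :=
  (ModuleCat.restrictScalars.{u} (algebraMap T Q)).map (uB D N)

lemma UB_apply (N : ModuleCat.{u} T) (x : Q ⊗[T] N) : UB D N x = D.u • x := rfl

lemma uB_evB (N : ModuleCat.{u} T) : uB D N ≫ evB D N = 0 := by
  ext x
  exact evLin_u_smul D N x

/-- the four splitting identities. -/
lemma UB_rhoB (N : ModuleCat.{u} T) : UB D N ≫ rhoB D N = 𝟙 _ := by
  ext x
  exact rT_u_smul D N x

lemma UB_eB (N : ModuleCat.{u} T) : UB D N ≫ eB D N = 0 := by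
  ext x
  exact evLin_u_smul D N x

lemma sB_eB (N : ModuleCat.{u} T) : sB N ≫ eB D N = 𝟙 N := by
  ext n
  exact evLin_one_tmul D N n

lemma rhoB_UB_add (N : ModuleCat.{u} T) :
    rhoB D N ≫ UB D N + eB D N ≫ sB N = 𝟙 _ := by
  ext x
  exact u_smul_rT_add D N x

/-- the short exact sequence `0 → Q ⊗ N → Q ⊗ N → N|_σ → 0`. -/
noncomputable def sesB (N : ModuleCat.{u} T) : ShortComplex (ModuleCat.{u} Q) :=
  ShortComplex.mk (uB D N) (evB D N) (uB_evB D N)

lemma sesB_shortExact (N : ModuleCat.{u} T) : (sesB D N).ShortExact := by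
  apply ModuleCat.shortComplex_shortExact
  · intro y
    constructor
    · intro hy
      refine ⟨rT D N y, ?_⟩
      have h1 := u_smul_rT_add D N y
      have h2 : evLin D N y = 0 := hy
      rw [h2, TensorProduct.tmul_zero, add_zero] at h1
      exact h1
    · rintro ⟨x, rfl⟩
      exact evLin_u_smul D N x
  · intro x y hxy
    have h1 : D.u • (show Q ⊗[T] N from x) = D.u • (show Q ⊗[T] N from y) := hxy
    have h2 := congrArg (rT D N) h1
    rwa [rT_u_smul, rT_u_smul] at h2
  · intro n
    exact ⟨(1 : Q) ⊗ₜ[T] n, evLin_one_tmul D N n⟩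

end Cat

section Nat

variable {T Q : Type u} [CommRing T] [CommRing Q] [Algebra T Q] (D : PrincRetr T Q)

lemma EB_map_apply {N N' : ModuleCat.{u} T} (f : N ⟶ N') (x : Q ⊗[T] N) :
    (EB T Q).map f x = LinearMap.baseChange Q f.hom x := rfl

/-- `ev` as a natural transformation. -/
noncomputable def evNat : EB T Q ⟶ ModuleCat.restrictScalars.{u} D.σ where
  app N := evB D N
  naturality N N' f := by
    ext x
    show evLin D N' (LinearMap.baseChange Q f.hom x) = f.hom (evLin D N x)
    induction x using TensorProduct.induction_on with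
    | zero => simp
    | tmul q n => rw [LinearMap.baseChange_tmul, evLin_tmul, evLin_tmul, map_smul]
    | add x y hx hy => rw [map_add, map_add, hx, hy, map_add, map_add]

/-- multiplication by `u` as a natural transformation. -/
noncomputable def uNat : EB T Q ⟶ EB T Q where
  app N := uB D N
  naturality N N' f := by
    rw [uB, uB, Linear.comp_smul, Linear.smul_comp, Category.comp_id, Category.id_comp]

/-- `ρ` as a natural transformation. -/
noncomputable def rhoNat : GB T Q ⟶ GB T Q where
  app N := rhoB D N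
  naturality N N' f := by
    ext x
    show rT D N' (LinearMap.baseChange Q f.hom x) = LinearMap.baseChange Q f.hom (rT D N x)
    induction x using TensorProduct.induction_on with
    | zero => simp
    | tmul q n => rw [LinearMap.baseChange_tmul, rT_tmul, rT_tmul, LinearMap.baseChange_tmul]
    | add x y hx hy => rw [map_add, map_add, hx, hy, map_add, map_add]

/-- `U` as a natural transformation. -/
noncomputable def UNat : GB T Q ⟶ GB T Q where
  app N := UB D N
  naturality N N' f := by
    ext x
    show D.u • LinearMap.baseChange Q f.hom (show Q ⊗[T] N from x) =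
      LinearMap.baseChange Q f.hom (D.u • (show Q ⊗[T] N from x))
    rw [map_smul]

/-- `s` as a natural transformation. -/
noncomputable def sNat : 𝟭 (ModuleCat.{u} T) ⟶ GB T Q where
  app N := sB N
  naturality N N' f := by
    ext n
    rfl

/-- `e` as a natural transformation. -/
noncomputable def eNat : GB T Q ⟶ 𝟭 (ModuleCat.{u} T) where
  app N := eB D N
  naturality N N' f := by
    ext x
    show evLin D N' (LinearMap.baseChange Q f.hom x) = f.hom (evLin D N x)
    induction x using TensorProduct.induction_on with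
    | zero => simp
    | tmul q n => rw [LinearMap.baseChange_tmul, evLin_tmul, evLin_tmul, map_smul]
    | add x y hx hy => rw [map_add, map_add, hx, hy, map_add, map_add]

lemma adjB_unit_app (N : ModuleCat.{u} T) : (adjB T Q).unit.app N = sB N := by
  ext n
  rfl

end Nat

section Poly

open Polynomial

variable {T : Type u} [CommRing T] (c : T)

lemma divByMonic_X_sub_C_add (p p' : T[X]) :
    (p + p') /ₘ (X - C c) = p /ₘ (X - C c) + p' /ₘ (X - C c) := by
  nontriviality T
  refine (div_modByMonic_unique (p /ₘ (X - C c) + p' /ₘ (X - C c))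
    (p %ₘ (X - C c) + p' %ₘ (X - C c)) (monic_X_sub_C c) ⟨?_, ?_⟩).1
  · have h1 := modByMonic_add_div p (X - C c)
    have h2 := modByMonic_add_div p' (X - C c)
    nth_rewrite 3 [← h1]
    nth_rewrite 3 [← h2]
    ring
  · rw [modByMonic_X_sub_C_eq_C_eval, modByMonic_X_sub_C_eq_C_eval, ← C_add, degree_X_sub_C]
    exact lt_of_le_of_lt degree_C_le (by norm_num)

lemma divByMonic_X_sub_C_C_mul (t : T) (p : T[X]) :
    (C t * p) /ₘ (X - C c) = C t * (p /ₘ (X - C c)) := by
  nontriviality T
  refine (div_modByMonic_unique (C t * (p /ₘ (X - C c)))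
    (C t * (p %ₘ (X - C c))) (monic_X_sub_C c) ⟨?_, ?_⟩).1
  · have h1 := modByMonic_add_div p (X - C c)
    nth_rewrite 3 [← h1]
    ring
  · rw [modByMonic_X_sub_C_eq_C_eval, ← C_mul, degree_X_sub_C]
    exact lt_of_le_of_lt degree_C_le (by norm_num)

/-- evaluation at `c` is a principal retraction of `T[X]`. -/
noncomputable def polyRetr : PrincRetr T T[X] where
  σ := evalRingHom c
  hσ t := by
    rw [← C_eq_algebraMap, coe_evalRingHom, eval_C]
  u := X - C c
  hu := by
    rw [coe_evalRingHom, eval_sub, eval_X, eval_C, sub_self]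
  r :=
    { toFun := fun p => p /ₘ (X - C c)
      map_zero' := zero_divByMonic _
      map_add' := divByMonic_X_sub_C_add c }
  hrT t q := by
    rw [← C_eq_algebraMap]
    exact divByMonic_X_sub_C_C_mul c t q
  hr1 q := mul_divByMonic_cancel_left q (monic_X_sub_C c)
  hr2 q := by
    have h1 := modByMonic_add_div q (X - C c)
    rw [modByMonic_X_sub_C_eq_C_eval] at h1
    rw [← C_eq_algebraMap, coe_evalRingHom, add_comm]
    exact h1

lemma polyRetr_σ : (polyRetr c).σ = evalRingHom c := rfl

end Poly

end Groth.Agent.Lib.ShriekIndH6
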