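import Mathlib
import Groth.Prelude.Def_DRing2
import Groth.Prelude.Def_DDual2
import Groth.Agent.Lib.ShriekInd3_helper6
import Groth.Agent.Lib.DerAdjPlus_helper9

/-!
# Independence of `φ^!` of the presentation (helper6), part 4: principal retractions, derived level:
the natural distinguished triangle `Q ⊗ W --u--> Q ⊗ W --> W|_σ --δ--> (Q ⊗ W)[1]` in `D(Q)`.
-/

set_option autoImplicit false
universe u
open CategoryTheory CategoryTheory.Limits DerivedCategory Pretriangulated
open scoped TensorProduct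
attribute [local instance] HasDerivedCategory.standard

namespace Groth.Agent.Lib.ShriekIndH6

open DRing Groth.Agent.Lib.DMod_helper6

section Derived

variable {T Q : Type u} [CommRing T] [CommRing Q] [Algebra T Q] [Module.Flat T Q]
  (D : PrincRetr T Q)

variable (T Q) in
/-- base change on complexes -/
noncomputable abbrev EBc : Cx T ⥤ Cx Q := (EB T Q).mapHomologicalComplex (ComplexShape.up ℤ)

variable (T Q) in
/-- base change on derived categories -/
noncomputable abbrev bcB : Dual.D T ⥤ Dual.D Q := (EB T Q).mapDerivedCategory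

variable (T Q) in
/-- the factorization iso for base change -/
noncomputable abbrev alphaB : DerivedCategory.Q ⋙ bcB T Q ≅ EBc T Q ⋙ DerivedCategory.Q :=
  (EB T Q).mapDerivedCategoryFactors

/-- restriction along `σ` on complexes -/
noncomputable abbrev Rsc : Cx T ⥤ Cx Q :=
  (ModuleCat.restrictScalars.{u} D.σ).mapHomologicalComplex (ComplexShape.up ℤ)

/-- the factorization iso for restriction along `σ` -/
noncomputable abbrev betaB : DerivedCategory.Q ⋙ restrictD D.σ ≅ Rsc D ⋙ DerivedCategory.Q :=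
  (ModuleCat.restrictScalars.{u} D.σ).mapDerivedCategoryFactors

/-- multiplication by `u` on complexes -/
noncomputable def ucB (W : Cx T) : (EBc T Q).obj W ⟶ (EBc T Q).obj W :=
  (NatTrans.mapHomologicalComplex (uNat D) (ComplexShape.up ℤ)).app W

lemma ucB_eq (W : Cx T) : ucB D W = D.u • 𝟙 _ := by
  ext i : 1
  rw [HomologicalComplex.smul_f_apply, HomologicalComplex.id_f]
  rfl

/-- evaluation on complexes -/
noncomputable def evcB (W : Cx T) : (EBc T Q).obj W ⟶ (Rsc D).obj W :=
  (NatTrans.mapHomologicalComplex (evNat D) (ComplexShape.up ℤ)).app W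

/-- the short exact sequence of complexes -/
noncomputable def sescB (W : Cx T) : ShortComplex (Cx Q) :=
  ShortComplex.mk (ucB D W) (evcB D W) (by
    ext i : 1
    exact uB_evB D (W.X i))

lemma sescB_shortExact (W : Cx T) : (sescB D W).ShortExact := by
  apply HomologicalComplex.shortExact_of_degreewise_shortExact
  intro i
  exact sesB_shortExact D (W.X i)

/-- functoriality of the short exact sequence -/
noncomputable def sescBMap {W W' : Cx T} (φ : W ⟶ W') : sescB D W ⟶ sescB D W' where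
  τ₁ := (EBc T Q).map φ
  τ₂ := (EBc T Q).map φ
  τ₃ := (Rsc D).map φ
  comm₁₂ := (NatTrans.mapHomologicalComplex (uNat D) (ComplexShape.up ℤ)).naturality φ
  comm₂₃ := (NatTrans.mapHomologicalComplex (evNat D) (ComplexShape.up ℤ)).naturality φ

/-- the connecting morphisms, on complexes -/
noncomputable def deltaPre : Rsc D ⋙ DerivedCategory.Q ⟶
    (EBc T Q ⋙ DerivedCategory.Q) ⋙ shiftFunctor (Dual.D Q) (1 : ℤ) where
  app W := triangleOfSESδ (sescB_shortExact D W)
  naturality W W' φ :=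
    (triangleOfSESδ_naturality (sescB_shortExact D W) (sescB_shortExact D W')
      (sescBMap D φ)).symm

/-- the natural connecting morphism `W|_σ → (Q ⊗ W)[1]`. -/
noncomputable def deltaB : restrictD D.σ ⟶ bcB T Q ⋙ shiftFunctor (Dual.D Q) (1 : ℤ) :=
  Localization.liftNatTrans DerivedCategory.Q
    (HomologicalComplex.quasiIso (ModuleCat.{u} T) (ComplexShape.up ℤ))
    (Rsc D ⋙ DerivedCategory.Q)
    ((EBc T Q ⋙ DerivedCategory.Q) ⋙ shiftFunctor (Dual.D Q) (1 : ℤ)) _ _ (deltaPre D)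

lemma deltaB_app (W : Cx T) :
    (deltaB D).app (DerivedCategory.Q.obj W) =
      (betaB D).hom.app W ≫ triangleOfSESδ (sescB_shortExact D W) ≫
        ((alphaB T Q).inv.app W)⟦(1 : ℤ)⟧' := by
  rw [deltaB, Localization.liftNatTrans_app]
  rfl

/-- the projection `Q ⊗ W → W|_σ`, on complexes. -/
noncomputable def piB (W : Cx T) :
    (bcB T Q).obj (DerivedCategory.Q.obj W) ⟶ (restrictD D.σ).obj (DerivedCategory.Q.obj W) :=
  (alphaB T Q).hom.app W ≫ DerivedCategory.Q.map (evcB D W) ≫ (betaB D).inv.app W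

lemma tri_Q (W : Cx T) :
    Triangle.mk (D.u • 𝟙 ((bcB T Q).obj (DerivedCategory.Q.obj W))) (piB D W)
      ((deltaB D).app (DerivedCategory.Q.obj W)) ∈ distTriang (Dual.D Q) := by
  refine isomorphic_distinguished _ (triangleOfSES_distinguished (sescB_shortExact D W)) _ ?_
  refine Triangle.isoMk _ _ ((alphaB T Q).app W) ((alphaB T Q).app W) ((betaB D).app W) ?_ ?_ ?_
  · show (D.u • 𝟙 ((bcB T Q).obj (DerivedCategory.Q.obj W))) ≫ (alphaB T Q).hom.app W =
      (alphaB T Q).hom.app W ≫ DerivedCategory.Q.map (ucB D W)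
    rw [ucB_eq, Functor.map_smul, CategoryTheory.Functor.map_id, Linear.smul_comp,
      Linear.comp_smul, Category.id_comp]
    erw [Category.comp_id]
  · show piB D W ≫ (betaB D).hom.app W =
      (alphaB T Q).hom.app W ≫ DerivedCategory.Q.map (evcB D W)
    rw [piB, Category.assoc, Category.assoc, Iso.inv_hom_id_app]
    erw [Category.comp_id]
  · show (deltaB D).app (DerivedCategory.Q.obj W) ≫ ((alphaB T Q).hom.app W)⟦(1 : ℤ)⟧' =
      (betaB D).hom.app W ≫ triangleOfSESδ (sescB_shortExact D W)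
    have h : ((alphaB T Q).inv.app W)⟦(1 : ℤ)⟧' ≫ ((alphaB T Q).hom.app W)⟦(1 : ℤ)⟧' = 𝟙 _ := by
      rw [← Functor.map_comp, Iso.inv_hom_id_app, CategoryTheory.Functor.map_id]
    rw [deltaB_app, Category.assoc, Category.assoc]
    erw [h, Category.comp_id]
    rfl

/-- the distinguished triangle `Q ⊗ W --u--> Q ⊗ W --> W|_σ --δ--> (Q ⊗ W)[1]`. -/
theorem exists_tri (W : Dual.D T) : ∃ π : (bcB T Q).obj W ⟶ (restrictD D.σ).obj W,
    Triangle.mk (D.u • 𝟙 ((bcB T Q).obj W)) π ((deltaB D).app W) ∈ distTriang (Dual.D Q) := by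
  let e : DerivedCategory.Q.obj (DerivedCategory.Q.objPreimage W) ≅ W :=
    DerivedCategory.Q.objObjPreimageIso W
  refine ⟨(bcB T Q).map e.inv ≫ piB D _ ≫ (restrictD D.σ).map e.hom, ?_⟩
  refine isomorphic_distinguished _ (tri_Q D (DerivedCategory.Q.objPreimage W)) _ ?_
  refine Triangle.isoMk _ _ ((bcB T Q).mapIso e.symm) ((bcB T Q).mapIso e.symm)
    ((restrictD D.σ).mapIso e.symm) ?_ ?_ ?_
  · show (D.u • 𝟙 ((bcB T Q).obj W)) ≫ (bcB T Q).map e.inv =
      (bcB T Q).map e.inv ≫ (D.u • 𝟙 _)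
    rw [Linear.smul_comp, Linear.comp_smul, Category.id_comp, Category.comp_id]
  · show ((bcB T Q).map e.inv ≫ piB D _ ≫ (restrictD D.σ).map e.hom) ≫
        (restrictD D.σ).map e.inv = (bcB T Q).map e.inv ≫ piB D _
    rw [Category.assoc, Category.assoc, ← Functor.map_comp, Iso.hom_inv_id,
      CategoryTheory.Functor.map_id, Category.comp_id]
  · show (deltaB D).app W ≫ ((bcB T Q).map e.inv)⟦(1 : ℤ)⟧' =
      (restrictD D.σ).map e.inv ≫ (deltaB D).app _
    exact ((deltaB D).naturality e.inv).symm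

end Derived

section Split

variable {T Q : Type u} [CommRing T] [CommRing Q] [Algebra T Q] [Module.Flat T Q]
  (D : PrincRetr T Q)

variable (T Q) in
/-- restriction along `T → Q` on complexes -/
noncomputable abbrev Ric : Cx Q ⥤ Cx T :=
  (ModuleCat.restrictScalars.{u} (algebraMap T Q)).mapHomologicalComplex (ComplexShape.up ℤ)

variable (T Q) in
/-- the factorization iso for restriction along `T → Q` -/
noncomputable abbrev gammaB :
    DerivedCategory.Q ⋙ restrictD (algebraMap T Q) ≅ Ric T Q ⋙ DerivedCategory.Q :=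
  (ModuleCat.restrictScalars.{u} (algebraMap T Q)).mapDerivedCategoryFactors

variable (T Q) in
/-- the derived adjunction between base change and restriction -/
noncomputable def adjD : bcB T Q ⊣ restrictD (algebraMap T Q) :=
  letI : CatCommSq (EBc T Q) DerivedCategory.Q DerivedCategory.Q (bcB T Q) :=
    ⟨(alphaB T Q).symm⟩
  letI : CatCommSq (Ric T Q) DerivedCategory.Q DerivedCategory.Q
      (restrictD (algebraMap T Q)) := ⟨(gammaB T Q).symm⟩
  (DerAdjPlus.adjHC (adjB T Q) (ComplexShape.up ℤ)).localization DerivedCategory.Q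
    (HomologicalComplex.quasiIso (ModuleCat.{u} T) (ComplexShape.up ℤ)) DerivedCategory.Q
    (HomologicalComplex.quasiIso (ModuleCat.{u} Q) (ComplexShape.up ℤ)) (bcB T Q)
    (restrictD (algebraMap T Q))

variable (T Q) in
/-- the unit on complexes -/
noncomputable def scx (M : Cx T) : M ⟶ (Ric T Q).obj ((EBc T Q).obj M) :=
  (DerAdjPlus.unitHC (adjB T Q) (ComplexShape.up ℤ)).app M

variable (T Q) in
lemma adjD_unit_app (M : Cx T) :
    (adjD T Q).unit.app (DerivedCategory.Q.obj M) =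
      DerivedCategory.Q.map (scx T Q M) ≫ (gammaB T Q).inv.app ((EBc T Q).obj M) ≫
        (restrictD (algebraMap T Q)).map ((alphaB T Q).inv.app M) := by
  letI : CatCommSq (EBc T Q) DerivedCategory.Q DerivedCategory.Q (bcB T Q) :=
    ⟨(alphaB T Q).symm⟩
  letI : CatCommSq (Ric T Q) DerivedCategory.Q DerivedCategory.Q
      (restrictD (algebraMap T Q)) := ⟨(gammaB T Q).symm⟩
  exact Adjunction.localization_unit_app (DerAdjPlus.adjHC (adjB T Q) (ComplexShape.up ℤ))
    DerivedCategory.Q (HomologicalComplex.quasiIso (ModuleCat.{u} T) (ComplexShape.up ℤ))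
    DerivedCategory.Q (HomologicalComplex.quasiIso (ModuleCat.{u} Q) (ComplexShape.up ℤ))
    (bcB T Q) (restrictD (algebraMap T Q)) M

/-- `U` on complexes -/
noncomputable def Ucx (M : Cx T) :
    (Ric T Q).obj ((EBc T Q).obj M) ⟶ (Ric T Q).obj ((EBc T Q).obj M) :=
  (Ric T Q).map (ucB D M)

/-- `ρ` on complexes -/
noncomputable def rhocx (M : Cx T) :
    (Ric T Q).obj ((EBc T Q).obj M) ⟶ (Ric T Q).obj ((EBc T Q).obj M) where
  f i := rhoB D (M.X i)
  comm' i j _ := ((rhoNat D).naturality (M.d i j)).symm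

/-- `e` on complexes -/
noncomputable def ecx (M : Cx T) : (Ric T Q).obj ((EBc T Q).obj M) ⟶ M where
  f i := eB D (M.X i)
  comm' i j _ := ((eNat D).naturality (M.d i j)).symm

lemma Ucx_rhocx (M : Cx T) : Ucx D M ≫ rhocx D M = 𝟙 _ := by
  ext i : 1
  exact UB_rhoB D (M.X i)

lemma Ucx_ecx (M : Cx T) : Ucx D M ≫ ecx D M = 0 := by
  ext i : 1
  exact UB_eB D (M.X i)

lemma scx_ecx (M : Cx T) : scx T Q M ≫ ecx D M = 𝟙 M := by
  ext i : 1
  show (adjB T Q).unit.app (M.X i) ≫ eB D (M.X i) = 𝟙 _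
  rw [adjB_unit_app]
  exact sB_eB D (M.X i)

lemma rhocx_Ucx_add (M : Cx T) : rhocx D M ≫ Ucx D M + ecx D M ≫ scx T Q M = 𝟙 _ := by
  ext i : 1
  show rhoB D (M.X i) ≫ UB D (M.X i) + eB D (M.X i) ≫ (adjB T Q).unit.app (M.X i) = 𝟙 _
  rw [adjB_unit_app]
  exact rhoB_UB_add D (M.X i)

end Split

section SplitD

variable {T Q : Type u} [CommRing T] [CommRing Q] [Algebra T Q] [Module.Flat T Q]
  (D : PrincRetr T Q)

/-- multiplication by `u` on `(Q ⊗ M)|_T`, in the derived category. -/
noncomputable def UD (M : Dual.D T) :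
    (restrictD (algebraMap T Q)).obj ((bcB T Q).obj M) ⟶
      (restrictD (algebraMap T Q)).obj ((bcB T Q).obj M) :=
  (restrictD (algebraMap T Q)).map (D.u • 𝟙 ((bcB T Q).obj M))

variable (T Q) in
/-- the unit of the derived adjunction -/
noncomputable def etaD (M : Dual.D T) :
    M ⟶ (restrictD (algebraMap T Q)).obj ((bcB T Q).obj M) :=
  (adjD T Q).unit.app M

variable (T Q) in
/-- the comparison `(Q ⊗ M)|_T ≅ Q.obj ((Q ⊗ M₀)|_T)` for a complex `M₀`. -/
noncomputable def jB (M : Cx T) :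
    (restrictD (algebraMap T Q)).obj ((bcB T Q).obj (DerivedCategory.Q.obj M)) ≅
      DerivedCategory.Q.obj ((Ric T Q).obj ((EBc T Q).obj M)) :=
  (restrictD (algebraMap T Q)).mapIso ((alphaB T Q).app M) ≪≫
    (gammaB T Q).app ((EBc T Q).obj M)

lemma UD_Q (M : Cx T) :
    UD D (DerivedCategory.Q.obj M) =
      (jB T Q M).hom ≫ DerivedCategory.Q.map (Ucx D M) ≫ (jB T Q M).inv := by
  have h1 : D.u • 𝟙 ((bcB T Q).obj (DerivedCategory.Q.obj M)) =
      (alphaB T Q).hom.app M ≫ DerivedCategory.Q.map (ucB D M) ≫ (alphaB T Q).inv.app M := by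
    rw [ucB_eq, Functor.map_smul, CategoryTheory.Functor.map_id, Linear.smul_comp,
      Linear.comp_smul]
    erw [Category.id_comp, Iso.hom_inv_id_app]
    rfl
  have h2 : (restrictD (algebraMap T Q)).map (DerivedCategory.Q.map (ucB D M)) =
      (gammaB T Q).hom.app _ ≫ DerivedCategory.Q.map ((Ric T Q).map (ucB D M)) ≫
        (gammaB T Q).inv.app _ := by
    have h3 := (ModuleCat.restrictScalars.{u}
      (algebraMap T Q)).mapDerivedCategoryFactors_hom_naturality (ucB D M)
    rw [← Category.assoc, ← h3, Category.assoc, Iso.hom_inv_id_app]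
    erw [Category.comp_id]
  rw [UD, h1, Functor.map_comp, Functor.map_comp, h2, jB, Ucx]
  simp only [Iso.trans_hom, Iso.trans_inv, Functor.mapIso_hom, Functor.mapIso_inv, Iso.app_hom,
    Iso.app_inv, Category.assoc]

lemma adjD_unit_Q (M : Cx T) :
    etaD T Q (DerivedCategory.Q.obj M) =
      DerivedCategory.Q.map (scx T Q M) ≫ (jB T Q M).inv := by
  rw [etaD, adjD_unit_app, jB]
  simp only [Iso.trans_inv, Functor.mapIso_inv, Iso.app_inv]

/-- the splitting data on `Q.obj M`. -/
lemma exists_split_Q (M : Cx T) :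
    ∃ (ρ : (restrictD (algebraMap T Q)).obj ((bcB T Q).obj (DerivedCategory.Q.obj M)) ⟶
        (restrictD (algebraMap T Q)).obj ((bcB T Q).obj (DerivedCategory.Q.obj M)))
      (e : (restrictD (algebraMap T Q)).obj ((bcB T Q).obj (DerivedCategory.Q.obj M)) ⟶
        DerivedCategory.Q.obj M),
      UD D _ ≫ ρ = 𝟙 _ ∧ UD D _ ≫ e = 0 ∧
      etaD T Q (DerivedCategory.Q.obj M) ≫ e = 𝟙 _ ∧
      ρ ≫ UD D _ + e ≫ etaD T Q (DerivedCategory.Q.obj M) = 𝟙 _ := by
  refine ⟨(jB T Q M).hom ≫ DerivedCategory.Q.map (rhocx D M) ≫ (jB T Q M).inv,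
    (jB T Q M).hom ≫ DerivedCategory.Q.map (ecx D M), ?_, ?_, ?_, ?_⟩
  · rw [UD_Q]
    simp only [Category.assoc, Iso.inv_hom_id_assoc]
    rw [← Functor.map_comp_assoc, Ucx_rhocx, CategoryTheory.Functor.map_id, Category.id_comp,
      Iso.hom_inv_id]
  · rw [UD_Q]
    simp only [Category.assoc, Iso.inv_hom_id_assoc]
    rw [← Functor.map_comp, Ucx_ecx, Functor.map_zero, comp_zero]
  · rw [adjD_unit_Q]
    simp only [Category.assoc, Iso.inv_hom_id_assoc]
    rw [← Functor.map_comp, scx_ecx, CategoryTheory.Functor.map_id]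
  · rw [UD_Q, adjD_unit_Q]
    simp only [Category.assoc, Iso.inv_hom_id_assoc]
    rw [← Functor.map_comp_assoc, ← Functor.map_comp_assoc, ← Preadditive.comp_add,
      ← Preadditive.add_comp, ← Functor.map_add, rhocx_Ucx_add, CategoryTheory.Functor.map_id,
      Category.id_comp, Iso.hom_inv_id]

lemma UD_naturality {M M' : Dual.D T} (f : M ⟶ M') :
    UD D M ≫ (restrictD (algebraMap T Q)).map ((bcB T Q).map f) =
      (restrictD (algebraMap T Q)).map ((bcB T Q).map f) ≫ UD D M' := by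
  rw [UD, UD, ← Functor.map_comp, ← Functor.map_comp, Linear.smul_comp, Linear.comp_smul,
    Category.id_comp, Category.comp_id]

lemma etaD_naturality {M M' : Dual.D T} (f : M ⟶ M') :
    f ≫ etaD T Q M' = etaD T Q M ≫ (restrictD (algebraMap T Q)).map ((bcB T Q).map f) :=
  (adjD T Q).unit.naturality f

/-- the splitting data on an arbitrary object. -/
theorem exists_split (M : Dual.D T) :
    ∃ (ρ : (restrictD (algebraMap T Q)).obj ((bcB T Q).obj M) ⟶
        (restrictD (algebraMap T Q)).obj ((bcB T Q).obj M))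
      (e : (restrictD (algebraMap T Q)).obj ((bcB T Q).obj M) ⟶ M),
      UD D M ≫ ρ = 𝟙 _ ∧ UD D M ≫ e = 0 ∧ etaD T Q M ≫ e = 𝟙 _ ∧
      ρ ≫ UD D M + e ≫ etaD T Q M = 𝟙 _ := by
  let θ : DerivedCategory.Q.obj (DerivedCategory.Q.objPreimage M) ≅ M :=
    DerivedCategory.Q.objObjPreimageIso M
  obtain ⟨ρ₀, e₀, h1, h2, h3, h4⟩ := exists_split_Q D (DerivedCategory.Q.objPreimage M)
  let G : Dual.D T ⥤ Dual.D T := bcB T Q ⋙ restrictD (algebraMap T Q)
  have hU : UD D M = G.map θ.inv ≫ UD D _ ≫ G.map θ.hom := by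
    have := UD_naturality D θ.hom
    show UD D M = (restrictD (algebraMap T Q)).map ((bcB T Q).map θ.inv) ≫ UD D _ ≫
      (restrictD (algebraMap T Q)).map ((bcB T Q).map θ.hom)
    rw [this, ← Category.assoc, ← Functor.map_comp, ← Functor.map_comp, Iso.inv_hom_id,
      CategoryTheory.Functor.map_id, CategoryTheory.Functor.map_id, Category.id_comp]
  have hη : etaD T Q M = θ.inv ≫ etaD T Q _ ≫ G.map θ.hom := by
    have := etaD_naturality (T := T) (Q := Q) θ.hom
    show etaD T Q M = θ.inv ≫ etaD T Q _ ≫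
      (restrictD (algebraMap T Q)).map ((bcB T Q).map θ.hom)
    rw [← this, Iso.inv_hom_id_assoc]
  have hG1 : G.map θ.hom ≫ G.map θ.inv = 𝟙 _ := by
    rw [← Functor.map_comp, Iso.hom_inv_id, CategoryTheory.Functor.map_id]
  have hG2 : G.map θ.inv ≫ G.map θ.hom = 𝟙 _ := by
    rw [← Functor.map_comp, Iso.inv_hom_id, CategoryTheory.Functor.map_id]
  refine ⟨G.map θ.inv ≫ ρ₀ ≫ G.map θ.hom, G.map θ.inv ≫ e₀ ≫ θ.hom, ?_, ?_, ?_, ?_⟩
  · rw [hU]
    simp only [Category.assoc]
    rw [reassoc_of% hG1, reassoc_of% h1, hG2]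
    rfl
  · rw [hU]
    simp only [Category.assoc]
    rw [reassoc_of% hG1, reassoc_of% h2, zero_comp, comp_zero]
  · rw [hη]
    simp only [Category.assoc]
    rw [reassoc_of% hG1, reassoc_of% h3, Iso.inv_hom_id]
  · rw [hU, hη]
    simp only [Category.assoc]
    rw [reassoc_of% hG1, Iso.hom_inv_id_assoc]
    have h5 : G.map θ.inv ≫ ρ₀ ≫ UD D _ ≫ G.map θ.hom + G.map θ.inv ≫ e₀ ≫ etaD T Q _ ≫ G.map θ.hom =
        G.map θ.inv ≫ (ρ₀ ≫ UD D _ + e₀ ≫ etaD T Q _) ≫ G.map θ.hom := by
      simp only [Preadditive.add_comp, Preadditive.comp_add, Category.assoc]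
    rw [h5, h4]
    erw [Category.id_comp, hG2]
    rfl

end SplitD

end Groth.Agent.Lib.ShriekIndH6
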