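import Mathlib
import Groth.Prelude.Def_DRing2
import Groth.Prelude.Def_DDual2
import Groth.Prelude.Def_Wider
import Groth.Agent.Lib.FlatBC2_helper6
import Groth.Agent.Lib.ShriekInd4_helper6

/-!
# Flat base change for `RHom` (helper6), part 3: the base change map on `Hom` groups
`Φ : T' ⊗[T] Hom(X, K) → Hom(T' ⊗ X, T' ⊗ K)` for `T → T'` flat, and its bijectivity for
`X = T[-c]`.
-/

set_option autoImplicit false
universe u
open CategoryTheory CategoryTheory.Limits DerivedCategory
open scoped TensorProduct
attribute [local instance] HasDerivedCategory.standard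

namespace Groth.Agent.Lib.FlatBCH6

open DRing Groth.Agent.Lib.DMod_helper6 Groth.Agent.Lib.ShriekIndH6

variable {T T' : Type u} [CommRing T] [CommRing T'] [Algebra T T'] [Module.Flat T T']

lemma EB_map_smul_id (t : T) (N : ModuleCat.{u} T) :
    (EB T T').map (t • 𝟙 N) = algebraMap T T' t • 𝟙 ((EB T T').obj N) := by
  ext x
  have key : ∀ x : T' ⊗[T] N,
      LinearMap.baseChange T' (t • 𝟙 N : N ⟶ N).hom x = algebraMap T T' t • x := by
    intro x
    induction x using TensorProduct.induction_on with
    | zero => rw [map_zero, smul_zero]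
    | tmul a n =>
      rw [LinearMap.baseChange_tmul]
      show a ⊗ₜ[T] (t • n) = algebraMap T T' t • (a ⊗ₜ[T] n)
      rw [TensorProduct.smul_tmul', smul_eq_mul, ← TensorProduct.smul_tmul, Algebra.smul_def]
    | add x y hx hy => rw [map_add, hx, hy, smul_add]
  exact key x

/-- semilinearity of flat base change -/
lemma bcB_map_smul {K L : Dual.D T} (t : T) (f : K ⟶ L) :
    (bcB T T').map (t • f) = algebraMap T T' t • (bcB T T').map f :=
  mapDerivedCategory_map_smul (EB T T') t (algebraMap T T' t) (EB_map_smul_id t) f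

/-- the base change map on `Hom` groups -/
noncomputable def Phi (X K : Dual.D T) :
    T' ⊗[T] (X ⟶ K) →+ ((bcB T T').obj X ⟶ (bcB T T').obj K) :=
  TensorProduct.liftAddHom
    { toFun := fun t' =>
        { toFun := fun f => t' • (bcB T T').map f
          map_zero' := by rw [Functor.map_zero, smul_zero]
          map_add' := fun f f' => by rw [Functor.map_add, smul_add] }
      map_zero' := by
        ext f
        show (0 : T') • (bcB T T').map f = 0
        rw [zero_smul]
      map_add' := fun t₁ t₂ => by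
        ext f
        show (t₁ + t₂) • (bcB T T').map f = t₁ • (bcB T T').map f + t₂ • (bcB T T').map f
        rw [add_smul] }
    (fun r t' f => by
      show (r • t') • (bcB T T').map f = t' • (bcB T T').map (r • f)
      rw [bcB_map_smul, smul_smul, Algebra.smul_def, mul_comm])

@[simp]
lemma Phi_tmul (X K : Dual.D T) (t' : T') (f : X ⟶ K) :
    Phi X K (t' ⊗ₜ[T] f) = t' • (bcB T T').map f := rfl

/-- naturality in the first variable -/
lemma Phi_precomp {X Y : Dual.D T} (a : X ⟶ Y) (K : Dual.D T) (x : T' ⊗[T] (Y ⟶ K)) :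
    Phi X K ((Linear.leftComp T K a).lTensor T' x) = (bcB T T').map a ≫ Phi Y K x := by
  induction x using TensorProduct.induction_on with
  | zero => simp
  | tmul t' f =>
    rw [LinearMap.lTensor_tmul, Phi_tmul, Phi_tmul]
    show t' • (bcB T T').map (a ≫ f) = _
    rw [Functor.map_comp, Linear.comp_smul]
  | add x y hx hy => rw [map_add, map_add, map_add, hx, hy, Preadditive.comp_add]

/-- naturality in the second variable -/
lemma Phi_postcomp (X : Dual.D T) {K L : Dual.D T} (k : K ⟶ L) (x : T' ⊗[T] (X ⟶ K)) :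
    Phi X L ((Linear.rightComp T X k).lTensor T' x) = Phi X K x ≫ (bcB T T').map k := by
  induction x using TensorProduct.induction_on with
  | zero => simp
  | tmul t' f =>
    rw [LinearMap.lTensor_tmul, Phi_tmul, Phi_tmul]
    show t' • (bcB T T').map (f ≫ k) = _
    rw [Functor.map_comp, Linear.smul_comp]
  | add x y hx hy => rw [map_add, map_add, map_add, hx, hy, Preadditive.add_comp]

/-- transport along an isomorphism in the first variable -/
lemma Phi_bijective_of_iso {X Y : Dual.D T} (e : X ≅ Y) (K : Dual.D T)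
    (h : Function.Bijective (Phi (T' := T') Y K)) : Function.Bijective (Phi (T' := T') X K) := by
  have h1 : ∀ x, Phi X K ((Linear.leftComp T K e.hom).lTensor T' x) =
      (bcB T T').map e.hom ≫ Phi Y K x := Phi_precomp e.hom K
  have h2 : ∀ x, Phi Y K ((Linear.leftComp T K e.inv).lTensor T' x) =
      (bcB T T').map e.inv ≫ Phi X K x := Phi_precomp e.inv K
  have h3 : ∀ x : T' ⊗[T] (X ⟶ K), (Linear.leftComp T K e.hom).lTensor T'
      ((Linear.leftComp T K e.inv).lTensor T' x) = x := by
    intro x
    rw [← LinearMap.comp_apply, ← LinearMap.lTensor_comp]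
    have : Linear.leftComp T K e.hom ∘ₗ Linear.leftComp T K e.inv = LinearMap.id := by
      ext f
      show e.hom ≫ e.inv ≫ f = f
      rw [Iso.hom_inv_id_assoc]
    rw [this, LinearMap.lTensor_id, LinearMap.id_apply]
  constructor
  · intro x x' hxx
    have : Phi Y K ((Linear.leftComp T K e.inv).lTensor T' x) =
        Phi Y K ((Linear.leftComp T K e.inv).lTensor T' x') := by rw [h2, h2, hxx]
    have h4 := h.1 this
    rw [← h3 x, ← h3 x', h4]
  · intro y
    obtain ⟨z, hz⟩ := h.2 ((bcB T T').map e.inv ≫ y)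
    refine ⟨(Linear.leftComp T K e.hom).lTensor T' z, ?_⟩
    rw [h1, hz, ← Functor.map_comp_assoc, Iso.hom_inv_id, CategoryTheory.Functor.map_id,
      Category.id_comp]

section Single

variable (T T') in
/-- `T' ⊗ T[-c] ≅ T'[-c]` -/
noncomputable def thetaIso (c : ℤ) : (bcB T T').obj (toD (Sx T c)) ≅ toD (Sx T' c) :=
  (alphaB T T').app (Sx T c) ≪≫
    DerivedCategory.Q.mapIso
      ((HomologicalComplex.singleMapHomologicalComplex (EB T T') (ComplexShape.up ℤ) c).app
          (ModuleCat.of T T) ≪≫
        (HomologicalComplex.single (ModuleCat.{u} T') (ComplexShape.up ℤ) c).mapIso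
          (TensorProduct.AlgebraTensorModule.rid T T' T').toModuleIso)

lemma exists_smul_one_tmul {M : Type u} [AddCommGroup M] [Module T M] (g : M)
    (hg : Function.Surjective (fun b : T => b • g)) (z : T' ⊗[T] M) :
    ∃ t' : T', z = t' • ((1 : T') ⊗ₜ[T] g) := by
  induction z using TensorProduct.induction_on with
  | zero => exact ⟨0, by rw [zero_smul]⟩
  | tmul a h =>
    obtain ⟨b, rfl⟩ := hg h
    refine ⟨algebraMap T T' b * a, ?_⟩
    show a ⊗ₜ[T] (b • g) = _
    rw [TensorProduct.smul_tmul', smul_eq_mul, mul_one, ← TensorProduct.smul_tmul,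
      Algebra.smul_def]
  | add x y hx hy =>
    obtain ⟨t₁, rfl⟩ := hx
    obtain ⟨t₂, rfl⟩ := hy
    exact ⟨t₁ + t₂, by rw [add_smul]⟩

/-- the base change map on `Hom` groups is bijective for `X = T[-c]` -/
theorem Phi_bijective_single (c : ℤ) (K : Dual.D T) :
    Function.Bijective (Phi (T' := T') (toD (Sx T c)) K) := by
  let ν := exactHomologyIso (EB T T') c
  let θ := thetaIso T T' c
  let S : Dual.D T := toD (Sx T c)
  have h1 : IsCorep ((bcB T T').obj S) c
      (((homologyFunctor (ModuleCat.{u} T') c).map θ.inv).hom (g₀ T' c)) :=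
    (isCorep_g₀ (B := T') c).of_iso θ.symm
  have hb1 : Function.Bijective (fun b : T' =>
      b • ((homologyFunctor (ModuleCat.{u} T') c).map θ.inv).hom (g₀ T' c)) := by
    have hi : Function.Bijective ((homologyFunctor (ModuleCat.{u} T') c).map θ.inv).hom :=
      ConcreteCategory.bijective_of_isIso ((homologyFunctor (ModuleCat.{u} T') c).map θ.inv)
    have : (fun b : T' => b • ((homologyFunctor (ModuleCat.{u} T') c).map θ.inv).hom (g₀ T' c)) =
        ((homologyFunctor (ModuleCat.{u} T') c).map θ.inv).hom ∘ (fun b : T' => b • g₀ T' c) := by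
      funext b
      show _ = ((homologyFunctor (ModuleCat.{u} T') c).map θ.inv).hom (b • g₀ T' c)
      rw [map_smul]
    rw [this]
    exact hi.comp (bijective_smul_g₀ c)
  let g'' : Dual.HD T' ((bcB T T').obj S) c := (ν.inv.app S).hom ((1 : T') ⊗ₜ[T] g₀ T c)
  have hs : Function.Surjective (fun t' : T' => t' • g'') := by
    intro y
    obtain ⟨t', ht'⟩ := exists_smul_one_tmul (T' := T') (g₀ T c) (bijective_smul_g₀ c).2
      ((ν.hom.app S).hom y)
    refine ⟨t', ?_⟩
    show t' • (ν.inv.app S).hom ((1 : T') ⊗ₜ[T] g₀ T c) = y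
    rw [← map_smul]
    have h3 : (ν.inv.app S).hom ((ν.hom.app S).hom y) = y := by
      rw [← ModuleCat.comp_apply, Iso.hom_inv_id_app]
      rfl
    rw [← h3]
    exact congrArg _ ht'.symm
  have h2 : IsCorep ((bcB T T').obj S) c g'' := h1.of_generator hb1 hs
  let νK : T' ⊗[T] Dual.HD T K c →ₗ[T'] Dual.HD T' ((bcB T T').obj K) c := (ν.inv.app K).hom
  have key : ∀ x : T' ⊗[T] (S ⟶ K), evLin c g'' ((bcB T T').obj K) (Phi S K x) =
      νK ((evLin c (g₀ T c) K).lTensor T' x) := by
    intro x
    induction x using TensorProduct.induction_on with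
    | zero => rw [map_zero, map_zero, map_zero, map_zero]
    | tmul t' f =>
      rw [Phi_tmul, map_smul, LinearMap.lTensor_tmul]
      have h4 : evLin c g'' ((bcB T T').obj K) ((bcB T T').map f) =
          νK ((1 : T') ⊗ₜ[T] evLin c (g₀ T c) K f) := by
        have hn := ν.inv.naturality f
        show ((ν.inv.app S) ≫ (bcB T T' ⋙ homologyFunctor (ModuleCat.{u} T') c).map f).hom
          ((1 : T') ⊗ₜ[T] g₀ T c) = _
        rw [← hn]
        rfl
      rw [h4, ← map_smul]
      congr 1
      rw [TensorProduct.smul_tmul', smul_eq_mul, mul_one]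
    | add x y hx hy => rw [map_add, map_add, map_add, map_add, hx, hy]
  have hν : Function.Bijective νK :=
    ConcreteCategory.bijective_of_isIso (ν.inv.app K)
  have hev : Function.Bijective ((evLin c (g₀ T c) K).lTensor T') := by
    let e := LinearEquiv.ofBijective (evLin c (g₀ T c) K) (isCorep_g₀ c K)
    have : (evLin c (g₀ T c) K).lTensor T' = (e.lTensor T').toLinearMap := by
      ext
      rfl
    rw [this]
    exact (e.lTensor T').bijective
  have hcomp : Function.Bijective
      (fun x : T' ⊗[T] (S ⟶ K) => evLin c g'' ((bcB T T').obj K) (Phi S K x)) := by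
    have : (fun x : T' ⊗[T] (S ⟶ K) => evLin c g'' ((bcB T T').obj K) (Phi S K x)) =
        νK ∘ ((evLin c (g₀ T c) K).lTensor T') := funext key
    rw [this]
    exact hν.comp hev
  have h5 := h2 ((bcB T T').obj K)
  constructor
  · intro x x' hxx
    exact hcomp.1 (show evLin c g'' _ (Phi S K x) = evLin c g'' _ (Phi S K x') by rw [hxx])
  · intro y
    obtain ⟨x, hx⟩ := hcomp.2 (evLin c g'' _ y)
    exact ⟨x, h5.1 hx⟩

end Single

end Groth.Agent.Lib.FlatBCH6
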