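import Mathlib
import Groth.Prelude.Def_DRing2
import Groth.Prelude.Def_DDual2
import Groth.Prelude.Def_Wider
import Groth.Agent.Lib.FlatBC3_helper6
import Groth.Agent.Lib.DMod4_helper6
import Groth.Agent.Lib.DMod20_helper6

/-!
# Flat base change for `RHom` (helper6), part 4: dévissage.  The base change map
`Φ : T' ⊗[T] Hom(X, K) → Hom(T' ⊗ X, T' ⊗ K)` is bijective for `X` perfect.
-/

set_option autoImplicit false
universe u
open CategoryTheory CategoryTheory.Limits DerivedCategory Pretriangulated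
open scoped TensorProduct
attribute [local instance] HasDerivedCategory.standard

namespace Groth.Agent.Lib.FlatBCH6

open DRing Groth.Agent.Lib.DMod_helper6 Groth.Agent.Lib.ShriekIndH6

section Exact

variable {𝒟 : Type*} [Category 𝒟] [HasZeroObject 𝒟] [HasShift 𝒟 ℤ] [Preadditive 𝒟]
  [∀ n : ℤ, (shiftFunctor 𝒟 n).Additive] [Pretriangulated 𝒟]

lemma exact_leftComp₂₃ (Tr : Triangle 𝒟) (hTr : Tr ∈ distTriang 𝒟) (K : 𝒟) :
    Function.Exact (fun h : Tr.obj₁⟦(1 : ℤ)⟧ ⟶ K => Tr.mor₃ ≫ h)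
      (fun g : Tr.obj₃ ⟶ K => Tr.mor₂ ≫ g) := by
  intro g
  constructor
  · intro hg
    obtain ⟨h, hh⟩ := Triangle.yoneda_exact₃ Tr hTr g hg
    exact ⟨h, hh.symm⟩
  · rintro ⟨h, rfl⟩
    show Tr.mor₂ ≫ Tr.mor₃ ≫ h = 0
    rw [comp_distTriang_mor_zero₂₃_assoc _ hTr, zero_comp]

lemma exact_leftComp₁₂ (Tr : Triangle 𝒟) (hTr : Tr ∈ distTriang 𝒟) (K : 𝒟) :
    Function.Exact (fun h : Tr.obj₃ ⟶ K => Tr.mor₂ ≫ h)
      (fun g : Tr.obj₂ ⟶ K => Tr.mor₁ ≫ g) := by
  intro g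
  constructor
  · intro hg
    obtain ⟨h, hh⟩ := Triangle.yoneda_exact₂ Tr hTr g hg
    exact ⟨h, hh.symm⟩
  · rintro ⟨h, rfl⟩
    show Tr.mor₁ ≫ Tr.mor₂ ≫ h = 0
    rw [comp_distTriang_mor_zero₁₂_assoc _ hTr, zero_comp]

end Exact

variable {T T' : Type u} [CommRing T] [CommRing T'] [Algebra T T'] [Module.Flat T T']

/-- the five lemma step -/
theorem Phi_bijective_of_triangle (K : Dual.D T) (Tr : Triangle (Dual.D T))
    (hTr : Tr ∈ distTriang (Dual.D T))
    (h₁ : Function.Bijective (Phi (T' := T') Tr.obj₁ K))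
    (h₁' : Function.Bijective (Phi (T' := T') (Tr.obj₁⟦(1 : ℤ)⟧) K))
    (h₃ : Function.Bijective (Phi (T' := T') Tr.obj₃ K))
    (h₃' : Function.Bijective (Phi (T' := T') (Tr.obj₃⟦(-1 : ℤ)⟧) K)) :
    Function.Bijective (Phi (T' := T') Tr.obj₂ K) := by
  have hTi : Tr.invRotate ∈ distTriang (Dual.D T) := inv_rot_of_distTriang _ hTr
  let δ' : Tr.obj₃⟦(-1 : ℤ)⟧ ⟶ Tr.obj₁ := Tr.invRotate.mor₁
  let bc := bcB T T'
  let K' := bc.obj K
  have hTr' : bc.mapTriangle.obj Tr ∈ distTriang (Dual.D T') := bc.map_distinguished _ hTr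
  have hTi' : bc.mapTriangle.obj Tr.invRotate ∈ distTriang (Dual.D T') :=
    bc.map_distinguished _ hTi
  -- top row
  let f₁ := ((Linear.leftComp T K Tr.mor₃).lTensor T').toAddMonoidHom
  let f₂ := ((Linear.leftComp T K Tr.mor₂).lTensor T').toAddMonoidHom
  let f₃ := ((Linear.leftComp T K Tr.mor₁).lTensor T').toAddMonoidHom
  let f₄ := ((Linear.leftComp T K δ').lTensor T').toAddMonoidHom
  -- bottom row
  let g₁ := Preadditive.leftComp K' (bc.map Tr.mor₃)
  let g₂ := Preadditive.leftComp K' (bc.map Tr.mor₂)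
  let g₃ := Preadditive.leftComp K' (bc.map Tr.mor₁)
  let g₄ := Preadditive.leftComp K' (bc.map δ')
  have hf₁ : Function.Exact f₁ f₂ :=
    Module.Flat.lTensor_exact T' (exact_leftComp₂₃ Tr hTr K)
  have hf₂ : Function.Exact f₂ f₃ :=
    Module.Flat.lTensor_exact T' (exact_leftComp₁₂ Tr hTr K)
  have hf₃ : Function.Exact f₃ f₄ :=
    Module.Flat.lTensor_exact T' (exact_leftComp₁₂ Tr.invRotate hTi K)
  have hg₁ : Function.Exact g₁ g₂ := by
    intro g
    constructor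
    · intro hg
      obtain ⟨h, hh⟩ := Triangle.yoneda_exact₃ _ hTr' g hg
      exact ⟨(bc.commShiftIso (1 : ℤ)).hom.app Tr.obj₁ ≫ h, by
        show bc.map Tr.mor₃ ≫ (bc.commShiftIso (1 : ℤ)).hom.app Tr.obj₁ ≫ h = g
        rw [hh]
        exact (Category.assoc _ _ _).symm⟩
    · rintro ⟨h, rfl⟩
      show bc.map Tr.mor₂ ≫ bc.map Tr.mor₃ ≫ h = 0
      rw [← Functor.map_comp_assoc, comp_distTriang_mor_zero₂₃ _ hTr, Functor.map_zero,
        zero_comp]
  have hg₂ : Function.Exact g₂ g₃ := exact_leftComp₁₂ _ hTr' K'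
  have hg₃ : Function.Exact g₃ g₄ := exact_leftComp₁₂ _ hTi' K'
  have hc₁ : g₁.comp (Phi (Tr.obj₁⟦(1 : ℤ)⟧) K) = (Phi Tr.obj₃ K).comp f₁ := by
    ext x
    exact (Phi_precomp Tr.mor₃ K x).symm
  have hc₂ : g₂.comp (Phi Tr.obj₃ K) = (Phi Tr.obj₂ K).comp f₂ := by
    ext x
    exact (Phi_precomp Tr.mor₂ K x).symm
  have hc₃ : g₃.comp (Phi Tr.obj₂ K) = (Phi Tr.obj₁ K).comp f₃ := by
    ext x
    exact (Phi_precomp Tr.mor₁ K x).symm
  have hc₄ : g₄.comp (Phi Tr.obj₁ K) = (Phi (Tr.obj₃⟦(-1 : ℤ)⟧) K).comp f₄ := by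
    ext x
    exact (Phi_precomp δ' K x).symm
  exact AddMonoidHom.bijective_of_surjective_of_bijective_of_bijective_of_injective
    f₁ f₂ f₃ f₄ g₁ g₂ g₃ g₄ _ _ _ _ _ hc₁ hc₂ hc₃ hc₄ hf₁ hf₂ hf₃ hg₁ hg₂ hg₃
    h₁'.2 h₃ h₁ h₃'.1

/-- retracts -/
lemma Phi_bijective_of_retract {X Z : Dual.D T} (a : X ⟶ Z) (r : Z ⟶ X) (har : a ≫ r = 𝟙 X)
    (K : Dual.D T) (h : Function.Bijective (Phi (T' := T') Z K)) :
    Function.Bijective (Phi (T' := T') X K) := by
  have h1 : ∀ x, Phi X K ((Linear.leftComp T K a).lTensor T' x) =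
      (bcB T T').map a ≫ Phi Z K x := Phi_precomp a K
  have h2 : ∀ x, Phi Z K ((Linear.leftComp T K r).lTensor T' x) =
      (bcB T T').map r ≫ Phi X K x := Phi_precomp r K
  have h3 : ∀ x : T' ⊗[T] (X ⟶ K), (Linear.leftComp T K a).lTensor T'
      ((Linear.leftComp T K r).lTensor T' x) = x := by
    intro x
    rw [← LinearMap.comp_apply, ← LinearMap.lTensor_comp]
    have : Linear.leftComp T K a ∘ₗ Linear.leftComp T K r = LinearMap.id := by
      ext f
      show a ≫ r ≫ f = f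
      rw [← Category.assoc, har, Category.id_comp]
    rw [this, LinearMap.lTensor_id, LinearMap.id_apply]
  constructor
  · intro x x' hxx
    have : Phi Z K ((Linear.leftComp T K r).lTensor T' x) =
        Phi Z K ((Linear.leftComp T K r).lTensor T' x') := by rw [h2, h2, hxx]
    have h4 := h.1 this
    rw [← h3 x, ← h3 x', h4]
  · intro y
    obtain ⟨z, hz⟩ := h.2 ((bcB T T').map r ≫ y)
    refine ⟨(Linear.leftComp T K a).lTensor T' z, ?_⟩
    rw [h1, hz, ← Functor.map_comp_assoc, har, CategoryTheory.Functor.map_id,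
      Category.id_comp]

variable (T') in
/-- the class of objects all of whose shifts satisfy base change for `Hom(-, K)` -/
def GoodX (K : Dual.D T) : ObjectProperty (Dual.D T) :=
  fun X => ∀ i : ℤ, Function.Bijective (Phi (T' := T') (X⟦i⟧) K)

instance (K : Dual.D T) : (GoodX T' K).IsClosedUnderIsomorphisms where
  of_iso e h := fun i =>
    Phi_bijective_of_iso ((shiftFunctor (Dual.D T) i).mapIso e.symm) K (h i)

lemma goodX_inD_self (K : Dual.D T) : GoodX T' K (Dual.inD T T) := by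
  intro i
  let e : (Dual.inD T T)⟦i⟧ ≅ toD (Sx T (-i)) :=
    ((DerivedCategory.singleFunctors (ModuleCat.{u} T)).shiftIso i (-i) 0 (by omega)).app
        (ModuleCat.of T T) ≪≫
      (singleFunctorIsoCompQ (ModuleCat.{u} T) (-i)).app (ModuleCat.of T T)
  exact Phi_bijective_of_iso e K (Phi_bijective_single (-i) K)

lemma goodX_shift (K X : Dual.D T) (n : ℤ) (h : GoodX T' K X) : GoodX T' K (X⟦n⟧) := by
  intro i
  exact Phi_bijective_of_iso ((shiftFunctorAdd' (Dual.D T) n i (n + i) rfl).app X).symm K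
    (h (n + i))

lemma goodX_ext (K : Dual.D T) (Tr : Triangle (Dual.D T)) (hTr : Tr ∈ distTriang _)
    (h₁ : GoodX T' K Tr.obj₁) (h₃ : GoodX T' K Tr.obj₃) : GoodX T' K Tr.obj₂ := by
  intro i
  have hTi := Triangle.shift_distinguished Tr hTr i
  refine Phi_bijective_of_triangle K _ hTi (h₁ i) ?_ (h₃ i) ?_
  · exact goodX_shift K Tr.obj₁ i h₁ 1
  · exact goodX_shift K Tr.obj₃ i h₃ (-1)

lemma goodX_summand (K : Dual.D T) (X Y : Dual.D T) [HasBinaryBiproduct X Y]
    (h : GoodX T' K (X ⊞ Y)) : GoodX T' K X := by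
  intro i
  refine Phi_bijective_of_retract ((shiftFunctor (Dual.D T) i).map biprod.inl)
    ((shiftFunctor (Dual.D T) i).map biprod.fst) ?_ K (h i)
  rw [← Functor.map_comp, biprod.inl_fst, CategoryTheory.Functor.map_id]

/-- base change for `Hom(X, K)`, `X` perfect -/
theorem Phi_bijective_of_isPerfect (X K : Dual.D T) (hX : IsPerfect T X) :
    Function.Bijective (Phi (T' := T') X K) := by
  have h := prop_of_isPerfect (GoodX T' K) (goodX_inD_self K)
    (fun X n hX => goodX_shift K X n hX) (fun Tr hTr h₁ h₃ => goodX_ext K Tr hTr h₁ h₃)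
    (fun X Y _ h => goodX_summand K X Y h) X hX
  exact Phi_bijective_of_iso ((shiftFunctorZero (Dual.D T) ℤ).app X).symm K (h 0)

lemma isZero_homology_bcB (Z : Dual.D T) (i : ℤ)
    (h : IsZero ((homologyFunctor (ModuleCat.{u} T) i).obj Z)) :
    IsZero ((homologyFunctor (ModuleCat.{u} T') i).obj ((bcB T T').obj Z)) :=
  IsZero.of_iso ((EB T T').map_isZero h) ((exactHomologyIso (EB T T') i).app Z)

instance isLE_bcB (Z : Dual.D T) (n : ℤ) [DerivedCategory.IsLE Z n] :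
    DerivedCategory.IsLE ((bcB T T').obj Z) n := by
  rw [DerivedCategory.isLE_iff]
  intro i hi
  exact isZero_homology_bcB Z i (DerivedCategory.isZero_of_isLE Z n i hi)

instance isGE_bcB (Z : Dual.D T) (n : ℤ) [DerivedCategory.IsGE Z n] :
    DerivedCategory.IsGE ((bcB T T').obj Z) n := by
  rw [DerivedCategory.isGE_iff]
  intro i hi
  exact isZero_homology_bcB Z i (DerivedCategory.isZero_of_isGE Z n i hi)

lemma subsingleton_tensor_of_subsingleton (M : Type*) [AddCommGroup M] [Module T M]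
    [Subsingleton M] : Subsingleton (T' ⊗[T] M) := by
  refine ⟨fun x y => ?_⟩
  have h0 : ∀ z : T' ⊗[T] M, z = 0 := by
    intro z
    induction z using TensorProduct.induction_on with
    | zero => rfl
    | tmul a m => rw [Subsingleton.elim m 0, TensorProduct.tmul_zero]
    | add x y hx hy => rw [hx, hy, add_zero]
  rw [h0 x, h0 y]

lemma Phi_bijective_of_isLE_of_isGE (Z K : Dual.D T) (n c : ℤ) (hnc : n < c)
    [DerivedCategory.IsLE Z n] [DerivedCategory.IsGE K c] :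
    Function.Bijective (Phi (T' := T') Z K) := by
  have hz : ∀ f : Z ⟶ K, f = 0 := fun f =>
    TStructure.t.zero_of_isLE_of_isGE f n c hnc inferInstance inferInstance
  have hz' : ∀ f : (bcB T T').obj Z ⟶ (bcB T T').obj K, f = 0 :=
    fun f => TStructure.t.zero_of_isLE_of_isGE f n c hnc inferInstance inferInstance
  haveI : Subsingleton (Z ⟶ K) := ⟨fun f g => by rw [hz f, hz g]⟩
  haveI : Subsingleton ((bcB T T').obj Z ⟶ (bcB T T').obj K) :=
    ⟨fun f g => by rw [hz' f, hz' g]⟩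
  haveI := subsingleton_tensor_of_subsingleton (T := T) (T' := T') (Z ⟶ K)
  exact ⟨fun x y _ => Subsingleton.elim x y, fun y => ⟨0, Subsingleton.elim _ _⟩⟩

/-- **flat base change for `Hom(X, K)`, `X` pseudo-coherent and `K` bounded below** -/
theorem Phi_bijective_of_pc (X K : Dual.D T) (hX : IsPseudoCoherent' T X) (c : ℤ)
    [DerivedCategory.IsGE K c] : Function.Bijective (Phi (T' := T') X K) := by
  obtain ⟨Y, Z, f, g, h, hTr, hY, hZ⟩ := pcmP_of_isPseudoCoherent' X hX (c - 1)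
  haveI : DerivedCategory.IsLE Z (c - 1 - 1) := hZ
  have hYp : IsPerfect T Y := by
    obtain ⟨E, hE, he⟩ := hY
    exact (isPerfect_iff Y).2 ⟨E, perfCls_of_bfCls hE, he⟩
  have hYp1 : IsPerfect T (Y⟦(1 : ℤ)⟧) := by
    have := (bfProp T).le_shift (1 : ℤ) _ hY
    obtain ⟨E, hE, he⟩ := this
    exact (isPerfect_iff _).2 ⟨E, perfCls_of_bfCls hE, he⟩
  haveI : DerivedCategory.IsLE (Z⟦(-1 : ℤ)⟧) (c - 1) :=
    TStructure.t.isLE_shift Z (c - 1 - 1) (-1) (c - 1) (by omega)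
  exact Phi_bijective_of_triangle K (Triangle.mk f g h) hTr
    (Phi_bijective_of_isPerfect Y K hYp) (Phi_bijective_of_isPerfect _ K hYp1)
    (Phi_bijective_of_isLE_of_isGE Z K (c - 1 - 1) c (by omega))
    (Phi_bijective_of_isLE_of_isGE (Z⟦(-1 : ℤ)⟧) K (c - 1) c (by omega))

end Groth.Agent.Lib.FlatBCH6
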