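import Mathlib
import Groth.Prelude.Def_DRing2
import Groth.Prelude.Def_DDual2
import Groth.Prelude.Def_Wider
import Groth.Agent.Lib.FlatBC4_helper6
import Groth.Agent.Lib.DMod82_helper6

/-!
# Flat base change for `RHom` (helper6), part 5: the commutation of flat base change with
restriction of scalars in a pushout square, on derived categories.
-/

set_option autoImplicit false
universe u
open CategoryTheory CategoryTheory.Limits DerivedCategory Pretriangulated
open scoped TensorProduct
attribute [local instance] HasDerivedCategory.standard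

namespace Groth.Agent.Lib.FlatBCH6

open DRing Groth.Agent.Lib.DMod_helper6 Groth.Agent.Lib.ShriekIndH6

section Tau

variable {P A P' A' : Type u} [CommRing P] [CommRing A] [CommRing P'] [CommRing A']
  [Algebra P A] [Algebra P P'] [Algebra A A'] [Algebra P' A'] [Algebra P A']
  [IsScalarTower P A A'] [IsScalarTower P P' A'] [Algebra.IsPushout P P' A A']

lemma smul_tensor_eq (N : Type u) [AddCommGroup N] [Module A N] (p' : P') (y : A' ⊗[A] N) :
    p' • y = algebraMap P' A' p' • y := by
  induction y using TensorProduct.induction_on with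
  | zero => rw [smul_zero, smul_zero]
  | tmul b n =>
    rw [TensorProduct.smul_tmul', TensorProduct.smul_tmul', Algebra.smul_def, smul_eq_mul]
  | add x y hx hy => rw [smul_add, smul_add, hx, hy]

section Lin

variable (N : Type u) [AddCommGroup N] [Module A N] [Module P N] [IsScalarTower P A N]

variable (P A P' A') in
/-- the comparison `P' ⊗[P] N → A' ⊗[A] N` -/
noncomputable def tauLin : P' ⊗[P] N ≃ₗ[P'] A' ⊗[A] N :=
  (Algebra.IsPushout.cancelBaseChange P P' A A' N).symm

lemma tauLin_tmul (p' : P') (n : N) :
    tauLin P A P' A' N (p' ⊗ₜ[P] n) = algebraMap P' A' p' ⊗ₜ[A] n :=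
  Algebra.IsPushout.cancelBaseChange_symm_tmul P P' A A' N p' n

end Lin

variable (P A P' A') in
/-- the comparison `P' ⊗[P] N ⟶ A' ⊗[A] N`, on modules -/
noncomputable def tauModApp (N : ModuleCat.{u} A) :
    (EB P P').obj ((ModuleCat.restrictScalars.{u} (algebraMap P A)).obj N) ⟶
      (ModuleCat.restrictScalars.{u} (algebraMap P' A')).obj ((EB A A').obj N) :=
  letI : Module P N := Module.compHom N (algebraMap P A)
  haveI : IsScalarTower P A N := IsScalarTower.of_algebraMap_smul (fun _ _ => rfl)
  ModuleCat.ofHom
    (X := (EB P P').obj ((ModuleCat.restrictScalars.{u} (algebraMap P A)).obj N))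
    (Y := (ModuleCat.restrictScalars.{u} (algebraMap P' A')).obj ((EB A A').obj N))
    { toFun := fun x => (tauLin P A P' A' N (show P' ⊗[P] N from x) : A' ⊗[A] N)
      map_add' := fun x y => map_add (tauLin P A P' A' N) (show P' ⊗[P] N from x)
        (show P' ⊗[P] N from y)
      map_smul' := fun p' x => by
        have h1 := map_smul (tauLin P A P' A' N) p' (show P' ⊗[P] N from x)
        have h2 := smul_tensor_eq (P' := P') (A := A) (A' := A') N p'
          (tauLin P A P' A' N (show P' ⊗[P] N from x))
        exact h1.trans h2 }

lemma tauModApp_apply (N : ModuleCat.{u} A) :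
    letI : Module P N := Module.compHom N (algebraMap P A)
    haveI : IsScalarTower P A N := IsScalarTower.of_algebraMap_smul (fun _ _ => rfl)
    ∀ x : P' ⊗[P] N, (tauModApp P A P' A' N).hom x = (tauLin P A P' A' N x : A' ⊗[A] N) :=
  fun _ => rfl

instance isIso_tauModApp (N : ModuleCat.{u} A) : IsIso (tauModApp P A P' A' N) := by
  letI : Module P N := Module.compHom N (algebraMap P A)
  haveI : IsScalarTower P A N := IsScalarTower.of_algebraMap_smul (fun _ _ => rfl)
  rw [ConcreteCategory.isIso_iff_bijective]
  exact (tauLin P A P' A' N).bijective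

variable (P A P' A') in
/-- the comparison `P' ⊗[P] N ≅ A' ⊗[A] N`, as a natural isomorphism -/
noncomputable def tauMod :
    ModuleCat.restrictScalars.{u} (algebraMap P A) ⋙ EB P P' ≅
      EB A A' ⋙ ModuleCat.restrictScalars.{u} (algebraMap P' A') :=
  NatIso.ofComponents (fun N => asIso (tauModApp P A P' A' N)) (by
    intro N N' f
    letI : Module P N := Module.compHom N (algebraMap P A)
    haveI : IsScalarTower P A N := IsScalarTower.of_algebraMap_smul (fun _ _ => rfl)
    letI : Module P N' := Module.compHom N' (algebraMap P A)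
    haveI : IsScalarTower P A N' := IsScalarTower.of_algebraMap_smul (fun _ _ => rfl)
    ext x
    let fP : N →ₗ[P] N' :=
      { toFun := fun n => f.hom n
        map_add' := fun a b => map_add f.hom a b
        map_smul' := fun p n => map_smul f.hom (algebraMap P A p) n }
    have key : ∀ x : P' ⊗[P] N,
        tauLin P A P' A' N' (LinearMap.baseChange P' fP x) =
          LinearMap.baseChange A' f.hom (tauLin P A P' A' N x) := by
      intro x
      induction x using TensorProduct.induction_on with
      | zero => rw [map_zero, map_zero, map_zero, map_zero]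
      | tmul p' n =>
        rw [LinearMap.baseChange_tmul, tauLin_tmul, tauLin_tmul, LinearMap.baseChange_tmul]
        rfl
      | add x y hx hy => rw [map_add, map_add, map_add, map_add, hx, hy]
    exact key x)

variable [Module.Flat P P'] [Module.Flat A A']

variable (P A P' A') in
/-- flat base change commutes with restriction of scalars in a pushout square -/
noncomputable def tauD :
    restrictD (algebraMap P A) ⋙ bcB P P' ≅ bcB A A' ⋙ restrictD (algebraMap P' A') :=
  compIsoD (ModuleCat.restrictScalars.{u} (algebraMap P A)) (EB P P') (EB A A')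
    (ModuleCat.restrictScalars.{u} (algebraMap P' A')) (tauMod P A P' A')

end Tau

section Semilinear

variable {P A : Type u} [CommRing P] [CommRing A] (φ : P →+* A)

lemma restrictD_map_smul (p : P) {X Y : Dual.D A} (f : X ⟶ Y) :
    (restrictD φ).map (φ p • f) = p • (restrictD φ).map f :=
  mapDerivedCategory_map_smul (ModuleCat.restrictScalars.{u} φ) (φ p) p
    (fun N => by
      ext x
      rfl) f

lemma homEquiv_symm_smul {Rφ : Dual.D P ⥤ Dual.D A} (adj : restrictD φ ⊣ Rφ) (p : P)
    {X : Dual.D A} {K : Dual.D P} (g : X ⟶ Rφ.obj K) :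
    (adj.homEquiv X K).symm (φ p • g) = p • (adj.homEquiv X K).symm g := by
  have h : φ p • g = (φ p • 𝟙 X) ≫ g := by rw [Linear.smul_comp, Category.id_comp]
  rw [h, Adjunction.homEquiv_naturality_left_symm, restrictD_map_smul,
    CategoryTheory.Functor.map_id, Linear.smul_comp, Category.id_comp]

lemma homEquiv_smul {Rφ : Dual.D P ⥤ Dual.D A} (adj : restrictD φ ⊣ Rφ) (p : P)
    {X : Dual.D A} {K : Dual.D P} (g : (restrictD φ).obj X ⟶ K) :
    adj.homEquiv X K (p • g) = φ p • adj.homEquiv X K g := by
  apply (adj.homEquiv X K).symm.injective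
  rw [Equiv.symm_apply_apply, homEquiv_symm_smul, Equiv.symm_apply_apply]

end Semilinear

end Groth.Agent.Lib.FlatBCH6
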