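import Mathlib
import Groth.Prelude.Def_TrivBC
import Groth.Prelude.Def_DTen4
import Groth.Agent.Lib.BaseCmp_helper2

/-!
# Tor-independent base change (helper6), part 1: the comparison `L(QK) ⟶ Q(K ⊗_R A)` for an
arbitrary left adjoint `L` of restriction of scalars, and its invertibility at K-flat complexes.
-/

set_option autoImplicit false
universe u
open CategoryTheory CategoryTheory.Limits DerivedCategory
attribute [local instance] HasDerivedCategory.standard

namespace Groth.Agent.Lib.TrivBCH6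

open Groth.Agent.Lib.DMod_helper6 Groth.Agent.Lib.DerivedAdj Groth.Agent.Lib.KFlatMod
  Groth.Agent.Lib.BaseCmp

section Gam

variable {R A : Type u} [CommRing R] [CommRing A] (φ : R →+* A)

/-- `QK ⟶ (Q(K ⊗_R A))|_R`: `Q` of the unit map followed by the identification of restriction on `D`
with termwise restriction. -/
noncomputable def gam (K : DRing.Cx R) :
    (Q.obj K : Dual.D R) ⟶ (DRing.restrictD φ).obj (Q.obj ((DTen.extCx φ).obj K)) :=
  Q.map ((DTen.unitCx φ).app K) ≫ (DTen.resFactors φ).inv.app ((DTen.extCx φ).obj K)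

lemma gam_naturality {K K' : DRing.Cx R} (f : K ⟶ K') :
    Q.map f ≫ gam φ K' = gam φ K ≫ (DRing.restrictD φ).map (Q.map ((DTen.extCx φ).map f)) := by
  have h1 := (DTen.unitCx φ).naturality f
  have h2 := (DTen.resFactors φ).inv.naturality ((DTen.extCx φ).map f)
  dsimp at h1 h2
  unfold gam
  rw [Category.assoc, ← h2, ← Category.assoc, ← Category.assoc, ← Functor.map_comp,
    ← Functor.map_comp, h1]

lemma gam_comp_map (P : DRing.Cx R) (Z : DRing.Cx A) (g0 : (DTen.extCx φ).obj P ⟶ Z) :
    gam φ P ≫ (DRing.restrictD φ).map (Q.map g0) =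
      Q.map ((unitC (adj0 φ) (ComplexShape.up ℤ)).app P ≫ (DTen.resCx φ).map g0) ≫
        (DTen.resFactors φ).inv.app Z := by
  have h := (DTen.resFactors φ).inv.naturality g0
  simp only [Functor.comp_map] at h
  show (Q.map ((DTen.unitCx φ).app P) ≫ (DTen.resFactors φ).inv.app ((DTen.extCx φ).obj P)) ≫
    (DRing.restrictD φ).map (Q.map g0) = _
  rw [Category.assoc, ← h, ← Category.assoc, ← Functor.map_comp, unitCx_app]

/-- for `P` K-projective, `(Q(P ⊗_R A), gam)` is a universal arrow from `QP` to restriction. -/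
theorem bijective_gam (P : DRing.Cx R) [P.IsKProjective] (Z : DRing.Cx A) :
    Function.Bijective (fun g : (Q.obj ((DTen.extCx φ).obj P) : Dual.D A) ⟶ Q.obj Z =>
      gam φ P ≫ (DRing.restrictD φ).map g) := by
  haveI : ((DTen.extCx φ).obj P).IsKProjective :=
    Groth.Agent.Lib.KProjAdj.isKProjective_extendScalars φ P
  constructor
  · intro g1 g2 h
    obtain ⟨g10, rfl⟩ := exists_Q_map_eq_of_isKProjective g1
    obtain ⟨g20, rfl⟩ := exists_Q_map_eq_of_isKProjective g2
    simp only [gam_comp_map] at h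
    have h1 := (cancel_mono _).1 h
    have h2 := quotient_map_eq_of_Q_map_eq (E := P) _ _ h1
    have h3 : (adjK (adj0 φ) (ComplexShape.up ℤ)).homEquiv _ _
          ((HomotopyCategory.quotient _ _).map g10) =
        (adjK (adj0 φ) (ComplexShape.up ℤ)).homEquiv _ _
          ((HomotopyCategory.quotient _ _).map g20) := by
      rw [Adjunction.homEquiv_unit, Adjunction.homEquiv_unit]
      show (HomotopyCategory.quotient _ _).map ((unitC (adj0 φ) (ComplexShape.up ℤ)).app P) ≫
          (HomotopyCategory.quotient _ _).map ((DTen.resCx φ).map g10) =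
        (HomotopyCategory.quotient _ _).map ((unitC (adj0 φ) (ComplexShape.up ℤ)).app P) ≫
          (HomotopyCategory.quotient _ _).map ((DTen.resCx φ).map g20)
      rw [← Functor.map_comp, ← Functor.map_comp]
      exact h2
    have h4 := ((adjK (adj0 φ) (ComplexShape.up ℤ)).homEquiv _ _).injective h3
    exact DerivedCategory.Q_map_eq_of_homotopy (C := ModuleCat.{u} A)
      (HomotopyCategory.homotopyOfEq _ _ h4)
  · intro h
    obtain ⟨h0, hh0⟩ := exists_Q_map_eq_of_isKProjective (h ≫ (DTen.resFactors φ).hom.app Z)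
    let g0 : (DTen.extCx φ).obj P ⟶ Z :=
      ((adjC (adj0 φ) (ComplexShape.up ℤ)).homEquiv P Z).symm h0
    have e1 : (unitC (adj0 φ) (ComplexShape.up ℤ)).app P ≫ (DTen.resCx φ).map g0 = h0 := by
      have := ((adjC (adj0 φ) (ComplexShape.up ℤ)).homEquiv P Z).apply_symm_apply h0
      rwa [Adjunction.homEquiv_unit] at this
    refine ⟨Q.map g0, ?_⟩
    show gam φ P ≫ (DRing.restrictD φ).map (Q.map g0) = h
    rw [gam_comp_map, e1, hh0, Category.assoc, Iso.hom_inv_id_app]
    exact Category.comp_id h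

end Gam

section CmpL

variable {R A : Type u} [CommRing R] [CommRing A] (φ : R →+* A)
  {L : Dual.D R ⥤ Dual.D A} (adjL : L ⊣ DRing.restrictD φ)

/-- the comparison `L(QK) ⟶ Q(K ⊗_R A)` for a left adjoint `L` of restriction of scalars. -/
noncomputable def cmpL (K : DRing.Cx R) :
    L.obj (Q.obj K) ⟶ (Q.obj ((DTen.extCx φ).obj K) : Dual.D A) :=
  (adjL.homEquiv _ _).symm (gam φ K)

lemma cmpL_fac (K : DRing.Cx R) :
    adjL.unit.app (Q.obj K) ≫ (DRing.restrictD φ).map (cmpL φ adjL K) = gam φ K := by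
  have h := (adjL.homEquiv (Q.obj K) (Q.obj ((DTen.extCx φ).obj K))).apply_symm_apply (gam φ K)
  rwa [Adjunction.homEquiv_unit] at h

lemma homEquiv_cmpL_comp (K : DRing.Cx R) {T : Dual.D A}
    (g : (Q.obj ((DTen.extCx φ).obj K) : Dual.D A) ⟶ T) :
    adjL.homEquiv _ _ (cmpL φ adjL K ≫ g) = gam φ K ≫ (DRing.restrictD φ).map g := by
  rw [Adjunction.homEquiv_unit, Functor.map_comp, ← Category.assoc, cmpL_fac]

lemma cmpL_naturality {K K' : DRing.Cx R} (f : K ⟶ K') :
    L.map (Q.map f) ≫ cmpL φ adjL K' = cmpL φ adjL K ≫ Q.map ((DTen.extCx φ).map f) := by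
  apply (adjL.homEquiv _ _).injective
  rw [homEquiv_cmpL_comp, Adjunction.homEquiv_naturality_left]
  have : adjL.homEquiv _ _ (cmpL φ adjL K') = gam φ K' := by
    exact (adjL.homEquiv _ _).apply_symm_apply (gam φ K')
  rw [this, gam_naturality]

/-- `cmpL` is an isomorphism at K-projective complexes -/
theorem isIso_cmpL_of_isKProjective (P : DRing.Cx R) [P.IsKProjective] :
    IsIso (cmpL φ adjL P) := by
  apply isIso_of_coyoneda_map_bijective
  intro T
  let Z := Q.objPreimage T
  let e : Q.obj Z ≅ T := Q.objObjPreimageIso T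
  obtain ⟨hinj, hsurj⟩ := bijective_gam φ P Z
  constructor
  · intro g1 g2 h
    have h' : cmpL φ adjL P ≫ g1 = cmpL φ adjL P ≫ g2 := h
    have h1 := congrArg (adjL.homEquiv _ _) h'
    rw [homEquiv_cmpL_comp, homEquiv_cmpL_comp] at h1
    have h2 : gam φ P ≫ (DRing.restrictD φ).map (g1 ≫ e.inv) =
        gam φ P ≫ (DRing.restrictD φ).map (g2 ≫ e.inv) := by
      rw [Functor.map_comp, Functor.map_comp, ← Category.assoc, ← Category.assoc, h1]
    exact (cancel_mono e.inv).1 (hinj h2)
  · intro k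
    obtain ⟨g', hg'⟩ := hsurj (adjL.homEquiv _ _ k ≫ (DRing.restrictD φ).map e.inv)
    refine ⟨g' ≫ e.hom, ?_⟩
    show cmpL φ adjL P ≫ g' ≫ e.hom = k
    apply (adjL.homEquiv _ _).injective
    rw [homEquiv_cmpL_comp, Functor.map_comp, ← Category.assoc]
    have hg'' : gam φ P ≫ (DRing.restrictD φ).map g' =
      adjL.homEquiv _ _ k ≫ (DRing.restrictD φ).map e.inv := hg'
    rw [hg'', Category.assoc, ← Functor.map_comp, Iso.inv_hom_id, CategoryTheory.Functor.map_id,
      Category.comp_id]

/-- **`cmpL` is an isomorphism at K-flat complexes** -/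
theorem isIso_cmpL_of_kf (K : DRing.Cx R) (hK : KF R K) : IsIso (cmpL φ adjL K) := by
  obtain ⟨P, π, hπ, hPkp, hPkf, -⟩ := Groth.Agent.Lib.KProjRes.exists_kproj_resolution K
  haveI := hπ
  haveI := hPkp
  haveI : IsIso (Q.map π) := (DerivedCategory.isIso_Q_map_iff_quasiIso _ _).2 inferInstance
  haveI := isIso_cmpL_of_isKProjective φ adjL P
  letI : Algebra R A := φ.toAlgebra
  haveI hq : QuasiIso ((DTen.extCx φ).map π) := quasiIso_ext_of_kf (A := A) hPkf hK π
  haveI : IsIso (Q.map ((DTen.extCx φ).map π)) :=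
    (DerivedCategory.isIso_Q_map_iff_quasiIso _ _).2 hq
  have hnat := cmpL_naturality φ adjL π
  haveI : IsIso (L.map (Q.map π)) := inferInstance
  have : cmpL φ adjL K = inv (L.map (Q.map π)) ≫
      cmpL φ adjL P ≫ Q.map ((DTen.extCx φ).map π) := by
    rw [← hnat, IsIso.inv_hom_id_assoc]
  rw [this]
  infer_instance

end CmpL

end Groth.Agent.Lib.TrivBCH6
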