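import Mathlib
import Groth.Prelude.Def_TrivBC
import Groth.Prelude.Def_DTen4
import Groth.Agent.Lib.TrivBC1_helper6

/-!
# Tor-independent base change (helper6), part 2: the chain level base change map
`(N|_R) ⊗_R R' ⟶ (N ⊗_A A')|_{R'}` of a commutative square of rings and the formula computing
`TrivBC.cmp` at `Q M` in terms of it.
-/

set_option autoImplicit false
universe u
open CategoryTheory CategoryTheory.Limits DerivedCategory
attribute [local instance] HasDerivedCategory.standard

namespace Groth.Agent.Lib.TrivBCH6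

open Groth.Agent.Lib.DMod_helper6 Groth.Agent.Lib.DerivedAdj Groth.Agent.Lib.KFlatMod
  Groth.Agent.Lib.BaseCmp

section Square

variable {R A R' A' : Type u} [CommRing R] [CommRing A] [CommRing R'] [CommRing A']
  {φ : R →+* A} {ρ : R →+* R'} {α : A →+* A'} {φ' : R' →+* A'}
  (h : α.comp φ = φ'.comp ρ)

/-- the module level base change map `(N|_R) ⊗_R R' ⟶ (N ⊗_A A')|_{R'}` -/
noncomputable def poMod (N : ModuleCat.{u} A) :
    (ModuleCat.extendScalars.{u, u, u} ρ).obj ((ModuleCat.restrictScalars.{u} φ).obj N) ⟶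
      (ModuleCat.restrictScalars.{u} φ').obj ((ModuleCat.extendScalars.{u, u, u} α).obj N) :=
  ((adj0 ρ).homEquiv _ _).symm
    ((ModuleCat.restrictScalars.{u} φ).map ((adj0 α).unit.app N) ≫
      (TrivBC.resCommMod h).hom.app ((ModuleCat.extendScalars.{u, u, u} α).obj N))

lemma unit_poMod (N : ModuleCat.{u} A) :
    (adj0 ρ).unit.app ((ModuleCat.restrictScalars.{u} φ).obj N) ≫
        (ModuleCat.restrictScalars.{u} ρ).map (poMod h N) =
      (ModuleCat.restrictScalars.{u} φ).map ((adj0 α).unit.app N) ≫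
        (TrivBC.resCommMod h).hom.app ((ModuleCat.extendScalars.{u, u, u} α).obj N) := by
  have := ((adj0 ρ).homEquiv _ _).apply_symm_apply
    ((ModuleCat.restrictScalars.{u} φ).map ((adj0 α).unit.app N) ≫
      (TrivBC.resCommMod h).hom.app ((ModuleCat.extendScalars.{u, u, u} α).obj N))
  rwa [Adjunction.homEquiv_unit] at this

/-- the base change map as a natural transformation -/
noncomputable def poNat :
    ModuleCat.restrictScalars.{u} φ ⋙ ModuleCat.extendScalars.{u, u, u} ρ ⟶
      ModuleCat.extendScalars.{u, u, u} α ⋙ ModuleCat.restrictScalars.{u} φ' where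
  app N := poMod h N
  naturality N N' f := by
    apply ((adj0 ρ).homEquiv _ _).injective
    dsimp only [Functor.comp_obj, Functor.comp_map]
    rw [Adjunction.homEquiv_naturality_left, Adjunction.homEquiv_naturality_right]
    unfold poMod
    rw [Equiv.apply_symm_apply, Equiv.apply_symm_apply, Category.assoc]
    have h1 := (TrivBC.resCommMod h).hom.naturality ((ModuleCat.extendScalars.{u, u, u} α).map f)
    dsimp only [Functor.comp_obj, Functor.comp_map] at h1
    rw [← h1, ← Category.assoc, ← Category.assoc, ← Functor.map_comp, ← Functor.map_comp]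
    congr 2

/-- the complex level base change map `(M|_R) ⊗_R R' ⟶ (M ⊗_A A')|_{R'}` -/
noncomputable def poCx : DTen.resCx φ ⋙ DTen.extCx ρ ⟶ DTen.extCx α ⋙ DTen.resCx φ' :=
  NatTrans.mapHomologicalComplex (poNat h) (ComplexShape.up ℤ)

/-- the chain level commutation `M|_A|_R ⟶ M|_{R'}|_R` -/
noncomputable def rcCx : DTen.resCx α ⋙ DTen.resCx φ ⟶ DTen.resCx φ' ⋙ DTen.resCx ρ :=
  NatTrans.mapHomologicalComplex (TrivBC.resCommMod h).hom (ComplexShape.up ℤ)

lemma unit_poCx (M : DRing.Cx A) :
    (DTen.unitCx ρ).app ((DTen.resCx φ).obj M) ≫ (DTen.resCx ρ).map ((poCx h).app M) =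
      (DTen.resCx φ).map ((DTen.unitCx α).app M) ≫ (rcCx h).app ((DTen.extCx α).obj M) := by
  apply HomologicalComplex.hom_ext
  intro i
  exact unit_poMod h (M.X i)

lemma liftingRes₂_iso_hom_app {B C E : Type u} [CommRing B] [CommRing C] [CommRing E] (g : C →+* E)
    (f : B →+* C) (Y : DRing.Cx E) :
    (letI := TrivBC.liftingRes₂ g f
     Localization.Lifting.iso (Q : DRing.Cx E ⥤ Dual.D E)
      (HomologicalComplex.quasiIso (ModuleCat.{u} E) (ComplexShape.up ℤ))
      (DTen.resCx g ⋙ DTen.resCx f ⋙ Q) (DRing.restrictD g ⋙ DRing.restrictD f)).hom.app Y =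
      (DRing.restrictD f).map ((DTen.resFactors g).hom.app Y) ≫
        (DTen.resFactors f).hom.app ((DTen.resCx g).obj Y) := by
  unfold TrivBC.liftingRes₂
  simp

lemma liftingRes₂_iso_inv_app {B C E : Type u} [CommRing B] [CommRing C] [CommRing E] (g : C →+* E)
    (f : B →+* C) (Y : DRing.Cx E) :
    (letI := TrivBC.liftingRes₂ g f
     Localization.Lifting.iso (Q : DRing.Cx E ⥤ Dual.D E)
      (HomologicalComplex.quasiIso (ModuleCat.{u} E) (ComplexShape.up ℤ))
      (DTen.resCx g ⋙ DTen.resCx f ⋙ Q) (DRing.restrictD g ⋙ DRing.restrictD f)).inv.app Y =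
      (DTen.resFactors f).inv.app ((DTen.resCx g).obj Y) ≫
        (DRing.restrictD f).map ((DTen.resFactors g).inv.app Y) := by
  unfold TrivBC.liftingRes₂
  simp

/-- the canonical commutation isomorphism `resComm` evaluated at `Q Y` -/
lemma resComm_hom_app_Q (Y : DRing.Cx A') :
    (TrivBC.resComm h).hom.app (Q.obj Y) =
      (DRing.restrictD φ).map ((DTen.resFactors α).hom.app Y) ≫
        (DTen.resFactors φ).hom.app ((DTen.resCx α).obj Y) ≫
          Q.map ((rcCx h).app Y) ≫
            (DTen.resFactors ρ).inv.app ((DTen.resCx φ').obj Y) ≫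
              (DRing.restrictD ρ).map ((DTen.resFactors φ').inv.app Y) := by
  unfold TrivBC.resComm
  rw [Localization.liftNatIso_hom, Localization.liftNatTrans_app]
  erw [liftingRes₂_iso_hom_app, liftingRes₂_iso_inv_app]
  simp only [TrivBC.resCommCx, Category.assoc]
  congr 2

variable [DRing.HasLBaseChange ρ] [DRing.HasLBaseChange α]
  (adjρ : DRing.LBaseChange ρ ⊣ DRing.restrictD ρ) (adjα : DRing.LBaseChange α ⊣ DRing.restrictD α)

/-- the adjunct of `cmp ≫ g` -/
lemma homEquiv_cmp_comp (V : Dual.D A) {T : Dual.D R'}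
    (g : (DRing.restrictD φ').obj ((DRing.LBaseChange α).obj V) ⟶ T) :
    adjρ.homEquiv _ _ (TrivBC.cmp adjρ adjα h V ≫ g) =
      (DRing.restrictD φ).map (adjα.unit.app V) ≫
        (TrivBC.resComm h).hom.app ((DRing.LBaseChange α).obj V) ≫ (DRing.restrictD ρ).map g := by
  rw [Adjunction.homEquiv_naturality_right]
  unfold TrivBC.cmp
  rw [Equiv.apply_symm_apply, Category.assoc]

/-- **the comparison map `cmp` at `Q M`, computed on complexes** -/
theorem cmp_formula (M : DRing.Cx A) (Y : DRing.Cx R) (g : Y ⟶ (DTen.resCx φ).obj M) :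
    (DRing.LBaseChange ρ).map (Q.map g ≫ (DTen.resFactors φ).inv.app M) ≫
      TrivBC.cmp adjρ adjα h (Q.obj M) ≫
        (DRing.restrictD φ').map (cmpL α adjα M) ≫
          (DTen.resFactors φ').hom.app ((DTen.extCx α).obj M) =
    cmpL ρ adjρ Y ≫ Q.map ((DTen.extCx ρ).map g ≫ (poCx h).app M) := by
  have hL : adjρ.homEquiv _ _ ((DRing.LBaseChange ρ).map (Q.map g ≫ (DTen.resFactors φ).inv.app M) ≫
      TrivBC.cmp adjρ adjα h (Q.obj M) ≫
        (DRing.restrictD φ').map (cmpL α adjα M) ≫
          (DTen.resFactors φ').hom.app ((DTen.extCx α).obj M)) =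
      (Q.map g ≫ (DTen.resFactors φ).inv.app M) ≫
        (DRing.restrictD φ).map (adjα.unit.app (Q.obj M)) ≫
          (TrivBC.resComm h).hom.app ((DRing.LBaseChange α).obj (Q.obj M)) ≫
            (DRing.restrictD ρ).map ((DRing.restrictD φ').map (cmpL α adjα M) ≫
              (DTen.resFactors φ').hom.app ((DTen.extCx α).obj M)) := by
    rw [Adjunction.homEquiv_naturality_left]
    exact congrArg (fun t => (Q.map g ≫ (DTen.resFactors φ).inv.app M) ≫ t)
      (homEquiv_cmp_comp h adjρ adjα (Q.obj M) _)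
  have hR : adjρ.homEquiv _ _ (cmpL ρ adjρ Y ≫ Q.map ((DTen.extCx ρ).map g ≫ (poCx h).app M)) =
      Q.map ((unitC (adj0 ρ) (ComplexShape.up ℤ)).app Y ≫
        (DTen.resCx ρ).map ((DTen.extCx ρ).map g ≫ (poCx h).app M)) ≫
          (DTen.resFactors ρ).inv.app _ :=
    (homEquiv_cmpL_comp ρ adjρ Y _).trans (gam_comp_map ρ Y _ _)
  refine (adjρ.homEquiv _ _).injective (hL.trans (Eq.trans ?_ hR.symm))
  -- left hand side
  have hn := (TrivBC.resComm h).hom.naturality (cmpL α adjα M)
  dsimp only [Functor.comp_obj, Functor.comp_map] at hn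
  have e1 : (DRing.restrictD φ).map (adjα.unit.app (Q.obj M)) ≫
      (TrivBC.resComm h).hom.app ((DRing.LBaseChange α).obj (Q.obj M)) ≫
        (DRing.restrictD ρ).map ((DRing.restrictD φ').map (cmpL α adjα M) ≫
          (DTen.resFactors φ').hom.app ((DTen.extCx α).obj M)) =
      (DRing.restrictD φ).map (gam α M) ≫
        (TrivBC.resComm h).hom.app (Q.obj ((DTen.extCx α).obj M)) ≫
          (DRing.restrictD ρ).map ((DTen.resFactors φ').hom.app ((DTen.extCx α).obj M)) := by
    rw [Functor.map_comp, ← Category.assoc ((TrivBC.resComm h).hom.app _), ← hn, Category.assoc,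
      ← Category.assoc ((DRing.restrictD φ).map _), ← Functor.map_comp, cmpL_fac]
  rw [e1, resComm_hom_app_Q]
  have e2 : (DRing.restrictD φ).map (gam α M) ≫
      (DRing.restrictD φ).map ((DTen.resFactors α).hom.app ((DTen.extCx α).obj M)) =
      (DRing.restrictD φ).map (Q.map ((DTen.unitCx α).app M)) := by
    rw [← Functor.map_comp]
    unfold gam
    rw [Category.assoc, Iso.inv_hom_id_app]
    exact congrArg _ (Category.comp_id _)
  have e3 : (DRing.restrictD ρ).map ((DTen.resFactors φ').inv.app ((DTen.extCx α).obj M)) ≫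
      (DRing.restrictD ρ).map ((DTen.resFactors φ').hom.app ((DTen.extCx α).obj M)) = 𝟙 _ := by
    rw [← Functor.map_comp, Iso.inv_hom_id_app]
    exact CategoryTheory.Functor.map_id _ _
  have h2 := (DTen.resFactors φ).inv.naturality ((DTen.unitCx α).app M)
  dsimp only [Functor.comp_obj, Functor.comp_map, Functor.id_obj] at h2
  simp only [Category.assoc]
  rw [e3]
  erw [Category.comp_id]
  rw [← Category.assoc ((DRing.restrictD φ).map (gam α M)), e2,
    ← Category.assoc ((DTen.resFactors φ).inv.app M), ← h2]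
  simp only [Category.assoc]
  rw [Iso.inv_hom_id_app_assoc, ← Functor.map_comp_assoc, ← Functor.map_comp_assoc]
  congr 2
  -- chain level
  have h3 := (DTen.unitCx ρ).naturality g
  dsimp only [Functor.id_obj, Functor.id_map, Functor.comp_obj, Functor.comp_map] at h3
  rw [Functor.map_comp, ← Category.assoc, ← unitCx_app, ← h3, Category.assoc]
  exact congrArg (fun t => g ≫ t) (unit_poCx h M).symm

end Square

end Groth.Agent.Lib.TrivBCH6
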