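import Mathlib
import Groth.Prelude.Def_TrivBC
import Groth.Prelude.Def_DTen4
import Groth.Agent.Lib.TrivBC2_helper6
import Groth.Agent.Lib.FlatBC5_helper6
import Groth.Agent.Lib.RestrictRightAdj_helper2

/-!
# Tor-independent base change (helper6), part 3: in a pushout square the chain level base change
map is an isomorphism; the comparison `cmp` is an isomorphism everywhere as soon as it is one at the
generators `A[-c]`.
-/

set_option autoImplicit false
universe u
open CategoryTheory CategoryTheory.Limits DerivedCategory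
open scoped TensorProduct ChangeOfRings
attribute [local instance] HasDerivedCategory.standard

namespace Groth.Agent.Lib.TrivBCH6

open Groth.Agent.Lib.DMod_helper6 Groth.Agent.Lib.DerivedAdj Groth.Agent.Lib.KFlatMod
  Groth.Agent.Lib.BaseCmp Groth.Agent.Lib.FlatBCH6 Groth.Agent.ExtendScalarsLib

section Pushout

variable {R A R' A' : Type u} [CommRing R] [CommRing A] [CommRing R'] [CommRing A']
  [Algebra R A] [Algebra R R'] [Algebra A A'] [Algebra R' A'] [Algebra R A']
  [IsScalarTower R A A'] [IsScalarTower R R' A'] [Algebra.IsPushout R R' A A']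
  (h : (algebraMap A A').comp (algebraMap R A) = (algebraMap R' A').comp (algebraMap R R'))

/-- the base change isomorphism built from `Algebra.IsPushout.cancelBaseChange` -/
noncomputable def poHom (N : ModuleCat.{u} A) :
    (ModuleCat.extendScalars.{u, u, u} (algebraMap R R')).obj
        ((ModuleCat.restrictScalars.{u} (algebraMap R A)).obj N) ⟶
      (ModuleCat.restrictScalars.{u} (algebraMap R' A')).obj
        ((ModuleCat.extendScalars.{u, u, u} (algebraMap A A')).obj N) :=
  (extendScalarsEquivTensor (S := R')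
      ((ModuleCat.restrictScalars.{u} (algebraMap R A)).obj N)).toModuleIso.hom ≫
    tauModApp R A R' A' N ≫
      (ModuleCat.restrictScalars.{u} (algebraMap R' A')).map
        (extendScalarsEquivTensor (S := A') N).toModuleIso.inv

instance isIso_poHom (N : ModuleCat.{u} A) : IsIso (poHom (R := R) (R' := R') (A' := A') N) := by
  letI : Module R N := Module.compHom N (algebraMap R A)
  haveI : IsScalarTower R A N := IsScalarTower.of_algebraMap_smul (fun _ _ => rfl)
  rw [ConcreteCategory.isIso_iff_bijective]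
  show Function.Bijective (fun x => (extendScalarsEquivTensor (S := A') N).symm
    (tauLin R A R' A' N (extendScalarsEquivTensor (S := R')
      ((ModuleCat.restrictScalars.{u} (algebraMap R A)).obj N) x)))
  exact (LinearEquiv.bijective _).comp ((tauLin R A R' A' N).bijective.comp
    (LinearEquiv.bijective _))

lemma poMod_eq_poHom (N : ModuleCat.{u} A) : poMod h N = poHom N := by
  refine ModuleCat.ExtendScalars.hom_ext (fun n => ?_)
  letI : Module R N := Module.compHom N (algebraMap R A)
  haveI : IsScalarTower R A N := IsScalarTower.of_algebraMap_smul (fun _ _ => rfl)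
  have h1 : (poMod h N).hom ((1 : R') ⊗ₜ[R,algebraMap R R'] n) =
      ((1 : A') ⊗ₜ[A,algebraMap A A'] n : (ModuleCat.extendScalars.{u, u, u} (algebraMap A A')).obj N) :=
    congrArg (fun k => k.hom n) (unit_poMod h N)
  refine h1.trans ?_
  have h2 : tauLin R A R' A' N ((1 : R') ⊗ₜ[R] n) = (1 : A') ⊗ₜ[A] n := by
    have := tauLin_tmul (P := R) (A := A) (P' := R') (A' := A') N (1 : R') n
    rw [map_one] at this
    exact this
  symm
  show (extendScalarsEquivTensor (S := A') N).symm
    (tauLin R A R' A' N (extendScalarsEquivTensor (S := R')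
      ((ModuleCat.restrictScalars.{u} (algebraMap R A)).obj N)
        ((1 : R') ⊗ₜ[R,algebraMap R R'] n))) = _
  rw [extendScalarsEquivTensor_tmul]
  erw [h2]
  rw [LinearEquiv.symm_apply_eq, extendScalarsEquivTensor_tmul]
  rfl

instance isIso_poMod (N : ModuleCat.{u} A) : IsIso (poMod h N) := by
  rw [poMod_eq_poHom]
  infer_instance

instance isIso_poCx_app (M : DRing.Cx A) : IsIso ((poCx h).app M) := by
  haveI : ∀ i, IsIso (((poCx h).app M).f i) := fun i => isIso_poMod h (M.X i)
  exact HomologicalComplex.Hom.isIso_of_components _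

end Pushout

section Crit

variable {R A R' A' : Type u} [CommRing R] [CommRing A] [CommRing R'] [CommRing A']
  {φ : R →+* A} {ρ : R →+* R'} {α : A →+* A'} {φ' : R' →+* A'}
  (h : α.comp φ = φ'.comp ρ)
  [DRing.HasLBaseChange ρ] [DRing.HasLBaseChange α]
  (adjρ : DRing.LBaseChange ρ ⊣ DRing.restrictD ρ) (adjα : DRing.LBaseChange α ⊣ DRing.restrictD α)

/-- `cmp` at `Q M` is an isomorphism iff base change of a K-flat resolution of `M|_R` composed with
the chain level base change map is a quasi-isomorphism. -/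
theorem isIso_cmp_iff (M : DRing.Cx A) (hM : KF A M) (N : DRing.Cx R) (hN : KF R N)
    (ν : N ⟶ (DTen.resCx φ).obj M) [QuasiIso ν] :
    IsIso (TrivBC.cmp adjρ adjα h (Q.obj M)) ↔
      QuasiIso ((DTen.extCx ρ).map ν ≫ (poCx h).app M) := by
  have hf := cmp_formula h adjρ adjα M N ν
  haveI : IsIso (Q.map ν) := (DerivedCategory.isIso_Q_map_iff_quasiIso _ _).2 inferInstance
  haveI := isIso_cmpL_of_kf α adjα M hM
  haveI := isIso_cmpL_of_kf ρ adjρ N hN
  haveI : IsIso ((DRing.LBaseChange ρ).map (Q.map ν ≫ (DTen.resFactors φ).inv.app M)) :=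
    inferInstance
  rw [← DerivedCategory.isIso_Q_map_iff_quasiIso]
  constructor
  · intro hc
    haveI := hc
    have : Q.map ((DTen.extCx ρ).map ν ≫ (poCx h).app M) = inv (cmpL ρ adjρ N) ≫
        ((DRing.LBaseChange ρ).map (Q.map ν ≫ (DTen.resFactors φ).inv.app M) ≫
          TrivBC.cmp adjρ adjα h (Q.obj M) ≫
            (DRing.restrictD φ').map (cmpL α adjα M) ≫
              (DTen.resFactors φ').hom.app ((DTen.extCx α).obj M)) := by
      rw [hf, IsIso.inv_hom_id_assoc]
    rw [this]
    infer_instance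
  · intro hq
    haveI := hq
    have : TrivBC.cmp adjρ adjα h (Q.obj M) =
        inv ((DRing.LBaseChange ρ).map (Q.map ν ≫ (DTen.resFactors φ).inv.app M)) ≫
          (cmpL ρ adjρ N ≫ Q.map ((DTen.extCx ρ).map ν ≫ (poCx h).app M)) ≫
            inv ((DRing.restrictD φ').map (cmpL α adjα M) ≫
              (DTen.resFactors φ').hom.app ((DTen.extCx α).obj M)) := by
      rw [← hf]
      simp only [Category.assoc, IsIso.hom_inv_id, Category.comp_id, IsIso.inv_hom_id_assoc]
    rw [this]
    infer_instance

end Crit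

section Mate

variable {R A R' A' : Type u} [CommRing R] [CommRing A] [CommRing R'] [CommRing A']
  {φ : R →+* A} {ρ : R →+* R'} {α : A →+* A'} {φ' : R' →+* A'}
  (h : α.comp φ = φ'.comp ρ)
  [DRing.HasLBaseChange ρ] [DRing.HasLBaseChange α]
  (adjρ : DRing.LBaseChange ρ ⊣ DRing.restrictD ρ) (adjα : DRing.LBaseChange α ⊣ DRing.restrictD α)
  {Rφ : Dual.D R ⥤ Dual.D A} (adj : DRing.restrictD φ ⊣ Rφ)
  {Rφ' : Dual.D R' ⥤ Dual.D A'} (adj' : DRing.restrictD φ' ⊣ Rφ')

/-- the mate `(RHom(A', Y))|_A ⟶ RHom(A, Y|_R)` of the commutation of restrictions -/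
noncomputable def tauMate (Y : Dual.D R') :
    (DRing.restrictD α).obj (Rφ'.obj Y) ⟶ Rφ.obj ((DRing.restrictD ρ).obj Y) :=
  adj.homEquiv _ _ ((TrivBC.resComm h).hom.app (Rφ'.obj Y) ≫
    (DRing.restrictD ρ).map (adj'.counit.app Y))

lemma mate_key (V : Dual.D A) (Y : Dual.D R')
    (f : V ⟶ (DRing.restrictD α).obj (Rφ'.obj Y)) :
    adj.homEquiv _ _ (adjρ.homEquiv _ _ (TrivBC.cmp adjρ adjα h V ≫
      (adj'.homEquiv _ _).symm ((adjα.homEquiv _ _).symm f))) = f ≫ tauMate h adj adj' Y := by
  rw [homEquiv_cmp_comp, Adjunction.homEquiv_counit, Functor.map_comp]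
  have hn := (TrivBC.resComm h).hom.naturality ((adjα.homEquiv V (Rφ'.obj Y)).symm f)
  dsimp only [Functor.comp_obj, Functor.comp_map] at hn
  have hu : adjα.unit.app V ≫ (DRing.restrictD α).map ((adjα.homEquiv V (Rφ'.obj Y)).symm f) = f :=
    (Adjunction.homEquiv_unit adjα _ _ _).symm.trans (Equiv.apply_symm_apply _ _)
  have e1 : (DRing.restrictD φ).map (adjα.unit.app V) ≫
      (TrivBC.resComm h).hom.app ((DRing.LBaseChange α).obj V) ≫
        (DRing.restrictD ρ).map ((DRing.restrictD φ').map ((adjα.homEquiv V (Rφ'.obj Y)).symm f)) ≫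
          (DRing.restrictD ρ).map (adj'.counit.app Y) =
      (DRing.restrictD φ).map f ≫ (TrivBC.resComm h).hom.app (Rφ'.obj Y) ≫
        (DRing.restrictD ρ).map (adj'.counit.app Y) := by
    rw [← Category.assoc ((TrivBC.resComm h).hom.app _), ← hn, Category.assoc,
      ← Functor.map_comp_assoc, hu]
  rw [e1, Adjunction.homEquiv_naturality_left]
  rfl

include adj adj' in
/-- **if `cmp` is an isomorphism at the generators `A[-c]`, it is an isomorphism everywhere** -/
theorem isIso_cmp_of_generators
    (hgen : ∀ c : ℤ, IsIso (TrivBC.cmp adjρ adjα h (DRing.toD (Sx A c)))) (V : Dual.D A) :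
    IsIso (TrivBC.cmp adjρ adjα h V) := by
  have hτ : ∀ Y : Dual.D R', IsIso (tauMate h adj adj' Y) := by
    intro Y
    apply isIso_of_bijective_comp
    intro c
    haveI := hgen c
    have hbij : Function.Bijective (fun a : DRing.toD (Sx A c) ⟶ (DRing.restrictD α).obj (Rφ'.obj Y) =>
        adj.homEquiv _ _ (adjρ.homEquiv _ _ (TrivBC.cmp adjρ adjα h (DRing.toD (Sx A c)) ≫
          (adj'.homEquiv _ _).symm ((adjα.homEquiv _ _).symm a)))) := by
      refine (adj.homEquiv _ _).bijective.comp ((adjρ.homEquiv _ _).bijective.comp ?_)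
      refine Function.Bijective.comp (g := fun g => TrivBC.cmp adjρ adjα h (DRing.toD (Sx A c)) ≫ g)
        ?_ ((adj'.homEquiv _ _).symm.bijective.comp (adjα.homEquiv _ _).symm.bijective)
      constructor
      · intro g g' hgg
        exact (cancel_epi _).1 hgg
      · intro k
        exact ⟨inv (TrivBC.cmp adjρ adjα h (DRing.toD (Sx A c))) ≫ k, IsIso.hom_inv_id_assoc _ _⟩
    have heq : (fun a : DRing.toD (Sx A c) ⟶ (DRing.restrictD α).obj (Rφ'.obj Y) =>
        a ≫ tauMate h adj adj' Y) = (fun a =>
        adj.homEquiv _ _ (adjρ.homEquiv _ _ (TrivBC.cmp adjρ adjα h (DRing.toD (Sx A c)) ≫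
          (adj'.homEquiv _ _).symm ((adjα.homEquiv _ _).symm a)))) :=
      funext fun a => (mate_key h adjρ adjα adj adj' _ Y a).symm
    rw [heq]
    exact hbij
  apply isIso_of_coyoneda_map_bijective
  intro T
  haveI := hτ T
  have hbij : Function.Bijective (fun g : (DRing.restrictD φ').obj ((DRing.LBaseChange α).obj V) ⟶ T =>
      (adjρ.homEquiv _ _).symm ((adj.homEquiv _ _).symm
        (adjα.homEquiv _ _ (adj'.homEquiv _ _ g) ≫ tauMate h adj adj' T))) := by
    refine (adjρ.homEquiv _ _).symm.bijective.comp ((adj.homEquiv _ _).symm.bijective.comp ?_)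
    refine Function.Bijective.comp (g := fun f => f ≫ tauMate h adj adj' T) ?_
      ((adjα.homEquiv _ _).bijective.comp (adj'.homEquiv _ _).bijective)
    constructor
    · intro f f' hff
      exact (cancel_mono _).1 hff
    · intro k
      exact ⟨k ≫ inv (tauMate h adj adj' T), by simp⟩
  have heq : (fun g : (DRing.restrictD φ').obj ((DRing.LBaseChange α).obj V) ⟶ T =>
      TrivBC.cmp adjρ adjα h V ≫ g) = (fun g =>
      (adjρ.homEquiv _ _).symm ((adj.homEquiv _ _).symm
        (adjα.homEquiv _ _ (adj'.homEquiv _ _ g) ≫ tauMate h adj adj' T))) := by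
    funext g
    have := mate_key h adjρ adjα adj adj' V T (adjα.homEquiv _ _ (adj'.homEquiv _ _ g))
    rw [Equiv.symm_apply_apply, Equiv.symm_apply_apply] at this
    rw [← this, Equiv.symm_apply_apply, Equiv.symm_apply_apply]
  rw [heq]
  exact hbij

end Mate

end Groth.Agent.Lib.TrivBCH6
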