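import Mathlib
import Groth.Prelude.Def_TrivBC
import Groth.Prelude.Def_DTen4
import Groth.Agent.Lib.TrivBC3_helper6

/-!
# Tor-independent base change (helper6), part 4: chain level tor independence implies that the
comparison `cmp` is an isomorphism (pushout squares).
-/

set_option autoImplicit false
universe u
open CategoryTheory CategoryTheory.Limits DerivedCategory
open scoped TensorProduct
attribute [local instance] HasDerivedCategory.standard

namespace Groth.Agent.Lib.TrivBCH6

open Groth.Agent.Lib.DMod_helper6 Groth.Agent.Lib.DerivedAdj Groth.Agent.Lib.KFlatMod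
  Groth.Agent.Lib.BaseCmp Groth.Agent.Lib.FlatBCH6

section TI

variable {R A R' : Type u} [CommRing R] [CommRing A] [CommRing R']

/-- chain level tor independence of `φ : R → A` and `ρ : R → R'`: some bounded above flat resolution
of `A` over `R` remains a resolution after base change along `ρ`. -/
def TorIndepCx (φ : R →+* A) (ρ : R →+* R') : Prop :=
  ∃ (N : DRing.Cx R) (b : ℤ) (ν : N ⟶ (DTen.resCx φ).obj (Sx A 0)),
    DRing.VanishesAbove N b ∧ (∀ i, Module.Flat R (N.X i)) ∧ QuasiIso ν ∧
      QuasiIso ((DTen.extCx ρ).map ν)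

/-- `(A[0])[-c] ≅ A[-c]` after restriction of scalars -/
noncomputable def resSingleShiftIso (φ : R →+* A) (c : ℤ) :
    ((DTen.resCx φ).obj (Sx A 0))⟦-c⟧ ≅ (DTen.resCx φ).obj (Sx A c) :=
  ((DTen.resCx φ).commShiftIso (-c)).symm.app (Sx A 0) ≪≫
    (DTen.resCx φ).mapIso (((CochainComplex.singleFunctors (ModuleCat.{u} A)).shiftIso (-c) c 0
      (by omega)).app (ModuleCat.of A A))

lemma TorIndepCx.shift {φ : R →+* A} {ρ : R →+* R'} (hTI : TorIndepCx φ ρ) (c : ℤ) :
    ∃ (N : DRing.Cx R) (ν : N ⟶ (DTen.resCx φ).obj (Sx A c)),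
      KF R N ∧ QuasiIso ν ∧ QuasiIso ((DTen.extCx ρ).map ν) := by
  obtain ⟨N, b, ν, hb, hflat, hν, hEν⟩ := hTI
  haveI := hν
  haveI := hEν
  refine ⟨N⟦-c⟧, ν⟦-c⟧' ≫ (resSingleShiftIso φ c).hom, ?_, ?_, ?_⟩
  · exact kf_of_vanishesAbove _ (b + c) (fun i hi => hb (i + -c) (by omega)) (fun i => hflat (i + -c))
  · haveI : QuasiIso (ν⟦-c⟧') := (CochainComplex.quasiIso_shift_iff ν (-c)).2 inferInstance
    infer_instance
  · rw [Functor.map_comp]
    have hnat := ((DTen.extCx ρ).commShiftIso (-c)).hom.naturality ν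
    dsimp only [Functor.comp_obj, Functor.comp_map] at hnat
    haveI : QuasiIso (((DTen.extCx ρ).map ν)⟦-c⟧') :=
      (CochainComplex.quasiIso_shift_iff _ (-c)).2 inferInstance
    have h1 : (DTen.extCx ρ).map (ν⟦-c⟧') =
        ((DTen.extCx ρ).commShiftIso (-c)).hom.app N ≫ ((DTen.extCx ρ).map ν)⟦-c⟧' ≫
          ((DTen.extCx ρ).commShiftIso (-c)).inv.app _ := by
      rw [← Category.assoc, ← hnat, Category.assoc, Iso.hom_inv_id_app]
      exact (Category.comp_id _).symm
    haveI : QuasiIso ((DTen.extCx ρ).map (ν⟦-c⟧')) := by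
      rw [h1]
      infer_instance
    infer_instance

end TI

section Main

variable {R A R' A' : Type u} [CommRing R] [CommRing A] [CommRing R'] [CommRing A']
  [Algebra R A] [Algebra R R'] [Algebra A A'] [Algebra R' A'] [Algebra R A']
  [IsScalarTower R A A'] [IsScalarTower R R' A'] [Algebra.IsPushout R R' A A']
  (h : (algebraMap A A').comp (algebraMap R A) = (algebraMap R' A').comp (algebraMap R R'))
  [DRing.HasLBaseChange (algebraMap R R')] [DRing.HasLBaseChange (algebraMap A A')]
  (adjρ : DRing.LBaseChange (algebraMap R R') ⊣ DRing.restrictD (algebraMap R R'))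
  (adjα : DRing.LBaseChange (algebraMap A A') ⊣ DRing.restrictD (algebraMap A A'))

lemma kf_Sx (c : ℤ) : KF A (Sx A c) := by
  refine kf_of_vanishesAbove _ c
    (fun j hj => HomologicalComplex.isZero_single_obj_X _ c _ j (by omega)) (fun j => ?_)
  by_cases hj : j = c
  · subst hj
    exact Module.Flat.of_linearEquiv
      (HomologicalComplex.singleObjXSelf (ComplexShape.up ℤ) j (ModuleCat.of A A)).toLinearEquiv
  · exact flat_of_isZero _ (HomologicalComplex.isZero_single_obj_X (ComplexShape.up ℤ) c _ j hj)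

/-- **tor independent base change**: in a pushout square of rings with `A` and `R'` (chain level)
tor independent over `R`, the comparison `(K|_R) ⊗^L_R R' ⟶ (K ⊗^L_A A')|_{R'}` is an isomorphism. -/
theorem isIso_cmp_of_torIndepCx (hTI : TorIndepCx (algebraMap R A) (algebraMap R R'))
    (V : Dual.D A) : IsIso (TrivBC.cmp adjρ adjα h V) := by
  obtain ⟨Rφ, ⟨adj⟩⟩ := Groth.Agent.Lib.RestrictRightAdj.exists_rightAdjoint_restrictD
    (algebraMap R A)
  obtain ⟨Rφ', ⟨adj'⟩⟩ := Groth.Agent.Lib.RestrictRightAdj.exists_rightAdjoint_restrictD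
    (algebraMap R' A')
  refine isIso_cmp_of_generators h adjρ adjα adj adj' (fun c => ?_) V
  obtain ⟨N, ν, hN, hν, hEν⟩ := hTI.shift c
  haveI := hν
  haveI := hEν
  exact (isIso_cmp_iff h adjρ adjα (Sx A c) (kf_Sx c) N hN ν).2 inferInstance

end Main

end Groth.Agent.Lib.TrivBCH6
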