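import Mathlib
import Groth.Prelude.Def_TrivBC
import Groth.Prelude.Def_DTen4
import Groth.Agent.Lib.TrivBC4_helper6
import Groth.Agent.Lib.DMod50_helper6

/-!
# Tor-independent base change (helper6), part 5: vanishing of `Tor_p^R(A, R')`, `p ≥ 1`, gives chain
level tor independence; proof of the base change theorem for `TrivBC.cmp`.
-/

set_option autoImplicit false
universe u
open CategoryTheory CategoryTheory.Limits DerivedCategory
open scoped TensorProduct
attribute [local instance] HasDerivedCategory.standard

namespace Groth.Agent.Lib.TrivBCH6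

open Groth.Agent.Lib.DMod_helper6 Groth.Agent.Lib.DerivedAdj Groth.Agent.Lib.KFlatMod
  Groth.Agent.Lib.BaseCmp Groth.Agent.Lib.FlatBCH6

section RightExact

variable {R R' : Type u} [CommRing R] [CommRing R'] [Algebra R R']

/-- right exactness: a resolution concentrated in degrees `≤ 0` remains a resolution after extension
of scalars as soon as it remains exact in negative degrees. -/
theorem quasiIso_ext_of_exactAt_neg (K : DRing.Cx R) (X : ModuleCat.{u} R)
    (f : K ⟶ (HomologicalComplex.single (ModuleCat.{u} R) (ComplexShape.up ℤ) 0).obj X)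
    [QuasiIso f] (hK : ∀ i : ℤ, 0 < i → IsZero (K.X i))
    (hex : ∀ i : ℤ, i < 0 → ((DTen.extCx (algebraMap R R')).obj K).ExactAt i) :
    QuasiIso ((DTen.extCx (algebraMap R R')).map f) := by
  rw [quasiIso_iff]
  intro i
  by_cases hi : i = 0
  · subst hi
    let ES := ModuleCat.extendScalars.{u, u, u} (algebraMap R R')
    haveI : PreservesColimitsOfSize.{0, 0} ES := (adj0 (algebraMap R R')).leftAdjoint_preservesColimits
    have h0 : QuasiIsoAt f 0 := inferInstance
    rw [quasiIsoAt_iff' f (-1) 0 1 (by simp) (by simp),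
      ShortComplex.quasiIso_iff_of_zeros' _ ((hK 1 one_pos).eq_of_tgt _ _)
        ((HomologicalComplex.isZero_single_obj_X (ComplexShape.up ℤ) 0 X (-1) (by omega)).eq_of_src _ _)
        ((HomologicalComplex.isZero_single_obj_X (ComplexShape.up ℤ) 0 X 1 (by omega)).eq_of_tgt _ _)] at h0
    obtain ⟨hS, hepi⟩ := h0
    rw [quasiIsoAt_iff' _ (-1) 0 1 (by simp) (by simp),
      ShortComplex.quasiIso_iff_of_zeros' _
        ((Functor.map_isZero ES (hK 1 one_pos)).eq_of_tgt _ _)
        ((Functor.map_isZero ES (HomologicalComplex.isZero_single_obj_X (ComplexShape.up ℤ) 0 X (-1)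
          (by omega))).eq_of_src _ _)
        ((Functor.map_isZero ES (HomologicalComplex.isZero_single_obj_X (ComplexShape.up ℤ) 0 X 1
          (by omega))).eq_of_tgt _ _)]
    refine ⟨?_, ?_⟩
    · exact hS.map_of_epi_of_preservesCokernel ES hepi inferInstance
    · haveI hepi' : Epi (f.f 0) := hepi
      haveI : ES.PreservesEpimorphisms :=
        Functor.preservesEpimorphisms_of_adjunction (adj0 (algebraMap R R'))
      exact (inferInstance : Epi (ES.map (f.f 0)))
  · have hL : ((DTen.extCx (algebraMap R R')).obj
        ((HomologicalComplex.single (ModuleCat.{u} R) (ComplexShape.up ℤ) 0).obj X)).ExactAt i :=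
      exactAt_of_isZero_X _ i (Functor.map_isZero (ModuleCat.extendScalars.{u, u, u} (algebraMap R R'))
        (HomologicalComplex.isZero_single_obj_X (ComplexShape.up ℤ) 0 X i hi))
    rw [quasiIsoAt_iff_exactAt' _ i hL]
    rcases lt_or_gt_of_ne hi with h | h
    · exact hex i h
    · exact exactAt_of_isZero_X _ i
        (Functor.map_isZero (ModuleCat.extendScalars.{u, u, u} (algebraMap R R')) (hK i h))

end RightExact

section Tor

variable (R A R' : Type u) [CommRing R] [CommRing A] [CommRing R'] [Algebra R A] [Algebra R R']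

/-- `A` as an `R`-module is the restriction of scalars of `A` as an `A`-module -/
noncomputable def ofIsoRes :
    ModuleCat.of R A ≅ (ModuleCat.restrictScalars.{u} (algebraMap R A)).obj (ModuleCat.of A A) where
  hom := ModuleCat.ofHom (X := ModuleCat.of R A)
    (Y := (ModuleCat.restrictScalars.{u} (algebraMap R A)).obj (ModuleCat.of A A))
    { toFun := fun a => a
      map_add' := fun _ _ => rfl
      map_smul' := fun r a => Algebra.smul_def r (a : A) }
  inv := ModuleCat.ofHom (Y := ModuleCat.of R A)
    (X := (ModuleCat.restrictScalars.{u} (algebraMap R A)).obj (ModuleCat.of A A))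
    { toFun := fun a => (a : A)
      map_add' := fun _ _ => rfl
      map_smul' := fun r a => (Algebra.smul_def r (show A from a)).symm }
  hom_inv_id := rfl
  inv_hom_id := rfl

/-- `A[0]` over `R` is the restriction of scalars of `A[0]` over `A` -/
noncomputable def singleResIso :
    (HomologicalComplex.single (ModuleCat.{u} R) (ComplexShape.up ℤ) 0).obj (ModuleCat.of R A) ≅
      (DTen.resCx (algebraMap R A)).obj (Sx A 0) :=
  (HomologicalComplex.single (ModuleCat.{u} R) (ComplexShape.up ℤ) 0).mapIso (ofIsoRes R A) ≪≫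
    ((HomologicalComplex.singleMapHomologicalComplex
      (ModuleCat.restrictScalars.{u} (algebraMap R A)) (ComplexShape.up ℤ) 0).app
        (ModuleCat.of A A)).symm

/-- **vanishing of higher `Tor` gives chain level tor independence** -/
theorem torIndepCx_of_tor (htor : ∀ p : ℕ, 1 ≤ p → Subsingleton (DRing.Tor R p A R')) :
    TorIndepCx (algebraMap R A) (algebraMap R R') := by
  let P := ProjectiveResolution.of (ModuleCat.of R A)
  let N : DRing.Cx R := P.cochainComplex
  have hb : DRing.VanishesAbove N 0 := fun i hi => CochainComplex.isZero_of_isStrictlyLE N 0 i hi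
  have hflat : ∀ i, Module.Flat R (N.X i) := fun i => by
    haveI : Module.Projective R (N.X i) :=
      (IsProjective.iff_projective (N.X i)).2 (inferInstance : Projective (P.cochainComplex.X i))
    exact Module.Flat.of_projective
  let π₀ : N ⟶ (HomologicalComplex.single (ModuleCat.{u} R) (ComplexShape.up ℤ) 0).obj
    (ModuleCat.of R A) := P.π'
  haveI : QuasiIso π₀ := inferInstanceAs (QuasiIso P.π')
  have hex : ∀ i : ℤ, i < 0 → ((DTen.extCx (algebraMap R R')).obj N).ExactAt i := by
    intro i hi
    obtain ⟨p, rfl⟩ : ∃ p : ℕ, i = -((p : ℤ) + 1) := ⟨(-i - 1).toNat, by omega⟩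
    haveI := htor (p + 1) (by omega)
    have hTN := (subsingleton_tor_succ_iff (A := R) A R' p).1 inferInstance
    have hT := function_exact_of_exactAt _ (-((p : ℤ) + 1) - 1) (-((p : ℤ) + 1))
      (-((p : ℤ) + 1) + 1) (by ring) rfl hTN
    exact exactAt_of_function_exact _ (-((p : ℤ) + 1) - 1) (-((p : ℤ) + 1))
      (-((p : ℤ) + 1) + 1) (by ring) rfl (exact_ES_map _ _ hT)
  haveI := quasiIso_ext_of_exactAt_neg (R' := R') N (ModuleCat.of R A) π₀ (fun i hi => hb i hi) hex
  refine ⟨N, 0, π₀ ≫ (singleResIso R A).hom, hb, hflat, inferInstance, ?_⟩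
  rw [Functor.map_comp]
  infer_instance

end Tor

section Main

variable (R A R' A' : Type u) [CommRing R] [CommRing A] [CommRing R'] [CommRing A']
  [Algebra R A] [Algebra R R'] [Algebra A A'] [Algebra R' A'] [Algebra R A']
  [IsScalarTower R A A'] [IsScalarTower R R' A'] [Algebra.IsPushout R A R' A']

/-- S13563 -/
theorem main13563 (htor : ∀ p : ℕ, 1 ≤ p → Subsingleton (DRing.Tor R p A R'))
    [DRing.HasLBaseChange (algebraMap R R')] [DRing.HasLBaseChange (algebraMap A A')]
    (adjρ : DRing.LBaseChange (algebraMap R R') ⊣ DRing.restrictD (algebraMap R R'))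
    (adjα : DRing.LBaseChange (algebraMap A A') ⊣ DRing.restrictD (algebraMap A A'))
    (h : (algebraMap A A').comp (algebraMap R A) = (algebraMap R' A').comp (algebraMap R R'))
    (K : Dual.D A) : IsIso (TrivBC.cmp adjρ adjα h K) := by
  haveI : Algebra.IsPushout R R' A A' := Algebra.IsPushout.symm inferInstance
  exact isIso_cmp_of_torIndepCx h adjρ adjα (torIndepCx_of_tor R A R' htor) K

end Main

end Groth.Agent.Lib.TrivBCH6
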