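import Mathlib
import Groth.Prelude.Def_TrivBC
import Groth.Prelude.Def_DTen4
import Groth.Prelude.Def_DRing4
import Groth.Agent.Lib.TrivBC5_helper6
import Groth.Agent.Lib.RHomK_helper2

/-!
# Tor-independent base change (helper6), part 6: the curried action map
`M|_R ⟶ Hom•(E, M|_R)`, `m ↦ (e ↦ π(e) • m)`, for a complex `E` of `R`-modules over `A[0]`.
-/

set_option autoImplicit false
universe u
open CategoryTheory CategoryTheory.Limits DerivedCategory
open CochainComplex CochainComplex.HomComplex
open scoped TensorProduct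
attribute [local instance] HasDerivedCategory.standard

namespace Groth.Agent.Lib.TrivBCH6

open Groth.Agent.Lib.DMod_helper6 Groth.Agent.Lib.DerivedAdj Groth.Agent.Lib.KFlatMod
  Groth.Agent.Lib.BaseCmp Groth.Agent.Lib.FlatBCH6 Groth.Agent.Lib.HomCx

section Act

variable {R A : Type u} [CommRing R] [CommRing A] [Algebra R A]

/-- `a ↦ a • m` as an `R`-linear map `A ⟶ N|_R` -/
noncomputable def smulHom (N : ModuleCat.{u} A) (m : N) :
    ModuleCat.of R A ⟶ (ModuleCat.restrictScalars.{u} (algebraMap R A)).obj N :=
  ModuleCat.ofHom (X := ModuleCat.of R A)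
    (Y := (ModuleCat.restrictScalars.{u} (algebraMap R A)).obj N)
    { toFun := fun a => (a • m : N)
      map_add' := fun a b => add_smul a b m
      map_smul' := fun r a => by
        show (r • a) • m = algebraMap R A r • (a • m)
        rw [Algebra.smul_def, mul_smul] }

lemma smulHom_apply (N : ModuleCat.{u} A) (m : N) (a : A) :
    (smulHom (R := R) N m).hom a = (a • m : N) := rfl

lemma smulHom_add (N : ModuleCat.{u} A) (m m' : N) :
    smulHom (R := R) N (m + m') = smulHom N m + smulHom N m' := by
  ext a
  exact smul_add a m m'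

lemma smulHom_smul (N : ModuleCat.{u} A) (r : R) (m : N) :
    smulHom (R := R) N (algebraMap R A r • m) = r • smulHom N m := by
  ext a
  show a • (algebraMap R A r • m) = algebraMap R A r • (a • m)
  rw [smul_smul, smul_smul, mul_comm]

lemma smulHom_comp {N N' : ModuleCat.{u} A} (g : N ⟶ N') (m : N) :
    smulHom (R := R) N m ≫ (ModuleCat.restrictScalars.{u} (algebraMap R A)).map g =
      smulHom N' (g.hom m) := by
  ext a
  exact map_smul g.hom a m

/-- `a ↦ a • m` for `m` in a term of a complex -/
noncomputable def smulHomX (M : DRing.Cx A) (n : ℤ)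
    (m : ((DTen.resCx (algebraMap R A)).obj M).X n) :
    ModuleCat.of R A ⟶ ((DTen.resCx (algebraMap R A)).obj M).X n :=
  smulHom (M.X n) m

lemma smulHomX_add (M : DRing.Cx A) (n : ℤ) (m m' : ((DTen.resCx (algebraMap R A)).obj M).X n) :
    smulHomX M n (m + m') = smulHomX M n m + smulHomX M n m' :=
  smulHom_add (M.X n) m m'

lemma smulHomX_smul (M : DRing.Cx A) (n : ℤ) (r : R)
    (m : ((DTen.resCx (algebraMap R A)).obj M).X n) :
    smulHomX M n (r • m) = r • smulHomX M n m :=
  smulHom_smul (M.X n) r m

lemma smulHomX_d (M : DRing.Cx A) (n n' : ℤ) (m : ((DTen.resCx (algebraMap R A)).obj M).X n) :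
    smulHomX M n m ≫ ((DTen.resCx (algebraMap R A)).obj M).d n n' =
      smulHomX M n' ((((DTen.resCx (algebraMap R A)).obj M).d n n').hom m) :=
  smulHom_comp (M.d n n') m

lemma smulHomX_map {M M' : DRing.Cx A} (g : M ⟶ M') (n : ℤ)
    (m : ((DTen.resCx (algebraMap R A)).obj M).X n) :
    smulHomX M n m ≫ ((DTen.resCx (algebraMap R A)).map g).f n =
      smulHomX M' n ((((DTen.resCx (algebraMap R A)).map g).f n).hom m) :=
  smulHom_comp (g.f n) m

variable (E : DRing.Cx R)
  (π : E ⟶ (CochainComplex.singleFunctor (ModuleCat.{u} R) 0).obj (ModuleCat.of R A))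

/-- the cochain `e ↦ π(e) • m` -/
noncomputable def actCochain (M : DRing.Cx A) (n : ℤ)
    (m : ((DTen.resCx (algebraMap R A)).obj M).X n) :
    Cochain E ((DTen.resCx (algebraMap R A)).obj M) n :=
  (Cochain.ofHom π).comp
    (Cochain.fromSingleMk (X := ModuleCat.of R A) (K := (DTen.resCx (algebraMap R A)).obj M)
      (p := 0) (q := n) (smulHomX M n m) (zero_add n)) (zero_add n)

lemma fromSingleMk_smul {X : ModuleCat.{u} R} {K : DRing.Cx R} {p q : ℤ} (r : R) (f : X ⟶ K.X q)
    {n : ℤ} (h : p + n = q) :
    Cochain.fromSingleMk (r • f) h = r • Cochain.fromSingleMk f h := by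
  apply (Cochain.fromSingleEquiv h).injective
  simp [Cochain.fromSingleEquiv]
  erw [Linear.comp_smul, Iso.inv_hom_id_assoc]

/-- the action map in degree `n` -/
noncomputable def actLin (M : DRing.Cx A) (n : ℤ) :
    ((DTen.resCx (algebraMap R A)).obj M).X n →ₗ[R]
      Cochain E ((DTen.resCx (algebraMap R A)).obj M) n where
  toFun m := actCochain E π M n m
  map_add' m m' := by
    unfold actCochain
    rw [smulHomX_add, Cochain.fromSingleMk_add, Cochain.comp_add]
  map_smul' r m := by
    unfold actCochain
    rw [smulHomX_smul, fromSingleMk_smul, Cochain.comp_smul]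
    rfl

/-- the curried action `M|_R ⟶ Hom•(E, M|_R)` -/
noncomputable def actHatApp (M : DRing.Cx A) :
    (DTen.resCx (algebraMap R A)).obj M ⟶ DRing.homCx E ((DTen.resCx (algebraMap R A)).obj M) where
  f n := ModuleCat.ofHom (X := ((DTen.resCx (algebraMap R A)).obj M).X n)
    (Y := Cochain E ((DTen.resCx (algebraMap R A)).obj M) n) (actLin E π M n)
  comm' n n' _ := by
    refine ModuleCat.hom_ext (LinearMap.ext fun (m : ((DTen.resCx (algebraMap R A)).obj M).X n) => ?_)
    symm
    change actCochain E π M n' ((((DTen.resCx (algebraMap R A)).obj M).d n n').hom m) =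
      δ n n' (actCochain E π M n m)
    unfold actCochain
    rw [δ_ofHom_comp, Cochain.δ_fromSingleMk _ _ n' n' (zero_add n'), smulHomX_d]

/-- the curried action as a natural transformation -/
noncomputable def actHat :
    DTen.resCx (algebraMap R A) ⟶ DTen.resCx (algebraMap R A) ⋙ DRing.homCxFunctor E where
  app M := actHatApp E π M
  naturality M M' g := by
    apply HomologicalComplex.hom_ext
    intro n
    ext m
    change actCochain E π M' n ((((DTen.resCx (algebraMap R A)).map g).f n).hom m) =
      (actCochain E π M n m).comp (Cochain.ofHom ((DTen.resCx (algebraMap R A)).map g)) (add_zero n)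
    unfold actCochain
    rw [Cochain.comp_assoc_of_first_is_zero_cochain, ← Cochain.fromSingleMk_postcomp, smulHomX_map]

end Act

end Groth.Agent.Lib.TrivBCH6
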