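import Mathlib
import Groth.Prelude.Def_TrivBC
import Groth.Prelude.Def_DTen4
import Groth.Prelude.Def_DRing4
import Groth.Agent.Lib.TrivBC6_helper6
import Groth.Agent.Lib.DMod107_helper6
import Groth.Agent.Lib.HomCxPreQis_helper2
import Groth.Agent.Lib.RHomKInj_helper2

/-!
# Tor-independent base change (helper6), part 7: the derived action map
`actHatD : (-)|_R ⟶ RHom(E, (-)|_R)` and the identification `RHom_R(A, Y)|_R ≅ RHom(E, Y)`
for a K-projective resolution `E ⟶ A[0]` over `R`.
-/

set_option autoImplicit false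
universe u
open CategoryTheory CategoryTheory.Limits DerivedCategory
open CochainComplex CochainComplex.HomComplex
open scoped TensorProduct
attribute [local instance] HasDerivedCategory.standard

namespace Groth.Agent.Lib.TrivBCH6

open Groth.Agent.Lib.DMod_helper6 Groth.Agent.Lib.DerivedAdj Groth.Agent.Lib.KFlatMod
  Groth.Agent.Lib.BaseCmp Groth.Agent.Lib.FlatBCH6 Groth.Agent.Lib.HomCx Groth.Agent.Lib.RHomK

section Reflect

variable {R A : Type u} [CommRing R] [CommRing A] (φ : R →+* A)

/-- restriction of scalars on derived categories reflects isomorphisms -/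
theorem isIso_of_isIso_restrictD {X Y : Dual.D A} (f : X ⟶ Y)
    (hf : IsIso ((DRing.restrictD φ).map f)) : IsIso f := by
  have key : ∀ {X₀ Y₀ : DRing.Cx A} (g : Q.obj X₀ ⟶ Q.obj Y₀),
      IsIso ((DRing.restrictD φ).map g) → IsIso g := by
    intro X₀ Y₀ g hg
    obtain ⟨X', s, hs, g₀, rfl⟩ := DerivedCategory.right_fac g
    haveI := hs
    haveI := hg
    rw [Functor.map_comp] at hg
    haveI : IsIso ((DRing.restrictD φ).map (Q.map g₀)) := by
      have : (DRing.restrictD φ).map (Q.map g₀) = (DRing.restrictD φ).map (Q.map s) ≫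
          ((DRing.restrictD φ).map (inv (Q.map s)) ≫ (DRing.restrictD φ).map (Q.map g₀)) := by
        rw [← Category.assoc, ← Functor.map_comp, IsIso.hom_inv_id, CategoryTheory.Functor.map_id,
          Category.id_comp]
      rw [this]
      infer_instance
    have h1 := (DTen.resFactors φ).hom.naturality g₀
    dsimp only [Functor.comp_obj, Functor.comp_map] at h1
    haveI : IsIso (Q.map ((DTen.resCx φ).map g₀)) := by
      have : Q.map ((DTen.resCx φ).map g₀) = (DTen.resFactors φ).inv.app X' ≫
          (DRing.restrictD φ).map (Q.map g₀) ≫ (DTen.resFactors φ).hom.app Y₀ := by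
        rw [h1, Iso.inv_hom_id_app_assoc]
      rw [this]
      infer_instance
    have h2 : QuasiIso ((DTen.resCx φ).map g₀) :=
      (isIso_Q_map_iff_quasiIso (C := ModuleCat.{u} R) _).1 inferInstance
    have h3 : QuasiIso g₀ :=
      (HomologicalComplex.quasiIso_map_iff_of_preservesHomology g₀
        (ModuleCat.restrictScalars.{u} φ)).1 h2
    haveI : IsIso (Q.map g₀) := (isIso_Q_map_iff_quasiIso (C := ModuleCat.{u} A) _).2 h3
    infer_instance
  let eX := Q.objObjPreimageIso X
  let eY := Q.objObjPreimageIso Y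
  have h0 : IsIso (eX.hom ≫ f ≫ eY.inv) := by
    apply key
    haveI := hf
    rw [Functor.map_comp, Functor.map_comp]
    infer_instance
  have : f = eX.inv ≫ (eX.hom ≫ f ≫ eY.inv) ≫ eY.hom := by simp
  rw [this]
  infer_instance

end Reflect

section ActD

variable {R A : Type u} [CommRing R] [CommRing A] [Algebra R A]
variable (E : DRing.Cx R) [E.IsKProjective]
  (π : E ⟶ (CochainComplex.singleFunctor (ModuleCat.{u} R) 0).obj (ModuleCat.of R A))

/-- lifting datum for `restrictD φ ⋙ homR E` -/
noncomputable def liftIsoAct :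
    Q ⋙ (DRing.restrictD (algebraMap R A) ⋙ homR E) ≅
      DTen.resCx (algebraMap R A) ⋙ DRing.homCxFunctor E ⋙ Q :=
  (Functor.associator _ _ _).symm ≪≫
    Functor.isoWhiskerRight (DTen.resFactors (algebraMap R A)) (homR E) ≪≫
      Functor.associator _ _ _ ≪≫
        Functor.isoWhiskerLeft (DTen.resCx (algebraMap R A)) (homRIso E)

/-- the derived action map `Z|_R ⟶ RHom(E, Z|_R)` -/
noncomputable def actHatD :
    DRing.restrictD (algebraMap R A) ⟶ DRing.restrictD (algebraMap R A) ⋙ homR E :=
  letI : Localization.Lifting Q (HomologicalComplex.quasiIso (ModuleCat.{u} A) (ComplexShape.up ℤ))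
      (DTen.resCx (algebraMap R A) ⋙ Q) (DRing.restrictD (algebraMap R A)) :=
    ⟨DTen.resFactors _⟩
  letI : Localization.Lifting Q (HomologicalComplex.quasiIso (ModuleCat.{u} A) (ComplexShape.up ℤ))
      (DTen.resCx (algebraMap R A) ⋙ DRing.homCxFunctor E ⋙ Q)
      (DRing.restrictD (algebraMap R A) ⋙ homR E) := ⟨liftIsoAct E⟩
  Localization.liftNatTrans Q
    (HomologicalComplex.quasiIso (ModuleCat.{u} A) (ComplexShape.up ℤ)) _ _ _ _
    (Functor.whiskerRight (actHat E π) Q ≫ (Functor.associator _ _ _).hom)

lemma actHatD_app_Q (M : DRing.Cx A) :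
    (actHatD E π).app (Q.obj M) =
      (DTen.resFactors (algebraMap R A)).hom.app M ≫ Q.map ((actHat E π).app M) ≫
        (homRIso E).inv.app ((DTen.resCx (algebraMap R A)).obj M) ≫
          (homR E).map ((DTen.resFactors (algebraMap R A)).inv.app M) := by
  unfold actHatD
  rw [Localization.liftNatTrans_app]
  simp [liftIsoAct]

end ActD

section Upsilon

variable {R A : Type u} [CommRing R] [CommRing A] [Algebra R A]

/-- `A[0]` over `R` -/
noncomputable abbrev A0 (R A : Type u) [CommRing R] [CommRing A] [Algebra R A] : DRing.Cx R :=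
  (CochainComplex.singleFunctor (ModuleCat.{u} R) 0).obj (ModuleCat.of R A)

variable (E : DRing.Cx R) (π : E ⟶ A0 R A)

/-- the action map for `E` factors through the one for `A[0]` -/
lemma actHat_app_eq (M : DRing.Cx A) :
    (actHat E π).app M = (actHat (A0 R A) (𝟙 _)).app M ≫
      homCxPre π ((DTen.resCx (algebraMap R A)).obj M) := by
  apply HomologicalComplex.hom_ext
  intro n
  refine ModuleCat.hom_ext (LinearMap.ext fun (m : ((DTen.resCx (algebraMap R A)).obj M).X n) => ?_)
  change actCochain E π M n m =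
    (Cochain.ofHom π).comp (actCochain (A0 R A) (𝟙 _) M n m) (zero_add n)
  unfold actCochain
  rw [Cochain.id_comp]

/-- `Hom_R(A, J)|_R ⟶ Hom•(A[0], J)` -/
noncomputable def psi0 (J : DRing.Cx R) :
    (DTen.resCx (algebraMap R A)).obj (coextCx (algebraMap R A) J) ⟶ DRing.homCx (A0 R A) J :=
  (actHat (A0 R A) (𝟙 _)).app (coextCx (algebraMap R A) J) ≫
    (DRing.homCxFunctor (A0 R A)).map (coextCounit (algebraMap R A) J)

lemma psi0_f_apply (J : DRing.Cx R) (n : ℤ)
    (g : ((DTen.resCx (algebraMap R A)).obj (coextCx (algebraMap R A) J)).X n) :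
    (((psi0 (A := A) J).f n).hom g : Cochain (A0 R A) J n) =
      Cochain.fromSingleMk (smulHomX (coextCx (algebraMap R A) J) n g ≫
        (coextCounit (algebraMap R A) J).f n) (zero_add n) := by
  change (actCochain (A0 R A) (𝟙 _) (coextCx (algebraMap R A) J) n g).comp
    (Cochain.ofHom (coextCounit (algebraMap R A) J)) (add_zero n) = _
  unfold actCochain
  rw [Cochain.id_comp, ← Cochain.fromSingleMk_postcomp]

lemma smulHomX_counit_apply (J : DRing.Cx R) (n : ℤ)
    (g : ((DTen.resCx (algebraMap R A)).obj (coextCx (algebraMap R A) J)).X n) (a : A) :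
    (smulHomX (coextCx (algebraMap R A) J) n g ≫ (coextCounit (algebraMap R A) J).f n).hom a =
      ModuleCat.CoextendScalars.equiv (algebraMap R A) (J.X n) g a := by
  change ModuleCat.CoextendScalars.equiv (algebraMap R A) (J.X n)
    (a • (show (ModuleCat.coextendScalars (algebraMap R A)).obj (J.X n) from g)) (1 : A) = _
  rw [ModuleCat.CoextendScalars.smul_apply, one_mul]

lemma bijective_psi0_f (J : DRing.Cx R) (n : ℤ) :
    Function.Bijective ((psi0 (A := A) J).f n).hom := by
  constructor
  · intro g g' hgg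
    have h1 := congrArg (Cochain.fromSingleEquiv (zero_add n)) hgg
    erw [psi0_f_apply, psi0_f_apply] at h1
    rw [Cochain.fromSingleEquiv_fromSingleMk, Cochain.fromSingleEquiv_fromSingleMk] at h1
    apply ModuleCat.CoextendScalars.ext
    apply LinearMap.ext
    intro a
    have h2 := congrArg (fun t => t.hom (show A from a)) h1
    simp only at h2
    erw [smulHomX_counit_apply, smulHomX_counit_apply] at h2
    exact h2
  · intro (z : Cochain (A0 R A) J n)
    let f : ModuleCat.of R A ⟶ J.X n := Cochain.fromSingleEquiv (zero_add n) z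
    let g : (ModuleCat.restrictScalars.{u} (algebraMap R A)).obj (ModuleCat.of A A) →ₗ[R] J.X n :=
      { toFun := fun a => f.hom (show A from a)
        map_add' := fun a b => f.hom.map_add _ _
        map_smul' := fun r a => by
          have : (r • a : (ModuleCat.restrictScalars.{u} (algebraMap R A)).obj (ModuleCat.of A A)) =
              (r • (show A from a) : A) := by
            show algebraMap R A r * (show A from a) = r • (show A from a)
            rw [Algebra.smul_def]
          simp only [RingHom.id_apply]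
          rw [this]
          exact f.hom.map_smul r _ }
    refine ⟨(ModuleCat.CoextendScalars.equiv (algebraMap R A) (J.X n)).symm g, ?_⟩
    apply (Cochain.fromSingleEquiv (zero_add n)).injective
    erw [psi0_f_apply]
    rw [Cochain.fromSingleEquiv_fromSingleMk]
    apply ModuleCat.hom_ext
    apply LinearMap.ext
    intro a
    erw [smulHomX_counit_apply]
    rfl

instance isIso_psi0 (J : DRing.Cx R) : IsIso (psi0 (A := A) J) := by
  haveI : ∀ n, IsIso ((psi0 (A := A) J).f n) := fun n =>
    (ConcreteCategory.isIso_iff_bijective _).2 (bijective_psi0_f J n)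
  exact HomologicalComplex.Hom.isIso_of_components _

end Upsilon

section UpsilonIso

variable {R A : Type u} [CommRing R] [CommRing A] [Algebra R A]
variable (E : DRing.Cx R) (π : E ⟶ A0 R A)

lemma homCxPre_comp_homCxMap {L L' : DRing.Cx R} (f : L' ⟶ L) {M M' : DRing.Cx R} (g : M ⟶ M') :
    homCxPre f M ≫ (DRing.homCxFunctor L').map g = (DRing.homCxFunctor L).map g ≫ homCxPre f M' := by
  apply HomologicalComplex.hom_ext
  intro n
  refine ModuleCat.hom_ext (LinearMap.ext fun (z : Cochain L M n) => ?_)
  change ((Cochain.ofHom f).comp z (zero_add n)).comp (Cochain.ofHom g) (add_zero n) =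
    (Cochain.ofHom f).comp (z.comp (Cochain.ofHom g) (add_zero n)) (zero_add n)
  rw [Cochain.comp_assoc_of_first_is_zero_cochain]

lemma actHat_counit_eq (J : DRing.Cx R) :
    (actHat E π).app (coextCx (algebraMap R A) J) ≫
        (DRing.homCxFunctor E).map (coextCounit (algebraMap R A) J) =
      psi0 J ≫ homCxPre π J := by
  rw [actHat_app_eq]
  refine (Category.assoc _ _ _).trans ?_
  erw [homCxPre_comp_homCxMap]
  exact (Category.assoc _ _ _).symm

variable [E.IsKProjective] [QuasiIso π]
variable {Rφ : Dual.D R ⥤ Dual.D A} (adj : DRing.restrictD (algebraMap R A) ⊣ Rφ)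

/-- `υ₀ : RHom_R(A, Y)|_R ⟶ RHom(E, Y)` -/
noncomputable def upsilon (Y : Dual.D R) :
    (DRing.restrictD (algebraMap R A)).obj (Rφ.obj Y) ⟶ (homR E).obj Y :=
  (actHatD E π).app (Rφ.obj Y) ≫ (homR E).map (adj.counit.app Y)

/-- **`RHom_R(A, Y)|_R ≅ RHom(E, Y)`** for a K-projective resolution `E ⟶ A[0]` -/
theorem isIso_upsilon (Y : Dual.D R) : IsIso (upsilon E π adj Y) := by
  obtain ⟨J, hJ, ⟨e⟩⟩ := Groth.Agent.Lib.RHomKInj.exists_kinj_iso Y
  haveI := hJ
  let c := coextToRight Rφ adj J e.symm
  haveI : IsIso c := isIso_coextToRight Rφ adj J e.symm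
  have hc : (DRing.restrictD (algebraMap R A)).map c ≫ adj.counit.app Y =
      (DTen.resFactors (algebraMap R A)).hom.app (coextCx (algebraMap R A) J) ≫
        Q.map (coextCounit (algebraMap R A) J) ≫ e.inv := by
    have h1 := homEquiv_symm_comp_coextToRight Rφ adj J e.symm (𝟙 _)
    rw [Category.id_comp, CategoryTheory.Functor.map_id, Category.id_comp,
      Adjunction.homEquiv_counit] at h1
    exact h1
  haveI : QuasiIso (homCxPre π J) := Groth.Agent.Lib.HomCxPreQis.quasiIso_homCxPre π J
  haveI : QuasiIso (psi0 (A := A) J ≫ homCxPre π J) := inferInstance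
  haveI : IsIso (Q.map (psi0 (A := A) J ≫ homCxPre π J)) :=
    (isIso_Q_map_iff_quasiIso (C := ModuleCat.{u} R) _).2 inferInstance
  have key : (DRing.restrictD (algebraMap R A)).map c ≫ upsilon E π adj Y =
      (DTen.resFactors (algebraMap R A)).hom.app (coextCx (algebraMap R A) J) ≫
        Q.map (psi0 (A := A) J ≫ homCxPre π J) ≫ (homRIso E).inv.app J ≫
          (homR E).map e.inv := by
    unfold upsilon
    have hn := (actHatD E π).naturality c
    dsimp only [Functor.comp_obj, Functor.comp_map] at hn
    rw [← Category.assoc, hn, Category.assoc, ← Functor.map_comp, hc]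
    have hA : (actHatD E π).app (DRing.toD (coextCx (algebraMap R A) J)) = _ :=
      actHatD_app_Q E π (coextCx (algebraMap R A) J)
    have hB : (homR E).map ((DTen.resFactors (algebraMap R A)).inv.app (coextCx (algebraMap R A) J)) ≫
        (homR E).map ((DTen.resFactors (algebraMap R A)).hom.app (coextCx (algebraMap R A) J)) =
          𝟙 _ := by
      rw [← Functor.map_comp, Iso.inv_hom_id_app, CategoryTheory.Functor.map_id]
    have h2 := (homRIso E).inv.naturality (coextCounit (algebraMap R A) J)
    dsimp only [Functor.comp_obj, Functor.comp_map] at h2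
    have hD : Q.map ((actHat E π).app (coextCx (algebraMap R A) J)) ≫
        Q.map ((DRing.homCxFunctor E).map (coextCounit (algebraMap R A) J)) =
          Q.map (psi0 (A := A) J ≫ homCxPre π J) := by
      rw [← Functor.map_comp, actHat_counit_eq]
      rfl
    rw [hA, Functor.map_comp, Functor.map_comp]
    simp only [Category.assoc]
    rw [reassoc_of% hB, ← reassoc_of% h2, reassoc_of% hD]
    rfl
  have hiso : IsIso ((DRing.restrictD (algebraMap R A)).map c ≫ upsilon E π adj Y) := by
    rw [key]
    have h3 : IsIso ((homRIso E).inv.app J) := ⟨(homRIso E).hom.app J,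
      (homRIso E).inv_hom_id_app J, (homRIso E).hom_inv_id_app J⟩
    have h4 : IsIso ((homR E).map e.inv) := inferInstance
    have h5 : IsIso ((DTen.resFactors (algebraMap R A)).hom.app (coextCx (algebraMap R A) J)) :=
      inferInstance
    exact IsIso.comp_isIso' h5 (IsIso.comp_isIso' this (IsIso.comp_isIso' h3 h4))
  exact IsIso.of_isIso_comp_left ((DRing.restrictD (algebraMap R A)).map c) _

lemma restrictD_map_homEquiv_comp_upsilon {Z : Dual.D A} {Y : Dual.D R}
    (ξ : (DRing.restrictD (algebraMap R A)).obj Z ⟶ Y) :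
    (DRing.restrictD (algebraMap R A)).map (adj.homEquiv _ _ ξ) ≫ upsilon E π adj Y =
      (actHatD E π).app Z ≫ (homR E).map ξ := by
  unfold upsilon
  have hn := (actHatD E π).naturality (adj.homEquiv _ _ ξ)
  dsimp only [Functor.comp_obj, Functor.comp_map] at hn
  rw [← Category.assoc, hn, Category.assoc, ← Functor.map_comp]
  have : (DRing.restrictD (algebraMap R A)).map (adj.homEquiv _ _ ξ) ≫ adj.counit.app Y = ξ := by
    have h1 := Adjunction.homEquiv_counit adj Z Y (adj.homEquiv _ _ ξ)
    rw [Equiv.symm_apply_apply] at h1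
    exact h1.symm
  rw [this]

/-- **criterion**: the adjunct of `ξ : Z|_R ⟶ Y` is an isomorphism `Z ≅ RHom_R(A, Y)` as soon as
`Z|_R ⟶ RHom(E, Z|_R) ⟶ RHom(E, Y)` is an isomorphism -/
theorem isIso_homEquiv_of_isIso_act {Z : Dual.D A} {Y : Dual.D R}
    (ξ : (DRing.restrictD (algebraMap R A)).obj Z ⟶ Y)
    (h : IsIso ((actHatD E π).app Z ≫ (homR E).map ξ)) : IsIso (adj.homEquiv _ _ ξ) := by
  apply isIso_of_isIso_restrictD (algebraMap R A)
  haveI := isIso_upsilon E π adj Y
  haveI : IsIso ((DRing.restrictD (algebraMap R A)).map (adj.homEquiv _ _ ξ) ≫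
      upsilon E π adj Y) := by
    rw [restrictD_map_homEquiv_comp_upsilon]
    exact h
  exact IsIso.of_isIso_comp_right _ (upsilon E π adj Y)

end UpsilonIso

end Groth.Agent.Lib.TrivBCH6
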