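import Mathlib
import Groth.Prelude.Def_TrivBC
import Groth.Prelude.Def_DTen4
import Groth.Prelude.Def_DRing4
import Groth.Agent.Lib.TrivBC7_helper6

/-!
# Tor-independent base change (helper6), part 8: `Hom•(E ⊗_R R', Y')|_R ≅ Hom•(E, Y'|_R)` on
complexes and on derived categories.
-/

set_option autoImplicit false
universe u
open CategoryTheory CategoryTheory.Limits DerivedCategory
open CochainComplex CochainComplex.HomComplex
open scoped TensorProduct
attribute [local instance] HasDerivedCategory.standard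

namespace Groth.Agent.Lib.TrivBCH6

open Groth.Agent.Lib.DMod_helper6 Groth.Agent.Lib.DerivedAdj Groth.Agent.Lib.KFlatMod
  Groth.Agent.Lib.BaseCmp Groth.Agent.Lib.FlatBCH6 Groth.Agent.Lib.HomCx Groth.Agent.Lib.RHomK

section Varpi

variable {R R' : Type u} [CommRing R] [CommRing R'] (ρ : R →+* R') (E : DRing.Cx R)

/-- `w ↦ unit ≫ w|_R` on cochains -/
noncomputable def varpiFun (Y' : DRing.Cx R') (n : ℤ)
    (w : Cochain ((DTen.extCx ρ).obj E) Y' n) : Cochain E ((DTen.resCx ρ).obj Y') n :=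
  (Cochain.ofHom ((DTen.unitCx ρ).app E)).comp (w.map (ModuleCat.restrictScalars.{u} ρ)) (zero_add n)

lemma varpiFun_v (Y' : DRing.Cx R') (n : ℤ) (w : Cochain ((DTen.extCx ρ).obj E) Y' n)
    (p q : ℤ) (h : p + n = q) :
    (varpiFun ρ E Y' n w).v p q h = (adj0 ρ).homEquiv _ _ (w.v p q h) := by
  unfold varpiFun
  rw [Cochain.zero_cochain_comp_v, Cochain.ofHom_v, Cochain.map_v, Adjunction.homEquiv_unit]
  rfl

lemma map_restrict_smul {X Y : ModuleCat.{u} R'} (r : R) (f : X ⟶ Y) :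
    (ModuleCat.restrictScalars.{u} ρ).map (ρ r • f) = r • (ModuleCat.restrictScalars.{u} ρ).map f := by
  rfl

/-- `varpiFun` as a linear map -/
noncomputable def varpiLin (Y' : DRing.Cx R') (n : ℤ) :
    ((DTen.resCx ρ).obj (DRing.homCx ((DTen.extCx ρ).obj E) Y')).X n →ₗ[R]
      Cochain E ((DTen.resCx ρ).obj Y') n where
  toFun w := varpiFun ρ E Y' n w
  map_add' w w' := by
    unfold varpiFun
    erw [Cochain.map_add]
    rw [Cochain.comp_add]
  map_smul' r w := by
    unfold varpiFun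
    have : ((r • w : ((DTen.resCx ρ).obj (DRing.homCx ((DTen.extCx ρ).obj E) Y')).X n) :
        Cochain ((DTen.extCx ρ).obj E) Y' n) =
        ρ r • (show Cochain ((DTen.extCx ρ).obj E) Y' n from w) := rfl
    rw [this]
    have h2 : ((ρ r • (show Cochain ((DTen.extCx ρ).obj E) Y' n from w)).map
        (ModuleCat.restrictScalars.{u} ρ)) =
        r • (show Cochain ((DTen.extCx ρ).obj E) Y' n from w).map
          (ModuleCat.restrictScalars.{u} ρ) := by
      refine Cochain.ext _ _ (fun p q h => ?_)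
      rw [Cochain.map_v, Cochain.smul_v, Cochain.smul_v, Cochain.map_v, map_restrict_smul]
      rfl
    rw [h2, Cochain.comp_smul]
    rfl

/-- `Hom•(E ⊗_R R', Y')|_R ⟶ Hom•(E, Y'|_R)` -/
noncomputable def varpi (Y' : DRing.Cx R') :
    (DTen.resCx ρ).obj (DRing.homCx ((DTen.extCx ρ).obj E) Y') ⟶
      DRing.homCx E ((DTen.resCx ρ).obj Y') where
  f n := ModuleCat.ofHom (X := ((DTen.resCx ρ).obj (DRing.homCx ((DTen.extCx ρ).obj E) Y')).X n)
    (Y := Cochain E ((DTen.resCx ρ).obj Y') n) (varpiLin ρ E Y' n)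
  comm' n n' _ := by
    refine ModuleCat.hom_ext (LinearMap.ext fun
      (w : ((DTen.resCx ρ).obj (DRing.homCx ((DTen.extCx ρ).obj E) Y')).X n) => ?_)
    symm
    change varpiFun ρ E Y' n' (δ n n' (show Cochain ((DTen.extCx ρ).obj E) Y' n from w)) =
      δ n n' (varpiFun ρ E Y' n w)
    unfold varpiFun
    rw [δ_ofHom_comp, δ_map]

lemma varpi_naturality {Y' Y'' : DRing.Cx R'} (g : Y' ⟶ Y'') :
    (DTen.resCx ρ).map ((DRing.homCxFunctor ((DTen.extCx ρ).obj E)).map g) ≫ varpi ρ E Y'' =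
      varpi ρ E Y' ≫ (DRing.homCxFunctor E).map ((DTen.resCx ρ).map g) := by
  apply HomologicalComplex.hom_ext
  intro n
  refine ModuleCat.hom_ext (LinearMap.ext fun
    (w : ((DTen.resCx ρ).obj (DRing.homCx ((DTen.extCx ρ).obj E) Y')).X n) => ?_)
  change varpiFun ρ E Y'' n ((show Cochain ((DTen.extCx ρ).obj E) Y' n from w).comp
      (Cochain.ofHom g) (add_zero n)) =
    (varpiFun ρ E Y' n w).comp (Cochain.ofHom ((DTen.resCx ρ).map g)) (add_zero n)
  unfold varpiFun
  rw [Cochain.map_comp, Cochain.map_ofHom, Cochain.comp_assoc_of_first_is_zero_cochain]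

lemma bijective_varpi_f (Y' : DRing.Cx R') (n : ℤ) :
    Function.Bijective ((varpi ρ E Y').f n).hom := by
  constructor
  · intro (w : Cochain ((DTen.extCx ρ).obj E) Y' n) (w' : Cochain ((DTen.extCx ρ).obj E) Y' n) hww
    have h1 : varpiFun ρ E Y' n w = varpiFun ρ E Y' n w' := hww
    show w = w'
    refine Cochain.ext _ _ (fun p q h => ?_)
    have h2 := congrArg (fun z => z.v p q h) h1
    simp only [varpiFun_v] at h2
    exact ((adj0 ρ).homEquiv _ _).injective h2
  · intro (z : Cochain E ((DTen.resCx ρ).obj Y') n)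
    refine ⟨(Cochain.mk (fun p q h => ((adj0 ρ).homEquiv _ _).symm (z.v p q h)) :
      Cochain ((DTen.extCx ρ).obj E) Y' n), ?_⟩
    show varpiFun ρ E Y' n _ = z
    refine Cochain.ext _ _ (fun p q h => ?_)
    rw [varpiFun_v, Cochain.mk_v, Equiv.apply_symm_apply]

instance isIso_varpi (Y' : DRing.Cx R') : IsIso (varpi ρ E Y') := by
  haveI : ∀ n, IsIso ((varpi ρ E Y').f n) := fun n =>
    (ConcreteCategory.isIso_iff_bijective _).2 (bijective_varpi_f ρ E Y' n)
  exact HomologicalComplex.Hom.isIso_of_components _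

/-- the natural isomorphism `Hom•(E ⊗_R R', -)|_R ≅ Hom•(E, (-)|_R)` -/
noncomputable def varpiNat :
    DRing.homCxFunctor ((DTen.extCx ρ).obj E) ⋙ DTen.resCx ρ ≅
      DTen.resCx ρ ⋙ DRing.homCxFunctor E :=
  NatIso.ofComponents (fun Y' => @asIso _ _ _ _ (varpi ρ E Y') (isIso_varpi ρ E Y'))
    (fun g => varpi_naturality ρ E g)

lemma varpiNat_hom_app (Y' : DRing.Cx R') : (varpiNat ρ E).hom.app Y' = varpi ρ E Y' := rfl

end Varpi

section VarpiD

variable {R R' : Type u} [CommRing R] [CommRing R'] (ρ : R →+* R') (E : DRing.Cx R)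
  [E.IsKProjective] [((DTen.extCx ρ).obj E).IsKProjective]

/-- lifting datum for `homR E' ⋙ restrictD ρ` -/
noncomputable def liftIsoHomRes :
    Q ⋙ (homR ((DTen.extCx ρ).obj E) ⋙ DRing.restrictD ρ) ≅
      DRing.homCxFunctor ((DTen.extCx ρ).obj E) ⋙ DTen.resCx ρ ⋙ Q :=
  (Functor.associator _ _ _).symm ≪≫
    Functor.isoWhiskerRight (homRIso ((DTen.extCx ρ).obj E)) (DRing.restrictD ρ) ≪≫
      Functor.associator _ _ _ ≪≫
        Functor.isoWhiskerLeft (DRing.homCxFunctor ((DTen.extCx ρ).obj E)) (DTen.resFactors ρ)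

/-- lifting datum for `restrictD ρ ⋙ homR E` -/
noncomputable def liftIsoResHom :
    Q ⋙ (DRing.restrictD ρ ⋙ homR E) ≅ DTen.resCx ρ ⋙ DRing.homCxFunctor E ⋙ Q :=
  (Functor.associator _ _ _).symm ≪≫
    Functor.isoWhiskerRight (DTen.resFactors ρ) (homR E) ≪≫
      Functor.associator _ _ _ ≪≫
        Functor.isoWhiskerLeft (DTen.resCx ρ) (homRIso E)

/-- the derived isomorphism `RHom(E ⊗_R R', -)|_R ≅ RHom(E, (-)|_R)` -/
noncomputable def varpiD :
    homR ((DTen.extCx ρ).obj E) ⋙ DRing.restrictD ρ ≅ DRing.restrictD ρ ⋙ homR E :=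
  letI : Localization.Lifting Q (HomologicalComplex.quasiIso (ModuleCat.{u} R') (ComplexShape.up ℤ))
      (DRing.homCxFunctor ((DTen.extCx ρ).obj E) ⋙ DTen.resCx ρ ⋙ Q)
      (homR ((DTen.extCx ρ).obj E) ⋙ DRing.restrictD ρ) := ⟨liftIsoHomRes ρ E⟩
  letI : Localization.Lifting Q (HomologicalComplex.quasiIso (ModuleCat.{u} R') (ComplexShape.up ℤ))
      (DTen.resCx ρ ⋙ DRing.homCxFunctor E ⋙ Q) (DRing.restrictD ρ ⋙ homR E) :=
    ⟨liftIsoResHom ρ E⟩
  Localization.liftNatIso Q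
    (HomologicalComplex.quasiIso (ModuleCat.{u} R') (ComplexShape.up ℤ)) _ _ _ _
    ((Functor.associator _ _ _).symm ≪≫ Functor.isoWhiskerRight (varpiNat ρ E) Q ≪≫
      Functor.associator _ _ _)

lemma varpiD_hom_app_Q (Y' : DRing.Cx R') :
    (varpiD ρ E).hom.app (Q.obj Y') =
      (DRing.restrictD ρ).map ((homRIso ((DTen.extCx ρ).obj E)).hom.app Y') ≫
        (DTen.resFactors ρ).hom.app (DRing.homCx ((DTen.extCx ρ).obj E) Y') ≫
          Q.map (varpi ρ E Y') ≫ (homRIso E).inv.app ((DTen.resCx ρ).obj Y') ≫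
            (homR E).map ((DTen.resFactors ρ).inv.app Y') := by
  unfold varpiD
  rw [Localization.liftNatIso_hom, Localization.liftNatTrans_app]
  simp [liftIsoHomRes, liftIsoResHom, varpiNat]
  rfl

lemma varpiD_inv_app_Q (Y' : DRing.Cx R') :
    (varpiD ρ E).inv.app (Q.obj Y') =
      (homR E).map ((DTen.resFactors ρ).hom.app Y') ≫
        (homRIso E).hom.app ((DTen.resCx ρ).obj Y') ≫ Q.map ((varpiNat ρ E).inv.app Y') ≫
          (DTen.resFactors ρ).inv.app (DRing.homCx ((DTen.extCx ρ).obj E) Y') ≫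
            (DRing.restrictD ρ).map ((homRIso ((DTen.extCx ρ).obj E)).inv.app Y') := by
  unfold varpiD
  rw [Localization.liftNatIso_inv, Localization.liftNatTrans_app]
  simp [liftIsoHomRes, liftIsoResHom]
  rfl

end VarpiD

end Groth.Agent.Lib.TrivBCH6
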