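import Mathlib
import Groth.Prelude.Def_TrivBC
import Groth.Prelude.Def_DTen4
import Groth.Prelude.Def_DRing4
import Groth.Agent.Lib.TrivBC8_helper6
import Groth.Agent.Lib.KProjAdj_helper2

/-!
# Tor-independent base change (helper6), part 9: the base change map
`RHom(E, K) ⊗^L_R R' ⟶ RHom(E ⊗_R R', K ⊗^L_R R')` and its chain level model `kappa`.
-/

set_option autoImplicit false
universe u
open CategoryTheory CategoryTheory.Limits DerivedCategory
open CochainComplex CochainComplex.HomComplex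
open scoped TensorProduct
attribute [local instance] HasDerivedCategory.standard

namespace Groth.Agent.Lib.TrivBCH6

open Groth.Agent.Lib.DMod_helper6 Groth.Agent.Lib.DerivedAdj Groth.Agent.Lib.KFlatMod
  Groth.Agent.Lib.BaseCmp Groth.Agent.Lib.FlatBCH6 Groth.Agent.Lib.HomCx Groth.Agent.Lib.RHomK

section Kappa

variable {R R' : Type u} [CommRing R] [CommRing R'] (ρ : R →+* R') (E : DRing.Cx R)

/-- the chain level base change map `Hom•(E, N) ⊗_R R' ⟶ Hom•(E ⊗_R R', N ⊗_R R')` -/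
noncomputable def kappa (N : DRing.Cx R) :
    (DTen.extCx ρ).obj (DRing.homCx E N) ⟶
      DRing.homCx ((DTen.extCx ρ).obj E) ((DTen.extCx ρ).obj N) :=
  ((adjC (adj0 ρ) (ComplexShape.up ℤ)).homEquiv _ _).symm
    ((DRing.homCxFunctor E).map ((DTen.unitCx ρ).app N) ≫
      (varpiNat ρ E).inv.app ((DTen.extCx ρ).obj N))

lemma unit_kappa (N : DRing.Cx R) :
    (DTen.unitCx ρ).app (DRing.homCx E N) ≫ (DTen.resCx ρ).map (kappa ρ E N) =
      (DRing.homCxFunctor E).map ((DTen.unitCx ρ).app N) ≫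
        (varpiNat ρ E).inv.app ((DTen.extCx ρ).obj N) := by
  have h := ((adjC (adj0 ρ) (ComplexShape.up ℤ)).homEquiv _ _).apply_symm_apply
    ((DRing.homCxFunctor E).map ((DTen.unitCx ρ).app N) ≫
      (varpiNat ρ E).inv.app ((DTen.extCx ρ).obj N))
  rw [Adjunction.homEquiv_unit] at h
  exact h

end Kappa

section Aux

lemma bc_aux {𝒞 : Type*} [Category 𝒞] {X0 X1 X2 X2' X3 X4 X5 Y1 Y2 Y3 : 𝒞}
    (a : X0 ⟶ X1) (b : X1 ⟶ X2) (c : X2 ⟶ X3) (d : X3 ⟶ X4) (e : X4 ⟶ X5)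
    (d' : X2 ⟶ X2') (c' : X2' ⟶ X4) (f1 : X2' ⟶ Y1) (f2 : Y1 ⟶ Y2) (f3 : Y2 ⟶ Y3) (f4 : Y3 ⟶ X5)
    (f5 : X5 ⟶ X4) (g : X1 ⟶ Y1) (q1 : X0 ⟶ Y2) (a' : Y2 ⟶ Y1)
    (h1 : d' ≫ c' = c ≫ d) (hc' : c' = f1 ≫ f2 ≫ f3 ≫ f4 ≫ f5) (h4 : f5 ≫ e = 𝟙 _)
    (h3 : b ≫ d' ≫ f1 = g) (h2 : q1 ≫ a' = a ≫ g) (hinv : a' ≫ f2 = 𝟙 _) :
    a ≫ b ≫ c ≫ d ≫ e = q1 ≫ f3 ≫ f4 := by
  calc a ≫ b ≫ c ≫ d ≫ e = a ≫ b ≫ (c ≫ d) ≫ e := by simp only [Category.assoc]
    _ = a ≫ b ≫ (d' ≫ c') ≫ e := by rw [h1]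
    _ = a ≫ (b ≫ d' ≫ f1) ≫ f2 ≫ f3 ≫ f4 ≫ (f5 ≫ e) := by
        rw [hc']; simp only [Category.assoc]
    _ = (a ≫ g) ≫ f2 ≫ f3 ≫ f4 := by
        rw [h3, h4, Category.comp_id]; simp only [Category.assoc]
    _ = q1 ≫ (a' ≫ f2) ≫ f3 ≫ f4 := by rw [← h2]; simp only [Category.assoc]
    _ = q1 ≫ f3 ≫ f4 := by rw [hinv, Category.id_comp]

lemma isIso_mid_of_isIso {𝒞 : Type*} [Category 𝒞] {X0 X1 X2 X3 X4 : 𝒞}
    (x : X0 ⟶ X1) (m : X1 ⟶ X2) (y : X2 ⟶ X3) (z : X3 ⟶ X4)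
    (hx : IsIso x) (hy : IsIso y) (hz : IsIso z) (h : IsIso (x ≫ m ≫ y ≫ z)) : IsIso m := by
  have : m = inv x ≫ (x ≫ m ≫ y ≫ z) ≫ inv z ≫ inv y := by simp
  rw [this]
  infer_instance

end Aux

section BC

variable {R R' : Type u} [CommRing R] [CommRing R'] (ρ : R →+* R') (E : DRing.Cx R)
  [E.IsKProjective]
  {L : Dual.D R ⥤ Dual.D R'} (adjρ : L ⊣ DRing.restrictD ρ)

instance isKProjective_ext : ((DTen.extCx ρ).obj E).IsKProjective :=
  Groth.Agent.Lib.KProjAdj.isKProjective_extendScalars ρ E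

/-- the base change map `RHom(E, K) ⊗^L_R R' ⟶ RHom(E ⊗_R R', K ⊗^L_R R')` -/
noncomputable def bc (K : Dual.D R) :
    L.obj ((homR E).obj K) ⟶ (homR ((DTen.extCx ρ).obj E)).obj (L.obj K) :=
  (adjρ.homEquiv _ _).symm
    ((homR E).map (adjρ.unit.app K) ≫ (varpiD ρ E).inv.app (L.obj K))

lemma homEquiv_bc_comp (K : Dual.D R) {T : Dual.D R'}
    (g : (homR ((DTen.extCx ρ).obj E)).obj (L.obj K) ⟶ T) :
    adjρ.homEquiv _ _ (bc ρ E adjρ K ≫ g) =
      (homR E).map (adjρ.unit.app K) ≫ (varpiD ρ E).inv.app (L.obj K) ≫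
        (DRing.restrictD ρ).map g := by
  rw [Adjunction.homEquiv_naturality_right]
  unfold bc
  rw [Equiv.apply_symm_apply, Category.assoc]

lemma bc_naturality {K K' : Dual.D R} (f : K ⟶ K') :
    L.map ((homR E).map f) ≫ bc ρ E adjρ K' =
      bc ρ E adjρ K ≫ (homR ((DTen.extCx ρ).obj E)).map (L.map f) := by
  apply (adjρ.homEquiv _ _).injective
  rw [homEquiv_bc_comp, Adjunction.homEquiv_naturality_left]
  have h0 : adjρ.homEquiv _ _ (bc ρ E adjρ K') =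
      (homR E).map (adjρ.unit.app K') ≫ (varpiD ρ E).inv.app (L.obj K') := by
    unfold bc
    rw [Equiv.apply_symm_apply]
  rw [h0]
  have h1 := (varpiD ρ E).inv.naturality (L.map f)
  dsimp only [Functor.comp_obj, Functor.comp_map] at h1
  have h2 := adjρ.unit.naturality f
  dsimp only [Functor.id_obj, Functor.id_map, Functor.comp_obj, Functor.comp_map] at h2
  rw [← h1, ← Category.assoc, ← Category.assoc, ← Functor.map_comp, ← Functor.map_comp, h2]

/-- **the base change map at `Q N`, computed on complexes** -/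
theorem bc_formula (N : DRing.Cx R) :
    L.map ((homRIso E).inv.app N) ≫ bc ρ E adjρ (Q.obj N) ≫
        (homR ((DTen.extCx ρ).obj E)).map (cmpL ρ adjρ N) ≫
          (homRIso ((DTen.extCx ρ).obj E)).hom.app ((DTen.extCx ρ).obj N) =
      cmpL ρ adjρ (DRing.homCx E N) ≫ Q.map (kappa ρ E N) := by
  refine (adjρ.homEquiv (Q.obj (DRing.homCx E N))
    (Q.obj (DRing.homCx ((DTen.extCx ρ).obj E) ((DTen.extCx ρ).obj N)))).injective ?_
  rw [homEquiv_cmpL_comp]
  erw [Adjunction.homEquiv_naturality_left, homEquiv_bc_comp]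
  -- right hand side
  have hR : gam ρ (DRing.homCx E N) ≫ (DRing.restrictD ρ).map (Q.map (kappa ρ E N)) =
      Q.map ((DRing.homCxFunctor E).map ((DTen.unitCx ρ).app N) ≫
        (varpiNat ρ E).inv.app ((DTen.extCx ρ).obj N)) ≫
        (DTen.resFactors ρ).inv.app (DRing.homCx ((DTen.extCx ρ).obj E) ((DTen.extCx ρ).obj N)) := by
    rw [gam_comp_map, ← unitCx_app, unit_kappa]
    rfl
  rw [hR]
  -- left hand side
  have h1 := (varpiD ρ E).inv.naturality (cmpL ρ adjρ N)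
  dsimp only [Functor.comp_obj, Functor.comp_map] at h1
  have h2 := (homRIso E).inv.naturality ((DTen.unitCx ρ).app N)
  dsimp only [Functor.comp_obj, Functor.comp_map, Functor.id_obj] at h2
  have h3 : (homR E).map (adjρ.unit.app (Q.obj N)) ≫
      (homR E).map ((DRing.restrictD ρ).map (cmpL ρ adjρ N)) ≫
        (homR E).map ((DTen.resFactors ρ).hom.app ((DTen.extCx ρ).obj N)) =
      (homR E).map (Q.map ((DTen.unitCx ρ).app N)) := by
    rw [← Functor.map_comp, ← Functor.map_comp, ← Category.assoc, cmpL_fac]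
    unfold gam
    rw [Category.assoc, Iso.inv_hom_id_app]
    erw [Category.comp_id]
  have h4 : (DRing.restrictD ρ).map ((homRIso ((DTen.extCx ρ).obj E)).inv.app ((DTen.extCx ρ).obj N)) ≫
      (DRing.restrictD ρ).map ((homRIso ((DTen.extCx ρ).obj E)).hom.app ((DTen.extCx ρ).obj N)) =
        𝟙 _ := by
    rw [← Functor.map_comp, Iso.inv_hom_id_app, CategoryTheory.Functor.map_id]
  have h5 : (DRing.restrictD ρ).map ((homR ((DTen.extCx ρ).obj E)).map (cmpL ρ adjρ N) ≫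
      (homRIso ((DTen.extCx ρ).obj E)).hom.app ((DTen.extCx ρ).obj N)) =
      (DRing.restrictD ρ).map ((homR ((DTen.extCx ρ).obj E)).map (cmpL ρ adjρ N)) ≫
        (DRing.restrictD ρ).map
          ((homRIso ((DTen.extCx ρ).obj E)).hom.app ((DTen.extCx ρ).obj N)) :=
    Functor.map_comp _ _ _
  erw [h5]
  simp only [Functor.map_comp, Category.assoc]
  exact bc_aux ((homRIso E).inv.app N) ((homR E).map (adjρ.unit.app (Q.obj N)))
    ((varpiD ρ E).inv.app (L.obj (Q.obj N)))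
    ((DRing.restrictD ρ).map ((homR ((DTen.extCx ρ).obj E)).map (cmpL ρ adjρ N)))
    ((DRing.restrictD ρ).map ((homRIso ((DTen.extCx ρ).obj E)).hom.app ((DTen.extCx ρ).obj N)))
    ((homR E).map ((DRing.restrictD ρ).map (cmpL ρ adjρ N)))
    ((varpiD ρ E).inv.app (Q.obj ((DTen.extCx ρ).obj N)))
    ((homR E).map ((DTen.resFactors ρ).hom.app ((DTen.extCx ρ).obj N)))
    ((homRIso E).hom.app ((DTen.resCx ρ).obj ((DTen.extCx ρ).obj N)))
    (Q.map ((varpiNat ρ E).inv.app ((DTen.extCx ρ).obj N)))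
    ((DTen.resFactors ρ).inv.app (DRing.homCx ((DTen.extCx ρ).obj E) ((DTen.extCx ρ).obj N)))
    ((DRing.restrictD ρ).map ((homRIso ((DTen.extCx ρ).obj E)).inv.app ((DTen.extCx ρ).obj N)))
    ((homR E).map (Q.map ((DTen.unitCx ρ).app N)))
    (Q.map ((DRing.homCxFunctor E).map ((DTen.unitCx ρ).app N)))
    ((homRIso E).inv.app ((DTen.resCx ρ).obj ((DTen.extCx ρ).obj N)))
    h1 (varpiD_inv_app_Q ρ E ((DTen.extCx ρ).obj N)) h4 h3 h2
    ((homRIso E).inv_hom_id_app ((DTen.resCx ρ).obj ((DTen.extCx ρ).obj N)))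

/-- **`RHom(E, K) ⊗^L_R R' ≅ RHom(E ⊗_R R', K ⊗^L_R R')`** as soon as the chain level map `kappa`
is an isomorphism and `Hom•(E, -)` preserves K-flatness (e.g. `E` strictly perfect). -/
theorem isIso_bc (hκ : ∀ N : DRing.Cx R, IsIso (kappa ρ E N))
    (hkf : ∀ N : DRing.Cx R, KF R N → KF R (DRing.homCx E N)) (K : Dual.D R) :
    IsIso (bc ρ E adjρ K) := by
  obtain ⟨N, f, hN, -, hf, -⟩ := exists_kf_resolution (Q.objPreimage K)
  haveI := hf
  haveI : IsIso (Q.map f) := (isIso_Q_map_iff_quasiIso (C := ModuleCat.{u} R) f).2 inferInstance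
  let e : Q.obj N ≅ K := asIso (Q.map f) ≪≫ Q.objObjPreimageIso K
  have hQN : IsIso (bc ρ E adjρ (Q.obj N)) := by
    have h1 : IsIso (cmpL ρ adjρ N) := isIso_cmpL_of_kf ρ adjρ N hN
    have h2 : IsIso (cmpL ρ adjρ (DRing.homCx E N)) := isIso_cmpL_of_kf ρ adjρ _ (hkf N hN)
    have h3 : IsIso (Q.map (kappa ρ E N)) := by
      haveI := hκ N
      infer_instance
    have h4 : IsIso (cmpL ρ adjρ (DRing.homCx E N) ≫ Q.map (kappa ρ E N)) :=
      IsIso.comp_isIso' h2 h3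
    rw [← bc_formula] at h4
    have hx : IsIso (L.map ((homRIso E).inv.app N)) := by
      have : IsIso ((homRIso E).inv.app N) := ⟨(homRIso E).hom.app N,
        (homRIso E).inv_hom_id_app N, (homRIso E).hom_inv_id_app N⟩
      infer_instance
    have hy : IsIso ((homR ((DTen.extCx ρ).obj E)).map (cmpL ρ adjρ N)) := by
      haveI := h1
      infer_instance
    have hz : IsIso ((homRIso ((DTen.extCx ρ).obj E)).hom.app ((DTen.extCx ρ).obj N)) :=
      ⟨(homRIso ((DTen.extCx ρ).obj E)).inv.app _,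
        (homRIso ((DTen.extCx ρ).obj E)).hom_inv_id_app _,
        (homRIso ((DTen.extCx ρ).obj E)).inv_hom_id_app _⟩
    exact isIso_mid_of_isIso _ _ _ _ hx hy hz h4
  have hn := bc_naturality ρ E adjρ e.hom
  have : bc ρ E adjρ K = inv (L.map ((homR E).map e.hom)) ≫ bc ρ E adjρ (Q.obj N) ≫
      (homR ((DTen.extCx ρ).obj E)).map (L.map e.hom) := by
    rw [← hn, IsIso.inv_hom_id_assoc]
  rw [this]
  haveI := hQN
  infer_instance

end BC

end Groth.Agent.Lib.TrivBCH6
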