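import Mathlib
import Groth.Prelude.Def_TrivBC
import Groth.Prelude.Def_DTen4
import Groth.Prelude.Def_DRing4
import Groth.Agent.Lib.TrivBC9_helper6

/-!
# Tor-independent base change (helper6), part 10: compatibility of the action maps for `A` over `R`
and for `A'` over `R'` in a commutative square.
-/

set_option autoImplicit false
universe u
open CategoryTheory CategoryTheory.Limits DerivedCategory
open CochainComplex CochainComplex.HomComplex
open scoped TensorProduct
attribute [local instance] HasDerivedCategory.standard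

namespace Groth.Agent.Lib.TrivBCH6

open Groth.Agent.Lib.DMod_helper6 Groth.Agent.Lib.DerivedAdj Groth.Agent.Lib.KFlatMod
  Groth.Agent.Lib.BaseCmp Groth.Agent.Lib.FlatBCH6 Groth.Agent.Lib.HomCx Groth.Agent.Lib.RHomK

section Compat

variable {R A R' A' : Type u} [CommRing R] [CommRing A] [CommRing R'] [CommRing A']
  [Algebra R A] [Algebra R R'] [Algebra A A'] [Algebra R' A'] [Algebra R A']
  [IsScalarTower R A A'] [IsScalarTower R R' A']
  (h : (algebraMap A A').comp (algebraMap R A) = (algebraMap R' A').comp (algebraMap R R'))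

/-- `A ⟶ A'` as an `R`-linear map -/
noncomputable def alphaLin :
    ModuleCat.of R A ⟶ (ModuleCat.restrictScalars.{u} (algebraMap R R')).obj (ModuleCat.of R' A') :=
  ModuleCat.ofHom (X := ModuleCat.of R A)
    (Y := (ModuleCat.restrictScalars.{u} (algebraMap R R')).obj (ModuleCat.of R' A'))
    { toFun := fun a => (algebraMap A A' a : A')
      map_add' := fun a b => map_add _ a b
      map_smul' := fun r a => by
        show algebraMap A A' (r • a) = algebraMap R R' r • algebraMap A A' a
        rw [algebraMap_smul, Algebra.smul_def, map_mul, ← IsScalarTower.algebraMap_apply,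
          Algebra.smul_def] }

/-- `A[0] ⟶ A'[0]|_R` -/
noncomputable def iota : A0 R A ⟶ (DTen.resCx (algebraMap R R')).obj (A0 R' A') :=
  HomologicalComplex.mkHomFromSingle
    (alphaLin (R := R) (A := A) (R' := R') (A' := A') ≫
      (ModuleCat.restrictScalars.{u} (algebraMap R R')).map
        (HomologicalComplex.singleObjXSelf (ComplexShape.up ℤ) 0 (ModuleCat.of R' A')).inv)
    (fun k _ => by
      have : ((DTen.resCx (algebraMap R R')).obj (A0 R' A')).d 0 k = 0 := by
        have hd : (A0 R' A').d 0 k = 0 :=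
          HomologicalComplex.single_obj_d (c := ComplexShape.up ℤ) 0 (ModuleCat.of R' A') 0 k
        show (ModuleCat.restrictScalars.{u} (algebraMap R R')).map ((A0 R' A').d 0 k) = 0
        rw [hd, Functor.map_zero]
      rw [this, comp_zero])

end Compat

section Aux2

lemma single_aux {C D : Type*} [Category C] [Category D] (F : C ⥤ D) {S X : D} {S' X' M : C}
    (σ : S ≅ X) (σ' : S' ≅ X') (a : X ⟶ F.obj X') (f : X' ⟶ M) :
    σ.inv ≫ (σ.hom ≫ a ≫ F.map σ'.inv) ≫ F.map (σ'.hom ≫ f) = a ≫ F.map f := by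
  simp [← Functor.map_comp]

end Aux2

section ActCompat

variable {R A R' A' : Type u} [CommRing R] [CommRing A] [CommRing R'] [CommRing A']
  [Algebra R A] [Algebra R R'] [Algebra A A'] [Algebra R' A'] [Algebra R A']
  [IsScalarTower R A A'] [IsScalarTower R R' A']
  (h : (algebraMap A A').comp (algebraMap R A) = (algebraMap R' A').comp (algebraMap R R'))
  (E : DRing.Cx R) (π : E ⟶ A0 R A)
  (π' : (DTen.extCx (algebraMap R R')).obj E ⟶ A0 R' A')
  (hC : (DTen.unitCx (algebraMap R R')).app E ≫ (DTen.resCx (algebraMap R R')).map π' =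
    π ≫ iota (R := R) (A := A) (R' := R') (A' := A'))

include hC in
lemma act_compat_cochain (M' : DRing.Cx A') (n : ℤ)
    (m : ((DTen.resCx (algebraMap R A)).obj ((DTen.resCx (algebraMap A A')).obj M')).X n) :
    (actCochain E π ((DTen.resCx (algebraMap A A')).obj M') n m).comp
        (Cochain.ofHom ((rcCx h).app M')) (add_zero n) =
      varpiFun (algebraMap R R') E ((DTen.resCx (algebraMap R' A')).obj M') n
        (actCochain ((DTen.extCx (algebraMap R R')).obj E) π' M' n
          ((((rcCx h).app M').f n).hom m)) := by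
  unfold actCochain varpiFun
  rw [Cochain.comp_assoc_of_first_is_zero_cochain, ← Cochain.fromSingleMk_postcomp]
  rw [Cochain.map_comp, Cochain.map_ofHom, ← Cochain.comp_assoc_of_first_is_zero_cochain,
    ← Cochain.ofHom_comp, hC, Cochain.ofHom_comp, Cochain.comp_assoc_of_first_is_zero_cochain]
  congr 1
  apply (Cochain.fromSingleEquiv (zero_add n)).injective
  rw [Cochain.fromSingleEquiv_fromSingleMk]
  have e1 : (Cochain.fromSingleEquiv (zero_add n))
      ((Cochain.ofHom (iota (R := R) (A := A) (R' := R') (A' := A'))).comp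
        ((Cochain.fromSingleMk (X := ModuleCat.of R' A') (K := (DTen.resCx (algebraMap R' A')).obj M')
          (smulHomX M' n ((((rcCx h).app M').f n).hom m)) (zero_add n)).map
          (ModuleCat.restrictScalars.{u} (algebraMap R R'))) (zero_add n)) =
      alphaLin (R := R) (A := A) (R' := R') (A' := A') ≫
        (ModuleCat.restrictScalars.{u} (algebraMap R R')).map
          (smulHomX M' n ((((rcCx h).app M').f n).hom m)) := by
    simp only [Cochain.fromSingleEquiv, AddEquiv.coe_mk, Equiv.coe_fn_mk,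
      Cochain.zero_cochain_comp_v, Cochain.ofHom_v, Cochain.map_v, Cochain.fromSingleMk_v]
    unfold iota
    erw [HomologicalComplex.mkHomFromSingle_f]
    exact single_aux (ModuleCat.restrictScalars.{u} (algebraMap R R'))
      (HomologicalComplex.singleObjXSelf (ComplexShape.up ℤ) 0 (ModuleCat.of R A))
      (HomologicalComplex.singleObjXSelf (ComplexShape.up ℤ) 0 (ModuleCat.of R' A'))
      alphaLin (smulHomX M' n ((((rcCx h).app M').f n).hom m))
  refine Eq.trans ?_ e1.symm
  apply ModuleCat.hom_ext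
  apply LinearMap.ext
  intro a
  rfl

include hC in
lemma act_compat (M' : DRing.Cx A') :
    (actHat E π).app ((DTen.resCx (algebraMap A A')).obj M') ≫
        (DRing.homCxFunctor E).map ((rcCx h).app M') =
      (rcCx h).app M' ≫ (DTen.resCx (algebraMap R R')).map
        ((actHat ((DTen.extCx (algebraMap R R')).obj E) π').app M') ≫
          varpi (algebraMap R R') E ((DTen.resCx (algebraMap R' A')).obj M') := by
  apply HomologicalComplex.hom_ext
  intro n
  refine ModuleCat.hom_ext (LinearMap.ext fun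
    (m : ((DTen.resCx (algebraMap R A)).obj ((DTen.resCx (algebraMap A A')).obj M')).X n) => ?_)
  exact act_compat_cochain h E π π' hC M' n m

end ActCompat

section AuxD

variable {𝒞 : Type*} [Category 𝒞]

lemma natTrans_conj {X Y X' Y' : 𝒞} (u : X ⟶ Y) (ui : Y ⟶ X) (hu : u ≫ ui = 𝟙 _)
    (a : X ⟶ X') (b : Y ⟶ Y') (v : Y' ⟶ X') (h : b ≫ v = ui ≫ a) : a = u ≫ b ≫ v := by
  rw [h, ← Category.assoc, hu, Category.id_comp]

lemma tau1_aux (H : 𝒞 ⥤ 𝒞) {O1 O2 O3 O3' O4 O4' O8 : 𝒞}
    (p : O1 ⟶ O2) (pi : O2 ⟶ O1) (hp : pi ≫ p = 𝟙 _)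
    (q : O2 ⟶ O3) (qi : O3 ⟶ O2) (hq : qi ≫ q = 𝟙 _)
    (s : O3 ⟶ O4) (t : O4 ⟶ H.obj O3) (c : O3 ⟶ O3') (w : O3' ⟶ O8)
    (s2 : O4 ⟶ O4') (t' : O4' ⟶ H.obj O3') (hnat : s2 ≫ t' = t ≫ H.map c) :
    (p ≫ (q ≫ s ≫ t ≫ H.map qi) ≫ H.map pi) ≫ H.map (p ≫ q ≫ c ≫ w) =
      p ≫ q ≫ (s ≫ s2) ≫ t' ≫ H.map w := by
  have e1 : H.map qi ≫ H.map pi ≫ H.map (p ≫ q ≫ c ≫ w) = H.map c ≫ H.map w := by
    rw [← Functor.map_comp, ← Functor.map_comp, ← Functor.map_comp]
    congr 1
    rw [reassoc_of% hp, reassoc_of% hq]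
  simp only [Category.assoc]
  rw [e1, ← reassoc_of% hnat]

lemma tau2_aux {𝒟 : Type*} [Category 𝒟] (H : 𝒞 ⥤ 𝒞) (H' : 𝒟 ⥤ 𝒟) (G : 𝒟 ⥤ 𝒞)
    {O1 O2 O3 O3' O4' : 𝒞} {P1 P2 P3 : 𝒟} {O9 : 𝒞}
    (p : O1 ⟶ O2) (q : O2 ⟶ O3) (c : O3 ⟶ O3') (ki : O3' ⟶ G.obj P2)
    (f1 : P1 ⟶ P2) (f1i : P2 ⟶ P1) (hf1 : f1i ≫ f1 = 𝟙 _)
    (f2 : P2 ⟶ P3) (f3 : P3 ⟶ H'.obj P2) (f3i : H'.obj P2 ⟶ P3) (hf3 : f3 ≫ f3i = 𝟙 _)
    (V : G.obj (H'.obj P1) ⟶ H.obj (G.obj P1)) (V0 : G.obj (H'.obj P2) ⟶ H.obj (G.obj P2))
    (hV : G.map (H'.map f1i) ≫ V = V0 ≫ H.map (G.map f1i))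
    (k : G.obj P3 ⟶ O9) (v : O9 ⟶ O4') (t' : O4' ⟶ H.obj O3')
    (hV0 : V0 = G.map f3i ≫ k ≫ v ≫ t' ≫ H.map ki)
    (r : O3' ⟶ O9) (hr : ki ≫ G.map f2 ≫ k = r) :
    (p ≫ q ≫ c ≫ ki ≫ G.map f1i) ≫ G.map (f1 ≫ f2 ≫ f3 ≫ H'.map f1i) ≫ V =
      p ≫ q ≫ (c ≫ r ≫ v) ≫ t' ≫ H.map (ki ≫ G.map f1i) := by
  have e1 : G.map f1i ≫ G.map (f1 ≫ f2 ≫ f3 ≫ H'.map f1i) ≫ V =
      G.map f2 ≫ G.map f3 ≫ V0 ≫ H.map (G.map f1i) := by
    rw [← hV]
    simp only [Functor.map_comp, ← Category.assoc]
    congr 3
    rw [← Functor.map_comp, hf1, CategoryTheory.Functor.map_id, Category.id_comp]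
  have e2 : G.map f3 ≫ G.map f3i = 𝟙 _ := by
    rw [← Functor.map_comp, hf3, CategoryTheory.Functor.map_id]
  simp only [Category.assoc]
  rw [e1, hV0]
  simp only [Category.assoc]
  rw [reassoc_of% e2, reassoc_of% hr, Functor.map_comp]

end AuxD

section DerivedCompat

variable {R A R' A' : Type u} [CommRing R] [CommRing A] [CommRing R'] [CommRing A']
  [Algebra R A] [Algebra R R'] [Algebra A A'] [Algebra R' A'] [Algebra R A']
  [IsScalarTower R A A'] [IsScalarTower R R' A']
  (h : (algebraMap A A').comp (algebraMap R A) = (algebraMap R' A').comp (algebraMap R R'))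
  (E : DRing.Cx R) [E.IsKProjective] (π : E ⟶ A0 R A)
  (π' : (DTen.extCx (algebraMap R R')).obj E ⟶ A0 R' A')

/-- `actHatD` at `(Q M')|_A` -/
lemma actHatD_app_res_Q (M' : DRing.Cx A') :
    (actHatD E π).app ((DRing.restrictD (algebraMap A A')).obj (Q.obj M')) =
      (DRing.restrictD (algebraMap R A)).map ((DTen.resFactors (algebraMap A A')).hom.app M') ≫
        ((DTen.resFactors (algebraMap R A)).hom.app ((DTen.resCx (algebraMap A A')).obj M') ≫
          Q.map ((actHat E π).app ((DTen.resCx (algebraMap A A')).obj M')) ≫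
            (homRIso E).inv.app
              ((DTen.resCx (algebraMap R A)).obj ((DTen.resCx (algebraMap A A')).obj M')) ≫
              (homR E).map ((DTen.resFactors (algebraMap R A)).inv.app
                ((DTen.resCx (algebraMap A A')).obj M'))) ≫
          (homR E).map ((DRing.restrictD (algebraMap R A)).map
            ((DTen.resFactors (algebraMap A A')).inv.app M')) := by
  have hn := (actHatD E π).naturality ((DTen.resFactors (algebraMap A A')).inv.app M')
  dsimp only [Functor.comp_obj, Functor.comp_map] at hn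
  rw [← actHatD_app_Q]
  refine natTrans_conj _ ((DRing.restrictD (algebraMap R A)).map
    ((DTen.resFactors (algebraMap A A')).inv.app M')) ?_ _ _ _ hn.symm
  rw [← Functor.map_comp, Iso.hom_inv_id_app, CategoryTheory.Functor.map_id]

/-- the two sides of the compatibility as natural transformations -/
noncomputable def tau1 :
    DRing.restrictD (algebraMap A A') ⋙ DRing.restrictD (algebraMap R A) ⟶
      (DRing.restrictD (algebraMap R' A') ⋙ DRing.restrictD (algebraMap R R')) ⋙ homR E :=
  Functor.whiskerLeft (DRing.restrictD (algebraMap A A')) (actHatD E π) ≫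
    (Functor.associator _ _ _).inv ≫ Functor.whiskerRight (TrivBC.resComm h).hom (homR E)

lemma tau1_app (Z' : Dual.D A') :
    (tau1 h E π).app Z' = (actHatD E π).app ((DRing.restrictD (algebraMap A A')).obj Z') ≫
      (homR E).map ((TrivBC.resComm h).hom.app Z') := by
  unfold tau1
  simp

noncomputable def tau2 :
    DRing.restrictD (algebraMap A A') ⋙ DRing.restrictD (algebraMap R A) ⟶
      (DRing.restrictD (algebraMap R' A') ⋙ DRing.restrictD (algebraMap R R')) ⋙ homR E :=
  (TrivBC.resComm h).hom ≫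
    Functor.whiskerRight (actHatD ((DTen.extCx (algebraMap R R')).obj E) π')
      (DRing.restrictD (algebraMap R R')) ≫
    (Functor.associator _ _ _).hom ≫
    Functor.whiskerLeft (DRing.restrictD (algebraMap R' A')) (varpiD (algebraMap R R') E).hom ≫
    (Functor.associator _ _ _).inv

lemma tau2_app (Z' : Dual.D A') :
    (tau2 h E π').app Z' = (TrivBC.resComm h).hom.app Z' ≫
      (DRing.restrictD (algebraMap R R')).map
        ((actHatD ((DTen.extCx (algebraMap R R')).obj E) π').app Z') ≫
        (varpiD (algebraMap R R') E).hom.app ((DRing.restrictD (algebraMap R' A')).obj Z') := by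
  unfold tau2
  simp

lemma tau1_app_Q (M' : DRing.Cx A') :
    (tau1 h E π).app (Q.obj M') =
      (DRing.restrictD (algebraMap R A)).map ((DTen.resFactors (algebraMap A A')).hom.app M') ≫
        (DTen.resFactors (algebraMap R A)).hom.app ((DTen.resCx (algebraMap A A')).obj M') ≫
          (Q.map ((actHat E π).app ((DTen.resCx (algebraMap A A')).obj M')) ≫
            Q.map ((DRing.homCxFunctor E).map ((rcCx h).app M'))) ≫
            (homRIso E).inv.app
              ((DTen.resCx (algebraMap R R')).obj ((DTen.resCx (algebraMap R' A')).obj M')) ≫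
              (homR E).map ((DTen.resFactors (algebraMap R R')).inv.app
                  ((DTen.resCx (algebraMap R' A')).obj M') ≫
                (DRing.restrictD (algebraMap R R')).map
                  ((DTen.resFactors (algebraMap R' A')).inv.app M')) := by
  rw [tau1_app, actHatD_app_res_Q, resComm_hom_app_Q]
  have hnat := (homRIso E).inv.naturality ((rcCx h).app M')
  dsimp only [Functor.comp_obj, Functor.comp_map] at hnat
  refine tau1_aux (homR E) _ ((DRing.restrictD (algebraMap R A)).map
    ((DTen.resFactors (algebraMap A A')).inv.app M')) ?_ _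
    ((DTen.resFactors (algebraMap R A)).inv.app ((DTen.resCx (algebraMap A A')).obj M'))
    (Iso.inv_hom_id_app _ _) _ _ _ _ _ _ hnat
  rw [← Functor.map_comp, Iso.inv_hom_id_app, CategoryTheory.Functor.map_id]

lemma tau2_app_Q (M' : DRing.Cx A') :
    (tau2 h E π').app (Q.obj M') =
      (DRing.restrictD (algebraMap R A)).map ((DTen.resFactors (algebraMap A A')).hom.app M') ≫
        (DTen.resFactors (algebraMap R A)).hom.app ((DTen.resCx (algebraMap A A')).obj M') ≫
          (Q.map ((rcCx h).app M') ≫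
            Q.map ((DTen.resCx (algebraMap R R')).map
              ((actHat ((DTen.extCx (algebraMap R R')).obj E) π').app M')) ≫
            Q.map (varpi (algebraMap R R') E ((DTen.resCx (algebraMap R' A')).obj M'))) ≫
            (homRIso E).inv.app
              ((DTen.resCx (algebraMap R R')).obj ((DTen.resCx (algebraMap R' A')).obj M')) ≫
              (homR E).map ((DTen.resFactors (algebraMap R R')).inv.app
                  ((DTen.resCx (algebraMap R' A')).obj M') ≫
                (DRing.restrictD (algebraMap R R')).map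
                  ((DTen.resFactors (algebraMap R' A')).inv.app M')) := by
  rw [tau2_app, resComm_hom_app_Q, actHatD_app_Q]
  have hV := (varpiD (algebraMap R R') E).hom.naturality
    ((DTen.resFactors (algebraMap R' A')).inv.app M')
  dsimp only [Functor.comp_obj, Functor.comp_map] at hV
  have hr := (DTen.resFactors (algebraMap R R')).hom.naturality
    ((actHat ((DTen.extCx (algebraMap R R')).obj E) π').app M')
  dsimp only [Functor.comp_obj, Functor.comp_map] at hr
  refine tau2_aux (homR E) (homR ((DTen.extCx (algebraMap R R')).obj E))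
    (DRing.restrictD (algebraMap R R')) _ _ _ _
    ((DTen.resFactors (algebraMap R' A')).hom.app M')
    ((DTen.resFactors (algebraMap R' A')).inv.app M')
    ((DTen.resFactors (algebraMap R' A')).inv_hom_id_app M') _
    ((homRIso ((DTen.extCx (algebraMap R R')).obj E)).inv.app
      ((DTen.resCx (algebraMap R' A')).obj M'))
    ((homRIso ((DTen.extCx (algebraMap R R')).obj E)).hom.app
      ((DTen.resCx (algebraMap R' A')).obj M'))
    ((homRIso ((DTen.extCx (algebraMap R R')).obj E)).inv_hom_id_app
      ((DTen.resCx (algebraMap R' A')).obj M')) _ _ hV _ _ _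
    (varpiD_hom_app_Q (algebraMap R R') E ((DTen.resCx (algebraMap R' A')).obj M')) _ ?_
  exact (congrArg (fun t => (DTen.resFactors (algebraMap R R')).inv.app
    ((DTen.resCx (algebraMap R' A')).obj M') ≫ t) hr).trans
      (Iso.inv_hom_id_app_assoc (DTen.resFactors (algebraMap R R')) _ _)

variable (hC : (DTen.unitCx (algebraMap R R')).app E ≫ (DTen.resCx (algebraMap R R')).map π' =
    π ≫ iota (R := R) (A := A) (R' := R') (A' := A'))

include hC in
theorem tau1_eq_tau2 : tau1 h E π = tau2 h E π' := by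
  apply Localization.natTrans_ext (Q : DRing.Cx A' ⥤ Dual.D A')
    (HomologicalComplex.quasiIso (ModuleCat.{u} A') (ComplexShape.up ℤ))
  intro M'
  rw [tau1_app_Q, tau2_app_Q, ← Functor.map_comp, ← Functor.map_comp, ← Functor.map_comp,
    act_compat h E π π' hC M']
  rfl

include hC in
/-- **compatibility of the derived action maps** in a commutative square -/
theorem actHatD_compat (Z' : Dual.D A') :
    (actHatD E π).app ((DRing.restrictD (algebraMap A A')).obj Z') ≫
        (homR E).map ((TrivBC.resComm h).hom.app Z') =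
      (TrivBC.resComm h).hom.app Z' ≫
        (DRing.restrictD (algebraMap R R')).map
          ((actHatD ((DTen.extCx (algebraMap R R')).obj E) π').app Z') ≫
          (varpiD (algebraMap R R') E).hom.app ((DRing.restrictD (algebraMap R' A')).obj Z') := by
  rw [← tau1_app, ← tau2_app, tau1_eq_tau2 h E π π' hC]

end DerivedCompat

end Groth.Agent.Lib.TrivBCH6
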