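import Mathlib
import Groth.Prelude.Def_TrivBC
import Groth.Prelude.Def_DTen4
import Groth.Prelude.Def_DRing4
import Groth.Agent.Lib.TrivBC10_helper6

/-!
# Tor-independent base change (helper6), part 11: the base change map of trivial duality is an
isomorphism, given a resolution `E ⟶ A[0]` with base change `E ⊗_R R' ⟶ A'[0]` still a resolution
and `RHom(E, -)` commuting with base change.
-/

set_option autoImplicit false
universe u
open CategoryTheory CategoryTheory.Limits DerivedCategory
open CochainComplex CochainComplex.HomComplex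
open scoped TensorProduct
attribute [local instance] HasDerivedCategory.standard

namespace Groth.Agent.Lib.TrivBCH6

open Groth.Agent.Lib.DMod_helper6 Groth.Agent.Lib.DerivedAdj Groth.Agent.Lib.KFlatMod
  Groth.Agent.Lib.BaseCmp Groth.Agent.Lib.FlatBCH6 Groth.Agent.Lib.HomCx Groth.Agent.Lib.RHomK

section Main

variable {R A R' A' : Type u} [CommRing R] [CommRing A] [CommRing R'] [CommRing A']
  [Algebra R A] [Algebra R R'] [Algebra A A'] [Algebra R' A'] [Algebra R A']
  [IsScalarTower R A A'] [IsScalarTower R R' A']
  (h : (algebraMap A A').comp (algebraMap R A) = (algebraMap R' A').comp (algebraMap R R'))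
  [DRing.HasLBaseChange (algebraMap R R')] [DRing.HasLBaseChange (algebraMap A A')]
  (adjρ : DRing.LBaseChange (algebraMap R R') ⊣ DRing.restrictD (algebraMap R R'))
  (adjα : DRing.LBaseChange (algebraMap A A') ⊣ DRing.restrictD (algebraMap A A'))
  (E : DRing.Cx R) [E.IsKProjective] (π : E ⟶ A0 R A)
  (π' : (DTen.extCx (algebraMap R R')).obj E ⟶ A0 R' A')
  (hC : (DTen.unitCx (algebraMap R R')).app E ≫ (DTen.resCx (algebraMap R R')).map π' =
    π ≫ iota (R := R) (A := A) (R' := R') (A' := A'))

include hC in
/-- the action maps are compatible with the base change comparison maps -/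
theorem bc_act (Z : Dual.D A) :
    (DRing.LBaseChange (algebraMap R R')).map ((actHatD E π).app Z) ≫
        bc (algebraMap R R') E adjρ ((DRing.restrictD (algebraMap R A)).obj Z) ≫
          (homR ((DTen.extCx (algebraMap R R')).obj E)).map (TrivBC.cmp adjρ adjα h Z) =
      TrivBC.cmp adjρ adjα h Z ≫
        (actHatD ((DTen.extCx (algebraMap R R')).obj E) π').app
          ((DRing.LBaseChange (algebraMap A A')).obj Z) := by
  apply (adjρ.homEquiv _ _).injective
  rw [homEquiv_cmp_comp, Adjunction.homEquiv_naturality_left]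
  erw [homEquiv_bc_comp]
  have h1 := (varpiD (algebraMap R R') E).inv.naturality (TrivBC.cmp adjρ adjα h Z)
  dsimp only [Functor.comp_obj, Functor.comp_map] at h1
  have h2 : adjρ.unit.app ((DRing.restrictD (algebraMap R A)).obj Z) ≫
      (DRing.restrictD (algebraMap R R')).map (TrivBC.cmp adjρ adjα h Z) =
      (DRing.restrictD (algebraMap R A)).map (adjα.unit.app Z) ≫
        (TrivBC.resComm h).hom.app ((DRing.LBaseChange (algebraMap A A')).obj Z) := by
    have := homEquiv_cmp_comp h adjρ adjα Z (𝟙 _)
    simpa [Adjunction.homEquiv_unit] using this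
  have h3 := (actHatD E π).naturality (adjα.unit.app Z)
  dsimp only [Functor.comp_obj, Functor.comp_map, Functor.id_obj] at h3
  have h4 := actHatD_compat h E π π' hC ((DRing.LBaseChange (algebraMap A A')).obj Z)
  have h5 := (varpiD (algebraMap R R') E).hom_inv_id_app
    ((DRing.restrictD (algebraMap R' A')).obj ((DRing.LBaseChange (algebraMap A A')).obj Z))
  dsimp only [Functor.comp_obj] at h5
  rw [← h1, ← Functor.map_comp_assoc, h2, Functor.map_comp, Category.assoc,
    ← Category.assoc ((actHatD E π).app Z), ← h3, Category.assoc, reassoc_of% h4,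
    h5, Category.comp_id]

variable [QuasiIso π] [QuasiIso π']
  {Rφ : Dual.D R ⥤ Dual.D A} (adj : DRing.restrictD (algebraMap R A) ⊣ Rφ)
  {Rφ' : Dual.D R' ⥤ Dual.D A'} (adj' : DRing.restrictD (algebraMap R' A') ⊣ Rφ')

include hC in
/-- **the base change map of trivial duality is an isomorphism** (abstract form) -/
theorem isIso_bcMap_of_bc (hbc : ∀ K : Dual.D R, IsIso (bc (algebraMap R R') E adjρ K))
    (K : Dual.D R) (hc : IsIso (TrivBC.cmp adjρ adjα h (Rφ.obj K))) :
    IsIso (TrivBC.bcMap adjρ adjα h adj adj' K hc) := by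
  haveI := hc
  unfold TrivBC.bcMap
  apply isIso_homEquiv_of_isIso_act ((DTen.extCx (algebraMap R R')).obj E) π' adj'
  have key : TrivBC.cmp adjρ adjα h (Rφ.obj K) ≫
      ((actHatD ((DTen.extCx (algebraMap R R')).obj E) π').app
          ((DRing.LBaseChange (algebraMap A A')).obj (Rφ.obj K)) ≫
        (homR ((DTen.extCx (algebraMap R R')).obj E)).map
          (inv (TrivBC.cmp adjρ adjα h (Rφ.obj K)) ≫
            (DRing.LBaseChange (algebraMap R R')).map (adj.counit.app K))) =
      (DRing.LBaseChange (algebraMap R R')).map (upsilon E π adj K) ≫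
        bc (algebraMap R R') E adjρ K := by
    have h1 := bc_act h adjρ adjα E π π' hC (Rφ.obj K)
    have h2 := bc_naturality (algebraMap R R') E adjρ (adj.counit.app K)
    dsimp only [Functor.comp_obj, Functor.id_obj] at h2
    rw [← Category.assoc, ← h1]
    simp only [Category.assoc]
    rw [← Functor.map_comp, IsIso.hom_inv_id_assoc, ← h2, ← Functor.map_comp_assoc]
    rfl
  haveI := isIso_upsilon E π adj K
  haveI := hbc K
  haveI : IsIso (TrivBC.cmp adjρ adjα h (Rφ.obj K) ≫
      ((actHatD ((DTen.extCx (algebraMap R R')).obj E) π').app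
          ((DRing.LBaseChange (algebraMap A A')).obj (Rφ.obj K)) ≫
        (homR ((DTen.extCx (algebraMap R R')).obj E)).map
          (inv (TrivBC.cmp adjρ adjα h (Rφ.obj K)) ≫
            (DRing.LBaseChange (algebraMap R R')).map (adj.counit.app K)))) := by
    rw [key]
    infer_instance
  exact IsIso.of_isIso_comp_left (TrivBC.cmp adjρ adjα h (Rφ.obj K)) _

end Main

end Groth.Agent.Lib.TrivBCH6
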