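import Mathlib
import Groth.Prelude.Def_TrivBC
import Groth.Prelude.Def_DTen4
import Groth.Prelude.Def_DRing4
import Groth.Agent.Lib.TrivBC9_helper6

/-!
# Tor-independent base change (helper6), part 12: the chain level base change map
`Hom•(E, N) ⊗_R R' ⟶ Hom•(E ⊗_R R', N ⊗_R R')` is an isomorphism for `E` strictly perfect.
-/

set_option autoImplicit false
universe u
open CategoryTheory CategoryTheory.Limits DerivedCategory
open CochainComplex CochainComplex.HomComplex
open scoped TensorProduct ChangeOfRings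
attribute [local instance] HasDerivedCategory.standard

namespace Groth.Agent.Lib.TrivBCH6

open Groth.Agent.Lib.DMod_helper6 Groth.Agent.Lib.DerivedAdj Groth.Agent.Lib.KFlatMod
  Groth.Agent.Lib.BaseCmp Groth.Agent.Lib.FlatBCH6 Groth.Agent.Lib.HomCx Groth.Agent.Lib.RHomK

section Theta

variable (R : Type u) [CommRing R] (P : Type u) [AddCommGroup P] [Module R P]
  {ι : Type} [Fintype ι] [DecidableEq ι]
  (M Q : ι → Type u) [∀ i, AddCommGroup (M i)] [∀ i, Module R (M i)]
  [∀ i, AddCommGroup (Q i)] [∀ i, Module R (Q i)]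
  [∀ i, Module.Finite R (M i)] [∀ i, Module.Projective R (M i)]

/-- `P ⊗ ∏ Hom(Mᵢ, Qᵢ) ≃ ∏ Hom(Mᵢ, P ⊗ Qᵢ)` for finitely many finite projective `Mᵢ` -/
noncomputable def theta :
    P ⊗[R] (∀ i, M i →ₗ[R] Q i) ≃ₗ[R] ∀ i, (M i →ₗ[R] P ⊗[R] Q i) :=
  TensorProduct.piRight R R P (fun i => M i →ₗ[R] Q i) ≪≫ₗ
    LinearEquiv.piCongrRight (fun i => lTensorHomEquivHomLTensor R (M i) P (Q i))

lemma theta_tmul (r : P) (g : ∀ i, M i →ₗ[R] Q i) (i : ι) (x : M i) :
    theta R P M Q (r ⊗ₜ g) i x = r ⊗ₜ g i x := by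
  simp [theta]

end Theta

section CompLin

variable {R : Type u} [CommRing R] (E N : DRing.Cx R) (a b : ℤ) (n : ℤ)

/-- the components of a cochain in the degrees `[a, b]` -/
noncomputable def compLin :
    Cochain E N n →ₗ[R] ∀ p : ↥(Finset.Icc a b), (E.X p →ₗ[R] N.X (p + n)) where
  toFun w p := (w.v p (p + n) rfl).hom
  map_add' w w' := by
    funext p
    simp only [Cochain.add_v, ModuleCat.hom_add, Pi.add_apply]
  map_smul' r w := by
    funext p
    simp only [Cochain.smul_v, ModuleCat.hom_smul, Pi.smul_apply, RingHom.id_apply]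

lemma compLin_apply (w : Cochain E N n) (p : ↥(Finset.Icc a b)) :
    compLin E N a b n w p = (w.v p (p + n) rfl).hom := rfl

lemma bijective_compLin (hE : DRing.VanishesOutside E a b) :
    Function.Bijective (compLin E N a b n) := by
  constructor
  · rw [← LinearMap.ker_eq_bot, LinearMap.ker_eq_bot']
    intro w hw
    refine Cochain.ext _ _ (fun p q h => ?_)
    subst h
    by_cases hp : p ∈ Finset.Icc a b
    · have := congrFun hw ⟨p, hp⟩
      rw [compLin_apply] at this
      rw [Cochain.zero_v]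
      exact ModuleCat.hom_ext this
    · have hz : IsZero (E.X p) := by
        apply hE
        rw [Finset.mem_Icc] at hp
        omega
      exact hz.eq_of_src _ _
  · intro g
    classical
    refine ⟨Cochain.mk (fun p q h => if hp : p ∈ Finset.Icc a b then
      ModuleCat.ofHom (g ⟨p, hp⟩) ≫ (HomologicalComplex.XIsoOfEq N h).hom else 0), ?_⟩
    funext p
    rw [compLin_apply, Cochain.mk_v, dif_pos p.2]
    simp

end CompLin

section PRdef

variable {R R' : Type u} [CommRing R] [CommRing R'] (ρ : R →+* R')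

/-- `R'` as an `R`-module -/
abbrev PR : Type u := ((ModuleCat.restrictScalars.{u} ρ).obj (ModuleCat.of R' R'))

end PRdef

section ResExt

variable {R R' : Type u} [CommRing R] [CommRing R'] (ρ : R →+* R')

/-- `(M ⊗_R R')|_R` is the tensor product `R' ⊗[R] M` -/
noncomputable def resExtEquiv (M : ModuleCat.{u} R) :
    ((ModuleCat.restrictScalars.{u} ρ).obj ((ModuleCat.extendScalars.{u, u, u} ρ).obj M)) ≃ₗ[R]
      PR ρ ⊗[R] M where
  toFun x := x
  invFun x := x
  map_add' _ _ := rfl
  map_smul' r x := by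
    induction x using TensorProduct.induction_on with
    | zero => rfl
    | tmul s m => rfl
    | add x y hx hy =>
      rw [smul_add]
      erw [smul_add]
      rw [hx, hy]
      rfl
  left_inv _ := rfl
  right_inv _ := rfl

end ResExt

section KappaFormula

variable {R R' : Type u} [CommRing R] [CommRing R'] (ρ : R →+* R') (E N : DRing.Cx R)

/-- pure tensors in an extension of scalars -/
noncomputable def tm (M : ModuleCat.{u} R) (r' : R') (m : M) :
    (ModuleCat.extendScalars.{u, u, u} ρ).obj M :=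
  TensorProduct.tmul R (show PR ρ from r') m

lemma tm_eq_smul (M : ModuleCat.{u} R) (r' : R') (m : M) :
    tm ρ M r' m = r' • tm ρ M 1 m := by
  have : r' • tm ρ M 1 m = tm ρ M (r' * 1) m := rfl
  rw [this, mul_one]

lemma comp_aux {𝒞 : Type*} [Category 𝒞] {X Z W : 𝒞} (ab : X ⟶ Z) (d : X ⟶ W) (i : W ⟶ Z)
    (c : Z ⟶ W) (h : ab = d ≫ i) (hi : i ≫ c = 𝟙 _) : ab ≫ c = d := by
  rw [h, Category.assoc, hi, Category.comp_id]

/-- `varpi ∘ kappa` in degree `n` -/
noncomputable def muFun (n : ℤ) (t : ((DTen.extCx ρ).obj (DRing.homCx E N)).X n) :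
    Cochain E ((DTen.resCx ρ).obj ((DTen.extCx ρ).obj N)) n :=
  varpiFun ρ E ((DTen.extCx ρ).obj N) n (((kappa ρ E N).f n).hom t)

lemma muFun_one_tmul (n : ℤ) (w : (DRing.homCx E N).X n) :
    muFun ρ E N n (tm ρ ((DRing.homCx E N).X n) 1 w) =
      (show Cochain E N n from w).comp (Cochain.ofHom ((DTen.unitCx ρ).app N)) (add_zero n) := by
  have h := unit_kappa ρ E N
  have h2 : ((DTen.unitCx ρ).app (DRing.homCx E N) ≫ (DTen.resCx ρ).map (kappa ρ E N)) ≫
      varpi ρ E ((DTen.extCx ρ).obj N) = (DRing.homCxFunctor E).map ((DTen.unitCx ρ).app N) :=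
    comp_aux _ _ _ _ h (by rw [← varpiNat_hom_app]; exact Iso.inv_hom_id_app _ _)
  have h3 := congrArg (fun (φ : DRing.homCx E N ⟶
    DRing.homCx E ((DTen.resCx ρ).obj ((DTen.extCx ρ).obj N))) =>
      ((φ.f n).hom w : Cochain E ((DTen.resCx ρ).obj ((DTen.extCx ρ).obj N)) n)) h2
  exact h3

lemma muFun_tmul (n : ℤ) (r' : R') (w : (DRing.homCx E N).X n) (p q : ℤ) (h : p + n = q)
    (x : E.X p) :
    ((muFun ρ E N n (tm ρ ((DRing.homCx E N).X n) r' w)).v p q h).hom x =
      tm ρ (N.X q) r' (((show Cochain E N n from w).v p q h).hom x) := by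
  have e2 := muFun_one_tmul ρ E N n w
  have e3 := congrArg (fun z => (z.v p q h).hom x) e2
  set W : Cochain ((DTen.extCx ρ).obj E) ((DTen.extCx ρ).obj N) n :=
    ((kappa ρ E N).f n).hom (tm ρ ((DRing.homCx E N).X n) 1 w) with hW
  have e4 : ((kappa ρ E N).f n).hom (tm ρ ((DRing.homCx E N).X n) r' w) = r' • W := by
    rw [tm_eq_smul]
    exact ((kappa ρ E N).f n).hom.map_smul r' (tm ρ ((DRing.homCx E N).X n) 1 w)
  have e5 : (W.v p q h).hom (tm ρ (E.X p) 1 x) =
      tm ρ (N.X q) 1 (((show Cochain E N n from w).v p q h).hom x) := by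
    have : ((varpiFun ρ E ((DTen.extCx ρ).obj N) n W).v p q h).hom x =
      (W.v p q h).hom (tm ρ (E.X p) 1 x) := by
      rw [varpiFun_v]
      rfl
    rw [← this]
    refine e3.trans ?_
    rw [Cochain.comp_zero_cochain_v, Cochain.ofHom_v]
    rfl
  unfold muFun
  rw [e4, varpiFun_v, Cochain.smul_v]
  show r' • (W.v p q h).hom (tm ρ (E.X p) 1 x) = _
  rw [e5]
  exact (tm_eq_smul ρ _ r' _).symm

end KappaFormula

section KappaIso

variable {R R' : Type u} [CommRing R] [CommRing R'] (ρ : R →+* R') (E N : DRing.Cx R) (a b : ℤ)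

lemma muFun_eq (n : ℤ) (t : ((DTen.extCx ρ).obj (DRing.homCx E N)).X n) :
    muFun ρ E N n t =
      ((varpi ρ E ((DTen.extCx ρ).obj N)).f n).hom (((kappa ρ E N).f n).hom t) := rfl

lemma muFun_add (n : ℤ) (t t' : ((DTen.extCx ρ).obj (DRing.homCx E N)).X n) :
    muFun ρ E N n (t + t') = muFun ρ E N n t + muFun ρ E N n t' := by
  rw [muFun_eq, muFun_eq, muFun_eq, map_add]
  exact map_add _ _ _

lemma muFun_zero (n : ℤ) : muFun ρ E N n 0 = 0 := by
  rw [muFun_eq, map_zero]
  exact map_zero _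

/-- the first comparison map -/
noncomputable def F1 (hfp : DRing.TermwiseFiniteProjective E) (n : ℤ) :
    PR ρ ⊗[R] Cochain E N n →ₗ[R]
      ∀ p : ↥(Finset.Icc a b), (E.X p →ₗ[R] PR ρ ⊗[R] N.X (p + n)) :=
  haveI : ∀ p : ↥(Finset.Icc a b), Module.Finite R (E.X p) := fun p => (hfp p).1
  haveI : ∀ p : ↥(Finset.Icc a b), Module.Projective R (E.X p) := fun p => (hfp p).2
  (theta R (PR ρ) (fun p : ↥(Finset.Icc a b) => E.X p) (fun p => N.X (p + n))).toLinearMap ∘ₗ
    LinearMap.lTensor (PR ρ) (compLin E N a b n)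

lemma F1_tmul (hfp : DRing.TermwiseFiniteProjective E) (n : ℤ) (r' : PR ρ) (w : Cochain E N n)
    (p : ↥(Finset.Icc a b)) (x : E.X p) :
    F1 ρ E N a b hfp n (r' ⊗ₜ w) p x = r' ⊗ₜ ((w.v p (p + n) rfl).hom x) := by
  haveI : ∀ p : ↥(Finset.Icc a b), Module.Finite R (E.X p) := fun p => (hfp p).1
  haveI : ∀ p : ↥(Finset.Icc a b), Module.Projective R (E.X p) := fun p => (hfp p).2
  unfold F1
  rw [LinearMap.comp_apply, LinearMap.lTensor_tmul]
  erw [theta_tmul]
  rfl

lemma bijective_F1 (hE : DRing.VanishesOutside E a b) (hfp : DRing.TermwiseFiniteProjective E)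
    (n : ℤ) : Function.Bijective (F1 ρ E N a b hfp n) := by
  haveI : ∀ p : ↥(Finset.Icc a b), Module.Finite R (E.X p) := fun p => (hfp p).1
  haveI : ∀ p : ↥(Finset.Icc a b), Module.Projective R (E.X p) := fun p => (hfp p).2
  unfold F1
  let e : Cochain E N n ≃ₗ[R] (∀ p : ↥(Finset.Icc a b), (E.X p →ₗ[R] N.X (p + n))) :=
    LinearEquiv.ofBijective (compLin E N a b n) (bijective_compLin E N a b n hE)
  have h1 : Function.Bijective (LinearMap.lTensor (PR ρ) (compLin E N a b n)) := by
    have h0 : LinearMap.lTensor (PR ρ) (compLin E N a b n) = (e.lTensor (PR ρ)).toLinearMap := by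
      apply TensorProduct.ext'
      intro r' w
      rfl
    rw [h0]
    exact (e.lTensor (PR ρ)).bijective
  rw [LinearMap.coe_comp]
  exact (theta R (PR ρ) (fun p : ↥(Finset.Icc a b) => E.X p)
    (fun p => N.X (p + n))).bijective.comp h1

/-- the second comparison map -/
noncomputable def F2 (n : ℤ)
    (c : Cochain E ((DTen.resCx ρ).obj ((DTen.extCx ρ).obj N)) n) :
    ∀ p : ↥(Finset.Icc a b), (E.X p →ₗ[R] PR ρ ⊗[R] N.X (p + n)) :=
  fun p => (resExtEquiv ρ (N.X (p + n))).toLinearMap ∘ₗ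
    (compLin E ((DTen.resCx ρ).obj ((DTen.extCx ρ).obj N)) a b n c p)

lemma F2_apply (n : ℤ) (c : Cochain E ((DTen.resCx ρ).obj ((DTen.extCx ρ).obj N)) n)
    (p : ↥(Finset.Icc a b)) (x : E.X p) :
    F2 ρ E N a b n c p x = (c.v p (p + n) rfl).hom x := rfl

lemma bijective_F2 (hE : DRing.VanishesOutside E a b) (n : ℤ) :
    Function.Bijective (F2 ρ E N a b n) := by
  have hb := bijective_compLin E ((DTen.resCx ρ).obj ((DTen.extCx ρ).obj N)) a b n hE
  constructor
  · intro c c' hcc
    apply hb.1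
    funext p
    apply LinearMap.ext
    intro x
    have := congrArg (fun g => g p x) hcc
    exact this
  · intro g
    obtain ⟨c, hc⟩ := hb.2 (fun p => (resExtEquiv ρ (N.X (p + n))).symm.toLinearMap ∘ₗ g p)
    refine ⟨c, ?_⟩
    funext p
    apply LinearMap.ext
    intro x
    have := congrArg (fun g => g p x) hc
    exact this

lemma F2_zero (n : ℤ) : F2 ρ E N a b n 0 = 0 := by
  funext p
  apply LinearMap.ext
  intro x
  rw [F2_apply, Cochain.zero_v]
  rfl

lemma F2_add (n : ℤ) (c c' : Cochain E ((DTen.resCx ρ).obj ((DTen.extCx ρ).obj N)) n) :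
    F2 ρ E N a b n (c + c') = F2 ρ E N a b n c + F2 ρ E N a b n c' := by
  funext p
  apply LinearMap.ext
  intro x
  rw [F2_apply, Cochain.add_v]
  rfl

lemma F2_muFun (hfp : DRing.TermwiseFiniteProjective E) (n : ℤ)
    (t : PR ρ ⊗[R] Cochain E N n) :
    F2 ρ E N a b n (muFun ρ E N n t) = F1 ρ E N a b hfp n t := by
  induction t using TensorProduct.induction_on with
  | zero =>
    have h0 : muFun ρ E N n (0 : PR ρ ⊗[R] Cochain E N n) = 0 := muFun_zero ρ E N n
    rw [h0, F2_zero, map_zero]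
  | tmul r' w =>
    funext p
    apply LinearMap.ext
    intro x
    rw [F2_apply, F1_tmul]
    exact muFun_tmul ρ E N n r' w p (p + n) rfl x
  | add t t' ht ht' =>
    have h0 : muFun ρ E N n (t + t' : PR ρ ⊗[R] Cochain E N n) =
      muFun ρ E N n t + muFun ρ E N n t' := muFun_add ρ E N n t t'
    rw [h0, F2_add, map_add, ht, ht']

/-- **the chain level base change map is an isomorphism for `E` strictly perfect** -/
theorem isIso_kappa (hE : DRing.VanishesOutside E a b) (hfp : DRing.TermwiseFiniteProjective E) :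
    IsIso (kappa ρ E N) := by
  haveI : ∀ n, IsIso ((kappa ρ E N).f n) := fun n => by
    rw [ConcreteCategory.isIso_iff_bijective]
    have h1 : Function.Bijective (muFun ρ E N n) := by
      have h2 : Function.Bijective (F2 ρ E N a b n ∘ muFun ρ E N n) := by
        have : F2 ρ E N a b n ∘ muFun ρ E N n = F1 ρ E N a b hfp n := by
          funext t
          exact F2_muFun ρ E N a b hfp n t
        rw [this]
        exact bijective_F1 ρ E N a b hE hfp n
      exact (Function.Bijective.of_comp_iff' (bijective_F2 ρ E N a b hE n) _).1 h2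
    have h3 : muFun ρ E N n = ((varpi ρ E ((DTen.extCx ρ).obj N)).f n).hom ∘
        ((kappa ρ E N).f n).hom := rfl
    rw [h3] at h1
    exact (Function.Bijective.of_comp_iff' (bijective_varpi_f ρ E _ n) _).1 h1
  exact HomologicalComplex.Hom.isIso_of_components _

end KappaIso

end Groth.Agent.Lib.TrivBCH6
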