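import Mathlib
import Groth.Prelude.Def_TrivBC
import Groth.Prelude.Def_DTen4
import Groth.Prelude.Def_DRing4
import Groth.Agent.Lib.TrivBC11_helper6
import Groth.Agent.Lib.TrivBC12_helper6
import Groth.Agent.Lib.TrivBC5_helper6
import Groth.Agent.Lib.HomKFlat2_helper2

/-!
# Tor-independent base change (helper6), part 13: base change of a resolution of `A`, and the base
change theorem for trivial duality in the perfect, tor independent case (S13549).
-/

set_option autoImplicit false
universe u
open CategoryTheory CategoryTheory.Limits DerivedCategory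
open CochainComplex CochainComplex.HomComplex
open scoped TensorProduct ChangeOfRings
attribute [local instance] HasDerivedCategory.standard

namespace Groth.Agent.Lib.TrivBCH6

open Groth.Agent.Lib.DMod_helper6 Groth.Agent.Lib.DerivedAdj Groth.Agent.Lib.KFlatMod
  Groth.Agent.Lib.BaseCmp Groth.Agent.Lib.FlatBCH6 Groth.Agent.Lib.HomCx Groth.Agent.Lib.RHomK
  Groth.Agent.ExtendScalarsLib

section IotaAdj

variable {R A R' A' : Type u} [CommRing R] [CommRing A] [CommRing R'] [CommRing A']
  [Algebra R A] [Algebra R R'] [Algebra A A'] [Algebra R' A'] [Algebra R A']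
  [IsScalarTower R A A'] [IsScalarTower R R' A']

/-- the adjunct `A[0] ⊗_R R' ⟶ A'[0]` of `iota` -/
noncomputable def iotaAdj : (DTen.extCx (algebraMap R R')).obj (A0 R A) ⟶ A0 R' A' :=
  ((adjC (adj0 (algebraMap R R')) (ComplexShape.up ℤ)).homEquiv _ _).symm
    (iota (R := R) (A := A) (R' := R') (A' := A'))

lemma iotaAdj_f (i : ℤ) :
    (iotaAdj (R := R) (A := A) (R' := R') (A' := A')).f i =
      ((adj0 (algebraMap R R')).homEquiv _ _).symm
        ((iota (R := R) (A := A) (R' := R') (A' := A')).f i) := by
  unfold iotaAdj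
  rw [Adjunction.homEquiv_counit, Adjunction.homEquiv_counit]
  rfl

variable [Algebra.IsPushout R R' A A']

/-- the module level isomorphism `A ⊗_R R' ≅ A'` -/
noncomputable def alphaAdjIso :
    (ModuleCat.extendScalars.{u, u, u} (algebraMap R R')).obj (ModuleCat.of R A) ≅
      ModuleCat.of R' A' :=
  (extendScalarsEquivTensor (S := R') (ModuleCat.of R A)).toModuleIso ≪≫
    (Algebra.IsPushout.equiv R R' A A').toLinearEquiv.toModuleIso

lemma alphaAdj_eq :
    ((adj0 (algebraMap R R')).homEquiv _ _).symm
      (alphaLin (R := R) (A := A) (R' := R') (A' := A')) =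
      (alphaAdjIso (R := R) (A := A) (R' := R') (A' := A')).hom := by
  refine ModuleCat.ExtendScalars.hom_ext (fun a => ?_)
  have h1 : (((adj0 (algebraMap R R')).homEquiv _ _).symm
      (alphaLin (R := R) (A := A) (R' := R') (A' := A'))).hom
        ((1 : R') ⊗ₜ[R,algebraMap R R'] a) = (algebraMap A A' (a : A) : A') := by
    have := congrArg (fun k => k.hom a) (((adj0 (algebraMap R R')).homEquiv _ _).apply_symm_apply
      (alphaLin (R := R) (A := A) (R' := R') (A' := A')))
    exact this
  refine h1.trans ?_
  symm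
  show (Algebra.IsPushout.equiv R R' A A') (extendScalarsEquivTensor (S := R') (ModuleCat.of R A)
    ((1 : R') ⊗ₜ[R,algebraMap R R'] a)) = _
  rw [extendScalarsEquivTensor_tmul]
  erw [Algebra.IsPushout.equiv_tmul]
  rw [map_one, one_mul]


instance isIso_iotaAdj : IsIso (iotaAdj (R := R) (A := A) (R' := R') (A' := A')) := by
  have : ∀ i, IsIso ((iotaAdj (R := R) (A := A) (R' := R') (A' := A')).f i) := fun i => by
    by_cases hi : i = 0
    · subst hi
      rw [iotaAdj_f]
      have h0 : (iota (R := R) (A := A) (R' := R') (A' := A')).f 0 =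
          (HomologicalComplex.singleObjXSelf (ComplexShape.up ℤ) 0 (ModuleCat.of R A)).hom ≫
            alphaLin (R := R) (A := A) (R' := R') (A' := A') ≫
              (ModuleCat.restrictScalars.{u} (algebraMap R R')).map
                (HomologicalComplex.singleObjXSelf (ComplexShape.up ℤ) 0
                  (ModuleCat.of R' A')).inv := by
        unfold iota
        exact HomologicalComplex.mkHomFromSingle_f _ _
      rw [h0]
      erw [Adjunction.homEquiv_naturality_left_symm, Adjunction.homEquiv_naturality_right_symm,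
        alphaAdj_eq]
      exact IsIso.comp_isIso'
        (Iso.isIso_hom ((ModuleCat.extendScalars.{u, u, u} (algebraMap R R')).mapIso
          (HomologicalComplex.singleObjXSelf (ComplexShape.up ℤ) 0 (ModuleCat.of R A))))
        (IsIso.comp_isIso' (Iso.isIso_hom _) (Iso.isIso_inv _))
    · refine ⟨0, IsZero.eq_of_src ?_ _ _, IsZero.eq_of_tgt ?_ _ _⟩
      · exact Functor.map_isZero (ModuleCat.extendScalars.{u, u, u} (algebraMap R R'))
          (HomologicalComplex.isZero_single_obj_X (ComplexShape.up ℤ) 0 _ i hi)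
      · exact HomologicalComplex.isZero_single_obj_X (ComplexShape.up ℤ) 0 _ i hi
  exact HomologicalComplex.Hom.isIso_of_components _


end IotaAdj

section ExtQis

variable {R A R' A' : Type u} [CommRing R] [CommRing A] [CommRing R'] [CommRing A']
  [Algebra R A] [Algebra R R'] [Algebra A A'] [Algebra R' A'] [Algebra R A']
  [IsScalarTower R A A'] [IsScalarTower R R' A'] [Algebra.IsPushout R R' A A']
  (h : (algebraMap A A').comp (algebraMap R A) = (algebraMap R' A').comp (algebraMap R R'))
  [DRing.HasLBaseChange (algebraMap R R')] [DRing.HasLBaseChange (algebraMap A A')]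
  (adjρ : DRing.LBaseChange (algebraMap R R') ⊣ DRing.restrictD (algebraMap R R'))
  (adjα : DRing.LBaseChange (algebraMap A A') ⊣ DRing.restrictD (algebraMap A A'))

include h adjρ adjα in
/-- under tor independence, base change of any K-flat resolution of `A` is a resolution -/
theorem quasiIso_ext_of_torIndepCx (hTI : TorIndepCx (algebraMap R A) (algebraMap R R'))
    (E : DRing.Cx R) (hE : KF R E) (π : E ⟶ A0 R A) [QuasiIso π] :
    QuasiIso ((DTen.extCx (algebraMap R R')).map π) := by
  have hc := isIso_cmp_of_torIndepCx h adjρ adjα hTI (Q.obj (Sx A 0))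
  let σ : A0 R A ≅ (DTen.resCx (algebraMap R A)).obj (Sx A 0) := singleResIso R A
  let ν : E ⟶ (DTen.resCx (algebraMap R A)).obj (Sx A 0) := π ≫ σ.hom
  have : QuasiIso ν := by
    dsimp only [ν]
    infer_instance
  have hq := (isIso_cmp_iff h adjρ adjα (Sx A 0) (kf_Sx 0) E hE ν).1 hc
  have h1 : (DTen.extCx (algebraMap R R')).map ν ≫ (poCx h).app (Sx A 0) =
      (DTen.extCx (algebraMap R R')).map π ≫
        ((DTen.extCx (algebraMap R R')).map σ.hom ≫ (poCx h).app (Sx A 0)) := by
    dsimp only [ν]
    rw [Functor.map_comp, Category.assoc]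
  rw [h1] at hq
  exact (quasiIso_iff_comp_right _ _).1 hq

end ExtQis

section PiPrime

variable {R A R' A' : Type u} [CommRing R] [CommRing A] [CommRing R'] [CommRing A']
  [Algebra R A] [Algebra R R'] [Algebra A A'] [Algebra R' A'] [Algebra R A']
  [IsScalarTower R A A'] [IsScalarTower R R' A']
  (E : DRing.Cx R) (π : E ⟶ A0 R A)

/-- the base change `E ⊗_R R' ⟶ A'[0]` of `π : E ⟶ A[0]` -/
noncomputable def piPrime : (DTen.extCx (algebraMap R R')).obj E ⟶ A0 R' A' :=
  (DTen.extCx (algebraMap R R')).map π ≫ iotaAdj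

lemma unit_iotaAdj :
    (DTen.unitCx (algebraMap R R')).app (A0 R A) ≫
        (DTen.resCx (algebraMap R R')).map (iotaAdj (R := R) (A := A) (R' := R') (A' := A')) =
      iota := by
  have h := ((adjC (adj0 (algebraMap R R')) (ComplexShape.up ℤ)).homEquiv _ _).apply_symm_apply
    (iota (R := R) (A := A) (R' := R') (A' := A'))
  rw [Adjunction.homEquiv_unit] at h
  exact h

lemma piPrime_hC :
    (DTen.unitCx (algebraMap R R')).app E ≫
        (DTen.resCx (algebraMap R R')).map (piPrime (R' := R') (A' := A') E π) =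
      π ≫ iota (R := R) (A := A) (R' := R') (A' := A') := by
  unfold piPrime
  have h1 := (DTen.unitCx (algebraMap R R')).naturality π
  dsimp only [Functor.id_obj, Functor.id_map, Functor.comp_obj, Functor.comp_map] at h1
  rw [Functor.map_comp, ← Category.assoc, ← h1, Category.assoc, unit_iotaAdj]

end PiPrime

section Main

variable (R A R' A' : Type u) [CommRing R] [CommRing A] [CommRing R'] [CommRing A']
  [Algebra R A] [Algebra R R'] [Algebra A A'] [Algebra R' A'] [Algebra R A']
  [IsScalarTower R A A'] [IsScalarTower R R' A'] [Algebra.IsPushout R A R' A']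

/-- S13549 -/
theorem main13549 (hperf : DRing.IsPerfectModule R A)
    (htor : ∀ p : ℕ, 1 ≤ p → Subsingleton (DRing.Tor R p A R'))
    [DRing.HasLBaseChange (algebraMap R R')] [DRing.HasLBaseChange (algebraMap A A')]
    (adjρ : DRing.LBaseChange (algebraMap R R') ⊣ DRing.restrictD (algebraMap R R'))
    (adjα : DRing.LBaseChange (algebraMap A A') ⊣ DRing.restrictD (algebraMap A A'))
    (h : (algebraMap A A').comp (algebraMap R A) = (algebraMap R' A').comp (algebraMap R R'))
    (Rφ : Dual.D R ⥤ Dual.D A) (adj : DRing.restrictD (algebraMap R A) ⊣ Rφ)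
    (Rφ' : Dual.D R' ⥤ Dual.D A') (adj' : DRing.restrictD (algebraMap R' A') ⊣ Rφ')
    (K : Dual.D R) (hc : IsIso (TrivBC.cmp adjρ adjα h (Rφ.obj K))) :
    IsIso (TrivBC.bcMap adjρ adjα h adj adj' K hc) := by
  haveI : Algebra.IsPushout R R' A A' := Algebra.IsPushout.symm inferInstance
  obtain ⟨E, a, b, hE, hfp, ⟨e⟩⟩ := hperf
  haveI : E.IsStrictlyLE b := by
    rw [CochainComplex.isStrictlyLE_iff]
    exact fun i hi => hE i (Or.inr hi)
  haveI : ∀ n, Projective (E.X n) := fun n => by
    haveI := (hfp n).2
    infer_instance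
  haveI : E.IsKProjective := CochainComplex.isKProjective_of_projective E b
  let e' : Q.obj E ≅ Q.obj (A0 R A) :=
    e ≪≫ (DerivedCategory.singleFunctorIsoCompQ (ModuleCat.{u} R) 0).app (ModuleCat.of R A)
  obtain ⟨π, hπ, -⟩ := Groth.Agent.PerfectCx.exists_quasiIso_of_iso E (A0 R A) e'
  haveI := hπ
  have hTI := torIndepCx_of_tor R A R' htor
  have hEkf : KF R E := kf_of_vanishesAbove E b (fun i hi => hE i (Or.inr hi)) (fun i => by
    haveI := (hfp i).2
    exact Module.Flat.of_projective)
  haveI : QuasiIso ((DTen.extCx (algebraMap R R')).map π) :=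
    quasiIso_ext_of_torIndepCx h adjρ adjα hTI E hEkf π
  haveI : QuasiIso (piPrime (R' := R') (A' := A') E π) := by
    unfold piPrime
    infer_instance
  exact isIso_bcMap_of_bc h adjρ adjα E π (piPrime E π) (piPrime_hC E π) adj adj'
    (fun K' => isIso_bc (algebraMap R R') E adjρ
      (fun N => isIso_kappa (algebraMap R R') E N a b hE hfp)
      (fun N hN => Groth.Agent.Lib.HomKFlat.PK_of_bounded_finite_projective hN E a b hE hfp) K')
    K hc

end Main

end Groth.Agent.Lib.TrivBCH6
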