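import Mathlib
import Groth.Prelude.Def_TrivBC
import Groth.Prelude.Def_DTen4
import Groth.Prelude.Def_DRing4
import Groth.Agent.Lib.TrivBC13_helper6
import Groth.Agent.Lib.KProjRes_helper2

/-!
# Tor-independent base change (helper6), part 14: existence of derived base change along every
ring map; base change of trivial duality in chain level form; tor independence from flatness.
-/

set_option autoImplicit false
universe u
open CategoryTheory CategoryTheory.Limits DerivedCategory
open CochainComplex CochainComplex.HomComplex
open scoped TensorProduct ChangeOfRings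
attribute [local instance] HasDerivedCategory.standard

namespace Groth.Agent.Lib.TrivBCH6

open Groth.Agent.Lib.DMod_helper6 Groth.Agent.Lib.DerivedAdj Groth.Agent.Lib.KFlatMod
  Groth.Agent.Lib.BaseCmp Groth.Agent.Lib.FlatBCH6 Groth.Agent.Lib.HomCx Groth.Agent.Lib.RHomK
  Groth.Agent.ExtendScalarsLib

section LDer

variable {R : Type u} [CommRing R] {H : Type*} [Category H]

/-- **every functor on `K(R)` has a (pointwise) left derived functor** with respect to
quasi-isomorphisms, computed on K-projective resolutions -/
theorem hasLeftDerivedFunctor_of_kproj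
    (F : HomotopyCategory (ModuleCat.{u} R) (ComplexShape.up ℤ) ⥤ H) :
    F.HasLeftDerivedFunctor
      (HomotopyCategory.quasiIso (ModuleCat.{u} R) (ComplexShape.up ℤ)) := by
  have : F.HasPointwiseLeftDerivedFunctor
      (HomotopyCategory.quasiIso (ModuleCat.{u} R) (ComplexShape.up ℤ)) := fun X => by
    obtain ⟨X₀, rfl⟩ := HomotopyCategory.quotient_obj_surjective X
    obtain ⟨P, π, hπ, hP, -, -⟩ := Groth.Agent.Lib.KProjRes.exists_kproj_resolution X₀
    haveI := hP
    have hw : HomotopyCategory.quasiIso (ModuleCat.{u} R) (ComplexShape.up ℤ)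
        ((HomotopyCategory.quotient _ _).map π) := by
      rw [HomotopyCategory.quotient_map_mem_quasiIso_iff]
      exact hπ
    rw [← Functor.hasPointwiseLeftDerivedFunctorAt_iff_of_mem F _ _ hw]
    rw [Functor.hasPointwiseLeftDerivedFunctorAt_iff F DerivedCategory.Qh]
    have hbij := CochainComplex.IsKProjective.Qh_map_bijective P
    haveI : HasInitial (StructuredArrow
        (DerivedCategory.Qh.obj ((HomotopyCategory.quotient _ _).obj P)) DerivedCategory.Qh) := by
      refine IsInitial.hasInitial (X := StructuredArrow.mk (𝟙 _)) ?_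
      refine IsInitial.ofUniqueHom
        (fun Y => StructuredArrow.homMk ((hbij Y.right).2 Y.hom).choose ?_) (fun Y m => ?_)
      · have := ((hbij Y.right).2 Y.hom).choose_spec
        simp only [StructuredArrow.mk_hom_eq_self, Functor.id_obj, Category.id_comp]
        exact this
      · apply StructuredArrow.hom_ext
        apply (hbij Y.right).1
        have h1 := ((hbij Y.right).2 Y.hom).choose_spec
        have h2 := StructuredArrow.w m
        simp only [StructuredArrow.mk_hom_eq_self, Category.id_comp] at h2
        exact h2.trans h1.symm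
    show HasLimit _
    infer_instance
  infer_instance

end LDer

/-- **derived base change exists along every ring map** -/
theorem hasLBaseChange_general {A B : Type u} [CommRing A] [CommRing B] (φ : A →+* B) :
    DRing.HasLBaseChange φ :=
  hasLeftDerivedFunctor_of_kproj _

section Main'

variable {R A R' A' : Type u} [CommRing R] [CommRing A] [CommRing R'] [CommRing A']
  [Algebra R A] [Algebra R R'] [Algebra A A'] [Algebra R' A'] [Algebra R A']
  [IsScalarTower R A A'] [IsScalarTower R R' A'] [Algebra.IsPushout R R' A A']

/-- base change for trivial duality: `A` represented by a strictly perfect complex and chain level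
tor independence -/
theorem isIso_bcMap_of_perfCx (hTI : TorIndepCx (algebraMap R A) (algebraMap R R'))
    (E : DRing.Cx R) (a b : ℤ) (hE : DRing.VanishesOutside E a b)
    (hfp : DRing.TermwiseFiniteProjective E) (e' : (Q.obj E : Dual.D R) ≅ Q.obj (A0 R A))
    [DRing.HasLBaseChange (algebraMap R R')] [DRing.HasLBaseChange (algebraMap A A')]
    (adjρ : DRing.LBaseChange (algebraMap R R') ⊣ DRing.restrictD (algebraMap R R'))
    (adjα : DRing.LBaseChange (algebraMap A A') ⊣ DRing.restrictD (algebraMap A A'))
    (h : (algebraMap A A').comp (algebraMap R A) = (algebraMap R' A').comp (algebraMap R R'))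
    (Rφ : Dual.D R ⥤ Dual.D A) (adj : DRing.restrictD (algebraMap R A) ⊣ Rφ)
    (Rφ' : Dual.D R' ⥤ Dual.D A') (adj' : DRing.restrictD (algebraMap R' A') ⊣ Rφ')
    (K : Dual.D R) (hc : IsIso (TrivBC.cmp adjρ adjα h (Rφ.obj K))) :
    IsIso (TrivBC.bcMap adjρ adjα h adj adj' K hc) := by
  haveI : E.IsStrictlyLE b := by
    rw [CochainComplex.isStrictlyLE_iff]
    exact fun i hi => hE i (Or.inr hi)
  haveI : ∀ n, Projective (E.X n) := fun n => by
    haveI := (hfp n).2
    infer_instance
  haveI : E.IsKProjective := CochainComplex.isKProjective_of_projective E b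
  obtain ⟨π, hπ, -⟩ := Groth.Agent.PerfectCx.exists_quasiIso_of_iso E (A0 R A) e'
  haveI := hπ
  have hEkf : KF R E := kf_of_vanishesAbove E b (fun i hi => hE i (Or.inr hi)) (fun i => by
    haveI := (hfp i).2
    exact Module.Flat.of_projective)
  haveI : QuasiIso ((DTen.extCx (algebraMap R R')).map π) :=
    quasiIso_ext_of_torIndepCx h adjρ adjα hTI E hEkf π
  haveI : QuasiIso (piPrime (R' := R') (A' := A') E π) := by
    unfold piPrime
    infer_instance
  exact isIso_bcMap_of_bc h adjρ adjα E π (piPrime E π) (piPrime_hC E π) adj adj'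
    (fun K' => isIso_bc (algebraMap R R') E adjρ
      (fun N => isIso_kappa (algebraMap R R') E N a b hE hfp)
      (fun N hN => Groth.Agent.Lib.HomKFlat.PK_of_bounded_finite_projective hN E a b hE hfp) K')
    K hc

end Main'

section FlatTI

/-- `A` over `R` as the restriction of `A` over `P` -/
noncomputable def resOfEquiv {R P A : Type u} [CommRing R] [CommRing P] [CommRing A]
    [Algebra R P] [Algebra P A] [Algebra R A] [IsScalarTower R P A] :
    A ≃ₗ[R] ((ModuleCat.restrictScalars.{u} (algebraMap R P)).obj (ModuleCat.of P A)) where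
  toFun a := a
  invFun a := a
  map_add' _ _ := rfl
  map_smul' r a := (algebraMap_smul P r (a : A)).symm
  left_inv _ := rfl
  right_inv _ := rfl

/-- **tor independence from flatness**: if `A` is a `P`-algebra, flat over `R`, with `P` flat over
`R`, then `A` and `P'' = P ⊗_R R'` are tor independent over `P`. -/
theorem torIndepCx_of_flat_pushout (R P R' P'' A : Type u) [CommRing R] [CommRing P]
    [CommRing R'] [CommRing P''] [CommRing A]
    [Algebra R P] [Algebra R R'] [Algebra P P''] [Algebra R' P''] [Algebra R P'']
    [IsScalarTower R P P''] [IsScalarTower R R' P''] [Algebra.IsPushout R R' P P'']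
    [Algebra P A] [Algebra R A] [IsScalarTower R P A] [Module.Flat R P] [Module.Flat R A] :
    TorIndepCx (algebraMap P A) (algebraMap P P'') := by
  have h0 : (algebraMap P P'').comp (algebraMap R P) = (algebraMap R' P'').comp (algebraMap R R') := by
    rw [← IsScalarTower.algebraMap_eq R P P'', ← IsScalarTower.algebraMap_eq R R' P'']
  let Pr := ProjectiveResolution.of (ModuleCat.of P A)
  let N : DRing.Cx P := Pr.cochainComplex
  have hb : DRing.VanishesAbove N 0 := fun i hi => CochainComplex.isZero_of_isStrictlyLE N 0 i hi
  have hflat : ∀ i, Module.Flat P (N.X i) := fun i => by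
    haveI : Module.Projective P (N.X i) :=
      (IsProjective.iff_projective (N.X i)).2 (inferInstance : Projective (Pr.cochainComplex.X i))
    exact Module.Flat.of_projective
  let π₀ : N ⟶ (HomologicalComplex.single (ModuleCat.{u} P) (ComplexShape.up ℤ) 0).obj
    (ModuleCat.of P A) := Pr.π'
  haveI : QuasiIso π₀ := inferInstanceAs (QuasiIso Pr.π')
  -- K-flatness over `R`
  have hkN : KF R ((DTen.resCx (algebraMap R P)).obj N) :=
    kf_of_vanishesAbove _ 0
      (fun i hi => Functor.map_isZero (ModuleCat.restrictScalars.{u} (algebraMap R P)) (hb i hi))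
      (fun i => flat_restrictScalars (N.X i) (hflat i))
  have hkA : KF R ((DTen.resCx (algebraMap R P)).obj
      ((HomologicalComplex.single (ModuleCat.{u} P) (ComplexShape.up ℤ) 0).obj
        (ModuleCat.of P A))) := by
    refine kf_of_vanishesAbove _ 0 (fun i hi => Functor.map_isZero
      (ModuleCat.restrictScalars.{u} (algebraMap R P))
        (HomologicalComplex.isZero_single_obj_X _ 0 _ i (by omega))) (fun i => ?_)
    by_cases hi : i = 0
    · subst hi
      have e1 : ((ModuleCat.restrictScalars.{u} (algebraMap R P)).obj (ModuleCat.of P A)) ≃ₗ[R]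
          ((ModuleCat.restrictScalars.{u} (algebraMap R P)).obj
            (((HomologicalComplex.single (ModuleCat.{u} P) (ComplexShape.up ℤ) 0).obj
              (ModuleCat.of P A)).X 0)) :=
        ((ModuleCat.restrictScalars.{u} (algebraMap R P)).mapIso
          (HomologicalComplex.singleObjXSelf (ComplexShape.up ℤ) 0
            (ModuleCat.of P A)).symm).toLinearEquiv
      exact Module.Flat.of_linearEquiv ((resOfEquiv (R := R) (P := P) (A := A)).trans e1).symm
    · exact flat_of_isZero _ (Functor.map_isZero (ModuleCat.restrictScalars.{u} (algebraMap R P))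
        (HomologicalComplex.isZero_single_obj_X (ComplexShape.up ℤ) 0 _ i hi))
  haveI : QuasiIso ((DTen.resCx (algebraMap R P)).map π₀) := inferInstance
  haveI hq1 : QuasiIso ((DTen.extCx (algebraMap R R')).map ((DTen.resCx (algebraMap R P)).map π₀)) :=
    quasiIso_ext_of_kf (A := R') hkN hkA _
  have hnat := (poCx h0).naturality π₀
  dsimp only [Functor.comp_obj, Functor.comp_map] at hnat
  haveI hq2 : QuasiIso ((DTen.resCx (algebraMap R' P'')).map
      ((DTen.extCx (algebraMap P P'')).map π₀)) := by
    have h2 : (DTen.resCx (algebraMap R' P'')).map ((DTen.extCx (algebraMap P P'')).map π₀) =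
        inv ((poCx h0).app N) ≫
          (DTen.extCx (algebraMap R R')).map ((DTen.resCx (algebraMap R P)).map π₀) ≫
            (poCx h0).app _ := by
      rw [hnat, IsIso.inv_hom_id_assoc]
    rw [h2]
    infer_instance
  haveI hq3 : QuasiIso ((DTen.extCx (algebraMap P P'')).map π₀) :=
    (HomologicalComplex.quasiIso_map_iff_of_preservesHomology _
      (ModuleCat.restrictScalars.{u} (algebraMap R' P''))).1 hq2
  refine ⟨N, 0, π₀ ≫ (singleResIso P A).hom, hb, hflat, inferInstance, ?_⟩
  rw [Functor.map_comp]
  infer_instance

end FlatTI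

end Groth.Agent.Lib.TrivBCH6
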