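import Mathlib
import Groth.Prelude.Def_DRing2
import Groth.Prelude.Def_DDual2
import Groth.Prelude.Def_Wider
import Groth.Prelude.Def_CAlg
import Groth.Prelude.Def_DualSh
import Groth.Agent.Lib.CMFib1_helper6
import Groth.Agent.Lib.ShriekNorm_helper2
import Groth.Agent.Lib.DualExist1_helper2
import Groth.Agent.Lib.TrivBC14_helper6

/-!
# Cohen–Macaulay fibres and `φ^!` (helper6), part 2: a finite type algebra `C` over a field `k` is
Cohen–Macaulay and equidimensional of dimension `n` iff `φ^!(k)` lives in degree `-n`.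
-/

set_option autoImplicit false
set_option linter.style.haveILetI false
set_option linter.unusedSectionVars false
set_option linter.unusedVariables false
universe u
open CategoryTheory CategoryTheory.Limits DerivedCategory Pretriangulated ZeroObject
open scoped Pointwise TensorProduct
attribute [local instance] HasDerivedCategory.standard

namespace Groth.Agent.Lib.CMFibH6

open DRing Groth.Agent.ExtendScalarsLib Groth.Agent.Lib.DMod_helper6 Groth.Agent.Lib.TrivBCH6

section Field

variable (k : Type u) [Field k]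

theorem isDualizing_inD_field : Dual.IsDualizing k (Dual.inD k k) :=
  Groth.Agent.Lib.DualExist.isDualizing_self_of_isRegularLocalRing k

theorem isNormalized_inD_field : Dual.IsNormalized k (Dual.inD k k) := by
  intro i hi
  rcases lt_or_gt_of_ne hi with h | h
  · exact Groth.Agent.Lib.ShriekLowH6.subsingleton_hom_inD_shift_of_neg _ _ i h
  · refine subsingleton_of_forall_eq 0 (fun g => ?_)
    haveI : DerivedCategory.IsLE ((Dual.inD k k)⟦i⟧) (-i) :=
      TStructure.t.isLE_shift (Dual.inD k k) 0 i (-i) (by omega)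
    haveI : DerivedCategory.IsLE ((Dual.inD k k)⟦i⟧) (-1) :=
      TStructure.t.isLE_of_le _ (-i) (-1) (by omega)
    exact hom_single_eq_zero_of_isLE (ModuleCat.of k (IsLocalRing.ResidueField k))
      (Module.Projective.of_free) 0 (-1) (by omega) _ g

end Field

section Shriek

variable (k C : Type u) [Field k] [CommRing C] [IsNoetherianRing C] [Algebra k C] (n' : ℕ)
  (ψ : MvPolynomial (Fin n') k →ₐ[k] C) (hψ : Function.Surjective ψ)
  [DRing.HasLBaseChange (algebraMap k (MvPolynomial (Fin n') k))]
  (Rψ : Dual.D (MvPolynomial (Fin n') k) ⥤ Dual.D C) (adj : DRing.restrictD ψ.toRingHom ⊣ Rψ)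

include hψ adj in
theorem isDualizing_shriekVia_field :
    Dual.IsDualizing C (Dual2.shriekVia n' Rψ (Dual.inD k k)) :=
  Groth.Agent.Lib.PolyDual.S1782_main k C n' ψ hψ Rψ adj (Dual.inD k k) (isDualizing_inD_field k)

include hψ adj in
/-- `φ^!(k)` is normalized at every maximal ideal. -/
theorem hnorm_shriekVia_field (m : Ideal C) (hm : m.IsMaximal) (i : ℤ) (hi : i ≠ 0) :
    Subsingleton (Dual.inD C (C ⧸ m) ⟶ (Dual2.shriekVia n' Rψ (Dual.inD k k))⟦i⟧) := by
  haveI := hm
  set ω := Dual2.shriekVia n' Rψ (Dual.inD k k) with hωdef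
  have hω : Dual.IsDualizing C ω := isDualizing_shriekVia_field k C n' ψ hψ Rψ adj
  haveI : DRing.HasLBaseChange (algebraMap C (Localization.AtPrime m)) := hasLBaseChange_general _
  have hcomap : m.comap (algebraMap k C) = IsLocalRing.maximalIdeal k := by
    rw [IsLocalRing.maximalIdeal_eq_bot]
    rcases Ideal.eq_bot_or_top (m.comap (algebraMap k C)) with h | h
    · exact h
    · exact absurd h (Ideal.comap_ne_top _ hm.ne_top)
  obtain ⟨-, hn⟩ := Groth.Agent.Lib.ShriekNorm.S1789_main k C n' ψ hψ Rψ adj m hcomap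
    (Dual.inD k k) (isDualizing_inD_field k) (isNormalized_inD_field k)
  haveI : Module.Flat C (Localization.AtPrime m) := IsLocalization.flat _ m.primeCompl
  obtain ⟨c⟩ := nonempty_lBaseChange_iso_bcD (A := C) (B := Localization.AtPrime m)
  haveI := isNoetherianRing_atPrime m
  have hn' : Dual.IsNormalized (Localization.AtPrime m) (locD ω m) := by
    intro j hj
    exact (subsingleton_hom_iso_right
      ((shiftFunctor (Dual.D (Localization.AtPrime m)) j).mapIso (c.app ω))).1 (hn j hj)
  have hnt0 := nontrivial_hom_residueField (locD ω m) (isDualizing_locD ω m hω) hn'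
  have hmem := (mem_support_hom_quot_iff ω m hω 0).2 hnt0
  have hnt : Nontrivial (Dual.inD C (C ⧸ m) ⟶ ω⟦(0 : ℤ)⟧) := nontrivial_of_mem_support hmem
  exact subsingleton_hom_quot_of_ne ω hω m 0 i hnt hi

include hψ adj in
/-- **Field case.** `C` of finite type over a field `k` is Cohen–Macaulay with all minimal primes
of coheight `n` iff `φ^!(k)` has cohomology only in degree `-n`. -/
theorem cm_equidim_iff_shriekVia_field (n : ℕ) :
    (LocCoh.IsCohenMacaulayRing C ∧ ∀ Q : PrimeSpectrum C, Q.asIdeal ∈ minimalPrimes C →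
      Order.coheight Q = (n : ℕ∞)) ↔
      ∀ i : ℤ, i ≠ -(n : ℤ) →
        Subsingleton (Dual.HD C (Dual2.shriekVia n' Rψ (Dual.inD k k)) i) :=
  cm_equidim_iff_HD_single _ (isDualizing_shriekVia_field k C n' ψ hψ Rψ adj)
    (hnorm_shriekVia_field k C n' ψ hψ Rψ adj) n

end Shriek

end Groth.Agent.Lib.CMFibH6
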