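import Mathlib
import Groth.Prelude.Def_DRing2
import Groth.Prelude.Def_DDual2
import Groth.Prelude.Def_Wider
import Groth.Agent.Lib.DMod52_helper6
import Groth.Agent.Lib.DMod49_helper6
import Groth.Agent.Lib.DMod25_helper6

/-!
# Cohen–Macaulay fibres and `φ^!` (helper6), part 3: top degree base change and vanishing of the
cohomology above a degree from the fibres.
-/

set_option autoImplicit false
set_option linter.style.haveILetI false
set_option linter.unusedSectionVars false
set_option linter.unusedVariables false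
universe u
open CategoryTheory CategoryTheory.Limits DerivedCategory Pretriangulated ZeroObject
open scoped Pointwise TensorProduct
attribute [local instance] HasDerivedCategory.standard

namespace Groth.Agent.Lib.CMFibH6

open DRing Groth.Agent.ExtendScalarsLib Groth.Agent.Lib.DMod_helper6

section TopDegree

variable {B B' : Type u} [CommRing B] [CommRing B'] [Algebra B B']

/-- **Top degree base change.** If `H^i(K) = 0` for `i > c` and `H^c(K ⊗^L_B B') = 0` then
`B' ⊗_B H^c(K) = 0`. -/
theorem subsingleton_tensor_HD_top [HasLBaseChange (algebraMap B B')] (K : Dual.D B) (E : Cx B)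
    (b : ℤ) (hE : VanishesAbove E b) (hEf : TermwiseFlat E) (e : toD E ≅ K) (c : ℤ)
    (hvan : ∀ i, c < i → Subsingleton (Dual.HD B K i))
    (h : Subsingleton (Dual.HD B' ((LBaseChange (algebraMap B B')).obj K) c)) :
    Subsingleton (B' ⊗[B] Dual.HD B K c) := by
  have hex : ∀ i, c < i → E.ExactAt i := fun i hi => (exactAt_iff_subsingleton_HD e i).2 (hvan i hi)
  obtain ⟨T, ι, hι, hT0, hT1, ⟨eT⟩⟩ := exists_top_trunc E c hex
  have hTb : VanishesAbove T c := hT0
  have hker : Module.Flat B (LinearMap.ker (E.d c (c + 1)).hom) :=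
    ker_prop_of_exact_above (fun (M : Type u) [AddCommGroup M] [Module B M] => Module.Flat B M)
      (fun M _ _ hM => by haveI := hM; infer_instance)
      (fun M M'' _ _ _ _ g hg h1 h2 => flat_ker g hg h1 h2)
      E b c hE hEf hex (b + 1 - c).toNat c le_rfl (by omega)
  have hTf : TermwiseFlat T := by
    intro i
    rcases lt_trichotomy i c with hi | hi | hi
    · obtain ⟨e1⟩ := hT1 i hi
      haveI := hEf i
      exact Module.Flat.of_linearEquiv e1.toLinearEquiv
    · subst hi
      haveI := hker
      exact Module.Flat.of_linearEquiv eT.toLinearEquiv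
    · exact flat_of_isZero _ (hT0 i hi)
  haveI := hι
  let eTK : toD T ≅ K := asIso (Q.map ι) ≪≫ e
  obtain ⟨eL⟩ := nonempty_lBaseChange_iso_of_flat (algebraMap B B') T c hTb hTf
  let e1 : toD (((ModuleCat.extendScalars.{u, u, u} (algebraMap B B')).mapHomologicalComplex
      (ComplexShape.up ℤ)).obj T) ≅ (LBaseChange (algebraMap B B')).obj K :=
    eL.symm ≪≫ (LBaseChange (algebraMap B B')).mapIso eTK
  have hexES := (exactAt_iff_subsingleton_HD e1 c).2 h
  have hfe := function_exact_of_exactAt _ (c - 1) c (c + 1) (by omega) rfl hexES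
  have hfe' : Function.Exact ((T.d (c - 1) c).hom.lTensor B') ((T.d c (c + 1)).hom.lTensor B') :=
    (exact_ES_map_iff (B := B') (T.d (c - 1) c) (T.d c (c + 1))).1 hfe
  have hd0 : T.d c (c + 1) = 0 := (hT0 (c + 1) (by omega)).eq_of_tgt _ _
  have hsurj : Function.Surjective ((T.d (c - 1) c).hom.lTensor B') := by
    intro y
    have hy : ((T.d c (c + 1)).hom.lTensor B') y = 0 := by
      rw [hd0]
      simp
    exact (hfe' y).1 hy
  -- the quotient map onto the cohomology
  let q : T.X c ⟶ T.homology c := (T.iCyclesIso c (c + 1) (by simp) hd0).inv ≫ T.homologyπ c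
  have hq : Function.Surjective q.hom := by
    haveI : Epi q := epi_comp _ _
    exact (ModuleCat.epi_iff_surjective q).1 inferInstance
  have hqd : T.d (c - 1) c ≫ q = 0 := by
    have h1 : T.d (c - 1) c ≫ (T.iCyclesIso c (c + 1) (by simp) hd0).inv = T.toCycles (c - 1) c := by
      rw [Iso.comp_inv_eq]
      exact (T.toCycles_i (c - 1) c).symm
    show T.d (c - 1) c ≫ (T.iCyclesIso c (c + 1) (by simp) hd0).inv ≫ T.homologyπ c = 0
    rw [← Category.assoc, h1, HomologicalComplex.toCycles_comp_homologyπ]
  have hqd' : q.hom ∘ₗ (T.d (c - 1) c).hom = 0 := by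
    have := congrArg ModuleCat.Hom.hom hqd
    simpa using this
  have hsub : Subsingleton (B' ⊗[B] T.homology c) := by
    refine subsingleton_of_forall_eq 0 (fun t => ?_)
    obtain ⟨t₁, rfl⟩ := LinearMap.lTensor_surjective B' hq t
    obtain ⟨s, rfl⟩ := hsurj t₁
    rw [← LinearMap.comp_apply, ← LinearMap.lTensor_comp, hqd', LinearMap.lTensor_zero,
      LinearMap.zero_apply]
  let e' : T.homology c ≅ (DerivedCategory.homologyFunctor (ModuleCat.{u} B) c).obj K :=
    ((homologyFunctorFactors (ModuleCat.{u} B) c).app T).symm ≪≫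
      (DerivedCategory.homologyFunctor _ c).mapIso eTK
  exact (LinearEquiv.lTensor B' e'.toLinearEquiv).symm.toEquiv.subsingleton

end TopDegree

section Fibre

/-- base change of a vanishing tensor product along a compatible ring map -/
lemma subsingleton_tensor_of_ringHom {B S T : Type u} [CommRing B] [CommRing S] [CommRing T]
    [Algebra B S] [Algebra B T] (g : S →+* T)
    (hg : ∀ b : B, g (algebraMap B S b) = algebraMap B T b)
    (H : Type u) [AddCommGroup H] [Module B H] (h : Subsingleton (S ⊗[B] H)) :
    Subsingleton (T ⊗[B] H) := by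
  let gl : S →ₗ[B] T :=
    { toFun := g
      map_add' := map_add g
      map_smul' := fun b x => by
        simp only [Algebra.smul_def, map_mul, hg, RingHom.id_apply] }
  refine subsingleton_of_forall_eq 0 (fun x => ?_)
  induction x using TensorProduct.induction_on with
  | zero => rfl
  | tmul t y =>
    have h1 : (1 : T) ⊗ₜ[B] y = 0 := by
      have h2 : (gl.rTensor H) ((1 : S) ⊗ₜ[B] y) = (1 : T) ⊗ₜ[B] y := by
        rw [LinearMap.rTensor_tmul]
        show g 1 ⊗ₜ[B] y = _
        rw [map_one]
      rw [← h2, Subsingleton.elim ((1 : S) ⊗ₜ[B] y) 0, map_zero]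
    have h3 : t ⊗ₜ[B] y = t • ((1 : T) ⊗ₜ[B] y) := by
      rw [TensorProduct.smul_tmul', smul_eq_mul, mul_one]
    rw [h3, h1, smul_zero]
  | add x y hx hy => rw [hx, hy, add_zero]

attribute [local instance] Algebra.TensorProduct.rightAlgebra

/-- a finite module over an `A`-algebra `B` all of whose fibres over `Spec A` vanish is zero -/
theorem subsingleton_of_forall_fibre_tensor (A B : Type u) [CommRing A] [CommRing B] [Algebra A B]
    (H : Type u) [AddCommGroup H] [Module B H] [Module.Finite B H]
    (h : ∀ p : PrimeSpectrum A, Subsingleton ((p.asIdeal.ResidueField ⊗[A] B) ⊗[B] H)) :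
    Subsingleton H := by
  by_contra hne
  rw [not_subsingleton_iff_nontrivial] at hne
  obtain ⟨q, hq⟩ := Module.nonempty_support_of_nontrivial (R := B) (M := H)
  have hnt := (Module.mem_support_iff_nontrivial_residueField_tensorProduct q).1 hq
  let p : PrimeSpectrum A := PrimeSpectrum.comap (algebraMap A B) q
  have hpq : p.asIdeal = q.asIdeal.comap (Algebra.ofId A B).toRingHom := rfl
  let f₁ : p.asIdeal.ResidueField →ₐ[A] q.asIdeal.ResidueField :=
    Ideal.ResidueField.mapₐ p.asIdeal q.asIdeal (Algebra.ofId A B) hpq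
  let f₂ : B →ₐ[A] q.asIdeal.ResidueField := IsScalarTower.toAlgHom A B q.asIdeal.ResidueField
  let g : (p.asIdeal.ResidueField ⊗[A] B) →ₐ[A] q.asIdeal.ResidueField :=
    Algebra.TensorProduct.productMap f₁ f₂
  have hg : ∀ b : B, g.toRingHom (algebraMap B (p.asIdeal.ResidueField ⊗[A] B) b) =
      algebraMap B q.asIdeal.ResidueField b := by
    intro b
    show g ((1 : p.asIdeal.ResidueField) ⊗ₜ[A] b) = _
    rw [Algebra.TensorProduct.productMap_apply_tmul, map_one, one_mul]
    rfl
  have := subsingleton_tensor_of_ringHom g.toRingHom hg H (h p)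
  exact (not_subsingleton_iff_nontrivial.2 hnt) this

end Fibre

end Groth.Agent.Lib.CMFibH6
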