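import Mathlib
import Groth.Prelude.Def_DRing2
import Groth.Prelude.Def_DDual2
import Groth.Prelude.Def_Wider
import Groth.Agent.Lib.DMod83_helper6
import Groth.Agent.Lib.ShriekLci2_helper6
import Groth.Agent.Lib.ShriekLow4_helper6

/-!
# `Ext^k_P(B, N)` as the cohomology of `RHom_P(B, N)` (helper6), for S11365.
-/

set_option autoImplicit false
universe u
open CategoryTheory CategoryTheory.Limits DerivedCategory Pretriangulated
attribute [local instance] HasDerivedCategory.standard

namespace Groth.Agent.Lib.ExtInvH6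

open DRing Groth.Agent.Lib.DMod_helper6 Groth.Agent.Lib.ShriekLciH6 Groth.Agent.Lib.ShriekLowH6

section Semilinear

variable {P B : Type u} [CommRing P] [CommRing B] [Algebra P B]

/-- a semilinear bijection is a linear equivalence after restriction of scalars -/
noncomputable def restrictEquivOfSemilinear {M : Type*} {N : Type*} [AddCommGroup M] [Module B M]
    [AddCommGroup N] [Module P N] (Θ : M ≃ N) (hadd : ∀ x y, Θ (x + y) = Θ x + Θ y)
    (hsmul : ∀ (a : P) (x : M), Θ (algebraMap P B a • x) = a • Θ x) :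
    RestrictScalars P B M ≃ₗ[P] N where
  toFun := fun x => Θ ((RestrictScalars.addEquiv P B M) x)
  map_add' := fun x y => by rw [map_add, hadd]
  map_smul' := fun a x => by
    rw [RingHom.id_apply, RestrictScalars.smul_def, AddEquiv.apply_symm_apply, hsmul]
  invFun := fun y => (RestrictScalars.addEquiv P B M).symm (Θ.symm y)
  left_inv := fun x => by simp
  right_inv := fun y => by simp

end Semilinear

section Ext

variable {P B : Type u} [CommRing P] [CommRing B] [Algebra P B]

/-- `B`, as a `P`-module through the algebra structure, is the restriction of scalars of `B`. -/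
noncomputable def selfRestrictEquiv :
    B ≃ₗ[P] ((ModuleCat.restrictScalars (algebraMap P B)).obj (ModuleCat.of B B)) where
  toFun := fun b => (b : B)
  map_add' := fun _ _ => rfl
  map_smul' := fun a b => by
    show a • b = algebraMap P B a • (b : B)
    rw [Algebra.smul_def, smul_eq_mul]
  invFun := fun b => (b : B)
  left_inv := fun _ => rfl
  right_inv := fun _ => rfl

lemma homEquiv_symm_add (R : Dual.D P ⥤ Dual.D B) (adj : restrictD (algebraMap P B) ⊣ R)
    (Y : Dual.D B) (K : Dual.D P) (h h' : Y ⟶ R.obj K) :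
    (adj.homEquiv Y K).symm (h + h') = (adj.homEquiv Y K).symm h + (adj.homEquiv Y K).symm h' := by
  rw [Equiv.symm_apply_eq, homEquiv_add, Equiv.apply_symm_apply, Equiv.apply_symm_apply]

/-- `H^k(RHom_P(B, ω)) ≃ Hom_{D(P)}(B, ω[k])`, `P`-linearly. -/
theorem nonempty_restrictScalars_HD_rightAdjoint_linearEquiv
    (R : Dual.D P ⥤ Dual.D B) (adj : restrictD (algebraMap P B) ⊣ R) (ω : Dual.D P) (k : ℤ) :
    Nonempty (RestrictScalars P B (Dual.HD B (R.obj ω) k) ≃ₗ[P] (Dual.inD P B ⟶ ω⟦k⟧)) := by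
  letI := adj.rightAdjointCommShift ℤ
  let c : R.obj (ω⟦k⟧) ≅ (R.obj ω)⟦k⟧ := (R.commShiftIso k).app ω
  let X : Dual.D B := Dual.inD B B
  let ε : Dual.inD P B ≅ (restrictD (algebraMap P B)).obj X :=
    (DerivedCategory.singleFunctor (ModuleCat.{u} P) 0).mapIso
      (selfRestrictEquiv (P := P) (B := B)).toModuleIso ≪≫
      (restrictDInDIso (algebraMap P B) (ModuleCat.of B B)).symm
  obtain ⟨e0⟩ := nonempty_hom_inD_shift_linearEquiv_HD (R.obj ω) k
  let Θ : (X ⟶ (R.obj ω)⟦k⟧) ≃ (Dual.inD P B ⟶ ω⟦k⟧) :=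
    (Iso.homCongr (Iso.refl X) c.symm).trans
      ((adj.homEquiv X (ω⟦k⟧)).symm.trans (Iso.homCongr ε.symm (Iso.refl (ω⟦k⟧))))
  have hΘ : ∀ f : X ⟶ (R.obj ω)⟦k⟧,
      Θ f = ε.hom ≫ (adj.homEquiv X (ω⟦k⟧)).symm (f ≫ c.inv) := by
    intro f
    simp only [Θ, Equiv.trans_apply, Iso.homCongr_apply, Iso.refl_inv, Iso.refl_hom,
      Category.id_comp, Category.comp_id, Iso.symm_hom, Iso.symm_inv]
  refine ⟨restrictEquivOfSemilinear (e0.symm.toEquiv.trans Θ) ?_ ?_⟩
  · intro x y
    show Θ (e0.symm (x + y)) = Θ (e0.symm x) + Θ (e0.symm y)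
    rw [map_add, hΘ, hΘ, hΘ, Preadditive.add_comp, homEquiv_symm_add, Preadditive.comp_add]
  · intro a x
    show Θ (e0.symm (algebraMap P B a • x)) = a • Θ (e0.symm x)
    rw [map_smul, hΘ, hΘ, Linear.smul_comp, homEquiv_symm_smul, Linear.comp_smul]

/-- `H^k(RHom_P(B, N)) ≃ Ext^k_P(B, N)`, `P`-linearly. -/
theorem nonempty_restrictScalars_HD_rightAdjoint_linearEquiv_ext
    (R : Dual.D P ⥤ Dual.D B) (adj : restrictD (algebraMap P B) ⊣ R)
    (N : Type u) [AddCommGroup N] [Module P N] (k : ℕ) :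
    Nonempty (RestrictScalars P B (Dual.HD B (R.obj (Dual.inD P N)) (k : ℤ)) ≃ₗ[P]
      Abelian.Ext (ModuleCat.of P B) (ModuleCat.of P N) k) := by
  obtain ⟨e⟩ := nonempty_restrictScalars_HD_rightAdjoint_linearEquiv R adj (Dual.inD P N) (k : ℤ)
  exact ⟨e.trans (Abelian.Ext.homLinearEquiv (X := ModuleCat.of P B) (Y := ModuleCat.of P N)
    (n := k)).symm⟩

/-- `H^k(RHom_P(B, N)) = 0` for `k < 0`. -/
theorem subsingleton_HD_rightAdjoint_of_neg
    (R : Dual.D P ⥤ Dual.D B) (adj : restrictD (algebraMap P B) ⊣ R)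
    (N : Type u) [AddCommGroup N] [Module P N] (k : ℤ) (hk : k < 0) :
    Subsingleton (Dual.HD B (R.obj (Dual.inD P N)) k) := by
  obtain ⟨e⟩ := nonempty_restrictScalars_HD_rightAdjoint_linearEquiv R adj (Dual.inD P N) k
  have := subsingleton_hom_inD_shift_of_neg (B := P) B N k hk
  exact ((RestrictScalars.addEquiv P B _).symm.toEquiv.trans e.toEquiv).subsingleton

end Ext

end Groth.Agent.Lib.ExtInvH6
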