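import Mathlib
import Groth.Agent.Lib.PDFibre1_helper8

/-!
# Projective dimension of a flat finitely presented module as the supremum over the fibres, part 2
-/

namespace Groth.Agent.Lib.PDFibreH8

open TensorProduct CategoryTheory

universe u

section Fibre

variable (A B : Type u) [CommRing A] [CommRing B] [Algebra A B] (k : Type u) [CommRing k]
  [Algebra A k]

attribute [local instance] Algebra.TensorProduct.rightAlgebra in
theorem fibre_injective {K F N : Type u} [AddCommGroup K] [AddCommGroup F] [AddCommGroup N]
    [Module B K] [Module B F] [Module B N] [Module A K] [Module A F] [Module A N]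
    [IsScalarTower A B K] [IsScalarTower A B F] [IsScalarTower A B N] [Module.Flat A N]
    (j : K →ₗ[B] F) (π : F →ₗ[B] N) (hj : Function.Injective j) (hπ : Function.Surjective π)
    (hex : Function.Exact j π) : Function.Injective (j.baseChange (B ⊗[A] k)) := by
  haveI : Algebra.IsPushout A k B (B ⊗[A] k) := TensorProduct.isPushout'
  exact FlatDescH8.baseChange_injective_of_flat (R₀ := A) k (S₀ := B) (B := B ⊗[A] k) j π hj hπ hex

theorem fibre_hasPDLT_succ_iff {K F N : Type u} [AddCommGroup K] [AddCommGroup F] [AddCommGroup N]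
    [Module B K] [Module B F] [Module B N] [Module A K] [Module A F] [Module A N]
    [IsScalarTower A B K] [IsScalarTower A B F] [IsScalarTower A B N] [Module.Flat A N]
    [Module.Projective B F]
    (j : K →ₗ[B] F) (π : F →ₗ[B] N) (hj : Function.Injective j) (hπ : Function.Surjective π)
    (hex : Function.Exact j π) (n : ℕ) :
    HasProjectiveDimensionLT (ModuleCat.of (B ⊗[A] k) ((B ⊗[A] k) ⊗[B] N)) (n + 2) ↔
      HasProjectiveDimensionLT (ModuleCat.of (B ⊗[A] k) ((B ⊗[A] k) ⊗[B] K)) (n + 1) := by
  refine hasPDLT_succ_iff (j.baseChange (B ⊗[A] k)) (π.baseChange (B ⊗[A] k))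
    (fibre_injective A B k j π hj hπ hex) ?_ ?_ n
  · exact LinearMap.lTensor_surjective (B ⊗[A] k) hπ
  · exact lTensor_exact (B ⊗[A] k) hex hπ

end Fibre

theorem subsingleton_of_fibres (A B N : Type u) [CommRing A] [CommRing B] [Algebra A B]
    [AddCommGroup N] [Module B N] [Module.Finite B N]
    (h : ∀ p : PrimeSpectrum A, Subsingleton ((B ⊗[A] p.asIdeal.ResidueField) ⊗[B] N)) :
    Subsingleton N := by
  by_contra hN
  rw [not_subsingleton_iff_nontrivial] at hN
  obtain ⟨q, hq⟩ := Module.nonempty_support_of_nontrivial (R := B) (M := N)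
  rw [Module.mem_support_iff_nontrivial_residueField_tensorProduct] at hq
  obtain ⟨p, hp⟩ : ∃ p : PrimeSpectrum A, p = q.comap (algebraMap A B) := ⟨_, rfl⟩
  have hpq : p.asIdeal = q.asIdeal.comap (Algebra.ofId A B).toRingHom := by
    rw [hp]; rfl
  let g : p.asIdeal.ResidueField →ₐ[A] q.asIdeal.ResidueField :=
    Ideal.ResidueField.mapₐ p.asIdeal q.asIdeal (Algebra.ofId A B) hpq
  let φ : B ⊗[A] p.asIdeal.ResidueField →ₐ[B] q.asIdeal.ResidueField :=
    Algebra.TensorProduct.lift (Algebra.ofId B q.asIdeal.ResidueField) g
      (fun _ _ => Commute.all _ _)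
  haveI := h p
  have h1 : ∀ n : N, (1 : q.asIdeal.ResidueField) ⊗ₜ[B] n = 0 := by
    intro n
    have h0 : ((1 : B ⊗[A] p.asIdeal.ResidueField) ⊗ₜ[B] n) = 0 := Subsingleton.elim _ _
    have := congrArg (φ.toLinearMap.rTensor N) h0
    rw [LinearMap.rTensor_tmul, map_zero] at this
    simpa using this
  have h2 : ∀ x : q.asIdeal.ResidueField ⊗[B] N, x = 0 := by
    intro x
    induction x with
    | zero => rfl
    | tmul d n =>
      have : d ⊗ₜ[B] n = d • ((1 : q.asIdeal.ResidueField) ⊗ₜ[B] n) := by
        rw [TensorProduct.smul_tmul', smul_eq_mul, mul_one]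
      rw [this, h1, smul_zero]
    | add x y hx hy => rw [hx, hy, add_zero]
  obtain ⟨x, y, hxy⟩ := hq
  exact hxy ((h2 x).trans (h2 y).symm)

/-- the key equivalence, by induction on the bound. -/
theorem hasPDLT_iff (A B : Type u) [CommRing A] [CommRing B] [Algebra A B]
    [Algebra.FinitePresentation A B] [Module.Flat A B] :
    ∀ (n : ℕ) (N : Type u) [AddCommGroup N] [Module B N] [Module A N] [IsScalarTower A B N]
      [Module.FinitePresentation B N] [Module.Flat A N],
      HasProjectiveDimensionLT (ModuleCat.of B N) n ↔
        ∀ p : PrimeSpectrum A, HasProjectiveDimensionLT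
          (ModuleCat.of (B ⊗[A] p.asIdeal.ResidueField)
            ((B ⊗[A] p.asIdeal.ResidueField) ⊗[B] N)) n := by
  intro n
  induction n with
  | zero =>
    intro N _ _ _ _ _ _
    simp only [hasProjectiveDimensionLT_zero_iff_isZero, ModuleCat.isZero_of_iff_subsingleton]
    constructor
    · intro h p
      infer_instance
    · intro h
      exact subsingleton_of_fibres A B N h
  | succ n ih =>
    intro N _ _ _ _ _ _
    cases n with
    | zero =>
      simp only [zero_add, ← projective_iff_hasProjectiveDimensionLT_one,
        ← IsProjective.iff_projective]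
      constructor
      · intro h p
        infer_instance
      · intro h
        haveI : Module.Flat B N := FibProjH8.flat_of_fibres A B N
          (fun p _ => h ⟨p, inferInstance⟩)
        exact Module.Flat.projective_of_finitePresentation
    | succ m =>
      obtain ⟨k, p, hp, hfp, hflat⟩ := exists_syzygy A B N
      haveI := hfp
      haveI := hflat
      rw [hasPDLT_succ_iff (LinearMap.ker p).subtype p (LinearMap.ker p).subtype_injective hp
        (LinearMap.exact_subtype_ker_map p) m, ih (LinearMap.ker p)]
      refine forall_congr' fun 𝔭 => ?_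
      exact (fibre_hasPDLT_succ_iff A B 𝔭.asIdeal.ResidueField (LinearMap.ker p).subtype p
        (LinearMap.ker p).subtype_injective hp (LinearMap.exact_subtype_ker_map p) m).symm

/-- **Projective dimension is the supremum of the projective dimensions of the fibres.** -/
theorem projectiveDimension_eq_iSup_fibre (A B M : Type u) [CommRing A] [CommRing B] [Algebra A B]
    [Algebra.FinitePresentation A B] [Module.Flat A B] [AddCommGroup M] [Module B M] [Module A M]
    [IsScalarTower A B M] [Module.FinitePresentation B M] [Module.Flat A M] :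
    projectiveDimension (ModuleCat.of B M) =
      ⨆ p : PrimeSpectrum A, projectiveDimension
        (ModuleCat.of (B ⊗[A] p.asIdeal.ResidueField)
          ((B ⊗[A] p.asIdeal.ResidueField) ⊗[B] M)) := by
  apply le_antisymm
  · apply le_of_forall_nat_lt
    intro n hn
    rw [projectiveDimension_lt_iff, hasPDLT_iff A B n M]
    intro p
    rw [← projectiveDimension_lt_iff]
    exact lt_of_le_of_lt (le_iSup (fun p : PrimeSpectrum A => projectiveDimension
        (ModuleCat.of (B ⊗[A] p.asIdeal.ResidueField)
          ((B ⊗[A] p.asIdeal.ResidueField) ⊗[B] M))) p) hn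
  · apply iSup_le
    intro p
    apply le_of_forall_nat_lt
    intro n hn
    rw [projectiveDimension_lt_iff, hasPDLT_iff A B n M] at hn
    rw [projectiveDimension_lt_iff]
    exact hn p

end Groth.Agent.Lib.PDFibreH8
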