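import Mathlib

set_option autoImplicit false
universe u

open CategoryTheory CategoryTheory.Limits

namespace PDTransportH8

section Cat

variable {C D : Type (u+1)} [Category.{u} C] [Category.{u} D] [Abelian C] [Abelian D]
  [EnoughProjectives C] (E : C ≌ D) [E.functor.Additive]

/-- An equivalence of abelian categories preserves projective dimension bounds. -/
theorem hasPDLT_iff : ∀ (n : ℕ) (X : C),
    HasProjectiveDimensionLT (E.functor.obj X) (n + 1) ↔ HasProjectiveDimensionLT X (n + 1) := by
  intro n
  induction n with
  | zero =>
    intro X
    rw [← projective_iff_hasProjectiveDimensionLT_one, ← projective_iff_hasProjectiveDimensionLT_one]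
    exact E.map_projective_iff X
  | succ n ih =>
    intro X
    let P := Projective.over X
    let π : P ⟶ X := Projective.π X
    let S : ShortComplex C := ShortComplex.mk (kernel.ι π) π (kernel.condition π)
    have hS : S.ShortExact :=
      { exact := ShortComplex.exact_of_f_is_kernel _ (kernelIsKernel π)
        mono_f := inferInstance
        epi_g := inferInstance }
    have hS' : (S.map E.functor).ShortExact := hS.map_of_exact E.functor
    have hP : Projective S.X₂ := inferInstanceAs (Projective (Projective.over X))
    have hP' : Projective (S.map E.functor).X₂ := (E.map_projective_iff _).mpr hP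
    have h1 := hS.hasProjectiveDimensionLT_X₃_iff n hP
    have h2 := hS'.hasProjectiveDimensionLT_X₃_iff n hP'
    change HasProjectiveDimensionLT (E.functor.obj X) (n + 2) ↔ HasProjectiveDimensionLT X (n + 2)
    have h1' : HasProjectiveDimensionLT X (n + 2) ↔ HasProjectiveDimensionLT S.X₁ (n + 1) := h1
    have h2' : HasProjectiveDimensionLT (E.functor.obj X) (n + 2) ↔
        HasProjectiveDimensionLT (E.functor.obj S.X₁) (n + 1) := h2
    rw [h1', h2']
    exact ih S.X₁

theorem projectiveDimension_eq (X : C) :
    projectiveDimension (E.functor.obj X) = projectiveDimension X := by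
  have hzero : IsZero (E.functor.obj X) ↔ IsZero X := by
    constructor
    · intro h
      exact (h.of_iso (Iso.refl _) |> fun h' =>
        (E.inverse.map_isZero h').of_iso (E.unitIso.app X))
    · intro h
      exact E.functor.map_isZero h
  have key : ∀ n : ℕ, projectiveDimension (E.functor.obj X) < n ↔ projectiveDimension X < n := by
    intro n
    rw [projectiveDimension_lt_iff, projectiveDimension_lt_iff]
    cases n with
    | zero =>
      rw [hasProjectiveDimensionLT_zero_iff_isZero, hasProjectiveDimensionLT_zero_iff_isZero]
      exact hzero
    | succ n => exact hasPDLT_iff E n X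
  apply le_antisymm
  · by_contra h
    rw [not_le] at h
    -- pd X < pd (E X): pd X is not top
    have hne : projectiveDimension X ≠ ⊤ := ne_top_of_lt h
    induction hX : projectiveDimension X using WithBot.recBotCoe with
    | bot =>
      rw [projectiveDimension_eq_bot_iff] at hX
      have := (projectiveDimension_eq_bot_iff _).mpr (hzero.mpr hX)
      rw [this] at h
      exact not_lt_bot h
    | coe a =>
      rw [hX] at hne h
      induction a using ENat.recTopCoe with
      | top => exact hne rfl
      | coe a =>
        have h1 : projectiveDimension X < ((a + 1 : ℕ) : WithBot ℕ∞) := by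
          rw [hX]; exact_mod_cast Nat.lt_succ_self a
        have h2 := (key (a + 1)).mpr h1
        have h3 : projectiveDimension (E.functor.obj X) ≤ ((a : ℕ) : WithBot ℕ∞) :=
          (projectiveDimension_le_iff _ a).mpr (projectiveDimension_lt_iff.mp h2)
        exact not_lt.mpr h3 h
  · by_contra h
    rw [not_le] at h
    have hne : projectiveDimension (E.functor.obj X) ≠ ⊤ := ne_top_of_lt h
    induction hX : projectiveDimension (E.functor.obj X) using WithBot.recBotCoe with
    | bot =>
      rw [projectiveDimension_eq_bot_iff] at hX
      have := (projectiveDimension_eq_bot_iff _).mpr (hzero.mp hX)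
      rw [this] at h
      exact not_lt_bot h
    | coe a =>
      rw [hX] at hne h
      induction a using ENat.recTopCoe with
      | top => exact hne rfl
      | coe a =>
        have h1 : projectiveDimension (E.functor.obj X) < ((a + 1 : ℕ) : WithBot ℕ∞) := by
          rw [hX]; exact_mod_cast Nat.lt_succ_self a
        have h2 := (key (a + 1)).mp h1
        have h3 : projectiveDimension X ≤ ((a : ℕ) : WithBot ℕ∞) :=
          (projectiveDimension_le_iff _ a).mpr (projectiveDimension_lt_iff.mp h2)
        exact not_lt.mpr h3 h

end Cat

/-- Projective dimension is invariant under semilinear isomorphisms. -/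
theorem pd_eq_of_semilinear {R R' : Type u} [CommRing R] [CommRing R'] (e : R ≃+* R')
    (M M' : Type u) [AddCommGroup M] [Module R M] [AddCommGroup M'] [Module R' M']
    (f : M ≃+ M') (hf : ∀ (r : R) (m : M), f (r • m) = e r • f m) :
    projectiveDimension (ModuleCat.of R M) = projectiveDimension (ModuleCat.of R' M') := by
  let E := ModuleCat.restrictScalarsEquivalenceOfRingEquiv e
  have h1 := projectiveDimension_eq E (ModuleCat.of R' M')
  rw [← h1]
  apply projectiveDimension_eq_of_iso
  change ModuleCat.of R M ≅ (ModuleCat.restrictScalars e.toRingHom).obj (ModuleCat.of R' M')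
  let g : M ≃ₗ[R] ((ModuleCat.restrictScalars e.toRingHom).obj (ModuleCat.of R' M')) :=
    { toFun := fun m => f m
      invFun := fun m' => f.symm m'
      left_inv := fun m => f.symm_apply_apply m
      right_inv := fun m' => f.apply_symm_apply m'
      map_add' := fun a b => f.map_add a b
      map_smul' := fun r m => hf r m }
  exact g.toModuleIso

end PDTransportH8
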