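import Mathlib
import Groth.Prelude.Def_CAlg
import Groth.Prelude.Def_EGA4b
import Groth.Agent.Lib.FlatCM2_helper9
import Groth.Agent.Lib.DepthLoc_helper5
import Groth.Agent.Lib.DepthRefl_helper5
import Groth.Agent.Lib.DimIneq_helper8

/-!
# Lower bound for the cohomology of `φ^!(R)` (helper6), part 2: commutative algebra.

* `exists_prime_depth_le_of_ext`: a nonzero `Ext^k_{P_Q}(P_Q/IP_Q, P_Q)` produces a prime
  `I ≤ Q' ≤ Q` with `depth P_{Q'} ≤ k`.
* `le_depth_mvPolynomial`: `n - trdeg(κ(Q')/κ(Q' ∩ R)) ≤ depth R[x_1..x_n]_{Q'}`.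
-/

set_option autoImplicit false
universe u
open CategoryTheory

namespace Groth.Agent.Lib.ShriekLowH6

open Groth.Agent.DepthLib Groth.Agent.FlatCM

section DepthPrime

variable (P : Type u) [CommRing P] [IsNoetherianRing P]

/-- a nonzero `Ext^k_{P_Q}(P_Q/IP_Q, P_Q)` produces a generization `Q'` of `Q` in `V(I)` with
`depth P_{Q'} ≤ k`. -/
theorem exists_prime_depth_le_of_ext (I Q : Ideal P) [Q.IsPrime] (k : ℕ)
    (h : ¬ Subsingleton (Abelian.Ext
      (ModuleCat.of (Localization.AtPrime Q)
        (Localization.AtPrime Q ⧸ I.map (algebraMap P (Localization.AtPrime Q))))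
      (ModuleCat.of (Localization.AtPrime Q) (Localization.AtPrime Q)) k)) :
    ∃ Q' : Ideal P, ∃ _ : Q'.IsPrime, I ≤ Q' ∧ Q' ≤ Q ∧
      ¬ (((k + 1 : ℕ) : ℕ∞) ≤
        LocCoh.depth (Localization.AtPrime Q') (Localization.AtPrime Q')) := by
  set B := Localization.AtPrime Q with hB
  set J := I.map (algebraMap P B) with hJ
  haveI : IsNoetherianRing B := IsLocalization.isNoetherianRing Q.primeCompl _ inferInstance
  have h1 : ¬ (((k + 1 : ℕ) : ℕ∞) ≤ LocCoh.idealDepth J B) := by
    intro hle
    exact h ((le_idealDepth_iff_ext J B (k + 1)).1 hle k (Nat.lt_succ_self k))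
  have h2 : ¬ ∀ (p : Ideal B) [p.IsPrime], J ≤ p → ((k + 1 : ℕ) : ℕ∞) ≤
      LocCoh.depth (Localization.AtPrime p) (LocalizedModule p.primeCompl B) := fun hall =>
    h1 (le_idealDepth_of_forall_localization J (k + 1) B hall)
  push Not at h2
  obtain ⟨p, hp, hJp, hdp⟩ := h2
  haveI := hp
  rw [depth_locSelf B p] at hdp
  refine ⟨p.comap (algebraMap P B), Ideal.comap_isPrime _ _, ?_, ?_, ?_⟩
  · exact Ideal.map_le_iff_le_comap.1 hJp
  · have hpm : p ≤ IsLocalRing.maximalIdeal B := IsLocalRing.le_maximalIdeal hp.ne_top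
    have hcm : (IsLocalRing.maximalIdeal B).comap (algebraMap P B) = Q :=
      Localization.AtPrime.under_maximalIdeal
    exact le_trans (Ideal.comap_mono hpm) hcm.le
  · haveI : (p.comap (algebraMap P B)).IsPrime := Ideal.comap_isPrime _ _
    have e : Localization.AtPrime (p.comap (algebraMap P B)) ≃+* Localization.AtPrime p :=
      (IsLocalization.localizationLocalizationAtPrimeIsoLocalization Q.primeCompl p).toRingEquiv
    haveI : IsNoetherianRing (Localization.AtPrime (p.comap (algebraMap P B))) :=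
      IsLocalization.isNoetherianRing (p.comap (algebraMap P B)).primeCompl _ inferInstance
    haveI : IsNoetherianRing (Localization.AtPrime p) :=
      IsLocalization.isNoetherianRing p.primeCompl _ inferInstance
    rw [depth_ringEquiv e]
    exact not_le.2 hdp

end DepthPrime

section Poly

variable (R : Type u) [CommRing R] [IsNoetherianRing R] (n : ℕ)

omit [IsNoetherianRing R] in
/-- the fibre rings of a polynomial ring are Cohen–Macaulay. -/
theorem isCMRing_fiber_mvPolynomial (p : Ideal R) [p.IsPrime] :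
    LocCoh.IsCohenMacaulayRing (p.Fiber (MvPolynomial (Fin n) R)) := by
  let e : p.Fiber (MvPolynomial (Fin n) R) ≃ₐ[p.ResidueField] MvPolynomial (Fin n) p.ResidueField :=
    MvPolynomial.scalarRTensorAlgEquiv
  have : IsNoetherianRing (p.Fiber (MvPolynomial (Fin n) R)) :=
    isNoetherianRing_of_ringEquiv _ e.symm.toRingEquiv
  have : IsRegularRing (p.Fiber (MvPolynomial (Fin n) R)) :=
    IsRegularRing.of_ringEquiv e.symm.toRingEquiv
  exact isCMRing_of_isRegularRing _

/-- `n - trdeg(κ(Q')/κ(Q' ∩ R)) ≤ depth R[x_1, …, x_n]_{Q'}`. -/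
theorem le_depth_mvPolynomial (p : Ideal R) [hp : p.IsPrime]
    (Q' : Ideal (MvPolynomial (Fin n) R)) [hQ' : Q'.IsPrime] [hl : Q'.LiesOver p] (r : ℕ)
    (hr : Algebra.trdeg (R ⧸ p) (MvPolynomial (Fin n) R ⧸ Q') = r) :
    ((n - r : ℕ) : ℕ∞) ≤
      LocCoh.depth (Localization.AtPrime Q') (Localization.AtPrime Q') := by
  have hpe : p = Q'.under R := hl.over
  subst hpe
  set S := MvPolynomial (Fin n) R with hS
  obtain ⟨r', hr', hsum⟩ := Groth.Agent.DimIneqH8.height_add_trdeg_mvPolynomial R n (Q'.under R) Q'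
  have hrr : r' = r := by
    have : (r' : Cardinal) = (r : Cardinal) := by rw [← hr', ← hr]
    exact_mod_cast this
  subst hrr
  obtain ⟨h1, h2⟩ := depth_dim_localization_eq_add R S Q'
  haveI : LocCoh.IsCohenMacaulayRing ((Q'.comap (algebraMap R S)).Fiber S) :=
    isCMRing_fiber_mvPolynomial R n _
  have hcm : LocCoh.IsCohenMacaulayLocalRing (EGA4.FibLocRing R S Q') :=
    isCM_fibLocRing_of_fiber R S Q'
  haveI : IsNoetherianRing (Localization.AtPrime Q') :=
    IsLocalization.isNoetherianRing Q'.primeCompl _ inferInstance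
  haveI : IsNoetherianRing (EGA4.FibLocRing R S Q') := inferInstance
  have h3 := (isCMLocalRing_iff (EGA4.FibLocRing R S Q')).1 hcm
  rw [IsLocalization.AtPrime.ringKrullDim_eq_height Q',
    IsLocalization.AtPrime.ringKrullDim_eq_height (Q'.under R), h3] at h2
  -- `ht Q' = ht p + depth(Fib)` and `ht Q' + r' = ht p + n`
  have h4 : Q'.height = (Q'.under R).height +
      LocCoh.depth (EGA4.FibLocRing R S Q') (EGA4.FibLocRing R S Q') := by
    exact_mod_cast h2
  obtain ⟨b, hb⟩ := ENat.ne_top_iff_exists.mp (Ideal.height_ne_top_of_isPrime (I := Q'.under R))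
  have h5 : ((n - r' : ℕ) : ℕ∞) ≤
      LocCoh.depth (EGA4.FibLocRing R S Q') (EGA4.FibLocRing R S Q') := by
    generalize LocCoh.depth (EGA4.FibLocRing R S Q') (EGA4.FibLocRing R S Q') = δ at h4 ⊢
    rw [h4, ← hb] at hsum
    induction δ with
    | top => exact le_top
    | coe c =>
      have : b + c + r' = b + n := by exact_mod_cast hsum
      have : n - r' ≤ c := by omega
      exact_mod_cast this
  rw [h1]
  exact h5.trans le_add_self

end Poly

end Groth.Agent.Lib.ShriekLowH6
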