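import Mathlib
import Groth.Prelude.Def_Flat
import Groth.Prelude.Def_Dual3
import Groth.Agent.Lib.FibCoh2_helper8
import Groth.Agent.Lib.ResTrdegSpec_helper8
import Groth.Agent.Lib.FibGen2_helper8

/-!
# Lower bound for the cohomology of `φ^!(R)` (helper6), part 3: the residual transcendence degree
at a generization is bounded by the fibre dimension.
-/

set_option autoImplicit false
universe u
open CategoryTheory AlgebraicGeometry

namespace Groth.Agent.Lib.ShriekLowH6

/-- `trdeg(κ(q')/κ(q' ∩ R)) ≤ dim_q (fibre)` for a generization `q'` of `q`. -/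
theorem trdeg_le_fibreDimAt (R A : Type u) [CommRing R] [CommRing A] [Algebra R A]
    [Algebra.FiniteType R A] (q' q : PrimeSpectrum A) (hle : q'.asIdeal ≤ q.asIdeal) (d r : ℕ)
    (hd : FlatMor.fibreDimAt (Spec.map (CommRingCat.ofHom (algebraMap R A))) q = d)
    (hr : Algebra.trdeg (R ⧸ q'.asIdeal.under R) (A ⧸ q'.asIdeal) = r) : r ≤ d := by
  set f := Spec.map (CommRingCat.ofHom (algebraMap R A)) with hf
  haveI : LocallyOfFiniteType f := by
    rw [hf, HasRingHomProperty.Spec_iff (P := @LocallyOfFiniteType)]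
    exact (RingHom.finiteType_algebraMap).mpr inferInstance
  have hsp : q' ⤳ q := (PrimeSpectrum.le_iff_specializes q' q).1 hle
  have h1 : FlatMor.fibreDimAt f q' ≤ FlatMor.fibreDimAt f q :=
    FibGenH8.fibreDimAt_le_of_specializes f hsp
  have h2 := FibCohH8.fibreDimAt_eq f q'
  have h3 : Dual3.resTrdeg f q' = (r : Cardinal.{u}) := by
    rw [← hr, hf]
    exact Groth.Agent.Lib.ResTrdegSpecH8.resTrdeg_spec (A := R) (C := A) q'.asIdeal
  rw [h3, Cardinal.toENat_nat] at h2
  rw [hd, h2, ← WithBot.coe_add] at h1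
  have h4 : (FibCohH8.fibCoh f q' : ℕ∞) + (r : ℕ∞) ≤ (d : ℕ∞) := by exact_mod_cast h1
  have h5 : (r : ℕ∞) ≤ (d : ℕ∞) := le_trans le_add_self h4
  exact_mod_cast h5

end Groth.Agent.Lib.ShriekLowH6
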