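import Mathlib
import Groth.Prelude.Def_DRing2
import Groth.Prelude.Def_DDual2
import Groth.Prelude.Def_Wider
import Groth.Prelude.Def_DualSh
import Groth.Agent.Lib.ShriekLow4_helper6

/-!
# Lower bound for the cohomology of `φ^!(R)` (helper6), part 5: identification of objects.
-/

set_option autoImplicit false
universe u
open CategoryTheory CategoryTheory.Limits DerivedCategory Pretriangulated ZeroObject
open scoped TensorProduct
attribute [local instance] HasDerivedCategory.standard

namespace Groth.Agent.Lib.ShriekLowH6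

open DRing Groth.Agent.Lib.DMod_helper6 Groth.Agent.ExtendScalarsLib

section Restrict

variable {P A : Type u} [CommRing P] [CommRing A] (φ : P →+* A)

/-- `A`, as a `P`-module, is `P / ker φ`. -/
noncomputable def resSelfEquiv (hφ : Function.Surjective φ) :
    (P ⧸ RingHom.ker φ) ≃ₗ[P] ((ModuleCat.restrictScalars φ).obj (ModuleCat.of A A)) := by
  let lin : P →ₗ[P] ((ModuleCat.restrictScalars φ).obj (ModuleCat.of A A)) :=
    { toFun := fun p => (φ p : A)
      map_add' := fun a a' => by
        show φ (a + a') = φ a + φ a'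
        rw [map_add]
      map_smul' := fun a a' => by
        show φ (a • a') = φ a • (φ a' : A)
        rw [smul_eq_mul, map_mul, smul_eq_mul] }
  have hle : RingHom.ker φ ≤ LinearMap.ker lin := fun a ha => by
    rw [LinearMap.mem_ker]
    have h0 : φ a = 0 := (RingHom.mem_ker).1 ha
    exact h0
  refine LinearEquiv.ofBijective (Submodule.liftQ _ lin hle) ⟨?_, ?_⟩
  · rw [← LinearMap.ker_eq_bot]
    apply Submodule.ker_liftQ_eq_bot
    intro a ha
    rw [LinearMap.mem_ker] at ha
    have h0 : φ a = 0 := ha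
    exact (RingHom.mem_ker).2 h0
  · intro x
    obtain ⟨a, rfl⟩ := hφ (x : A)
    exact ⟨Submodule.Quotient.mk a, rfl⟩

/-- the restriction of `A[-j]` to `P` is `(P/ker φ)[-j]`. -/
noncomputable def restrictSingleIso (hφ : Function.Surjective φ) (j : ℤ) :
    (restrictD φ).obj (toD ((HomologicalComplex.single (ModuleCat.{u} A) (ComplexShape.up ℤ) j).obj
      (ModuleCat.of A A))) ≅ (Dual.inD P (P ⧸ RingHom.ker φ))⟦-j⟧ :=
  (restrictD φ).mapIso (toDSingleIso (ModuleCat.of A A) j (-j) (by omega)) ≪≫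
    ((restrictD φ).commShiftIso (-j)).app _ ≪≫
    (shiftFunctor _ (-j)).mapIso (restrictDInDIso φ (ModuleCat.of A A) ≪≫
      (singleFunctor (ModuleCat.{u} P) 0).mapIso (resSelfEquiv φ hφ).symm.toModuleIso)

end Restrict

section BC

variable {P : Type u} [CommRing P] (B : Type u) [CommRing B] [Algebra P B] [Module.Flat P B]

/-- base change of `(P/I)[-j]`. -/
noncomputable def bcQuotShiftIso (I : Ideal P) (j : ℤ) :
    (bcD P B).obj ((Dual.inD P (P ⧸ I))⟦-j⟧) ≅
      (Dual.inD B (B ⧸ I.map (algebraMap P B)))⟦-j⟧ :=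
  ((bcD P B).commShiftIso (-j)).app _ ≪≫ (shiftFunctor _ (-j)).mapIso (bcSingleIso (P ⧸ I) ≪≫
    (singleFunctor (ModuleCat.{u} B) 0).mapIso
      ((Algebra.TensorProduct.quotIdealMapEquivTensorQuot B I).toLinearEquiv.symm.toModuleIso))

/-- base change of `P`. -/
noncomputable def bcSelfIso : (bcD P B).obj (Dual.inD P P) ≅ Dual.inD B B :=
  bcSingleIso P ≪≫ (singleFunctor (ModuleCat.{u} B) 0).mapIso
    ((TensorProduct.AlgebraTensorModule.rid P B B).toModuleIso)

end BC

section Main

variable {P : Type u} [CommRing P] [IsNoetherianRing P]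

theorem not_subsingleton_hom_of_hom (I Q : Ideal P) [Q.IsPrime] (j : ℤ)
    (K L : Dual.D P) (eK : K ≅ (Dual.inD P (P ⧸ I))⟦-j⟧) (eL : L ≅ Dual.inD P P)
    (f : K ⟶ L) (hf : ∀ t : P, t ∉ Q → t • f ≠ 0) :
    ¬ Subsingleton
      (Dual.inD (Localization.AtPrime Q)
        (Localization.AtPrime Q ⧸ I.map (algebraMap P (Localization.AtPrime Q))) ⟶
        (Dual.inD (Localization.AtPrime Q) (Localization.AtPrime Q))⟦j⟧) := by
  intro hs
  have hK : IsPseudoCoherent' P K :=
    isPseudoCoherent'_of_iso eK.symm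
      (isPseudoCoherent'_shift _ (-j) (isPseudoCoherentModule'_of_finite (P ⧸ I)))
  haveI : DerivedCategory.IsGE L 0 := TStructure.t.isGE_of_iso eL.symm 0
  have hF := bcD_map_ne_zero Q K L hK 0 f hf
  have h1 := subsingleton_hom_shift_neg j hs
  have h2 : Subsingleton ((bcD P (Localization.AtPrime Q)).obj K ⟶
      (bcD P (Localization.AtPrime Q)).obj L) :=
    (Iso.homCongr ((bcD P (Localization.AtPrime Q)).mapIso eK ≪≫
        bcQuotShiftIso (Localization.AtPrime Q) I j)
      ((bcD P (Localization.AtPrime Q)).mapIso eL ≪≫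
        bcSelfIso (Localization.AtPrime Q))).subsingleton
  exact hF (Subsingleton.elim _ _)

theorem exists_nat_and_ext_of_hom (I Q : Ideal P) [Q.IsPrime] (j : ℤ)
    (K L : Dual.D P) (eK : K ≅ (Dual.inD P (P ⧸ I))⟦-j⟧) (eL : L ≅ Dual.inD P P)
    (f : K ⟶ L) (hf : ∀ t : P, t ∉ Q → t • f ≠ 0) :
    ∃ k : ℕ, j = (k : ℤ) ∧ ¬ Subsingleton (Abelian.Ext
      (ModuleCat.of (Localization.AtPrime Q)
        (Localization.AtPrime Q ⧸ I.map (algebraMap P (Localization.AtPrime Q))))
      (ModuleCat.of (Localization.AtPrime Q) (Localization.AtPrime Q)) k) := by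
  have h := not_subsingleton_hom_of_hom I Q j K L eK eL f hf
  have hj : 0 ≤ j := by
    by_contra hneg
    exact h (subsingleton_hom_inD_shift_of_neg _ _ j (not_le.1 hneg))
  obtain ⟨k, rfl⟩ := Int.eq_ofNat_of_zero_le hj
  refine ⟨k, rfl, fun hs => h ?_⟩
  exact (Abelian.Ext.homEquiv (X := ModuleCat.of (Localization.AtPrime Q)
      (Localization.AtPrime Q ⧸ I.map (algebraMap P (Localization.AtPrime Q))))
    (Y := ModuleCat.of (Localization.AtPrime Q) (Localization.AtPrime Q)) (n := k)).symm.subsingleton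

end Main

end Groth.Agent.Lib.ShriekLowH6
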