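import Mathlib
import Groth.Prelude.Def_DRing2
import Groth.Prelude.Def_DDual2
import Groth.Prelude.Def_Wider
import Groth.Prelude.Def_DualSh
import Groth.Prelude.Def_Flat
import Groth.Agent.Lib.ShriekLow2_helper6
import Groth.Agent.Lib.ShriekLow3_helper6
import Groth.Agent.Lib.ShriekLow5_helper6

/-!
# Lower bound for the cohomology of `φ^!(R)` (helper6), part 6: assembly (S1785).
-/

set_option autoImplicit false
universe u
open CategoryTheory CategoryTheory.Limits DerivedCategory Pretriangulated ZeroObject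
open scoped TensorProduct
attribute [local instance] HasDerivedCategory.standard

namespace Groth.Agent.Lib.ShriekLowH6

open DRing Groth.Agent.Lib.DMod_helper6 Groth.Agent.ExtendScalarsLib

section Aux

lemma nontrivial_localizedModule_of_linearEquiv {A : Type u} [CommRing A] (S : Submonoid A)
    {M N : Type u} [AddCommGroup M] [Module A M] [AddCommGroup N] [Module A N] (e : M ≃ₗ[A] N)
    (h : Nontrivial (LocalizedModule S M)) : Nontrivial (LocalizedModule S N) := by
  rw [← not_subsingleton_iff_nontrivial] at h ⊢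
  intro hs
  apply h
  rw [LocalizedModule.subsingleton_iff] at hs ⊢
  intro m
  obtain ⟨r, hr, h0⟩ := hs (e m)
  refine ⟨r, hr, e.injective ?_⟩
  rw [map_smul, h0, map_zero]

variable (R A : Type u) [CommRing R] [CommRing A] [Algebra R A] (n : ℕ)
  (ψ : MvPolynomial (Fin n) R →ₐ[R] A)

/-- residual transcendence degrees agree along a presentation. -/
theorem trdeg_comap_eq (hψ : Function.Surjective ψ) (q' : Ideal A) [hq' : q'.IsPrime]
    [hc : (q'.comap ψ.toRingHom).IsPrime] :
    Algebra.trdeg (R ⧸ (q'.comap ψ.toRingHom).under R)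
        (MvPolynomial (Fin n) R ⧸ q'.comap ψ.toRingHom) =
      Algebra.trdeg (R ⧸ q'.under R) (A ⧸ q') := by
  have hfC : ∀ a : R, ψ.toRingHom (MvPolynomial.C a) = algebraMap R A a := fun a => ψ.commutes a
  have hEq : (q'.comap ψ.toRingHom).under R = q'.under R := by
    ext a
    simp only [Ideal.under, Ideal.mem_comap]
    rw [MvPolynomial.algebraMap_eq, hfC]
  let g : (MvPolynomial (Fin n) R ⧸ q'.comap ψ.toRingHom) ≃+* (A ⧸ q') :=
    RingEquiv.ofBijective (Ideal.quotientMap q' ψ.toRingHom le_rfl)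
      ⟨Ideal.quotientMap_injective, Ideal.quotientMap_surjective hψ⟩
  haveI : Nontrivial (R ⧸ (q'.comap ψ.toRingHom).under R) :=
    Ideal.Quotient.nontrivial_iff.mpr (Ideal.IsPrime.ne_top inferInstance)
  refine Groth.Agent.DimIneqH8.trdeg_eq_of_ringEquiv (Ideal.quotEquivOfEq hEq) g (fun d => ?_)
  obtain ⟨a, rfl⟩ := Ideal.Quotient.mk_surjective d
  rw [Ideal.Quotient.algebraMap_mk_of_liesOver, Ideal.quotEquivOfEq_mk,
    Ideal.Quotient.algebraMap_mk_of_liesOver]
  change Ideal.quotientMap q' ψ.toRingHom le_rfl (Ideal.Quotient.mk _ _) = _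
  rw [Ideal.quotientMap_mk, MvPolynomial.algebraMap_eq, hfC]

end Aux

section Main

/-- S1785. -/
theorem HD_shriekVia_self_vanishing_below_fibre_dim (R A : Type u) [CommRing R] [CommRing A]
    [IsNoetherianRing R] [IsNoetherianRing A] [Algebra R A] (n : ℕ)
    (ψ : MvPolynomial (Fin n) R →ₐ[R] A) (hψ : Function.Surjective ψ)
    [DRing.HasLBaseChange (algebraMap R (MvPolynomial (Fin n) R))]
    (Rψ : Dual.D (MvPolynomial (Fin n) R) ⥤ Dual.D A)
    (adj : DRing.restrictD ψ.toRingHom ⊣ Rψ) (q : PrimeSpectrum A) (d : ℕ)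
    (hd : FlatMor.fibreDimAt
      (AlgebraicGeometry.Spec.map (CommRingCat.ofHom (algebraMap R A))) q = d) (i : ℤ)
    (h : Nontrivial (LocalizedModule q.asIdeal.primeCompl
      (Dual.HD A (Dual2.shriekVia n Rψ (Dual.inD R R)) i))) : -(d : ℤ) ≤ i := by
  set P := MvPolynomial (Fin n) R with hP
  set L : Dual.D P := (DRing.LBaseChange (algebraMap R P)).obj (Dual.inD R R) with hL
  obtain ⟨e0⟩ := nonempty_lBaseChange_iso_bcD (A := R) (B := P)
  let eL : L ≅ Dual.inD P P := e0.app (Dual.inD R R) ≪≫ bcSelfIso (P := R) P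
  -- shift
  let hshift : Dual.HD A (Dual2.shriekVia n Rψ (Dual.inD R R)) i ≃ₗ[A]
      Dual.HD A (Rψ.obj L) ((n : ℤ) + i) :=
    (((homologyFunctor (ModuleCat.{u} A) 0).shiftIso (n : ℤ) i ((n : ℤ) + i) rfl).app
      (Rψ.obj L)).toLinearEquiv
  have h1 := nontrivial_localizedModule_of_linearEquiv q.asIdeal.primeCompl hshift h
  obtain ⟨g, hg⟩ := exists_hom_of_nontrivial_localized_HD (Rψ.obj L) q.asIdeal ((n : ℤ) + i) h1
  obtain ⟨f, hf⟩ := exists_hom_restrict_of_hom_rightAdjoint Rψ adj _ L q.asIdeal g hg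
  set Q : Ideal P := q.asIdeal.comap ψ.toRingHom with hQ
  haveI : Q.IsPrime := Ideal.comap_isPrime _ _
  set I : Ideal P := RingHom.ker ψ.toRingHom with hI
  obtain ⟨k, hk, hext⟩ := exists_nat_and_ext_of_hom I Q ((n : ℤ) + i) _ L
    (restrictSingleIso ψ.toRingHom hψ ((n : ℤ) + i)) eL f hf
  obtain ⟨Q', hQ'p, hIQ', hQ'Q, hdep⟩ := exists_prime_depth_le_of_ext P I Q k hext
  -- the corresponding prime of `A`
  obtain ⟨q', hq'p, rfl⟩ : ∃ q' : Ideal A, q'.IsPrime ∧ q'.comap ψ.toRingHom = Q' :=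
    ⟨Q'.map ψ.toRingHom, Ideal.map_isPrime_of_surjective hψ hIQ',
      Ideal.comap_map_of_surjective' ψ.toRingHom hψ Q' ▸ sup_eq_left.2 hIQ'⟩
  haveI := hq'p
  haveI := hQ'p
  have hle : q' ≤ q.asIdeal := by
    intro x hx
    obtain ⟨y, rfl⟩ := hψ x
    exact hQ'Q (Ideal.mem_comap.2 hx)
  obtain ⟨r, hr, -⟩ := Groth.Agent.DimIneqH8.height_add_trdeg_mvPolynomial R n
    ((q'.comap ψ.toRingHom).under R) (q'.comap ψ.toRingHom)
  have hdepth := le_depth_mvPolynomial R n ((q'.comap ψ.toRingHom).under R)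
    (q'.comap ψ.toRingHom) r hr
  have hr' : Algebra.trdeg (R ⧸ q'.under R) (A ⧸ q') = r := by
    rw [← trdeg_comap_eq R A n ψ hψ q']
    exact hr
  haveI : Algebra.FiniteType R A := Algebra.FiniteType.of_surjective ψ hψ
  have hrd : r ≤ d := trdeg_le_fibreDimAt R A ⟨q', hq'p⟩ q hle d r hd hr'
  have hnk : n - r ≤ k := by
    by_contra hcon
    apply hdep
    have : k + 1 ≤ n - r := by omega
    exact le_trans (by exact_mod_cast this) hdepth
  omega

end Main

end Groth.Agent.Lib.ShriekLowH6
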