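import Mathlib
import Groth.Prelude.Def_DRing4
import Groth.Prelude.Def_DualSh
import Groth.Agent.Lib.DMod67_helper6
import Groth.Agent.Lib.SmoothRegField_helper3
import Groth.Agent.Lib.PDTransport_helper8
import Groth.Agent.Lib.PDFibre2_helper8
import Groth.Agent.Lib.ShriekLow6_helper6
import Groth.Agent.Lib.ExtInv1_helper6

/-!
# The cohomological range of `ω_{A/R}` for `R → A` flat of finite type (helper6, S1790), part 1:
`H^i(ω_{A/R}) = 0` for `i > 0`.
-/

set_option autoImplicit false
set_option linter.style.haveILetI false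
set_option linter.unusedSectionVars false
set_option linter.unusedVariables false
universe u
open CategoryTheory CategoryTheory.Limits DerivedCategory
open scoped TensorProduct
attribute [local instance] HasDerivedCategory.standard

namespace Groth.Agent.Lib.ShriekRangeH6

open DRing Groth.Agent.Lib.DMod_helper6 Groth.Agent.Lib.ShriekLowH6

section GlDim

/-- global dimension of `k[x_1..x_n]` is at most `n` -/
theorem hasPDLT_mvPolynomial_field (k : Type u) [Field k] (n : ℕ)
    (M : ModuleCat.{u} (MvPolynomial (Fin n) k)) : HasProjectiveDimensionLT M (n + 1) := by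
  let S := MvPolynomial (Fin n) k
  have hreg : ∀ p : PrimeSpectrum S, IsRegularLocalRing (Localization.AtPrime p.asIdeal) := by
    intro p
    haveI : Algebra.FormallySmooth S (Localization.AtPrime p.asIdeal) :=
      Algebra.FormallySmooth.of_isLocalization p.asIdeal.primeCompl
    haveI : Algebra.FormallySmooth k (Localization.AtPrime p.asIdeal) :=
      Algebra.FormallySmooth.comp k S _
    exact Groth.Agent.Lib.SmoothRegFieldH3.regular_of_formallySmooth_field (k := k)
  have hd : ringKrullDim S = n := by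
    have h := MvPolynomial.ringKrullDim_of_isNoetherianRing (R := k) (ι := Fin n)
    rw [h, ringKrullDim_eq_zero_of_field, zero_add]
    simp
  exact hasProjectiveDimensionLT_of_regular_of_krullDim hreg n hd M

/-- transport of a global dimension bound along a ring isomorphism -/
theorem hasPDLT_of_ringEquiv {S S' : Type u} [CommRing S] [CommRing S'] (e : S ≃+* S') (d : ℕ)
    (h : ∀ M' : ModuleCat.{u} S', HasProjectiveDimensionLT M' d)
    (M : Type u) [AddCommGroup M] [Module S M] :
    HasProjectiveDimensionLT (ModuleCat.of S M) d := by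
  letI : Module S' M := Module.compHom M e.symm.toRingHom
  have h1 := PDTransportH8.pd_eq_of_semilinear e M M (AddEquiv.refl M) (fun r m => by
    show r • m = e.symm (e r) • m
    rw [RingEquiv.symm_apply_apply])
  rw [← projectiveDimension_lt_iff, h1, projectiveDimension_lt_iff]
  exact h (ModuleCat.of S' M)

/-- the fibre rings of `R[x_1..x_n]` over `R` have global dimension at most `n` -/
theorem hasPDLT_fibre_mvPolynomial (R : Type u) [CommRing R] (n : ℕ) (κ : Type u) [Field κ]
    [Algebra R κ] (M : Type u) [AddCommGroup M] [Module (MvPolynomial (Fin n) R ⊗[R] κ) M] :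
    HasProjectiveDimensionLT (ModuleCat.of (MvPolynomial (Fin n) R ⊗[R] κ) M) (n + 1) := by
  let e : (MvPolynomial (Fin n) R ⊗[R] κ) ≃+* MvPolynomial (Fin n) κ :=
    (Algebra.TensorProduct.comm R (MvPolynomial (Fin n) R) κ).toRingEquiv.trans
      (MvPolynomial.algebraTensorAlgEquiv R κ).toRingEquiv
  exact hasPDLT_of_ringEquiv e (n + 1) (fun M' => hasPDLT_mvPolynomial_field κ n M') M

end GlDim

section Upper

/-- a flat `R`-algebra of finite type has projective dimension `≤ n` over `R[x_1..x_n]` -/
theorem hasPDLT_of_flat (R A : Type u) [CommRing R] [CommRing A] [IsNoetherianRing R]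
    [Algebra R A] [Module.Flat R A] (n : ℕ) (ψ : MvPolynomial (Fin n) R →ₐ[R] A)
    (hψ : Function.Surjective ψ) :
    letI : Algebra (MvPolynomial (Fin n) R) A := ψ.toRingHom.toAlgebra
    HasProjectiveDimensionLT (ModuleCat.of (MvPolynomial (Fin n) R) A) (n + 1) := by
  let P := MvPolynomial (Fin n) R
  letI algPA : Algebra P A := ψ.toRingHom.toAlgebra
  haveI t3 : IsScalarTower R P A := IsScalarTower.of_algebraMap_eq (fun r => (ψ.commutes r).symm)
  haveI fin1 : Module.Finite P A := Module.Finite.of_surjective (Algebra.linearMap P A) hψ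
  haveI : Module.FinitePresentation P A := Module.finitePresentation_of_finite P A
  show HasProjectiveDimensionLT (ModuleCat.of P A) (n + 1)
  rw [Groth.Agent.Lib.PDFibreH8.hasPDLT_iff R P (n + 1) A]
  intro p
  exact hasPDLT_fibre_mvPolynomial R n p.asIdeal.ResidueField _

/-- **`H^i(ω_{A/R}) = 0` for `i > 0`**, `R → A` flat of finite type. -/
theorem HD_shriekVia_self_vanishing_above (R A : Type u) [CommRing R] [CommRing A]
    [IsNoetherianRing R] [Algebra R A] [Module.Flat R A] (n : ℕ)
    (ψ : MvPolynomial (Fin n) R →ₐ[R] A) (hψ : Function.Surjective ψ)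
    [DRing.HasLBaseChange (algebraMap R (MvPolynomial (Fin n) R))]
    (Rψ : Dual.D (MvPolynomial (Fin n) R) ⥤ Dual.D A)
    (adj : DRing.restrictD ψ.toRingHom ⊣ Rψ) (i : ℤ) (hi : 0 < i) :
    Subsingleton (Dual.HD A (Dual2.shriekVia n Rψ (Dual.inD R R)) i) := by
  set P := MvPolynomial (Fin n) R with hP
  letI algPA : Algebra P A := ψ.toRingHom.toAlgebra
  set L : Dual.D P := (DRing.LBaseChange (algebraMap R P)).obj (Dual.inD R R) with hL
  obtain ⟨e0⟩ := nonempty_lBaseChange_iso_bcD (A := R) (B := P)
  let eL : L ≅ Dual.inD P P := e0.app (Dual.inD R R) ≪≫ bcSelfIso (P := R) P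
  let hshift : Dual.HD A (Dual2.shriekVia n Rψ (Dual.inD R R)) i ≃ₗ[A]
      Dual.HD A (Rψ.obj L) ((n : ℤ) + i) :=
    (((homologyFunctor (ModuleCat.{u} A) 0).shiftIso (n : ℤ) i ((n : ℤ) + i) rfl).app
      (Rψ.obj L)).toLinearEquiv
  let hL' : Dual.HD A (Rψ.obj L) ((n : ℤ) + i) ≃ₗ[A] Dual.HD A (Rψ.obj (Dual.inD P P)) ((n : ℤ) + i) :=
    ((homologyFunctor (ModuleCat.{u} A) ((n : ℤ) + i)).mapIso (Rψ.mapIso eL)).toLinearEquiv
  obtain ⟨k, hk⟩ : ∃ k : ℕ, (k : ℤ) = (n : ℤ) + i := ⟨(n + i.toNat), by push_cast; omega⟩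
  have hkn : n + 1 ≤ k := by omega
  obtain ⟨E⟩ := Groth.Agent.Lib.ExtInvH6.nonempty_restrictScalars_HD_rightAdjoint_linearEquiv_ext
    Rψ adj P k
  haveI hpd := hasPDLT_of_flat R A n ψ hψ
  haveI : Subsingleton (Abelian.Ext (ModuleCat.of P A) (ModuleCat.of P P) k) :=
    HasProjectiveDimensionLT.subsingleton (ModuleCat.of P A) (n + 1) k hkn (ModuleCat.of P P)
  have h1 : Subsingleton (Dual.HD A (Rψ.obj (Dual.inD P P)) (k : ℤ)) :=
    ((RestrictScalars.addEquiv P A _).symm.toEquiv.trans E.toEquiv).subsingleton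
  rw [hk] at h1
  exact (hshift.trans hL').toEquiv.subsingleton

end Upper

end Groth.Agent.Lib.ShriekRangeH6
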