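import Mathlib
import Groth.Prelude.Def_DRing4
import Groth.Prelude.Def_DualSh
import Groth.Agent.Lib.ShriekRange1_helper6
import Groth.Agent.Lib.AffDim10_helper8

/-!
# The cohomological range of `ω_{A/R}` for `R → A` flat of finite type (helper6, S1790), part 2:
the pointwise range and the global lower vanishing.
-/

set_option autoImplicit false
set_option linter.style.haveILetI false
set_option linter.unusedSectionVars false
set_option linter.unusedVariables false
universe u
open CategoryTheory CategoryTheory.Limits DerivedCategory AlgebraicGeometry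
open scoped TensorProduct
attribute [local instance] HasDerivedCategory.standard

namespace Groth.Agent.Lib.ShriekRangeH6

open DRing Groth.Agent.Lib.DMod_helper6 Groth.Agent.Lib.ShriekLowH6

lemma lft_spec (R A : Type u) [CommRing R] [CommRing A] [Algebra R A] [Algebra.FiniteType R A] :
    LocallyOfFiniteType (Spec.map (CommRingCat.ofHom (algebraMap R A))) := by
  rw [HasRingHomProperty.Spec_iff (P := @LocallyOfFiniteType)]
  exact (RingHom.finiteType_algebraMap).mpr inferInstance

lemma finiteType_of_pres (R A : Type u) [CommRing R] [CommRing A] [Algebra R A] (n : ℕ)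
    (ψ : MvPolynomial (Fin n) R →ₐ[R] A) (hψ : Function.Surjective ψ) :
    Algebra.FiniteType R A :=
  Algebra.FiniteType.of_surjective ψ hψ

/-- part (a) of S1790 -/
theorem range_at_point (R A : Type u) [CommRing R] [CommRing A]
    [IsNoetherianRing R] [IsNoetherianRing A] [Algebra R A] [Module.Flat R A] (n : ℕ)
    (ψ : MvPolynomial (Fin n) R →ₐ[R] A) (hψ : Function.Surjective ψ)
    [DRing.HasLBaseChange (algebraMap R (MvPolynomial (Fin n) R))]
    (Rψ : Dual.D (MvPolynomial (Fin n) R) ⥤ Dual.D A)
    (adj : DRing.restrictD ψ.toRingHom ⊣ Rψ) (q : PrimeSpectrum A) (d : ℕ)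
    (hd : FlatMor.fibreDimAt (Spec.map (CommRingCat.ofHom (algebraMap R A))) q = d) (i : ℤ)
    (h : Nontrivial (LocalizedModule q.asIdeal.primeCompl
      (Dual.HD A (Dual2.shriekVia n Rψ (Dual.inD R R)) i))) : -(d : ℤ) ≤ i ∧ i ≤ 0 := by
  refine ⟨HD_shriekVia_self_vanishing_below_fibre_dim R A n ψ hψ Rψ adj q d hd i h, ?_⟩
  by_contra hi
  rw [not_le] at hi
  haveI := HD_shriekVia_self_vanishing_above R A n ψ hψ Rψ adj i hi
  haveI : Subsingleton (LocalizedModule q.asIdeal.primeCompl
      (Dual.HD A (Dual2.shriekVia n Rψ (Dual.inD R R)) i)) := inferInstance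
  exact not_subsingleton _ ‹_›

/-- global lower vanishing: if all fibres have dimension `≤ d` then `H^i(ω_{A/R}) = 0` for
`i < -d`. -/
theorem HD_shriekVia_self_vanishing_below (R A : Type u) [CommRing R] [CommRing A]
    [IsNoetherianRing R] [IsNoetherianRing A] [Algebra R A] (n : ℕ)
    (ψ : MvPolynomial (Fin n) R →ₐ[R] A) (hψ : Function.Surjective ψ)
    [DRing.HasLBaseChange (algebraMap R (MvPolynomial (Fin n) R))]
    (Rψ : Dual.D (MvPolynomial (Fin n) R) ⥤ Dual.D A)
    (adj : DRing.restrictD ψ.toRingHom ⊣ Rψ) (d : ℕ)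
    (hd : ∀ q : PrimeSpectrum A,
      FlatMor.fibreDimAt (Spec.map (CommRingCat.ofHom (algebraMap R A))) q ≤ (d : WithBot ℕ∞))
    (i : ℤ) (hi : i < -(d : ℤ)) :
    Subsingleton (Dual.HD A (Dual2.shriekVia n Rψ (Dual.inD R R)) i) := by
  haveI := finiteType_of_pres R A n ψ hψ
  haveI := lft_spec R A
  rw [← Module.support_eq_empty_iff (R := A)]
  by_contra hne
  obtain ⟨q, hq⟩ := Set.nonempty_iff_ne_empty.2 hne
  rw [Module.mem_support_iff] at hq
  have h0 := Groth.Agent.Lib.AffDimH8.fibreDimAt_nonneg (Spec.map (CommRingCat.ofHom (algebraMap R A))) q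
  have h1 := hd q
  obtain ⟨d', hd'⟩ : ∃ d' : ℕ,
      FlatMor.fibreDimAt (Spec.map (CommRingCat.ofHom (algebraMap R A))) q = d' := by
    generalize FlatMor.fibreDimAt (Spec.map (CommRingCat.ofHom (algebraMap R A))) q = x at h0 h1
    induction x using WithBot.recBotCoe with
    | bot => simp at h0
    | coe x =>
      induction x using ENat.recTopCoe with
      | top =>
        exfalso
        have : ((⊤ : ℕ∞) : WithBot ℕ∞) ≤ ((d : ℕ∞) : WithBot ℕ∞) := h1
        rw [WithBot.coe_le_coe] at this
        simp at this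
      | coe x => exact ⟨x, rfl⟩
  have h2 := HD_shriekVia_self_vanishing_below_fibre_dim R A n ψ hψ Rψ adj q d' hd' i hq
  rw [hd'] at h1
  have h3 : d' ≤ d := by exact_mod_cast h1
  omega

end Groth.Agent.Lib.ShriekRangeH6
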