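import Mathlib
import Groth.Prelude.Def_DRing2
import Groth.Prelude.Def_DDual2
import Groth.Prelude.Def_Wider
import Groth.Agent.Lib.FlatBC5_helper6

/-!
# Flat base change for `RHom` (helper6), part 6: flat base change for the right adjoint of
restriction of scalars (pseudo-coherent source, bounded below argument).
-/

set_option autoImplicit false
universe u
open CategoryTheory CategoryTheory.Limits DerivedCategory Pretriangulated
open scoped TensorProduct
attribute [local instance] HasDerivedCategory.standard

namespace Groth.Agent.Lib.FlatBCH6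

open DRing Groth.Agent.Lib.DMod_helper6 Groth.Agent.Lib.ShriekIndH6

section KL

variable {P A P' A' : Type u} [CommRing P] [CommRing A] [CommRing P'] [CommRing A']
  [Algebra P A] [Algebra P P'] [Algebra A A'] [Algebra P' A'] [Algebra P A']
  [IsScalarTower P A A'] [IsScalarTower P P' A'] [Algebra.IsPushout P P' A A']
  {Rψ : Dual.D P ⥤ Dual.D A} (adj : restrictD (algebraMap P A) ⊣ Rψ)

omit [Algebra.IsPushout P P' A A'] in
lemma algebraMap_smul_eq (p : P) (p' : P') :
    algebraMap P' A' (p • p') = algebraMap P A p • algebraMap P' A' p' := by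
  rw [Algebra.smul_def, map_mul, ← IsScalarTower.algebraMap_apply P P' A',
    IsScalarTower.algebraMap_apply P A A', Algebra.smul_def]

/-- the map `P' ⊗[P] Hom(X|_P, K) → A' ⊗[A] Hom(X, RHom(A, K))` -/
noncomputable def thetaMap (X : Dual.D A) (K : Dual.D P) :
    P' ⊗[P] ((restrictD (algebraMap P A)).obj X ⟶ K) →+ A' ⊗[A] (X ⟶ Rψ.obj K) :=
  TensorProduct.liftAddHom
    { toFun := fun p' =>
        { toFun := fun g => algebraMap P' A' p' ⊗ₜ[A] adj.homEquiv X K g
          map_zero' := by
            rw [← Adjunction.homAddEquiv_apply, map_zero, TensorProduct.tmul_zero]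
          map_add' := fun g g' => by
            rw [← Adjunction.homAddEquiv_apply, map_add, TensorProduct.tmul_add]
            rfl }
      map_zero' := by
        ext g
        show algebraMap P' A' 0 ⊗ₜ[A] adj.homEquiv X K g = 0
        rw [map_zero, TensorProduct.zero_tmul]
      map_add' := fun p₁ p₂ => by
        ext g
        show algebraMap P' A' (p₁ + p₂) ⊗ₜ[A] adj.homEquiv X K g = _
        rw [map_add, TensorProduct.add_tmul]
        rfl }
    (fun p p' g => by
      show algebraMap P' A' (p • p') ⊗ₜ[A] adj.homEquiv X K g =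
        algebraMap P' A' p' ⊗ₜ[A] adj.homEquiv X K (p • g)
      rw [homEquiv_smul, algebraMap_smul_eq (P := P) (A := A) (P' := P') (A' := A') p p',
        TensorProduct.smul_tmul])

lemma thetaMap_tmul (X : Dual.D A) (K : Dual.D P) (p' : P')
    (g : (restrictD (algebraMap P A)).obj X ⟶ K) :
    thetaMap (P' := P') (A' := A') adj X K (p' ⊗ₜ[P] g) =
      algebraMap P' A' p' ⊗ₜ[A] adj.homEquiv X K g := rfl

lemma thetaMap_smul (X : Dual.D A) (K : Dual.D P) (p' : P')
    (y : P' ⊗[P] ((restrictD (algebraMap P A)).obj X ⟶ K)) :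
    thetaMap (P' := P') (A' := A') adj X K (p' • y) =
      (LinearMap.mulLeft A (algebraMap P' A' p')).rTensor (X ⟶ Rψ.obj K)
        (thetaMap (P' := P') (A' := A') adj X K y) := by
  induction y using TensorProduct.induction_on with
  | zero => rw [smul_zero, map_zero, map_zero]
  | tmul q' g =>
    rw [TensorProduct.smul_tmul', thetaMap_tmul, thetaMap_tmul, LinearMap.rTensor_tmul,
      smul_eq_mul, map_mul]
    rfl
  | add x y hx hy => rw [smul_add, map_add, map_add, map_add, hx, hy]

lemma thetaMap_surjective (X : Dual.D A) (K : Dual.D P) :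
    Function.Surjective (thetaMap (P' := P') (A' := A') adj X K) := by
  have hpo : IsBaseChange P' (IsScalarTower.toAlgHom P A A').toLinearMap :=
    (Algebra.IsPushout.out : IsBaseChange P' (IsScalarTower.toAlgHom P A A').toLinearMap)
  have key : ∀ (a' : A') (f : X ⟶ Rψ.obj K),
      ∃ y, thetaMap (P' := P') (A' := A') adj X K y = a' ⊗ₜ[A] f := by
    intro a'
    induction a' using hpo.inductionOn with
    | zero => exact fun f => ⟨0, by rw [map_zero, TensorProduct.zero_tmul]⟩
    | tmul a =>
      intro f
      refine ⟨(1 : P') ⊗ₜ[P] (adj.homEquiv X K).symm (a • f), ?_⟩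
      rw [thetaMap_tmul, Equiv.apply_symm_apply, map_one]
      show (1 : A') ⊗ₜ[A] (a • f) = algebraMap A A' a ⊗ₜ[A] f
      rw [← TensorProduct.smul_tmul, Algebra.smul_def, mul_one]
    | smul p' a' h =>
      intro f
      obtain ⟨y, hy⟩ := h f
      refine ⟨p' • y, ?_⟩
      rw [thetaMap_smul, hy, LinearMap.rTensor_tmul, Algebra.smul_def]
      rfl
    | add a₁ a₂ h₁ h₂ =>
      intro f
      obtain ⟨y₁, hy₁⟩ := h₁ f
      obtain ⟨y₂, hy₂⟩ := h₂ f
      exact ⟨y₁ + y₂, by rw [map_add, hy₁, hy₂, TensorProduct.add_tmul]⟩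
  intro x
  induction x using TensorProduct.induction_on with
  | zero => exact ⟨0, map_zero _⟩
  | tmul a' f => exact key a' f
  | add x y hx hy =>
    obtain ⟨x', rfl⟩ := hx
    obtain ⟨y', rfl⟩ := hy
    exact ⟨x' + y', map_add _ _ _⟩

variable [Module.Flat P P'] [Module.Flat A A']
  {Rψ' : Dual.D P' ⥤ Dual.D A'} (adj' : restrictD (algebraMap P' A') ⊣ Rψ')

/-- the base change map `A' ⊗ RHom_P(A, K) ⟶ RHom_{P'}(A', P' ⊗ K)` -/
noncomputable def betaBC (K : Dual.D P) :
    (bcB A A').obj (Rψ.obj K) ⟶ Rψ'.obj ((bcB P P').obj K) :=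
  adj'.homEquiv _ _
    ((tauD P A P' A').inv.app (Rψ.obj K) ≫ (bcB P P').map (adj.counit.app K))

lemma tot_thetaMap (X : Dual.D A) (K : Dual.D P)
    (y : P' ⊗[P] ((restrictD (algebraMap P A)).obj X ⟶ K)) :
    (adj'.homEquiv _ _).symm
        (Phi (T' := A') X (Rψ.obj K) (thetaMap (P' := P') (A' := A') adj X K y) ≫
          betaBC adj adj' K) =
      (tauD P A P' A').inv.app X ≫ Phi (T' := P') ((restrictD (algebraMap P A)).obj X) K y := by
  induction y using TensorProduct.induction_on with
  | zero =>
    rw [map_zero, map_zero, map_zero, zero_comp, comp_zero, ← Adjunction.homAddEquiv_symm_apply,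
      map_zero]
  | tmul p' g =>
    rw [thetaMap_tmul, Phi_tmul, Phi_tmul, Linear.smul_comp, homEquiv_symm_smul,
      Linear.comp_smul, Adjunction.homEquiv_naturality_left_symm]
    congr 1
    unfold betaBC
    rw [Equiv.symm_apply_apply]
    have hn := (tauD P A P' A').inv.naturality (adj.homEquiv X K g)
    have hg : (restrictD (algebraMap P A)).map (adj.homEquiv X K g) ≫ adj.counit.app K = g := by
      have := Adjunction.homEquiv_counit adj (X := X) (Y := K) (adj.homEquiv X K g)
      rw [Equiv.symm_apply_apply] at this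
      exact this.symm
    calc (restrictD (algebraMap P' A')).map ((bcB A A').map (adj.homEquiv X K g)) ≫
          (tauD P A P' A').inv.app (Rψ.obj K) ≫ (bcB P P').map (adj.counit.app K)
        = ((tauD P A P' A').inv.app X ≫
            (bcB P P').map ((restrictD (algebraMap P A)).map (adj.homEquiv X K g))) ≫
              (bcB P P').map (adj.counit.app K) := by
          rw [← Category.assoc]
          exact congrArg (· ≫ (bcB P P').map (adj.counit.app K)) hn
      _ = (tauD P A P' A').inv.app X ≫ (bcB P P').map g := by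
          rw [Category.assoc, ← Functor.map_comp, hg]
  | add x y hx hy =>
    rw [map_add, map_add, map_add, Preadditive.add_comp, Preadditive.comp_add,
      ← Adjunction.homAddEquiv_symm_apply, map_add, Adjunction.homAddEquiv_symm_apply,
      Adjunction.homAddEquiv_symm_apply, hx, hy]

omit [Algebra P A'] [IsScalarTower P A A'] [IsScalarTower P P' A']
  [Algebra.IsPushout P P' A A'] in
lemma isPseudoCoherent'_single (c' : ℤ) : IsPseudoCoherent' A (toD (Sx A c')) := by
  let M : ModuleCat.{u} A := ModuleCat.of A A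
  refine ⟨Sx A c', c', fun j hj => HomologicalComplex.isZero_single_obj_X _ c' _ j (by omega),
    fun j => ?_, ⟨Iso.refl _⟩⟩
  by_cases hj : j = c'
  · subst hj
    exact ⟨finite_of_iso (HomologicalComplex.singleObjXSelf (ComplexShape.up ℤ) j M).symm
        (show Module.Finite A M from (inferInstance : Module.Finite A A)),
      free_of_iso (HomologicalComplex.singleObjXSelf (ComplexShape.up ℤ) j M).symm
        (show Module.Free A M from (inferInstance : Module.Free A A))⟩
  · exact finite_free_of_isZero
      (HomologicalComplex.isZero_single_obj_X (ComplexShape.up ℤ) c' M j hj)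

/-- **flat base change for the right adjoint of restriction of scalars**: in a pushout square
`A' = A ⊗[P] P'` with `P → P'` flat and `A` pseudo-coherent over `P`, the base change map
`A' ⊗ RHom_P(A, K) ⟶ RHom_{P'}(A', P' ⊗ K)` is an isomorphism for `K` bounded below. -/
theorem isIso_betaBC (hA : resPC (algebraMap P A) (Dual.inD A A)) (K : Dual.D P) (c : ℤ)
    [DerivedCategory.IsGE K c] : IsIso (betaBC adj adj' K) := by
  apply isIso_of_bijective_comp
  intro c'
  let Ti : Dual.D A := toD (Sx A c')
  let W := Rψ.obj K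
  let β := betaBC adj adj' K
  have hmain : Function.Bijective
      (fun a : (bcB A A').obj Ti ⟶ (bcB A A').obj W => a ≫ β) := by
    have hΦα : Function.Bijective (Phi (T' := A') Ti W) := Phi_bijective_single c' W
    have hpc : IsPseudoCoherent' P ((restrictD (algebraMap P A)).obj Ti) :=
      (isPseudoCoherent'_restrictD_iff (algebraMap P A) hA _).1 (isPseudoCoherent'_single c')
    have hΦρ : Function.Bijective (Phi (T' := P') ((restrictD (algebraMap P A)).obj Ti) K) :=
      Phi_bijective_of_pc _ K hpc c
    let tot : A' ⊗[A] (Ti ⟶ W) →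
        ((restrictD (algebraMap P' A')).obj ((bcB A A').obj Ti) ⟶ (bcB P P').obj K) :=
      fun x => (adj'.homEquiv _ _).symm (Phi Ti W x ≫ β)
    let Θ : P' ⊗[P] ((restrictD (algebraMap P A)).obj Ti ⟶ K) →
        ((restrictD (algebraMap P' A')).obj ((bcB A A').obj Ti) ⟶ (bcB P P').obj K) :=
      fun y => (tauD P A P' A').inv.app Ti ≫ Phi (T' := P') _ K y
    have hΘ : Function.Bijective Θ := by
      constructor
      · intro y y' hyy
        exact hΦρ.1 ((cancel_epi ((tauD P A P' A').inv.app Ti)).1 hyy)
      · intro z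
        obtain ⟨y, hy⟩ := hΦρ.2 ((tauD P A P' A').hom.app Ti ≫ z)
        refine ⟨y, ?_⟩
        show (tauD P A P' A').inv.app Ti ≫ Phi (T' := P') _ K y = z
        rw [hy, Iso.inv_hom_id_app_assoc]
    have hkey : ∀ y, tot (thetaMap (P' := P') (A' := A') adj Ti K y) = Θ y :=
      fun y => tot_thetaMap adj adj' Ti K y
    have htot : Function.Bijective tot := by
      constructor
      · intro x x' hxx
        obtain ⟨y, rfl⟩ := thetaMap_surjective (P' := P') (A' := A') adj Ti K x
        obtain ⟨y', rfl⟩ := thetaMap_surjective (P' := P') (A' := A') adj Ti K x'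
        rw [hkey, hkey] at hxx
        rw [hΘ.1 hxx]
      · intro z
        obtain ⟨y, hy⟩ := hΘ.2 z
        exact ⟨thetaMap (P' := P') (A' := A') adj Ti K y, by rw [hkey, hy]⟩
    constructor
    · intro a a' haa
      obtain ⟨x, rfl⟩ := hΦα.2 a
      obtain ⟨x', rfl⟩ := hΦα.2 a'
      have : tot x = tot x' := congrArg (adj'.homEquiv _ _).symm haa
      rw [htot.1 this]
    · intro b
      obtain ⟨x, hx⟩ := htot.2 ((adj'.homEquiv _ _).symm b)
      exact ⟨Phi Ti W x, (adj'.homEquiv _ _).symm.injective hx⟩
  let θ := thetaIso A A' c'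
  constructor
  · intro a a' haa
    have haa' : a ≫ β = a' ≫ β := haa
    have : (θ.hom ≫ a) ≫ β = (θ.hom ≫ a') ≫ β := by
      rw [Category.assoc, Category.assoc, haa']
    exact (cancel_epi θ.hom).1 (hmain.1 this)
  · intro b
    obtain ⟨a, ha⟩ := hmain.2 (θ.hom ≫ b)
    have ha' : a ≫ β = θ.hom ≫ b := ha
    exact ⟨θ.inv ≫ a, by
      show (θ.inv ≫ a) ≫ β = b
      rw [Category.assoc, ha', Iso.inv_hom_id_assoc]⟩

include adj adj' in
/-- existence form -/
theorem nonempty_flatBC_iso (hA : resPC (algebraMap P A) (Dual.inD A A)) (K : Dual.D P) (c : ℤ)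
    [DerivedCategory.IsGE K c] :
    Nonempty ((bcB A A').obj (Rψ.obj K) ≅ Rψ'.obj ((bcB P P').obj K)) := by
  haveI := isIso_betaBC adj adj' hA K c
  exact ⟨asIso (betaBC adj adj' K)⟩

end KL

end Groth.Agent.Lib.FlatBCH6
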