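import Mathlib
import Groth.Prelude.Def_DRing2
import Groth.Prelude.Def_DDual2
import Groth.Prelude.Def_Wider
import Groth.Prelude.Def_TrivBC
import Groth.Agent.Lib.FlatBC6_helper6
import Groth.Agent.Lib.DerivedAdj_helper2
import Groth.Agent.Lib.DMod79_helper6

/-!
# Flat base change for `RHom` (helper6), part 7: flat base change for `φ^!`, general form.
-/

set_option autoImplicit false
universe u
open CategoryTheory CategoryTheory.Limits DerivedCategory Pretriangulated
open scoped TensorProduct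
attribute [local instance] HasDerivedCategory.standard

namespace Groth.Agent.Lib.FlatBCH6

open DRing Groth.Agent.Lib.DMod_helper6 Groth.Agent.Lib.ShriekIndH6

section Flat

variable {A B : Type u} [CommRing A] [CommRing B] [Algebra A B] [Module.Flat A B]

/-- derived base change exists along a flat map -/
lemma hasLBaseChange_of_flat : HasLBaseChange (algebraMap A B) := by
  haveI : (bcD A B).IsLeftDerivedFunctor ((ES A B).mapDerivedCategoryFactorsh).hom
      (HomotopyCategory.quasiIso (ModuleCat.{u} A) (ComplexShape.up ℤ)) :=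
    Functor.isLeftDerivedFunctor_of_inverts _ (bcD A B) ((ES A B).mapDerivedCategoryFactorsh)
  exact Functor.HasLeftDerivedFunctor.mk' (bcD A B) ((ES A B).mapDerivedCategoryFactorsh).hom

lemma isGE_of_subsingleton_HD (K : Dual.D A) (c : ℤ)
    (hK : ∀ i : ℤ, i < c → Subsingleton (Dual.HD A K i)) : DerivedCategory.IsGE K c := by
  rw [DerivedCategory.isGE_iff]
  intro i hi
  haveI := hK i hi
  exact ModuleCat.isZero_of_subsingleton _

end Flat

section General

variable {R R' P P' A A' : Type u} [CommRing R] [CommRing R'] [CommRing P] [CommRing P']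
  [CommRing A] [CommRing A']
  [Algebra R R'] [Algebra R P] [Algebra P A] [Algebra R' P'] [Algebra P P'] [Algebra A A']
  [Algebra P' A'] [Algebra P A'] [Algebra R P']
  [IsScalarTower R P P'] [IsScalarTower R R' P'] [IsScalarTower P A A'] [IsScalarTower P P' A']
  [Algebra.IsPushout P P' A A'] [Module.Flat P P'] [Module.Flat A A'] [Module.Flat R P]

/-- **flat base change for `φ^!`**, for arbitrary adjoint functors -/
theorem flatBC_shriek_general (hA : resPC (algebraMap P A) (Dual.inD A A))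
    (Lι : Dual.D R ⥤ Dual.D P) (adjLι : Lι ⊣ restrictD (algebraMap R P))
    (Lι' : Dual.D R' ⥤ Dual.D P') (adjLι' : Lι' ⊣ restrictD (algebraMap R' P'))
    (Lρ : Dual.D R ⥤ Dual.D R') (adjLρ : Lρ ⊣ restrictD (algebraMap R R'))
    (Lα : Dual.D A ⥤ Dual.D A') (adjLα : Lα ⊣ restrictD (algebraMap A A'))
    (Rψ : Dual.D P ⥤ Dual.D A) (adj : restrictD (algebraMap P A) ⊣ Rψ)
    (Rψ' : Dual.D P' ⥤ Dual.D A') (adj' : restrictD (algebraMap P' A') ⊣ Rψ')
    (K : Dual.D R) (c : ℤ) [DerivedCategory.IsGE K c] (d : ℤ) :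
    Nonempty (Lα.obj ((Rψ.obj (Lι.obj K))⟦d⟧) ≅ (Rψ'.obj (Lι'.obj (Lρ.obj K)))⟦d⟧) := by
  let e1 : Lα ≅ bcB A A' := adjLα.leftAdjointUniq (adjD A A')
  let e2 : Lι ≅ bcB R P := adjLι.leftAdjointUniq (adjD R P)
  haveI : DerivedCategory.IsGE (Lι.obj K) c :=
    TStructure.t.isGE_of_iso (e2.app K).symm c
  obtain ⟨e4⟩ := nonempty_flatBC_iso (P' := P') (A' := A') adj adj' hA (Lι.obj K) c
  have hcomm : (algebraMap P P').comp (algebraMap R P) =
      (algebraMap R' P').comp (algebraMap R R') := by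
    rw [← IsScalarTower.algebraMap_eq R P P', ← IsScalarTower.algebraMap_eq R R' P']
  let adjA : Lι ⋙ bcB P P' ⊣ restrictD (algebraMap P P') ⋙ restrictD (algebraMap R P) :=
    adjLι.comp (adjD P P')
  let adjB : Lρ ⋙ Lι' ⊣ restrictD (algebraMap R' P') ⋙ restrictD (algebraMap R R') :=
    adjLρ.comp adjLι'
  let e3 : Lι ⋙ bcB P P' ≅ Lρ ⋙ Lι' :=
    (adjA.ofNatIsoRight (TrivBC.resComm hcomm)).leftAdjointUniq adjB
  exact ⟨e1.app _ ≪≫ ((bcB A A').commShiftIso d).app _ ≪≫
    (shiftFunctor (Dual.D A') d).mapIso (e4 ≪≫ Rψ'.mapIso (e3.app K))⟩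

end General

end Groth.Agent.Lib.FlatBCH6
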