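import Mathlib
import Groth.Prelude.Def_DRing2
import Groth.Prelude.Def_DDual2
import Groth.Prelude.Def_Wider
import Groth.Prelude.Def_TrivBC
import Groth.Agent.Lib.FlatBC7_helper6
import Groth.Agent.Lib.DMod29_helper6

/-!
# Flat base change for `RHom` (helper6), part 10: the perfect case (no boundedness on `K`).
-/

set_option autoImplicit false
universe u
open CategoryTheory CategoryTheory.Limits DerivedCategory Pretriangulated
open scoped TensorProduct
attribute [local instance] HasDerivedCategory.standard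

namespace Groth.Agent.Lib.FlatBCH6

open DRing Groth.Agent.Lib.DMod_helper6 Groth.Agent.Lib.ShriekIndH6

section KLperf

variable {P A P' A' : Type u} [CommRing P] [CommRing A] [CommRing P'] [CommRing A']
  [Algebra P A] [Algebra P P'] [Algebra A A'] [Algebra P' A'] [Algebra P A']
  [IsScalarTower P A A'] [IsScalarTower P P' A'] [Algebra.IsPushout P P' A A']
  {Rψ : Dual.D P ⥤ Dual.D A} (adj : restrictD (algebraMap P A) ⊣ Rψ)
  [Module.Flat P P'] [Module.Flat A A']
  {Rψ' : Dual.D P' ⥤ Dual.D A'} (adj' : restrictD (algebraMap P' A') ⊣ Rψ')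

omit [Algebra P A'] [IsScalarTower P A A'] [IsScalarTower P P' A']
  [Algebra.IsPushout P P' A A'] [Module.Flat P P'] [Module.Flat A A'] in
lemma isPerfect_single (c' : ℤ) : IsPerfect A (toD (Sx A c')) := by
  let M : ModuleCat.{u} A := ModuleCat.of A A
  refine ⟨Sx A c', c', c', fun j hj => HomologicalComplex.isZero_single_obj_X _ c' _ j (by omega),
    fun j => ?_, ⟨Iso.refl _⟩⟩
  by_cases hj : j = c'
  · subst hj
    exact ⟨finite_of_iso (HomologicalComplex.singleObjXSelf (ComplexShape.up ℤ) j M).symm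
        (show Module.Finite A M from (inferInstance : Module.Finite A A)),
      projective_of_iso (HomologicalComplex.singleObjXSelf (ComplexShape.up ℤ) j M).symm
        (show Module.Projective A M from (inferInstance : Module.Projective A A))⟩
  · have h := finite_free_of_isZero
      (HomologicalComplex.isZero_single_obj_X (ComplexShape.up ℤ) c' M j hj)
    haveI := h.2
    exact ⟨h.1, inferInstance⟩

/-- **flat base change for the right adjoint of restriction of scalars, perfect case**: in a
pushout square `A' = A ⊗[P] P'` with `P → P'` flat and `A` perfect over `P`, the base change map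
`A' ⊗ RHom_P(A, K) ⟶ RHom_{P'}(A', P' ⊗ K)` is an isomorphism for every `K`. -/
theorem isIso_betaBC_of_perf (hA : resPerf (algebraMap P A) (Dual.inD A A)) (K : Dual.D P) :
    IsIso (betaBC adj adj' K) := by
  apply isIso_of_bijective_comp
  intro c'
  let Ti : Dual.D A := toD (Sx A c')
  let W := Rψ.obj K
  let β := betaBC adj adj' K
  have hmain : Function.Bijective
      (fun a : (bcB A A').obj Ti ⟶ (bcB A A').obj W => a ≫ β) := by
    have hΦα : Function.Bijective (Phi (T' := A') Ti W) := Phi_bijective_single c' W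
    have hpc : IsPerfect P ((restrictD (algebraMap P A)).obj Ti) :=
      isPerfect_restrictD (algebraMap P A) hA _ (isPerfect_single c')
    have hΦρ : Function.Bijective (Phi (T' := P') ((restrictD (algebraMap P A)).obj Ti) K) :=
      Phi_bijective_of_isPerfect _ K hpc
    let tot : A' ⊗[A] (Ti ⟶ W) →
        ((restrictD (algebraMap P' A')).obj ((bcB A A').obj Ti) ⟶ (bcB P P').obj K) :=
      fun x => (adj'.homEquiv _ _).symm (Phi Ti W x ≫ β)
    let Θ : P' ⊗[P] ((restrictD (algebraMap P A)).obj Ti ⟶ K) →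
        ((restrictD (algebraMap P' A')).obj ((bcB A A').obj Ti) ⟶ (bcB P P').obj K) :=
      fun y => (tauD P A P' A').inv.app Ti ≫ Phi (T' := P') _ K y
    have hΘ : Function.Bijective Θ := by
      constructor
      · intro y y' hyy
        exact hΦρ.1 ((cancel_epi ((tauD P A P' A').inv.app Ti)).1 hyy)
      · intro z
        obtain ⟨y, hy⟩ := hΦρ.2 ((tauD P A P' A').hom.app Ti ≫ z)
        refine ⟨y, ?_⟩
        show (tauD P A P' A').inv.app Ti ≫ Phi (T' := P') _ K y = z
        rw [hy, Iso.inv_hom_id_app_assoc]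
    have hkey : ∀ y, tot (thetaMap (P' := P') (A' := A') adj Ti K y) = Θ y :=
      fun y => tot_thetaMap adj adj' Ti K y
    have htot : Function.Bijective tot := by
      constructor
      · intro x x' hxx
        obtain ⟨y, rfl⟩ := thetaMap_surjective (P' := P') (A' := A') adj Ti K x
        obtain ⟨y', rfl⟩ := thetaMap_surjective (P' := P') (A' := A') adj Ti K x'
        rw [hkey, hkey] at hxx
        rw [hΘ.1 hxx]
      · intro z
        obtain ⟨y, hy⟩ := hΘ.2 z
        exact ⟨thetaMap (P' := P') (A' := A') adj Ti K y, by rw [hkey, hy]⟩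
    constructor
    · intro a a' haa
      obtain ⟨x, rfl⟩ := hΦα.2 a
      obtain ⟨x', rfl⟩ := hΦα.2 a'
      have : tot x = tot x' := congrArg (adj'.homEquiv _ _).symm haa
      rw [htot.1 this]
    · intro b
      obtain ⟨x, hx⟩ := htot.2 ((adj'.homEquiv _ _).symm b)
      exact ⟨Phi Ti W x, (adj'.homEquiv _ _).symm.injective hx⟩
  let θ := thetaIso A A' c'
  constructor
  · intro a a' haa
    have haa' : a ≫ β = a' ≫ β := haa
    have : (θ.hom ≫ a) ≫ β = (θ.hom ≫ a') ≫ β := by
      rw [Category.assoc, Category.assoc, haa']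
    exact (cancel_epi θ.hom).1 (hmain.1 this)
  · intro b
    obtain ⟨a, ha⟩ := hmain.2 (θ.hom ≫ b)
    have ha' : a ≫ β = θ.hom ≫ b := ha
    exact ⟨θ.inv ≫ a, by
      show (θ.inv ≫ a) ≫ β = b
      rw [Category.assoc, ha', Iso.inv_hom_id_assoc]⟩

include adj adj' in
/-- existence form -/
theorem nonempty_flatBC_iso_of_perf (hA : resPerf (algebraMap P A) (Dual.inD A A))
    (K : Dual.D P) :
    Nonempty ((bcB A A').obj (Rψ.obj K) ≅ Rψ'.obj ((bcB P P').obj K)) := by
  haveI := isIso_betaBC_of_perf adj adj' hA K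
  exact ⟨asIso (betaBC adj adj' K)⟩

end KLperf

section General

variable {R R' P P' A A' : Type u} [CommRing R] [CommRing R'] [CommRing P] [CommRing P']
  [CommRing A] [CommRing A']
  [Algebra R R'] [Algebra R P] [Algebra P A] [Algebra R' P'] [Algebra P P'] [Algebra A A']
  [Algebra P' A'] [Algebra P A'] [Algebra R P']
  [IsScalarTower R P P'] [IsScalarTower R R' P'] [IsScalarTower P A A'] [IsScalarTower P P' A']
  [Algebra.IsPushout P P' A A'] [Module.Flat P P'] [Module.Flat A A'] [Module.Flat R P]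

omit [Module.Flat R P] in
/-- **flat base change for `φ^!`**, perfect case, for arbitrary adjoint functors, any `K` -/
theorem flatBC_shriek_general_of_perf (hA : resPerf (algebraMap P A) (Dual.inD A A))
    (Lι : Dual.D R ⥤ Dual.D P) (adjLι : Lι ⊣ restrictD (algebraMap R P))
    (Lι' : Dual.D R' ⥤ Dual.D P') (adjLι' : Lι' ⊣ restrictD (algebraMap R' P'))
    (Lρ : Dual.D R ⥤ Dual.D R') (adjLρ : Lρ ⊣ restrictD (algebraMap R R'))
    (Lα : Dual.D A ⥤ Dual.D A') (adjLα : Lα ⊣ restrictD (algebraMap A A'))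
    (Rψ : Dual.D P ⥤ Dual.D A) (adj : restrictD (algebraMap P A) ⊣ Rψ)
    (Rψ' : Dual.D P' ⥤ Dual.D A') (adj' : restrictD (algebraMap P' A') ⊣ Rψ')
    (K : Dual.D R) (d : ℤ) :
    Nonempty (Lα.obj ((Rψ.obj (Lι.obj K))⟦d⟧) ≅ (Rψ'.obj (Lι'.obj (Lρ.obj K)))⟦d⟧) := by
  let e1 : Lα ≅ bcB A A' := adjLα.leftAdjointUniq (adjD A A')
  obtain ⟨e4⟩ := nonempty_flatBC_iso_of_perf (P' := P') (A' := A') adj adj' hA (Lι.obj K)
  have hcomm : (algebraMap P P').comp (algebraMap R P) =
      (algebraMap R' P').comp (algebraMap R R') := by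
    rw [← IsScalarTower.algebraMap_eq R P P', ← IsScalarTower.algebraMap_eq R R' P']
  let adjA : Lι ⋙ bcB P P' ⊣ restrictD (algebraMap P P') ⋙ restrictD (algebraMap R P) :=
    adjLι.comp (adjD P P')
  let adjB : Lρ ⋙ Lι' ⊣ restrictD (algebraMap R' P') ⋙ restrictD (algebraMap R R') :=
    adjLρ.comp adjLι'
  let e3 : Lι ⋙ bcB P P' ≅ Lρ ⋙ Lι' :=
    (adjA.ofNatIsoRight (TrivBC.resComm hcomm)).leftAdjointUniq adjB
  exact ⟨e1.app _ ≪≫ ((bcB A A').commShiftIso d).app _ ≪≫
    (shiftFunctor (Dual.D A') d).mapIso (e4 ≪≫ Rψ'.mapIso (e3.app K))⟩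

end General

end Groth.Agent.Lib.FlatBCH6
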