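import Mathlib
import Groth.Prelude.Def_DRing2
import Groth.Prelude.Def_DDual2
import Groth.Prelude.Def_TrivBC

/-!
# Independence of `φ^!` of the presentation (helper6), part 1: pseudo-functoriality of restriction
of scalars on derived categories (`restrictD id ≅ 𝟭`, `restrictD (g ∘ f) ≅ restrictD g ⋙ restrictD f`).
-/

set_option autoImplicit false
universe u
open CategoryTheory CategoryTheory.Limits DerivedCategory
attribute [local instance] HasDerivedCategory.standard

namespace Groth.Agent.Lib.ShriekIndH6

open DRing

section Id

variable (B : Type u) [CommRing B]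

/-- restriction of scalars along the identity, on complexes followed by localization. -/
noncomputable def restrictIdCx :
    (ModuleCat.restrictScalars.{u} (RingHom.id B)).mapHomologicalComplex (ComplexShape.up ℤ) ⋙
        DerivedCategory.Q (C := ModuleCat.{u} B) ≅
      DerivedCategory.Q (C := ModuleCat.{u} B) :=
  Functor.isoWhiskerRight
    (NatIso.mapHomologicalComplex (ModuleCat.restrictScalarsId' (RingHom.id B) rfl)
        (ComplexShape.up ℤ) ≪≫
      Functor.mapHomologicalComplexIdIso (ModuleCat.{u} B) (ComplexShape.up ℤ)) _ ≪≫
    Functor.leftUnitor _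

/-- restriction of scalars along the identity is the identity functor of the derived category. -/
noncomputable def restrictDId : restrictD (RingHom.id B) ≅ 𝟭 (Dual.D B) :=
  Localization.liftNatIso (DerivedCategory.Q (C := ModuleCat.{u} B))
    (HomologicalComplex.quasiIso (ModuleCat.{u} B) (ComplexShape.up ℤ)) _ _ _ _ (restrictIdCx B)

end Id

section Comp

variable {B C E : Type u} [CommRing B] [CommRing C] [CommRing E]

/-- restriction of scalars along a composite. -/
noncomputable def restrictDComp (f : B →+* C) (g : C →+* E) :
    restrictD (g.comp f) ≅ restrictD g ⋙ restrictD f :=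
  (Functor.leftUnitor _).symm ≪≫
    Functor.isoWhiskerRight (restrictDId E).symm (restrictD (g.comp f)) ≪≫
    (TrivBC.resComm (φ := f) (ρ := g.comp f) (α := g) (φ' := RingHom.id E)
      (RingHom.id_comp _).symm).symm

/-- restriction of scalars along equal ring maps. -/
noncomputable def restrictDCongr {f f' : B →+* C} (h : f = f') : restrictD f ≅ restrictD f' :=
  eqToIso (by rw [h])

/-- restriction of scalars along a composite which is given by an equation. -/
noncomputable def restrictDComp' (f : B →+* C) (g : C →+* E) (k : B →+* E) (h : g.comp f = k) :
    restrictD k ≅ restrictD g ⋙ restrictD f :=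
  restrictDCongr h.symm ≪≫ restrictDComp f g

end Comp

section Equiv

variable {B C : Type u} [CommRing B] [CommRing C] (ε : B ≃+* C)

/-- restriction along a ring isomorphism and along its inverse compose to the identity. -/
noncomputable def restrictDEquivUnit :
    𝟭 (Dual.D C) ≅ restrictD ε.toRingHom ⋙ restrictD ε.symm.toRingHom :=
  (restrictDId C).symm ≪≫
    restrictDComp' ε.symm.toRingHom ε.toRingHom (RingHom.id C) (by
      ext x
      simp)

noncomputable def restrictDEquivCounit :
    restrictD ε.symm.toRingHom ⋙ restrictD ε.toRingHom ≅ 𝟭 (Dual.D B) :=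
  (restrictDComp' ε.toRingHom ε.symm.toRingHom (RingHom.id B) (by
      ext x
      simp)).symm ≪≫ restrictDId B

/-- restriction of scalars along a ring isomorphism is an equivalence. -/
noncomputable def restrictDEquivalence : Dual.D C ≌ Dual.D B :=
  CategoryTheory.Equivalence.mk (restrictD ε.toRingHom) (restrictD ε.symm.toRingHom)
    (restrictDEquivUnit ε) (restrictDEquivCounit ε)

end Equiv

end Groth.Agent.Lib.ShriekIndH6
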