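import Mathlib
import Groth.Prelude.Def_DRing2
import Groth.Prelude.Def_DDual2
import Groth.Prelude.Def_TrivBC
import Groth.Agent.Lib.ShriekInd1_helper6
import Groth.Agent.Lib.RestrictRightAdj_helper2

/-!
# Independence of `φ^!` of the presentation (helper6), part 2: the calculus of "good retractions".

A pair `ι : T → B`, `σ : B → T` of ring maps is *good of dimension `d`* if restriction of scalars
along `ι` has a left adjoint `Lι` and `Rσ(Lι M)[d] ≅ M` for every `M ∈ D(T)`, where `Rσ` is right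
adjoint to restriction along `σ` (think of `B = T[y_1, …, y_d]`, `σ` a `T`-algebra retraction).
Good pairs compose, ring isomorphisms are good of dimension `0`, and a good pair allows to replace a
presentation `ψ : T → A` by `ψ ∘ σ : B → A` in the definition of `φ^!`.
-/

set_option autoImplicit false
universe u
open CategoryTheory CategoryTheory.Limits DerivedCategory
attribute [local instance] HasDerivedCategory.standard

namespace Groth.Agent.Lib.ShriekIndH6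

open DRing

section Defn

variable {T B : Type u} [CommRing T] [CommRing B]

/-- good retractions -/
def Good (ι : T →+* B) (σ : B →+* T) (d : ℤ) : Prop :=
  (∃ L : Dual.D T ⥤ Dual.D B, Nonempty (L ⊣ restrictD ι)) ∧
  ∀ (L : Dual.D T ⥤ Dual.D B) (_ : L ⊣ restrictD ι) (Rσ : Dual.D B ⥤ Dual.D T)
    (_ : restrictD σ ⊣ Rσ) (M : Dual.D T), Nonempty ((Rσ.obj (L.obj M))⟦d⟧ ≅ M)

theorem good_of_exists (ι : T →+* B) (σ : B →+* T) (d : ℤ)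
    (L : Dual.D T ⥤ Dual.D B) (adjL : L ⊣ restrictD ι) (Rσ : Dual.D B ⥤ Dual.D T)
    (adjR : restrictD σ ⊣ Rσ) (h : ∀ M : Dual.D T, Nonempty ((Rσ.obj (L.obj M))⟦d⟧ ≅ M)) :
    Good ι σ d := by
  refine ⟨⟨L, ⟨adjL⟩⟩, fun L' adjL' Rσ' adjR' M => ?_⟩
  obtain ⟨e⟩ := h M
  let eL : L' ≅ L := adjL'.leftAdjointUniq adjL
  let eR : Rσ' ≅ Rσ := adjR'.rightAdjointUniq adjR
  exact ⟨(shiftFunctor (Dual.D T) d).mapIso (Rσ'.mapIso (eL.app M) ≪≫ eR.app _) ≪≫ e⟩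

theorem Good.congr {ι ι' : T →+* B} {σ σ' : B →+* T} {d d' : ℤ} (h : Good ι σ d)
    (hι : ι = ι') (hσ : σ = σ') (hd : d = d') : Good ι' σ' d' := by
  subst hι hσ hd
  exact h

end Defn

section Equiv

variable {B₁ B₂ : Type u} [CommRing B₁] [CommRing B₂]

/-- ring isomorphisms are good of dimension `0`. -/
theorem good_ringEquiv (ε : B₁ ≃+* B₂) : Good ε.symm.toRingHom ε.toRingHom 0 := by
  refine good_of_exists _ _ 0 (restrictD ε.toRingHom) (restrictDEquivalence ε).toAdjunction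
    (restrictD ε.symm.toRingHom) (restrictDEquivalence ε).toAdjunction (fun M => ?_)
  exact ⟨(shiftFunctorZero (Dual.D B₂) ℤ).app _ ≪≫ (restrictDEquivUnit ε).symm.app M⟩

end Equiv

section Comp

variable {T B₁ B₂ : Type u} [CommRing T] [CommRing B₁] [CommRing B₂]

/-- good retractions compose. -/
theorem good_comp {ι₁ : T →+* B₁} {σ₁ : B₁ →+* T} {ι₂ : B₁ →+* B₂} {σ₂ : B₂ →+* B₁} {d₁ d₂ : ℤ}
    (h₁ : Good ι₁ σ₁ d₁) (h₂ : Good ι₂ σ₂ d₂) :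
    Good (ι₂.comp ι₁) (σ₁.comp σ₂) (d₂ + d₁) := by
  obtain ⟨L₁, ⟨adjL₁⟩⟩ := h₁.1
  obtain ⟨L₂, ⟨adjL₂⟩⟩ := h₂.1
  obtain ⟨Rσ₁, ⟨adjR₁⟩⟩ := Groth.Agent.Lib.RestrictRightAdj.exists_rightAdjoint_restrictD σ₁
  obtain ⟨Rσ₂, ⟨adjR₂⟩⟩ := Groth.Agent.Lib.RestrictRightAdj.exists_rightAdjoint_restrictD σ₂
  refine good_of_exists _ _ _ (L₁ ⋙ L₂)
    ((adjL₁.comp adjL₂).ofNatIsoRight (restrictDComp ι₁ ι₂).symm) (Rσ₂ ⋙ Rσ₁)
    ((adjR₁.comp adjR₂).ofNatIsoLeft (restrictDComp σ₂ σ₁).symm) (fun M => ?_)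
  obtain ⟨e₁⟩ := h₁.2 L₁ adjL₁ Rσ₁ adjR₁ M
  obtain ⟨e₂⟩ := h₂.2 L₂ adjL₂ Rσ₂ adjR₂ (L₁.obj M)
  letI := adjR₁.rightAdjointCommShift ℤ
  let Y : Dual.D B₁ := Rσ₂.obj (L₂.obj (L₁.obj M))
  exact ⟨(shiftFunctorAdd (Dual.D T) d₂ d₁).app (Rσ₁.obj Y) ≪≫
    (shiftFunctor (Dual.D T) d₁).mapIso (((Rσ₁.commShiftIso d₂).app Y).symm ≪≫ Rσ₁.mapIso e₂) ≪≫
    e₁⟩

end Comp

section Step

variable {R T B A : Type u} [CommRing R] [CommRing T] [CommRing B] [CommRing A]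

/-- replacing a presentation `ψ : T → A` by `ψ ∘ σ : B → A` for a good retraction `σ`. -/
theorem step {φ : R →+* T} {ι : T →+* B} {σ : B →+* T} {ψ : T →+* A} {d : ℤ} (hG : Good ι σ d)
    {φ' : R →+* B} (hφ' : φ' = ι.comp φ) {θ : B →+* A} (hθ : θ = ψ.comp σ)
    (Lφ : Dual.D R ⥤ Dual.D T) (adjLφ : Lφ ⊣ restrictD φ)
    (Lφ' : Dual.D R ⥤ Dual.D B) (adjLφ' : Lφ' ⊣ restrictD φ')
    (Rψ : Dual.D T ⥤ Dual.D A) (adjRψ : restrictD ψ ⊣ Rψ)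
    (Rθ : Dual.D B ⥤ Dual.D A) (adjRθ : restrictD θ ⊣ Rθ)
    (K : Dual.D R) (e k : ℤ) (hk : k = d + e) :
    Nonempty ((Rθ.obj (Lφ'.obj K))⟦k⟧ ≅ (Rψ.obj (Lφ.obj K))⟦e⟧) := by
  subst hφ' hθ hk
  obtain ⟨L, ⟨adjL⟩⟩ := hG.1
  obtain ⟨Rσ, ⟨adjR⟩⟩ := Groth.Agent.Lib.RestrictRightAdj.exists_rightAdjoint_restrictD σ
  let eL : Lφ' ≅ Lφ ⋙ L :=
    adjLφ'.leftAdjointUniq ((adjLφ.comp adjL).ofNatIsoRight (restrictDComp φ ι).symm)
  let eR : Rθ ≅ Rσ ⋙ Rψ :=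
    adjRθ.rightAdjointUniq ((adjRψ.comp adjR).ofNatIsoLeft (restrictDComp σ ψ).symm)
  obtain ⟨e₀⟩ := hG.2 L adjL Rσ adjR (Lφ.obj K)
  letI := adjRψ.rightAdjointCommShift ℤ
  let Y : Dual.D T := Rσ.obj (L.obj (Lφ.obj K))
  let e₁ : Rθ.obj (Lφ'.obj K) ≅ Rψ.obj Y := Rθ.mapIso (eL.app K) ≪≫ eR.app _
  exact ⟨(shiftFunctor (Dual.D A) (d + e)).mapIso e₁ ≪≫
    (shiftFunctorAdd (Dual.D A) d e).app (Rψ.obj Y) ≪≫
    (shiftFunctor (Dual.D A) e).mapIso (((Rψ.commShiftIso d).app Y).symm ≪≫ Rψ.mapIso e₀)⟩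

end Step

end Groth.Agent.Lib.ShriekIndH6
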