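import Mathlib
import Groth.Prelude.Def_DRing2
import Groth.Prelude.Def_DDual2
import Groth.Agent.Lib.ShriekInd4_helper6
import Groth.Agent.Lib.ShriekInd2_helper6

/-!
# Independence of `φ^!` of the presentation (helper6), part 5: a principal retraction is good of
dimension one: `Rσ(Q ⊗ M)[1] ≅ M`.
-/

set_option autoImplicit false
universe u
open CategoryTheory CategoryTheory.Limits DerivedCategory Pretriangulated
open scoped TensorProduct
attribute [local instance] HasDerivedCategory.standard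

namespace Groth.Agent.Lib.ShriekIndH6

open DRing Groth.Agent.Lib.DMod_helper6

section Tri

variable {C : Type*} [Category C] [HasZeroObject C] [HasShift C ℤ] [Preadditive C]
  [∀ n : ℤ, (shiftFunctor C n).Additive] [Pretriangulated C]

lemma exists_of_mor₃_comp_eq_zero (T : Triangle C) (hT : T ∈ distTriang C) {Y : C}
    (f' : T.obj₁⟦(1 : ℤ)⟧ ⟶ Y) (hf : T.mor₃ ≫ f' = 0) :
    ∃ g : T.obj₂⟦(1 : ℤ)⟧ ⟶ Y, f' = T.mor₁⟦(1 : ℤ)⟧' ≫ g := by
  obtain ⟨g, hg⟩ : ∃ g : T.obj₂⟦(1 : ℤ)⟧ ⟶ Y, f' = (-(T.mor₁)⟦(1 : ℤ)⟧') ≫ g :=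
    Triangle.yoneda_exact₃ _ (rot_of_distTriang _ hT) f' hf
  refine ⟨-g, ?_⟩
  rw [hg, Preadditive.neg_comp, Preadditive.comp_neg]

end Tri

section Bij

variable {T Q : Type u} [CommRing T] [CommRing Q] [Algebra T Q] [Module.Flat T Q]
  (D : PrincRetr T Q)

lemma homEquiv_comp_u {W M' : Dual.D T} (g : (bcB T Q).obj W ⟶ (bcB T Q).obj M') :
    (adjD T Q).homEquiv W _ (g ≫ (D.u • 𝟙 _)) = (adjD T Q).homEquiv W _ g ≫ UD D M' := by
  rw [Adjunction.homEquiv_naturality_right]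
  rfl

lemma homEquiv_zero' (W : Dual.D T) (Y : Dual.D Q) :
    (adjD T Q).homEquiv W Y 0 = 0 := by
  rw [Adjunction.homEquiv_unit, Functor.map_zero, comp_zero]

lemma eq_zero_of_comp_u_eq_zero {W M' : Dual.D T} (g : (bcB T Q).obj W ⟶ (bcB T Q).obj M')
    (hg : g ≫ (D.u • 𝟙 _) = 0) : g = 0 := by
  obtain ⟨ρ, e, h1, -, -, -⟩ := exists_split D M'
  have h2 := homEquiv_comp_u D g
  rw [hg, homEquiv_zero'] at h2
  have h3 : (adjD T Q).homEquiv W _ g = 0 := by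
    have : (adjD T Q).homEquiv W _ g = ((adjD T Q).homEquiv W _ g ≫ UD D M') ≫ ρ := by
      rw [Category.assoc, h1]
      exact (Category.comp_id _).symm
    rw [this, ← h2, zero_comp]
  exact ((adjD T Q).homEquiv W _).injective (h3.trans (homEquiv_zero' W _).symm)

lemma eq_zero_of_comp_u_eq_zero' {W M : Dual.D T}
    (g : (bcB T Q).obj W ⟶ ((bcB T Q).obj M)⟦(1 : ℤ)⟧) (hg : g ≫ (D.u • 𝟙 _) = 0) : g = 0 := by
  let c := ((bcB T Q).commShiftIso (1 : ℤ)).app M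
  have h1 : (g ≫ c.inv) ≫ (D.u • 𝟙 _) = 0 := by
    have h2 : (g ≫ c.inv) ≫ (D.u • 𝟙 _) = (g ≫ (D.u • 𝟙 _)) ≫ c.inv := by
      simp only [Linear.comp_smul, Linear.smul_comp, Category.comp_id, Category.assoc]
    rw [h2, hg, zero_comp]
  have h3 := eq_zero_of_comp_u_eq_zero D _ h1
  have h4 : g = (g ≫ c.inv) ≫ c.hom := by
    rw [Category.assoc, Iso.inv_hom_id, Category.comp_id]
  rw [h4, h3, zero_comp]

lemma homEquiv_bcB_map {W M : Dual.D T} (f : W ⟶ M) :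
    (adjD T Q).homEquiv W _ ((bcB T Q).map f) = f ≫ etaD T Q M := by
  rw [Adjunction.homEquiv_unit]
  exact (etaD_naturality f).symm

lemma homEquiv_add' {W : Dual.D T} {Y : Dual.D Q} (a b : (bcB T Q).obj W ⟶ Y) :
    (adjD T Q).homEquiv W Y (a + b) = (adjD T Q).homEquiv W Y a + (adjD T Q).homEquiv W Y b := by
  rw [Adjunction.homEquiv_unit, Adjunction.homEquiv_unit, Adjunction.homEquiv_unit,
    Functor.map_add, Preadditive.comp_add]

/-- the key bijection `Hom(W, M) ≃ Hom(W|_σ, (Q ⊗ M)[1])`. -/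
theorem bijective_phi (W M : Dual.D T) :
    Function.Bijective
      (fun f : W ⟶ M => (deltaB D).app W ≫ ((bcB T Q).map f)⟦(1 : ℤ)⟧') := by
  obtain ⟨π, hπ⟩ := exists_tri D W
  obtain ⟨ρ, e, h1, h2, h3, h4⟩ := exists_split D M
  have hδu : (deltaB D).app W ≫ (D.u • 𝟙 ((bcB T Q).obj W))⟦(1 : ℤ)⟧' = 0 :=
    comp_distTriang_mor_zero₃₁ _ hπ
  have huπ : (D.u • 𝟙 ((bcB T Q).obj W)) ≫ π = 0 := comp_distTriang_mor_zero₁₂ _ hπ
  have hinj : ∀ f : W ⟶ M, (deltaB D).app W ≫ ((bcB T Q).map f)⟦(1 : ℤ)⟧' = 0 → f = 0 := by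
    intro f hf
    obtain ⟨g, hg⟩ := exists_of_mor₃_comp_eq_zero _ hπ (((bcB T Q).map f)⟦(1 : ℤ)⟧') hf
    obtain ⟨g₁, hg₁⟩ : ∃ g₁ : (bcB T Q).obj W ⟶ (bcB T Q).obj M, g₁⟦(1 : ℤ)⟧' = g :=
      (shiftFunctor (Dual.D Q) (1 : ℤ)).map_surjective g
    have hg' : (bcB T Q).map f = g₁ ≫ (D.u • 𝟙 _) := by
      apply (shiftFunctor (Dual.D Q) (1 : ℤ)).map_injective
      refine hg.trans ?_
      rw [← hg₁]
      show (D.u • 𝟙 ((bcB T Q).obj W))⟦(1 : ℤ)⟧' ≫ g₁⟦(1 : ℤ)⟧' = _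
      rw [← Functor.map_comp, Linear.smul_comp, Category.id_comp, Linear.comp_smul,
        Category.comp_id]
    have h7 := homEquiv_comp_u D g₁
    rw [← hg', homEquiv_bcB_map] at h7
    have h8 : f = (f ≫ etaD T Q M) ≫ e := by
      rw [Category.assoc, h3, Category.comp_id]
    rw [h8, h7, Category.assoc, h2, comp_zero]
  constructor
  · intro f f' hff
    have h9 : f - f' = 0 := hinj _ (by
      rw [Functor.map_sub, Functor.map_sub, Preadditive.comp_sub]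
      exact sub_eq_zero.2 hff)
    exact sub_eq_zero.1 h9
  · intro h
    have h8 : π ≫ h = 0 := by
      apply eq_zero_of_comp_u_eq_zero' D
      have h9 : (π ≫ h) ≫ (D.u • 𝟙 _) = ((D.u • 𝟙 ((bcB T Q).obj W)) ≫ π) ≫ h := by
        simp only [Linear.comp_smul, Linear.smul_comp, Category.comp_id, Category.id_comp,
          Category.assoc]
      rw [h9, huπ, zero_comp]
    obtain ⟨g, hg⟩ := Triangle.yoneda_exact₃ _ hπ h h8
    obtain ⟨g₁, hg₁⟩ : ∃ g₁ : (bcB T Q).obj W ⟶ (bcB T Q).obj M, g₁⟦(1 : ℤ)⟧' = g :=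
      (shiftFunctor (Dual.D Q) (1 : ℤ)).map_surjective g
    let gt := (adjD T Q).homEquiv W _ g₁
    let k : (bcB T Q).obj W ⟶ (bcB T Q).obj M := ((adjD T Q).homEquiv W _).symm (gt ≫ ρ)
    have h10 : g₁ = k ≫ (D.u • 𝟙 _) + (bcB T Q).map (gt ≫ e) := by
      apply ((adjD T Q).homEquiv W _).injective
      rw [homEquiv_add', homEquiv_comp_u, homEquiv_bcB_map, Equiv.apply_symm_apply]
      show gt = (gt ≫ ρ) ≫ UD D M + (gt ≫ e) ≫ etaD T Q M
      rw [Category.assoc, Category.assoc, ← Preadditive.comp_add, h4]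
      exact (Category.comp_id _).symm
    refine ⟨gt ≫ e, ?_⟩
    show (deltaB D).app W ≫ ((bcB T Q).map (gt ≫ e))⟦(1 : ℤ)⟧' = h
    have h11 : (deltaB D).app W ≫ (k ≫ (D.u • 𝟙 _))⟦(1 : ℤ)⟧' = 0 := by
      have h12 : k ≫ (D.u • 𝟙 _) = (D.u • 𝟙 _) ≫ k := by
        rw [Linear.smul_comp, Category.id_comp, Linear.comp_smul, Category.comp_id]
      rw [h12, Functor.map_comp, reassoc_of% hδu, zero_comp]
    rw [hg]
    show _ = (deltaB D).app W ≫ g
    rw [← hg₁, h10, Functor.map_add, Preadditive.comp_add, h11, zero_add]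

end Bij

section OV

variable {T Q : Type u} [CommRing T] [CommRing Q] [Algebra T Q] [Module.Flat T Q]
  (D : PrincRetr T Q)

/-- a principal retraction is good of dimension one. -/
theorem good_of_princRetr : Good (algebraMap T Q) D.σ 1 := by
  obtain ⟨Rσ, ⟨adjR⟩⟩ := Groth.Agent.Lib.RestrictRightAdj.exists_rightAdjoint_restrictD D.σ
  refine good_of_exists _ _ 1 (bcB T Q) (adjD T Q) Rσ adjR (fun M => ?_)
  letI := adjR.rightAdjointCommShift ℤ
  let N : Dual.D Q := ((bcB T Q).obj M)⟦(1 : ℤ)⟧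
  let a : M ⟶ Rσ.obj N := adjR.homEquiv M N ((deltaB D).app M)
  haveI : IsIso a := by
    apply isIso_of_yoneda_map_bijective
    intro W
    have h : (fun f : W ⟶ M => f ≫ a) = (adjR.homEquiv W N) ∘
        (fun f => (deltaB D).app W ≫ ((bcB T Q).map f)⟦(1 : ℤ)⟧') := by
      funext f
      show f ≫ adjR.homEquiv M N _ = adjR.homEquiv W N _
      rw [← Adjunction.homEquiv_naturality_left]
      congr 1
      exact (deltaB D).naturality f
    rw [h]
    exact (adjR.homEquiv W N).bijective.comp (bijective_phi D W M)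
  exact ⟨((Rσ.commShiftIso (1 : ℤ)).app _).symm ≪≫ (asIso a).symm⟩

end OV

end Groth.Agent.Lib.ShriekIndH6
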