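import Mathlib
import Groth.Prelude.Def_DRing2
import Groth.Prelude.Def_DDual2
import Groth.Agent.Lib.ShriekInd5_helper6
import Groth.Agent.Lib.DerivedAdj_helper2
import Groth.Prelude.Def_DualSh

/-!
# Independence of `φ^!` of the presentation (helper6), part 6: retractions of polynomial rings in
several variables are good.
-/

set_option autoImplicit false
universe u
open CategoryTheory CategoryTheory.Limits DerivedCategory Pretriangulated
attribute [local instance] HasDerivedCategory.standard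

namespace Groth.Agent.Lib.ShriekIndH6

open DRing

section MvPoly

/-- every retraction of `T → T[y_1, …, y_m]` is good of dimension `m`. -/
theorem good_mvPolynomial (T : Type u) [CommRing T] (m : ℕ) :
    ∀ (σ : MvPolynomial (Fin m) T →+* T),
      (∀ t : T, σ (algebraMap T (MvPolynomial (Fin m) T) t) = t) →
      Good (algebraMap T (MvPolynomial (Fin m) T)) σ (m : ℤ) := by
  induction m with
  | zero =>
    intro σ hσ
    let ε : MvPolynomial (Fin 0) T ≃+* T := (MvPolynomial.isEmptyAlgEquiv T (Fin 0)).toRingEquiv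
    have h1 : ε.symm.toRingHom = algebraMap T (MvPolynomial (Fin 0) T) := by
      refine RingHom.ext (fun t => ?_)
      exact (MvPolynomial.isEmptyAlgEquiv T (Fin 0)).symm.commutes t
    have h2 : ε.toRingHom = σ := by
      refine RingHom.ext (fun b => ?_)
      obtain ⟨t, rfl⟩ := ε.symm.surjective b
      have h3 : ε.symm t = algebraMap T (MvPolynomial (Fin 0) T) t := RingHom.congr_fun h1 t
      show ε (ε.symm t) = σ (ε.symm t)
      rw [RingEquiv.apply_symm_apply, h3, hσ]
    exact (good_ringEquiv ε).congr h1 h2 (by simp)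
  | succ m ih =>
    intro σ hσ
    let Tm := MvPolynomial (Fin m) T
    let B := MvPolynomial (Fin (m + 1)) T
    let e : B ≃ₐ[T] Polynomial Tm := MvPolynomial.finSuccEquiv T m
    let σm : Tm →+* T := σ.comp (e.symm.toAlgHom.toRingHom.comp Polynomial.C)
    have hσm : ∀ t : T, σm (algebraMap T Tm t) = t := by
      intro t
      show σ (e.symm (Polynomial.C (algebraMap T Tm t))) = t
      have h1 : Polynomial.C (algebraMap T Tm t) = algebraMap T (Polynomial Tm) t := by
        rw [IsScalarTower.algebraMap_apply T Tm (Polynomial Tm), Polynomial.algebraMap_apply,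
          Algebra.algebraMap_self, RingHom.id_apply]
      rw [h1, e.symm.commutes, hσ]
    let s : T := σ (e.symm Polynomial.X)
    let c : Tm := algebraMap T Tm s
    have hA := good_comp (ih σm hσm) (good_of_princRetr (polyRetr c))
    have hB := good_comp hA (good_ringEquiv e.toRingEquiv)
    refine hB.congr ?_ ?_ ?_
    · refine RingHom.ext (fun t => ?_)
      show e.symm (algebraMap Tm (Polynomial Tm) (algebraMap T Tm t)) = algebraMap T B t
      rw [← IsScalarTower.algebraMap_apply T Tm (Polynomial Tm), e.symm.commutes]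
    · have h2 : (σm.comp (polyRetr c).σ) = σ.comp e.symm.toAlgHom.toRingHom := by
        apply Polynomial.ringHom_ext
        · intro a
          show σm (Polynomial.eval c (Polynomial.C a)) = σ (e.symm (Polynomial.C a))
          rw [Polynomial.eval_C]
          rfl
        · show σm (Polynomial.eval c Polynomial.X) = σ (e.symm Polynomial.X)
          rw [Polynomial.eval_X]
          exact hσm s
      refine RingHom.ext (fun b => ?_)
      show σm ((polyRetr c).σ (e b)) = σ b
      have h3 := RingHom.congr_fun h2 (e b)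
      rw [RingHom.comp_apply] at h3
      rw [h3]
      show σ (e.symm (e b)) = σ b
      rw [AlgEquiv.symm_apply_apply]
    · push_cast
      ring

end MvPoly

section Main

/-- **`φ^!` is independent of the presentation** (S1781). -/
theorem shriekVia_independent (R A : Type u) [CommRing R] [CommRing A] [Algebra R A] (n : ℕ)
    (ψ : MvPolynomial (Fin n) R →ₐ[R] A) (hψ : Function.Surjective ψ)
    [DRing.HasLBaseChange (algebraMap R (MvPolynomial (Fin n) R))]
    (Rψ : Dual.D (MvPolynomial (Fin n) R) ⥤ Dual.D A) (adj : DRing.restrictD ψ.toRingHom ⊣ Rψ)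
    (m : ℕ) (ψ' : MvPolynomial (Fin m) R →ₐ[R] A) (hψ' : Function.Surjective ψ')
    [DRing.HasLBaseChange (algebraMap R (MvPolynomial (Fin m) R))]
    (Rψ' : Dual.D (MvPolynomial (Fin m) R) ⥤ Dual.D A)
    (adj' : DRing.restrictD ψ'.toRingHom ⊣ Rψ') (K : Dual.D R) :
    Nonempty (Dual2.shriekVia n Rψ K ≅ Dual2.shriekVia m Rψ' K) := by
  let Pn := MvPolynomial (Fin n) R
  let Pm := MvPolynomial (Fin m) R
  let B₁ := MvPolynomial (Fin m) Pn
  let B₂ := MvPolynomial (Fin n) Pm
  let c : Fin m → Pn := fun j => (hψ (ψ' (MvPolynomial.X j))).choose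
  have hc : ∀ j, ψ (c j) = ψ' (MvPolynomial.X j) := fun j => (hψ _).choose_spec
  let c' : Fin n → Pm := fun i => (hψ' (ψ (MvPolynomial.X i))).choose
  have hc' : ∀ i, ψ' (c' i) = ψ (MvPolynomial.X i) := fun i => (hψ' _).choose_spec
  let σ₁ : B₁ →+* Pn := (MvPolynomial.aeval c : B₁ →ₐ[Pn] Pn).toRingHom
  have hσ₁ : ∀ p : Pn, σ₁ (algebraMap Pn B₁ p) = p := fun p =>
    (MvPolynomial.aeval c : B₁ →ₐ[Pn] Pn).commutes p
  let σ₂ : B₂ →+* Pm := (MvPolynomial.aeval c' : B₂ →ₐ[Pm] Pm).toRingHom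
  have hσ₂ : ∀ p : Pm, σ₂ (algebraMap Pm B₂ p) = p := fun p =>
    (MvPolynomial.aeval c' : B₂ →ₐ[Pm] Pm).commutes p
  let θ₁ : B₁ →+* A := ψ.toRingHom.comp σ₁
  let θ₂ : B₂ →+* A := ψ'.toRingHom.comp σ₂
  let ε : B₁ ≃ₐ[R] B₂ := MvPolynomial.commAlgEquiv R (Fin m) (Fin n)
  have hθ : θ₁ = θ₂.comp ε.toRingEquiv.toRingHom := by
    apply MvPolynomial.ringHom_ext
    · intro p
      have h1 : (θ₁.comp MvPolynomial.C) = ((θ₂.comp ε.toRingEquiv.toRingHom).comp
          MvPolynomial.C) := by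
        apply MvPolynomial.ringHom_ext
        · intro r
          show ψ (σ₁ (MvPolynomial.C (MvPolynomial.C r))) =
            ψ' (σ₂ (ε (MvPolynomial.C (MvPolynomial.C r))))
          have h2 : ε (MvPolynomial.C (MvPolynomial.C r)) = algebraMap R B₂ r :=
            ε.commutes r
          have h3 : σ₁ (MvPolynomial.C (MvPolynomial.C r)) = MvPolynomial.C r :=
            hσ₁ (MvPolynomial.C r)
          have h4 : σ₂ (algebraMap R B₂ r) = MvPolynomial.C r := by
            rw [IsScalarTower.algebraMap_apply R Pm B₂]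
            exact hσ₂ _
          rw [h2, h3, h4]
          exact (ψ.commutes r).trans (ψ'.commutes r).symm
        · intro i
          show ψ (σ₁ (MvPolynomial.C (MvPolynomial.X i))) =
            ψ' (σ₂ (ε (MvPolynomial.C (MvPolynomial.X i))))
          have h2 : ε (MvPolynomial.C (MvPolynomial.X i)) = MvPolynomial.X i :=
            MvPolynomial.commAlgEquiv_C_X i
          have h3 : σ₁ (MvPolynomial.C (MvPolynomial.X i)) = MvPolynomial.X i :=
            hσ₁ (MvPolynomial.X i)
          have h4 : σ₂ (MvPolynomial.X i) = c' i := MvPolynomial.aeval_X c' i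
          rw [h2, h3, h4, hc']
      exact RingHom.congr_fun h1 p
    · intro j
      show ψ (σ₁ (MvPolynomial.X j)) = ψ' (σ₂ (ε (MvPolynomial.X j)))
      have h2 : ε (MvPolynomial.X j) = MvPolynomial.C (MvPolynomial.X j) :=
        MvPolynomial.commAlgEquiv_X j
      have h3 : σ₁ (MvPolynomial.X j) = c j := MvPolynomial.aeval_X c j
      have h4 : σ₂ (MvPolynomial.C (MvPolynomial.X j)) = MvPolynomial.X j :=
        hσ₂ (MvPolynomial.X j)
      rw [h2, h3, h4, hc]
  haveI : Module.Flat R B₁ := Module.Flat.trans R Pn B₁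
  haveI : Module.Flat R B₂ := Module.Flat.trans R Pm B₂
  obtain ⟨adjL₁⟩ := Groth.Agent.Lib.DerivedAdj.nonempty_adj (algebraMap R Pn)
  obtain ⟨adjL₂⟩ := Groth.Agent.Lib.DerivedAdj.nonempty_adj (algebraMap R Pm)
  obtain ⟨Rθ₁, ⟨adjR₁⟩⟩ := Groth.Agent.Lib.RestrictRightAdj.exists_rightAdjoint_restrictD θ₁
  obtain ⟨Rθ₂, ⟨adjR₂⟩⟩ := Groth.Agent.Lib.RestrictRightAdj.exists_rightAdjoint_restrictD θ₂
  have hG₁ : Good (algebraMap Pn B₁) σ₁ (m : ℤ) := good_mvPolynomial Pn m σ₁ hσ₁
  have hG₂ : Good (algebraMap Pm B₂) σ₂ (n : ℤ) := good_mvPolynomial Pm n σ₂ hσ₂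
  have hG₃ := good_ringEquiv ε.toRingEquiv
  obtain ⟨e₁⟩ := step hG₁ (φ := algebraMap R Pn) (ψ := ψ.toRingHom) (φ' := algebraMap R B₁)
    (IsScalarTower.algebraMap_eq R Pn B₁) (θ := θ₁) rfl
    (DRing.LBaseChange (algebraMap R Pn)) adjL₁ (bcB R B₁) (adjD R B₁) Rψ adj Rθ₁ adjR₁ K
    (n : ℤ) ((m : ℤ) + (n : ℤ)) rfl
  obtain ⟨e₂⟩ := step hG₂ (φ := algebraMap R Pm) (ψ := ψ'.toRingHom) (φ' := algebraMap R B₂)
    (IsScalarTower.algebraMap_eq R Pm B₂) (θ := θ₂) rfl
    (DRing.LBaseChange (algebraMap R Pm)) adjL₂ (bcB R B₂) (adjD R B₂) Rψ' adj' Rθ₂ adjR₂ K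
    (m : ℤ) ((n : ℤ) + (m : ℤ)) rfl
  have hφ : algebraMap R B₁ = ε.toRingEquiv.symm.toRingHom.comp (algebraMap R B₂) := by
    refine RingHom.ext (fun r => ?_)
    exact (ε.symm.commutes r).symm
  obtain ⟨e₃⟩ := step hG₃ (φ := algebraMap R B₂) (ψ := θ₂) (φ' := algebraMap R B₁) hφ
    (θ := θ₁) hθ (bcB R B₂) (adjD R B₂) (bcB R B₁) (adjD R B₁) Rθ₂ adjR₂ Rθ₁ adjR₁ K
    ((n : ℤ) + (m : ℤ)) ((m : ℤ) + (n : ℤ)) (by ring)
  exact ⟨e₁.symm ≪≫ e₃ ≪≫ e₂⟩

end Main

end Groth.Agent.Lib.ShriekIndH6
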