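import Mathlib
import Groth.Prelude.Def_DRing2
import Groth.Prelude.Def_DDual2
import Groth.Prelude.Def_Wider
import Groth.Prelude.Def_DualSh
import Groth.Agent.Lib.FlatBC7_helper6
import Groth.Agent.Lib.ShriekInd6_helper6
import Groth.Agent.Lib.RestrictRightAdj_helper2

/-!
# Flat base change for `φ^!` (helper6), part 8: S1800.
-/

set_option autoImplicit false
universe u
open CategoryTheory CategoryTheory.Limits DerivedCategory Pretriangulated
open scoped TensorProduct
attribute [local instance] HasDerivedCategory.standard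

namespace Groth.Agent.Lib.FlatBCH6

open DRing Groth.Agent.Lib.DMod_helper6 Groth.Agent.Lib.ShriekIndH6

attribute [local instance] MvPolynomial.algebraMvPolynomial Algebra.TensorProduct.rightAlgebra

section Pres

variable {R R' A : Type u} [CommRing R] [CommRing R'] [CommRing A] [Algebra R R'] [Algebra R A]
  {n : ℕ} (ψ : MvPolynomial (Fin n) R →ₐ[R] A)

/-- the base changed presentation -/
noncomputable def presBC : MvPolynomial (Fin n) R' →ₐ[R'] (R' ⊗[R] A) :=
  MvPolynomial.aeval (fun i => (1 : R') ⊗ₜ[R] ψ (MvPolynomial.X i))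

lemma presBC_map (p : MvPolynomial (Fin n) R) :
    presBC (R' := R') ψ (MvPolynomial.map (algebraMap R R') p) = (1 : R') ⊗ₜ[R] ψ p := by
  have h : ((presBC (R' := R') ψ).toRingHom.comp (MvPolynomial.map (algebraMap R R'))) =
      (Algebra.TensorProduct.includeRight : A →ₐ[R] R' ⊗[R] A).toRingHom.comp ψ.toRingHom := by
    apply MvPolynomial.ringHom_ext
    · intro r
      show presBC (R' := R') ψ (MvPolynomial.map (algebraMap R R') (MvPolynomial.C r)) =
        (1 : R') ⊗ₜ[R] ψ (MvPolynomial.C r)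
      rw [MvPolynomial.map_C]
      have h1 : presBC (R' := R') ψ (MvPolynomial.C (algebraMap R R' r)) =
          algebraMap R' (R' ⊗[R] A) (algebraMap R R' r) := (presBC (R' := R') ψ).commutes _
      have h2 : ψ (MvPolynomial.C r) = algebraMap R A r := ψ.commutes r
      rw [h1, h2, Algebra.TensorProduct.algebraMap_apply, Algebra.algebraMap_self,
        RingHom.id_apply, Algebra.algebraMap_eq_smul_one, Algebra.algebraMap_eq_smul_one,
        TensorProduct.smul_tmul]
    · intro i
      show presBC (R' := R') ψ (MvPolynomial.map (algebraMap R R') (MvPolynomial.X i)) =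
        (1 : R') ⊗ₜ[R] ψ (MvPolynomial.X i)
      rw [MvPolynomial.map_X]
      exact MvPolynomial.aeval_X _ i
  exact RingHom.congr_fun h p

lemma presBC_surjective (hψ : Function.Surjective ψ) :
    Function.Surjective (presBC (R' := R') ψ) := by
  intro x
  induction x using TensorProduct.induction_on with
  | zero => exact ⟨0, map_zero _⟩
  | tmul r' a =>
    obtain ⟨p, rfl⟩ := hψ a
    refine ⟨MvPolynomial.C r' * MvPolynomial.map (algebraMap R R') p, ?_⟩
    rw [map_mul, presBC_map]
    have h1 : presBC (R' := R') ψ (MvPolynomial.C r') = algebraMap R' (R' ⊗[R] A) r' :=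
      (presBC (R' := R') ψ).commutes _
    rw [h1, Algebra.TensorProduct.algebraMap_apply, Algebra.algebraMap_self, RingHom.id_apply,
      Algebra.TensorProduct.tmul_mul_tmul, mul_one, one_mul]
  | add x y hx hy =>
    obtain ⟨p, rfl⟩ := hx
    obtain ⟨q, rfl⟩ := hy
    exact ⟨p + q, map_add _ _ _⟩

end Pres

section Main

/-- **S1800**: flat base change for `φ^!`. -/
theorem main1800 (R R' A : Type u) [CommRing R] [CommRing R'] [CommRing A] [IsNoetherianRing R]
    [Algebra R R'] [Module.Flat R R'] [Algebra R A] (n : ℕ)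
    (ψ : MvPolynomial (Fin n) R →ₐ[R] A) (hψ : Function.Surjective ψ)
    [DRing.HasLBaseChange (algebraMap R (MvPolynomial (Fin n) R))]
    (Rψ : Dual.D (MvPolynomial (Fin n) R) ⥤ Dual.D A) (adj : DRing.restrictD ψ.toRingHom ⊣ Rψ)
    (m : ℕ) (ψ' : MvPolynomial (Fin m) R' →ₐ[R'] (R' ⊗[R] A)) (hψ' : Function.Surjective ψ')
    [DRing.HasLBaseChange (algebraMap R' (MvPolynomial (Fin m) R'))]
    (Rψ' : Dual.D (MvPolynomial (Fin m) R') ⥤ Dual.D (R' ⊗[R] A))
    (adj' : DRing.restrictD ψ'.toRingHom ⊣ Rψ')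
    [DRing.HasLBaseChange
      (Algebra.TensorProduct.includeRight : A →ₐ[R] R' ⊗[R] A).toRingHom]
    [DRing.HasLBaseChange (algebraMap R R')] (K : Dual.D R) (c : ℤ)
    (hK : ∀ i : ℤ, i < c → Subsingleton (Dual.HD R K i)) :
    Nonempty ((DRing.LBaseChange
        (Algebra.TensorProduct.includeRight : A →ₐ[R] R' ⊗[R] A).toRingHom).obj
        (Dual2.shriekVia n Rψ K) ≅
      Dual2.shriekVia m Rψ' ((DRing.LBaseChange (algebraMap R R')).obj K)) := by
  let P := MvPolynomial (Fin n) R
  let P'' := MvPolynomial (Fin n) R'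
  let A' := R' ⊗[R] A
  let ψ'' : P'' →ₐ[R'] A' := presBC (R' := R') ψ
  have hψ'' : Function.Surjective ψ'' := presBC_surjective ψ hψ
  letI algPA : Algebra P A := ψ.toRingHom.toAlgebra
  letI algP''A' : Algebra P'' A' := ψ''.toRingHom.toAlgebra
  letI algPA' : Algebra P A' := ((algebraMap A A').comp (algebraMap P A)).toAlgebra
  haveI t1 : IsScalarTower P A A' := IsScalarTower.of_algebraMap_eq (fun _ => rfl)
  haveI t2 : IsScalarTower P P'' A' := IsScalarTower.of_algebraMap_eq (fun p => by
    show (1 : R') ⊗ₜ[R] ψ p = ψ'' (MvPolynomial.map (algebraMap R R') p)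
    exact (presBC_map ψ p).symm)
  haveI t3 : IsScalarTower R P A := IsScalarTower.of_algebraMap_eq (fun r => (ψ.commutes r).symm)
  haveI t4 : IsScalarTower R' P'' A' :=
    IsScalarTower.of_algebraMap_eq (fun r => (ψ''.commutes r).symm)
  haveI t5 : IsScalarTower R P'' A' := IsScalarTower.of_algebraMap_eq (fun r => by
    rw [IsScalarTower.algebraMap_apply R R' A', IsScalarTower.algebraMap_apply R R' P'',
      ← IsScalarTower.algebraMap_apply R' P'' A'])
  haveI po1 : Algebra.IsPushout R A R' A' := inferInstance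
  haveI po2 : Algebra.IsPushout P A P'' A' := (Algebra.IsPushout.comp_iff R P R' P'').1 po1
  haveI po3 : Algebra.IsPushout P P'' A A' := po2.symm
  haveI fl1 : Module.Flat P P'' :=
    Module.Flat.isBaseChange R P R' P''
      (Algebra.IsPushout.out : IsBaseChange P (IsScalarTower.toAlgHom R R' P'').toLinearMap)
  haveI fl2 : Module.Flat A A' :=
    Module.Flat.isBaseChange R A R' A'
      (Algebra.IsPushout.out : IsBaseChange A (IsScalarTower.toAlgHom R R' A').toLinearMap)
  haveI fin1 : Module.Finite P A := Module.Finite.of_surjective (Algebra.linearMap P A) hψ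
  have hA : resPC (algebraMap P A) (Dual.inD A A) := resPC_self
  haveI hL'' : DRing.HasLBaseChange (algebraMap R' P'') := hasLBaseChange_of_flat
  obtain ⟨adjLι⟩ := Groth.Agent.Lib.DerivedAdj.nonempty_adj (algebraMap R P)
  obtain ⟨adjLι''⟩ := Groth.Agent.Lib.DerivedAdj.nonempty_adj (algebraMap R' P'')
  obtain ⟨adjLρ⟩ := Groth.Agent.Lib.DerivedAdj.nonempty_adj (algebraMap R R')
  obtain ⟨adjLα⟩ := Groth.Agent.Lib.DerivedAdj.nonempty_adj
    (Algebra.TensorProduct.includeRight : A →ₐ[R] R' ⊗[R] A).toRingHom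
  obtain ⟨Rψ'', ⟨adj''⟩⟩ :=
    Groth.Agent.Lib.RestrictRightAdj.exists_rightAdjoint_restrictD ψ''.toRingHom
  haveI : DerivedCategory.IsGE K c := isGE_of_subsingleton_HD K c hK
  obtain ⟨e1⟩ := flatBC_shriek_general (R := R) (R' := R') (P := P) (P' := P'') (A := A)
    (A' := A') hA (DRing.LBaseChange (algebraMap R P)) adjLι
    (DRing.LBaseChange (algebraMap R' P'')) adjLι''
    (DRing.LBaseChange (algebraMap R R')) adjLρ
    (DRing.LBaseChange (Algebra.TensorProduct.includeRight : A →ₐ[R] R' ⊗[R] A).toRingHom) adjLα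
    Rψ adj Rψ'' adj'' K c (n : ℤ)
  obtain ⟨e2⟩ := shriekVia_independent R' A' n ψ'' hψ'' Rψ'' adj'' m ψ' hψ' Rψ' adj'
    ((DRing.LBaseChange (algebraMap R R')).obj K)
  exact ⟨e1 ≪≫ e2⟩

end Main

end Groth.Agent.Lib.FlatBCH6
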