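import Mathlib
import Groth.Prelude.Def_DRing2
import Groth.Prelude.Def_DDual2
import Groth.Prelude.Def_Wider
import Groth.Prelude.Def_DualSh
import Groth.Agent.Lib.FlatBC10_helper6
import Groth.Agent.Lib.FlatBC8_helper6
import Groth.Agent.Lib.PerfHom1_helper2
import Groth.Agent.Lib.FinSubOI_helper4
import Groth.Agent.Lib.DMod43_helper6

/-!
# Flat base change for `φ^!` (helper6), part 11: `φ^!` for an open immersion (S8943).
-/

set_option autoImplicit false
universe u
open CategoryTheory CategoryTheory.Limits DerivedCategory Pretriangulated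
open scoped TensorProduct
attribute [local instance] HasDerivedCategory.standard

namespace Groth.Agent.Lib.FlatBCH6

open DRing Groth.Agent.Lib.DMod_helper6 Groth.Agent.Lib.ShriekIndH6

section TargetIso

variable {B T T' : Type u} [CommRing B] [CommRing T] [CommRing T']

/-- changing the target of a right adjoint of restriction along a ring isomorphism -/
theorem nonempty_rightAdj_targetIso (ψ' : B →+* T') (μ : T' ≃+* T) (σ : B →+* T)
    (hσ : μ.toRingHom.comp ψ' = σ) (α : T →+* T') (hα : α = μ.symm.toRingHom)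
    (Rψ' : Dual.D B ⥤ Dual.D T') (adj' : restrictD ψ' ⊣ Rψ')
    (Rσ : Dual.D B ⥤ Dual.D T) (adjσ : restrictD σ ⊣ Rσ) (X : Dual.D B) :
    Nonempty ((restrictD α).obj (Rψ'.obj X) ≅ Rσ.obj X) := by
  subst hα
  let adj1 : restrictD μ.toRingHom ⋙ restrictD ψ' ⊣ Rψ' ⋙ restrictD μ.symm.toRingHom :=
    (restrictDEquivalence μ).toAdjunction.comp adj'
  let adj2 : restrictD σ ⊣ Rψ' ⋙ restrictD μ.symm.toRingHom :=
    adj1.ofNatIsoLeft (restrictDComp' ψ' μ.toRingHom σ hσ).symm
  exact ⟨(adj2.rightAdjointUniq adjσ).app X⟩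

/-- a left adjoint of restriction along a ring isomorphism is inverse to it -/
theorem nonempty_restrict_leftAdj_iso (μ : T' ≃+* T) (α : T →+* T')
    (hα : α = μ.symm.toRingHom) (Lα : Dual.D T ⥤ Dual.D T') (adjLα : Lα ⊣ restrictD α)
    (S : Dual.D T) : Nonempty ((restrictD α).obj (Lα.obj S) ≅ S) := by
  subst hα
  let e : Lα ≅ restrictD μ.toRingHom :=
    adjLα.leftAdjointUniq (restrictDEquivalence μ).toAdjunction
  exact ⟨(restrictD μ.symm.toRingHom).mapIso (e.app S) ≪≫ ((restrictDEquivUnit μ).app S).symm⟩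

end TargetIso

section Epi

variable (R R' : Type u) [CommRing R] [CommRing R'] [Algebra R R'] [Algebra.IsEpi R R']

/-- for an epimorphism `R → R'`, the multiplication `R' ⊗[R] R' → R'` is a ring isomorphism
with inverse `includeRight` -/
noncomputable def mulEquivOfEpi : (R' ⊗[R] R') ≃+* R' :=
  RingEquiv.ofRingHom (Algebra.TensorProduct.lmul' R : R' ⊗[R] R' →ₐ[R] R').toRingHom
    (Algebra.TensorProduct.includeRight : R' →ₐ[R] R' ⊗[R] R').toRingHom
    (by
      refine RingHom.ext (fun a => ?_)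
      show Algebra.TensorProduct.lmul' R ((1 : R') ⊗ₜ[R] a) = a
      rw [Algebra.TensorProduct.lmul'_apply_tmul, one_mul])
    (by
      have h := (Algebra.isEpi_iff_forall_one_tmul_eq R R').1 inferInstance
      refine RingHom.ext (fun x => ?_)
      show (1 : R') ⊗ₜ[R] (Algebra.TensorProduct.lmul' R x) = x
      induction x using TensorProduct.induction_on with
      | zero => rw [map_zero, TensorProduct.tmul_zero]
      | tmul u v =>
        rw [Algebra.TensorProduct.lmul'_apply_tmul]
        calc (1 : R') ⊗ₜ[R] (u * v) = ((1 : R') ⊗ₜ[R] u) * ((1 : R') ⊗ₜ[R] v) := by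
              rw [Algebra.TensorProduct.tmul_mul_tmul, one_mul]
          _ = (u ⊗ₜ[R] (1 : R')) * ((1 : R') ⊗ₜ[R] v) := by rw [h u]
          _ = u ⊗ₜ[R] v := by rw [Algebra.TensorProduct.tmul_mul_tmul, one_mul, mul_one]
      | add x y hx hy => rw [map_add, TensorProduct.tmul_add, hx, hy])

lemma mulEquivOfEpi_symm :
    (Algebra.TensorProduct.includeRight : R' →ₐ[R] R' ⊗[R] R').toRingHom =
      (mulEquivOfEpi R R').symm.toRingHom := rfl

lemma mulEquivOfEpi_tmul (a b : R') : mulEquivOfEpi R R' (a ⊗ₜ[R] b) = a * b :=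
  Algebra.TensorProduct.lmul'_apply_tmul (R := R) a b

end Epi

end Groth.Agent.Lib.FlatBCH6
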