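import Mathlib
import Groth.Prelude.Def_DRing2
import Groth.Prelude.Def_DDual2
import Groth.Prelude.Def_Wider
import Groth.Prelude.Def_DualSh
import Groth.Agent.Lib.FlatBC11_helper6

/-!
# Flat base change for `φ^!` (helper6), part 12: `φ^!` for an open immersion (S8943).
-/

set_option autoImplicit false
universe u
open CategoryTheory CategoryTheory.Limits DerivedCategory Pretriangulated
open scoped TensorProduct
attribute [local instance] HasDerivedCategory.standard

namespace Groth.Agent.Lib.FlatBCH6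

open DRing Groth.Agent.Lib.DMod_helper6 Groth.Agent.Lib.ShriekIndH6

attribute [local instance] MvPolynomial.algebraMvPolynomial Algebra.TensorProduct.rightAlgebra

section PerfBC

/-- flat base change for `φ^!`, perfect presentation, arbitrary `K` -/
theorem shriek_flatBC_perf (R R' A : Type u) [CommRing R] [CommRing R'] [CommRing A]
    [Algebra R R'] [Module.Flat R R'] [Algebra R A] (n : ℕ)
    (ψ : MvPolynomial (Fin n) R →ₐ[R] A)
    (hperf : resPerf ψ.toRingHom (Dual.inD A A))
    (Rψ : Dual.D (MvPolynomial (Fin n) R) ⥤ Dual.D A) (adj : DRing.restrictD ψ.toRingHom ⊣ Rψ)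
    (Rψ'' : Dual.D (MvPolynomial (Fin n) R') ⥤ Dual.D (R' ⊗[R] A))
    (adj'' : DRing.restrictD (presBC (R' := R') ψ).toRingHom ⊣ Rψ'')
    (Lι : Dual.D R ⥤ Dual.D (MvPolynomial (Fin n) R))
    (adjLι : Lι ⊣ restrictD (algebraMap R (MvPolynomial (Fin n) R)))
    (Lι'' : Dual.D R' ⥤ Dual.D (MvPolynomial (Fin n) R'))
    (adjLι'' : Lι'' ⊣ restrictD (algebraMap R' (MvPolynomial (Fin n) R')))
    (Lρ : Dual.D R ⥤ Dual.D R') (adjLρ : Lρ ⊣ restrictD (algebraMap R R'))
    (Lα : Dual.D A ⥤ Dual.D (R' ⊗[R] A))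
    (adjLα : Lα ⊣ restrictD
      (Algebra.TensorProduct.includeRight : A →ₐ[R] R' ⊗[R] A).toRingHom)
    (K : Dual.D R) (d : ℤ) :
    Nonempty (Lα.obj ((Rψ.obj (Lι.obj K))⟦d⟧) ≅ (Rψ''.obj (Lι''.obj (Lρ.obj K)))⟦d⟧) := by
  let P := MvPolynomial (Fin n) R
  let P'' := MvPolynomial (Fin n) R'
  let A' := R' ⊗[R] A
  let ψ'' : P'' →ₐ[R'] A' := presBC (R' := R') ψ
  letI algPA : Algebra P A := ψ.toRingHom.toAlgebra
  letI algP''A' : Algebra P'' A' := ψ''.toRingHom.toAlgebra
  letI algPA' : Algebra P A' := ((algebraMap A A').comp (algebraMap P A)).toAlgebra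
  haveI t1 : IsScalarTower P A A' := IsScalarTower.of_algebraMap_eq (fun _ => rfl)
  haveI t2 : IsScalarTower P P'' A' := IsScalarTower.of_algebraMap_eq (fun p => by
    show (1 : R') ⊗ₜ[R] ψ p = ψ'' (MvPolynomial.map (algebraMap R R') p)
    exact (presBC_map ψ p).symm)
  haveI t3 : IsScalarTower R P A := IsScalarTower.of_algebraMap_eq (fun r => (ψ.commutes r).symm)
  haveI t4 : IsScalarTower R' P'' A' :=
    IsScalarTower.of_algebraMap_eq (fun r => (ψ''.commutes r).symm)
  haveI t5 : IsScalarTower R P'' A' := IsScalarTower.of_algebraMap_eq (fun r => by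
    rw [IsScalarTower.algebraMap_apply R R' A', IsScalarTower.algebraMap_apply R R' P'',
      ← IsScalarTower.algebraMap_apply R' P'' A'])
  haveI po1 : Algebra.IsPushout R A R' A' := inferInstance
  haveI po2 : Algebra.IsPushout P A P'' A' := (Algebra.IsPushout.comp_iff R P R' P'').1 po1
  haveI po3 : Algebra.IsPushout P P'' A A' := po2.symm
  haveI fl1 : Module.Flat P P'' :=
    Module.Flat.isBaseChange R P R' P''
      (Algebra.IsPushout.out : IsBaseChange P (IsScalarTower.toAlgHom R R' P'').toLinearMap)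
  haveI fl2 : Module.Flat A A' :=
    Module.Flat.isBaseChange R A R' A'
      (Algebra.IsPushout.out : IsBaseChange A (IsScalarTower.toAlgHom R R' A').toLinearMap)
  have hA : resPerf (algebraMap P A) (Dual.inD A A) := hperf
  exact flatBC_shriek_general_of_perf (R := R) (R' := R') (P := P) (P' := P'') (A := A)
    (A' := A') hA Lι adjLι Lι'' adjLι'' Lρ adjLρ Lα adjLα Rψ adj Rψ'' adj'' K d

end PerfBC

section FlatPerf

/-- a flat algebra of finite type over a Noetherian ring is perfect over any polynomial ring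
surjecting onto it -/
theorem resPerf_of_flat (R A : Type u) [CommRing R] [CommRing A] [IsNoetherianRing R]
    [Algebra R A] [Module.Flat R A] (n : ℕ) (ψ : MvPolynomial (Fin n) R →ₐ[R] A)
    (hψ : Function.Surjective ψ) : resPerf ψ.toRingHom (Dual.inD A A) := by
  let P := MvPolynomial (Fin n) R
  letI algPA : Algebra P A := ψ.toRingHom.toAlgebra
  haveI fin1 : Module.Finite P A := Module.Finite.of_surjective (Algebra.linearMap P A) hψ
  have hpc : resPC (algebraMap P A) (Dual.inD A A) := resPC_self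
  have hftd : DRing.HasFiniteTorDim R A :=
    Groth.Agent.Lib.PCHom.ftd_algebraMap.1
      (Groth.Agent.Lib.PCHom.FTD.of_flat _ (RingHom.flat_algebraMap_iff.2 inferInstance))
  obtain ⟨d, hd⟩ := Groth.Agent.Lib.PCHom.FTD.mvPolynomial ψ hftd
  exact (isPerfect_iff_pc_and_finiteTorDim _).2 ⟨hpc, ⟨-(d : ℤ), 0, hd⟩⟩

end FlatPerf

end Groth.Agent.Lib.FlatBCH6
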