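import Mathlib
import Groth.Prelude.Def_TrivBC
import Groth.Prelude.Def_DTen4
import Groth.Prelude.Def_DRing4
import Groth.Prelude.Def_DualSh
import Groth.Agent.Lib.TrivBC14_helper6
import Groth.Agent.Lib.FlatBC12_helper6

/-!
# Tor-independent base change (helper6), part 15: base change for `φ^!` with `φ` flat (S1807).
-/

set_option autoImplicit false
universe u
open CategoryTheory CategoryTheory.Limits DerivedCategory Pretriangulated
open scoped TensorProduct
attribute [local instance] HasDerivedCategory.standard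

namespace Groth.Agent.Lib.TrivBCH6

open DRing Groth.Agent.Lib.DMod_helper6 Groth.Agent.Lib.ShriekIndH6 Groth.Agent.Lib.FlatBCH6

attribute [local instance] MvPolynomial.algebraMvPolynomial Algebra.TensorProduct.rightAlgebra

section Main

/-- the restriction of `A[0]` is `A[0]` -/
noncomputable def restrictInDIso (P A : Type u) [CommRing P] [CommRing A] [Algebra P A] :
    (DRing.restrictD (algebraMap P A)).obj (Dual.inD A A) ≅ Q.obj (A0 P A) :=
  (DRing.restrictD (algebraMap P A)).mapIso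
      ((DerivedCategory.singleFunctorIsoCompQ (ModuleCat.{u} A) 0).app (ModuleCat.of A A)) ≪≫
    (DTen.resFactors (algebraMap P A)).app (Sx A 0) ≪≫ Q.mapIso (singleResIso P A).symm

/-- **S1807**: base change for `φ^!`, `φ` flat. -/
theorem main1807 (R R' A : Type u) [CommRing R] [CommRing R'] [CommRing A] [IsNoetherianRing R]
    [Algebra R R'] [Algebra R A] [Module.Flat R A] (n : ℕ)
    (ψ : MvPolynomial (Fin n) R →ₐ[R] A) (hψ : Function.Surjective ψ)
    [DRing.HasLBaseChange (algebraMap R (MvPolynomial (Fin n) R))]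
    (Rψ : Dual.D (MvPolynomial (Fin n) R) ⥤ Dual.D A) (adj : DRing.restrictD ψ.toRingHom ⊣ Rψ)
    (m : ℕ) (ψ' : MvPolynomial (Fin m) R' →ₐ[R'] (R' ⊗[R] A)) (hψ' : Function.Surjective ψ')
    [DRing.HasLBaseChange (algebraMap R' (MvPolynomial (Fin m) R'))]
    (Rψ' : Dual.D (MvPolynomial (Fin m) R') ⥤ Dual.D (R' ⊗[R] A))
    (adj' : DRing.restrictD ψ'.toRingHom ⊣ Rψ')
    [DRing.HasLBaseChange
      (Algebra.TensorProduct.includeRight : A →ₐ[R] R' ⊗[R] A).toRingHom]
    [DRing.HasLBaseChange (algebraMap R R')] (K : Dual.D R) :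
    Nonempty ((DRing.LBaseChange
        (Algebra.TensorProduct.includeRight : A →ₐ[R] R' ⊗[R] A).toRingHom).obj
        (Dual2.shriekVia n Rψ K) ≅
      Dual2.shriekVia m Rψ' ((DRing.LBaseChange (algebraMap R R')).obj K)) := by
  let P := MvPolynomial (Fin n) R
  let P'' := MvPolynomial (Fin n) R'
  let A' := R' ⊗[R] A
  let ψ'' : P'' →ₐ[R'] A' := presBC (R' := R') ψ
  have hψ'' : Function.Surjective ψ'' := presBC_surjective ψ hψ
  letI algPA : Algebra P A := ψ.toRingHom.toAlgebra
  letI algP''A' : Algebra P'' A' := ψ''.toRingHom.toAlgebra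
  letI algPA' : Algebra P A' := ((algebraMap A A').comp (algebraMap P A)).toAlgebra
  haveI t1 : IsScalarTower P A A' := IsScalarTower.of_algebraMap_eq (fun _ => rfl)
  haveI t2 : IsScalarTower P P'' A' := IsScalarTower.of_algebraMap_eq (fun p => by
    show (1 : R') ⊗ₜ[R] ψ p = ψ'' (MvPolynomial.map (algebraMap R R') p)
    exact (presBC_map ψ p).symm)
  haveI t3 : IsScalarTower R P A := IsScalarTower.of_algebraMap_eq (fun r => (ψ.commutes r).symm)
  haveI t4 : IsScalarTower R' P'' A' :=
    IsScalarTower.of_algebraMap_eq (fun r => (ψ''.commutes r).symm)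
  haveI t5 : IsScalarTower R P'' A' := IsScalarTower.of_algebraMap_eq (fun r => by
    rw [IsScalarTower.algebraMap_apply R R' A', IsScalarTower.algebraMap_apply R R' P'',
      ← IsScalarTower.algebraMap_apply R' P'' A'])
  haveI po1 : Algebra.IsPushout R A R' A' := inferInstance
  haveI po2 : Algebra.IsPushout P A P'' A' := (Algebra.IsPushout.comp_iff R P R' P'').1 po1
  haveI po3 : Algebra.IsPushout P P'' A A' := po2.symm
  haveI po4 : Algebra.IsPushout R R' P P'' := Algebra.IsPushout.symm inferInstance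
  haveI hLβ : DRing.HasLBaseChange (algebraMap P P'') := hasLBaseChange_general _
  haveI hL'' : DRing.HasLBaseChange (algebraMap R' P'') := hasLBaseChange_general _
  haveI hLα : DRing.HasLBaseChange (algebraMap A A') :=
    ‹DRing.HasLBaseChange (Algebra.TensorProduct.includeRight : A →ₐ[R] R' ⊗[R] A).toRingHom›
  obtain ⟨adjLι⟩ := Groth.Agent.Lib.DerivedAdj.nonempty_adj (algebraMap R P)
  obtain ⟨adjLι''⟩ := Groth.Agent.Lib.DerivedAdj.nonempty_adj (algebraMap R' P'')
  obtain ⟨adjLρ⟩ := Groth.Agent.Lib.DerivedAdj.nonempty_adj (algebraMap R R')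
  obtain ⟨adjLα⟩ := Groth.Agent.Lib.DerivedAdj.nonempty_adj (algebraMap A A')
  obtain ⟨adjLβ⟩ := Groth.Agent.Lib.DerivedAdj.nonempty_adj (algebraMap P P'')
  obtain ⟨Rψ'', ⟨adj''⟩⟩ :=
    Groth.Agent.Lib.RestrictRightAdj.exists_rightAdjoint_restrictD ψ''.toRingHom
  -- perfectness and tor independence
  have hperf : resPerf ψ.toRingHom (Dual.inD A A) := resPerf_of_flat R A n ψ hψ
  obtain ⟨E, a, b, hE, hfp, ⟨e⟩⟩ := hperf
  let e' : (Q.obj E : Dual.D P) ≅ Q.obj (A0 P A) := e ≪≫ restrictInDIso P A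
  have hTI : TorIndepCx (algebraMap P A) (algebraMap P P'') :=
    torIndepCx_of_flat_pushout R P R' P'' A
  have hsq : (algebraMap A A').comp (algebraMap P A) =
      (algebraMap P'' A').comp (algebraMap P P'') := by
    rw [← IsScalarTower.algebraMap_eq P A A', ← IsScalarTower.algebraMap_eq P P'' A']
  let M : Dual.D P := (DRing.LBaseChange (algebraMap R P)).obj K
  have hc : IsIso (TrivBC.cmp adjLβ adjLα hsq (Rψ.obj M)) :=
    isIso_cmp_of_torIndepCx hsq adjLβ adjLα hTI _
  haveI hbc : IsIso (TrivBC.bcMap adjLβ adjLα hsq adj adj'' M hc) :=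
    isIso_bcMap_of_perfCx hTI E a b hE hfp e' adjLβ adjLα hsq Rψ adj Rψ'' adj'' M hc
  let e4 := asIso (TrivBC.bcMap adjLβ adjLα hsq adj adj'' M hc)
  -- the two composite left adjoints
  have hcomm : (algebraMap P P'').comp (algebraMap R P) =
      (algebraMap R' P'').comp (algebraMap R R') := by
    rw [← IsScalarTower.algebraMap_eq R P P'', ← IsScalarTower.algebraMap_eq R R' P'']
  let adjA := adjLι.comp adjLβ
  let adjB := adjLρ.comp adjLι''
  let e3 : DRing.LBaseChange (algebraMap R P) ⋙ DRing.LBaseChange (algebraMap P P'') ≅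
      DRing.LBaseChange (algebraMap R R') ⋙ DRing.LBaseChange (algebraMap R' P'') :=
    (adjA.ofNatIsoRight (TrivBC.resComm hcomm)).leftAdjointUniq adjB
  -- shifts
  letI cs : (DRing.LBaseChange (algebraMap A A')).CommShift ℤ := adjLα.leftAdjointCommShift ℤ
  obtain ⟨e2⟩ := shriekVia_independent R' A' n ψ'' hψ'' Rψ'' adj'' m ψ' hψ' Rψ' adj'
    ((DRing.LBaseChange (algebraMap R R')).obj K)
  exact ⟨((DRing.LBaseChange (algebraMap A A')).commShiftIso (n : ℤ)).app _ ≪≫
    (shiftFunctor (Dual.D A') (n : ℤ)).mapIso (e4 ≪≫ Rψ''.mapIso (e3.app K)) ≪≫ e2⟩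

end Main

end Groth.Agent.Lib.TrivBCH6
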