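import Mathlib
import Groth.Prelude.Def_DRing2
import Groth.Prelude.Def_DRing4
import Groth.Agent.Lib.TrivBC12_helper6

/-!
# Tor-independent base change (helper6), part 16: the Hom complex of strictly perfect complexes is
strictly perfect.
-/

set_option autoImplicit false
universe u
open CategoryTheory CategoryTheory.Limits DerivedCategory
open CochainComplex CochainComplex.HomComplex
open scoped TensorProduct
attribute [local instance] HasDerivedCategory.standard

namespace Groth.Agent.Lib.TrivBCH6

section HomFP

variable {R : Type u} [CommRing R]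

/-- `Hom(M, N)` is a retract of `Hom(Rᵏ, N)` for `M` finite projective -/
lemma exists_retract_linearMap (M N : Type u) [AddCommGroup M] [Module R M] [AddCommGroup N]
    [Module R N] [Module.Finite R M] [Module.Projective R M] :
    ∃ (k : ℕ) (i : (M →ₗ[R] N) →ₗ[R] ((Fin k → R) →ₗ[R] N))
      (p : ((Fin k → R) →ₗ[R] N) →ₗ[R] (M →ₗ[R] N)), p ∘ₗ i = LinearMap.id := by
  obtain ⟨k, f, hf⟩ := Module.Finite.exists_fin' R M
  obtain ⟨s, hs⟩ := Module.projective_lifting_property f LinearMap.id hf
  refine ⟨k, LinearMap.lcomp R N f, LinearMap.lcomp R N s, ?_⟩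
  apply LinearMap.ext
  intro g
  apply LinearMap.ext
  intro x
  simp only [LinearMap.comp_apply, LinearMap.lcomp_apply, LinearMap.id_apply]
  have := congrArg (fun h => h x) hs
  simp only [LinearMap.comp_apply, LinearMap.id_apply] at this
  rw [this]

lemma projective_pi {ι : Type} [Fintype ι] [DecidableEq ι] (M : ι → Type u)
    [∀ i, AddCommGroup (M i)] [∀ i, Module R (M i)] [∀ i, Module.Projective R (M i)] :
    Module.Projective R (∀ i, M i) :=
  Module.Projective.of_equiv (DFinsupp.linearEquivFunOnFintype (R := R) (M := M))

lemma finite_linearMap (M N : Type u) [AddCommGroup M] [Module R M] [AddCommGroup N]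
    [Module R N] [Module.Finite R M] [Module.Projective R M] [Module.Finite R N] :
    Module.Finite R (M →ₗ[R] N) := by
  obtain ⟨k, i, p, hpi⟩ := exists_retract_linearMap (R := R) M N
  refine Module.Finite.of_surjective p (fun g => ⟨i g, ?_⟩)
  exact congrArg (fun h => h g) hpi

lemma projective_linearMap (M N : Type u) [AddCommGroup M] [Module R M] [AddCommGroup N]
    [Module R N] [Module.Finite R M] [Module.Projective R M] [Module.Finite R N]
    [Module.Projective R N] : Module.Projective R (M →ₗ[R] N) := by
  obtain ⟨k, i, p, hpi⟩ := exists_retract_linearMap (R := R) M N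
  haveI : Module.Projective R ((Fin k → R) →ₗ[R] N) := by
    have e : ((Fin k → R) →ₗ[R] N) ≃ₗ[R] (Fin k → N) :=
      (LinearMap.lsum R (fun _ : Fin k => R) R).symm ≪≫ₗ
        LinearEquiv.piCongrRight (fun _ => LinearMap.ringLmapEquivSelf R R N)
    haveI : Module.Projective R (Fin k → N) := projective_pi (fun _ : Fin k => N)
    exact Module.Projective.of_equiv e.symm
  exact Module.Projective.of_split i p hpi

end HomFP

section HomCxStruct

variable {R : Type u} [CommRing R] (E N : DRing.Cx R) (a b c d : ℤ)

/-- the components of a cochain, as a linear equivalence -/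
noncomputable def compEquiv (hE : DRing.VanishesOutside E a b) (k : ℤ) :
    Cochain E N k ≃ₗ[R] ∀ p : ↥(Finset.Icc a b), (E.X p →ₗ[R] N.X (p + k)) :=
  LinearEquiv.ofBijective (compLin E N a b k) (bijective_compLin E N a b k hE)

lemma homCx_termwiseFiniteProjective (hE : DRing.VanishesOutside E a b)
    (hfp : DRing.TermwiseFiniteProjective E) (hN : DRing.TermwiseFiniteProjective N) :
    DRing.TermwiseFiniteProjective (DRing.homCx E N) := by
  intro k
  haveI : ∀ p : ↥(Finset.Icc a b), Module.Finite R (E.X p →ₗ[R] N.X (p + k)) := fun p => by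
    haveI := (hfp p).1
    haveI := (hfp p).2
    haveI := (hN (p + k)).1
    exact finite_linearMap _ _
  haveI : ∀ p : ↥(Finset.Icc a b), Module.Projective R (E.X p →ₗ[R] N.X (p + k)) := fun p => by
    haveI := (hfp p).1
    haveI := (hfp p).2
    haveI := (hN (p + k)).1
    haveI := (hN (p + k)).2
    exact projective_linearMap _ _
  constructor
  · exact Module.Finite.equiv (compEquiv E N a b hE k).symm
  · haveI : Module.Projective R (∀ p : ↥(Finset.Icc a b), (E.X p →ₗ[R] N.X (p + k))) :=
      projective_pi _
    exact Module.Projective.of_equiv (compEquiv E N a b hE k).symm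

lemma homCx_vanishesOutside (hE : DRing.VanishesOutside E a b)
    (hN : DRing.VanishesOutside N c d) :
    DRing.VanishesOutside (DRing.homCx E N) (c - b) (d - a) := by
  intro k hk
  haveI : Subsingleton (Cochain E N k) := by
    refine ⟨fun w w' => Cochain.ext _ _ (fun p q h => ?_)⟩
    by_cases hp : p < a ∨ b < p
    · exact (hE p hp).eq_of_src _ _
    · have hq : q < c ∨ d < q := by omega
      exact (hN q hq).eq_of_tgt _ _
  exact @ModuleCat.isZero_of_subsingleton _ _ (ModuleCat.of R (Cochain E N k)) this

end HomCxStruct

end Groth.Agent.Lib.TrivBCH6
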