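import Mathlib
import Groth.Prelude.Def_TrivBC
import Groth.Prelude.Def_DTen4
import Groth.Prelude.Def_DRing4
import Groth.Prelude.Def_DualSh
import Groth.Agent.Lib.TrivBC15_helper6
import Groth.Agent.Lib.TrivBC16_helper6
import Groth.Agent.Lib.ShriekLow5_helper6
import Groth.Agent.Lib.DMod59_helper6
import Groth.Agent.Lib.DMod82_helper6

/-!
# Tor-independent base change (helper6), part 17: `φ^!(R)` is a relative dualizing complex for
`φ` flat of finite type (S1795).
-/

set_option autoImplicit false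
universe u
open CategoryTheory CategoryTheory.Limits DerivedCategory Pretriangulated
open scoped TensorProduct
attribute [local instance] HasDerivedCategory.standard

namespace Groth.Agent.Lib.TrivBCH6

open DRing Groth.Agent.Lib.DMod_helper6 Groth.Agent.Lib.ShriekIndH6 Groth.Agent.Lib.FlatBCH6
  Groth.Agent.Lib.RHomK Groth.Agent.Lib.ShriekLowH6

attribute [local instance] MvPolynomial.algebraMvPolynomial

section RelPerf

/-- `Sx P 0` is strictly perfect -/
lemma termwiseFiniteProjective_Sx (P : Type u) [CommRing P] (c' : ℤ) :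
    DRing.TermwiseFiniteProjective (Sx P c') := by
  intro j
  let M : ModuleCat.{u} P := ModuleCat.of P P
  by_cases hj : j = c'
  · subst hj
    exact ⟨finite_of_iso (HomologicalComplex.singleObjXSelf (ComplexShape.up ℤ) j M).symm
        (show Module.Finite P M from (inferInstance : Module.Finite P P)),
      projective_of_iso (HomologicalComplex.singleObjXSelf (ComplexShape.up ℤ) j M).symm
        (show Module.Projective P M from (inferInstance : Module.Projective P P))⟩
  · have h := finite_free_of_isZero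
      (HomologicalComplex.isZero_single_obj_X (ComplexShape.up ℤ) c' M j hj)
    haveI := h.2
    exact ⟨h.1, inferInstance⟩

/-- for `A` perfect over `P`, `RHom_P(A, P)` restricted to `P` is represented by a strictly
perfect complex -/
theorem exists_strictlyPerfect_restrict_rightAdj (P A : Type u) [CommRing P] [CommRing A]
    [Algebra P A] (hperf : resPerf (algebraMap P A) (Dual.inD A A))
    (Rψ : Dual.D P ⥤ Dual.D A) (adj : DRing.restrictD (algebraMap P A) ⊣ Rψ)
    (L : Dual.D P) (eL : L ≅ Dual.inD P P) :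
    ∃ (D : DRing.Cx P) (a b : ℤ), DRing.VanishesOutside D a b ∧
      DRing.TermwiseFiniteProjective D ∧
        Nonempty ((DRing.restrictD (algebraMap P A)).obj (Rψ.obj L) ≅ Q.obj D) := by
  obtain ⟨E, a, b, hE, hfp, ⟨e⟩⟩ := hperf
  let e' : (Q.obj E : Dual.D P) ≅ Q.obj (A0 P A) := e ≪≫ restrictInDIso P A
  haveI : E.IsStrictlyLE b := by
    rw [CochainComplex.isStrictlyLE_iff]
    exact fun i hi => hE i (Or.inr hi)
  haveI : ∀ n, Projective (E.X n) := fun n => by
    haveI := (hfp n).2
    infer_instance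
  haveI : E.IsKProjective := CochainComplex.isKProjective_of_projective E b
  obtain ⟨π, hπ, -⟩ := Groth.Agent.PerfectCx.exists_quasiIso_of_iso E (A0 P A) e'
  haveI := hπ
  haveI := isIso_upsilon E π adj L
  let u := asIso (upsilon E π adj L)
  let eL' : L ≅ Q.obj (Sx P 0) :=
    eL ≪≫ (DerivedCategory.singleFunctorIsoCompQ (ModuleCat.{u} P) 0).app (ModuleCat.of P P)
  refine ⟨DRing.homCx E (Sx P 0), 0 - b, 0 - a,
    homCx_vanishesOutside E (Sx P 0) a b 0 0 hE
      (fun j hj => HomologicalComplex.isZero_single_obj_X _ 0 _ j (by omega)),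
    homCx_termwiseFiniteProjective E (Sx P 0) a b hE hfp (termwiseFiniteProjective_Sx P 0),
    ⟨u ≪≫ (homR E).mapIso eL' ≪≫ (homRIso E).app (Sx P 0)⟩⟩

end RelPerf

section RelPerf2

/-- `φ^!(R)` is perfect relative to `R`, for `φ` flat of finite type -/
theorem isRelPerfect_shriekVia (R A : Type u) [CommRing R] [CommRing A] [IsNoetherianRing R]
    [Algebra R A] [Module.Flat R A] (n : ℕ)
    (ψ : MvPolynomial (Fin n) R →ₐ[R] A) (hψ : Function.Surjective ψ)
    [DRing.HasLBaseChange (algebraMap R (MvPolynomial (Fin n) R))]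
    (Rψ : Dual.D (MvPolynomial (Fin n) R) ⥤ Dual.D A) (adj : DRing.restrictD ψ.toRingHom ⊣ Rψ) :
    Dual2.IsRelPerfect R A (Dual2.shriekVia n Rψ (Dual.inD R R)) := by
  let P := MvPolynomial (Fin n) R
  letI algPA : Algebra P A := ψ.toRingHom.toAlgebra
  haveI t3 : IsScalarTower R P A := IsScalarTower.of_algebraMap_eq (fun r => (ψ.commutes r).symm)
  haveI fin1 : Module.Finite P A := Module.Finite.of_surjective (Algebra.linearMap P A) hψ
  have hperf : resPerf (algebraMap P A) (Dual.inD A A) := resPerf_of_flat R A n ψ hψ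
  set L : Dual.D P := (DRing.LBaseChange (algebraMap R P)).obj (Dual.inD R R) with hL
  obtain ⟨e0⟩ := nonempty_lBaseChange_iso_bcD (A := R) (B := P)
  let eL : L ≅ Dual.inD P P := e0.app (Dual.inD R R) ≪≫ bcSelfIso (P := R) P
  obtain ⟨D, a', b', hD, hDfp, ⟨eD⟩⟩ :=
    exists_strictlyPerfect_restrict_rightAdj P A hperf Rψ adj L eL
  constructor
  · have h1 : IsPerfect P ((DRing.restrictD (algebraMap P A)).obj (Rψ.obj L)) :=
      ⟨D, a', b', hD, hDfp, ⟨eD.symm⟩⟩
    have h2 := isPseudoCoherent'_of_isPerfect _ h1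
    have h3 : IsPseudoCoherent' A (Rψ.obj L) :=
      (isPseudoCoherent'_restrictD_iff (φ := algebraMap P A) resPC_self (Rψ.obj L)).2 h2
    exact isPseudoCoherent'_shift _ _ h3
  · have h1 : HasTorAmplitudeIn P a' b' ((DRing.restrictD (algebraMap P A)).obj (Rψ.obj L)) :=
      ⟨D, hD, fun i => by
        haveI := (hDfp i).2
        exact Module.Flat.of_projective, ⟨eD.symm⟩⟩
    have h2 := hasTorAmplitudeIn_restrictD (R := R) _ a' b' h1
    have hcomp : (algebraMap P A).comp (algebraMap R P) = algebraMap R A :=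
      (IsScalarTower.algebraMap_eq R P A).symm
    have h3 : HasFiniteTorDimCx R ((DRing.restrictD (algebraMap R A)).obj (Rψ.obj L)) :=
      hasFiniteTorDimCx_of_iso
        ((restrictDComp' (algebraMap R P) (algebraMap P A) (algebraMap R A) hcomp).app
          (Rψ.obj L)).symm ⟨a', b', h2⟩
    exact hasFiniteTorDimCx_of_iso
      (((DRing.restrictD (algebraMap R A)).commShiftIso (n : ℤ)).app (Rψ.obj L)).symm
      (hasFiniteTorDimCx_shift _ _ h3)

end RelPerf2

section RelDual

/-- `RHom_{A ⊗_R A}(A, ω ⊗^L_A (A ⊗_R A)) ≅ A` for `ω = φ^!(R)`, `φ` flat of finite type -/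
theorem relDualizing_iso (R A : Type u) [CommRing R] [CommRing A] [IsNoetherianRing R]
    [Algebra R A] [Module.Flat R A] (n : ℕ)
    (ψ : MvPolynomial (Fin n) R →ₐ[R] A) (hψ : Function.Surjective ψ)
    [DRing.HasLBaseChange (algebraMap R (MvPolynomial (Fin n) R))]
    (Rψ : Dual.D (MvPolynomial (Fin n) R) ⥤ Dual.D A) (adj : DRing.restrictD ψ.toRingHom ⊣ Rψ)
    [DRing.HasLBaseChange
      (Algebra.TensorProduct.includeLeftRingHom : A →+* TensorProduct R A A)]
    (Rμ : Dual.D (TensorProduct R A A) ⥤ Dual.D A)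
    (adjμ : DRing.restrictD (Algebra.TensorProduct.lmul' R (S := A)).toRingHom ⊣ Rμ) :
    Nonempty (Rμ.obj ((DRing.LBaseChange
      (Algebra.TensorProduct.includeLeftRingHom : A →+* TensorProduct R A A)).obj
        (Dual2.shriekVia n Rψ (Dual.inD R R))) ≅ Dual.inD A A) := by
  let B := TensorProduct R A A
  let PA := MvPolynomial (Fin n) A
  let i₁ : A →+* B := Algebra.TensorProduct.includeLeftRingHom
  let i₂ : A →+* B := (Algebra.TensorProduct.includeRight : A →ₐ[R] A ⊗[R] A).toRingHom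
  let μ : B →+* A := (Algebra.TensorProduct.lmul' R (S := A)).toRingHom
  let τ : B ≃+* B := (Algebra.TensorProduct.comm R A A).toRingEquiv
  have hi : τ.toRingHom.comp i₂ = i₁ := by
    refine RingHom.ext (fun a => ?_)
    show Algebra.TensorProduct.comm R A A ((1 : A) ⊗ₜ[R] a) = a ⊗ₜ[R] (1 : A)
    exact Algebra.TensorProduct.comm_tmul R _ _
  have hμ : μ.comp τ.toRingHom = μ := by
    refine RingHom.ext (fun x => ?_)
    show Algebra.TensorProduct.lmul' R (S := A) (Algebra.TensorProduct.comm R A A x) =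
      Algebra.TensorProduct.lmul' R (S := A) x
    induction x using TensorProduct.induction_on with
    | zero => simp
    | tmul a b =>
      rw [Algebra.TensorProduct.comm_tmul, Algebra.TensorProduct.lmul'_apply_tmul,
        Algebra.TensorProduct.lmul'_apply_tmul, mul_comm]
    | add x y hx hy => rw [map_add, map_add, map_add, hx, hy]
  set ω : Dual.D A := Dual2.shriekVia n Rψ (Dual.inD R R) with hω
  -- presentations and adjoints
  let ψ'' := presBC (R' := A) ψ
  have hψ'' : Function.Surjective ψ'' := presBC_surjective ψ hψ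
  haveI : DRing.HasLBaseChange (algebraMap A PA) := hasLBaseChange_general _
  haveI : DRing.HasLBaseChange i₂ := hasLBaseChange_general _
  haveI : DRing.HasLBaseChange (algebraMap R A) := hasLBaseChange_general _
  obtain ⟨adjL₁⟩ := Groth.Agent.Lib.DerivedAdj.nonempty_adj i₁
  obtain ⟨adjL₂⟩ := Groth.Agent.Lib.DerivedAdj.nonempty_adj i₂
  obtain ⟨adjLA⟩ := Groth.Agent.Lib.DerivedAdj.nonempty_adj (algebraMap A PA)
  obtain ⟨Rψ'', ⟨adj''⟩⟩ :=
    Groth.Agent.Lib.RestrictRightAdj.exists_rightAdjoint_restrictD ψ''.toRingHom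
  -- step 1: the two inclusions
  let Eτ := restrictDEquivalence τ
  let adj1 : DRing.LBaseChange i₂ ⋙ restrictD τ.symm.toRingHom ⊣ restrictD i₁ :=
    (adjL₂.comp Eτ.symm.toAdjunction).ofNatIsoRight
      (restrictDComp' i₂ τ.toRingHom i₁ hi).symm
  let eb1 : DRing.LBaseChange i₁ ≅ DRing.LBaseChange i₂ ⋙ restrictD τ.symm.toRingHom :=
    adjL₁.leftAdjointUniq adj1
  -- step 2: base change
  set M : Dual.D A := (DRing.LBaseChange (algebraMap R A)).obj (Dual.inD R R) with hM
  obtain ⟨e2⟩ := main1807 R A A n ψ hψ Rψ adj n ψ'' hψ'' Rψ'' adj'' (Dual.inD R R)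
  -- step 3: `Rμ` absorbs the swap
  let adj2 : restrictD μ ⊣ restrictD τ.symm.toRingHom ⋙ Rμ :=
    (adjμ.comp Eτ.toAdjunction).ofNatIsoLeft (restrictDComp' τ.toRingHom μ μ hμ).symm
  let eb3 : restrictD τ.symm.toRingHom ⋙ Rμ ≅ Rμ := adj2.rightAdjointUniq adjμ
  -- step 4: the retraction `P_A → A`
  let σ : PA →+* A := μ.comp ψ''.toRingHom
  have hσ : ∀ t : A, σ (algebraMap A PA t) = t := by
    intro t
    show Algebra.TensorProduct.lmul' R (S := A) (ψ'' (algebraMap A PA t)) = t
    have h1 : ψ'' (algebraMap A PA t) = algebraMap A (A ⊗[R] A) t := ψ''.commutes t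
    rw [h1, Algebra.TensorProduct.algebraMap_apply, Algebra.algebraMap_self, RingHom.id_apply,
      Algebra.TensorProduct.lmul'_apply_tmul, mul_one]
  let adjσ : restrictD σ ⊣ Rψ'' ⋙ Rμ :=
    (adjμ.comp adj'').ofNatIsoLeft (restrictDComp ψ''.toRingHom μ).symm
  obtain ⟨e4⟩ := (good_mvPolynomial A n σ hσ).2 (DRing.LBaseChange (algebraMap A PA)) adjLA
    (Rψ'' ⋙ Rμ) adjσ M
  letI := adjμ.rightAdjointCommShift ℤ
  -- step 5
  obtain ⟨e0⟩ := nonempty_lBaseChange_iso_bcD (A := R) (B := A)
  let e5 : M ≅ Dual.inD A A := e0.app (Dual.inD R R) ≪≫ bcSelfIso (P := R) A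
  exact ⟨Rμ.mapIso (eb1.app ω ≪≫ (restrictD τ.symm.toRingHom).mapIso e2) ≪≫ eb3.app _ ≪≫
    (Rμ.commShiftIso (n : ℤ)).app _ ≪≫ e4 ≪≫ e5⟩

end RelDual

section Main1795

/-- **S1795** -/
theorem main1795 (R A : Type u) [CommRing R] [CommRing A] [IsNoetherianRing R]
    [Algebra R A] [Module.Flat R A] (n : ℕ)
    (ψ : MvPolynomial (Fin n) R →ₐ[R] A) (hψ : Function.Surjective ψ)
    [DRing.HasLBaseChange (algebraMap R (MvPolynomial (Fin n) R))]
    (Rψ : Dual.D (MvPolynomial (Fin n) R) ⥤ Dual.D A) (adj : DRing.restrictD ψ.toRingHom ⊣ Rψ)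
    [DRing.HasLBaseChange
      (Algebra.TensorProduct.includeLeftRingHom : A →+* TensorProduct R A A)]
    (Rμ : Dual.D (TensorProduct R A A) ⥤ Dual.D A)
    (adjμ : DRing.restrictD (Algebra.TensorProduct.lmul' R (S := A)).toRingHom ⊣ Rμ) :
    Dual2.IsRelDualizing R A Rμ (Dual2.shriekVia n Rψ (Dual.inD R R)) :=
  ⟨isRelPerfect_shriekVia R A n ψ hψ Rψ adj, relDualizing_iso R A n ψ hψ Rψ adj Rμ adjμ⟩

end Main1795

end Groth.Agent.Lib.TrivBCH6
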