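import Mathlib
import Groth.Prelude.Def_DRing2
import Groth.Prelude.Def_DRing4
import Groth.Agent.Lib.TrivBC17_helper6

/-!
# Tor-independent base change (helper6), part 18: duality for strictly perfect complexes.
For a strictly perfect complex `E` over `P` and `N = P[0]`, morphisms
`Hom•(E, N) ⟶ N[i]` in `D(P)` are computed by the cohomology of `E`.
-/

set_option autoImplicit false
universe u
open CategoryTheory CategoryTheory.Limits DerivedCategory
open CochainComplex CochainComplex.HomComplex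
attribute [local instance] HasDerivedCategory.standard

namespace Groth.Agent.Lib.TrivBCH6

open DRing Groth.Agent.Lib.FlatBCH6

section Gam

variable {P : Type u} [CommRing P] (E : DRing.Cx P)

/-- the unit object of `ModuleCat P` -/
noncomputable abbrev PP (P : Type u) [CommRing P] : ModuleCat.{u} P := ModuleCat.of P P

/-- the unit complex `P[0]` -/
noncomputable abbrev U0 (P : Type u) [CommRing P] : DRing.Cx P :=
  (CochainComplex.singleFunctor (ModuleCat.{u} P) 0).obj (PP P)

lemma toSingleMk_smul {K : DRing.Cx P} {X : ModuleCat.{u} P} {p q : ℤ} (r : P) (f : K.X p ⟶ X)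
    {n : ℤ} (h : p + n = q) :
    Cochain.toSingleMk (r • f) h = r • Cochain.toSingleMk f h := by
  apply (Cochain.toSingleEquiv h).injective
  simp [Cochain.toSingleEquiv]
  erw [Linear.smul_comp]

/-- the component of a cochain to `P[0]`, as a linear map in the cochain -/
noncomputable def compSingleLin (i j : ℤ) (h : i + j = 0) :
    Cochain E (U0 P) j →ₗ[P] (E.X i ⟶ PP P) where
  toFun z := Cochain.toSingleEquiv (K := E) (X := PP P) h z
  map_add' z z' := map_add _ z z'
  map_smul' r z := by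
    simp [Cochain.toSingleEquiv]

lemma compSingleLin_apply (i j : ℤ) (h : i + j = 0) (z : Cochain E (U0 P) j) :
    compSingleLin E i j h z = Cochain.toSingleEquiv (K := E) (X := PP P) h z := rfl

lemma compSingleLin_toSingleMk (i j : ℤ) (h : i + j = 0) (f : E.X i ⟶ PP P) :
    compSingleLin E i j h (Cochain.toSingleMk f h) = f :=
  Cochain.toSingleEquiv_toSingleMk f h

lemma toSingleMk_compSingleLin (i j : ℤ) (h : i + j = 0) (z : Cochain E (U0 P) j) :
    Cochain.toSingleMk (compSingleLin E i j h z) h = z :=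
  (Cochain.toSingleEquiv (K := E) (X := PP P) h).symm_apply_apply z

/-- evaluation at `e ∈ E^i`, as a functional on `Hom•(E, P[0])^j`, `i + j = 0` -/
noncomputable def evF (i j : ℤ) (h : i + j = 0) (e : E.X i) :
    (DRing.homCx E (U0 P)).X j ⟶ PP P :=
  ModuleCat.ofHom (X := ModuleCat.of P (Cochain E (U0 P) j)) (Y := PP P)
    { toFun := fun z => (compSingleLin E i j h z).hom e
      map_add' := fun z z' => by rw [map_add]; rfl
      map_smul' := fun r z => by rw [map_smul]; rfl }

lemma evF_apply (i j : ℤ) (h : i + j = 0) (e : E.X i) (z : Cochain E (U0 P) j) :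
    (evF E i j h e).hom z = (compSingleLin E i j h z).hom e := rfl

lemma evF_add (i j : ℤ) (h : i + j = 0) (e e' : E.X i) :
    evF E i j h (e + e') = evF E i j h e + evF E i j h e' := by
  refine ModuleCat.hom_ext (LinearMap.ext fun (z : Cochain E (U0 P) j) => ?_)
  rw [ModuleCat.hom_add, LinearMap.add_apply]
  erw [evF_apply, evF_apply, evF_apply]
  exact map_add _ e e'

lemma evF_smul (i j : ℤ) (h : i + j = 0) (r : P) (e : E.X i) :
    evF E i j h (r • e) = r • evF E i j h e := by
  refine ModuleCat.hom_ext (LinearMap.ext fun (z : Cochain E (U0 P) j) => ?_)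
  rw [ModuleCat.hom_smul, LinearMap.smul_apply]
  erw [evF_apply, evF_apply]
  exact map_smul _ r e

lemma evF_zero (i j : ℤ) (h : i + j = 0) : evF E i j h 0 = 0 := by
  refine ModuleCat.hom_ext (LinearMap.ext fun (z : Cochain E (U0 P) j) => ?_)
  erw [evF_apply]
  exact map_zero _

lemma compSingleLin_units_smul (i j : ℤ) (h : i + j = 0) (a : ℤˣ) (z : Cochain E (U0 P) j) :
    compSingleLin E i j h (a • z) = a • compSingleLin E i j h z := by
  rcases Int.units_eq_one_or a with rfl | rfl
  · simp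
  · simp

/-- compatibility of the evaluation functionals with the differentials -/
lemma homCx_d_comp_evF (i i' j j' : ℤ) (h : i + j = 0) (h' : i' + j' = 0) (hi : i + 1 = i')
    (e : E.X i) :
    (DRing.homCx E (U0 P)).d j' j ≫ evF E i j h e =
      j.negOnePow • evF E i' j' h' ((E.d i i').hom e) := by
  refine ModuleCat.hom_ext (LinearMap.ext fun (z : Cochain E (U0 P) j') => ?_)
  rw [ModuleCat.hom_comp, LinearMap.comp_apply]
  erw [Groth.Agent.Lib.HomCx.units_smul_hom_apply, evF_apply]
  have hz : z = Cochain.toSingleMk (compSingleLin E i' j' h' z) h' :=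
    (toSingleMk_compSingleLin E i' j' h' z).symm
  have h1 : (((DRing.homCx E (U0 P)).d j' j).hom z : Cochain E (U0 P) j) = δ j' j z := rfl
  erw [evF_apply, h1]
  rw [hz, Cochain.δ_toSingleMk _ h' j i h, compSingleLin_units_smul, compSingleLin_toSingleMk,
    compSingleLin_toSingleMk]
  erw [Groth.Agent.Lib.HomCx.units_smul_hom_apply]
  rfl

lemma evF_eq_zero_iff (i j : ℤ) (h : i + j = 0) [Module.Projective P (E.X i)] (e : E.X i) :
    evF E i j h e = 0 ↔ e = 0 := by
  constructor
  · intro he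
    refine (Module.forall_dual_apply_eq_zero_iff P e).1 (fun φ => ?_)
    have h1 := congrArg (fun t => t.hom (Cochain.toSingleMk (ModuleCat.ofHom φ) h)) he
    simp only at h1
    erw [evF_apply, compSingleLin_toSingleMk] at h1
    exact h1
  · rintro rfl
    exact evF_zero E i j h

lemma evF_injective (i j : ℤ) (h : i + j = 0) [Module.Projective P (E.X i)] :
    Function.Injective (evF E i j h) := by
  intro e e' hee
  have h1 : evF E i j h (e - e') = 0 := by
    have h2 : e = (e - e') + e' := by abel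
    have h3 := evF_add E i j h (e - e') e'
    rw [← h2, hee] at h3
    exact (add_eq_right.1 h3.symm)
  exact sub_eq_zero.1 ((evF_eq_zero_iff E i j h _).1 h1)

lemma evF_surjective (i j : ℤ) (h : i + j = 0) [Module.Finite P (E.X i)]
    [Module.Projective P (E.X i)] (g : (DRing.homCx E (U0 P)).X j ⟶ PP P) :
    ∃ e : E.X i, evF E i j h e = g := by
  let G : Module.Dual P (Module.Dual P (E.X i)) :=
    { toFun := fun φ => g.hom (show (DRing.homCx E (U0 P)).X j from
        Cochain.toSingleMk (ModuleCat.ofHom φ) h)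
      map_add' := fun φ φ' => by
        have h1 : (ModuleCat.ofHom (φ + φ') : E.X i ⟶ PP P) =
            ModuleCat.ofHom φ + ModuleCat.ofHom φ' := rfl
        rw [h1, Cochain.toSingleMk_add]
        exact map_add g.hom _ _
      map_smul' := fun r φ => by
        have h1 : (ModuleCat.ofHom (r • φ) : E.X i ⟶ PP P) = r • ModuleCat.ofHom φ := rfl
        rw [h1, toSingleMk_smul]
        exact map_smul g.hom r _ }
  refine ⟨(Module.evalEquiv P (E.X i)).symm G, ?_⟩
  refine ModuleCat.hom_ext (LinearMap.ext fun (z : Cochain E (U0 P) j) => ?_)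
  erw [evF_apply]
  have h1 := Module.apply_evalEquiv_symm_apply (R := P) (M := E.X i)
    (compSingleLin E i j h z).hom G
  refine h1.trans ?_
  show g.hom (show (DRing.homCx E (U0 P)).X j from
    Cochain.toSingleMk (ModuleCat.ofHom (compSingleLin E i j h z).hom) h) = g.hom z
  have h2 : ModuleCat.ofHom (compSingleLin E i j h z).hom = compSingleLin E i j h z := rfl
  rw [h2, toSingleMk_compSingleLin]

end Gam

section Dual

variable {P : Type u} [CommRing P] (E : DRing.Cx P) (a b : ℤ)

lemma isKProjective_homCx_dual (hE : DRing.VanishesOutside E a b)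
    (hfp : DRing.TermwiseFiniteProjective E) : (DRing.homCx E (U0 P)).IsKProjective := by
  have h1 : DRing.VanishesOutside (DRing.homCx E (U0 P)) (0 - b) (0 - a) :=
    homCx_vanishesOutside E (Sx P 0) a b 0 0 hE
      (fun j hj => HomologicalComplex.isZero_single_obj_X _ 0 _ j (by omega))
  have h2 : DRing.TermwiseFiniteProjective (DRing.homCx E (U0 P)) :=
    homCx_termwiseFiniteProjective E (Sx P 0) a b hE hfp (termwiseFiniteProjective_Sx P 0)
  haveI : (DRing.homCx E (U0 P)).IsStrictlyLE (0 - a) := by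
    rw [CochainComplex.isStrictlyLE_iff]
    exact fun i hi => h1 i (Or.inr hi)
  haveI : ∀ n, Projective ((DRing.homCx E (U0 P)).X n) := fun n => by
    haveI := (h2 n).2
    infer_instance
  exact CochainComplex.isKProjective_of_projective _ (0 - a)

lemma Q_map_eq_zero_of_isKProjective {K L : DRing.Cx P} [K.IsKProjective] (f : K ⟶ L)
    (hf : (Q.map f : (Q.obj K : Dual.D P) ⟶ Q.obj L) = 0) :
    (HomotopyCategory.quotient (ModuleCat.{u} P) (ComplexShape.up ℤ)).map f = 0 := by
  apply (CochainComplex.IsKProjective.Qh_map_bijective K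
    ((HomotopyCategory.quotient (ModuleCat.{u} P) (ComplexShape.up ℤ)).obj L)).injective
  rw [Functor.map_zero]
  have h := DerivedCategory.quotientCompQhIso_hom_naturality f
  have h2 : Qh.map ((HomotopyCategory.quotient (ModuleCat.{u} P) (ComplexShape.up ℤ)).map f) =
      (DerivedCategory.quotientCompQhIso (ModuleCat.{u} P)).hom.app K ≫ Q.map f ≫
        (DerivedCategory.quotientCompQhIso (ModuleCat.{u} P)).inv.app L := by
    rw [← Category.assoc, ← h]
    simp
  rw [h2, hf, zero_comp, comp_zero]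

/-- **vanishing**: if `E` is exact in degree `i` then `Hom(Hom•(E, P[0]), P[0][i]) = 0` -/
theorem subsingleton_hom_dual_shift (hE : DRing.VanishesOutside E a b)
    (hfp : DRing.TermwiseFiniteProjective E) (i : ℤ)
    (hex : ∀ e : E.X i, (E.d i (i + 1)).hom e = 0 → ∃ e' : E.X (i - 1), (E.d (i - 1) i).hom e' = e) :
    Subsingleton ((Q.obj (DRing.homCx E (U0 P)) : Dual.D P) ⟶ (Q.obj (U0 P))⟦i⟧) := by
  haveI := isKProjective_homCx_dual E a b hE hfp
  refine subsingleton_of_forall_eq 0 (fun g => ?_)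
  let c := (Q.commShiftIso i).app (U0 P)
  obtain ⟨f, hf⟩ := Groth.Agent.PerfectCx.exists_Q_map_eq (DRing.homCx E (U0 P)) ((U0 P)⟦i⟧)
    (g ≫ c.inv)
  have hg : g = Q.map f ≫ c.hom := by rw [hf, Category.assoc, Iso.inv_hom_id, Category.comp_id]
  suffices hq : (HomotopyCategory.quotient (ModuleCat.{u} P) (ComplexShape.up ℤ)).map f = 0 by
    obtain ⟨ho⟩ := (HomotopyCategory.quotient_map_eq_zero_iff f).1 hq
    rw [hg, DerivedCategory.Q_map_eq_of_homotopy _ ho, Functor.map_zero, zero_comp]
  set α : Cocycle (DRing.homCx E (U0 P)) (U0 P) i := Cocycle.equivHomShift f with hα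
  have hfα : f = Cocycle.equivHomShift.symm α := by rw [hα, AddEquiv.symm_apply_apply]
  rw [hfα, ← CohomologyClass.toHom_mk]
  suffices hcob : α ∈ coboundaries _ _ _ by
    rw [(CohomologyClass.mk_eq_zero_iff α).2 hcob, map_zero]
  obtain ⟨f₀, hf₀, hf₀α⟩ := Cocycle.toSingleMk_surjective α (-i) (by omega) (-i - 1) (by omega)
  have := (hfp i).1
  have := (hfp i).2
  have := (hfp (i + 1)).2
  have := (hfp (i - 1)).1
  have := (hfp (i - 1)).2
  obtain ⟨e, he⟩ := evF_surjective E i (-i) (by omega) f₀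
  have hde : (E.d i (i + 1)).hom e = 0 := by
    have h1 := homCx_d_comp_evF E i (i + 1) (-i) (-i - 1) (by omega) (by omega) rfl e
    rw [he, hf₀] at h1
    have h2 : evF E (i + 1) (-i - 1) (by omega) ((E.d i (i + 1)).hom e) = 0 := by
      have h3 := congrArg (fun t => (-i).negOnePow • t) h1
      simp only [smul_zero, smul_smul, Int.units_mul_self, one_smul] at h3
      exact h3.symm
    exact (evF_eq_zero_iff E (i + 1) (-i - 1) (by omega) _).1 h2
  obtain ⟨e', he'⟩ := hex e hde
  rw [← hf₀α, Cocycle.toSingleMk_mem_coboundaries_iff f₀ (by omega) (-i - 1) (by omega) hf₀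
    (-i + 1) rfl]
  refine ⟨(-i + 1).negOnePow • evF E (i - 1) (-i + 1) (by omega) e', ?_⟩
  have h1 := homCx_d_comp_evF E (i - 1) i (-i + 1) (-i) (by omega) (by omega) (by omega) e'
  rw [Linear.comp_units_smul, h1, smul_smul, Int.units_mul_self, one_smul, he', he]

/-- the chain map `Hom•(E, P[0]) ⟶ P[0]`, evaluation at a cycle `e ∈ Z⁰(E)` -/
noncomputable def evCh (e : E.X 0) (he : (E.d 0 1).hom e = 0) [Module.Projective P (E.X 1)] :
    DRing.homCx E (U0 P) ⟶ U0 P :=
  HomologicalComplex.mkHomToSingle (evF E 0 0 rfl e) (fun j hj => by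
    have hj' : j + 1 = 0 := hj
    have h1 := homCx_d_comp_evF E 0 1 0 j rfl (by omega) rfl e
    rw [h1, he, evF_zero, smul_zero])

lemma evCh_f [Module.Projective P (E.X 1)] (e : E.X 0) (he : (E.d 0 1).hom e = 0) :
    (evCh E e he).f 0 = evF E 0 0 rfl e ≫
      (HomologicalComplex.singleObjXSelf (ComplexShape.up ℤ) 0 (PP P)).inv :=
  HomologicalComplex.mkHomToSingle_f _ _

lemma ofHom_evCh [Module.Projective P (E.X 1)] (e : E.X 0) (he : (E.d 0 1).hom e = 0) :
    Cochain.ofHom (evCh E e he) = Cochain.toSingleMk (evF E 0 0 rfl e) (add_zero 0) := by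
  apply (Cochain.toSingleEquiv (K := DRing.homCx E (U0 P)) (X := PP P) (add_zero (0 : ℤ))).injective
  rw [Cochain.toSingleEquiv_toSingleMk]
  show (Cochain.ofHom (evCh E e he)).v 0 0 (add_zero 0) ≫ _ = _
  rw [Cochain.ofHom_v, evCh_f]
  erw [Category.assoc, Iso.inv_hom_id, Category.comp_id]

lemma evCh_add [Module.Projective P (E.X 1)] (e e' : E.X 0) (he : (E.d 0 1).hom e = 0)
    (he' : (E.d 0 1).hom e' = 0) (hee' : (E.d 0 1).hom (e + e') = 0) :
    evCh E (e + e') hee' = evCh E e he + evCh E e' he' := by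
  apply HomologicalComplex.to_single_hom_ext
  rw [HomologicalComplex.add_f_apply, evCh_f, evCh_f, evCh_f, evF_add]
  erw [Preadditive.add_comp]
  rfl

lemma evCh_smul [Module.Projective P (E.X 1)] (r : P) (e : E.X 0) (he : (E.d 0 1).hom e = 0)
    (hre : (E.d 0 1).hom (r • e) = 0) :
    evCh E (r • e) hre = r • evCh E e he := by
  apply HomologicalComplex.to_single_hom_ext
  rw [HomologicalComplex.smul_f_apply, evCh_f, evCh_f, evF_smul]
  erw [Linear.smul_comp]
  rfl

/-- evaluation at cycles, as a linear map to the `Hom` in the derived category -/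
noncomputable def evLam (hfp : DRing.TermwiseFiniteProjective E) :
    LinearMap.ker (E.d 0 1).hom →ₗ[P]
      ((Q.obj (DRing.homCx E (U0 P)) : Dual.D P) ⟶ Q.obj (U0 P)) :=
  haveI := (hfp 1).2
  { toFun := fun e => Q.map (evCh E e.1 (LinearMap.mem_ker.1 e.2))
    map_add' := fun e e' => by
      show Q.map (evCh E (e.1 + e'.1) _) = _
      rw [evCh_add E e.1 e'.1 (LinearMap.mem_ker.1 e.2) (LinearMap.mem_ker.1 e'.2), Functor.map_add]
    map_smul' := fun r e => by
      show Q.map (evCh E (r • e.1) _) = _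
      rw [evCh_smul E r e.1 (LinearMap.mem_ker.1 e.2), Functor.map_smul]
      rfl }

lemma evLam_apply (hfp : DRing.TermwiseFiniteProjective E) (e : LinearMap.ker (E.d 0 1).hom) :
    haveI := (hfp 1).2
    evLam E hfp e = Q.map (evCh E e.1 (LinearMap.mem_ker.1 e.2)) := rfl

theorem evLam_surjective (hE : DRing.VanishesOutside E a b)
    (hfp : DRing.TermwiseFiniteProjective E) : Function.Surjective (evLam E hfp) := by
  haveI := isKProjective_homCx_dual E a b hE hfp
  intro g
  obtain ⟨f, hf⟩ := Groth.Agent.PerfectCx.exists_Q_map_eq (DRing.homCx E (U0 P)) (U0 P) g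
  have := (hfp 0).1
  have := (hfp 0).2
  have := (hfp 1).2
  let f₀ : (DRing.homCx E (U0 P)).X 0 ⟶ PP P :=
    f.f 0 ≫ (HomologicalComplex.singleObjXSelf (ComplexShape.up ℤ) 0 (PP P)).hom
  obtain ⟨e, he⟩ := evF_surjective E 0 0 rfl f₀
  have hde : (E.d 0 1).hom e = 0 := by
    have h1 := homCx_d_comp_evF E 0 1 0 (-1) rfl (by omega) rfl e
    have h2 : (DRing.homCx E (U0 P)).d (-1) 0 ≫ f₀ = 0 := by
      show _ ≫ f.f 0 ≫ _ = 0
      rw [← Category.assoc, ← f.comm]
      have h3 : (U0 P).d (-1) 0 = 0 := HomologicalComplex.single_obj_d _ _ _ _ _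
      rw [h3, comp_zero, zero_comp]
    rw [he, h2] at h1
    have h4 : evF E 1 (-1) (by omega) ((E.d 0 1).hom e) = 0 := by
      have h5 := congrArg (fun t => (0 : ℤ).negOnePow • t) h1
      simp only [smul_zero, smul_smul, Int.units_mul_self, one_smul] at h5
      exact h5.symm
    exact (evF_eq_zero_iff E 1 (-1) (by omega) _).1 h4
  refine ⟨⟨e, LinearMap.mem_ker.2 hde⟩, ?_⟩
  rw [evLam_apply, ← hf]
  congr 1
  apply HomologicalComplex.to_single_hom_ext
  rw [evCh_f, he]
  erw [Category.assoc, Iso.hom_inv_id, Category.comp_id]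

lemma evCh_homotopy_iff [Module.Projective P (E.X 1)] (e : E.X 0) (he : (E.d 0 1).hom e = 0) :
    Nonempty (Homotopy (evCh E e he) 0) ↔
      ∃ g₁ : (DRing.homCx E (U0 P)).X 1 ⟶ PP P,
        (DRing.homCx E (U0 P)).d 0 1 ≫ g₁ = evF E 0 0 rfl e := by
  constructor
  · rintro ⟨ho⟩
    obtain ⟨z, hz⟩ := Cochain.equivHomotopy _ _ ho
    obtain ⟨g₁, hg₁⟩ := Cochain.toSingleMk_surjective z 1 (by omega : (1 : ℤ) + (-1) = 0)
    refine ⟨g₁, ?_⟩
    rw [ofHom_evCh, Cochain.ofHom_zero, add_zero (δ (-1) 0 z), ← hg₁,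
      Cochain.δ_toSingleMk g₁ _ 0 0 (add_zero 0), Int.negOnePow_zero, one_smul] at hz
    have h1 := congrArg (Cochain.toSingleEquiv (K := DRing.homCx E (U0 P)) (X := PP P)
      (add_zero (0 : ℤ))) hz
    rw [Cochain.toSingleEquiv_toSingleMk, Cochain.toSingleEquiv_toSingleMk] at h1
    exact h1.symm
  · rintro ⟨g₁, hg₁⟩
    refine ⟨(Cochain.equivHomotopy _ _).symm
      ⟨Cochain.toSingleMk g₁ (by omega : (1 : ℤ) + (-1) = 0), ?_⟩⟩
    rw [ofHom_evCh, Cochain.ofHom_zero, add_zero (δ (-1) 0 _),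
      Cochain.δ_toSingleMk g₁ _ 0 0 (add_zero 0), Int.negOnePow_zero, one_smul, hg₁]

theorem evLam_eq_zero_iff (hE : DRing.VanishesOutside E a b)
    (hfp : DRing.TermwiseFiniteProjective E) (e : LinearMap.ker (E.d 0 1).hom) :
    evLam E hfp e = 0 ↔ ∃ e' : E.X (-1), (E.d (-1) 0).hom e' = e.1 := by
  have := isKProjective_homCx_dual E a b hE hfp
  have := (hfp 0).2
  have := (hfp 1).2
  have := (hfp (-1)).1
  have := (hfp (-1)).2
  have hde : (E.d 0 1).hom e.1 = 0 := LinearMap.mem_ker.1 e.2
  have key : evLam E hfp e = 0 ↔ Nonempty (Homotopy (evCh E e.1 hde) 0) := by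
    rw [evLam_apply]
    constructor
    · intro h0
      exact (HomotopyCategory.quotient_map_eq_zero_iff _).1
        (Q_map_eq_zero_of_isKProjective _ h0)
    · rintro ⟨ho⟩
      rw [DerivedCategory.Q_map_eq_of_homotopy _ ho, Functor.map_zero]
  rw [key, evCh_homotopy_iff]
  constructor
  · rintro ⟨g₁, hg₁⟩
    obtain ⟨e', he'⟩ := evF_surjective E (-1) 1 (by omega) g₁
    have h1 := homCx_d_comp_evF E (-1) 0 1 0 (by omega) rfl (by omega) e'
    rw [he', hg₁] at h1
    refine ⟨-e', ?_⟩
    have h2 : evF E 0 0 rfl (e.1 + (E.d (-1) 0).hom e') = 0 := by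
      rw [evF_add, h1, Int.negOnePow_one, Units.neg_smul, one_smul, neg_add_cancel]
    have h3 := (evF_eq_zero_iff E 0 0 rfl _).1 h2
    rw [map_neg]
    exact (eq_neg_of_add_eq_zero_left h3).symm
  · rintro ⟨e', he'⟩
    refine ⟨(1 : ℤ).negOnePow • evF E (-1) 1 (by omega) e', ?_⟩
    have h1 := homCx_d_comp_evF E (-1) 0 1 0 (by omega) rfl (by omega) e'
    rw [Linear.comp_units_smul, h1, smul_smul, Int.units_mul_self, one_smul, he']

end Dual

section Elementwise

variable {R : Type u} [CommRing R] {K L : CochainComplex (ModuleCat.{u} R) ℤ} (φ : K ⟶ L)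

lemma mono_homologyMap_elementwise (j : ℤ) (hm : Mono (HomologicalComplex.homologyMap φ j))
    (x : K.X j) (hx : (K.d j (j + 1)).hom x = 0) (y : L.X (j - 1))
    (hy : (φ.f j).hom x = (L.d (j - 1) j).hom y) :
    ∃ x₁ : K.X (j - 1), (K.d (j - 1) j).hom x₁ = x := by
  have h := (HomologicalComplex.mono_homologyMap_iff_up_to_refinements φ (j - 1) j (j + 1)
    (by simp) (by simp)).1 hm
  obtain ⟨A', π, hπ, x₁, hx₁⟩ := h (A := ModuleCat.of R R)
    (ModuleCat.ofHom (LinearMap.toSpanSingleton R _ x))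
    (by
      refine ModuleCat.hom_ext (LinearMap.ext_ring ?_)
      simp [hx])
    (ModuleCat.ofHom (LinearMap.toSpanSingleton R _ y))
    (by
      refine ModuleCat.hom_ext (LinearMap.ext_ring ?_)
      simp [hy])
  obtain ⟨a', ha'⟩ := (ModuleCat.epi_iff_surjective π).1 hπ (1 : R)
  refine ⟨x₁.hom a', ?_⟩
  have h1 := congrArg (fun t => t.hom a') hx₁
  simp only [ModuleCat.hom_comp, LinearMap.comp_apply] at h1
  rw [ha'] at h1
  simpa using h1.symm

lemma epi_homologyMap_elementwise (j : ℤ) (he : Epi (HomologicalComplex.homologyMap φ j))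
    (y : L.X j) (hy : (L.d j (j + 1)).hom y = 0) :
    ∃ x : K.X j, (K.d j (j + 1)).hom x = 0 ∧
      ∃ y₁ : L.X (j - 1), y = (φ.f j).hom x + (L.d (j - 1) j).hom y₁ := by
  have h := (HomologicalComplex.epi_homologyMap_iff_up_to_refinements φ (j - 1) j (j + 1)
    (by simp) (by simp)).1 he
  obtain ⟨A', π, hπ, x₂, hx₂, y₁, hy₁⟩ := h (A := ModuleCat.of R R)
    (ModuleCat.ofHom (LinearMap.toSpanSingleton R _ y))
    (by
      refine ModuleCat.hom_ext (LinearMap.ext_ring ?_)
      simp [hy])
  obtain ⟨a', ha'⟩ := (ModuleCat.epi_iff_surjective π).1 hπ (1 : R)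
  refine ⟨x₂.hom a', ?_, y₁.hom a', ?_⟩
  · have h1 := congrArg (fun t => t.hom a') hx₂
    simpa using h1
  · have h1 := congrArg (fun t => t.hom a') hy₁
    simp only [ModuleCat.hom_comp, LinearMap.comp_apply, ModuleCat.hom_add,
      LinearMap.add_apply] at h1
    rw [ha'] at h1
    simpa using h1

end Elementwise

section QuasiIsoSingle

variable {P A : Type u} [CommRing P] [CommRing A] [Algebra P A] (E : DRing.Cx P)
  (π : E ⟶ A0 P A) [QuasiIso π]

include π in
lemma exact_of_quasiIso_single (i : ℤ) (hi : i ≠ 0) (e : E.X i)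
    (he : (E.d i (i + 1)).hom e = 0) : ∃ e' : E.X (i - 1), (E.d (i - 1) i).hom e' = e := by
  have hiso : IsIso (HomologicalComplex.homologyMap π i) :=
    (quasiIsoAt_iff_isIso_homologyMap π i).1 inferInstance
  have hm : Mono (HomologicalComplex.homologyMap π i) := inferInstance
  have hz : IsZero ((A0 P A).X i) := HomologicalComplex.isZero_single_obj_X _ 0 _ i hi
  refine mono_homologyMap_elementwise π i hm e he 0 ?_
  haveI := ModuleCat.subsingleton_of_isZero hz
  exact Subsingleton.elim _ _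

/-- `Z⁰(E) ⟶ A` -/
noncomputable def piLin : LinearMap.ker (E.d 0 1).hom →ₗ[P] A :=
  ((HomologicalComplex.singleObjXSelf (ComplexShape.up ℤ) 0 (ModuleCat.of P A)).hom.hom ∘ₗ
    (π.f 0).hom) ∘ₗ (LinearMap.ker (E.d 0 1).hom).subtype

lemma piLin_apply (e : LinearMap.ker (E.d 0 1).hom) :
    piLin E π e = (HomologicalComplex.singleObjXSelf (ComplexShape.up ℤ) 0
      (ModuleCat.of P A)).hom.hom ((π.f 0).hom e.1) := rfl

lemma piLin_surjective : Function.Surjective (piLin E π) := by
  intro x
  have hiso : IsIso (HomologicalComplex.homologyMap π 0) :=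
    (quasiIsoAt_iff_isIso_homologyMap π 0).1 inferInstance
  have he : Epi (HomologicalComplex.homologyMap π 0) := inferInstance
  let y : (A0 P A).X 0 :=
    (HomologicalComplex.singleObjXSelf (ComplexShape.up ℤ) 0 (ModuleCat.of P A)).inv.hom x
  have hd : ∀ (p q : ℤ), (A0 P A).d p q = 0 := fun p q =>
    HomologicalComplex.single_obj_d _ _ _ _ _
  obtain ⟨e, he0, y₁, hy₁⟩ := epi_homologyMap_elementwise π 0 he y (by rw [hd]; rfl)
  refine ⟨⟨e, LinearMap.mem_ker.2 he0⟩, ?_⟩
  rw [piLin_apply]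
  have h1 : (π.f 0).hom e = y := by
    rw [hy₁, hd]
    simp
  rw [h1]
  show ((HomologicalComplex.singleObjXSelf (ComplexShape.up ℤ) 0 (ModuleCat.of P A)).inv ≫
    (HomologicalComplex.singleObjXSelf (ComplexShape.up ℤ) 0 (ModuleCat.of P A)).hom).hom x = x
  rw [Iso.inv_hom_id]
  rfl

lemma piLin_eq_zero_iff (e : LinearMap.ker (E.d 0 1).hom) :
    piLin E π e = 0 ↔ ∃ e' : E.X (-1), (E.d (-1) 0).hom e' = e.1 := by
  have hd : ∀ (p q : ℤ), (A0 P A).d p q = 0 := fun p q =>
    HomologicalComplex.single_obj_d _ _ _ _ _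
  constructor
  · intro h0
    have hiso : IsIso (HomologicalComplex.homologyMap π 0) :=
      (quasiIsoAt_iff_isIso_homologyMap π 0).1 inferInstance
    have hm : Mono (HomologicalComplex.homologyMap π 0) := inferInstance
    have h1 : (π.f 0).hom e.1 = 0 := by
      rw [piLin_apply] at h0
      have h2 := congrArg (HomologicalComplex.singleObjXSelf (ComplexShape.up ℤ) 0
        (ModuleCat.of P A)).inv.hom h0
      rw [map_zero] at h2
      have h3 : (π.f 0).hom e.1 =
          ((HomologicalComplex.singleObjXSelf (ComplexShape.up ℤ) 0 (ModuleCat.of P A)).hom ≫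
            (HomologicalComplex.singleObjXSelf (ComplexShape.up ℤ) 0 (ModuleCat.of P A)).inv).hom
              ((π.f 0).hom e.1) := by
        rw [Iso.hom_inv_id]
        rfl
      rw [h3]
      exact h2
    obtain ⟨x₁, hx₁⟩ := mono_homologyMap_elementwise π 0 hm e.1 (LinearMap.mem_ker.1 e.2) 0
      (by rw [h1, map_zero])
    exact ⟨x₁, hx₁⟩
  · rintro ⟨e', he'⟩
    rw [piLin_apply, ← he']
    have h1 : (π.f 0).hom ((E.d (-1) 0).hom e') = 0 := by
      have h2 := congrArg (fun t => t.hom e') (π.comm (-1) 0)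
      rw [hd, comp_zero] at h2
      exact h2.symm
    rw [h1]
    exact map_zero _

end QuasiIsoSingle

section MainDual

variable {P A : Type u} [CommRing P] [CommRing A] [Algebra P A] (E : DRing.Cx P) (a b : ℤ)
  (hE : DRing.VanishesOutside E a b) (hfp : DRing.TermwiseFiniteProjective E)
  (π : E ⟶ A0 P A) [QuasiIso π]

include hE hfp π in
/-- for a strictly perfect resolution `E ⟶ A[0]`: `Hom(Hom•(E, P[0]), P[0][i]) = 0` for `i ≠ 0` -/
theorem subsingleton_hom_dual_of_resolution (i : ℤ) (hi : i ≠ 0) :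
    Subsingleton ((Q.obj (DRing.homCx E (U0 P)) : Dual.D P) ⟶ (Q.obj (U0 P))⟦i⟧) :=
  subsingleton_hom_dual_shift E a b hE hfp i (exact_of_quasiIso_single E π i hi)

include hE hfp π in
/-- for a strictly perfect resolution `E ⟶ A[0]`: `Hom(Hom•(E, P[0]), P[0]) ≃ A`, linearly -/
theorem nonempty_linearEquiv_hom_dual :
    Nonempty (((Q.obj (DRing.homCx E (U0 P)) : Dual.D P) ⟶ Q.obj (U0 P)) ≃ₗ[P] A) := by
  have hker : LinearMap.ker (evLam E hfp) = LinearMap.ker (piLin E π) := by
    ext e
    rw [LinearMap.mem_ker, LinearMap.mem_ker, evLam_eq_zero_iff E a b hE hfp, piLin_eq_zero_iff]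
  exact ⟨(LinearMap.quotKerEquivOfSurjective _ (evLam_surjective E a b hE hfp)).symm ≪≫ₗ
    Submodule.quotEquivOfEq _ _ hker ≪≫ₗ
      LinearMap.quotKerEquivOfSurjective _ (piLin_surjective E π)⟩

end MainDual

end Groth.Agent.Lib.TrivBCH6
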