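import Mathlib
import Groth.Prelude.Def_DRing2
import Groth.Prelude.Def_DRing4
import Groth.Prelude.Def_DualSh
import Groth.Agent.Lib.TrivBC18_helper6
import Groth.Agent.Lib.DMod109_helper6
import Groth.Agent.Lib.FlatBC5_helper6

/-!
# Tor-independent base change (helper6), part 19: `A ≃ End(RHom_P(A, P))` and vanishing of the
higher self-`Ext` groups, for `A` a perfect quotient of `P`.
-/

set_option autoImplicit false
universe u
open CategoryTheory CategoryTheory.Limits DerivedCategory Pretriangulated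
attribute [local instance] HasDerivedCategory.standard

namespace Groth.Agent.Lib.TrivBCH6

open DRing Groth.Agent.Lib.DMod_helper6 Groth.Agent.Lib.FlatBCH6 Groth.Agent.Lib.RHomK

section Cyclic

/-- **cyclic module trick**: if `End(X)` is free of rank one over `A` (compatibly with the action)
then `a ↦ a • 𝟙` is bijective -/
lemma bijective_smul_id_of_bijective {A : Type*} [CommRing A] {𝒞 : Type*} [Category 𝒞]
    [Preadditive 𝒞] [Linear A 𝒞] (X : 𝒞) (T : A → (X ⟶ X)) (hT : Function.Bijective T)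
    (hlin : ∀ a' a : A, T (a' * a) = a' • T a) :
    Function.Bijective (fun a : A => a • 𝟙 X) := by
  set g := T 1 with hg
  have hTg : ∀ a, T a = a • g := fun a => by
    have := hlin a 1
    rwa [mul_one] at this
  obtain ⟨a₀, ha₀⟩ := hT.2 (𝟙 X)
  obtain ⟨b, hb⟩ := hT.2 (g ≫ g)
  rw [hTg] at ha₀ hb
  have h1 : T 1 = T (a₀ * b) := by
    rw [hTg (a₀ * b), mul_smul, hb, ← Linear.comp_smul, ha₀, Category.comp_id]
  have hab : a₀ * b = 1 := (hT.1 h1).symm
  have h2 : (fun a : A => a • 𝟙 X) = T ∘ (fun a => a * a₀) := by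
    funext a
    simp only [Function.comp_apply]
    rw [hTg, mul_smul, ha₀]
  rw [h2]
  refine hT.comp ⟨fun x y hxy => ?_, fun y => ⟨y * b, ?_⟩⟩
  · have := congrArg (fun t => t * b) hxy
    simpa [mul_assoc, hab] using this
  · show y * b * a₀ = y
    rw [mul_assoc, mul_comm b a₀, hab, mul_one]

end Cyclic

section EndRHom

variable (P A : Type u) [CommRing P] [CommRing A] [Algebra P A]

/-- for `A` a perfect quotient of `P`: `A ≃ End(RHom_P(A, P))` and `Ext^i(RHom_P(A, P),
RHom_P(A, P)) = 0` for `i ≠ 0` -/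
theorem toEnd_rightAdj_of_perfect (hsurj : Function.Surjective (algebraMap P A))
    (hperf : resPerf (algebraMap P A) (Dual.inD A A))
    (Rψ : Dual.D P ⥤ Dual.D A) (adj : DRing.restrictD (algebraMap P A) ⊣ Rψ)
    (L : Dual.D P) (eL : L ≅ Dual.inD P P) :
    Function.Bijective (fun a : A => a • 𝟙 (Rψ.obj L)) ∧
      ∀ i : ℤ, i ≠ 0 → Subsingleton (Rψ.obj L ⟶ (Rψ.obj L)⟦i⟧) := by
  obtain ⟨E, a, b, hE, hfp, ⟨e⟩⟩ := hperf
  let e' : (Q.obj E : Dual.D P) ≅ Q.obj (A0 P A) := e ≪≫ restrictInDIso P A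
  haveI : E.IsStrictlyLE b := by
    rw [CochainComplex.isStrictlyLE_iff]
    exact fun i hi => hE i (Or.inr hi)
  haveI : ∀ n, Projective (E.X n) := fun n => by
    haveI := (hfp n).2
    infer_instance
  haveI : E.IsKProjective := CochainComplex.isKProjective_of_projective E b
  obtain ⟨π, hπ, -⟩ := Groth.Agent.PerfectCx.exists_quasiIso_of_iso E (A0 P A) e'
  haveI := hπ
  haveI := isIso_upsilon E π adj L
  let u := asIso (upsilon E π adj L)
  let eL' : L ≅ Q.obj (U0 P) :=
    eL ≪≫ (DerivedCategory.singleFunctorIsoCompQ (ModuleCat.{u} P) 0).app (ModuleCat.of P P)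
  let eD : (DRing.restrictD (algebraMap P A)).obj (Rψ.obj L) ≅ Q.obj (DRing.homCx E (U0 P)) :=
    u ≪≫ (homR E).mapIso eL' ≪≫ (homRIso E).app (U0 P)
  constructor
  · obtain ⟨ε⟩ := nonempty_linearEquiv_hom_dual (A := A) E a b hE hfp π
    -- the semilinear bijection `End(Z) ≃ Hom(Q D, Q N)`
    let Φ : (Rψ.obj L ⟶ Rψ.obj L) ≃
        ((Q.obj (DRing.homCx E (U0 P)) : Dual.D P) ⟶ Q.obj (U0 P)) :=
      (adj.homEquiv (Rψ.obj L) L).symm.trans (Iso.homCongr eD eL')
    have hΦ : ∀ (p : P) (f : Rψ.obj L ⟶ Rψ.obj L), Φ (algebraMap P A p • f) = p • Φ f := by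
      intro p f
      show eD.inv ≫ (adj.homEquiv (Rψ.obj L) L).symm (algebraMap P A p • f) ≫ eL'.hom =
        p • (eD.inv ≫ (adj.homEquiv (Rψ.obj L) L).symm f ≫ eL'.hom)
      rw [Groth.Agent.Lib.FlatBCH6.homEquiv_symm_smul, Linear.smul_comp, Linear.comp_smul]
    let T : A → (Rψ.obj L ⟶ Rψ.obj L) := fun x => Φ.symm (ε.symm x)
    have hT : Function.Bijective T := Φ.symm.bijective.comp ε.symm.bijective
    refine bijective_smul_id_of_bijective (Rψ.obj L) T hT (fun a' x => ?_)
    obtain ⟨p, rfl⟩ := hsurj a'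
    show Φ.symm (ε.symm (algebraMap P A p * x)) = algebraMap P A p • Φ.symm (ε.symm x)
    apply Φ.injective
    rw [Equiv.apply_symm_apply, hΦ, Equiv.apply_symm_apply, ← Algebra.smul_def, map_smul]
  · intro i hi
    apply subsingleton_hom_shift_of_adj Rψ adj
    have h1 := subsingleton_hom_dual_of_resolution (A := A) E a b hE hfp π i hi
    refine (subsingleton_hom_iso_left eD).2 ?_
    exact (subsingleton_hom_iso_right ((shiftFunctor (Dual.D P) i).mapIso eL')).2 h1

end EndRHom

end Groth.Agent.Lib.TrivBCH6
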