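import Mathlib
import Groth.Prelude.Def_DRing2
import Groth.Prelude.Def_DRing4
import Groth.Prelude.Def_DualSh
import Groth.Agent.Lib.TrivBC19_helper6
import Groth.Agent.Lib.DMod103_helper6
import Groth.Agent.Lib.DMod75_helper6
import Groth.Agent.Lib.DMod48_helper6
import Groth.Agent.Lib.PolyDual3_helper2
import Groth.Agent.Lib.DualExist1_helper2
import Groth.Agent.Lib.ExtendScalars_helper2

/-!
# Tor-independent base change (helper6), part 20: properties of `φ^!(R)` for `φ` flat of finite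
type between Noetherian rings (S1801).
-/

set_option autoImplicit false
universe u
open CategoryTheory CategoryTheory.Limits DerivedCategory Pretriangulated
open scoped TensorProduct
attribute [local instance] HasDerivedCategory.standard

namespace Groth.Agent.Lib.TrivBCH6

open DRing Groth.Agent.Lib.DMod_helper6 Groth.Agent.Lib.ShriekIndH6 Groth.Agent.Lib.FlatBCH6
  Groth.Agent.Lib.RHomK Groth.Agent.Lib.ShriekLowH6

attribute [local instance] MvPolynomial.algebraMvPolynomial

section LSelf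

variable {R k : Type u} [CommRing R] [CommRing k] [Algebra R k]

/-- `R[0] ⊗^L_R k ≅ k[0]` -/
theorem nonempty_lBaseChange_inD_self [DRing.HasLBaseChange (algebraMap R k)] :
    Nonempty ((DRing.LBaseChange (algebraMap R k)).obj (Dual.inD R R) ≅ Dual.inD k k) := by
  have hF : VanishesAbove (Sx R 0) 0 := fun i hi =>
    HomologicalComplex.isZero_single_obj_X _ 0 _ i (by omega)
  have hFf : TermwiseFlat (Sx R 0) := fun i => by
    haveI := (termwiseFiniteProjective_Sx R 0 i).2
    exact Module.Flat.of_projective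
  obtain ⟨e1⟩ := nonempty_lBaseChange_iso_of_flat (algebraMap R k) (Sx R 0) 0 hF hFf
  let e0 : Dual.inD R R ≅ toD (Sx R 0) :=
    (DerivedCategory.singleFunctorIsoCompQ (ModuleCat.{u} R) 0).app (ModuleCat.of R R)
  let eM : (ModuleCat.extendScalars.{u, u, u} (algebraMap R k)).obj (ModuleCat.of R R) ≅
      ModuleCat.of k k :=
    ((Groth.Agent.ExtendScalarsLib.extendScalarsEquivTensor (S := k) (ModuleCat.of R R)).trans
      (TensorProduct.AlgebraTensorModule.rid R k k)).toModuleIso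
  let e2 : ((ModuleCat.extendScalars.{u, u, u} (algebraMap R k)).mapHomologicalComplex
      (ComplexShape.up ℤ)).obj (Sx R 0) ≅ Sx k 0 :=
    (HomologicalComplex.singleMapHomologicalComplex
      (ModuleCat.extendScalars.{u, u, u} (algebraMap R k)) (ComplexShape.up ℤ) 0).app
        (ModuleCat.of R R) ≪≫
      (HomologicalComplex.single (ModuleCat.{u} k) (ComplexShape.up ℤ) 0).mapIso eM
  exact ⟨(DRing.LBaseChange (algebraMap R k)).mapIso e0 ≪≫ e1 ≪≫ Q.mapIso e2 ≪≫
    ((DerivedCategory.singleFunctorIsoCompQ (ModuleCat.{u} k) 0).app (ModuleCat.of k k)).symm⟩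

end LSelf

section ShiftEnd

variable {A : Type u} [CommRing A]

lemma toEnd_shift (Z : Dual.D A) (n : ℤ)
    (h : Function.Bijective (fun a : A => a • 𝟙 Z) ∧ ∀ i : ℤ, i ≠ 0 → Subsingleton (Z ⟶ Z⟦i⟧)) :
    Function.Bijective (fun a : A => a • 𝟙 (Z⟦n⟧)) ∧
      ∀ i : ℤ, i ≠ 0 → Subsingleton (Z⟦n⟧ ⟶ (Z⟦n⟧)⟦i⟧) := by
  constructor
  · have h1 : (fun a : A => a • 𝟙 (Z⟦n⟧)) =
        (fun f : Z ⟶ Z => f⟦n⟧') ∘ (fun a : A => a • 𝟙 Z) := by
      funext a
      simp only [Function.comp_apply, Functor.map_smul, CategoryTheory.Functor.map_id]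
    rw [h1]
    exact Function.Bijective.comp
      ⟨(shiftFunctor (Dual.D A) n).map_injective, (shiftFunctor (Dual.D A) n).map_surjective⟩ h.1
  · intro i hi
    haveI := h.2 i hi
    refine subsingleton_of_forall_eq 0 (fun g => ?_)
    let e : (Z⟦n⟧)⟦i⟧ ≅ (Z⟦i⟧)⟦n⟧ := (shiftFunctorComm (Dual.D A) n i).app Z
    obtain ⟨g', hg'⟩ := (shiftFunctor (Dual.D A) n).map_surjective (g ≫ e.hom)
    have h0 : g' = 0 := Subsingleton.elim _ _
    rw [h0, Functor.map_zero] at hg'
    rw [← cancel_mono e.hom, ← hg', zero_comp]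

end ShiftEnd

section Main1801

/-- **S1801** -/
theorem main1801 (R A : Type u) [CommRing R] [CommRing A] [IsNoetherianRing R]
    [IsNoetherianRing A] [Algebra R A] [Module.Flat R A] (n : ℕ)
    (ψ : MvPolynomial (Fin n) R →ₐ[R] A) (hψ : Function.Surjective ψ)
    [DRing.HasLBaseChange (algebraMap R (MvPolynomial (Fin n) R))]
    (Rψ : Dual.D (MvPolynomial (Fin n) R) ⥤ Dual.D A) (adj : DRing.restrictD ψ.toRingHom ⊣ Rψ) :
    (∃ a b : ℤ, ∀ i : ℤ, (i < a ∨ b < i) →
        Subsingleton (Dual.HD A (Dual2.shriekVia n Rψ (Dual.inD R R)) i)) ∧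
      (∀ i : ℤ, Module.Finite A (Dual.HD A (Dual2.shriekVia n Rψ (Dual.inD R R)) i)) ∧
      DRing.HasFiniteTorDimCx R ((DRing.restrictD (algebraMap R A)).obj
        (Dual2.shriekVia n Rψ (Dual.inD R R))) ∧
      (Function.Bijective (fun a : A => a • 𝟙 (Dual2.shriekVia n Rψ (Dual.inD R R))) ∧
        ∀ i : ℤ, i ≠ 0 → Subsingleton (Dual2.shriekVia n Rψ (Dual.inD R R) ⟶
          (Dual2.shriekVia n Rψ (Dual.inD R R))⟦i⟧)) ∧
      ∀ (k : Type u) [Field k] [Algebra R k]
        [DRing.HasLBaseChange (Algebra.TensorProduct.includeRight : A →ₐ[R] k ⊗[R] A).toRingHom],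
        Dual.IsDualizing (k ⊗[R] A) ((DRing.LBaseChange
          (Algebra.TensorProduct.includeRight : A →ₐ[R] k ⊗[R] A).toRingHom).obj
            (Dual2.shriekVia n Rψ (Dual.inD R R))) := by
  have hrp := isRelPerfect_shriekVia R A n ψ hψ Rψ adj
  refine ⟨?_, ?_, hrp.2, ?_, ?_⟩
  · obtain ⟨a, b, hab⟩ := hrp.2
    exact ⟨a, b, fun i hi => (subsingleton_HD_restrictD_iff (algebraMap R A) _ i).1
      (subsingleton_HD_of_hasTorAmplitudeIn _ a b hab i hi)⟩
  · refine (shriekVia_bounded_below_and_coherent R A n ψ hψ Rψ adj (Dual.inD R R) 0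
      (fun i hi => ModuleCat.subsingleton_of_isZero
        (isZero_HD_inD (ModuleCat.of R R) i (by omega)))).2 (fun i => finite_HD_inD_self i)
  · let P := MvPolynomial (Fin n) R
    letI algPA : Algebra P A := ψ.toRingHom.toAlgebra
    have hperf : resPerf (algebraMap P A) (Dual.inD A A) := resPerf_of_flat R A n ψ hψ
    set L : Dual.D P := (DRing.LBaseChange (algebraMap R P)).obj (Dual.inD R R) with hL
    obtain ⟨e0⟩ := nonempty_lBaseChange_iso_bcD (A := R) (B := P)
    let eL : L ≅ Dual.inD P P := e0.app (Dual.inD R R) ≪≫ bcSelfIso (P := R) P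
    exact toEnd_shift (Rψ.obj L) (n : ℤ) (toEnd_rightAdj_of_perfect P A hψ hperf Rψ adj L eL)
  · intro k _ _ _
    let A' := k ⊗[R] A
    let ψ' : MvPolynomial (Fin n) k →ₐ[k] A' := presBC (R' := k) ψ
    have hψ' : Function.Surjective ψ' := presBC_surjective ψ hψ
    haveI : IsNoetherianRing A' := isNoetherianRing_of_surjective _ _ ψ'.toRingHom hψ'
    haveI : DRing.HasLBaseChange (algebraMap k (MvPolynomial (Fin n) k)) := hasLBaseChange_general _
    haveI : DRing.HasLBaseChange (algebraMap R k) := hasLBaseChange_general _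
    obtain ⟨Rψ', ⟨adj'⟩⟩ :=
      Groth.Agent.Lib.RestrictRightAdj.exists_rightAdjoint_restrictD ψ'.toRingHom
    obtain ⟨e1⟩ := main1807 R k A n ψ hψ Rψ adj n ψ' hψ' Rψ' adj' (Dual.inD R R)
    obtain ⟨e2⟩ := nonempty_lBaseChange_inD_self (R := R) (k := k)
    have hk : Dual.IsDualizing k (Dual.inD k k) :=
      Groth.Agent.Lib.DualExist.isDualizing_self_of_isRegularLocalRing k
    have h3 := Groth.Agent.Lib.PolyDual.S1782_main k A' n ψ' hψ' Rψ' adj' (Dual.inD k k) hk
    let e3 : Dual2.shriekVia n Rψ' ((DRing.LBaseChange (algebraMap R k)).obj (Dual.inD R R)) ≅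
        Dual2.shriekVia n Rψ' (Dual.inD k k) :=
      (shiftFunctor (Dual.D A') (n : ℤ)).mapIso (Rψ'.mapIso
        ((DRing.LBaseChange (algebraMap k (MvPolynomial (Fin n) k))).mapIso e2))
    exact isDualizing_of_iso (e1 ≪≫ e3).symm h3

end Main1801

end Groth.Agent.Lib.TrivBCH6
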