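import Mathlib
import Groth.Prelude.Def_DRing4
import Groth.Prelude.Def_DualSh
import Groth.Prelude.Def_TrivBC
import Groth.Agent.Lib.ShriekRange2_helper6
import Groth.Agent.Lib.ShriekRange3_helper6
import Groth.Agent.Lib.TrivBC15_helper6
import Groth.Agent.Lib.TrivBC20_helper6
import Groth.Agent.Lib.DMod49_helper6
import Groth.Agent.Lib.FieldExt3_helper8

/-!
# The cohomological range of `ω_{A/R}` (helper6, S1790), part 4: base change to `R ⧸ I`.
-/

set_option autoImplicit false
set_option linter.style.haveILetI false
set_option linter.unusedSectionVars false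
set_option linter.unusedVariables false
universe u
open CategoryTheory CategoryTheory.Limits DerivedCategory AlgebraicGeometry MonoidalCategory
open scoped TensorProduct
attribute [local instance] HasDerivedCategory.standard

namespace Groth.Agent.Lib.ShriekRangeH6

open DRing Groth.Agent.Lib.DMod_helper6 Groth.Agent.Lib.ShriekLowH6 Groth.Agent.Lib.TrivBCH6
  Groth.Agent.Lib.FlatBCH6 Groth.Agent.ExtendScalarsLib

section Conv

variable {A : Type u} [CommRing A]

lemma rTensor_comm_apply {M M' : Type u} [AddCommGroup M] [AddCommGroup M'] [Module A M]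
    [Module A M'] (N : Type u) [AddCommGroup N] [Module A N] (g : M →ₗ[A] M')
    (x : N ⊗[A] M) :
    g.rTensor N (TensorProduct.comm A N M x) = TensorProduct.comm A N M' (g.lTensor N x) := by
  induction x using TensorProduct.induction_on with
  | zero => simp
  | tmul m n => simp
  | add x y hx hy => simp [hx, hy]

lemma exact_rTensor_of_exact_lTensor {M₁ M₂ M₃ : Type u} [AddCommGroup M₁] [AddCommGroup M₂]
    [AddCommGroup M₃] [Module A M₁] [Module A M₂] [Module A M₃]
    (f : M₁ →ₗ[A] M₂) (g : M₂ →ₗ[A] M₃) (N : Type u) [AddCommGroup N] [Module A N]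
    (h : Function.Exact (f.lTensor N) (g.lTensor N)) :
    Function.Exact (f.rTensor N) (g.rTensor N) := by
  intro y
  obtain ⟨y', rfl⟩ := (TensorProduct.comm A N M₂).surjective y
  rw [rTensor_comm_apply, LinearEquiv.map_eq_zero_iff, h y']
  constructor
  · rintro ⟨x, rfl⟩
    exact ⟨TensorProduct.comm A N M₁ x, by rw [rTensor_comm_apply]⟩
  · rintro ⟨x, hx⟩
    obtain ⟨x', rfl⟩ := (TensorProduct.comm A N M₁).surjective x
    rw [rTensor_comm_apply] at hx
    exact ⟨x', (TensorProduct.comm A N M₂).injective hx⟩

variable {B : Type u} [CommRing B] [Algebra A B]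

/-- exactness of the termwise extension of scalars is exactness of `C ⊗ B` -/
lemma exactAt_TN_of_exactAt_ES (C : Cx A) (i : ℤ)
    (h : (((ModuleCat.extendScalars.{u, u, u} (algebraMap A B)).mapHomologicalComplex
      (ComplexShape.up ℤ)).obj C).ExactAt i) :
    ((TN (ModuleCat.of A B)).obj C).ExactAt i := by
  have h1 := function_exact_of_exactAt _ (i - 1) i (i + 1) (by omega) rfl h
  refine exactAt_of_function_exact _ (i - 1) i (i + 1) (by omega) rfl ?_
  rw [TN_d_hom, TN_d_hom]
  exact exact_rTensor_of_exact_lTensor _ _ B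
    ((exact_ES_map_iff (B := B) (C.d (i - 1) i) (C.d i (i + 1))).1 h1)

end Conv

section BC

variable {R A R' A' : Type u} [CommRing R] [CommRing A] [CommRing R'] [CommRing A']
  [Algebra R A] [Algebra R R'] [Algebra A A'] [Algebra R' A'] [Algebra R A']
  [IsScalarTower R A A'] [IsScalarTower R R' A'] [Algebra.IsPushout R R' A A']

/-- a flat algebra is tor independent of everything -/
theorem torIndepCx_of_flat [Module.Flat R A] :
    TorIndepCx (algebraMap R A) (algebraMap R R') := by
  refine ⟨(HomologicalComplex.single (ModuleCat.{u} R) (ComplexShape.up ℤ) 0).obj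
    (ModuleCat.of R A), 0, (singleResIso R A).hom, ?_, ?_, inferInstance, inferInstance⟩
  · intro i hi
    exact HomologicalComplex.isZero_single_obj_X _ 0 _ i (by omega)
  · intro i
    by_cases hi : i = 0
    · subst hi
      exact Module.Flat.of_linearEquiv
        (HomologicalComplex.singleObjXSelf (ComplexShape.up ℤ) 0
          (ModuleCat.of R A)).toLinearEquiv
    · exact flat_of_isZero _ (HomologicalComplex.isZero_single_obj_X (ComplexShape.up ℤ) 0 _ i hi)

/-- flat base change for the cohomology of a flat representative -/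
theorem exactAt_ES_of_subsingleton_HD_lBaseChange [Module.Flat R A]
    [DRing.HasLBaseChange (algebraMap R R')] [DRing.HasLBaseChange (algebraMap A A')]
    (V : Dual.D A) (C : Cx R) (b : ℤ) (hC : VanishesAbove C b) (hCf : TermwiseFlat C)
    (e : toD C ≅ (DRing.restrictD (algebraMap R A)).obj V) (i : ℤ)
    (h : Subsingleton (Dual.HD A' ((DRing.LBaseChange (algebraMap A A')).obj V) i)) :
    (((ModuleCat.extendScalars.{u, u, u} (algebraMap R R')).mapHomologicalComplex
      (ComplexShape.up ℤ)).obj C).ExactAt i := by
  obtain ⟨adjρ⟩ := Groth.Agent.Lib.DerivedAdj.nonempty_adj (algebraMap R R')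
  obtain ⟨adjα⟩ := Groth.Agent.Lib.DerivedAdj.nonempty_adj (algebraMap A A')
  have hsq : (algebraMap A A').comp (algebraMap R A) =
      (algebraMap R' A').comp (algebraMap R R') := by
    rw [← IsScalarTower.algebraMap_eq R A A', ← IsScalarTower.algebraMap_eq R R' A']
  haveI hc : IsIso (TrivBC.cmp adjρ adjα hsq V) :=
    isIso_cmp_of_torIndepCx hsq adjρ adjα torIndepCx_of_flat V
  obtain ⟨eL⟩ := nonempty_lBaseChange_iso_of_flat (algebraMap R R') C b hC hCf
  have e1 : toD (((ModuleCat.extendScalars.{u, u, u} (algebraMap R R')).mapHomologicalComplex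
      (ComplexShape.up ℤ)).obj C) ≅
      (DRing.restrictD (algebraMap R' A')).obj ((DRing.LBaseChange (algebraMap A A')).obj V) :=
    eL.symm ≪≫ (DRing.LBaseChange (algebraMap R R')).mapIso e ≪≫
      asIso (TrivBC.cmp adjρ adjα hsq V)
  rw [exactAt_iff_subsingleton_HD e1 i, subsingleton_HD_restrictD_iff]
  exact h

end BC

end Groth.Agent.Lib.ShriekRangeH6
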