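import Mathlib
import Groth.Prelude.Def_DRing4
import Groth.Prelude.Def_DualSh
import Groth.Prelude.Def_TrivBC
import Groth.Agent.Lib.ShriekRange4_helper6

/-!
# The cohomological range of `ω_{A/R}` (helper6, S1790), part 5: the tor amplitude of `ω_{A/R}`
over `R`.
-/

set_option autoImplicit false
set_option linter.style.haveILetI false
set_option linter.unusedSectionVars false
set_option linter.unusedVariables false
universe u
open CategoryTheory CategoryTheory.Limits DerivedCategory AlgebraicGeometry MonoidalCategory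
open scoped TensorProduct
attribute [local instance] HasDerivedCategory.standard

namespace Groth.Agent.Lib.ShriekRangeH6

open DRing Groth.Agent.Lib.DMod_helper6 Groth.Agent.Lib.ShriekLowH6 Groth.Agent.Lib.TrivBCH6
  Groth.Agent.Lib.FlatBCH6 Groth.Agent.ExtendScalarsLib

attribute [local instance] MvPolynomial.algebraMvPolynomial Algebra.TensorProduct.rightAlgebra

/-- fibre dimensions are preserved by base change of the base ring -/
theorem fibreDimAt_tensor_le (R R' A : Type u) [CommRing R] [CommRing R'] [CommRing A]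
    [Algebra R R'] [Algebra R A] [Algebra.FiniteType R A] (d : ℕ)
    (hd : ∀ q : PrimeSpectrum A,
      FlatMor.fibreDimAt (Spec.map (CommRingCat.ofHom (algebraMap R A))) q ≤ (d : WithBot ℕ∞))
    (q' : PrimeSpectrum (R' ⊗[R] A)) :
    FlatMor.fibreDimAt (Spec.map (CommRingCat.ofHom (algebraMap R' (R' ⊗[R] A)))) q' ≤
      (d : WithBot ℕ∞) := by
  haveI := lft_spec R A
  have hpo : IsPushout (CommRingCat.ofHom (algebraMap R A)) (CommRingCat.ofHom (algebraMap R R'))
      (CommRingCat.ofHom (algebraMap A (R' ⊗[R] A)))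
      (CommRingCat.ofHom (algebraMap R' (R' ⊗[R] A))) :=
    CommRingCat.isPushout_of_isPushout R A R' (R' ⊗[R] A)
  have hpb := isPullback_SpecMap_of_isPushout _ _ _ _ hpo
  rw [_root_.FieldExtH8.fibreDimAt_baseChange _ _ _ _ hpb q']
  exact hd _

/-- `H^i(C ⊗_R R ⧸ I) = 0` for `i < -d` and `C` a bounded above flat representative of
`ω_{A/R}` over `R`, when all fibres have dimension `≤ d` -/
theorem exactAt_TN_quot_of_fibre_dim_le (R A : Type u) [CommRing R] [CommRing A]
    [IsNoetherianRing R] [IsNoetherianRing A] [Algebra R A] [Module.Flat R A] (n : ℕ)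
    (ψ : MvPolynomial (Fin n) R →ₐ[R] A) (hψ : Function.Surjective ψ)
    [DRing.HasLBaseChange (algebraMap R (MvPolynomial (Fin n) R))]
    (Rψ : Dual.D (MvPolynomial (Fin n) R) ⥤ Dual.D A)
    (adj : DRing.restrictD ψ.toRingHom ⊣ Rψ) (d : ℕ)
    (hd : ∀ q : PrimeSpectrum A,
      FlatMor.fibreDimAt (Spec.map (CommRingCat.ofHom (algebraMap R A))) q ≤ (d : WithBot ℕ∞))
    (C : Cx R) (b : ℤ) (hC : VanishesAbove C b) (hCf : TermwiseFlat C)
    (e : toD C ≅ (DRing.restrictD (algebraMap R A)).obj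
      (Dual2.shriekVia n Rψ (Dual.inD R R)))
    (I : Ideal R) (i : ℤ) (hi : i < -(d : ℤ)) :
    ((TN (ModuleCat.of R (R ⧸ I))).obj C).ExactAt i := by
  haveI := finiteType_of_pres R A n ψ hψ
  let R' := R ⧸ I
  let A' := R' ⊗[R] A
  let ψ' : MvPolynomial (Fin n) R' →ₐ[R'] A' := presBC (R' := R') ψ
  have hψ' : Function.Surjective ψ' := presBC_surjective ψ hψ
  obtain ⟨Rψ', ⟨adj'⟩⟩ :=
    Groth.Agent.Lib.RestrictRightAdj.exists_rightAdjoint_restrictD ψ'.toRingHom
  haveI h1 : DRing.HasLBaseChange (algebraMap R' (MvPolynomial (Fin n) R')) :=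
    hasLBaseChange_general _
  haveI h2 : DRing.HasLBaseChange
      (Algebra.TensorProduct.includeRight : A →ₐ[R] R' ⊗[R] A).toRingHom :=
    hasLBaseChange_general _
  haveI h3 : DRing.HasLBaseChange (algebraMap R R') := hasLBaseChange_general _
  obtain ⟨e1⟩ := main1807 R R' A n ψ hψ Rψ adj n ψ' hψ' Rψ' adj' (Dual.inD R R)
  obtain ⟨e2⟩ := nonempty_lBaseChange_inD_self (R := R) (k := R')
  haveI : Algebra.FiniteType R' A' := Algebra.FiniteType.of_surjective ψ' hψ'
  haveI : IsNoetherianRing A' := Algebra.FiniteType.isNoetherianRing R' A'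
  have hd' := fibreDimAt_tensor_le R R' A d hd
  have hv := HD_shriekVia_self_vanishing_below R' A' n ψ' hψ' Rψ' adj' d hd' i hi
  let e3 : Dual2.shriekVia n Rψ' ((DRing.LBaseChange (algebraMap R R')).obj (Dual.inD R R)) ≅
      Dual2.shriekVia n Rψ' (Dual.inD R' R') :=
    (shiftFunctor (Dual.D A') (n : ℤ)).mapIso (Rψ'.mapIso
      ((DRing.LBaseChange (algebraMap R' (MvPolynomial (Fin n) R'))).mapIso e2))
  haveI h2' : DRing.HasLBaseChange (algebraMap A A') := h2
  have h : Subsingleton (Dual.HD A' ((DRing.LBaseChange (algebraMap A A')).obj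
      (Dual2.shriekVia n Rψ (Dual.inD R R))) i) :=
    ((homologyFunctor (ModuleCat.{u} A') i).mapIso
      (e1 ≪≫ e3)).toLinearEquiv.toEquiv.subsingleton_congr.2 hv
  have h4 := exactAt_ES_of_subsingleton_HD_lBaseChange (R := R) (A := A) (R' := R') (A' := A')
    (Dual2.shriekVia n Rψ (Dual.inD R R)) C b hC hCf e i h
  exact exactAt_TN_of_exactAt_ES (B := R') C i h4

/-- **S1790 (b)** -/
theorem hasTorAmplitudeIn_shriekVia_self (R A : Type u) [CommRing R] [CommRing A]
    [IsNoetherianRing R] [IsNoetherianRing A] [Algebra R A] [Module.Flat R A] (n : ℕ)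
    (ψ : MvPolynomial (Fin n) R →ₐ[R] A) (hψ : Function.Surjective ψ)
    [DRing.HasLBaseChange (algebraMap R (MvPolynomial (Fin n) R))]
    (Rψ : Dual.D (MvPolynomial (Fin n) R) ⥤ Dual.D A)
    (adj : DRing.restrictD ψ.toRingHom ⊣ Rψ) (d : ℕ)
    (hd : ∀ q : PrimeSpectrum A,
      FlatMor.fibreDimAt (Spec.map (CommRingCat.ofHom (algebraMap R A))) q ≤ (d : WithBot ℕ∞)) :
    DRing.HasTorAmplitudeIn R (-(d : ℤ)) 0 ((DRing.restrictD (algebraMap R A)).obj
      (Dual2.shriekVia n Rψ (Dual.inD R R))) := by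
  obtain ⟨a', b', hab⟩ := (main1801 R A n ψ hψ Rψ adj).2.2.1
  have h0 := hasTorAmplitudeIn_of_vanishing_above _ a' b' 0 hab (fun i hi =>
    (subsingleton_HD_restrictD_iff (algebraMap R A) _ i).2
      (HD_shriekVia_self_vanishing_above R A n ψ hψ Rψ adj i hi))
  obtain ⟨C, hC, hCf, ⟨e⟩⟩ := h0
  have hCb : VanishesAbove C 0 := fun i hi => hC i (Or.inr hi)
  refine hasTorAmplitudeIn_of_iso e _ _
    (hasTorAmplitudeIn_of_cyclic (-(d : ℤ)) 0 (-(d : ℤ) - a').toNat C a' (by omega) hC hCf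
      (fun I i hi => exactAt_TN_quot_of_fibre_dim_le R A n ψ hψ Rψ adj d hd C 0 hCb hCf e I i hi))

end Groth.Agent.Lib.ShriekRangeH6
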