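import Mathlib
import Groth.Prelude.Def_DRing4
import Groth.Prelude.Def_DualSh
import Groth.Prelude.Def_TrivBC
import Groth.Prelude.Def_CAlg
import Groth.Agent.Lib.CMFib2_helper6
import Groth.Agent.Lib.CMFib3_helper6
import Groth.Agent.Lib.ShriekRange5_helper6
import Groth.Agent.Lib.TrivBC20_helper6
import Groth.Agent.Lib.CMEquiv_helper3
import Groth.Agent.Lib.RelGCI9_helper2
import Groth.Agent.Lib.DMod11_helper6
import Groth.Agent.Lib.DMod43_helper6
import Groth.Agent.Lib.DMod13_helper6

/-!
# Cohen–Macaulay fibres and `φ^!` (helper6), part 4: for `R → A` flat of finite type, all fibres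
are Cohen–Macaulay and equidimensional of dimension `n` iff `ω_{A/R}` is a flat module placed in
degree `-n`.
-/

set_option autoImplicit false
set_option linter.style.haveILetI false
set_option linter.unusedSectionVars false
set_option linter.unusedVariables false
universe u
open CategoryTheory CategoryTheory.Limits DerivedCategory AlgebraicGeometry MonoidalCategory
open scoped TensorProduct
attribute [local instance] HasDerivedCategory.standard

namespace Groth.Agent.Lib.CMFibH6

open DRing Groth.Agent.Lib.DMod_helper6 Groth.Agent.Lib.ShriekLowH6 Groth.Agent.Lib.TrivBCH6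
  Groth.Agent.Lib.FlatBCH6 Groth.Agent.ExtendScalarsLib Groth.Agent.Lib.ShriekRangeH6

section Transfer

lemma coheight_minimalPrimes_of_ringEquiv {R R' : Type u} [CommRing R] [CommRing R']
    (e : R ≃+* R') (n : ℕ)
    (h : ∀ Q : PrimeSpectrum R, Q.asIdeal ∈ minimalPrimes R → Order.coheight Q = (n : ℕ∞))
    (Q' : PrimeSpectrum R') (hQ' : Q'.asIdeal ∈ minimalPrimes R') :
    Order.coheight Q' = (n : ℕ∞) := by
  let f : PrimeSpectrum R ≃o PrimeSpectrum R' := PrimeSpectrum.comapEquiv e
  obtain ⟨Q, rfl⟩ := f.surjective Q'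
  rw [Order.coheight_orderIso]
  apply h
  rw [← PrimeSpectrum.isMin_iff] at hQ' ⊢
  intro b hb
  have := hQ' (f.monotone hb)
  exact (f.le_iff_le).1 this

lemma ringKrullDim_le_of_minimal_coheight (R : Type u) [CommRing R] (n : ℕ)
    (h : ∀ Q : PrimeSpectrum R, Q.asIdeal ∈ minimalPrimes R → Order.coheight Q = (n : ℕ∞)) :
    ringKrullDim R ≤ (n : WithBot ℕ∞) := by
  unfold ringKrullDim Order.krullDim
  refine iSup_le (fun s => ?_)
  obtain ⟨Q, hQ, hle⟩ := Ideal.exists_minimalPrimes_le (bot_le : (⊥ : Ideal R) ≤ s.head.asIdeal)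
  let Q' : PrimeSpectrum R := ⟨Q, hQ.1.1⟩
  have h1 : (s.length : ℕ∞) ≤ Order.coheight s.head := Order.length_le_coheight_head
  have h2 : Order.coheight s.head ≤ Order.coheight Q' := Order.coheight_anti (show Q' ≤ s.head from hle)
  have h3 := h Q' hQ
  have h4 : (s.length : ℕ∞) ≤ (n : ℕ∞) := by rw [← h3]; exact h1.trans h2
  exact_mod_cast h4

end Transfer

section Single

variable {R : Type u} [CommRing R]

lemma hasTorAmplitudeIn_single_of_flat (K : Dual.D R) (c : ℤ)
    (hvan : ∀ i : ℤ, i ≠ c → Subsingleton (Dual.HD R K i))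
    (hflat : Module.Flat R (Dual.HD R K c)) : HasTorAmplitudeIn R c c K := by
  haveI : DerivedCategory.IsLE K c := isLE_of_subsingleton_HD K c (fun i hi => hvan i (by omega))
  haveI : DerivedCategory.IsGE K c := Groth.Agent.Lib.DMod_helper6.isGE_of_subsingleton_HD K c (fun i hi => hvan i (by omega))
  obtain ⟨e⟩ := exists_iso_single_homology K c
  set M := (DerivedCategory.homologyFunctor (ModuleCat.{u} R) c).obj K with hM
  refine ⟨(HomologicalComplex.single (ModuleCat.{u} R) (ComplexShape.up ℤ) c).obj M,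
    fun i hi => HomologicalComplex.isZero_single_obj_X _ c _ i (by omega), fun i => ?_,
    ⟨((singleFunctorIsoCompQ (ModuleCat.{u} R) c).app M).symm ≪≫ e.symm⟩⟩
  by_cases hi : i = c
  · subst hi
    haveI : Module.Flat R M := hflat
    exact Module.Flat.of_linearEquiv
      (HomologicalComplex.singleObjXSelf (ComplexShape.up ℤ) i M).toLinearEquiv
  · exact flat_of_isZero _ (HomologicalComplex.isZero_single_obj_X _ c _ i hi)

lemma flat_HD_of_hasTorAmplitudeIn (K : Dual.D R) (c : ℤ)
    (h : HasTorAmplitudeIn R c c K) : Module.Flat R (Dual.HD R K c) := by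
  obtain ⟨E, hE, hEf, ⟨e⟩⟩ := h
  have h1 : E.d (c - 1) c = 0 := (hE (c - 1) (Or.inl (by omega))).eq_of_src _ _
  have h2 : E.d c (c + 1) = 0 := (hE (c + 1) (Or.inr (by omega))).eq_of_tgt _ _
  have iso : (DerivedCategory.homologyFunctor (ModuleCat.{u} R) c).obj K ≅ E.X c :=
    (DerivedCategory.homologyFunctor _ c).mapIso e.symm ≪≫
      (homologyFunctorFactors (ModuleCat.{u} R) c).app E ≪≫
      (E.isoHomologyπ (c - 1) c (by simp) h1).symm ≪≫ E.iCyclesIso c (c + 1) (by simp) h2
  haveI := hEf c
  exact Module.Flat.of_linearEquiv iso.toLinearEquiv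

end Single

section BC

variable {R A R' A' : Type u} [CommRing R] [CommRing A] [CommRing R'] [CommRing A']
  [Algebra R A] [Algebra R R'] [Algebra A A'] [Algebra R' A'] [Algebra R A']
  [IsScalarTower R A A'] [IsScalarTower R R' A'] [Algebra.IsPushout R R' A A']

/-- flat base change for the cohomology of a flat representative, converse direction -/
theorem subsingleton_HD_lBaseChange_of_exactAt_ES [Module.Flat R A]
    [DRing.HasLBaseChange (algebraMap R R')] [DRing.HasLBaseChange (algebraMap A A')]
    (V : Dual.D A) (C : Cx R) (b : ℤ) (hC : VanishesAbove C b) (hCf : TermwiseFlat C)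
    (e : toD C ≅ (DRing.restrictD (algebraMap R A)).obj V) (i : ℤ)
    (h : (((ModuleCat.extendScalars.{u, u, u} (algebraMap R R')).mapHomologicalComplex
      (ComplexShape.up ℤ)).obj C).ExactAt i) :
    Subsingleton (Dual.HD A' ((DRing.LBaseChange (algebraMap A A')).obj V) i) := by
  obtain ⟨adjρ⟩ := Groth.Agent.Lib.DerivedAdj.nonempty_adj (algebraMap R R')
  obtain ⟨adjα⟩ := Groth.Agent.Lib.DerivedAdj.nonempty_adj (algebraMap A A')
  have hsq : (algebraMap A A').comp (algebraMap R A) =
      (algebraMap R' A').comp (algebraMap R R') := by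
    rw [← IsScalarTower.algebraMap_eq R A A', ← IsScalarTower.algebraMap_eq R R' A']
  haveI hc : IsIso (TrivBC.cmp adjρ adjα hsq V) :=
    isIso_cmp_of_torIndepCx hsq adjρ adjα torIndepCx_of_flat V
  obtain ⟨eL⟩ := nonempty_lBaseChange_iso_of_flat (algebraMap R R') C b hC hCf
  have e1 : toD (((ModuleCat.extendScalars.{u, u, u} (algebraMap R R')).mapHomologicalComplex
      (ComplexShape.up ℤ)).obj C) ≅
      (DRing.restrictD (algebraMap R' A')).obj ((DRing.LBaseChange (algebraMap A A')).obj V) :=
    eL.symm ≪≫ (DRing.LBaseChange (algebraMap R R')).mapIso e ≪≫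
      asIso (TrivBC.cmp adjρ adjα hsq V)
  rw [exactAt_iff_subsingleton_HD e1 i, subsingleton_HD_restrictD_iff] at h
  exact h

end BC

end Groth.Agent.Lib.CMFibH6
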