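import Mathlib
import Groth.Agent.Lib.CMFib4_helper6
import Groth.Agent.Lib.RestrictRightAdj_helper2
import Groth.Agent.Lib.NilpTor_helper2

/-!
# Cohen–Macaulay fibres and `φ^!` (helper6), part 5: the main equivalence.
-/

set_option autoImplicit false
set_option linter.style.haveILetI false
set_option linter.unusedSectionVars false
set_option linter.unusedVariables false
universe u
open CategoryTheory CategoryTheory.Limits DerivedCategory AlgebraicGeometry MonoidalCategory
open scoped TensorProduct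
attribute [local instance] HasDerivedCategory.standard

namespace Groth.Agent.Lib.CMFibH6

open DRing Groth.Agent.Lib.DMod_helper6 Groth.Agent.Lib.ShriekLowH6 Groth.Agent.Lib.TrivBCH6
  Groth.Agent.Lib.FlatBCH6 Groth.Agent.ExtendScalarsLib Groth.Agent.Lib.ShriekRangeH6

attribute [local instance] MvPolynomial.algebraMvPolynomial Algebra.TensorProduct.rightAlgebra

section Above

/-- **Vanishing above from the fibres.** -/
theorem HD_vanishing_above_of_fibres (A B : Type u) [CommRing A] [CommRing B] [Algebra A B]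
    (K : Dual.D B) (hpc : IsPseudoCoherent' B K) (hfin : ∀ i : ℤ, Module.Finite B (Dual.HD B K i))
    [hL : ∀ p : PrimeSpectrum A,
      HasLBaseChange (algebraMap B (p.asIdeal.ResidueField ⊗[A] B))] (c₀ : ℤ)
    (hfib : ∀ (p : PrimeSpectrum A) (i : ℤ), c₀ < i →
      Subsingleton (Dual.HD (p.asIdeal.ResidueField ⊗[A] B)
        ((LBaseChange (algebraMap B (p.asIdeal.ResidueField ⊗[A] B))).obj K) i)) :
    ∀ i : ℤ, c₀ < i → Subsingleton (Dual.HD B K i) := by
  obtain ⟨E, b, hE, hEff, ⟨e⟩⟩ := hpc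
  have hEf : TermwiseFlat E := fun i => by
    haveI := (hEff i).2
    exact Module.Flat.of_free
  have key : ∀ m : ℕ, ∀ i : ℤ, c₀ < i → b - (m : ℤ) < i → Subsingleton (Dual.HD B K i) := by
    intro m
    induction m with
    | zero =>
      intro i _ hi
      exact (exactAt_iff_subsingleton_HD e i).1
        (exactAt_of_isZero_X E i (hE i (by push_cast at hi; omega)))
    | succ m ih =>
      intro i hc hi
      by_cases h1 : b - (m : ℤ) < i
      · exact ih i hc h1
      · have hvan : ∀ j, i < j → Subsingleton (Dual.HD B K j) := fun j hj =>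
          ih j (by omega) (by push_cast at hi; omega)
        haveI := hfin i
        refine subsingleton_of_forall_fibre_tensor A B (Dual.HD B K i) (fun p => ?_)
        exact subsingleton_tensor_HD_top K E b hE hEf e i hvan (hfib p i hc)
  intro i hi
  exact key (b - i + 1).toNat i hi (by omega)

end Above

section Fibre

variable (R A : Type u) [CommRing R] [CommRing A] [IsNoetherianRing R] [IsNoetherianRing A]
  [Algebra R A] [Module.Flat R A] (N : ℕ) (ψ : MvPolynomial (Fin N) R →ₐ[R] A)
  (hψ : Function.Surjective ψ) [DRing.HasLBaseChange (algebraMap R (MvPolynomial (Fin N) R))]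
  (Rψ : Dual.D (MvPolynomial (Fin N) R) ⥤ Dual.D A) (adj : DRing.restrictD ψ.toRingHom ⊣ Rψ)

include hψ adj in
/-- the fibre over `p` is Cohen–Macaulay and equidimensional of dimension `n` iff the base change
of `ω_{A/R}` to the fibre lives in degree `-n` -/
theorem fibre_iff (p : PrimeSpectrum R) (n : ℕ)
    [DRing.HasLBaseChange
      (Algebra.TensorProduct.includeRight : A →ₐ[R] p.asIdeal.ResidueField ⊗[R] A).toRingHom] :
    (LocCoh.IsCohenMacaulayRing (A ⊗[R] p.asIdeal.ResidueField) ∧
      ∀ Q : PrimeSpectrum (A ⊗[R] p.asIdeal.ResidueField),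
        Q.asIdeal ∈ minimalPrimes (A ⊗[R] p.asIdeal.ResidueField) →
          Order.coheight Q = (n : ℕ∞)) ↔
    ∀ i : ℤ, i ≠ -(n : ℤ) → Subsingleton (Dual.HD (p.asIdeal.ResidueField ⊗[R] A)
      ((DRing.LBaseChange
        (Algebra.TensorProduct.includeRight : A →ₐ[R] p.asIdeal.ResidueField ⊗[R] A).toRingHom).obj
        (Dual2.shriekVia N Rψ (Dual.inD R R))) i) := by
  let k := p.asIdeal.ResidueField
  let A' := k ⊗[R] A
  let ψ' : MvPolynomial (Fin N) k →ₐ[k] A' := presBC (R' := k) ψ
  have hψ' : Function.Surjective ψ' := presBC_surjective ψ hψ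
  haveI : IsNoetherianRing A' := isNoetherianRing_of_surjective _ _ ψ'.toRingHom hψ'
  haveI : DRing.HasLBaseChange (algebraMap k (MvPolynomial (Fin N) k)) := hasLBaseChange_general _
  haveI : DRing.HasLBaseChange (algebraMap R k) := hasLBaseChange_general _
  obtain ⟨Rψ', ⟨adj'⟩⟩ :=
    Groth.Agent.Lib.RestrictRightAdj.exists_rightAdjoint_restrictD ψ'.toRingHom
  obtain ⟨e1⟩ := main1807 R k A N ψ hψ Rψ adj N ψ' hψ' Rψ' adj' (Dual.inD R R)
  obtain ⟨e2⟩ := nonempty_lBaseChange_inD_self (R := R) (k := k)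
  let e3 : Dual2.shriekVia N Rψ' ((DRing.LBaseChange (algebraMap R k)).obj (Dual.inD R R)) ≅
      Dual2.shriekVia N Rψ' (Dual.inD k k) :=
    (shiftFunctor (Dual.D A') (N : ℤ)).mapIso (Rψ'.mapIso
      ((DRing.LBaseChange (algebraMap k (MvPolynomial (Fin N) k))).mapIso e2))
  have FL := cm_equidim_iff_shriekVia_field k A' N ψ' hψ' Rψ' adj' n
  let σ : A ⊗[R] k ≃+* A' := (Algebra.TensorProduct.comm R A k).toRingEquiv
  have hL : (LocCoh.IsCohenMacaulayRing (A ⊗[R] k) ∧
      ∀ Q : PrimeSpectrum (A ⊗[R] k), Q.asIdeal ∈ minimalPrimes (A ⊗[R] k) →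
        Order.coheight Q = (n : ℕ∞)) ↔
      (LocCoh.IsCohenMacaulayRing A' ∧
      ∀ Q : PrimeSpectrum A', Q.asIdeal ∈ minimalPrimes A' → Order.coheight Q = (n : ℕ∞)) := by
    constructor
    · rintro ⟨h1, h2⟩
      exact ⟨Groth.Agent.Lib.CMEquivH3.isCohenMacaulayRing_of_ringEquiv σ h1,
        coheight_minimalPrimes_of_ringEquiv σ n h2⟩
    · rintro ⟨h1, h2⟩
      exact ⟨Groth.Agent.Lib.CMEquivH3.isCohenMacaulayRing_of_ringEquiv σ.symm h1,
        coheight_minimalPrimes_of_ringEquiv σ.symm n h2⟩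
  rw [hL, FL]
  refine forall_congr' (fun i => forall_congr' (fun _ => ?_))
  exact ((DerivedCategory.homologyFunctor (ModuleCat.{u} A') i).mapIso
    (e1 ≪≫ e3)).toLinearEquiv.toEquiv.subsingleton_congr.symm

end Fibre

end Groth.Agent.Lib.CMFibH6
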