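import Mathlib
import Groth.Agent.Lib.CMFib5_helper6

/-!
# Cohen–Macaulay fibres and `φ^!` (helper6), part 6: the main equivalence.
-/

set_option autoImplicit false
set_option linter.style.haveILetI false
set_option linter.unusedSectionVars false
set_option linter.unusedVariables false
universe u
open CategoryTheory CategoryTheory.Limits DerivedCategory AlgebraicGeometry MonoidalCategory
open scoped TensorProduct
attribute [local instance] HasDerivedCategory.standard

namespace Groth.Agent.Lib.CMFibH6

open DRing Groth.Agent.Lib.DMod_helper6 Groth.Agent.Lib.ShriekLowH6 Groth.Agent.Lib.TrivBCH6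
  Groth.Agent.Lib.FlatBCH6 Groth.Agent.ExtendScalarsLib Groth.Agent.Lib.ShriekRangeH6

attribute [local instance] MvPolynomial.algebraMvPolynomial Algebra.TensorProduct.rightAlgebra

section Main

variable (R A : Type u) [CommRing R] [CommRing A] [IsNoetherianRing R] [IsNoetherianRing A]
  [Algebra R A] [Module.Flat R A] (N : ℕ) (ψ : MvPolynomial (Fin N) R →ₐ[R] A)
  (hψ : Function.Surjective ψ) [DRing.HasLBaseChange (algebraMap R (MvPolynomial (Fin N) R))]
  (Rψ : Dual.D (MvPolynomial (Fin N) R) ⥤ Dual.D A) (adj : DRing.restrictD ψ.toRingHom ⊣ Rψ)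

include hψ adj in
/-- For `R → A` flat of finite type between Noetherian rings: all fibres are Cohen–Macaulay with
all irreducible components of dimension `n` iff `ω_{A/R}` has cohomology only in degree `-n` and
`H^{-n}(ω_{A/R})` is flat over `R`. -/
theorem main_fibres_iff (n : ℕ) :
    (∀ p : PrimeSpectrum R, LocCoh.IsCohenMacaulayRing (A ⊗[R] p.asIdeal.ResidueField) ∧
      ∀ Q : PrimeSpectrum (A ⊗[R] p.asIdeal.ResidueField),
        Q.asIdeal ∈ minimalPrimes (A ⊗[R] p.asIdeal.ResidueField) →
          Order.coheight Q = (n : ℕ∞)) ↔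
    ((∀ i : ℤ, i ≠ -(n : ℤ) →
        Subsingleton (Dual.HD A (Dual2.shriekVia N Rψ (Dual.inD R R)) i)) ∧
      Module.Flat R ((ModuleCat.restrictScalars.{u} (algebraMap R A)).obj
        ((DerivedCategory.homologyFunctor (ModuleCat.{u} A) (-(n : ℤ))).obj
          (Dual2.shriekVia N Rψ (Dual.inD R R))))) := by
  set ω := Dual2.shriekVia N Rψ (Dual.inD R R) with hωdef
  haveI hLp : ∀ p : PrimeSpectrum R, DRing.HasLBaseChange
      (Algebra.TensorProduct.includeRight : A →ₐ[R] p.asIdeal.ResidueField ⊗[R] A).toRingHom :=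
    fun p => hasLBaseChange_general _
  haveI hLp' : ∀ p : PrimeSpectrum R, DRing.HasLBaseChange
      (algebraMap A (p.asIdeal.ResidueField ⊗[R] A)) := fun p => hLp p
  constructor
  · intro hfib
    have hfv : ∀ (p : PrimeSpectrum R) (i : ℤ), i ≠ -(n : ℤ) →
        Subsingleton (Dual.HD (p.asIdeal.ResidueField ⊗[R] A)
          ((DRing.LBaseChange (algebraMap A (p.asIdeal.ResidueField ⊗[R] A))).obj ω) i) :=
      fun p => (fibre_iff R A N ψ hψ Rψ adj p n).1 (hfib p)
    have hd : ∀ q : PrimeSpectrum A,
        FlatMor.fibreDimAt (Spec.map (CommRingCat.ofHom (algebraMap R A))) q ≤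
          (n : WithBot ℕ∞) := by
      intro q
      let p : PrimeSpectrum R := PrimeSpectrum.comap (algebraMap R A) q
      have h1 := Groth.Agent.Lib.RelGCI.fibreDimAt_le_ringKrullDim R A p q rfl
      have h2 : ringKrullDim (p.asIdeal.Fiber A) ≤ (n : WithBot ℕ∞) :=
        ringKrullDim_le_of_minimal_coheight _ n
          (coheight_minimalPrimes_of_ringEquiv
            (Algebra.TensorProduct.comm R A p.asIdeal.ResidueField).toRingEquiv n (hfib p).2)
      exact h1.trans h2
    have htor := hasTorAmplitudeIn_shriekVia_self R A N ψ hψ Rψ adj n hd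
    obtain ⟨⟨a, b, hab⟩, hfin, -, -, -⟩ := main1801 R A N ψ hψ Rψ adj
    have hpc : IsPseudoCoherent' A ω := by
      refine isPseudoCoherent'_of_homology ω ⟨b, fun j hj => hab j (Or.inr hj)⟩ (fun j => ?_)
      haveI := hfin j
      exact isPseudoCoherentModule'_of_finite _
    have habove : ∀ i : ℤ, -(n : ℤ) < i → Subsingleton (Dual.HD A ω i) :=
      HD_vanishing_above_of_fibres R A ω hpc hfin (-(n : ℤ))
        (fun p i hi => hfv p i (by omega))
    have htor' : HasTorAmplitudeIn R (-(n : ℤ)) (-(n : ℤ))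
        ((DRing.restrictD (algebraMap R A)).obj ω) :=
      hasTorAmplitudeIn_of_vanishing_above _ (-(n : ℤ)) 0 (-(n : ℤ)) htor
        (fun i hi => (subsingleton_HD_restrictD_iff (algebraMap R A) _ i).2 (habove i hi))
    refine ⟨fun i hi => ?_, ?_⟩
    · rcases lt_or_gt_of_ne hi with h | h
      · exact (subsingleton_HD_restrictD_iff (algebraMap R A) _ i).1
          (subsingleton_HD_of_hasTorAmplitudeIn _ _ _ htor' i (Or.inl h))
      · exact habove i h
    · have hflat := flat_HD_of_hasTorAmplitudeIn _ _ htor'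
      obtain ⟨e1⟩ := nonempty_HD_restrictD_iso (algebraMap R A) ω (-(n : ℤ))
      exact Module.Flat.of_linearEquiv e1.toLinearEquiv.symm
  · rintro ⟨hvan, hflat⟩ p
    rw [fibre_iff R A N ψ hψ Rψ adj p n]
    intro i hi
    obtain ⟨e1⟩ := nonempty_HD_restrictD_iso (algebraMap R A) ω (-(n : ℤ))
    have hflat' : Module.Flat R
        (Dual.HD R ((DRing.restrictD (algebraMap R A)).obj ω) (-(n : ℤ))) :=
      Module.Flat.of_linearEquiv e1.toLinearEquiv
    have htor : HasTorAmplitudeIn R (-(n : ℤ)) (-(n : ℤ))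
        ((DRing.restrictD (algebraMap R A)).obj ω) :=
      hasTorAmplitudeIn_single_of_flat _ _
        (fun j hj => (subsingleton_HD_restrictD_iff (algebraMap R A) _ j).2 (hvan j hj)) hflat'
    obtain ⟨E, hE, hEf, ⟨e⟩⟩ := htor
    haveI : DRing.HasLBaseChange (algebraMap R p.asIdeal.ResidueField) := hasLBaseChange_general _
    refine subsingleton_HD_lBaseChange_of_exactAt_ES (R := R) (A := A)
      (R' := p.asIdeal.ResidueField) (A' := p.asIdeal.ResidueField ⊗[R] A) ω E (-(n : ℤ))
      (fun j hj => hE j (Or.inr hj)) hEf e i ?_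
    refine exactAt_of_isZero_X _ i ?_
    have hz : IsZero (E.X i) := hE i (by rcases lt_or_gt_of_ne hi with h | h <;> [left; right] <;> exact h)
    exact (ModuleCat.extendScalars.{u, u, u} (algebraMap R p.asIdeal.ResidueField)).map_isZero hz

end Main

end Groth.Agent.Lib.CMFibH6
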