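import Mathlib
import Groth.Agent.Lib.FlatHom5_helper2
import Groth.Agent.Lib.LocDual1_helper2
import Groth.Agent.Lib.DMod93_helper6
import Groth.Agent.Lib.DMod94_helper6
import Groth.Agent.Lib.DMod90_helper6

/-!
# Uniqueness of dualizing complexes over a Noetherian local ring (helper2)

* `iso_of_complete`: over a complete Noetherian local ring two normalized dualizing complexes
  are isomorphic (`RΓ_m` of both is an injective hull of the residue field placed in degree `0`,
  and maps into a derived complete object are determined on `RΓ_m`).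
* `iso_of_bcD_iso`: descent of an isomorphism along a flat map out of a local ring.
* `S1747_main`.
-/

set_option autoImplicit false
universe u
open CategoryTheory CategoryTheory.Limits DerivedCategory
open scoped TensorProduct

attribute [local instance] HasDerivedCategory.standard

namespace Groth.Agent.Lib.DualUniq

open Groth.Agent.Lib.LocFib Groth.Agent.Lib.HDIColim Groth.Agent.Lib.DMod_helper6
  Groth.Agent.Lib.DerCompl Groth.Agent.Lib.DerHom_helper5 Groth.Agent.Lib.LocDual
  Groth.Agent.Lib.FlatHom DRing Groth.Agent.ExtendScalarsLib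

section Complete

variable (A : Type u) [CommRing A] [IsLocalRing A] [IsNoetherianRing A]

/-- `RΓ_m(ω)` is an injective hull of the residue field in degree `0` -/
theorem rgamma_iso (ω : Dual.D A) (hω : Dual.IsDualizing A ω) (hn : Dual.IsNormalized A ω)
    (E : Type u) [AddCommGroup E] [Module A E] (f : IsLocalRing.ResidueField A →ₗ[A] E)
    (hf : InjHull.IsInjectiveHull f) (fs : List A)
    (hfs : Ideal.span {x : A | x ∈ fs} = IsLocalRing.maximalIdeal A)
    [DRing.HasRgammaI (Ideal.span {x : A | x ∈ fs})] :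
    Nonempty ((DRing.RgammaI (Ideal.span {x : A | x ∈ fs})).obj ω ≅ (Dual.inD A E)⟦(0 : ℤ)⟧) := by
  have hsub : ∀ j : ℤ, j ≠ 0 → Subsingleton
      (Dual.HD A ((DRing.RgammaI (Ideal.span {x : A | x ∈ fs})).obj ω) j) := by
    intro j hj
    obtain ⟨t1⟩ := S1812_main (Ideal.span {x : A | x ∈ fs}) ω j
    haveI : Subsingleton (Dual2.HDI A (Ideal.span {x : A | x ∈ fs}) ω j) := by
      rw [hfs]
      exact hdi_subsingleton A ω hn j hj
    exact t1.toEquiv.subsingleton
  obtain ⟨t1⟩ := S1812_main (Ideal.span {x : A | x ∈ fs}) ω 0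
  obtain ⟨t3⟩ : Nonempty (Dual2.HDI A (Ideal.span {x : A | x ∈ fs}) ω 0 ≃ₗ[A] E) := by
    rw [hfs]
    exact hdi_zero_equiv A ω hω hn E f hf
  exact nonempty_iso_inD_shift_of_HD_single _ 0 0 (by omega) hsub E (t1.trans t3)

/-- over a complete Noetherian local ring, two normalized dualizing complexes are isomorphic -/
theorem iso_of_complete [IsAdicComplete (IsLocalRing.maximalIdeal A) A] (ω ω' : Dual.D A)
    (hω : Dual.IsDualizing A ω) (hn : Dual.IsNormalized A ω)
    (hω' : Dual.IsDualizing A ω') (hn' : Dual.IsNormalized A ω') : Nonempty (ω ≅ ω') := by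
  obtain ⟨fs, hfs⟩ := exists_list_span (IsLocalRing.maximalIdeal A)
  obtain ⟨E, _, _, f, hf⟩ := Groth.Agent.S0299.result A (IsLocalRing.ResidueField A)
  haveI : DRing.HasRgammaI (Ideal.span {x : A | x ∈ fs}) := hasRgammaI _
  obtain ⟨s⟩ := rgamma_iso A ω hω hn E f hf fs hfs
  obtain ⟨s'⟩ := rgamma_iso A ω' hω' hn' E f hf fs hfs
  have hmem : ∀ g ∈ fs, g ∈ Ideal.span {x : A | x ∈ fs} := fun g hg => Ideal.subset_span hg
  have hc : ∀ W : Dual.D A, (∀ i : ℤ, Module.Finite A (Dual.HD A W i)) → ∀ X : Dual.D A,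
      Function.Bijective (fun a : X ⟶ W =>
        (DRing.RgammaIε (Ideal.span {x : A | x ∈ fs})).app X ≫ a) := by
    intro W hW X
    have hWc : DRing.IsDerivedComplete (Ideal.span {x : A | x ∈ fs}) W := by
      rw [hfs]
      exact isDerivedComplete_of_finite_cohomology _ W hW
    exact IterFib.bijective_precomp fs _ (iterFib_RgammaIε fs X) W
      (fun g hg n => hWc g (hmem g hg) n)
  let u : (DRing.RgammaI (Ideal.span {x : A | x ∈ fs})).obj ω ≅
      (DRing.RgammaI (Ideal.span {x : A | x ∈ fs})).obj ω' := s ≪≫ s'.symm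
  obtain ⟨φ, hφ⟩ := (hc ω' hω'.finite_cohomology ω).2
    (u.hom ≫ (DRing.RgammaIε (Ideal.span {x : A | x ∈ fs})).app ω')
  obtain ⟨ψ, hψ⟩ := (hc ω hω.finite_cohomology ω').2
    (u.inv ≫ (DRing.RgammaIε (Ideal.span {x : A | x ∈ fs})).app ω)
  dsimp only at hφ hψ
  refine ⟨⟨φ, ψ, ?_, ?_⟩⟩
  · apply (hc ω hω.finite_cohomology ω).1
    show (DRing.RgammaIε (Ideal.span {x : A | x ∈ fs})).app ω ≫ φ ≫ ψ =
      (DRing.RgammaIε (Ideal.span {x : A | x ∈ fs})).app ω ≫ 𝟙 ω
    rw [← Category.assoc, hφ, Category.assoc, hψ, Iso.hom_inv_id_assoc]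
    exact (Category.comp_id _).symm
  · apply (hc ω' hω'.finite_cohomology ω').1
    show (DRing.RgammaIε (Ideal.span {x : A | x ∈ fs})).app ω' ≫ ψ ≫ φ =
      (DRing.RgammaIε (Ideal.span {x : A | x ∈ fs})).app ω' ≫ 𝟙 ω'
    rw [← Category.assoc, hψ, Category.assoc, hφ, Iso.inv_hom_id_assoc]
    exact (Category.comp_id _).symm

end Complete

section Descent

variable {A B : Type u} [CommRing A] [CommRing B] [Algebra A B] [Module.Flat A B]

/-- descent of an isomorphism along a flat map `A → B` out of a local ring with `m B ≠ B`, for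
two objects with endomorphism ring `A` -/
theorem iso_of_bcD_iso [IsLocalRing A]
    (hmB : (IsLocalRing.maximalIdeal A).map (algebraMap A B) ≠ ⊤) (ω ω' : Dual.D A)
    (h1 : Function.Surjective (β (B := B) ω ω')) (h2 : Function.Surjective (β (B := B) ω' ω))
    (hE : Function.Bijective (fun a : A => a • 𝟙 ω))
    (hE' : Function.Bijective (fun a : A => a • 𝟙 ω'))
    (hinj : Function.Injective (fun b : B => b • 𝟙 ((bcD A B).obj ω')))
    (e : (bcD A B).obj ω ≅ (bcD A B).obj ω') : Nonempty (ω ≅ ω') := by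
  classical
  have key : ∃ (f : ω ⟶ ω') (g : ω' ⟶ ω) (a : A), IsUnit a ∧ g ≫ f = a • 𝟙 ω' := by
    by_contra hcon
    push Not at hcon
    have hm : ∀ (f : ω ⟶ ω') (g : ω' ⟶ ω), ∃ a ∈ IsLocalRing.maximalIdeal A,
        g ≫ f = a • 𝟙 ω' := by
      intro f g
      obtain ⟨a, ha⟩ := hE'.2 (g ≫ f)
      refine ⟨a, ?_, ha.symm⟩
      by_contra hna
      rw [IsLocalRing.mem_maximalIdeal, mem_nonunits_iff, not_not] at hna
      exact hcon f g a hna ha.symm
    have hP : ∀ (y : B ⊗[A] (ω' ⟶ ω)) (x : B ⊗[A] (ω ⟶ ω')),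
        ∃ t ∈ (IsLocalRing.maximalIdeal A).map (algebraMap A B),
          β (B := B) ω' ω y ≫ β (B := B) ω ω' x = t • 𝟙 ((bcD A B).obj ω') := by
      intro y
      induction y using TensorProduct.induction_on with
      | zero =>
        intro x
        exact ⟨0, Ideal.zero_mem _, by rw [map_zero, zero_comp, zero_smul]⟩
      | add y1 y2 h1 h2 =>
        intro x
        obtain ⟨t1, ht1, e1⟩ := h1 x
        obtain ⟨t2, ht2, e2⟩ := h2 x
        exact ⟨t1 + t2, Ideal.add_mem _ ht1 ht2, by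
          rw [map_add, Preadditive.add_comp, e1, e2, add_smul]⟩
      | tmul c g =>
        intro x
        induction x using TensorProduct.induction_on with
        | zero => exact ⟨0, Ideal.zero_mem _, by rw [map_zero, comp_zero, zero_smul]⟩
        | add x1 x2 h1 h2 =>
          obtain ⟨t1, ht1, e1⟩ := h1
          obtain ⟨t2, ht2, e2⟩ := h2
          exact ⟨t1 + t2, Ideal.add_mem _ ht1 ht2, by
            rw [map_add, Preadditive.comp_add, e1, e2, add_smul]⟩
        | tmul b f =>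
          obtain ⟨a, ha, hgf⟩ := hm f g
          refine ⟨c * (b * algebraMap A B a),
            Ideal.mul_mem_left _ _ (Ideal.mul_mem_left _ _ (Ideal.mem_map_of_mem _ ha)), ?_⟩
          rw [β_tmul, β_tmul, Linear.smul_comp, Linear.comp_smul,
            ← CategoryTheory.Functor.map_comp, hgf, bcD_map_smul,
            CategoryTheory.Functor.map_id, smul_smul, smul_smul, mul_assoc]
    obtain ⟨x, hx⟩ := h1 e.hom
    obtain ⟨y, hy⟩ := h2 e.inv
    obtain ⟨t, ht, het⟩ := hP y x
    rw [hx, hy, e.inv_hom_id] at het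
    have h1t : (1 : B) = t := hinj (by
      show (1 : B) • 𝟙 ((bcD A B).obj ω') = t • 𝟙 ((bcD A B).obj ω')
      rw [one_smul]
      exact het)
    apply hmB
    rw [Ideal.eq_top_iff_one, h1t]
    exact ht
  obtain ⟨f, g, a, ha, hgf⟩ := key
  obtain ⟨a', rfl⟩ := ha
  have hg'f : ((↑a'⁻¹ : A) • g) ≫ f = 𝟙 ω' := by
    rw [Linear.smul_comp, hgf, smul_smul, Units.inv_mul, one_smul]
  obtain ⟨c, hc⟩ := hE.2 (f ≫ ((↑a'⁻¹ : A) • g))
  dsimp only at hc
  have hidem : (f ≫ ((↑a'⁻¹ : A) • g)) ≫ (f ≫ ((↑a'⁻¹ : A) • g)) =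
      f ≫ ((↑a'⁻¹ : A) • g) := by
    rw [Category.assoc, ← Category.assoc ((↑a'⁻¹ : A) • g), hg'f, Category.id_comp]
  have hcc : c * c = c := by
    apply hE.1
    show (c * c) • 𝟙 ω = c • 𝟙 ω
    have h3 := hidem
    rw [← hc, Linear.smul_comp, Category.id_comp, smul_smul] at h3
    exact h3
  rcases IsLocalRing.isUnit_or_isUnit_one_sub_self c with hu | hu
  · have hc1 : c = 1 := by
      have h4 : c * c = c * 1 := by rw [hcc, mul_one]
      exact hu.mul_left_cancel h4
    refine ⟨⟨f, (↑a'⁻¹ : A) • g, ?_, hg'f⟩⟩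
    rw [← hc, hc1, one_smul]
  · exfalso
    have hc0 : c = 0 := by
      have h4 : (1 - c) * c = (1 - c) * 0 := by
        rw [mul_zero, sub_mul, one_mul, hcc, sub_self]
      exact hu.mul_left_cancel h4
    have h0 : f ≫ ((↑a'⁻¹ : A) • g) = 0 := by rw [← hc, hc0, zero_smul]
    have h5 : 𝟙 ω' = 0 := by
      have h6 : 𝟙 ω' = ((↑a'⁻¹ : A) • g) ≫ (f ≫ ((↑a'⁻¹ : A) • g)) ≫ f := by
        rw [Category.assoc, hg'f, Category.comp_id, hg'f]
      rw [h6, h0, zero_comp, comp_zero]
    have h7 : (1 : A) = 0 := hE'.1 (by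
      show (1 : A) • 𝟙 ω' = (0 : A) • 𝟙 ω'
      rw [one_smul, zero_smul, h5])
    exact one_ne_zero h7

end Descent

section Main

variable (A : Type u) [CommRing A] [IsLocalRing A] [IsNoetherianRing A]

/-- two normalized dualizing complexes over a Noetherian local ring are isomorphic -/
theorem iso_of_normalized (ω ω' : Dual.D A) (hω : Dual.IsDualizing A ω)
    (hn : Dual.IsNormalized A ω) (hω' : Dual.IsDualizing A ω') (hn' : Dual.IsNormalized A ω') :
    Nonempty (ω ≅ ω') := by
  haveI : IsNoetherianRing (AdicCompletion (IsLocalRing.maximalIdeal A) A) :=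
    Groth.Agent.RegularLib.isNoetherianRing_adicCompletion A _
  haveI : Module.FaithfullyFlat A (AdicCompletion (IsLocalRing.maximalIdeal A) A) :=
    Module.FaithfullyFlat.of_flat_of_isLocalHom
  have hm : (IsLocalRing.maximalIdeal A).map
      (algebraMap A (AdicCompletion (IsLocalRing.maximalIdeal A) A)) =
      IsLocalRing.maximalIdeal (AdicCompletion (IsLocalRing.maximalIdeal A) A) :=
    AdicCompletion.maximalIdeal_eq_map.symm
  obtain ⟨hB, hnB⟩ := isDualizing_bcD_of_local hm ω hω hn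
  obtain ⟨hB', hnB'⟩ := isDualizing_bcD_of_local hm ω' hω' hn'
  obtain ⟨eB⟩ := iso_of_complete (AdicCompletion (IsLocalRing.maximalIdeal A) A) _ _
    hB hnB hB' hnB'
  have hbd : ∀ (K : Dual.D A), Dual.IsDualizing A K →
      (∃ a b : ℤ, ∀ i : ℤ, (i < a ∨ b < i) → Subsingleton (Dual.HD A K i)) := by
    intro K hK
    obtain ⟨a, b, hab⟩ := hK.finite_injective_dimension
    exact ⟨a, b, fun i hi => subsingleton_HD_of_hom_quot_bot K i (hab (A ⧸ (⊥ : Ideal A)) i hi)⟩
  have hpc : ∀ (K : Dual.D A), Dual.IsDualizing A K → IsPseudoCoherent' A K := by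
    intro K hK
    obtain ⟨a, b, hab⟩ := hbd K hK
    refine isPseudoCoherent'_of_homology K ⟨b, fun j hj => hab j (Or.inr hj)⟩ (fun j => ?_)
    haveI := hK.finite_cohomology j
    exact isPseudoCoherentModule'_of_finite _
  have hβ1 := flatHom_bijective (B := AdicCompletion (IsLocalRing.maximalIdeal A) A) ω ω'
    (hpc ω hω) (hbd ω' hω')
  have hβ2 := flatHom_bijective (B := AdicCompletion (IsLocalRing.maximalIdeal A) A) ω' ω
    (hpc ω' hω') (hbd ω hω)
  refine iso_of_bcD_iso (B := AdicCompletion (IsLocalRing.maximalIdeal A) A) ?_ ω ω' hβ1.2 hβ2.2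
    hω.toEnd_bijective hω'.toEnd_bijective hB'.toEnd_bijective.1 eB
  rw [hm]
  exact Ideal.IsPrime.ne_top'

/-- S1747. -/
theorem S1747_main (ω ω' : Dual.D A) (hω : Dual.IsDualizing A ω)
    (hω' : Dual.IsDualizing A ω') : ∃ n : ℤ, Nonempty (ω' ≅ ω⟦n⟧) := by
  obtain ⟨n, hn⟩ := exists_isNormalized_shift ω hω
  obtain ⟨n', hn'⟩ := exists_isNormalized_shift ω' hω'
  obtain ⟨ι⟩ := iso_of_normalized A (ω'⟦n'⟧) (ω⟦n⟧) (isDualizing_shift ω' hω' n') hn'
    (isDualizing_shift ω hω n) hn
  refine ⟨n - n', ⟨?_⟩⟩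
  exact ((shiftFunctorZero (Dual.D A) ℤ).app ω').symm ≪≫
    (shiftShiftIso ω' n' (-n') 0 (by omega)).symm ≪≫
    (shiftFunctor (Dual.D A) (-n')).mapIso ι ≪≫
    shiftShiftIso ω n (-n') (n - n') (by ring)

end Main

end Groth.Agent.Lib.DualUniq
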