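import Mathlib
import Groth.Agent.Lib.DMod79_helper6
import Groth.Agent.Lib.DMod59_helper6
import Groth.Agent.Lib.DualUniq1_helper2

set_option autoImplicit false
set_option linter.style.haveILetI false
set_option linter.unusedSectionVars false
universe u
open CategoryTheory CategoryTheory.Limits DerivedCategory
attribute [local instance] HasDerivedCategory.standard

namespace Groth.Agent.Lib.DualGlobH6

open DRing Groth.Agent.Lib.DMod_helper6

variable {A : Type u} [CommRing A] [IsNoetherianRing A]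

/-- boundedness of a dualizing complex -/
lemma exists_bounds (ω : Dual.D A) (hω : Dual.IsDualizing A ω) :
    ∃ a b : ℤ, ∀ i : ℤ, (i < a ∨ b < i) → Subsingleton (Dual.HD A ω i) := by
  obtain ⟨a, b, hab⟩ := hω.finite_injective_dimension
  exact ⟨a, b, fun i hi => subsingleton_HD_of_hom_quot_bot ω i (hab (A ⧸ (⊥ : Ideal A)) i hi)⟩

lemma pc_of_dualizing (ω : Dual.D A) (hω : Dual.IsDualizing A ω) : IsPseudoCoherent' A ω := by
  obtain ⟨a, b, hH⟩ := exists_bounds ω hω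
  refine isPseudoCoherent'_of_homology ω ⟨b, fun j hj => hH j (Or.inr hj)⟩ (fun j => ?_)
  haveI := hω.finite_cohomology j
  exact isPseudoCoherentModule'_of_finite _

lemma exists_isGE (ω : Dual.D A) (hω : Dual.IsDualizing A ω) : ∃ a : ℤ, DerivedCategory.IsGE ω a := by
  obtain ⟨a, b, hH⟩ := exists_bounds ω hω
  refine ⟨a, ?_⟩
  rw [DerivedCategory.isGE_iff]
  intro i hi
  haveI := hH i (Or.inl hi)
  exact ModuleCat.isZero_of_subsingleton _

/-- local comparison data between two dualizing complexes at a prime -/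
theorem exists_local_data (ω ω' : Dual.D A) (hω : Dual.IsDualizing A ω)
    (hω' : Dual.IsDualizing A ω') (p : Ideal A) [p.IsPrime] :
    ∃ (n : ℤ) (t : A) (e : ω⟦n⟧ ⟶ ω') (e' : ω' ⟶ ω⟦n⟧), t ∉ p ∧ e' ≫ e = t • 𝟙 ω' ∧
      e ≫ e' = t • 𝟙 (ω⟦n⟧) := by
  let B := Localization.AtPrime p
  let S := p.primeCompl
  haveI : IsNoetherianRing B := IsLocalization.isNoetherianRing S B inferInstance
  haveI : Module.Flat A B := IsLocalization.flat B S
  have hB := isDualizing_bcD (B := B) S ω hω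
  have hB' := isDualizing_bcD (B := B) S ω' hω'
  obtain ⟨n, ⟨ι⟩⟩ := Groth.Agent.Lib.DualUniq.S1747_main (A := B) _ _ hB hB'
  refine ⟨n, ?_⟩
  let σ : (bcD A B).obj (ω⟦n⟧) ≅ ((bcD A B).obj ω)⟦n⟧ := ((bcD A B).commShiftIso n).app ω
  let g : (bcD A B).obj (ω⟦n⟧) ⟶ (bcD A B).obj ω' := σ.hom ≫ ι.inv
  let g' : (bcD A B).obj ω' ⟶ (bcD A B).obj (ω⟦n⟧) := ι.hom ≫ σ.inv
  have hgg' : g' ≫ g = 𝟙 _ := by simp [g, g']
  have hg'g : g ≫ g' = 𝟙 _ := by simp [g, g']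
  have hpc : IsPseudoCoherent' A (ω⟦n⟧) := isPseudoCoherent'_shift ω n (pc_of_dualizing ω hω)
  have hpc' : IsPseudoCoherent' A ω' := pc_of_dualizing ω' hω'
  obtain ⟨a, ha⟩ := exists_isGE ω hω
  obtain ⟨a', ha'⟩ := exists_isGE ω' hω'
  haveI := ha'
  haveI : DerivedCategory.IsGE (ω⟦n⟧) (a - n) := TStructure.t.isGE_shift ω a n (a - n) (by omega)
  obtain ⟨h1, h1'⟩ := locHom (B := B) S (ω⟦n⟧) ω' hpc a'
  obtain ⟨h2, h2'⟩ := locHom (B := B) S ω' (ω⟦n⟧) hpc' (a - n)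
  obtain ⟨s₁, f₁, hf₁⟩ := h1 g
  obtain ⟨s₂, f₂, hf₂⟩ := h2 g'
  have e1 : (bcD A B).map (f₂ ≫ f₁ - ((s₁ : A) * (s₂ : A)) • 𝟙 ω') = 0 := by
    rw [Functor.map_sub, Functor.map_comp, ← hf₁, ← hf₂, bcD_map_smul,
      CategoryTheory.Functor.map_id, Linear.smul_comp, Linear.comp_smul, hgg', smul_smul,
      map_mul, mul_comm, sub_self]
  have e2 : (bcD A B).map (f₁ ≫ f₂ - ((s₁ : A) * (s₂ : A)) • 𝟙 (ω⟦n⟧)) = 0 := by
    rw [Functor.map_sub, Functor.map_comp, ← hf₁, ← hf₂, bcD_map_smul,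
      CategoryTheory.Functor.map_id, Linear.smul_comp, Linear.comp_smul, hg'g, smul_smul,
      map_mul, sub_self]
  obtain ⟨s₃, hs₃⟩ := (locHom (B := B) S ω' ω' hpc' a').2 _ e1
  obtain ⟨s₄, hs₄⟩ := (locHom (B := B) S (ω⟦n⟧) (ω⟦n⟧) hpc (a - n)).2 _ e2
  rw [smul_sub, sub_eq_zero] at hs₃ hs₄
  refine ⟨(s₁ : A) * (s₂ : A) * (s₃ : A) * (s₄ : A), f₁, ((s₃ : A) * (s₄ : A)) • f₂, ?_, ?_, ?_⟩
  · exact (s₁ * s₂ * s₃ * s₄).2
  · rw [Linear.smul_comp, mul_comm (s₃ : A) (s₄ : A), mul_smul, hs₃, smul_smul, smul_smul]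
    congr 1
    ring
  · rw [Linear.comp_smul, mul_smul, hs₄, smul_smul, smul_smul]
    congr 1
    ring

end Groth.Agent.Lib.DualGlobH6
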