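import Mathlib

/-! Flat liftings over a nilpotent thickening are presented by lifts of the relations. -/

namespace Groth.Agent.Lib.FlatLift

open TensorProduct

section general

variable {A : Type*} [CommRing A] (I : Ideal A)

/-- the multiplication map `I ⊗ F → F`. -/
noncomputable def mult (F : Type*) [AddCommGroup F] [Module A F] : I ⊗[A] F →ₗ[A] F :=
  (TensorProduct.lid A F).toLinearMap ∘ₗ (I.subtype.rTensor F)

lemma mult_tmul (F : Type*) [AddCommGroup F] [Module A F] (a : I) (x : F) :
    mult I F (a ⊗ₜ x) = (a : A) • x := by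
  simp [mult]

lemma exists_mult_eq {F : Type*} [AddCommGroup F] [Module A F] {h : F}
    (hh : h ∈ I • (⊤ : Submodule A F)) : ∃ z, mult I F z = h := by
  refine Submodule.smul_induction_on hh ?_ ?_
  · intro a ha x _
    exact ⟨(⟨a, ha⟩ : I) ⊗ₜ x, mult_tmul I F _ _⟩
  · rintro x y ⟨z1, rfl⟩ ⟨z2, rfl⟩
    exact ⟨z1 + z2, map_add _ _ _⟩

lemma mult_natural {F B : Type*} [AddCommGroup F] [Module A F] [AddCommGroup B] [Module A B]
    (ψ : F →ₗ[A] B) (z : I ⊗[A] F) : mult I B (ψ.lTensor I z) = ψ (mult I F z) := by
  induction z using TensorProduct.induction_on with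
  | zero => simp
  | tmul a x => rw [LinearMap.lTensor_tmul, mult_tmul, mult_tmul, map_smul]
  | add x y hx hy => rw [map_add, map_add, hx, hy, map_add, map_add]

lemma mult_injective (B : Type*) [AddCommGroup B] [Module A B] [Module.Flat A B] :
    Function.Injective (mult I B) := by
  unfold mult
  rw [LinearMap.coe_comp, LinearEquiv.coe_coe, EquivLike.comp_injective]
  exact Module.Flat.rTensor_preserves_injective_linearMap _ Subtype.val_injective

lemma mult_lTensor_subtype_mem {F : Type*} [AddCommGroup F] [Module A F] (K : Submodule A F)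
    (w : I ⊗[A] K) : mult I F (K.subtype.lTensor I w) ∈ I • K := by
  induction w using TensorProduct.induction_on with
  | zero => simp
  | tmul a k =>
    rw [LinearMap.lTensor_tmul, mult_tmul]
    exact Submodule.smul_mem_smul a.2 k.2
  | add x y hx hy =>
    rw [map_add, map_add]
    exact add_mem hx hy

/-- `IF ∩ K = IK` when `F/K` is flat. -/
theorem mem_smul_ker_of_flat {F B : Type*} [AddCommGroup F] [Module A F] [AddCommGroup B]
    [Module A B] [Module.Flat A B] (ψ : F →ₗ[A] B) (hψ : Function.Surjective ψ) {h : F}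
    (hh : h ∈ I • (⊤ : Submodule A F)) (h0 : ψ h = 0) : h ∈ I • LinearMap.ker ψ := by
  obtain ⟨z, rfl⟩ := exists_mult_eq I hh
  have h1 : ψ.lTensor I z = 0 := by
    apply mult_injective I B
    rw [mult_natural, h0, map_zero]
  have hex := lTensor_exact I (LinearMap.exact_subtype_ker_map ψ) hψ
  obtain ⟨w, rfl⟩ := (hex z).mp h1
  exact mult_lTensor_subtype_mem I _ w

/-- nilpotent Nakayama. -/
theorem le_of_le_sup_smul {M : Type*} [AddCommGroup M] [Module A M] {N : ℕ} (hI : I ^ N = ⊥)
    (P Q : Submodule A M) (h : P ≤ Q ⊔ I • P) : P ≤ Q := by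
  have key : ∀ k : ℕ, P ≤ Q ⊔ (I ^ k) • P := by
    intro k
    induction k with
    | zero => rw [pow_zero, Ideal.one_eq_top, Submodule.top_smul]; exact le_sup_right
    | succ k ih =>
      refine ih.trans (sup_le le_sup_left ?_)
      calc (I ^ k) • P ≤ (I ^ k) • (Q ⊔ I • P) := Submodule.smul_mono le_rfl h
        _ = (I ^ k) • Q ⊔ (I ^ k) • (I • P) := Submodule.smul_sup _ _ _
        _ ≤ Q ⊔ (I ^ (k + 1)) • P := by
          refine sup_le_sup Submodule.smul_le_right ?_
          rw [← Submodule.mul_smul, ← pow_succ]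
  have := key N
  rwa [hI, Submodule.bot_smul, sup_bot_eq] at this

end general

section main

universe u v

variable {A' : Type u} [CommRing A'] (I : Ideal A') {N : ℕ} (hI : I ^ N = ⊥)
  {n m : ℕ} (f : Fin m → MvPolynomial (Fin n) (A' ⧸ I))
  {B' : Type v} [CommRing B'] [Algebra A' B'] [Module.Flat A' B']
  (π : B' →+* MvPolynomial (Fin n) (A' ⧸ I) ⧸ Ideal.span (Set.range f))
  (hπ : Function.Surjective π) (hker : RingHom.ker π = I.map (algebraMap A' B'))
  (hcomp : π.comp (algebraMap A' B') =
    ((Ideal.Quotient.mk (Ideal.span (Set.range f))).comp MvPolynomial.C).comp (Ideal.Quotient.mk I))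

include hI hπ hker hcomp

theorem exists_lifts :
    ∃ (f' : Fin m → MvPolynomial (Fin n) A') (ψ : MvPolynomial (Fin n) A' →ₐ[A'] B'),
      (∀ i, MvPolynomial.map (Ideal.Quotient.mk I) (f' i) = f i) ∧
      Function.Surjective ψ ∧ RingHom.ker ψ.toRingHom = Ideal.span (Set.range f') ∧
      ∀ q, π (ψ q) = Ideal.Quotient.mk (Ideal.span (Set.range f))
        (MvPolynomial.map (Ideal.Quotient.mk I) q) := by
  classical
  have hmapsurj : Function.Surjective (MvPolynomial.map (σ := Fin n) (Ideal.Quotient.mk I)) :=
    MvPolynomial.map_surjective _ Ideal.Quotient.mk_surjective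
  have hkermap : ∀ q : MvPolynomial (Fin n) A', MvPolynomial.map (Ideal.Quotient.mk I) q = 0 ↔
      q ∈ I • (⊤ : Submodule A' (MvPolynomial (Fin n) A')) := by
    intro q
    rw [Ideal.smul_top_eq_map, Submodule.restrictScalars_mem, MvPolynomial.algebraMap_eq,
      ← RingHom.mem_ker, MvPolynomial.ker_map, Ideal.mk_ker]
  -- Step 1: the map ψ
  have hb : ∀ j : Fin n, ∃ b : B', π b = Ideal.Quotient.mk _ (MvPolynomial.X j) := fun j => hπ _
  choose b hb using hb
  set ψ : MvPolynomial (Fin n) A' →ₐ[A'] B' := MvPolynomial.aeval b with hψdef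
  -- Step 2: compatibility
  have hcompat : ∀ q, π (ψ q) = Ideal.Quotient.mk (Ideal.span (Set.range f))
      (MvPolynomial.map (Ideal.Quotient.mk I) q) := by
    have : π.comp ψ.toRingHom = (Ideal.Quotient.mk (Ideal.span (Set.range f))).comp
        (MvPolynomial.map (Ideal.Quotient.mk I)) := by
      apply MvPolynomial.ringHom_ext
      · intro a
        have h1 := RingHom.congr_fun hcomp a
        simp only [RingHom.comp_apply] at h1
        simp only [RingHom.comp_apply, AlgHom.toRingHom_eq_coe, RingHom.coe_coe, hψdef,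
          MvPolynomial.aeval_C, MvPolynomial.map_C]
        exact h1
      · intro j
        simp only [RingHom.comp_apply, AlgHom.toRingHom_eq_coe, RingHom.coe_coe, hψdef,
          MvPolynomial.aeval_X, MvPolynomial.map_X]
        exact hb j
    intro q
    exact RingHom.congr_fun this q
  -- Step 3: surjectivity
  have hsurj : Function.Surjective ψ := by
    have h1 : (⊤ : Submodule A' B') ≤ LinearMap.range ψ.toLinearMap := by
      apply le_of_le_sup_smul I hI
      intro x _
      obtain ⟨t, ht⟩ := Ideal.Quotient.mk_surjective (π x)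
      obtain ⟨q, rfl⟩ := hmapsurj t
      rw [← hcompat] at ht
      have h2 : x - ψ q ∈ RingHom.ker π := by
        rw [RingHom.mem_ker, map_sub, ht, sub_self]
      rw [hker] at h2
      have h3 : x = ψ q + (x - ψ q) := by ring
      rw [h3]
      refine Submodule.add_mem_sup ⟨q, rfl⟩ ?_
      rw [Ideal.smul_top_eq_map]
      exact h2
    intro x
    obtain ⟨q, hq⟩ := h1 (Submodule.mem_top (x := x))
    exact ⟨q, hq⟩
  -- Step 4: the lifts
  have hlift : ∀ i : Fin m, ∃ p : MvPolynomial (Fin n) A',
      MvPolynomial.map (Ideal.Quotient.mk I) p = f i ∧ ψ p = 0 := by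
    intro i
    obtain ⟨g, hg⟩ := hmapsurj (f i)
    have h1 : ψ g ∈ RingHom.ker π := by
      rw [RingHom.mem_ker, hcompat, hg, Ideal.Quotient.eq_zero_iff_mem]
      exact Ideal.subset_span ⟨i, rfl⟩
    rw [hker] at h1
    have h2 : I.map (algebraMap A' B') =
        (I.map (MvPolynomial.C (σ := Fin n))).map ψ.toRingHom := by
      rw [Ideal.map_map]
      congr 1
      ext a
      simp [hψdef]
    rw [h2] at h1
    obtain ⟨h, hh, hhg⟩ := (Ideal.mem_map_iff_of_surjective ψ.toRingHom hsurj).mp h1
    refine ⟨g - h, ?_, ?_⟩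
    · rw [map_sub, hg]
      have : MvPolynomial.map (Ideal.Quotient.mk I) h = 0 := by
        rw [← RingHom.mem_ker, MvPolynomial.ker_map, Ideal.mk_ker]
        exact hh
      rw [this, sub_zero]
    · rw [map_sub]
      have : ψ h = ψ g := hhg
      rw [this, sub_self]
  choose f' hf'1 hf'2 using hlift
  refine ⟨f', ψ, hf'1, hsurj, ?_, hcompat⟩
  -- Step 5: the kernel
  apply le_antisymm
  · -- as `A'`-submodules
    have h5 : LinearMap.ker ψ.toLinearMap ≤ (Ideal.span (Set.range f')).restrictScalars A' := by
      apply le_of_le_sup_smul I hI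
      intro q hq
      have hq0 : ψ q = 0 := hq
      have h1 : MvPolynomial.map (Ideal.Quotient.mk I) q ∈ Ideal.span (Set.range f) := by
        rw [← Ideal.Quotient.eq_zero_iff_mem, ← hcompat, hq0, map_zero]
      have h2 : Ideal.span (Set.range f) =
          (Ideal.span (Set.range f')).map (MvPolynomial.map (σ := Fin n) (Ideal.Quotient.mk I)) := by
        rw [Ideal.map_span, ← Set.range_comp]
        congr 2
        funext i
        exact (hf'1 i).symm
      rw [h2, Ideal.mem_map_iff_of_surjective _ hmapsurj] at h1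
      obtain ⟨j, hj, hjq⟩ := h1
      have hj0 : ψ j = 0 := by
        have : Ideal.span (Set.range f') ≤ RingHom.ker ψ.toRingHom := by
          rw [Ideal.span_le]
          rintro _ ⟨i, rfl⟩
          exact hf'2 i
        exact this hj
      have h3 : q - j ∈ I • (⊤ : Submodule A' (MvPolynomial (Fin n) A')) := by
        rw [← hkermap, map_sub, hjq, sub_self]
      have h4 : q - j ∈ I • LinearMap.ker ψ.toLinearMap :=
        mem_smul_ker_of_flat I ψ.toLinearMap hsurj h3 (by
          change ψ (q - j) = 0
          rw [map_sub, hq0, hj0, sub_self])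
      have h6 : q = j + (q - j) := by ring
      rw [h6]
      exact Submodule.add_mem_sup hj h4
    intro q hq
    exact h5 hq
  · rw [Ideal.span_le]
    rintro _ ⟨i, rfl⟩
    exact hf'2 i

end main

end Groth.Agent.Lib.FlatLift
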