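import Mathlib
import Groth.Agent.Lib.FlatLift_helper9
import Groth.Agent.Lib.LocalCrit9_helper9

/-!
# Lifting projective modules along nil ideals (helper9)
-/

set_option autoImplicit false
universe u

open TensorProduct

namespace Groth.Agent.Lib.ProjLift

variable {R : Type*} [CommRing R] (I : Ideal R)

section basics

variable (F : Type*) [AddCommGroup F] [Module R F]

lemma one_tmul_eq_zero_iff (x : F) :
    (1 : R ⧸ I) ⊗ₜ[R] x = 0 ↔ x ∈ I • (⊤ : Submodule R F) := by
  rw [← (TensorProduct.quotTensorEquivQuotSMul F I).map_eq_zero_iff,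
    TensorProduct.quotTensorEquivQuotSMul_mk_one_tmul, Submodule.Quotient.mk_eq_zero]

lemma mk_one_surjective : Function.Surjective (TensorProduct.mk R (R ⧸ I) F 1) := by
  intro z
  induction z using TensorProduct.induction_on with
  | zero => exact ⟨0, map_zero _⟩
  | tmul a x =>
    obtain ⟨r, rfl⟩ := Ideal.Quotient.mk_surjective a
    refine ⟨r • x, ?_⟩
    rw [TensorProduct.mk_apply, TensorProduct.tmul_smul, TensorProduct.smul_tmul']
    congr 1
    rw [Algebra.smul_def, mul_one]
    rfl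
  | add x y hx hy =>
    obtain ⟨a, rfl⟩ := hx
    obtain ⟨b, rfl⟩ := hy
    exact ⟨a + b, map_add _ _ _⟩

variable {F}

lemma pow_apply_mem (J : Ideal R) (p : Module.End R F)
    (hp : ∀ x, p x ∈ J • (⊤ : Submodule R F)) (k : ℕ) (x : F) :
    (p ^ k) x ∈ J ^ k • (⊤ : Submodule R F) := by
  induction k with
  | zero => rw [pow_zero, Ideal.one_eq_top, Submodule.top_smul]; trivial
  | succ k ih =>
    have h0 : (p ^ (k + 1)) x = p ((p ^ k) x) := by rw [pow_succ']; rfl
    rw [h0]
    have h1 : p ((p ^ k) x) ∈ (J ^ k • (⊤ : Submodule R F)).map p := Submodule.mem_map_of_mem ih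
    rw [Submodule.map_smul''] at h1
    have h2 : (⊤ : Submodule R F).map p ≤ J • (⊤ : Submodule R F) := by
      rintro _ ⟨y, -, rfl⟩
      exact hp y
    have h3 := Submodule.smul_mono (le_refl (J ^ k)) h2 h1
    rwa [← Submodule.mul_smul, ← pow_succ] at h3

lemma pow_eq_zero_of_forall_mem (J : Ideal R) {N : ℕ} (hJ : J ^ N = ⊥) (p : Module.End R F)
    (hp : ∀ x, p x ∈ J • (⊤ : Submodule R F)) : p ^ N = 0 := by
  ext x
  have := pow_apply_mem J p hp N x
  rw [hJ, Submodule.bot_smul, Submodule.mem_bot] at this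
  rw [this]; rfl

lemma apply_mem_of_baseChange_eq_zero (p : Module.End R F) (hp : p.baseChange (R ⧸ I) = 0)
    (x : F) : p x ∈ I • (⊤ : Submodule R F) := by
  rw [← one_tmul_eq_zero_iff]
  have := LinearMap.congr_fun hp ((1 : R ⧸ I) ⊗ₜ[R] x)
  simpa using this

lemma isNilpotent_of_baseChange_eq_zero (hI : IsNilpotent I) (p : Module.End R F)
    (hp : p.baseChange (R ⧸ I) = 0) : IsNilpotent p := by
  obtain ⟨N, hN⟩ := hI
  exact ⟨N, pow_eq_zero_of_forall_mem I hN p (apply_mem_of_baseChange_eq_zero I p hp)⟩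

lemma isNilpotent_of_baseChange_eq_zero_of_finite [Module.Finite R F]
    (hI : ∀ x ∈ I, IsNilpotent x) (p : Module.End R F)
    (hp : p.baseChange (R ⧸ I) = 0) : IsNilpotent p := by
  classical
  obtain ⟨s, hs⟩ := (Module.finite_def (R := R) (M := F)).mp inferInstance
  have h1 : ∀ x : F, ∃ J : Ideal R, J.FG ∧ J ≤ I ∧ p x ∈ J • (⊤ : Submodule R F) := fun x =>
    Groth.Agent.Lib.LocalCrit9.exists_fg_le_of_mem_smul_top I (p x)
      (apply_mem_of_baseChange_eq_zero I p hp x)
  choose J hJfg hJle hJmem using h1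
  set K : Ideal R := s.sup J with hK
  have hKfg : K.FG := by
    rw [hK]
    exact Finset.sup_induction Submodule.fg_bot (fun a ha b hb => Submodule.FG.sup ha hb) (fun x _ => hJfg x)
  have hKle : K ≤ I := Finset.sup_le (fun x _ => hJle x)
  have hKmem : ∀ x, p x ∈ K • (⊤ : Submodule R F) := by
    intro x
    have hx : x ∈ Submodule.span R (s : Set F) := hs ▸ Submodule.mem_top
    refine Submodule.span_induction ?_ ?_ ?_ ?_ hx
    · intro y hy
      exact Submodule.smul_mono_left (Finset.le_sup (f := J) hy) (hJmem y)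
    · rw [map_zero]; exact zero_mem _
    · intro a b _ _ ha hb
      rw [map_add]; exact add_mem ha hb
    · intro r a _ ha
      rw [map_smul]; exact Submodule.smul_mem _ r ha
  have hKnil : IsNilpotent K := by
    rw [Ideal.FG.isNilpotent_iff_le_nilradical hKfg]
    intro x hx
    exact mem_nilradical.mpr (hI x (hKle hx))
  obtain ⟨N, hN⟩ := hKnil
  exact ⟨N, pow_eq_zero_of_forall_mem K hN p hKmem⟩

variable (F)

lemma exists_baseChange_eq [Module.Projective R F]
    (ē : Module.End (R ⧸ I) ((R ⧸ I) ⊗[R] F)) :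
    ∃ p : Module.End R F, p.baseChange (R ⧸ I) = ē := by
  obtain ⟨p, hp⟩ := Module.projective_lifting_property (TensorProduct.mk R (R ⧸ I) F 1)
    ((ē.restrictScalars R) ∘ₗ TensorProduct.mk R (R ⧸ I) F 1) (mk_one_surjective I F)
  refine ⟨p, ?_⟩
  apply TensorProduct.AlgebraTensorModule.ext
  intro a x
  have h1 := LinearMap.congr_fun hp x
  simp only [LinearMap.comp_apply, TensorProduct.mk_apply, LinearMap.restrictScalars_apply] at h1
  rw [LinearMap.baseChange_tmul]
  have : a ⊗ₜ[R] p x = a • ((1 : R ⧸ I) ⊗ₜ[R] p x) := by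
    rw [TensorProduct.smul_tmul', smul_eq_mul, mul_one]
  rw [this, h1, ← map_smul, TensorProduct.smul_tmul', smul_eq_mul, mul_one]

theorem exists_idem_lift [Module.Projective R F]
    (hnil : ∀ p : Module.End R F, p.baseChange (R ⧸ I) = 0 → IsNilpotent p)
    (ē : Module.End (R ⧸ I) ((R ⧸ I) ⊗[R] F)) (hē : IsIdempotentElem ē) :
    ∃ e : Module.End R F, IsIdempotentElem e ∧ e.baseChange (R ⧸ I) = ē := by
  obtain ⟨p, hp⟩ := exists_baseChange_eq I F ē
  obtain ⟨e, he, he'⟩ := exists_isIdempotentElem_eq_of_ker_isNilpotent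
    ((Module.End.baseChangeHom R (R ⧸ I) F).toRingHom) (fun x hx => hnil x (RingHom.mem_ker.mp hx)) ē ⟨p, hp⟩ hē
  exact ⟨e, he, he'⟩

end basics

section range

variable {F : Type*} [AddCommGroup F] [Module R F]

lemma rangeRestrict_comp_subtype (e : Module.End R F) (he : IsIdempotentElem e) :
    e.rangeRestrict ∘ₗ (LinearMap.range e).subtype = LinearMap.id := by
  ext ⟨x, y, rfl⟩
  have : e (e y) = e y := by
    rw [← Module.End.mul_apply, he.eq]
  simpa using this

theorem projective_range [Module.Projective R F] (e : Module.End R F) (he : IsIdempotentElem e) :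
    Module.Projective R (LinearMap.range e) :=
  Module.Projective.of_split (LinearMap.range e).subtype e.rangeRestrict
    (rangeRestrict_comp_subtype e he)

theorem nonempty_rangeEquiv (A : Type*) [CommRing A] [Algebra R A] (e : Module.End R F)
    (he : IsIdempotentElem e) :
    Nonempty (A ⊗[R] (LinearMap.range e) ≃ₗ[A] LinearMap.range (e.baseChange A)) := by
  have h1 := rangeRestrict_comp_subtype e he
  have hinj : Function.Injective ((LinearMap.range e).subtype.baseChange A) := by
    apply Function.LeftInverse.injective (g := e.rangeRestrict.baseChange A)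
    intro z
    rw [← LinearMap.comp_apply, ← LinearMap.baseChange_comp, h1, LinearMap.baseChange_id]
    rfl
  have hrange : LinearMap.range ((LinearMap.range e).subtype.baseChange A) =
      LinearMap.range (e.baseChange A) := by
    have h2 : e = (LinearMap.range e).subtype ∘ₗ e.rangeRestrict := rfl
    conv_rhs => rw [h2, LinearMap.baseChange_comp]
    rw [LinearMap.range_comp_of_range_eq_top]
    rw [LinearMap.range_eq_top, LinearMap.baseChange_eq_ltensor]
    exact LinearMap.lTensor_surjective A e.surjective_rangeRestrict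
  exact ⟨(LinearEquiv.ofInjective _ hinj).trans (LinearEquiv.ofEq _ _ hrange)⟩

end range

theorem exists_idem_range_equiv {A : Type*} [CommRing A] {G Pb : Type*} [AddCommGroup G]
    [Module A G] [AddCommGroup Pb] [Module A Pb] [Module.Projective A Pb] (σ : G →ₗ[A] Pb)
    (hσ : Function.Surjective σ) :
    ∃ ē : Module.End A G, IsIdempotentElem ē ∧ Nonempty (LinearMap.range ē ≃ₗ[A] Pb) := by
  obtain ⟨s, hs⟩ := Module.projective_lifting_property σ LinearMap.id hσ
  have hs' : ∀ x, σ (s x) = x := fun x => LinearMap.congr_fun hs x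
  refine ⟨s ∘ₗ σ, ?_, ?_⟩
  · ext x
    simp [Module.End.mul_apply, hs']
  · have hsinj : Function.Injective s := Function.LeftInverse.injective hs'
    have hrange : LinearMap.range s = LinearMap.range (s ∘ₗ σ) := by
      rw [LinearMap.range_comp_of_range_eq_top _ (LinearMap.range_eq_top.mpr hσ)]
    exact ⟨((LinearEquiv.ofInjective s hsinj).trans (LinearEquiv.ofEq _ _ hrange)).symm⟩

/-- Main lifting theorem: a projective `R/I`-module generated by `g : ι → Pb` lifts to the range of
an idempotent on a free module with basis indexed by `ι`, provided the kernel of base change on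
endomorphisms is nil. -/
theorem exists_idem_tensor_equiv {F : Type*} [AddCommGroup F] [Module R F] {ι : Type*}
    (b : Module.Basis ι R F)
    (hnil : ∀ p : Module.End R F, p.baseChange (R ⧸ I) = 0 → IsNilpotent p)
    (Pb : Type*) [AddCommGroup Pb] [Module (R ⧸ I) Pb] [Module.Projective (R ⧸ I) Pb]
    (g : ι → Pb) (hg : Submodule.span (R ⧸ I) (Set.range g) = ⊤) :
    ∃ e : Module.End R F, IsIdempotentElem e ∧
      Nonempty ((R ⧸ I) ⊗[R] (LinearMap.range e) ≃ₗ[R ⧸ I] Pb) := by
  haveI : Module.Free R F := Module.Free.of_basis b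
  let σ : (R ⧸ I) ⊗[R] F →ₗ[R ⧸ I] Pb := (b.baseChange (R ⧸ I)).constr (R ⧸ I) g
  have hσ : Function.Surjective σ := by
    rw [← LinearMap.range_eq_top, Module.Basis.constr_range, hg]
  obtain ⟨ē, hē, ⟨eq1⟩⟩ := exists_idem_range_equiv σ hσ
  obtain ⟨e, he, hee⟩ := exists_idem_lift I F hnil ē hē
  obtain ⟨eq2⟩ := nonempty_rangeEquiv (R ⧸ I) e he
  exact ⟨e, he, ⟨eq2.trans ((LinearEquiv.ofEq _ _ (by rw [hee])).trans eq1)⟩⟩

/-- If `P` is projective, `M` flat, `I` nilpotent and `P/IP ≅ M/IM` then `P ≅ M`. -/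
theorem nonempty_equiv_of_tensor_equiv {N : ℕ} (hN : I ^ N = ⊥) (P M : Type*) [AddCommGroup P]
    [Module R P] [Module.Projective R P] [AddCommGroup M] [Module R M] [Module.Flat R M]
    (eq : (R ⧸ I) ⊗[R] P ≃ₗ[R ⧸ I] (R ⧸ I) ⊗[R] M) : Nonempty (P ≃ₗ[R] M) := by
  obtain ⟨φ, hφ⟩ := Module.projective_lifting_property (TensorProduct.mk R (R ⧸ I) M 1)
    ((eq.toLinearMap.restrictScalars R) ∘ₗ TensorProduct.mk R (R ⧸ I) P 1)
    (mk_one_surjective I M)
  have hφ' : ∀ x : P, (1 : R ⧸ I) ⊗ₜ[R] φ x = eq ((1 : R ⧸ I) ⊗ₜ[R] x) :=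
    fun x => LinearMap.congr_fun hφ x
  have hsurj : Function.Surjective φ := by
    rw [← LinearMap.range_eq_top, eq_top_iff]
    apply Groth.Agent.Lib.FlatLift.le_of_le_sup_smul I hN
    intro m _
    obtain ⟨z, hz⟩ := eq.surjective ((1 : R ⧸ I) ⊗ₜ[R] m)
    obtain ⟨x, rfl⟩ := mk_one_surjective I P z
    have h1 : (1 : R ⧸ I) ⊗ₜ[R] (m - φ x) = 0 := by
      rw [TensorProduct.tmul_sub, hφ', ← hz]
      simp
    rw [one_tmul_eq_zero_iff] at h1
    exact Submodule.mem_sup.mpr ⟨φ x, ⟨x, rfl⟩, m - φ x, h1, by abel⟩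
  have hinj : LinearMap.ker φ = ⊥ := by
    rw [eq_bot_iff]
    apply Groth.Agent.Lib.FlatLift.le_of_le_sup_smul I hN (LinearMap.ker φ) ⊥
    rw [bot_sup_eq]
    intro x hx
    have h0 : φ x = 0 := hx
    have h1 : (1 : R ⧸ I) ⊗ₜ[R] x = 0 := eq.injective (by
      rw [← hφ', h0, TensorProduct.tmul_zero, map_zero])
    rw [one_tmul_eq_zero_iff] at h1
    exact Groth.Agent.Lib.FlatLift.mem_smul_ker_of_flat I φ hsurj h1 h0
  exact ⟨LinearEquiv.ofBijective φ ⟨LinearMap.ker_eq_bot.mp hinj, hsurj⟩⟩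

end Groth.Agent.Lib.ProjLift
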