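import Mathlib
import Groth.Agent.S3168
import Groth.Agent.Lib.ExtendScalars_helper2

/-!
# Lifting bounded-above acyclic complexes of projectives along a nilpotent ideal (helper5)
-/

set_option autoImplicit false
universe u
open CategoryTheory CategoryTheory.Limits TensorProduct ChangeOfRings

namespace Groth.Agent.NilLift5

section split

variable {R : Type u} [CommRing R] (N₀ : CochainComplex (ModuleCat.{u} R) ℤ)

/-- cycles -/
def Z (i : ℤ) : Submodule R (N₀.X i) := LinearMap.ker (N₀.d i (i + 1)).hom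

theorem d_d_apply (i j k : ℤ) (x : N₀.X i) : (N₀.d j k).hom ((N₀.d i j).hom x) = 0 := by
  have h := congrArg (fun φ => φ.hom x) (N₀.d_comp_d i j k)
  exact h

/-- the differential, as a map to the cycles. -/
def dZ (i : ℤ) : N₀.X i →ₗ[R] Z N₀ (i + 1) :=
  LinearMap.codRestrict (Z N₀ (i + 1)) (N₀.d i (i + 1)).hom (fun x => by
    rw [Z, LinearMap.mem_ker]
    exact d_d_apply N₀ i (i + 1) (i + 1 + 1) x)

theorem dZ_coe (i : ℤ) (x : N₀.X i) :
    ((dZ N₀ i x : Z N₀ (i + 1)) : N₀.X (i + 1)) = (N₀.d i (i + 1)).hom x := rfl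

theorem dZ_of_mem (i : ℤ) (z : Z N₀ i) : dZ N₀ i (z : N₀.X i) = 0 :=
  Subtype.ext (LinearMap.mem_ker.mp z.2)

theorem dZ_surjective (hacyc : N₀.Acyclic) (i : ℤ) : Function.Surjective (dZ N₀ i) := by
  rintro ⟨y, hy⟩
  have h := hacyc (i + 1)
  rw [HomologicalComplex.exactAt_iff' N₀ i (i + 1) (i + 1 + 1) (by simp) (by simp),
    ShortComplex.moduleCat_exact_iff] at h
  obtain ⟨x, hx⟩ := h y (LinearMap.mem_ker.mp hy)
  exact ⟨x, Subtype.ext hx⟩

/-- a section of `d : N₀^i → Z^{i+1}`. -/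
structure Sec (i : ℤ) where
  /-- the section -/
  σ : Z N₀ (i + 1) →ₗ[R] N₀.X i
  hσ : ∀ z, dZ N₀ i (σ z) = z

variable {N₀}

theorem Sec.d_σ {i : ℤ} (s : Sec N₀ i) (z : Z N₀ (i + 1)) :
    (N₀.d i (i + 1)).hom (s.σ z) = (z : N₀.X (i + 1)) :=
  congrArg Subtype.val (s.hσ z)

/-- the retraction onto the cycles. -/
def Sec.retr {i : ℤ} (s : Sec N₀ i) : N₀.X i →ₗ[R] Z N₀ i :=
  LinearMap.codRestrict (Z N₀ i) (LinearMap.id - s.σ ∘ₗ dZ N₀ i) (fun x => by
    rw [Z, LinearMap.mem_ker]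
    show (N₀.d i (i + 1)).hom (x - s.σ (dZ N₀ i x)) = 0
    rw [map_sub, s.d_σ, dZ_coe, sub_self])

theorem Sec.retr_coe {i : ℤ} (s : Sec N₀ i) (x : N₀.X i) :
    ((s.retr x : Z N₀ i) : N₀.X i) = x - s.σ (dZ N₀ i x) := rfl

/-- the splitting `Z^i × Z^{i+1} ≃ N₀^i`. -/
def Sec.equiv {i : ℤ} (s : Sec N₀ i) : (Z N₀ i × Z N₀ (i + 1)) ≃ₗ[R] N₀.X i :=
  LinearEquiv.ofLinearMap ((Z N₀ i).subtype.coprod s.σ) (s.retr.prod (dZ N₀ i))
    (by
      apply LinearMap.ext
      intro x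
      show ((s.retr x : Z N₀ i) : N₀.X i) + s.σ (dZ N₀ i x) = x
      rw [s.retr_coe, sub_add_cancel])
    (by
      apply LinearMap.ext
      rintro ⟨z, z'⟩
      have h1 : dZ N₀ i ((z : N₀.X i) + s.σ z') = z' := by
        rw [map_add, dZ_of_mem, s.hσ, zero_add]
      apply Prod.ext
      · apply Subtype.ext
        show (((s.retr ((z : N₀.X i) + s.σ z')) : Z N₀ i) : N₀.X i) = z
        rw [s.retr_coe, h1, add_sub_cancel_right]
      · exact h1)

theorem Sec.equiv_apply {i : ℤ} (s : Sec N₀ i) (z : Z N₀ i) (z' : Z N₀ (i + 1)) :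
    s.equiv (z, z') = (z : N₀.X i) + s.σ z' := rfl

variable (N₀)

theorem exists_sec (hacyc : N₀.Acyclic) (i : ℤ) (h : Module.Projective R (Z N₀ (i + 1))) :
    Nonempty (Sec N₀ i) := by
  obtain ⟨σ, hσ⟩ := Module.projective_lifting_property (dZ N₀ i) LinearMap.id
    (dZ_surjective N₀ hacyc i)
  exact ⟨⟨σ, fun z => LinearMap.congr_fun hσ z⟩⟩

theorem Z_projective (hproj : ∀ i : ℤ, Module.Projective R (N₀.X i)) (hacyc : N₀.Acyclic)
    (b : ℤ) (hb : ∀ i : ℤ, b < i → IsZero (N₀.X i)) : ∀ i : ℤ, Module.Projective R (Z N₀ i) := by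
  have key : ∀ (n : ℕ) (i : ℤ), b + 1 - i ≤ n → Module.Projective R (Z N₀ i) := by
    intro n
    induction n with
    | zero =>
      intro i hi
      have hbi : b < i := by omega
      haveI : Subsingleton (N₀.X i) := ModuleCat.subsingleton_of_isZero (hb i hbi)
      haveI : Subsingleton (Z N₀ i) := inferInstance
      infer_instance
    | succ n ih =>
      intro i hi
      have h1 : Module.Projective R (Z N₀ (i + 1)) := ih (i + 1) (by omega)
      obtain ⟨s⟩ := exists_sec N₀ hacyc i h1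
      haveI := hproj i
      haveI : Module.Projective R (Z N₀ i × Z N₀ (i + 1)) :=
        Module.Projective.of_equiv s.equiv.symm
      exact Module.Projective.of_split (LinearMap.inl R (Z N₀ i) (Z N₀ (i + 1)))
        (LinearMap.fst R (Z N₀ i) (Z N₀ (i + 1))) (by ext x; rfl)
  intro i
  exact key (b + 1 - i).toNat i (Int.self_le_toNat _)

end split

section lift

variable {A : Type u} [CommRing A]

theorem exists_lift (I : Ideal A) (hI : IsNilpotent I) (Z₀ : Type u) [AddCommGroup Z₀]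
    [Module (A ⧸ I) Z₀] [Module.Projective (A ⧸ I) Z₀] :
    ∃ (P : ModuleCat.{u} A), Module.Projective A P ∧
      Nonempty ((A ⧸ I) ⊗[A] P ≃ₗ[A ⧸ I] Z₀) ∧ (Subsingleton Z₀ → Subsingleton P) := by
  by_cases hz : Subsingleton Z₀
  · refine ⟨ModuleCat.of A PUnit, inferInstance, ⟨?_⟩, fun _ => inferInstanceAs (Subsingleton PUnit)⟩
    haveI : Subsingleton ((A ⧸ I) ⊗[A] (ModuleCat.of A PUnit)) := by
      constructor
      intro x y
      have h0 : ∀ z : (A ⧸ I) ⊗[A] (ModuleCat.of A PUnit), z = 0 := by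
        intro z
        induction z using TensorProduct.induction_on with
        | zero => rfl
        | tmul a p =>
          have : p = 0 := Subsingleton.elim _ _
          rw [this, tmul_zero]
        | add a b ha hb => rw [ha, hb, add_zero]
      rw [h0 x, h0 y]
    exact LinearEquiv.ofSubsingleton _ _
  · obtain ⟨P, _, _, hP, ⟨e⟩⟩ := Groth.Agent.S3168.result I hI Z₀
    exact ⟨ModuleCat.of A P, hP, ⟨e⟩, fun h => absurd h hz⟩

end lift

section complex

variable {A : Type u} [CommRing A] (P : ℤ → ModuleCat.{u} A)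

/-- terms of the lifted complex. -/
noncomputable def NX (i : ℤ) : ModuleCat.{u} A := ModuleCat.of A (P i × P (i + 1))

/-- differential of the lifted complex. -/
noncomputable def Nd (i : ℤ) : NX P i ⟶ NX P (i + 1) :=
  ModuleCat.ofHom
    (LinearMap.inl A (P (i + 1)) (P (i + 1 + 1)) ∘ₗ LinearMap.snd A (P i) (P (i + 1)))

theorem Nd_apply (i : ℤ) (x : P i × P (i + 1)) :
    (Nd P i).hom x = ((x.2, 0) : P (i + 1) × P (i + 1 + 1)) := rfl

/-- the lifted complex. -/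
noncomputable def Ncx : CochainComplex (ModuleCat.{u} A) ℤ :=
  CochainComplex.of (NX P) (Nd P) (fun i => by
    apply ModuleCat.hom_ext
    apply LinearMap.ext
    intro x
    rfl)

theorem Ncx_d (i : ℤ) : (Ncx P).d i (i + 1) = Nd P i := CochainComplex.of_d _ _ _

theorem Ncx_acyclic : (Ncx P).Acyclic := by
  intro k
  obtain ⟨i, rfl⟩ : ∃ i, k = i + 1 := ⟨k - 1, by omega⟩
  rw [HomologicalComplex.exactAt_iff' _ i (i + 1) (i + 1 + 1) (by simp) (by simp),
    ShortComplex.moduleCat_exact_iff]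
  intro y hy
  change ((Ncx P).d (i + 1) (i + 1 + 1)).hom y = 0 at hy
  rw [Ncx_d] at hy
  have hy2 : (y : P (i + 1) × P (i + 1 + 1)).2 = 0 := congrArg Prod.fst hy
  refine ⟨((0, (y : P (i + 1) × P (i + 1 + 1)).1) : P i × P (i + 1)), ?_⟩
  change ((Ncx P).d i (i + 1)).hom _ = y
  rw [Ncx_d]
  exact Prod.ext rfl hy2.symm

end complex

section main

variable {A : Type u} [CommRing A] (I : Ideal A)
  (N₀ : CochainComplex (ModuleCat.{u} (A ⧸ I)) ℤ) (P : ℤ → ModuleCat.{u} A)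
  (θ : ∀ i, (A ⧸ I) ⊗[A] P i ≃ₗ[A ⧸ I] Z N₀ i) (s : ∀ i, Sec N₀ i)

/-- the component isomorphisms. -/
noncomputable def compEquiv (i : ℤ) :
    ↑((ModuleCat.extendScalars (algebraMap A (A ⧸ I))).obj (NX P i)) ≃ₗ[A ⧸ I] N₀.X i :=
  (ExtendScalarsLib.extendScalarsEquivTensor (S := A ⧸ I) (NX P i)).trans
    ((TensorProduct.prodRight A (A ⧸ I) (A ⧸ I) (P i) (P (i + 1))).trans
      (((θ i).prodCongr (θ (i + 1))).trans (s i).equiv))

theorem compEquiv_one_tmul (i : ℤ) (p : P i) (p' : P (i + 1)) :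
    compEquiv I N₀ P θ s i
      ((1 : A ⧸ I) ⊗ₜ[A, algebraMap A (A ⧸ I)] ((p, p') : P i × P (i + 1))) =
      ((θ i ((1 : A ⧸ I) ⊗ₜ[A] p) : Z N₀ i) : N₀.X i) +
        (s i).σ (θ (i + 1) ((1 : A ⧸ I) ⊗ₜ[A] p')) := rfl

/-- the isomorphism of complexes. -/
noncomputable def cxIso :
    ((ModuleCat.extendScalars (algebraMap A (A ⧸ I))).mapHomologicalComplex
      (ComplexShape.up ℤ)).obj (Ncx P) ≅ N₀ :=
  HomologicalComplex.Hom.isoOfComponents (fun i => (compEquiv I N₀ P θ s i).toModuleIso) (by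
    rintro i j rfl
    refine ModuleCat.ExtendScalars.hom_ext (f := algebraMap A (A ⧸ I)) (M := NX P i) ?_
    rintro ⟨p, p'⟩
    show (N₀.d i (i + 1)).hom (compEquiv I N₀ P θ s i
        ((1 : A ⧸ I) ⊗ₜ[A, algebraMap A (A ⧸ I)] ((p, p') : P i × P (i + 1)))) =
      compEquiv I N₀ P θ s (i + 1)
        (((ModuleCat.extendScalars (algebraMap A (A ⧸ I))).map ((Ncx P).d i (i + 1))).hom
          ((1 : A ⧸ I) ⊗ₜ[A, algebraMap A (A ⧸ I)] ((p, p') : P i × P (i + 1))))
    rw [Ncx_d, ModuleCat.ExtendScalars.map_tmul]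
    show (N₀.d i (i + 1)).hom (compEquiv I N₀ P θ s i
        ((1 : A ⧸ I) ⊗ₜ[A, algebraMap A (A ⧸ I)] ((p, p') : P i × P (i + 1)))) =
      compEquiv I N₀ P θ s (i + 1)
        ((1 : A ⧸ I) ⊗ₜ[A, algebraMap A (A ⧸ I)] ((p', 0) : P (i + 1) × P (i + 1 + 1)))
    rw [compEquiv_one_tmul, compEquiv_one_tmul, map_add, (s i).d_σ]
    have h1 : (N₀.d i (i + 1)).hom ((θ i ((1 : A ⧸ I) ⊗ₜ[A] p) : Z N₀ i) : N₀.X i) = 0 :=
      LinearMap.mem_ker.mp (θ i ((1 : A ⧸ I) ⊗ₜ[A] p)).2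
    rw [h1, tmul_zero, map_zero, map_zero, zero_add, add_zero])

end main

theorem main {A : Type u} [CommRing A] (I : Ideal A) (hI : IsNilpotent I)
    (N₀ : CochainComplex (ModuleCat.{u} (A ⧸ I)) ℤ)
    (hproj : ∀ i : ℤ, Module.Projective (A ⧸ I) (N₀.X i))
    (hacyc : N₀.Acyclic) (b : ℤ) (hb : ∀ i : ℤ, b < i → IsZero (N₀.X i)) :
    ∃ N : CochainComplex (ModuleCat.{u} A) ℤ, (∀ i : ℤ, Module.Projective A (N.X i)) ∧
      N.Acyclic ∧ (∀ i : ℤ, b < i → IsZero (N.X i)) ∧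
      Nonempty (((ModuleCat.extendScalars (Ideal.Quotient.mk I)).mapHomologicalComplex
        (ComplexShape.up ℤ)).obj N ≅ N₀) := by
  have hZ := Z_projective N₀ hproj hacyc b hb
  have hsec : ∀ i, Nonempty (Sec N₀ i) := fun i => exists_sec N₀ hacyc i (hZ (i + 1))
  have hlift : ∀ i, ∃ (P : ModuleCat.{u} A), Module.Projective A P ∧
      Nonempty ((A ⧸ I) ⊗[A] P ≃ₗ[A ⧸ I] Z N₀ i) ∧ (Subsingleton (Z N₀ i) → Subsingleton P) := by
    intro i
    haveI := hZ i
    exact exists_lift I hI (Z N₀ i)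
  choose P hP hθ hsub using hlift
  let θ : ∀ i, (A ⧸ I) ⊗[A] P i ≃ₗ[A ⧸ I] Z N₀ i := fun i => (hθ i).some
  let s : ∀ i, Sec N₀ i := fun i => (hsec i).some
  refine ⟨Ncx P, ?_, Ncx_acyclic P, ?_, ⟨cxIso I N₀ P θ s⟩⟩
  · intro i
    haveI := hP i
    haveI := hP (i + 1)
    show Module.Projective A (P i × P (i + 1))
    infer_instance
  · intro i hi
    have hsubZ : ∀ j, b < j → Subsingleton (P j) := by
      intro j hj
      apply hsub j
      haveI : Subsingleton (N₀.X j) := ModuleCat.subsingleton_of_isZero (hb j hj)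
      infer_instance
    haveI := hsubZ i hi
    haveI := hsubZ (i + 1) (by omega)
    haveI : Subsingleton (P i × P (i + 1)) := inferInstance
    exact ModuleCat.isZero_of_subsingleton (ModuleCat.of A (P i × P (i + 1)))

end Groth.Agent.NilLift5
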