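import Mathlib
import Groth.Agent.Lib.NilLiftCx_helper5

/-!
# Lifting bounded-above acyclic complexes with terms in a class of projectives (helper6)

Stacks-style lemma: `R` a ring, `I` an ideal, `Pc` a class of projective modules closed under
complements and such that maps surjective mod `I` are surjective.  Then a bounded above acyclic
complex over `R/I` with terms of the form `P/IP`, `P ∈ Pc`, lifts to a bounded above acyclic
complex with terms in `Pc`.
-/

set_option autoImplicit false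
universe u
open CategoryTheory CategoryTheory.Limits TensorProduct

namespace Groth.Agent.Lib.PcLift_helper6

open Groth.Agent.NilLift5

section basic

variable {R : Type u} [CommRing R] (I : Ideal R)

theorem one_tmul_eq_zero_iff (M : Type u) [AddCommGroup M] [Module R M] (x : M) :
    ((1 : R ⧸ I) ⊗ₜ[R] x = 0) ↔ x ∈ I • (⊤ : Submodule R M) := by
  rw [← (TensorProduct.quotTensorEquivQuotSMul M I).map_eq_zero_iff,
    TensorProduct.quotTensorEquivQuotSMul_mk_one_tmul, Submodule.Quotient.mk_eq_zero]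

theorem exists_one_tmul (M : Type u) [AddCommGroup M] [Module R M] (t : (R ⧸ I) ⊗[R] M) :
    ∃ x : M, t = (1 : R ⧸ I) ⊗ₜ[R] x := by
  induction t using TensorProduct.induction_on with
  | zero => exact ⟨0, (tmul_zero _ _).symm⟩
  | tmul s m =>
    obtain ⟨r, rfl⟩ := Ideal.Quotient.mk_surjective s
    refine ⟨r • m, ?_⟩
    rw [← TensorProduct.smul_tmul, ← Algebra.algebraMap_eq_smul_one]
    rfl
  | add a b ha hb =>
    obtain ⟨x, rfl⟩ := ha
    obtain ⟨y, rfl⟩ := hb
    exact ⟨x + y, (tmul_add _ _ _).symm⟩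

theorem exists_baseChange_eq {X N : Type u} [AddCommGroup X] [Module R X] [AddCommGroup N]
    [Module R N] [Module.Projective R X] (θ : (R ⧸ I) ⊗[R] X →ₗ[R ⧸ I] (R ⧸ I) ⊗[R] N) :
    ∃ f : X →ₗ[R] N, f.baseChange (R ⧸ I) = θ := by
  obtain ⟨f, hf⟩ := Module.projective_lifting_property (TensorProduct.mk R (R ⧸ I) N 1)
    ((θ.restrictScalars R) ∘ₗ TensorProduct.mk R (R ⧸ I) X 1)
    (fun t => by obtain ⟨x, rfl⟩ := exists_one_tmul I N t; exact ⟨x, rfl⟩)
  refine ⟨f, LinearMap.ext fun t => ?_⟩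
  obtain ⟨x, rfl⟩ := exists_one_tmul I X t
  rw [LinearMap.baseChange_tmul]
  exact LinearMap.congr_fun hf x

section split

variable {X Y : Type u} [AddCommGroup X] [Module R X] [AddCommGroup Y] [Module R Y]
  (f : X →ₗ[R] Y) (s : Y →ₗ[R] X) (hs : f ∘ₗ s = LinearMap.id)

/-- retraction onto the kernel of a split surjection. -/
def retr : X →ₗ[R] LinearMap.ker f :=
  LinearMap.codRestrict (LinearMap.ker f) (LinearMap.id - s ∘ₗ f) (fun x => by
    rw [LinearMap.mem_ker]
    have h := LinearMap.congr_fun hs (f x)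
    simp only [LinearMap.sub_apply, LinearMap.id_apply, LinearMap.comp_apply, map_sub] at h ⊢
    rw [h, sub_self])

theorem retr_coe (x : X) : ((retr f s hs x : LinearMap.ker f) : X) = x - s (f x) := rfl

/-- the splitting `X ≃ Y × ker f`. -/
def splitEquiv : X ≃ₗ[R] (Y × LinearMap.ker f) :=
  LinearEquiv.ofLinearMap (f.prod (retr f s hs)) (s.coprod (LinearMap.ker f).subtype)
    (by
      apply LinearMap.ext
      rintro ⟨y, k⟩
      have h1 : f (s y) = y := LinearMap.congr_fun hs y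
      have h2 : f (k : X) = 0 := LinearMap.mem_ker.mp k.2
      apply Prod.ext
      · show f (s y + (k : X)) = y
        rw [map_add, h1, h2, add_zero]
      · apply Subtype.ext
        show (s y + (k : X)) - s (f (s y + (k : X))) = k
        rw [map_add, h1, h2, add_zero, add_sub_cancel_left])
    (by
      apply LinearMap.ext
      intro x
      show s (f x) + (x - s (f x)) = x
      abel)

include hs in
theorem baseChange_subtype_injective :
    Function.Injective ((LinearMap.ker f).subtype.baseChange (R ⧸ I)) := by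
  have h : (retr f s hs).baseChange (R ⧸ I) ∘ₗ (LinearMap.ker f).subtype.baseChange (R ⧸ I) =
      LinearMap.id := by
    rw [← LinearMap.baseChange_comp, ← LinearMap.baseChange_id]
    congr 1
    apply LinearMap.ext
    intro k
    apply Subtype.ext
    show (k : X) - s (f (k : X)) = k
    rw [LinearMap.mem_ker.mp k.2, map_zero, sub_zero]
  exact Function.LeftInverse.injective (g := (retr f s hs).baseChange (R ⧸ I))
    (fun t => LinearMap.congr_fun h t)

include hs in
theorem exists_of_baseChange_eq_zero (t : (R ⧸ I) ⊗[R] X) (ht : f.baseChange (R ⧸ I) t = 0) :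
    ∃ u, (LinearMap.ker f).subtype.baseChange (R ⧸ I) u = t := by
  refine ⟨(retr f s hs).baseChange (R ⧸ I) t, ?_⟩
  have h : (LinearMap.ker f).subtype ∘ₗ retr f s hs = LinearMap.id - s ∘ₗ f := by
    apply LinearMap.ext
    intro x
    rfl
  have h2 : ((LinearMap.ker f).subtype.baseChange (R ⧸ I)) ((retr f s hs).baseChange (R ⧸ I) t)
      = ((LinearMap.id - s ∘ₗ f).baseChange (R ⧸ I)) t := by
    rw [← h, LinearMap.baseChange_comp]
    rfl
  rw [h2, LinearMap.baseChange_sub, LinearMap.baseChange_id, LinearMap.baseChange_comp]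
  simp [ht]

end split

end basic

section Pc

variable {R : Type u} [CommRing R] (I : Ideal R)
    (Pc : ObjectProperty (ModuleCat.{u} R)) [Pc.IsClosedUnderIsomorphisms]
    (h1 : ∀ X : ModuleCat.{u} R, Pc X → Module.Projective R X)
    (h2 : ∀ X Y : ModuleCat.{u} R, Pc X → Pc (ModuleCat.of R (X × Y)) → Pc Y)
    (h3 : ∀ (X Y : ModuleCat.{u} R) (f : X ⟶ Y), Pc X → Pc Y →
      LinearMap.range f.hom ⊔ I • (⊤ : Submodule R Y) = ⊤ → Function.Surjective f.hom)

include h3 in
theorem subsingleton_of_tensor (X : ModuleCat.{u} R) (hX : Pc X)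
    (hs : Subsingleton ((R ⧸ I) ⊗[R] X)) : Subsingleton X := by
  have h : LinearMap.range (0 : X ⟶ X).hom ⊔ I • (⊤ : Submodule R X) = ⊤ := by
    rw [eq_top_iff]
    intro x _
    exact Submodule.mem_sup_right ((one_tmul_eq_zero_iff I X x).mp (Subsingleton.elim _ _))
  have hsurj := h3 X X 0 hX hX h
  constructor
  intro x y
  obtain ⟨x', hx'⟩ := hsurj x
  obtain ⟨y', hy'⟩ := hsurj y
  rw [← hx', ← hy']
  simp

include h3 in
theorem surjective_of_baseChange (X Y : ModuleCat.{u} R) (hX : Pc X) (hY : Pc Y) (f : X →ₗ[R] Y)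
    (hf : Function.Surjective (f.baseChange (R ⧸ I))) : Function.Surjective f := by
  refine h3 X Y (ModuleCat.ofHom f) hX hY ?_
  rw [eq_top_iff]
  intro y _
  obtain ⟨t, ht⟩ := hf ((1 : R ⧸ I) ⊗ₜ[R] y)
  obtain ⟨x, rfl⟩ := exists_one_tmul I X t
  rw [LinearMap.baseChange_tmul] at ht
  have h0 : (1 : R ⧸ I) ⊗ₜ[R] (y - f x) = 0 := by rw [tmul_sub, ht, sub_self]
  have h1 := (one_tmul_eq_zero_iff I Y (y - f x)).mp h0
  have : y = f x + (y - f x) := by abel
  rw [this]
  exact Submodule.add_mem_sup (LinearMap.mem_range_self _ x) h1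

include h1 h2 h3 in
theorem nonempty_linearEquiv_of_tensor (A B : ModuleCat.{u} R) (hA : Pc A) (hB : Pc B)
    (ε : (R ⧸ I) ⊗[R] A ≃ₗ[R ⧸ I] (R ⧸ I) ⊗[R] B) : Nonempty (A ≃ₗ[R] B) := by
  haveI := h1 A hA
  haveI := h1 B hB
  obtain ⟨g, hg⟩ := exists_baseChange_eq I (X := A) (N := B) ε.toLinearMap
  have hsurj : Function.Surjective g :=
    surjective_of_baseChange I Pc h3 A B hA hB g (by rw [hg]; exact ε.surjective)
  obtain ⟨s, hs⟩ := Module.projective_lifting_property g LinearMap.id hsurj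
  have hK : Pc (ModuleCat.of R (LinearMap.ker g)) := by
    apply h2 B (ModuleCat.of R (LinearMap.ker g)) hB
    exact Pc.prop_of_iso (splitEquiv g s hs).toModuleIso hA
  have hKs : Subsingleton ((R ⧸ I) ⊗[R] (LinearMap.ker g)) := by
    constructor
    intro a b
    apply baseChange_subtype_injective I g s hs
    have h0 : g ∘ₗ (LinearMap.ker g).subtype = 0 := by
      apply LinearMap.ext
      intro k
      exact LinearMap.mem_ker.mp k.2
    have : ∀ t, (LinearMap.ker g).subtype.baseChange (R ⧸ I) t = 0 := by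
      intro t
      apply ε.injective
      rw [map_zero]
      have h := LinearMap.congr_fun hg ((LinearMap.ker g).subtype.baseChange (R ⧸ I) t)
      rw [← LinearMap.comp_apply, ← LinearMap.baseChange_comp, h0, LinearMap.baseChange_zero] at h
      exact h.symm
    rw [this a, this b]
  have hK0 : Subsingleton (LinearMap.ker g) :=
    subsingleton_of_tensor I Pc h3 (ModuleCat.of R (LinearMap.ker g)) hK hKs
  have hinj : Function.Injective g := by
    rw [← LinearMap.ker_eq_bot]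
    exact Submodule.eq_bot_of_subsingleton
  exact ⟨LinearEquiv.ofBijective g ⟨hinj, hsurj⟩⟩

include h1 h2 h3 in
theorem step (E : CochainComplex (ModuleCat.{u} (R ⧸ I)) ℤ) (hacyc : E.Acyclic) (i : ℤ)
    (X : ModuleCat.{u} R) (hX : Pc X) (ψ : (R ⧸ I) ⊗[R] X ≃ₗ[R ⧸ I] E.X i)
    (Z' : ModuleCat.{u} R) (hZ' : Pc Z') (φ' : (R ⧸ I) ⊗[R] Z' ≃ₗ[R ⧸ I] Z E (i + 1)) :
    ∃ K : ModuleCat.{u} R, Pc K ∧ Nonempty ((R ⧸ I) ⊗[R] K ≃ₗ[R ⧸ I] Z E i) ∧
      Nonempty (X ≃ₗ[R] (Z' × K)) := by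
  haveI := h1 X hX
  haveI := h1 Z' hZ'
  obtain ⟨f, hf⟩ := exists_baseChange_eq I (X := X) (N := Z')
    (φ'.symm.toLinearMap ∘ₗ dZ E i ∘ₗ ψ.toLinearMap)
  have hsurj : Function.Surjective f := by
    apply surjective_of_baseChange I Pc h3 X Z' hX hZ' f
    rw [hf]
    exact φ'.symm.surjective.comp ((dZ_surjective E hacyc i).comp ψ.surjective)
  obtain ⟨s, hs⟩ := Module.projective_lifting_property f LinearMap.id hsurj
  have hK : Pc (ModuleCat.of R (LinearMap.ker f)) := by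
    apply h2 Z' (ModuleCat.of R (LinearMap.ker f)) hZ'
    exact Pc.prop_of_iso (splitEquiv f s hs).toModuleIso hX
  refine ⟨ModuleCat.of R (LinearMap.ker f), hK, ⟨?_⟩, ⟨splitEquiv f s hs⟩⟩
  have key : ∀ t, dZ E i (ψ t) = φ' (f.baseChange (R ⧸ I) t) := by
    intro t
    rw [hf]
    simp
  have h0 : f ∘ₗ (LinearMap.ker f).subtype = 0 := by
    apply LinearMap.ext
    intro k
    exact LinearMap.mem_ker.mp k.2
  have hmem : ∀ t, ψ ((LinearMap.ker f).subtype.baseChange (R ⧸ I) t) ∈ Z E i := by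
    intro t
    rw [Z, LinearMap.mem_ker]
    have h := congrArg Subtype.val (key ((LinearMap.ker f).subtype.baseChange (R ⧸ I) t))
    rw [dZ_coe] at h
    rw [h, ← LinearMap.comp_apply, ← LinearMap.baseChange_comp, h0, LinearMap.baseChange_zero,
      LinearMap.zero_apply, map_zero]
    rfl
  let κ₀ : (R ⧸ I) ⊗[R] (LinearMap.ker f) →ₗ[R ⧸ I] Z E i :=
    LinearMap.codRestrict (Z E i)
      (ψ.toLinearMap ∘ₗ (LinearMap.ker f).subtype.baseChange (R ⧸ I)) hmem
  refine LinearEquiv.ofBijective κ₀ ⟨?_, ?_⟩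
  · intro a b hab
    apply baseChange_subtype_injective I f s hs
    apply ψ.injective
    exact congrArg Subtype.val hab
  · rintro ⟨w, hw⟩
    have ht : f.baseChange (R ⧸ I) (ψ.symm w) = 0 := by
      apply φ'.injective
      rw [← key, map_zero, LinearEquiv.apply_symm_apply]
      exact dZ_of_mem E i ⟨w, hw⟩
    obtain ⟨u, hu⟩ := exists_of_baseChange_eq_zero I f s hs _ ht
    refine ⟨u, Subtype.ext ?_⟩
    show ψ ((LinearMap.ker f).subtype.baseChange (R ⧸ I) u) = w
    rw [hu, LinearEquiv.apply_symm_apply]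

include h1 h2 h3 in
theorem exists_lift_cycles (E : CochainComplex (ModuleCat.{u} (R ⧸ I)) ℤ) (b : ℤ)
    (hEb : ∀ i : ℤ, b < i → IsZero (E.X i)) (hEa : E.Acyclic)
    (hEt : ∀ i : ℤ, ∃ X : ModuleCat.{u} R, Pc X ∧
      Nonempty ((R ⧸ I) ⊗[R] X ≃ₗ[R ⧸ I] E.X i)) :
    ∀ i : ℤ, ∃ Zc : ModuleCat.{u} R, Pc Zc ∧ Nonempty ((R ⧸ I) ⊗[R] Zc ≃ₗ[R ⧸ I] Z E i) ∧
      (b < i → Subsingleton Zc) := by
  have base : ∀ i, b < i → ∃ Zc : ModuleCat.{u} R, Pc Zc ∧
      Nonempty ((R ⧸ I) ⊗[R] Zc ≃ₗ[R ⧸ I] Z E i) ∧ (b < i → Subsingleton Zc) := by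
    intro i hi
    obtain ⟨X, hX, ⟨ψ⟩⟩ := hEt i
    haveI : Subsingleton (E.X i) := ModuleCat.subsingleton_of_isZero (hEb i hi)
    haveI : Subsingleton ((R ⧸ I) ⊗[R] X) := ψ.injective.subsingleton
    haveI : Subsingleton (Z E i) := inferInstance
    exact ⟨X, hX, ⟨LinearEquiv.ofSubsingleton _ _⟩,
      fun _ => subsingleton_of_tensor I Pc h3 X hX inferInstance⟩
  have key : ∀ (n : ℕ) (i : ℤ), b + 1 - i ≤ n → ∃ Zc : ModuleCat.{u} R, Pc Zc ∧
      Nonempty ((R ⧸ I) ⊗[R] Zc ≃ₗ[R ⧸ I] Z E i) ∧ (b < i → Subsingleton Zc) := by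
    intro n
    induction n with
    | zero =>
      intro i hi
      exact base i (by omega)
    | succ n ih =>
      intro i hi
      by_cases hbi : b < i
      · exact base i hbi
      · obtain ⟨Z', hZ', ⟨φ'⟩, _⟩ := ih (i + 1) (by omega)
        obtain ⟨X, hX, ⟨ψ⟩⟩ := hEt i
        obtain ⟨K, hK, hκ, _⟩ := step I Pc h1 h2 h3 E hEa i X hX ψ Z' hZ' φ'
        exact ⟨K, hK, hκ, fun h => absurd h hbi⟩
  intro i
  exact key (b + 1 - i).toNat i (Int.self_le_toNat _)

include h1 h2 h3 in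
theorem main (E : CochainComplex (ModuleCat.{u} (R ⧸ I)) ℤ) (b : ℤ)
    (hEb : ∀ i : ℤ, b < i → IsZero (E.X i)) (hEa : E.Acyclic)
    (hEt : ∀ i : ℤ, ∃ X : ModuleCat.{u} R, Pc X ∧
      Nonempty ((R ⧸ I) ⊗[R] X ≃ₗ[R ⧸ I] E.X i)) :
    ∃ (P : CochainComplex (ModuleCat.{u} R) ℤ), (∀ i : ℤ, b < i → IsZero (P.X i)) ∧ P.Acyclic ∧
      (∀ i : ℤ, Pc (P.X i)) ∧
      Nonempty ((((ModuleCat.extendScalars (Ideal.Quotient.mk I)).mapHomologicalComplex
        (ComplexShape.up ℤ)).obj P) ≅ E) := by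
  have hlift := exists_lift_cycles I Pc h1 h2 h3 E b hEb hEa hEt
  choose Zc hZc hθ hsub using hlift
  choose X hX hψ using hEt
  let θ : ∀ i, (R ⧸ I) ⊗[R] Zc i ≃ₗ[R ⧸ I] Z E i := fun i => (hθ i).some
  have hZproj : ∀ i, Module.Projective (R ⧸ I) (Z E i) := by
    intro i
    haveI := h1 (Zc i) (hZc i)
    exact Module.Projective.of_equiv (θ i)
  have hsec : ∀ i, Nonempty (Sec E i) := fun i => exists_sec E hEa i (hZproj (i + 1))
  let s : ∀ i, Sec E i := fun i => (hsec i).some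
  refine ⟨Ncx Zc, ?_, Ncx_acyclic Zc, ?_, ⟨cxIso I E Zc θ s⟩⟩
  · intro i hi
    haveI := hsub i hi
    haveI := hsub (i + 1) (by omega)
    haveI : Subsingleton (Zc i × Zc (i + 1)) := inferInstance
    exact ModuleCat.isZero_of_subsingleton (ModuleCat.of R (Zc i × Zc (i + 1)))
  · intro i
    show Pc (ModuleCat.of R (Zc i × Zc (i + 1)))
    obtain ⟨ψ⟩ := hψ i
    obtain ⟨K, hK, ⟨κ⟩, ⟨e⟩⟩ := step I Pc h1 h2 h3 E hEa i (X i) (hX i) ψ (Zc (i + 1))
      (hZc (i + 1)) (θ (i + 1))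
    obtain ⟨g⟩ := nonempty_linearEquiv_of_tensor I Pc h1 h2 h3 (Zc i) K (hZc i) hK
      ((θ i).trans κ.symm)
    have e' : (X i) ≃ₗ[R] (Zc i × Zc (i + 1)) :=
      e.trans ((LinearEquiv.prodComm R _ _).trans (g.symm.prodCongr (LinearEquiv.refl R _)))
    exact Pc.prop_of_iso e'.toModuleIso (hX i)

end Pc

end Groth.Agent.Lib.PcLift_helper6
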