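import Mathlib
import Groth.Prelude.Def_DRing2
import Groth.Prelude.Def_DDual2
import Groth.Agent.Lib.PcLift_helper6
import Groth.Agent.Lib.DMod78_helper6

/-!
# Lifting a representative of `K ⊗^L R/I` to a representative of `K` (helper6)

Stacks-style lemma: `R` a ring, `I` an ideal, `Pc` a class of projective modules closed under
complements and such that maps surjective mod `I` are surjective.  If `K` is represented by a
bounded above complex with terms in `Pc` and `E` is a bounded above complex over `R/I` with terms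
`P/IP`, `P ∈ Pc`, representing `K ⊗^L R/I`, then `E` lifts to a representative of `K`.
-/

set_option autoImplicit false
universe u
open CategoryTheory CategoryTheory.Limits TensorProduct Pretriangulated DerivedCategory
attribute [local instance] HasDerivedCategory.standard

namespace Groth.Agent.Lib.PcLift_helper6

open DRing CochainComplex Groth.Agent.Lib.DMod_helper6 Groth.Agent.ExtendScalarsLib

section generic

theorem nonempty_iso_of_shortExact {C : Type*} [Category C] [Abelian C] {S₁ S₂ : ShortComplex C}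
    (h₁ : S₁.ShortExact) (h₂ : S₂.ShortExact) (e₂ : S₁.X₂ ≅ S₂.X₂) (e₃ : S₁.X₃ ≅ S₂.X₃)
    (comm : S₁.g ≫ e₃.hom = e₂.hom ≫ S₂.g) : Nonempty (S₁.X₁ ≅ S₂.X₁) := by
  haveI := h₁.mono_f
  haveI := h₂.mono_f
  have comm' : S₂.g ≫ e₃.inv = e₂.inv ≫ S₁.g := by
    rw [← cancel_mono e₃.hom, Category.assoc, Category.assoc, Iso.inv_hom_id, Category.comp_id,
      comm, Iso.inv_hom_id_assoc]
  have w₁ : (S₁.f ≫ e₂.hom) ≫ S₂.g = 0 := by
    rw [Category.assoc, ← comm, S₁.zero_assoc, zero_comp]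
  have w₂ : (S₂.f ≫ e₂.inv) ≫ S₁.g = 0 := by
    rw [Category.assoc, ← comm', S₂.zero_assoc, zero_comp]
  refine ⟨⟨h₂.exact.lift _ w₁, h₁.exact.lift _ w₂, ?_, ?_⟩⟩
  · rw [← cancel_mono S₁.f, Category.assoc, ShortComplex.Exact.lift_f,
      ShortComplex.Exact.lift_f_assoc, Category.assoc, Iso.hom_inv_id, Category.comp_id,
      Category.id_comp]
  · rw [← cancel_mono S₂.f, Category.assoc, ShortComplex.Exact.lift_f,
      ShortComplex.Exact.lift_f_assoc, Category.assoc, Iso.inv_hom_id, Category.comp_id,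
      Category.id_comp]

end generic

section lift

variable {R : Type u} [CommRing R] (I : Ideal R)

/-- a morphism between extensions of scalars to `R/I` lifts when the source is projective -/
theorem exists_ES_map_eq (X N : ModuleCat.{u} R) [Module.Projective R X]
    (θ : (ES R (R ⧸ I)).obj X ⟶ (ES R (R ⧸ I)).obj N) :
    ∃ f : X ⟶ N, (ES R (R ⧸ I)).map f = θ := by
  obtain ⟨f, hf⟩ := exists_baseChange_eq I (X := X) (N := N)
    ((extendScalarsEquivTensor (S := R ⧸ I) N).toLinearMap ∘ₗ θ.hom ∘ₗ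
      (extendScalarsEquivTensor (S := R ⧸ I) X).symm.toLinearMap)
  refine ⟨ModuleCat.ofHom f, ?_⟩
  apply ModuleCat.hom_ext
  apply LinearMap.ext
  intro x
  apply (extendScalarsEquivTensor (S := R ⧸ I) N).injective
  rw [ES_map_comm]
  show (f.baseChange (R ⧸ I)) (extendScalarsEquivTensor (S := R ⧸ I) X x) = _
  rw [hf]
  simp

variable (Pc : ObjectProperty (ModuleCat.{u} R)) [Pc.IsClosedUnderIsomorphisms]
    (h3 : ∀ (X Y : ModuleCat.{u} R) (f : X ⟶ Y), Pc X → Pc Y →
      LinearMap.range f.hom ⊔ I • (⊤ : Submodule R Y) = ⊤ → Function.Surjective f.hom)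

include h3 in
theorem surjective_of_ES_map (X Y : ModuleCat.{u} R) (hX : Pc X) (hY : Pc Y) (f : X ⟶ Y)
    (hf : Function.Surjective ((ES R (R ⧸ I)).map f).hom) : Function.Surjective f.hom := by
  refine surjective_of_baseChange I Pc h3 X Y hX hY f.hom ?_
  intro t
  obtain ⟨x, hx⟩ := hf ((extendScalarsEquivTensor (S := R ⧸ I) Y).symm t)
  refine ⟨extendScalarsEquivTensor (S := R ⧸ I) X x, ?_⟩
  rw [← ES_map_comm, hx, LinearEquiv.apply_symm_apply]

/-- chain maps out of a contractible complex of projectives lift along reduction mod `I` -/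
theorem exists_ESc_map_eq (C G : Cx R) (hproj : ∀ i, Module.Projective R (C.X i))
    (h : Homotopy (𝟙 C) 0)
    (π : (ESc (algebraMap R (R ⧸ I))).obj C ⟶ (ESc (algebraMap R (R ⧸ I))).obj G) :
    ∃ p : C ⟶ G, (ESc (algebraMap R (R ⧸ I))).map p = π := by
  obtain ⟨hom, hid⟩ : ∃ hom : ∀ i j, C.X i ⟶ C.X j, 𝟙 C = Homotopy.nullHomotopicMap hom := by
    refine ⟨h.hom, ?_⟩
    ext i : 1
    have := h.comm i
    rw [HomologicalComplex.zero_f, add_zero] at this
    exact this
  have hlift : ∀ i j, ∃ s : C.X i ⟶ G.X j,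
      (ES R (R ⧸ I)).map s = (ES R (R ⧸ I)).map (hom i j) ≫ π.f j := by
    intro i j
    haveI := hproj i
    exact exists_ES_map_eq I (C.X i) (G.X j) _
  choose s hs using hlift
  refine ⟨Homotopy.nullHomotopicMap s, ?_⟩
  have h1 : π = Homotopy.nullHomotopicMap
      (fun i j => (ES R (R ⧸ I)).map (hom i j) ≫ π.f j) := by
    calc π = (ESc (algebraMap R (R ⧸ I))).map (𝟙 C) ≫ π := by
          rw [CategoryTheory.Functor.map_id, Category.id_comp]
      _ = (ESc (algebraMap R (R ⧸ I))).map (Homotopy.nullHomotopicMap hom) ≫ π :=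
          congrArg (fun k => (ESc (algebraMap R (R ⧸ I))).map k ≫ π) hid
      _ = _ := by
          rw [Homotopy.map_nullHomotopicMap, Homotopy.nullHomotopicMap_comp]
  rw [Homotopy.map_nullHomotopicMap, h1]
  congr 1
  funext i j
  exact hs i j

end lift

section main2

variable {R : Type u} [CommRing R] (I : Ideal R) [DRing.HasLBaseChange (Ideal.Quotient.mk I)]
    (Pc : ObjectProperty (ModuleCat.{u} R)) [Pc.IsClosedUnderIsomorphisms]
    (h1 : ∀ X : ModuleCat.{u} R, Pc X → Module.Projective R X)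
    (h2 : ∀ X Y : ModuleCat.{u} R, Pc X → (Pc (ModuleCat.of R (X × Y)) ↔ Pc Y))
    (h3 : ∀ (X Y : ModuleCat.{u} R) (f : X ⟶ Y), Pc X → Pc Y →
      LinearMap.range f.hom ⊔ I • (⊤ : Submodule R Y) = ⊤ → Function.Surjective f.hom)

include h1 h2 h3 in
theorem main2 (F : Cx R) (c : ℤ) (hFc : VanishesAbove F c) (hF : ∀ i, Pc (F.X i))
    (E : Cx (R ⧸ I)) (b : ℤ) (hEb : VanishesAbove E b)
    (hEt : ∀ i : ℤ, ∃ X : ModuleCat.{u} R, Pc X ∧
      Nonempty ((R ⧸ I) ⊗[R] X ≃ₗ[R ⧸ I] E.X i))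
    (hE : Nonempty (toD E ≅ (LBaseChange (Ideal.Quotient.mk I)).obj (toD F))) :
    ∃ (P : Cx R) (b' : ℤ), VanishesAbove P b' ∧ (∀ i, Pc (P.X i)) ∧ Nonempty (toD P ≅ toD F) ∧
      Nonempty ((ESc (Ideal.Quotient.mk I)).obj P ≅ E) := by
  have hFp : ∀ i, Module.Projective R (F.X i) := fun i => h1 _ (hF i)
  haveI : F.IsKProjective := isKProjective_of_projective_bounded F c hFc hFp
  let Fb : Cx (R ⧸ I) := (ESc (Ideal.Quotient.mk I)).obj F
  haveI : Fb.IsKProjective := isKProjective_of_projective_bounded _ c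
    (fun i hi => (ES R (R ⧸ I)).map_isZero (hFc i hi))
    (fun i => projective_ES (B := R ⧸ I) (F.X i) (hFp i))
  obtain ⟨eL⟩ := nonempty_lBaseChange_iso_of_isKProjective (Ideal.Quotient.mk I) F
  obtain ⟨eE⟩ := hE
  let ι : toD Fb ≅ toD E := eL.symm ≪≫ eE.symm
  obtain ⟨α, hα⟩ := exists_Q_map_eq_of_isKProjective ι.hom
  haveI hαiso : IsIso (Q.map α) := by rw [hα]; infer_instance
  have hTD := DerivedCategory.mappingCone_triangle_distinguished α
  have hCzero : IsZero (toD (mappingCone α)) := (Triangle.isZero₃_iff_isIso₁ _ hTD).2 hαiso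
  have hCex : (mappingCone α).Acyclic := fun i =>
    exactAt_of_isZero_homology_toD _ i ((DerivedCategory.homologyFunctor _ i).map_isZero hCzero)
  obtain ⟨B, hcB, hbB⟩ : ∃ B : ℤ, c ≤ B ∧ b ≤ B := ⟨max c b, le_max_left _ _, le_max_right _ _⟩
  have hCb : ∀ i : ℤ, B < i → IsZero ((mappingCone α).X i) := fun i hi =>
    IsZero.of_iso (isZero_biprod ((ES R (R ⧸ I)).map_isZero (hFc (i + 1) (by omega)))
      (hEb i (by omega))) (coneXIso α i)
  have hCt : ∀ i : ℤ, ∃ X : ModuleCat.{u} R, Pc X ∧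
      Nonempty ((R ⧸ I) ⊗[R] X ≃ₗ[R ⧸ I] (mappingCone α).X i) := by
    intro i
    obtain ⟨X, hX, ⟨ψ⟩⟩ := hEt i
    refine ⟨ModuleCat.of R (F.X (i + 1) × X), (h2 _ _ (hF (i + 1))).2 hX, ⟨?_⟩⟩
    exact (TensorProduct.prodRight R (R ⧸ I) (R ⧸ I) (F.X (i + 1)) X).trans
      (((extendScalarsEquivTensor (S := R ⧸ I) (F.X (i + 1))).symm.prodCongr ψ).trans
        ((ModuleCat.biprodIsoProd _ _).symm.toLinearEquiv.trans
          (coneXIso α i).symm.toLinearEquiv))
  obtain ⟨C, hCb', hCa, hCP, ⟨e⟩⟩ := main I Pc h1 (fun X Y hX => (h2 X Y hX).1) h3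
    (mappingCone α) B hCb hCex hCt
  have hCp : ∀ i, Module.Projective R (C.X i) := fun i => h1 _ (hCP i)
  haveI : C.IsKProjective := isKProjective_of_projective_bounded C B hCb' hCp
  have hC : Homotopy (𝟙 C) 0 := IsKProjective.homotopyZero (𝟙 C) hCa
  let G : Cx R := F⟦(1 : ℤ)⟧
  have hG : ∀ i, Pc (G.X i) := fun i => hF (i + 1)
  let e₃ : (ESc (Ideal.Quotient.mk I)).obj G ≅ Fb⟦(1 : ℤ)⟧ :=
    ((ESc (Ideal.Quotient.mk I)).commShiftIso (1 : ℤ)).app F
  let SE := mappingCone.triangleRotateShortComplex α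
  have hSE : SE.ShortExact := HomologicalComplex.shortExact_of_degreewise_shortExact _
    (fun i => (mappingCone.triangleRotateShortComplexSplitting α i).shortExact)
  let g' : mappingCone α ⟶ Fb⟦(1 : ℤ)⟧ := SE.g
  haveI hg'epi : Epi g' := hSE.epi_g
  let π : (ESc (Ideal.Quotient.mk I)).obj C ⟶ (ESc (Ideal.Quotient.mk I)).obj G :=
    e.hom ≫ g' ≫ e₃.inv
  obtain ⟨p, hp⟩ := exists_ESc_map_eq I C G hCp hC π
  have hpsurj : ∀ i, Function.Surjective (p.f i).hom := by
    intro i
    refine surjective_of_ES_map I Pc h3 _ _ (hCP i) (hG i) (p.f i) ?_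
    have h1' : (ES R (R ⧸ I)).map (p.f i) = π.f i := by
      rw [← hp]; rfl
    rw [h1']
    haveI : Epi π := by
      show Epi (e.hom ≫ g' ≫ e₃.inv)
      infer_instance
    haveI : Epi (π.f i) := by
      change Epi ((HomologicalComplex.eval _ _ i).map π)
      infer_instance
    exact (ModuleCat.epi_iff_surjective _).1 this
  haveI hpepi : Epi p :=
    HomologicalComplex.epi_of_epi_f p (fun i => (ModuleCat.epi_iff_surjective _).2 (hpsurj i))
  let S : ShortComplex (Cx R) := ShortComplex.mk (kernel.ι p) p (kernel.condition p)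
  have hS : S.ShortExact :=
    ShortComplex.ShortExact.mk' (ShortComplex.exact_of_f_is_kernel _ (kernelIsKernel p))
      (inferInstanceAs (Mono (kernel.ι p))) hpepi
  have hSi : ∀ i, (S.map (HomologicalComplex.eval _ _ i)).ShortExact :=
    (HomologicalComplex.shortExact_iff_degreewise_shortExact S).1 hS
  have hσ : ∀ i, Nonempty (S.map (HomologicalComplex.eval _ _ i)).Splitting := by
    intro i
    haveI : Projective (S.map (HomologicalComplex.eval _ _ i)).X₃ :=
      (IsProjective.iff_projective (G.X i)).1 (h1 _ (hG i))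
    haveI := (hSi i).epi_g
    haveI := (hSi i).mono_f
    exact ⟨ShortComplex.Splitting.ofExactOfSection _ (hSi i).exact
      (Projective.factorThru (𝟙 (S.map (HomologicalComplex.eval _ _ i)).X₃)
        (S.map (HomologicalComplex.eval _ _ i)).g)
      (Projective.factorThru_comp _ _) inferInstance⟩
  let P : Cx R := kernel p
  have hPP : ∀ i, Pc (P.X i) := by
    intro i
    obtain ⟨σ⟩ := hσ i
    have iso1 : C.X i ≅ P.X i ⊞ G.X i := σ.isoBinaryBiproduct
    have iso2 : C.X i ≅ ModuleCat.of R (G.X i × P.X i) :=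
      iso1 ≪≫ biprod.braiding _ _ ≪≫ ModuleCat.biprodIsoProd _ _
    exact (h2 _ _ (hG i)).1 (Pc.prop_of_iso iso2 (hCP i))
  have hPb : VanishesAbove P B := fun i hi => by
    haveI := (hSi i).mono_f
    have hz : IsZero (S.map (HomologicalComplex.eval _ _ i)).X₂ := hCb' i hi
    have : IsZero (S.map (HomologicalComplex.eval _ _ i)).X₁ :=
      IsZero.of_mono ((S.map (HomologicalComplex.eval _ _ i)).f) hz
    exact this
  have hT := DerivedCategory.triangleOfSES_distinguished hS
  have hCz : IsZero (toD C) := isZero_toD_of_exactAt C hCa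
  haveI : IsIso (triangleOfSES hS).mor₃ := (Triangle.isZero₂_iff_isIso₃ _ hT).1 hCz
  let i1 := asIso (triangleOfSES hS).mor₃
  let i1' : toD G ≅ (toD P)⟦(1 : ℤ)⟧ := i1
  let i2 : toD G ≅ (toD F)⟦(1 : ℤ)⟧ := (Q.commShiftIso (1 : ℤ)).app F
  have i3 : toD P ≅ toD F :=
    (CategoryTheory.shiftFunctor (DerivedCategory (ModuleCat.{u} R)) (1 : ℤ)).preimageIso
      (i1'.symm ≪≫ i2)
  let S' := S.map (ESc (Ideal.Quotient.mk I))
  have hS' : S'.ShortExact := HomologicalComplex.shortExact_of_degreewise_shortExact _ (fun i => by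
    obtain ⟨σ⟩ := hσ i
    have := (σ.map (ES R (R ⧸ I))).shortExact
    exact this)
  obtain ⟨ePE⟩ := nonempty_iso_of_shortExact hS' hSE e e₃ (by
    show (ESc (Ideal.Quotient.mk I)).map p ≫ e₃.hom = e.hom ≫ g'
    have hp' : (ESc (Ideal.Quotient.mk I)).map p = e.hom ≫ g' ≫ e₃.inv := hp
    have h33 : e₃.inv ≫ e₃.hom = 𝟙 _ := e₃.inv_hom_id
    rw [hp', Category.assoc, Category.assoc, h33, Category.comp_id])
  exact ⟨P, B, hPb, hPP, ⟨i3⟩, ⟨ePE⟩⟩

end main2

end Groth.Agent.Lib.PcLift_helper6
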