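import Mathlib
import Groth.Prelude.Def_DRing2
import Groth.Prelude.Def_DDual2
import Groth.Agent.Lib.PcLift2_helper6

/-!
# The class of finite stably free modules and lifting along `R → R/I`, `I ⊆ rad R` (helper6)
-/

set_option autoImplicit false
universe u
open CategoryTheory CategoryTheory.Limits TensorProduct

namespace Groth.Agent.Lib.PcLift_helper6

open DRing Groth.Agent.Lib.DMod_helper6 Groth.Agent.ExtendScalarsLib

section sf

variable {R : Type u} [CommRing R]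

/-- the class of finite stably free modules -/
def sfClass (R : Type u) [CommRing R] : ObjectProperty (ModuleCat.{u} R) :=
  fun X => Module.Finite R X ∧ Module.IsStablyFree R X

instance : (sfClass R).IsClosedUnderIsomorphisms where
  of_iso e h := by
    haveI := h.1
    haveI := h.2
    exact ⟨Module.Finite.equiv e.toLinearEquiv, Module.IsStablyFree.equiv e.toLinearEquiv⟩

theorem isStablyFree_prod (X Y : Type u) [AddCommGroup X] [Module R X] [AddCommGroup Y]
    [Module R Y] [Module.IsStablyFree R X] [Module.IsStablyFree R Y] :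
    Module.IsStablyFree R (X × Y) := by
  obtain ⟨N₁, _, _, _, _, _⟩ := Module.IsStablyFree.exist_free_prod R X
  obtain ⟨N₂, _, _, _, _, _⟩ := Module.IsStablyFree.exist_free_prod R Y
  haveI : Module.Free R ((X × Y) × (N₁ × N₂)) :=
    Module.Free.of_equiv (LinearEquiv.prodProdProdComm R X N₁ Y N₂)
  exact Module.IsStablyFree.of_free_prod R (X × Y) (N₁ × N₂)

theorem isStablyFree_of_prod (X Y : Type u) [AddCommGroup X] [Module R X] [AddCommGroup Y]
    [Module R Y] [Module.Finite R X] [Module.IsStablyFree R X]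
    [Module.IsStablyFree R (X × Y)] : Module.IsStablyFree R Y := by
  obtain ⟨N₁, _, _, _, _, _⟩ := Module.IsStablyFree.exist_free_prod R X
  obtain ⟨N, _, _, _, _, _⟩ := Module.IsStablyFree.exist_free_prod R (X × Y)
  let e : (((X × Y) × N) × N₁) ≃ₗ[R] (Y × ((X × N₁) × N)) :=
    { toFun := fun p => (p.1.1.2, ((p.1.1.1, p.2), p.1.2))
      invFun := fun q => (((q.2.1.1, q.1), q.2.2), q.2.1.2)
      map_add' := fun _ _ => rfl
      map_smul' := fun _ _ => rfl
      left_inv := fun _ => rfl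
      right_inv := fun _ => rfl }
  haveI : Module.Free R (Y × ((X × N₁) × N)) := Module.Free.of_equiv e
  exact Module.IsStablyFree.of_free_prod R Y ((X × N₁) × N)

theorem sf_h1 (X : ModuleCat.{u} R) (hX : sfClass R X) : Module.Projective R X := by
  haveI := hX.2
  infer_instance

theorem sf_h2 (X Y : ModuleCat.{u} R) (hX : sfClass R X) :
    sfClass R (ModuleCat.of R (X × Y)) ↔ sfClass R Y := by
  haveI := hX.1
  haveI := hX.2
  constructor
  · rintro ⟨hf, hs⟩
    haveI : Module.Finite R (X × Y) := hf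
    haveI : Module.IsStablyFree R (X × Y) := hs
    exact ⟨Module.Finite.of_surjective (LinearMap.snd R X Y) LinearMap.snd_surjective,
      isStablyFree_of_prod X Y⟩
  · rintro ⟨hf, hs⟩
    haveI := hf
    haveI := hs
    exact ⟨inferInstanceAs (Module.Finite R (X × Y)), isStablyFree_prod X Y⟩

variable (I : Ideal R) (hI : I ≤ Ideal.jacobson (⊥ : Ideal R))

include hI in
theorem sf_h3 (X Y : ModuleCat.{u} R) (f : X ⟶ Y) (_ : sfClass R X) (hY : sfClass R Y)
    (h : LinearMap.range f.hom ⊔ I • (⊤ : Submodule R Y) = ⊤) : Function.Surjective f.hom := by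
  haveI := hY.1
  rw [← LinearMap.range_eq_top, eq_top_iff]
  exact Submodule.le_of_le_smul_of_le_jacobson_bot Module.Finite.fg_top hI h.ge

theorem sf_pi (ι : Type u) [Fintype ι] : sfClass R (ModuleCat.of R (ι → R)) :=
  ⟨inferInstanceAs (Module.Finite R (ι → R)),
    haveI : Module.Free R (ι → R) := inferInstance
    inferInstanceAs (Module.IsStablyFree R (ι → R))⟩

include hI in
/-- finite stably free modules over `R/I` lift to finite stably free modules over `R`. -/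
theorem exists_sf_lift (M : Type u) [AddCommGroup M] [Module (R ⧸ I) M]
    [Module.Finite (R ⧸ I) M] [Module.IsStablyFree (R ⧸ I) M] :
    ∃ X : ModuleCat.{u} R, sfClass R X ∧ Nonempty ((R ⧸ I) ⊗[R] X ≃ₗ[R ⧸ I] M) := by
  classical
  obtain ⟨N, _, _, _, _, _⟩ := Module.IsStablyFree.exist_free_prod (R ⧸ I) M
  let ι₁ := Module.Free.ChooseBasisIndex (R ⧸ I) N
  let ι₂ := Module.Free.ChooseBasisIndex (R ⧸ I) (M × N)
  let b₁ : N ≃ₗ[R ⧸ I] (ι₁ → R ⧸ I) := (Module.Free.chooseBasis (R ⧸ I) N).equivFun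
  let b₂ : (M × N) ≃ₗ[R ⧸ I] (ι₂ → R ⧸ I) :=
    (Module.Free.chooseBasis (R ⧸ I) (M × N)).equivFun
  let ε₁ : (R ⧸ I) ⊗[R] (ι₁ → R) ≃ₗ[R ⧸ I] N :=
    (TensorProduct.piScalarRight R (R ⧸ I) (R ⧸ I) ι₁).trans b₁.symm
  let ε₂ : (R ⧸ I) ⊗[R] (ι₂ → R) ≃ₗ[R ⧸ I] (M × N) :=
    (TensorProduct.piScalarRight R (R ⧸ I) (R ⧸ I) ι₂).trans b₂.symm
  let θ : (R ⧸ I) ⊗[R] (ι₂ → R) →ₗ[R ⧸ I] (R ⧸ I) ⊗[R] (ι₁ → R) :=
    ε₁.symm.toLinearMap ∘ₗ (LinearMap.snd (R ⧸ I) M N) ∘ₗ ε₂.toLinearMap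
  obtain ⟨q, hq⟩ := exists_baseChange_eq I (X := ι₂ → R) (N := ι₁ → R) θ
  have hθs : Function.Surjective θ := by
    intro t
    refine ⟨ε₂.symm (0, ε₁ t), ?_⟩
    simp [θ]
  have hqs : Function.Surjective q :=
    surjective_of_baseChange I (sfClass R) (sf_h3 I hI) (ModuleCat.of R (ι₂ → R))
      (ModuleCat.of R (ι₁ → R)) (sf_pi ι₂) (sf_pi ι₁) q (by rw [hq]; exact hθs)
  obtain ⟨s, hs⟩ := Module.projective_lifting_property q LinearMap.id hqs
  let K := LinearMap.ker q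
  have eK : (ι₂ → R) ≃ₗ[R] ((ι₁ → R) × K) := splitEquiv q s hs
  haveI : Module.Finite R ((ι₁ → R) × K) := Module.Finite.equiv eK
  haveI : Module.Finite R K :=
    Module.Finite.of_surjective (LinearMap.snd R (ι₁ → R) K) LinearMap.snd_surjective
  haveI : Module.Free R (K × (ι₁ → R)) :=
    Module.Free.of_equiv (eK.trans (LinearEquiv.prodComm R _ _))
  have hKsf : Module.IsStablyFree R K := Module.IsStablyFree.of_free_prod R K (ι₁ → R)
  refine ⟨ModuleCat.of R K, ⟨inferInstance, hKsf⟩, ⟨?_⟩⟩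
  let j := (LinearMap.ker q).subtype.baseChange (R ⧸ I)
  have hj0 : ∀ u, q.baseChange (R ⧸ I) (j u) = 0 := by
    intro u
    have h0 : q ∘ₗ (LinearMap.ker q).subtype = 0 := by
      apply LinearMap.ext
      intro k
      exact LinearMap.mem_ker.mp k.2
    show (q.baseChange (R ⧸ I) ∘ₗ (LinearMap.ker q).subtype.baseChange (R ⧸ I)) u = 0
    rw [← LinearMap.baseChange_comp, h0, LinearMap.baseChange_zero]
    rfl
  have hsnd : ∀ t, (ε₂ t).2 = ε₁ (q.baseChange (R ⧸ I) t) := by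
    intro t
    rw [hq]
    simp [θ]
  let μ : (R ⧸ I) ⊗[R] K →ₗ[R ⧸ I] M := (LinearMap.fst (R ⧸ I) M N) ∘ₗ ε₂.toLinearMap ∘ₗ j
  refine LinearEquiv.ofBijective μ ⟨?_, ?_⟩
  · rw [← LinearMap.ker_eq_bot, LinearMap.ker_eq_bot']
    intro u hu
    have h1 : (ε₂ (j u)).1 = 0 := hu
    have h2 : (ε₂ (j u)).2 = 0 := by rw [hsnd, hj0, map_zero]
    have h3 : ε₂ (j u) = 0 := Prod.ext h1 h2
    have h4 : j u = 0 := by simpa using h3
    exact baseChange_subtype_injective I q s hs (by rw [h4, map_zero])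
  · intro m
    have h0 : q.baseChange (R ⧸ I) (ε₂.symm (m, 0)) = 0 := by
      apply ε₁.injective
      rw [← hsnd, LinearEquiv.apply_symm_apply, map_zero]
    obtain ⟨u, hu⟩ := exists_of_baseChange_eq_zero I q s hs _ h0
    refine ⟨u, ?_⟩
    show (ε₂ (j u)).1 = m
    have : j u = ε₂.symm (m, 0) := hu
    rw [this, LinearEquiv.apply_symm_apply]

include hI in
/-- a finite stably free module which is free modulo `I` is free. -/
theorem free_of_tensor_free (X : ModuleCat.{u} R) (hX : sfClass R X)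
    (hfree : Module.Free (R ⧸ I) ((R ⧸ I) ⊗[R] X)) : Module.Free R X := by
  classical
  haveI := hX.1
  let ι := Module.Free.ChooseBasisIndex (R ⧸ I) ((R ⧸ I) ⊗[R] X)
  let b : ((R ⧸ I) ⊗[R] X) ≃ₗ[R ⧸ I] (ι → R ⧸ I) :=
    (Module.Free.chooseBasis (R ⧸ I) ((R ⧸ I) ⊗[R] X)).equivFun
  let ε : (R ⧸ I) ⊗[R] (ι → R) ≃ₗ[R ⧸ I] (R ⧸ I) ⊗[R] X :=
    (TensorProduct.piScalarRight R (R ⧸ I) (R ⧸ I) ι).trans b.symm
  obtain ⟨g⟩ := nonempty_linearEquiv_of_tensor I (sfClass R) sf_h1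
    (fun A B hA => (sf_h2 A B hA).1) (sf_h3 I hI) (ModuleCat.of R (ι → R)) X (sf_pi ι) hX ε
  exact Module.Free.of_equiv g

end sf

end Groth.Agent.Lib.PcLift_helper6
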