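import Mathlib
import Groth.Prelude.Def_DRing2
import Groth.Prelude.Def_DDual2
import Groth.Agent.Lib.PcLift3_helper6
import Groth.Agent.S7011

/-!
# Minimal free complexes over a local ring (helper6)
-/

set_option autoImplicit false
universe u
open CategoryTheory CategoryTheory.Limits TensorProduct Pretriangulated DerivedCategory
attribute [local instance] HasDerivedCategory.standard

namespace Groth.Agent.Lib.PcLift_helper6

open DRing CochainComplex Groth.Agent.Lib.DMod_helper6 Groth.Agent.ExtendScalarsLib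
open HomologicalComplex

section bij

variable {R : Type u} [CommRing R] (I : Ideal R)
    (Pc : ObjectProperty (ModuleCat.{u} R)) [Pc.IsClosedUnderIsomorphisms]
    (h1 : ∀ X : ModuleCat.{u} R, Pc X → Module.Projective R X)
    (h2 : ∀ X Y : ModuleCat.{u} R, Pc X → Pc (ModuleCat.of R (X × Y)) → Pc Y)
    (h3 : ∀ (X Y : ModuleCat.{u} R) (f : X ⟶ Y), Pc X → Pc Y →
      LinearMap.range f.hom ⊔ I • (⊤ : Submodule R Y) = ⊤ → Function.Surjective f.hom)

include h1 h2 h3 in
theorem bijective_of_baseChange (A B : ModuleCat.{u} R) (hA : Pc A) (hB : Pc B) (g : A →ₗ[R] B)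
    (hg : Function.Bijective (g.baseChange (R ⧸ I))) : Function.Bijective g := by
  haveI := h1 A hA
  haveI := h1 B hB
  have hsurj : Function.Surjective g := surjective_of_baseChange I Pc h3 A B hA hB g hg.2
  obtain ⟨s, hs⟩ := Module.projective_lifting_property g LinearMap.id hsurj
  have hK : Pc (ModuleCat.of R (LinearMap.ker g)) := by
    apply h2 B (ModuleCat.of R (LinearMap.ker g)) hB
    exact Pc.prop_of_iso (splitEquiv g s hs).toModuleIso hA
  have hKs : Subsingleton ((R ⧸ I) ⊗[R] (LinearMap.ker g)) := by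
    constructor
    intro a b
    apply baseChange_subtype_injective I g s hs
    have h0 : g ∘ₗ (LinearMap.ker g).subtype = 0 := by
      apply LinearMap.ext
      intro k
      exact LinearMap.mem_ker.mp k.2
    have : ∀ t, (LinearMap.ker g).subtype.baseChange (R ⧸ I) t = 0 := by
      intro t
      apply hg.1
      rw [map_zero, ← LinearMap.comp_apply, ← LinearMap.baseChange_comp, h0,
        LinearMap.baseChange_zero]
      rfl
    rw [this a, this b]
  have hK0 : Subsingleton (LinearMap.ker g) :=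
    subsingleton_of_tensor I Pc h3 (ModuleCat.of R (LinearMap.ker g)) hK hKs
  refine ⟨?_, hsurj⟩
  rw [← LinearMap.ker_eq_bot]
  exact Submodule.eq_bot_of_subsingleton

include h1 h2 h3 in
theorem bijective_of_ES_map (A B : ModuleCat.{u} R) (hA : Pc A) (hB : Pc B) (f : A ⟶ B)
    (hf : Function.Bijective ((ES R (R ⧸ I)).map f).hom) : Function.Bijective f.hom := by
  refine bijective_of_baseChange I Pc h1 h2 h3 A B hA hB f.hom ?_
  have key : ∀ t, f.hom.baseChange (R ⧸ I) t = extendScalarsEquivTensor (S := R ⧸ I) B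
      (((ES R (R ⧸ I)).map f).hom ((extendScalarsEquivTensor (S := R ⧸ I) A).symm t)) := by
    intro t
    rw [ES_map_comm, LinearEquiv.apply_symm_apply]
  have h : ⇑(f.hom.baseChange (R ⧸ I)) = ⇑(extendScalarsEquivTensor (S := R ⧸ I) B) ∘
      ⇑((ES R (R ⧸ I)).map f).hom ∘ ⇑(extendScalarsEquivTensor (S := R ⧸ I) A).symm :=
    funext key
  rw [h]
  exact (extendScalarsEquivTensor (S := R ⧸ I) B).bijective.comp
    (hf.comp (extendScalarsEquivTensor (S := R ⧸ I) A).symm.bijective)

end bij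

section zeroD

variable {k : Type u} [Field k]

/-- the complex with zero differentials on the homology of `V` -/
noncomputable def HCx (V : Cx k) : Cx k where
  X i := V.homology i
  d _ _ := 0
  shape _ _ _ := rfl
  d_comp_d' _ _ _ _ _ := by simp

theorem HCx_d (V : Cx k) (i j : ℤ) : (HCx V).d i j = 0 := rfl

theorem quasiIso_of_zero_d {E V : Cx k} (hE : ∀ i j, E.d i j = 0)
    (a : ∀ i, E.X i ⟶ V.cycles i) (ha : ∀ i, IsIso (a i ≫ V.homologyπ i)) (α : E ⟶ V)
    (hα : ∀ i, α.f i = a i ≫ V.iCycles i) : QuasiIso α := by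
  rw [quasiIso_iff]
  intro i
  rw [quasiIsoAt_iff_isIso_homologyMap]
  haveI h1 : IsIso (E.iCycles i) := E.isIso_iCycles i (i + 1) (by simp) (hE _ _)
  haveI h2 : IsIso (E.homologyπ i) := E.isIso_homologyπ (i - 1) i (by simp) (hE _ _)
  haveI := ha i
  have hc : cyclesMap α i = E.iCycles i ≫ a i := by
    rw [← cancel_mono (V.iCycles i), cyclesMap_i, Category.assoc, hα]
  have key : E.homologyπ i ≫ homologyMap α i = E.iCycles i ≫ (a i ≫ V.homologyπ i) := by
    rw [homologyπ_naturality, hc, Category.assoc]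
  have : homologyMap α i = inv (E.homologyπ i) ≫ E.iCycles i ≫ (a i ≫ V.homologyπ i) := by
    rw [← key, IsIso.inv_hom_id_assoc]
  rw [this]
  infer_instance

theorem exists_quasiIso_HCx (V : Cx k) : ∃ α : HCx V ⟶ V, QuasiIso α := by
  have hproj : ∀ i, Projective (V.homology i) := fun i =>
    (IsProjective.iff_projective (V.homology i)).1 inferInstance
  let s : ∀ i, V.homology i ⟶ V.cycles i := fun i =>
    haveI := hproj i
    Projective.factorThru (𝟙 (V.homology i)) (V.homologyπ i)
  have hs : ∀ i, s i ≫ V.homologyπ i = 𝟙 _ := fun i => by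
    haveI := hproj i
    exact Projective.factorThru_comp _ _
  let a : ∀ i, (HCx V).X i ⟶ V.cycles i := fun i => s i
  let α : HCx V ⟶ V :=
    { f := fun i => a i ≫ V.iCycles i
      comm' := fun i j _ => by
        rw [HCx_d, zero_comp, Category.assoc, HomologicalComplex.iCycles_d, comp_zero] }
  refine ⟨α, quasiIso_of_zero_d (fun i j => HCx_d V i j) a (fun i => ?_) α (fun i => rfl)⟩
  have h : IsIso (s i ≫ V.homologyπ i) := by rw [hs]; infer_instance
  exact h

theorem finite_homology (V : Cx k) (i : ℤ) [Module.Finite k (V.X i)] :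
    Module.Finite k (V.homology i) := by
  have hinj : Function.Injective (V.iCycles i).hom :=
    (ModuleCat.mono_iff_injective _).1 inferInstance
  haveI : Module.Finite k (V.cycles i) := Module.Finite.of_injective (V.iCycles i).hom hinj
  have hsurj : Function.Surjective (V.homologyπ i).hom :=
    (ModuleCat.epi_iff_surjective _).1 inferInstance
  exact Module.Finite.of_surjective (V.homologyπ i).hom hsurj

theorem d_eq_zero_of_finrank_homology_eq (V : Cx k) (i : ℤ) [Module.Finite k (V.X i)]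
    (h : Module.finrank k (V.homology i) = Module.finrank k (V.X i)) : V.d i (i + 1) = 0 := by
  have hinj : Function.Injective (V.iCycles i).hom :=
    (ModuleCat.mono_iff_injective _).1 inferInstance
  haveI : Module.Finite k (V.cycles i) := Module.Finite.of_injective (V.iCycles i).hom hinj
  have hsurj : Function.Surjective (V.homologyπ i).hom :=
    (ModuleCat.epi_iff_surjective _).1 inferInstance
  have h1 : Module.finrank k (V.homology i) ≤ Module.finrank k (V.cycles i) := by
    have := LinearMap.finrank_range_le (V.homologyπ i).hom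
    rwa [LinearMap.range_eq_top.2 hsurj, finrank_top] at this
  have h2 : Module.finrank k (V.cycles i) ≤ Module.finrank k (V.X i) :=
    LinearMap.finrank_le_finrank_of_injective hinj
  have h3 : Module.finrank k (V.cycles i) = Module.finrank k (V.X i) := by omega
  have hsurj' : Function.Surjective (V.iCycles i).hom :=
    (LinearMap.injective_iff_surjective_of_finrank_eq_finrank h3).1 hinj
  haveI : Epi (V.iCycles i) := (ModuleCat.epi_iff_surjective _).2 hsurj'
  rw [← cancel_epi (V.iCycles i), HomologicalComplex.iCycles_d, comp_zero]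

theorem eq_of_homotopy_of_d_zero {C D : Cx k} (hC : ∀ i, C.d i (i + 1) = 0)
    (hD : ∀ i, D.d i (i + 1) = 0) {v w : C ⟶ D} (h : Homotopy v w) : v = w := by
  ext i : 1
  rw [h.comm i, dNext_eq h.hom (show (ComplexShape.up ℤ).Rel i (i + 1) from rfl),
    prevD_eq h.hom (show (ComplexShape.up ℤ).Rel (i - 1) i by simp), hC]
  have := hD (i - 1)
  rw [show i - 1 + 1 = i by ring] at this
  rw [this, zero_comp, comp_zero, zero_add, zero_add]

end zeroD

section main3

variable (R : Type u) [CommRing R] [IsLocalRing R]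
  [DRing.HasLBaseChange (Ideal.Quotient.mk (IsLocalRing.maximalIdeal R))] (K : Dual.D R)

/-- minimality predicate -/
def Min (P : Cx R) : Prop :=
  (∃ b : ℤ, VanishesAbove P b) ∧
  (∀ i : ℤ, Module.Free R (P.X i) ∧ Module.Finite R (P.X i) ∧
    Module.finrank R (P.X i) = Module.finrank (R ⧸ IsLocalRing.maximalIdeal R)
      (Dual.HD (R ⧸ IsLocalRing.maximalIdeal R)
        ((LBaseChange (Ideal.Quotient.mk (IsLocalRing.maximalIdeal R))).obj K) i)) ∧
  Nonempty (toD P ≅ K)

theorem nonempty_HD_equiv (P : Cx R) (b : ℤ) (hPb : VanishesAbove P b)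
    (hPp : ∀ i, Module.Projective R (P.X i)) (eP : toD P ≅ K) (i : ℤ) :
    Nonempty (Dual.HD (R ⧸ IsLocalRing.maximalIdeal R)
        ((LBaseChange (Ideal.Quotient.mk (IsLocalRing.maximalIdeal R))).obj K) i
      ≃ₗ[R ⧸ IsLocalRing.maximalIdeal R]
      ((ESc (Ideal.Quotient.mk (IsLocalRing.maximalIdeal R))).obj P).homology i) := by
  haveI : P.IsKProjective := isKProjective_of_projective_bounded P b hPb hPp
  obtain ⟨eL⟩ := nonempty_lBaseChange_iso_of_isKProjective
    (Ideal.Quotient.mk (IsLocalRing.maximalIdeal R)) P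
  let eκ : (LBaseChange (Ideal.Quotient.mk (IsLocalRing.maximalIdeal R))).obj K ≅
      toD ((ESc (Ideal.Quotient.mk (IsLocalRing.maximalIdeal R))).obj P) :=
    (LBaseChange (Ideal.Quotient.mk (IsLocalRing.maximalIdeal R))).mapIso eP.symm ≪≫ eL
  exact ⟨(((DerivedCategory.homologyFunctor _ i).mapIso eκ) ≪≫
    (DerivedCategory.homologyFunctorFactors _ i).app _).toLinearEquiv⟩

theorem finrank_ES_eq (X : ModuleCat.{u} R) [Module.Free R X] :
    letI : Field (R ⧸ IsLocalRing.maximalIdeal R) := Ideal.Quotient.field _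
    Module.finrank (R ⧸ IsLocalRing.maximalIdeal R)
      ((ES R (R ⧸ IsLocalRing.maximalIdeal R)).obj X) = Module.finrank R X := by
  letI : Field (R ⧸ IsLocalRing.maximalIdeal R) := Ideal.Quotient.field _
  rw [(extendScalarsEquivTensor (S := R ⧸ IsLocalRing.maximalIdeal R) X).finrank_eq]
  exact Module.finrank_baseChange

theorem ESc_d_eq_zero (P : Cx R) (hP : Min R K P) (i : ℤ) :
    ((ESc (Ideal.Quotient.mk (IsLocalRing.maximalIdeal R))).obj P).d i (i + 1) = 0 := by
  letI : Field (R ⧸ IsLocalRing.maximalIdeal R) := Ideal.Quotient.field _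
  obtain ⟨⟨b, hPb⟩, hPt, ⟨eP⟩⟩ := hP
  have hPp : ∀ i, Module.Projective R (P.X i) := fun i => by
    haveI := (hPt i).1
    infer_instance
  obtain ⟨eH⟩ := nonempty_HD_equiv R K P b hPb hPp eP i
  haveI : Module.Finite (R ⧸ IsLocalRing.maximalIdeal R)
      (((ESc (Ideal.Quotient.mk (IsLocalRing.maximalIdeal R))).obj P).X i) :=
    finite_ES (B := R ⧸ IsLocalRing.maximalIdeal R) (P.X i) (hPt i).2.1
  apply d_eq_zero_of_finrank_homology_eq
  rw [← eH.finrank_eq, ← (hPt i).2.2]
  haveI := (hPt i).1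
  exact (finrank_ES_eq R (P.X i)).symm

theorem iso_of_min (P Q : Cx R) (hP : Min R K P) (hQ : Min R K Q) : Nonempty (P ≅ Q) := by
  letI : Field (R ⧸ IsLocalRing.maximalIdeal R) := Ideal.Quotient.field _
  have hI : IsLocalRing.maximalIdeal R ≤ Ideal.jacobson (⊥ : Ideal R) :=
    (IsLocalRing.jacobson_eq_maximalIdeal ⊥ bot_ne_top).ge
  have hdP := ESc_d_eq_zero R K P hP
  have hdQ := ESc_d_eq_zero R K Q hQ
  obtain ⟨⟨bP, hPb⟩, hPt, ⟨eP⟩⟩ := hP
  obtain ⟨⟨bQ, hQb⟩, hQt, ⟨eQ⟩⟩ := hQ
  have hPp : ∀ i, Module.Projective R (P.X i) := fun i => by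
    haveI := (hPt i).1
    infer_instance
  have hQp : ∀ i, Module.Projective R (Q.X i) := fun i => by
    haveI := (hQt i).1
    infer_instance
  haveI : P.IsKProjective := isKProjective_of_projective_bounded P bP hPb hPp
  haveI : Q.IsKProjective := isKProjective_of_projective_bounded Q bQ hQb hQp
  obtain ⟨f, hf⟩ := exists_Q_map_eq_of_isKProjective (eP.hom ≫ eQ.inv)
  haveI : IsIso (DerivedCategory.Q.map f) := by rw [hf]; infer_instance
  haveI : QuasiIso f := (DerivedCategory.isIso_Q_map_iff_quasiIso _ f).1 inferInstance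
  obtain ⟨e, he⟩ := (IsKProjective.quasiIso_iff f).1 inferInstance
  let eb := (ES R (R ⧸ IsLocalRing.maximalIdeal R)).mapHomotopyEquiv e
  have h1 : eb.hom ≫ eb.inv = 𝟙 _ := eq_of_homotopy_of_d_zero hdP hdP eb.homotopyHomInvId
  have h2 : eb.inv ≫ eb.hom = 𝟙 _ := eq_of_homotopy_of_d_zero hdQ hdQ eb.homotopyInvHomId
  have hbij : ∀ i, Function.Bijective (f.f i).hom := by
    intro i
    have hPc : sfClass R (P.X i) := by
      haveI := (hPt i).1
      exact ⟨(hPt i).2.1, inferInstance⟩
    have hQc : sfClass R (Q.X i) := by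
      haveI := (hQt i).1
      exact ⟨(hQt i).2.1, inferInstance⟩
    refine bijective_of_ES_map (IsLocalRing.maximalIdeal R) (sfClass R) sf_h1
      (fun A B hA => (sf_h2 A B hA).1) (sf_h3 _ hI) (P.X i) (Q.X i) hPc hQc (f.f i) ?_
    have hiso : IsIso ((ES R (R ⧸ IsLocalRing.maximalIdeal R)).map (f.f i)) := by
      have h3 : (ES R (R ⧸ IsLocalRing.maximalIdeal R)).map (f.f i) = eb.hom.f i := by
        rw [← he]
        rfl
      rw [h3]
      exact ⟨eb.inv.f i, HomologicalComplex.congr_hom h1 i, HomologicalComplex.congr_hom h2 i⟩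
    exact ConcreteCategory.bijective_of_isIso _
  haveI : ∀ i, IsIso (f.f i) := fun i =>
    (ConcreteCategory.isIso_iff_bijective (f.f i)).2 (hbij i)
  haveI : IsIso f := HomologicalComplex.Hom.isIso_of_components f
  exact ⟨asIso f⟩

theorem min_main (hK : IsPseudoCoherent' R K) :
    (∀ i : ℤ, Module.Finite (R ⧸ IsLocalRing.maximalIdeal R)
      (Dual.HD (R ⧸ IsLocalRing.maximalIdeal R)
        ((LBaseChange (Ideal.Quotient.mk (IsLocalRing.maximalIdeal R))).obj K) i)) ∧
    (∃ b : ℤ, ∀ i : ℤ, b < i → Subsingleton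
      (Dual.HD (R ⧸ IsLocalRing.maximalIdeal R)
        ((LBaseChange (Ideal.Quotient.mk (IsLocalRing.maximalIdeal R))).obj K) i)) ∧
    (∃ P : Cx R, Min R K P) ∧ ∀ P Q : Cx R, Min R K P → Min R K Q → Nonempty (P ≅ Q) := by
  letI : Field (R ⧸ IsLocalRing.maximalIdeal R) := Ideal.Quotient.field _
  have hI : IsLocalRing.maximalIdeal R ≤ Ideal.jacobson (⊥ : Ideal R) :=
    (IsLocalRing.jacobson_eq_maximalIdeal ⊥ bot_ne_top).ge
  obtain ⟨F, c, hFc, hFff, ⟨eK⟩⟩ := hK
  have hFp : ∀ i, Module.Projective R (F.X i) := fun i => by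
    haveI := (hFff i).2
    infer_instance
  let Fb : Cx (R ⧸ IsLocalRing.maximalIdeal R) :=
    (ESc (Ideal.Quotient.mk (IsLocalRing.maximalIdeal R))).obj F
  have eH : ∀ i, Nonempty (Dual.HD (R ⧸ IsLocalRing.maximalIdeal R)
        ((LBaseChange (Ideal.Quotient.mk (IsLocalRing.maximalIdeal R))).obj K) i
      ≃ₗ[R ⧸ IsLocalRing.maximalIdeal R] Fb.homology i) :=
    fun i => nonempty_HD_equiv R K F c hFc hFp eK i
  have hFbfin : ∀ i, Module.Finite (R ⧸ IsLocalRing.maximalIdeal R) (Fb.X i) := fun i =>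
    finite_ES (B := R ⧸ IsLocalRing.maximalIdeal R) (F.X i) (hFff i).1
  have hHfin : ∀ i, Module.Finite (R ⧸ IsLocalRing.maximalIdeal R) (Fb.homology i) := fun i => by
    haveI := hFbfin i
    exact finite_homology Fb i
  have hHz : ∀ i, c < i → IsZero (Fb.homology i) := fun i hi =>
    ShortComplex.isZero_homology_of_isZero_X₂ _
      ((ES R (R ⧸ IsLocalRing.maximalIdeal R)).map_isZero (hFc i hi))
  refine ⟨fun i => ?_, ⟨c, fun i hi => ?_⟩, ?_, fun P Q hP hQ => iso_of_min R K P Q hP hQ⟩
  · obtain ⟨e⟩ := eH i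
    haveI := hHfin i
    exact Module.Finite.equiv e.symm
  · obtain ⟨e⟩ := eH i
    haveI : Subsingleton (Fb.homology i) := ModuleCat.subsingleton_of_isZero (hHz i hi)
    exact e.toEquiv.subsingleton
  · obtain ⟨α, hα⟩ := exists_quasiIso_HCx Fb
    haveI : F.IsKProjective := isKProjective_of_projective_bounded F c hFc hFp
    obtain ⟨eL⟩ := nonempty_lBaseChange_iso_of_isKProjective
      (Ideal.Quotient.mk (IsLocalRing.maximalIdeal R)) F
    haveI := hα
    haveI : IsIso (DerivedCategory.Q.map α) :=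
      (DerivedCategory.isIso_Q_map_iff_quasiIso _ α).2 hα
    let eE : toD (HCx Fb) ≅
        (LBaseChange (Ideal.Quotient.mk (IsLocalRing.maximalIdeal R))).obj K :=
      asIso (DerivedCategory.Q.map α) ≪≫ eL.symm ≪≫
        (LBaseChange (Ideal.Quotient.mk (IsLocalRing.maximalIdeal R))).mapIso eK
    have hEb : VanishesAbove (HCx Fb) c := fun i hi => hHz i hi
    have hEs : ∀ i : ℤ, Module.Finite (R ⧸ IsLocalRing.maximalIdeal R) ((HCx Fb).X i) ∧
        Module.IsStablyFree (R ⧸ IsLocalRing.maximalIdeal R) ((HCx Fb).X i) := fun i => by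
      refine ⟨hHfin i, ?_⟩
      haveI : Module.Free (R ⧸ IsLocalRing.maximalIdeal R) (Fb.homology i) :=
        Module.Free.of_divisionRing _ _
      exact (inferInstance : Module.IsStablyFree (R ⧸ IsLocalRing.maximalIdeal R) (Fb.homology i))
    obtain ⟨P, b', hPb, hPsf, ⟨eP⟩, ⟨ePE⟩, hPfree⟩ :=
      Groth.Agent.S7011.result R (IsLocalRing.maximalIdeal R) hI K ⟨F, c, hFc, hFff, ⟨eK⟩⟩
        (HCx Fb) c hEb hEs ⟨eE⟩
    refine ⟨P, ⟨b', hPb⟩, fun i => ?_, ⟨eP⟩⟩
    have hfr : Module.Free R (P.X i) := hPfree i (by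
      show Module.Free (R ⧸ IsLocalRing.maximalIdeal R) (Fb.homology i)
      exact Module.Free.of_divisionRing _ _)
    refine ⟨hfr, (hPsf i).1, ?_⟩
    obtain ⟨e⟩ := eH i
    have eX : ((ES R (R ⧸ IsLocalRing.maximalIdeal R)).obj (P.X i)) ≃ₗ[R ⧸ IsLocalRing.maximalIdeal R]
        Fb.homology i := ((HomologicalComplex.eval _ _ i).mapIso ePE).toLinearEquiv
    rw [e.finrank_eq, ← eX.finrank_eq]
    haveI := hfr
    exact (finrank_ES_eq R (P.X i)).symm

end main3

end Groth.Agent.Lib.PcLift_helper6
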