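import Mathlib
import Groth.Agent.Lib.NilpTor_helper2
import Groth.Agent.Lib.PcLift2_helper6

/-!
# Lifting along a nilpotent ideal (helper2)

* projective modules lift along `R → R/I` for `I` nilpotent (idempotent lifting in `End(F)`);
* Nakayama for nilpotent ideals;
* `K ⊗^L R/I` bounded above ⇒ `K` bounded above;
* a bounded above projective representative of `K ⊗^L R/I` lifts to one of `K`.
-/

set_option autoImplicit false
universe u
open CategoryTheory Limits TensorProduct

namespace Groth.Agent.Lib.NilpLift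

open Groth.Agent.Lib.KFlatMod Groth.Agent.Lib.DMod_helper6 Groth.Agent.Lib.NilpTor

attribute [local instance] HasDerivedCategory.standard

section Nak

variable {R : Type u} [CommRing R] (I : Ideal R)

/-- Nakayama for a nilpotent ideal -/
theorem eq_top_of_sup_smul_eq_top (hI : IsNilpotent I) {Y : Type*} [AddCommGroup Y] [Module R Y]
    (N : Submodule R Y) (h : N ⊔ I • (⊤ : Submodule R Y) = ⊤) : N = ⊤ := by
  obtain ⟨k, hk⟩ := hI
  have key : ∀ k : ℕ, N ⊔ I ^ k • (⊤ : Submodule R Y) = ⊤ := by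
    intro k
    induction k with
    | zero => rw [pow_zero, Ideal.one_eq_top, Submodule.top_smul, sup_top_eq]
    | succ k ih =>
      have h1 : I ^ k • (⊤ : Submodule R Y) ≤ N ⊔ I ^ (k + 1) • (⊤ : Submodule R Y) := by
        calc I ^ k • (⊤ : Submodule R Y) = I ^ k • (N ⊔ I • (⊤ : Submodule R Y)) := by rw [h]
          _ = I ^ k • N ⊔ I ^ k • (I • (⊤ : Submodule R Y)) := Submodule.smul_sup _ _ _
          _ ≤ N ⊔ I ^ (k + 1) • (⊤ : Submodule R Y) :=
            sup_le_sup Submodule.smul_le_right (by rw [← Submodule.mul_smul, ← pow_succ])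
      apply le_antisymm le_top
      calc (⊤ : Submodule R Y) = N ⊔ I ^ k • (⊤ : Submodule R Y) := ih.symm
        _ ≤ N ⊔ I ^ (k + 1) • (⊤ : Submodule R Y) := sup_le le_sup_left h1
  have h2 := key k
  rw [hk, Ideal.zero_eq_bot, Submodule.bot_smul, sup_bot_eq] at h2
  exact h2

theorem subsingleton_of_tensor_subsingleton (hI : IsNilpotent I) (Y : Type u) [AddCommGroup Y]
    [Module R Y] (h : Subsingleton ((R ⧸ I) ⊗[R] Y)) : Subsingleton Y := by
  have h1 : (⊥ : Submodule R Y) ⊔ I • (⊤ : Submodule R Y) = ⊤ := by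
    rw [bot_sup_eq, eq_top_iff]
    intro y _
    exact (Groth.Agent.Lib.PcLift_helper6.one_tmul_eq_zero_iff I Y y).1 (Subsingleton.elim _ _)
  have h2 := eq_top_of_sup_smul_eq_top I hI ⊥ h1
  exact (Submodule.subsingleton_iff R).1 (subsingleton_of_bot_eq_top h2)

theorem finite_of_tensor_finite (hI : IsNilpotent I) (Y : Type u) [AddCommGroup Y]
    [Module R Y] (h : Module.Finite (R ⧸ I) ((R ⧸ I) ⊗[R] Y)) : Module.Finite R Y := by
  classical
  obtain ⟨s, hs⟩ := h.fg_top
  choose g hg using fun t : (R ⧸ I) ⊗[R] Y => Groth.Agent.Lib.PcLift_helper6.exists_one_tmul I Y t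
  let N : Submodule R Y := Submodule.span R ((s.image g : Finset Y) : Set Y)
  have hN : N ⊔ I • (⊤ : Submodule R Y) = ⊤ := by
    rw [eq_top_iff]
    intro y _
    have hy : ((1 : R ⧸ I) ⊗ₜ[R] y) ∈ Submodule.span (R ⧸ I) (s : Set ((R ⧸ I) ⊗[R] Y)) := by
      rw [hs]; trivial
    -- every element of the span is of the form `1 ⊗ n` with `n ∈ N`
    have key : ∀ t ∈ Submodule.span (R ⧸ I) (s : Set ((R ⧸ I) ⊗[R] Y)),
        ∃ n ∈ N, t = (1 : R ⧸ I) ⊗ₜ[R] n := by
      intro t ht
      induction ht using Submodule.span_induction with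
      | mem t ht =>
        exact ⟨g t, Submodule.subset_span (Finset.mem_coe.2 (Finset.mem_image_of_mem g ht)), hg t⟩
      | zero => exact ⟨0, N.zero_mem, (tmul_zero _ _).symm⟩
      | add t₁ t₂ _ _ h₁ h₂ =>
        obtain ⟨n₁, hn₁, rfl⟩ := h₁
        obtain ⟨n₂, hn₂, rfl⟩ := h₂
        exact ⟨n₁ + n₂, N.add_mem hn₁ hn₂, (tmul_add _ _ _).symm⟩
      | smul c t _ h₁ =>
        obtain ⟨n, hn, rfl⟩ := h₁
        obtain ⟨r, rfl⟩ := Ideal.Quotient.mk_surjective c
        refine ⟨r • n, N.smul_mem r hn, ?_⟩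
        rw [TensorProduct.smul_tmul', smul_eq_mul, mul_one, ← TensorProduct.smul_tmul,
          ← Algebra.algebraMap_eq_smul_one]
        rfl
    obtain ⟨n, hn, hyn⟩ := key _ hy
    have hd : y - n ∈ I • (⊤ : Submodule R Y) := by
      rw [← Groth.Agent.Lib.PcLift_helper6.one_tmul_eq_zero_iff I Y, tmul_sub, hyn, sub_self]
    have : y = n + (y - n) := by abel
    rw [this]
    exact Submodule.add_mem_sup hn hd
  have hN' := eq_top_of_sup_smul_eq_top I hI N hN
  exact ⟨⟨s.image g, hN'⟩⟩

end Nak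

section Lift

variable {R : Type u} [CommRing R] (I : Ideal R)

/-- projective modules lift along the quotient by a nilpotent ideal -/
theorem exists_projective_lift (hI : IsNilpotent I) (E : Type u) [AddCommGroup E]
    [Module (R ⧸ I) E] [Module.Projective (R ⧸ I) E] :
    ∃ X : ModuleCat.{u} R, Module.Projective R X ∧ Nonempty ((R ⧸ I) ⊗[R] X ≃ₗ[R ⧸ I] E) := by
  letI : Module R E := Module.compHom E (Ideal.Quotient.mk I)
  haveI : IsScalarTower R (R ⧸ I) E := IsScalarTower.of_algebraMap_smul (fun _ _ => rfl)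
  let F := E →₀ R
  let q : F →ₗ[R] E := Finsupp.linearCombination R id
  let pb : (R ⧸ I) ⊗[R] F →ₗ[R ⧸ I] E := q.liftBaseChange (R ⧸ I)
  have hpb : Function.Surjective pb := fun x => ⟨(1 : R ⧸ I) ⊗ₜ[R] (Finsupp.single x (1 : R)), by
    show q.liftBaseChange (R ⧸ I) ((1 : R ⧸ I) ⊗ₜ[R] (Finsupp.single x (1 : R))) = x
    rw [LinearMap.liftBaseChange_tmul, one_smul]
    show Finsupp.linearCombination R id (Finsupp.single x (1 : R)) = x
    rw [Finsupp.linearCombination_single, one_smul]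
    rfl⟩
  obtain ⟨sb, hsb⟩ := Module.projective_lifting_property pb LinearMap.id hpb
  let eb : Module.End (R ⧸ I) ((R ⧸ I) ⊗[R] F) := sb ∘ₗ pb
  have hidem : IsIdempotentElem eb := by
    show (sb ∘ₗ pb) ∘ₗ (sb ∘ₗ pb) = sb ∘ₗ pb
    rw [LinearMap.comp_assoc, ← LinearMap.comp_assoc pb, hsb, LinearMap.id_comp]
  let ρ : Module.End R F →+* Module.End (R ⧸ I) ((R ⧸ I) ⊗[R] F) :=
    (Module.End.baseChangeHom R (R ⧸ I) F).toRingHom
  have hρ : ∀ f : Module.End R F, ρ f = f.baseChange (R ⧸ I) := fun f => rfl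
  obtain ⟨e₀, he₀⟩ := Groth.Agent.Lib.PcLift_helper6.exists_baseChange_eq I (X := F) (N := F) eb
  have hrange : ∃ x, ρ x = eb := ⟨e₀, he₀⟩
  have hker : ∀ f ∈ RingHom.ker ρ, IsNilpotent f := by
    intro f hf
    rw [RingHom.mem_ker, hρ] at hf
    have h1 : ∀ x : F, f x ∈ I • (⊤ : Submodule R F) := fun x => by
      rw [← Groth.Agent.Lib.PcLift_helper6.one_tmul_eq_zero_iff I F]
      have := LinearMap.congr_fun hf ((1 : R ⧸ I) ⊗ₜ[R] x)
      rwa [LinearMap.baseChange_tmul] at this
    have h2 : ∀ (k : ℕ) (x : F), (f ^ k) x ∈ I ^ k • (⊤ : Submodule R F) := by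
      intro k
      induction k with
      | zero =>
        intro x
        rw [pow_zero, Ideal.one_eq_top, Submodule.top_smul]
        trivial
      | succ k ih =>
        intro x
        rw [show f ^ (k + 1) = f * f ^ k from pow_succ' f k, Module.End.mul_apply]
        have h3 : ∀ y ∈ I ^ k • (⊤ : Submodule R F), f y ∈ I ^ (k + 1) • (⊤ : Submodule R F) := by
          intro y hy
          refine Submodule.smul_induction_on hy (fun r hr n _ => ?_) (fun a b ha hb => ?_)
          · rw [map_smul, pow_succ, Submodule.mul_smul]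
            exact Submodule.smul_mem_smul hr (h1 n)
          · rw [map_add]
            exact Submodule.add_mem _ ha hb
        exact h3 _ (ih x)
    obtain ⟨k, hk⟩ := hI
    refine ⟨k, LinearMap.ext fun x => ?_⟩
    have := h2 k x
    rw [hk, Ideal.zero_eq_bot, Submodule.bot_smul, Submodule.mem_bot] at this
    rw [this]
    rfl
  obtain ⟨e, he, hee⟩ := exists_isIdempotentElem_eq_of_ker_isNilpotent
    (R := Module.End R F) (S := Module.End (R ⧸ I) ((R ⧸ I) ⊗[R] F)) ρ hker eb
    (RingHom.mem_range.2 hrange) hidem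
  let X : Submodule R F := LinearMap.range e
  let r : F →ₗ[R] X := e.rangeRestrict
  have hri : r ∘ₗ X.subtype = LinearMap.id := by
    refine LinearMap.ext fun x => Subtype.ext ?_
    obtain ⟨y, hy⟩ := x.2
    show e (x : F) = (x : F)
    rw [← hy]
    exact LinearMap.congr_fun he.eq y
  have hir : X.subtype ∘ₗ r = e := rfl
  haveI : Module.Projective R X := Module.Projective.of_split X.subtype r hri
  let ib : (R ⧸ I) ⊗[R] X →ₗ[R ⧸ I] (R ⧸ I) ⊗[R] F := X.subtype.baseChange (R ⧸ I)
  let rb : (R ⧸ I) ⊗[R] F →ₗ[R ⧸ I] (R ⧸ I) ⊗[R] X := r.baseChange (R ⧸ I)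
  have h1 : rb ∘ₗ ib = LinearMap.id := by
    show r.baseChange (R ⧸ I) ∘ₗ X.subtype.baseChange (R ⧸ I) = LinearMap.id
    rw [← LinearMap.baseChange_comp, hri, LinearMap.baseChange_id]
  have h2 : ib ∘ₗ rb = sb ∘ₗ pb := by
    show X.subtype.baseChange (R ⧸ I) ∘ₗ r.baseChange (R ⧸ I) = eb
    rw [← LinearMap.baseChange_comp, hir]
    exact (hρ e).symm.trans hee
  refine ⟨ModuleCat.of R X, (inferInstance : Module.Projective R X),
    ⟨LinearEquiv.ofLinearMap (pb ∘ₗ ib) (rb ∘ₗ sb) ?_ ?_⟩⟩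
  · calc (pb ∘ₗ ib) ∘ₗ (rb ∘ₗ sb) = pb ∘ₗ (ib ∘ₗ rb) ∘ₗ sb := by
          simp only [LinearMap.comp_assoc]
      _ = (pb ∘ₗ sb) ∘ₗ (pb ∘ₗ sb) := by rw [h2]; simp only [LinearMap.comp_assoc]
      _ = LinearMap.id := by rw [hsb, LinearMap.id_comp]
  · calc (rb ∘ₗ sb) ∘ₗ (pb ∘ₗ ib) = rb ∘ₗ (sb ∘ₗ pb) ∘ₗ ib := by
          simp only [LinearMap.comp_assoc]
      _ = (rb ∘ₗ ib) ∘ₗ (rb ∘ₗ ib) := by rw [← h2]; simp only [LinearMap.comp_assoc]
      _ = LinearMap.id := by rw [h1, LinearMap.id_comp]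

end Lift

section Main

variable {A B : Type u} [CommRing A] [CommRing B] [Algebra A B]

/-- if `K' ⊗^L B` is bounded above then so is `K'` -/
theorem isLE_of_lBaseChange (hsurj : Function.Surjective (algebraMap A B))
    (hnil : IsNilpotent (RingHom.ker (algebraMap A B))) [DRing.HasLBaseChange (algebraMap A B)]
    (K' : Dual.D A) (E : DRing.Cx B) (b : ℤ) (hEb : DRing.VanishesAbove E b)
    (hEfl : DRing.TermwiseFlat E)
    (eE : DRing.toD E ≅ (DRing.LBaseChange (algebraMap A B)).obj K') :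
    DerivedCategory.IsLE K' b := by
  have hE : KF B E := kf_of_vanishesAbove E b hEb hEfl
  obtain ⟨P, π, hπ, hPkp, hPkf, hPfl⟩ :=
    Groth.Agent.Lib.KProjRes.exists_kproj_resolution (DerivedCategory.Q.objPreimage K')
  haveI := hπ
  haveI := hPkp
  haveI : IsIso (DerivedCategory.Q.map π) :=
    (DerivedCategory.isIso_Q_map_iff_quasiIso _ _).2 inferInstance
  let eP : DRing.toD P ≅ K' :=
    asIso (DerivedCategory.Q.map π) ≪≫ DerivedCategory.Q.objObjPreimageIso K'
  exact isLE_of_subsingleton_HD K' b (fun i hi =>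
    (exactAt_iff_subsingleton_HD eP i).1
      (exactAt_of_isZero_T_unit P i
        (isZero_T_of_lBaseChange hsurj hnil K' P hPkf hPfl eP E hE eE i (hEb i hi) _)))

end Main

section Quot

variable {R : Type u} [CommRing R] (I : Ideal R)

/-- the class of projective modules -/
def projProp : ObjectProperty (ModuleCat.{u} R) := fun X => Module.Projective R X

instance : (projProp (R := R)).IsClosedUnderIsomorphisms where
  of_iso {X Y} e hX := by
    haveI : Module.Projective R X := hX
    exact Module.Projective.of_equiv e.toLinearEquiv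

/-- **lifting a bounded above projective representative of `K ⊗^L R/I`** -/
theorem exists_lift (hI : IsNilpotent I) [DRing.HasLBaseChange (Ideal.Quotient.mk I)]
    (K : Dual.D R) (E : DRing.Cx (R ⧸ I)) (b : ℤ) (hEb : DRing.VanishesAbove E b)
    (hEp : ∀ i : ℤ, Module.Projective (R ⧸ I) (E.X i))
    (hE : Nonempty (DRing.toD E ≅ (DRing.LBaseChange (Ideal.Quotient.mk I)).obj K)) :
    ∃ (P : DRing.Cx R) (b' : ℤ), DRing.VanishesAbove P b' ∧
      (∀ i : ℤ, Module.Projective R (P.X i)) ∧ Nonempty (DRing.toD P ≅ K) ∧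
      Nonempty ((((ModuleCat.extendScalars (Ideal.Quotient.mk I)).mapHomologicalComplex
        (ComplexShape.up ℤ)).obj P) ≅ E) := by
  obtain ⟨eE⟩ := hE
  have hsurj : Function.Surjective (algebraMap R (R ⧸ I)) := Ideal.Quotient.mk_surjective
  have hnil : IsNilpotent (RingHom.ker (algebraMap R (R ⧸ I))) := by
    have : RingHom.ker (algebraMap R (R ⧸ I)) = I := Ideal.mk_ker
    rw [this]
    exact hI
  haveI : DRing.HasLBaseChange (algebraMap R (R ⧸ I)) :=
    (inferInstance : DRing.HasLBaseChange (Ideal.Quotient.mk I))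
  haveI : DerivedCategory.IsLE K b :=
    isLE_of_lBaseChange hsurj hnil K E b hEb
      (fun i => by haveI := hEp i; infer_instance) eE
  obtain ⟨F, hFfree, hFb, ⟨eF⟩⟩ := exists_free_resolution K b
  obtain ⟨P, b', hPb, hPp, ⟨eP⟩, ⟨eE'⟩⟩ :=
    Groth.Agent.Lib.PcLift_helper6.main2 I (projProp (R := R))
      (fun X hX => hX)
      (fun X Y hX => ⟨fun h => by
          haveI : Module.Projective R (X × Y) := h
          exact Module.Projective.of_split (LinearMap.inr R X Y) (LinearMap.snd R X Y)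
            (by ext; simp),
        fun h => by
          haveI : Module.Projective R X := hX
          haveI : Module.Projective R Y := h
          exact (inferInstance : Module.Projective R (X × Y))⟩)
      (fun X Y f _ _ h => by
        have := eq_top_of_sup_smul_eq_top I hI (LinearMap.range f.hom) h
        exact LinearMap.range_eq_top.1 this)
      F b hFb (fun i => by haveI := hFfree i; exact (inferInstance : Module.Projective R (F.X i)))
      E b hEb
      (fun i => by
        haveI := hEp i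
        obtain ⟨X, hX, hXe⟩ := exists_projective_lift I hI (E.X i)
        exact ⟨X, hX, hXe⟩)
      ⟨eE ≪≫ (DRing.LBaseChange (Ideal.Quotient.mk I)).mapIso eF.symm⟩
  exact ⟨P, b', hPb, hPp, ⟨eP ≪≫ eF⟩, ⟨eE'⟩⟩

end Quot

end Groth.Agent.Lib.NilpLift
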