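import Mathlib
import Groth.Prelude.Def_DRing2
import Groth.Prelude.Def_DDual2
import Groth.Agent.Lib.PcLift2_helper6

/-!
# Lifting a representative along `R → R/I`, quasi-isomorphism version (helper2)

A variant of helper6's `PcLift_helper6.main2` where the comparison with `K ⊗^L R/I` is replaced by
a quasi-isomorphism `F/IF → E` of complexes; no derived base change functor is needed.
-/

set_option autoImplicit false
universe u
open CategoryTheory CategoryTheory.Limits TensorProduct Pretriangulated DerivedCategory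
attribute [local instance] HasDerivedCategory.standard

namespace Groth.Agent.Lib.PcLift3

open DRing CochainComplex Groth.Agent.Lib.DMod_helper6 Groth.Agent.ExtendScalarsLib
  Groth.Agent.Lib.PcLift_helper6

variable {R : Type u} [CommRing R] (I : Ideal R)
    (Pc : ObjectProperty (ModuleCat.{u} R)) [Pc.IsClosedUnderIsomorphisms]
    (h1 : ∀ X : ModuleCat.{u} R, Pc X → Module.Projective R X)
    (h2 : ∀ X Y : ModuleCat.{u} R, Pc X → (Pc (ModuleCat.of R (X × Y)) ↔ Pc Y))
    (h3 : ∀ (X Y : ModuleCat.{u} R) (f : X ⟶ Y), Pc X → Pc Y →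
      LinearMap.range f.hom ⊔ I • (⊤ : Submodule R Y) = ⊤ → Function.Surjective f.hom)

include h1 h2 h3 in
theorem main2' (F : Cx R) (c : ℤ) (hFc : VanishesAbove F c) (hF : ∀ i, Pc (F.X i))
    (E : Cx (R ⧸ I)) (b : ℤ) (hEb : VanishesAbove E b)
    (hEt : ∀ i : ℤ, ∃ X : ModuleCat.{u} R, Pc X ∧
      Nonempty ((R ⧸ I) ⊗[R] X ≃ₗ[R ⧸ I] E.X i))
    (α : (ESc (Ideal.Quotient.mk I)).obj F ⟶ E) (hα : QuasiIso α) :
    ∃ (P : Cx R) (b' : ℤ), VanishesAbove P b' ∧ (∀ i, Pc (P.X i)) ∧ Nonempty (toD P ≅ toD F) ∧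
      Nonempty ((ESc (Ideal.Quotient.mk I)).obj P ≅ E) := by
  have hFp : ∀ i, Module.Projective R (F.X i) := fun i => h1 _ (hF i)
  haveI : F.IsKProjective := isKProjective_of_projective_bounded F c hFc hFp
  let Fb : Cx (R ⧸ I) := (ESc (Ideal.Quotient.mk I)).obj F
  haveI hαiso : IsIso (Q.map α) := (DerivedCategory.isIso_Q_map_iff_quasiIso _ _).2 hα
  have hTD := DerivedCategory.mappingCone_triangle_distinguished α
  have hCzero : IsZero (toD (mappingCone α)) := (Triangle.isZero₃_iff_isIso₁ _ hTD).2 hαiso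
  have hCex : (mappingCone α).Acyclic := fun i =>
    exactAt_of_isZero_homology_toD _ i ((DerivedCategory.homologyFunctor _ i).map_isZero hCzero)
  obtain ⟨B, hcB, hbB⟩ : ∃ B : ℤ, c ≤ B ∧ b ≤ B := ⟨max c b, le_max_left _ _, le_max_right _ _⟩
  have hCb : ∀ i : ℤ, B < i → IsZero ((mappingCone α).X i) := fun i hi =>
    IsZero.of_iso (isZero_biprod ((ES R (R ⧸ I)).map_isZero (hFc (i + 1) (by omega)))
      (hEb i (by omega))) (coneXIso α i)
  have hCt : ∀ i : ℤ, ∃ X : ModuleCat.{u} R, Pc X ∧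
      Nonempty ((R ⧸ I) ⊗[R] X ≃ₗ[R ⧸ I] (mappingCone α).X i) := by
    intro i
    obtain ⟨X, hX, ⟨ψ⟩⟩ := hEt i
    refine ⟨ModuleCat.of R (F.X (i + 1) × X), (h2 _ _ (hF (i + 1))).2 hX, ⟨?_⟩⟩
    exact (TensorProduct.prodRight R (R ⧸ I) (R ⧸ I) (F.X (i + 1)) X).trans
      (((extendScalarsEquivTensor (S := R ⧸ I) (F.X (i + 1))).symm.prodCongr ψ).trans
        ((ModuleCat.biprodIsoProd _ _).symm.toLinearEquiv.trans
          (coneXIso α i).symm.toLinearEquiv))
  obtain ⟨C, hCb', hCa, hCP, ⟨e⟩⟩ := main I Pc h1 (fun X Y hX => (h2 X Y hX).1) h3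
    (mappingCone α) B hCb hCex hCt
  have hCp : ∀ i, Module.Projective R (C.X i) := fun i => h1 _ (hCP i)
  haveI : C.IsKProjective := isKProjective_of_projective_bounded C B hCb' hCp
  have hC : Homotopy (𝟙 C) 0 := IsKProjective.homotopyZero (𝟙 C) hCa
  let G : Cx R := F⟦(1 : ℤ)⟧
  have hG : ∀ i, Pc (G.X i) := fun i => hF (i + 1)
  let e₃ : (ESc (Ideal.Quotient.mk I)).obj G ≅ Fb⟦(1 : ℤ)⟧ :=
    ((ESc (Ideal.Quotient.mk I)).commShiftIso (1 : ℤ)).app F
  let SE := mappingCone.triangleRotateShortComplex α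
  have hSE : SE.ShortExact := HomologicalComplex.shortExact_of_degreewise_shortExact _
    (fun i => (mappingCone.triangleRotateShortComplexSplitting α i).shortExact)
  let g' : mappingCone α ⟶ Fb⟦(1 : ℤ)⟧ := SE.g
  haveI hg'epi : Epi g' := hSE.epi_g
  let π : (ESc (Ideal.Quotient.mk I)).obj C ⟶ (ESc (Ideal.Quotient.mk I)).obj G :=
    e.hom ≫ g' ≫ e₃.inv
  obtain ⟨p, hp⟩ := exists_ESc_map_eq I C G hCp hC π
  have hpsurj : ∀ i, Function.Surjective (p.f i).hom := by
    intro i
    refine surjective_of_ES_map I Pc h3 _ _ (hCP i) (hG i) (p.f i) ?_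
    have h1' : (ES R (R ⧸ I)).map (p.f i) = π.f i := by
      rw [← hp]; rfl
    rw [h1']
    haveI : Epi π := by
      show Epi (e.hom ≫ g' ≫ e₃.inv)
      infer_instance
    haveI : Epi (π.f i) := by
      change Epi ((HomologicalComplex.eval _ _ i).map π)
      infer_instance
    exact (ModuleCat.epi_iff_surjective _).1 this
  haveI hpepi : Epi p :=
    HomologicalComplex.epi_of_epi_f p (fun i => (ModuleCat.epi_iff_surjective _).2 (hpsurj i))
  let S : ShortComplex (Cx R) := ShortComplex.mk (kernel.ι p) p (kernel.condition p)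
  have hS : S.ShortExact :=
    ShortComplex.ShortExact.mk' (ShortComplex.exact_of_f_is_kernel _ (kernelIsKernel p))
      (inferInstanceAs (Mono (kernel.ι p))) hpepi
  have hSi : ∀ i, (S.map (HomologicalComplex.eval _ _ i)).ShortExact :=
    (HomologicalComplex.shortExact_iff_degreewise_shortExact S).1 hS
  have hσ : ∀ i, Nonempty (S.map (HomologicalComplex.eval _ _ i)).Splitting := by
    intro i
    haveI : Projective (S.map (HomologicalComplex.eval _ _ i)).X₃ :=
      (IsProjective.iff_projective (G.X i)).1 (h1 _ (hG i))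
    haveI := (hSi i).epi_g
    haveI := (hSi i).mono_f
    exact ⟨ShortComplex.Splitting.ofExactOfSection _ (hSi i).exact
      (Projective.factorThru (𝟙 (S.map (HomologicalComplex.eval _ _ i)).X₃)
        (S.map (HomologicalComplex.eval _ _ i)).g)
      (Projective.factorThru_comp _ _) inferInstance⟩
  let P : Cx R := kernel p
  have hPP : ∀ i, Pc (P.X i) := by
    intro i
    obtain ⟨σ⟩ := hσ i
    have iso1 : C.X i ≅ P.X i ⊞ G.X i := σ.isoBinaryBiproduct
    have iso2 : C.X i ≅ ModuleCat.of R (G.X i × P.X i) :=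
      iso1 ≪≫ biprod.braiding _ _ ≪≫ ModuleCat.biprodIsoProd _ _
    exact (h2 _ _ (hG i)).1 (Pc.prop_of_iso iso2 (hCP i))
  have hPb : VanishesAbove P B := fun i hi => by
    haveI := (hSi i).mono_f
    have hz : IsZero (S.map (HomologicalComplex.eval _ _ i)).X₂ := hCb' i hi
    have : IsZero (S.map (HomologicalComplex.eval _ _ i)).X₁ :=
      IsZero.of_mono ((S.map (HomologicalComplex.eval _ _ i)).f) hz
    exact this
  have hT := DerivedCategory.triangleOfSES_distinguished hS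
  have hCz : IsZero (toD C) := isZero_toD_of_exactAt C hCa
  haveI : IsIso (triangleOfSES hS).mor₃ := (Triangle.isZero₂_iff_isIso₃ _ hT).1 hCz
  let i1 := asIso (triangleOfSES hS).mor₃
  let i1' : toD G ≅ (toD P)⟦(1 : ℤ)⟧ := i1
  let i2 : toD G ≅ (toD F)⟦(1 : ℤ)⟧ := (Q.commShiftIso (1 : ℤ)).app F
  have i3 : toD P ≅ toD F :=
    (CategoryTheory.shiftFunctor (DerivedCategory (ModuleCat.{u} R)) (1 : ℤ)).preimageIso
      (i1'.symm ≪≫ i2)
  let S' := S.map (ESc (Ideal.Quotient.mk I))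
  have hS' : S'.ShortExact := HomologicalComplex.shortExact_of_degreewise_shortExact _ (fun i => by
    obtain ⟨σ⟩ := hσ i
    have := (σ.map (ES R (R ⧸ I))).shortExact
    exact this)
  obtain ⟨ePE⟩ := nonempty_iso_of_shortExact hS' hSE e e₃ (by
    show (ESc (Ideal.Quotient.mk I)).map p ≫ e₃.hom = e.hom ≫ g'
    have hp' : (ESc (Ideal.Quotient.mk I)).map p = e.hom ≫ g' ≫ e₃.inv := hp
    have h33 : e₃.inv ≫ e₃.hom = 𝟙 _ := e₃.inv_hom_id
    rw [hp', Category.assoc, Category.assoc, h33, Category.comp_id])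
  exact ⟨P, B, hPb, hPP, ⟨i3⟩, ⟨ePE⟩⟩

end Groth.Agent.Lib.PcLift3
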