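import Mathlib
import Groth.Agent.Lib.NilpLift_helper2
import Groth.Agent.Lib.PcLift3_helper2

/-!
# Pseudo-coherence along a surjection with nilpotent kernel (helper2)

* transport of complexes along a ring isomorphism `ψ : S ≃+* R` (restriction of scalars);
* `K' ⊗^L R` pseudo-coherent over `R` ⇔ `K'` pseudo-coherent over `R'`, for `R' → R` surjective
  with nilpotent kernel.
-/

set_option autoImplicit false
universe u
open CategoryTheory Limits TensorProduct

namespace Groth.Agent.Lib.NilpPc

open Groth.Agent.Lib.KFlatMod Groth.Agent.Lib.DMod_helper6 Groth.Agent.Lib.NilpTor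
  Groth.Agent.Lib.NilpLift

attribute [local instance] HasDerivedCategory.standard

section transport

variable {R' S R : Type u} [CommRing R'] [CommRing S] [CommRing R] (q : R' →+* S) (ψ : S ≃+* R)

instance isIso_unit : IsIso (ModuleCat.extendRestrictScalarsAdj.{u} ψ.toRingHom).unit := by
  haveI : (ModuleCat.extendScalars.{u, u, u} ψ.toRingHom).IsEquivalence :=
    (ModuleCat.extendRestrictScalarsAdj.{u} ψ.toRingHom).isEquivalence_left_of_isEquivalence_right
  infer_instance

/-- `(S ⊗ -) ≅ res_ψ (R ⊗ -)` for a ring isomorphism `ψ : S ≃+* R` -/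
noncomputable def extResIso :
    ModuleCat.extendScalars.{u, u, u} q ≅
      ModuleCat.extendScalars.{u, u, u} (ψ.toRingHom.comp q) ⋙
        ModuleCat.restrictScalars.{u} ψ.toRingHom :=
  (Functor.rightUnitor _).symm ≪≫
    Functor.isoWhiskerLeft _ (asIso (ModuleCat.extendRestrictScalarsAdj.{u} ψ.toRingHom).unit) ≪≫
    (Functor.associator _ _ _).symm ≪≫
    Functor.isoWhiskerRight (ModuleCat.extendScalarsComp q ψ.toRingHom).symm _

theorem exists_quasiIso_res (φ : R' →+* R) (hφ : φ = ψ.toRingHom.comp q)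
    (F : DRing.Cx R') (E : DRing.Cx R) (α' : (ESc φ).obj F ⟶ E) (hα' : QuasiIso α') :
    ∃ α : (ESc q).obj F ⟶
        ((ModuleCat.restrictScalars.{u} ψ.toRingHom).mapHomologicalComplex
          (ComplexShape.up ℤ)).obj E,
      QuasiIso α := by
  subst hφ
  let i1 := (NatIso.mapHomologicalComplex (extResIso q ψ) (ComplexShape.up ℤ)).app F
  let resC := (ModuleCat.restrictScalars.{u} ψ.toRingHom).mapHomologicalComplex
    (ComplexShape.up ℤ)
  let i2 : ((ModuleCat.extendScalars.{u, u, u} (ψ.toRingHom.comp q) ⋙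
        ModuleCat.restrictScalars.{u} ψ.toRingHom).mapHomologicalComplex
          (ComplexShape.up ℤ)).obj F ≅ resC.obj ((ESc (ψ.toRingHom.comp q)).obj F) :=
    HomologicalComplex.Hom.isoOfComponents (fun i => Iso.refl _)
      (by intro i j _; exact (Category.id_comp _).trans (Category.comp_id _).symm)
  haveI := hα'
  haveI : QuasiIso (resC.map α') := inferInstance
  exact ⟨i1.hom ≫ i2.hom ≫ resC.map α', inferInstance⟩

/-- restriction of scalars along a ring isomorphism preserves finite free modules -/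
theorem exists_basis_res (M : ModuleCat.{u} R) [Module.Free R M] [Module.Finite R M] :
    ∃ (ι : Type u) (_ : Fintype ι),
      Nonempty (Module.Basis ι S ((ModuleCat.restrictScalars.{u} ψ.toRingHom).obj M)) := by
  let b := Module.Free.chooseBasis R M
  refine ⟨Module.Free.ChooseBasisIndex R M, inferInstance, ⟨?_⟩⟩
  exact @Module.Basis.mapCoeffs (Module.Free.ChooseBasisIndex R M) R M _ _ _ b S _
    (inferInstance : Module S ((ModuleCat.restrictScalars.{u} ψ.toRingHom).obj M)) ψ.symm
    (fun c x => by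
      show ψ.toRingHom (ψ.symm c) • x = c • x
      simp)

end transport

section main

variable {R' R : Type u} [CommRing R'] [CommRing R]

theorem pc_lBaseChange (φ : R' →+* R) [DRing.HasLBaseChange φ] (K' : Dual.D R')
    (h : DRing.IsPseudoCoherent' R' K') :
    DRing.IsPseudoCoherent' R ((DRing.LBaseChange φ).obj K') := by
  obtain ⟨E, b, hEb, hEff, ⟨e⟩⟩ := h
  haveI : E.IsKProjective := isKProjective_of_projective_bounded E b hEb
    (fun i => by haveI := (hEff i).2; infer_instance)
  obtain ⟨eL⟩ := nonempty_lBaseChange_iso_of_isKProjective φ E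
  letI := φ.toAlgebra
  exact ⟨(ESc φ).obj E, b,
    fun i hi => (ModuleCat.extendScalars.{u, u, u} φ).map_isZero (hEb i hi),
    fun i => ⟨finite_ES (B := R) (E.X i) (hEff i).1, free_ES (B := R) (E.X i) (hEff i).2⟩,
    ⟨eL.symm ≪≫ (DRing.LBaseChange φ).mapIso e⟩⟩

theorem pc_of_lBaseChange (φ : R' →+* R)
    (hφ : Function.Surjective φ) (hnil : IsNilpotent (RingHom.ker φ)) [DRing.HasLBaseChange φ]
    (K' : Dual.D R') (h : DRing.IsPseudoCoherent' R ((DRing.LBaseChange φ).obj K')) :
    DRing.IsPseudoCoherent' R' K' := by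
  classical
  obtain ⟨E, b, hEb, hEff, ⟨eE⟩⟩ := h
  letI : Algebra R' R := φ.toAlgebra
  haveI : DRing.HasLBaseChange (algebraMap R' R) := (inferInstance : DRing.HasLBaseChange φ)
  haveI : DerivedCategory.IsLE K' b :=
    isLE_of_lBaseChange (A := R') (B := R) hφ hnil K' E b hEb
      (fun i => by haveI := (hEff i).2; infer_instance) eE
  obtain ⟨F, hFfree, hFb, ⟨eF⟩⟩ := exists_free_resolution K' b
  have hFp : ∀ i, Module.Projective R' (F.X i) := fun i => by
    haveI := hFfree i; infer_instance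
  haveI : F.IsKProjective := isKProjective_of_projective_bounded F b hFb hFp
  obtain ⟨eL⟩ := nonempty_lBaseChange_iso_of_isKProjective φ F
  haveI : ((ESc φ).obj F).IsKProjective := isKProjective_of_projective_bounded _ b
    (fun i hi => (ModuleCat.extendScalars.{u, u, u} φ).map_isZero (hFb i hi))
    (fun i => projective_ES (A := R') (B := R) (F.X i) (hFp i))
  let ι : DRing.toD ((ESc φ).obj F) ≅ DRing.toD E :=
    eL.symm ≪≫ (DRing.LBaseChange φ).mapIso eF ≪≫ eE.symm
  obtain ⟨α', hα'⟩ := exists_Q_map_eq_of_isKProjective ι.hom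
  have hα'q : QuasiIso α' := by
    rw [← DerivedCategory.isIso_Q_map_iff_quasiIso, hα']
    infer_instance
  let I := RingHom.ker φ
  have hI : IsNilpotent I := hnil
  let ψ : (R' ⧸ I) ≃+* R := RingHom.quotientKerEquivOfSurjective hφ
  have hφq : φ = ψ.toRingHom.comp (Ideal.Quotient.mk I) := by
    ext x
    exact (RingHom.quotientKerEquivOfSurjective_apply_mk hφ x).symm
  obtain ⟨α, hα⟩ := exists_quasiIso_res (Ideal.Quotient.mk I) ψ φ hφq F E α' hα'q
  let Ebar : DRing.Cx (R' ⧸ I) := ((ModuleCat.restrictScalars.{u} ψ.toRingHom).mapHomologicalComplex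
    (ComplexShape.up ℤ)).obj E
  have hEbar : DRing.VanishesAbove Ebar b := fun i hi =>
    (ModuleCat.restrictScalars.{u} ψ.toRingHom).map_isZero (hEb i hi)
  have hmodel : ∀ i, ∃ X : ModuleCat.{u} R', Module.Finite R' X ∧ Module.Free R' X ∧
      Nonempty ((R' ⧸ I) ⊗[R'] X ≃ₗ[R' ⧸ I] Ebar.X i) := fun i => by
    haveI := (hEff i).1
    haveI := (hEff i).2
    obtain ⟨κ, _, ⟨bb⟩⟩ := exists_basis_res ψ (E.X i)
    refine ⟨ModuleCat.of R' (κ → R'), (inferInstance : Module.Finite R' (κ → R')),
      (inferInstance : Module.Free R' (κ → R')), ⟨?_⟩⟩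
    exact (TensorProduct.piScalarRight R' (R' ⧸ I) (R' ⧸ I) κ) ≪≫ₗ bb.equivFun.symm
  have h1 : ∀ X : ModuleCat.{u} R', projProp X → Module.Projective R' X := fun X hX => hX
  have h2 : ∀ X Y : ModuleCat.{u} R', projProp X →
      (projProp (ModuleCat.of R' (X × Y)) ↔ projProp Y) := fun X Y hX => ⟨fun h => by
          haveI : Module.Projective R' (X × Y) := h
          exact Module.Projective.of_split (LinearMap.inr R' X Y) (LinearMap.snd R' X Y)
            (by ext; simp),
        fun h => by
          haveI : Module.Projective R' X := hX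
          haveI : Module.Projective R' Y := h
          exact (inferInstance : Module.Projective R' (X × Y))⟩
  have h3 : ∀ (X Y : ModuleCat.{u} R') (f : X ⟶ Y), projProp X → projProp Y →
      LinearMap.range f.hom ⊔ I • (⊤ : Submodule R' Y) = ⊤ → Function.Surjective f.hom :=
    fun X Y f _ _ h => by
      have := eq_top_of_sup_smul_eq_top I hI (LinearMap.range f.hom) h
      exact LinearMap.range_eq_top.1 this
  obtain ⟨P, b', hPb, hPP, ⟨eP⟩, ⟨ePE⟩⟩ :=
    Groth.Agent.Lib.PcLift3.main2' I (projProp (R := R')) h1 h2 h3 F b hFb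
      (fun i => hFp i) Ebar b hEbar
      (fun i => by
        obtain ⟨X, hXfin, hXfree, hX⟩ := hmodel i
        exact ⟨X, (inferInstance : Module.Projective R' X), hX⟩)
      α hα
  refine ⟨P, b', hPb, fun i => ?_, ⟨eP ≪≫ eF⟩⟩
  obtain ⟨X, hXfin, hXfree, ⟨εX⟩⟩ := hmodel i
  let ε1 : (R' ⧸ I) ⊗[R'] (P.X i) ≃ₗ[R' ⧸ I] Ebar.X i :=
    (Groth.Agent.ExtendScalarsLib.extendScalarsEquivTensor (S := R' ⧸ I) (P.X i)).symm ≪≫ₗ
      ((HomologicalComplex.eval _ _ i).mapIso ePE).toLinearEquiv
  obtain ⟨e⟩ := Groth.Agent.Lib.PcLift_helper6.nonempty_linearEquiv_of_tensor I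
    (projProp (R := R')) h1 (fun X Y hX => (h2 X Y hX).1) h3 X (P.X i)
    (inferInstance : Module.Projective R' X) (hPP i) (εX ≪≫ₗ ε1.symm)
  exact ⟨Module.Finite.equiv e, Module.Free.of_equiv e⟩

end main

end Groth.Agent.Lib.NilpPc
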