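import Mathlib
import Groth.Prelude.Def_DRing2
import Groth.Prelude.Def_DRing4
import Groth.Prelude.Def_DualSh
import Groth.Agent.Lib.TrivBC20_helper6
import Groth.Agent.Lib.DMod116_helper6
import Groth.Agent.Lib.MinCx_helper6
import Groth.Agent.Lib.NilpPc_helper2
import Groth.Agent.Lib.GorField_helper9

/-!
# Gorenstein fibres and invertibility of `φ^!(R)` (helper6), part 1: generalities
-/

set_option autoImplicit false
universe u
open CategoryTheory CategoryTheory.Limits DerivedCategory Pretriangulated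
open scoped TensorProduct
attribute [local instance] HasDerivedCategory.standard

namespace Groth.Agent.Lib.GorFibH6

open DRing Groth.Agent.Lib.DMod_helper6 Groth.Agent.Lib.ShriekIndH6 Groth.Agent.Lib.FlatBCH6
  Groth.Agent.Lib.TrivBCH6 Groth.Agent.ExtendScalarsLib

section Comp

variable {A B C : Type u} [CommRing A] [CommRing B] [CommRing C]

/-- derived base change along a composite -/
theorem nonempty_lBaseChange_comp (f : A →+* B) (g : B →+* C) (h : A →+* C) (hc : g.comp f = h)
    [HasLBaseChange f] [HasLBaseChange g] [HasLBaseChange h] :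
    Nonempty (LBaseChange h ≅ LBaseChange f ⋙ LBaseChange g) := by
  obtain ⟨adjf⟩ := Groth.Agent.Lib.DerivedAdj.nonempty_adj f
  obtain ⟨adjg⟩ := Groth.Agent.Lib.DerivedAdj.nonempty_adj g
  obtain ⟨adjh⟩ := Groth.Agent.Lib.DerivedAdj.nonempty_adj h
  exact ⟨(adjh.ofNatIsoRight (restrictDComp' f g h hc)).leftAdjointUniq (adjf.comp adjg)⟩

/-- `L φ^*(A[m]) ≅ B[m]` -/
theorem nonempty_lBaseChange_inD_self_shift (f : A →+* B) [HasLBaseChange f] (m : ℤ) :
    Nonempty ((LBaseChange f).obj ((Dual.inD A A)⟦m⟧) ≅ (Dual.inD B B)⟦m⟧) := by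
  obtain ⟨adjf⟩ := Groth.Agent.Lib.DerivedAdj.nonempty_adj f
  letI cs : (LBaseChange f).CommShift ℤ := adjf.leftAdjointCommShift ℤ
  letI : Algebra A B := f.toAlgebra
  haveI : HasLBaseChange (algebraMap A B) := ‹HasLBaseChange f›
  obtain ⟨e⟩ := nonempty_lBaseChange_inD_self (R := A) (k := B)
  exact ⟨((LBaseChange f).commShiftIso m).app _ ≪≫ (shiftFunctor (Dual.D B) m).mapIso e⟩

end Comp

section HDLoc

variable {A : Type u} [CommRing A] (S : Submonoid A)

/-- `H^i(K ⊗ S⁻¹A) ≃ S⁻¹ H^i(K)`. -/
lemma nonempty_HD_bcD_linearEquiv (K : Dual.D A) (i : ℤ) :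
    Nonempty (Dual.HD (Localization S) ((bcD A (Localization S)).obj K) i ≃ₗ[Localization S]
      LocalizedModule S (Dual.HD A K i)) := by
  haveI : Module.Flat A (Localization S) := IsLocalization.flat _ S
  let C : Cx A := Q.objPreimage K
  let eC : toD C ≅ K := Q.objObjPreimageIso K
  let C' : Cx (Localization S) :=
    ((ES A (Localization S)).mapHomologicalComplex (ComplexShape.up ℤ)).obj C
  let e1 : (homologyFunctor (ModuleCat.{u} (Localization S)) i).obj
      ((bcD A (Localization S)).obj K) ≅ C'.homology i :=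
    (homologyFunctor (ModuleCat.{u} (Localization S)) i).mapIso
      ((bcD A (Localization S)).mapIso eC.symm ≪≫ bcDIso C) ≪≫
      (homologyFunctorFactors (ModuleCat.{u} (Localization S)) i).app C'
  let e2 : C'.homology i ≅ (ES A (Localization S)).obj (C.homology i) :=
    (C.sc i).mapHomologyIso (ES A (Localization S))
  let e3 : C.homology i ≅ (homologyFunctor (ModuleCat.{u} A) i).obj K :=
    ((homologyFunctorFactors (ModuleCat.{u} A) i).app C).symm ≪≫
      (homologyFunctor (ModuleCat.{u} A) i).mapIso eC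
  let e4 := (e1 ≪≫ e2 ≪≫ (ES A (Localization S)).mapIso e3).toLinearEquiv
  let e5 := extendScalarsEquivTensor (S := Localization S)
    ((homologyFunctor (ModuleCat.{u} A) i).obj K)
  let e6 := (IsLocalizedModule.isBaseChange S (Localization S)
    (LocalizedModule.mkLinearMap S (Dual.HD A K i))).equiv
  exact ⟨(e4.trans e5).trans e6⟩

/-- `H^i(K ⊗^L S⁻¹A) ≃ S⁻¹ H^i(K)`. -/
lemma nonempty_HD_lBaseChange_linearEquiv [HasLBaseChange (algebraMap A (Localization S))]
    (K : Dual.D A) (i : ℤ) :
    Nonempty (Dual.HD (Localization S) ((LBaseChange (algebraMap A (Localization S))).obj K) i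
      ≃ₗ[Localization S] LocalizedModule S (Dual.HD A K i)) := by
  haveI : Module.Flat A (Localization S) := IsLocalization.flat _ S
  obtain ⟨e⟩ := nonempty_lBaseChange_iso_bcD (A := A) (B := Localization S)
  obtain ⟨e'⟩ := nonempty_HD_bcD_linearEquiv S K i
  exact ⟨((homologyFunctor (ModuleCat.{u} (Localization S)) i).mapIso
    (e.app K)).toLinearEquiv.trans e'⟩

end HDLoc

end Groth.Agent.Lib.GorFibH6
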