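import Mathlib
import Groth.Agent.Lib.GorFib1_helper6
import Groth.Agent.S11179

/-!
# Gorenstein fibres and invertibility of `φ^!(R)` (helper6), part 2: invertible ⇒ Gorenstein fibres
-/

set_option autoImplicit false
universe u
open CategoryTheory CategoryTheory.Limits DerivedCategory Pretriangulated
open scoped TensorProduct
attribute [local instance] HasDerivedCategory.standard

namespace Groth.Agent.Lib.GorFibH6

open DRing Groth.Agent.Lib.DMod_helper6 Groth.Agent.Lib.ShriekIndH6 Groth.Agent.Lib.FlatBCH6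
  Groth.Agent.Lib.TrivBCH6 Groth.Agent.ExtendScalarsLib

section Local

variable {B : Type u} [CommRing B] [IsLocalRing B] [IsNoetherianRing B]

/-- a Noetherian local ring with a dualizing complex of the form `B[m]` is Gorenstein -/
theorem isGorensteinLocalRing_of_isDualizing_shift (m : ℤ)
    (h : Dual.IsDualizing B ((Dual.inD B B)⟦m⟧)) : LocCoh.IsGorensteinLocalRing B := by
  have h4 := isDualizing_shift _ h (-m)
  have e4 : (((Dual.inD B B)⟦m⟧)⟦-m⟧) ≅ Dual.inD B B :=
    shiftShiftIso _ m (-m) 0 (by omega) ≪≫ (shiftFunctorZero (Dual.D B) ℤ).app _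
  exact (Groth.Agent.S11179.result _).2 (isDualizing_of_iso e4 h4)

end Local

section Converse

variable (R A : Type u) [CommRing R] [CommRing A] [IsNoetherianRing R] [IsNoetherianRing A]
  [Algebra R A] [Module.Flat R A] (n : ℕ) (ψ : MvPolynomial (Fin n) R →ₐ[R] A)
  (hψ : Function.Surjective ψ) [DRing.HasLBaseChange (algebraMap R (MvPolynomial (Fin n) R))]
  (Rψ : Dual.D (MvPolynomial (Fin n) R) ⥤ Dual.D A) (adj : DRing.restrictD ψ.toRingHom ⊣ Rψ)
  [hL : ∀ f : A, DRing.HasLBaseChange (algebraMap A (Localization.Away f))]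

include hψ adj in
/-- if `ω_{A/R}` is invertible then the fibres are Gorenstein -/
theorem isGorensteinRing_fibre_of_invertible
    (h : ∀ q : PrimeSpectrum A, ∃ (f : A) (_ : f ∉ q.asIdeal) (m : ℤ),
      Nonempty ((DRing.LBaseChange (algebraMap A (Localization.Away f))).obj
        (Dual2.shriekVia n Rψ (Dual.inD R R)) ≅
          (Dual.inD (Localization.Away f) (Localization.Away f))⟦m⟧))
    (p : PrimeSpectrum R) : LocCoh.IsGorensteinRing (A ⊗[R] p.asIdeal.ResidueField) := by
  set ω := Dual2.shriekVia n Rψ (Dual.inD R R) with hω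
  let k := p.asIdeal.ResidueField
  let F' := k ⊗[R] A
  let ι : A →+* F' := (Algebra.TensorProduct.includeRight : A →ₐ[R] k ⊗[R] A).toRingHom
  haveI : HasLBaseChange ι := hasLBaseChange_general _
  have hω' : Dual.IsDualizing F' ((LBaseChange ι).obj ω) :=
    (main1801 R A n ψ hψ Rψ adj).2.2.2.2 k
  haveI : IsNoetherianRing F' := hω'.isNoetherianRing
  suffices hF' : LocCoh.IsGorensteinRing F' from
    Groth.Agent.GorFlat9.isGorRing_of_ringEquiv (Algebra.TensorProduct.comm R k A).toRingEquiv hF'
  refine { isGorensteinLocalRing_localization := fun 𝔮' _ => ?_ }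
  let B := Localization.AtPrime 𝔮'
  haveI : IsNoetherianRing B := IsLocalization.isNoetherianRing 𝔮'.primeCompl B inferInstance
  let q : PrimeSpectrum A := ⟨𝔮'.comap ι, inferInstance⟩
  obtain ⟨f, hf, m, ⟨e⟩⟩ := h q
  let g : A →+* B := (algebraMap F' B).comp ι
  have hfu : IsUnit (g f) := IsLocalization.map_units B (⟨ι f, hf⟩ : 𝔮'.primeCompl)
  let gf : Localization.Away f →+* B := IsLocalization.Away.lift f hfu
  have hgf : gf.comp (algebraMap A (Localization.Away f)) = g :=
    IsLocalization.Away.lift_comp f hfu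
  haveI : HasLBaseChange g := hasLBaseChange_general _
  haveI : HasLBaseChange gf := hasLBaseChange_general _
  haveI : HasLBaseChange (algebraMap F' B) := hasLBaseChange_general _
  obtain ⟨c1⟩ := nonempty_lBaseChange_comp ι (algebraMap F' B) g rfl
  obtain ⟨c2⟩ := nonempty_lBaseChange_comp (algebraMap A (Localization.Away f)) gf g hgf
  obtain ⟨c3⟩ := nonempty_lBaseChange_inD_self_shift gf m
  let e' : (LBaseChange (algebraMap F' B)).obj ((LBaseChange ι).obj ω) ≅ (Dual.inD B B)⟦m⟧ :=
    (c1.app ω).symm ≪≫ c2.app ω ≪≫ (LBaseChange gf).mapIso e ≪≫ c3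
  have hB : Dual.IsDualizing B ((LBaseChange (algebraMap F' B)).obj ((LBaseChange ι).obj ω)) :=
    isDualizing_lBaseChange_localization 𝔮'.primeCompl _ hω'
  exact isGorensteinLocalRing_of_isDualizing_shift m (isDualizing_of_iso e' hB)

end Converse

end Groth.Agent.Lib.GorFibH6
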