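import Mathlib
import Groth.Agent.Lib.GorFib2_helper6

/-!
# Gorenstein fibres and invertibility of `φ^!(R)` (helper6), part 3: the residue fibre of `ω`
-/

set_option autoImplicit false
universe u
open CategoryTheory CategoryTheory.Limits DerivedCategory Pretriangulated
open scoped TensorProduct
attribute [local instance] HasDerivedCategory.standard

namespace Groth.Agent.Lib.GorFibH6

open DRing Groth.Agent.Lib.DMod_helper6 Groth.Agent.Lib.ShriekIndH6 Groth.Agent.Lib.FlatBCH6
  Groth.Agent.Lib.TrivBCH6 Groth.Agent.ExtendScalarsLib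

section Residue

variable (R A : Type u) [CommRing R] [CommRing A] [IsNoetherianRing R] [IsNoetherianRing A]
  [Algebra R A] [Module.Flat R A] (n : ℕ) (ψ : MvPolynomial (Fin n) R →ₐ[R] A)
  (hψ : Function.Surjective ψ) [DRing.HasLBaseChange (algebraMap R (MvPolynomial (Fin n) R))]
  (Rψ : Dual.D (MvPolynomial (Fin n) R) ⥤ Dual.D A) (adj : DRing.restrictD ψ.toRingHom ⊣ Rψ)

include hψ adj in
/-- if the fibres are Gorenstein then `ω ⊗^L κ(q)` is a shift of `κ(q)` -/
theorem exists_residue_iso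
    (hG : ∀ p : PrimeSpectrum R, LocCoh.IsGorensteinRing (A ⊗[R] p.asIdeal.ResidueField))
    (q : PrimeSpectrum A) [HasLBaseChange (algebraMap A q.asIdeal.ResidueField)] :
    ∃ m : ℤ, Nonempty ((LBaseChange (algebraMap A q.asIdeal.ResidueField)).obj
      (Dual2.shriekVia n Rψ (Dual.inD R R)) ≅
        (Dual.inD q.asIdeal.ResidueField q.asIdeal.ResidueField)⟦m⟧) := by
  set ω := Dual2.shriekVia n Rψ (Dual.inD R R) with hω
  let p : PrimeSpectrum R := ⟨q.asIdeal.comap (algebraMap R A), inferInstance⟩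
  let k := p.asIdeal.ResidueField
  let κ := q.asIdeal.ResidueField
  let F' := k ⊗[R] A
  let ι : A →+* F' := (Algebra.TensorProduct.includeRight : A →ₐ[R] k ⊗[R] A).toRingHom
  haveI : HasLBaseChange ι := hasLBaseChange_general _
  have hω' : Dual.IsDualizing F' ((LBaseChange ι).obj ω) :=
    (main1801 R A n ψ hψ Rψ adj).2.2.2.2 k
  haveI : IsNoetherianRing F' := hω'.isNoetherianRing
  have hGF' : LocCoh.IsGorensteinRing F' :=
    Groth.Agent.GorFlat9.isGorRing_of_ringEquiv (Algebra.TensorProduct.comm R A k).toRingEquiv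
      (hG p)
  let g1 : k →ₐ[R] κ := Ideal.ResidueField.mapₐ p.asIdeal q.asIdeal (Algebra.ofId R A) rfl
  let g2 : A →ₐ[R] κ := IsScalarTower.toAlgHom R A κ
  let θ : F' →ₐ[R] κ := Algebra.TensorProduct.lift g1 g2 (fun _ _ => Commute.all _ _)
  let 𝔮' : Ideal F' := RingHom.ker θ.toRingHom
  haveI : 𝔮'.IsPrime := RingHom.ker_isPrime _
  let B := Localization.AtPrime 𝔮'
  haveI : IsNoetherianRing B := IsLocalization.isNoetherianRing 𝔮'.primeCompl B inferInstance
  have hGB : LocCoh.IsGorensteinLocalRing B := hGF'.isGorensteinLocalRing_localization 𝔮'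
  have hBd : Dual.IsDualizing B (Dual.inD B B) := (Groth.Agent.S11179.result B).1 hGB
  haveI : HasLBaseChange (algebraMap F' B) := hasLBaseChange_general _
  have hB : Dual.IsDualizing B ((LBaseChange (algebraMap F' B)).obj ((LBaseChange ι).obj ω)) :=
    isDualizing_lBaseChange_localization 𝔮'.primeCompl _ hω'
  obtain ⟨m, ⟨ι1⟩⟩ := exists_iso_shift_of_isDualizing_inD_self hBd _ hB
  have hu : ∀ y : 𝔮'.primeCompl, IsUnit (θ.toRingHom y) := fun y => by
    have hy : θ.toRingHom (y : F') ≠ 0 := fun h0 => y.2 ((RingHom.mem_ker).2 h0)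
    exact isUnit_iff_ne_zero.2 hy
  let θB : B →+* κ := IsLocalization.lift hu
  have hθB : θB.comp (algebraMap F' B) = θ.toRingHom := IsLocalization.lift_comp hu
  have hcomp : θB.comp ((algebraMap F' B).comp ι) = algebraMap A κ := by
    rw [← RingHom.comp_assoc, hθB]
    ext a
    show θ ((1 : k) ⊗ₜ[R] a) = algebraMap A κ a
    rw [Algebra.TensorProduct.lift_tmul, map_one, one_mul]
    rfl
  refine ⟨m, ?_⟩
  let g : A →+* B := (algebraMap F' B).comp ι
  haveI : HasLBaseChange g := hasLBaseChange_general _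
  haveI : HasLBaseChange θB := hasLBaseChange_general _
  obtain ⟨c1⟩ := nonempty_lBaseChange_comp ι (algebraMap F' B) g rfl
  obtain ⟨c2⟩ := nonempty_lBaseChange_comp g θB (algebraMap A κ) hcomp
  obtain ⟨c3⟩ := nonempty_lBaseChange_inD_self_shift θB m
  exact ⟨c2.app ω ≪≫ (LBaseChange θB).mapIso (c1.app ω ≪≫ ι1) ≪≫ c3⟩

end Residue

end Groth.Agent.Lib.GorFibH6
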