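import Mathlib
import Groth.Agent.Lib.GorFib3_helper6

/-!
# Gorenstein fibres and invertibility of `φ^!(R)` (helper6), part 4: the local statement
-/

set_option autoImplicit false
universe u
open CategoryTheory CategoryTheory.Limits DerivedCategory Pretriangulated
open scoped TensorProduct
attribute [local instance] HasDerivedCategory.standard

namespace Groth.Agent.Lib.GorFibH6

open DRing Groth.Agent.Lib.DMod_helper6 Groth.Agent.Lib.ShriekIndH6 Groth.Agent.Lib.FlatBCH6
  Groth.Agent.Lib.TrivBCH6 Groth.Agent.ExtendScalarsLib Groth.Agent.Lib.PcLift_helper6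

section Local

variable (R : Type u) [CommRing R] [IsLocalRing R]
  [DRing.HasLBaseChange (Ideal.Quotient.mk (IsLocalRing.maximalIdeal R))]

/-- a pseudo-coherent complex over a local ring whose derived fibre at the residue field is
`κ[m]` has a single cohomology module, free of rank one. -/
theorem local_of_residue (K : Dual.D R) (hK : IsPseudoCoherent' R K) (m : ℤ)
    (e : (LBaseChange (Ideal.Quotient.mk (IsLocalRing.maximalIdeal R))).obj K ≅
      (Dual.inD (R ⧸ IsLocalRing.maximalIdeal R) (R ⧸ IsLocalRing.maximalIdeal R))⟦m⟧) :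
    (∀ i : ℤ, i ≠ -m → Subsingleton (Dual.HD R K i)) ∧ Nonempty (Dual.HD R K (-m) ≃ₗ[R] R) := by
  letI : Field (R ⧸ IsLocalRing.maximalIdeal R) := Ideal.Quotient.field _
  obtain ⟨-, -, ⟨P, hP⟩, -⟩ := min_main R K hK
  obtain ⟨⟨b, hPb⟩, hPt, ⟨eP⟩⟩ := hP
  -- the cohomology of the fibre
  have eH : ∀ i : ℤ, (homologyFunctor (ModuleCat.{u} (R ⧸ IsLocalRing.maximalIdeal R)) i).obj
      ((LBaseChange (Ideal.Quotient.mk (IsLocalRing.maximalIdeal R))).obj K) ≅
      (homologyFunctor (ModuleCat.{u} (R ⧸ IsLocalRing.maximalIdeal R)) (m + i)).obj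
        (Dual.inD (R ⧸ IsLocalRing.maximalIdeal R) (R ⧸ IsLocalRing.maximalIdeal R)) := fun i =>
    (homologyFunctor (ModuleCat.{u} (R ⧸ IsLocalRing.maximalIdeal R)) i).mapIso e ≪≫
      ((homologyFunctor (ModuleCat.{u} (R ⧸ IsLocalRing.maximalIdeal R)) 0).shiftIso m i (m + i)
        rfl).app _
  have hr0 : ∀ i : ℤ, i ≠ -m → Module.finrank R (P.X i) = 0 := by
    intro i hi
    rw [(hPt i).2.2]
    haveI : Subsingleton (Dual.HD (R ⧸ IsLocalRing.maximalIdeal R)
        ((LBaseChange (Ideal.Quotient.mk (IsLocalRing.maximalIdeal R))).obj K) i) :=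
      ModuleCat.subsingleton_of_isZero (IsZero.of_iso (isZero_HD_inD (ModuleCat.of
        (R ⧸ IsLocalRing.maximalIdeal R) (R ⧸ IsLocalRing.maximalIdeal R)) _ (by omega)) (eH i))
    exact Module.finrank_zero_of_subsingleton
  have hr1 : Module.finrank R (P.X (-m)) = 1 := by
    rw [(hPt (-m)).2.2]
    have e1 : (homologyFunctor (ModuleCat.{u} (R ⧸ IsLocalRing.maximalIdeal R)) (-m)).obj
        ((LBaseChange (Ideal.Quotient.mk (IsLocalRing.maximalIdeal R))).obj K) ≅
        ModuleCat.of (R ⧸ IsLocalRing.maximalIdeal R) (R ⧸ IsLocalRing.maximalIdeal R) :=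
      (homologyFunctor (ModuleCat.{u} (R ⧸ IsLocalRing.maximalIdeal R)) (-m)).mapIso e ≪≫
        ((homologyFunctor (ModuleCat.{u} (R ⧸ IsLocalRing.maximalIdeal R)) 0).shiftIso m (-m) 0
          (by omega)).app _ ≪≫
        HDinDIso (ModuleCat.of (R ⧸ IsLocalRing.maximalIdeal R)
          (R ⧸ IsLocalRing.maximalIdeal R))
    rw [LinearEquiv.finrank_eq e1.toLinearEquiv]
    exact Module.finrank_self _
  have hz : ∀ i : ℤ, i ≠ -m → IsZero (P.X i) := by
    intro i hi
    haveI := (hPt i).1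
    haveI := (hPt i).2.1
    haveI : Subsingleton (P.X i) := (Module.finrank_eq_zero_iff_of_free R (P.X i)).1 (hr0 i hi)
    exact ModuleCat.isZero_of_subsingleton _
  have eHP : ∀ i : ℤ, P.homology i ≅ (homologyFunctor (ModuleCat.{u} R) i).obj K := fun i =>
    ((homologyFunctorFactors (ModuleCat.{u} R) i).app P).symm ≪≫
      (homologyFunctor (ModuleCat.{u} R) i).mapIso eP
  refine ⟨fun i hi => ?_, ?_⟩
  · exact ModuleCat.subsingleton_of_isZero (IsZero.of_iso
      (ShortComplex.isZero_homology_of_isZero_X₂ _ (hz i hi)) (eHP i).symm)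
  · haveI := (hPt (-m)).1
    haveI := (hPt (-m)).2.1
    obtain ⟨e1⟩ := Module.nonempty_linearEquiv_of_finrank_eq_one hr1
    have hf : (P.sc (-m)).f = 0 := (hz _ (by
      show (ComplexShape.up ℤ).prev (-m) ≠ -m
      rw [CochainComplex.prev]; omega)).eq_of_src _ _
    have hg : (P.sc (-m)).g = 0 := (hz _ (by
      show (ComplexShape.up ℤ).next (-m) ≠ -m
      rw [CochainComplex.next]; omega)).eq_of_tgt _ _
    let e2 : P.homology (-m) ≅ P.X (-m) :=
      (ShortComplex.HomologyData.ofZeros (P.sc (-m)) hf hg).left.homologyIso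
    exact ⟨((eHP (-m)).symm ≪≫ e2).toLinearEquiv.trans e1.symm⟩

end Local

end Groth.Agent.Lib.GorFibH6
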