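import Mathlib
import Groth.Agent.Lib.GorFib4_helper6

/-!
# Gorenstein fibres and invertibility of `φ^!(R)` (helper6), part 5: spreading out
-/

set_option autoImplicit false
universe u
open CategoryTheory CategoryTheory.Limits DerivedCategory Pretriangulated
open scoped TensorProduct
attribute [local instance] HasDerivedCategory.standard

namespace Groth.Agent.Lib.GorFibH6

open DRing Groth.Agent.Lib.DMod_helper6 Groth.Agent.Lib.ShriekIndH6 Groth.Agent.Lib.FlatBCH6
  Groth.Agent.Lib.TrivBCH6 Groth.Agent.ExtendScalarsLib Groth.Agent.Lib.PcLift_helper6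

section Spread

variable {A : Type u} [CommRing A] [IsNoetherianRing A]

/-- a finite module which is free of rank one at `q` is free of rank one over `A_t` for all
multiples `t` of some `r ∉ q` -/
lemma exists_away_equiv (M : Type u) [AddCommGroup M] [Module A M] [Module.Finite A M]
    (q : PrimeSpectrum A)
    (e : LocalizedModule q.asIdeal.primeCompl M ≃ₗ[Localization.AtPrime q.asIdeal]
      Localization.AtPrime q.asIdeal) :
    ∃ r : A, r ∉ q.asIdeal ∧ ∀ t : A, r ∣ t →
      Nonempty (LocalizedModule (Submonoid.powers t) M ≃ₗ[Localization.Away t]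
        Localization.Away t) := by
  haveI : Module.FinitePresentation A M := Module.finitePresentation_of_finite A M
  let S := q.asIdeal.primeCompl
  let f := LocalizedModule.mkLinearMap S M
  let g : A →ₗ[A] Localization.AtPrime q.asIdeal := Algebra.linearMap A _
  let l : LocalizedModule S M ≃ₗ[A] Localization.AtPrime q.asIdeal := e.restrictScalars A
  obtain ⟨l', s, H⟩ :=
    Module.FinitePresentation.exists_lift_of_isLocalizedModule S g (l.toLinearMap ∘ₗ f)
  have hbij : Function.Bijective (IsLocalizedModule.map S f g l') := by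
    have h1 : IsLocalizedModule.map S f g l' = (s • LinearMap.id) ∘ₗ l.toLinearMap := by
      apply IsLocalizedModule.ext S f (IsLocalizedModule.map_units g)
      apply LinearMap.ext fun x ↦ ?_
      simp only [LinearMap.coe_comp, Function.comp_apply, IsLocalizedModule.map_apply]
      rw [← LinearMap.comp_apply, H]
      simp
    rw [h1]
    exact ((Module.End.isUnit_iff _).mp (IsLocalizedModule.map_units g s)).comp l.bijective
  obtain ⟨r, hr, hr'⟩ := exists_bijective_map_powers S f g l' hbij
  refine ⟨r, hr, fun t ht => ⟨?_⟩⟩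
  exact (LinearEquiv.ofBijective (LocalizedModule.map (Submonoid.powers t) l') (hr' t ht)).trans
    (LinearEquiv.refl _ _)

/-- a finite module vanishing at `q` vanishes over `A_t` for all multiples `t` of some `r ∉ q` -/
lemma exists_away_subsingleton (M : Type u) [AddCommGroup M] [Module A M] [Module.Finite A M]
    (q : PrimeSpectrum A) (h : Subsingleton (LocalizedModule q.asIdeal.primeCompl M)) :
    ∃ r : A, r ∉ q.asIdeal ∧ ∀ t : A, r ∣ t →
      Subsingleton (LocalizedModule (Submonoid.powers t) M) := by
  have h1 : q ∉ Module.support A M := by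
    rw [Module.mem_support_iff, not_nontrivial_iff_subsingleton]
    exact h
  rw [Module.mem_support_iff_of_finite, SetLike.not_le_iff_exists] at h1
  obtain ⟨r, hr, hrq⟩ := h1
  refine ⟨r, hrq, fun t ht => ?_⟩
  obtain ⟨c, rfl⟩ := ht
  rw [LocalizedModule.subsingleton_iff]
  intro x
  refine ⟨r * c, Submonoid.mem_powers _, ?_⟩
  rw [mul_comm, mul_smul, Module.mem_annihilator.1 hr x, smul_zero]

/-- spreading out: a bounded complex with finite cohomology which is a shift of `A_q` at `q` is a
shift of `A_f` over some `A_f`, `f ∉ q`. -/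
theorem exists_away_iso (ω : Dual.D A) (a b : ℤ)
    (hab : ∀ i : ℤ, (i < a ∨ b < i) → Subsingleton (Dual.HD A ω i))
    (hfin : ∀ i : ℤ, Module.Finite A (Dual.HD A ω i)) (q : PrimeSpectrum A) (m : ℤ)
    (h0 : ∀ i : ℤ, i ≠ -m →
      Subsingleton (LocalizedModule q.asIdeal.primeCompl (Dual.HD A ω i)))
    (h1 : Nonempty (LocalizedModule q.asIdeal.primeCompl (Dual.HD A ω (-m))
      ≃ₗ[Localization.AtPrime q.asIdeal] Localization.AtPrime q.asIdeal))
    [hL : ∀ f : A, HasLBaseChange (algebraMap A (Localization.Away f))] :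
    ∃ (f : A) (_ : f ∉ q.asIdeal),
      Nonempty ((LBaseChange (algebraMap A (Localization.Away f))).obj ω ≅
        (Dual.inD (Localization.Away f) (Localization.Away f))⟦m⟧) := by
  classical
  have hex : ∀ i : ℤ, ∃ r : A, r ∉ q.asIdeal ∧ (i ≠ -m → ∀ t : A, r ∣ t →
      Subsingleton (LocalizedModule (Submonoid.powers t) (Dual.HD A ω i))) := by
    intro i
    by_cases hi : i = -m
    · exact ⟨1, fun h => q.isPrime.ne_top ((Ideal.eq_top_iff_one _).2 h), fun h => absurd hi h⟩
    · haveI := hfin i
      obtain ⟨r, hr, hr'⟩ := exists_away_subsingleton (Dual.HD A ω i) q (h0 i hi)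
      exact ⟨r, hr, fun _ => hr'⟩
  choose r hr hr' using hex
  haveI := hfin (-m)
  obtain ⟨e1⟩ := h1
  obtain ⟨r1, hr1, hr1'⟩ := exists_away_equiv (Dual.HD A ω (-m)) q e1
  let f : A := r1 * ∏ i ∈ Finset.Icc a b, r i
  have hf : f ∉ q.asIdeal := by
    intro h
    rcases q.isPrime.mem_or_mem h with h | h
    · exact hr1 h
    · obtain ⟨i, -, hi⟩ := (q.isPrime.prod_mem_iff).1 h
      exact hr i hi
  refine ⟨f, hf, ?_⟩
  have hsub : ∀ i : ℤ, i ≠ -m →
      Subsingleton (LocalizedModule (Submonoid.powers f) (Dual.HD A ω i)) := by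
    intro i hi
    by_cases hmem : i ∈ Finset.Icc a b
    · exact hr' i hi f (dvd_mul_of_dvd_right (Finset.dvd_prod_of_mem r hmem) r1)
    · haveI : Subsingleton (Dual.HD A ω i) := hab i (by
        rw [Finset.mem_Icc] at hmem
        omega)
      rw [LocalizedModule.subsingleton_iff]
      intro x
      exact ⟨1, one_mem _, by rw [Subsingleton.elim x 0, smul_zero]⟩
  obtain ⟨e2⟩ := hr1' f (dvd_mul_right r1 _)
  have eH : ∀ i : ℤ, Nonempty (Dual.HD (Localization.Away f)
      ((LBaseChange (algebraMap A (Localization.Away f))).obj ω) i ≃ₗ[Localization.Away f]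
      LocalizedModule (Submonoid.powers f) (Dual.HD A ω i)) := fun i =>
    nonempty_HD_lBaseChange_linearEquiv (Submonoid.powers f) ω i
  obtain ⟨e3⟩ := eH (-m)
  refine nonempty_iso_inD_shift_of_HD_single _ (-m) m (by omega) (fun i hi => ?_)
    (Localization.Away f) (e3.trans e2)
  obtain ⟨e4⟩ := eH i
  haveI := hsub i hi
  exact e4.toEquiv.subsingleton

end Spread

end Groth.Agent.Lib.GorFibH6
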