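import Mathlib
import Groth.Agent.Lib.GorFib5_helper6
import Groth.Agent.Lib.DualGlob1_helper6

/-!
# Gorenstein fibres and invertibility of `φ^!(R)` (helper6), part 6: Gorenstein fibres ⇒ invertible,
and the main theorem (S1786)
-/

set_option autoImplicit false
universe u
open CategoryTheory CategoryTheory.Limits DerivedCategory Pretriangulated
open scoped TensorProduct
attribute [local instance] HasDerivedCategory.standard

namespace Groth.Agent.Lib.GorFibH6

open DRing Groth.Agent.Lib.DMod_helper6 Groth.Agent.Lib.ShriekIndH6 Groth.Agent.Lib.FlatBCH6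
  Groth.Agent.Lib.TrivBCH6 Groth.Agent.ExtendScalarsLib Groth.Agent.Lib.PcLift_helper6

section Direct

variable (R A : Type u) [CommRing R] [CommRing A] [IsNoetherianRing R] [IsNoetherianRing A]
  [Algebra R A] [Module.Flat R A] (n : ℕ) (ψ : MvPolynomial (Fin n) R →ₐ[R] A)
  (hψ : Function.Surjective ψ) [DRing.HasLBaseChange (algebraMap R (MvPolynomial (Fin n) R))]
  (Rψ : Dual.D (MvPolynomial (Fin n) R) ⥤ Dual.D A) (adj : DRing.restrictD ψ.toRingHom ⊣ Rψ)
  [hL : ∀ f : A, DRing.HasLBaseChange (algebraMap A (Localization.Away f))]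

include hψ adj in
/-- if the fibres are Gorenstein then `ω_{A/R}` is invertible -/
theorem invertible_of_isGorensteinRing_fibre
    (hG : ∀ p : PrimeSpectrum R, LocCoh.IsGorensteinRing (A ⊗[R] p.asIdeal.ResidueField))
    (q : PrimeSpectrum A) :
    ∃ (f : A) (_ : f ∉ q.asIdeal) (m : ℤ),
      Nonempty ((DRing.LBaseChange (algebraMap A (Localization.Away f))).obj
        (Dual2.shriekVia n Rψ (Dual.inD R R)) ≅
          (Dual.inD (Localization.Away f) (Localization.Away f))⟦m⟧) := by
  obtain ⟨⟨a, b, hab⟩, hfin, -, -, -⟩ := main1801 R A n ψ hψ Rψ adj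
  set ω := Dual2.shriekVia n Rψ (Dual.inD R R) with hω
  have hpc : IsPseudoCoherent' A ω := by
    refine isPseudoCoherent'_of_homology ω ⟨b, fun j hj => hab j (Or.inr hj)⟩ (fun j => ?_)
    haveI := hfin j
    exact isPseudoCoherentModule'_of_finite _
  let Aq := Localization.AtPrime q.asIdeal
  let κ := Aq ⧸ IsLocalRing.maximalIdeal Aq
  let res : Aq →+* κ := Ideal.Quotient.mk (IsLocalRing.maximalIdeal Aq)
  let h : A →+* κ := res.comp (algebraMap A Aq)
  haveI : HasLBaseChange (algebraMap A q.asIdeal.ResidueField) := hasLBaseChange_general _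
  haveI : HasLBaseChange (algebraMap A Aq) := hasLBaseChange_general _
  haveI : HasLBaseChange res := hasLBaseChange_general _
  haveI : HasLBaseChange h := hasLBaseChange_general _
  obtain ⟨m, ⟨e⟩⟩ := exists_residue_iso R A n ψ hψ Rψ adj hG q
  have e' : (LBaseChange h).obj ω ≅ (Dual.inD κ κ)⟦m⟧ := e
  obtain ⟨c⟩ := nonempty_lBaseChange_comp (algebraMap A Aq) res h rfl
  let K : Dual.D Aq := (LBaseChange (algebraMap A Aq)).obj ω
  have hK : IsPseudoCoherent' Aq K := Groth.Agent.Lib.NilpPc.pc_lBaseChange _ ω hpc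
  obtain ⟨h0, ⟨e1⟩⟩ := local_of_residue Aq K hK m ((c.app ω).symm ≪≫ e')
  have eH : ∀ i : ℤ, Nonempty (Dual.HD Aq K i ≃ₗ[Aq]
      LocalizedModule q.asIdeal.primeCompl (Dual.HD A ω i)) := fun i =>
    nonempty_HD_lBaseChange_linearEquiv q.asIdeal.primeCompl ω i
  obtain ⟨f, hf, ⟨e2⟩⟩ := exists_away_iso ω a b hab hfin q m
    (fun i hi => by
      obtain ⟨e3⟩ := eH i
      haveI := h0 i hi
      exact e3.symm.toEquiv.subsingleton)
    (by
      obtain ⟨e3⟩ := eH (-m)
      exact ⟨e3.symm.trans e1⟩)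
  exact ⟨f, hf, m, ⟨e2⟩⟩

include hψ adj in
/-- **S1786** -/
theorem main1786 :
    (∀ p : PrimeSpectrum R, LocCoh.IsGorensteinRing (A ⊗[R] p.asIdeal.ResidueField)) ↔
      (∀ q : PrimeSpectrum A, ∃ (f : A) (_ : f ∉ q.asIdeal) (m : ℤ),
        Nonempty ((DRing.LBaseChange (algebraMap A (Localization.Away f))).obj
          (Dual2.shriekVia n Rψ (Dual.inD R R)) ≅
            (Dual.inD (Localization.Away f) (Localization.Away f))⟦m⟧)) :=
  ⟨fun hG q => invertible_of_isGorensteinRing_fibre R A n ψ hψ Rψ adj hG q,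
    fun h p => isGorensteinRing_fibre_of_invertible R A n ψ hψ Rψ adj h p⟩

end Direct

end Groth.Agent.Lib.GorFibH6
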