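import Mathlib
import Groth.Agent.Lib.ExtInv1_helper6
import Groth.Agent.Lib.GorFib6_helper6
import Groth.Agent.Lib.DMod115_helper6
import Groth.Agent.Lib.DMod9_helper6

/-!
# Local structure of a complex with a single cohomology module (helper6), for S11365.
-/

set_option autoImplicit false
universe u
open CategoryTheory CategoryTheory.Limits DerivedCategory Pretriangulated
open scoped TensorProduct
attribute [local instance] HasDerivedCategory.standard

namespace Groth.Agent.Lib.ExtInvH6

open DRing Groth.Agent.Lib.DMod_helper6 Groth.Agent.Lib.GorFibH6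

section Local

variable {B : Type u} [CommRing B] (ω : Dual.D B) (d : ℤ)
  (hvan : ∀ i : ℤ, i ≠ d → Subsingleton (Dual.HD B ω i)) (f : B)
  [HasLBaseChange (algebraMap B (Localization.Away f))]

include hvan in
/-- if `H^d(ω)_f ≃ B_f` then `ω ⊗^L B_f ≅ B_f[-d]` -/
theorem nonempty_lBaseChange_iso_shift_of_localized_equiv
    (e : LocalizedModule.Away f (Dual.HD B ω d) ≃ₗ[Localization.Away f] Localization.Away f) :
    Nonempty ((LBaseChange (algebraMap B (Localization.Away f))).obj ω ≅
      (Dual.inD (Localization.Away f) (Localization.Away f))⟦-d⟧) := by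
  obtain ⟨e1⟩ := nonempty_HD_lBaseChange_linearEquiv (Submonoid.powers f) ω d
  refine nonempty_iso_inD_shift_of_HD_single _ d (-d) (by omega) (fun i hi => ?_)
    (Localization.Away f) (e1.trans e)
  obtain ⟨e2⟩ := nonempty_HD_lBaseChange_linearEquiv (Submonoid.powers f) ω i
  haveI := hvan i hi
  exact e2.toEquiv.subsingleton

include hvan in
/-- if `ω ⊗^L B_f ≅ B_f[m]` with `B_f ≠ 0` then `H^d(ω)_f ≃ B_f` -/
theorem nonempty_localized_equiv_of_lBaseChange_iso_shift [Nontrivial (Localization.Away f)]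
    (m : ℤ) (e : (LBaseChange (algebraMap B (Localization.Away f))).obj ω ≅
      (Dual.inD (Localization.Away f) (Localization.Away f))⟦m⟧) :
    Nonempty (LocalizedModule.Away f (Dual.HD B ω d) ≃ₗ[Localization.Away f]
      Localization.Away f) := by
  set Bf := Localization.Away f
  obtain ⟨e1⟩ := nonempty_HD_lBaseChange_linearEquiv (Submonoid.powers f) ω (-m)
  let e2 : Dual.HD Bf ((LBaseChange (algebraMap B Bf)).obj ω) (-m) ≃ₗ[Bf]
      Dual.HD Bf ((Dual.inD Bf Bf)⟦m⟧) (-m) :=
    ((homologyFunctor (ModuleCat.{u} Bf) (-m)).mapIso e).toLinearEquiv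
  let e3 : Dual.HD Bf ((Dual.inD Bf Bf)⟦m⟧) (-m) ≃ₗ[Bf] Dual.HD Bf (Dual.inD Bf Bf) 0 :=
    (((homologyFunctor (ModuleCat.{u} Bf) 0).shiftIso m (-m) 0 (by omega)).app
      (Dual.inD Bf Bf)).toLinearEquiv
  let e4 : Dual.HD Bf (Dual.inD Bf Bf) 0 ≃ₗ[Bf] Bf := (HDinDIso (ModuleCat.of Bf Bf)).toLinearEquiv
  let E : LocalizedModule.Away f (Dual.HD B ω (-m)) ≃ₗ[Bf] Bf :=
    e1.symm.trans (e2.trans (e3.trans e4))
  have hm : -m = d := by
    by_contra hne
    haveI := hvan (-m) hne
    haveI : Subsingleton Bf := E.symm.toEquiv.subsingleton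
    exact not_subsingleton Bf inferInstance
  subst hm
  exact ⟨E⟩

end Local

end Groth.Agent.Lib.ExtInvH6
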