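import Mathlib

set_option autoImplicit false
universe u
open TensorProduct

namespace Groth.Agent.Lib.InvLocFreeH7

/-- rank-one identity. -/
theorem rank_one_identity {A : Type*} [CommRing A] {N : Type*} [AddCommGroup N] [Module A N]
    (θ : N ≃ₗ[A] A) (ψ : N →ₗ[A] A) (x y : N) : ψ x • y = ψ y • x := by
  apply θ.injective
  have hx : x = θ x • θ.symm 1 := by
    apply θ.injective; rw [map_smul, θ.apply_symm_apply, smul_eq_mul, mul_one]
  have hy : y = θ y • θ.symm 1 := by
    apply θ.injective; rw [map_smul, θ.apply_symm_apply, smul_eq_mul, mul_one]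
  have h1 : ψ x = θ x * ψ (θ.symm 1) := by
    conv_lhs => rw [hx]
    rw [map_smul, smul_eq_mul]
  have h2 : ψ y = θ y * ψ (θ.symm 1) := by
    conv_lhs => rw [hy]
    rw [map_smul, smul_eq_mul]
  rw [map_smul, map_smul, smul_eq_mul, smul_eq_mul, h1, h2]
  ring

variable {R : Type u} [CommRing R] {M : Type u} [AddCommGroup M] [Module R M]
  (s : Set R) (hs : Ideal.span s = ⊤)
  (hfree : ∀ f ∈ s, Nonempty (LocalizedModule.Away f M ≃ₗ[Localization.Away f] Localization.Away f))

include hs hfree

theorem ident1 (φ : Module.Dual R M) (m m' : M) : φ m • m' = φ m' • m := by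
  refine Module.eq_of_isLocalized_span s hs (fun r : s => LocalizedModule.Away r.1 M)
    (fun r => LocalizedModule.mkLinearMap (Submonoid.powers r.1) M) _ _ (fun r => ?_)
  obtain ⟨θ⟩ := hfree r.1 r.2
  let ψ : LocalizedModule.Away r.1 M →ₗ[Localization.Away r.1] Localization.Away r.1 :=
    LinearMap.extendScalarsOfIsLocalization (Submonoid.powers r.1) _
      (IsLocalizedModule.map (Submonoid.powers r.1)
        (LocalizedModule.mkLinearMap (Submonoid.powers r.1) M)
        (Algebra.linearMap R (Localization.Away r.1)) φ)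
  have hψ : ∀ z : M, ψ (LocalizedModule.mkLinearMap (Submonoid.powers r.1) M z)
      = algebraMap R (Localization.Away r.1) (φ z) := by
    intro z
    exact IsLocalizedModule.map_apply _ _ _ _ _
  have key := rank_one_identity θ ψ (LocalizedModule.mkLinearMap (Submonoid.powers r.1) M m)
    (LocalizedModule.mkLinearMap (Submonoid.powers r.1) M m')
  rw [hψ, hψ, algebraMap_smul, algebraMap_smul] at key
  rw [map_smul, map_smul]
  exact key

theorem ident2 (φ ψ : Module.Dual R M) (m : M) : φ m • ψ = ψ m • φ := by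
  ext m'
  rw [LinearMap.smul_apply, LinearMap.smul_apply, smul_eq_mul, smul_eq_mul]
  have key := congrArg ψ (ident1 s hs hfree φ m m')
  rw [map_smul, map_smul, smul_eq_mul, smul_eq_mul] at key
  rw [key, mul_comm]

theorem key (t u : Module.Dual R M ⊗[R] M) :
    contractLeft R M t • u = contractLeft R M u • t := by
  induction t using TensorProduct.induction_on with
  | zero => simp
  | add t₁ t₂ h₁ h₂ => rw [map_add, add_smul, smul_add, h₁, h₂]
  | tmul ψ n =>
    induction u using TensorProduct.induction_on with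
    | zero => simp
    | add u₁ u₂ h₁ h₂ => rw [map_add, add_smul, smul_add, h₁, h₂]
    | tmul φ m =>
      rw [contractLeft_apply, contractLeft_apply]
      calc ψ n • (φ ⊗ₜ[R] m) = φ ⊗ₜ[R] (ψ n • m) := by rw [TensorProduct.tmul_smul]
        _ = φ ⊗ₜ[R] (ψ m • n) := by rw [ident1 s hs hfree ψ n m]
        _ = (ψ m • φ) ⊗ₜ[R] n := by rw [TensorProduct.tmul_smul, TensorProduct.smul_tmul']
        _ = (φ m • ψ) ⊗ₜ[R] n := by rw [ident2 s hs hfree ψ φ m]
        _ = φ m • (ψ ⊗ₜ[R] n) := by rw [TensorProduct.smul_tmul']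

theorem surj [Module.FinitePresentation R M] : Function.Surjective (contractLeft R M) := by
  rw [← LinearMap.range_eq_top]
  by_contra hI
  obtain ⟨𝔪, h𝔪, hle⟩ := Ideal.exists_le_maximal (LinearMap.range (contractLeft R M)) hI
  have hex : ∃ f ∈ s, f ∉ 𝔪 := by
    by_contra hcon
    push_neg at hcon
    have h1 : Ideal.span s ≤ 𝔪 := Ideal.span_le.mpr hcon
    rw [hs] at h1
    exact h𝔪.ne_top (top_le_iff.mp h1)
  obtain ⟨f, hfs, hf𝔪⟩ := hex
  obtain ⟨θ⟩ := hfree f hfs
  let θR : LocalizedModule.Away f M →ₗ[R] Localization.Away f := θ.toLinearMap.restrictScalars R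
  have hθR : ∀ z, θR z = θ z := fun _ => rfl
  let g : M →ₗ[R] Localization.Away f :=
    θR.comp (LocalizedModule.mkLinearMap (Submonoid.powers f) M)
  obtain ⟨φ, ⟨_, k, rfl⟩, hφ⟩ := Module.FinitePresentation.exists_lift_of_isLocalizedModule
    (Submonoid.powers f) (Algebra.linearMap R (Localization.Away f)) g
  obtain ⟨⟨m₀, ⟨_, a, rfl⟩⟩, hm₀⟩ := IsLocalizedModule.surj (Submonoid.powers f)
    (LocalizedModule.mkLinearMap (Submonoid.powers f) M) (θ.symm 1)
  have e1 : LocalizedModule.mkLinearMap (Submonoid.powers f) M m₀ = (f ^ a) • θ.symm 1 := by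
    rw [← hm₀]; rfl
  have e2 : algebraMap R (Localization.Away f) (φ m₀) =
      (f ^ k) • θR (LocalizedModule.mkLinearMap (Submonoid.powers f) M m₀) := by
    have := LinearMap.congr_fun hφ m₀
    exact this
  have h1 : algebraMap R (Localization.Away f) (φ m₀) =
      algebraMap R (Localization.Away f) (f ^ (k + a)) := by
    rw [e2, e1, map_smul, hθR, θ.apply_symm_apply, smul_smul, ← pow_add, Algebra.smul_def, mul_one]
  obtain ⟨⟨_, c, rfl⟩, hc⟩ := (IsLocalization.eq_iff_exists (Submonoid.powers f) _).mp h1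
  have hmem : φ m₀ ∈ 𝔪 := hle ⟨φ ⊗ₜ[R] m₀, contractLeft_apply φ m₀⟩
  have h2 : f ^ c * f ^ (k + a) ∈ 𝔪 := by
    have : f ^ c * φ m₀ = f ^ c * f ^ (k + a) := hc
    rw [← this]; exact Ideal.mul_mem_left _ _ hmem
  rw [← pow_add] at h2
  exact hf𝔪 (h𝔪.isPrime.mem_of_pow_mem _ h2)

theorem main : Module.Invertible R M := by
  haveI : Module.FinitePresentation R M := by
    refine Module.FinitePresentation.of_localizationSpan s hs (fun g => ?_)
    obtain ⟨θ⟩ := hfree g.1 g.2
    exact Module.FinitePresentation.of_equiv θ.symm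
  have hsurj := surj s hs hfree
  refine ⟨⟨?_, hsurj⟩⟩
  obtain ⟨u, hu⟩ := hsurj 1
  intro t₁ t₂ h12
  have h1 := key s hs hfree t₁ u
  have h2 := key s hs hfree t₂ u
  rw [hu, one_smul] at h1 h2
  rw [← h1, ← h2, h12]

end Groth.Agent.Lib.InvLocFreeH7
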