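import Mathlib
import Groth.Agent.Lib.ExtInv2_helper6
import Groth.Agent.Lib.InvLocFree_helper7
import Groth.Agent.Lib.RestrictRightAdj_helper2
import Groth.Agent.Lib.TrivBC14_helper6
import Groth.Agent.Lib.TrivBC20_helper6

/-!
# `Ext^{N-n}_P(B, P)` is invertible iff the fibres are Gorenstein (helper6), S11365.
-/

set_option autoImplicit false
universe u
open CategoryTheory CategoryTheory.Limits DerivedCategory Pretriangulated
open scoped TensorProduct
attribute [local instance] HasDerivedCategory.standard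

namespace Groth.Agent.Lib.ExtInvH6

open DRing Groth.Agent.Lib.DMod_helper6 Groth.Agent.Lib.GorFibH6 Groth.Agent.Lib.TrivBCH6

section Restrict

variable {P B : Type u} [CommRing P] [CommRing B] [Algebra P B]

/-- restriction of scalars of a linear equivalence -/
noncomputable def restrictScalarsCongr {M M' : Type*} [AddCommGroup M] [Module B M]
    [AddCommGroup M'] [Module B M'] (e : M ≃ₗ[B] M') :
    RestrictScalars P B M ≃ₗ[P] RestrictScalars P B M' where
  toFun := fun x =>
    (RestrictScalars.addEquiv P B M').symm (e (RestrictScalars.addEquiv P B M x))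
  map_add' := fun x y => by rw [map_add, map_add, map_add]
  map_smul' := fun a x => by
    rw [RingHom.id_apply, RestrictScalars.smul_def, AddEquiv.apply_symm_apply, map_smul,
      RestrictScalars.smul_def, AddEquiv.apply_symm_apply]
  invFun := fun y =>
    (RestrictScalars.addEquiv P B M).symm (e.symm (RestrictScalars.addEquiv P B M' y))
  left_inv := fun x => by simp
  right_inv := fun y => by simp

/-- for a surjection `P → B`, a `P`-linear equivalence between `B`-modules is `B`-linear -/
noncomputable def linearEquivOfRestrictScalars (hs : Function.Surjective (algebraMap P B))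
    {M M' : Type*} [AddCommGroup M] [Module B M] [AddCommGroup M'] [Module B M']
    (E : RestrictScalars P B M ≃ₗ[P] RestrictScalars P B M') : M ≃ₗ[B] M' where
  toFun := fun x => RestrictScalars.addEquiv P B M' (E ((RestrictScalars.addEquiv P B M).symm x))
  map_add' := fun x y => by rw [map_add, map_add, map_add]
  map_smul' := fun b x => by
    obtain ⟨a, rfl⟩ := hs b
    have h1 : (RestrictScalars.addEquiv P B M).symm (algebraMap P B a • x) =
        a • (RestrictScalars.addEquiv P B M).symm x := by
      rw [RestrictScalars.smul_def, AddEquiv.apply_symm_apply]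
    rw [RingHom.id_apply, h1, map_smul, RestrictScalars.smul_def, AddEquiv.apply_symm_apply]
  invFun := fun y =>
    RestrictScalars.addEquiv P B M (E.symm ((RestrictScalars.addEquiv P B M').symm y))
  left_inv := fun x => by simp
  right_inv := fun y => by simp

end Restrict

section Main

variable (A : Type u) [CommRing A] [IsNoetherianRing A] (N n : ℕ) (hnN : n ≤ N)
  (I : Ideal (MvPolynomial (Fin N) A)) [Module.Flat A (MvPolynomial (Fin N) A ⧸ I)]
  (hvan : ∀ j : ℕ, j ≠ N - n → Subsingleton (Abelian.Ext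
    (ModuleCat.of (MvPolynomial (Fin N) A) (MvPolynomial (Fin N) A ⧸ I))
    (ModuleCat.of (MvPolynomial (Fin N) A) (MvPolynomial (Fin N) A)) j))

include hnN hvan in
/-- **S11365** -/
theorem main11365 :
    (∃ (L : Type u) (_ : AddCommGroup L) (_ : Module (MvPolynomial (Fin N) A ⧸ I) L),
      Module.Invertible (MvPolynomial (Fin N) A ⧸ I) L ∧
      Nonempty (RestrictScalars (MvPolynomial (Fin N) A) (MvPolynomial (Fin N) A ⧸ I) L
        ≃ₗ[(MvPolynomial (Fin N) A)]
        Abelian.Ext (ModuleCat.of (MvPolynomial (Fin N) A) (MvPolynomial (Fin N) A ⧸ I))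
          (ModuleCat.of (MvPolynomial (Fin N) A) (MvPolynomial (Fin N) A)) (N - n))) ↔
      ∀ p : PrimeSpectrum A, LocCoh.IsGorensteinRing
        ((MvPolynomial (Fin N) A ⧸ I) ⊗[A] p.asIdeal.ResidueField) := by
  set P := MvPolynomial (Fin N) A with hP
  set B := P ⧸ I with hB
  let ψ : P →ₐ[A] B := Ideal.Quotient.mkₐ A I
  have hψ : Function.Surjective ψ := Ideal.Quotient.mkₐ_surjective A I
  have hs : Function.Surjective (algebraMap P B) := Ideal.Quotient.mk_surjective
  have : HasLBaseChange (algebraMap A P) := hasLBaseChange_general _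
  have hL : ∀ f : B, HasLBaseChange (algebraMap B (Localization.Away f)) :=
    fun f => hasLBaseChange_general _
  obtain ⟨Rψ, ⟨adj⟩⟩ := Groth.Agent.Lib.RestrictRightAdj.exists_rightAdjoint_restrictD
    (algebraMap P B)
  have key := main1786 A B N ψ hψ Rψ adj
  set ω : Dual.D B := Dual2.shriekVia N Rψ (Dual.inD A A) with hω
  obtain ⟨e0⟩ := nonempty_lBaseChange_inD_self (R := A) (k := P)
  have hH : ∀ i : ℤ, Nonempty (Dual.HD B ω i ≃ₗ[B]
      Dual.HD B (Rψ.obj (Dual.inD P P)) ((N : ℤ) + i)) := fun i =>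
    ⟨(((homologyFunctor (ModuleCat.{u} B) 0).shiftIso (N : ℤ) i ((N : ℤ) + i) rfl).app
      (Rψ.obj ((LBaseChange (algebraMap A P)).obj (Dual.inD A A)))).toLinearEquiv.trans
      ((homologyFunctor (ModuleCat.{u} B) ((N : ℤ) + i)).mapIso (Rψ.mapIso e0)).toLinearEquiv⟩
  have hvanR : ∀ j : ℤ, j ≠ ((N - n : ℕ) : ℤ) →
      Subsingleton (Dual.HD B (Rψ.obj (Dual.inD P P)) j) := by
    intro j hj
    rcases lt_or_ge j 0 with h | h
    · exact subsingleton_HD_rightAdjoint_of_neg Rψ adj P j h
    · obtain ⟨k, rfl⟩ := Int.eq_ofNat_of_zero_le h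
      obtain ⟨e⟩ := nonempty_restrictScalars_HD_rightAdjoint_linearEquiv_ext Rψ adj P k
      haveI := hvan k (by intro hk; exact hj (by rw [hk]))
      exact ((RestrictScalars.addEquiv P B _).symm.toEquiv.trans e.toEquiv).subsingleton
  have hvanω : ∀ i : ℤ, i ≠ -(n : ℤ) → Subsingleton (Dual.HD B ω i) := by
    intro i hi
    obtain ⟨e⟩ := hH i
    haveI := hvanR ((N : ℤ) + i) (by omega)
    exact e.toEquiv.subsingleton
  have hM : Nonempty (RestrictScalars P B (Dual.HD B ω (-(n : ℤ))) ≃ₗ[P]
      Abelian.Ext (ModuleCat.of P B) (ModuleCat.of P P) (N - n)) := by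
    obtain ⟨e1⟩ := hH (-(n : ℤ))
    obtain ⟨e2⟩ := nonempty_restrictScalars_HD_rightAdjoint_linearEquiv_ext Rψ adj P (N - n)
    have hc : (N : ℤ) + -(n : ℤ) = ((N - n : ℕ) : ℤ) := by omega
    rw [hc] at e1
    exact ⟨(restrictScalarsCongr e1).trans e2⟩
  constructor
  · rintro ⟨L, _, _, hinv, ⟨e⟩⟩
    rw [key]
    intro q
    obtain ⟨eM⟩ := hM
    haveI : Module.Invertible B (Dual.HD B ω (-(n : ℤ))) :=
      Module.Invertible.congr (linearEquivOfRestrictScalars hs (e.trans eM.symm))
    obtain ⟨s, hs1, hfree⟩ := Module.Invertible.exists_finset_free_localization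
      (R := B) (M := Dual.HD B ω (-(n : ℤ)))
    have hex : ∃ r ∈ s, r ∉ q.asIdeal := by
      by_contra hcon
      push_neg at hcon
      have h1 : Ideal.span (s : Set B) ≤ q.asIdeal := Ideal.span_le.mpr hcon
      rw [hs1] at h1
      exact q.2.ne_top (top_le_iff.mp h1)
    obtain ⟨r, hr, hrq⟩ := hex
    haveI := hfree r hr
    obtain ⟨e'⟩ := Module.Invertible.free_iff_linearEquiv.1 this
    exact ⟨r, hrq, -(-(n : ℤ)),
      nonempty_lBaseChange_iso_shift_of_localized_equiv ω (-(n : ℤ)) hvanω r e'⟩
  · intro hG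
    have hloc := key.1 hG
    let s : Set B := {f | Nonempty (LocalizedModule.Away f (Dual.HD B ω (-(n : ℤ)))
      ≃ₗ[Localization.Away f] Localization.Away f)}
    have hs1 : Ideal.span s = ⊤ := by
      by_contra hne
      obtain ⟨𝔪, h𝔪, hle⟩ := Ideal.exists_le_maximal _ hne
      obtain ⟨f, hf, m, ⟨e⟩⟩ := hloc ⟨𝔪, h𝔪.isPrime⟩
      haveI : Nontrivial (Localization.Away f) := by
        rw [← not_subsingleton_iff_nontrivial,
          IsLocalization.subsingleton_iff (M := Submonoid.powers f)]
        rintro ⟨k, hk⟩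
        apply hf
        have h0 : f ^ k ∈ 𝔪 := by
          have : f ^ k = 0 := hk
          rw [this]; exact Ideal.zero_mem _
        exact h𝔪.isPrime.mem_of_pow_mem _ h0
      have hmem : f ∈ s :=
        nonempty_localized_equiv_of_lBaseChange_iso_shift ω (-(n : ℤ)) hvanω f m e
      exact hf (hle (Ideal.subset_span hmem))
    exact ⟨Dual.HD B ω (-(n : ℤ)), inferInstance, inferInstance,
      Groth.Agent.Lib.InvLocFreeH7.main s hs1 (fun f hf => hf), hM⟩

end Main

end Groth.Agent.Lib.ExtInvH6
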