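import Mathlib
import Groth.Agent.Lib.CMFib6_helper6
import Groth.Agent.Lib.ExtInv3_helper6

/-!
# Cohen–Macaulay fibres and `φ^!` (helper6), part 7: S11361.
-/

set_option autoImplicit false
set_option linter.style.haveILetI false
set_option linter.unusedSectionVars false
set_option linter.unusedVariables false
universe u
open CategoryTheory CategoryTheory.Limits DerivedCategory Pretriangulated
open scoped TensorProduct
attribute [local instance] HasDerivedCategory.standard

namespace Groth.Agent.Lib.CMFibH6

open DRing Groth.Agent.Lib.DMod_helper6 Groth.Agent.Lib.GorFibH6 Groth.Agent.Lib.TrivBCH6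
  Groth.Agent.Lib.ExtInvH6

section Main

variable (A : Type u) [CommRing A] [IsNoetherianRing A] (N n : ℕ) (hnN : n ≤ N)
  (I : Ideal (MvPolynomial (Fin N) A)) [Module.Flat A (MvPolynomial (Fin N) A ⧸ I)]

include hnN in
/-- **S11361** -/
theorem main11361 :
    (∀ p : PrimeSpectrum A,
      LocCoh.IsCohenMacaulayRing ((MvPolynomial (Fin N) A ⧸ I) ⊗[A] p.asIdeal.ResidueField) ∧
      ∀ Q : PrimeSpectrum ((MvPolynomial (Fin N) A ⧸ I) ⊗[A] p.asIdeal.ResidueField),
        Q.asIdeal ∈ minimalPrimes ((MvPolynomial (Fin N) A ⧸ I) ⊗[A] p.asIdeal.ResidueField) →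
          Order.coheight Q = (n : ℕ∞)) ↔
    ((∀ j : ℕ, j ≠ N - n → Subsingleton (Abelian.Ext
        (ModuleCat.of (MvPolynomial (Fin N) A) (MvPolynomial (Fin N) A ⧸ I))
        (ModuleCat.of (MvPolynomial (Fin N) A) (MvPolynomial (Fin N) A)) j)) ∧
      Module.Flat A (RestrictScalars A (MvPolynomial (Fin N) A) (Abelian.Ext
        (ModuleCat.of (MvPolynomial (Fin N) A) (MvPolynomial (Fin N) A ⧸ I))
        (ModuleCat.of (MvPolynomial (Fin N) A) (MvPolynomial (Fin N) A)) (N - n)))) := by
  set P := MvPolynomial (Fin N) A with hP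
  set B := P ⧸ I with hB
  let ψ : P →ₐ[A] B := Ideal.Quotient.mkₐ A I
  have hψ : Function.Surjective ψ := Ideal.Quotient.mkₐ_surjective A I
  have hs : Function.Surjective (algebraMap P B) := Ideal.Quotient.mk_surjective
  have : HasLBaseChange (algebraMap A P) := hasLBaseChange_general _
  obtain ⟨Rψ, ⟨adj⟩⟩ := Groth.Agent.Lib.RestrictRightAdj.exists_rightAdjoint_restrictD
    (algebraMap P B)
  rw [main_fibres_iff A B N ψ hψ Rψ adj n]
  set ω : Dual.D B := Dual2.shriekVia N Rψ (Dual.inD A A) with hω
  obtain ⟨e0⟩ := nonempty_lBaseChange_inD_self (R := A) (k := P)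
  have hH : ∀ i : ℤ, Nonempty (Dual.HD B ω i ≃ₗ[B]
      Dual.HD B (Rψ.obj (Dual.inD P P)) ((N : ℤ) + i)) := fun i =>
    ⟨(((homologyFunctor (ModuleCat.{u} B) 0).shiftIso (N : ℤ) i ((N : ℤ) + i) rfl).app
      (Rψ.obj ((LBaseChange (algebraMap A P)).obj (Dual.inD A A)))).toLinearEquiv.trans
      ((homologyFunctor (ModuleCat.{u} B) ((N : ℤ) + i)).mapIso (Rψ.mapIso e0)).toLinearEquiv⟩
  have hM : Nonempty (RestrictScalars P B (Dual.HD B ω (-(n : ℤ))) ≃ₗ[P]
      Abelian.Ext (ModuleCat.of P B) (ModuleCat.of P P) (N - n)) := by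
    obtain ⟨e1⟩ := hH (-(n : ℤ))
    obtain ⟨e2⟩ := nonempty_restrictScalars_HD_rightAdjoint_linearEquiv_ext Rψ adj P (N - n)
    have hc : (N : ℤ) + -(n : ℤ) = ((N - n : ℕ) : ℤ) := by omega
    rw [hc] at e1
    exact ⟨(restrictScalarsCongr e1).trans e2⟩
  refine and_congr ?_ ?_
  · constructor
    · intro hvanω j hj
      obtain ⟨e1⟩ := hH ((j : ℤ) - N)
      obtain ⟨e2⟩ := nonempty_restrictScalars_HD_rightAdjoint_linearEquiv_ext Rψ adj P j
      haveI := hvanω ((j : ℤ) - N) (by omega)
      have hc : (N : ℤ) + ((j : ℤ) - N) = (j : ℤ) := by ring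
      rw [hc] at e1
      haveI : Subsingleton (Dual.HD B (Rψ.obj (Dual.inD P P)) (j : ℤ)) :=
        e1.symm.toEquiv.subsingleton
      exact ((RestrictScalars.addEquiv P B _).symm.toEquiv.trans e2.toEquiv).symm.subsingleton
    · intro hvan
      have hvanR : ∀ j : ℤ, j ≠ ((N - n : ℕ) : ℤ) →
          Subsingleton (Dual.HD B (Rψ.obj (Dual.inD P P)) j) := by
        intro j hj
        rcases lt_or_ge j 0 with h | h
        · exact subsingleton_HD_rightAdjoint_of_neg Rψ adj P j h
        · obtain ⟨k, rfl⟩ := Int.eq_ofNat_of_zero_le h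
          obtain ⟨e⟩ := nonempty_restrictScalars_HD_rightAdjoint_linearEquiv_ext Rψ adj P k
          haveI := hvan k (by intro hk; exact hj (by rw [hk]))
          exact ((RestrictScalars.addEquiv P B _).symm.toEquiv.trans e.toEquiv).subsingleton
      intro i hi
      obtain ⟨e⟩ := hH i
      haveI := hvanR ((N : ℤ) + i) (by omega)
      exact e.toEquiv.subsingleton
  · obtain ⟨eM⟩ := hM
    let Mc : ModuleCat.{u} B := (DerivedCategory.homologyFunctor (ModuleCat.{u} B) (-(n : ℤ))).obj ω
    let E : ((ModuleCat.restrictScalars.{u} (algebraMap A B)).obj Mc) ≃ₗ[A]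
        RestrictScalars A P (Abelian.Ext (ModuleCat.of P B) (ModuleCat.of P P) (N - n)) :=
      { toFun := fun x => (RestrictScalars.addEquiv A P _).symm
          (eM ((RestrictScalars.addEquiv P B Mc).symm x))
        invFun := fun y => RestrictScalars.addEquiv P B Mc
          (eM.symm (RestrictScalars.addEquiv A P _ y))
        map_add' := fun x y => by
          have : (RestrictScalars.addEquiv P B Mc).symm (x + y) =
            (RestrictScalars.addEquiv P B Mc).symm x + (RestrictScalars.addEquiv P B Mc).symm y :=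
            map_add _ _ _
          erw [this]
          rw [map_add, map_add]
        map_smul' := fun a x => by
          have h1 : (RestrictScalars.addEquiv P B Mc).symm ((algebraMap A B a) • (show Mc from x)) =
              (algebraMap A P a) • (RestrictScalars.addEquiv P B Mc).symm (show Mc from x) := by
            rw [RestrictScalars.smul_def, AddEquiv.apply_symm_apply,
              ← IsScalarTower.algebraMap_apply]
          rw [RingHom.id_apply]
          erw [h1]
          rw [map_smul, RestrictScalars.smul_def, AddEquiv.apply_symm_apply]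
        left_inv := fun x => by simp
        right_inv := fun y => by simp }
    exact ⟨fun h => Module.Flat.of_linearEquiv E.symm, fun h => Module.Flat.of_linearEquiv E⟩

end Main

end Groth.Agent.Lib.CMFibH6
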