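import Mathlib
import Groth.Prelude.Def_Curv2
import Groth.Prelude.Def_CAlg
import Groth.Agent.Lib.CMLocusBC_helper5

/-!
# Cohen–Macaulay local rings and base change of the ground field (helper5): S7608, S7609.
APPEND-ONLY once landed.
-/

set_option autoImplicit false
universe u

namespace Groth.Agent.CMFieldBC

open AlgebraicGeometry CategoryTheory Limits TensorProduct IsLocalRing

open Groth.Agent.CMAscent Groth.Agent.CMLocusBC in
/-- all local rings of all fibres of a base change of `Spec K ⟶ Spec k` are CM, provided `K/k` is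
finitely generated or the base-changed scheme is locally of finite type over `k` -/
theorem isCM_stalk_fiber_of_isPullback (k K : Type u) [Field k] [Field K] [Algebra k K]
    {W' W : Scheme.{u}} (φ : W' ⟶ W) (p' : W' ⟶ Spec (.of K)) (p : W ⟶ Spec (.of k))
    (sq : IsPullback φ p' p (Spec.map (CommRingCat.ofHom (algebraMap k K))))
    (hess : Algebra.EssFiniteType k K ∨ LocallyOfFiniteType p) (z : W) (t : φ.fiber z) :
    LocCoh.IsCohenMacaulayLocalRing ((φ.fiber z).presheaf.stalk t) := by
  haveI : IsAffineHom φ :=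
    MorphismProperty.of_isPullback (P := @IsAffineHom) sq.flip inferInstance
  have sqT : IsPullback (φ.fiberι z) (φ.fiberToSpecResidueField z)
      φ (W.fromSpecResidueField z) := IsPullback.of_hasPullback _ _
  have s2 := sqT.paste_horiz sq.flip
  have hcψ : Spec.map (Spec.preimage (W.fromSpecResidueField z ≫ p)) =
      W.fromSpecResidueField z ≫ p := Spec.map_preimage _
  rw [← hcψ] at s2
  letI : Algebra k (W.residueField z) :=
    (Spec.preimage (W.fromSpecResidueField z ≫ p)).hom.toAlgebra
  obtain ⟨eΓ⟩ := gamma_equiv_of_isPullback_Spec k (W.residueField z) K _ _ s2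
  have hCM : LocCoh.IsCohenMacaulayRing (K ⊗[k] W.residueField z) := by
    rcases hess with h | h
    · haveI := h
      exact Groth.Agent.TensorCM.isCMRing_tensor_field k (W.residueField z) K
    · haveI := h
      haveI : Algebra.EssFiniteType k (W.residueField z) := essFiniteType_preimage p z
      exact Groth.Agent.Lib.CMEquivH3.isCohenMacaulayRing_of_ringEquiv
        (Algebra.TensorProduct.comm k (W.residueField z) K).toRingEquiv
        (Groth.Agent.TensorCM.isCMRing_tensor_field k K (W.residueField z))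
  haveI : LocCoh.IsCohenMacaulayRing Γ(φ.fiber z, ⊤) :=
    Groth.Agent.Lib.CMEquivH3.isCohenMacaulayRing_of_ringEquiv eΓ hCM
  exact isCM_stalk_of_isAffine t

open Groth.Agent.FibStalkIso Groth.Agent.FibStalkDimH8 FibRedH8 in
theorem cm_iff_bc (k : Type u) [Field k] (X : Scheme.{u}) [X.Over (Spec (CommRingCat.of k))]
    (k' : Type u) [Field k'] [Algebra k k']
    (hess : Algebra.EssFiniteType k k' ∨ LocallyOfFiniteType (X ↘ Spec (CommRingCat.of k)))
    [IsLocallyNoetherian X] [IsLocallyNoetherian (Curv2.bc k X k')] (x' : Curv2.bc k X k') :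
    LocCoh.IsCohenMacaulayLocalRing (X.presheaf.stalk (Curv2.bcFst k X k' x')) ↔
      LocCoh.IsCohenMacaulayLocalRing ((Curv2.bc k X k').presheaf.stalk x') := by
  have sq : IsPullback (Curv2.bcFst k X k') (Curv2.bcSnd k X k') (X ↘ Spec (CommRingCat.of k))
      (Spec.map (CommRingCat.ofHom (algebraMap k k'))) := IsPullback.of_hasPullback _ _
  haveI : Flat (Spec.map (CommRingCat.ofHom (algebraMap k k'))) :=
    Flat.SpecMap_iff.mpr (RingHom.flat_algebraMap_iff.mpr inferInstance)
  haveI : Flat (Curv2.bcFst k X k') :=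
    MorphismProperty.of_isPullback (P := @Flat) sq.flip inferInstance
  letI : Algebra (X.presheaf.stalk (Curv2.bcFst k X k' x'))
      ((Curv2.bc k X k').presheaf.stalk x') := ((Curv2.bcFst k X k').stalkMap x').hom.toAlgebra
  haveI : IsLocalHom (algebraMap (X.presheaf.stalk (Curv2.bcFst k X k' x'))
      ((Curv2.bc k X k').presheaf.stalk x')) :=
    inferInstanceAs (IsLocalHom ((Curv2.bcFst k X k').stalkMap x').hom)
  haveI : Module.Flat (X.presheaf.stalk (Curv2.bcFst k X k' x'))
      ((Curv2.bc k X k').presheaf.stalk x') := Flat.stalkMap (Curv2.bcFst k X k') x'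
  have hF : LocCoh.IsCohenMacaulayLocalRing
      (EGA4.FibRing (X.presheaf.stalk (Curv2.bcFst k X k' x'))
        ((Curv2.bc k X k').presheaf.stalk x')) := by
    haveI := isCM_stalk_fiber_of_isPullback k k' (Curv2.bcFst k X k') (Curv2.bcSnd k X k')
      (X ↘ Spec (CommRingCat.of k)) sq hess (Curv2.bcFst k X k' x')
      ((Curv2.bcFst k X k').asFiber x')
    have : LocCoh.IsCohenMacaulayLocalRing
        ((Curv2.bc k X k').presheaf.stalk x' ⧸ fibIdeal (Curv2.bcFst k X k') x') :=
      Groth.Agent.FlatCM.isCMLocalRing_of_ringEquiv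
        (fibStalkEquiv (Curv2.bcFst k X k') x').symm
    exact this
  constructor
  · intro hA
    exact (Groth.Agent.FlatCM.isCM_local_iff (X.presheaf.stalk (Curv2.bcFst k X k' x'))
      ((Curv2.bc k X k').presheaf.stalk x')).2 ⟨hA, hF⟩
  · intro hB
    exact ((Groth.Agent.FlatCM.isCM_local_iff (X.presheaf.stalk (Curv2.bcFst k X k' x'))
      ((Curv2.bc k X k').presheaf.stalk x')).1 hB).1

theorem main7608 (k : Type u) [Field k] (X : Scheme.{u}) [X.Over (Spec (CommRingCat.of k))]
    [IsLocallyNoetherian X] (k' : Type u) [Field k'] [Algebra k k']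
    (hfg : (⊤ : IntermediateField k k').FG) (x' : ↥(Curv2.bc k X k')) :
    LocCoh.IsCohenMacaulayLocalRing ↥(X.presheaf.stalk (Curv2.bcFst k X k' x')) ↔
      LocCoh.IsCohenMacaulayLocalRing ↥((Curv2.bc k X k').presheaf.stalk x') := by
  haveI hE : Algebra.EssFiniteType k k' := IntermediateField.fg_top_iff.mp hfg
  have sq : IsPullback (Curv2.bcFst k X k') (Curv2.bcSnd k X k') (X ↘ Spec (CommRingCat.of k))
      (Spec.map (CommRingCat.ofHom (algebraMap k k'))) := IsPullback.of_hasPullback _ _
  haveI : IsLocallyNoetherian (Curv2.bc k X k') :=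
    Groth.Agent.FibNoeth.isLocallyNoetherian_of_isPullback_essFiniteType
      (CommRingCat.ofHom (algebraMap k k')) (RingHom.essFiniteType_algebraMap.mpr hE)
      (Curv2.bcFst k X k') (Curv2.bcSnd k X k') (X ↘ Spec (CommRingCat.of k)) sq
  exact cm_iff_bc k X k' (Or.inl hE) x'

theorem main7609 (k : Type u) [Field k] (X : Scheme.{u}) [X.Over (Spec (CommRingCat.of k))]
    [LocallyOfFiniteType (X ↘ (Spec (CommRingCat.of k)))]
    (k' : Type u) [Field k'] [Algebra k k'] (x' : ↥(Curv2.bc k X k')) :
    LocCoh.IsCohenMacaulayLocalRing ↥(X.presheaf.stalk (Curv2.bcFst k X k' x')) ↔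
      LocCoh.IsCohenMacaulayLocalRing ↥((Curv2.bc k X k').presheaf.stalk x') := by
  haveI : IsLocallyNoetherian X :=
    LocallyOfFiniteType.isLocallyNoetherian (X ↘ (Spec (CommRingCat.of k)))
  haveI : LocallyOfFiniteType (Curv2.bcSnd k X k') :=
    MorphismProperty.pullback_snd _ _ inferInstance
  haveI : IsLocallyNoetherian (Curv2.bc k X k') :=
    LocallyOfFiniteType.isLocallyNoetherian (Curv2.bcSnd k X k')
  exact cm_iff_bc k X k' (Or.inr inferInstance) x'

end Groth.Agent.CMFieldBC
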