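import Mathlib
import Groth.Agent.Lib.FormalUC_helper9

/-!
# Formal equidimensionality and minimal primes (helper9)

* `isEquidim_of_isDomain`.
* `isFormallyCatenary_of_surjective_isCM`: quotients of CM local rings are formally catenary (S2635).
* `isFormallyEquidim_iff_minimalPrimes`: EGA IV 7.1.8-type criterion (S2629).
APPEND-ONLY once landed.
-/

set_option autoImplicit false
universe u

namespace Groth.Agent.EquiCat9

open IsLocalRing TensorProduct Groth.Agent.FlatCM

theorem isEquidim_of_isDomain (R : Type u) [CommRing R] [IsDomain R] : EGA4.IsEquidim R := by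
  intro p hp
  have h := IsDomain.minimalPrimes_eq_singleton_bot (R := R)
  have hp' : p = ⊥ := by
    have : p ∈ ({⊥} : Set (Ideal R)) := h ▸ hp
    simpa using this
  rw [hp']
  exact ringKrullDim_eq_of_ringEquiv (RingEquiv.quotientBot R)

section CMQuot

theorem isFormallyCatenary_of_surjective_isCM (A : Type u) [CommRing A]
    [hA : LocCoh.IsCohenMacaulayLocalRing A]
    (B : Type u) [CommRing B] [IsNoetherianRing B] [IsLocalRing B] [Algebra A B]
    (hs : Function.Surjective (algebraMap A B)) : EGA4.IsFormallyCatenary B := by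
  intro p hp
  haveI : IsNoetherianRing A := hA.toIsNoetherian
  let g : A →+* B ⧸ p := (Ideal.Quotient.mk p).comp (algebraMap A B)
  have hg : Function.Surjective g := Ideal.Quotient.mk_surjective.comp hs
  let e : A ⧸ RingHom.ker g ≃+* B ⧸ p := RingHom.quotientKerEquivOfSurjective hg
  haveI : IsDomain (A ⧸ RingHom.ker g) := e.toMulEquiv.isDomain (B ⧸ p)
  have h1 : EGA4.IsEquidim (A ⧸ RingHom.ker g) := isEquidim_of_isDomain _
  have h2 := isFormallyEquidim_quot_of_isCM A (RingHom.ker g) h1
  exact isFormallyEquidim_of_ringEquiv e h2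

end CMQuot

section MinCrit

variable (A : Type u) [CommRing A] [IsNoetherianRing A] [IsLocalRing A]

/-- the closed fibre of the completion is zero-dimensional -/
theorem fibRing_cpl_dim_zero [IsLocalRing (EGA4.Cpl A)] :
    ringKrullDim (EGA4.FibRing A (EGA4.Cpl A)) = 0 := by
  obtain ⟨hloc, hnoeth, hcompl, hff, hlh, hmap⟩ := Groth.Agent.Lib.AnUnramH3.completion_facts A
  have e : EGA4.FibRing A (AdicCompletion (maximalIdeal A) A) ≃+*
      ResidueField (AdicCompletion (maximalIdeal A) A) := Ideal.quotEquivOfEq hmap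
  show ringKrullDim (EGA4.FibRing A (AdicCompletion (maximalIdeal A) A)) = 0
  rw [ringKrullDim_eq_of_ringEquiv e]
  exact ringKrullDim_eq_zero_of_field _

/-- **EGA IV 7.1.8-type criterion**: `A` is formally equidimensional iff it is equidimensional and
`A/p` is formally equidimensional for every minimal prime `p`. -/
theorem isFormallyEquidim_iff_minimalPrimes :
    EGA4.IsFormallyEquidim A ↔
      (EGA4.IsEquidim A ∧ ∀ (p : Ideal A) [p.IsPrime], p ∈ minimalPrimes A →
        EGA4.IsFormallyEquidim (A ⧸ p)) := by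
  constructor
  · intro h
    obtain ⟨⟨heq, -⟩, hq⟩ := isFormallyEquidim_main A h
    exact ⟨heq, fun p _ _ => ((hq p).1 (isEquidim_of_isDomain _))⟩
  · rintro ⟨heq, hmin⟩
    obtain ⟨hloc, hnoeth, hcompl, hff, hlh, hmap⟩ := Groth.Agent.Lib.AnUnramH3.completion_facts A
    haveI := hloc
    haveI := hnoeth
    haveI := hcompl
    haveI := hlh
    haveI : Module.Flat A (AdicCompletion (maximalIdeal A) A) := inferInstance
    have h0 : ringKrullDim (EGA4.FibRing A (AdicCompletion (maximalIdeal A) A)) = 0 :=
      fibRing_cpl_dim_zero A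
    intro P' hP'
    haveI : P'.IsPrime := hP'.1.1
    obtain ⟨h1, h2⟩ := comap_mem_minimalPrimes A (AdicCompletion (maximalIdeal A) A) ⊥ P'
      (by rw [Ideal.map_bot]; exact hP')
    set p₁ := P'.comap (algebraMap A (AdicCompletion (maximalIdeal A) A)) with hp₁
    haveI : p₁.IsPrime := h1.1.1
    have hfe : EGA4.IsFormallyEquidim (A ⧸ p₁) := hmin p₁ h1
    obtain ⟨e⟩ := cpl_quot_equiv A p₁
    have hE : EGA4.IsEquidim (AdicCompletion (maximalIdeal A) A ⧸
        p₁.map (algebraMap A (AdicCompletion (maximalIdeal A) A))) :=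
      isEquidim_of_ringEquiv e.symm hfe
    rw [isEquidim_quot_iff] at hE
    rw [hE P' h2, ringKrullDim_quot_map_eq A _ h0 p₁ (le_maximalIdeal Ideal.IsPrime.ne_top'),
      heq p₁ h1, dim_eq_add A (AdicCompletion (maximalIdeal A) A), h0, add_zero]

end MinCrit

end Groth.Agent.EquiCat9
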