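import Mathlib
import Groth.Agent.Lib.FormalEquidimMin_helper9

/-!
# Formal equidimensionality of essentially finite type algebras (helper9)

* `isFormallyEquidim_descent`: formal equidimensionality descends along flat local homs.
* `isFormallyEquidim_localization_of_surjective`.
* `isFormallyEquidim_mvPolynomial_localization`: `A` formally equidimensional ⇒ `A[X]_𝔔` too.
* `isFormallyEquidim_of_essFiniteType`, `isFormallyEquidim_of_essFiniteType_of_isFormallyCatenary`
  (S2634).
APPEND-ONLY once landed.
-/

set_option autoImplicit false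
universe u

namespace Groth.Agent.EquiCat9

open IsLocalRing TensorProduct Groth.Agent.FlatCM Groth.Agent.Lib.Catenary_helper4

section Descent

variable (A A' : Type u) [CommRing A] [CommRing A'] [IsNoetherianRing A] [IsNoetherianRing A']
  [IsLocalRing A] [IsLocalRing A'] [Algebra A A'] [IsLocalHom (algebraMap A A')] [Module.Flat A A']

/-- formal equidimensionality descends along flat local homomorphisms -/
theorem isFormallyEquidim_descent (h : EGA4.IsFormallyEquidim A') : EGA4.IsFormallyEquidim A := by
  obtain ⟨hloc, hnoeth, hcompl, -, -, -⟩ := Groth.Agent.Lib.AnUnramH3.completion_facts A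
  obtain ⟨hloc', hnoeth', hcompl', -, -, -⟩ := Groth.Agent.Lib.AnUnramH3.completion_facts A'
  haveI := hloc
  haveI := hnoeth
  haveI := hloc'
  haveI := hnoeth'
  haveI := hcompl'
  letI := Groth.Agent.Lib.FFTransferH3.algCpl A A'
  haveI := Groth.Agent.Lib.FFTransferH3.flat_cpl A A'
  haveI := Groth.Agent.Lib.FFTransferH3.isLocalHom_cpl A A'
  exact (isEquidim_isCatenary_descent (EGA4.Cpl A) (EGA4.Cpl A') h (isCatenary_of_complete _)).1

end Descent

section LocSurj

/-- equidimensional local rings of surjective images of CM rings are formally equidimensional -/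
theorem isFormallyEquidim_localization_of_surjective (P R : Type u) [CommRing P] [CommRing R]
    [hP : LocCoh.IsCohenMacaulayRing P] (f : P →+* R) (hf : Function.Surjective f)
    (Q : Ideal R) [Q.IsPrime] (hE : EGA4.IsEquidim (Localization.AtPrime Q)) :
    EGA4.IsFormallyEquidim (Localization.AtPrime Q) := by
  haveI : IsNoetherianRing P := hP.toIsNoetherian
  haveI : IsNoetherianRing R := isNoetherianRing_of_surjective P R f hf
  let ε : P ⧸ RingHom.ker f ≃+* R := RingHom.quotientKerEquivOfSurjective hf
  set Q₀ := Q.comap (ε : P ⧸ RingHom.ker f →+* R) with hQ₀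
  haveI : Q₀.IsPrime := Ideal.comap_isPrime _ _
  let e : Localization.AtPrime Q₀ ≃+* Localization.AtPrime Q :=
    Localization.localRingEquiv Q₀ Q ε rfl
  have h1 : EGA4.IsEquidim (Localization.AtPrime Q₀) := isEquidim_of_ringEquiv e.symm hE
  have h2 := isFormallyEquidim_localization_quot P (RingHom.ker f) Q₀ h1
  haveI : IsNoetherianRing (Localization.AtPrime Q₀) :=
    IsLocalization.isNoetherianRing Q₀.primeCompl _ inferInstance
  haveI : IsNoetherianRing (Localization.AtPrime Q) :=
    IsLocalization.isNoetherianRing Q.primeCompl _ inferInstance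
  exact isFormallyEquidim_of_ringEquiv e h2

end LocSurj

section PolyLoc

attribute [local instance] MvPolynomial.algebraMvPolynomial

variable (A : Type u) [CommRing A] [IsNoetherianRing A] [IsLocalRing A]

/-- **Ratliff**: for a formally equidimensional local ring `A`, every localization of a
polynomial ring over `A` at a prime is formally equidimensional. -/
theorem isFormallyEquidim_mvPolynomial_localization (n : ℕ) (hA : EGA4.IsFormallyEquidim A)
    (𝔔 : Ideal (MvPolynomial (Fin n) A)) [𝔔.IsPrime] :
    EGA4.IsFormallyEquidim (Localization.AtPrime 𝔔) := by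
  obtain ⟨hloc, hnoeth, hcompl, hff, hlh, hmap⟩ := Groth.Agent.Lib.AnUnramH3.completion_facts A
  haveI := hloc
  haveI := hnoeth
  haveI := hcompl
  haveI := hlh
  haveI := hff
  have hÂcov : CovAdd (AdicCompletion (maximalIdeal A) A) :=
    covAdd_of_isEquidim_isCatenary hA (isCatenary_of_complete _)
  have hEcat : CAlg.IsCatenary (MvPolynomial (Fin n) (AdicCompletion (maximalIdeal A) A)) :=
    (isUniversallyCatenary_of_complete (AdicCompletion (maximalIdeal A) A)).2 _ inferInstance
  haveI hEff : Module.FaithfullyFlat (MvPolynomial (Fin n) A)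
      (MvPolynomial (Fin n) (AdicCompletion (maximalIdeal A) A)) :=
    faithfullyFlat_mvPolynomial A _
  have hne : 𝔔.map (algebraMap (MvPolynomial (Fin n) A)
      (MvPolynomial (Fin n) (AdicCompletion (maximalIdeal A) A))) ≠ ⊤ := by
    intro htop
    have h1 := Ideal.comap_map_eq_self_of_faithfullyFlat
      (B := MvPolynomial (Fin n) (AdicCompletion (maximalIdeal A) A)) 𝔔
    rw [htop, Ideal.comap_top] at h1
    exact Ideal.IsPrime.ne_top' h1.symm
  obtain ⟨⟨𝔔', h𝔔'⟩⟩ := Ideal.nonempty_minimalPrimes hne
  haveI : 𝔔'.IsPrime := h𝔔'.1.1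
  haveI hlo : 𝔔'.LiesOver 𝔔 :=
    Groth.Agent.DepthLib.liesOver_of_mem_minimalPrimes_map _ _ 𝔔 𝔔' h𝔔'
  letI := Localization.AtPrime.algebraOfLiesOver 𝔔 𝔔'
  haveI : IsLocalHom (algebraMap (Localization.AtPrime 𝔔) (Localization.AtPrime 𝔔')) :=
    Localization.isLocalHom_localRingHom _ _ _ _
  haveI : Module.Flat (Localization.AtPrime 𝔔) (Localization.AtPrime 𝔔') :=
    flat_localization_liesOver _ _ 𝔔 𝔔'
  haveI : IsNoetherianRing (Localization.AtPrime 𝔔) :=
    IsLocalization.isNoetherianRing 𝔔.primeCompl _ inferInstance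
  haveI : IsNoetherianRing (Localization.AtPrime 𝔔') :=
    IsLocalization.isNoetherianRing 𝔔'.primeCompl _ inferInstance
  have hScov : CovAdd (Localization.AtPrime 𝔔') :=
    covAdd_mvPolynomial_localization_of_covAdd _ n hÂcov hEcat 𝔔'
  have hSeq : EGA4.IsEquidim (Localization.AtPrime 𝔔') := isEquidim_of_covAdd hScov
  obtain ⟨P, _, hP, f, hf⟩ := exists_surjective_of_isCMRing (AdicCompletion (maximalIdeal A) A)
  haveI := isCMRing_mvPolynomial P n
  have hSfe : EGA4.IsFormallyEquidim (Localization.AtPrime 𝔔') :=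
    isFormallyEquidim_localization_of_surjective (MvPolynomial (Fin n) P) _
      (MvPolynomial.map f) (MvPolynomial.map_surjective f hf) 𝔔' hSeq
  exact isFormallyEquidim_descent _ _ hSfe

end PolyLoc

section Present

variable (A B : Type u) [CommRing A] [CommRing B] [IsLocalRing B] [Algebra A B]
  [Algebra.EssFiniteType A B]

/-- a local essentially-finite-type algebra is a quotient of a localized polynomial ring -/
theorem exists_surjective_localization_mvPolynomial :
    ∃ (n : ℕ) (𝔔 : Ideal (MvPolynomial (Fin n) A)) (_ : 𝔔.IsPrime)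
      (φ : Localization.AtPrime 𝔔 →+* B), Function.Surjective φ := by
  obtain ⟨n, f, hf⟩ := Algebra.FiniteType.iff_quotient_mvPolynomial''.mp
    (inferInstance : Algebra.FiniteType A (Algebra.EssFiniteType.subalgebra A B))
  let g : MvPolynomial (Fin n) A →+* B :=
    (algebraMap (Algebra.EssFiniteType.subalgebra A B) B).comp f.toRingHom
  haveI : ((maximalIdeal B).comap g).IsPrime := Ideal.comap_isPrime _ _
  have hg : ∀ y : ((maximalIdeal B).comap g).primeCompl, IsUnit (g y) := by
    intro y
    by_contra hy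
    exact y.2 ((mem_maximalIdeal _).2 hy)
  refine ⟨n, (maximalIdeal B).comap g, inferInstance, IsLocalization.lift hg, ?_⟩
  rw [IsLocalization.lift_surjective_iff]
  intro b
  obtain ⟨⟨x, s⟩, hxs⟩ := IsLocalization.surj (Algebra.EssFiniteType.submonoid A B) b
  obtain ⟨x', hx'⟩ := hf x
  obtain ⟨s', hs'⟩ := hf s.1
  have hsunit : IsUnit (algebraMap (Algebra.EssFiniteType.subalgebra A B) B s.1) := s.2
  have hgs : g s' = algebraMap (Algebra.EssFiniteType.subalgebra A B) B s.1 := by
    show algebraMap (Algebra.EssFiniteType.subalgebra A B) B (f s') = _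
    rw [hs']
  have hgx : g x' = algebraMap (Algebra.EssFiniteType.subalgebra A B) B x := by
    show algebraMap (Algebra.EssFiniteType.subalgebra A B) B (f x') = _
    rw [hx']
  refine ⟨(x', ⟨s', ?_⟩), ?_⟩
  · intro hmem
    have h1 : g s' ∈ maximalIdeal B := hmem
    rw [hgs] at h1
    exact (mem_maximalIdeal _).1 h1 hsunit
  · show b * g s' = g x'
    rw [hgs, hgx]
    exact hxs

end Present

section Main

variable (A : Type u) [CommRing A] [IsNoetherianRing A] [IsLocalRing A]
  (B : Type u) [CommRing B] [IsNoetherianRing B] [IsLocalRing B] [Algebra A B]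
  [Algebra.EssFiniteType A B]

/-- equidimensional local rings essentially of finite type over a formally equidimensional local
ring are formally equidimensional -/
theorem isFormallyEquidim_of_essFiniteType (hA : EGA4.IsFormallyEquidim A)
    (hB : EGA4.IsEquidim B) : EGA4.IsFormallyEquidim B := by
  obtain ⟨n, 𝔔, h𝔔, φ, hφ⟩ := exists_surjective_localization_mvPolynomial A B
  haveI := h𝔔
  haveI : IsNoetherianRing (Localization.AtPrime 𝔔) :=
    IsLocalization.isNoetherianRing 𝔔.primeCompl _ inferInstance
  have hD := isFormallyEquidim_mvPolynomial_localization A n hA 𝔔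
  let e : Localization.AtPrime 𝔔 ⧸ RingHom.ker φ ≃+* B :=
    RingHom.quotientKerEquivOfSurjective hφ
  haveI : Nontrivial (Localization.AtPrime 𝔔 ⧸ RingHom.ker φ) := e.toEquiv.nontrivial
  have h1 : EGA4.IsEquidim (Localization.AtPrime 𝔔 ⧸ RingHom.ker φ) :=
    isEquidim_of_ringEquiv e.symm hB
  have h2 := ((isFormallyEquidim_main _ hD).2 (RingHom.ker φ)).1 h1
  exact isFormallyEquidim_of_ringEquiv e h2

/-- **EGA IV 7.1.9-type (S2634)** -/
theorem isFormallyEquidim_of_essFiniteType_of_isFormallyCatenary
    (hA : EGA4.IsFormallyCatenary A) (hB : EGA4.IsEquidim B) : EGA4.IsFormallyEquidim B := by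
  rw [isFormallyEquidim_iff_minimalPrimes]
  refine ⟨hB, fun 𝔭 _ h𝔭 => ?_⟩
  set p := 𝔭.under A with hp
  haveI : p.IsPrime := Ideal.comap_isPrime _ _
  haveI : 𝔭.LiesOver p := ⟨rfl⟩
  have hfe : EGA4.IsFormallyEquidim (A ⧸ p) := hA p
  haveI : Algebra.EssFiniteType A (B ⧸ 𝔭) := Algebra.EssFiniteType.comp A B (B ⧸ 𝔭)
  haveI : Algebra.EssFiniteType (A ⧸ p) (B ⧸ 𝔭) :=
    Algebra.EssFiniteType.of_comp A (A ⧸ p) (B ⧸ 𝔭)
  exact isFormallyEquidim_of_essFiniteType (A ⧸ p) (B ⧸ 𝔭) hfe (isEquidim_of_isDomain _)

end Main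

end Groth.Agent.EquiCat9
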