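import Mathlib
import Groth.Agent.Lib.TensorFieldCM_helper9

/-!
# `(S_n)` for tensor products over a field (helper9)

* `hasSk_of_isCMRing`, `hasSk_of_ringEquiv`.
* `hasSk_tensor_field`: `κ ⊗_k T` has `(S_n)` if `T` does.
* `hasSk_tensor`: `S ⊗_k T` has `(S_n)` if `S` and `T` do (EGA IV 6.7.x).
APPEND-ONLY once landed.
-/

set_option autoImplicit false
universe u

namespace Groth.Agent.TensorCM

open IsLocalRing TensorProduct Groth.Agent.FlatCM Groth.Agent.Lib.CMEquivH3

/-- CM rings satisfy `(S_n)` for all `n`. -/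
theorem hasSk_of_isCMRing (n : ℕ) (R : Type u) [CommRing R] [h : LocCoh.IsCohenMacaulayRing R] :
    LocCoh.HasSk n R R := by
  rw [hasSk_self_iff]
  intro p hp
  haveI : IsNoetherianRing (Localization.AtPrime p) :=
    IsLocalization.isNoetherianRing p.primeCompl _ inferInstance
  have h1 := (isCMLocalRing_iff (Localization.AtPrime p)).1
    (h.isCohenMacaulayLocalRing_localization p)
  rw [← h1]
  exact min_le_right _ _

/-- `(S_n)` is invariant under ring isomorphisms. -/
theorem hasSk_of_ringEquiv (n : ℕ) {R R' : Type u} [CommRing R] [CommRing R'] [IsNoetherianRing R]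
    (e : R ≃+* R') (h : LocCoh.HasSk n R R) : LocCoh.HasSk n R' R' := by
  haveI : IsNoetherianRing R' := isNoetherianRing_of_ringEquiv R e
  rw [hasSk_self_iff_skLoc] at h ⊢
  intro p' hp'
  have e' : Localization.AtPrime (p'.comap e) ≃+* Localization.AtPrime p' :=
    IsLocalization.ringEquivOfRingEquiv
      (Localization.AtPrime (p'.comap e)) (Localization.AtPrime p') e
      (e.map_primeCompl_comap_eq p')
  haveI : IsNoetherianRing (Localization.AtPrime (p'.comap e)) :=
    IsLocalization.isNoetherianRing (p'.comap e).primeCompl _ inferInstance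
  haveI : IsNoetherianRing (Localization.AtPrime p') :=
    IsLocalization.isNoetherianRing p'.primeCompl _ inferInstance
  exact skLoc_of_ringEquiv e' (h (p'.comap e))

section Field

variable (n : ℕ) (k κ T : Type u) [Field k] [Field κ] [CommRing T] [Algebra k κ] [Algebra k T]
  [IsNoetherianRing T]

/-- `T ⊗_k κ` has `(S_n)` if `T` does, when `κ/k` is finitely generated or `T` is of finite type. -/
theorem hasSk_tensor_field (hft : Algebra.EssFiniteType k κ ∨ Algebra.FiniteType k T)
    [IsNoetherianRing (T ⊗[k] κ)] (hT : LocCoh.HasSk n T T) :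
    LocCoh.HasSk n (T ⊗[k] κ) (T ⊗[k] κ) := by
  apply hasSk_of_flat T (T ⊗[k] κ) n hT
  intro t ht
  let e : t.Fiber (T ⊗[k] κ) ≃ₐ[t.ResidueField] t.ResidueField ⊗[k] κ :=
    Algebra.TensorProduct.cancelBaseChange k T t.ResidueField t.ResidueField κ
  haveI hCM : LocCoh.IsCohenMacaulayRing (t.ResidueField ⊗[k] κ) := by
    rcases hft with h | h
    · exact isCohenMacaulayRing_of_ringEquiv
        (Algebra.TensorProduct.comm k κ t.ResidueField).toRingEquiv
        (isCMRing_tensor_field k t.ResidueField κ)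
    · haveI : Algebra.EssFiniteType k t.ResidueField := Algebra.EssFiniteType.comp k T _
      exact isCMRing_tensor_field k κ t.ResidueField
  haveI : LocCoh.IsCohenMacaulayRing (t.Fiber (T ⊗[k] κ)) :=
    isCohenMacaulayRing_of_ringEquiv e.symm.toRingEquiv hCM
  exact hasSk_of_isCMRing n _

end Field

section Tensor

variable (n : ℕ) (k S T : Type u) [Field k] [CommRing S] [CommRing T] [Algebra k S] [Algebra k T]
  [IsNoetherianRing S] [IsNoetherianRing T]

/-- `S ⊗_k T` has `(S_n)` if `S` and `T` do. -/
theorem hasSk_tensor (hft : Algebra.FiniteType k S ∨ Algebra.FiniteType k T)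
    [IsNoetherianRing (S ⊗[k] T)] (hS : LocCoh.HasSk n S S) (hT : LocCoh.HasSk n T T) :
    LocCoh.HasSk n (S ⊗[k] T) (S ⊗[k] T) := by
  apply hasSk_of_flat S (S ⊗[k] T) n hS
  intro p hp
  let e : p.Fiber (S ⊗[k] T) ≃ₐ[p.ResidueField] p.ResidueField ⊗[k] T :=
    Algebra.TensorProduct.cancelBaseChange k S p.ResidueField p.ResidueField T
  haveI : IsNoetherianRing (p.Fiber (S ⊗[k] T)) :=
    Groth.Agent.Lib.RegFlatH3.isNoetherianRing_fiber S (S ⊗[k] T) p
  let e' : p.Fiber (S ⊗[k] T) ≃+* T ⊗[k] p.ResidueField :=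
    e.toRingEquiv.trans (Algebra.TensorProduct.comm k p.ResidueField T).toRingEquiv
  haveI : IsNoetherianRing (T ⊗[k] p.ResidueField) := isNoetherianRing_of_ringEquiv _ e'
  have hft' : Algebra.EssFiniteType k p.ResidueField ∨ Algebra.FiniteType k T := by
    rcases hft with h | h
    · left
      exact Algebra.EssFiniteType.comp k S _
    · right
      exact h
  exact hasSk_of_ringEquiv n e'.symm (hasSk_tensor_field n k p.ResidueField T hft' hT)

end Tensor

end Groth.Agent.TensorCM
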