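import Mathlib
import Groth.Agent.Lib.TensorSk_helper9
import Groth.Agent.Lib.DepthSkQuot_helper5
import Groth.Agent.Lib.DepthRefl_helper5

/-!
# `(S_n)` at a prime and flat maps with Cohen–Macaulay fibres (helper9)

* `hasSkAt_self_iff`: `HasSkAt n R R q ↔ ∀ r ≤ q, SkLoc n R_r`.
* `hasSkAt_iff_of_cm_fibres`: for flat `R → S` with CM fibres, `(S_n)` at `Q ∩ R` iff `(S_n)` at `Q`.
* `codepth_eq_of_cm_fibre`.
APPEND-ONLY once landed.
-/

set_option autoImplicit false
universe u

namespace Groth.Agent.TensorCM

open IsLocalRing TensorProduct Groth.Agent.FlatCM Groth.Agent.Lib.CMEquivH3 Groth.Agent.DepthLib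

section SkAt

variable (n : ℕ) (R : Type u) [CommRing R] [IsNoetherianRing R]

theorem hasSkAt_self_iff (q : Ideal R) [q.IsPrime] :
    EGA4.HasSkAt n R R q ↔
      ∀ (r : Ideal R) [r.IsPrime], r ≤ q → SkLoc n (Localization.AtPrime r) := by
  haveI : IsNoetherianRing (Localization.AtPrime q) :=
    IsLocalization.isNoetherianRing q.primeCompl _ inferInstance
  have h1 : EGA4.HasSkAt n R R q ↔
      LocCoh.HasSk n (Localization.AtPrime q) (Localization.AtPrime q) := by
    unfold EGA4.HasSkAt
    exact ⟨hasSk_congr (locSelfEquiv R q) n, hasSk_congr (locSelfEquiv R q).symm n⟩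
  rw [h1, hasSk_self_iff_skLoc]
  have key : ∀ (P : Ideal (Localization.AtPrime q)) [P.IsPrime],
      SkLoc n (Localization.AtPrime P) ↔
        SkLoc n (Localization.AtPrime (P.comap (algebraMap R (Localization.AtPrime q)))) := by
    intro P hP
    haveI : IsLocalization.AtPrime (Localization.AtPrime P)
        (P.comap (algebraMap R (Localization.AtPrime q))) :=
      IsLocalization.isLocalization_isLocalization_atPrime_isLocalization q.primeCompl _ P
    have e : Localization.AtPrime (P.comap (algebraMap R (Localization.AtPrime q))) ≃ₐ[R]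
        Localization.AtPrime P :=
      IsLocalization.algEquiv (P.comap (algebraMap R (Localization.AtPrime q))).primeCompl _ _
    haveI : IsNoetherianRing (Localization.AtPrime P) :=
      IsLocalization.isNoetherianRing P.primeCompl _ inferInstance
    haveI : IsNoetherianRing
        (Localization.AtPrime (P.comap (algebraMap R (Localization.AtPrime q)))) :=
      IsLocalization.isNoetherianRing
        (P.comap (algebraMap R (Localization.AtPrime q))).primeCompl _ inferInstance
    exact ⟨skLoc_of_ringEquiv e.symm.toRingEquiv, skLoc_of_ringEquiv e.toRingEquiv⟩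
  constructor
  · intro h r hr hrq
    have hdisj : Disjoint (q.primeCompl : Set R) (r : Set R) := by
      rw [Set.disjoint_left]
      intro x hx hxr
      exact hx (hrq hxr)
    haveI hP : (r.map (algebraMap R (Localization.AtPrime q))).IsPrime :=
      IsLocalization.isPrime_of_isPrime_disjoint q.primeCompl _ r hr hdisj
    have hc : (r.map (algebraMap R (Localization.AtPrime q))).comap
        (algebraMap R (Localization.AtPrime q)) = r :=
      IsLocalization.comap_map_of_isPrime_disjoint q.primeCompl _ hr hdisj
    have h2 := (key _).1 (h (r.map (algebraMap R (Localization.AtPrime q))))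
    have tr : ∀ (r' : Ideal R) [r'.IsPrime], r' = r →
        SkLoc n (Localization.AtPrime r') → SkLoc n (Localization.AtPrime r) := by
      intro r' _ e h
      subst e
      exact h
    exact tr _ hc h2
  · intro h P hP
    rw [key]
    apply h
    intro x hx
    by_contra hxq
    have hu : IsUnit (algebraMap R (Localization.AtPrime q) x) :=
      IsLocalization.map_units _ (⟨x, hxq⟩ : q.primeCompl)
    exact hP.ne_top (Ideal.eq_top_of_isUnit_mem _ hx hu)

end SkAt

section Flat

variable (R S : Type u) [CommRing R] [CommRing S] [Algebra R S] [IsNoetherianRing R]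
  [IsNoetherianRing S] [Module.Flat R S]

theorem skLoc_of_isCMLocalRing (n : ℕ) (T : Type u) [CommRing T] [IsLocalRing T]
    [IsNoetherianRing T] (h : LocCoh.IsCohenMacaulayLocalRing T) : SkLoc n T := by
  unfold SkLoc
  rw [← (isCMLocalRing_iff T).1 h]
  exact min_le_right _ _

/-- for a flat map with CM fibres, `(S_n)` at `Q ∩ R` is equivalent to `(S_n)` at `Q`. -/
theorem hasSkAt_iff_of_cm_fibres
    (hfib : ∀ (p : Ideal R) [p.IsPrime], LocCoh.IsCohenMacaulayRing (p.Fiber S)) (n : ℕ)
    (Q : Ideal S) [Q.IsPrime] :
    EGA4.HasSkAt n R R (Q.comap (algebraMap R S)) ↔ EGA4.HasSkAt n S S Q := by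
  rw [hasSkAt_self_iff, hasSkAt_self_iff]
  constructor
  · intro h r' hr' hr'Q
    haveI := isNoetherianRing_fibLocRing R S r'
    refine sk_at_of_flat R S n r' (h _ (Ideal.comap_mono hr'Q)) ?_
    haveI := hfib (r'.comap (algebraMap R S))
    exact skLoc_of_isCMLocalRing n _ (isCM_fibLocRing_of_fiber R S r')
  · intro h r hr hrq
    have hle : r.map (algebraMap R S) ≤ Q := Ideal.map_le_iff_le_comap.2 hrq
    obtain ⟨P, hP, hPQ⟩ := Ideal.exists_minimalPrimes_le hle
    haveI : P.IsPrime := hP.1.1
    have hlo := liesOver_of_mem_minimalPrimes_map R S r P hP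
    have hPr : P.comap (algebraMap R S) = r := hlo.over.symm
    have hP' : P ∈ ((P.comap (algebraMap R S)).map (algebraMap R S)).minimalPrimes := by
      rw [hPr]; exact hP
    have hdim0 := Groth.Agent.FibLocH8.dim_fibLocRing_eq_zero (A := R) P hP'
    haveI := isNoetherianRing_fibLocRing R S P
    have hdep0 : LocCoh.depth (EGA4.FibLocRing R S P) (EGA4.FibLocRing R S P) = 0 := by
      have h1 := depth_le_dim (EGA4.FibLocRing R S P)
      rw [hdim0] at h1
      have h2 : LocCoh.depth (EGA4.FibLocRing R S P) (EGA4.FibLocRing R S P) ≤ 0 := by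
        have : ((LocCoh.depth (EGA4.FibLocRing R S P) (EGA4.FibLocRing R S P) : ℕ∞) :
            WithBot ℕ∞) ≤ ((0 : ℕ∞) : WithBot ℕ∞) := h1
        exact WithBot.coe_le_coe.1 this
      exact le_antisymm h2 zero_le
    obtain ⟨hd, hdim⟩ := depth_dim_localization_eq_add R S P
    rw [hdep0, add_zero] at hd
    rw [hdim0, add_zero] at hdim
    have h3 : SkLoc n (Localization.AtPrime P) := h P hPQ
    have h4 : SkLoc n (Localization.AtPrime (P.comap (algebraMap R S))) := by
      unfold SkLoc at h3 ⊢
      rw [← hd, ← hdim]
      exact h3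
    have tr : ∀ (r' : Ideal R) [r'.IsPrime], r' = r →
        SkLoc n (Localization.AtPrime r') → SkLoc n (Localization.AtPrime r) := by
      intro r' _ e h
      subst e
      exact h
    exact tr _ hPr h4

/-- codepth is preserved along a flat map at a point with CM fibre -/
theorem codepth_eq_of_cm_fibre (Q : Ideal S) [Q.IsPrime]
    [hfib : LocCoh.IsCohenMacaulayRing ((Q.comap (algebraMap R S)).Fiber S)] :
    ringKrullDim (Localization.AtPrime (Q.comap (algebraMap R S))) +
        ((LocCoh.depth (Localization.AtPrime Q) (Localization.AtPrime Q) : ℕ∞) : WithBot ℕ∞) =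
      ringKrullDim (Localization.AtPrime Q) +
        ((LocCoh.depth (Localization.AtPrime (Q.comap (algebraMap R S)))
          (Localization.AtPrime (Q.comap (algebraMap R S))) : ℕ∞) : WithBot ℕ∞) := by
  obtain ⟨hd, hdim⟩ := depth_dim_localization_eq_add R S Q
  haveI := isNoetherianRing_fibLocRing R S Q
  have hF := (isCMLocalRing_iff _).1 (isCM_fibLocRing_of_fiber R S Q)
  rw [hd, hdim, hF, WithBot.coe_add]
  abel

end Flat

section FieldExt

variable (k S k' : Type u) [Field k] [CommRing S] [Algebra k S] [Field k'] [Algebra k k']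

/-- the fibres of `S → S ⊗_k k'` are CM when `S` is of finite type or `k'/k` finitely generated -/
theorem isCMRing_fiber_tensor (hft : Algebra.FiniteType k S ∨ Algebra.EssFiniteType k k')
    (p : Ideal S) [p.IsPrime] : LocCoh.IsCohenMacaulayRing (p.Fiber (S ⊗[k] k')) := by
  let e : p.Fiber (S ⊗[k] k') ≃ₐ[p.ResidueField] p.ResidueField ⊗[k] k' :=
    Algebra.TensorProduct.cancelBaseChange k S p.ResidueField p.ResidueField k'
  have hCM : LocCoh.IsCohenMacaulayRing (p.ResidueField ⊗[k] k') := by
    rcases hft with h | h
    · haveI : Algebra.EssFiniteType k p.ResidueField := Algebra.EssFiniteType.comp k S _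
      exact isCMRing_tensor_field k k' p.ResidueField
    · exact isCohenMacaulayRing_of_ringEquiv
        (Algebra.TensorProduct.comm k k' p.ResidueField).toRingEquiv
        (isCMRing_tensor_field k p.ResidueField k')
  exact isCohenMacaulayRing_of_ringEquiv e.symm.toRingEquiv hCM

end FieldExt

end Groth.Agent.TensorCM
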