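import Mathlib
import Groth.Agent.Lib.FlatCM5_helper9
import Groth.Agent.Lib.FormalEquidimPoly_helper9
import Groth.Agent.Lib.CMChain_helper5
import Groth.Agent.Lib.QuotFormalFibre_helper3
import Groth.Agent.Lib.TensorSkAt_helper9
import Groth.Agent.Lib.CMEquiv_helper3

/-!
# Cohen–Macaulay formal fibres and essentially finite type algebras (helper9)

* `hasCMFormalFibres_of_flat'`: descent of CM formal fibres along flat local homs with CM fibre
  local rings.
* `hasCMFormalFibres_of_isCM`: CM local rings have CM formal fibres.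
* `hasCMFormalFibres_of_ringEquiv`, `hasCMFormalFibres_quotient`, `hasCMFormalFibres_of_surjective`.
* `hasCMFormalFibres_localization_of_surjective`: local rings of quotients of CM rings.
* `hasCMFormalFibres_mvPolynomial_localization`, `hasCMFormalFibres_of_essFiniteType` (S2642).
APPEND-ONLY once landed.
-/

set_option autoImplicit false
universe u

namespace Groth.Agent.EquiCat9

open IsLocalRing TensorProduct Groth.Agent.FlatCM Groth.Agent.DepthLib

section Descent

variable (A A' : Type u) [CommRing A] [CommRing A'] [IsNoetherianRing A] [IsNoetherianRing A']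
  [IsLocalRing A] [IsLocalRing A'] [Algebra A A'] [IsLocalHom (algebraMap A A')]

open Groth.Agent.Lib.FFTransferH3 in
/-- descent of CM formal fibres along a flat local homomorphism with CM fibre local rings -/
theorem hasCMFormalFibres_of_flat' [Module.Flat A A']
    (hf : ∀ (Q : Ideal A') [Q.IsPrime], LocCoh.IsCohenMacaulayLocalRing (EGA4.FibLocRing A A' Q))
    (hA' : EGA4.HasCMFormalFibres A') : EGA4.HasCMFormalFibres A := by
  haveI := tower' A A'
  haveI := noeth_cpl A'
  haveI := noeth_cpl A
  obtain ⟨_, _, _, hff', _, _⟩ := Groth.Agent.Lib.AnUnramH3.completion_facts A'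
  haveI : Module.Flat A' (EGA4.Cpl A') := hff'.toFlat
  haveI : Module.Flat A (EGA4.Cpl A') := flat_base A A'
  have h1 : ∀ (P : Ideal (EGA4.Cpl A')) [P.IsPrime],
      LocCoh.IsCohenMacaulayLocalRing (EGA4.FibLocRing A (EGA4.Cpl A') P) := by
    intro P hP
    rw [isCM_fibLocRing_comp_iff A A' (EGA4.Cpl A') P]
    constructor
    · exact hf (P.comap (algebraMap A' (EGA4.Cpl A')))
    · haveI : LocCoh.IsCohenMacaulayRing
          ((P.comap (algebraMap A' (EGA4.Cpl A'))).Fiber (EGA4.Cpl A')) :=
        hA' (P.comap (algebraMap A' (EGA4.Cpl A')))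
      exact isCM_fibLocRing_of_fiber A' (EGA4.Cpl A') P
  letI := algCpl A A'
  haveI := tower A A'
  haveI := flat_cpl A A'
  haveI := faithfullyFlat_cpl A A'
  intro p hp
  change LocCoh.IsCohenMacaulayRing (p.Fiber (EGA4.Cpl A))
  apply isCMRing_fiber_of_fibLocRing A (EGA4.Cpl A) p
  intro q hq hqp
  obtain ⟨P, hP⟩ := PrimeSpectrum.comap_surjective_of_faithfullyFlat
    (A := EGA4.Cpl A) (B := EGA4.Cpl A') ⟨q, hq⟩
  have heq : P.asIdeal.comap (algebraMap (EGA4.Cpl A) (EGA4.Cpl A')) = q :=
    congrArg PrimeSpectrum.asIdeal hP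
  have h2 := ((isCM_fibLocRing_comp_iff A (EGA4.Cpl A) (EGA4.Cpl A') P.asIdeal).1
    (h1 P.asIdeal)).1
  have tr : ∀ (r : Ideal (EGA4.Cpl A)) [r.IsPrime], r = q →
      LocCoh.IsCohenMacaulayLocalRing (EGA4.FibLocRing A (EGA4.Cpl A) r) →
      LocCoh.IsCohenMacaulayLocalRing (EGA4.FibLocRing A (EGA4.Cpl A) q) := by
    intro r _ e h
    subst e
    exact h
  exact tr _ heq h2

end Descent

section CMLocal

/-- a CM local ring is a CM ring -/
theorem isCMRing_of_isCMLocalRing (T : Type u) [CommRing T]
    [hT : LocCoh.IsCohenMacaulayLocalRing T] : LocCoh.IsCohenMacaulayRing T := by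
  have hCM : LocCoh.IsCohenMacaulayModule T T := hT.supportDim_eq_depth
  have hsupp : Module.support T T = Set.univ := by
    rw [Module.support_eq_zeroLocus, Module.annihilator_eq_bot.2 inferInstance]
    simp
  refine ⟨fun q hq => ?_⟩
  have h := (Groth.Agent.CMChain.isCM_localization T T hCM hsupp q).1
  haveI : IsNoetherianRing (Localization.AtPrime q) :=
    IsLocalization.isNoetherianRing q.primeCompl _ inferInstance
  unfold LocCoh.IsCohenMacaulayModule at h
  rw [depth_locSelf, supportDim_locSelf,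
    ← IsLocalization.AtPrime.ringKrullDim_eq_height q (Localization.AtPrime q)] at h
  exact (isCMLocalRing_iff _).2 h

/-- a CM local ring has CM formal fibres -/
theorem hasCMFormalFibres_of_isCM (T : Type u) [CommRing T]
    [hT : LocCoh.IsCohenMacaulayLocalRing T] : EGA4.HasCMFormalFibres T := by
  obtain ⟨hL, hN, hc, hff, hloc, hmap⟩ := Groth.Agent.Lib.AnUnramH3.completion_facts T
  haveI := hL
  haveI := hN
  haveI := hff
  haveI := hloc
  haveI : LocCoh.IsCohenMacaulayLocalRing (EGA4.Cpl T) := by
    rw [isCM_local_iff T (EGA4.Cpl T)]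
    exact ⟨hT, isCMLocalRing_of_dim_zero _ (fibRing_cpl_dim_zero T)⟩
  haveI := isCMRing_of_isCMLocalRing (EGA4.Cpl T)
  intro p hp
  change LocCoh.IsCohenMacaulayRing (p.Fiber (EGA4.Cpl T))
  apply isCMRing_fiber_of_fibLocRing T (EGA4.Cpl T) p
  intro Q hQ hQp
  exact ((isCM_localization_iff T (EGA4.Cpl T) Q).1
    (LocCoh.IsCohenMacaulayRing.isCohenMacaulayLocalRing_localization Q)).2

end CMLocal

section FibLocField

variable (A B : Type u) [CommRing A] [CommRing B] [Algebra A B] [IsNoetherianRing B]

/-- if `(Q ∩ A) B = Q` then the fibre local ring at `Q` is a field, hence CM -/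
theorem isCM_fibLocRing_of_map_comap_eq (Q : Ideal B) [Q.IsPrime]
    (h : (Q.comap (algebraMap A B)).map (algebraMap A B) = Q) :
    LocCoh.IsCohenMacaulayLocalRing (EGA4.FibLocRing A B Q) := by
  haveI : IsNoetherianRing (Localization.AtPrime Q) :=
    IsLocalization.isNoetherianRing Q.primeCompl _ inferInstance
  have hI : (Q.comap (algebraMap A B)).map (algebraMap A (Localization.AtPrime Q)) =
      maximalIdeal (Localization.AtPrime Q) := by
    rw [IsScalarTower.algebraMap_eq A B (Localization.AtPrime Q), ← Ideal.map_map, h,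
      Localization.AtPrime.map_eq_maximalIdeal]
  have e : EGA4.FibLocRing A B Q ≃+* ResidueField (Localization.AtPrime Q) :=
    Ideal.quotEquivOfEq hI
  apply isCMLocalRing_of_dim_zero
  rw [ringKrullDim_eq_of_ringEquiv e]
  exact ringKrullDim_eq_zero_of_field _

end FibLocField

section Equiv

variable {R S : Type u} [CommRing R] [CommRing S] [IsNoetherianRing R] [IsLocalRing R]
  [IsNoetherianRing S] [IsLocalRing S]

/-- CM formal fibres are invariant under ring isomorphisms -/
theorem hasCMFormalFibres_of_ringEquiv (e : R ≃+* S) (h : EGA4.HasCMFormalFibres R) :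
    EGA4.HasCMFormalFibres S := by
  letI : Algebra S R := e.symm.toRingHom.toAlgebra
  have halg : ∀ r, algebraMap S R r = e.symm r := fun _ => rfl
  haveI : IsLocalHom (algebraMap S R) := IsLocalHom.of_surjective _ e.symm.surjective
  let l : S ≃ₗ[S] R :=
    { toFun := e.symm
      map_add' := map_add e.symm
      map_smul' := fun a x => by
        simp only [smul_eq_mul, RingHom.id_apply, map_mul, Algebra.smul_def, halg]
      invFun := e
      left_inv := fun x => e.apply_symm_apply x
      right_inv := fun x => e.symm_apply_apply x }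
  haveI : Module.Flat S R := Module.Flat.of_linearEquiv l.symm
  refine hasCMFormalFibres_of_flat' S R (fun Q _ => ?_) h
  apply isCM_fibLocRing_of_map_comap_eq
  exact Ideal.map_comap_of_surjective _ e.symm.surjective Q

end Equiv

section Quot

variable (T : Type u) [CommRing T] [IsNoetherianRing T] [IsLocalRing T]

/-- CM formal fibres pass to quotients -/
theorem hasCMFormalFibres_quotient (I : Ideal T) [Nontrivial (T ⧸ I)]
    (hT : EGA4.HasCMFormalFibres T) : EGA4.HasCMFormalFibres (T ⧸ I) := by
  intro pb hpb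
  obtain ⟨alg, hfin', ⟨e⟩⟩ :=
    Groth.Agent.Lib.QuotFormalFibreH3.exists_ringEquiv T I pb pb.ResidueField
  letI := alg
  haveI : Module.Finite (pb.comap (Ideal.Quotient.mk I)).ResidueField pb.ResidueField :=
    hfin' inferInstance
  haveI hF : LocCoh.IsCohenMacaulayRing (EGA4.formalFibre T (pb.comap (Ideal.Quotient.mk I))) :=
    hT (pb.comap (Ideal.Quotient.mk I))
  have h1 : LocCoh.IsCohenMacaulayRing
      (EGA4.formalFibre T (pb.comap (Ideal.Quotient.mk I)) ⊗[(pb.comap
        (Ideal.Quotient.mk I)).ResidueField] pb.ResidueField) :=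
    Groth.Agent.TensorCM.isCMRing_of_finite_flat
      (EGA4.formalFibre T (pb.comap (Ideal.Quotient.mk I))) _
  have e2 : (EGA4.formalFibre T (pb.comap (Ideal.Quotient.mk I)) ⊗[(pb.comap
        (Ideal.Quotient.mk I)).ResidueField] pb.ResidueField) ≃+*
      (pb.ResidueField ⊗[(pb.comap (Ideal.Quotient.mk I)).ResidueField]
        EGA4.formalFibre T (pb.comap (Ideal.Quotient.mk I))) :=
    (Algebra.TensorProduct.comm (pb.comap (Ideal.Quotient.mk I)).ResidueField
      (EGA4.formalFibre T (pb.comap (Ideal.Quotient.mk I))) pb.ResidueField).toRingEquiv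
  have h2 : LocCoh.IsCohenMacaulayRing
      (pb.ResidueField ⊗[(pb.comap (Ideal.Quotient.mk I)).ResidueField]
        EGA4.formalFibre T (pb.comap (Ideal.Quotient.mk I))) :=
    Groth.Agent.Lib.CMEquivH3.isCohenMacaulayRing_of_ringEquiv
      (R := EGA4.formalFibre T (pb.comap (Ideal.Quotient.mk I)) ⊗[(pb.comap
        (Ideal.Quotient.mk I)).ResidueField] pb.ResidueField)
      (R' := pb.ResidueField ⊗[(pb.comap (Ideal.Quotient.mk I)).ResidueField]
        EGA4.formalFibre T (pb.comap (Ideal.Quotient.mk I))) e2 h1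
  have h3 : LocCoh.IsCohenMacaulayRing
      (pb.ResidueField ⊗[pb.ResidueField] EGA4.formalFibre (T ⧸ I) pb) :=
    Groth.Agent.Lib.CMEquivH3.isCohenMacaulayRing_of_ringEquiv
      (R := pb.ResidueField ⊗[(pb.comap (Ideal.Quotient.mk I)).ResidueField]
        EGA4.formalFibre T (pb.comap (Ideal.Quotient.mk I)))
      (R' := pb.ResidueField ⊗[pb.ResidueField] EGA4.formalFibre (T ⧸ I) pb) e h2
  have e3 : (pb.ResidueField ⊗[pb.ResidueField] EGA4.formalFibre (T ⧸ I) pb) ≃+*
      EGA4.formalFibre (T ⧸ I) pb :=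
    (Algebra.TensorProduct.lid pb.ResidueField (EGA4.formalFibre (T ⧸ I) pb)).toRingEquiv
  exact Groth.Agent.Lib.CMEquivH3.isCohenMacaulayRing_of_ringEquiv
    (R := pb.ResidueField ⊗[pb.ResidueField] EGA4.formalFibre (T ⧸ I) pb)
    (R' := EGA4.formalFibre (T ⧸ I) pb) e3 h3

/-- CM formal fibres pass to surjective images -/
theorem hasCMFormalFibres_of_surjective {B : Type u} [CommRing B] [IsNoetherianRing B]
    [IsLocalRing B] (φ : T →+* B) (hφ : Function.Surjective φ)
    (hT : EGA4.HasCMFormalFibres T) : EGA4.HasCMFormalFibres B := by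
  let e : T ⧸ RingHom.ker φ ≃+* B := RingHom.quotientKerEquivOfSurjective hφ
  haveI : Nontrivial (T ⧸ RingHom.ker φ) := e.toEquiv.nontrivial
  exact hasCMFormalFibres_of_ringEquiv e (hasCMFormalFibres_quotient T (RingHom.ker φ) hT)

end Quot

section LocSurj

/-- local rings of surjective images of CM rings have CM formal fibres -/
theorem hasCMFormalFibres_localization_of_surjective (P R : Type u) [CommRing P] [CommRing R]
    [hP : LocCoh.IsCohenMacaulayRing P] (f : P →+* R) (hf : Function.Surjective f)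
    (Q : Ideal R) [Q.IsPrime] : EGA4.HasCMFormalFibres (Localization.AtPrime Q) := by
  haveI : IsNoetherianRing P := hP.toIsNoetherian
  haveI : IsNoetherianRing R := isNoetherianRing_of_surjective P R f hf
  haveI : (Q.comap f).IsPrime := Ideal.comap_isPrime _ _
  haveI hCM : LocCoh.IsCohenMacaulayLocalRing (Localization.AtPrime (Q.comap f)) :=
    hP.isCohenMacaulayLocalRing_localization (Q.comap f)
  haveI : IsNoetherianRing (Localization.AtPrime (Q.comap f)) := hCM.toIsNoetherian
  haveI : IsNoetherianRing (Localization.AtPrime Q) :=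
    IsLocalization.isNoetherianRing Q.primeCompl _ inferInstance
  have h1 := hasCMFormalFibres_of_isCM (Localization.AtPrime (Q.comap f))
  have hφ : Function.Surjective (Localization.localRingHom (Q.comap f) Q f rfl) := by
    intro y
    obtain ⟨r, s, rfl⟩ := IsLocalization.exists_mk'_eq Q.primeCompl y
    obtain ⟨a, rfl⟩ := hf r
    obtain ⟨b, hb⟩ := hf s.1
    have hbQ : b ∈ (Q.comap f).primeCompl := by
      intro hmem
      apply s.2
      rw [← hb]
      exact hmem
    refine ⟨IsLocalization.mk' _ a ⟨b, hbQ⟩, ?_⟩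
    rw [Localization.localRingHom_mk']
    congr 1
    exact Subtype.ext hb
  exact hasCMFormalFibres_of_surjective (Localization.AtPrime (Q.comap f))
    (Localization.localRingHom (Q.comap f) Q f rfl) hφ h1

end LocSurj

section PolyFib

attribute [local instance] MvPolynomial.algebraMvPolynomial

variable (R S : Type u) [CommRing R] [CommRing S] [Algebra R S] [IsNoetherianRing R]
  [IsNoetherianRing S] [Module.Flat R S]

/-- CM fibres are stable under polynomial base change (fibre local ring form) -/
theorem isCM_fibLocRing_mvPolynomial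
    (hfib : ∀ (p : Ideal R) [p.IsPrime], LocCoh.IsCohenMacaulayRing (p.Fiber S)) (n : ℕ)
    (P : Ideal (MvPolynomial (Fin n) S)) [P.IsPrime] :
    LocCoh.IsCohenMacaulayLocalRing
      (EGA4.FibLocRing (MvPolynomial (Fin n) R) (MvPolynomial (Fin n) S) P) := by
  haveI : Module.Flat (MvPolynomial (Fin n) R) (MvPolynomial (Fin n) S) := flat_mvPolynomial R S
  have h1 : LocCoh.IsCohenMacaulayLocalRing (EGA4.FibLocRing S (MvPolynomial (Fin n) S) P) := by
    set q := P.comap (algebraMap S (MvPolynomial (Fin n) S)) with hq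
    haveI : q.IsPrime := Ideal.comap_isPrime _ _
    haveI : LocCoh.IsCohenMacaulayRing (q.Fiber (MvPolynomial (Fin n) S)) := by
      let e : q.Fiber (MvPolynomial (Fin n) S) ≃ₐ[q.ResidueField]
          MvPolynomial (Fin n) q.ResidueField := MvPolynomial.scalarRTensorAlgEquiv
      haveI := Groth.Agent.TensorCM.isCMRing_field q.ResidueField
      have h := isCMRing_mvPolynomial q.ResidueField n
      exact Groth.Agent.Lib.CMEquivH3.isCohenMacaulayRing_of_ringEquiv
        (R := MvPolynomial (Fin n) q.ResidueField) (R' := q.Fiber (MvPolynomial (Fin n) S))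
        e.symm.toRingEquiv h
    exact isCM_fibLocRing_of_fiber S (MvPolynomial (Fin n) S) P
  have h2 : LocCoh.IsCohenMacaulayLocalRing
      (EGA4.FibLocRing R S (P.comap (algebraMap S (MvPolynomial (Fin n) S)))) := by
    haveI := hfib ((P.comap (algebraMap S (MvPolynomial (Fin n) S))).comap (algebraMap R S))
    exact isCM_fibLocRing_of_fiber R S (P.comap (algebraMap S (MvPolynomial (Fin n) S)))
  have h3 : LocCoh.IsCohenMacaulayLocalRing (EGA4.FibLocRing R (MvPolynomial (Fin n) S) P) :=
    (isCM_fibLocRing_comp_iff R S (MvPolynomial (Fin n) S) P).2 ⟨h2, h1⟩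
  exact ((isCM_fibLocRing_comp_iff R (MvPolynomial (Fin n) R) (MvPolynomial (Fin n) S) P).1 h3).2

end PolyFib

section PolyLocCM

attribute [local instance] MvPolynomial.algebraMvPolynomial

variable (A : Type u) [CommRing A] [IsNoetherianRing A] [IsLocalRing A]

/-- localizations of polynomial rings over a local ring with CM formal fibres have CM formal
fibres -/
theorem hasCMFormalFibres_mvPolynomial_localization (n : ℕ) (hA : EGA4.HasCMFormalFibres A)
    (𝔔 : Ideal (MvPolynomial (Fin n) A)) [𝔔.IsPrime] :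
    EGA4.HasCMFormalFibres (Localization.AtPrime 𝔔) := by
  obtain ⟨hloc, hnoeth, hcompl, hff, hlh, hmap⟩ := Groth.Agent.Lib.AnUnramH3.completion_facts A
  haveI := hloc
  haveI := hnoeth
  haveI := hcompl
  haveI := hlh
  haveI := hff
  haveI hEff : Module.FaithfullyFlat (MvPolynomial (Fin n) A)
      (MvPolynomial (Fin n) (AdicCompletion (maximalIdeal A) A)) :=
    faithfullyFlat_mvPolynomial A _
  have hne : 𝔔.map (algebraMap (MvPolynomial (Fin n) A)
      (MvPolynomial (Fin n) (AdicCompletion (maximalIdeal A) A))) ≠ ⊤ := by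
    intro htop
    have h1 := Ideal.comap_map_eq_self_of_faithfullyFlat
      (B := MvPolynomial (Fin n) (AdicCompletion (maximalIdeal A) A)) 𝔔
    rw [htop, Ideal.comap_top] at h1
    exact Ideal.IsPrime.ne_top' h1.symm
  obtain ⟨⟨𝔔', h𝔔'⟩⟩ := Ideal.nonempty_minimalPrimes hne
  haveI : 𝔔'.IsPrime := h𝔔'.1.1
  haveI hlo : 𝔔'.LiesOver 𝔔 :=
    Groth.Agent.DepthLib.liesOver_of_mem_minimalPrimes_map _ _ 𝔔 𝔔' h𝔔'
  letI := Localization.AtPrime.algebraOfLiesOver 𝔔 𝔔'
  haveI : IsLocalHom (algebraMap (Localization.AtPrime 𝔔) (Localization.AtPrime 𝔔')) :=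
    Localization.isLocalHom_localRingHom _ _ _ _
  haveI : Module.Flat (Localization.AtPrime 𝔔) (Localization.AtPrime 𝔔') :=
    flat_localization_liesOver _ _ 𝔔 𝔔'
  haveI : IsNoetherianRing (Localization.AtPrime 𝔔) :=
    IsLocalization.isNoetherianRing 𝔔.primeCompl _ inferInstance
  haveI : IsNoetherianRing (Localization.AtPrime 𝔔') :=
    IsLocalization.isNoetherianRing 𝔔'.primeCompl _ inferInstance
  obtain ⟨P, _, hP, f, hf⟩ := exists_surjective_of_isCMRing (AdicCompletion (maximalIdeal A) A)
  haveI := isCMRing_mvPolynomial P n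
  have hD' : EGA4.HasCMFormalFibres (Localization.AtPrime 𝔔') :=
    hasCMFormalFibres_localization_of_surjective (MvPolynomial (Fin n) P) _
      (MvPolynomial.map f) (MvPolynomial.map_surjective f hf) 𝔔'
  refine hasCMFormalFibres_of_flat' (Localization.AtPrime 𝔔) (Localization.AtPrime 𝔔')
    (fun Q hQ => ?_) hD'
  have a1 : LocCoh.IsCohenMacaulayLocalRing
      (EGA4.FibLocRing (MvPolynomial (Fin n) (AdicCompletion (maximalIdeal A) A))
        (Localization.AtPrime 𝔔') Q) :=
    isCM_fibLocRing_of_map_comap_eq _ _ Q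
      (IsLocalization.map_comap 𝔔'.primeCompl (Localization.AtPrime 𝔔') Q)
  have a2 : LocCoh.IsCohenMacaulayLocalRing
      (EGA4.FibLocRing (MvPolynomial (Fin n) A)
        (MvPolynomial (Fin n) (AdicCompletion (maximalIdeal A) A))
        (Q.comap (algebraMap (MvPolynomial (Fin n) (AdicCompletion (maximalIdeal A) A))
          (Localization.AtPrime 𝔔')))) :=
    isCM_fibLocRing_mvPolynomial A (AdicCompletion (maximalIdeal A) A) (fun p _ => hA p) n _
  have a3 : LocCoh.IsCohenMacaulayLocalRing
      (EGA4.FibLocRing (MvPolynomial (Fin n) A) (Localization.AtPrime 𝔔') Q) :=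
    (isCM_fibLocRing_comp_iff (MvPolynomial (Fin n) A)
      (MvPolynomial (Fin n) (AdicCompletion (maximalIdeal A) A)) (Localization.AtPrime 𝔔') Q).2
      ⟨a2, a1⟩
  exact ((isCM_fibLocRing_comp_iff (MvPolynomial (Fin n) A) (Localization.AtPrime 𝔔)
    (Localization.AtPrime 𝔔') Q).1 a3).2

end PolyLocCM

section EssFT

variable (A : Type u) [CommRing A] [IsNoetherianRing A] [IsLocalRing A]
  (B : Type u) [CommRing B] [IsNoetherianRing B] [IsLocalRing B] [Algebra A B]
  [Algebra.EssFiniteType A B]

/-- **EGA IV 7.4.4 (CM)** (S2642) -/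
theorem hasCMFormalFibres_of_essFiniteType (hA : EGA4.HasCMFormalFibres A) :
    EGA4.HasCMFormalFibres B := by
  obtain ⟨n, 𝔔, h𝔔, φ, hφ⟩ := exists_surjective_localization_mvPolynomial A B
  haveI := h𝔔
  haveI : IsNoetherianRing (Localization.AtPrime 𝔔) :=
    IsLocalization.isNoetherianRing 𝔔.primeCompl _ inferInstance
  exact hasCMFormalFibres_of_surjective (Localization.AtPrime 𝔔) φ hφ
    (hasCMFormalFibres_mvPolynomial_localization A n hA 𝔔)

end EssFT

end Groth.Agent.EquiCat9
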