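import Mathlib
import Groth.Agent.Lib.DimTheory_helper5

/-!
# Parameters inside an ideal of a semi-local Noetherian ring (helper3)

Given an ideal `a` of height `h > 0` in a semi-local Noetherian ring `A`, we build `h` elements of
`a ∩ rad A` forming part of a system of parameters and such that `a` has height `0` modulo them.
-/

namespace Groth.Agent.Lib.SemiLocalSOPH3

open PrimeSpectrum

universe u

variable {A : Type u} [CommRing A]

/-- Prime avoidance for a finite set of primes. -/
theorem exists_notMem_of_finite {S : Set (Ideal A)} (hS : S.Finite) (hprime : ∀ q ∈ S, q.IsPrime)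
    {I : Ideal A} (hI : ∀ q ∈ S, ¬ I ≤ q) : ∃ x ∈ I, ∀ q ∈ S, x ∉ q := by
  by_contra hcon
  push_neg at hcon
  have hsub : ((I : Set A) ⊆ ⋃ i ∈ (↑hS.toFinset : Set (Ideal A)),
      (((fun q : Ideal A => q) i : Ideal A) : Set A)) := by
    intro x hx
    obtain ⟨q, hq, hxq⟩ := hcon x hx
    simp only [Set.mem_iUnion]
    exact ⟨q, by simpa using hq, hxq⟩
  rw [Ideal.subset_union_prime (f := fun q : Ideal A => q) (⊥ : Ideal A) ⊥
    (fun i hi _ _ => hprime i (by simpa using hi))] at hsub
  obtain ⟨q, hq, hle⟩ := hsub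
  exact hI q (by simpa using hq) hle

/-- Krull's height theorem for `Ideal.ofList`. -/
theorem height_le_length_of_mem_minimalPrimes [IsNoetherianRing A] (l : List A) {K : Ideal A}
    (hK : K ∈ (Ideal.ofList l).minimalPrimes) : K.height ≤ (l.length : ℕ∞) := by
  classical
  have h1 : Ideal.ofList l = Ideal.span ((l.toFinset : Finset A) : Set A) := by
    rw [List.coe_toFinset]
  rw [h1] at hK
  refine (Ideal.height_le_card_of_mem_minimalPrimes_span_finset hK).trans ?_
  exact_mod_cast List.toFinset_card_le l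

/-- A nontrivial semi-local Noetherian ring has Krull dimension a natural number. -/
theorem exists_nat_ringKrullDim_eq [IsNoetherianRing A] [Finite (MaximalSpectrum A)]
    [Nontrivial A] : ∃ d : ℕ, ringKrullDim A = ((d : ℕ∞) : WithBot ℕ∞) := by
  obtain ⟨d, hd⟩ := Groth.Agent.DimLib.exists_nat_ringKrullDim_le (A := A)
  have h0 : (0 : WithBot ℕ∞) ≤ ringKrullDim A := ringKrullDim_nonneg_of_nontrivial
  obtain ⟨x, hx⟩ : ∃ x : ℕ∞, ringKrullDim A = (x : WithBot ℕ∞) := by
    cases hA : ringKrullDim A with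
    | bot => rw [hA] at h0; simp at h0
    | coe x => exact ⟨x, rfl⟩
  rw [hx] at hd
  have hxd : x ≤ (d : ℕ∞) := by exact_mod_cast hd
  lift x to ℕ using (ne_top_of_le_ne_top (ENat.coe_ne_top d) hxd)
  exact ⟨x, hx⟩

/-- The Krull dimension of a closed subset is at most that of the ring. -/
theorem krullDim_zeroLocus_le (J : Ideal A) :
    Order.krullDim (zeroLocus (J : Set A)) ≤ ringKrullDim A :=
  Order.krullDim_le_of_strictMono (fun q : zeroLocus (J : Set A) => (q : PrimeSpectrum A))
    (fun _ _ hlt => hlt)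

/-- Invariant: every prime between `J` and `p` has height at least `j`. -/
def P1 (p J : Ideal A) (j : ℕ) : Prop :=
  ∀ q : Ideal A, q.IsPrime → J ≤ q → q ≤ p → (j : ℕ∞) ≤ q.height

theorem step [IsNoetherianRing A] [Finite (MaximalSpectrum A)] (a p : Ideal A) [p.IsPrime]
    (h : ℕ) (hah : a.height = h) (hph : p.height = h)
    (l : List A) (hlt : l.length < h)
    (hP1 : P1 p (Ideal.ofList l) l.length) (d : ℕ)
    (hD : Order.krullDim (zeroLocus ((Ideal.ofList l : Ideal A) : Set A)) ≤
      ((d + 1 : ℕ) : WithBot ℕ∞)) :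
    ∃ x ∈ a ⊓ Ring.jacobson A, P1 p (Ideal.ofList (l ++ [x])) (l.length + 1) ∧
      Order.krullDim (zeroLocus ((Ideal.ofList (l ++ [x]) : Ideal A) : Set A)) ≤
        ((d : ℕ) : WithBot ℕ∞) := by
  set J := Ideal.ofList l with hJ
  have hfin : J.minimalPrimes.Finite := J.finite_minimalPrimes_of_isNoetherianRing
  set S : Set (Ideal A) := {K | K ∈ J.minimalPrimes ∧ (¬ K.IsMaximal ∨ K ≤ p)} with hS
  have hSfin : S.Finite := hfin.subset (fun K hK => hK.1)
  have hSprime : ∀ K ∈ S, K.IsPrime := fun K hK => hK.1.1.1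
  have hKr : ∀ K ∈ J.minimalPrimes, K.height ≤ (l.length : ℕ∞) :=
    fun K hK => height_le_length_of_mem_minimalPrimes l hK
  have hlt' : ((l.length : ℕ) : ℕ∞) < (h : ℕ∞) := by exact_mod_cast hlt
  have havoid : ∀ K ∈ S, ¬ (a ⊓ Ring.jacobson A ≤ K) := by
    intro K hK hle
    have hKp : K.IsPrime := hSprime K hK
    rcases (Ideal.IsPrime.inf_le hKp).1 hle with h1 | h1
    · have h2 := Ideal.height_mono h1
      rw [hah] at h2
      exact absurd (h2.trans (hKr K hK.1)) (not_le.2 hlt')
    · have hmax : K.IsMaximal := by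
        by_contra hn
        exact Groth.Agent.DimLib.jacobson_not_le_of_not_isMaximal K hKp hn h1
      rcases hK.2 with h2 | h2
      · exact h2 hmax
      · have hKeq : K = p := hmax.eq_of_le (Ideal.IsPrime.ne_top inferInstance) h2
        have h3 := hKr K hK.1
        rw [hKeq, hph] at h3
        exact absurd h3 (not_le.2 hlt')
  obtain ⟨x, hxI, hxS⟩ := exists_notMem_of_finite hSfin hSprime havoid
  refine ⟨x, hxI, ?_, ?_⟩
  · intro q hq hJq hqp
    rw [Ideal.ofList_append, Ideal.ofList_singleton] at hJq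
    have hJq' : J ≤ q := le_sup_left.trans hJq
    have hxq : x ∈ q := hJq (Ideal.mem_sup_right (Ideal.mem_span_singleton_self x))
    obtain ⟨K, hK, hKq⟩ := Ideal.exists_minimalPrimes_le hJq'
    have hKp : K.IsPrime := hK.1.1
    have hKS : K ∈ S := ⟨hK, Or.inr (hKq.trans hqp)⟩
    have hne : K ≠ q := fun e => hxS K hKS (e ▸ hxq)
    have hlt2 : K < q := lt_of_le_of_ne hKq hne
    have h1 := hP1 K hKp hK.1.2 (hKq.trans hqp)
    have h2 := Ideal.height_add_one_le_of_lt_of_isPrime hlt2
    calc ((l.length + 1 : ℕ) : ℕ∞) = (l.length : ℕ∞) + 1 := by push_cast; rfl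
      _ ≤ K.height + 1 := by gcongr
      _ ≤ q.height := h2
  · rw [Ideal.ofList_append, Ideal.ofList_singleton]
    exact Groth.Agent.DimLib.krullDim_zeroLocus_sup_span_le J x d hD
      (fun K hK hKmax => hxS K ⟨hK, Or.inl hKmax⟩)

theorem ofList_ofFn {n : ℕ} (f : Fin n → A) :
    Ideal.ofList (List.ofFn f) = Ideal.span (Set.range f) := by
  unfold Ideal.ofList
  congr 1
  ext y
  simp [List.mem_ofFn']

theorem main [IsNoetherianRing A] [Finite (MaximalSpectrum A)] (a : Ideal A) (ha : a ≠ ⊤) (h : ℕ)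
    (hh : a.height = h) (hpos : 0 < h) :
    ∃ x : Fin h → A, (∀ i, x i ∈ a) ∧ (∀ i, x i ∈ Ring.jacobson A) ∧
      (∃ ys : List A, (∀ y ∈ ys, y ∈ Ring.jacobson A) ∧
        (((h + ys.length : ℕ) : ℕ∞) : WithBot ℕ∞) = ringKrullDim A ∧
        IsFiniteLength A (A ⧸ (Ideal.span (Set.range x) ⊔ Ideal.ofList ys))) ∧
      (a.map (Ideal.Quotient.mk (Ideal.span (Set.range x)))).height = 0 := by
  have hnt : Nontrivial A := by
    by_contra hn
    rw [not_nontrivial_iff_subsingleton] at hn
    exact ha (Subsingleton.elim _ _)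
  obtain ⟨dn, hdn⟩ := exists_nat_ringKrullDim_eq (A := A)
  obtain ⟨p, hp, hap, hph⟩ := Ideal.exists_isPrime_height_eq hh
  have hhd : h ≤ dn := by
    have h1 := Ideal.height_le_ringKrullDim_of_ne_top ha
    rw [hh, hdn] at h1
    exact_mod_cast h1
  have phase1 : ∀ j ≤ h, ∃ l : List A, l.length = j ∧ (∀ y ∈ l, y ∈ a ⊓ Ring.jacobson A) ∧
      P1 p (Ideal.ofList l) j ∧
      Order.krullDim (zeroLocus ((Ideal.ofList l : Ideal A) : Set A)) ≤
        ((dn - j : ℕ) : WithBot ℕ∞) := by
    intro j
    induction j with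
    | zero =>
      intro _
      refine ⟨[], rfl, by simp, fun q _ _ _ => by simp, ?_⟩
      refine (krullDim_zeroLocus_le _).trans ?_
      rw [hdn]
      simp
    | succ j ih =>
      intro hj
      obtain ⟨l, hl, hmem, hP1, hD⟩ := ih (by omega)
      subst hl
      have hd : dn - l.length = (dn - (l.length + 1)) + 1 := by omega
      rw [hd] at hD
      obtain ⟨x, hx, h1, h2⟩ := step a p h hh hph l (by omega) hP1 _ hD
      refine ⟨l ++ [x], by simp, ?_, h1, h2⟩
      intro y hy
      rcases List.mem_append.1 hy with hy | hy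
      · exact hmem y hy
      · rw [List.mem_singleton] at hy
        rw [hy]
        exact hx
  obtain ⟨l1, hlen, hmem, hP1, hD⟩ := phase1 h le_rfl
  subst hlen
  obtain ⟨x', hx'r, hx'⟩ :=
    Groth.Agent.DimLib.exists_fin_of_krullDim_le (dn - l1.length) (Ideal.ofList l1) hD
  have hrange : Ideal.span (Set.range l1.get) = Ideal.ofList l1 := by
    rw [Set.range_list_get]
  have hl1a : Ideal.ofList l1 ≤ a := by
    rw [Ideal.span_le]
    intro y hy
    exact (hmem y hy).1
  refine ⟨l1.get, fun i => (hmem _ (List.get_mem _ _)).1, fun i => (hmem _ (List.get_mem _ _)).2,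
    ⟨List.ofFn x', ?_, ?_, ?_⟩, ?_⟩
  · intro y hy
    rw [List.mem_ofFn'] at hy
    obtain ⟨i, rfl⟩ := hy
    exact hx'r i
  · have hsum : l1.length + (List.ofFn x').length = dn := by
      rw [List.length_ofFn]
      omega
    rw [hsum, hdn]
  · apply Groth.Agent.DimLib.isFiniteLength_of_support_isMaximal
    intro q hq
    rw [Module.mem_support_iff_of_finite, Ideal.annihilator_quotient] at hq
    apply hx' q.asIdeal q.2
    rw [hrange, ofList_ofFn] at hq
    exact hq
  · rw [hrange]
    obtain ⟨K, hK, hKp⟩ := Ideal.exists_minimalPrimes_le (hl1a.trans hap)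
    have hKprime : K.IsPrime := hK.1.1
    have h1 := hP1 K hKprime hK.1.2 hKp
    have hKeq : K = p := Ideal.eq_of_le_of_height_le K hKp (by rw [hph]; exact h1)
    rw [hKeq] at hK
    rw [Ideal.minimalPrimes_eq_comap] at hK
    obtain ⟨P, hP, hPp⟩ := hK
    have hPprime : P.IsPrime := hP.1.1
    have hle : a.map (Ideal.Quotient.mk (Ideal.ofList l1)) ≤ P := by
      rw [Ideal.map_le_iff_le_comap, hPp]
      exact hap
    have h0 : P.height = 0 := Ideal.height_eq_zero_iff.2 hP
    exact le_antisymm ((Ideal.height_mono hle).trans h0.le) bot_le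

end Groth.Agent.Lib.SemiLocalSOPH3
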