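import Mathlib
import Groth.Prelude.Def_CAlg
import Groth.Agent.Lib.CM_helper5
import Groth.Agent.Lib.SemiLocalSOP_helper3

/-!
# Lifting a system of parameters from a Cohen–Macaulay localization (helper3)
-/

namespace Groth.Agent.Lib.CMLiftSOPH3

open PrimeSpectrum RingTheory.Sequence

universe u

section LemmaA

variable {R : Type u} [CommRing R]

theorem ofList_take_ofFn {s : ℕ} (t : Fin s → R) (i : ℕ) :
    Ideal.ofList ((List.ofFn t).take i) = Ideal.span (t '' {j : Fin s | j.val < i}) := by
  unfold Ideal.ofList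
  congr 1
  ext y
  simp only [Set.mem_setOf_eq, Set.mem_image]
  rw [List.mem_take_iff_getElem]
  constructor
  · rintro ⟨j, hj, rfl⟩
    have hj' : j < s := by
      have := (lt_min_iff.1 hj).2
      simpa using this
    refine ⟨⟨j, hj'⟩, (lt_min_iff.1 hj).1, ?_⟩
    simp
  · rintro ⟨j, hj, rfl⟩
    refine ⟨j.val, lt_min_iff.2 ⟨hj, by simp⟩, ?_⟩
    simp

theorem notMem_minimalPrimes_of_sop [LocCoh.IsCohenMacaulayLocalRing R] (s : ℕ)
    (hs : ringKrullDim R = s) (t : Fin s → R)
    (ht : ∀ i, t i ∈ IsLocalRing.maximalIdeal R)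
    (hsop : ringKrullDim (R ⧸ Ideal.span (Set.range t)) = 0) (i : Fin s) (P : Ideal R)
    (hP : P ∈ (Ideal.span (t '' {j : Fin s | j.val < i.val})).minimalPrimes) : t i ∉ P := by
  have hCM : LocCoh.IsCohenMacaulayModule R R :=
    LocCoh.IsCohenMacaulayLocalRing.supportDim_eq_depth
  have hmem : ∀ x ∈ List.ofFn t, x ∈ IsLocalRing.maximalIdeal R := by
    intro x hx
    rw [List.mem_ofFn'] at hx
    obtain ⟨j, rfl⟩ := hx
    exact ht j
  have hsm : ∀ I : Ideal R, (I • (⊤ : Submodule R R)) = I := fun I => by
    show I • (⊤ : Ideal R) = I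
    rw [smul_eq_mul, Ideal.mul_top]
  have hreg : IsWeaklyRegular R (List.ofFn t) := by
    rw [(Groth.Agent.DepthLib.isCM_list (List.ofFn t) R hCM hmem).1]
    rw [hsm, Module.supportDim_quotient_eq_ringKrullDim, Module.supportDim_self_eq_ringKrullDim,
      SemiLocalSOPH3.ofList_ofFn, hsop, hs, List.length_ofFn]
    simp
  have h1 := hreg.regular_mod_prev i.val (by simp)
  rw [hsm, ofList_take_ofFn] at h1
  have h2 : (List.ofFn t)[i.val]'(by simp) = t i := by simp
  rw [h2] at h1
  refine h1.notMem_of_mem_minimalPrimes ?_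
  rw [Ideal.annihilator_quotient]
  exact hP

end LemmaA

section LemmaB

variable {A : Type u} [CommRing A] [IsNoetherianRing A] (p : Ideal A) [p.IsPrime]

theorem exists_step (J : Ideal A) (hJp : J ≤ p) (τ : Localization.AtPrime p)
    (hτm : τ ∈ IsLocalRing.maximalIdeal (Localization.AtPrime p))
    (hτ : ∀ P ∈ (J.map (algebraMap A (Localization.AtPrime p))).minimalPrimes, τ ∉ P) :
    ∃ x ∈ p, ∃ c ∉ p, algebraMap A (Localization.AtPrime p) x -
        algebraMap A (Localization.AtPrime p) c * τ ∈
          J.map (algebraMap A (Localization.AtPrime p)) ∧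
      ∀ q ∈ J.minimalPrimes, x ∉ q := by
  classical
  set f := algebraMap A (Localization.AtPrime p) with hf
  obtain ⟨⟨b, c⟩, hbc⟩ := IsLocalization.surj p.primeCompl τ
  simp only at hbc
  have hcp : (c : A) ∉ p := c.2
  have hcu : IsUnit (f c) := IsLocalization.map_units _ c
  have hbp : b ∈ p := by
    rw [← IsLocalization.AtPrime.to_map_mem_maximal_iff (Localization.AtPrime p) p b, ← hbc]
    exact Ideal.mul_mem_right _ _ hτm
  have hdisj : ∀ q : Ideal A, q ≤ p → Disjoint (p.primeCompl : Set A) q := by
    intro q hq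
    rw [Set.disjoint_left]
    intro a ha haq
    exact ha (hq haq)
  have h2 : ∀ q ∈ J.minimalPrimes, q ≤ p → b ∉ q := by
    intro q hq hqp hbq
    have hqprime : q.IsPrime := hq.1.1
    have hPprime : (q.map f).IsPrime :=
      IsLocalization.isPrime_of_isPrime_disjoint p.primeCompl _ q hqprime (hdisj q hqp)
    have hunder : (q.map f).under A = q :=
      IsLocalization.under_map_of_isPrime_disjoint p.primeCompl _ hqprime (hdisj q hqp)
    have hPmin : q.map f ∈ (J.map f).minimalPrimes := by
      rw [IsLocalization.minimalPrimes_map p.primeCompl (Localization.AtPrime p) J]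
      show (q.map f).under A ∈ J.minimalPrimes
      rw [hunder]
      exact hq
    have h3 : f b ∈ q.map f := Ideal.mem_map_of_mem f hbq
    rw [← hbc] at h3
    rcases hPprime.mem_or_mem h3 with h4 | h4
    · exact hτ _ hPmin h4
    · exact hPprime.ne_top (Ideal.eq_top_of_isUnit_mem _ h4 hcu)
  have hfin : J.minimalPrimes.Finite := J.finite_minimalPrimes_of_isNoetherianRing
  set Q1 : Set (Ideal A) := {q | q ∈ J.minimalPrimes ∧ b ∉ q} with hQ1
  set Q2 : Set (Ideal A) := {q | q ∈ J.minimalPrimes ∧ b ∈ q} with hQ2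
  have hQ1fin : Q1.Finite := hfin.subset fun q hq => hq.1
  have hQ2fin : Q2.Finite := hfin.subset fun q hq => hq.1
  set J' : Ideal A := (J.map f).comap f with hJ'
  set I : Ideal A := J' ⊓ hQ1fin.toFinset.inf (fun q => q) with hI
  have hJ'mem : ∀ (u c1 : A), c1 ∉ p → c1 * u ∈ J → u ∈ J' := by
    intro u c1 hc1 hmem
    show f u ∈ J.map f
    have h3 : f c1 * f u ∈ J.map f := by
      rw [← map_mul]
      exact Ideal.mem_map_of_mem f hmem
    have hu1 : IsUnit (f c1) := IsLocalization.map_units _ (⟨c1, hc1⟩ : p.primeCompl)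
    exact (Ideal.unit_mul_mem_iff_mem _ hu1).1 h3
  have havoid : ∀ q' ∈ Q2, ¬ I ≤ q' := by
    intro q' hq' hle
    have hq'prime : q'.IsPrime := hq'.1.1.1
    have hnle : ¬ q' ≤ p := fun h => h2 q' hq'.1 h hq'.2
    rcases (Ideal.IsPrime.inf_le hq'prime).1 hle with h3 | h3
    · obtain ⟨c1, hc1q, hc1p⟩ := SetLike.not_le_iff_exists.1 hnle
      set others : Set (Ideal A) := {q | q ∈ J.minimalPrimes ∧ q ≠ q'} with hothers
      have hofin : others.Finite := hfin.subset fun q hq => hq.1
      have h4 : ¬ hofin.toFinset.inf (fun q => q) ≤ q' := by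
        intro h5
        obtain ⟨q, hq, hqq'⟩ := (Ideal.IsPrime.inf_le' hq'prime).1 h5
        rw [Set.Finite.mem_toFinset] at hq
        exact hq.2 (le_antisymm hqq' (hq'.1.2 ⟨hq.1.1.1, hq.1.1.2⟩ hqq'))
      obtain ⟨u, hu, huq'⟩ := SetLike.not_le_iff_exists.1 h4
      have h6 : c1 * u ∈ J.radical := by
        rw [← Ideal.sInf_minimalPrimes, Ideal.mem_sInf]
        intro q hq
        by_cases hqq' : q = q'
        · rw [hqq']
          exact Ideal.mul_mem_right _ _ hc1q
        · apply Ideal.mul_mem_left
          have hle2 : hofin.toFinset.inf (fun q => q) ≤ q :=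
            Finset.inf_le (f := fun q : Ideal A => q)
              (by rw [Set.Finite.mem_toFinset]; exact ⟨hq, hqq'⟩)
          exact hle2 hu
      obtain ⟨n, hn⟩ := h6
      rw [mul_pow] at hn
      have h7 : u ^ n ∈ J' := hJ'mem _ (c1 ^ n)
        (fun h => hc1p (Ideal.IsPrime.mem_of_pow_mem inferInstance n h)) hn
      exact huq' (hq'prime.mem_of_pow_mem n (h3 h7))
    · obtain ⟨q, hq, hqq'⟩ := (Ideal.IsPrime.inf_le' hq'prime).1 h3
      rw [Set.Finite.mem_toFinset] at hq
      have h5 : q' ≤ q := hq'.1.2 ⟨hq.1.1.1, hq.1.1.2⟩ hqq'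
      exact hq.2 (h5 hq'.2)
  obtain ⟨z, hzI, hzQ2⟩ :=
    SemiLocalSOPH3.exists_notMem_of_finite hQ2fin (fun q hq => hq.1.1.1) havoid
  have hzJ' : z ∈ J' := hzI.1
  have hzQ1 : ∀ q ∈ Q1, z ∈ q := by
    intro q hq
    have hle2 : hQ1fin.toFinset.inf (fun q => q) ≤ q :=
      Finset.inf_le (f := fun q : Ideal A => q) (by rw [Set.Finite.mem_toFinset]; exact hq)
    exact hle2 hzI.2
  refine ⟨b + z, ?_, c, hcp, ?_, ?_⟩
  · refine Ideal.add_mem _ hbp ?_
    have h3 : f z ∈ p.map f := Ideal.map_mono hJp hzJ'
    have h4 : (p.map f).under A = p :=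
      IsLocalization.under_map_of_isPrime_disjoint p.primeCompl _ inferInstance (hdisj p le_rfl)
    rw [← h4]
    exact h3
  · have h3 : f (b + z) - f c * τ = f z := by
      rw [map_add, ← hbc]
      ring
    rw [h3]
    exact hzJ'
  · intro q hq hmem
    by_cases hb : b ∈ q
    · exact hzQ2 q ⟨hq, hb⟩ ((Ideal.add_mem_iff_right q hb).1 hmem)
    · exact hb ((Ideal.add_mem_iff_left q (hzQ1 q ⟨hq, hb⟩)).1 hmem)

end LemmaB

theorem sup_span_eq_of_sub_mem {R : Type*} [CommRing R] (T : Ideal R) (X τ u : R) (hu : IsUnit u)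
    (h : X - u * τ ∈ T) : T ⊔ Ideal.span {X} = T ⊔ Ideal.span {τ} := by
  apply le_antisymm
  · refine sup_le le_sup_left ?_
    rw [Ideal.span_singleton_le_iff_mem]
    have h1 : X = (X - u * τ) + u * τ := by ring
    rw [h1]
    exact Ideal.add_mem _ (Ideal.mem_sup_left h)
      (Ideal.mem_sup_right (Ideal.mul_mem_left _ _ (Ideal.mem_span_singleton_self τ)))
  · refine sup_le le_sup_left ?_
    rw [Ideal.span_singleton_le_iff_mem]
    obtain ⟨v, rfl⟩ := hu
    have h1 : τ = (↑v⁻¹ : R) * (X - (X - v * τ)) := by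
      have h2 : (↑v⁻¹ : R) * (v : R) = 1 := Units.inv_mul v
      calc τ = ((↑v⁻¹ : R) * (v : R)) * τ := by rw [h2, one_mul]
        _ = _ := by ring
    rw [h1]
    apply Ideal.mul_mem_left
    exact Ideal.sub_mem _ (Ideal.mem_sup_right (Ideal.mem_span_singleton_self X))
      (Ideal.mem_sup_left h)

theorem main (A : Type u) [CommRing A] [IsNoetherianRing A] [IsLocalRing A] (p : Ideal A)
    [p.IsPrime] [LocCoh.IsCohenMacaulayLocalRing (Localization.AtPrime p)] (s : ℕ)
    (hs : ringKrullDim (Localization.AtPrime p) = s) (t : Fin s → Localization.AtPrime p)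
    (ht : ∀ i, t i ∈ IsLocalRing.maximalIdeal (Localization.AtPrime p))
    (hsop : ringKrullDim (Localization.AtPrime p ⧸ Ideal.span (Set.range t)) = 0) :
    ∃ x a : Fin s → A, (∀ i, x i ∈ p) ∧ (∀ i, a i ∉ p) ∧
      ringKrullDim (A ⧸ Ideal.span (Set.range x)) + (s : WithBot ℕ∞) = ringKrullDim A ∧
      ∀ i : Fin s, algebraMap A (Localization.AtPrime p) (x i) -
          algebraMap A (Localization.AtPrime p) (a i) * t i ∈
        Ideal.span (t '' {j : Fin s | j < i}) := by
  classical
  set f := algebraMap A (Localization.AtPrime p) with hf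
  obtain ⟨dn, hdn⟩ := SemiLocalSOPH3.exists_nat_ringKrullDim_eq (A := A)
  have hdn' : ringKrullDim A = (dn : WithBot ℕ∞) := hdn
  have hsd : s ≤ dn := by
    have h1 : (p.height : WithBot ℕ∞) ≤ ringKrullDim A :=
      Ideal.height_le_ringKrullDim_of_ne_top (Ideal.IsPrime.ne_top inferInstance)
    rw [← IsLocalization.AtPrime.ringKrullDim_eq_height p (Localization.AtPrime p), hs, hdn'] at h1
    exact_mod_cast h1
  have key : ∀ k ≤ s, ∃ x a : Fin s → A, (∀ i, x i ∈ p) ∧ (∀ i, a i ∉ p) ∧
      (∀ i : Fin s, i.val < k →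
        f (x i) - f (a i) * t i ∈ Ideal.span (t '' {j : Fin s | j.val < i.val})) ∧
      (Ideal.span (x '' {j : Fin s | j.val < k})).map f =
        Ideal.span (t '' {j : Fin s | j.val < k}) ∧
      Order.krullDim (zeroLocus ((Ideal.span (x '' {j : Fin s | j.val < k}) : Ideal A) : Set A)) ≤
        ((dn - k : ℕ) : WithBot ℕ∞) := by
    intro k
    induction k with
    | zero =>
      intro _
      refine ⟨fun _ => 0, fun _ => 1, fun _ => zero_mem _, fun _ => ?_,
        fun i hi => absurd hi (Nat.not_lt_zero _), ?_, ?_⟩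
      · exact fun h => (Ideal.IsPrime.ne_top inferInstance) ((Ideal.eq_top_iff_one p).2 h)
      · have hempty : {j : Fin s | j.val < 0} = ∅ := by
          ext j
          simp
        rw [hempty, Set.image_empty, Set.image_empty, Ideal.span_empty, Ideal.map_bot, Ideal.span_empty]
      · refine (SemiLocalSOPH3.krullDim_zeroLocus_le _).trans ?_
        rw [hdn']
        simp
    | succ k ih =>
      intro hk
      obtain ⟨x, a, hxp, hap, hcong, hmap, hD⟩ := ih (by omega)
      set J := Ideal.span (x '' {j : Fin s | j.val < k}) with hJ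
      have hJp : J ≤ p := by
        rw [Ideal.span_le]
        rintro _ ⟨j, _, rfl⟩
        exact hxp j
      set ik : Fin s := ⟨k, by omega⟩ with hik
      have hτ : ∀ P ∈ (J.map f).minimalPrimes, t ik ∉ P := by
        intro P hP
        rw [hmap] at hP
        exact notMem_minimalPrimes_of_sop s hs t ht hsop ik P hP
      obtain ⟨xk, hxkp, c, hcp, hcong', hxkmin⟩ := exists_step p J hJp (t ik) (ht ik) hτ
      set x' := Function.update x ik xk with hx'
      set a' := Function.update a ik c with ha'
      have hx'k : x' ik = xk := Function.update_self ..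
      have ha'k : a' ik = c := Function.update_self ..
      have hne : ∀ j : Fin s, j.val < k → j ≠ ik := by
        intro j hj h
        rw [h] at hj
        exact lt_irrefl _ hj
      have hx'lt : ∀ j : Fin s, j.val < k → x' j = x j :=
        fun j hj => Function.update_of_ne (hne j hj) ..
      have ha'lt : ∀ j : Fin s, j.val < k → a' j = a j :=
        fun j hj => Function.update_of_ne (hne j hj) ..
      have hset : {j : Fin s | j.val < k + 1} = {j : Fin s | j.val < k} ∪ {ik} := by
        ext j
        simp only [Set.mem_setOf_eq, Set.mem_union, Set.mem_singleton_iff, Fin.ext_iff, hik]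
        omega
      have himg : x' '' {j : Fin s | j.val < k} = x '' {j : Fin s | j.val < k} :=
        Set.image_congr (fun j hj => hx'lt j hj)
      have hspan : Ideal.span (x' '' {j : Fin s | j.val < k + 1}) = J ⊔ Ideal.span {xk} := by
        rw [hset, Set.image_union, Set.image_singleton, hx'k, Ideal.span_union, himg]
      have tspan : Ideal.span (t '' {j : Fin s | j.val < k + 1}) =
          Ideal.span (t '' {j : Fin s | j.val < k}) ⊔ Ideal.span {t ik} := by
        rw [hset, Set.image_union, Set.image_singleton, Ideal.span_union]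
      have hcu : IsUnit (f c) := IsLocalization.map_units _ (⟨c, hcp⟩ : p.primeCompl)
      refine ⟨x', a', ?_, ?_, ?_, ?_, ?_⟩
      · intro i
        by_cases hi : i = ik
        · rw [hi, hx'k]
          exact hxkp
        · rw [hx', Function.update_of_ne hi]
          exact hxp i
      · intro i
        by_cases hi : i = ik
        · rw [hi, ha'k]
          exact hcp
        · rw [ha', Function.update_of_ne hi]
          exact hap i
      · intro i hi
        by_cases hik' : i.val < k
        · rw [hx'lt i hik', ha'lt i hik']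
          exact hcong i hik'
        · have hi' : i = ik := by
            apply Fin.ext
            simp only [hik]
            omega
          rw [hi', hx'k, ha'k]
          rw [hmap] at hcong'
          exact hcong'
      · rw [hspan, tspan, Ideal.map_sup, hmap, Ideal.map_span, Set.image_singleton]
        rw [hmap] at hcong'
        exact sup_span_eq_of_sub_mem _ (f xk) (t ik) (f c) hcu hcong'
      · rw [hspan]
        have hd : dn - k = (dn - (k + 1)) + 1 := by omega
        rw [hd] at hD
        exact Groth.Agent.DimLib.krullDim_zeroLocus_sup_span_le J xk _ hD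
          (fun q hq _ => hxkmin q hq)
  obtain ⟨x, a, hxp, hap, hcong, hmap, hD⟩ := key s le_rfl
  have huniv : {j : Fin s | j.val < s} = Set.univ := by
    ext j
    simp
  rw [huniv, Set.image_univ] at hD
  refine ⟨x, a, hxp, hap, ?_, ?_⟩
  · rw [← ringKrullDim_quotient] at hD
    rw [hdn']
    apply le_antisymm
    · calc ringKrullDim (A ⧸ Ideal.span (Set.range x)) + (s : WithBot ℕ∞)
          ≤ ((dn - s : ℕ) : WithBot ℕ∞) + (s : WithBot ℕ∞) := by gcongr
        _ = (dn : WithBot ℕ∞) := by
          rw [← Nat.cast_add, Nat.sub_add_cancel hsd]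
    · have hjac : ((Finset.univ.image x : Finset A) : Set A) ⊆ Ring.jacobson A := by
        intro y hy
        rw [Finset.coe_image, Finset.coe_univ, Set.image_univ] at hy
        obtain ⟨j, rfl⟩ := hy
        rw [Ring.jacobson_eq_sInf_isMaximal]
        rw [SetLike.mem_coe, Ideal.mem_sInf]
        intro m hm
        have hm' : m.IsMaximal := hm
        rw [IsLocalRing.eq_maximalIdeal hm']
        exact IsLocalRing.le_maximalIdeal (Ideal.IsPrime.ne_top inferInstance) (hxp j)
      have h1 := ringKrullDim_le_ringKrullDim_quotient_add_card (Finset.univ.image x) hjac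
      rw [Finset.coe_image, Finset.coe_univ, Set.image_univ, hdn'] at h1
      refine h1.trans ?_
      gcongr
      have hcard : (Finset.univ.image x).card ≤ s := by
        refine Finset.card_image_le.trans ?_
        simp
      exact_mod_cast hcard
  · intro i
    exact hcong i i.2

end Groth.Agent.Lib.CMLiftSOPH3
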