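import Mathlib
import Groth.Agent.Lib.CMMor8_helper8
import Groth.Agent.Lib.HomLin6_helper8
import Groth.Agent.Lib.EtDim2_helper8

set_option autoImplicit false
universe u

namespace Groth.Agent.Lib.CMMorH8

open AlgebraicGeometry CategoryTheory Limits TopologicalSpace Topology IsLocalRing
open Groth.Agent.FibStalkDimH8 FibRedH8 Groth.Agent.FibStalkIso Groth.Agent.FibStalkCM

/-- dimension formula for the local rings along a morphism flat at the point. -/
theorem coheight_eq_add {X Y : Scheme.{u}} [IsLocallyNoetherian X] [IsLocallyNoetherian Y]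
    (f : X ⟶ Y) (u : X) (hfl : (f.stalkMap u).hom.Flat) :
    Order.coheight u = Order.coheight (f u) + FibCohH8.fibCoh f u := by
  letI alg : Algebra (Y.presheaf.stalk (f u)) (X.presheaf.stalk u) := (f.stalkMap u).hom.toAlgebra
  haveI : IsLocalHom (algebraMap (Y.presheaf.stalk (f u)) (X.presheaf.stalk u)) :=
    inferInstanceAs (IsLocalHom (f.stalkMap u).hom)
  haveI : Module.Flat (Y.presheaf.stalk (f u)) (X.presheaf.stalk u) := hfl
  have hadd := Groth.Agent.FlatCM.dim_eq_add (Y.presheaf.stalk (f u)) (X.presheaf.stalk u)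
  have hF : ringKrullDim (EGA4.FibRing (Y.presheaf.stalk (f u)) (X.presheaf.stalk u)) = _ :=
    ringKrullDim_eq_of_ringEquiv (fibStalkEquiv f u)
  rw [hF, FibCohH8.stalk_fiber_eq_fibCoh, AlgebraicGeometry.ringKrullDim_stalk_eq_coheight,
    AlgebraicGeometry.ringKrullDim_stalk_eq_coheight] at hadd
  exact_mod_cast hadd

/-- a closed point of a fibre has residue field algebraic over that of its image. -/
theorem resTrdeg_eq_zero_of_isClosed_fiber {X Y : Scheme.{u}} (f : X ⟶ Y) [LocallyOfFiniteType f]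
    (v : Y) (t : f.fiber v) (ht : IsClosed ({t} : Set (f.fiber v))) :
    Dual3.resTrdeg f (f.fiberι v t) = 0 := by
  have hs : f (f.fiberι v t) = v := Groth.Agent.FibRes2H8.fiberι_mem f v t
  generalize hu : f.fiberι v t = u' at hs
  subst hs
  have ht' : t = f.asFiber u' := by
    apply (f.fiberι (f u')).isEmbedding.injective
    rw [hu, Scheme.Hom.fiberι_asFiber]
  subst ht'
  obtain ⟨n, hn, hh⟩ := Groth.Agent.FibRes2H8.height_asFiber f u'
  have hmin : IsMin (f.asFiber u') := by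
    intro w hw
    have hsp : f.asFiber u' ⤳ w := hw
    have : w ∈ closure ({f.asFiber u'} : Set (f.fiber (f u'))) :=
      specializes_iff_mem_closure.mp hsp
    rw [ht.closure_eq] at this
    rw [Set.mem_singleton_iff.mp this]
  rw [Order.height_eq_zero.mpr hmin] at hh
  have hn0 : n = 0 := by exact_mod_cast hh.symm
  unfold Dual3.resTrdeg
  rw [hn, hn0]
  rfl

/-- every point of the image of an open set has a preimage in it which is closed in its fibre. -/
theorem exists_mem_resTrdeg_eq_zero {X Y : Scheme.{u}} (f : X ⟶ Y) [LocallyOfFiniteType f]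
    (U : X.Opens) (v : Y) (hv : v ∈ f '' (U : Set X)) :
    ∃ u ∈ U, f u = v ∧ Dual3.resTrdeg f u = 0 := by
  obtain ⟨u₀, hu₀U, rfl⟩ := hv
  haveI := Groth.Agent.FibChainH8.isLocallyNoetherian_fiber (U.ι ≫ f) ((U.ι ≫ f) ⟨u₀, hu₀U⟩)
  obtain ⟨t, -, ht⟩ := HomLinH8.exists_isClosed_specializes
    ((U.ι ≫ f).asFiber (⟨u₀, hu₀U⟩ : (U : Scheme.{u})))
  have h0 := resTrdeg_eq_zero_of_isClosed_fiber (U.ι ≫ f) _ t ht
  have hs := Groth.Agent.FibRes2H8.fiberι_mem (U.ι ≫ f) _ t
  rw [ResTrdegH8.resTrdeg_etale_comp] at h0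
  exact ⟨U.ι ((U.ι ≫ f).fiberι _ t), ((U.ι ≫ f).fiberι _ t).2, hs, h0⟩

end Groth.Agent.Lib.CMMorH8

namespace Groth.Agent.Lib.CMMorH8

open AlgebraicGeometry CategoryTheory Limits TopologicalSpace Topology

/-- dimension of an open subset, as an `ℕ∞`-valued supremum (nonempty case). -/
theorem topDim_open_eq_coe_iSup (X : Scheme.{u}) (W : TopologicalSpace.Opens X)
    [Nonempty ↥(W : Set X)] :
    topologicalKrullDim ↥(W : Set X) =
      ((⨆ w : ↥(W : Set X), Order.coheight (w : X) : ℕ∞) : WithBot ℕ∞) := by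
  rw [EtDimH8.topDim_open_eq_iSup, WithBot.coe_iSup (OrderTop.bddAbove _)]

set_option maxHeartbeats 1600000 in
/-- S1344: dimension formula for Cohen–Macaulay morphisms. -/
theorem localDim_eq_add {X Y : Scheme.{u}} [IsLocallyNoetherian X] [IsLocallyNoetherian Y]
    (f : X ⟶ Y) [LocallyOfFiniteType f] (hf : ∀ x : X, MoreMor.IsCMAt f x) (x : X) :
    FlatMor.localDim ↑X x = FlatMor.localDim ↑Y (f x) + FlatMor.fibreDimAt f x := by
  haveI : Flat f := Flat.of_stalkMap f (fun x => (hf x).1)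
  haveI : LocallyOfFinitePresentation f := inferInstance
  obtain ⟨d, hd⟩ := EquidimIrrH8.exists_nat_fibreDimAt f x
  obtain ⟨U₀, hU₀o, hxU₀, hU₀⟩ := (IsLocallyConstant.iff_exists_open _).mp
    (isLocallyConstant_fibreDimAt f hf) x
  have hU₀d : ∀ u ∈ U₀, FlatMor.fibreDimAt f u = d := fun u hu => (hU₀ u hu).trans hd
  -- pointwise: `fibCoh + trdeg = d`
  have hpt : ∀ u ∈ U₀, ∃ n : ℕ, Dual3.resTrdeg f u = n ∧
      ((FibCohH8.fibCoh f u : ℕ∞)) + (n : ℕ∞) = (d : ℕ∞) := by
    intro u hu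
    obtain ⟨n, hn⟩ := Groth.Agent.ResQuot2H8.exists_trdeg_nat f u
    have hn' : Dual3.resTrdeg f u = n := hn
    refine ⟨n, hn', ?_⟩
    have h1 := FibCohH8.fibreDimAt_eq f u
    rw [hU₀d u hu, hn', Cardinal.toENat_nat] at h1
    exact_mod_cast h1.symm
  rw [hd]
  apply le_antisymm
  · -- `≤`
    obtain ⟨V, hyV, hV⟩ := ChevH8.exists_opens_topDim_le_of_localDim_le (f x) _ le_rfl
    let U : X.Opens := (f ⁻¹ᵁ V) ⊓ ⟨U₀, hU₀o⟩
    have h1 : FlatMor.localDim ↑X x ≤ topologicalKrullDim ↥(U : Set X) := by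
      unfold FlatMor.localDim
      exact iInf_le (fun W : {W : TopologicalSpace.Opens X // x ∈ W} =>
        topologicalKrullDim ↥(W.1 : Set X)) ⟨U, ⟨hyV, hxU₀⟩⟩
    refine h1.trans ?_
    rw [EtDimH8.topDim_open_eq_iSup]
    refine iSup_le fun w => ?_
    have h2 := coheight_eq_add f (w : X) (hf w).1
    obtain ⟨n, -, hn⟩ := hpt (w : X) w.2.2
    have h3 : ((Order.coheight (f (w : X)) : ℕ∞) : WithBot ℕ∞) ≤
        topologicalKrullDim ↥(V : Set Y) := by
      rw [EtDimH8.topDim_open_eq_iSup]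
      exact le_iSup (fun v : ↥(V : Set Y) => ((Order.coheight (v : Y) : ℕ∞) : WithBot ℕ∞))
        ⟨f (w : X), w.2.1⟩
    have h4 : FibCohH8.fibCoh f (w : X) ≤ (d : ℕ∞) := by
      rw [← hn]; exact le_self_add
    rw [h2]
    push_cast
    exact add_le_add (h3.trans hV) (by exact_mod_cast h4)
  · -- `≥`
    unfold FlatMor.localDim
    refine le_iInf ?_
    rintro ⟨U, hxU⟩
    let U' : X.Opens := U ⊓ ⟨U₀, hU₀o⟩
    have hxU' : x ∈ U' := ⟨hxU, hxU₀⟩
    have hmono : topologicalKrullDim ↥(U' : Set X) ≤ topologicalKrullDim ↥(U : Set X) := by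
      have hsub : (U' : Set X) ⊆ (U : Set X) := fun _ h => h.1
      exact (Topology.IsInducing.topologicalKrullDim_le
        (Topology.IsEmbedding.inclusion hsub).isInducing)
    refine le_trans ?_ hmono
    let V : Y.Opens := ⟨f '' (U' : Set X), f.isOpenMap _ U'.2⟩
    have hyV : f x ∈ V := ⟨x, hxU', rfl⟩
    have h1 : (⨅ W : {W : TopologicalSpace.Opens Y // f x ∈ W},
        topologicalKrullDim ↥(W.1 : Set Y)) ≤ topologicalKrullDim ↥(V : Set Y) :=
      iInf_le (fun W : {W : TopologicalSpace.Opens Y // f x ∈ W} =>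
        topologicalKrullDim ↥(W.1 : Set Y)) ⟨V, hyV⟩
    refine le_trans (add_le_add h1 le_rfl) ?_
    haveI : Nonempty ↥(V : Set Y) := ⟨⟨f x, hyV⟩⟩
    haveI : Nonempty ↥(U' : Set X) := ⟨⟨x, hxU'⟩⟩
    rw [topDim_open_eq_coe_iSup Y V, topDim_open_eq_coe_iSup X U']
    have key : (⨆ v : ↥(V : Set Y), Order.coheight (v : Y)) + (d : ℕ∞) ≤
        ⨆ w : ↥(U' : Set X), Order.coheight (w : X) := by
      rw [ENat.iSup_add]
      refine iSup_le fun v => ?_
      obtain ⟨u, huU', hfu, htr⟩ := exists_mem_resTrdeg_eq_zero f U' (v : Y) v.2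
      obtain ⟨n, hn1, hn2⟩ := hpt u huU'.2
      have hn0 : n = 0 := by
        have : ((n : ℕ) : Cardinal.{u}) = 0 := hn1.symm.trans htr
        exact_mod_cast this
      rw [hn0] at hn2
      have h2 := coheight_eq_add f u (hf u).1
      rw [hfu] at h2
      have h5 : Order.coheight (v : Y) + (d : ℕ∞) = Order.coheight u := by
        rw [h2, ← hn2]; simp
      rw [h5]
      exact le_iSup (fun w : ↥(U' : Set X) => Order.coheight (w : X)) ⟨u, huU'⟩
    exact_mod_cast key

end Groth.Agent.Lib.CMMorH8
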