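import Mathlib
import Groth.Agent.Lib.CMMor9_helper8
import Groth.Agent.Lib.OpenAtDim_helper8

set_option autoImplicit false
universe u

namespace Groth.Agent.Lib.CMMorH8

open AlgebraicGeometry CategoryTheory Limits TopologicalSpace Topology IsLocalRing
open Groth.Agent.FibStalkDimH8 FibRedH8 Groth.Agent.FibStalkIso Groth.Agent.FibStalkCM

set_option maxHeartbeats 1600000 in
/-- S3440 (EGA IV 15.4.2-type): regular base, Cohen–Macaulay total space. -/
theorem tfae_flat_of_regular_cm {X Y : Scheme.{u}} [IsLocallyNoetherian Y] (f : X ⟶ Y)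
    [LocallyOfFiniteType f] (x : X) (hreg : IsRegularLocalRing (Y.presheaf.stalk (f.base x)))
    (hCM : LocCoh.IsCohenMacaulayLocalRing (X.presheaf.stalk x)) :
    List.TFAE [
      (f.stalkMap x).hom.Flat ∧ LocCoh.IsCohenMacaulayLocalRing ((f.fiber (f.base x)).presheaf.stalk (f.asFiber x)),
      (f.stalkMap x).hom.Flat,
      ∃ U : X.Opens, x ∈ U ∧ UniversallyOpen (U.ι ≫ f),
      (∀ z : ↥(f.fiber (f.base x)), f.asFiber x ∈ closure {z} →
          (∀ z' : ↥(f.fiber (f.base x)), z ∈ closure {z'} → z' = z) →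
          EGA43.IsOpenAt f.base ((f.fiberι (f.base x)).base z)),
      ringKrullDim (X.presheaf.stalk x) =
        ringKrullDim (Y.presheaf.stalk (f.base x)) + ringKrullDim ((f.fiber (f.base x)).presheaf.stalk (f.asFiber x)) ] := by
  haveI : IsLocallyNoetherian X := LocallyOfFiniteType.isLocallyNoetherian f
  haveI : LocallyOfFinitePresentation f := inferInstance
  letI alg : Algebra (Y.presheaf.stalk (f x)) (X.presheaf.stalk x) := (f.stalkMap x).hom.toAlgebra
  haveI : IsLocalHom (algebraMap (Y.presheaf.stalk (f x)) (X.presheaf.stalk x)) :=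
    inferInstanceAs (IsLocalHom (f.stalkMap x).hom)
  have hF : ringKrullDim (EGA4.FibRing (Y.presheaf.stalk (f x)) (X.presheaf.stalk x)) =
      ringKrullDim ((f.fiber (f.base x)).presheaf.stalk (f.asFiber x)) :=
    ringKrullDim_eq_of_ringEquiv (fibStalkEquiv f x)
  tfae_have 1 → 2 := fun h => h.1
  tfae_have 2 → 1 := by
    intro h
    refine ⟨h, ?_⟩
    haveI : Module.Flat (Y.presheaf.stalk (f x)) (X.presheaf.stalk x) := h
    have h1 := ((Groth.Agent.FlatCM.isCM_local_iff (Y.presheaf.stalk (f x))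
      (X.presheaf.stalk x)).mp hCM).2
    exact @Groth.Agent.FlatCM.isCMLocalRing_of_ringEquiv _ _ _ _ (fibStalkEquiv f x) h1
  tfae_have 2 → 3 := by
    intro h
    let U : X.Opens := ⟨{u : X | (f.stalkMap u).hom.Flat}, Groth.Agent.S0386.result f⟩
    refine ⟨U, h, ?_⟩
    haveI : Flat (U.ι ≫ f) := by
      apply Flat.of_stalkMap
      intro u
      rw [Scheme.Hom.stalkMap_comp]
      exact RingHom.Flat.comp u.2 (Flat.stalkMap U.ι u)
    infer_instance
  tfae_have 3 → 4 := by
    rintro ⟨U, hxU, hU⟩ z hz _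
    have hsp : (f.fiberι (f.base x)).base z ⤳ x := by
      have h1 : z ⤳ f.asFiber x := specializes_iff_mem_closure.mpr hz
      have := h1.map (f.fiberι (f.base x)).continuous
      rwa [Scheme.Hom.fiberι_asFiber] at this
    have hzU : (f.fiberι (f.base x)).base z ∈ U := hsp.mem_open U.2 hxU
    intro N hN
    have hopen : IsOpenMap (U.ι ≫ f).base := (U.ι ≫ f).isOpenMap
    have hN' : (U.ι.base ⁻¹' N) ∈ nhds (⟨_, hzU⟩ : (U : Scheme.{u})) :=
      U.ι.continuous.continuousAt.preimage_mem_nhds hN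
    have h2 := hopen.image_mem_nhds hN'
    refine Filter.mem_of_superset h2 ?_
    rintro _ ⟨w, hw, rfl⟩
    exact ⟨U.ι w, hw, rfl⟩
  tfae_have 4 → 5 := fun h => OpenAtDimH8.dim_formula f x h
  tfae_have 5 → 2 := by
    intro h
    haveI := hreg
    haveI := hCM
    have : Module.Flat (Y.presheaf.stalk (f x)) (X.presheaf.stalk x) := by
      apply Groth.Agent.MiracleFlat.flat_of_isCMRing
      rw [h]
      congr 1
      exact hF.symm
    exact this
  tfae_finish

end Groth.Agent.Lib.CMMorH8
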