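import Mathlib
import Groth.Prelude.Def_EGA43
import Groth.Agent.Lib.EquidimAt2_helper8

/-!
# Equidimensional morphisms and quasi-finite morphisms to affine spaces, converse direction
-/

set_option autoImplicit false

universe u

namespace Groth.Agent.Lib.EquidimAtH8

open AlgebraicGeometry CategoryTheory Limits TopologicalSpace Topology

variable {X Y : Scheme.{u}}

/-- In a locally Noetherian scheme, every point has arbitrarily small open neighbourhoods all of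
whose maximal points specialize to it. -/
theorem exists_opens_maximal_specializes [IsLocallyNoetherian X] (U : X.Opens) (x : X)
    (hxU : x ∈ U) :
    ∃ U' : X.Opens, U' ≤ U ∧ x ∈ U' ∧
      ∀ ζ : X, ζ ∈ U' → (∀ z : X, z ⤳ ζ → z = ζ) → ζ ⤳ x := by
  obtain ⟨Ua, hUa, hxUa, hUaU⟩ : ∃ Ua : X.Opens, IsAffineOpen Ua ∧ x ∈ Ua ∧
      (Ua : Set X) ⊆ (U : Set X) := by
    obtain ⟨_, ⟨Ua, hUa, rfl⟩, hxUa, hsub⟩ :=
      X.isBasis_affineOpens.exists_subset_of_mem_open hxU U.2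
    exact ⟨Ua, hUa, hxUa, hsub⟩
  haveI : IsNoetherianRing Γ(X, Ua) := IsLocallyNoetherian.component_noetherian ⟨Ua, hUa⟩
  haveI : NoetherianSpace ↥Ua := noetherianSpace_of_isAffineOpen Ua hUa
  haveI : QuasiSober ↥Ua := Ua.2.isOpenEmbedding_subtypeVal.quasiSober
  let xa : ↥Ua := ⟨x, hxUa⟩
  let 𝒮 : Set (Set ↥Ua) := {Z | Z ∈ irreducibleComponents ↥Ua ∧ xa ∉ Z}
  have h𝒮fin : 𝒮.Finite :=
    (NoetherianSpace.finite_irreducibleComponents (α := ↥Ua)).subset (fun Z hZ => hZ.1)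
  have hBclosed : IsClosed (⋃₀ 𝒮) := by
    rw [Set.sUnion_eq_biUnion]
    exact h𝒮fin.isClosed_biUnion (fun Z hZ => isClosed_of_mem_irreducibleComponents Z hZ.1)
  have hopen : IsOpen (Subtype.val '' (⋃₀ 𝒮)ᶜ : Set X) :=
    Ua.2.isOpenMap_subtype_val _ hBclosed.isOpen_compl
  refine ⟨⟨Subtype.val '' (⋃₀ 𝒮)ᶜ, hopen⟩, ?_, ?_, ?_⟩
  · rintro _ ⟨z, -, rfl⟩
    exact hUaU z.2
  · refine ⟨xa, ?_, rfl⟩
    rintro ⟨Z, hZ, hxZ⟩
    exact hZ.2 hxZ
  · rintro _ ⟨ζa, hζa, rfl⟩ hmax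
    have hmax' : ∀ z : ↥Ua, z ⤳ ζa → z = ζa := by
      intro z hz
      have h1 : (z : X) ⤳ (ζa : X) := (subtype_specializes_iff z ζa).mp hz
      exact Subtype.ext (hmax _ h1)
    have hcomp : closure ({ζa} : Set ↥Ua) ∈ irreducibleComponents ↥Ua :=
      (Groth.Agent.SchFTH8.closure_mem_irreducibleComponents_iff ζa).mpr hmax'
    by_contra hcon
    apply hζa
    refine ⟨closure {ζa}, ⟨hcomp, ?_⟩, subset_closure rfl⟩
    intro hx
    apply hcon
    have h2 : ζa ⤳ xa := specializes_iff_mem_closure.mpr hx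
    exact (subtype_specializes_iff ζa xa).mp h2

/-- The dimension of an irreducible component of a fibre is the relative dimension at its generic
point. -/
theorem topDim_component_fiber {T : Scheme.{u}} (h : T ⟶ Y) [LocallyOfFiniteType h] (y : Y)
    (C : Set ↥(h.fiber y)) (hC : C ∈ irreducibleComponents ↥(h.fiber y)) :
    ∃ t : ↥(h.fiber y), topologicalKrullDim ↥C = FlatMor.fibreDimAt h (h.fiberι y t) := by
  obtain ⟨t, htC, htmax⟩ := exists_generic_of_mem_irreducibleComponents C hC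
  refine ⟨t, ?_⟩
  letI ov : (h.fiber y).Over (Spec (CommRingCat.of (Y.residueField y))) :=
    ⟨h.fiberToSpecResidueField y⟩
  haveI : LocallyOfFiniteType (h.fiber y ↘ Spec (CommRingCat.of (Y.residueField y))) :=
    Groth.Agent.FibRes2H8.lft_fiber h y
  rw [← htC, Groth.Agent.ClosHtH8.topologicalKrullDim_closure_singleton (h.fiber y) t,
    ← FieldExtH8.localDim_fiber_eq_fibreDimAt h y t _ rfl,
    LocDimProdH8.localDim_eq (Y.residueField y) (h.fiber y) t]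
  have hco : Order.coheight t = 0 := by
    rw [Order.coheight_eq_zero]
    intro b hb
    have h1 : b ⤳ t := hb
    rw [htmax b h1]
  rw [hco, zero_add]

theorem b_imp_a [IsLocallyNoetherian Y] (f : X ⟶ Y) [LocallyOfFiniteType f] (x : X)
    (h : ∃ (e : ℕ) (U : X.Opens) (g : (U : Scheme.{u}) ⟶ 𝔸(ULift.{u} (Fin e); Y)),
        x ∈ U ∧ g ≫ (𝔸(ULift.{u} (Fin e); Y) ↘ Y) = U.ι ≫ f ∧ LocallyQuasiFinite g ∧
        ∀ Z ∈ irreducibleComponents (↥U : Type u),
          closure (g.base '' Z) ∈ irreducibleComponents (↥𝔸(ULift.{u} (Fin e); Y) : Type u)) :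
    EGA43.IsEquidimAt f x := by
  obtain ⟨e, U, g, hxU, hg, hlqf, Hc⟩ := h
  haveI := hlqf
  haveI : IsLocallyNoetherian X := LocallyOfFiniteType.isLocallyNoetherian f
  obtain ⟨U', hU'U, hxU', hsp⟩ := exists_opens_maximal_specializes U x hxU
  set g' : (U' : Scheme.{u}) ⟶ 𝔸(ULift.{u} (Fin e); Y) := X.homOfLE hU'U ≫ g with hg'def
  have hg' : g' ≫ (𝔸(ULift.{u} (Fin e); Y) ↘ Y) = U'.ι ≫ f := by
    rw [hg'def, Category.assoc, hg, ← Category.assoc, Scheme.homOfLE_ι]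
  haveI : LocallyQuasiFinite g' := by rw [hg'def]; infer_instance
  haveI : LocallyOfFiniteType (g' ≫ (𝔸(ULift.{u} (Fin e); Y) ↘ Y)) := by rw [hg']; infer_instance
  haveI : LocallyOfFiniteType g' :=
    locallyOfFiniteType_of_comp g' (𝔸(ULift.{u} (Fin e); Y) ↘ Y)
  -- maximal points of `U'` go to maximal points of the affine space
  have hmaxA : ∀ ζ' : (U' : Scheme.{u}), (∀ z : (U' : Scheme.{u}), z ⤳ ζ' → z = ζ') →
      ∀ a' : 𝔸(ULift.{u} (Fin e); Y), a' ⤳ g' ζ' → a' = g' ζ' := by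
    intro ζ' hζ'
    have h1 : ∀ z : X, z ⤳ U'.ι ζ' → z = U'.ι ζ' := (isMax_ι_iff U' ζ').mp hζ'
    have h2 : U.ι (X.homOfLE hU'U ζ') = U'.ι ζ' := by
      rw [← Scheme.Hom.comp_apply, Scheme.homOfLE_ι]
    have h3 : ∀ z : (U : Scheme.{u}), z ⤳ X.homOfLE hU'U ζ' → z = X.homOfLE hU'U ζ' :=
      (isMax_ι_iff U _).mpr (by rw [h2]; exact h1)
    have h4 := Hc _ ((Groth.Agent.SchFTH8.closure_mem_irreducibleComponents_iff
      (X.homOfLE hU'U ζ')).mpr h3)
    rw [Groth.Agent.Lib.AffDimH8.closure_image_closure_singleton _ g.continuous] at h4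
    exact (Groth.Agent.SchFTH8.closure_mem_irreducibleComponents_iff _).mp h4
  have hπ : ∀ ζ' : (U' : Scheme.{u}),
      (𝔸(ULift.{u} (Fin e); Y) ↘ Y) (g' ζ') = (U'.ι ≫ f) ζ' := by
    intro ζ'
    rw [← Scheme.Hom.comp_apply, hg']
  have hmaxdim : ∀ ζ' : (U' : Scheme.{u}), (∀ z : (U' : Scheme.{u}), z ⤳ ζ' → z = ζ') →
      FlatMor.fibreDimAt (U'.ι ≫ f) ζ' = e := by
    intro ζ' hζ'
    obtain ⟨-, h2⟩ := asFiber_eq_of_isMax Y e (g' ζ') (hmaxA ζ' hζ')
    exact (fibreDimAt_eq_iff_of_isMax (U'.ι ≫ f) e g' hg' ζ' hζ').mpr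
      ((height_asFiber_eq_iff Y e (g' ζ')).mpr h2)
  have hmaxY : ∀ ζ' : (U' : Scheme.{u}), (∀ z : (U' : Scheme.{u}), z ⤳ ζ' → z = ζ') →
      ∀ b : Y, b ⤳ (U'.ι ≫ f) ζ' → b = (U'.ι ≫ f) ζ' := by
    intro ζ' hζ'
    obtain ⟨h1, -⟩ := asFiber_eq_of_isMax Y e (g' ζ') (hmaxA ζ' hζ')
    rw [hπ ζ'] at h1
    exact h1
  -- the relative dimension is `e` at every point of `U'`
  have hall : ∀ u' : (U' : Scheme.{u}), FlatMor.fibreDimAt (U'.ι ≫ f) u' = e := by
    intro u'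
    apply le_antisymm
    · have h1 := (FibCohH8.fibreDimAt_comp g' (𝔸(ULift.{u} (Fin e); Y) ↘ Y) u').1
      have h2 : FlatMor.fibreDimAt (g' ≫ (𝔸(ULift.{u} (Fin e); Y) ↘ Y)) u' =
          FlatMor.fibreDimAt (U'.ι ≫ f) u' := by rw [hg']
      rw [h2, FibCohH8.fibreDimAt_eq_zero_of_lqf g' u', fibreDimAt_affineSpace, zero_add] at h1
      exact h1
    · obtain ⟨ζ', hζ'cl, hζ'max⟩ := exists_generic_of_mem_irreducibleComponents
        (T := (U' : Scheme.{u}))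
        (irreducibleComponent u') (irreducibleComponent_mem_irreducibleComponents u')
      have hsp' : ζ' ⤳ u' := by
        rw [specializes_iff_mem_closure, hζ'cl]
        exact mem_irreducibleComponent
      exact Groth.Agent.Lib.AffDimH8.fibreDimAt_le_of_specializes (U'.ι ≫ f) e ζ' u' hsp'
        (le_of_eq (hmaxdim ζ' hζ'max).symm)
  refine ⟨e, U', hxU', ?_, ?_⟩
  · intro Z hZ
    have hZ' : @Membership.mem (Set (U' : Scheme.{u})) (Set (Set (U' : Scheme.{u}))) _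
        (irreducibleComponents (U' : Scheme.{u})) Z := hZ
    obtain ⟨ζ', hζ'Z, hζ'max⟩ := exists_generic_of_mem_irreducibleComponents
      (T := (U' : Scheme.{u})) Z hZ'
    refine ⟨closure {(U'.ι ≫ f) ζ'}, ?_, ?_, ?_⟩
    · exact (Groth.Agent.SchFTH8.closure_mem_irreducibleComponents_iff _).mpr (hmaxY ζ' hζ'max)
    · have h1 : U'.ι ζ' ⤳ x := hsp _ ζ'.2 ((isMax_ι_iff U' ζ').mp hζ'max)
      have h2 : (U'.ι ≫ f) ζ' ⤳ f x := h1.map f.continuous
      exact h2.mem_closure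
    · rw [← hζ'Z]
      exact Groth.Agent.Lib.AffDimH8.closure_image_closure_singleton _ (U'.ι ≫ f).continuous ζ'
  · intro x' C hC
    obtain ⟨t, ht⟩ := topDim_component_fiber (U'.ι ≫ f) ((U'.ι ≫ f) x') C hC
    rw [ht]
    exact hall _

end Groth.Agent.Lib.EquidimAtH8
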