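import Mathlib
import Groth.Agent.Lib.CMMor10_helper8
import Groth.Agent.Lib.EquidimAt3_helper8
import Groth.Agent.Lib.OpenAtEq_helper8
import Groth.Agent.Lib.ProdDim_helper8

set_option autoImplicit false
universe u

namespace Groth.Agent.Lib.CMMorH8

open AlgebraicGeometry CategoryTheory Limits TopologicalSpace Topology
open Groth.Agent.Lib.EquidimAtH8

set_option maxHeartbeats 1600000 in
/-- S2595: a morphism is equidimensional at its Cohen–Macaulay points (locally Noetherian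
target). -/
theorem isEquidimAt_of_isCMAt {X Y : Scheme.{u}} [IsLocallyNoetherian Y] (f : X ⟶ Y)
    [LocallyOfFiniteType f] (x : X) (hx : MoreMor.IsCMAt f x) : EGA43.IsEquidimAt f x := by
  haveI : IsLocallyNoetherian X := LocallyOfFiniteType.isLocallyNoetherian f
  haveI : LocallyOfFinitePresentation f := inferInstance
  -- the Cohen–Macaulay locus
  let U₁ : X.Opens := ⟨{u : X | MoreMor.IsCMAt f u}, isOpen_isCMAt f⟩
  have hxU₁ : x ∈ U₁ := hx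
  have hcm₁ : ∀ u : (U₁ : Scheme.{u}), MoreMor.IsCMAt (U₁.ι ≫ f) u :=
    fun u => (isCMAt_ι_comp_iff f U₁ u).mpr u.2
  obtain ⟨e, he⟩ := EquidimIrrH8.exists_nat_fibreDimAt f x
  obtain ⟨W, hWo, hxW, hW⟩ := (IsLocallyConstant.iff_exists_open _).mp
    (isLocallyConstant_fibreDimAt (U₁.ι ≫ f) hcm₁) (⟨x, hxU₁⟩ : (U₁ : Scheme.{u}))
  let U₂ : X.Opens := U₁.ι ''ᵁ ⟨W, hWo⟩
  have hxU₂ : x ∈ U₂ := ⟨⟨x, hxU₁⟩, hxW, rfl⟩
  have hU₂U₁ : U₂ ≤ U₁ := Scheme.Opens.ι_image_le U₁ _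
  have hdim₂ : ∀ u : X, u ∈ U₂ → FlatMor.fibreDimAt f u = e := by
    rintro _ ⟨w, hw, rfl⟩
    have h1 := hW w hw
    rw [OpenAtEqH8.fibreDimAt_restrict f U₁ w,
      OpenAtEqH8.fibreDimAt_restrict f U₁ (⟨x, hxU₁⟩ : (U₁ : Scheme.{u}))] at h1
    exact h1.trans he
  obtain ⟨U₃, hU₃U₂, hxU₃, hsp⟩ := exists_opens_maximal_specializes U₂ x hxU₂
  haveI : Flat (U₃.ι ≫ f) := by
    apply Flat.of_stalkMap
    intro u
    rw [Scheme.Hom.stalkMap_comp]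
    exact RingHom.Flat.comp (hU₂U₁ (hU₃U₂ u.2) : MoreMor.IsCMAt f u.1).1 (Flat.stalkMap U₃.ι u)
  have hgen : GeneralizingMap (U₃.ι ≫ f).base := Flat.generalizingMap (U₃.ι ≫ f)
  refine OpenAtEqH8.isEquidimAt_of_fibreDimAt_const f x e U₃ hxU₃ ?_
    (fun u hu => hdim₂ u (hU₃U₂ hu))
  intro Z hZ
  haveI : QuasiSober ↥U₃ := U₃.2.isOpenEmbedding_subtypeVal.quasiSober
  obtain ⟨ζ, hζZ, hζmax⟩ := exists_generic_of_mem_irreducibleComponents Z hZ
  have hmaxY := ProdDimH8.isMax_map_of_generalizing (U₃.ι ≫ f).base hgen ζ hζmax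
  refine ⟨closure {(U₃.ι ≫ f).base ζ},
    (Groth.Agent.SchFTH8.closure_mem_irreducibleComponents_iff _).mpr hmaxY, ?_, ?_⟩
  · have h1 : ∀ z : X, z ⤳ U₃.ι ζ → z = U₃.ι ζ := (isMax_ι_iff U₃ ζ).mp hζmax
    have h2 : U₃.ι ζ ⤳ x := hsp _ ζ.2 h1
    have h3 := h2.map f.continuous
    exact specializes_iff_mem_closure.mp h3
  · rw [← hζZ]
    exact Groth.Agent.Lib.AffDimH8.closure_image_closure_singleton _
      (U₃.ι ≫ f).continuous ζ

end Groth.Agent.Lib.CMMorH8
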