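import Mathlib
import Groth.Prelude

set_option autoImplicit false
set_option linter.style.haveILetI false
set_option linter.unusedVariables false

universe u

open MvPolynomial W4c5m1nsnscurves

namespace Groth.Agent.Lib.CMon3H4

/-- colexicographic monomial order on two variables: `X 1` is the most significant variable -/
noncomputable def mo : MonomialOrder (Fin 2) where
  syn := Colex (Fin 2 →₀ ℕ)
  toSyn := { toEquiv := toColex, map_add' := toColex_add }
  toSyn_monotone := Finsupp.toColex_monotone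

noncomputable def e (i j : ℕ) : Fin 2 →₀ ℕ := Finsupp.single 0 i + Finsupp.single 1 j

theorem e_zero (i j : ℕ) : e i j 0 = i := by simp [e]

theorem e_one (i j : ℕ) : e i j 1 = j := by simp [e]

theorem eq_e (s : Fin 2 →₀ ℕ) : s = e (s 0) (s 1) := by
  ext k
  fin_cases k
  · exact (e_zero _ _).symm
  · exact (e_one _ _).symm

theorem lt_of_one_lt (s t : Fin 2 →₀ ℕ) (h : s 1 < t 1) : mo.toSyn s < mo.toSyn t := by
  show toColex s < toColex t
  show Finsupp.Lex (· > ·) (· < ·) (ofColex (toColex s)) (ofColex (toColex t))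
  exact Finsupp.lex_def.mpr ⟨1, fun j hj => absurd hj (not_lt.mpr (Fin.le_last j)), h⟩

theorem e_le (s : Fin 2 →₀ ℕ) (h : 1 ≤ s 0 ∧ 2 ≤ s 1) : e 1 2 ≤ s := by
  refine Finsupp.le_def.mpr fun k => ?_
  fin_cases k
  · show e 1 2 0 ≤ s 0
    rw [e_zero]; exact h.1
  · show e 1 2 1 ≤ s 1
    rw [e_one]; exact h.2

/-- exponent of the basis monomials -/
noncomputable def E : Option (ℕ ⊕ (Fin 2 × ℕ)) → (Fin 2 →₀ ℕ)
  | none => 0
  | some (Sum.inl k) => e (k + 1) 1
  | some (Sum.inr (y, k)) => Finsupp.single y (k + 1)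

theorem notBad : ∀ i, ¬ (1 ≤ E i 0 ∧ 2 ≤ E i 1)
  | none => by simp [E]
  | some (Sum.inl k) => by
      show ¬ (1 ≤ e (k + 1) 1 0 ∧ 2 ≤ e (k + 1) 1 1)
      rw [e_one]
      omega
  | some (Sum.inr (y, k)) => by
      fin_cases y <;> simp [E]

noncomputable def dec (s : Fin 2 →₀ ℕ) : Option (ℕ ⊕ (Fin 2 × ℕ)) :=
  if s 0 = 0 then (if s 1 = 0 then none else some (Sum.inr (1, s 1 - 1)))
  else (if s 1 = 0 then some (Sum.inr (0, s 0 - 1)) else some (Sum.inl (s 0 - 1)))

theorem dec_E : ∀ i, dec (E i) = i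
  | none => by simp [dec, E]
  | some (Sum.inl k) => by simp [dec, E, e]
  | some (Sum.inr (y, k)) => by
      fin_cases y <;> simp [dec, E]

theorem E_inj : Function.Injective E := Function.LeftInverse.injective (g := dec) dec_E

variable (R : Type u) [CommRing R]

theorem xy_eq (i j : ℕ) :
    (X 0 : MvPolynomial (Fin 2) R) ^ i * X 1 ^ j = monomial (e i j) 1 := by
  rw [X_pow_eq_monomial, X_pow_eq_monomial, monomial_mul, one_mul]
  rfl

theorem mon_eq (i j : ℕ) (r : R) :
    monomial (e i j) r = C r * (X 0 : MvPolynomial (Fin 2) R) ^ i * X 1 ^ j := by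
  rw [mul_assoc, xy_eq, C_mul_monomial, mul_one]

variable (a b c d : R)

/-- the defining polynomial -/
noncomputable abbrev F : MvPolynomial (Fin 2) R :=
  X 0 * X 1 ^ 2 - X 0 ^ 2 * X 1 - (C a * X 0 * X 1 + C b * X 0 + C c * X 1 + C d)

noncomputable def G : MvPolynomial (Fin 2) R :=
  monomial (e 2 1) (-1) + (monomial (e 1 1) (-a) + (monomial (e 1 0) (-b) +
    (monomial (e 0 1) (-c) + monomial (e 0 0) (-d))))

theorem F_eq : F R a b c d = monomial (e 1 2) 1 + G R a b c d := by
  unfold F G
  simp only [mon_eq, map_neg, map_one, pow_one, pow_zero, mul_one, one_mul]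
  ring

theorem deg_mon_lt (s : Fin 2 →₀ ℕ) (r : R) (h : s 1 < 2) :
    mo.toSyn (mo.degree (monomial s r)) < mo.toSyn (e 1 2) :=
  lt_of_le_of_lt (MonomialOrder.degree_monomial_le r)
    (lt_of_one_lt s (e 1 2) (by rw [e_one]; exact h))

theorem deg_add_lt (p q : MvPolynomial (Fin 2) R)
    (hp : mo.toSyn (mo.degree p) < mo.toSyn (e 1 2))
    (hq : mo.toSyn (mo.degree q) < mo.toSyn (e 1 2)) :
    mo.toSyn (mo.degree (p + q)) < mo.toSyn (e 1 2) :=
  lt_of_le_of_lt MonomialOrder.degree_add_le (sup_lt_iff.mpr ⟨hp, hq⟩)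

theorem deg_G_lt : mo.toSyn (mo.degree (G R a b c d)) < mo.toSyn (e 1 2) := by
  unfold G
  refine deg_add_lt R _ _ (deg_mon_lt R _ _ ?_) (deg_add_lt R _ _ (deg_mon_lt R _ _ ?_)
    (deg_add_lt R _ _ (deg_mon_lt R _ _ ?_) (deg_add_lt R _ _ (deg_mon_lt R _ _ ?_)
      (deg_mon_lt R _ _ ?_))))
  all_goals (rw [e_one]; norm_num)

theorem degree_monE [Nontrivial R] : mo.degree (monomial (e 1 2) (1 : R)) = e 1 2 := by
  classical
  rw [MonomialOrder.degree_monomial, if_neg one_ne_zero]

theorem degree_F [Nontrivial R] : mo.degree (F R a b c d) = e 1 2 := by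
  rw [F_eq]
  refine (MonomialOrder.degree_add_of_lt ?_).trans (degree_monE R)
  rw [degree_monE R]
  exact deg_G_lt R a b c d

theorem leadingCoeff_F [Nontrivial R] : mo.leadingCoeff (F R a b c d) = 1 := by
  rw [F_eq, MonomialOrder.leadingCoeff_add_of_lt (by rw [degree_monE R]; exact deg_G_lt R a b c d),
    MonomialOrder.leadingCoeff_monomial]

/-- polynomials supported on standard monomials -/
noncomputable def Std : Submodule R (MvPolynomial (Fin 2) R) where
  carrier := {p | ∀ s : Fin 2 →₀ ℕ, (1 ≤ s 0 ∧ 2 ≤ s 1) → coeff s p = 0}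
  add_mem' := fun {p q} hp hq s hs => by rw [coeff_add, hp s hs, hq s hs, add_zero]
  zero_mem' := fun s hs => coeff_zero s
  smul_mem' := fun r {p} hp s hs => by rw [coeff_smul, hp s hs, smul_zero]

theorem mem_Std (p : MvPolynomial (Fin 2) R) :
    p ∈ Std R ↔ ∀ s : Fin 2 →₀ ℕ, (1 ≤ s 0 ∧ 2 ≤ s 1) → coeff s p = 0 := Iff.rfl

theorem gen_mem (i : Option (ℕ ⊕ (Fin 2 × ℕ))) : monomial (E i) (1 : R) ∈ Std R := by
  classical
  rw [mem_Std]
  intro s hs
  rw [MvPolynomial.coeff_monomial, if_neg]
  intro h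
  apply notBad i
  rw [h]
  exact hs

theorem key_disj [Nontrivial R] (p : MvPolynomial (Fin 2) R) (hp : p ∈ Std R)
    (hI : p ∈ Ideal.span {F R a b c d}) : p = 0 := by
  obtain ⟨q, hq⟩ := Ideal.mem_span_singleton'.mp hI
  by_contra hp0
  have hq0 : q ≠ 0 := by
    rintro rfl
    rw [zero_mul] at hq
    exact hp0 hq.symm
  have hreg : IsRegular (mo.leadingCoeff (F R a b c d)) := by
    rw [leadingCoeff_F]; exact isRegular_one
  have hd : mo.degree p = mo.degree q + e 1 2 := by
    rw [← hq, MonomialOrder.degree_mul_of_isRegular_right hq0 hreg, degree_F]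
  have hmem : mo.degree p ∈ p.support := mo.degree_mem_support hp0
  have hbad : 1 ≤ (mo.degree p) 0 ∧ 2 ≤ (mo.degree p) 1 := by
    rw [hd]
    constructor
    · rw [Finsupp.add_apply, e_zero]; exact Nat.le_add_left _ _
    · rw [Finsupp.add_apply, e_one]; exact Nat.le_add_left _ _
  exact (MvPolynomial.mem_support_iff.mp hmem) ((mem_Std R p).mp hp _ hbad)

theorem cmon3_eq : ∀ i, cmon3 R a b c d i =
    Ideal.Quotient.mk (Ideal.span {F R a b c d}) (monomial (E i) (1 : R))
  | none => by
      show (1 : CurveAlg3 R a b c d) = _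
      rw [show E none = e 0 0 by simp [E, e], ← xy_eq, pow_zero, pow_zero, mul_one, map_one]
  | some (Sum.inl k) => by
      show Ideal.Quotient.mk _ (X 0 ^ (k + 1) * X 1) = _
      rw [show E (some (Sum.inl k)) = e (k + 1) 1 from rfl, ← xy_eq, pow_one]
  | some (Sum.inr (y, k)) => by
      show Ideal.Quotient.mk (Ideal.span {F R a b c d}) (X y ^ (k + 1)) =
        Ideal.Quotient.mk (Ideal.span {F R a b c d}) (monomial (Finsupp.single y (k + 1)) (1 : R))
      exact congrArg _ X_pow_eq_monomial

theorem std_mem_range (s : Fin 2 →₀ ℕ) (hs : ¬ (1 ≤ s 0 ∧ 2 ≤ s 1)) :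
    Ideal.Quotient.mk (Ideal.span {F R a b c d}) (monomial s (1 : R)) ∈
      Set.range (cmon3 R a b c d) := by
  obtain ⟨i, j, rfl⟩ : ∃ i j, s = e i j := ⟨s 0, s 1, eq_e s⟩
  rw [e_zero, e_one] at hs
  rcases i with _ | i
  · rcases j with _ | j
    · refine ⟨none, ?_⟩
      show (1 : CurveAlg3 R a b c d) = _
      rw [← xy_eq, pow_zero, pow_zero, mul_one, map_one]
    · refine ⟨some (Sum.inr (1, j)), ?_⟩
      show Ideal.Quotient.mk _ (X 1 ^ (j + 1)) = _
      rw [← xy_eq, pow_zero, one_mul]
  · rcases j with _ | j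
    · refine ⟨some (Sum.inr (0, i)), ?_⟩
      show Ideal.Quotient.mk _ (X 0 ^ (i + 1)) = _
      rw [← xy_eq, pow_zero, mul_one]
    · rcases j with _ | j
      · refine ⟨some (Sum.inl i), ?_⟩
        show Ideal.Quotient.mk _ (X 0 ^ (i + 1) * X 1) = _
        rw [← xy_eq, zero_add, pow_one]
      · exact absurd ⟨by omega, by omega⟩ hs

/-- the quotient map as a linear map -/
noncomputable def π : MvPolynomial (Fin 2) R →ₗ[R] CurveAlg3 R a b c d :=
  (Ideal.Quotient.mkₐ R (Ideal.span {F R a b c d})).toLinearMap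

theorem π_apply (p : MvPolynomial (Fin 2) R) :
    π R a b c d p = Ideal.Quotient.mk (Ideal.span {F R a b c d}) p := rfl

theorem main : LinearIndependent R (cmon3 R a b c d) ∧
    Submodule.span R (Set.range (cmon3 R a b c d)) = ⊤ := by
  rcases subsingleton_or_nontrivial R with hR | hR
  · haveI : Subsingleton (CurveAlg3 R a b c d) := Module.subsingleton R _
    refine ⟨linearIndependent_of_subsingleton, eq_top_iff.mpr fun x _ => ?_⟩
    rw [Subsingleton.elim x 0]
    exact Submodule.zero_mem _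
  · constructor
    · have hv : LinearIndependent R (fun i => monomial (E i) (1 : R)) := by
        have h0 := (MvPolynomial.basisMonomials (Fin 2) R).linearIndependent.comp E E_inj
        rw [MvPolynomial.coe_basisMonomials] at h0
        exact h0
      have hdisj : Disjoint (Submodule.span R (Set.range fun i => monomial (E i) (1 : R)))
          (LinearMap.ker (π R a b c d)) := by
        rw [Submodule.disjoint_def]
        intro p hp1 hp2
        have hpStd : p ∈ Std R :=
          (Submodule.span_le.mpr (by rintro _ ⟨i, rfl⟩; exact gen_mem R i)) hp1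
        have hp3 : Ideal.Quotient.mk (Ideal.span {F R a b c d}) p = 0 := LinearMap.mem_ker.mp hp2
        exact key_disj R a b c d p hpStd (Ideal.Quotient.eq_zero_iff_mem.mp hp3)
      have h2 := hv.map hdisj
      have h3 : (π R a b c d ∘ fun i => monomial (E i) (1 : R)) = cmon3 R a b c d :=
        funext fun i => (cmon3_eq R a b c d i).symm
      rw [h3] at h2
      exact h2
    · rw [eq_top_iff]
      intro x _
      obtain ⟨p, rfl⟩ := Ideal.Quotient.mk_surjective x
      have hunit : IsUnit (mo.leadingCoeff (F R a b c d)) := by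
        rw [leadingCoeff_F]; exact isUnit_one
      obtain ⟨g, r, hgr, -, hr⟩ := mo.div_single hunit p
      have hF0 : Ideal.Quotient.mk (Ideal.span {F R a b c d}) (F R a b c d) = 0 :=
        Ideal.Quotient.eq_zero_iff_mem.mpr (Ideal.subset_span rfl)
      have h1 : Ideal.Quotient.mk (Ideal.span {F R a b c d}) p = π R a b c d r := by
        rw [π_apply, hgr, map_add, map_mul, hF0, mul_zero, zero_add]
      have hsum : π R a b c d r =
          ∑ s ∈ r.support, coeff s r • π R a b c d (monomial s (1 : R)) := by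
        conv_lhs => rw [MvPolynomial.as_sum r]
        rw [map_sum]
        refine Finset.sum_congr rfl fun s _ => ?_
        have hm : monomial s (coeff s r) = coeff s r • monomial s (1 : R) := by
          rw [MvPolynomial.smul_monomial, smul_eq_mul, mul_one]
        rw [hm, (π R a b c d).map_smul]
      rw [h1, hsum]
      refine Submodule.sum_mem _ fun s hs => Submodule.smul_mem _ _ (Submodule.subset_span ?_)
      refine std_mem_range R a b c d s (fun hbad => hr s hs ?_)
      rw [degree_F]
      exact e_le s hbad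

end Groth.Agent.Lib.CMon3H4
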