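import Mathlib
import Groth.Prelude.Def_ArtFun5
import Groth.Agent.Lib.ArtFun_helper1
import Groth.Agent.Lib.ArtFunInd_helper1
import Groth.Agent.Lib.ArtFunHull_helper1
import Groth.Agent.Lib.ArtFunFormal_helper1
import Groth.Agent.S12734
import Groth.Agent.S12726
import Groth.Agent.S12736

/-!
# Pushouts and coproducts of complete local Noetherian `Λ`-algebras with residue field `k` (helper1)

The pushout of `S₁ ← R₀ → S₂` is the ring pro-representing the functor of pairs of maps agreeing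
on `R₀`; this functor is left exact with finite-dimensional tangent space, so Schlessinger's
criterion applies.  APPEND-ONLY once landed.
-/

set_option autoImplicit false
universe u

open CategoryTheory

namespace Groth.Agent.Lib.CRingColimH1

open ArtFun ArtFun.Art Groth.Agent.Lib.ArtFunH1 Groth.Agent.Lib.SchlH1

variable {Λ : Type u} {k : Type u} [CommRing Λ] [Field k] [Algebra Λ k]

section General

theorem algHom_ext_trunc (T : CRing Λ k) {X : Type*} [CommRing X] [Algebra Λ X]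
    {g g' : X →ₐ[Λ] T.carrier}
    (h : ∀ n, (T.truncHom n).1.comp g = (T.truncHom n).1.comp g') : g = g' := by
  apply AlgHom.ext
  intro x
  rw [← sub_eq_zero]
  apply eq_zero_of_forall_mem_mpow
  intro n
  have e := AlgHom.congr_fun (h n) x
  rw [← Ideal.Quotient.eq]
  exact e

theorem heps_of_leftExact {F : Art Λ k ⥤ Type u} (h : IsLeftExact F) : Heps F :=
  fun _ _ p' p'' hsq => h p' p'' _ _ hsq

variable (S : CRing Λ k)

theorem hR_prorep : IsProrepresentable (hR S.carrier S.res) :=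
  ⟨⟨S, Family.self S.carrier S.res, fun _ => Function.bijective_id⟩⟩

theorem hR_leftExact : IsLeftExact (hR S.carrier S.res) :=
  isLeftExact_of_isUniversal (Family.self S.carrier S.res) (fun _ => Function.bijective_id)

theorem hR_h0 : H0 (hR S.carrier S.res) :=
  h0_of_surjective (Family.self S.carrier S.res) (fun x => ⟨x, rfl⟩)

end General

section PushF

variable (S₁ S₂ : CRing Λ k) {R₀ : Type u} [CommRing R₀] [Algebra Λ R₀]
  (f₁ : R₀ →ₐ[Λ] S₁.carrier) (f₂ : R₀ →ₐ[Λ] S₂.carrier)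

/-- pairs of maps agreeing on `R₀` -/
def PObj (A : Art Λ k) : Type u :=
  {x : HomSet S₁.carrier S₁.res A × HomSet S₂.carrier S₂.res A // x.1.1.comp f₁ = x.2.1.comp f₂}

variable {S₁ S₂ f₁ f₂} in
def PObj.map {A B : Art Λ k} (g : A ⟶ B) (x : PObj S₁ S₂ f₁ f₂ A) : PObj S₁ S₂ f₁ f₂ B :=
  ⟨(HomSet.map g x.1.1, HomSet.map g x.1.2), by
    show (g.toAlgHom.comp x.1.1.1).comp f₁ = (g.toAlgHom.comp x.1.2.1).comp f₂
    rw [AlgHom.comp_assoc, AlgHom.comp_assoc, x.2]⟩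

variable {S₁ S₂ f₁ f₂} in
def PObj.mk' {A : Art Λ k} (a₁ : S₁.carrier →ₐ[Λ] A) (a₂ : S₂.carrier →ₐ[Λ] A)
    (h₁ : A.res.comp a₁ = S₁.res) (h₂ : A.res.comp a₂ = S₂.res)
    (h : a₁.comp f₁ = a₂.comp f₂) : PObj S₁ S₂ f₁ f₂ A :=
  ⟨(⟨a₁, h₁⟩, ⟨a₂, h₂⟩), h⟩

variable {S₁ S₂ f₁ f₂} in
theorem PObj.map_id {A : Art Λ k} (x : PObj S₁ S₂ f₁ f₂ A) : PObj.map (𝟙 A) x = x := by
  apply Subtype.ext
  apply Prod.ext
  · exact hmap_id x.1.1
  · exact hmap_id x.1.2

variable {S₁ S₂ f₁ f₂} in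
theorem PObj.map_comp {A B C : Art Λ k} (f : A ⟶ B) (g : B ⟶ C) (x : PObj S₁ S₂ f₁ f₂ A) :
    PObj.map (f ≫ g) x = PObj.map g (PObj.map f x) := by
  apply Subtype.ext
  apply Prod.ext
  · exact hmap_comp f g x.1.1
  · exact hmap_comp f g x.1.2

/-- the functor of pairs of maps agreeing on `R₀` -/
def pushF : Art Λ k ⥤ Type u where
  obj A := PObj S₁ S₂ f₁ f₂ A
  map {A B} g := ↾fun (x : PObj S₁ S₂ f₁ f₂ A) => (PObj.map g x : PObj S₁ S₂ f₁ f₂ B)
  map_id A := ConcreteCategory.hom_ext _ _ fun x => PObj.map_id x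
  map_comp f g := ConcreteCategory.hom_ext _ _ fun x => PObj.map_comp f g x

theorem pushF_map {A B : Art Λ k} (g : A ⟶ B) (x : PObj S₁ S₂ f₁ f₂ A) :
    (pushF S₁ S₂ f₁ f₂).map g x = PObj.map g x := rfl

/-- first projection -/
def pushFst : pushF S₁ S₂ f₁ f₂ ⟶ hR S₁.carrier S₁.res where
  app A := ↾fun (x : PObj S₁ S₂ f₁ f₂ A) => (x.1.1 : HomSet S₁.carrier S₁.res A)
  naturality A B g := ConcreteCategory.hom_ext _ _ fun _ => rfl

/-- second projection -/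
def pushSnd : pushF S₁ S₂ f₁ f₂ ⟶ hR S₂.carrier S₂.res where
  app A := ↾fun (x : PObj S₁ S₂ f₁ f₂ A) => (x.1.2 : HomSet S₂.carrier S₂.res A)
  naturality A B g := ConcreteCategory.hom_ext _ _ fun _ => rfl

theorem pushF_h0 (hres : S₁.res.comp f₁ = S₂.res.comp f₂) : H0 (pushF S₁ S₂ f₁ f₂) := by
  constructor
  · exact ⟨(⟨(⟨S₁.res, AlgHom.id_comp _⟩, ⟨S₂.res, AlgHom.id_comp _⟩), hres⟩ :
      PObj S₁ S₂ f₁ f₂ (base Λ k))⟩
  · constructor
    intro (x : PObj S₁ S₂ f₁ f₂ (base Λ k)) (y : PObj S₁ S₂ f₁ f₂ (base Λ k))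
    apply Subtype.ext
    apply Prod.ext
    · exact homSet_base_eq x.1.1 y.1.1
    · exact homSet_base_eq x.1.2 y.1.2

theorem pushF_leftExact : IsLeftExact (pushF S₁ S₂ f₁ f₂) := by
  intro B A A' A'' p' p'' f' f'' h
  constructor
  · rw [cmp_injective_iff]
    intro (z : PObj S₁ S₂ f₁ f₂ B) (w : PObj S₁ S₂ f₁ f₂ B) h1 h2
    have e1 : HomSet.map p' z.1.1 = HomSet.map p' w.1.1 :=
      congrArg (fun t : PObj S₁ S₂ f₁ f₂ A' => t.1.1) h1
    have e2 : HomSet.map p'' z.1.1 = HomSet.map p'' w.1.1 :=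
      congrArg (fun t : PObj S₁ S₂ f₁ f₂ A'' => t.1.1) h2
    have e3 : HomSet.map p' z.1.2 = HomSet.map p' w.1.2 :=
      congrArg (fun t : PObj S₁ S₂ f₁ f₂ A' => t.1.2) h1
    have e4 : HomSet.map p'' z.1.2 = HomSet.map p'' w.1.2 :=
      congrArg (fun t : PObj S₁ S₂ f₁ f₂ A'' => t.1.2) h2
    exact Subtype.ext (Prod.ext (HomSet.ext_fibreProd h _ _ e1 e2)
      (HomSet.ext_fibreProd h _ _ e3 e4))
  · rw [cmp_surjective_iff]
    intro (x' : PObj S₁ S₂ f₁ f₂ A') (x'' : PObj S₁ S₂ f₁ f₂ A'') hx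
    have e1 : HomSet.map f' x'.1.1 = HomSet.map f'' x''.1.1 :=
      congrArg (fun t : PObj S₁ S₂ f₁ f₂ A => t.1.1) hx
    have e2 : HomSet.map f' x'.1.2 = HomSet.map f'' x''.1.2 :=
      congrArg (fun t : PObj S₁ S₂ f₁ f₂ A => t.1.2) hx
    obtain ⟨ψ₁, a1, a2⟩ := HomSet.exists_lift_fibreProd h x'.1.1 x''.1.1 e1
    obtain ⟨ψ₂, b1, b2⟩ := HomSet.exists_lift_fibreProd h x'.1.2 x''.1.2 e2
    have hψ : ψ₁.1.comp f₁ = ψ₂.1.comp f₂ := by
      apply AlgHom.ext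
      intro r
      apply h.inj
      · have c1 : p' (ψ₁.1 (f₁ r)) = x'.1.1.1 (f₁ r) :=
          congrArg (fun t : HomSet S₁.carrier S₁.res A' => t.1 (f₁ r)) a1
        have c2 : p' (ψ₂.1 (f₂ r)) = x'.1.2.1 (f₂ r) :=
          congrArg (fun t : HomSet S₂.carrier S₂.res A' => t.1 (f₂ r)) b1
        show p' (ψ₁.1 (f₁ r)) = p' (ψ₂.1 (f₂ r))
        rw [c1, c2]
        exact AlgHom.congr_fun x'.2 r
      · have c1 : p'' (ψ₁.1 (f₁ r)) = x''.1.1.1 (f₁ r) :=
          congrArg (fun t : HomSet S₁.carrier S₁.res A'' => t.1 (f₁ r)) a2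
        have c2 : p'' (ψ₂.1 (f₂ r)) = x''.1.2.1 (f₂ r) :=
          congrArg (fun t : HomSet S₂.carrier S₂.res A'' => t.1 (f₂ r)) b2
        show p'' (ψ₁.1 (f₁ r)) = p'' (ψ₂.1 (f₂ r))
        rw [c1, c2]
        exact AlgHom.congr_fun x''.2 r
    refine ⟨(⟨(ψ₁, ψ₂), hψ⟩ : PObj S₁ S₂ f₁ f₂ B), ?_, ?_⟩
    · exact Subtype.ext (Prod.ext a1 b1)
    · exact Subtype.ext (Prod.ext a2 b2)

theorem pushF_c (x₀ : PObj S₁ S₂ f₁ f₂ (base Λ k)) :
    Function.Injective (fun σ : base Λ k ⟶ dual Λ k => (pushF S₁ S₂ f₁ f₂).map σ x₀) := by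
  intro σ σ' hσ
  have e : HomSet.map σ x₀.1.1 = HomSet.map σ' x₀.1.1 :=
    congrArg (fun t : PObj S₁ S₂ f₁ f₂ (dual Λ k) => t.1.1) hσ
  apply Art.hom_ext
  apply AlgHom.ext
  intro c
  obtain ⟨s, hs⟩ := S₁.res_surjective c
  have h1 : x₀.1.1.1 s = c := (AlgHom.congr_fun x₀.1.1.2 s).trans hs
  have h2 : σ (x₀.1.1.1 s) = σ' (x₀.1.1.1 s) :=
    congrArg (fun t : HomSet S₁.carrier S₁.res (dual Λ k) => t.1 s) e
  rw [← h1]
  exact h2

variable [IsNoetherianRing Λ] [Module.Finite Λ k]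

theorem exists_pushout (hres : S₁.res.comp f₁ = S₂.res.comp f₂) :
    ∃ (P : CRing Λ k) (i₁ : S₁.carrier →ₐ[Λ] P.carrier) (i₂ : S₂.carrier →ₐ[Λ] P.carrier),
      P.res.comp i₁ = S₁.res ∧ P.res.comp i₂ = S₂.res ∧ i₁.comp f₁ = i₂.comp f₂ ∧
      ∀ (T : CRing Λ k) (g₁ : S₁.carrier →ₐ[Λ] T.carrier) (g₂ : S₂.carrier →ₐ[Λ] T.carrier),
        T.res.comp g₁ = S₁.res → T.res.comp g₂ = S₂.res → g₁.comp f₁ = g₂.comp f₂ →
          ∃! h : P.carrier →ₐ[Λ] T.carrier,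
            T.res.comp h = P.res ∧ h.comp i₁ = g₁ ∧ h.comp i₂ = g₂ := by
  classical
  have h0 : H0 (pushF S₁ S₂ f₁ f₂) := pushF_h0 S₁ S₂ f₁ f₂ hres
  have hle : IsLeftExact (pushF S₁ S₂ f₁ f₂) := pushF_leftExact S₁ S₂ f₁ f₂
  obtain ⟨TF⟩ := Groth.Agent.S12726.result (pushF S₁ S₂ f₁ f₂) h0 (heps_of_leftExact hle)
  obtain ⟨T1⟩ := Groth.Agent.S12726.result (hR S₁.carrier S₁.res) (hR_h0 S₁)
    (heps_of_leftExact (hR_leftExact S₁))
  obtain ⟨T2⟩ := Groth.Agent.S12726.result (hR S₂.carrier S₂.res) (hR_h0 S₂)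
    (heps_of_leftExact (hR_leftExact S₂))
  letI := TF
  letI := T1
  letI := T2
  have hfin1 : Hfin (hR S₁.carrier S₁.res) :=
    ((Groth.Agent.S12734.result (hR S₁.carrier S₁.res)).1 (hR_prorep S₁)).2.1
  have hfin2 : Hfin (hR S₂.carrier S₂.res) :=
    ((Groth.Agent.S12734.result (hR S₂.carrier S₂.res)).1 (hR_prorep S₂)).2.1
  obtain ⟨L1, hL1⟩ := Groth.Agent.S12736.result h0 (heps_of_leftExact hle) (hR_h0 S₁)
    (heps_of_leftExact (hR_leftExact S₁)) (pushFst S₁ S₂ f₁ f₂)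
  obtain ⟨L2, hL2⟩ := Groth.Agent.S12736.result h0 (heps_of_leftExact hle) (hR_h0 S₂)
    (heps_of_leftExact (hR_leftExact S₂)) (pushSnd S₁ S₂ f₁ f₂)
  have hfin : Hfin (pushF S₁ S₂ f₁ f₂) := by
    haveI : Module.Finite k (TangentSpace (hR S₁.carrier S₁.res)) := hfin1
    haveI : Module.Finite k (TangentSpace (hR S₂.carrier S₂.res)) := hfin2
    have hinj : Function.Injective (L1.prod L2) := by
      intro x y hxy
      have e1 : L1 x = L1 y := congrArg Prod.fst hxy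
      have e2 : L2 x = L2 y := congrArg Prod.snd hxy
      rw [hL1] at e1
      rw [hL2] at e2
      have e1' : (show PObj S₁ S₂ f₁ f₂ (dual Λ k) from x).1.1 =
          (show PObj S₁ S₂ f₁ f₂ (dual Λ k) from y).1.1 := e1
      have e2' : (show PObj S₁ S₂ f₁ f₂ (dual Λ k) from x).1.2 =
          (show PObj S₁ S₂ f₁ f₂ (dual Λ k) from y).1.2 := e2
      exact Subtype.ext (Prod.ext e1' e2')
    exact Module.Finite.of_injective (L1.prod L2) hinj
  obtain ⟨⟨P, ξ, hξ⟩⟩ := (Groth.Agent.S12734.result (pushF S₁ S₂ f₁ f₂)).2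
    ⟨⟨h0, fun _ _ _ _ p' p'' f' f'' h _ => hle p' p'' f' f'' h⟩, hfin,
      fun x₀ => pushF_c S₁ S₂ f₁ f₂ x₀⟩
  -- the elements over the truncations
  have hnat : ∀ n, PObj.map (P.truncMap n) (ξ.app _ (P.truncHom (n + 1))) =
      ξ.app _ (P.truncHom n) := by
    intro n
    have := ξ.natural (P.truncMap n) (P.truncHom (n + 1))
    rw [CRing.truncMap_truncHom] at this
    exact this.symm
  obtain ⟨i₁, hi₁res, hi₁⟩ := exists_algHom_of_compatible P
    (fun n => (show PObj S₁ S₂ f₁ f₂ (P.trunc n) from ξ.app _ (P.truncHom n)).1.1)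
    (fun n => congrArg (fun t : PObj S₁ S₂ f₁ f₂ (P.trunc n) => t.1.1) (hnat n))
  obtain ⟨i₂, hi₂res, hi₂⟩ := exists_algHom_of_compatible P
    (fun n => (show PObj S₁ S₂ f₁ f₂ (P.trunc n) from ξ.app _ (P.truncHom n)).1.2)
    (fun n => congrArg (fun t : PObj S₁ S₂ f₁ f₂ (P.trunc n) => t.1.2) (hnat n))
  have ei₁ : ∀ n, (P.truncHom n).1.comp i₁ =
      (show PObj S₁ S₂ f₁ f₂ (P.trunc n) from ξ.app _ (P.truncHom n)).1.1.1 :=
    fun n => congrArg Subtype.val (hi₁ n)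
  have ei₂ : ∀ n, (P.truncHom n).1.comp i₂ =
      (show PObj S₁ S₂ f₁ f₂ (P.trunc n) from ξ.app _ (P.truncHom n)).1.2.1 :=
    fun n => congrArg Subtype.val (hi₂ n)
  have hstar : ∀ (A : Art Λ k) (u : HomSet P.carrier P.res A),
      (show PObj S₁ S₂ f₁ f₂ A from ξ.app A u).1.1.1 = u.1.comp i₁ ∧
      (show PObj S₁ S₂ f₁ f₂ A from ξ.app A u).1.2.1 = u.1.comp i₂ := by
    intro A u
    obtain ⟨n, ubar, rfl⟩ := exists_factor_trunc P A u
    have hn := ξ.natural ubar (P.truncHom n)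
    constructor
    · have h1 : (show PObj S₁ S₂ f₁ f₂ A from
          ξ.app A (HomSet.map ubar (P.truncHom n))).1.1.1 =
          ubar.toAlgHom.comp
            (show PObj S₁ S₂ f₁ f₂ (P.trunc n) from ξ.app _ (P.truncHom n)).1.1.1 :=
        congrArg (fun t : PObj S₁ S₂ f₁ f₂ A => t.1.1.1) hn
      rw [h1, ← ei₁ n]
      rfl
    · have h1 : (show PObj S₁ S₂ f₁ f₂ A from
          ξ.app A (HomSet.map ubar (P.truncHom n))).1.2.1 =
          ubar.toAlgHom.comp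
            (show PObj S₁ S₂ f₁ f₂ (P.trunc n) from ξ.app _ (P.truncHom n)).1.2.1 :=
        congrArg (fun t : PObj S₁ S₂ f₁ f₂ A => t.1.2.1) hn
      rw [h1, ← ei₂ n]
      rfl
  refine ⟨P, i₁, i₂, hi₁res, hi₂res, ?_, ?_⟩
  · apply algHom_ext_trunc P
    intro n
    rw [← AlgHom.comp_assoc, ← AlgHom.comp_assoc, ei₁ n, ei₂ n]
    exact (show PObj S₁ S₂ f₁ f₂ (P.trunc n) from ξ.app _ (P.truncHom n)).2
  · intro T g₁ g₂ hg₁ hg₂ hg
    have hx : ∀ n, ∃ u : HomSet P.carrier P.res (T.trunc n), ξ.app _ u =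
        (PObj.mk' ((T.truncHom n).1.comp g₁) ((T.truncHom n).1.comp g₂)
          (by rw [← AlgHom.comp_assoc, (T.truncHom n).2, hg₁])
          (by rw [← AlgHom.comp_assoc, (T.truncHom n).2, hg₂])
          (by rw [AlgHom.comp_assoc, AlgHom.comp_assoc, hg]) : PObj S₁ S₂ f₁ f₂ (T.trunc n)) :=
      fun n => (hξ _).2 _
    choose u hu using hx
    have hucompat : ∀ n, HomSet.map (T.truncMap n) (u (n + 1)) = u n := by
      intro n
      apply (hξ _).1
      rw [ξ.natural, hu, hu]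
      apply Subtype.ext
      apply Prod.ext
      · apply Subtype.ext
        apply AlgHom.ext
        intro r
        rfl
      · apply Subtype.ext
        apply AlgHom.ext
        intro r
        rfl
    obtain ⟨h, hhres, hh⟩ := exists_algHom_of_compatible T u hucompat
    have eh : ∀ n, (T.truncHom n).1.comp h = (u n).1 := fun n => congrArg Subtype.val (hh n)
    refine ⟨h, ⟨hhres, ?_, ?_⟩, ?_⟩
    · apply algHom_ext_trunc T
      intro n
      rw [← AlgHom.comp_assoc, eh n, ← (hstar _ (u n)).1]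
      exact congrArg (fun t : PObj S₁ S₂ f₁ f₂ (T.trunc n) => t.1.1.1) (hu n)
    · apply algHom_ext_trunc T
      intro n
      rw [← AlgHom.comp_assoc, eh n, ← (hstar _ (u n)).2]
      exact congrArg (fun t : PObj S₁ S₂ f₁ f₂ (T.trunc n) => t.1.2.1) (hu n)
    · rintro h' ⟨h'res, h'1, h'2⟩
      apply algHom_ext_trunc T
      intro n
      rw [eh n]
      have hu' : (⟨(T.truncHom n).1.comp h', by
          rw [← AlgHom.comp_assoc, (T.truncHom n).2, h'res]⟩ :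
          HomSet P.carrier P.res (T.trunc n)) = u n := by
        apply (hξ _).1
        rw [hu]
        apply Subtype.ext
        apply Prod.ext
        · apply Subtype.ext
          refine ((hstar _ _).1).trans ?_
          show ((T.truncHom n).1.comp h').comp i₁ = (T.truncHom n).1.comp g₁
          rw [AlgHom.comp_assoc, h'1]
        · apply Subtype.ext
          refine ((hstar _ _).2).trans ?_
          show ((T.truncHom n).1.comp h').comp i₂ = (T.truncHom n).1.comp g₂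
          rw [AlgHom.comp_assoc, h'2]
      exact congrArg Subtype.val hu'

end PushF

end Groth.Agent.Lib.CRingColimH1
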