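import Mathlib
import Groth.Prelude.Def_ArtFun5
import Groth.Agent.Lib.CRingColim_helper1
import Groth.Agent.Lib.ArtFunMin_helper1
import Groth.Agent.Lib.ArtFunTan_helper1

/-!
# Limits of surjective towers of Artinian local `Λ`-algebras with bounded embedding dimension
(helper1)

The limit is the ring pro-representing the functor of continuous maps out of the ring of compatible
sequences.  APPEND-ONLY once landed.
-/

set_option autoImplicit false
universe u

open CategoryTheory

namespace Groth.Agent.Lib.CRingLimH1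

open ArtFun ArtFun.Art Groth.Agent.Lib.ArtFunH1 Groth.Agent.Lib.SchlH1 Groth.Agent.Lib.MinH1
  Groth.Agent.Lib.CRingColimH1

section Tower

/-- sections of a surjective tower through a given element -/
theorem exists_section : ∀ (n : ℕ) (X : ℕ → Type u) (g : ∀ m, X (m + 1) → X m)
    (_ : ∀ m, Function.Surjective (g m)) (x : X n),
    ∃ a : ∀ m, X m, (∀ m, g m (a (m + 1)) = a m) ∧ a n = x := by
  intro n
  induction n with
  | zero =>
    intro X g hg x
    refine ⟨fun m => Nat.rec (motive := fun m => X m) x (fun m y => Function.surjInv (hg m) y) m,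
      fun m => ?_, rfl⟩
    exact Function.surjInv_eq (hg m) _
  | succ n ih =>
    intro X g hg x
    obtain ⟨a', ha', hx⟩ := ih (fun m => X (m + 1)) (fun m => g (m + 1)) (fun m => hg (m + 1)) x
    refine ⟨fun m => Nat.casesOn (motive := fun m => X m) m (g 0 (a' 0)) (fun m => a' m),
      fun m => ?_, hx⟩
    cases m with
    | zero => rfl
    | succ m => exact ha' m

end Tower

variable {Λ : Type u} {k : Type u} [CommRing Λ] [Field k] [Algebra Λ k]

/-- an Artinian object as a coefficient ring -/
noncomputable def artC (A : Art Λ k) : CRing Λ k where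
  carrier := A
  isNoetherianRing := inferInstance
  res := A.res
  res_surjective := A.res_surjective
  isAdicComplete := inferInstance

section Lim

variable (A : ℕ → Art Λ k) (f : ∀ n, A (n + 1) ⟶ A n)

/-- the ring of compatible sequences -/
def limSub : Subalgebra Λ (∀ n, A n) where
  carrier := {a | ∀ n, f n (a (n + 1)) = a n}
  mul_mem' := by
    intro a b ha hb n
    show (f n).toAlgHom (a (n + 1) * b (n + 1)) = a n * b n
    rw [map_mul]
    exact congrArg₂ (· * ·) (ha n) (hb n)
  one_mem' := by
    intro n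
    show (f n).toAlgHom 1 = 1
    rw [map_one]
  add_mem' := by
    intro a b ha hb n
    show (f n).toAlgHom (a (n + 1) + b (n + 1)) = a n + b n
    rw [map_add]
    exact congrArg₂ (· + ·) (ha n) (hb n)
  zero_mem' := by
    intro n
    show (f n).toAlgHom 0 = 0
    rw [map_zero]
  algebraMap_mem' := by
    intro c n
    show (f n).toAlgHom (algebraMap Λ (A (n + 1)) c) = algebraMap Λ (A n) c
    rw [AlgHom.commutes]

theorem mem_limSub {a : ∀ n, A n} : a ∈ limSub A f ↔ ∀ n, f n (a (n + 1)) = a n := Iff.rfl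

/-- the projections -/
noncomputable def limPr (n : ℕ) : ↥(limSub A f) →ₐ[Λ] A n :=
  (Pi.evalAlgHom Λ (fun n => (A n : Type u)) n).comp (limSub A f).val

theorem limPr_apply (n : ℕ) (a : ↥(limSub A f)) : limPr A f n a = a.1 n := rfl

theorem limPr_succ (n : ℕ) (a : ↥(limSub A f)) : f n (limPr A f (n + 1) a) = limPr A f n a :=
  a.2 n

theorem res_limPr (n : ℕ) (a : ↥(limSub A f)) :
    (A n).res (limPr A f n a) = (A 0).res (limPr A f 0 a) := by
  induction n with
  | zero => rfl
  | succ n ih =>
    rw [← ih, ← limPr_succ A f n a, Art.res_app]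

/-- the augmentation of the ring of compatible sequences -/
noncomputable def limRes : ↥(limSub A f) →ₐ[Λ] k := (A 0).res.comp (limPr A f 0)

theorem limRes_apply (n : ℕ) (a : ↥(limSub A f)) : limRes A f a = (A n).res (limPr A f n a) :=
  (res_limPr A f n a).symm

/-- the projections as augmented maps -/
noncomputable def limHom (n : ℕ) : HomSet ↥(limSub A f) (limRes A f) (A n) :=
  ⟨limPr A f n, AlgHom.ext fun a => (limRes_apply A f n a).symm⟩

theorem limHom_succ (n : ℕ) : HomSet.map (f n) (limHom A f (n + 1)) = limHom A f n :=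
  Subtype.ext (AlgHom.ext fun a => limPr_succ A f n a)

variable (hf : ∀ n, Function.Surjective (f n))
include hf

theorem limPr_surjective (n : ℕ) : Function.Surjective (limPr A f n) := by
  intro x
  obtain ⟨a, ha, hx⟩ := exists_section n (fun m => (A m : Type u)) (fun m => f m) hf x
  exact ⟨⟨a, ha⟩, hx⟩

theorem limRes_surjective : Function.Surjective (limRes A f) := by
  intro c
  obtain ⟨x, hx⟩ := (A 0).res_surjective c
  obtain ⟨a, ha⟩ := limPr_surjective A f hf 0 x
  exact ⟨a, by show (A 0).res (limPr A f 0 a) = c; rw [ha, hx]⟩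

omit hf in
theorem ker_limPr_antitone : Antitone (fun n => RingHom.ker (limPr A f n)) := by
  apply antitone_nat_of_succ_le
  intro n a ha
  rw [RingHom.mem_ker] at ha ⊢
  rw [← limPr_succ A f n a, ha]
  exact map_zero (f n).toAlgHom

end Lim

section LimF

variable (A : ℕ → Art Λ k) (f : ∀ n, A (n + 1) ⟶ A n)

/-- continuous augmented maps out of the ring of compatible sequences -/
def LObj (B : Art Λ k) : Type u :=
  {φ : HomSet ↥(limSub A f) (limRes A f) B //
    ∃ n, RingHom.ker (limPr A f n) ≤ RingHom.ker φ.1}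

variable {A f} in
noncomputable def LObj.map {B C : Art Λ k} (g : B ⟶ C) (x : LObj A f B) : LObj A f C :=
  ⟨HomSet.map g x.1, by
    obtain ⟨n, hn⟩ := x.2
    exact ⟨n, hn.trans (ker_le_ker_map g x.1)⟩⟩

variable {A f} in
theorem LObj.map_id {B : Art Λ k} (x : LObj A f B) : LObj.map (𝟙 B) x = x :=
  Subtype.ext (hmap_id x.1)

variable {A f} in
theorem LObj.map_comp {B C D : Art Λ k} (g : B ⟶ C) (h : C ⟶ D) (x : LObj A f B) :
    LObj.map (g ≫ h) x = LObj.map h (LObj.map g x) :=
  Subtype.ext (hmap_comp g h x.1)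

/-- the functor of continuous maps out of the ring of compatible sequences -/
noncomputable def limF : Art Λ k ⥤ Type u where
  obj B := LObj A f B
  map {B C} g := ↾fun (x : LObj A f B) => (LObj.map g x : LObj A f C)
  map_id B := ConcreteCategory.hom_ext _ _ fun x => LObj.map_id x
  map_comp g h := ConcreteCategory.hom_ext _ _ fun x => LObj.map_comp g h x

theorem limF_map {B C : Art Λ k} (g : B ⟶ C) (x : LObj A f B) :
    (limF A f).map g x = LObj.map g x := rfl

/-- the tautological element at level `n` -/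
noncomputable def limElt (n : ℕ) : LObj A f (A n) := ⟨limHom A f n, n, le_rfl⟩

theorem limF_h0 : H0 (limF A f) := by
  constructor
  · refine ⟨(⟨⟨limRes A f, AlgHom.id_comp _⟩, 0, ?_⟩ : LObj A f (base Λ k))⟩
    intro a ha
    rw [RingHom.mem_ker] at ha ⊢
    show (A 0).res (limPr A f 0 a) = 0
    rw [ha, map_zero]
  · constructor
    intro (x : LObj A f (base Λ k)) (y : LObj A f (base Λ k))
    exact Subtype.ext (homSet_base_eq x.1 y.1)

theorem limF_leftExact : IsLeftExact (limF A f) := by
  intro B C C' C'' p' p'' f' f'' h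
  constructor
  · rw [cmp_injective_iff]
    intro (z : LObj A f B) (w : LObj A f B) h1 h2
    have e1 : HomSet.map p' z.1 = HomSet.map p' w.1 :=
      congrArg (fun t : LObj A f C' => t.1) h1
    have e2 : HomSet.map p'' z.1 = HomSet.map p'' w.1 :=
      congrArg (fun t : LObj A f C'' => t.1) h2
    exact Subtype.ext (HomSet.ext_fibreProd h _ _ e1 e2)
  · rw [cmp_surjective_iff]
    intro (x' : LObj A f C') (x'' : LObj A f C'') hx
    have e1 : HomSet.map f' x'.1 = HomSet.map f'' x''.1 :=
      congrArg (fun t : LObj A f C => t.1) hx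
    obtain ⟨ψ, a1, a2⟩ := HomSet.exists_lift_fibreProd h x'.1 x''.1 e1
    obtain ⟨n', hn'⟩ := x'.2
    obtain ⟨n'', hn''⟩ := x''.2
    have hψ : RingHom.ker (limPr A f (max n' n'')) ≤ RingHom.ker ψ.1 := by
      intro a ha
      have ha' : a ∈ RingHom.ker x'.1.1 :=
        hn' (ker_limPr_antitone A f (le_max_left n' n'') ha)
      have ha'' : a ∈ RingHom.ker x''.1.1 :=
        hn'' (ker_limPr_antitone A f (le_max_right n' n'') ha)
      rw [RingHom.mem_ker] at ha' ha'' ⊢
      apply h.inj
      · have c1 : p' (ψ.1 a) = x'.1.1 a :=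
          congrArg (fun t : HomSet ↥(limSub A f) (limRes A f) C' => t.1 a) a1
        rw [c1, ha']
        exact (map_zero p'.toAlgHom).symm
      · have c1 : p'' (ψ.1 a) = x''.1.1 a :=
          congrArg (fun t : HomSet ↥(limSub A f) (limRes A f) C'' => t.1 a) a2
        rw [c1, ha'']
        exact (map_zero p''.toAlgHom).symm
    refine ⟨(⟨ψ, max n' n'', hψ⟩ : LObj A f B), ?_, ?_⟩
    · exact Subtype.ext a1
    · exact Subtype.ext a2

theorem limF_c (hf : ∀ n, Function.Surjective (f n)) (x₀ : LObj A f (base Λ k)) :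
    Function.Injective (fun σ : base Λ k ⟶ dual Λ k => (limF A f).map σ x₀) := by
  intro σ σ' hσ
  have e : HomSet.map σ x₀.1 = HomSet.map σ' x₀.1 :=
    congrArg (fun t : LObj A f (dual Λ k) => t.1) hσ
  apply Art.hom_ext
  apply AlgHom.ext
  intro c
  obtain ⟨s, hs⟩ := limRes_surjective A f hf c
  have h1 : x₀.1.1 s = c := (AlgHom.congr_fun x₀.1.2 s).trans hs
  have h2 : σ (x₀.1.1 s) = σ' (x₀.1.1 s) :=
    congrArg (fun t : HomSet ↥(limSub A f) (limRes A f) (dual Λ k) => t.1 s) e
  rw [← h1]
  exact h2

/-- every element of level `n` is a push-forward of the tautological element -/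
theorem exists_hom_map_limElt (hf : ∀ n, Function.Surjective (f n)) {B : Art Λ k}
    (x : LObj A f B) (n : ℕ) (hn : RingHom.ker (limPr A f n) ≤ RingHom.ker x.1.1) :
    ∃ w : A n ⟶ B, LObj.map w (limElt A f n) = x := by
  obtain ⟨w, hw⟩ := exists_factor (limHom A f n) (limPr_surjective A f hf n) x.1 hn
  exact ⟨w, Subtype.ext hw⟩

/-- the family over `A n` -/
noncomputable def limFam (n : ℕ) : Family (A n).carrier (A n).res (limF A f) where
  app B g := LObj.map (⟨g.1, g.2⟩ : A n ⟶ B) (limElt A f n)
  natural {B C} h g := by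
    show LObj.map (⟨(HomSet.map h g).1, (HomSet.map h g).2⟩ : A n ⟶ C) (limElt A f n) =
      LObj.map h (LObj.map (⟨g.1, g.2⟩ : A n ⟶ B) (limElt A f n))
    exact Subtype.ext (Subtype.ext (AlgHom.ext fun _ => rfl))

theorem limFam_app (n : ℕ) (B : Art Λ k) (w : A n ⟶ B) :
    (limFam A f n).app B ⟨w.toAlgHom, w.res_comp⟩ = LObj.map w (limElt A f n) := rfl

end LimF

section DerBound

variable {R : Type u} [CommRing R] [Algebra Λ R] (resR : R →ₐ[Λ] k)

/-- a derivation as an additive map -/
def derHom (D : Der resR) : R →+ k where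
  toFun := D.1
  map_zero' := der_zero resR D
  map_add' := der_add resR D

theorem der_sum (D : Der resR) {n : ℕ} (g : Fin n → R) :
    D.1 (∑ i, g i) = ∑ i, D.1 (g i) :=
  map_sum (derHom resR D) g Finset.univ

theorem der_smul (D : Der resR) (l : Λ) (r : R) :
    D.1 (l • r) = algebraMap Λ k l * D.1 r := by
  rw [Algebra.smul_def, der_mul resR D, der_alg resR D, mul_zero, add_zero, AlgHom.commutes]

theorem der_eq_zero_of_gens (B : Art Λ k) {N : ℕ} (s : Fin N → k)
    (hs : Submodule.span Λ (Set.range s) = ⊤) (b : Fin N → B) (hb : ∀ j, B.res (b j) = s j)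
    (t : Finset B) (ht : Submodule.span B (t : Set B) = IsLocalRing.maximalIdeal B)
    (G : Der B.res) (hG1 : ∀ j, G.1 (b j) = 0) (hG2 : ∀ x ∈ t, G.1 x = 0) : G = 0 := by
  let K : Ideal B :=
    { carrier := {a | B.res a = 0 ∧ G.1 a = 0}
      add_mem' := by
        intro x y hx hy
        exact ⟨by rw [map_add, hx.1, hy.1, add_zero],
          by rw [der_add B.res G, hx.2, hy.2, add_zero]⟩
      zero_mem' := ⟨map_zero _, der_zero B.res G⟩
      smul_mem' := by
        intro c x hx
        refine ⟨by rw [smul_eq_mul, map_mul, hx.1, mul_zero], ?_⟩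
        rw [smul_eq_mul, der_mul B.res G, hx.1, hx.2, mul_zero, zero_mul, add_zero] }
  have hle : IsLocalRing.maximalIdeal B ≤ K := by
    rw [← ht]
    refine Submodule.span_le.2 (fun x hx => ?_)
    have hxm : x ∈ IsLocalRing.maximalIdeal B := by
      rw [← ht]
      exact Submodule.subset_span hx
    exact ⟨(Art.mem_maximalIdeal_iff B x).1 hxm, hG2 x hx⟩
  have hGa : ∀ a, G.1 a = 0 := by
    intro a
    have hx : B.res a ∈ Submodule.span Λ (Set.range s) := by rw [hs]; trivial
    obtain ⟨c, hc⟩ := (Submodule.mem_span_range_iff_exists_fun Λ).1 hx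
    have hm : a - ∑ j, c j • b j ∈ IsLocalRing.maximalIdeal B := by
      rw [Art.mem_maximalIdeal_iff, map_sub, map_sum, sub_eq_zero, ← hc]
      refine Finset.sum_congr rfl (fun j _ => ?_)
      rw [map_smul, hb]
    have h0 : G.1 (a - ∑ j, c j • b j) = 0 := (hle hm).2
    rw [der_sub B.res G, sub_eq_zero] at h0
    rw [h0, der_sum B.res G]
    refine Finset.sum_eq_zero (fun j _ => ?_)
    rw [der_smul B.res G, hG1, mul_zero]
  exact Subtype.ext (funext hGa)

theorem finrank_der_le (B : Art Λ k) {N : ℕ} (s : Fin N → k)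
    (hs : Submodule.span Λ (Set.range s) = ⊤) (d : ℕ)
    (hd : Module.finrank (IsLocalRing.ResidueField B) (IsLocalRing.CotangentSpace B) ≤ d) :
    Module.Finite k (Der B.res) ∧ Module.finrank k (Der B.res) ≤ N + d := by
  classical
  have hfg : (IsLocalRing.maximalIdeal B).FG := (IsLocalRing.maximalIdeal B).fg_of_isNoetherianRing
  obtain ⟨t, htcard, htspan⟩ := Submodule.FG.exists_span_finset_card_eq_spanFinrank hfg
  have hcard : t.card ≤ d := by
    rw [htcard, IsLocalRing.spanFinrank_maximalIdeal_eq_finrank_cotangentSpace B]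
    exact hd
  choose b hb using fun j => B.res_surjective (s j)
  let Ψ : Der B.res →ₗ[k] (Fin N → k) × (↥t → k) :=
    { toFun := fun D => (fun j => D.1 (b j), fun x => D.1 x.1)
      map_add' := fun D E => rfl
      map_smul' := fun c D => rfl }
  have hinj : Function.Injective Ψ := by
    intro D E h
    have h1 : ∀ j, D.1 (b j) = E.1 (b j) := fun j => congrFun (congrArg Prod.fst h) j
    have h2 : ∀ x : ↥t, D.1 x.1 = E.1 x.1 := fun x => congrFun (congrArg Prod.snd h) x
    have hsub : ∀ r, (D - E).1 r = D.1 r - E.1 r := fun r => by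
      rw [Submodule.coe_sub]
      rfl
    rw [← sub_eq_zero]
    apply der_eq_zero_of_gens B s hs b hb t htspan
    · intro j
      rw [hsub, h1 j, sub_self]
    · intro x hx
      rw [hsub, h2 ⟨x, hx⟩, sub_self]
  refine ⟨Module.Finite.of_injective Ψ hinj, ?_⟩
  calc Module.finrank k (Der B.res) ≤ Module.finrank k ((Fin N → k) × (↥t → k)) :=
        LinearMap.finrank_le_finrank_of_injective hinj
    _ = N + t.card := by
        rw [Module.finrank_prod, Module.finrank_fintype_fun_eq_card,
          Module.finrank_fintype_fun_eq_card, Fintype.card_fin, Fintype.card_coe]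
    _ ≤ N + d := Nat.add_le_add_left hcard N

end DerBound

section Main

variable [IsNoetherianRing Λ] [Module.Finite Λ k]
variable (A : ℕ → Art Λ k) (f : ∀ n, A (n + 1) ⟶ A n)

theorem limF_hfin (hf : ∀ n, Function.Surjective (f n)) (d : ℕ)
    (hd : ∀ n, Module.finrank (IsLocalRing.ResidueField (A n))
      (IsLocalRing.CotangentSpace (A n)) ≤ d) [TangentStr (limF A f)] : Hfin (limF A f) := by
  classical
  obtain ⟨N, s, hs⟩ := Module.Finite.exists_fin (R := Λ) (M := k)
  have hlevel : ∀ t : Finset (TangentSpace (limF A f)), ∃ M, ∀ x ∈ t,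
      RingHom.ker (limPr A f M) ≤ RingHom.ker (show LObj A f (dual Λ k) from x).1.1 := by
    intro t
    induction t using Finset.induction_on with
    | empty => exact ⟨0, fun x hx => absurd hx (Finset.notMem_empty x)⟩
    | insert a t ha ih =>
      obtain ⟨M, hM⟩ := ih
      obtain ⟨n, hn⟩ := (show LObj A f (dual Λ k) from a).2
      refine ⟨max n M, fun x hx => ?_⟩
      rcases Finset.mem_insert.1 hx with rfl | hx
      · exact (ker_limPr_antitone A f (le_max_left n M)).trans hn
      · exact (ker_limPr_antitone A f (le_max_right n M)).trans (hM x hx)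
  have hrank : Module.rank k (TangentSpace (limF A f)) ≤ ((N + d : ℕ) : Cardinal) := by
    apply rank_le
    intro t ht
    obtain ⟨M, hM⟩ := hlevel t
    obtain ⟨hfinM, hboundM⟩ := finrank_der_le (A M) s hs d (hd M)
    have := hfinM
    have hD : ∀ i : ↥t, ∃ D : Der (A M).res, theta (limFam A f M) D = i.1 := by
      intro i
      obtain ⟨w, hw⟩ := exists_hom_map_limElt A f hf
        (show LObj A f (dual Λ k) from i.1) M (hM i.1 i.2)
      have hφ : ∃ φ : HomSet (A M).carrier (A M).res (dual Λ k),
          (limFam A f M).app (dual Λ k) φ = i.1 := ⟨⟨w.toAlgHom, w.res_comp⟩, hw⟩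
      obtain ⟨φ, hφ⟩ := hφ
      refine ⟨ofHom (A M).res φ, ?_⟩
      rw [theta_apply, toHom_ofHom]
      exact hφ
    choose D hD using hD
    have hli : LinearIndependent k D := by
      apply LinearIndependent.of_comp (theta (limFam A f M))
      have e : ⇑(theta (limFam A f M)) ∘ D =
          fun i : ↥t => (i : TangentSpace (limF A f)) := funext hD
      rw [e]
      exact ht
    have hc := hli.fintype_card_le_finrank
    rw [Fintype.card_coe] at hc
    exact hc.trans hboundM
  exact Module.rank_lt_aleph0_iff.1 (lt_of_le_of_lt hrank (Cardinal.natCast_lt_aleph0))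

theorem main12739 (hf : ∀ n, Function.Surjective (f n)) (d : ℕ)
    (hd : ∀ n, Module.finrank (IsLocalRing.ResidueField (A n))
      (IsLocalRing.CotangentSpace (A n)) ≤ d) :
    ∃ (S : CRing Λ k) (π : ∀ n, HomSet S.carrier S.res (A n)),
      (∀ n, HomSet.map (f n) (π (n + 1)) = π n) ∧
      (∀ n, Function.Surjective (π n).1) ∧
      (∀ a : ∀ n, A n, (∀ n, f n (a (n + 1)) = a n) →
        ∃! s : S.carrier, ∀ n, (π n).1 s = a n) ∧
      (∀ n, ∃ N, RingHom.ker (π N).1 ≤ IsLocalRing.maximalIdeal S.carrier ^ n) ∧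
      (∀ n, ∃ N, IsLocalRing.maximalIdeal S.carrier ^ N ≤ RingHom.ker (π n).1) := by
  classical
  have h0 : H0 (limF A f) := limF_h0 A f
  have hle : IsLeftExact (limF A f) := limF_leftExact A f
  obtain ⟨TF⟩ := Groth.Agent.S12726.result (limF A f) h0 (heps_of_leftExact hle)
  letI := TF
  have hfin : Hfin (limF A f) := limF_hfin A f hf d hd
  obtain ⟨⟨P, ξ, hξ⟩⟩ := (Groth.Agent.S12734.result (limF A f)).2
    ⟨⟨h0, fun _ _ _ _ p' p'' f' f'' h _ => hle p' p'' f' f'' h⟩, hfin,
      fun x₀ => limF_c A f hf x₀⟩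
  have hprex : ∀ n, ∃ u : HomSet P.carrier P.res (A n), ξ.app (A n) u = limElt A f n :=
    fun n => (hξ (A n)).2 (limElt A f n)
  choose pr hpr using hprex
  -- compatibility
  have h1 : ∀ n, HomSet.map (f n) (pr (n + 1)) = pr n := by
    intro n
    apply (hξ (A n)).1
    rw [ξ.natural, hpr, hpr]
    show LObj.map (f n) (limElt A f (n + 1)) = limElt A f n
    exact Subtype.ext (limHom_succ A f n)
  -- truncations factor through some level
  have hfac : ∀ N, ∃ (n : ℕ) (w : A n ⟶ P.trunc N), HomSet.map w (pr n) = P.truncHom N := by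
    intro N
    obtain ⟨n, hn⟩ := (show LObj A f (P.trunc N) from ξ.app _ (P.truncHom N)).2
    obtain ⟨w, hw⟩ := exists_hom_map_limElt A f hf
      (show LObj A f (P.trunc N) from ξ.app _ (P.truncHom N)) n hn
    refine ⟨n, w, ?_⟩
    apply (hξ _).1
    rw [ξ.natural, hpr]
    exact hw
  -- separation
  have hsep : ∀ s : P.carrier, (∀ n, (pr n).1 s = 0) → s = 0 := by
    intro s hs
    apply eq_zero_of_forall_mem_mpow
    intro N
    obtain ⟨n, w, hw⟩ := hfac N
    have e0 : (P.truncHom N).1 s = w ((pr n).1 s) :=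
      (congrArg (fun t : HomSet P.carrier P.res (P.trunc N) => t.1 s) hw).symm
    rw [hs n] at e0
    rw [← Ideal.Quotient.eq_zero_iff_mem]
    exact e0.trans (map_zero w.toAlgHom)
  -- the inverse map
  have hnat : ∀ N, LObj.map (P.truncMap N) (ξ.app _ (P.truncHom (N + 1))) =
      ξ.app _ (P.truncHom N) := by
    intro N
    have := ξ.natural (P.truncMap N) (P.truncHom (N + 1))
    rw [CRing.truncMap_truncHom] at this
    exact this.symm
  obtain ⟨e, heres, he⟩ := exists_algHom_of_compatible P
    (fun N => (show LObj A f (P.trunc N) from ξ.app _ (P.truncHom N)).1)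
    (fun N => congrArg (fun t : LObj A f (P.trunc N) => t.1) (hnat N))
  have ee : ∀ N, (P.truncHom N).1.comp e =
      (show LObj A f (P.trunc N) from ξ.app _ (P.truncHom N)).1.1 :=
    fun N => congrArg Subtype.val (he N)
  have hpre : ∀ n, (pr n).1.comp e = limPr A f n := by
    intro n
    obtain ⟨N, ubar, hu⟩ := exists_factor_trunc P (A n) (pr n)
    have e1 : LObj.map ubar (ξ.app _ (P.truncHom N)) = limElt A f n := by
      have := ξ.natural ubar (P.truncHom N)
      rw [hu, hpr] at this
      exact this.symm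
    have e2 : ubar.toAlgHom.comp
        (show LObj A f (P.trunc N) from ξ.app _ (P.truncHom N)).1.1 = limPr A f n :=
      congrArg (fun t : LObj A f (A n) => t.1.1) e1
    have e3 : (pr n).1 = ubar.toAlgHom.comp (P.truncHom N).1 :=
      (congrArg Subtype.val hu).symm
    calc (pr n).1.comp e = (ubar.toAlgHom.comp (P.truncHom N).1).comp e := by rw [e3]
      _ = ubar.toAlgHom.comp ((P.truncHom N).1.comp e) := AlgHom.comp_assoc _ _ _
      _ = ubar.toAlgHom.comp
          (show LObj A f (P.trunc N) from ξ.app _ (P.truncHom N)).1.1 := by rw [ee N]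
      _ = limPr A f n := e2
  have h2 : ∀ n, Function.Surjective (pr n).1 := by
    intro n x
    obtain ⟨l, hl⟩ := limPr_surjective A f hf n x
    exact ⟨e l, (AlgHom.congr_fun (hpre n) l).trans hl⟩
  have h3 : ∀ a : ∀ n, A n, (∀ n, f n (a (n + 1)) = a n) →
      ∃! s : P.carrier, ∀ n, (pr n).1 s = a n := by
    intro a ha
    refine ⟨e ⟨a, ha⟩, fun n => ?_, fun s' hs' => ?_⟩
    · exact AlgHom.congr_fun (hpre n) ⟨a, ha⟩
    · rw [← sub_eq_zero]
      apply hsep
      intro n
      rw [map_sub, hs' n, sub_eq_zero]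
      exact (AlgHom.congr_fun (hpre n) ⟨a, ha⟩).symm
  have h4 : ∀ n, ∃ N, RingHom.ker (pr N).1 ≤ IsLocalRing.maximalIdeal P.carrier ^ n := by
    intro n
    cases n with
    | zero =>
      refine ⟨0, ?_⟩
      rw [pow_zero, Ideal.one_eq_top]
      exact le_top
    | succ n =>
      obtain ⟨N, w, hw⟩ := hfac n
      refine ⟨N, fun s hs => ?_⟩
      rw [RingHom.mem_ker] at hs
      have e0 : (P.truncHom n).1 s = w ((pr N).1 s) :=
        (congrArg (fun t : HomSet P.carrier P.res (P.trunc n) => t.1 s) hw).symm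
      rw [hs] at e0
      show s ∈ CRing.mpow P n
      rw [← Ideal.Quotient.eq_zero_iff_mem]
      exact e0.trans (map_zero w.toAlgHom)
  exact ⟨P, pr, h1, h2, h3, h4, fun n => exists_pow_le_ker P (A n) (pr n)⟩

end Main

end Groth.Agent.Lib.CRingLimH1
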