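import Mathlib
import Groth.Agent.Lib.CompleteNoeth_lead
import Groth.Agent.Lib.FSAdicCompl_helper3

/-!
# Adic completions of non-Noetherian rings with Noetherian special fibre (helper3)

* `isNoetherianRing_adicCompletion_of_quot`: `J` f.g., `P/J` Noetherian ⇒ `P^` Noetherian.
* `quotPowEquiv`: `P^ / Jⁿ P^ ≃ P / Jⁿ`.
* `flat_of_forall_flat_quot_pow_ideal`: a Noetherian `S`-algebra `C` with an ideal `𝔠 ⊆ rad C`
  such that all `C/𝔠ⁿ` are `S`-flat is `S`-flat.
* `flat_adicCompletion_of_flat_quot`.
APPEND-ONLY once landed.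
-/

set_option autoImplicit false
universe u

namespace Groth.Agent.Lib.CTensH3

open TensorProduct

section Noeth

variable (P : Type u) [CommRing P] (J : Ideal P)

theorem isNoetherianRing_adicCompletion_of_quot (fg : J.FG) [IsNoetherianRing (P ⧸ J)] :
    IsNoetherianRing (AdicCompletion J P) := by
  haveI := AdicCompletion.isAdicComplete_self J fg
  obtain ⟨n, x, hx⟩ := Submodule.fg_iff_exists_fin_generating_family.mp fg
  have e : (AdicCompletion J P ⧸ J.map (algebraMap P (AdicCompletion J P))) ≃+* (P ⧸ J) :=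
    (Ideal.quotEquivOfEq (AdicCompletion.ker_evalOneₐ_eq_map J fg).symm).trans
      (RingHom.quotientKerEquivOfSurjective
        (f := (AdicCompletion.evalOneₐ J).toRingHom) (AdicCompletion.evalOneₐ_surjective J))
  haveI : IsNoetherianRing
      (AdicCompletion J P ⧸ J.map (algebraMap P (AdicCompletion J P))) :=
    isNoetherianRing_of_ringEquiv _ e.symm
  have hspan : J.map (algebraMap P (AdicCompletion J P)) =
      Ideal.span (Set.range (fun i => algebraMap P (AdicCompletion J P) (x i))) := by
    have key : ∀ K : Ideal P, K = Ideal.span (Set.range x) →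
        K.map (algebraMap P (AdicCompletion J P)) =
          Ideal.span (Set.range (fun i => algebraMap P (AdicCompletion J P) (x i))) := by
      rintro K rfl
      rw [Ideal.map_span, ← Set.range_comp]
      rfl
    exact key J hx.symm
  refine Groth.Agent.Lib.CompleteNoethLead.isNoetherianRing_of_isAdicComplete
    (J.map (algebraMap P (AdicCompletion J P)))
    (fun i => algebraMap P (AdicCompletion J P) (x i)) ?_ ?_
  · intro i
    apply Ideal.mem_map_of_mem
    rw [← hx]
    exact Submodule.subset_span ⟨i, rfl⟩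
  · rw [← hspan]
    exact le_sup_left

theorem ker_evalₐ (fg : J.FG) (n : ℕ) :
    RingHom.ker (AdicCompletion.evalₐ J n).toRingHom =
      (J ^ n).map (algebraMap P (AdicCompletion J P)) :=
  le_antisymm (Groth.Agent.Lib.FSAdicComplH3.ker_evalₐ_le_map_pow J fg n)
    (Groth.Agent.Lib.FSAdicComplH3.map_pow_le_ker_evalₐ J n)

/-- `P^ / Jⁿ P^ ≃ P / Jⁿ` as `P`-algebras. -/
noncomputable def quotPowEquiv (fg : J.FG) (n : ℕ) :
    (AdicCompletion J P ⧸ (J ^ n).map (algebraMap P (AdicCompletion J P))) ≃ₐ[P] (P ⧸ J ^ n) :=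
  (Ideal.quotientEquivAlgOfEq P (ker_evalₐ P J fg n).symm).trans
    (Ideal.quotientKerAlgEquivOfSurjective (f := AdicCompletion.evalₐ J n)
      (AdicCompletion.surjective_evalₐ J n))

theorem map_le_jacobson (fg : J.FG) :
    J.map (algebraMap P (AdicCompletion J P)) ≤ Ideal.jacobson ⊥ := by
  haveI := AdicCompletion.isAdicComplete_self J fg
  exact IsAdicComplete.le_jacobson_bot _

end Noeth

section Krull

/-- A Noetherian `S`-algebra `C` with an ideal `𝔠` in its Jacobson radical such that every
`C/𝔠ⁿ` is `S`-flat is `S`-flat. -/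
theorem flat_of_forall_flat_quot_pow_ideal {S C : Type u} [CommRing S] [CommRing C] [Algebra S C]
    [IsNoetherianRing C] (𝔠 : Ideal C) (h𝔠 : 𝔠 ≤ Ideal.jacobson ⊥)
    (h : ∀ n : ℕ, Module.Flat S (C ⧸ 𝔠 ^ n)) : Module.Flat S C := by
  rw [Module.Flat.iff_lTensor_injective]
  intro I hI
  haveI : Module.Finite S I := Module.Finite.of_fg hI
  have hkrull : (⨅ i : ℕ, 𝔠 ^ i • ⊤ : Submodule C (C ⊗[S] I)) = ⊥ :=
    Ideal.iInf_pow_smul_eq_bot_of_le_jacobson _ h𝔠
  rw [injective_iff_map_eq_zero]
  intro x hx
  have hmem : x ∈ (⨅ i : ℕ, 𝔠 ^ i • ⊤ : Submodule C (C ⊗[S] I)) := by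
    rw [Submodule.mem_iInf]
    intro n
    let q : C →ₗ[S] (C ⧸ 𝔠 ^ n) := (Ideal.Quotient.mkₐ S (𝔠 ^ n)).toLinearMap
    have hqs : Function.Surjective q := Ideal.Quotient.mk_surjective
    have hcomm : (I.subtype.lTensor (C ⧸ 𝔠 ^ n)) ((q.rTensor I) x) =
        (q.rTensor S) ((I.subtype.lTensor C) x) := by
      rw [← LinearMap.comp_apply, ← LinearMap.comp_apply, LinearMap.lTensor_comp_rTensor,
        LinearMap.rTensor_comp_lTensor]
    rw [hx, map_zero] at hcomm
    have hinj := (Module.Flat.iff_lTensor_injective.mp (h n)) hI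
    have h0 : (q.rTensor I) x = 0 := hinj (by rw [hcomm, map_zero])
    have hex0 : Function.Exact (((𝔠 ^ n).restrictScalars S).subtype) q := by
      intro c
      constructor
      · intro hc
        have : c ∈ 𝔠 ^ n := Ideal.Quotient.eq_zero_iff_mem.mp hc
        exact ⟨⟨c, this⟩, rfl⟩
      · rintro ⟨y, rfl⟩
        exact Ideal.Quotient.eq_zero_iff_mem.mpr y.2
    have hex := rTensor_exact I hex0 hqs
    have key : ∀ y, (((𝔠 ^ n).restrictScalars S).subtype.rTensor I) y ∈
        (𝔠 ^ n • ⊤ : Submodule C (C ⊗[S] I)) := by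
      intro y
      induction y using TensorProduct.induction_on with
      | zero => simp
      | tmul c i =>
        rw [LinearMap.rTensor_tmul]
        have : (((𝔠 ^ n).restrictScalars S).subtype c) ⊗ₜ[S] i =
            (c : C) • ((1 : C) ⊗ₜ[S] i) := by
          rw [TensorProduct.smul_tmul', smul_eq_mul, mul_one]
          rfl
        rw [this]
        exact Submodule.smul_mem_smul c.2 Submodule.mem_top
      | add y z hy hz =>
        rw [map_add]
        exact Submodule.add_mem _ hy hz
    obtain ⟨y, rfl⟩ := (hex x).mp h0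
    exact key y
  rw [hkrull] at hmem
  exact (Submodule.mem_bot _).mp hmem

end Krull

section FlatCompl

variable (S P : Type u) [CommRing S] [CommRing P] [Algebra S P] (J : Ideal P)

theorem flat_adicCompletion_of_flat_quot (fg : J.FG) [IsNoetherianRing (P ⧸ J)]
    (h : ∀ n : ℕ, Module.Flat S (P ⧸ J ^ n)) : Module.Flat S (AdicCompletion J P) := by
  haveI := isNoetherianRing_adicCompletion_of_quot P J fg
  haveI : IsScalarTower S P (AdicCompletion J P) := IsScalarTower.of_algebraMap_eq fun _ => rfl
  refine flat_of_forall_flat_quot_pow_ideal (S := S) (C := AdicCompletion J P)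
    (J.map (algebraMap P (AdicCompletion J P)))
    (map_le_jacobson P J fg) fun n => ?_
  rw [← Ideal.map_pow]
  exact Module.Flat.of_linearEquiv
    ((quotPowEquiv P J fg n).restrictScalars S).toLinearEquiv

end FlatCompl

end Groth.Agent.Lib.CTensH3
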