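import Mathlib
import Groth.Agent.Lib.CTens1_helper3

/-!
# Completed tensor products over a field, part 2 (helper3): `R ⊗_k A` completed along `m_R`
APPEND-ONLY once landed.
-/

set_option autoImplicit false
universe u

namespace Groth.Agent.Lib.CTensH3

open TensorProduct

/-- Flatness transfers along a ring isomorphism commuting with the structure maps. -/
theorem flat_of_ringEquiv {A M N : Type*} [CommRing A] [CommRing M] [CommRing N] [Algebra A M]
    [Algebra A N] (e : M ≃+* N) (he : ∀ a, e (algebraMap A M a) = algebraMap A N a)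
    [Module.Flat A M] : Module.Flat A N :=
  Module.Flat.of_linearEquiv (AlgEquiv.ofRingEquiv (f := e) he).symm.toLinearEquiv

section Left

attribute [local instance] Algebra.TensorProduct.rightAlgebra

variable (k : Type u) [Field k] (R : Type u) [CommRing R] [Algebra k R]
  (A : Type u) [CommRing A] [Algebra k A]

/-- `(R ⊗_k A)/I(R ⊗_k A)` is flat over `A`. -/
theorem flat_quot_left (I : Ideal R) :
    Module.Flat A ((R ⊗[k] A) ⧸ I.map (algebraMap R (R ⊗[k] A))) := by
  let e1 : (R ⧸ I) ⊗[k] A ≃ₐ[k] (R ⊗[k] A) ⧸ I.map (algebraMap R (R ⊗[k] A)) :=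
    Algebra.TensorProduct.quotientTensorEquiv (R := k) k A R I
  let e2 : A ⊗[k] (R ⧸ I) ≃ₐ[k] (R ⧸ I) ⊗[k] A := Algebra.TensorProduct.comm k A (R ⧸ I)
  refine flat_of_ringEquiv (A := A) (M := A ⊗[k] (R ⧸ I)) (e2.trans e1).toRingEquiv ?_
  intro a
  rfl

end Left

section Main

attribute [local instance] Algebra.TensorProduct.rightAlgebra

variable (k : Type u) [Field k] (R : Type u) [CommRing R] [IsNoetherianRing R] [IsLocalRing R]
  [Algebra k R] (A : Type u) [CommRing A] [IsNoetherianRing A] [Algebra k A]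

theorem surjective_algebraMap_quot
    (hres : Function.Bijective (algebraMap k (IsLocalRing.ResidueField R))) :
    Function.Surjective (algebraMap A ((R ⊗[k] A) ⧸
      (IsLocalRing.maximalIdeal R).map (algebraMap R (R ⊗[k] A)))) := by
  intro x
  obtain ⟨p, rfl⟩ := Ideal.Quotient.mk_surjective x
  induction p using TensorProduct.induction_on with
  | zero => exact ⟨0, by simp⟩
  | tmul r a =>
    obtain ⟨c, hc⟩ := hres.2 (IsLocalRing.residue R r)
    have hy : r - algebraMap k R c ∈ IsLocalRing.maximalIdeal R := by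
      rw [← IsLocalRing.residue_eq_zero_iff, map_sub, ← hc]
      have : IsLocalRing.residue R (algebraMap k R c) =
          algebraMap k (IsLocalRing.ResidueField R) c := rfl
      rw [this, sub_self]
    refine ⟨c • a, ?_⟩
    change Ideal.Quotient.mk _ (algebraMap A (R ⊗[k] A) (c • a)) = _
    rw [Ideal.Quotient.eq]
    have h1 : algebraMap A (R ⊗[k] A) (c • a) - r ⊗ₜ[k] a =
        - (algebraMap R (R ⊗[k] A) (r - algebraMap k R c) * ((1 : R) ⊗ₜ[k] a)) := by
      change (1 : R) ⊗ₜ[k] (c • a) - r ⊗ₜ[k] a =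
        - (((r - algebraMap k R c) ⊗ₜ[k] (1 : A)) * ((1 : R) ⊗ₜ[k] a))
      rw [Algebra.TensorProduct.tmul_mul_tmul, mul_one, one_mul, TensorProduct.sub_tmul, neg_sub,
        Algebra.algebraMap_eq_smul_one, TensorProduct.smul_tmul]
    rw [h1]
    exact neg_mem (Ideal.mul_mem_right _ _ (Ideal.mem_map_of_mem _ hy))
  | add p q hp hq =>
    obtain ⟨a, ha⟩ := hp
    obtain ⟨b, hb⟩ := hq
    exact ⟨a + b, by rw [map_add, ha, hb, map_add]⟩

theorem main11958 (hres : Function.Bijective (algebraMap k (IsLocalRing.ResidueField R))) :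
    IsNoetherianRing (AdicCompletion ((IsLocalRing.maximalIdeal R).map
        (algebraMap R (R ⊗[k] A))) (R ⊗[k] A)) ∧
      Module.Flat A (AdicCompletion ((IsLocalRing.maximalIdeal R).map
        (algebraMap R (R ⊗[k] A))) (R ⊗[k] A)) := by
  have fg : ((IsLocalRing.maximalIdeal R).map (algebraMap R (R ⊗[k] A))).FG :=
    Ideal.FG.map (IsNoetherian.noetherian _) _
  haveI : IsNoetherianRing ((R ⊗[k] A) ⧸
      (IsLocalRing.maximalIdeal R).map (algebraMap R (R ⊗[k] A))) :=
    isNoetherianRing_of_surjective A _ _ (surjective_algebraMap_quot k R A hres)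
  refine ⟨isNoetherianRing_adicCompletion_of_quot _ _ fg, ?_⟩
  refine flat_adicCompletion_of_flat_quot A (R ⊗[k] A) _ fg fun n => ?_
  rw [← Ideal.map_pow]
  exact flat_quot_left k R A _

end Main

end Groth.Agent.Lib.CTensH3
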