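import Mathlib
import Groth.Prelude.Def_EGA4b
import Groth.Agent.Lib.LocFS4_helper3
import Groth.Agent.Lib.RegHomLocal_helper3
import Groth.Agent.Lib.GeomRegAdic_helper3
import Groth.Agent.Lib.AdicFSTransfer_helper3
import Groth.Agent.Lib.PSEval_helper1

/-!
# Power series over a G-ring (helper3)

For a G-ring `A`, `A → A[[T_1..T_r]]` is a regular homomorphism (EGA IV 7.4.7-type statement).
APPEND-ONLY once landed.
-/

set_option autoImplicit false
set_option maxSynthPendingDepth 3

namespace Groth.Agent.Lib.GRingPSH3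

universe u

open TensorProduct IsLocalRing MvPowerSeries

section FS

open Groth.Agent.Lib.PSEvalH1 in
/-- `A[[T]]` is formally smooth over `A` for the adic topology of any ideal containing the
variables -/
theorem isAdicFormallySmooth_mvPowerSeries_self (A : Type u) [CommRing A] (n : ℕ)
    (𝔫 : Ideal (MvPowerSeries (Fin n) A)) (hX : ∀ i, (X i : MvPowerSeries (Fin n) A) ∈ 𝔫) :
    CAlgX.IsAdicFormallySmooth A (MvPowerSeries (Fin n) A) 𝔫 := by
  intro C _ _ J hJ ψ ⟨m, hm⟩
  have hsurj := Ideal.Quotient.mk_surjective (I := J)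
  choose a ha using fun i : Fin n => hsurj (ψ (MvPowerSeries.X i))
  have hnil : ∀ i, IsNilpotent (a i) := by
    intro i
    refine ⟨m * 2, ?_⟩
    have h1 : a i ^ m ∈ J := by
      rw [← Ideal.Quotient.eq_zero_iff_mem, map_pow, ha, ← map_pow]
      exact hm _ (Ideal.pow_mem_pow (hX i) m)
    have h2 : a i ^ m * a i ^ m ∈ J ^ 2 := by
      rw [pow_two]
      exact Ideal.mul_mem_mul h1 h1
    rw [hJ, Ideal.mem_bot] at h2
    rw [pow_mul, pow_two]
    exact h2
  let χ₀ : MvPowerSeries (Fin n) A →ₐ[A] C := evalNil a hnil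
  refine ⟨χ₀, ?_⟩
  apply algHom_ext_of_nilpotent
  · intro i
    show Ideal.Quotient.mk J (χ₀ (X i)) = ψ (X i)
    rw [evalNil_X, ha]
  · intro i
    show IsNilpotent (Ideal.Quotient.mk J (χ₀ (X i)))
    rw [evalNil_X]
    exact (hnil i).map _

theorem X_mem_of_isMaximal (A : Type u) [CommRing A] (n : ℕ)
    (𝔫 : Ideal (MvPowerSeries (Fin n) A)) [h𝔫 : 𝔫.IsMaximal] (i : Fin n) :
    (X i : MvPowerSeries (Fin n) A) ∈ 𝔫 := by
  by_contra hx
  obtain ⟨y, m, hm, hym⟩ := h𝔫.exists_inv hx
  have hu : IsUnit m := by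
    rw [MvPowerSeries.isUnit_iff_constantCoeff]
    have h1 : m = 1 - y * X i := by rw [← hym]; ring
    rw [h1, map_sub, map_mul, constantCoeff_X, mul_zero, sub_zero, map_one]
    exact isUnit_one
  exact h𝔫.ne_top (Ideal.eq_top_of_isUnit_mem _ hm hu)

end FS

section Main

open Groth.Agent.Lib.RegHomLocalH3 in
/-- S2704 -/
theorem main2704 (A : Type u) [CommRing A] (hA : CAlg.IsGRing A) (r : ℕ) :
    CAlg.IsRegularHom A (MvPowerSeries (Fin r) A) := by
  haveI : IsNoetherianRing A := hA.1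
  apply isRegularHom_of_forall_maximal A (MvPowerSeries (Fin r) A)
  intro 𝔫 h𝔫
  letI alg := (Localization.localRingHom
    (Ideal.comap (algebraMap A (MvPowerSeries (Fin r) A)) 𝔫) 𝔫
    (algebraMap A (MvPowerSeries (Fin r) A)) rfl).toAlgebra
  haveI tow := isScalarTower_localRingHom A (MvPowerSeries (Fin r) A) 𝔫
  haveI hlh : IsLocalHom (algebraMap
      (Localization.AtPrime (Ideal.comap (algebraMap A (MvPowerSeries (Fin r) A)) 𝔫))
      (Localization.AtPrime 𝔫)) :=
    Localization.isLocalHom_localRingHom _ 𝔫 (algebraMap A (MvPowerSeries (Fin r) A)) rfl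
  haveI : IsNoetherianRing (Localization.AtPrime 𝔫) :=
    IsLocalization.isNoetherianRing 𝔫.primeCompl _ inferInstance
  haveI : IsNoetherianRing
      (Localization.AtPrime (Ideal.comap (algebraMap A (MvPowerSeries (Fin r) A)) 𝔫)) :=
    IsLocalization.isNoetherianRing
      (Ideal.comap (algebraMap A (MvPowerSeries (Fin r) A)) 𝔫).primeCompl _ inferInstance
  have hG := hA.2 (Ideal.comap (algebraMap A (MvPowerSeries (Fin r) A)) 𝔫)
  have h1 : CAlgX.IsAdicFormallySmooth A (MvPowerSeries (Fin r) A) 𝔫 :=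
    isAdicFormallySmooth_mvPowerSeries_self A r 𝔫 (X_mem_of_isMaximal A r 𝔫)
  have h2 := Groth.Agent.Lib.GeomRegAdicH3.adic_localization 𝔫 h1 𝔫.primeCompl
  have h3 : CAlgX.IsAdicFormallySmooth A (Localization.AtPrime 𝔫)
      (maximalIdeal (Localization.AtPrime 𝔫)) := by
    rw [← Localization.AtPrime.map_eq_maximalIdeal]
    exact h2
  have h4 := Groth.Agent.Lib.AdicFSTransferH3.adic_of_formallyUnramified_base A
    (Localization.AtPrime (Ideal.comap (algebraMap A (MvPowerSeries (Fin r) A)) 𝔫))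
    (Localization.AtPrime 𝔫) _ h3
  exact Groth.Agent.Lib.LocFSH3.main9314 _ _ hG h4

end Main

end Groth.Agent.Lib.GRingPSH3
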