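import Mathlib
import Groth.Prelude.Def_Hensel
import Groth.Agent.Lib.IndEtaleLoc2_helper3
import Groth.Agent.Lib.IndEtale3_helper3
import Groth.Agent.Lib.IndEtaleNil_helper3

/-!
# Fibres of ind-étale algebras (helper3)
-/

set_option autoImplicit false
set_option maxSynthPendingDepth 3
universe u

namespace Groth.Agent.Lib.IndEtaleH3

open IsLocalRing TensorProduct

variable {A B : Type u} [CommRing A] [CommRing B] [Algebra A B]

theorem finite_liesOver_of_isIndEtale (h : EtPBC.IsIndEtale A B) [IsNoetherianRing B]
    (p : Ideal A) [p.IsPrime] : {q : PrimeSpectrum B | q.asIdeal.LiesOver p}.Finite := by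
  have hfin := Ideal.finite_minimalPrimes_of_isNoetherianRing B (p.map (algebraMap A B))
  have hinj : Function.Injective (PrimeSpectrum.asIdeal : PrimeSpectrum B → Ideal B) :=
    fun x y hxy => PrimeSpectrum.ext hxy
  refine Set.Finite.subset (hfin.preimage hinj.injOn) ?_
  intro q hq
  have hq' : q.asIdeal.LiesOver p := hq
  have h1 : q.asIdeal.comap (algebraMap A B) = p := (hq'.over).symm
  have h2 := mem_minimalPrimes_map_comap_of_isIndEtale h q.asIdeal
  rw [h1] at h2
  exact h2

theorem isReduced_of_isIndEtale [IsReduced A] (h : EtPBC.IsIndEtale A B) : IsReduced B := by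
  rw [← nilradical_eq_bot_iff, ← nilradical_map_of_isIndEtale h, nilradical_eq_zero A,
    Ideal.zero_eq_bot, Ideal.map_bot]

theorem ringKrullDim_le_zero_of_isIndEtale_field {k F : Type u} [Field k] [CommRing F]
    [Algebra k F] (h : EtPBC.IsIndEtale k F) : ringKrullDim F ≤ 0 := by
  rw [ringKrullDim, Order.krullDim_nonpos_iff_forall_isMax]
  intro x y hxy
  have h1 : x.asIdeal = y.asIdeal :=
    prime_eq_of_le_of_isIndEtale h x.asIdeal y.asIdeal hxy (by
      rw [Ideal.eq_bot_of_prime (x.asIdeal.comap (algebraMap k F)),
        Ideal.eq_bot_of_prime (y.asIdeal.comap (algebraMap k F))])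
  exact (PrimeSpectrum.ext h1).ge

theorem isSeparable_residueField_of_isIndEtale (h : EtPBC.IsIndEtale A B) (p : Ideal A)
    [p.IsPrime] (q : Ideal B) [q.IsPrime] [q.LiesOver p] :
    @Algebra.IsSeparable p.ResidueField q.ResidueField _ _
      (Ideal.ResidueField.mapₐ p q (Algebra.ofId A B) (q.over_def p)).toRingHom.toAlgebra := by
  letI := (Ideal.ResidueField.mapₐ p q (Algebra.ofId A B) (q.over_def p)).toRingHom.toAlgebra
  refine ⟨fun x => ?_⟩
  obtain ⟨z, rfl⟩ := IsLocalRing.residue_surjective x
  obtain ⟨b, s, rfl⟩ := IsLocalization.exists_mk'_eq q.primeCompl z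
  classical
  obtain ⟨C, _, _, _, f, hf⟩ := exists_finset_of_isIndEtale h {b, (s : B)}
  obtain ⟨cb, hcb⟩ := hf b (by simp)
  obtain ⟨cs, hcs⟩ := hf s (by simp)
  let qC : Ideal C := q.comap f.toRingHom
  haveI : qC.IsPrime := Ideal.comap_isPrime _ _
  have hfa : f.toRingHom.comp (algebraMap A C) = algebraMap A B := f.comp_algebraMap
  haveI : qC.LiesOver p := ⟨by
    rw [Ideal.under_def, Ideal.comap_comap, hfa]
    exact q.over_def p⟩
  have hcs' : cs ∈ qC.primeCompl := by
    intro hmem
    apply s.2
    rw [← hcs]
    exact hmem
  letI := Localization.AtPrime.algebraOfLiesOver p qC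
  have hsep : Algebra.IsSeparable p.ResidueField qC.ResidueField := inferInstance
  let y : qC.ResidueField :=
    IsLocalRing.residue _ (IsLocalization.mk' (Localization.AtPrime qC) cb ⟨cs, hcs'⟩)
  have hy : IsSeparable p.ResidueField y := Algebra.IsSeparable.isSeparable _ y
  let φ₀ : qC.ResidueField →+* q.ResidueField := Ideal.ResidueField.map qC q f.toRingHom rfl
  let φ : qC.ResidueField →ₐ[p.ResidueField] q.ResidueField :=
    { φ₀ with
      commutes' := fun r => by
        have : φ₀.comp (algebraMap p.ResidueField qC.ResidueField) =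
            algebraMap p.ResidueField q.ResidueField := by
          apply Ideal.ResidueField.ringHom_ext
          ext a
          simp only [RingHom.comp_apply]
          rw [← IsScalarTower.algebraMap_apply A p.ResidueField qC.ResidueField,
            IsScalarTower.algebraMap_apply A C qC.ResidueField]
          have h1 : φ₀ (algebraMap C qC.ResidueField (algebraMap A C a)) =
              algebraMap B q.ResidueField (f.toRingHom (algebraMap A C a)) :=
            Ideal.ResidueField.map_algebraMap qC q f.toRingHom rfl _
          have h2 : algebraMap p.ResidueField q.ResidueField (algebraMap A p.ResidueField a) =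
              algebraMap B q.ResidueField ((Algebra.ofId A B : A →+* B) a) :=
            Ideal.ResidueField.map_algebraMap p q (Algebra.ofId A B : A →+* B) (q.over_def p) a
          rw [h1, h2]
          congr 1
          exact f.commutes a
        exact DFunLike.congr_fun this r }
  have hφy : φ y = IsLocalRing.residue _
      (IsLocalization.mk' (Localization.AtPrime q) b s) := by
    show IsLocalRing.ResidueField.map (Localization.localRingHom qC q f.toRingHom rfl)
      (IsLocalRing.residue _ (IsLocalization.mk' (Localization.AtPrime qC) cb ⟨cs, hcs'⟩)) = _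
    rw [IsLocalRing.ResidueField.map_residue, Localization.localRingHom_mk']
    have e1 : f.toRingHom cb = b := hcb
    have e2 : (⟨f.toRingHom cs, hcs'⟩ : q.primeCompl) = s := Subtype.ext hcs
    simp only [e1, e2]
  rw [← hφy]
  exact hy.map φ φ.injective

end Groth.Agent.Lib.IndEtaleH3
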