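import Mathlib
import Groth.Prelude.Def_EGA4b
import Groth.Agent.Lib.AdicFSTransfer_helper3
import Groth.Agent.Lib.GRingFS_helper3
import Groth.Agent.Lib.GRingMaximal_helper3
import Groth.Agent.Lib.RegHomBC_helper3
import Groth.Agent.Lib.RegHomField_helper3
import Groth.Agent.Lib.FFTransfer_helper3
import Groth.Agent.Lib.ComplMapIso_helper3
import Groth.Agent.Lib.IndEtale1_helper3
import Groth.Agent.Lib.IndEtale3_helper3
import Groth.Agent.Lib.IndEtale4_helper3
import Groth.Agent.Lib.IndEtaleFib_helper3
import Groth.Agent.Lib.AnUnram_helper3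

/-!
# Formal fibres along ind-étale local homomorphisms with the same completion (helper3)
-/

set_option autoImplicit false

namespace Groth.Agent.Lib.HensGRingH3

universe u

open TensorProduct IsLocalRing

section IndEtale

variable (R S : Type u) [CommRing R] [CommRing S] [Algebra R S]

/-- (E) An ind-étale algebra is formally unramified. -/
theorem formallyUnramified_of_isIndEtale (h : EtPBC.IsIndEtale R S) :
    Algebra.FormallyUnramified R S := by
  rw [Algebra.FormallyUnramified.iff_comp_injective]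
  intro B _ _ I hI f₁ f₂ e
  ext s
  obtain ⟨C, _, _, _, φ, c, rfl⟩ := Groth.Agent.Lib.IndEtaleH3.exists_of_isIndEtale h s
  have h1 : f₁.comp φ = f₂.comp φ := by
    apply Algebra.FormallyUnramified.comp_injective I hI
    rw [← AlgHom.comp_assoc, ← AlgHom.comp_assoc, e]
  exact DFunLike.congr_fun h1 c

/-- (H1) A Noetherian ind-étale algebra is regular over the base. -/
theorem isRegularHom_of_isIndEtale [IsNoetherianRing S] (h : EtPBC.IsIndEtale R S) :
    CAlg.IsRegularHom R S := by
  have hflat : Module.Flat R S := Groth.Agent.Lib.IndEtaleH3.flat_of_isIndEtale h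
  refine Groth.Agent.Lib.RegFlatH3.isRegularHom_of_forall_finite R S hflat
    (fun p _ => Groth.Agent.Lib.RegFlatH3.isNoetherianRing_fiber _ _ p) ?_
  intro p hp K _ _ _ _ hfin
  haveI := hfin
  haveI : IsNoetherianRing (p.Fiber S) := Groth.Agent.Lib.RegFlatH3.isNoetherianRing_fiber _ _ p
  haveI : IsNoetherianRing (K ⊗[R] S) :=
    Groth.Agent.Lib.RegFlatH3.isNoetherianRing_tensor_of_finite_residueField R S p K
  have hF : EtPBC.IsIndEtale K (K ⊗[R] S) := Groth.Agent.Lib.IndEtaleH3.isIndEtale_baseChange R S K h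
  haveI : IsReduced (K ⊗[R] S) := Groth.Agent.Lib.IndEtaleH3.isReduced_of_isIndEtale hF
  haveI : Ring.KrullDimLE 0 (K ⊗[R] S) :=
    Ring.krullDimLE_iff.mpr (Groth.Agent.Lib.IndEtaleH3.ringKrullDim_le_zero_of_isIndEtale_field hF)
  haveI : IsArtinianRing (K ⊗[R] S) := isArtinianRing_iff_isNoetherianRing_krullDimLE_zero.mpr
    ⟨inferInstance, inferInstance⟩
  exact Groth.Agent.Lib.RegHomFieldH3.isRegularRing_of_isArtinian_of_isReduced _

end IndEtale

section AdicOfReg

variable (A B : Type u) [CommRing A] [CommRing B] [Algebra A B]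

/-- (G) For a regular homomorphism `A → B` with `B` Noetherian, every `A → B_𝔓` is adic formally
smooth. -/
theorem adic_localization_of_isRegularHom [IsNoetherianRing B] (h : CAlg.IsRegularHom A B)
    (𝔓 : Ideal B) [𝔓.IsPrime] :
    CAlgX.IsAdicFormallySmooth A (Localization.AtPrime 𝔓)
      (maximalIdeal (Localization.AtPrime 𝔓)) := by
  obtain ⟨q, hq⟩ : ∃ q : Ideal A, q = 𝔓.comap (algebraMap A B) := ⟨_, rfl⟩
  haveI hqprime : q.IsPrime := by rw [hq]; exact Ideal.comap_isPrime _ _
  haveI : IsNoetherianRing (Localization.AtPrime 𝔓) :=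
    IsLocalization.isNoetherianRing 𝔓.primeCompl _ inferInstance
  have hunit : ∀ s : q.primeCompl, IsUnit (algebraMap A (Localization.AtPrime 𝔓) s) := by
    intro s
    rw [IsScalarTower.algebraMap_apply A B (Localization.AtPrime 𝔓)]
    refine IsLocalization.map_units (Localization.AtPrime 𝔓)
      (⟨algebraMap A B s, fun hmem => s.2 (hq.ge (show (s : A) ∈ 𝔓.comap (algebraMap A B) from
        hmem))⟩ : 𝔓.primeCompl)
  letI algqP : Algebra (Localization.AtPrime q) (Localization.AtPrime 𝔓) :=
    (IsLocalization.lift (M := q.primeCompl) (g := algebraMap A (Localization.AtPrime 𝔓))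
      hunit).toAlgebra
  haveI tow : IsScalarTower A (Localization.AtPrime q) (Localization.AtPrime 𝔓) :=
    IsScalarTower.of_algebraMap_eq (fun a =>
      (IsLocalization.lift_eq (M := q.primeCompl) hunit a).symm)
  have h1 : CAlg.IsRegularHom A (Localization.AtPrime 𝔓) :=
    Groth.Agent.Lib.RegHomBCH3.isRegularHom_localization_target A B h 𝔓.primeCompl _
  have h2 : CAlg.IsRegularHom (Localization.AtPrime q) (Localization.AtPrime 𝔓) :=
    Groth.Agent.Lib.GRingMaximalH3.isRegularHom_localization_source A _ h1 q.primeCompl _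
  haveI hloc : IsLocalHom (algebraMap (Localization.AtPrime q) (Localization.AtPrime 𝔓)) := by
    apply ((IsLocalRing.local_hom_TFAE (algebraMap (Localization.AtPrime q)
      (Localization.AtPrime 𝔓))).out 0 4).mpr
    have hmq : (maximalIdeal (Localization.AtPrime q)).comap
        (algebraMap A (Localization.AtPrime q)) = q :=
      IsLocalization.AtPrime.under_maximalIdeal (Localization.AtPrime q) q
    have hmP : (maximalIdeal (Localization.AtPrime 𝔓)).comap
        (algebraMap B (Localization.AtPrime 𝔓)) = 𝔓 :=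
      IsLocalization.AtPrime.under_maximalIdeal (Localization.AtPrime 𝔓) 𝔓
    have hI := IsLocalization.map_under q.primeCompl (Localization.AtPrime q)
      ((maximalIdeal (Localization.AtPrime 𝔓)).comap
        (algebraMap (Localization.AtPrime q) (Localization.AtPrime 𝔓)))
    have hJ := IsLocalization.map_under q.primeCompl (Localization.AtPrime q)
      (maximalIdeal (Localization.AtPrime q))
    rw [Ideal.under_def] at hI hJ
    rw [← hI, ← hJ, hmq, Ideal.comap_comap, ← IsScalarTower.algebraMap_eq,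
      IsScalarTower.algebraMap_eq A B (Localization.AtPrime 𝔓), ← Ideal.comap_comap, hmP, ← hq]
  have h3 := (Groth.Agent.Lib.GRingFSH3.isFormallySmoothAdic_of_isRegularHom
    (Localization.AtPrime q) (Localization.AtPrime 𝔓) h2).1
  haveI : Algebra.FormallySmooth A (Localization.AtPrime q) :=
    Algebra.FormallySmooth.of_isLocalization q.primeCompl
  exact Groth.Agent.Lib.AdicFSTransferH3.adic_of_formallySmooth_base A (Localization.AtPrime q)
    (Localization.AtPrime 𝔓) _ h3

end AdicOfReg

section Main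

variable (R S : Type u) [CommRing R] [CommRing S] [IsNoetherianRing R] [IsNoetherianRing S]
  [IsLocalRing R] [IsLocalRing S] [Algebra R S] [IsLocalHom (algebraMap R S)]

open Groth.Agent.Lib.FFTransferH3 in
/-- (F) If `R → R̂` is regular and `R̂ → Ŝ` is bijective, then `R → Ŝ` is regular. -/
theorem isRegularHom_base_cpl [Module.Flat R S]
    (hbij : Function.Bijective (psi R S)) (hR : CAlg.IsRegularHom R (EGA4.Cpl R)) :
    CAlg.IsRegularHom R (EGA4.Cpl S) := by
  haveI := tower' R S
  haveI := noeth_cpl S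
  haveI := noeth_cpl R
  haveI hflat : Module.Flat R (EGA4.Cpl S) := flat_base R S
  let ψₐ : EGA4.Cpl R →ₐ[R] EGA4.Cpl S :=
    { psi R S with
      commutes' := fun r => psi_of R S r }
  let e : EGA4.Cpl R ≃ₐ[R] EGA4.Cpl S := AlgEquiv.ofBijective ψₐ hbij
  refine Groth.Agent.Lib.RegFlatH3.isRegularHom_of_forall_finite R (EGA4.Cpl S) hflat
    (fun p _ => Groth.Agent.Lib.RegFlatH3.isNoetherianRing_fiber _ _ p) ?_
  intro p hp K _ _ _ _ hfin
  haveI := hfin
  haveI : IsNoetherianRing (p.Fiber (EGA4.Cpl R)) :=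
    Groth.Agent.Lib.RegFlatH3.isNoetherianRing_fiber _ _ p
  haveI : IsNoetherianRing (K ⊗[R] EGA4.Cpl R) :=
    Groth.Agent.Lib.RegFlatH3.isNoetherianRing_tensor_of_finite_residueField R _ p K
  haveI := Groth.Agent.Lib.RegFlatH3.isRegularRing_tensor_of_isRegularHom R (EGA4.Cpl R) hR K
  let e' : K ⊗[R] EGA4.Cpl R ≃ₐ[R] K ⊗[R] EGA4.Cpl S :=
    Algebra.TensorProduct.congr AlgEquiv.refl e
  exact IsRegularRing.of_ringEquiv (R := K ⊗[R] EGA4.Cpl R) e'.toRingEquiv

open Groth.Agent.Lib.FFTransferH3 in
/-- Let `R → S` be an ind-étale local homomorphism of Noetherian local rings inducing an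
isomorphism on completions. If `R → R̂` is regular, so is `S → Ŝ`. -/
theorem isRegularHom_cpl_of_isIndEtale (h : EtPBC.IsIndEtale R S)
    (hbij : Function.Bijective (psi R S)) (hR : CAlg.IsRegularHom R (EGA4.Cpl R)) :
    CAlg.IsRegularHom S (EGA4.Cpl S) := by
  haveI : Module.Flat R S := Groth.Agent.Lib.IndEtaleH3.flat_of_isIndEtale h
  haveI := tower' R S
  haveI := noeth_cpl S
  obtain ⟨hloc, hnoeth, hcompl, hff, hlh, hmap⟩ := Groth.Agent.Lib.AnUnramH3.completion_facts S
  haveI := hff
  haveI : Module.Flat S (EGA4.Cpl S) := inferInstance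
  haveI := formallyUnramified_of_isIndEtale R S h
  have h1 := isRegularHom_base_cpl R S hbij hR
  apply Groth.Agent.Lib.AdicFSTransferH3.isRegularHom_of_forall_adic
  intro 𝔓 h𝔓
  have h2 := adic_localization_of_isRegularHom R (EGA4.Cpl S) h1 𝔓
  exact Groth.Agent.Lib.AdicFSTransferH3.adic_of_formallyUnramified_base R S
    (Localization.AtPrime 𝔓) _ h2

end Main

end Groth.Agent.Lib.HensGRingH3
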