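import Mathlib
import Groth.Prelude.Def_PBC
import Groth.Agent.Lib.IndEtale2_helper3
import Groth.Agent.Lib.EssEt_lead

/-!
# Ind-étale algebras, part 5: maps from ind-étale algebras to henselian local rings (helper3)
-/

set_option autoImplicit false
universe u

open CategoryTheory Limits TensorProduct IsLocalRing

namespace Groth.Agent.Lib.IndEtaleH3

section Lift

variable {R T K : Type u} [CommRing R] [CommRing T] [Field K] [HenselianLocalRing T]
  [Algebra R T] [Algebra R K] (u' : T →ₐ[R] K) (hu' : Function.Surjective u')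
  (hku' : RingHom.ker u'.toRingHom = maximalIdeal T)

include hu' hku' in
/-- Unique lifting of points of étale algebras to a henselian local ring. -/
theorem existsUnique_lift_etale (C : Type u) [CommRing C] [Algebra R C] [Algebra.Etale R C]
    (v : C →ₐ[R] K) : ∃! l : C →ₐ[R] T, u'.comp l = v := by
  have hmem : ∀ t : T, u' t = 0 ↔ t ∈ maximalIdeal T := fun t => by
    rw [← hku']; exact RingHom.mem_ker.symm
  -- the induced map on the residue field
  let ubar : ResidueField T →ₐ[R] K :=
    Ideal.Quotient.liftₐ (maximalIdeal T) u' (fun t ht => (hmem t).mpr ht)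
  have hubar : ∀ t, ubar (residue T t) = u' t := fun t => rfl
  have hbij : Function.Bijective ubar := by
    refine ⟨(ubar : ResidueField T →+* K).injective, fun k => ?_⟩
    obtain ⟨t, rfl⟩ := hu' k
    exact ⟨residue T t, rfl⟩
  let e : ResidueField T ≃ₐ[R] K := AlgEquiv.ofBijective ubar hbij
  let ρ : C →ₐ[R] ResidueField T := e.symm.toAlgHom.comp v
  have hρ : ∀ c, e (ρ c) = v c := fun c => e.apply_symm_apply _
  haveI : (RingHom.ker ρ.toRingHom).IsPrime := RingHom.ker_isPrime _
  obtain ⟨φ, hφ⟩ := Groth.Agent.Lib.EssEt.exists_lift_of_henselian (A := R) (C := C) (B := T)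
    (RingHom.ker ρ.toRingHom) ρ (fun c => RingHom.mem_ker.symm)
  refine ⟨φ.comp (IsScalarTower.toAlgHom R C _), ?_, fun l' hl' => ?_⟩
  · ext c
    show u' (φ (algebraMap C _ c)) = v c
    rw [← hubar, hφ c]
    exact hρ c
  · apply Groth.Agent.Lib.EssEt.algHom_eq_of_residue_eq
    intro c
    rw [← hmem, map_sub, sub_eq_zero]
    have h1 : u' (l' c) = v c := congr($hl' c)
    rw [h1]
    show v c = u' (φ (algebraMap C _ c))
    rw [← hubar, hφ c]
    exact (hρ c).symm

include hu' hku' in
/-- Maps from an ind-étale algebra to a henselian local ring are determined by, and can be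
prescribed by, the induced point in the residue field. -/
theorem existsUnique_algHom_of_henselian {S : Type u} [CommRing S] [Algebra R S]
    (hS : EtPBC.IsIndEtale R S) (u : S →ₐ[R] K) : ∃! φ : S →ₐ[R] T, u'.comp φ = u := by
  obtain ⟨J, _, _, D, c, hc, het, ⟨e⟩⟩ := hS
  have key : ∀ j, ∃! l : @AlgHom R (D.obj j).right T _ _ _ (algObj D j) _,
      @AlgHom.comp R (D.obj j).right T K _ _ _ _ (algObj D j) _ _ u' l =
        @AlgHom.comp R (D.obj j).right S K _ _ _ _ (algObj D j) _ _ u (ιB c e j) := fun j => by
    letI := algObj D j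
    haveI : Algebra.Etale R (D.obj j).right := het j
    exact existsUnique_lift_etale u' hu' hku' _ _
  choose l hl hluniq using key
  have hl' : ∀ j (y : (D.obj j).right), u' (l j y) = u (ιB c e j y) := fun j y => by
    let _ := algObj D j
    exact congr($(hl j) y)
  have hnat : ∀ {j k : J} (t : j ⟶ k) (y : (D.obj j).right), l k (trB D t y) = l j y := by
    intro j k t y
    letI := algObj D j
    letI := algObj D k
    have : (l k).comp (trB D t) = l j := by
      apply hluniq j
      ext z
      show u' (l k (trB D t z)) = u (ιB c e j z)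
      rw [hl', ιB_trB]
    exact congr($this y)
  let lr : ∀ j, (D.obj j).right →+* T := fun j =>
    @AlgHom.toRingHom R (D.obj j).right T _ _ _ (algObj D j) _ (l j)
  let s : Cocone D :=
    { pt := Under.mk (CommRingCat.ofHom (algebraMap R T))
      ι :=
        { app := fun j => Under.homMk (CommRingCat.ofHom (lr j)) (by
            let _ := algObj D j
            ext r
            exact (l j).commutes r)
          naturality := fun j k t => by
            ext y
            exact hnat t y } }
  let Φ : Under.mk (CommRingCat.ofHom (algebraMap R S)) ⟶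
      Under.mk (CommRingCat.ofHom (algebraMap R T)) := e.inv ≫ hc.desc s
  have hΦι : ∀ j (y : (D.obj j).right), Φ.right.hom (ιB c e j y) = l j y := by
    intro j y
    have h1 : (hc.desc s).right.hom ((c.ι.app j).right.hom y) = l j y := by
      have h0 := congr($(hc.fac s j).right.hom y)
      exact h0
    show (hc.desc s).right.hom ((eRight c e).inv.hom ((eRight c e).hom.hom
      ((c.ι.app j).right.hom y))) = l j y
    rw [eRight_inv_hom, h1]
  let φ : S →ₐ[R] T :=
    { Φ.right.hom with
      commutes' := fun r => by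
        have := congr($(Under.w Φ).hom r)
        exact this }
  have hφ : ∀ x, φ x = Φ.right.hom x := fun x => rfl
  refine ⟨φ, ?_, fun φ' hφ' => ?_⟩
  · ext x
    obtain ⟨j, y, rfl⟩ := exists_ιB c e hc x
    show u' (φ (ιB c e j y)) = u (ιB c e j y)
    rw [hφ, hΦι, hl']
  · ext x
    obtain ⟨j, y, rfl⟩ := exists_ιB c e hc x
    rw [hφ, hΦι]
    let _ := algObj D j
    have : φ'.comp (ιB c e j) = l j := by
      apply hluniq j
      rw [← AlgHom.comp_assoc, hφ']
    exact congr($this y)

end Lift

section Equiv

variable {R S S' K : Type u} [CommRing R] [CommRing S] [CommRing S'] [Field K]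
  [HenselianLocalRing S] [HenselianLocalRing S'] [Algebra R S] [Algebra R S'] [Algebra R K]

theorem existsUnique_algEquiv_of_henselian (hS : EtPBC.IsIndEtale R S)
    (hS' : EtPBC.IsIndEtale R S')
    (u : S →ₐ[R] K) (u' : S' →ₐ[R] K) (hu : Function.Surjective u) (hu' : Function.Surjective u')
    (hku : RingHom.ker u.toRingHom = maximalIdeal S)
    (hku' : RingHom.ker u'.toRingHom = maximalIdeal S') :
    ∃! e : S ≃ₐ[R] S', u'.comp (e : S →ₐ[R] S') = u := by
  obtain ⟨φ, hφ, hφuniq⟩ := existsUnique_algHom_of_henselian u' hu' hku' hS u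
  obtain ⟨ψ, hψ, -⟩ := existsUnique_algHom_of_henselian u hu hku hS' u'
  obtain ⟨i, -, hiuniq⟩ := existsUnique_algHom_of_henselian u hu hku hS u
  obtain ⟨i', -, hi'uniq⟩ := existsUnique_algHom_of_henselian u' hu' hku' hS' u'
  have h1 : ψ.comp φ = AlgHom.id R S := by
    rw [hiuniq (ψ.comp φ) (by
      show u.comp (ψ.comp φ) = u
      rw [← AlgHom.comp_assoc, hψ, hφ]), hiuniq (AlgHom.id R S) (by simp)]
  have h2 : φ.comp ψ = AlgHom.id R S' := by
    rw [hi'uniq (φ.comp ψ) (by
      show u'.comp (φ.comp ψ) = u'
      rw [← AlgHom.comp_assoc, hφ, hψ]),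
      hi'uniq (AlgHom.id R S') (by simp)]
  refine ⟨AlgEquiv.ofAlgHom φ ψ h2 h1, ?_, fun e' he' => ?_⟩
  · ext x
    exact congr($hφ x)
  · ext x
    have := hφuniq (e' : S →ₐ[R] S') he'
    exact congr($this x)

end Equiv

end Groth.Agent.Lib.IndEtaleH3
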