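import Mathlib
import Groth.Prelude.Def_EGA4b
import Groth.Prelude.Def_Hensel
import Groth.Agent.Lib.HensGRing_helper3
import Groth.Agent.Lib.GRingIso_helper3
import Groth.Agent.Lib.LocFS4_helper3
import Groth.Agent.Lib.StrictHens9_lead
import Groth.Agent.Lib.IndEtale5_helper3
import Groth.Agent.Lib.SmoothReg_helper3

/-!
# The strict henselization of a Noetherian local G-ring is a G-ring (helper3)

* `existsUnique_algHom_of_forall_etale`: gluing unique lifts along a filtered colimit of étale
  algebras.
* `formallyEtale_of_isIndEtale`: ind-étale algebras are formally étale.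
* `isRegularHom_cpl_of_adic`: `A → Â` regular and `A → B` adically formally smooth ⇒ `A → B̂`
  regular.
* `isRegularHom_cpl_of_isIndEtale_of_isGRing`: `R → S` local ind-étale, `R → R̂` regular
  ⇒ `S → Ŝ` regular.
APPEND-ONLY once landed.
-/

set_option autoImplicit false
set_option maxSynthPendingDepth 3

universe u

open CategoryTheory Limits TensorProduct IsLocalRing

namespace Groth.Agent.Lib.ShGRingH3

open Groth.Agent.Lib.IndEtaleH3

section Lift

variable {R T K : Type u} [CommRing R] [CommRing T] [CommRing K]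
  [Algebra R T] [Algebra R K] (u' : T →ₐ[R] K)

/-- If maps from étale algebras to `K` lift uniquely along `u' : T → K`, so do maps from
ind-étale algebras. -/
theorem existsUnique_algHom_of_forall_etale
    (key : ∀ (C : Type u) [CommRing C] [Algebra R C] [Algebra.Etale R C] (v : C →ₐ[R] K),
      ∃! l : C →ₐ[R] T, u'.comp l = v)
    {S : Type u} [CommRing S] [Algebra R S]
    (hS : EtPBC.IsIndEtale R S) (u : S →ₐ[R] K) : ∃! φ : S →ₐ[R] T, u'.comp φ = u := by
  obtain ⟨J, _, _, D, c, hc, het, ⟨e⟩⟩ := hS
  have key' : ∀ j, ∃! l : @AlgHom R (D.obj j).right T _ _ _ (algObj D j) _,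
      @AlgHom.comp R (D.obj j).right T K _ _ _ _ (algObj D j) _ _ u' l =
        @AlgHom.comp R (D.obj j).right S K _ _ _ _ (algObj D j) _ _ u (ιB c e j) := fun j => by
    letI := algObj D j
    haveI : Algebra.Etale R (D.obj j).right := het j
    exact key _ _
  choose l hl hluniq using key'
  have hl' : ∀ j (y : (D.obj j).right), u' (l j y) = u (ιB c e j y) := fun j y => by
    let _ := algObj D j
    exact congr($(hl j) y)
  have hnat : ∀ {j k : J} (t : j ⟶ k) (y : (D.obj j).right), l k (trB D t y) = l j y := by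
    intro j k t y
    letI := algObj D j
    letI := algObj D k
    have : (l k).comp (trB D t) = l j := by
      apply hluniq j
      ext z
      show u' (l k (trB D t z)) = u (ιB c e j z)
      rw [hl', ιB_trB]
    exact congr($this y)
  let lr : ∀ j, (D.obj j).right →+* T := fun j =>
    @AlgHom.toRingHom R (D.obj j).right T _ _ _ (algObj D j) _ (l j)
  let s : Cocone D :=
    { pt := Under.mk (CommRingCat.ofHom (algebraMap R T))
      ι :=
        { app := fun j => Under.homMk (CommRingCat.ofHom (lr j)) (by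
            let _ := algObj D j
            ext r
            exact (l j).commutes r)
          naturality := fun j k t => by
            ext y
            exact hnat t y } }
  let Φ : Under.mk (CommRingCat.ofHom (algebraMap R S)) ⟶
      Under.mk (CommRingCat.ofHom (algebraMap R T)) := e.inv ≫ hc.desc s
  have hΦι : ∀ j (y : (D.obj j).right), Φ.right.hom (ιB c e j y) = l j y := by
    intro j y
    have h1 : (hc.desc s).right.hom ((c.ι.app j).right.hom y) = l j y := by
      have h0 := congr($(hc.fac s j).right.hom y)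
      exact h0
    show (hc.desc s).right.hom ((eRight c e).inv.hom ((eRight c e).hom.hom
      ((c.ι.app j).right.hom y))) = l j y
    rw [eRight_inv_hom, h1]
  let φ : S →ₐ[R] T :=
    { Φ.right.hom with
      commutes' := fun r => by
        have := congr($(Under.w Φ).hom r)
        exact this }
  have hφ : ∀ x, φ x = Φ.right.hom x := fun x => rfl
  refine ⟨φ, ?_, fun φ' hφ' => ?_⟩
  · ext x
    obtain ⟨j, y, rfl⟩ := exists_ιB c e hc x
    show u' (φ (ιB c e j y)) = u (ιB c e j y)
    rw [hφ, hΦι, hl']
  · ext x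
    obtain ⟨j, y, rfl⟩ := exists_ιB c e hc x
    rw [hφ, hΦι]
    let _ := algObj D j
    have : φ'.comp (ιB c e j) = l j := by
      apply hluniq j
      rw [← AlgHom.comp_assoc, hφ']
    exact congr($this y)

end Lift

section FEt

variable (R S : Type u) [CommRing R] [CommRing S] [Algebra R S]

/-- An ind-étale algebra is formally étale. -/
theorem formallyEtale_of_isIndEtale (h : EtPBC.IsIndEtale R S) : Algebra.FormallyEtale R S := by
  rw [Algebra.FormallyEtale.iff_comp_bijective]
  intro B _ _ I hI
  rw [Function.bijective_iff_existsUnique]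
  intro u
  exact existsUnique_algHom_of_forall_etale (Ideal.Quotient.mkₐ R I) (fun C _ _ _ v =>
    (Function.bijective_iff_existsUnique _).1
      (Algebra.FormallyEtale.comp_bijective R C I hI) v) h u

end FEt

section Main

variable (A B : Type u) [CommRing A] [CommRing B] [IsLocalRing A] [IsLocalRing B]
  [IsNoetherianRing A] [IsNoetherianRing B] [Algebra A B] [IsLocalHom (algebraMap A B)]

open Groth.Agent.Lib.FFTransferH3 Groth.Agent.Lib.LocFSH3 in
/-- `A → Â` regular and `A → B̂` adically formally smooth ⇒ `A → B̂` regular. -/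
theorem isRegularHom_cpl_of_adic_cpl (hA : CAlg.IsRegularHom A (EGA4.Cpl A))
    (h' : CAlgX.IsAdicFormallySmooth A (EGA4.Cpl B) (maximalIdeal (EGA4.Cpl B))) :
    CAlg.IsRegularHom A (EGA4.Cpl B) := by
  obtain ⟨hlocA, hnoethA, hcomplA, hffA, hlhA, hmapA⟩ := AnUnramH3.completion_facts A
  obtain ⟨hlocB, hnoethB, hcomplB, hffB, hlhB, hmapB⟩ := AnUnramH3.completion_facts B
  haveI := hlocA
  haveI := hnoethA
  haveI := hcomplA
  haveI := hlocB
  haveI := hnoethB
  haveI := hcomplB
  haveI := hffB
  letI := algCpl A B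
  haveI := tower A B
  haveI := tower' A B
  haveI := isLocalHom_cpl A B
  have hle : (maximalIdeal A).map (algebraMap A (EGA4.Cpl B)) ≤ maximalIdeal (EGA4.Cpl B) :=
    map_le_cpl A B
  have h1 : CAlgX.IsAdicFormallySmooth (EGA4.Cpl A) (EGA4.Cpl B) (maximalIdeal (EGA4.Cpl B)) :=
    adic_cpl_base _ hle h'
  have h2 : CAlg.IsRegularHom (EGA4.Cpl A) (EGA4.Cpl B) :=
    isRegularHom_of_adic (EGA4.Cpl A) (EGA4.Cpl B) h1
  exact Groth.Agent.S9294.result A (EGA4.Cpl A) (EGA4.Cpl B) hA h2
      (fun p _ => Groth.Agent.Lib.RegFlatH3.isNoetherianRing_fiber A (EGA4.Cpl B) p)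

/-- `A → Â` regular and `A → B` adically formally smooth ⇒ `A → B̂` regular. -/
theorem isRegularHom_cpl_of_adic (hA : CAlg.IsRegularHom A (EGA4.Cpl A))
    (h : CAlgX.IsAdicFormallySmooth A B (maximalIdeal B)) :
    CAlg.IsRegularHom A (EGA4.Cpl B) := by
  haveI : IsNoetherianRing (AdicCompletion (maximalIdeal B) B) :=
    Groth.Agent.RegularLib.isNoetherianRing_adicCompletion B (maximalIdeal B)
  have h0 : EGA41.IsFormallySmoothAdic A ⊥ B (maximalIdeal B) := (Groth.Agent.S4537.result _).1 h
  have h' := Groth.Agent.Lib.FSAdicComplH3.isFormallySmoothAdic_adicCompletion ⊥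
    (maximalIdeal B) h0
  rw [← AdicCompletion.maximalIdeal_eq_map] at h'
  exact isRegularHom_cpl_of_adic_cpl A B hA ((Groth.Agent.S4537.result _).2 h')

open Groth.Agent.Lib.FFTransferH3 in
/-- Let `R → S` be an ind-étale local homomorphism of Noetherian local rings.
If `R → R̂` is regular, so is `S → Ŝ`. -/
theorem isRegularHom_cpl_of_isIndEtale (h : EtPBC.IsIndEtale A B)
    (hR : CAlg.IsRegularHom A (EGA4.Cpl A)) :
    CAlg.IsRegularHom B (EGA4.Cpl B) := by
  haveI : Module.Flat A B := Groth.Agent.Lib.IndEtaleH3.flat_of_isIndEtale h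
  haveI := tower' A B
  haveI := noeth_cpl B
  obtain ⟨hloc, hnoeth, hcompl, hff, hlh, hmap⟩ := Groth.Agent.Lib.AnUnramH3.completion_facts B
  haveI := hff
  haveI : Module.Flat B (EGA4.Cpl B) := inferInstance
  haveI := Groth.Agent.Lib.HensGRingH3.formallyUnramified_of_isIndEtale A B h
  haveI : Algebra.FormallyEtale A B := formallyEtale_of_isIndEtale A B h
  have h1 : CAlg.IsRegularHom A (EGA4.Cpl B) :=
    isRegularHom_cpl_of_adic A B hR
      (Groth.Agent.Lib.SmoothRegH3.adic_of_formallySmooth (maximalIdeal B))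
  apply Groth.Agent.Lib.AdicFSTransferH3.isRegularHom_of_forall_adic
  intro 𝔓 h𝔓
  have h2 := Groth.Agent.Lib.HensGRingH3.adic_localization_of_isRegularHom A (EGA4.Cpl B) h1 𝔓
  exact Groth.Agent.Lib.AdicFSTransferH3.adic_of_formallyUnramified_base A B
    (Localization.AtPrime 𝔓) _ h2

end Main

section SH

variable {R S : Type u} [CommRing R] [IsLocalRing R] [IsNoetherianRing R]
  [CommRing S] [IsLocalRing S] [Algebra R S] [IsLocalHom (algebraMap R S)]

/-- S2046 -/
theorem main2046 (hR : CAlg.IsGRing R) [Hensel.IsStrictHenselization R S] : CAlg.IsGRing S := by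
  haveI hN : IsNoetherianRing S :=
    (Groth.Agent.Lib.StrictHens.isNoetherianRing_iff_of_isStrictHenselization (R := R) S).1
      inferInstance
  have hie : EtPBC.IsIndEtale R S :=
    Groth.Agent.Lib.StrictHens.isIndEtale_of_isStrictHenselization (R := R) S
  apply Groth.Agent.Lib.GRingIsoH3.isGRing_of_isRegularHom_cpl
  exact isRegularHom_cpl_of_isIndEtale R S hie
    (Groth.Agent.Lib.GRingIsoH3.isRegularHom_cpl_of_isGRing R hR)

end SH

end Groth.Agent.Lib.ShGRingH3
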