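import Mathlib
import Groth.Prelude.Def_EGA4b
import Groth.Agent.Lib.ShGRing_helper3
import Groth.Agent.Lib.GRingPoly_helper3
import Groth.Agent.Lib.GRingComplete_helper3
import Groth.Agent.Lib.GRingPS_helper3
import Groth.Agent.Lib.GeomNormal2_helper3
import Groth.Agent.Lib.IAdicRegular_helper3

/-!
# Geometrically normal formal fibres: essentially finite type algebras and power series (helper3)

* `isGRing_of_isLocalization`, `isGRing_of_essFiniteType`.
* `isNormalHom_cpl_of_adic`, `isNormalHom_of_adic`: the normal analogue of S9314: if `A → Â` is a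
  normal homomorphism and the local homomorphism `A → B` is adically formally smooth, then `A → B`
  is normal.
* `main2641`: formal fibres geometrically normal pass to essentially finite type local algebras.
* `main2705`: `A → A[[T]]` is normal if the local rings of `A` have geometrically normal formal
  fibres.
APPEND-ONLY once landed.
-/

set_option autoImplicit false
set_option maxSynthPendingDepth 3

universe u

open TensorProduct IsLocalRing

namespace Groth.Agent.Lib.NormalEssFTH3

section GRingLoc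

/-- A localization of a G-ring is a G-ring. -/
theorem isGRing_of_isLocalization {R : Type u} [CommRing R] (M : Submonoid R) (S : Type u)
    [CommRing S] [Algebra R S] [IsLocalization M S] (hR : CAlg.IsGRing R) : CAlg.IsGRing S := by
  haveI := hR.1
  haveI : IsNoetherianRing S := IsLocalization.isNoetherianRing M S inferInstance
  refine ⟨inferInstance, fun q hq => ?_⟩
  haveI : (q.comap (algebraMap R S)).IsPrime := Ideal.comap_isPrime _ _
  haveI : IsLocalization.AtPrime (Localization.AtPrime q) (q.comap (algebraMap R S)) :=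
    IsLocalization.isLocalization_isLocalization_atPrime_isLocalization M
      (Localization.AtPrime q) q
  let e : Localization.AtPrime (q.comap (algebraMap R S)) ≃ₐ[R] Localization.AtPrime q :=
    IsLocalization.algEquiv (q.comap (algebraMap R S)).primeCompl _ _
  exact Groth.Agent.Lib.GRingIsoH3.isRegularHom_cpl_of_ringEquiv e.toRingEquiv
    (hR.2 (q.comap (algebraMap R S)))

/-- An algebra essentially of finite type over a G-ring is a G-ring. -/
theorem isGRing_of_essFiniteType (R : Type u) [CommRing R] (hR : CAlg.IsGRing R) (S : Type u)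
    [CommRing S] [Algebra R S] [Algebra.EssFiniteType R S] : CAlg.IsGRing S := by
  have h0 : CAlg.IsGRing (Algebra.EssFiniteType.subalgebra R S) :=
    Groth.Agent.Lib.GRingPolyH3.main599 R hR _
  exact isGRing_of_isLocalization (Algebra.EssFiniteType.submonoid R S) S h0

/-- The identity of a Noetherian ring is a regular homomorphism. -/
theorem isRegularHom_self (R : Type u) [CommRing R] [IsNoetherianRing R] :
    CAlg.IsRegularHom R R := by
  refine Groth.Agent.Lib.RegFlatH3.isRegularHom_of_forall_finite R R inferInstance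
    (fun p _ => Groth.Agent.Lib.RegFlatH3.isNoetherianRing_fiber _ _ p) ?_
  intro p hp K _ _ _ _ hfin
  exact IsRegularRing.of_ringEquiv (R := K) (Algebra.TensorProduct.rid R K K).symm.toRingEquiv

/-- A localization of a Noetherian ring is regular over it. -/
theorem isRegularHom_of_isLocalization {R : Type u} [CommRing R] [IsNoetherianRing R]
    (M : Submonoid R) (S : Type u) [CommRing S] [Algebra R S] [IsLocalization M S] :
    CAlg.IsRegularHom R S :=
  Groth.Agent.Lib.RegHomBCH3.isRegularHom_localization_target R R (isRegularHom_self R) M S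

end GRingLoc

section Adic

variable (A B : Type u) [CommRing A] [CommRing B] [IsLocalRing A] [IsLocalRing B]
  [IsNoetherianRing A] [IsNoetherianRing B] [Algebra A B] [IsLocalHom (algebraMap A B)]

open Groth.Agent.Lib.FFTransferH3 Groth.Agent.Lib.LocFSH3 in
/-- `A → Â` normal and `A → B̂` adically formally smooth ⇒ `A → B̂` normal. -/
theorem isNormalHom_cpl_of_adic_cpl (hA : EGA4.IsNormalHom A (EGA4.Cpl A))
    (h' : CAlgX.IsAdicFormallySmooth A (EGA4.Cpl B) (maximalIdeal (EGA4.Cpl B))) :
    EGA4.IsNormalHom A (EGA4.Cpl B) := by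
  obtain ⟨hlocA, hnoethA, hcomplA, hffA, hlhA, hmapA⟩ := AnUnramH3.completion_facts A
  obtain ⟨hlocB, hnoethB, hcomplB, hffB, hlhB, hmapB⟩ := AnUnramH3.completion_facts B
  haveI := hlocA
  haveI := hnoethA
  haveI := hcomplA
  haveI := hlocB
  haveI := hnoethB
  haveI := hcomplB
  haveI := hffB
  letI := algCpl A B
  haveI := tower A B
  haveI := tower' A B
  haveI := isLocalHom_cpl A B
  have hle : (maximalIdeal A).map (algebraMap A (EGA4.Cpl B)) ≤ maximalIdeal (EGA4.Cpl B) :=
    map_le_cpl A B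
  have h1 : CAlgX.IsAdicFormallySmooth (EGA4.Cpl A) (EGA4.Cpl B) (maximalIdeal (EGA4.Cpl B)) :=
    adic_cpl_base _ hle h'
  have h2 : CAlg.IsRegularHom (EGA4.Cpl A) (EGA4.Cpl B) :=
    isRegularHom_of_adic (EGA4.Cpl A) (EGA4.Cpl B) h1
  exact Groth.Agent.Lib.GeomNormalH3.isNormalHom_comp A (EGA4.Cpl A) (EGA4.Cpl B) hA
    (isNormalHom_of_isRegularHom _ _ h2)

open Groth.Agent.Lib.FFTransferH3 in
/-- The normal analogue of S9314. -/
theorem isNormalHom_of_adic (hA : EGA4.IsNormalHom A (EGA4.Cpl A))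
    (h : CAlgX.IsAdicFormallySmooth A B (maximalIdeal B)) :
    EGA4.IsNormalHom A B := by
  haveI : IsNoetherianRing (AdicCompletion (maximalIdeal B) B) :=
    Groth.Agent.RegularLib.isNoetherianRing_adicCompletion B (maximalIdeal B)
  have h0 : EGA41.IsFormallySmoothAdic A ⊥ B (maximalIdeal B) := (Groth.Agent.S4537.result _).1 h
  have h' := Groth.Agent.Lib.FSAdicComplH3.isFormallySmoothAdic_adicCompletion ⊥
    (maximalIdeal B) h0
  rw [← AdicCompletion.maximalIdeal_eq_map] at h'
  have h1 := isNormalHom_cpl_of_adic_cpl A B hA ((Groth.Agent.S4537.result _).2 h')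
  obtain ⟨hlocB, hnoethB, hcomplB, hffB, hlhB, hmapB⟩ := AnUnramH3.completion_facts B
  haveI := hffB
  haveI := tower' A B
  exact Groth.Agent.Lib.IAdicRegularH3.isNormalHom_of_faithfullyFlat A B (EGA4.Cpl B) h1

end Adic

section EssFT

variable (A : Type u) [CommRing A] [IsNoetherianRing A] [IsLocalRing A]

/-- S2641 -/
theorem main2641 (hA : EGA4.HasGeomNormalFormalFibres A) (B : Type u) [CommRing B]
    [IsNoetherianRing B] [IsLocalRing B] [Algebra A B] [Algebra.EssFiniteType A B] :
    EGA4.HasGeomNormalFormalFibres B := by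
  obtain ⟨hlocA, hnoethA, hcomplA, hffA, hlhA, hmapA⟩ := AnUnramH3.completion_facts A
  haveI := hlocA
  haveI := hnoethA
  haveI := hcomplA
  haveI := hffA
  have hN : EGA4.IsNormalHom A (EGA4.Cpl A) := ⟨inferInstance, fun p _ => hA p⟩
  -- the base change `B' = B ⊗ Â`
  haveI : Algebra.EssFiniteType (EGA4.Cpl A) (EGA4.Cpl A ⊗[A] B) := inferInstance
  haveI : IsNoetherianRing (EGA4.Cpl A ⊗[A] B) :=
    Algebra.EssFiniteType.isNoetherianRing (EGA4.Cpl A) _
  have hG₀ : CAlg.IsGRing (EGA4.Cpl A ⊗[A] B) :=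
    isGRing_of_essFiniteType (EGA4.Cpl A)
      (Groth.Agent.Lib.GRingCompleteH3.isGRing_of_complete (EGA4.Cpl A)) _
  let ec : EGA4.Cpl A ⊗[A] B ≃+* B ⊗[A] EGA4.Cpl A :=
    (Algebra.TensorProduct.comm A (EGA4.Cpl A) B).toRingEquiv
  haveI : IsNoetherianRing (B ⊗[A] EGA4.Cpl A) := isNoetherianRing_of_ringEquiv _ ec
  have hG : CAlg.IsGRing (B ⊗[A] EGA4.Cpl A) :=
    Groth.Agent.Lib.GRingPolyH3.isGRing_of_surjective _ _ ec.toRingHom ec.surjective hG₀
  have hN' : EGA4.IsNormalHom B (B ⊗[A] EGA4.Cpl A) :=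
    Groth.Agent.Lib.GeomNormal2H3.isNormalHom_baseChange A (EGA4.Cpl A) B hN
  haveI : Module.FaithfullyFlat B (B ⊗[A] EGA4.Cpl A) := inferInstance
  -- a prime over the maximal ideal
  obtain ⟨𝔫, h𝔫⟩ := PrimeSpectrum.comap_surjective_of_faithfullyFlat (A := B)
    (B := B ⊗[A] EGA4.Cpl A) (closedPoint B)
  have h𝔫' : 𝔫.asIdeal.comap (algebraMap B (B ⊗[A] EGA4.Cpl A)) = maximalIdeal B :=
    congrArg PrimeSpectrum.asIdeal h𝔫
  haveI : 𝔫.asIdeal.LiesOver (maximalIdeal B) := ⟨h𝔫'.symm⟩
  haveI : IsNoetherianRing (Localization.AtPrime 𝔫.asIdeal) :=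
    IsLocalization.isNoetherianRing 𝔫.asIdeal.primeCompl _ inferInstance
  have hN'' : EGA4.IsNormalHom B (Localization.AtPrime 𝔫.asIdeal) :=
    Groth.Agent.Lib.GeomNormalH3.isNormalHom_comp B (B ⊗[A] EGA4.Cpl A)
      (Localization.AtPrime 𝔫.asIdeal) hN'
      (Groth.Agent.Lib.FFTransferH3.isNormalHom_of_isRegularHom _ _
        (isRegularHom_of_isLocalization 𝔫.asIdeal.primeCompl _))
  haveI : IsLocalHom (algebraMap B (Localization.AtPrime 𝔫.asIdeal)) := by
    refine ⟨fun b hb => ?_⟩
    by_contra hb'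
    have h1 : b ∈ maximalIdeal B := hb'
    rw [← h𝔫', Ideal.mem_comap] at h1
    have h2 : algebraMap (B ⊗[A] EGA4.Cpl A) (Localization.AtPrime 𝔫.asIdeal)
        (algebraMap B (B ⊗[A] EGA4.Cpl A) b) ∈ maximalIdeal (Localization.AtPrime 𝔫.asIdeal) := by
      rw [← Localization.AtPrime.map_eq_maximalIdeal]
      exact Ideal.mem_map_of_mem _ h1
    rw [← IsScalarTower.algebraMap_apply] at h2
    exact h2 hb
  exact Groth.Agent.Lib.FFTransferH3.hasGeomNormalFormalFibres_of_isNormalHom B
    (Localization.AtPrime 𝔫.asIdeal) hN'' (hG.2 𝔫.asIdeal)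

end EssFT

section PS

open Groth.Agent.Lib.RegHomLocalH3 Groth.Agent.Lib.GRingPSH3 MvPowerSeries in
/-- S2705 -/
theorem main2705 (A : Type u) [CommRing A] [IsNoetherianRing A]
    (hA : ∀ (p : Ideal A) [p.IsPrime], EGA4.HasGeomNormalFormalFibres (Localization.AtPrime p))
    (r : ℕ) : EGA4.IsNormalHom A (MvPowerSeries (Fin r) A) := by
  apply Groth.Agent.Lib.IAdicRegularH3.isNormalHom_of_forall_maximal A (MvPowerSeries (Fin r) A)
  intro 𝔫 h𝔫
  letI alg := (Localization.localRingHom
    (Ideal.comap (algebraMap A (MvPowerSeries (Fin r) A)) 𝔫) 𝔫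
    (algebraMap A (MvPowerSeries (Fin r) A)) rfl).toAlgebra
  haveI tow := isScalarTower_localRingHom A (MvPowerSeries (Fin r) A) 𝔫
  haveI hlh : IsLocalHom (algebraMap
      (Localization.AtPrime (Ideal.comap (algebraMap A (MvPowerSeries (Fin r) A)) 𝔫))
      (Localization.AtPrime 𝔫)) :=
    Localization.isLocalHom_localRingHom _ 𝔫 (algebraMap A (MvPowerSeries (Fin r) A)) rfl
  haveI : IsNoetherianRing (Localization.AtPrime 𝔫) :=
    IsLocalization.isNoetherianRing 𝔫.primeCompl _ inferInstance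
  haveI : IsNoetherianRing
      (Localization.AtPrime (Ideal.comap (algebraMap A (MvPowerSeries (Fin r) A)) 𝔫)) :=
    IsLocalization.isNoetherianRing
      (Ideal.comap (algebraMap A (MvPowerSeries (Fin r) A)) 𝔫).primeCompl _ inferInstance
  have hG := hA (Ideal.comap (algebraMap A (MvPowerSeries (Fin r) A)) 𝔫)
  obtain ⟨hloc₀, hnoeth₀, hcompl₀, hff₀, hlh₀, hmap₀⟩ := AnUnramH3.completion_facts
    (Localization.AtPrime (Ideal.comap (algebraMap A (MvPowerSeries (Fin r) A)) 𝔫))
  haveI := hff₀
  have hN : EGA4.IsNormalHom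
      (Localization.AtPrime (Ideal.comap (algebraMap A (MvPowerSeries (Fin r) A)) 𝔫))
      (EGA4.Cpl (Localization.AtPrime (Ideal.comap (algebraMap A (MvPowerSeries (Fin r) A)) 𝔫))) :=
    ⟨inferInstance, fun p _ => hG p⟩
  have h1 : CAlgX.IsAdicFormallySmooth A (MvPowerSeries (Fin r) A) 𝔫 :=
    isAdicFormallySmooth_mvPowerSeries_self A r 𝔫 (X_mem_of_isMaximal A r 𝔫)
  have h2 := Groth.Agent.Lib.GeomRegAdicH3.adic_localization 𝔫 h1 𝔫.primeCompl
  have h3 : CAlgX.IsAdicFormallySmooth A (Localization.AtPrime 𝔫)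
      (maximalIdeal (Localization.AtPrime 𝔫)) := by
    rw [← Localization.AtPrime.map_eq_maximalIdeal]
    exact h2
  have h4 := Groth.Agent.Lib.AdicFSTransferH3.adic_of_formallyUnramified_base A
    (Localization.AtPrime (Ideal.comap (algebraMap A (MvPowerSeries (Fin r) A)) 𝔫))
    (Localization.AtPrime 𝔫) _ h3
  exact isNormalHom_of_adic _ _ hN h4

end PS

end Groth.Agent.Lib.NormalEssFTH3
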