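import Mathlib

/-!
Finiteness of `(B/Ann M)/m_A` from finiteness of `M/m_A M` (helper9).  APPEND-ONLY once landed.
-/

set_option autoImplicit false
universe u v w

namespace Groth.Agent.FinAnn9

section noeth

variable (A : Type u) [CommRing A] (m : Ideal A) [hm : m.IsMaximal]
  (V : Type w) [AddCommGroup V] [Module A V] [Module.Finite A V]

/-- A finite module killed by a maximal ideal is Noetherian. -/
theorem isNoetherian_of_killed (h : ∀ a ∈ m, ∀ v : V, a • v = 0) : IsNoetherian A V := by
  letI : Field (A ⧸ m) := Ideal.Quotient.field m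
  have htors : Module.IsTorsionBySet A V (m : Set A) := by
    intro v a
    exact h a.1 a.2 v
  letI : Module (A ⧸ m) V := htors.module
  haveI : IsScalarTower A (A ⧸ m) V := htors.isScalarTower
  haveI : Module.Finite (A ⧸ m) V := Module.Finite.of_restrictScalars_finite A (A ⧸ m) V
  haveI : IsNoetherian (A ⧸ m) V := inferInstance
  constructor
  intro N
  let N' : Submodule (A ⧸ m) V :=
    { N with
      smul_mem' := by
        intro c x hx
        obtain ⟨a, rfl⟩ := Ideal.Quotient.mk_surjective c
        have : (Ideal.Quotient.mk m a) • x = a • x := by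
          rw [← Ideal.Quotient.algebraMap_eq, algebraMap_smul]
        rw [this]
        exact N.smul_mem a hx }
  obtain ⟨S, hS⟩ := (IsNoetherian.noetherian N' : N'.FG)
  refine ⟨S, ?_⟩
  have h1 := Submodule.restrictScalars_span A (A ⧸ m)
    (by rw [Ideal.Quotient.algebraMap_eq]; exact Ideal.Quotient.mk_surjective) (S : Set V)
  rw [← h1, hS]
  ext x
  rfl

end noeth

section filt

variable (A : Type u) (B : Type v) [CommRing A] [CommRing B] [Algebra A B] [IsNoetherianRing B]
  (a : Ideal B)

theorem finite_quot_smul (ha : Module.Finite A (B ⧸ a)) (N : Type w) [AddCommGroup N] [Module B N]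
    [Module A N] [IsScalarTower A B N] [Module.Finite B N] :
    Module.Finite A (N ⧸ (a • ⊤ : Submodule B N)) := by
  haveI : IsScalarTower A (B ⧸ a) (N ⧸ (a • ⊤ : Submodule B N)) := by
    refine IsScalarTower.of_algebraMap_smul (fun r x => ?_)
    obtain ⟨y, rfl⟩ := Submodule.Quotient.mk_surjective _ x
    rw [IsScalarTower.algebraMap_apply A B (B ⧸ a), Ideal.Quotient.algebraMap_eq]
    show (Submodule.Quotient.mk (algebraMap A B r • y) : N ⧸ (a • ⊤ : Submodule B N)) =
      Submodule.Quotient.mk (r • y)
    rw [algebraMap_smul]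
  haveI : Module.Finite (B ⧸ a) (N ⧸ (a • ⊤ : Submodule B N)) :=
    Module.Finite.of_restrictScalars_finite B (B ⧸ a) _
  exact Module.Finite.trans (B ⧸ a) _

theorem finite_of_pow_smul (ha : Module.Finite A (B ⧸ a)) : ∀ (n : ℕ) (N : Type w) [AddCommGroup N]
    [Module B N] [Module A N] [IsScalarTower A B N] [Module.Finite B N],
    (∀ x ∈ a ^ n, ∀ y : N, x • y = 0) → Module.Finite A N := by
  intro n
  induction n with
  | zero =>
    intro N _ _ _ _ _ h
    have : Subsingleton N := by
      constructor
      intro x y
      have hx := h 1 (by simp) x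
      have hy := h 1 (by simp) y
      rw [one_smul] at hx hy
      rw [hx, hy]
    infer_instance
  | succ n ih =>
    intro N _ _ _ _ _ h
    haveI : IsNoetherian B N := isNoetherian_of_isNoetherianRing_of_finite B N
    let N₁ : Submodule B N := a • ⊤
    haveI : Module.Finite B ↥N₁ := inferInstance
    have hkill : ∀ x ∈ a ^ n, ∀ y : ↥N₁, x • y = 0 := by
      intro x hx y
      apply Subtype.ext
      show x • (y : N) = 0
      have hy : (y : N) ∈ a • (⊤ : Submodule B N) := y.2
      refine Submodule.smul_induction_on hy ?_ ?_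
      · intro r hr z _
        rw [← mul_smul]
        exact h _ (by rw [pow_succ]; exact Ideal.mul_mem_mul hx hr) z
      · intro z₁ z₂ h₁ h₂
        rw [smul_add, h₁, h₂, add_zero]
    have h1 : Module.Finite A ↥N₁ := ih ↥N₁ hkill
    have h2 : Module.Finite A (N ⧸ N₁) := finite_quot_smul A B a ha N
    rw [Module.finite_def]
    refine Submodule.fg_of_fg_map_of_fg_inf_ker ((N₁.mkQ).restrictScalars A) ?_ ?_
    · rw [Submodule.map_top]
      have : LinearMap.range ((N₁.mkQ).restrictScalars A) = ⊤ :=
        LinearMap.range_eq_top.mpr (Submodule.mkQ_surjective N₁)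
      rw [this]
      exact Module.finite_def.mp h2
    · rw [top_inf_eq]
      have hk : LinearMap.ker ((N₁.mkQ).restrictScalars A) = N₁.restrictScalars A := by
        ext x
        simp
      rw [hk]
      have := Module.Finite.iff_fg.mp (show Module.Finite A ↥(N₁.restrictScalars A) from h1)
      exact this

end filt

section main

variable (A : Type u) (B : Type v) (M : Type w)
    [CommRing A] [IsLocalRing A] [CommRing B] [IsLocalRing B] [IsNoetherianRing B]
    [Algebra A B] [IsLocalHom (algebraMap A B)]
    [AddCommGroup M] [Module B M] [Module A M] [IsScalarTower A B M] [Module.Finite B M]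

/-- transport between the two descriptions of `N / m_A N`. -/
noncomputable def quotEquiv (I : Ideal A) (N : Type w) [AddCommGroup N] [Module B N] [Module A N]
    [IsScalarTower A B N] :
    (N ⧸ ((I.map (algebraMap A B)) • (⊤ : Submodule B N))) ≃ₗ[A]
      (N ⧸ (I • ⊤ : Submodule A N)) :=
  (Submodule.Quotient.restrictScalarsEquiv A ((I.map (algebraMap A B)) • (⊤ : Submodule B N))).symm ≪≫ₗ
    Submodule.quotEquivOfEq _ _ (by rw [Ideal.smul_restrictScalars]; rfl)

omit [IsLocalRing B] [IsLocalHom (algebraMap A B)] in
theorem main (hq : Module.Finite A (M ⧸ (IsLocalRing.maximalIdeal A • ⊤ : Submodule A M))) :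
    Module.Finite A ((B ⧸ Module.annihilator B M) ⧸
      (IsLocalRing.maximalIdeal A • ⊤ : Submodule A (B ⧸ Module.annihilator B M))) := by
  classical
  set mA := IsLocalRing.maximalIdeal A with hmA
  set I := mA.map (algebraMap A B) with hI
  set b := Module.annihilator B M with hb
  -- M̄
  let Mb := M ⧸ (I • (⊤ : Submodule B M))
  have hMb : Module.Finite A Mb := Module.Finite.equiv (quotEquiv A B mA M).symm
  have hkilled : ∀ x ∈ mA, ∀ v : Mb, x • v = 0 := by
    intro x hx v
    obtain ⟨y, rfl⟩ := Submodule.Quotient.mk_surjective _ v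
    rw [← Submodule.Quotient.mk_smul, Submodule.Quotient.mk_eq_zero, ← algebraMap_smul B x y]
    exact Submodule.smul_mem_smul (Ideal.mem_map_of_mem _ hx) trivial
  haveI hnoeth : IsNoetherian A Mb := isNoetherian_of_killed A mA Mb hkilled
  set a := Module.annihilator B Mb with ha_def
  -- B ⧸ a finite over A
  have ha : Module.Finite A (B ⧸ a) := by
    obtain ⟨S, hS⟩ := (Module.finite_def.mp hMb)
    let ψ : B →ₗ[A] (S → Mb) :=
      LinearMap.pi (fun s => (LinearMap.toSpanSingleton B Mb (s : Mb)).restrictScalars A)
    have hker : LinearMap.ker ψ = a.restrictScalars A := by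
      ext x
      simp only [LinearMap.mem_ker, Submodule.restrictScalars_mem, ha_def, Module.mem_annihilator]
      constructor
      · intro hx v
        have hv : v ∈ Submodule.span A (S : Set Mb) := by rw [hS]; trivial
        induction hv using Submodule.span_induction with
        | mem v hv =>
          have := congrFun hx ⟨v, hv⟩
          simpa [ψ] using this
        | zero => simp
        | add v w _ _ hv hw => rw [smul_add, hv, hw, add_zero]
        | smul c v _ hv => rw [smul_comm, hv, smul_zero]
      · intro hx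
        funext s
        simpa [ψ] using hx (s : Mb)
    have e : (B ⧸ a) ≃ₗ[A] ↥(LinearMap.range ψ) :=
      (Submodule.Quotient.restrictScalarsEquiv A a).symm ≪≫ₗ
        (Submodule.quotEquivOfEq _ _ hker.symm) ≪≫ₗ ψ.quotKerEquivRange
    exact Module.Finite.equiv e.symm
  -- radical
  have hrad : a ≤ (b ⊔ I).radical := by
    rw [← PrimeSpectrum.zeroLocus_subset_zeroLocus_iff]
    have h1 : Module.support B Mb = PrimeSpectrum.zeroLocus (a : Set B) :=
      Module.support_eq_zeroLocus
    have h2 : Module.support B Mb = Module.support B M ∩ PrimeSpectrum.zeroLocus (I : Set B) :=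
      Module.support_quotient I
    have h3 : Module.support B M = PrimeSpectrum.zeroLocus (b : Set B) :=
      Module.support_eq_zeroLocus
    rw [h3, ← PrimeSpectrum.zeroLocus_sup] at h2
    rw [← h1, h2]
  obtain ⟨n, hn⟩ := Ideal.exists_radical_pow_le_of_fg (b ⊔ I) (IsNoetherian.noetherian _)
  have hpow : a ^ n ≤ b ⊔ I := le_trans (Ideal.pow_right_mono hrad n) hn
  -- N
  let C := B ⧸ b
  let N := C ⧸ (I • (⊤ : Submodule B C))
  have hN : ∀ x ∈ a ^ n, ∀ y : N, x • y = 0 := by
    intro x hx y
    obtain ⟨c, rfl⟩ := Submodule.Quotient.mk_surjective _ y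
    obtain ⟨x₁, hx₁, x₂, hx₂, rfl⟩ := Submodule.mem_sup.mp (hpow hx)
    rw [← Submodule.Quotient.mk_smul, add_smul]
    have h1 : x₁ • c = 0 := by
      obtain ⟨z, rfl⟩ := Ideal.Quotient.mk_surjective c
      show Ideal.Quotient.mk b (x₁ * z) = 0
      rw [Ideal.Quotient.eq_zero_iff_mem]
      exact Ideal.mul_mem_right _ _ hx₁
    rw [h1, zero_add, Submodule.Quotient.mk_eq_zero]
    exact Submodule.smul_mem_smul hx₂ trivial
  have hfin : Module.Finite A N := finite_of_pow_smul A B a ha n N hN
  exact Module.Finite.equiv (quotEquiv A B mA C)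

end main

end Groth.Agent.FinAnn9
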