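import Mathlib
import Groth.Agent.Lib.FinAnn1_helper9
import Groth.Agent.Lib.CompleteNoeth_lead
import Groth.Agent.Lib.IntegralHeight_helper5

/-!
# Localisation of properties of fibres (EGA IV 7.5): commutative algebra lemmas (helper3)

* `exists_coheight_one_prime`: in a Noetherian local ring, above a prime `z` not containing a
  non-unit `a` there is a prime `q` of coheight one still not containing `a`.
* `finite_quot_of_dim_one`: quasi-finite + separated over a complete local ring is finite, in the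
  special shape needed here (`B/q` of dimension one).
* `quotLocEquiv`: localisation commutes with quotients.
APPEND-ONLY once landed.
-/

set_option autoImplicit false
universe u

namespace Groth.Agent.Lib.LocPH3

open IsLocalRing

section LemmaA

/-- In a Noetherian local ring, above a prime `z` not containing the non-unit `a` there is a prime
`q` of coheight one not containing `a`. -/
theorem exists_coheight_one_prime (B : Type*) [CommRing B] [IsNoetherianRing B] [IsLocalRing B]
    (z : Ideal B) [hz : z.IsPrime] (a : B) (ham : a ∈ maximalIdeal B) (haz : a ∉ z) :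
    ∃ q : Ideal B, q.IsPrime ∧ z ≤ q ∧ a ∉ q ∧ ringKrullDim (B ⧸ q) = 1 := by
  classical
  obtain ⟨q, hqS, hmax⟩ := set_has_maximal_iff_noetherian.mpr
    (inferInstance : IsNoetherian B B) {q : Ideal B | q.IsPrime ∧ z ≤ q ∧ a ∉ q}
    ⟨z, hz, le_rfl, haz⟩
  obtain ⟨hq, hzq, haq⟩ := hqS
  refine ⟨q, hq, hzq, haq, ?_⟩
  haveI := hq
  haveI : IsDomain (B ⧸ q) := Ideal.Quotient.isDomain q
  haveI : IsLocalRing (B ⧸ q) :=
    IsLocalRing.of_surjective' (Ideal.Quotient.mk q) Ideal.Quotient.mk_surjective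
  set ā : B ⧸ q := Ideal.Quotient.mk q a with hā
  have hā0 : ā ≠ 0 := fun h => haq (Ideal.Quotient.eq_zero_iff_mem.mp h)
  have hām : ā ∈ maximalIdeal (B ⧸ q) := by
    rw [mem_maximalIdeal, mem_nonunits_iff]
    intro hu
    obtain ⟨c, hc⟩ := hu.exists_right_inv
    obtain ⟨b, rfl⟩ := Ideal.Quotient.mk_surjective c
    rw [hā, ← map_mul, ← map_one (Ideal.Quotient.mk q), Ideal.Quotient.eq] at hc
    have h1 : a * b - 1 ∈ maximalIdeal B := le_maximalIdeal hq.ne_top hc
    have h2 : a * b ∈ maximalIdeal B := Ideal.mul_mem_right _ _ ham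
    have h3 : (1 : B) ∈ maximalIdeal B := by
      have := Ideal.sub_mem _ h2 h1
      simpa using this
    exact (maximalIdeal.isMaximal B).ne_top ((Ideal.eq_top_iff_one _).mpr h3)
  -- every nonzero prime contains `ā`
  have hall : ∀ P : Ideal (B ⧸ q), P.IsPrime → P ≠ ⊥ → ā ∈ P := by
    intro P hP hP0
    by_contra hcon
    apply hP0
    have hP' : (P.comap (Ideal.Quotient.mk q)).IsPrime := Ideal.comap_isPrime _ _
    have hle : q ≤ P.comap (Ideal.Quotient.mk q) := by
      intro x hx
      rw [Ideal.mem_comap, Ideal.Quotient.eq_zero_iff_mem.mpr hx]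
      exact P.zero_mem
    have hmem : P.comap (Ideal.Quotient.mk q) ∈ {q : Ideal B | q.IsPrime ∧ z ≤ q ∧ a ∉ q} :=
      ⟨hP', hzq.trans hle, fun h => hcon h⟩
    have heq : q = P.comap (Ideal.Quotient.mk q) := by
      by_contra hne
      exact hmax _ hmem (lt_of_le_of_ne hle hne)
    rw [eq_bot_iff]
    intro x hx
    obtain ⟨y, rfl⟩ := Ideal.Quotient.mk_surjective x
    have : y ∈ P.comap (Ideal.Quotient.mk q) := hx
    rw [← heq] at this
    rw [Ideal.mem_bot]
    exact Ideal.Quotient.eq_zero_iff_mem.mpr this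
  -- the maximal ideal is minimal over `ā`
  have hspan : Ideal.span {ā} ≤ maximalIdeal (B ⧸ q) := by
    rw [Ideal.span_le, Set.singleton_subset_iff]; exact hām
  have hmin : maximalIdeal (B ⧸ q) ∈ (Ideal.span {ā}).minimalPrimes := by
    by_contra hnot
    have hfin := Ideal.finite_minimalPrimes_of_isNoetherianRing (B ⧸ q) (Ideal.span {ā})
    have hnle : ∀ P ∈ (Ideal.span {ā}).minimalPrimes, ¬ maximalIdeal (B ⧸ q) ≤ P := by
      intro P hP hle
      have hPp : P.IsPrime := hP.1.1
      have : P = maximalIdeal (B ⧸ q) :=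
        le_antisymm (le_maximalIdeal hPp.ne_top) hle
      exact hnot (this ▸ hP)
    have hav : ¬ ((maximalIdeal (B ⧸ q) : Set (B ⧸ q)) ⊆
        ⋃ P ∈ (hfin.toFinset : Set (Ideal (B ⧸ q))), (P : Set (B ⧸ q))) := by
      intro hsub
      have := (Ideal.subset_union_prime (R := B ⧸ q) (s := hfin.toFinset) (f := fun P => P) ⊥ ⊥
        (fun P hP _ _ => by
          rw [Set.Finite.mem_toFinset] at hP
          exact hP.1.1)).mp hsub
      obtain ⟨P, hP, hle⟩ := this
      rw [Set.Finite.mem_toFinset] at hP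
      exact hnle P hP hle
    rw [Set.not_subset] at hav
    obtain ⟨b, hbm, hb⟩ := hav
    have hbP : ∀ P ∈ (Ideal.span {ā}).minimalPrimes, b ∉ P := by
      intro P hP hbP
      apply hb
      simp only [Set.mem_iUnion, SetLike.mem_coe, Finset.mem_coe, Set.Finite.mem_toFinset]
      exact ⟨P, hP, hbP⟩
    have hbspan : Ideal.span {b} ≤ maximalIdeal (B ⧸ q) := by
      rw [Ideal.span_le, Set.singleton_subset_iff]; exact hbm
    obtain ⟨Q, hQmin, -⟩ := Ideal.exists_minimalPrimes_le hbspan
    have hQp : Q.IsPrime := hQmin.1.1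
    have hbQ : b ∈ Q := hQmin.1.2 (Ideal.mem_span_singleton_self b)
    obtain ⟨P0, hP0, -⟩ := Ideal.exists_minimalPrimes_le hspan
    have hb0 : b ≠ 0 := fun h => hbP P0 hP0 (h ▸ P0.zero_mem)
    have hQ0 : Q ≠ ⊥ := fun h => hb0 (by rw [h] at hbQ; exact hbQ)
    have hāQ : ā ∈ Q := hall Q hQp hQ0
    have hspanQ : Ideal.span {ā} ≤ Q := by
      rw [Ideal.span_le, Set.singleton_subset_iff]; exact hāQ
    obtain ⟨P, hP, hPQ⟩ := Ideal.exists_minimalPrimes_le hspanQ
    haveI hPp : P.IsPrime := hP.1.1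
    have hP0' : P ≠ ⊥ := fun h => hā0 (by
      have := hP.1.2 (Ideal.mem_span_singleton_self ā); rw [h] at this; exact this)
    have hPQ' : P < Q := lt_of_le_of_ne hPQ (fun h => hbP P hP (h ▸ hbQ))
    have hQht : Q.height ≤ 1 :=
      Ideal.height_le_one_of_isPrincipal_of_mem_minimalPrimes (Ideal.span {b}) Q hQmin
    haveI : (⊥ : Ideal (B ⧸ q)).IsPrime := Ideal.bot_prime
    have h1 : (⊥ : Ideal (B ⧸ q)).height + 1 ≤ P.height :=
      Ideal.height_add_one_le_of_lt_of_isPrime (bot_lt_iff_ne_bot.mpr hP0')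
    have h2 : P.height + 1 ≤ Q.height := Ideal.height_add_one_le_of_lt_of_isPrime hPQ'
    have h3 : (1 : ℕ∞) ≤ P.height := le_trans (by simp) h1
    have h4 : (1 : ℕ∞) + 1 ≤ 1 := le_trans (add_le_add_left h3 1) (h2.trans hQht)
    exact absurd h4 (by decide)
  have hht : (maximalIdeal (B ⧸ q)).height ≤ 1 :=
    Ideal.height_le_one_of_isPrincipal_of_mem_minimalPrimes (Ideal.span {ā}) _ hmin
  haveI : (⊥ : Ideal (B ⧸ q)).IsPrime := Ideal.bot_prime
  have hm0 : maximalIdeal (B ⧸ q) ≠ ⊥ := fun h => hā0 (by rw [h] at hām; exact hām)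
  have hht' : (⊥ : Ideal (B ⧸ q)).height + 1 ≤ (maximalIdeal (B ⧸ q)).height :=
    Ideal.height_add_one_le_of_lt_of_isPrime (bot_lt_iff_ne_bot.mpr hm0)
  have hht1 : (maximalIdeal (B ⧸ q)).height = 1 :=
    le_antisymm hht (le_trans (by simp) hht')
  rw [← IsLocalRing.maximalIdeal_height_eq_ringKrullDim, hht1]
  rfl

end LemmaA

end Groth.Agent.Lib.LocPH3
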