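import Mathlib
import Groth.Agent.Lib.LocP1_helper3
import Groth.Agent.Lib.AnUnramNagata_helper3
import Groth.Agent.Lib.FlatCM3_helper9
import Groth.Agent.Lib.CMFormalFibres_helper9

/-!
# Localisation of properties of fibres (EGA IV 7.5): finiteness and localisation lemmas (helper3)

* `finite_quot_of_dim_one`: for `A` complete local, `A → B` local with `B/m_B` finite over `A`,
  a prime `q` of `B` with `dim B/q = 1` not containing `m_A B` has `B/q` finite over `A`.
* `dim_comap_of_dim_one`: then `dim A/(q ∩ A) = 1`.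
* `quotLocEquiv`: localisation commutes with quotients.
* `isCM_of_domain_dim_one`, `isCM_localization_of_le`.
APPEND-ONLY once landed.
-/

set_option autoImplicit false
universe u

namespace Groth.Agent.Lib.LocPH3

open IsLocalRing

section LemmaB

variable (A B : Type u) [CommRing A] [CommRing B] [IsNoetherianRing A] [IsNoetherianRing B]
  [IsLocalRing A] [IsLocalRing B] [Algebra A B] [IsLocalHom (algebraMap A B)]

theorem map_maximalIdeal_le : (maximalIdeal A).map (algebraMap A B) ≤ maximalIdeal B :=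
  ((IsLocalRing.local_hom_TFAE (algebraMap A B)).out 0 2).mp ‹IsLocalHom (algebraMap A B)›

/-- Quasi-finite and separated over a complete local ring implies finite. -/
theorem finite_quot_of_dim_one [IsAdicComplete (maximalIdeal A) A]
    (hfin : Module.Finite A (B ⧸ maximalIdeal B))
    (q : Ideal B) [hq : q.IsPrime] (hdim : ringKrullDim (B ⧸ q) = 1) (a : A)
    (ham : a ∈ maximalIdeal A) (haq : algebraMap A B a ∉ q) : Module.Finite A (B ⧸ q) := by
  haveI : IsDomain (B ⧸ q) := Ideal.Quotient.isDomain q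
  haveI : IsLocalRing (B ⧸ q) :=
    IsLocalRing.of_surjective' (Ideal.Quotient.mk q) Ideal.Quotient.mk_surjective
  set ā : B ⧸ q := algebraMap A (B ⧸ q) a with hā
  have hā' : ā = Ideal.Quotient.mk q (algebraMap A B a) := rfl
  have hā0 : ā ≠ 0 := fun h => haq (Ideal.Quotient.eq_zero_iff_mem.mp (hā' ▸ h))
  have hloc : IsLocalHom (algebraMap B (B ⧸ q)) :=
    IsLocalHom.of_surjective _ Ideal.Quotient.mk_surjective
  have hmB : (maximalIdeal B).map (algebraMap B (B ⧸ q)) ≤ maximalIdeal (B ⧸ q) :=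
    ((IsLocalRing.local_hom_TFAE (algebraMap B (B ⧸ q))).out 0 2).mp hloc
  have hām : ā ∈ maximalIdeal (B ⧸ q) := by
    have h1 : algebraMap A B a ∈ maximalIdeal B :=
      map_maximalIdeal_le A B (Ideal.mem_map_of_mem _ ham)
    exact hmB (Ideal.mem_map_of_mem _ h1)
  set 𝔟 : Ideal (B ⧸ q) := Ideal.span {ā} with h𝔟
  have h𝔟top : 𝔟 ≠ ⊤ := fun h => by
    have : 𝔟 ≤ maximalIdeal (B ⧸ q) := by
      rw [h𝔟, Ideal.span_le, Set.singleton_subset_iff]; exact hām
    exact (maximalIdeal.isMaximal (B ⧸ q)).ne_top (top_le_iff.mp (h ▸ this))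
  haveI : Nontrivial ((B ⧸ q) ⧸ 𝔟) := Ideal.Quotient.nontrivial_iff.2 h𝔟top
  haveI : IsLocalRing ((B ⧸ q) ⧸ 𝔟) :=
    IsLocalRing.of_surjective' (Ideal.Quotient.mk 𝔟) Ideal.Quotient.mk_surjective
  -- the quotient is Artinian
  have hd0 : ringKrullDim ((B ⧸ q) ⧸ 𝔟) ≤ 0 := by
    have h1 := ringKrullDim_quotient_succ_le_of_nonZeroDivisor
      (mem_nonZeroDivisors_of_ne_zero hā0)
    rw [hdim] at h1
    exact Groth.Agent.Lib.AnUnramNagataH3.dim_le_pred (k := 0) (by simpa using h1)
  haveI : Ring.KrullDimLE 0 ((B ⧸ q) ⧸ 𝔟) := by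
    rw [Ring.KrullDimLE, Order.krullDimLE_iff]
    exact_mod_cast hd0
  haveI : IsArtinianRing ((B ⧸ q) ⧸ 𝔟) := isArtinianRing_iff_krullDimLE_zero.mpr inferInstance
  obtain ⟨n, hn⟩ := IsArtinianRing.isNilpotent_jacobson_bot (R := (B ⧸ q) ⧸ 𝔟)
  rw [IsLocalRing.jacobson_eq_maximalIdeal ⊥ bot_ne_top] at hn
  have hloc2 : IsLocalHom (algebraMap B ((B ⧸ q) ⧸ 𝔟)) :=
    IsLocalHom.of_surjective _ (by
      rw [IsScalarTower.algebraMap_eq B (B ⧸ q) ((B ⧸ q) ⧸ 𝔟)]
      exact Ideal.Quotient.mk_surjective.comp Ideal.Quotient.mk_surjective)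
  have hmB2 : (maximalIdeal B).map (algebraMap B ((B ⧸ q) ⧸ 𝔟)) ≤ maximalIdeal ((B ⧸ q) ⧸ 𝔟) :=
    ((IsLocalRing.local_hom_TFAE (algebraMap B ((B ⧸ q) ⧸ 𝔟))).out 0 2).mp hloc2
  have hkill : ∀ x ∈ maximalIdeal B ^ n, ∀ y : (B ⧸ q) ⧸ 𝔟, x • y = 0 := by
    intro x hx y
    have h1 : algebraMap B ((B ⧸ q) ⧸ 𝔟) x ∈ maximalIdeal ((B ⧸ q) ⧸ 𝔟) ^ n := by
      have := Ideal.mem_map_of_mem (algebraMap B ((B ⧸ q) ⧸ 𝔟)) hx
      rw [Ideal.map_pow] at this
      exact Ideal.pow_right_mono hmB2 n this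
    rw [hn, Ideal.zero_eq_bot, Ideal.mem_bot] at h1
    have h2 : x • y = algebraMap B ((B ⧸ q) ⧸ 𝔟) x * y := Algebra.smul_def x y
    rw [h2, h1, zero_mul]
  haveI : Module.Finite B (B ⧸ q) := inferInstance
  haveI : Module.Finite (B ⧸ q) ((B ⧸ q) ⧸ 𝔟) := inferInstance
  haveI : Module.Finite B ((B ⧸ q) ⧸ 𝔟) := Module.Finite.trans (B ⧸ q) _
  have h3 : Module.Finite A ((B ⧸ q) ⧸ 𝔟) :=
    Groth.Agent.FinAnn9.finite_of_pow_smul A B (maximalIdeal B) hfin n ((B ⧸ q) ⧸ 𝔟) hkill
  -- pass to `D / m_A D`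
  have hle : 𝔟.restrictScalars A ≤ (maximalIdeal A • ⊤ : Submodule A (B ⧸ q)) := by
    intro x hx
    rw [Submodule.restrictScalars_mem, h𝔟, Ideal.mem_span_singleton'] at hx
    obtain ⟨c, rfl⟩ := hx
    have : c * ā = a • c := by rw [hā, Algebra.smul_def, mul_comm]
    rw [this]
    exact Submodule.smul_mem_smul ham trivial
  have h4 : Module.Finite A ((B ⧸ q) ⧸ (maximalIdeal A • ⊤ : Submodule A (B ⧸ q))) := by
    haveI : Module.Finite A ((B ⧸ q) ⧸ 𝔟.restrictScalars A) :=
      Module.Finite.equiv (Submodule.Quotient.restrictScalarsEquiv A 𝔟).symm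
    refine Module.Finite.of_surjective
      (Submodule.mapQ (𝔟.restrictScalars A) (maximalIdeal A • ⊤ : Submodule A (B ⧸ q))
        LinearMap.id hle) ?_
    intro y
    obtain ⟨d, rfl⟩ := Submodule.Quotient.mk_surjective _ y
    exact ⟨Submodule.Quotient.mk d, rfl⟩
  -- Hausdorff
  haveI : IsHausdorff (maximalIdeal A) (B ⧸ q) := by
    refine ⟨fun x hx => ?_⟩
    have hmem : ∀ n : ℕ, x ∈ maximalIdeal (B ⧸ q) ^ n := by
      intro n
      have h1 := hx n
      rw [SModEq.zero] at h1
      have hle' : (maximalIdeal A ^ n • ⊤ : Submodule A (B ⧸ q)) ≤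
          (maximalIdeal (B ⧸ q) ^ n).restrictScalars A := by
        rw [Submodule.smul_le]
        intro r hr d _
        rw [Submodule.restrictScalars_mem, Algebra.smul_def]
        refine Ideal.mul_mem_right _ _ ?_
        have h2 : algebraMap A (B ⧸ q) r ∈ (maximalIdeal A ^ n).map (algebraMap A (B ⧸ q)) :=
          Ideal.mem_map_of_mem _ hr
        rw [Ideal.map_pow] at h2
        refine Ideal.pow_right_mono ?_ n h2
        rw [IsScalarTower.algebraMap_eq A B (B ⧸ q), ← Ideal.map_map]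
        exact (Ideal.map_mono (map_maximalIdeal_le A B)).trans hmB
      exact hle' h1
    have h5 : x ∈ ⨅ n : ℕ, maximalIdeal (B ⧸ q) ^ n := by
      rw [Ideal.mem_iInf]; exact hmem
    rw [Ideal.iInf_pow_eq_bot_of_isLocalRing _ (maximalIdeal.isMaximal _).ne_top] at h5
    exact h5
  exact Groth.Agent.Lib.CompleteNoethLead.finite_of_hausdorff (maximalIdeal A) (B ⧸ q) h4

/-- In the situation of `finite_quot_of_dim_one`, `dim A/(q ∩ A) = 1`. -/
theorem dim_comap_of_dim_one [IsAdicComplete (maximalIdeal A) A]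
    (hfin : Module.Finite A (B ⧸ maximalIdeal B))
    (q : Ideal B) [hq : q.IsPrime] (hdim : ringKrullDim (B ⧸ q) = 1) (a : A)
    (ham : a ∈ maximalIdeal A) (haq : algebraMap A B a ∉ q) :
    ringKrullDim (A ⧸ q.comap (algebraMap A B)) = 1 := by
  haveI := finite_quot_of_dim_one A B hfin q hdim a ham haq
  haveI : IsScalarTower A (A ⧸ q.comap (algebraMap A B)) (B ⧸ q) :=
    IsScalarTower.of_algebraMap_eq fun _ => rfl
  haveI : Module.Finite (A ⧸ q.comap (algebraMap A B)) (B ⧸ q) :=
    Module.Finite.of_restrictScalars_finite A _ _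
  haveI : Algebra.IsIntegral (A ⧸ q.comap (algebraMap A B)) (B ⧸ q) :=
    Algebra.IsIntegral.of_finite _ _
  rw [← hdim]
  exact (Groth.Agent.IntegralHeight.ringKrullDim_eq_of_isIntegral_of_injective
    (A ⧸ q.comap (algebraMap A B)) (B ⧸ q) Ideal.algebraMap_quotient_injective).symm

end LemmaB

section QuotLoc

/-- Localisation commutes with quotients. -/
theorem quotLocEquiv (B : Type u) [CommRing B] (J q : Ideal B) [q.IsPrime]
    (P : Ideal (B ⧸ J)) [P.IsPrime] (hP : P.comap (Ideal.Quotient.mk J) = q) :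
    Nonempty (Localization.AtPrime P ≃+*
      (Localization.AtPrime q ⧸ J.map (algebraMap B (Localization.AtPrime q)))) := by
  have hM : Algebra.algebraMapSubmonoid (B ⧸ J) q.primeCompl = P.primeCompl := by
    ext x
    constructor
    · rintro ⟨b, hb, rfl⟩
      intro hx
      apply hb
      rw [← hP]
      exact hx
    · intro hx
      obtain ⟨b, rfl⟩ := Ideal.Quotient.mk_surjective x
      refine ⟨b, fun hb => hx ?_, rfl⟩
      rw [← hP] at hb
      exact hb
  haveI h1' : IsLocalization (Algebra.algebraMapSubmonoid (B ⧸ J) q.primeCompl)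
      (Localization.AtPrime q ⧸ J.map (algebraMap B (Localization.AtPrime q))) := inferInstance
  rw [hM] at h1'
  haveI : IsLocalization.AtPrime
      (Localization.AtPrime q ⧸ J.map (algebraMap B (Localization.AtPrime q))) P := h1'
  exact ⟨(IsLocalization.algEquiv P.primeCompl (Localization.AtPrime P)
    (Localization.AtPrime q ⧸ J.map (algebraMap B (Localization.AtPrime q)))).toRingEquiv⟩

end QuotLoc

section CM

open Groth.Agent.FlatCM

/-- A Noetherian local domain of dimension one is Cohen–Macaulay. -/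
theorem isCM_of_domain_dim_one (T : Type u) [CommRing T] [IsDomain T] [IsLocalRing T]
    [IsNoetherianRing T] (h : ringKrullDim T = 1) : LocCoh.IsCohenMacaulayLocalRing T := by
  rw [isCMLocalRing_iff, h]
  have h1 := depth_le_dim T
  rw [h] at h1
  have h2 : LocCoh.depth T T ≤ 1 := by
    have : ((LocCoh.depth T T : ℕ∞) : WithBot ℕ∞) ≤ ((1 : ℕ∞) : WithBot ℕ∞) := h1
    exact WithBot.coe_le_coe.1 this
  have hm : maximalIdeal T ≠ ⊥ := by
    intro hm
    have h3 := IsLocalRing.maximalIdeal_height_eq_ringKrullDim (R := T)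
    rw [hm, Ideal.height_bot, h] at h3
    exact absurd h3 (by decide)
  obtain ⟨x, hxm, hx0⟩ := Submodule.exists_mem_ne_zero_of_ne_bot hm
  have h3 : 1 ≤ LocCoh.depth T T := by
    unfold LocCoh.depth
    rw [Groth.Agent.DepthLib.one_le_idealDepth_iff]
    right
    exact ⟨x, hxm, fun y z hyz => mul_left_cancel₀ hx0 hyz⟩
  rw [le_antisymm h2 h3]
  rfl

/-- Generizations of Cohen–Macaulay points are Cohen–Macaulay. -/
theorem isCM_localization_of_le (B : Type u) [CommRing B] [IsNoetherianRing B]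
    (q q' : Ideal B) [hq : q.IsPrime] [hq' : q'.IsPrime] (hle : q ≤ q')
    [h : LocCoh.IsCohenMacaulayLocalRing (Localization.AtPrime q')] :
    LocCoh.IsCohenMacaulayLocalRing (Localization.AtPrime q) := by
  haveI := Groth.Agent.EquiCat9.isCMRing_of_isCMLocalRing (Localization.AtPrime q')
  have hdisj : Disjoint (q'.primeCompl : Set B) (q : Set B) := by
    rw [Set.disjoint_left]
    intro x hx hxq
    exact hx (hle hxq)
  set P : Ideal (Localization.AtPrime q') := q.map (algebraMap B (Localization.AtPrime q')) with hPdef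
  haveI hP : P.IsPrime :=
    IsLocalization.isPrime_of_isPrime_disjoint q'.primeCompl (Localization.AtPrime q') q hq hdisj
  have hc : P.comap (algebraMap B (Localization.AtPrime q')) = q :=
    IsLocalization.comap_map_of_isPrime_disjoint q'.primeCompl (Localization.AtPrime q') hq hdisj
  haveI hCM : LocCoh.IsCohenMacaulayLocalRing (Localization.AtPrime P) :=
    LocCoh.IsCohenMacaulayRing.isCohenMacaulayLocalRing_localization P
  have hloc : IsLocalization.AtPrime (Localization.AtPrime P)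
      (P.comap (algebraMap B (Localization.AtPrime q'))) :=
    IsLocalization.isLocalization_isLocalization_atPrime_isLocalization q'.primeCompl
      (Localization.AtPrime P) P
  have tr : ∀ (r : Ideal B) [r.IsPrime], r = q →
      IsLocalization.AtPrime (Localization.AtPrime P) r →
      IsLocalization.AtPrime (Localization.AtPrime P) q := by
    intro r _ e h
    subst e
    exact h
  haveI := tr _ hc hloc
  exact isCMLocalRing_of_ringEquiv
    (IsLocalization.algEquiv q.primeCompl (Localization.AtPrime P)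
      (Localization.AtPrime q)).toRingEquiv

end CM

end Groth.Agent.Lib.LocPH3
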