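import Mathlib
import Groth.Agent.Lib.CompleteFinite_helper3

/-!
# Complete semi-local Noetherian rings (helper3)

For a commutative ring `C` with finitely many maximal ideals, complete for its Jacobson radical:
* `exists_idempotent`: for every maximal ideal `M` there is an idempotent `e ∉ M` lying in all other
  maximal ideals (Hensel);
* `surjective_algebraMap_localization`: `C → C_M` is surjective;
* `isAdicComplete_localization` (`C` Noetherian): `C_M` is a complete local ring.
* `isAdicComplete_jacobson`: `C` complete for `𝔠` with `C/𝔠` Artinian ⇒ `C` complete for its radical.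
APPEND-ONLY once landed.
-/

set_option autoImplicit false
universe u

namespace Groth.Agent.Lib.SemiLocalHenselH3

open IsLocalRing Polynomial

variable (C : Type u) [CommRing C]

theorem jacobson_bot_le (M : Ideal C) [hM : M.IsMaximal] : Ideal.jacobson (⊥ : Ideal C) ≤ M :=
  sInf_le (show M ∈ {J : Ideal C | ⊥ ≤ J ∧ J.IsMaximal} from ⟨bot_le, hM⟩)

theorem mem_jacobson_bot_of_forall (x : C) (h : ∀ M : Ideal C, M.IsMaximal → x ∈ M) :
    x ∈ Ideal.jacobson (⊥ : Ideal C) := by
  rw [Ideal.jacobson, Submodule.mem_sInf]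
  rintro M ⟨-, hM⟩
  exact h M hM

/-- Pass from `𝔠`-adic completeness to completeness for the Jacobson radical. -/
theorem isAdicComplete_jacobson (𝔠 : Ideal C) [IsAdicComplete 𝔠 C] [IsArtinianRing (C ⧸ 𝔠)] :
    IsAdicComplete (Ideal.jacobson (⊥ : Ideal C)) C := by
  have h1 : 𝔠 ≤ Ideal.jacobson ⊥ := IsAdicComplete.le_jacobson_bot 𝔠
  obtain ⟨r, hr⟩ := IsArtinianRing.isNilpotent_jacobson_bot (R := C ⧸ 𝔠)
  have h2 : (Ideal.jacobson (⊥ : Ideal C)).map (Ideal.Quotient.mk 𝔠) ≤ Ideal.jacobson ⊥ := by
    have h3 := Ideal.map_jacobson_of_surjective (I := 𝔠) (f := Ideal.Quotient.mk 𝔠)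
      Ideal.Quotient.mk_surjective (by rw [Ideal.mk_ker])
    rw [Ideal.map_quotient_self] at h3
    rw [← h3]
    exact Ideal.map_mono (Ideal.jacobson_mono bot_le)
  have h4 : Ideal.jacobson (⊥ : Ideal C) ^ r ≤ 𝔠 := by
    have : (Ideal.jacobson (⊥ : Ideal C) ^ r).map (Ideal.Quotient.mk 𝔠) ≤ ⊥ := by
      rw [Ideal.map_pow]
      exact (Ideal.pow_right_mono h2 r).trans (le_of_eq hr)
    rw [Ideal.map_le_iff_le_comap, ← RingHom.ker_eq_comap_bot, Ideal.mk_ker] at this
    exact this
  exact Groth.Agent.Lib.CompleteFiniteH3.isAdicComplete_of_pow_le 𝔠 _ r h1 h4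

theorem algebraMap_idem_eq_one (M : Ideal C) [M.IsPrime] (e : C) (he : IsIdempotentElem e)
    (hem : e ∉ M) : algebraMap C (Localization.AtPrime M) e = 1 := by
  have hunit : IsUnit (algebraMap C (Localization.AtPrime M) e) :=
    IsLocalization.map_units (Localization.AtPrime M) (⟨e, hem⟩ : M.primeCompl)
  have h2 : algebraMap C (Localization.AtPrime M) e * algebraMap C (Localization.AtPrime M) e =
      algebraMap C (Localization.AtPrime M) e * 1 := by
    rw [← map_mul, he.eq, mul_one]
  exact hunit.mul_left_cancel h2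

section Main

variable [Finite (MaximalSpectrum C)] [IsAdicComplete (Ideal.jacobson (⊥ : Ideal C)) C]

theorem exists_idempotent (M : Ideal C) [hM : M.IsMaximal] :
    ∃ e : C, IsIdempotentElem e ∧ e ∉ M ∧ ∀ M' : Ideal C, M'.IsMaximal → M' ≠ M → e ∈ M' := by
  classical
  have hcop : Pairwise (Function.onFun IsCoprime (fun m : MaximalSpectrum C => m.asIdeal)) := by
    intro m m' hne
    haveI := m.isMaximal
    haveI := m'.isMaximal
    exact Ideal.isCoprime_of_isMaximal (fun h => hne (MaximalSpectrum.ext h))
  obtain ⟨a, ha⟩ := Ideal.exists_forall_sub_mem_ideal hcop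
    (fun m => if m.asIdeal = M then 1 else 0)
  have ha1 : a - 1 ∈ M := by simpa using ha ⟨M, hM⟩
  have ha0 : ∀ M' : Ideal C, M'.IsMaximal → M' ≠ M → a ∈ M' := fun M' hM' hne => by
    simpa [hne] using ha ⟨M', hM'⟩
  have haJ : a ^ 2 - a ∈ Ideal.jacobson (⊥ : Ideal C) := by
    apply mem_jacobson_bot_of_forall
    intro M' hM'
    have : a ^ 2 - a = a * (a - 1) := by ring
    rw [this]
    by_cases h : M' = M
    · subst h
      exact Ideal.mul_mem_left _ _ ha1
    · exact Ideal.mul_mem_right _ _ (ha0 M' hM' h)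
  have hmonic : (X ^ 2 - X : C[X]).Monic :=
    Polynomial.monic_X_pow_sub (degree_X_le.trans_lt (by norm_num))
  have heval : (X ^ 2 - X : C[X]).eval a = a ^ 2 - a := by simp
  have hder : (X ^ 2 - X : C[X]).derivative.eval a = 2 * a - 1 := by
    simp
    ring
  have hunit : IsUnit (Ideal.Quotient.mk (Ideal.jacobson (⊥ : Ideal C))
      ((X ^ 2 - X : C[X]).derivative.eval a)) := by
    rw [hder]
    apply IsUnit.of_mul_eq_one (Ideal.Quotient.mk _ (2 * a - 1))
    rw [← map_mul, ← map_one (Ideal.Quotient.mk _), Ideal.Quotient.eq]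
    have : (2 * a - 1) * (2 * a - 1) - 1 = 4 * (a ^ 2 - a) := by ring
    rw [this]
    exact Ideal.mul_mem_left _ _ haJ
  obtain ⟨e, he, hea⟩ := HenselianRing.is_henselian (I := Ideal.jacobson (⊥ : Ideal C)) _ hmonic a
    (by rw [heval]; exact haJ) hunit
  have he' : e * e = e := by
    have : e ^ 2 - e = 0 := by simpa [Polynomial.IsRoot] using he
    linear_combination this
  refine ⟨e, he', ?_, ?_⟩
  · intro heM
    have h1 : e - a ∈ M := jacobson_bot_le C M hea
    have h2 : a ∈ M := by
      have := M.sub_mem heM h1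
      simpa using this
    have h3 : (1 : C) ∈ M := by
      have := M.sub_mem h2 ha1
      simpa using this
    exact hM.ne_top ((Ideal.eq_top_iff_one _).mpr h3)
  · intro M' hM' hne
    haveI := hM'
    have h1 : e - a ∈ M' := jacobson_bot_le C M' hea
    have := M'.add_mem h1 (ha0 M' hM' hne)
    simpa using this

theorem surjective_algebraMap_localization (M : Ideal C) [hM : M.IsMaximal] :
    Function.Surjective (algebraMap C (Localization.AtPrime M)) := by
  obtain ⟨e, he, heM, heM'⟩ := exists_idempotent C M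
  have h1e : 1 - e ∈ M := by
    have : e * (1 - e) ∈ M := by
      rw [mul_sub, mul_one, he.eq, sub_self]
      exact M.zero_mem
    exact (hM.isPrime.mem_or_mem this).resolve_left heM
  intro x
  obtain ⟨⟨c, s⟩, rfl⟩ := IsLocalization.mk'_surjective M.primeCompl x
  have hs' : IsUnit (s.1 * e + (1 - e)) := by
    by_contra hnu
    obtain ⟨M', hM', hmem⟩ := exists_max_ideal_of_mem_nonunits hnu
    by_cases h : M' = M
    · subst h
      have : s.1 * e ∈ M' := by
        have := M'.sub_mem hmem h1e
        simpa using this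
      rcases hM.isPrime.mem_or_mem this with h | h
      · exact s.2 h
      · exact heM h
    · have h2 : e ∈ M' := heM' M' hM' h
      have h3 : 1 - e ∈ M' := by
        have := M'.sub_mem hmem (M'.mul_mem_left s.1 h2)
        simpa using this
      have h4 : (1 : C) ∈ M' := by
        have := M'.add_mem h3 h2
        simpa using this
      exact hM'.ne_top ((Ideal.eq_top_iff_one _).mpr h4)
  obtain ⟨u, hu⟩ := hs'
  refine ⟨c * ↑u⁻¹, ?_⟩
  rw [IsLocalization.eq_mk'_iff_mul_eq]
  have himg : algebraMap C (Localization.AtPrime M) s.1 =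
      algebraMap C (Localization.AtPrime M) (u : C) := by
    rw [hu, map_add, map_mul, map_sub, map_one, algebraMap_idem_eq_one C M e he heM, mul_one,
      sub_self, add_zero]
  rw [himg, ← map_mul, mul_assoc, Units.inv_mul, mul_one]

theorem map_jacobson_eq_maximalIdeal (M : Ideal C) [hM : M.IsMaximal] :
    (Ideal.jacobson (⊥ : Ideal C)).map (algebraMap C (Localization.AtPrime M)) =
      maximalIdeal (Localization.AtPrime M) := by
  obtain ⟨e, he, heM, heM'⟩ := exists_idempotent C M
  rw [← Localization.AtPrime.map_eq_maximalIdeal]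
  apply le_antisymm (Ideal.map_mono (jacobson_bot_le C M))
  rw [Ideal.map_le_iff_le_comap]
  intro x hx
  rw [Ideal.mem_comap]
  have hxe : x * e ∈ Ideal.jacobson (⊥ : Ideal C) := by
    apply mem_jacobson_bot_of_forall
    intro M' hM'
    by_cases h : M' = M
    · subst h
      exact Ideal.mul_mem_right _ _ hx
    · exact Ideal.mul_mem_left _ _ (heM' M' hM' h)
  have : algebraMap C (Localization.AtPrime M) x =
      algebraMap C (Localization.AtPrime M) (x * e) := by
    rw [map_mul, algebraMap_idem_eq_one C M e he heM, mul_one]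
  rw [this]
  exact Ideal.mem_map_of_mem _ hxe

theorem isAdicComplete_localization [IsNoetherianRing C] (M : Ideal C) [hM : M.IsMaximal] :
    IsAdicComplete (maximalIdeal (Localization.AtPrime M)) (Localization.AtPrime M) := by
  haveI : Module.Finite C (Localization.AtPrime M) :=
    Module.Finite.of_surjective (Algebra.linearMap C (Localization.AtPrime M))
      (surjective_algebraMap_localization C M)
  have h1 : IsAdicComplete (Ideal.jacobson (⊥ : Ideal C)) (Localization.AtPrime M) :=
    Groth.Agent.S3866.result C _ _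
  have h2 : IsAdicComplete
      ((Ideal.jacobson (⊥ : Ideal C)).map (algebraMap C (Localization.AtPrime M)))
      (Localization.AtPrime M) := (IsAdicComplete.map_algebraMap_iff _ _).mpr h1
  rw [map_jacobson_eq_maximalIdeal] at h2
  exact h2

end Main

end Groth.Agent.Lib.SemiLocalHenselH3
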