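import Mathlib
import Groth.Agent.Lib.CTens4_helper3
import Groth.Agent.Lib.SemiLocalHensel_helper3
import Groth.Agent.Lib.RegFlat_helper3

/-!
# The completed tensor product `A ⊗̂_k k'` with a field extension (helper3)

`A` Noetherian local `k`-algebra with residue field finite over `k`, `k'/k` a field extension,
`C = (A ⊗_k k')^` for the ideal generated by `m_A`.  `C` is Noetherian semi-local complete, and its
localizations at maximal ideals are complete, faithfully flat over `A`, of the same dimension.
APPEND-ONLY once landed.
-/

set_option autoImplicit false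
universe u

namespace Groth.Agent.Lib.CTensH3

open TensorProduct IsLocalRing

theorem isAdicComplete_field (K : Type u) [Field K] : IsAdicComplete (maximalIdeal K) K := by
  rw [IsLocalRing.maximalIdeal_eq_bot]
  infer_instance

section Field

attribute [local instance] Algebra.TensorProduct.rightAlgebra

variable (k A k' : Type u) [Field k] [CommRing A] [IsNoetherianRing A] [IsLocalRing A] [Algebra k A]
  [Module.Finite k (ResidueField A)] [Field k'] [Algebra k k']

local notation "𝓟" => (A ⊗[k] k')
local notation "𝓙" => (EGA4.cTensorIdeal k A k')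
local notation "𝓒" => (AdicCompletion (EGA4.cTensorIdeal k A k') (A ⊗[k] k'))

omit [IsNoetherianRing A] [Module.Finite k (ResidueField A)] in
theorem cTensorIdeal_field : 𝓙 = (maximalIdeal A).map (algebraMap A 𝓟) := by
  rw [cTensorIdeal_eq, IsLocalRing.maximalIdeal_eq_bot, Ideal.map_bot, sup_bot_eq]

theorem map_cTensorIdeal_field :
    (𝓙).map (algebraMap 𝓟 𝓒) = (maximalIdeal A).map (algebraMap A 𝓒) := by
  haveI := isAdicComplete_field k'
  calc (𝓙).map (algebraMap 𝓟 𝓒)
      = ((maximalIdeal A).map (algebraMap A 𝓟)).map (algebraMap 𝓟 𝓒) :=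
        congrArg (fun J => Ideal.map (algebraMap 𝓟 𝓒) J) (cTensorIdeal_field k A k')
    _ = _ := map_map_eq k A k' _

theorem isAdicComplete_cTensor_field :
    IsAdicComplete ((maximalIdeal A).map (algebraMap A 𝓒)) 𝓒 := by
  rw [← map_cTensorIdeal_field]
  exact AdicCompletion.isAdicComplete_self 𝓙 (cTensorIdeal_fg k A k')

theorem isArtinianRing_quot_field : IsArtinianRing (𝓒 ⧸ (𝓙).map (algebraMap 𝓟 𝓒)) := by
  haveI := isArtinianRing_quot_cTensorIdeal k A k'
  let e : (𝓒 ⧸ (𝓙).map (algebraMap 𝓟 𝓒)) ≃+* (𝓟 ⧸ 𝓙) :=
    (Ideal.quotEquivOfEq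
      (AdicCompletion.ker_evalOneₐ_eq_map 𝓙 (cTensorIdeal_fg k A k')).symm).trans
      (RingHom.quotientKerEquivOfSurjective (f := (AdicCompletion.evalOneₐ 𝓙).toRingHom)
        (AdicCompletion.evalOneₐ_surjective 𝓙))
  exact e.symm.surjective.isArtinianRing

theorem isAdicComplete_jacobson_cTensor_field :
    IsAdicComplete (Ideal.jacobson (⊥ : Ideal 𝓒)) 𝓒 := by
  haveI := AdicCompletion.isAdicComplete_self 𝓙 (cTensorIdeal_fg k A k')
  haveI := isArtinianRing_quot_field k A k'
  exact Groth.Agent.Lib.SemiLocalHenselH3.isAdicComplete_jacobson 𝓒 ((𝓙).map (algebraMap 𝓟 𝓒))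

section Max

variable (M : Ideal (AdicCompletion (EGA4.cTensorIdeal k A k') (A ⊗[k] k'))) [M.IsMaximal]

theorem surjective_algebraMap_localization_field :
    Function.Surjective (algebraMap 𝓒 (Localization.AtPrime M)) := by
  haveI := finite_maximalSpectrum_cTensor k A k'
  haveI := isAdicComplete_jacobson_cTensor_field k A k'
  exact Groth.Agent.Lib.SemiLocalHenselH3.surjective_algebraMap_localization 𝓒 M

theorem isAdicComplete_localization_field :
    IsAdicComplete (maximalIdeal (Localization.AtPrime M)) (Localization.AtPrime M) := by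
  haveI := isNoetherianRing_cTensor k A k'
  haveI := finite_maximalSpectrum_cTensor k A k'
  haveI := isAdicComplete_jacobson_cTensor_field k A k'
  exact Groth.Agent.Lib.SemiLocalHenselH3.isAdicComplete_localization 𝓒 M

theorem map_le_maximalIdeal_localization :
    (maximalIdeal A).map (algebraMap A (Localization.AtPrime M)) ≤
      maximalIdeal (Localization.AtPrime M) := by
  haveI := isAdicComplete_field k'
  rw [IsScalarTower.algebraMap_eq A 𝓒 (Localization.AtPrime M), ← Ideal.map_map,
    ← Localization.AtPrime.map_eq_maximalIdeal]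
  exact Ideal.map_mono ((map_maximalIdeal_le_jacobson k A k').trans (jacobson_bot_le M))

theorem isLocalHom_localization : IsLocalHom (algebraMap A (Localization.AtPrime M)) :=
  ((IsLocalRing.local_hom_TFAE (algebraMap A (Localization.AtPrime M))).out 0 2).mpr
    (map_le_maximalIdeal_localization k A k' M)

theorem flat_localization_field : Module.Flat A (Localization.AtPrime M) := by
  haveI := isAdicComplete_field k'
  haveI := flat_left k A k'
  exact Module.Flat.trans A 𝓒 (Localization.AtPrime M)

theorem faithfullyFlat_localization : Module.FaithfullyFlat A (Localization.AtPrime M) := by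
  haveI := flat_localization_field k A k' M
  haveI := isLocalHom_localization k A k' M
  exact Module.FaithfullyFlat.of_flat_of_isLocalHom

theorem ringKrullDim_localization :
    ringKrullDim (Localization.AtPrime M) = ringKrullDim A := by
  haveI := isNoetherianRing_cTensor k A k'
  haveI : IsNoetherianRing (Localization.AtPrime M) :=
    IsLocalization.isNoetherianRing M.primeCompl _ inferInstance
  haveI := flat_localization_field k A k' M
  haveI := isLocalHom_localization k A k' M
  obtain ⟨I, hIdef⟩ : ∃ I : Ideal (Localization.AtPrime M),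
      I = (maximalIdeal A).map (algebraMap A (Localization.AtPrime M)) := ⟨_, rfl⟩
  have hIle : I ≤ maximalIdeal (Localization.AtPrime M) := by
    rw [hIdef]
    exact map_le_maximalIdeal_localization k A k' M
  have hIne : I ≠ ⊤ := ne_top_of_le_ne_top (maximalIdeal.isMaximal _).ne_top hIle
  haveI : Nontrivial (Localization.AtPrime M ⧸ I) := Ideal.Quotient.nontrivial_iff.mpr hIne
  haveI : IsLocalRing (Localization.AtPrime M ⧸ I) :=
    IsLocalRing.of_surjective' (Ideal.Quotient.mk I) Ideal.Quotient.mk_surjective
  have h := Groth.Agent.Lib.RegFlatH3.ringKrullDim_eq_add_of_flat (A := A)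
    (B := Localization.AtPrime M) I hIdef
  haveI : IsArtinianRing (Localization.AtPrime M ⧸ I) := by
    haveI := isArtinianRing_quot_field k A k'
    have hle : (𝓙).map (algebraMap 𝓟 𝓒) ≤ I.comap (algebraMap 𝓒 (Localization.AtPrime M)) := by
      rw [map_cTensorIdeal_field, ← Ideal.map_le_iff_le_comap, Ideal.map_map,
        ← IsScalarTower.algebraMap_eq, hIdef]
    exact (Ideal.quotientMap_surjective (H := hle)
      (surjective_algebraMap_localization_field k A k' M)).isArtinianRing
  have h0 : ringKrullDim (Localization.AtPrime M ⧸ I) = 0 :=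
    ringKrullDimZero_iff_ringKrullDim_eq_zero.mp
      (isArtinianRing_iff_isNoetherianRing_krullDimLE_zero.mp inferInstance).2
  rw [h, h0, add_zero]

theorem finite_residue_field :
    (((Ideal.Quotient.mk M).comp (algebraMap 𝓟 𝓒)).comp
      Algebra.TensorProduct.includeRight.toRingHom).Finite := by
  haveI := isAdicComplete_field k'
  haveI := finite_residue k A k' M
  have h : (algebraMap k' (𝓒 ⧸ M)).Finite := RingHom.finite_algebraMap.mpr inferInstance
  exact h

end Max

end Field

theorem main5993 (k A k' : Type u) [Field k]
    [CommRing A] [IsNoetherianRing A] [IsLocalRing A] [Algebra k A]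
    [Module.Finite k (IsLocalRing.ResidueField A)]
    [Field k'] [Algebra k k'] (I : Ideal (A ⊗[k] k'))
    (hI : I = (IsLocalRing.maximalIdeal A).map (algebraMap A (A ⊗[k] k'))) :
    IsNoetherianRing (AdicCompletion I (A ⊗[k] k')) ∧
      Finite (MaximalSpectrum (AdicCompletion I (A ⊗[k] k'))) ∧
      IsAdicComplete ((IsLocalRing.maximalIdeal A).map (algebraMap A (AdicCompletion I (A ⊗[k] k'))))
        (AdicCompletion I (A ⊗[k] k')) ∧
      ∀ M : MaximalSpectrum (AdicCompletion I (A ⊗[k] k')),
        IsAdicComplete (IsLocalRing.maximalIdeal (Localization.AtPrime M.asIdeal))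
            (Localization.AtPrime M.asIdeal) ∧
          Module.FaithfullyFlat A (Localization.AtPrime M.asIdeal) ∧
          ringKrullDim (Localization.AtPrime M.asIdeal) = ringKrullDim A ∧
          (((Ideal.Quotient.mk M.asIdeal).comp
              (algebraMap (A ⊗[k] k') (AdicCompletion I (A ⊗[k] k')))).comp
              Algebra.TensorProduct.includeRight.toRingHom).Finite := by
  obtain rfl : I = EGA4.cTensorIdeal k A k' := hI.trans (cTensorIdeal_field k A k').symm
  haveI := isAdicComplete_field k'
  refine ⟨isNoetherianRing_cTensor k A k', finite_maximalSpectrum_cTensor k A k',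
    isAdicComplete_cTensor_field k A k', fun M => ?_⟩
  haveI := M.isMaximal
  exact ⟨isAdicComplete_localization_field k A k' M.asIdeal,
    faithfullyFlat_localization k A k' M.asIdeal, ringKrullDim_localization k A k' M.asIdeal,
    finite_residue_field k A k' M.asIdeal⟩

end Groth.Agent.Lib.CTensH3
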