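import Mathlib

set_option autoImplicit false
universe u

namespace CValH8

section arch

variable {R : Type u} [CommRing R] [IsDomain R] [ValuationRing R]

theorem exists_pow_mem_span [Ring.KrullDimLE 1 R] {c d : R} (hc : ¬ IsUnit c) (hd : d ≠ 0) :
    ∃ n : ℕ, c ^ n ∈ Ideal.span {d} := by
  by_contra h
  push Not at h
  have hdisj : Disjoint ((Ideal.span {d} : Ideal R) : Set R) (Submonoid.powers c) := by
    rw [Set.disjoint_left]
    rintro x hx ⟨n, rfl⟩
    exact h n hx
  obtain ⟨p, hp, hle, hpd⟩ := Ideal.exists_le_prime_disjoint _ _ hdisj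
  have hpne : p ≠ ⊥ := by
    intro hbot
    have : d ∈ p := hle (Ideal.mem_span_singleton_self d)
    rw [hbot] at this
    exact hd this
  have hmax : p.IsMaximal := hp.isMaximal_of_ne_bot hpne
  have hpm : p = IsLocalRing.maximalIdeal R := IsLocalRing.eq_maximalIdeal hmax
  have hcm : c ∈ p := by rw [hpm]; exact (IsLocalRing.mem_maximalIdeal c).mpr hc
  exact Set.disjoint_left.mp hpd hcm ⟨1, pow_one c⟩

variable (R) (K : Type u) [Field K] [Algebra R K] [IsFractionRing R K]

theorem val_algebraMap_le_one (a : R) : ValuationRing.valuation R K (algebraMap R K a) ≤ 1 := by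
  rw [← Valuation.mem_integer_iff, ValuationRing.mem_integer_iff]
  exact ⟨a, rfl⟩

variable {K} in
theorem exists_of_val_le_one {x : K} (hx : ValuationRing.valuation R K x ≤ 1) :
    ∃ a : R, algebraMap R K a = x := by
  rw [← Valuation.mem_integer_iff, ValuationRing.mem_integer_iff] at hx
  exact hx

variable {R} in
theorem val_algebraMap_lt_one_iff (a : R) :
    ValuationRing.valuation R K (algebraMap R K a) < 1 ↔ ¬ IsUnit a := by
  constructor
  · intro h hu
    obtain ⟨b, hb⟩ := hu.exists_right_inv
    have h1 : ValuationRing.valuation R K (algebraMap R K a) *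
        ValuationRing.valuation R K (algebraMap R K b) = 1 := by
      rw [← map_mul, ← map_mul, hb, map_one, map_one]
    have h2 := val_algebraMap_le_one R K b
    have h3 : ValuationRing.valuation R K (algebraMap R K a) *
        ValuationRing.valuation R K (algebraMap R K b) < 1 := by
      calc _ ≤ ValuationRing.valuation R K (algebraMap R K a) * 1 := by gcongr
        _ < 1 := by rwa [mul_one]
    rw [h1] at h3
    exact lt_irrefl _ h3
  · intro hu
    refine lt_of_le_of_ne (val_algebraMap_le_one R K a) ?_
    intro h1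
    apply hu
    have ha0 : algebraMap R K a ≠ 0 := by
      intro h0
      rw [h0, map_zero] at h1
      exact zero_ne_one h1
    have h2 : ValuationRing.valuation R K (algebraMap R K a)⁻¹ ≤ 1 := by
      rw [map_inv₀, h1, inv_one]
    obtain ⟨b, hb⟩ := exists_of_val_le_one R h2
    apply IsUnit.of_mul_eq_one b
    apply IsFractionRing.injective R K
    rw [map_mul, hb, mul_inv_cancel₀ ha0, map_one]

theorem mulArchimedean [Ring.KrullDimLE 1 R] : MulArchimedean (ValuationRing.ValueGroup R K) := by
  constructor
  intro x y hy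
  obtain ⟨a, rfl⟩ : ∃ a : K, ValuationRing.valuation R K a = x := by
    induction x using Quotient.inductionOn' with
    | h a => exact ⟨a, rfl⟩
  obtain ⟨b, rfl⟩ : ∃ b : K, ValuationRing.valuation R K b = y := by
    induction y using Quotient.inductionOn' with
    | h b => exact ⟨b, rfl⟩
  by_cases ha : ValuationRing.valuation R K a ≤ 1
  · exact ⟨0, by simpa using ha⟩
  push Not at ha
  have hb0 : b ≠ 0 := by
    rintro rfl
    rw [map_zero] at hy
    exact not_lt_of_ge zero_le_one hy
  have ha0 : a ≠ 0 := by
    rintro rfl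
    rw [map_zero] at ha
    exact not_lt_of_ge zero_le_one ha
  have hbinv : ValuationRing.valuation R K b⁻¹ < 1 := by
    rw [map_inv₀]
    exact inv_lt_one_of_one_lt₀ hy
  have hainv : ValuationRing.valuation R K a⁻¹ < 1 := by
    rw [map_inv₀]
    exact inv_lt_one_of_one_lt₀ ha
  obtain ⟨c, hc⟩ := exists_of_val_le_one R hbinv.le
  obtain ⟨d, hd⟩ := exists_of_val_le_one R hainv.le
  have hcu : ¬ IsUnit c := by
    rw [← val_algebraMap_lt_one_iff K, hc]
    exact hbinv
  have hd0 : d ≠ 0 := by
    rintro rfl
    rw [map_zero] at hd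
    exact inv_ne_zero ha0 hd.symm
  obtain ⟨n, hn⟩ := exists_pow_mem_span hcu hd0
  obtain ⟨e, he⟩ := Ideal.mem_span_singleton'.mp hn
  refine ⟨n, ?_⟩
  have h1 : (ValuationRing.valuation R K b⁻¹) ^ n ≤ ValuationRing.valuation R K a⁻¹ := by
    rw [← hc, ← hd, ← map_pow, ← map_pow, ← he, map_mul, map_mul]
    calc _ ≤ 1 * ValuationRing.valuation R K (algebraMap R K d) := by
          gcongr
          exact val_algebraMap_le_one R K e
      _ = _ := one_mul _
  rw [map_inv₀, map_inv₀, inv_pow] at h1
  have hva : 0 < ValuationRing.valuation R K a := lt_trans zero_lt_one ha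
  have hvb : 0 < (ValuationRing.valuation R K b) ^ n := pow_pos (lt_trans zero_lt_one hy) n
  exact (inv_le_inv₀ hvb hva).mp h1

end arch

end CValH8
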