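import Mathlib

set_option autoImplicit false
universe u

namespace CValH8

open Filter Topology

theorem completeSpace_of_isAdicComplete {K : Type u} [NormedField K] [IsUltrametricDist K]
    (R : Type u) [CommRing R] [Algebra R K] (hinj : Function.Injective (algebraMap R K))
    (hint : ∀ x : K, ‖x‖ ≤ 1 ↔ ∃ a : R, algebraMap R K a = x) (t : R)
    (ht0 : t ≠ 0) (ht1 : ‖algebraMap R K t‖ < 1) [IsAdicComplete (Ideal.span {t}) R] :
    CompleteSpace K := by
  apply Metric.complete_of_cauchySeq_tendsto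
  intro u hu
  obtain ⟨r, hr⟩ : ∃ r : ℝ, r = ‖algebraMap R K t‖ := ⟨_, rfl⟩
  have hr0 : 0 < r := by
    rw [hr, norm_pos_iff]
    intro h
    exact ht0 (hinj (h.trans (map_zero _).symm))
  have hr1 : r < 1 := hr ▸ ht1
  have hnormR : ∀ a : R, ‖algebraMap R K a‖ ≤ 1 := fun a => (hint _).mpr ⟨a, rfl⟩
  -- key: small elements are multiples of `t ^ k`
  have hsmall : ∀ (k : ℕ) (x : K), ‖x‖ ≤ r ^ k → ∃ e : R, x = algebraMap R K (t ^ k * e) := by
    intro k x hx
    have htk : ‖algebraMap R K t ^ k‖ = r ^ k := by rw [norm_pow, hr]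
    have htk0 : algebraMap R K t ^ k ≠ 0 := by
      rw [← norm_pos_iff, htk]
      exact pow_pos hr0 k
    have h1 : ‖x / algebraMap R K t ^ k‖ ≤ 1 := by
      rw [norm_div, htk]
      exact div_le_one_of_le₀ hx (pow_pos hr0 k).le
    obtain ⟨e, he⟩ := (hint _).mp h1
    refine ⟨e, ?_⟩
    rw [map_mul, map_pow, he, mul_div_cancel₀ _ htk0]
  rw [Metric.cauchySeq_iff'] at hu
  choose N hN using fun k : ℕ => hu (r ^ k) (pow_pos hr0 k)
  obtain ⟨M, hM⟩ : ∃ M : ℕ → ℕ, M = fun k => (Finset.range (k + 1)).sup N := ⟨_, rfl⟩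
  have hMN : ∀ k, N k ≤ M k := by
    intro k
    rw [hM]
    exact Finset.le_sup (f := N) (Finset.mem_range.mpr (Nat.lt_succ_self k))
  have hMmono : ∀ k k', k ≤ k' → M k ≤ M k' := by
    intro k k' hkk'
    rw [hM]
    apply Finset.sup_mono
    intro x hx
    rw [Finset.mem_range] at hx ⊢
    omega
  have hclose : ∀ k n, M k ≤ n → ‖u n - u (M k)‖ ≤ r ^ k := by
    intro k n hn
    have h1 : ‖u n - u (N k)‖ < r ^ k := by
      rw [← dist_eq_norm]; exact hN k n (le_trans (hMN k) hn)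
    have h2 : ‖u (M k) - u (N k)‖ < r ^ k := by
      rw [← dist_eq_norm]; exact hN k (M k) (hMN k)
    have h3 : u n - u (M k) = (u n - u (N k)) + - (u (M k) - u (N k)) := by ring
    rw [h3]
    refine le_trans (IsUltrametricDist.norm_add_le_max _ _) ?_
    rw [norm_neg]
    exact max_le h1.le h2.le
  have hb : ∀ k, ∃ b : R, algebraMap R K b = u (M k) - u (M 0) := by
    intro k
    apply (hint _).mp
    have := hclose 0 (M k) (hMmono 0 k (Nat.zero_le k))
    simpa using this
  choose b hb using hb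
  have hcauchy : ∀ {m n : ℕ}, m ≤ n →
      b m ≡ b n [SMOD ((Ideal.span {t}) ^ m • ⊤ : Submodule R R)] := by
    intro m n hmn
    rw [SModEq.sub_mem, smul_eq_mul, Ideal.mul_top, Ideal.span_singleton_pow,
      Ideal.mem_span_singleton']
    have h1 : ‖algebraMap R K (b m - b n)‖ ≤ r ^ m := by
      rw [map_sub, hb, hb]
      have h2 : u (M m) - u (M 0) - (u (M n) - u (M 0)) = - (u (M n) - u (M m)) := by ring
      rw [h2, norm_neg]
      exact hclose m (M n) (hMmono m n hmn)
    obtain ⟨e, he⟩ := hsmall m _ h1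
    exact ⟨e, by rw [mul_comm]; exact (hinj he).symm⟩
  obtain ⟨L, hL⟩ := IsPrecomplete.prec (I := Ideal.span {t}) (M := R) inferInstance hcauchy
  refine ⟨u (M 0) + algebraMap R K L, ?_⟩
  rw [Metric.tendsto_atTop]
  intro ε hε
  obtain ⟨k, hk⟩ := exists_pow_lt_of_lt_one hε hr1
  refine ⟨M k, fun n hn => ?_⟩
  rw [dist_eq_norm]
  have h1 : u n - (u (M 0) + algebraMap R K L) =
      (u n - u (M k)) + algebraMap R K (b k - L) := by
    rw [map_sub, hb]; ring
  rw [h1]
  refine lt_of_le_of_lt (IsUltrametricDist.norm_add_le_max _ _) (lt_of_le_of_lt ?_ hk)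
  refine max_le (hclose k n hn) ?_
  have h2 := hL k
  rw [SModEq.sub_mem, smul_eq_mul, Ideal.mul_top, Ideal.span_singleton_pow,
    Ideal.mem_span_singleton'] at h2
  obtain ⟨e, he⟩ := h2
  rw [← he, map_mul, map_pow, norm_mul, norm_pow, ← hr]
  calc ‖algebraMap R K e‖ * r ^ k ≤ 1 * r ^ k := by
        gcongr
        exact hnormR e
    _ = r ^ k := one_mul _

end CValH8
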