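import Mathlib
import Groth.Agent.Lib.CVal1_helper8
import Groth.Agent.Lib.CVal2_helper8

set_option autoImplicit false
universe u

namespace CValH8

open Polynomial

section main

variable (R : Type u) [CommRing R] [IsDomain R] [ValuationRing R] [Ring.KrullDimLE 1 R]
  (K : Type u) [Field K] [Algebra R K] [IsFractionRing R K]
  (t : R) (ht : t ≠ 0) [IsAdicComplete (Ideal.span {t}) R]

omit [ValuationRing R] [Ring.KrullDimLE 1 R] in
theorem not_isUnit_of_isAdicComplete : ¬ IsUnit t := by
  intro hu
  have htop : Ideal.span {t} = ⊤ := Ideal.span_singleton_eq_top.mpr hu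
  have hH : IsHausdorff (Ideal.span {t}) R := inferInstance
  have h1 : (1 : R) = 0 := by
    apply hH.haus' 1
    intro n
    rw [htop, Ideal.top_pow, smul_eq_mul, Ideal.mul_top]
    exact SModEq.top
  exact one_ne_zero h1

include ht in
theorem coeff_mem_of_coeff_zero_mem (L : Type u) [Field L] [Algebra K L]
    [Algebra.IsAlgebraic K L] (α : L)
    (h0 : (minpoly K α).coeff 0 ∈ (algebraMap R K).range) (i : ℕ) :
    (minpoly K α).coeff i ∈ (algebraMap R K).range := by
  have htu := not_isUnit_of_isAdicComplete R t
  letI : Valued K (ValuationRing.ValueGroup R K) := Valued.mk' (ValuationRing.valuation R K)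
  have hvt : ValuationRing.valuation R K (algebraMap R K t) < 1 :=
    (val_algebraMap_lt_one_iff K t).mpr htu
  haveI : (ValuationRing.valuation R K).IsNontrivial := by
    refine ⟨⟨algebraMap R K t, ?_, hvt.ne⟩⟩
    rw [ne_eq, Valuation.zero_iff]
    intro h
    exact ht (IsFractionRing.injective R K (h.trans (map_zero _).symm))
  haveI : MulArchimedean (ValuationRing.ValueGroup R K) := mulArchimedean R K
  haveI : MulArchimedean (MonoidWithZeroHom.ValueGroup₀
      (MonoidWithZeroHom.ofClass (ValuationRing.valuation R K))) :=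
    MulArchimedean.comap MonoidWithZeroHom.ValueGroup₀.embedding.toMonoidHom
      MonoidWithZeroHom.ValueGroup₀.embedding_strictMono
  letI hv : Valuation.RankOne (Valued.v (R := K) (Γ₀ := ValuationRing.ValueGroup R K)) :=
    (Valuation.nonempty_rankOne_iff_mulArchimedean.mpr inferInstance).some
  letI := Valued.toNontriviallyNormedField K (ValuationRing.ValueGroup R K)
  haveI : IsUltrametricDist K := Valued.instIsUltrametricDist K (ValuationRing.ValueGroup R K)
  have hint : ∀ x : K, ‖x‖ ≤ 1 ↔ ∃ a : R, algebraMap R K a = x := by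
    intro x
    rw [Valued.toNormedField.norm_le_one_iff]
    show ValuationRing.valuation R K x ≤ 1 ↔ _
    rw [← Valuation.mem_integer_iff, ValuationRing.mem_integer_iff]
  have ht1 : ‖algebraMap R K t‖ < 1 := by
    rw [Valued.toNormedField.norm_lt_one_iff]
    exact hvt
  haveI : CompleteSpace K :=
    completeSpace_of_isAdicComplete R (IsFractionRing.injective R K) hint t ht ht1
  have hsp := spectralNorm.spectralNorm_eq_norm_coeff_zero_rpow K L α
  have h1 : ‖(minpoly K α).coeff 0‖ ≤ 1 := (hint _).mpr h0
  have h2 : spectralNorm K L α ≤ 1 := by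
    rw [hsp]
    exact Real.rpow_le_one (norm_nonneg _) h1 (by positivity)
  have h3 := (spectralValue_le_one_iff
    (minpoly.monic (Algebra.IsIntegral.isIntegral (R := K) α))).mp h2
  exact (hint _).mp (h3 i)

include ht in
theorem isIntegral_of_coeff_zero_mem (L : Type u) [Field L] [Algebra K L] [Algebra R L]
    [IsScalarTower R K L] [Algebra.IsAlgebraic K L] (α : L)
    (h0 : (minpoly K α).coeff 0 ∈ (algebraMap R K).range) : IsIntegral R α := by
  have hall := coeff_mem_of_coeff_zero_mem R K t ht L α h0
  have hlift : minpoly K α ∈ Polynomial.lifts (algebraMap R K) := by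
    rw [Polynomial.lifts_iff_coeff_lifts]
    intro n
    exact hall n
  have hmonic : (minpoly K α).Monic := minpoly.monic (Algebra.IsIntegral.isIntegral (R := K) α)
  obtain ⟨q, hq, -, hqm⟩ := Polynomial.lifts_and_natDegree_eq_and_monic hlift hmonic
  refine ⟨q, hqm, ?_⟩
  have h1 : Polynomial.aeval α (q.map (algebraMap R K)) = 0 := by
    rw [hq]; exact minpoly.aeval K α
  rw [Polynomial.aeval_map_algebraMap] at h1
  exact h1

end main

end CValH8
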