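import Mathlib
import Groth.Agent.Lib.CVal1_helper8
import Groth.Agent.Lib.CVal2_helper8

set_option autoImplicit false
universe u

namespace CValH8

section nnf

variable (R : Type u) [CommRing R] [IsDomain R] [ValuationRing R] [Ring.KrullDimLE 1 R]
  (K : Type u) [Field K] [Algebra R K] [IsFractionRing R K]
  (t : R) (ht : t ≠ 0) (htu : ¬ IsUnit t)

include ht htu in
omit [Ring.KrullDimLE 1 R] in
theorem isNontrivial_valuation : (ValuationRing.valuation R K).IsNontrivial := by
  have hvt : ValuationRing.valuation R K (algebraMap R K t) < 1 :=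
    (val_algebraMap_lt_one_iff K t).mpr htu
  refine ⟨⟨algebraMap R K t, ?_, hvt.ne⟩⟩
  rw [ne_eq, Valuation.zero_iff]
  intro h
  exact ht (IsFractionRing.injective R K (h.trans (map_zero _).symm))

include ht htu in
theorem nonempty_rankOne : Nonempty (Valuation.RankOne (ValuationRing.valuation R K)) := by
  haveI := isNontrivial_valuation R K t ht htu
  haveI : MulArchimedean (ValuationRing.ValueGroup R K) := mulArchimedean R K
  haveI : MulArchimedean (MonoidWithZeroHom.ValueGroup₀
      (MonoidWithZeroHom.ofClass (ValuationRing.valuation R K))) :=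
    MulArchimedean.comap MonoidWithZeroHom.ValueGroup₀.embedding.toMonoidHom
      MonoidWithZeroHom.ValueGroup₀.embedding_strictMono
  exact Valuation.nonempty_rankOne_iff_mulArchimedean.mpr inferInstance

/-- The nontrivially normed field structure on the fraction field of a rank one valuation ring. -/
@[reducible] noncomputable def nnf : NontriviallyNormedField K :=
  letI : Valued K (ValuationRing.ValueGroup R K) := Valued.mk' (ValuationRing.valuation R K)
  letI hv : Valuation.RankOne (Valued.v (R := K) (Γ₀ := ValuationRing.ValueGroup R K)) :=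
    (nonempty_rankOne R K t ht htu).some
  Valued.toNontriviallyNormedField K (ValuationRing.ValueGroup R K)

theorem nnf_isUltrametricDist :
    letI := nnf R K t ht htu
    IsUltrametricDist K := by
  letI : Valued K (ValuationRing.ValueGroup R K) := Valued.mk' (ValuationRing.valuation R K)
  letI hv : Valuation.RankOne (Valued.v (R := K) (Γ₀ := ValuationRing.ValueGroup R K)) :=
    (nonempty_rankOne R K t ht htu).some
  exact Valued.instIsUltrametricDist K (ValuationRing.ValueGroup R K)

theorem nnf_norm_le_one_iff :
    letI := nnf R K t ht htu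
    ∀ x : K, ‖x‖ ≤ 1 ↔ ∃ a : R, algebraMap R K a = x := by
  letI : Valued K (ValuationRing.ValueGroup R K) := Valued.mk' (ValuationRing.valuation R K)
  letI hv : Valuation.RankOne (Valued.v (R := K) (Γ₀ := ValuationRing.ValueGroup R K)) :=
    (nonempty_rankOne R K t ht htu).some
  intro x
  show @norm K (Valued.toNormedField K (ValuationRing.ValueGroup R K)).toNorm x ≤ 1 ↔ _
  rw [Valued.toNormedField.norm_le_one_iff]
  show ValuationRing.valuation R K x ≤ 1 ↔ _
  rw [← Valuation.mem_integer_iff, ValuationRing.mem_integer_iff]

theorem nnf_norm_lt_one_iff :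
    letI := nnf R K t ht htu
    ∀ a : R, ‖algebraMap R K a‖ < 1 ↔ ¬ IsUnit a := by
  letI : Valued K (ValuationRing.ValueGroup R K) := Valued.mk' (ValuationRing.valuation R K)
  letI hv : Valuation.RankOne (Valued.v (R := K) (Γ₀ := ValuationRing.ValueGroup R K)) :=
    (nonempty_rankOne R K t ht htu).some
  intro a
  show @norm K (Valued.toNormedField K (ValuationRing.ValueGroup R K)).toNorm _ < 1 ↔ _
  rw [Valued.toNormedField.norm_lt_one_iff]
  exact val_algebraMap_lt_one_iff K a

theorem nnf_completeSpace [IsAdicComplete (Ideal.span {t}) R] :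
    letI := nnf R K t ht htu
    CompleteSpace K := by
  letI := nnf R K t ht htu
  haveI := nnf_isUltrametricDist R K t ht htu
  exact completeSpace_of_isAdicComplete R (IsFractionRing.injective R K)
    (nnf_norm_le_one_iff R K t ht htu) t ht ((nnf_norm_lt_one_iff R K t ht htu t).mpr htu)

end nnf

end CValH8
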