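import Mathlib
import Groth.Prelude.Def_Wider
import Groth.Agent.Lib.Matlis5_helper5

/-!
# Localization of injective hulls (helper5)
-/

universe u

namespace Groth.Agent.InjHullLoc

section Stable

variable {R : Type u} [CommRing R] [IsNoetherianRing R] (S : Submonoid R)
  {E : Type u} [AddCommGroup E] [Module R E]

/-- Noetherian stabilisation of annihilators along `S`. -/
lemma exists_stable (x : E) :
    ∃ t ∈ S, ∀ r : R, (∃ s ∈ S, s • r • t • x = 0) → r • t • x = 0 := by
  let A : Set (Ideal R) := {I | ∃ t ∈ S, I = Ideal.torsionOf R E (t • x)}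
  have hne : A.Nonempty := ⟨_, 1, S.one_mem, rfl⟩
  obtain ⟨I, ⟨t, ht, rfl⟩, hmax⟩ := set_has_maximal_iff_noetherian.mpr
    (inferInstance : IsNoetherian R R) A hne
  refine ⟨t, ht, ?_⟩
  rintro r ⟨s, hs, hsr⟩
  have hle : Ideal.torsionOf R E (t • x) ≤ Ideal.torsionOf R E ((s * t) • x) := by
    intro a ha
    rw [Ideal.mem_torsionOf_iff] at ha ⊢
    rw [mul_smul, smul_comm a s, ha, smul_zero]
  have heq : Ideal.torsionOf R E (t • x) = Ideal.torsionOf R E ((s * t) • x) := by
    by_contra hne'
    exact hmax _ ⟨s * t, S.mul_mem hs ht, rfl⟩ (lt_of_le_of_ne hle hne')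
  have hr : r ∈ Ideal.torsionOf R E ((s * t) • x) := by
    rw [Ideal.mem_torsionOf_iff, mul_smul, smul_comm r s]
    exact hsr
  rw [← heq, Ideal.mem_torsionOf_iff] at hr
  exact hr

end Stable

section Hull

variable (R : Type u) [CommRing R] [IsNoetherianRing R] (S : Submonoid R)

/-- S11679 -/
theorem isInjectiveHull_map (M : Type u) [AddCommGroup M] [Module R M] (E : Type u)
    [AddCommGroup E] [Module R E] (f : M →ₗ[R] E) (hf : InjHull.IsInjectiveHull f) :
    InjHull.IsInjectiveHull (LocalizedModule.map S f) := by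
  haveI := hf.isInjective
  have hinjE : Module.Injective (Localization S) (LocalizedModule S E) :=
    Module.injective_of_isLocalizedModule S (LocalizedModule.mkLinearMap S E)
  refine ⟨⟨LocalizedModule.map_injective S f hf.injective, ?_⟩, hinjE⟩
  intro N hN
  obtain ⟨z, hzN, hz0⟩ := (Submodule.ne_bot_iff _).mp hN
  have hRsmul : ∀ (r : R) (n : LocalizedModule S E), n ∈ N → r • n ∈ N := fun r n hn => by
    rw [← algebraMap_smul (Localization S) r n]; exact N.smul_mem _ hn
  obtain ⟨⟨x, s⟩, hxs⟩ := IsLocalizedModule.surj S (LocalizedModule.mkLinearMap S E) z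
  have hxs' : (s : R) • z = LocalizedModule.mkLinearMap S E x := hxs
  have hιxN : LocalizedModule.mkLinearMap S E x ∈ N := by
    rw [← hxs']; exact hRsmul s z hzN
  have hιx0 : LocalizedModule.mkLinearMap S E x ≠ 0 := fun h0 =>
    hz0 (LocalizedModule.eq_zero_of_smul_eq_zero (s : R) s.2 z (hxs'.trans h0))
  obtain ⟨t, ht, hstab⟩ := exists_stable S x
  have hιy : LocalizedModule.mkLinearMap S E (t • x) =
      t • LocalizedModule.mkLinearMap S E x := map_smul _ _ _
  have hy0 : t • x ≠ 0 := fun h0 => by
    apply hιx0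
    apply LocalizedModule.eq_zero_of_smul_eq_zero t ht
    rw [← hιy, h0, map_zero]
  have hspan : Submodule.span R {t • x} ≠ ⊥ := by
    rw [Ne, Submodule.span_singleton_eq_bot]; exact hy0
  obtain ⟨w, hw, hw0⟩ := (Submodule.ne_bot_iff _).mp (hf.essential _ hspan)
  obtain ⟨hw1, hw2⟩ := Submodule.mem_inf.mp hw
  obtain ⟨a, rfl⟩ := Submodule.mem_span_singleton.mp hw1
  obtain ⟨m, hm⟩ := LinearMap.mem_range.mp hw2
  have hιw0 : LocalizedModule.mkLinearMap S E (a • t • x) ≠ 0 := fun h0 => by
    obtain ⟨s', hs'⟩ :=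
      (IsLocalizedModule.eq_zero_iff S (LocalizedModule.mkLinearMap S E)).mp h0
    exact hw0 (hstab a ⟨s', s'.2, hs'⟩)
  have hιwN : LocalizedModule.mkLinearMap S E (a • t • x) ∈ N := by
    rw [map_smul, hιy]
    exact hRsmul a _ (hRsmul t _ hιxN)
  have hιwR : LocalizedModule.mkLinearMap S E (a • t • x) ∈
      LinearMap.range (LocalizedModule.map S f) := by
    refine ⟨LocalizedModule.mkLinearMap S M m, ?_⟩
    rw [← hm]
    exact LocalizedModule.map_mk S f m 1
  exact (Submodule.ne_bot_iff _).mpr ⟨_, Submodule.mem_inf.mpr ⟨hιwN, hιwR⟩, hιw0⟩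

end Hull

section Prime

variable (R : Type u) [CommRing R] [IsNoetherianRing R] (p : Ideal R) [p.IsPrime]
  {E : Type u} [AddCommGroup E] [Module R E]
  (f : (R ⧸ p) →ₗ[R] E) (hf : InjHull.IsInjectiveHull f)

omit [IsNoetherianRing R] [p.IsPrime] in
lemma mk_eq_smul_one (r : R) : Ideal.Quotient.mk p r = r • (1 : R ⧸ p) := by
  rw [Algebra.smul_def, mul_one]; rfl

lemma f_mk (r : R) : f (Ideal.Quotient.mk p r) = r • f 1 := by
  rw [mk_eq_smul_one, map_smul]

lemma smul_f_mk (r c : R) :
    r • f (Ideal.Quotient.mk p c) = f (Ideal.Quotient.mk p (r * c)) := by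
  rw [f_mk, f_mk, mul_smul]

include hf in
omit [IsNoetherianRing R] [p.IsPrime] in
lemma exists_smul_eq_f {x : E} (hx : x ≠ 0) :
    ∃ (a : R) (c : R), a • x = f (Ideal.Quotient.mk p c) ∧ a • x ≠ 0 := by
  have hspan : Submodule.span R {x} ≠ ⊥ := by
    rw [Ne, Submodule.span_singleton_eq_bot]; exact hx
  obtain ⟨w, hw, hw0⟩ := (Submodule.ne_bot_iff _).mp (hf.essential _ hspan)
  obtain ⟨hw1, hw2⟩ := Submodule.mem_inf.mp hw
  obtain ⟨a, rfl⟩ := Submodule.mem_span_singleton.mp hw1
  obtain ⟨c', hc'⟩ := LinearMap.mem_range.mp hw2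
  obtain ⟨c, rfl⟩ := Ideal.Quotient.mk_surjective c'
  exact ⟨a, c, hc'.symm, hw0⟩

include hf in
lemma eq_zero_of_smul_eq_zero {s : R} (hs : s ∉ p) {x : E} (hx : s • x = 0) : x = 0 := by
  by_contra hx0
  obtain ⟨a, c, hac, hne⟩ := exists_smul_eq_f R p f hf hx0
  have h1 : f (Ideal.Quotient.mk p (s * c)) = 0 := by
    rw [← smul_f_mk, ← hac, smul_comm, hx, smul_zero]
  have h2 : Ideal.Quotient.mk p (s * c) = 0 := hf.injective (h1.trans (map_zero f).symm)
  have h3 : s * c ∈ p := Ideal.Quotient.eq_zero_iff_mem.mp h2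
  have h4 : c ∈ p := (Ideal.IsPrime.mem_or_mem ‹_› h3).resolve_left hs
  apply hne
  rw [hac, Ideal.Quotient.eq_zero_iff_mem.mpr h4, map_zero]

omit [IsNoetherianRing R] in
lemma exists_smul_eq_of_injective [Module.Injective R E] (s : R)
    (hs : ∀ x : E, s • x = 0 → x = 0) (x : E) : ∃ z : E, s • z = x := by
  let j : E →ₗ[R] E := LinearMap.lsmul R E s
  have hj : Function.Injective j := (injective_iff_map_eq_zero j).mpr (fun x hx => hs x hx)
  obtain ⟨ρ, hρ⟩ := Module.Injective.out j hj LinearMap.id
  refine ⟨ρ x, ?_⟩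
  have := hρ x
  rw [LinearMap.id_apply] at this
  rw [← map_smul]; exact this

include hf in
lemma exists_pow_smul_eq_zero {t : R} (ht : t ∈ p) (x : E) : ∃ n : ℕ, t ^ n • x = 0 := by
  obtain ⟨t', ht', hstab⟩ := exists_stable (Submonoid.powers t) x
  obtain ⟨n, rfl⟩ := (Submonoid.mem_powers_iff _ _).mp ht'
  refine ⟨n, ?_⟩
  by_contra hy0
  obtain ⟨a, c, hac, hne⟩ := exists_smul_eq_f R p f hf hy0
  apply hne
  apply hstab a ⟨t, Submonoid.mem_powers t, ?_⟩
  rw [hac, smul_f_mk, Ideal.Quotient.eq_zero_iff_mem.mpr (p.mul_mem_right c ht), map_zero]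

/-- S11661 -/
theorem loc_hull (S : Submonoid R) (E : Type u) [AddCommGroup E] [Module R E]
    (f : (R ⧸ p) →ₗ[R] E) (hf : InjHull.IsInjectiveHull f) :
    (((p : Set R) ∩ S).Nonempty → Subsingleton (LocalizedModule S E)) ∧
    (Disjoint (p : Set R) S → Function.Bijective (LocalizedModule.mkLinearMap S E) ∧
      ∃ g : (Localization S ⧸ p.map (algebraMap R (Localization S))) →ₗ[Localization S]
        LocalizedModule S E, InjHull.IsInjectiveHull g) := by
  haveI := hf.isInjective
  refine ⟨?_, ?_⟩
  · rintro ⟨t, htp, htS⟩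
    rw [LocalizedModule.subsingleton_iff]
    intro x
    obtain ⟨n, hn⟩ := exists_pow_smul_eq_zero R p f hf htp x
    exact ⟨t ^ n, S.pow_mem htS n, hn⟩
  · intro hdis
    have hS : ∀ s ∈ S, s ∉ p := fun s hs hsp => Set.disjoint_left.mp hdis hsp hs
    have hbij : Function.Bijective (LocalizedModule.mkLinearMap S E) := by
      constructor
      · rw [injective_iff_map_eq_zero]
        intro x hx
        obtain ⟨s', hs'⟩ :=
          (IsLocalizedModule.eq_zero_iff S (LocalizedModule.mkLinearMap S E)).mp hx
        exact eq_zero_of_smul_eq_zero R p f hf (hS _ s'.2) hs'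
      · intro z
        obtain ⟨⟨x, s⟩, hxs⟩ := IsLocalizedModule.surj S (LocalizedModule.mkLinearMap S E) z
        have hxs' : (s : R) • z = LocalizedModule.mkLinearMap S E x := hxs
        obtain ⟨x', hx'⟩ := exists_smul_eq_of_injective R (s : R)
          (fun y hy => eq_zero_of_smul_eq_zero R p f hf (hS _ s.2) hy) x
        refine ⟨x', ?_⟩
        have h0 : (s : R) • (LocalizedModule.mkLinearMap S E x' - z) = 0 := by
          rw [smul_sub, ← map_smul, hx', hxs', sub_self]
        exact sub_eq_zero.mp (LocalizedModule.eq_zero_of_smul_eq_zero (s : R) s.2 _ h0)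
    refine ⟨hbij, ?_⟩
    let y' : LocalizedModule S E := LocalizedModule.mkLinearMap S E (f 1)
    have hker : p.map (algebraMap R (Localization S)) ≤
        LinearMap.ker (LinearMap.toSpanSingleton (Localization S) (LocalizedModule S E) y') := by
      rw [Ideal.map_le_iff_le_comap]
      intro r hr
      rw [Ideal.mem_comap, LinearMap.mem_ker, LinearMap.toSpanSingleton_apply, algebraMap_smul]
      show r • LocalizedModule.mkLinearMap S E (f 1) = 0
      rw [← map_smul, ← f_mk, Ideal.Quotient.eq_zero_iff_mem.mpr hr, map_zero, map_zero]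
    let g : (Localization S ⧸ p.map (algebraMap R (Localization S))) →ₗ[Localization S]
        LocalizedModule S E :=
      Submodule.liftQ _ (LinearMap.toSpanSingleton (Localization S) (LocalizedModule S E) y') hker
    have hg : ∀ a : Localization S, g (Submodule.Quotient.mk a) = a • y' := fun a => by
      show Submodule.liftQ _ _ _ (Submodule.Quotient.mk a) = _
      rw [Submodule.liftQ_apply, LinearMap.toSpanSingleton_apply]
    have hull' := isInjectiveHull_map R S (R ⧸ p) E f hf
    refine ⟨g, ⟨⟨?_, ?_⟩, hull'.isInjective⟩⟩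
    · rw [injective_iff_map_eq_zero]
      intro q hq
      obtain ⟨a, rfl⟩ := Submodule.Quotient.mk_surjective _ q
      rw [hg] at hq
      obtain ⟨⟨r, s⟩, hrs⟩ := IsLocalization.surj S a
      have hrs' : a * algebraMap R (Localization S) (s : R) = algebraMap R (Localization S) r :=
        hrs
      have h1 : r • y' = 0 := by
        rw [← algebraMap_smul (Localization S) r y', ← hrs', mul_comm, mul_smul, hq, smul_zero]
      have h2 : LocalizedModule.mkLinearMap S E (f (Ideal.Quotient.mk p r)) = 0 := by
        rw [f_mk, map_smul]; exact h1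
      have h3 : f (Ideal.Quotient.mk p r) = 0 := hbij.1 (h2.trans (map_zero _).symm)
      have h4 : r ∈ p :=
        Ideal.Quotient.eq_zero_iff_mem.mp (hf.injective (h3.trans (map_zero f).symm))
      have h5 : a ∈ p.map (algebraMap R (Localization S)) := by
        have : a * algebraMap R (Localization S) (s : R) ∈
            p.map (algebraMap R (Localization S)) := by
          rw [hrs']; exact Ideal.mem_map_of_mem _ h4
        exact (Ideal.mul_unit_mem_iff_mem _ (IsLocalization.map_units (Localization S) s)).mp this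
      exact (Submodule.Quotient.mk_eq_zero _).mpr h5
    · intro N hN
      have hrange : LinearMap.range (LocalizedModule.map S f) ≤ LinearMap.range g := by
        rintro _ ⟨u, rfl⟩
        induction u using LocalizedModule.induction_on with
        | h c s =>
          obtain ⟨c₀, rfl⟩ := Ideal.Quotient.mk_surjective c
          refine ⟨Submodule.Quotient.mk (Localization.mk c₀ s), ?_⟩
          rw [hg, LocalizedModule.map_mk, f_mk]
          show Localization.mk c₀ s • LocalizedModule.mk (f 1) 1 = _
          rw [LocalizedModule.mk_smul_mk, mul_one]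
      exact fun h => hull'.essential N hN (eq_bot_mono (inf_le_inf_left N hrange) h)

end Prime

section Maximal

variable (R : Type u) [CommRing R] [IsNoetherianRing R]

/-- S11663 -/
theorem isArtinian_hull_maximal (m : Ideal R) [m.IsMaximal] (E : Type u) [AddCommGroup E]
    [Module R E] (f : (R ⧸ m) →ₗ[R] E) (hf : InjHull.IsInjectiveHull f) : IsArtinian R E := by
  have hdis : Disjoint (m : Set R) (m.primeCompl : Set R) := by
    rw [Set.disjoint_left]; intro a ha haS; exact haS ha
  obtain ⟨hbij, g, hg⟩ := (loc_hull R m m.primeCompl E f hf).2 hdis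
  haveI hArt : IsArtinian (Localization.AtPrime m) (LocalizedModule m.primeCompl E) := by
    have key : ∀ (I : Ideal (Localization.AtPrime m))
        (_ : I = IsLocalRing.maximalIdeal (Localization.AtPrime m))
        (g : (Localization.AtPrime m ⧸ I) →ₗ[Localization.AtPrime m]
          LocalizedModule m.primeCompl E),
        InjHull.IsInjectiveHull g →
          IsArtinian (Localization.AtPrime m) (LocalizedModule m.primeCompl E) := by
      intro I hI
      subst hI
      intro g hg
      exact Groth.Agent.Matlis.isArtinian_hull g hg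
    exact key _ Localization.AtPrime.map_eq_maximalIdeal g hg
  have htor := Groth.Agent.Matlis.isPowerTorsion_of_isArtinian (R := Localization.AtPrime m)
    (LocalizedModule m.primeCompl E)
  have hsm : ∀ (N : Submodule R (LocalizedModule m.primeCompl E)) (a : Localization.AtPrime m)
      (z : LocalizedModule m.primeCompl E), z ∈ N → a • z ∈ N := by
    intro N a z hz
    obtain ⟨n, hn⟩ := htor z
    obtain ⟨⟨r, s⟩, hrs⟩ := IsLocalization.surj m.primeCompl a
    have hrs' : a * algebraMap R (Localization.AtPrime m) (s : R) =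
        algebraMap R (Localization.AtPrime m) r := hrs
    have hcop1 : m ⊔ Ideal.span {(s : R)} = ⊤ := by
      by_contra htop
      have heq := Ideal.IsMaximal.eq_of_le ‹m.IsMaximal› htop le_sup_left
      have hsm' : (s : R) ∈ m ⊔ Ideal.span {(s : R)} :=
        Ideal.mem_sup_right (Ideal.subset_span (Set.mem_singleton _))
      exact s.2 ((SetLike.ext_iff.mp heq (s : R)).mpr hsm')
    have hcop : m ^ n ⊔ Ideal.span {(s : R)} = ⊤ := Ideal.pow_sup_eq_top hcop1
    have h1mem : (1 : R) ∈ m ^ n ⊔ Ideal.span {(s : R)} := by rw [hcop]; trivial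
    obtain ⟨v, hv, w, hw, hvw⟩ := Submodule.mem_sup.mp h1mem
    obtain ⟨u, rfl⟩ := Ideal.mem_span_singleton'.mp hw
    have hvz : v • z = 0 := by
      rw [← algebraMap_smul (Localization.AtPrime m) v z]
      apply hn
      rw [← Localization.AtPrime.map_eq_maximalIdeal, ← Ideal.map_pow]
      exact Ideal.mem_map_of_mem _ hv
    have h1 : (u * (s : R)) • z = z := by
      have := congrArg (fun c : R => c • z) hvw
      simp only [add_smul, one_smul, hvz, zero_add] at this
      exact this
    have h2 : a • z = (r * u) • z := by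
      calc a • z = a • ((u * (s : R)) • z) := by rw [h1]
        _ = a • (algebraMap R (Localization.AtPrime m) (u * (s : R)) • z) := by
            rw [algebraMap_smul]
        _ = (a * algebraMap R (Localization.AtPrime m) (s : R) *
              algebraMap R (Localization.AtPrime m) u) • z := by
            rw [← mul_smul, map_mul]; congr 1; ring
        _ = (algebraMap R (Localization.AtPrime m) (r * u)) • z := by rw [hrs', ← map_mul]
        _ = (r * u) • z := algebraMap_smul _ _ _
    rw [h2]; exact N.smul_mem _ hz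
  let Φ : Submodule R (LocalizedModule m.primeCompl E) →
      Submodule (Localization.AtPrime m) (LocalizedModule m.primeCompl E) := fun N =>
    { carrier := N
      add_mem' := N.add_mem
      zero_mem' := N.zero_mem
      smul_mem' := fun a z hz => hsm N a z hz }
  have hΦ : StrictMono Φ := fun N N' h => by
    refine lt_of_le_of_ne (fun z hz => h.le hz) (fun heq => h.ne ?_)
    ext z
    exact SetLike.ext_iff.mp heq z
  haveI : IsArtinian R (LocalizedModule m.primeCompl E) := hΦ.wellFoundedLT
  exact isArtinian_of_injective (LocalizedModule.mkLinearMap m.primeCompl E) hbij.1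

end Maximal

end Groth.Agent.InjHullLoc
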