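import Mathlib
import Groth.Prelude.Def_Wider
import Groth.Agent.Lib.CanonInjDim_helper6
import Groth.Agent.Lib.Matlis4_helper5
import Groth.Agent.Lib.GorHull_helper7
import Groth.Agent.S17756

/-!
# A Cohen–Macaulay local ring is Gorenstein iff its canonical module is free of rank one (helper6)

* `equiv_ring_of_dual_equiv`: a finite module `K` with `Hom(K, E) ≃ Hom(R, E)` is isomorphic to `R`;
* `gor_iff` (S7701).
-/

set_option autoImplicit false

open CategoryTheory IsLocalRing

namespace Groth.Agent.Lib.CanonGor_helper6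

universe u

section Tors

variable {R : Type u} [CommRing R]

lemma length_torsionBy_le {X Y : Type u} [AddCommGroup X] [Module R X] [AddCommGroup Y]
    [Module R Y] (e : X ≃ₗ[R] Y) (I : Ideal R) :
    Module.length R ↥(LocCoh.torsionBy I X) ≤ Module.length R ↥(LocCoh.torsionBy I Y) := by
  have hmem : ∀ x ∈ LocCoh.torsionBy I X, e.toLinearMap x ∈ LocCoh.torsionBy I Y := by
    intro x hx
    rw [Submodule.mem_torsionBySet_iff] at hx ⊢
    intro a
    show (a : R) • e x = 0
    rw [← map_smul, hx a, map_zero]
  apply Module.length_le_of_injective (e.toLinearMap.restrict hmem)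
  intro u v huv
  apply Subtype.ext
  apply e.injective
  exact congrArg Subtype.val huv

lemma length_torsionBy_congr {X Y : Type u} [AddCommGroup X] [Module R X] [AddCommGroup Y]
    [Module R Y] (e : X ≃ₗ[R] Y) (I : Ideal R) :
    Module.length R ↥(LocCoh.torsionBy I X) = Module.length R ↥(LocCoh.torsionBy I Y) :=
  le_antisymm (length_torsionBy_le e I) (length_torsionBy_le e.symm I)

end Tors

section Main

variable {R : Type u} [CommRing R] [IsLocalRing R] [IsNoetherianRing R] {E : Type u}
  [AddCommGroup E] [Module R E]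

/-- a finite module whose Matlis dual is that of `R` is free of rank one -/
theorem equiv_ring_of_dual_equiv (f : ResidueField R →ₗ[R] E) (hf : InjHull.IsInjectiveHull f)
    (K : Type u) [AddCommGroup K] [Module R K] [Module.Finite R K]
    (eD : (K →ₗ[R] E) ≃ₗ[R] (R →ₗ[R] E)) : Nonempty (K ≃ₗ[R] R) := by
  have h1 := Groth.Agent.S17756.result R E f hf K
  have h2 := Groth.Agent.S17756.result R E f hf R
  have h3 := length_torsionBy_congr eD (maximalIdeal R)
  have h4 : (⊤ : Submodule R R).spanFinrank = 1 := by
    have h : (⊤ : Submodule R R) = Submodule.span R {(1 : R)} := by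
      rw [eq_comm, eq_top_iff]
      intro c _
      rw [Submodule.mem_span_singleton]
      exact ⟨c, by rw [smul_eq_mul, mul_one]⟩
    rw [h]
    exact Submodule.spanFinrank_singleton one_ne_zero
  have h5 : (⊤ : Submodule R K).spanFinrank = 1 := by
    have h : ((⊤ : Submodule R K).spanFinrank : ℕ∞) = ((⊤ : Submodule R R).spanFinrank : ℕ∞) := by
      rw [h1, h3, ← h2]
    rw [h4] at h
    exact_mod_cast h
  obtain ⟨hp, -⟩ := (Submodule.spanFinrank_eq_one_iff _).1 h5
  obtain ⟨x, hx⟩ := hp.1
  have hsurj : Function.Surjective (LinearMap.toSpanSingleton R K x) := by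
    intro k
    have hk : k ∈ Submodule.span R {x} := by
      rw [← hx]
      trivial
    obtain ⟨r, rfl⟩ := Submodule.mem_span_singleton.1 hk
    exact ⟨r, rfl⟩
  have hinj : Function.Injective (LinearMap.toSpanSingleton R K x) := by
    rw [injective_iff_map_eq_zero]
    intro r hr
    rw [LinearMap.toSpanSingleton_apply] at hr
    have hannK : r ∈ Module.annihilator R K := by
      rw [Module.mem_annihilator]
      intro k
      obtain ⟨s, rfl⟩ := hsurj k
      rw [LinearMap.toSpanSingleton_apply, smul_comm, hr, smul_zero]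
    have hm := Groth.Agent.Matlis.matlis_noncomplete f hf
    rw [(hm.1 K).2, Module.mem_annihilator] at hannK
    have hannR : r ∈ Module.annihilator R R := by
      rw [(hm.1 R).2, Module.mem_annihilator]
      intro ψ
      have h' : eD (r • eD.symm ψ) = 0 := by rw [hannK (eD.symm ψ), map_zero]
      rwa [map_smul, LinearEquiv.apply_symm_apply] at h'
    rw [Module.mem_annihilator] at hannR
    have h1' := hannR 1
    rwa [smul_eq_mul, mul_one] at h1'
  exact ⟨(LinearEquiv.ofBijective _ ⟨hinj, hsurj⟩).symm⟩

end Main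

section Gor

variable {R : Type u} [CommRing R] [hCM : LocCoh.IsCohenMacaulayLocalRing R]

/-- S7701 -/
theorem gor_iff (n : ℕ) (hn : ringKrullDim R = n) (E : Type u) [AddCommGroup E] [Module R E]
    (f : ResidueField R →ₗ[R] E) (hf : InjHull.IsInjectiveHull f) (K : Type u) [AddCommGroup K]
    [Module R K] [Module.Finite R K]
    (eK : (K →ₗ[R] E) ≃ₗ[R] LocCoh.H (maximalIdeal R) n R) :
    LocCoh.IsGorensteinLocalRing R ↔ Nonempty (K ≃ₗ[R] R) := by
  constructor
  · intro hG
    obtain ⟨g, hg⟩ := Groth.Agent.Lib.GorHullH7.gorenstein_hull n R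
      hG.exists_hasInjectiveDimensionLT hn
    obtain ⟨e, _⟩ := Groth.Agent.Lib.InjHull_helper3.hull_unique f hf g hg
    exact equiv_ring_of_dual_equiv f hf K
      (eK.trans (e.symm.trans (LinearMap.ringLmapEquivSelf R R E).symm))
  · rintro ⟨e⟩
    obtain ⟨h1, -⟩ := Groth.Agent.Lib.CanonInjDim_helper6.main n hn E f hf K eK
    haveI := h1
    have h2 : HasInjectiveDimensionLT (ModuleCat.of R R) (n + 1) :=
      hasInjectiveDimensionLT_of_iso e.toModuleIso (n + 1)
    exact ⟨⟨n + 1, h2⟩⟩

end Gor

end Groth.Agent.Lib.CanonGor_helper6
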