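import Mathlib
import Groth.Prelude.Def_Wider
import Groth.Agent.Lib.CanonInjDim_helper6
import Groth.Agent.Lib.NonVan3_helper7
import Groth.Agent.Lib.LocCohGV_helper7

/-!
# Associated primes of the canonical module (helper6)

`Ass K = {p : dim R/p = dim R}` for a canonical module `K` of a Noetherian local ring (S7692).
-/

set_option autoImplicit false

open CategoryTheory IsLocalRing

namespace Groth.Agent.Lib.CanonAss_helper6

open Groth.Agent.Lib.CanonInjDim_helper6

universe u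

theorem dim_quot_succ_le {R : Type*} [CommRing R] (𝔮' 𝔮 : Ideal R) [h𝔮' : 𝔮'.IsPrime]
    (hlt : 𝔮' < 𝔮) : ringKrullDim (R ⧸ 𝔮) + 1 ≤ ringKrullDim (R ⧸ 𝔮') := by
  obtain ⟨t, ht𝔮, ht𝔮'⟩ := SetLike.exists_of_lt hlt
  haveI : IsDomain (R ⧸ 𝔮') := Ideal.Quotient.isDomain 𝔮'
  refine ringKrullDim_succ_le_of_surjective (Ideal.Quotient.factor hlt.le)
    (Ideal.Quotient.factor_surjective hlt.le) (r := Ideal.Quotient.mk 𝔮' t) ?_ ?_
  · apply mem_nonZeroDivisors_of_ne_zero
    intro h0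
    exact ht𝔮' (Ideal.Quotient.eq_zero_iff_mem.mp h0)
  · rw [Ideal.Quotient.factor_mk]
    exact Ideal.Quotient.eq_zero_iff_mem.mpr ht𝔮

variable {R : Type u} [CommRing R] [IsNoetherianRing R] [IsLocalRing R]
  (n : ℕ) (hn : ringKrullDim R = n) (E : Type u) [AddCommGroup E] [Module R E]
  (f : ResidueField R →ₗ[R] E) (hf : InjHull.IsInjectiveHull f)
  (K : Type u) [AddCommGroup K] [Module R K]
  (eK : (K →ₗ[R] E) ≃ₗ[R] LocCoh.H (maximalIdeal R) n R)

include hn hf eK in
/-- if `Hom(R/p, K) ≠ 0` then `dim R/p = n` -/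
theorem dim_of_hom_nontrivial (p : Ideal R) (hnt : Nontrivial (R ⧸ p →ₗ[R] K)) :
    ringKrullDim (R ⧸ p) = n := by
  have hle : ringKrullDim (R ⧸ p) ≤ n := by
    rw [← hn]
    exact ringKrullDim_quotient_le p
  by_contra hne
  have hlt : ringKrullDim (R ⧸ p) < n := lt_of_le_of_ne hle hne
  have hsd : Module.supportDim R (R ⧸ p) = ringKrullDim (R ⧸ p) :=
    Module.supportDim_quotient_eq_ringKrullDim p
  have h0 : Subsingleton (LocCoh.H (maximalIdeal R) n (R ⧸ p)) :=
    Groth.Agent.Lib.LocCohGVH7.GV (maximalIdeal R) (R ⧸ p) n (by rw [hsd]; exact hlt)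
  have h1 : Subsingleton ((R ⧸ p →ₗ[R] K) →ₗ[R] E) :=
    @Equiv.subsingleton _ _
      (Groth.Agent.Lib.LocDual_helper6.theta n hn E hf.isInjective K eK (R ⧸ p)).symm.toEquiv h0
  have h2 := subsingleton_of_dual f hf _ h1
  exact not_subsingleton _ h2

include hn hf eK in
/-- if `dim R/p = n` then `Hom(R/p, K) ≠ 0` -/
theorem hom_nontrivial_of_dim (p : Ideal R) (hp : p ≠ ⊤) (hdim : ringKrullDim (R ⧸ p) = n) :
    Nontrivial (R ⧸ p →ₗ[R] K) := by
  haveI : Nontrivial (R ⧸ p) := Ideal.Quotient.nontrivial_iff.2 hp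
  have hsd : Module.supportDim R (R ⧸ p) = n :=
    (Module.supportDim_quotient_eq_ringKrullDim p).trans hdim
  haveI := Groth.Agent.Lib.NonVan3H7.nonvanishing_module (R ⧸ p) n hsd
  by_contra hnt
  rw [not_nontrivial_iff_subsingleton] at hnt
  have h1 : Subsingleton ((R ⧸ p →ₗ[R] K) →ₗ[R] E) :=
    ⟨fun a c => LinearMap.ext fun φ => by rw [Subsingleton.elim φ 0, map_zero, map_zero]⟩
  exact not_subsingleton _ (@Equiv.subsingleton _ _
    (Groth.Agent.Lib.LocDual_helper6.theta n hn E hf.isInjective K eK (R ⧸ p)).toEquiv h1)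

include hn hf eK in
theorem dim_of_isAssociatedPrime (p : Ideal R) (hp : IsAssociatedPrime p K) :
    ringKrullDim (R ⧸ p) = n := by
  rw [isAssociatedPrime_iff_exists_injective_linearMap] at hp
  obtain ⟨hprime, g, hg⟩ := hp
  haveI : Nontrivial (R ⧸ p) := Ideal.Quotient.nontrivial_iff.2 hprime.ne_top
  apply dim_of_hom_nontrivial n hn E f hf K eK p
  refine ⟨⟨g, 0, fun h => ?_⟩⟩
  have h1 : g 1 = 0 := by rw [h]; rfl
  exact one_ne_zero (hg (h1.trans (map_zero g).symm))

include hn hf eK in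
/-- S7692 -/
theorem ass_eq : associatedPrimes R K =
    {p : Ideal R | p.IsPrime ∧ ringKrullDim (R ⧸ p) = n} := by
  ext p
  constructor
  · intro hp
    exact ⟨hp.isPrime, dim_of_isAssociatedPrime n hn E f hf K eK p hp⟩
  · rintro ⟨hprime, hdim⟩
    obtain ⟨φ, ψ, hφψ⟩ :=
      (hom_nontrivial_of_dim n hn E f hf K eK p hprime.ne_top hdim).exists_pair_ne
    have hχ0 : φ - ψ ≠ 0 := sub_ne_zero.2 hφψ
    have hone : ∀ r : R, (Ideal.Quotient.mk p r : R ⧸ p) = r • (1 : R ⧸ p) := by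
      intro r
      rw [Algebra.smul_def, mul_one]
      rfl
    have hx : (φ - ψ) 1 ≠ 0 := by
      intro h1
      apply hχ0
      apply LinearMap.ext
      intro y
      obtain ⟨r, rfl⟩ := Ideal.Quotient.mk_surjective y
      rw [hone r, map_smul, h1, smul_zero]
      rfl
    obtain ⟨P, hP, hle⟩ := exists_le_isAssociatedPrime_of_isNoetherianRing R ((φ - ψ) 1) hx
    have hpP : p ≤ P := by
      intro a ha
      apply hle
      rw [Submodule.mem_colon_singleton, Submodule.mem_bot, ← map_smul, ← hone a,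
        Ideal.Quotient.eq_zero_iff_mem.2 ha, map_zero]
    have hPdim := dim_of_isAssociatedPrime n hn E f hf K eK P hP
    rcases eq_or_lt_of_le hpP with heq | hlt
    · rw [heq]
      exact hP
    · exfalso
      have h3 := dim_quot_succ_le p P hlt
      rw [hPdim, hdim] at h3
      have h4 : ((n + 1 : ℕ) : WithBot ℕ∞) ≤ (n : WithBot ℕ∞) := by exact_mod_cast h3
      have h5 : n + 1 ≤ n := by exact_mod_cast h4
      omega

end Groth.Agent.Lib.CanonAss_helper6
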