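import Mathlib
import Groth.Prelude.Def_Wider
import Groth.Agent.Lib.CanonAss_helper6
import Groth.Agent.Lib.LocCohCM_helper7

/-!
# Endomorphisms of the canonical module modulo a regular element (helper6)

* `isSMulRegular_K`: an `R`-regular element of `m` is regular on a canonical module;
* `ext1_self`: `Ext¹(K, K) = 0` over a CM local ring of positive dimension;
* `endo_reduction` (S7705).
-/

set_option autoImplicit false

open CategoryTheory IsLocalRing Abelian
open scoped Pointwise

namespace Groth.Agent.Lib.CanonEnd_helper6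

open Groth.Agent.Lib.CanonInjDim_helper6 Groth.Agent.Lib.CanonAss_helper6 Groth.Agent.DepthLib

universe u

section General

variable {R : Type u} [CommRing R] [IsNoetherianRing R] [IsLocalRing R]
  (n : ℕ) (hn : ringKrullDim R = n) (E : Type u) [AddCommGroup E] [Module R E]
  (f : ResidueField R →ₗ[R] E) (hf : InjHull.IsInjectiveHull f)
  (K : Type u) [AddCommGroup K] [Module R K]
  (eK : (K →ₗ[R] E) ≃ₗ[R] LocCoh.H (maximalIdeal R) n R)

include hn in
theorem dim_quot_regular (a : R) (hreg : IsSMulRegular R a) :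
    ringKrullDim (R ⧸ Ideal.span {a}) + 1 ≤ (n : WithBot ℕ∞) := by
  have hnzd : a ∈ nonZeroDivisors R := by
    rw [mem_nonZeroDivisors_iff_left]
    intro x hx
    apply hreg
    show a • x = a • 0
    rw [smul_eq_mul, hx, smul_zero]
  have h1 := ringKrullDim_quotient_succ_le_of_nonZeroDivisor hnzd
  rwa [hn] at h1

include hn in
theorem one_le_dim (a : R) (ha : a ∈ maximalIdeal R) (hreg : IsSMulRegular R a) : 1 ≤ n := by
  have h1 := dim_quot_regular n hn a hreg
  have hne : Ideal.span {a} ≠ (⊤ : Ideal R) := by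
    intro h
    have h1' : (1 : R) ∈ Ideal.span {a} := by rw [h]; trivial
    have hle : Ideal.span {a} ≤ maximalIdeal R := (Ideal.span_singleton_le_iff_mem _).2 ha
    exact (maximalIdeal.isMaximal R).ne_top ((Ideal.eq_top_iff_one _).2 (hle h1'))
  haveI : Nontrivial (R ⧸ Ideal.span {a}) := Ideal.Quotient.nontrivial_iff.2 hne
  have h0 : (0 : WithBot ℕ∞) ≤ ringKrullDim (R ⧸ Ideal.span {a}) := ringKrullDim_nonneg_of_nontrivial
  have h2 : (1 : WithBot ℕ∞) ≤ (n : WithBot ℕ∞) :=
    calc (1 : WithBot ℕ∞) = 0 + 1 := (zero_add 1).symm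
      _ ≤ ringKrullDim (R ⧸ Ideal.span {a}) + 1 := add_le_add_left h0 1
      _ ≤ n := h1
  have h3 : ((1 : ℕ) : WithBot ℕ∞) ≤ (n : WithBot ℕ∞) := by exact_mod_cast h2
  exact_mod_cast h3

include hn hf eK in
/-- an `R`-regular element is regular on the canonical module -/
theorem isSMulRegular_K (a : R) (hreg : IsSMulRegular R a) : IsSMulRegular K a := by
  have h1 := dim_quot_regular n hn a hreg
  have key : ∀ k : K, a • k = 0 → k = 0 := by
    intro k hk
    by_contra hk0
    have hle : Ideal.span {a} ≤ LinearMap.ker (LinearMap.toSpanSingleton R K k) := by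
      rw [Ideal.span_singleton_le_iff_mem, LinearMap.mem_ker, LinearMap.toSpanSingleton_apply]
      exact hk
    let φ : (R ⧸ Ideal.span {a}) →ₗ[R] K :=
      Submodule.liftQ (Ideal.span {a}) (LinearMap.toSpanSingleton R K k) hle
    have hφ : φ (Submodule.Quotient.mk 1) = k := by
      show Submodule.liftQ _ _ _ (Submodule.Quotient.mk 1) = k
      rw [Submodule.liftQ_apply, LinearMap.toSpanSingleton_apply, one_smul]
    have hnt : Nontrivial ((R ⧸ Ideal.span {a}) →ₗ[R] K) := by
      refine ⟨⟨φ, 0, fun h => hk0 ?_⟩⟩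
      rw [← hφ, h]
      rfl
    have h2 := dim_of_hom_nontrivial n hn E f hf K eK (Ideal.span {a}) hnt
    rw [h2] at h1
    have h4 : ((n + 1 : ℕ) : WithBot ℕ∞) ≤ (n : WithBot ℕ∞) := by exact_mod_cast h1
    have h5 : n + 1 ≤ n := by exact_mod_cast h4
    omega
  intro k1 k2 hk
  have h : a • (k1 - k2) = 0 := by
    rw [smul_sub, sub_eq_zero]
    exact hk
  exact sub_eq_zero.1 (key _ h)

end General

section CM

variable {R : Type u} [CommRing R] [hCM : LocCoh.IsCohenMacaulayLocalRing R]
  (n : ℕ) (hn : ringKrullDim R = n) (E : Type u) [AddCommGroup E] [Module R E]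
  (f : ResidueField R →ₗ[R] E) (hf : InjHull.IsInjectiveHull f)
  (K : Type u) [AddCommGroup K] [Module R K] [Module.Finite R K]
  (eK : (K →ₗ[R] E) ≃ₗ[R] LocCoh.H (maximalIdeal R) n R)

include hn hf eK in
/-- `Ext^i(K, K) = 0` for `0 < i ≤ n` -/
theorem ext_self (i : ℕ) (hi0 : 0 < i) (hin : i ≤ n) :
    Subsingleton (Abelian.Ext (ModuleCat.of R K) (ModuleCat.of R K) i) := by
  have hdepth := (depth_and_dim n hn E f hf K eK).1
  have hle : (n : ℕ∞) ≤ LocCoh.idealDepth (maximalIdeal R) K := le_of_eq hdepth.symm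
  have h0 := (Groth.Agent.Lib.LocCohCMH7.vanishing_iff_le_depth (maximalIdeal R) K n).2 hle
    (n - i) (by omega)
  exact ext_subsingleton_of_H n hn E f hf K eK i (n - i) (by omega) K h0

include hn hf eK in
/-- S7705 -/
theorem endo_reduction (a : R) (ha : a ∈ maximalIdeal R) (hreg : IsSMulRegular R a) :
    (∀ ψ : (K ⧸ (a • (⊤ : Submodule R K))) →ₗ[R] (K ⧸ (a • (⊤ : Submodule R K))),
      ∃ g : K →ₗ[R] K, ∀ x : K, ψ (Submodule.Quotient.mk x) = Submodule.Quotient.mk (g x)) ∧
    (∀ g : K →ₗ[R] K, (∀ x : K, g x ∈ a • (⊤ : Submodule R K)) ↔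
      ∃ g' : K →ₗ[R] K, g = a • g') := by
  have hKreg : IsSMulRegular K a := isSMulRegular_K n hn E f hf K eK a hreg
  have hn1 : 1 ≤ n := one_le_dim n hn a ha hreg
  have hExt := ext_self n hn E f hf K eK 1 Nat.one_pos hn1
  constructor
  · intro ψ
    let ι : K →ₗ[R] K := a • LinearMap.id
    let π : K →ₗ[R] (K ⧸ (a • (⊤ : Submodule R K))) := (a • (⊤ : Submodule R K)).mkQ
    have hι : Function.Injective ι := fun x y hxy => hKreg hxy
    have hπ : Function.Surjective π := Submodule.mkQ_surjective _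
    have hex : Function.Exact ι π := by
      intro y
      constructor
      · intro hy
        rw [Submodule.mkQ_apply, Submodule.Quotient.mk_eq_zero] at hy
        obtain ⟨z, -, hz⟩ := (Submodule.mem_smul_pointwise_iff_exists _ _ _).1 hy
        exact ⟨z, hz⟩
      · rintro ⟨z, rfl⟩
        rw [Submodule.mkQ_apply, Submodule.Quotient.mk_eq_zero]
        exact Submodule.smul_mem_pointwise_smul z a ⊤ trivial
    have hS := shortComplexOf_shortExact ι π hι hπ hex
    let x₃ : Ext (ModuleCat.of R K) (shortComplexOf ι π hex).X₃ 0 :=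
      Ext.mk₀ (ModuleCat.ofHom (ψ ∘ₗ π))
    obtain ⟨x₂, hx₂⟩ := Ext.covariant_sequence_exact₃ (ModuleCat.of R K) hS x₃ rfl
      (@Subsingleton.elim _ hExt _ _)
    obtain ⟨g, rfl⟩ := (Ext.mk₀_bijective _ _).2 x₂
    rw [Ext.mk₀_comp_mk₀] at hx₂
    have hg := (Ext.mk₀_bijective _ _).1 hx₂
    refine ⟨g.hom, fun x => ?_⟩
    have h := congrArg (fun φ => φ.hom x) hg
    exact h.symm
  · intro g
    constructor
    · intro hg
      have hex' : ∀ x, ∃ y, a • y = g x := fun x => by
        obtain ⟨y, -, hy⟩ := (Submodule.mem_smul_pointwise_iff_exists _ _ _).1 (hg x)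
        exact ⟨y, hy⟩
      choose g' hg' using hex'
      refine ⟨{ toFun := g', map_add' := ?_, map_smul' := ?_ }, ?_⟩
      · intro x y
        apply hKreg
        show a • g' (x + y) = a • (g' x + g' y)
        rw [smul_add, hg', hg', hg', map_add]
      · intro r x
        apply hKreg
        show a • g' (r • x) = a • ((RingHom.id R) r • g' x)
        rw [RingHom.id_apply, smul_comm, hg', hg', map_smul]
      · apply LinearMap.ext
        intro x
        rw [LinearMap.smul_apply]
        exact (hg' x).symm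
    · rintro ⟨g', rfl⟩ x
      rw [LinearMap.smul_apply]
      exact Submodule.smul_mem_pointwise_smul (g' x) a ⊤ trivial

end CM

end Groth.Agent.Lib.CanonEnd_helper6
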