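import Mathlib
import Groth.Prelude.Def_Wider
import Groth.Agent.Lib.CanonEnd_helper6

/-!
# Systems of parameters and the canonical module (helper6)

* `supportDim_quot_le`: `dim R/J ≤ r` if `J + (y₁, …, y_r)` is `m`-primary;
* `ext1_vanish_of_H`: `Ext¹(N, K) = 0` if `H^{n-1}_m(N) = 0` (any Noetherian local ring with
  canonical module `K`);
* `sop_regular` (S7693): the first two elements of a system of parameters form a `K`-regular
  sequence.
-/

set_option autoImplicit false

open CategoryTheory IsLocalRing Abelian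
open scoped Pointwise TensorProduct

namespace Groth.Agent.Lib.CanonSop_helper6

open Groth.Agent.Lib.CanonInjDim_helper6 Groth.Agent.Lib.CanonAss_helper6 Groth.Agent.DepthLib
open Groth.Agent.Lib.CanonEnd_helper6
open Groth.Agent.Lib.EWH7 Groth.Agent.Lib.EWFin_helper6 Groth.Agent.Lib.LocDual_helper6
open Groth.Agent.Lib.LocDual2_helper6

universe u

section Dim

variable {R : Type u} [CommRing R] [IsNoetherianRing R] [IsLocalRing R]

theorem supportDim_quot_eq_of_zeroLocus (M N : Type u) [AddCommGroup M] [Module R M]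
    [AddCommGroup N] [Module R N] (h : Module.support R M = Module.support R N) :
    Module.supportDim R M = Module.supportDim R N := by
  unfold Module.supportDim
  rw [h]

theorem support_quot (J : Ideal R) :
    Module.support R (R ⧸ J) = PrimeSpectrum.zeroLocus (J : Set R) := by
  rw [Module.support_eq_zeroLocus, Ideal.annihilator_quotient]

theorem supportDim_quot_le : ∀ (ys : List R), (∀ y ∈ ys, y ∈ maximalIdeal R) → ∀ J : Ideal R,
    maximalIdeal R ≤ (J ⊔ Ideal.ofList ys).radical →
    Module.supportDim R (R ⧸ J) ≤ (ys.length : WithBot ℕ∞) := by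
  intro ys
  induction ys with
  | nil =>
    intro _ J hrad
    rw [Ideal.ofList_nil, sup_bot_eq] at hrad
    have hsub : Subsingleton ↥(Module.support R (R ⧸ J)) := by
      refine ⟨fun p q => ?_⟩
      have key : ∀ x : ↥(Module.support R (R ⧸ J)), x.1.asIdeal = maximalIdeal R := by
        intro x
        have hx : x.1 ∈ PrimeSpectrum.zeroLocus (J : Set R) := by
          rw [← support_quot]
          exact x.2
        have hJ : J ≤ x.1.asIdeal := (PrimeSpectrum.mem_zeroLocus _ _).1 hx
        have hm : maximalIdeal R ≤ x.1.asIdeal :=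
          hrad.trans ((Ideal.IsPrime.radical_le_iff x.1.2).2 hJ)
        exact ((maximalIdeal.isMaximal R).eq_of_le x.1.2.ne_top hm).symm
      apply Subtype.ext
      apply PrimeSpectrum.ext
      rw [key p, key q]
    unfold Module.supportDim
    rw [List.length_nil, Nat.cast_zero]
    exact Order.krullDim_nonpos_of_subsingleton
  | cons y ys ih =>
    intro hys J hrad
    have hy : y ∈ maximalIdeal R := hys y List.mem_cons_self
    have h1 := Module.supportDim_le_supportDim_quotSMulTop_succ (R := R) (M := R ⧸ J) hy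
    have h2 : Module.supportDim R (QuotSMulTop y (R ⧸ J)) =
        Module.supportDim R (R ⧸ (J ⊔ Ideal.span {y})) := by
      apply supportDim_quot_eq_of_zeroLocus
      rw [Module.support_quotSMulTop, support_quot, support_quot, PrimeSpectrum.zeroLocus_sup,
        PrimeSpectrum.zeroLocus_span]
    have h3 := ih (fun z hz => hys z (List.mem_cons_of_mem y hz)) (J ⊔ Ideal.span {y}) (by
      rw [sup_assoc, ← Ideal.ofList_cons]
      exact hrad)
    rw [h2] at h1
    calc Module.supportDim R (R ⧸ J) ≤ Module.supportDim R (R ⧸ (J ⊔ Ideal.span {y})) + 1 := h1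
      _ ≤ (ys.length : WithBot ℕ∞) + 1 := add_le_add_left h3 1
      _ = ((y :: ys).length : WithBot ℕ∞) := by
        rw [List.length_cons]
        push_cast
        rfl

end Dim

section LC

open Groth.Agent.Lib.LCDelta0H7

variable {R : Type u} [CommRing R] (I : Ideal R)

theorem ker_subsingleton {S : ShortComplex (ModuleCat.{u} R)} (hS : S.ShortExact) (q : ℕ)
    (h3 : Subsingleton ((localCohomology I q).obj S.X₃)) :
    Subsingleton ↥(LinearMap.ker ((localCohomology I (q + 1)).map S.f).hom) := by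
  have h3' : Subsingleton ↑((F0 I q).obj S.X₃) := (F0_equiv I q S.X₃).toEquiv.subsingleton
  have h1 : LinearMap.range ((T0 I).δ S hS q (q + 1) rfl).hom =
      LinearMap.ker (((T0 I).F (q + 1)).map S.f).hom :=
    (ShortComplex.moduleCat_exact_iff_range_eq_ker _).1 ((T0 I).exact₁ S hS q (q + 1) rfl)
  have key : ∀ x : ↥(LinearMap.ker (((T0 I).F (q + 1)).map S.f).hom), x = 0 := by
    intro x
    have hx : x.1 ∈ LinearMap.range ((T0 I).δ S hS q (q + 1) rfl).hom := by
      rw [h1]
      exact x.2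
    obtain ⟨y, hy⟩ := hx
    apply Subtype.ext
    rw [← hy, show y = 0 from @Subsingleton.elim _ h3' y 0, map_zero]
    rfl
  exact ⟨fun a b => (key a).trans (key b).symm⟩

end LC

section General

variable {R : Type u} [CommRing R] [IsNoetherianRing R] [IsLocalRing R]
  (n : ℕ) (hn : ringKrullDim R = n) (E : Type u) [AddCommGroup E] [Module R E]
  (f : ResidueField R →ₗ[R] E) (hf : InjHull.IsInjectiveHull f)
  (K : Type u) [AddCommGroup K] [Module R K]
  (eK : (K →ₗ[R] E) ≃ₗ[R] LocCoh.H (maximalIdeal R) n R)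

lemma theta_tM' (hE : Module.Injective R E) (M : Type u) [AddCommGroup M] [Module R M]
    [Module.Finite R M] (w : ↑((Tn R n).obj (ModuleCat.of R R)) ⊗[R] M) :
    LocDual_helper6.theta n hn E hE K eK M (tM (Tn R n) (ModuleCat.of R M) w) =
      tM (Td (A := R) K E) (ModuleCat.of R M)
        (TensorProduct.congr (e0 n E K eK) (LinearEquiv.refl R M) w) := by
  unfold LocDual_helper6.theta
  rw [LinearEquiv.trans_apply, LinearEquiv.trans_apply]
  have h : (LinearEquiv.ofBijective (tM (Tn R n) (ModuleCat.of R M)) (tM_bij_H n hn M)).symm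
      (tM (Tn R n) (ModuleCat.of R M) w) = w := by
    rw [LinearEquiv.symm_apply_eq]
    rfl
  rw [h]
  rfl

theorem theta_nat' (hE : Module.Injective R E) {M M' : Type u} [AddCommGroup M] [Module R M]
    [Module.Finite R M] [AddCommGroup M'] [Module R M'] [Module.Finite R M'] (g : M →ₗ[R] M')
    (x : LocCoh.H (IsLocalRing.maximalIdeal R) n M) :
    LocDual_helper6.theta n hn E hE K eK M' (((Tn R n).map (ModuleCat.ofHom g)).hom x) =
      ((Td (A := R) K E).map (ModuleCat.ofHom g)).hom
        (LocDual_helper6.theta n hn E hE K eK M x) := by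
  obtain ⟨w, rfl⟩ := (tM_bij_H n hn M).2 x
  rw [tM_nat, theta_tM', theta_tM', tM_nat]
  congr 1
  induction w using TensorProduct.induction_on with
  | zero => simp
  | tmul y m => rfl
  | add a b ha hb => simp only [map_add, ha, hb]

include hn hf eK in
theorem nontrivial_K' : Nontrivial K := by
  by_contra hK
  rw [not_nontrivial_iff_subsingleton] at hK
  haveI := Groth.Agent.Lib.NonVan2H7.nonvanishing_ring R n hn
  haveI : Subsingleton (K →ₗ[R] E) :=
    ⟨fun a c => LinearMap.ext fun x => by rw [Subsingleton.elim x 0, map_zero, map_zero]⟩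
  exact not_subsingleton _ (eK.symm.toEquiv.subsingleton)

include hn hf eK in
/-- if `dim R/J < n` then no nonzero element of `K` is killed by `J` -/
theorem eq_zero_of_smul_eq_zero (J : Ideal R) (hJ : ringKrullDim (R ⧸ J) < n) (k : K)
    (hk : ∀ r ∈ J, r • k = 0) : k = 0 := by
  by_contra hk0
  have hle : J ≤ LinearMap.ker (LinearMap.toSpanSingleton R K k) := by
    intro r hr
    rw [LinearMap.mem_ker, LinearMap.toSpanSingleton_apply]
    exact hk r hr
  let φ : (R ⧸ J) →ₗ[R] K := Submodule.liftQ J (LinearMap.toSpanSingleton R K k) hle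
  have hφ : φ (Submodule.Quotient.mk 1) = k := by
    show Submodule.liftQ _ _ _ (Submodule.Quotient.mk 1) = k
    rw [Submodule.liftQ_apply, LinearMap.toSpanSingleton_apply, one_smul]
  have hnt : Nontrivial ((R ⧸ J) →ₗ[R] K) := by
    refine ⟨⟨φ, 0, fun h => hk0 ?_⟩⟩
    rw [← hφ, h]
    rfl
  have h2 := dim_of_hom_nontrivial n hn E f hf K eK J hnt
  rw [h2] at hJ
  exact lt_irrefl _ hJ

include hn hf eK in
theorem isSMulRegular_K_of_dim_lt (a : R) (h : ringKrullDim (R ⧸ Ideal.span {a}) < n) :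
    IsSMulRegular K a := by
  intro k1 k2 hk
  have h' : a • (k1 - k2) = 0 := by
    rw [smul_sub, sub_eq_zero]
    exact hk
  refine sub_eq_zero.1 (eq_zero_of_smul_eq_zero n hn E f hf K eK (Ideal.span {a}) h _ ?_)
  intro r hr
  obtain ⟨s, rfl⟩ := Ideal.mem_span_singleton'.1 hr
  rw [mul_smul, h', smul_zero]

include hn hf eK in
/-- `Ext¹(N, K) = 0` as soon as `H^{n-1}_m(N) = 0` -/
theorem ext1_vanish_of_H (q : ℕ) (hq : n = q + 1) (N : Type u) [AddCommGroup N] [Module R N]
    [Module.Finite R N] (h : Subsingleton (LocCoh.H (maximalIdeal R) q N)) :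
    Subsingleton (Abelian.Ext (ModuleCat.of R N) (ModuleCat.of R K) 1) := by
  subst hq
  have hE := hf.isInjective
  obtain ⟨b, π, hπ⟩ := Module.Finite.exists_fin' R N
  have hι : Function.Injective (LinearMap.ker π).subtype := Submodule.injective_subtype _
  have hιπ : Function.Exact (LinearMap.ker π).subtype π := LinearMap.exact_subtype_ker_map π
  have hS := shortComplexOf_shortExact (LinearMap.ker π).subtype π hι hπ hιπ
  obtain ⟨e4⟩ := Groth.Agent.ExtBC.ext1 (LinearMap.ker π).subtype π hι hιπ hπ K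
  obtain ⟨e2⟩ := Groth.Agent.Lib.HmapKer_helper6.ker_equiv
    ((Tn R (q + 1)).map (ModuleCat.ofHom (LinearMap.ker π).subtype)).hom
    ((Td (A := R) K E).map (ModuleCat.ofHom (LinearMap.ker π).subtype)).hom
    (LocDual_helper6.theta (q + 1) hn E hE K eK ↥(LinearMap.ker π)).toLinearMap
    (LocDual_helper6.theta (q + 1) hn E hE K eK (Fin b → R)).toLinearMap
    (LocDual_helper6.theta (q + 1) hn E hE K eK ↥(LinearMap.ker π)).bijective
    (LocDual_helper6.theta (q + 1) hn E hE K eK (Fin b → R)).injective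
    (fun x => (theta_nat' (q + 1) hn E K eK hE (LinearMap.ker π).subtype x).symm)
  have hk0 : Subsingleton
      ↥(LinearMap.ker ((Tn R (q + 1)).map (ModuleCat.ofHom (LinearMap.ker π).subtype)).hom) :=
    ker_subsingleton (maximalIdeal R) hS q h
  have hk2 := @Equiv.subsingleton _ _
    ((homQuotEquiv (E := E) (LinearMap.lcomp R K (LinearMap.ker π).subtype)).trans
      e2.symm).toEquiv hk0
  have hk3 := subsingleton_of_dual f hf _ hk2
  exact @Equiv.subsingleton _ _ e4.toEquiv hk3

end General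

section Lift

variable {R : Type u} [CommRing R]

/-- lifting homomorphisms to `K/aK` along `K → K/aK` when `Ext¹(X, K) = 0` -/
theorem hom_quot_lift (X K : Type u) [AddCommGroup X] [Module R X] [AddCommGroup K] [Module R K]
    (a : R) (hKreg : IsSMulRegular K a)
    (hExt : Subsingleton (Abelian.Ext (ModuleCat.of R X) (ModuleCat.of R K) 1))
    (ψ : X →ₗ[R] (K ⧸ (a • (⊤ : Submodule R K)))) :
    ∃ g : X →ₗ[R] K, ∀ x : X, ψ x = Submodule.Quotient.mk (g x) := by
  let ι : K →ₗ[R] K := a • LinearMap.id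
  let π : K →ₗ[R] (K ⧸ (a • (⊤ : Submodule R K))) := (a • (⊤ : Submodule R K)).mkQ
  have hι : Function.Injective ι := fun x y hxy => hKreg hxy
  have hπ : Function.Surjective π := Submodule.mkQ_surjective _
  have hex : Function.Exact ι π := by
    intro y
    constructor
    · intro hy
      rw [Submodule.mkQ_apply, Submodule.Quotient.mk_eq_zero] at hy
      obtain ⟨z, -, hz⟩ := (Submodule.mem_smul_pointwise_iff_exists _ _ _).1 hy
      exact ⟨z, hz⟩
    · rintro ⟨z, rfl⟩
      rw [Submodule.mkQ_apply, Submodule.Quotient.mk_eq_zero]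
      exact Submodule.smul_mem_pointwise_smul z a ⊤ trivial
  have hS := shortComplexOf_shortExact ι π hι hπ hex
  let x₃ : Ext (ModuleCat.of R X) (shortComplexOf ι π hex).X₃ 0 :=
    Ext.mk₀ (ModuleCat.ofHom ψ)
  obtain ⟨x₂, hx₂⟩ := Ext.covariant_sequence_exact₃ (ModuleCat.of R X) hS x₃ rfl
    (@Subsingleton.elim _ hExt _ _)
  obtain ⟨g, rfl⟩ := (Ext.mk₀_bijective _ _).2 x₂
  rw [Ext.mk₀_comp_mk₀] at hx₂
  have hg := (Ext.mk₀_bijective _ _).1 hx₂
  refine ⟨g.hom, fun x => ?_⟩
  have h := congrArg (fun φ => φ.hom x) hg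
  exact h.symm

end Lift

section Sop

variable {R : Type u} [CommRing R] [IsNoetherianRing R] [IsLocalRing R]
  (n : ℕ) (hn : ringKrullDim R = n) (E : Type u) [AddCommGroup E] [Module R E]
  (f : ResidueField R →ₗ[R] E) (hf : InjHull.IsInjectiveHull f)
  (K : Type u) [AddCommGroup K] [Module R K] [Module.Finite R K]
  (eK : (K →ₗ[R] E) ≃ₗ[R] LocCoh.H (maximalIdeal R) n R)

include hn hf eK in
/-- S7693 -/
theorem sop_regular (hn0 : 0 < n) (a : Fin n → R) (ha : ∀ i, a i ∈ maximalIdeal R)
    (hsop : maximalIdeal R ≤ (Ideal.span (Set.range a)).radical) :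
    IsSMulRegular K (a ⟨0, hn0⟩) ∧
      (∀ h2 : 2 ≤ n, RingTheory.Sequence.IsRegular K [a ⟨0, hn0⟩, a ⟨1, h2⟩]) := by
  obtain ⟨k, rfl⟩ : ∃ k, n = k + 1 := ⟨n - 1, by omega⟩
  -- first element
  have hys1 : ∀ y ∈ List.ofFn (fun i : Fin k => a i.succ), y ∈ maximalIdeal R := by
    intro y hy
    obtain ⟨i, rfl⟩ := List.mem_ofFn.1 hy
    exact ha _
  have hsub1 : Ideal.span (Set.range a) ≤
      Ideal.span {a ⟨0, hn0⟩} ⊔ Ideal.ofList (List.ofFn (fun i : Fin k => a i.succ)) := by
    rw [Ideal.span_le]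
    rintro _ ⟨i, rfl⟩
    refine Fin.cases ?_ (fun j => ?_) i
    · exact Ideal.mem_sup_left (Ideal.subset_span rfl)
    · exact Ideal.mem_sup_right (Ideal.subset_span (List.mem_ofFn.2 ⟨j, rfl⟩))
  have hd1 := supportDim_quot_le (List.ofFn (fun i : Fin k => a i.succ)) hys1
    (Ideal.span {a ⟨0, hn0⟩}) (hsop.trans (Ideal.radical_mono hsub1))
  rw [List.length_ofFn, Module.supportDim_quotient_eq_ringKrullDim] at hd1
  have hlt1 : ringKrullDim (R ⧸ Ideal.span {a ⟨0, hn0⟩}) < ((k + 1 : ℕ) : WithBot ℕ∞) :=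
    lt_of_le_of_lt hd1 (by exact_mod_cast Nat.lt_succ_self k)
  have hreg0 : IsSMulRegular K (a ⟨0, hn0⟩) :=
    isSMulRegular_K_of_dim_lt (k + 1) hn E f hf K eK _ hlt1
  refine ⟨hreg0, fun h2 => ?_⟩
  obtain ⟨k', rfl⟩ : ∃ k', k = k' + 1 := ⟨k - 1, by omega⟩
  -- second element
  set a0 := a ⟨0, hn0⟩ with ha0
  set a1 := a ⟨1, h2⟩ with ha1
  have hys2 : ∀ y ∈ List.ofFn (fun i : Fin k' => a i.succ.succ), y ∈ maximalIdeal R := by
    intro y hy
    obtain ⟨i, rfl⟩ := List.mem_ofFn.1 hy
    exact ha _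
  have hsub2 : Ideal.span (Set.range a) ≤
      (Ideal.span {a0} ⊔ Ideal.span {a1}) ⊔
        Ideal.ofList (List.ofFn (fun i : Fin k' => a i.succ.succ)) := by
    rw [Ideal.span_le]
    rintro _ ⟨i, rfl⟩
    refine Fin.cases ?_ (fun j => Fin.cases ?_ (fun l => ?_) j) i
    · exact Ideal.mem_sup_left (Ideal.mem_sup_left (Ideal.subset_span rfl))
    · exact Ideal.mem_sup_left (Ideal.mem_sup_right (Ideal.subset_span rfl))
    · exact Ideal.mem_sup_right (Ideal.subset_span (List.mem_ofFn.2 ⟨l, rfl⟩))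
  have hd2 := supportDim_quot_le (List.ofFn (fun i : Fin k' => a i.succ.succ)) hys2
    (Ideal.span {a0} ⊔ Ideal.span {a1}) (hsop.trans (Ideal.radical_mono hsub2))
  rw [List.length_ofFn] at hd2
  -- vanishing of `Hom(N, K)` and `Ext¹(N, K)` for `N = R/(a0, a1)`
  have hH : Subsingleton (LocCoh.H (maximalIdeal R) (k' + 1)
      (R ⧸ (Ideal.span {a0} ⊔ Ideal.span {a1}))) := by
    apply Groth.Agent.Lib.LocCohGVH7.GV
    exact lt_of_le_of_lt hd2 (by exact_mod_cast Nat.lt_succ_self k')
  have hExt := ext1_vanish_of_H (k' + 1 + 1) hn E f hf K eK (k' + 1) rfl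
    (R ⧸ (Ideal.span {a0} ⊔ Ideal.span {a1})) hH
  have hlt2 : ringKrullDim (R ⧸ (Ideal.span {a0} ⊔ Ideal.span {a1})) <
      ((k' + 1 + 1 : ℕ) : WithBot ℕ∞) := by
    rw [← Module.supportDim_quotient_eq_ringKrullDim]
    exact lt_of_le_of_lt hd2 (by exact_mod_cast (by omega : k' < k' + 1 + 1))
  have hreg1 : IsSMulRegular (QuotSMulTop a0 K) a1 := by
    have key : ∀ kb : QuotSMulTop a0 K, a1 • kb = 0 → kb = 0 := by
      intro kb hkb
      have hle : (Ideal.span {a0} ⊔ Ideal.span {a1}) ≤
          LinearMap.ker (LinearMap.toSpanSingleton R (QuotSMulTop a0 K) kb) := by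
        rw [sup_le_iff, Ideal.span_singleton_le_iff_mem, Ideal.span_singleton_le_iff_mem,
          LinearMap.mem_ker, LinearMap.mem_ker, LinearMap.toSpanSingleton_apply,
          LinearMap.toSpanSingleton_apply]
        refine ⟨?_, hkb⟩
        obtain ⟨x, rfl⟩ := Submodule.Quotient.mk_surjective _ kb
        rw [← Submodule.Quotient.mk_smul, Submodule.Quotient.mk_eq_zero]
        exact Submodule.smul_mem_pointwise_smul x a0 ⊤ trivial
      let φ : (R ⧸ (Ideal.span {a0} ⊔ Ideal.span {a1})) →ₗ[R] QuotSMulTop a0 K :=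
        Submodule.liftQ _ (LinearMap.toSpanSingleton R (QuotSMulTop a0 K) kb) hle
      have hφ : φ (Submodule.Quotient.mk 1) = kb := by
        show Submodule.liftQ _ _ _ (Submodule.Quotient.mk 1) = kb
        rw [Submodule.liftQ_apply, LinearMap.toSpanSingleton_apply, one_smul]
      obtain ⟨g, hg⟩ := hom_quot_lift (R ⧸ (Ideal.span {a0} ⊔ Ideal.span {a1})) K a0 hreg0
        hExt φ
      have hg0 : g (Submodule.Quotient.mk 1) = 0 := by
        apply eq_zero_of_smul_eq_zero (k' + 1 + 1) hn E f hf K eK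
          (Ideal.span {a0} ⊔ Ideal.span {a1}) hlt2
        intro r hr
        rw [← map_smul, ← Submodule.Quotient.mk_smul, (Submodule.Quotient.mk_eq_zero _).2,
          map_zero]
        rw [smul_eq_mul, mul_one]
        exact hr
      rw [← hφ, hg, hg0]
      rfl
    intro k1 k2 hk
    have h' : a1 • (k1 - k2) = 0 := by
      rw [smul_sub, sub_eq_zero]
      exact hk
    exact sub_eq_zero.1 (key _ h')
  haveI := nontrivial_K' (k' + 1 + 1) hn E f hf K eK
  have hmem : ∀ r ∈ [a0, a1], r ∈ maximalIdeal R := by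
    intro r hr
    rcases List.mem_pair.1 hr with rfl | rfl
    · exact ha _
    · exact ha _
  rw [IsLocalRing.isRegular_iff_isWeaklyRegular_of_subset_maximalIdeal hmem,
    RingTheory.Sequence.isWeaklyRegular_cons_iff, RingTheory.Sequence.isWeaklyRegular_cons_iff]
  exact ⟨hreg0, hreg1, RingTheory.Sequence.IsWeaklyRegular.nil R _⟩

end Sop

end Groth.Agent.Lib.CanonSop_helper6
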