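import Mathlib
import Groth.Prelude.Def_Wider
import Groth.Agent.Lib.ExtRepr_helper6
import Groth.Agent.Lib.HmapKer_helper6
import Groth.Agent.Lib.LocCohDT2_helper7
import Groth.Agent.Lib.LocCohH0_helper7
import Groth.Agent.Lib.Depth_helper5

/-!
# `Ext^n(F, G) ≃ Hom(F, H^n_J(G))` when `Ext^{n-1}(-, G)` vanishes on `J`-torsion finite modules
(helper6)
-/

open CategoryTheory CategoryTheory.Limits Opposite

namespace Groth.Agent.Lib.ExtReprInst_helper6

open Groth.Agent.Lib.ExtRepr_helper6 Groth.Agent.Lib.ExtCompareH7 Groth.Agent.DepthLib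
open Groth.Agent.Lib.InjHull_helper3 Groth.Agent.Lib.LocCohH0H7 Groth.Agent.Lib

universe u

variable {A : Type u} [CommRing A]

section Pos

variable (J : Ideal A) (G : Type u) [AddCommGroup G] [Module A G] (p : ℕ)

/-- the functor `Ext^{p+1}(-, G)` -/
noncomputable abbrev Tc (A : Type u) [CommRing A] (G : Type u) [AddCommGroup G] [Module A G]
    (p : ℕ) : (ModuleCat.{u} A)ᵒᵖ ⥤ ModuleCat.{u} A :=
  (Ext A (ModuleCat.{u} A) (p + 1)).flip.obj (ModuleCat.of A G)

/-- comparison with `Abelian.Ext` -/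
noncomputable def Θc {N : Type u} [AddCommGroup N] [Module A N] (ξ : TT (Tc A G p) N) :
    Abelian.Ext (ModuleCat.of A N) (ModuleCat.of A G) (p + 1) :=
  Θ (X := ModuleCat.of A N) (ModuleCat.of A G) p ξ

lemma Θc_inj {N : Type u} [AddCommGroup N] [Module A N] {ξ ξ' : TT (Tc A G p) N}
    (h : Θc G p ξ = Θc G p ξ') : ξ = ξ' :=
  Θ_injective (X := ModuleCat.of A N) (ModuleCat.of A G) p h

lemma Θc_surj {N : Type u} [AddCommGroup N] [Module A N]
    (x : Abelian.Ext (ModuleCat.of A N) (ModuleCat.of A G) (p + 1)) :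
    ∃ ξ : TT (Tc A G p) N, Θc G p ξ = x :=
  Θ_surjective (X := ModuleCat.of A N) (ModuleCat.of A G) p x

lemma Θc_zero {N : Type u} [AddCommGroup N] [Module A N] :
    Θc G p (0 : TT (Tc A G p) N) = 0 :=
  Θ_zero (X := ModuleCat.of A N) (ModuleCat.of A G) p

lemma Θc_add {N : Type u} [AddCommGroup N] [Module A N] (ξ ξ' : TT (Tc A G p) N) :
    Θc G p (ξ + ξ') = Θc G p ξ + Θc G p ξ' :=
  Θ_add (X := ModuleCat.of A N) (ModuleCat.of A G) p ξ ξ'

lemma Θc_smul {N : Type u} [AddCommGroup N] [Module A N] (a : A) (ξ : TT (Tc A G p) N) :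
    Θc G p (a • ξ) = a • Θc G p ξ :=
  Θ_smul (X := ModuleCat.of A N) (ModuleCat.of A G) p a ξ

lemma Θc_Tm {N N' : Type u} [AddCommGroup N] [Module A N] [AddCommGroup N'] [Module A N']
    (φ : N →ₗ[A] N') (ξ : TT (Tc A G p) N') :
    Θc G p (Tm (Tc A G p) φ ξ) =
      (Abelian.Ext.mk₀ (ModuleCat.ofHom φ)).comp (Θc G p ξ) (zero_add (p + 1)) :=
  Θ_map_X (ModuleCat.ofHom φ) (ModuleCat.of A G) p ξ

lemma Tc_add {N N' : Type u} [AddCommGroup N] [Module A N] [AddCommGroup N'] [Module A N']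
    (φ ψ : N →ₗ[A] N') : Tm (Tc A G p) (φ + ψ) = Tm (Tc A G p) φ + Tm (Tc A G p) ψ := by
  apply LinearMap.ext
  intro ξ
  apply Θc_inj G p
  rw [LinearMap.add_apply, Θc_add, Θc_Tm, Θc_Tm, Θc_Tm, ModuleCat.ofHom_add,
    Abelian.Ext.mk₀_add, Abelian.Ext.add_comp]

lemma Tc_smul {N N' : Type u} [AddCommGroup N] [Module A N] [AddCommGroup N'] [Module A N']
    (a : A) (φ : N →ₗ[A] N') : Tm (Tc A G p) (a • φ) = a • Tm (Tc A G p) φ := by
  apply LinearMap.ext
  intro ξ
  apply Θc_inj G p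
  rw [LinearMap.smul_apply, Θc_smul, Θc_Tm, Θc_Tm]
  have h : ModuleCat.ofHom (a • φ) = a • ModuleCat.ofHom φ := rfl
  rw [h, Abelian.Ext.mk₀_smul, Abelian.Ext.smul_comp]

lemma Tc_L2 {K N N'' : Type u} [AddCommGroup K] [Module A K] [AddCommGroup N] [Module A N]
    [AddCommGroup N''] [Module A N''] (f : K →ₗ[A] N) (g : N →ₗ[A] N'')
    (hf : Function.Injective f) (hg : Function.Surjective g) (hfg : Function.Exact f g)
    (x : TT (Tc A G p) N) (hx : Tm (Tc A G p) f x = 0) :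
    ∃ y : TT (Tc A G p) N'', Tm (Tc A G p) g y = x := by
  have hS := shortComplexOf_shortExact f g hf hg hfg
  have h1 : (Abelian.Ext.mk₀ (shortComplexOf f g hfg).f).comp (Θc G p x)
      (zero_add (p + 1)) = 0 := by
    have := Θc_Tm G p f x
    rw [hx, Θc_zero] at this
    exact this.symm
  obtain ⟨x₃, hx₃⟩ := Abelian.Ext.contravariant_sequence_exact₂ hS (ModuleCat.of A G)
    (Θc G p x) h1
  obtain ⟨y, hy⟩ := Θc_surj G p (N := N'') x₃
  refine ⟨y, Θc_inj G p ?_⟩
  rw [Θc_Tm, hy]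
  exact hx₃

lemma subsingleton_absExt (K : Type u) [AddCommGroup K] [Module A K] (p : ℕ)
    (hsub : Subsingleton (E p (ModuleCat.of A K) (ModuleCat.of A G))) :
    Subsingleton (Abelian.Ext (ModuleCat.of A K) (ModuleCat.of A G) p) := by
  cases p with
  | zero =>
    refine ⟨fun a b => Abelian.Ext.addEquiv₀.injective ?_⟩
    apply iso_hom_injective (j (ModuleCat.of A K) (ModuleCat.of A G))
    exact hsub.elim _ _
  | succ p' =>
    refine ⟨fun a b => ?_⟩
    obtain ⟨ξa, rfl⟩ := Θ_surjective (X := ModuleCat.of A K) (ModuleCat.of A G) p' a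
    obtain ⟨ξb, rfl⟩ := Θ_surjective (X := ModuleCat.of A K) (ModuleCat.of A G) p' b
    rw [hsub.elim ξa ξb]

lemma Tc_L1 {K N N'' : Type u} [AddCommGroup K] [Module A K] [AddCommGroup N] [Module A N]
    [AddCommGroup N''] [Module A N''] (f : K →ₗ[A] N) (g : N →ₗ[A] N'')
    (hf : Function.Injective f) (hg : Function.Surjective g) (hfg : Function.Exact f g)
    (hsub : Subsingleton (E p (ModuleCat.of A K) (ModuleCat.of A G))) :
    Function.Injective (Tm (Tc A G p) g) := by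
  rw [injective_iff_map_eq_zero]
  intro y hy
  have hS := shortComplexOf_shortExact f g hf hg hfg
  have h1 : (Abelian.Ext.mk₀ (shortComplexOf f g hfg).g).comp (Θc G p y)
      (zero_add (p + 1)) = 0 := by
    have := Θc_Tm G p g y
    rw [hy, Θc_zero] at this
    exact this.symm
  obtain ⟨x₁, hx₁⟩ := Abelian.Ext.contravariant_sequence_exact₃ hS (ModuleCat.of A G)
    (Θc G p y) h1 (add_comm 1 p)
  have hx0 : x₁ = 0 := (subsingleton_absExt G K p hsub).elim x₁ 0
  rw [hx0, Abelian.Ext.comp_zero] at hx₁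
  apply Θc_inj G p
  rw [Θc_zero]
  exact hx₁.symm

/-- the canonical maps to local cohomology -/
noncomputable def ιc (k : ℕ) : TT (Tc A G p) (A ⧸ J ^ k) →ₗ[A] LocCoh.H J (p + 1) G :=
  (LocCohLESH7.ιk J (p + 1) (op (op k)) (ModuleCat.of A G)).hom

theorem rhyp
    (hvan : ∀ (K : Type u) [AddCommGroup K] [Module A K], Module.Finite A K →
      (∃ k, Kil J k K) → Subsingleton (E p (ModuleCat.of A K) (ModuleCat.of A G))) :
    RHyp (Tc A G p) J (LocCoh.H J (p + 1) G) (ιc J G p) where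
  hadd := fun φ ψ => Tc_add G p φ ψ
  hsmul := fun a φ => Tc_smul G p a φ
  hL1 := fun f g hf hg hfg hfin hkil => Tc_L1 G p f g hf hg hfg (hvan _ hfin hkil)
  hL2 := fun f g hf hg hfg x hx => Tc_L2 G p f g hf hg hfg x hx
  ι2 := fun h x =>
    LocCohLESH7.ι_trans J (p + 1) (ModuleCat.of A G) ((homOfLE h).op.op) x
  ι3 := fun z => by
    obtain ⟨k, ξ, h⟩ := LocCohLESH7.exists_rep J (p + 1) (ModuleCat.of A G) z
    exact ⟨k.unop.unop, ξ, h⟩
  ι4 := fun k x hx => by
    obtain ⟨k', w, h⟩ := LocCohLESH7.exists_map_eq_zero J (p + 1) (ModuleCat.of A G)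
      (op (op k)) x hx
    exact ⟨k'.unop.unop, leOfHom w.unop.unop, h⟩

end Pos

section Zero

variable [IsNoetherianRing A] (J : Ideal A) (G : Type u) [AddCommGroup G] [Module A G]

theorem zero_case {N : Type u} [AddCommGroup N] [Module A N] {k : ℕ} (hk : Kil J k N) :
    Nonempty (↑(E 0 (ModuleCat.of A N) (ModuleCat.of A G)) ≃ₗ[A] (N →ₗ[A] LocCoh.H J 0 G)) := by
  let e1 : ↑(E 0 (ModuleCat.of A N) (ModuleCat.of A G)) ≃ₗ[A]
      (ModuleCat.of A N ⟶ ModuleCat.of A G) :=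
    (j (ModuleCat.of A N) (ModuleCat.of A G)).toLinearEquiv.symm
  let e2 : (ModuleCat.of A N ⟶ ModuleCat.of A G) ≃ₗ[A] (N →ₗ[A] G) :=
    ModuleCat.homLinearEquiv (S := A)
  let e3 : (N →ₗ[A] ↥(Γ J G)) ≃ₗ[A] (N →ₗ[A] G) :=
    LinearEquiv.ofBijective (LinearMap.compRight A (Γ J G).subtype)
      ⟨fun φ ψ h => LinearMap.ext fun x => Subtype.ext (LinearMap.congr_fun h x),
       fun φ => ⟨LinearMap.codRestrict (Γ J G) φ (fun x => (mem_Γ_iff J (φ x)).2
          ⟨k, fun a ha => by rw [← map_smul, hk a ha x, map_zero]⟩),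
        LinearMap.ext fun x => rfl⟩⟩
  let e4 : (N →ₗ[A] ↥(Γ J G)) ≃ₗ[A] (N →ₗ[A] LocCoh.H J 0 G) :=
    LinearEquiv.congrRight (HmapKer_helper6.Φ0equiv J G).symm
  exact ⟨e1.trans (e2.trans (e3.symm.trans e4))⟩

end Zero

section Supp

variable [IsNoetherianRing A] (J : Ideal A)

lemma exists_kil (N : Type u) [AddCommGroup N] [Module A N] [Module.Finite A N]
    (hN : Module.support A N ⊆ PrimeSpectrum.zeroLocus (J : Set A)) : ∃ k, Kil J k N := by
  rw [Module.support_eq_zeroLocus, PrimeSpectrum.zeroLocus_subset_zeroLocus_iff] at hN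
  obtain ⟨k, hk⟩ := Ideal.exists_pow_le_of_le_radical_of_fg hN (IsNoetherian.noetherian J)
  exact ⟨k, fun a ha x => Module.mem_annihilator.1 (hk ha) x⟩

omit [IsNoetherianRing A] in
lemma support_of_kil (K : Type u) [AddCommGroup K] [Module A K] (hfin : Module.Finite A K)
    (h : ∃ k, Kil J k K) : Module.support A K ⊆ PrimeSpectrum.zeroLocus (J : Set A) := by
  obtain ⟨k, hk⟩ := h
  intro 𝔭 h𝔭
  rw [Module.mem_support_iff_of_finite] at h𝔭
  rw [PrimeSpectrum.mem_zeroLocus]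
  have h1 : J ^ k ≤ 𝔭.asIdeal := fun a ha => h𝔭 (Module.mem_annihilator.2 (hk a ha))
  exact Ideal.IsPrime.le_of_pow_le h1

end Supp

/-- the full statement -/
theorem main5174 [IsNoetherianRing A] (J : Ideal A) (G : Type u) [AddCommGroup G] [Module A G]
    (n : ℕ)
    (hvan : ∀ (F' : Type u) [AddCommGroup F'] [Module A F'], Module.Finite A F' →
      Module.support A F' ⊆ PrimeSpectrum.zeroLocus (J : Set A) → ∀ i : ℕ, i + 1 = n →
      Subsingleton (((Ext A (ModuleCat.{u} A) i).obj (op (ModuleCat.of A F'))).obj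
        (ModuleCat.of A G)))
    (F : Type u) [AddCommGroup F] [Module A F] [Module.Finite A F]
    (hF : Module.support A F ⊆ PrimeSpectrum.zeroLocus (J : Set A)) :
    Nonempty ((((Ext A (ModuleCat.{u} A) n).obj (op (ModuleCat.of A F))).obj
      (ModuleCat.of A G)) ≃ₗ[A] (F →ₗ[A] LocCoh.H J n G)) := by
  obtain ⟨k, hk⟩ := exists_kil J F hF
  cases n with
  | zero => exact zero_case J G hk
  | succ p =>
    have hh := rhyp J G p (fun K _ _ hfin hkil =>
      hvan K hfin (support_of_kil J K hfin hkil) p rfl)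
    exact ExtRepr_helper6.main hh hk

end Groth.Agent.Lib.ExtReprInst_helper6
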