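import Mathlib
import Groth.Prelude.Def_Wider
import Groth.Agent.Lib.CanonGor_helper6
import Groth.Agent.Lib.CanonSop_helper6
import Groth.Agent.Lib.ExtReprInst_helper6
import Groth.Agent.Lib.Matlis3_helper5
import Groth.Agent.Lib.LocCohH0_helper7
import Groth.Agent.Lib.LocCohTors_helper7

/-!
# Top local cohomology of the canonical module of a CM local ring (helper6)

* `top_hull`: `H^n_m(K)` is an injective hull of the residue field;
* `end_equiv`, `toEnd_bijective` (S7703): `R → Hom(K, K)` is bijective.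
-/

set_option autoImplicit false

open CategoryTheory IsLocalRing Opposite

namespace Groth.Agent.Lib.CanonTop_helper6

open Groth.Agent.Lib.CanonInjDim_helper6 Groth.Agent.Lib.CanonGor_helper6
open Groth.Agent.Lib.CanonSop_helper6
open Groth.Agent.Lib.LocDual_helper6 Groth.Agent.Lib.LocDual2_helper6

universe u

variable {R : Type u} [CommRing R] [hCM : LocCoh.IsCohenMacaulayLocalRing R]
  (n : ℕ) (hn : ringKrullDim R = n) (E : Type u) [AddCommGroup E] [Module R E]
  (f : ResidueField R →ₗ[R] E) (hf : InjHull.IsInjectiveHull f)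
  (K : Type u) [AddCommGroup K] [Module R K] [Module.Finite R K]
  (eK : (K →ₗ[R] E) ≃ₗ[R] LocCoh.H (maximalIdeal R) n R)

include hn hf eK in
theorem hvan (F' : Type u) [AddCommGroup F'] [Module R F'] (hfin : Module.Finite R F')
    (hsupp : Module.support R F' ⊆ PrimeSpectrum.zeroLocus (maximalIdeal R : Set R)) (i : ℕ)
    (hi : i + 1 = n) :
    Subsingleton (((Ext R (ModuleCat.{u} R) i).obj (op (ModuleCat.of R F'))).obj
      (ModuleCat.of R K)) := by
  haveI := hfin
  obtain ⟨k, hk⟩ := Groth.Agent.Lib.ExtReprInst_helper6.exists_kil (maximalIdeal R) F' hsupp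
  have hT : LocCoh.IsPowerTorsion (maximalIdeal R) F' := fun x => ⟨k, fun a ha => hk a ha x⟩
  have h1 := Groth.Agent.Lib.LocCohTorsVanishH7.H_subsingleton (maximalIdeal R) F' hT 0
  obtain ⟨e⟩ := duality n hn E hf.isInjective K eK i 1 (by omega) F'
  have h2 : Subsingleton (Ex R K i F' →ₗ[R] E) := @Equiv.subsingleton _ _ e.symm.toEquiv h1
  exact subsingleton_of_dual f hf _ h2

include hn hf eK in
/-- for an `m`-primary ideal `a`: `Hom(R/a, H^n_m(K))` has the length of `R/a` -/
theorem length_hom_top (a : Ideal R) (N : ℕ) (ha : maximalIdeal R ^ N ≤ a) :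
    Module.length R ((R ⧸ a) →ₗ[R] LocCoh.H (maximalIdeal R) n K) =
      Module.length R (R ⧸ a) := by
  have hE := hf.isInjective
  have hy := Groth.Agent.Matlis.isSocleGen_of_isEssentialInj hf.toIsEssentialInj
  have hFL : IsFiniteLength R (R ⧸ a) :=
    Groth.Agent.Matlis.isFiniteLength_quotient_of_pow_le a N ha
  have hT : LocCoh.IsPowerTorsion (maximalIdeal R) (R ⧸ a) := by
    intro x
    refine ⟨N, fun r hr => ?_⟩
    obtain ⟨y, rfl⟩ := Ideal.Quotient.mk_surjective x
    show r • (Submodule.Quotient.mk y : R ⧸ a) = 0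
    rw [← Submodule.Quotient.mk_smul, Submodule.Quotient.mk_eq_zero]
    exact Ideal.mul_mem_right y _ (ha hr)
  have hsupp : Module.support R (R ⧸ a) ⊆
      PrimeSpectrum.zeroLocus (maximalIdeal R : Set R) := by
    rw [support_quot]
    intro p hp
    rw [PrimeSpectrum.mem_zeroLocus] at hp ⊢
    have hp' : a ≤ p.asIdeal := hp
    exact Ideal.IsPrime.le_of_pow_le (ha.trans hp')
  obtain ⟨e1⟩ := Groth.Agent.Lib.ExtReprInst_helper6.main5174 (maximalIdeal R) K n
    (fun F' _ _ hfin hs i hi => hvan n hn E f hf K eK F' hfin hs i hi) (R ⧸ a) hsupp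
  obtain ⟨e2⟩ := duality n hn E hE K eK n 0 (by omega) (R ⧸ a)
  obtain ⟨e3⟩ := Groth.Agent.Lib.LocCohH0H7.H0_equiv (maximalIdeal R) (R ⧸ a) hT
  have hXd : Module.length R (Ex R K n (R ⧸ a) →ₗ[R] E) = Module.length R (R ⧸ a) :=
    (e2.symm.trans e3).length_eq
  have hinj := ((Groth.Agent.Matlis.matlis_noncomplete f hf).1 (Ex R K n (R ⧸ a))).1
  have hdd : Module.length R ((Ex R K n (R ⧸ a) →ₗ[R] E) →ₗ[R] E) =
      Module.length R (R ⧸ a) := by
    rw [(LinearEquiv.arrowCongr (e2.symm.trans e3) (LinearEquiv.refl R E)).length_eq]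
    exact Groth.Agent.Matlis.length_hom hy (R ⧸ a) hFL
  have hXle : Module.length R (Ex R K n (R ⧸ a)) ≤ Module.length R (R ⧸ a) := by
    rw [← hdd]
    exact Module.length_le_of_injective _ hinj
  have hXfl : IsFiniteLength R (Ex R K n (R ⧸ a)) := by
    rw [← Module.length_ne_top_iff]
    exact ne_top_of_le_ne_top (Module.length_ne_top_iff.2 hFL) hXle
  have hX : Module.length R (Ex R K n (R ⧸ a)) = Module.length R (R ⧸ a) := by
    rw [← Groth.Agent.Matlis.length_hom hy (Ex R K n (R ⧸ a)) hXfl, hXd]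
  rw [← e1.length_eq, hX]

include hn hf eK in
/-- `H^n_m(K)` is an injective hull of the residue field -/
theorem top_hull : ∃ g : ResidueField R →ₗ[R] LocCoh.H (maximalIdeal R) n K,
    InjHull.IsInjectiveHull g := by
  apply Groth.Agent.Matlis.injectiveHull_of_length (I := LocCoh.H (maximalIdeal R) n K) ?_ ?_
    (fun k => maximalIdeal R ^ k) (fun k => ⟨k, le_rfl⟩) (fun N => ⟨N, le_rfl⟩)
    (fun k => (length_hom_top n hn E f hf K eK _ k le_rfl).symm)
  · exact Groth.Agent.Lib.LocCohTorsH7.main R (maximalIdeal R) n K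
  · have hlen := length_hom_top n hn E f hf K eK (maximalIdeal R) 1 (by rw [pow_one])
    haveI : IsSimpleModule R (R ⧸ maximalIdeal R) :=
      isSimpleModule_iff_quot_maximal.mpr ⟨maximalIdeal R, inferInstance, ⟨LinearEquiv.refl R _⟩⟩
    rw [Module.length_eq_one R (R ⧸ maximalIdeal R)] at hlen
    have hs : IsSimpleModule R ((R ⧸ maximalIdeal R) →ₗ[R] LocCoh.H (maximalIdeal R) n K) :=
      Module.length_eq_one_iff.1 hlen
    obtain ⟨I, hI, ⟨e⟩⟩ := isSimpleModule_iff_quot_maximal.1 hs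
    have hIm : I = maximalIdeal R := IsLocalRing.eq_maximalIdeal hI
    subst hIm
    exact ⟨e⟩

include hn hf eK in
theorem end_equiv : Nonempty ((K →ₗ[R] K) ≃ₗ[R] R) := by
  obtain ⟨g, hg⟩ := top_hull n hn E f hf K eK
  obtain ⟨e, _⟩ := Groth.Agent.Lib.InjHull_helper3.hull_unique f hf g hg
  exact equiv_ring_of_dual_equiv f hf (K →ₗ[R] K)
    ((LocDual_helper6.theta n hn E hf.isInjective K eK K).symm.trans
      (e.symm.trans (LinearMap.ringLmapEquivSelf R R E).symm))

include hn hf eK in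
/-- S7703 -/
theorem toEnd_bijective :
    Function.Bijective (fun r : R => r • (LinearMap.id : K →ₗ[R] K)) := by
  obtain ⟨e⟩ := end_equiv n hn E f hf K eK
  have hgen : ∀ φ : K →ₗ[R] K, φ = e φ • e.symm 1 := by
    intro φ
    apply e.injective
    rw [map_smul, LinearEquiv.apply_symm_apply, smul_eq_mul, mul_one]
  have hid : (LinearMap.id : K →ₗ[R] K) = e LinearMap.id • e.symm 1 := hgen _
  have hsq : e.symm 1 ∘ₗ e.symm 1 = e (e.symm 1 ∘ₗ e.symm 1) • e.symm 1 := hgen _
  have hcd : e LinearMap.id * e (e.symm 1 ∘ₗ e.symm 1) = 1 := by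
    have h1 : e.symm 1 = (e LinearMap.id * e (e.symm 1 ∘ₗ e.symm 1)) • e.symm 1 := by
      calc e.symm 1 = LinearMap.id ∘ₗ e.symm 1 := (LinearMap.id_comp _).symm
        _ = (e LinearMap.id • e.symm 1) ∘ₗ e.symm 1 := by rw [← hid]
        _ = e LinearMap.id • (e.symm 1 ∘ₗ e.symm 1) := LinearMap.smul_comp _ _ _
        _ = e LinearMap.id • (e (e.symm 1 ∘ₗ e.symm 1) • e.symm 1) := by rw [← hsq]
        _ = (e LinearMap.id * e (e.symm 1 ∘ₗ e.symm 1)) • e.symm 1 := (mul_smul _ _ _).symm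
    have h2 := congrArg e h1
    rw [map_smul, LinearEquiv.apply_symm_apply, smul_eq_mul, mul_one] at h2
    exact h2.symm
  constructor
  · intro r s hrs
    have h0 : r • (LinearMap.id : K →ₗ[R] K) = s • LinearMap.id := hrs
    have h := congrArg e h0
    rw [map_smul, map_smul, smul_eq_mul, smul_eq_mul] at h
    calc r = r * (e LinearMap.id * e (e.symm 1 ∘ₗ e.symm 1)) := by rw [hcd, mul_one]
      _ = (r * e LinearMap.id) * e (e.symm 1 ∘ₗ e.symm 1) := (mul_assoc _ _ _).symm
      _ = (s * e LinearMap.id) * e (e.symm 1 ∘ₗ e.symm 1) := by rw [h]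
      _ = s := by rw [mul_assoc, hcd, mul_one]
  · intro φ
    refine ⟨e φ * e (e.symm 1 ∘ₗ e.symm 1), ?_⟩
    show (e φ * e (e.symm 1 ∘ₗ e.symm 1)) • (LinearMap.id : K →ₗ[R] K) = φ
    apply e.injective
    rw [map_smul, smul_eq_mul, mul_assoc, mul_comm (e (e.symm 1 ∘ₗ e.symm 1)), hcd, mul_one]

end Groth.Agent.Lib.CanonTop_helper6
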