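import Mathlib
import Groth.Prelude.Def_GrLC
import Groth.Prelude.Def_CAlg
import Groth.Prelude.Def_Wider
import Groth.Agent.Lib.CanonTop_helper6
import Groth.Agent.Lib.InjHull6_helper3

/-! `R → End(C)` is bijective when `C` is pointwise canonical over a CM ring (helper1, S13236). -/

set_option autoImplicit false

namespace Groth.Agent.Lib.CanEndH1

universe u

variable {R : Type u} [CommRing R]

/-- the Krull dimension of a localization of a Noetherian ring at a prime is a natural number -/
theorem exists_dim_loc [IsNoetherianRing R] (q : Ideal R) [q.IsPrime] :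
    ∃ nq : ℕ, ringKrullDim (Localization.AtPrime q) = nq := by
  have h : q.height ≠ ⊤ := Ideal.height_ne_top_of_isPrime
  obtain ⟨n, hn⟩ := ENat.ne_top_iff_exists.1 h
  refine ⟨n, ?_⟩
  rw [IsLocalization.AtPrime.ringKrullDim_eq_height q (Localization.AtPrime q), ← hn]
  rfl

variable [hCM : LocCoh.IsCohenMacaulayRing R] {C : Type u} [AddCommGroup C] [Module R C]
  [Module.Finite R C]

theorem toEnd_bijective_of_local
    (hC : ∀ (q : Ideal R) [q.IsPrime] (nq : ℕ), ringKrullDim (Localization.AtPrime q) = nq →
      ∀ (E₀ : Type u) [AddCommGroup E₀] [Module (Localization.AtPrime q) E₀]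
        (f₀ : IsLocalRing.ResidueField (Localization.AtPrime q) →ₗ[(Localization.AtPrime q)] E₀),
        InjHull.IsInjectiveHull f₀ →
        Nonempty ((LocalizedModule q.primeCompl C →ₗ[(Localization.AtPrime q)] E₀)
          ≃ₗ[(Localization.AtPrime q)]
          LocCoh.H (IsLocalRing.maximalIdeal (Localization.AtPrime q)) nq
            (Localization.AtPrime q))) :
    Function.Bijective (fun r : R => r • (LinearMap.id : C →ₗ[R] C)) := by
  haveI : IsNoetherianRing R := hCM.toIsNoetherian
  haveI : Module.FinitePresentation R C := Module.finitePresentation_of_finite R C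
  obtain ⟨T, hT⟩ : ∃ T : R →ₗ[R] (C →ₗ[R] C), ∀ r, T r = r • LinearMap.id :=
    ⟨LinearMap.toSpanSingleton R _ LinearMap.id, fun r => rfl⟩
  have hbij : Function.Bijective T := by
    refine bijective_of_isLocalized_maximal (fun P _ => Localization.AtPrime P)
      (fun P _ => Algebra.linearMap R (Localization.AtPrime P))
      (fun P _ => (LocalizedModule P.primeCompl C →ₗ[Localization.AtPrime P]
        LocalizedModule P.primeCompl C))
      (fun P _ => LocalizedModule.map P.primeCompl) T (fun P hP => ?_)
    haveI := hCM.isCohenMacaulayLocalRing_localization P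
    obtain ⟨nq, hnq⟩ := exists_dim_loc P
    obtain ⟨E₀, _, _, f₀, hf₀⟩ := Groth.Agent.Lib.InjHull6_helper3.exists_injective_hull
      (R := Localization.AtPrime P) (IsLocalRing.ResidueField (Localization.AtPrime P))
    obtain ⟨eK⟩ := hC P nq hnq E₀ f₀ hf₀
    haveI : Module.Finite (Localization.AtPrime P) (LocalizedModule P.primeCompl C) :=
      Module.Finite.of_isLocalizedModule P.primeCompl (LocalizedModule.mkLinearMap P.primeCompl C)
    have h1 := Groth.Agent.Lib.CanonTop_helper6.toEnd_bijective nq hnq E₀ f₀ hf₀
      (LocalizedModule P.primeCompl C) eK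
    obtain ⟨T', hT'⟩ : ∃ T' : Localization.AtPrime P →ₗ[R]
        (LocalizedModule P.primeCompl C →ₗ[Localization.AtPrime P] LocalizedModule P.primeCompl C),
        ∀ r, T' r = r • LinearMap.id :=
      ⟨(LinearMap.toSpanSingleton (Localization.AtPrime P) _ LinearMap.id).restrictScalars R,
        fun r => rfl⟩
    have hcomp : IsLocalizedModule.map P.primeCompl (Algebra.linearMap R (Localization.AtPrime P))
        (LocalizedModule.map P.primeCompl) T = T' := by
      refine IsLocalizedModule.linearMap_ext (R := R) (M := R) (M' := Localization.AtPrime P)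
        (N := C →ₗ[R] C) P.primeCompl
        (Algebra.linearMap R (Localization.AtPrime P))
        (LocalizedModule.map P.primeCompl (M := C) (N := C)) ?_
      rw [IsLocalizedModule.map_comp P.primeCompl (Algebra.linearMap R (Localization.AtPrime P))
        (LocalizedModule.map P.primeCompl (M := C) (N := C)) T]
      refine LinearMap.ext_ring ?_
      rw [LinearMap.comp_apply, LinearMap.comp_apply, hT, one_smul, Algebra.linearMap_apply,
        map_one, hT', one_smul]
      refine LinearMap.ext (fun x => ?_)
      induction x using LocalizedModule.induction_on with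
      | h m s =>
        rw [LocalizedModule.map_mk, LinearMap.id_apply, LinearMap.id_apply]
    rw [hcomp]
    have h2 : (T' : Localization.AtPrime P → _) = fun r => r • LinearMap.id := funext hT'
    rw [h2]
    exact h1
  have h3 : (fun r : R => r • (LinearMap.id : C →ₗ[R] C)) = T := (funext hT).symm
  rw [h3]
  exact hbij

end Groth.Agent.Lib.CanEndH1
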