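import Mathlib
import Groth.Prelude.Def_Wider
import Groth.Agent.Lib.CanonSop_helper6
import Groth.Agent.Lib.Matlis4_helper5
import Groth.Agent.Lib.Matlis3_helper5

/-!
# Uniqueness of the canonical module of a Noetherian local ring (helper2)

`S7691_main`: two finite modules `K`, `K'` with `Hom(K, E) ≅ H^n_m(R) ≅ Hom(K', E)` are isomorphic.
The proof uses helper6's natural isomorphism `H^n_m(M) ≅ Hom(Hom(M, K), E)` on finite modules, a Yoneda
argument modulo the maximal ideal (using Matlis duality for finite length modules), and Nakayama.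
-/

set_option autoImplicit false

open CategoryTheory IsLocalRing

namespace Groth.Agent.Lib.CanonUniq

open Groth.Agent.Lib.EWH7 Groth.Agent.Lib.EWFin_helper6 Groth.Agent.Lib.LocDual_helper6
open Groth.Agent.Lib.CanonSop_helper6

universe u

section Socle

variable {R : Type u} [CommRing R] [IsNoetherianRing R] [IsLocalRing R]

/-- finite modules modulo the maximal ideal have finite length -/
theorem isFiniteLength_quot_smul (Z : Type u) [AddCommGroup Z] [Module R Z] [Module.Finite R Z] :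
    IsFiniteLength R (Z ⧸ (maximalIdeal R) • (⊤ : Submodule R Z)) := by
  rw [isFiniteLength_iff_isNoetherian_isArtinian]
  refine ⟨inferInstance, ?_⟩
  haveI : Module.Finite (R ⧸ maximalIdeal R) (Z ⧸ (maximalIdeal R) • (⊤ : Submodule R Z)) :=
    Module.Finite.of_restrictScalars_finite R _ _
  haveI : IsArtinianRing (R ⧸ maximalIdeal R) := by
    letI : Field (R ⧸ maximalIdeal R) := Ideal.Quotient.field _
    infer_instance
  haveI : IsArtinian (R ⧸ maximalIdeal R) (Z ⧸ (maximalIdeal R) • (⊤ : Submodule R Z)) :=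
    inferInstance
  exact isArtinian_of_surjective_algebraMap (R := R ⧸ maximalIdeal R) Ideal.Quotient.mk_surjective

variable {E : Type u} [AddCommGroup E] [Module R E]

/-- a functional killed by the maximal ideal -/
def IsSoc {Z : Type u} [AddCommGroup Z] [Module R Z] (l : Z →ₗ[R] E) : Prop :=
  ∀ a ∈ maximalIdeal R, a • l = 0

theorem IsSoc.comp {Z W : Type u} [AddCommGroup Z] [Module R Z] [AddCommGroup W] [Module R W]
    {l : Z →ₗ[R] E} (hl : IsSoc l) (h : W →ₗ[R] Z) : IsSoc (l ∘ₗ h) := by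
  intro a ha
  rw [← LinearMap.smul_comp, hl a ha, LinearMap.zero_comp]

theorem IsSoc.map {Z W : Type u} [AddCommGroup Z] [Module R Z] [AddCommGroup W] [Module R W]
    {l : Z →ₗ[R] E} (hl : IsSoc l) (e : (Z →ₗ[R] E) →ₗ[R] (W →ₗ[R] E)) : IsSoc (e l) := by
  intro a ha
  rw [← map_smul, hl a ha, map_zero]

theorem IsSoc.eq_zero_of_mem {Z : Type u} [AddCommGroup Z] [Module R Z]
    {l : Z →ₗ[R] E} (hl : IsSoc l) {z : Z} (hz : z ∈ (maximalIdeal R) • (⊤ : Submodule R Z)) :
    l z = 0 := by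
  refine Submodule.smul_induction_on hz ?_ ?_
  · intro a ha w _
    rw [map_smul, ← LinearMap.smul_apply, hl a ha, LinearMap.zero_apply]
  · intro x y hx hy
    rw [map_add, hx, hy, add_zero]

theorem isSoc_comp_mkQ {Z : Type u} [AddCommGroup Z] [Module R Z]
    (μ : (Z ⧸ (maximalIdeal R) • (⊤ : Submodule R Z)) →ₗ[R] E) :
    IsSoc (μ ∘ₗ ((maximalIdeal R) • (⊤ : Submodule R Z)).mkQ) := by
  intro a ha
  apply LinearMap.ext
  intro z
  rw [LinearMap.smul_apply, LinearMap.zero_apply, LinearMap.comp_apply, ← map_smul, ← map_smul]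
  have : ((maximalIdeal R) • (⊤ : Submodule R Z)).mkQ (a • z) = 0 := by
    rw [Submodule.mkQ_apply, Submodule.Quotient.mk_eq_zero]
    exact Submodule.smul_mem_smul ha Submodule.mem_top
  rw [this, map_zero]

variable (f : ResidueField R →ₗ[R] E) (hf : InjHull.IsInjectiveHull f)

include hf in
/-- separation: socle functionals detect elements modulo the maximal ideal -/
theorem mem_smul_top_of_forall_isSoc {Z : Type u} [AddCommGroup Z] [Module R Z] (z : Z)
    (h : ∀ l : Z →ₗ[R] E, IsSoc l → l z = 0) :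
    z ∈ (maximalIdeal R) • (⊤ : Submodule R Z) := by
  have hinj := ((Groth.Agent.Matlis.matlis_noncomplete f hf).1
    (Z ⧸ (maximalIdeal R) • (⊤ : Submodule R Z))).1
  rw [← Submodule.Quotient.mk_eq_zero]
  apply hinj
  rw [map_zero]
  apply LinearMap.ext
  intro μ
  rw [LinearMap.applyₗ_apply_apply, LinearMap.zero_apply]
  exact h _ (isSoc_comp_mkQ μ)

include hf in
/-- representation: every functional on the dual, restricted to socle functionals, is an evaluation -/
theorem exists_eval_of_isSoc {Z : Type u} [AddCommGroup Z] [Module R Z] [Module.Finite R Z]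
    (ℓ : (Z →ₗ[R] E) →ₗ[R] E) :
    ∃ z : Z, ∀ l : Z →ₗ[R] E, IsSoc l → ℓ l = l z := by
  have hEinj : Module.Injective R E := hf.isInjective
  have hy := Groth.Agent.Matlis.isSocleGen_of_isEssentialInj hf.toIsEssentialInj
  set N := Z ⧸ (maximalIdeal R) • (⊤ : Submodule R Z) with hN
  have hFL : IsFiniteLength R N := isFiniteLength_quot_smul Z
  have hinj := ((Groth.Agent.Matlis.matlis_noncomplete f hf).1 N).1
  have hl1 : Module.length R (N →ₗ[R] E) = Module.length R N :=
    Groth.Agent.Matlis.length_hom hy N hFL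
  have hFL' : IsFiniteLength R (N →ₗ[R] E) := by
    rw [← Module.length_ne_top_iff, hl1, Module.length_ne_top_iff]
    exact hFL
  have hl2 : Module.length R ((N →ₗ[R] E) →ₗ[R] E) = Module.length R N := by
    rw [Groth.Agent.Matlis.length_hom hy (N →ₗ[R] E) hFL', hl1]
  have hsurj := Groth.Agent.Matlis.surjective_of_injective_of_length_eq
    (LinearMap.applyₗ : N →ₗ[R] (N →ₗ[R] E) →ₗ[R] E) hinj hl2 (Module.length_ne_top_iff.2 hFL)
  obtain ⟨nb, hnb⟩ := hsurj (ℓ ∘ₗ LinearMap.lcomp R E ((maximalIdeal R) • (⊤ : Submodule R Z)).mkQ)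
  obtain ⟨z, rfl⟩ := Submodule.mkQ_surjective _ nb
  refine ⟨z, fun l hl => ?_⟩
  have hker : (maximalIdeal R) • (⊤ : Submodule R Z) ≤ LinearMap.ker l := fun w hw =>
    LinearMap.mem_ker.2 (hl.eq_zero_of_mem hw)
  have hfac : l = ((maximalIdeal R) • (⊤ : Submodule R Z)).liftQ l hker ∘ₗ
      ((maximalIdeal R) • (⊤ : Submodule R Z)).mkQ := by
    apply LinearMap.ext
    intro w
    rfl
  have h1 := LinearMap.congr_fun hnb (((maximalIdeal R) • (⊤ : Submodule R Z)).liftQ l hker)
  rw [LinearMap.applyₗ_apply_apply, LinearMap.comp_apply, LinearMap.lcomp_apply'] at h1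
  rw [← hfac] at h1
  rw [← h1]
  rfl

/-- Nakayama: an endomorphism congruent to the identity modulo the maximal ideal is bijective -/
theorem bijective_of_sub_id_mem {X : Type u} [AddCommGroup X] [Module R X] [Module.Finite R X]
    (h : X →ₗ[R] X)
    (hh : h - LinearMap.id ∈ (maximalIdeal R) • (⊤ : Submodule R (X →ₗ[R] X))) :
    Function.Bijective h := by
  have himg : ∀ η : X →ₗ[R] X, η ∈ (maximalIdeal R) • (⊤ : Submodule R (X →ₗ[R] X)) →
      ∀ x, η x ∈ (maximalIdeal R) • (⊤ : Submodule R X) := by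
    intro η hη
    refine Submodule.smul_induction_on hη ?_ ?_
    · intro a ha w _ x
      rw [LinearMap.smul_apply]
      exact Submodule.smul_mem_smul ha Submodule.mem_top
    · intro x y hx hy w
      rw [LinearMap.add_apply]
      exact Submodule.add_mem _ (hx w) (hy w)
  have hsurj : Function.Surjective h := by
    rw [← LinearMap.range_eq_top, eq_top_iff]
    apply Submodule.le_of_le_smul_of_le_jacobson_bot (I := maximalIdeal R) Module.Finite.fg_top
      (IsLocalRing.maximalIdeal_le_jacobson ⊥)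
    intro x _
    have hx : x = h x + -((h - LinearMap.id : X →ₗ[R] X) x) := by
      rw [LinearMap.sub_apply, LinearMap.id_apply]
      abel
    rw [hx]
    exact Submodule.add_mem_sup (LinearMap.mem_range_self h x)
      (Submodule.neg_mem _ (himg _ hh x))
  exact ⟨OrzechProperty.injective_of_surjective_endomorphism h hsurj, hsurj⟩

end Socle

section Main

variable {R : Type u} [CommRing R] [IsNoetherianRing R] [IsLocalRing R]
  (n : ℕ) (hn : ringKrullDim R = n) (E : Type u) [AddCommGroup E] [Module R E]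
  (hE : Module.Injective R E)
  (K : Type u) [AddCommGroup K] [Module R K]
  (eK : (K →ₗ[R] E) ≃ₗ[R] LocCoh.H (maximalIdeal R) n R)
  (K' : Type u) [AddCommGroup K'] [Module R K']
  (eK' : (K' →ₗ[R] E) ≃ₗ[R] LocCoh.H (maximalIdeal R) n R)

/-- the natural isomorphism `Hom(Hom(M, K), E) ≅ Hom(Hom(M, K'), E)` -/
noncomputable def tau (M : Type u) [AddCommGroup M] [Module R M] [Module.Finite R M] :
    ((M →ₗ[R] K) →ₗ[R] E) ≃ₗ[R] ((M →ₗ[R] K') →ₗ[R] E) :=
  (LocDual_helper6.theta n hn E hE K eK M).symm.trans (LocDual_helper6.theta n hn E hE K' eK' M)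

theorem tau_nat {M M' : Type u} [AddCommGroup M] [Module R M] [Module.Finite R M]
    [AddCommGroup M'] [Module R M'] [Module.Finite R M'] (g : M →ₗ[R] M')
    (θ : (M →ₗ[R] K) →ₗ[R] E) (ψ' : M' →ₗ[R] K') :
    tau n hn E hE K eK K' eK' M' (θ ∘ₗ LinearMap.lcomp R K g) ψ' =
      tau n hn E hE K eK K' eK' M θ (ψ' ∘ₗ g) := by
  have h1 := theta_nat' n hn E K eK hE g ((LocDual_helper6.theta n hn E hE K eK M).symm θ)
  have h2 := theta_nat' n hn E K' eK' hE g ((LocDual_helper6.theta n hn E hE K eK M).symm θ)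
  rw [LinearEquiv.apply_symm_apply] at h1
  have h3 : (θ ∘ₗ LinearMap.lcomp R K g) = ((Td (A := R) K E).map (ModuleCat.ofHom g)).hom θ := rfl
  unfold tau
  rw [LinearEquiv.trans_apply, LinearEquiv.trans_apply, h3, ← h1, LinearEquiv.symm_apply_apply, h2]
  rfl

end Main

section Final

variable (R : Type u) [CommRing R] [IsNoetherianRing R] [IsLocalRing R]
  (n : ℕ) (hn : ringKrullDim R = n) (E : Type u) [AddCommGroup E] [Module R E]
  (f : ResidueField R →ₗ[R] E) (hf : InjHull.IsInjectiveHull f)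
  (K : Type u) [AddCommGroup K] [Module R K] [Module.Finite R K]
  (eK : (K →ₗ[R] E) ≃ₗ[R] LocCoh.H (maximalIdeal R) n R)
  (K' : Type u) [AddCommGroup K'] [Module R K'] [Module.Finite R K']
  (eK' : (K' →ₗ[R] E) ≃ₗ[R] LocCoh.H (maximalIdeal R) n R)

include hn hf eK eK' in
theorem S7691_main : Nonempty (K ≃ₗ[R] K') := by
  have hE : Module.Injective R E := hf.isInjective
  set τK := tau n hn E hE K eK K' eK' K with hτK
  set τK' := tau n hn E hE K eK K' eK' K' with hτK'
  obtain ⟨ψ, hψ⟩ := exists_eval_of_isSoc f hf (Z := K →ₗ[R] K')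
    ((LinearMap.applyₗ (LinearMap.id : K →ₗ[R] K)) ∘ₗ τK.symm.toLinearMap)
  obtain ⟨φ, hφ⟩ := exists_eval_of_isSoc f hf (Z := K' →ₗ[R] K)
    ((LinearMap.applyₗ (LinearMap.id : K' →ₗ[R] K')) ∘ₗ τK'.toLinearMap)
  -- hψ : ∀ μ, IsSoc μ → (τK.symm μ) id = μ ψ
  -- hφ : ∀ ν, IsSoc ν → (τK' ν) id = ν φ
  have hψ' : ∀ l : (K →ₗ[R] K) →ₗ[R] E, IsSoc l → l LinearMap.id = τK l ψ := by
    intro l hl
    have h := hψ (τK l) (hl.map τK.toLinearMap)
    rw [LinearMap.comp_apply, LinearMap.applyₗ_apply_apply, LinearEquiv.coe_coe,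
      LinearEquiv.symm_apply_apply] at h
    exact h
  have hφ' : ∀ ν : (K' →ₗ[R] K) →ₗ[R] E, IsSoc ν → τK' ν LinearMap.id = ν φ := by
    intro ν hν
    have h := hφ ν hν
    rw [LinearMap.comp_apply, LinearMap.applyₗ_apply_apply, LinearEquiv.coe_coe] at h
    exact h
  have hA : φ ∘ₗ ψ - LinearMap.id ∈ (maximalIdeal R) • (⊤ : Submodule R (K →ₗ[R] K)) := by
    apply mem_smul_top_of_forall_isSoc f hf
    intro l hl
    rw [map_sub, sub_eq_zero]
    have hν : IsSoc (l ∘ₗ LinearMap.lcomp R K ψ) := hl.comp _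
    have h1 := hφ' _ hν
    have h2 := tau_nat n hn E hE K eK K' eK' ψ l (LinearMap.id : K' →ₗ[R] K')
    rw [LinearMap.id_comp] at h2
    have h3 : (l ∘ₗ LinearMap.lcomp R K ψ) φ = l (φ ∘ₗ ψ) := rfl
    rw [← h3, ← h1, hψ' l hl]
    exact h2
  have hB : ψ ∘ₗ φ - LinearMap.id ∈ (maximalIdeal R) • (⊤ : Submodule R (K' →ₗ[R] K')) := by
    apply mem_smul_top_of_forall_isSoc f hf
    intro l' hl'
    rw [map_sub, sub_eq_zero]
    set ν := τK'.symm l' with hνdef
    have hν : IsSoc ν := hl'.map τK'.symm.toLinearMap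
    have hl'eq : l' = τK' ν := (LinearEquiv.apply_symm_apply τK' l').symm
    have h1 := hφ' ν hν
    rw [← hl'eq] at h1
    -- h1 : l' id = ν φ
    have h2 := tau_nat n hn E hE K eK K' eK' φ ν ψ
    -- h2 : τK (ν ∘ lcomp φ) ψ = τK' ν (ψ ∘ φ)
    have hl : IsSoc (ν ∘ₗ LinearMap.lcomp R K φ) := hν.comp _
    have h3 := hψ' _ hl
    -- h3 : (ν ∘ lcomp φ) id = τK (ν ∘ lcomp φ) ψ
    have h4 : (ν ∘ₗ LinearMap.lcomp R K φ) LinearMap.id = ν φ := by
      show ν (LinearMap.id ∘ₗ φ) = ν φ
      rw [LinearMap.id_comp]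
    rw [h1, hl'eq, ← h4, h3]
    exact h2.symm
  have bA := bijective_of_sub_id_mem (φ ∘ₗ ψ) hA
  have bB := bijective_of_sub_id_mem (ψ ∘ₗ φ) hB
  have hinj : Function.Injective ψ := by
    have : Function.Injective (φ ∘ ψ) := bA.1
    exact Function.Injective.of_comp this
  have hsurj : Function.Surjective ψ := by
    have : Function.Surjective (ψ ∘ φ) := bB.2
    exact Function.Surjective.of_comp this
  exact ⟨LinearEquiv.ofBijective ψ ⟨hinj, hsurj⟩⟩

end Final

end Groth.Agent.Lib.CanonUniq
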