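import Mathlib
import Groth.Prelude.Def_GrLC
import Groth.Prelude.Def_CAlg
import Groth.Prelude.Def_Wider
import Groth.Agent.Lib.CanEnd_helper1
import Groth.Agent.Lib.CanonUniq1_helper2
import Groth.Agent.Lib.GorTop_helper1
import Groth.Agent.Lib.GrLaurent_helper1

/-! Uniqueness up to shift of pointwise canonical graded modules over a *local CM ring
(helper1, S13237). -/

set_option autoImplicit false

namespace Groth.Agent.Lib.CanShiftH1

open DirectSum GrLC

universe u

variable {ι : Type} [AddCommGroup ι] [DecidableEq ι]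
variable {R : Type u} [CommRing R] (𝒜 : ι → AddSubgroup R) [GradedRing 𝒜]
variable {C : Type u} [AddCommGroup C] [Module R C] (𝒞 : ι → AddSubgroup C) [Decomposition 𝒞]
  [SetLike.GradedSMul 𝒜 𝒞]
variable {C' : Type u} [AddCommGroup C'] [Module R C'] (𝒞' : ι → AddSubgroup C')
  [Decomposition 𝒞'] [SetLike.GradedSMul 𝒜 𝒞']

/-! ### homogeneous components of a linear map -/

omit [SetLike.GradedSMul 𝒜 𝒞'] in
/-- projection to a component, as an additive map -/
noncomputable def projAdd (k : ι) : C' →+ C' where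
  toFun x := (decompose 𝒞' x k : C')
  map_zero' := by rw [decompose_zero, DirectSum.zero_apply, ZeroMemClass.coe_zero]
  map_add' x y := by rw [decompose_add, DirectSum.add_apply, AddSubgroup.coe_add]

/-- the degree-`d` component of a linear map, as an additive map -/
noncomputable def compAdd (f : C →ₗ[R] C') (d : ι) : C →+ C' :=
  (DirectSum.toAddMonoid
    (fun j => ((projAdd 𝒞' (j + d)).comp f.toAddMonoidHom).comp (𝒞 j).subtype)).comp
    (decomposeAddEquiv 𝒞).toAddMonoidHom

omit [GradedRing 𝒜] [SetLike.GradedSMul 𝒜 𝒞] [SetLike.GradedSMul 𝒜 𝒞'] in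
theorem compAdd_of_mem (f : C →ₗ[R] C') (d : ι) {j : ι} {x : C} (hx : x ∈ 𝒞 j) :
    compAdd 𝒞 𝒞' f d x = (decompose 𝒞' (f x) (j + d) : C') := by
  unfold compAdd
  rw [AddMonoidHom.comp_apply]
  change DirectSum.toAddMonoid _ (decompose 𝒞 x) = _
  rw [decompose_of_mem 𝒞 hx, DirectSum.toAddMonoid_of]
  rfl

include 𝒜 in
theorem compAdd_smul (f : C →ₗ[R] C') (d : ι) (r : R) (x : C) :
    compAdd 𝒞 𝒞' f d (r • x) = r • compAdd 𝒞 𝒞' f d x := by
  induction r using DirectSum.Decomposition.inductionOn 𝒜 with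
  | zero => rw [zero_smul, map_zero, zero_smul]
  | @homogeneous i r =>
    induction x using DirectSum.Decomposition.inductionOn 𝒞 with
    | zero => rw [smul_zero, map_zero, smul_zero]
    | @homogeneous j x =>
      rw [compAdd_of_mem 𝒞 𝒞' f d (Groth.Agent.Lib.GrStarH1.smul_mem_gr 𝒜 𝒞 r.2 x.2),
        compAdd_of_mem 𝒞 𝒞' f d x.2, map_smul, add_assoc,
        Groth.Agent.Lib.GrStarH1.decompose_smul_homog 𝒜 𝒞' r.2]
    | add x y hx hy => rw [smul_add, map_add, map_add, hx, hy, smul_add]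
  | add r s hr hs => rw [add_smul, map_add, hr, hs, add_smul]

/-- the degree-`d` component of a linear map -/
noncomputable def compLin (f : C →ₗ[R] C') (d : ι) : C →ₗ[R] C' where
  toFun x := compAdd 𝒞 𝒞' f d x
  map_add' := map_add _
  map_smul' r x := compAdd_smul 𝒜 𝒞 𝒞' f d r x

theorem compLin_of_mem (f : C →ₗ[R] C') (d : ι) {j : ι} {x : C} (hx : x ∈ 𝒞 j) :
    compLin 𝒜 𝒞 𝒞' f d x = (decompose 𝒞' (f x) (j + d) : C') :=
  compAdd_of_mem 𝒞 𝒞' f d hx

theorem isGrHomDeg_compLin (f : C →ₗ[R] C') (d : ι) :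
    IsGrHomDeg 𝒞 𝒞' (compLin 𝒜 𝒞 𝒞' f d) d := by
  intro j x hx
  rw [compLin_of_mem 𝒜 𝒞 𝒞' f d hx]
  exact (decompose 𝒞' (f x) (j + d)).2

omit [GradedRing 𝒜] [SetLike.GradedSMul 𝒜 𝒞] in
theorem exists_homog_generators [hfin : Module.Finite R C] :
    ∃ G : Finset C, Submodule.span R (G : Set C) = ⊤ ∧ ∀ x ∈ G, ∃ j, x ∈ 𝒞 j := by
  classical
  obtain ⟨T, hT⟩ := Module.finite_def.1 hfin
  refine ⟨T.biUnion (fun t => (decompose 𝒞 t).support.image (fun j => (decompose 𝒞 t j : C))),
    ?_, ?_⟩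
  · rw [eq_top_iff, ← hT, Submodule.span_le]
    intro t ht
    have h : ∑ j ∈ (decompose 𝒞 t).support, (decompose 𝒞 t j : C) ∈
        Submodule.span R ((T.biUnion (fun t => (decompose 𝒞 t).support.image
          (fun j => (decompose 𝒞 t j : C))) : Finset C) : Set C) := by
      refine Submodule.sum_mem _ (fun j hj => Submodule.subset_span ?_)
      rw [Finset.mem_coe, Finset.mem_biUnion]
      exact ⟨t, ht, Finset.mem_image.2 ⟨j, hj, rfl⟩⟩
    rw [DirectSum.sum_support_decompose] at h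
    exact h
  · intro x hx
    rw [Finset.mem_biUnion] at hx
    obtain ⟨t, -, hx⟩ := hx
    obtain ⟨j, -, rfl⟩ := Finset.mem_image.1 hx
    exact ⟨j, (decompose 𝒞 t j).2⟩

theorem exists_finset_sum_compLin [Module.Finite R C] (f : C →ₗ[R] C') :
    ∃ D : Finset ι, f = ∑ d ∈ D, compLin 𝒜 𝒞 𝒞' f d := by
  classical
  obtain ⟨G, hG, hGh⟩ := exists_homog_generators (R := R) 𝒞
  choose! deg hdeg using hGh
  obtain ⟨D, hD⟩ : ∃ D : Finset ι, D = G.biUnion (fun x =>
      (decompose 𝒞' (f x)).support.image (fun k => k - deg x)) := ⟨_, rfl⟩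
  refine ⟨D, LinearMap.ext_on hG (fun x hx => ?_)⟩
  have hxd := hdeg x hx
  rw [LinearMap.sum_apply]
  apply (decompose 𝒞').injective
  refine DFinsupp.ext (fun k => Subtype.ext ?_)
  rw [Groth.Agent.Lib.GrLaurentH1.coe_decompose_sum]
  have hterm : ∀ d, (decompose 𝒞' (compLin 𝒜 𝒞 𝒞' f d x) k : C') =
      if d = k - deg x then (decompose 𝒞' (f x) k : C') else 0 := by
    intro d
    rw [compLin_of_mem 𝒜 𝒞 𝒞' f d hxd]
    by_cases h : d = k - deg x
    · subst h
      rw [if_pos rfl, add_sub_cancel]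
      exact decompose_of_mem_same 𝒞' (decompose 𝒞' (f x) k).2
    · rw [if_neg h]
      have hne : deg x + d ≠ k := fun h' => h (by rw [← h']; abel)
      exact decompose_of_mem_ne 𝒞' (decompose 𝒞' (f x) (deg x + d)).2 hne
  simp_rw [hterm]
  rw [Finset.sum_ite_eq']
  by_cases hk : k - deg x ∈ D
  · rw [if_pos hk]
  · rw [if_neg hk]
    by_contra hne
    apply hk
    rw [hD, Finset.mem_biUnion]
    refine ⟨x, hx, Finset.mem_image.2 ⟨k, ?_, rfl⟩⟩
    rw [DFinsupp.mem_support_toFun]
    intro h0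
    apply hne
    rw [h0]
    rfl

/-! ### homogeneous conductors -/

omit [Decomposition 𝒞'] [SetLike.GradedSMul 𝒜 𝒞'] in
theorem conductor_isHomogeneous {P : Submodule R C} (hP : P.IsHomogeneous 𝒞) {z : C} {k : ι}
    (hz : z ∈ 𝒞 k) :
    Ideal.IsHomogeneous 𝒜 (P.comap (LinearMap.toSpanSingleton R C z)) := by
  intro i r hr
  rw [Submodule.mem_comap, LinearMap.toSpanSingleton_apply] at hr ⊢
  have h1 := Groth.Agent.Lib.GrStarH1.decompose_smul_of_mem 𝒜 𝒞 hz r (i + k)
  rw [add_sub_cancel_right] at h1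
  rw [← h1]
  exact hP (i + k) hr

omit [SetLike.GradedSMul 𝒜 𝒞] [SetLike.GradedSMul 𝒜 𝒞'] [GradedRing 𝒜] in
theorem range_isHomogeneous_deg {φ : C →ₗ[R] C'} {d : ι} (hφ : IsGrHomDeg 𝒞 𝒞' φ d) :
    (LinearMap.range φ).IsHomogeneous 𝒞' := by
  rintro k _ ⟨c, rfl⟩
  refine ⟨(decompose 𝒞 c (k - d) : C), ?_⟩
  have h := Groth.Agent.Lib.GrStarH1.decompose_map_deg 𝒞 𝒞' hφ c (k - d)
  rw [sub_add_cancel] at h
  exact h.symm

omit [Decomposition 𝒞] [SetLike.GradedSMul 𝒜 𝒞] [Decomposition 𝒞'] [SetLike.GradedSMul 𝒜 𝒞'] in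
theorem le_of_starLocal [IsNoetherianRing R] {m : HomogeneousIdeal 𝒜} (hm : IsStarLocal 𝒜 m)
    (q : HomogeneousIdeal 𝒜) (hq : q ≠ ⊤) : q ≤ m := by
  haveI : WellFoundedGT (Ideal R) := isNoetherian_iff'.1 inferInstance
  haveI : WellFoundedGT (HomogeneousIdeal 𝒜) :=
    StrictMono.wellFoundedGT (f := fun a : HomogeneousIdeal 𝒜 => a.toIdeal)
      (fun a b hab => lt_of_le_of_ne (fun x hx => hab.le hx)
        (fun h => hab.ne (HomogeneousIdeal.toIdeal_injective h)))
  haveI : IsCoatomic (HomogeneousIdeal 𝒜) := isCoatomic_of_orderTop_gt_wellFounded wellFounded_gt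
  rcases eq_top_or_exists_le_coatom q with h | ⟨a, ha, hqa⟩
  · exact absurd h hq
  · rw [← hm.2 a ha]
    exact hqa

omit [Decomposition 𝒞] [SetLike.GradedSMul 𝒜 𝒞] [Decomposition 𝒞'] [SetLike.GradedSMul 𝒜 𝒞'] in
theorem eq_top_of_not_le [IsNoetherianRing R] {m : HomogeneousIdeal 𝒜} (hm : IsStarLocal 𝒜 m)
    (J : Ideal R) (hJ : Ideal.IsHomogeneous 𝒜 J) {s : R} (hs : s ∈ J) (hsm : s ∉ m.toIdeal) :
    J = ⊤ := by
  by_contra hne
  have hq : (⟨J, hJ⟩ : HomogeneousIdeal 𝒜) ≠ ⊤ := by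
    intro h
    apply hne
    have h1 := congrArg HomogeneousIdeal.toIdeal h
    exact h1
  have hle := le_of_starLocal 𝒜 hm ⟨J, hJ⟩ hq
  exact hsm (hle hs)

/-! ### bijectivity from bijectivity at the *maximal ideal -/

theorem bijective_of_loc [IsNoetherianRing R] {m : HomogeneousIdeal 𝒜} (hm : IsStarLocal 𝒜 m)
    [hp : m.toIdeal.IsPrime] {φ : C →ₗ[R] C'} {d : ι} (hφ : IsGrHomDeg 𝒞 𝒞' φ d)
    (hloc : Function.Bijective (LocalizedModule.map m.toIdeal.primeCompl φ)) :
    Function.Bijective φ := by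
  classical
  constructor
  · rw [← LinearMap.ker_eq_bot, eq_bot_iff]
    intro x hx
    rw [Submodule.mem_bot]
    have hcomp : ∀ j, (decompose 𝒞 x j : C) = 0 := by
      intro j
      obtain ⟨y, hy⟩ : ∃ y : C, y = (decompose 𝒞 x j : C) := ⟨_, rfl⟩
      have hyj : y ∈ 𝒞 j := hy ▸ (decompose 𝒞 x j).2
      have hφy : φ y = 0 := by
        rw [hy, ← Groth.Agent.Lib.GrStarH1.decompose_map_deg 𝒞 𝒞' hφ x j, LinearMap.mem_ker.1 hx,
          decompose_zero, DirectSum.zero_apply, ZeroMemClass.coe_zero]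
      rw [← hy]
      have h1 : LocalizedModule.mkLinearMap m.toIdeal.primeCompl C y = 0 := by
        apply hloc.1
        rw [LocalizedModule.mkLinearMap_apply, LocalizedModule.map_mk, hφy, map_zero,
          LocalizedModule.zero_mk]
      obtain ⟨s, hs⟩ := (IsLocalizedModule.eq_zero_iff m.toIdeal.primeCompl
        (LocalizedModule.mkLinearMap m.toIdeal.primeCompl C)).1 h1
      have hJ := conductor_isHomogeneous 𝒜 𝒞
        (Groth.Agent.Lib.GrStar2H1.isHomogeneous_bot 𝒞) hyj
      have hsJ : (s : R) ∈ (⊥ : Submodule R C).comap (LinearMap.toSpanSingleton R C y) := by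
        rw [Submodule.mem_comap, LinearMap.toSpanSingleton_apply, Submodule.mem_bot]
        exact hs
      have htop := eq_top_of_not_le 𝒜 hm _ hJ hsJ s.2
      have h1mem : (1 : R) ∈ (⊥ : Submodule R C).comap (LinearMap.toSpanSingleton R C y) := by
        rw [htop]
        trivial
      rw [Submodule.mem_comap, LinearMap.toSpanSingleton_apply, one_smul, Submodule.mem_bot]
        at h1mem
      exact h1mem
    rw [← DirectSum.sum_support_decompose 𝒞 x]
    exact Finset.sum_eq_zero (fun j _ => hcomp j)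
  · have hhom : ∀ (k : ι) (z : C'), z ∈ 𝒞' k → z ∈ LinearMap.range φ := by
      intro k z hz
      obtain ⟨w, hw⟩ := hloc.2 (LocalizedModule.mk z 1)
      induction w using LocalizedModule.induction_on with
      | h c t =>
        rw [LocalizedModule.map_mk, LocalizedModule.mk_eq] at hw
        obtain ⟨u, hu⟩ := hw
        rw [one_smul] at hu
        have hJ := conductor_isHomogeneous 𝒜 𝒞' (range_isHomogeneous_deg 𝒞 𝒞' hφ) hz
        have hsJ : ((u : R) * (t : R)) ∈
            (LinearMap.range φ).comap (LinearMap.toSpanSingleton R C' z) := by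
          rw [Submodule.mem_comap, LinearMap.toSpanSingleton_apply, mul_smul]
          refine ⟨(u : R) • c, ?_⟩
          rw [map_smul]
          exact hu
        have hnm : ((u : R) * (t : R)) ∉ m.toIdeal := (u * t).2
        have htop := eq_top_of_not_le 𝒜 hm _ hJ hsJ hnm
        have h1mem : (1 : R) ∈
            (LinearMap.range φ).comap (LinearMap.toSpanSingleton R C' z) := by
          rw [htop]
          trivial
        rw [Submodule.mem_comap, LinearMap.toSpanSingleton_apply, one_smul] at h1mem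
        exact h1mem
    intro z
    have h2 : z ∈ LinearMap.range φ := by
      rw [← DirectSum.sum_support_decompose 𝒞' z]
      exact Submodule.sum_mem _ (fun k _ => hhom k _ (decompose 𝒞' z k).2)
    exact h2

/-! ### the main theorem -/

theorem main13237 [Module.Free ℤ ι] [Module.Finite ℤ ι] [hCM : LocCoh.IsCohenMacaulayRing R]
    (m : HomogeneousIdeal 𝒜) (hm : GrLC.IsStarLocal 𝒜 m) [Module.Finite R C]
    (hC : ∀ (q : Ideal R) [q.IsPrime] (nq : ℕ), ringKrullDim (Localization.AtPrime q) = nq →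
      ∀ (E₀ : Type u) [AddCommGroup E₀] [Module (Localization.AtPrime q) E₀]
        (f₀ : IsLocalRing.ResidueField (Localization.AtPrime q) →ₗ[(Localization.AtPrime q)] E₀),
        InjHull.IsInjectiveHull f₀ →
        Nonempty ((LocalizedModule q.primeCompl C →ₗ[(Localization.AtPrime q)] E₀)
          ≃ₗ[(Localization.AtPrime q)]
          LocCoh.H (IsLocalRing.maximalIdeal (Localization.AtPrime q)) nq
            (Localization.AtPrime q)))
    [Module.Finite R C']
    (hC' : ∀ (q : Ideal R) [q.IsPrime] (nq : ℕ), ringKrullDim (Localization.AtPrime q) = nq →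
      ∀ (E₀ : Type u) [AddCommGroup E₀] [Module (Localization.AtPrime q) E₀]
        (f₀ : IsLocalRing.ResidueField (Localization.AtPrime q) →ₗ[(Localization.AtPrime q)] E₀),
        InjHull.IsInjectiveHull f₀ →
        Nonempty ((LocalizedModule q.primeCompl C' →ₗ[(Localization.AtPrime q)] E₀)
          ≃ₗ[(Localization.AtPrime q)]
          LocCoh.H (IsLocalRing.maximalIdeal (Localization.AtPrime q)) nq
            (Localization.AtPrime q))) :
    ∃ (g : ι) (φ : C ≃ₗ[R] C'), GrLC.IsGrHomDeg 𝒞 𝒞' φ.toLinearMap g := by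
  classical
  haveI : IsNoetherianRing R := hCM.toIsNoetherian
  haveI hp : m.toIdeal.IsPrime := Groth.Agent.Lib.GorTopH1.isPrime_of_coatom 𝒜 m hm.1
  haveI : Module.FinitePresentation R C := Module.finitePresentation_of_finite R C
  haveI := hCM.isCohenMacaulayLocalRing_localization m.toIdeal
  obtain ⟨nq, hnq⟩ := Groth.Agent.Lib.CanEndH1.exists_dim_loc m.toIdeal
  obtain ⟨E₀, _, _, f₀, hf₀⟩ := Groth.Agent.Lib.InjHull6_helper3.exists_injective_hull
    (R := Localization.AtPrime m.toIdeal)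
    (IsLocalRing.ResidueField (Localization.AtPrime m.toIdeal))
  obtain ⟨eK⟩ := hC m.toIdeal nq hnq E₀ f₀ hf₀
  obtain ⟨eK'⟩ := hC' m.toIdeal nq hnq E₀ f₀ hf₀
  haveI : Module.Finite (Localization.AtPrime m.toIdeal)
      (LocalizedModule m.toIdeal.primeCompl C) :=
    Module.Finite.of_isLocalizedModule m.toIdeal.primeCompl
      (LocalizedModule.mkLinearMap m.toIdeal.primeCompl C)
  haveI : Module.Finite (Localization.AtPrime m.toIdeal)
      (LocalizedModule m.toIdeal.primeCompl C') :=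
    Module.Finite.of_isLocalizedModule m.toIdeal.primeCompl
      (LocalizedModule.mkLinearMap m.toIdeal.primeCompl C')
  obtain ⟨ψ⟩ := Groth.Agent.Lib.CanonUniq.S7691_main (Localization.AtPrime m.toIdeal) nq hnq E₀ f₀ hf₀
    (LocalizedModule m.toIdeal.primeCompl C) eK (LocalizedModule m.toIdeal.primeCompl C') eK'
  have hend := Groth.Agent.Lib.CanonTop_helper6.toEnd_bijective nq hnq E₀ f₀ hf₀
    (LocalizedModule m.toIdeal.primeCompl C) eK
  obtain ⟨⟨f, s⟩, hfs⟩ := IsLocalizedModule.surj m.toIdeal.primeCompl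
    (LocalizedModule.map m.toIdeal.primeCompl (M := C) (N := C')) ψ.toLinearMap
  obtain ⟨D, hD⟩ := exists_finset_sum_compLin 𝒜 𝒞 𝒞' f
  have ha : ∀ d, ∃ a : Localization.AtPrime m.toIdeal,
      a • (LinearMap.id : LocalizedModule m.toIdeal.primeCompl C →ₗ[Localization.AtPrime m.toIdeal]
        LocalizedModule m.toIdeal.primeCompl C) =
      ψ.symm.toLinearMap ∘ₗ LocalizedModule.map m.toIdeal.primeCompl (compLin 𝒜 𝒞 𝒞' f d) :=
    fun d => hend.2 _
  choose a ha using ha
  have ha' : ∀ d x, a d • x =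
      ψ.symm (LocalizedModule.map m.toIdeal.primeCompl (compLin 𝒜 𝒞 𝒞' f d) x) :=
    fun d x => LinearMap.congr_fun (ha d) x
  have hfs' : ∀ x, (s : R) • ψ x = LocalizedModule.map m.toIdeal.primeCompl f x :=
    fun x => LinearMap.congr_fun hfs x
  have hsum : (∑ d ∈ D, a d) = algebraMap R (Localization.AtPrime m.toIdeal) (s : R) := by
    apply hend.1
    change (∑ d ∈ D, a d) • (LinearMap.id : LocalizedModule m.toIdeal.primeCompl C
      →ₗ[Localization.AtPrime m.toIdeal] LocalizedModule m.toIdeal.primeCompl C) =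
      algebraMap R (Localization.AtPrime m.toIdeal) (s : R) • LinearMap.id
    refine LinearMap.ext (fun x => ?_)
    rw [LinearMap.smul_apply, LinearMap.smul_apply, LinearMap.id_apply, Finset.sum_smul]
    simp_rw [ha']
    rw [← map_sum, ← LinearMap.sum_apply, ← map_sum, ← hD, ← hfs' x,
      ← algebraMap_smul (Localization.AtPrime m.toIdeal) (s : R) (ψ x), map_smul,
      LinearEquiv.symm_apply_apply]
  have hunit : ∃ d ∈ D, IsUnit (a d) := by
    by_contra hcon
    push_neg at hcon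
    have h1 : (∑ d ∈ D, a d) ∈ IsLocalRing.maximalIdeal (Localization.AtPrime m.toIdeal) :=
      Ideal.sum_mem _ (fun d hd => (IsLocalRing.mem_maximalIdeal _).2 (hcon d hd))
    rw [hsum] at h1
    exact (IsLocalRing.mem_maximalIdeal _).1 h1
      (IsLocalization.map_units (Localization.AtPrime m.toIdeal) s)
  obtain ⟨d, -, hd⟩ := hunit
  obtain ⟨u, hu⟩ := hd
  have hmap : ∀ x, LocalizedModule.map m.toIdeal.primeCompl (compLin 𝒜 𝒞 𝒞' f d) x =
      ψ (a d • x) := by
    intro x
    rw [ha', LinearEquiv.apply_symm_apply]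
  have hloc : Function.Bijective
      (LocalizedModule.map m.toIdeal.primeCompl (compLin 𝒜 𝒞 𝒞' f d)) := by
    constructor
    · intro x y hxy
      rw [hmap, hmap] at hxy
      have h1 := ψ.injective hxy
      rw [← hu] at h1
      exact (u.isUnit.smul_left_cancel).1 h1
    · intro z
      refine ⟨((u⁻¹ : (Localization.AtPrime m.toIdeal)ˣ) : Localization.AtPrime m.toIdeal) •
        ψ.symm z, ?_⟩
      rw [hmap, ← hu, smul_smul, Units.mul_inv, one_smul, LinearEquiv.apply_symm_apply]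
  have hb := bijective_of_loc 𝒜 𝒞 𝒞' hm (isGrHomDeg_compLin 𝒜 𝒞 𝒞' f d) hloc
  exact ⟨d, LinearEquiv.ofBijective _ hb, fun j x hx => isGrHomDeg_compLin 𝒜 𝒞 𝒞' f d j x hx⟩

end Groth.Agent.Lib.CanShiftH1
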