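import Mathlib
import Groth.Prelude.Def_GrLC
import Groth.Prelude.Def_CAlg
import Groth.Agent.Lib.GrHDec_helper1
import Groth.Agent.Lib.DepthTensor_helper5
import Groth.Agent.Lib.FlatCM2_helper9

/-!
# Monotonicity of the Hilbert function of a Cohen–Macaulay standard graded algebra (helper9)
APPEND-ONLY once landed.
-/

set_option autoImplicit false
set_option maxHeartbeats 400000
universe u

namespace Groth.Agent.GrMono9

open DirectSum GrLC Groth.Agent.Lib.GrHDecH1

section Basics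

variable {R : Type u} [CommRing R] (𝒜 : ℤ → AddSubgroup R) [GradedRing 𝒜]
  (hpos : ∀ n : ℤ, n < 0 → 𝒜 n = ⊥) (h0 : IsField (GrLC.deg0 𝒜))

/-- the irrelevant ideal -/
def irr : Ideal R := Ideal.span (⋃ n ∈ Set.Ioi (0 : ℤ), (𝒜 n : Set R))

include h0 in
theorem exists_inv_of_deg0 (x : R) (hx : x ∈ 𝒜 0) (hne : x ≠ 0) : ∃ y : R, x * y = 1 := by
  have hne' : (⟨x, hx⟩ : GrLC.deg0 𝒜) ≠ 0 := by
    intro h
    exact hne (congrArg Subtype.val h)
  obtain ⟨y, hy⟩ := h0.mul_inv_cancel hne'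
  exact ⟨y.1, congrArg Subtype.val hy⟩

include h0 in
theorem nontrivial_of_isField : Nontrivial R := by
  obtain ⟨x, y, hxy⟩ := h0.exists_pair_ne
  exact ⟨x.1, y.1, fun h => hxy (Subtype.ext h)⟩

include hpos in
theorem decompose_zero_of_mem_irr (x : R) (hx : x ∈ irr 𝒜) : (decompose 𝒜 x 0 : R) = 0 :=
  irr_le_tail 𝒜 hpos hx 0 (by norm_num)

include hpos h0 in
theorem one_notMem_irr : (1 : R) ∉ irr 𝒜 := by
  intro h
  have h1 := decompose_zero_of_mem_irr 𝒜 hpos 1 h
  rw [decompose_of_mem_same 𝒜 (SetLike.GradedOne.one_mem (A := 𝒜))] at h1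
  haveI := nontrivial_of_isField 𝒜 h0
  exact one_ne_zero h1

include hpos in
theorem mem_irr_of_decompose_zero (x : R) (hx : (decompose 𝒜 x 0 : R) = 0) : x ∈ irr 𝒜 := by
  have := sub_decompose_zero_mem_irr 𝒜 hpos x
  rwa [hx, sub_zero] at this

include hpos h0 in
theorem irr_isMaximal : (irr 𝒜).IsMaximal := by
  rw [Ideal.isMaximal_iff]
  refine ⟨one_notMem_irr 𝒜 hpos h0, fun J x hJ hx hxJ => ?_⟩
  have hsub : x - (decompose 𝒜 x 0 : R) ∈ irr 𝒜 := sub_decompose_zero_mem_irr 𝒜 hpos x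
  have hx0J : (decompose 𝒜 x 0 : R) ∈ J := by
    have : (decompose 𝒜 x 0 : R) = x - (x - (decompose 𝒜 x 0 : R)) := by ring
    rw [this]
    exact J.sub_mem hxJ (hJ hsub)
  have hx0 : (decompose 𝒜 x 0 : R) ≠ 0 := fun h => hx (mem_irr_of_decompose_zero 𝒜 hpos x h)
  obtain ⟨y, hy⟩ := exists_inv_of_deg0 𝒜 h0 _ (decompose 𝒜 x 0).2 hx0
  rw [← hy]
  exact J.mul_mem_right _ hx0J

include hpos h0 in
theorem le_irr_of_isHomogeneous (I : Ideal R) (hI : I.IsHomogeneous 𝒜) (hne : I ≠ ⊤) :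
    I ≤ irr 𝒜 := by
  intro x hx
  apply mem_irr_of_decompose_zero 𝒜 hpos
  by_contra hx0
  obtain ⟨y, hy⟩ := exists_inv_of_deg0 𝒜 h0 _ (decompose 𝒜 x 0).2 hx0
  apply hne
  rw [Ideal.eq_top_iff_one, ← hy]
  exact I.mul_mem_right _ (hI 0 hx)

theorem isHomogeneous_of_mem_minimalPrimes (Q : Ideal R) (hQ : Q ∈ minimalPrimes R) :
    Q.IsHomogeneous 𝒜 := by
  haveI := hQ.1.1
  have hcp : (Q.homogeneousCore 𝒜).toIdeal.IsPrime := Ideal.IsPrime.homogeneousCore hQ.1.1
  have h1 : Q ≤ (Q.homogeneousCore 𝒜).toIdeal :=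
    hQ.2 ⟨hcp, bot_le⟩ (Ideal.toIdeal_homogeneousCore_le 𝒜 Q)
  have heq : (Q.homogeneousCore 𝒜).toIdeal = Q :=
    le_antisymm (Ideal.toIdeal_homogeneousCore_le 𝒜 Q) h1
  rw [← heq]
  exact (Q.homogeneousCore 𝒜).isHomogeneous

end Basics

section NoAnn

open IsLocalRing Groth.Agent.DepthLib Groth.Agent.DepthTensor

variable {R : Type u} [CommRing R] (𝒜 : ℤ → AddSubgroup R) [GradedRing 𝒜]
  (hpos : ∀ n : ℤ, n < 0 → 𝒜 n = ⊥) (h0 : IsField (GrLC.deg0 𝒜))

include hpos h0 in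
/-- in a Cohen–Macaulay graded ring of positive dimension over a field, nothing kills the irrelevant
ideal -/
theorem eq_zero_of_irr_mul [hCM : LocCoh.IsCohenMacaulayRing R] (h1 : 1 ≤ ringKrullDim R)
    (r : R) (hr : ∀ a ∈ irr 𝒜, a * r = 0) : r = 0 := by
  by_contra hr0
  haveI hmax : (irr 𝒜).IsMaximal := irr_isMaximal 𝒜 hpos h0
  haveI hprime : (irr 𝒜).IsPrime := hmax.isPrime
  set T := Localization.AtPrime (irr 𝒜) with hT
  haveI hTCM : LocCoh.IsCohenMacaulayLocalRing T := hCM.isCohenMacaulayLocalRing_localization _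
  -- `r / 1 ≠ 0`
  have hrT : algebraMap R T r ≠ 0 := by
    intro h
    rw [IsLocalization.map_eq_zero_iff (irr 𝒜).primeCompl] at h
    obtain ⟨s, hs⟩ := h
    -- the annihilator of `r` is an ideal containing `irr` and `s`
    have hmemN : ∀ a : R, a ∈ (Ideal.span {r}).annihilator ↔ a * r = 0 := by
      intro a
      rw [Submodule.mem_annihilator_span_singleton, smul_eq_mul]
    have hle : irr 𝒜 ≤ (Ideal.span {r}).annihilator := fun a ha => (hmemN a).2 (hr a ha)
    have hsN : (s : R) ∈ (Ideal.span {r}).annihilator := (hmemN _).2 hs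
    have hNtop : (Ideal.span {r}).annihilator = ⊤ := by
      by_contra hne
      have := hmax.eq_of_le hne hle
      rw [← this] at hsN
      exact s.2 hsN
    have h1N : (1 : R) ∈ (Ideal.span {r}).annihilator := by
      rw [hNtop]
      exact Submodule.mem_top
    rw [hmemN, one_mul] at h1N
    exact hr0 h1N
  -- the maximal ideal of `T` kills `r / 1`
  have hkill : ∀ y ∈ maximalIdeal T, y * algebraMap R T r = 0 := by
    intro y hy
    rw [← Localization.AtPrime.map_eq_maximalIdeal, Ideal.map] at hy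
    induction hy using Submodule.span_induction with
    | mem x hx =>
      obtain ⟨a, ha, rfl⟩ := hx
      rw [← map_mul, hr a ha, map_zero]
    | zero => rw [zero_mul]
    | add x y _ _ hx hy => rw [add_mul, hx, hy, add_zero]
    | smul c x _ hx => rw [smul_eq_mul, mul_assoc, hx, mul_zero]
  -- depth zero
  have hdepth : LocCoh.depth T T = 0 := by
    apply enat_eq_zero_of_not_one_le
    intro h1d
    unfold LocCoh.depth at h1d
    rw [one_le_idealDepth_iff] at h1d
    rcases h1d with htop | ⟨y, hy, hreg⟩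
    · exact absurd htop (smul_top_ne_top T)
    · exact hrT (hreg (show y • algebraMap R T r = y • 0 by
        rw [smul_eq_mul, hkill y hy, smul_zero]))
  have hdimT : ringKrullDim T = 0 := by
    rw [(Groth.Agent.FlatCM.isCMLocalRing_iff T).1 hTCM, hdepth]
    rfl
  have hht : (irr 𝒜).height = 0 := by
    have := IsLocalization.AtPrime.ringKrullDim_eq_height (irr 𝒜) T
    rw [hdimT] at this
    exact_mod_cast this.symm
  have hmin : irr 𝒜 ∈ minimalPrimes R := Ideal.height_eq_zero_iff.1 hht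
  -- every prime is maximal
  have hK : Ring.KrullDimLE 0 R := by
    rw [Ring.krullDimLE_zero_iff]
    intro P hP
    obtain ⟨P₀, hP₀, hle⟩ := Ideal.exists_minimalPrimes_le (bot_le : (⊥ : Ideal R) ≤ P)
    have hP₀' : P₀ ∈ minimalPrimes R := hP₀
    have h1 : P₀ ≤ irr 𝒜 := le_irr_of_isHomogeneous 𝒜 hpos h0 P₀
      (isHomogeneous_of_mem_minimalPrimes 𝒜 P₀ hP₀') hP₀.1.1.ne_top
    have h2 : irr 𝒜 ≤ P₀ := hmin.2 ⟨hP₀.1.1, bot_le⟩ h1
    have h3 : irr 𝒜 = P := hmax.eq_of_le hP.ne_top (h2.trans hle)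
    rw [← h3]
    exact hmax
  have hle0 : ringKrullDim R ≤ 0 := by
    have := (Ring.krullDimLE_iff (n := 0) (R := R)).1 hK
    exact_mod_cast this
  have : (1 : WithBot ℕ∞) ≤ 0 := h1.trans hle0
  exact absurd this (by norm_num)

end NoAnn

section Finite

variable {R : Type u} [CommRing R] [IsNoetherianRing R] (𝒜 : ℤ → AddSubgroup R) [GradedRing 𝒜]
  (hpos : ∀ n : ℤ, n < 0 → 𝒜 n = ⊥) (h0 : IsField (GrLC.deg0 𝒜))
  (hstd : Ideal.span (⋃ n ∈ Set.Ioi (0 : ℤ), (𝒜 n : Set R)) =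
    Ideal.span ((𝒜 1 : AddSubgroup R) : Set R))

include hstd in
/-- finitely many degree one generators of the irrelevant ideal -/
theorem exists_gens : ∃ s' : Finset R, (↑s' : Set R) ⊆ ((𝒜 1 : AddSubgroup R) : Set R) ∧
    irr 𝒜 = Ideal.span (↑s' : Set R) := by
  have hfg : (Submodule.span R ((𝒜 1 : AddSubgroup R) : Set R)).FG :=
    IsNoetherian.noetherian _
  obtain ⟨s', hs', heq⟩ := (Submodule.fg_span_iff_fg_span_finset_subset _).1 hfg
  exact ⟨s', hs', by rw [irr, hstd]; exact heq⟩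

/-- elements of degree `n + 1` are combinations of the generators with coefficients of degree `n` -/
theorem exists_coeffs (s' : Finset R) (hs' : (↑s' : Set R) ⊆ ((𝒜 1 : AddSubgroup R) : Set R))
    (hirr : irr 𝒜 = Ideal.span (↑s' : Set R)) (n : ℤ) (hn : 0 ≤ n) (y : R) (hy : y ∈ 𝒜 (n + 1)) :
    ∃ c : R → R, (∀ x, c x ∈ 𝒜 n) ∧ y = ∑ x ∈ s', c x * x := by
  have hyirr : y ∈ irr 𝒜 :=
    Ideal.subset_span (Set.mem_iUnion₂.2 ⟨n + 1, by simp only [Set.mem_Ioi]; omega, hy⟩)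
  rw [hirr] at hyirr
  obtain ⟨f, -, hf⟩ := Submodule.mem_span_finset.1 hyirr
  refine ⟨fun x => (decompose 𝒜 (f x) n : R), fun x => (decompose 𝒜 (f x) n).2, ?_⟩
  have h1 : y = (decompose 𝒜 y (n + 1) : R) := (decompose_of_mem_same 𝒜 hy).symm
  rw [h1, ← hf, Groth.Agent.Lib.GrLaurentH1.coe_decompose_sum]
  refine Finset.sum_congr rfl (fun x hx => ?_)
  rw [smul_eq_mul]
  exact coe_decompose_mul_add_of_right_mem 𝒜 (hs' hx)

include hpos h0 hstd in
/-- the graded pieces are finite dimensional -/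
theorem finite_comp (n : ℤ) : Module.Finite (GrLC.deg0 𝒜) (GrLC.comp 𝒜 𝒜 n) := by
  letI : Field (GrLC.deg0 𝒜) := h0.toField
  obtain ⟨s', hs', hirr⟩ := exists_gens 𝒜 hstd
  by_cases hneg : n < 0
  · have hbot : GrLC.comp 𝒜 𝒜 n = ⊥ := by
      rw [eq_bot_iff]
      intro x hx
      have hx' : x ∈ 𝒜 n := hx
      rw [hpos n hneg] at hx'
      rw [Submodule.mem_bot]
      exact (AddSubgroup.mem_bot).1 hx'
    rw [hbot]
    infer_instance
  · obtain ⟨k, rfl⟩ := Int.eq_ofNat_of_zero_le (not_lt.1 hneg)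
    clear hneg
    induction k with
    | zero =>
      rw [Module.Finite.iff_fg]
      refine ⟨{1}, le_antisymm ?_ ?_⟩
      · rw [Submodule.span_le]
        intro x hx
        rw [Finset.coe_singleton, Set.mem_singleton_iff] at hx
        rw [hx]
        exact (SetLike.GradedOne.one_mem (A := 𝒜))
      · intro y hy
        rw [Finset.coe_singleton, Submodule.mem_span_singleton]
        have hy' : y ∈ 𝒜 0 := hy
        refine ⟨⟨y, hy'⟩, ?_⟩
        rw [Subring.smul_def, smul_eq_mul, mul_one]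
    | succ k ih =>
      have hle : GrLC.comp 𝒜 𝒜 ((k : ℤ) + 1) ≤
          ⨆ x ∈ s', (GrLC.comp 𝒜 𝒜 (k : ℤ)).map (LinearMap.mulLeft (GrLC.deg0 𝒜) x) := by
        intro y hy
        have hy' : y ∈ 𝒜 ((k : ℤ) + 1) := hy
        obtain ⟨c, hc, rfl⟩ := exists_coeffs 𝒜 s' hs' hirr k (by omega) y hy'
        refine Submodule.sum_mem _ (fun x hx => ?_)
        refine Submodule.mem_iSup_of_mem x (Submodule.mem_iSup_of_mem hx ?_)
        exact ⟨c x, hc x, by rw [LinearMap.mulLeft_apply, mul_comm]⟩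
      have hfg : (⨆ x ∈ s', (GrLC.comp 𝒜 𝒜 (k : ℤ)).map
          (LinearMap.mulLeft (GrLC.deg0 𝒜) x)).FG := by
        apply Submodule.fg_biSup
        intro x _
        exact (Module.Finite.iff_fg.1 ih).map _
      haveI : Module.Finite (GrLC.deg0 𝒜) ↥(⨆ x ∈ s', (GrLC.comp 𝒜 𝒜 (k : ℤ)).map
          (LinearMap.mulLeft (GrLC.deg0 𝒜) x)) := Module.Finite.iff_fg.2 hfg
      have := Submodule.finiteDimensional_of_le hle
      push_cast
      exact this

end Finite

section Count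

open Polynomial

variable {R : Type u} [CommRing R] (𝒜 : ℤ → AddSubgroup R) [GradedRing 𝒜]

/-- the generic linear form `∑ x_i t^i` -/
noncomputable def ell (m : ℕ) (x : Fin m → R) : R[X] := ∑ i : Fin m, monomial (i : ℕ) (x i)

theorem coeff_ell (m : ℕ) (x : Fin m → R) (j : ℕ) :
    (ell m x).coeff j = if h : j < m then x ⟨j, h⟩ else 0 := by
  unfold ell
  rw [finset_sum_coeff]
  simp only [coeff_monomial]
  split_ifs with h
  · rw [Finset.sum_eq_single (⟨j, h⟩ : Fin m)]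
    · simp
    · intro b _ hb
      rw [if_neg]
      intro hbj
      exact hb (Fin.ext hbj)
    · intro hne
      exact absurd (Finset.mem_univ _) hne
  · apply Finset.sum_eq_zero
    intro b _
    rw [if_neg]
    intro hbj
    exact h (hbj ▸ b.2)

/-- the polynomial with prescribed coefficients -/
noncomputable def psi (N : ℕ) (p : Fin (N + 1) → R) : R[X] :=
  ∑ a : Fin (N + 1), monomial (a : ℕ) (p a)

theorem coeff_psi (N : ℕ) (p : Fin (N + 1) → R) (j : ℕ) :
    (psi N p).coeff j = if h : j < N + 1 then p ⟨j, h⟩ else 0 :=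
  coeff_ell (N + 1) p j

theorem coeff_ell_mem (m : ℕ) (x : Fin m → R) (hx : ∀ i, x i ∈ 𝒜 1) (j : ℕ) :
    (ell m x).coeff j ∈ 𝒜 1 := by
  rw [coeff_ell]
  split_ifs
  · exact hx _
  · exact zero_mem _

theorem coeff_mul_mem (m N : ℕ) (x : Fin m → R) (hx : ∀ i, x i ∈ 𝒜 1) (n : ℤ)
    (p : Fin (N + 1) → R) (hp : ∀ a, p a ∈ 𝒜 n) (j : ℕ) :
    (ell m x * psi N p).coeff j ∈ 𝒜 (n + 1) := by
  rw [coeff_mul]
  refine sum_mem (fun ab _ => ?_)
  have h1 := coeff_ell_mem 𝒜 m x hx ab.1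
  have h2 : (psi N p).coeff ab.2 ∈ 𝒜 n := by
    rw [coeff_psi]
    split_ifs
    · exact hp _
    · exact zero_mem _
  have := SetLike.GradedMul.mul_mem h1 h2
  rwa [add_comm] at this

theorem coeff_mul_eq_zero_of_le (m N : ℕ) (x : Fin m → R) (p : Fin (N + 1) → R) (j : ℕ)
    (hj : N + m ≤ j) : (ell m x * psi N p).coeff j = 0 := by
  rw [coeff_mul]
  apply Finset.sum_eq_zero
  intro ab hab
  rw [Finset.HasAntidiagonal.mem_antidiagonal] at hab
  by_cases h : ab.1 < m
  · have h2 : ¬ ab.2 < N + 1 := by omega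
    rw [coeff_psi, dif_neg h2, mul_zero]
  · rw [coeff_ell, dif_neg h, zero_mul]

end Count

section Main

open Polynomial nonZeroDivisors

variable {R : Type u} [CommRing R] (𝒜 : ℤ → AddSubgroup R) [GradedRing 𝒜]

theorem psi_add (N : ℕ) (p q : Fin (N + 1) → R) : psi N (p + q) = psi N p + psi N q := by
  unfold psi
  rw [← Finset.sum_add_distrib]
  refine Finset.sum_congr rfl (fun a _ => ?_)
  rw [Pi.add_apply, map_add]

theorem psi_smul (N : ℕ) (c : R) (p : Fin (N + 1) → R) :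
    psi N (fun a => c * p a) = C c * psi N p := by
  unfold psi
  rw [Finset.mul_sum]
  refine Finset.sum_congr rfl (fun a _ => ?_)
  rw [C_mul_monomial]

/-- multiplication by the generic linear form on truncated polynomial pieces -/
noncomputable def Phi (m N : ℕ) (x : Fin m → R) (hx : ∀ i, x i ∈ 𝒜 1) (n : ℤ) :
    (Fin (N + 1) → ↥(GrLC.comp 𝒜 𝒜 n)) →ₗ[GrLC.deg0 𝒜]
      (Fin (N + m) → ↥(GrLC.comp 𝒜 𝒜 (n + 1))) where
  toFun p j := ⟨(ell m x * psi N (fun a => (p a : R))).coeff (j : ℕ),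
    coeff_mul_mem 𝒜 m N x hx n _ (fun a => (p a).2) j⟩
  map_add' p q := by
    funext j
    apply Subtype.ext
    have h1 : (fun a => (p a : R) + (q a : R)) =
        (fun a => (p a : R)) + (fun a => (q a : R)) := rfl
    simp only [Pi.add_apply, Submodule.coe_add]
    rw [h1, psi_add, mul_add, coeff_add]
  map_smul' c p := by
    funext j
    apply Subtype.ext
    have h1 : (fun a => c • (p a : R)) = (fun a => (c : R) * (p a : R)) := by
      funext a
      rw [Subring.smul_def, smul_eq_mul]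
    simp only [Pi.smul_apply, Submodule.coe_smul, RingHom.id_apply]
    rw [h1, psi_smul, mul_left_comm, coeff_C_mul, Subring.smul_def, smul_eq_mul]

theorem Phi_apply (m N : ℕ) (x : Fin m → R) (hx : ∀ i, x i ∈ 𝒜 1) (n : ℤ)
    (p : Fin (N + 1) → ↥(GrLC.comp 𝒜 𝒜 n)) (j : Fin (N + m)) :
    ((Phi 𝒜 m N x hx n p j : ↥(GrLC.comp 𝒜 𝒜 (n + 1))) : R) =
      (ell m x * psi N (fun a => (p a : R))).coeff (j : ℕ) := rfl

theorem Phi_injective (m N : ℕ) (x : Fin m → R) (hx : ∀ i, x i ∈ 𝒜 1) (n : ℤ)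
    (hnzd : ell m x ∈ R[X]⁰) : Function.Injective (Phi 𝒜 m N x hx n) := by
  rw [injective_iff_map_eq_zero]
  intro p hp
  have hzero : ell m x * psi N (fun a => (p a : R)) = 0 := by
    ext j
    rw [coeff_zero]
    by_cases hj : j < N + m
    · have := congrArg (fun q => ((q ⟨j, hj⟩ : ↥(GrLC.comp 𝒜 𝒜 (n + 1))) : R)) hp
      simpa [Phi_apply] using this
    · exact coeff_mul_eq_zero_of_le m N x _ j (not_lt.1 hj)
  have hpsi : psi N (fun a => (p a : R)) = 0 := by
    rw [mul_comm] at hzero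
    exact hnzd.2 _ hzero
  funext a
  apply Subtype.ext
  have := congrArg (fun q => q.coeff (a : ℕ)) hpsi
  simp only [coeff_psi, dif_pos a.2, coeff_zero] at this
  exact this

end Main

section Final

open Polynomial nonZeroDivisors

variable {R : Type u} [CommRing R] [hCM : LocCoh.IsCohenMacaulayRing R] (𝒜 : ℤ → AddSubgroup R)
  [GradedRing 𝒜]
  (hpos : ∀ n : ℤ, n < 0 → 𝒜 n = ⊥) (h0 : IsField (GrLC.deg0 𝒜))
  (hstd : Ideal.span (⋃ n ∈ Set.Ioi (0 : ℤ), (𝒜 n : Set R)) =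
    Ideal.span ((𝒜 1 : AddSubgroup R) : Set R))
  (h1 : 1 ≤ ringKrullDim R)

include hpos h0 h1 in
theorem ell_mem_nonZeroDivisors (m : ℕ) (x : Fin m → R)
    (hspan : irr 𝒜 = Ideal.span (Set.range x)) : ell m x ∈ R[X]⁰ := by
  by_contra hnot
  obtain ⟨r, hr0, hr⟩ := Polynomial.notMem_nonZeroDivisors_iff.1 hnot
  apply hr0
  apply eq_zero_of_irr_mul 𝒜 hpos h0 h1 r
  intro a ha
  rw [hspan] at ha
  induction ha using Submodule.span_induction with
  | mem y hy =>
    obtain ⟨i, rfl⟩ := hy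
    have := congrArg (fun q => q.coeff (i : ℕ)) hr
    simp only [coeff_smul, coeff_ell, dif_pos i.2, coeff_zero, smul_eq_mul] at this
    rw [mul_comm]
    exact this
  | zero => rw [zero_mul]
  | add y z _ _ hy hz => rw [add_mul, hy, hz, add_zero]
  | smul c y _ hy => rw [smul_eq_mul, mul_assoc, hy, mul_zero]

include hpos h0 hstd h1 in
/-- **S18654** -/
theorem finrank_mono (n : ℤ) :
    Module.finrank (GrLC.deg0 𝒜) (GrLC.comp 𝒜 𝒜 n) ≤
      Module.finrank (GrLC.deg0 𝒜) (GrLC.comp 𝒜 𝒜 (n + 1)) := by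
  letI : Field (GrLC.deg0 𝒜) := h0.toField
  haveI hN : IsNoetherianRing R := hCM.toIsNoetherian
  obtain ⟨s', hs', hirr⟩ := exists_gens 𝒜 hstd
  set m := s'.card with hm
  let e := s'.equivFin
  let x : Fin m → R := fun i => ((e.symm i : s') : R)
  have hx : ∀ i, x i ∈ 𝒜 1 := fun i => hs' (e.symm i).2
  have hrange : Set.range x = (↑s' : Set R) := by
    ext y
    constructor
    · rintro ⟨i, rfl⟩
      exact (e.symm i).2
    · intro hy
      exact ⟨e ⟨y, hy⟩, by simp [x]⟩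
  have hspan : irr 𝒜 = Ideal.span (Set.range x) := by
    rw [hrange]
    exact hirr
  have hnzd := ell_mem_nonZeroDivisors 𝒜 hpos h0 h1 m x hspan
  haveI := finite_comp 𝒜 hpos h0 hstd n
  haveI := finite_comp 𝒜 hpos h0 hstd (n + 1)
  by_contra hlt
  rw [not_le] at hlt
  set H := Module.finrank (GrLC.deg0 𝒜) (GrLC.comp 𝒜 𝒜 n) with hH
  set H' := Module.finrank (GrLC.deg0 𝒜) (GrLC.comp 𝒜 𝒜 (n + 1)) with hH'
  have hinj := Phi_injective 𝒜 m (m * H') x hx n hnzd
  have hle := LinearMap.finrank_le_finrank_of_injective hinj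
  rw [Module.finrank_pi_fintype, Module.finrank_pi_fintype] at hle
  simp only [Finset.sum_const, Finset.card_univ, Fintype.card_fin, smul_eq_mul] at hle
  have h2 : (m * H' + 1) * (H' + 1) ≤ (m * H' + 1) * H := Nat.mul_le_mul_left _ hlt
  nlinarith

end Final

end Groth.Agent.GrMono9
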