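import Mathlib
import Groth.Prelude.Def_GrLC
import Groth.Prelude.Def_Wider
import Groth.Agent.Lib.GrStar3_helper1
import Groth.Agent.Lib.GrLES3_helper1
import Groth.Agent.Lib.GrLES4_helper1
import Groth.Agent.Lib.GrHDec_helper1
import Groth.Agent.Lib.GrHS3_helper1

/-! The *injective hull of the residue field of a positively graded ring over a field: the socle
pairing, the dimensions of the pieces, and a recognition criterion (helper1). -/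

set_option autoImplicit false

namespace Groth.Agent.Lib.SocleH1

open DirectSum GrLC Groth.Agent.Lib.GrStarH1 Groth.Agent.Lib.GrStar2H1 Groth.Agent.Lib.GrStar3H1
  Groth.Agent.Lib.GrHDecH1 Groth.Agent.Lib.GrHS3H1

universe u

attribute [local instance] shiftDecomp shift_gsmul

/-! ### generalities -/
section gen

variable {R : Type u} [CommRing R] (𝒜 : ℤ → AddSubgroup R) [GradedRing 𝒜]
variable {M : Type u} [AddCommGroup M] [Module R M] (ℳ : ℤ → AddSubgroup M)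
  [SetLike.GradedSMul 𝒜 ℳ]

omit [GradedRing 𝒜] in
theorem mem_of_eq {k k' : ℤ} (h : k = k') {x : M} (hx : x ∈ ℳ k) : x ∈ ℳ k' := h ▸ hx

theorem mem_of_comp {j : ℤ} (x : ↥(comp 𝒜 ℳ j)) : (x : M) ∈ ℳ j := x.2

theorem finrank_comp_congr {j j' : ℤ} (h : j = j') :
    Module.finrank (deg0 𝒜) ↥(comp 𝒜 ℳ j) = Module.finrank (deg0 𝒜) ↥(comp 𝒜 ℳ j') := by
  rw [h]

end gen

/-! ### the irrelevant ideal is *maximal -/
section loc

variable {R : Type u} [CommRing R] (𝒜 : ℤ → AddSubgroup R) [GradedRing 𝒜]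
variable (hpos : ∀ n : ℤ, n < 0 → 𝒜 n = ⊥) (h0 : IsField (deg0 𝒜))

include h0 in
theorem one_ne_zero_of_field : (1 : R) ≠ 0 := by
  intro h
  obtain ⟨x, y, hxy⟩ := h0.exists_pair_ne
  apply hxy
  apply Subtype.ext
  rw [← mul_one (x : R), ← mul_one (y : R), h, mul_zero, mul_zero]

include h0 in
theorem deg0_unit {c : R} (hc : c ∈ 𝒜 0) (hc0 : c ≠ 0) : ∃ d ∈ 𝒜 0, c * d = 1 := by
  have hne : (⟨c, hc⟩ : ↥(deg0 𝒜)) ≠ 0 := fun h => hc0 (congrArg Subtype.val h)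
  obtain ⟨b, hb⟩ := h0.mul_inv_cancel hne
  exact ⟨b.1, b.2, congrArg Subtype.val hb⟩

include h0 in
theorem finrank_ring_zero : Module.finrank (deg0 𝒜) ↥(comp 𝒜 𝒜 0) = 1 := by
  letI : Field (deg0 𝒜) := h0.toField
  have h1 : (1 : R) ∈ 𝒜 0 := SetLike.GradedOne.one_mem (A := 𝒜)
  refine finrank_eq_one (⟨1, h1⟩ : ↥(comp 𝒜 𝒜 0)) ?_ ?_
  · intro h
    exact one_ne_zero_of_field 𝒜 h0 (congrArg Subtype.val h)
  · rintro ⟨x, hx⟩
    refine ⟨⟨x, hx⟩, Subtype.ext ?_⟩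
    show x • (1 : R) = x
    rw [smul_eq_mul, mul_one]

include hpos in
theorem decompose_zero_of_mem_Rp {x : R} (hx : x ∈ (Rp 𝒜).toIdeal) :
    (decompose 𝒜 x 0 : R) = 0 :=
  irr_le_tail 𝒜 hpos hx 0 (by norm_num)

include hpos h0 in
theorem one_notMem_Rp : (1 : R) ∉ (Rp 𝒜).toIdeal := by
  intro h
  have h1 := decompose_zero_of_mem_Rp 𝒜 hpos h
  rw [decompose_of_mem_same 𝒜 (SetLike.GradedOne.one_mem (A := 𝒜))] at h1
  exact one_ne_zero_of_field 𝒜 h0 h1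

include hpos h0 in
theorem le_Rp_of_ne_top (J : HomogeneousIdeal 𝒜) (hJ : J ≠ ⊤) :
    J.toIdeal ≤ (Rp 𝒜).toIdeal := by
  intro x hx
  have hx0 : (decompose 𝒜 x 0 : R) ∈ J.toIdeal := J.isHomogeneous 0 hx
  have hz : (decompose 𝒜 x 0 : R) = 0 := by
    by_contra hne
    obtain ⟨d, -, hd⟩ := deg0_unit 𝒜 h0 (decompose 𝒜 x 0).2 hne
    have h1 : (1 : R) ∈ J.toIdeal := by
      rw [← hd]
      exact Ideal.mul_mem_right _ _ hx0
    exact hJ ((HomogeneousIdeal.eq_top_iff J).2 ((Ideal.eq_top_iff_one _).2 h1))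
  have h1 := sub_decompose_zero_mem_irr 𝒜 hpos x
  rw [hz, sub_zero] at h1
  exact h1

include hpos h0 in
theorem isStarLocal_Rp : IsStarLocal 𝒜 (Rp 𝒜) := by
  have hne : Rp 𝒜 ≠ ⊤ := by
    intro h
    apply one_notMem_Rp 𝒜 hpos h0
    rw [h, HomogeneousIdeal.toIdeal_top]
    trivial
  refine ⟨⟨hne, fun J hJ => ?_⟩, fun n hn => ?_⟩
  · by_contra hJt
    have h1 : J ≤ Rp 𝒜 := le_Rp_of_ne_top 𝒜 hpos h0 J hJt
    exact absurd hJ (not_lt_of_ge h1)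
  · have h1 : n ≤ Rp 𝒜 := le_Rp_of_ne_top 𝒜 hpos h0 n hn.1
    by_contra hne'
    exact hne (hn.2 _ (lt_of_le_of_ne h1 hne'))

end loc

/-! ### tails -/
section tails

variable {R : Type u} [CommRing R] (𝒜 : ℤ → AddSubgroup R) [GradedRing 𝒜]
variable (hpos : ∀ n : ℤ, n < 0 → 𝒜 n = ⊥)
variable {X : Type u} [AddCommGroup X] [Module R X] (𝒳 : ℤ → AddSubgroup X) [Decomposition 𝒳]
  [SetLike.GradedSMul 𝒜 𝒳]

theorem tail_isHomogeneous (k : ℤ) : (tail 𝒜 𝒳 hpos k).IsHomogeneous 𝒳 := by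
  intro j x hx
  by_cases hj : j < k
  · have h1 : (decompose 𝒳 x j : X) = 0 := hx j hj
    rw [h1]
    exact Submodule.zero_mem _
  · exact gr_le_tail 𝒜 𝒳 hpos (not_lt.1 hj) (decompose 𝒳 x j).2

theorem decompose_mul_tail {i : ℤ} {r : R} (hr : r ∈ tail 𝒜 𝒜 hpos i) (s : R) :
    (decompose 𝒜 (s * r) i : R) = (decompose 𝒜 s 0 : R) * (decompose 𝒜 r i : R) := by
  classical
  have h1 := decompose_smul_eq_sum 𝒜 𝒜 s r i
  rw [smul_eq_mul] at h1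
  rw [h1, Finset.sum_eq_single 0]
  · rw [sub_zero, smul_eq_mul]
  · intro l _ hl
    by_cases hl0 : l < 0
    · rw [coe_eq_zero_of_bot 𝒜 (hpos l hl0) _ (decompose 𝒜 s l).2, zero_smul]
    · have h2 : (decompose 𝒜 r (i - l) : R) = 0 := hr (i - l) (by omega)
      rw [h2, smul_zero]
  · intro hl
    rw [DFinsupp.mem_support_toFun, not_not] at hl
    rw [hl, ZeroMemClass.coe_zero, zero_smul]

/-- the projection to a piece -/
noncomputable def proj (i : ℤ) : R →+ ↥(comp 𝒜 𝒜 i) where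
  toFun r := ⟨(decompose 𝒜 r i : R), (decompose 𝒜 r i).2⟩
  map_zero' := Subtype.ext (show (decompose 𝒜 (0 : R) i : R) = 0 by
    rw [decompose_zero, DirectSum.zero_apply, ZeroMemClass.coe_zero])
  map_add' r s := Subtype.ext (show (decompose 𝒜 (r + s) i : R) =
      (decompose 𝒜 r i : R) + (decompose 𝒜 s i : R) by
    rw [decompose_add, DirectSum.add_apply, AddSubgroup.coe_add])

theorem proj_coe (i : ℤ) (r : R) : ((proj 𝒜 i r : ↥(comp 𝒜 𝒜 i)) : R) = (decompose 𝒜 r i : R) := rfl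

end tails

/-! ### the *injective hull of the residue field -/
section hull

variable {R : Type u} [CommRing R] (𝒜 : ℤ → AddSubgroup R) [GradedRing 𝒜]
variable (hpos : ∀ n : ℤ, n < 0 → 𝒜 n = ⊥) (h0 : IsField (deg0 𝒜))
variable (m : HomogeneousIdeal 𝒜)
  (hmsp : m.toIdeal = Ideal.span (⋃ n ∈ Set.Ioi (0 : ℤ), (𝒜 n : Set R)))

theorem exists_hull_quot : ∃ (E : GMod.{u} 𝒜) (e : (R ⧸ m.toIdeal) →ₗ[R] E.carrier),
    IsStarInjHull 𝒜 (GrLC.quotGr 𝒜 m) E.gr e := by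
  letI := quotDecomp 𝒜 m.toIdeal m.isHomogeneous
  letI := quot_gsmul 𝒜 𝒜 m.toIdeal
  obtain ⟨E, e, he⟩ := exists_hull 𝒜 (GrStar2H1.quotGr 𝒜 m.toIdeal)
  refine ⟨E, e, ⟨⟨he.injective, ?_, he.essential⟩, he.starInj⟩⟩
  rintro j _ ⟨r, hr, rfl⟩
  exact he.grHom j _ ⟨r, hr, rfl⟩

include hpos h0 hmsp in
theorem m_ne_top : m.toIdeal ≠ ⊤ := by
  rw [hmsp]
  exact (Ideal.ne_top_iff_one _).2 (one_notMem_Rp 𝒜 hpos h0)

include hpos hmsp in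
theorem sub_zero_mem (s : R) : s - (decompose 𝒜 s 0 : R) ∈ m.toIdeal := by
  rw [hmsp]
  exact sub_decompose_zero_mem_irr 𝒜 hpos s

variable {E : Type u} [AddCommGroup E] [Module R E] (𝓔 : ℤ → AddSubgroup E) [Decomposition 𝓔]
  [SetLike.GradedSMul 𝒜 𝓔] (e : (R ⧸ m.toIdeal) →ₗ[R] E)
  (he : IsStarInjHull 𝒜 (GrLC.quotGr 𝒜 m) 𝓔 e)

local notation "𝔲" => e (Ideal.Quotient.mk (HomogeneousIdeal.toIdeal m) 1)

include he in
theorem u_mem : 𝔲 ∈ 𝓔 0 := (phull_of_hull 𝒜 𝓔 m he).mem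

include hpos h0 hmsp he in
theorem u_ne : 𝔲 ≠ 0 :=
  (phull_of_hull 𝒜 𝓔 m he).ne_zero 𝓔 (m_ne_top 𝒜 hpos h0 m hmsp)

include he in
theorem m_smul_u {r : R} (hr : r ∈ m.toIdeal) : r • 𝔲 = 0 :=
  ((phull_of_hull 𝒜 𝓔 m he).ann r).2 hr

include hpos hmsp he in
theorem smul_u_eq (s : R) : s • 𝔲 = (decompose 𝒜 s 0 : R) • 𝔲 := by
  have h2 := m_smul_u 𝒜 m 𝓔 e he (sub_zero_mem 𝒜 hpos m hmsp s)
  rw [sub_smul, sub_eq_zero] at h2
  exact h2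

include hpos h0 hmsp he in
/-- every nonzero homogeneous element can be multiplied into the socle generator -/
theorem exists_smul_eq_u {j : ℤ} {y : E} (hy : y ∈ 𝓔 j) (hy0 : y ≠ 0) :
    ∃ r ∈ 𝒜 (-j), r • y = 𝔲 := by
  have hP := phull_of_hull 𝒜 𝓔 m he
  have hne : Submodule.span R {y} ≠ ⊥ := by
    rw [Ne, Submodule.span_singleton_eq_bot]
    exact hy0
  obtain ⟨s, hs, hs0⟩ := hP.exists_smul_mem 𝓔 (span_singleton_isHomogeneous 𝒜 𝓔 hy) hne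
  obtain ⟨r, hr⟩ := Submodule.mem_span_singleton.1 hs
  have hs1 := smul_u_eq 𝒜 hpos m hmsp 𝓔 e he s
  have hs00 : (decompose 𝒜 s 0 : R) ≠ 0 := by
    intro h
    apply hs0
    rw [hs1, h, zero_smul]
  obtain ⟨d, -, hd1⟩ := deg0_unit 𝒜 h0 (decompose 𝒜 s 0).2 hs00
  have hu : (d * r) • y = 𝔲 := by
    rw [mul_smul, hr, hs1, ← mul_smul, mul_comm, hd1, one_smul]
  refine ⟨(decompose 𝒜 (d * r) (-j) : R), (decompose 𝒜 (d * r) (-j)).2, ?_⟩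
  have h3 := decompose_smul_of_mem 𝒜 𝓔 hy (d * r) 0
  rw [hu, decompose_of_mem_same 𝓔 hP.mem, zero_sub] at h3
  exact h3.symm

include hpos h0 hmsp he in
theorem eq_zero_of_pos {j : ℤ} (hj : 0 < j) {y : E} (hy : y ∈ 𝓔 j) : y = 0 := by
  by_contra hy0
  obtain ⟨r, hr, hru⟩ := exists_smul_eq_u 𝒜 hpos h0 m hmsp 𝓔 e he hy hy0
  have hr0 : r = 0 := coe_eq_zero_of_bot 𝒜 (hpos (-j) (by omega)) r hr
  apply u_ne 𝒜 hpos h0 m hmsp 𝓔 e he
  rw [← hru, hr0, zero_smul]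

include hpos h0 hmsp he in
theorem exists_eq_smul_u {y : E} (hy : y ∈ 𝓔 0) : ∃ c ∈ 𝒜 0, y = c • 𝔲 := by
  by_cases hy0 : y = 0
  · exact ⟨0, zero_mem _, by rw [hy0, zero_smul]⟩
  · obtain ⟨r, hr, hru⟩ := exists_smul_eq_u 𝒜 hpos h0 m hmsp 𝓔 e he hy hy0
    rw [neg_zero] at hr
    have hr0 : r ≠ 0 := by
      intro h
      apply u_ne 𝒜 hpos h0 m hmsp 𝓔 e he
      rw [← hru, h, zero_smul]
    obtain ⟨d, hd, hd1⟩ := deg0_unit 𝒜 h0 hr hr0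
    refine ⟨d, hd, ?_⟩
    rw [← hru, ← mul_smul, mul_comm, hd1, one_smul]

include hpos h0 hmsp he in
theorem m_smul_deg0 {t : R} (ht : t ∈ m.toIdeal) {y : E} (hy : y ∈ 𝓔 0) : t • y = 0 := by
  obtain ⟨c, -, hc⟩ := exists_eq_smul_u 𝒜 hpos h0 m hmsp 𝓔 e he hy
  rw [hc, smul_comm, m_smul_u 𝒜 m 𝓔 e he ht, smul_zero]

include hpos h0 hmsp he in
theorem smul_deg0_eq (s : R) {y : E} (hy : y ∈ 𝓔 0) : s • y = (decompose 𝒜 s 0 : R) • y := by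
  have h2 := m_smul_deg0 𝒜 hpos h0 m hmsp 𝓔 e he (sub_zero_mem 𝒜 hpos m hmsp s) hy
  rw [sub_smul, sub_eq_zero] at h2
  exact h2

omit [Decomposition 𝓔] in
theorem smul_mem_zero {i : ℤ} {r : R} (hr : r ∈ 𝒜 i) {y : E} (hy : y ∈ 𝓔 (-i)) :
    r • y ∈ 𝓔 0 := by
  have h := SetLike.GradedSMul.smul_mem (A := 𝒜) (B := 𝓔) hr hy
  rw [vadd_eq_add, add_neg_cancel] at h
  exact h

/-- the socle pairing -/
noncomputable def Psi (i : ℤ) :
    ↥(comp 𝒜 𝓔 (-i)) →ₗ[deg0 𝒜] ↥(comp 𝒜 𝒜 i) →ₗ[deg0 𝒜] ↥(comp 𝒜 𝓔 0) :=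
  LinearMap.mk₂ (deg0 𝒜)
    (fun y r => ⟨(r : R) • (y : E), smul_mem_zero 𝒜 𝓔 (mem_of_comp 𝒜 𝒜 r) (mem_of_comp 𝒜 𝓔 y)⟩)
    (fun y y' r => Subtype.ext (by
      show (r : R) • ((y : E) + (y' : E)) = (r : R) • (y : E) + (r : R) • (y' : E)
      exact smul_add _ _ _))
    (fun c y r => Subtype.ext (by
      show (r : R) • ((c : R) • (y : E)) = (c : R) • ((r : R) • (y : E))
      exact smul_comm _ _ _))
    (fun y r r' => Subtype.ext (by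
      show ((r : R) + (r' : R)) • (y : E) = (r : R) • (y : E) + (r' : R) • (y : E)
      exact add_smul _ _ _))
    (fun c y r => Subtype.ext (by
      show ((c : R) * (r : R)) • (y : E) = (c : R) • ((r : R) • (y : E))
      exact mul_smul _ _ _))

omit [Decomposition 𝓔] in
theorem Psi_coe (i : ℤ) (y : ↥(comp 𝒜 𝓔 (-i))) (r : ↥(comp 𝒜 𝒜 i)) :
    ((Psi 𝒜 𝓔 i y r : ↥(comp 𝒜 𝓔 0)) : E) = (r : R) • (y : E) := rfl

include hpos h0 hmsp he in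
theorem Psi_injective (i : ℤ) : Function.Injective (Psi 𝒜 𝓔 i) := by
  rw [injective_iff_map_eq_zero]
  intro y hy
  by_contra hy0
  have hy0' : (y : E) ≠ 0 := fun h => hy0 (Subtype.ext h)
  obtain ⟨r, hr, hru⟩ := exists_smul_eq_u 𝒜 hpos h0 m hmsp 𝓔 e he (mem_of_comp 𝒜 𝓔 y) hy0'
  rw [neg_neg] at hr
  have h1 := Psi_coe 𝒜 𝓔 i y ⟨r, hr⟩
  rw [hy, LinearMap.zero_apply, Submodule.coe_zero] at h1
  apply u_ne 𝒜 hpos h0 m hmsp 𝓔 e he
  rw [← hru]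
  exact h1.symm

include hpos h0 hmsp he in
theorem finrank_deg0 : Module.finrank (deg0 𝒜) ↥(comp 𝒜 𝓔 0) = 1 := by
  letI : Field (deg0 𝒜) := h0.toField
  refine finrank_eq_one (⟨𝔲, u_mem 𝒜 m 𝓔 e he⟩ : ↥(comp 𝒜 𝓔 0)) ?_ ?_
  · intro h
    exact u_ne 𝒜 hpos h0 m hmsp 𝓔 e he (congrArg Subtype.val h)
  · rintro ⟨y, hy⟩
    obtain ⟨c, hc, hcy⟩ := exists_eq_smul_u 𝒜 hpos h0 m hmsp 𝓔 e he hy
    exact ⟨⟨c, hc⟩, Subtype.ext hcy.symm⟩

include hpos h0 hmsp he in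
theorem finite_piece [IsNoetherianRing R] (i : ℤ) :
    Module.Finite (deg0 𝒜) ↥(comp 𝒜 𝓔 (-i)) := by
  letI : Field (deg0 𝒜) := h0.toField
  haveI : Module.Finite (deg0 𝒜) ↥(comp 𝒜 𝒜 i) :=
    Module.Finite.iff_fg.2
      (Groth.Agent.Lib.GrLES4H1.piece_fg 𝒜 hpos 𝒜 i (comp 𝒜 𝒜 i) (fun _ => Iff.rfl))
  haveI : Module.Finite (deg0 𝒜) ↥(comp 𝒜 𝓔 0) :=
    Module.finite_of_finrank_pos (by
      rw [finrank_deg0 𝒜 hpos h0 m hmsp 𝓔 e he]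
      exact one_pos)
  haveI : Module.Free (deg0 𝒜) ↥(comp 𝒜 𝒜 i) := Module.Free.of_divisionRing _ _
  haveI : Module.Finite (deg0 𝒜) (↥(comp 𝒜 𝒜 i) →ₗ[deg0 𝒜] ↥(comp 𝒜 𝓔 0)) :=
    Module.Finite.linearMap _ _ _ _
  exact Module.Finite.of_injective (Psi 𝒜 𝓔 i) (Psi_injective 𝒜 hpos h0 m hmsp 𝓔 e he i)

include hpos h0 hmsp he in
/-- every functional on a piece of the ring is multiplication by an element of the hull -/
theorem Psi_surjective (i : ℤ) : Function.Surjective (Psi 𝒜 𝓔 i) := by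
  intro lam
  obtain ⟨J, hJdef⟩ : ∃ J : Submodule R R, J = tail 𝒜 𝒜 hpos i := ⟨_, rfl⟩
  have hJ : J.IsHomogeneous 𝒜 := by
    rw [hJdef]
    exact tail_isHomogeneous 𝒜 hpos 𝒜 i
  have hJmem : ∀ r : ↥J, (r : R) ∈ tail 𝒜 𝒜 hpos i := fun r => hJdef ▸ r.2
  let g0 : ↥J →ₗ[R] E :=
    { toFun := fun r => ((lam (proj 𝒜 i (r : R)) : ↥(comp 𝒜 𝓔 0)) : E)
      map_add' := fun r s => by
        show ((lam (proj 𝒜 i ((r : R) + (s : R))) : ↥(comp 𝒜 𝓔 0)) : E) =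
          ((lam (proj 𝒜 i (r : R)) : ↥(comp 𝒜 𝓔 0)) : E) +
            ((lam (proj 𝒜 i (s : R)) : ↥(comp 𝒜 𝓔 0)) : E)
        rw [map_add, map_add, Submodule.coe_add]
      map_smul' := fun s r => by
        show ((lam (proj 𝒜 i (s * (r : R))) : ↥(comp 𝒜 𝓔 0)) : E) =
          s • ((lam (proj 𝒜 i (r : R)) : ↥(comp 𝒜 𝓔 0)) : E)
        have h1 : proj 𝒜 i (s * (r : R)) =
            (⟨(decompose 𝒜 s 0 : R), (decompose 𝒜 s 0).2⟩ : ↥(deg0 𝒜)) • proj 𝒜 i (r : R) :=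
          Subtype.ext (decompose_mul_tail 𝒜 hpos (hJmem r) s)
        rw [h1, map_smul]
        exact (smul_deg0_eq 𝒜 hpos h0 m hmsp 𝓔 e he s
          (mem_of_comp 𝒜 𝓔 (lam (proj 𝒜 i (r : R))))).symm }
  have hg0 : ∀ r : ↥J, g0 r = ((lam (proj 𝒜 i (r : R)) : ↥(comp 𝒜 𝓔 0)) : E) := fun _ => rfl
  letI := subDecomp 𝒜 J hJ
  letI := sub_gsmul 𝒜 𝒜 J
  have hg0gr : IsGrHom (subGr 𝒜 J) (shiftGr 𝓔 (-i)) g0 := by
    intro l r hr
    have hr' : (r : R) ∈ 𝒜 l := (mem_subGr 𝒜 J).1 hr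
    show g0 r ∈ 𝓔 (-i + l)
    rw [hg0]
    by_cases hl : l = i
    · have h1 : -i + l = 0 := by omega
      rw [h1]
      exact mem_of_comp 𝒜 𝓔 _
    · have hz : proj 𝒜 i (r : R) = 0 := Subtype.ext (decompose_of_mem_ne 𝒜 hr' hl)
      rw [hz, map_zero, Submodule.coe_zero]
      exact zero_mem _
  obtain ⟨h, hhgr, hh⟩ := starInj_ext 𝒜 (subGr 𝒜 J) 𝒜
    (Groth.Agent.Lib.GrLES3H1.shift_starInj 𝒜 𝓔 he.starInj (-i))
    J.subtype (subtype_isGrHom 𝒜 J) J.injective_subtype g0 hg0gr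
  have hy : h 1 ∈ 𝓔 (-i) := by
    have h2 : h 1 ∈ 𝓔 (-i + 0) := hhgr 0 1 (SetLike.GradedOne.one_mem (A := 𝒜))
    rwa [add_zero] at h2
  refine ⟨⟨h 1, hy⟩, ?_⟩
  apply LinearMap.ext
  intro r
  apply Subtype.ext
  rw [Psi_coe]
  show (r : R) • h 1 = ((lam r : ↥(comp 𝒜 𝓔 0)) : E)
  have hrJ : (r : R) ∈ J := by
    rw [hJdef]
    exact gr_le_tail 𝒜 𝒜 hpos le_rfl (mem_of_comp 𝒜 𝒜 r)
  have h3 : h (r : R) = g0 ⟨(r : R), hrJ⟩ := LinearMap.congr_fun hh ⟨(r : R), hrJ⟩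
  have h4 : (r : R) • h 1 = h (r : R) := by
    rw [← map_smul, smul_eq_mul, mul_one]
  have h5 : proj 𝒜 i (r : R) = r :=
    Subtype.ext (decompose_of_mem_same 𝒜 (mem_of_comp 𝒜 𝒜 r))
  rw [h4, h3, hg0]
  show ((lam (proj 𝒜 i (r : R)) : ↥(comp 𝒜 𝓔 0)) : E) = _
  rw [h5]

include hpos h0 hmsp he in
theorem finrank_piece [IsNoetherianRing R] (i : ℤ) :
    Module.finrank (deg0 𝒜) ↥(comp 𝒜 𝓔 (-i)) = Module.finrank (deg0 𝒜) ↥(comp 𝒜 𝒜 i) := by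
  letI : Field (deg0 𝒜) := h0.toField
  haveI : Module.Finite (deg0 𝒜) ↥(comp 𝒜 𝒜 i) :=
    Module.Finite.iff_fg.2
      (Groth.Agent.Lib.GrLES4H1.piece_fg 𝒜 hpos 𝒜 i (comp 𝒜 𝒜 i) (fun _ => Iff.rfl))
  haveI : Module.Finite (deg0 𝒜) ↥(comp 𝒜 𝓔 0) :=
    Module.finite_of_finrank_pos (by
      rw [finrank_deg0 𝒜 hpos h0 m hmsp 𝓔 e he]
      exact one_pos)
  have e' := LinearEquiv.ofBijective (Psi 𝒜 𝓔 i)
    ⟨Psi_injective 𝒜 hpos h0 m hmsp 𝓔 e he i, Psi_surjective 𝒜 hpos h0 m hmsp 𝓔 e he i⟩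
  rw [e'.finrank_eq, Module.finrank_linearMap, finrank_deg0 𝒜 hpos h0 m hmsp 𝓔 e he, mul_one]

end hull

/-! ### recognizing a shift of the hull -/
section recog

variable {R : Type u} [CommRing R] [IsNoetherianRing R] (𝒜 : ℤ → AddSubgroup R) [GradedRing 𝒜]
variable (hpos : ∀ n : ℤ, n < 0 → 𝒜 n = ⊥) (h0 : IsField (deg0 𝒜))
variable (m : HomogeneousIdeal 𝒜)
  (hmsp : m.toIdeal = Ideal.span (⋃ n ∈ Set.Ioi (0 : ℤ), (𝒜 n : Set R)))
variable {E : Type u} [AddCommGroup E] [Module R E] (𝓔 : ℤ → AddSubgroup E) [Decomposition 𝓔]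
  [SetLike.GradedSMul 𝒜 𝓔] (e : (R ⧸ m.toIdeal) →ₗ[R] E)
  (he : IsStarInjHull 𝒜 (GrLC.quotGr 𝒜 m) 𝓔 e)
variable {X : Type u} [AddCommGroup X] [Module R X] (𝒳 : ℤ → AddSubgroup X) [Decomposition 𝒳]
  [SetLike.GradedSMul 𝒜 𝒳] (b : ℤ)
  (h1 : ∀ j : ℤ, Module.finrank (deg0 𝒜) ↥(comp 𝒜 𝒳 j) =
    Module.finrank (deg0 𝒜) ↥(comp 𝒜 𝒜 (b - j)))
  (h2 : ∀ (j : ℤ) (x : X), x ∈ 𝒳 j → x ≠ 0 → ∃ r ∈ 𝒜 (b - j), r • x ≠ 0)

include hpos h0 hmsp he h1 h2 in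
/-- a graded module with the Hilbert function of `E(-b)` which is essential over its top piece is
`E(-b)` -/
theorem recognize : ∃ θ : X ≃ₗ[R] E, IsGrHom 𝒳 (shiftGr 𝓔 (-b)) θ.toLinearMap := by
  letI : Field (deg0 𝒜) := h0.toField
  -- vanishing above `b`
  have top_zero : ∀ j : ℤ, b < j → ∀ x ∈ 𝒳 j, x = 0 := by
    intro j hj x hx
    by_contra hx0
    obtain ⟨r, hr, hrx⟩ := h2 j x hx hx0
    have hr0 : r = 0 := coe_eq_zero_of_bot 𝒜 (hpos (b - j) (by omega)) r hr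
    apply hrx
    rw [hr0, zero_smul]
  -- the top piece is a line
  have hb := h1 b
  rw [sub_self, finrank_ring_zero 𝒜 h0] at hb
  obtain ⟨w, hw0, hw⟩ := (finrank_eq_one_iff' (K := deg0 𝒜) (V := ↥(comp 𝒜 𝒳 b))).1 hb
  obtain ⟨w0, hw0def⟩ : ∃ w0 : X, w0 = (w : X) := ⟨_, rfl⟩
  have hw_mem : w0 ∈ 𝒳 b := by
    rw [hw0def]
    exact mem_of_comp 𝒜 𝒳 w
  have hw0' : w0 ≠ 0 := by
    rw [hw0def]
    exact fun h => hw0 (Subtype.ext h)
  have hspan : ∀ x ∈ 𝒳 b, ∃ c ∈ 𝒜 0, c • w0 = x := by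
    intro x hx
    obtain ⟨c, hc⟩ := hw ⟨x, hx⟩
    refine ⟨c.1, c.2, ?_⟩
    rw [hw0def]
    exact congrArg Subtype.val hc
  -- `m` kills the generator
  have hle : m.toIdeal ≤ LinearMap.ker (LinearMap.toSpanSingleton R X w0) := by
    rw [hmsp, Ideal.span_le]
    intro t ht
    obtain ⟨l, hl, htl⟩ := Set.mem_iUnion₂.1 ht
    have hl' : 0 < l := hl
    rw [SetLike.mem_coe, LinearMap.mem_ker, LinearMap.toSpanSingleton_apply]
    exact top_zero (l + b) (by omega) _ (smul_mem_gr 𝒜 𝒳 htl hw_mem)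
  have hkill : ∀ t ∈ m.toIdeal, t • w0 = 0 := by
    intro t ht
    have h3 := LinearMap.mem_ker.1 (hle ht)
    rwa [LinearMap.toSpanSingleton_apply] at h3
  -- the map from the residue field
  obtain ⟨f, hf⟩ : ∃ f : (R ⧸ m.toIdeal) →ₗ[R] X,
      ∀ r : R, f (Ideal.Quotient.mk m.toIdeal r) = r • w0 :=
    ⟨Submodule.liftQ m.toIdeal (LinearMap.toSpanSingleton R X w0) hle, fun r => rfl⟩
  have hfgr : IsGrHom (GrStar2H1.quotGr 𝒜 m.toIdeal) (shiftGr 𝒳 b) f := by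
    rintro j _ ⟨r, hr, rfl⟩
    show f (Ideal.Quotient.mk m.toIdeal r) ∈ 𝒳 (b + j)
    rw [hf, add_comm]
    exact smul_mem_gr 𝒜 𝒳 hr hw_mem
  have hfinj : Function.Injective f := by
    rw [injective_iff_map_eq_zero]
    intro x hx
    obtain ⟨r, rfl⟩ := Ideal.Quotient.mk_surjective x
    rw [hf] at hx
    rw [Ideal.Quotient.eq_zero_iff_mem]
    have h3 : (decompose 𝒜 r 0 : R) • w0 = 0 := by
      have h4 := hkill _ (sub_zero_mem 𝒜 hpos m hmsp r)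
      rw [sub_smul, hx, zero_sub, neg_eq_zero] at h4
      exact h4
    have h5 : (decompose 𝒜 r 0 : R) = 0 := by
      by_contra hne
      obtain ⟨d, -, hd⟩ := deg0_unit 𝒜 h0 (decompose 𝒜 r 0).2 hne
      apply hw0'
      have h6 : w0 = (d * (decompose 𝒜 r 0 : R)) • w0 := by
        rw [mul_comm, hd, one_smul]
      rw [h6, mul_smul, h3, smul_zero]
    have h6 := sub_zero_mem 𝒜 hpos m hmsp r
    rw [h5, sub_zero] at h6
    exact h6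
  -- extend to the hull
  letI := quotDecomp 𝒜 m.toIdeal m.isHomogeneous
  letI := quot_gsmul 𝒜 𝒜 m.toIdeal
  have hegr : IsGrHom (GrStar2H1.quotGr 𝒜 m.toIdeal) 𝓔 e := by
    rintro j _ ⟨r, hr, rfl⟩
    exact he.grHom j _ ⟨r, hr, rfl⟩
  obtain ⟨h, hhgr, hh⟩ := starInj_ext 𝒜 (GrStar2H1.quotGr 𝒜 m.toIdeal) (shiftGr 𝒳 b)
    he.starInj f hfgr hfinj e hegr
  have hw_u : h w0 = e (Ideal.Quotient.mk m.toIdeal 1) := by
    have h3 := LinearMap.congr_fun hh (Ideal.Quotient.mk m.toIdeal 1)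
    rw [LinearMap.comp_apply, hf, one_smul] at h3
    exact h3
  -- injectivity
  have hinj : Function.Injective h := by
    rw [injective_iff_map_eq_zero]
    intro x hx
    by_contra hx0
    obtain ⟨j, hj⟩ := exists_decompose_ne_zero (shiftGr 𝒳 b) hx0
    have hker := ker_isHomogeneous (shiftGr 𝒳 b) 𝓔 hhgr j (LinearMap.mem_ker.2 hx)
    obtain ⟨z, hz⟩ : ∃ z : X, z = (decompose (shiftGr 𝒳 b) x j : X) := ⟨_, rfl⟩
    have hzmem : z ∈ 𝒳 (b + j) := by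
      rw [hz]
      exact (decompose (shiftGr 𝒳 b) x j).2
    rw [← hz] at hj hker
    obtain ⟨r, hr, hrz⟩ := h2 (b + j) z hzmem hj
    have hrz_mem : r • z ∈ 𝒳 b := by
      have h3 := smul_mem_gr 𝒜 𝒳 hr hzmem
      rwa [sub_add_cancel] at h3
    obtain ⟨c, hc, hcw⟩ := hspan _ hrz_mem
    have hc0 : c ≠ 0 := by
      intro h'
      apply hrz
      rw [← hcw, h', zero_smul]
    have h7 : h (r • z) = 0 := by
      rw [map_smul, LinearMap.mem_ker.1 hker, smul_zero]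
    rw [← hcw, map_smul, hw_u] at h7
    obtain ⟨d, -, hd⟩ := deg0_unit 𝒜 h0 hc hc0
    apply u_ne 𝒜 hpos h0 m hmsp 𝓔 e he
    have h8 : e (Ideal.Quotient.mk m.toIdeal 1) = (d * c) • e (Ideal.Quotient.mk m.toIdeal 1) := by
      rw [mul_comm, hd, one_smul]
    rw [h8, mul_smul, h7, smul_zero]
  -- surjectivity, piece by piece
  have hsurj_piece : ∀ (j : ℤ) (y : E), y ∈ 𝓔 j → y ∈ LinearMap.range h := by
    intro j y hy
    let hj : ↥(comp 𝒜 𝒳 (b + j)) →ₗ[deg0 𝒜] ↥(comp 𝒜 𝓔 j) :=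
      { toFun := fun x => ⟨h (x : X), hhgr j _ (mem_of_comp 𝒜 𝒳 x)⟩
        map_add' := fun x x' => Subtype.ext (map_add h _ _)
        map_smul' := fun c x => Subtype.ext (map_smul h (c : R) (x : X)) }
    have hjinj : Function.Injective hj :=
      fun x x' hxx => Subtype.ext (hinj (congrArg Subtype.val hxx))
    haveI : Module.Finite (deg0 𝒜) ↥(comp 𝒜 𝓔 j) := by
      have h3 := finite_piece 𝒜 hpos h0 m hmsp 𝓔 e he (-j)
      rwa [neg_neg] at h3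
    have hfr : Module.finrank (deg0 𝒜) ↥(LinearMap.range hj) =
        Module.finrank (deg0 𝒜) ↥(comp 𝒜 𝓔 j) := by
      rw [LinearMap.finrank_range_of_inj hjinj, h1 (b + j)]
      have h3 := finrank_piece 𝒜 hpos h0 m hmsp 𝓔 e he (-j)
      rw [neg_neg] at h3
      rw [h3]
      exact finrank_comp_congr 𝒜 𝒜 (by ring)
    have htop := Submodule.eq_top_of_finrank_eq hfr
    have hy' : (⟨y, hy⟩ : ↥(comp 𝒜 𝓔 j)) ∈ LinearMap.range hj := by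
      rw [htop]
      exact Submodule.mem_top
    obtain ⟨x, hx⟩ := hy'
    exact ⟨(x : X), congrArg Subtype.val hx⟩
  have hsurj : Function.Surjective h := by
    intro y
    classical
    have h3 : y ∈ LinearMap.range h := by
      rw [← DirectSum.sum_support_decompose 𝓔 y]
      exact Submodule.sum_mem _ (fun j _ => hsurj_piece j _ (decompose 𝓔 y j).2)
    exact h3
  refine ⟨LinearEquiv.ofBijective h ⟨hinj, hsurj⟩, ?_⟩
  intro j x hx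
  show h x ∈ 𝓔 (-b + j)
  have hx' : x ∈ shiftGr 𝒳 b (j - b) := shift_le 𝒳 b j hx
  have h3 : h x ∈ 𝓔 (j - b) := hhgr (j - b) x hx'
  exact mem_of_eq 𝓔 (by ring) h3

end recog

end Groth.Agent.Lib.SocleH1
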