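import Mathlib
import Groth.Prelude.Def_GrLC
import Groth.Prelude.Def_Wider
import Groth.Agent.Lib.Ver3_helper1

/-! Graded local cohomology of Veronese modules: the dimension formula (helper1). -/

set_option autoImplicit false

namespace Groth.Agent.Lib.Ver4H1

open DirectSum GrLC Groth.Agent.Lib.Ver1H1 Groth.Agent.Lib.Ver2H1 Groth.Agent.Lib.Ver3H1
  Groth.Agent.Lib.GrLES1H1

universe u

section gmem

variable {R R' : Type u} [CommRing R] [CommRing R'] {φ : R' →+* R} {q : ℕ}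
variable {M : Type u} [AddCommGroup M] [Module R M] {ℳ : ℤ → AddSubgroup M}
variable {M' : Type u} [AddCommGroup M'] [Module R' M'] {ℳ' : ℤ → AddSubgroup M'}
variable (g : M' →ₛₗ[φ] M) (hgdeg : ∀ j : ℤ, (ℳ' j).map (g : M' →+ M) = ℳ (j * q))

include hgdeg in
theorem g_mem {j : ℤ} {n : M'} (hn : n ∈ ℳ' j) : g n ∈ ℳ (j * q) := by
  rw [← hgdeg j]
  exact ⟨n, hn, rfl⟩

include hgdeg in
theorem exists_of_mem_deg {j : ℤ} {y : M} (hy : y ∈ ℳ (j * q)) : ∃ n ∈ ℳ' j, g n = y := by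
  rw [← hgdeg j] at hy
  obtain ⟨n, hn, h⟩ := hy
  exact ⟨n, hn, h⟩

end gmem

section final

variable {R : Type u} [CommRing R] {𝒜 : ℤ → AddSubgroup R} [GradedRing 𝒜]
variable {R' : Type u} [CommRing R'] {𝒜' : ℤ → AddSubgroup R'} [GradedRing 𝒜']
variable {φ : R' →+* R} {q : ℕ} (hV : VData 𝒜 𝒜' φ q)
variable (m : HomogeneousIdeal 𝒜) (m' : HomogeneousIdeal 𝒜')
variable {M : Type u} [AddCommGroup M] [Module R M] {ℳ : ℤ → AddSubgroup M} [Decomposition ℳ]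
  [SetLike.GradedSMul 𝒜 ℳ] (E : StarInjRes 𝒜 ℳ)
variable {M' : Type u} [AddCommGroup M'] [Module R' M'] {ℳ' : ℤ → AddSubgroup M'}
  [Decomposition ℳ'] [SetLike.GradedSMul 𝒜' ℳ']

include hV in
theorem finrank_eq_of_isVer (F : StarInjRes 𝒜' ℳ') (p : ℕ) (j : ℤ) (Φ : F.H m' p →+ E.H m p)
    (hΦ : IsVer φ q (F.Hgr m' p) (E.Hgr m p) Φ) :
    Module.finrank (deg0 𝒜') (F.Hcomp m' p j) = Module.finrank (deg0 𝒜) (E.Hcomp m p (j * q)) := by
  let f : ↥(F.Hcomp m' p j) →+ ↥(E.Hcomp m p (j * q)) :=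
    { toFun := fun x => ⟨Φ x.1, hΦ.map_mem j x.1 x.2⟩
      map_zero' := Subtype.ext (map_zero Φ)
      map_add' := fun x y => Subtype.ext (map_add Φ x.1 y.1) }
  let e : ↥(F.Hcomp m' p j) ≃+ ↥(E.Hcomp m p (j * q)) := AddEquiv.ofBijective f
    ⟨fun x y h => Subtype.ext (hΦ.inj (congrArg Subtype.val h)),
     fun y => by
      obtain ⟨x, hx, hxy⟩ := hΦ.surj j y.1 y.2
      exact ⟨⟨x, hx⟩, Subtype.ext hxy⟩⟩
  let i0 : deg0 𝒜' → deg0 𝒜 := fun r => ⟨φ r.1, by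
    have h := hV.map_mem (j := 0) r.2
    rwa [zero_mul] at h⟩
  have hi0 : Function.Bijective i0 :=
    ⟨fun r s h => Subtype.ext (hV.inj (congrArg Subtype.val h)), fun s => by
      obtain ⟨r, hr, hrs⟩ := hV.exists_of_mem (j := 0) (s := s.1) (by rw [zero_mul]; exact s.2)
      exact ⟨⟨r, hr⟩, Subtype.ext hrs⟩⟩
  have hc : ∀ (r : deg0 𝒜') (x : ↥(F.Hcomp m' p j)), e (r • x) = i0 r • e x := by
    intro r x
    apply Subtype.ext
    exact hΦ.smul r.1 x.1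
  have hrank := rank_eq_of_equiv_equiv i0 e hi0 hc
  unfold Module.finrank
  rw [hrank]

variable (g : M' →ₛₗ[φ] M) (hg : Function.Injective g)
  (hgdeg : ∀ j : ℤ, (ℳ' j).map (g : M' →+ M) = ℳ (j * q))

/-- `M' → V(M)` -/
noncomputable def gV : M' →ₗ[R'] (ver hV (GMod.of 𝒜 M ℳ)).carrier where
  toFun n := vproj hV (GMod.of 𝒜 M ℳ) (g n)
  map_add' x y := by
    show vproj hV (GMod.of 𝒜 M ℳ) (g (x + y)) = _
    rw [map_add g]
    exact map_add (vproj hV (GMod.of 𝒜 M ℳ)) (g x) (g y)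
  map_smul' r x := by
    rw [RingHom.id_apply, LinearMap.map_smulₛₗ]
    exact vproj_smul hV (GMod.of 𝒜 M ℳ) r (g x)

include hgdeg in
theorem vinc_gV (n : M') : vinc hV (GMod.of 𝒜 M ℳ) (gV (ℳ := ℳ) hV g n) = g n := by
  classical
  induction n using DirectSum.Decomposition.inductionOn ℳ' with
  | zero =>
    simp only [map_zero]
    rfl
  | @homogeneous j n =>
    exact vinc_vproj_of_dvd hV (GMod.of 𝒜 M ℳ) (g_mem g hgdeg n.2) (dvd_mul_left _ _)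
  | add x y hx hy =>
    rw [map_add, map_add, hx, hy, map_add]
    rfl

include hg hgdeg in
theorem gV_injective : Function.Injective (gV (ℳ := ℳ) hV g) := by
  intro x y h
  apply hg
  rw [← vinc_gV (ℳ := ℳ) hV g hgdeg, ← vinc_gV (ℳ := ℳ) hV g hgdeg, h]

include hgdeg in
theorem gV_surjective : Function.Surjective (gV (ℳ := ℳ) hV g) := by
  intro x
  have h1 : ∃ n : M', g n = vinc hV (GMod.of 𝒜 M ℳ) x := by
    refine vinc_induction hV (GMod.of 𝒜 M ℳ) (C := fun y => ∃ n : M', g n = y) ?_ ?_ ?_ x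
    · intro j y hy
      obtain ⟨n, -, hn⟩ := exists_of_mem_deg g hgdeg hy
      exact ⟨n, hn⟩
    · exact ⟨0, map_zero g⟩
    · rintro a b ⟨na, ha⟩ ⟨nb, hb⟩
      exact ⟨na + nb, (map_add g na nb).trans (by rw [ha, hb]; rfl)⟩
  obtain ⟨n, hn⟩ := h1
  exact ⟨n, vinc_injective hV (GMod.of 𝒜 M ℳ) (by rw [vinc_gV (ℳ := ℳ) hV g hgdeg, hn])⟩

include hgdeg in
theorem gV_gr {j : ℤ} {n : M'} (hn : n ∈ ℳ' j) : gV (ℳ := ℳ) hV g n ∈ (ver hV (GMod.of 𝒜 M ℳ)).gr j := by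
  rw [mem_ver_gr, vinc_gV (ℳ := ℳ) hV g hgdeg]
  exact g_mem g hgdeg hn

include hg hgdeg in
theorem gV_gr_inv {j : ℤ} {n : M'} (hn : gV (ℳ := ℳ) hV g n ∈ (ver hV (GMod.of 𝒜 M ℳ)).gr j) :
    n ∈ ℳ' j := by
  rw [mem_ver_gr, vinc_gV (ℳ := ℳ) hV g hgdeg] at hn
  obtain ⟨n', hn', h⟩ := exists_of_mem_deg g hgdeg hn
  rw [← hg h]
  exact hn'

/-- the Veronese of the augmentation -/
noncomputable def εV : (ver hV (GMod.of 𝒜 M ℳ)).carrier →ₗ[R'] (A hV E 0).carrier :=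
  vmapG hV (X := GMod.of 𝒜 M ℳ) (Y := E.X 0) E.ε E.ε_grHom

theorem εV_range : LinearMap.ker (D hV E 0) = LinearMap.range (εV hV E) :=
  vmapG_exact hV (X := GMod.of 𝒜 M ℳ) (Y := E.X 0) (Z := E.X (0 + 1)) E.ε_grHom (E.d_grHom 0)
    E.exact_zero

/-- `M' → Z⁰` -/
noncomputable def theta0 : M' →ₗ[R'] (ZG hV E 0).carrier :=
  show M' →ₗ[R'] ↥(Zs hV E 0) from
    LinearMap.codRestrict (Zs hV E 0) (εV hV E ∘ₗ gV (ℳ := ℳ) hV g) (fun n => by
      show εV hV E (gV (ℳ := ℳ) hV g n) ∈ LinearMap.ker (D hV E 0)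
      rw [εV_range]
      exact LinearMap.mem_range_self _ _)

theorem zinc_theta0 (n : M') : zinc hV E 0 (theta0 hV E g n) = εV hV E (gV (ℳ := ℳ) hV g n) := rfl

include hg hgdeg in
theorem theta0_bijective : Function.Bijective (theta0 hV E g) := by
  constructor
  · intro x y h
    apply gV_injective hV g hg hgdeg
    apply vmapG_injective hV (X := GMod.of 𝒜 M ℳ) (Y := E.X 0) E.ε E.ε_grHom E.ε_injective
    have h1 := congrArg (zinc hV E 0) h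
    rw [zinc_theta0, zinc_theta0] at h1
    exact h1
  · intro z
    have hz : zinc hV E 0 z ∈ LinearMap.range (εV hV E) := by
      rw [← εV_range]
      exact z.2
    obtain ⟨x, hx⟩ := hz
    obtain ⟨n, rfl⟩ := gV_surjective hV g hgdeg x
    exact ⟨n, zinc_injective hV E 0 (by rw [zinc_theta0, hx])⟩

include hgdeg in
theorem theta0_gr {j : ℤ} {n : M'} (hn : n ∈ ℳ' j) : theta0 hV E g n ∈ (ZG hV E 0).gr j := by
  rw [mem_ZG_gr, zinc_theta0]
  exact vmapG_gr hV (X := GMod.of 𝒜 M ℳ) (Y := E.X 0) E.ε E.ε_grHom j _ (gV_gr hV g hgdeg hn)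

include hg hgdeg in
theorem theta0_gr_inv {j : ℤ} {n : M'} (hn : theta0 hV E g n ∈ (ZG hV E 0).gr j) : n ∈ ℳ' j := by
  rw [mem_ZG_gr, zinc_theta0] at hn
  apply gV_gr_inv hV g hg hgdeg
  rw [mem_ver_gr]
  have h1 : vinc hV (E.X 0) (εV hV E (gV (ℳ := ℳ) hV g n)) ∈ (E.X 0).gr (j * q) := hn
  have h2 : vinc hV (E.X 0) (εV hV E (gV (ℳ := ℳ) hV g n)) =
      E.ε (vinc hV (GMod.of 𝒜 M ℳ) (gV (ℳ := ℳ) hV g n)) := rfl
  rw [h2] at h1
  exact GrStar2H1.mem_of_map_mem ℳ (E.X 0).gr E.ε_grHom E.ε_injective h1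

variable [IsNoetherianRing R] [IsNoetherianRing R'] (hΓ : GamCompat φ m m')

include hV hΓ hg hgdeg in
theorem main18671_aux (F : StarInjRes 𝒜' ℳ') (p : ℕ) (j : ℤ) :
    Module.finrank (deg0 𝒜') (F.Hcomp m' p j) = Module.finrank (deg0 𝒜) (E.Hcomp m p (j * q)) := by
  let θe : M' ≃ₗ[R'] (ZG hV E 0).carrier :=
    LinearEquiv.ofBijective (theta0 hV E g) (theta0_bijective hV E g hg hgdeg)
  have hθ : IsGrHom (ZG hV E 0).gr ℳ' θe.symm.toLinearMap := by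
    intro k z hz
    apply theta0_gr_inv hV E g hg hgdeg
    have h1 : theta0 hV E g (θe.symm z) = z := θe.apply_symm_apply z
    change theta0 hV E g (θe.symm z) ∈ (ZG hV E 0).gr k
    rw [h1]
    exact hz
  obtain ⟨Φ, hΦ⟩ := main_ver hV m m' hΓ E (reaug F θe.symm hθ) p
  exact finrank_eq_of_isVer hV m m' E F p j Φ hΦ

end final

end Groth.Agent.Lib.Ver4H1
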