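import Mathlib
import Groth.Prelude.Def_GrLC
import Groth.Prelude.Def_GrLC2
import Groth.Prelude.Def_CAlg
import Groth.Prelude.Def_Wider
import Groth.Agent.Lib.Socle_helper1
import Groth.Agent.Lib.GorTop2_helper1
import Groth.Agent.Lib.Ver4_helper1
import Groth.Agent.Lib.AInv_helper1
import Groth.Agent.Lib.GorCan_helper1
import Groth.Agent.Lib.GrConv_helper1
import Groth.Agent.Lib.Link2_helper9

/-! Veronese subrings of a Gorenstein graded ring over a field: if `q` divides the `a`-invariant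
then `R^(q)` is Gorenstein (helper1, S18641). -/

set_option autoImplicit false

namespace Groth.Agent.Lib.VerGorH1

open DirectSum GrLC Groth.Agent.Lib.GrStarH1 Groth.Agent.Lib.GrStar2H1 Groth.Agent.Lib.GrStar3H1
  Groth.Agent.Lib.GrStar4H1 Groth.Agent.Lib.GrLES1H1 Groth.Agent.Lib.BassZeroH1
  Groth.Agent.Lib.BassShiftH1 Groth.Agent.Lib.MinResH1 Groth.Agent.Lib.GorTopH1
  Groth.Agent.Lib.GorLocH1 Groth.Agent.Lib.GorTop2H1 Groth.Agent.Lib.SocleH1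
  Groth.Agent.Lib.GrHDecH1 Groth.Agent.Lib.Ver1H1 Groth.Agent.Lib.GrHS3H1

universe u

attribute [local instance] shiftDecomp shift_gsmul

/-! ### a Gorenstein criterion without the Cohen–Macaulay hypothesis -/
section gor

variable {R : Type u} [CommRing R] [IsNoetherianRing R] (𝒜 : ℤ → AddSubgroup R) [GradedRing 𝒜]
  (E : StarInjRes 𝒜 𝒜)
  (hmin0 : ∀ P : Submodule R (E.X 0).carrier, P.IsHomogeneous (E.X 0).gr → P ≠ ⊥ →
    P ⊓ LinearMap.range E.ε ≠ ⊥)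
  (hmin : ∀ (n : ℕ) (P : Submodule R (E.X (n + 1)).carrier),
    P.IsHomogeneous (E.X (n + 1)).gr → P ≠ ⊥ → P ⊓ LinearMap.range (E.d n) ≠ ⊥)
  (m : HomogeneousIdeal 𝒜)

include hmin0 hmin in
theorem gam_eq_bot_of_low (n : ℕ) (hlow : ∀ k, k < n → Subsingleton (E.H m k)) :
    ∀ k, k < n → gam m.toIdeal (E.X k).carrier = ⊥ := by
  intro k
  induction k with
  | zero =>
    intro hk
    by_contra hne
    have h1 := ess_ker' 𝒜 E hmin0 hmin 0 _ (gam_isHomogeneous 𝒜 (E.X 0).gr m) hne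
    apply h1
    rw [eq_bot_iff]
    intro z hz
    haveI := hlow 0 hk
    have h2 : E.toH m 0 ⟨z, hz⟩ = 0 := Subsingleton.elim _ _
    rw [toH_eq_zero_iff] at h2
    rw [Submodule.mem_bot]
    exact (mem_cobdy_zero m E z).1 h2
  | succ k ih =>
    intro hk
    have ih' := ih (by omega)
    exact gam_eq_bot_step 𝒜 E hmin0 hmin m k (by rw [ih']; exact bot_le) (hlow (k + 1) hk)

include hmin0 hmin in
theorem gor_of_top (hm : IsStarLocal 𝒜 m) (n : ℕ)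
    (hlow : ∀ k, k < n → Subsingleton (E.H m k)) (hhigh : ∀ j, n < j → Subsingleton (E.H m j))
    (X : GMod.{u} 𝒜) (hX : IsStarInj 𝒜 X.gr) (θ : E.H m n ≃ₗ[R] X.carrier)
    (hθ : IsGrHom (E.Hgr m n) X.gr θ.toLinearMap) : LocCoh.IsGorensteinRing R := by
  haveI hprime : m.toIdeal.IsPrime := isPrime_of_coatom 𝒜 m hm.1
  have hσ : ∀ j : ℕ, GrLC.bassNum m.toIdeal R j =
      Module.length (Localization.AtPrime m.toIdeal)
        (soc m.toIdeal (LocalizedModule m.toIdeal.primeCompl (E.X j).carrier)) :=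
    fun j => bassNum_eq_length_soc 𝒜 𝒜 E hmin0 hmin m j
  have hprev := gam_eq_bot_of_low 𝒜 E hmin0 hmin m n hlow
  have hgam := gam_eq_bot_above 𝒜 E hmin0 hmin m n (fun k hk => hprev k (by omega)) hhigh X hX
    θ hθ
  have hμ : ∀ j, n + 1 ≤ j → GrLC.bassNum m.toIdeal R j = 0 := by
    intro j hj
    obtain ⟨t, rfl⟩ : ∃ t, j = n + 1 + t := ⟨j - (n + 1), by omega⟩
    rw [hσ, Module.length_eq_zero_iff]
    exact ⟨fun a b => Subtype.ext (by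
      rw [soc_eq_zero_of_gam m.toIdeal (hgam t) a.1 a.2,
        soc_eq_zero_of_gam m.toIdeal (hgam t) b.1 b.2])⟩
  have hX0 : Subsingleton (E.X (n + 2)).carrier := by
    by_contra hns
    rw [not_subsingleton_iff_nontrivial] at hns
    obtain ⟨q, hq, hqne⟩ := exists_bassNum_ne_zero 𝒜 𝒜 E hmin0 hmin (n + 2) hns
    haveI := hq
    apply hqne
    have hqtop : q ≠ ⊤ := by
      intro h
      apply hq.ne_top
      rw [h]
      rfl
    exact bassNum_eq_zero_of_le m.toIdeal q.toIdeal (le_of_starLocal 𝒜 hm q hqtop) (n + 1) hμ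
      (n + 2) le_rfl
  have hinj : CategoryTheory.HasInjectiveDimensionLT (ModuleCat.of R R) (n + 2 + 1) :=
    injDim_of_res (fun k => (E.X k).carrier) E.d E.exact_succ E.ε E.ε_injective
      E.exact_zero (fun k => Groth.Agent.Lib.GrInjDimH1.main 𝒜 (E.X k).gr (E.starInj k))
      (n + 2) hX0
  exact isGorensteinRing_of_injDim (n + 2 + 1) hinj

end gor

/-! ### the top local cohomology of a Gorenstein graded ring over a field -/
section Rside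

variable {R : Type u} [CommRing R] [IsNoetherianRing R] (𝒜 : ℤ → AddSubgroup R) [GradedRing 𝒜]
variable (hpos : ∀ n : ℤ, n < 0 → 𝒜 n = ⊥) (h0 : IsField (deg0 𝒜))
variable (m : HomogeneousIdeal 𝒜)
  (hmsp : m.toIdeal = Ideal.span (⋃ n ∈ Set.Ioi (0 : ℤ), (𝒜 n : Set R)))
variable {E : Type u} [AddCommGroup E] [Module R E] (𝓔 : ℤ → AddSubgroup E) [Decomposition 𝓔]
  [SetLike.GradedSMul 𝒜 𝓔] (e : (R ⧸ m.toIdeal) →ₗ[R] E)
  (he : IsStarInjHull 𝒜 (GrLC.quotGr 𝒜 m) 𝓔 e)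
variable {H : Type u} [AddCommGroup H] [Module R H] (𝓗 : ℤ → AddSubgroup H) [Decomposition 𝓗]
  [SetLike.GradedSMul 𝒜 𝓗]
  (a : ℤ) (ha : endDeg 𝓗 = ((a : WithTop ℤ) : WithBot (WithTop ℤ)))
  (g : ℤ) (φ : H ≃ₗ[R] E) (hφ : IsGrHomDeg 𝓗 𝓔 φ.toLinearMap g)

include hφ in
theorem mem_iff_of_deg {j : ℤ} {x : H} : x ∈ 𝓗 j ↔ φ x ∈ 𝓔 (g + j) := by
  have hφ' : IsGrHom 𝓗 (shiftGr 𝓔 g) φ.toLinearMap := by
    intro k y hy
    show φ y ∈ 𝓔 (g + k)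
    rw [add_comm]
    exact hφ k y hy
  constructor
  · intro hx
    exact hφ' j x hx
  · intro hx
    exact mem_of_map_mem 𝓗 (shiftGr 𝓔 g) hφ' φ.injective hx

include hpos h0 hmsp he ha hφ in
theorem g_eq : g = -a := by
  have hHa : 𝓗 a ≠ ⊥ := ne_bot_of_endDeg_eq 𝓗 a ha
  have hHgt : ∀ j : ℤ, a < j → 𝓗 j = ⊥ := (Groth.Agent.Lib.GrConvH1.endDeg_le_iff 𝓗 a).1 ha.le
  obtain ⟨x, hx, hx0⟩ := Groth.Agent.Lib.AInvH1.exists_ne_zero_of_ne_bot hHa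
  have h1 : φ x ∈ 𝓔 (g + a) := (mem_iff_of_deg 𝓔 𝓗 g φ hφ).1 hx
  have h1' : φ x ≠ 0 := fun h => hx0 (φ.injective (by rw [h, map_zero]))
  have h2 : ¬ 0 < g + a := fun hp => h1' (eq_zero_of_pos 𝒜 hpos h0 m hmsp 𝓔 e he hp h1)
  have hu := u_mem 𝒜 m 𝓔 e he
  have hu0 := u_ne 𝒜 hpos h0 m hmsp 𝓔 e he
  have h3 : φ.symm (e (Ideal.Quotient.mk m.toIdeal 1)) ∈ 𝓗 (-g) := by
    rw [mem_iff_of_deg 𝓔 𝓗 g φ hφ, φ.apply_symm_apply, add_neg_cancel]
    exact hu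
  have h4 : φ.symm (e (Ideal.Quotient.mk m.toIdeal 1)) ≠ 0 := by
    intro h
    apply hu0
    rw [← φ.apply_symm_apply (e (Ideal.Quotient.mk m.toIdeal 1)), h, map_zero]
  have h5 : ¬ a < -g := by
    intro hlt
    have h6 := hHgt (-g) hlt
    rw [h6] at h3
    exact h4 ((AddSubgroup.mem_bot).1 h3)
  omega

include hpos h0 hmsp he ha hφ in
theorem finrank_H (j : ℤ) :
    Module.finrank (deg0 𝒜) ↥(comp 𝒜 𝓗 j) = Module.finrank (deg0 𝒜) ↥(comp 𝒜 𝒜 (a - j)) := by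
  have hg := g_eq 𝒜 hpos h0 m hmsp 𝓔 e he 𝓗 a ha g φ hφ
  let f : ↥(comp 𝒜 𝓗 j) →ₗ[deg0 𝒜] ↥(comp 𝒜 𝓔 (g + j)) :=
    { toFun := fun x => ⟨φ (x : H), (mem_iff_of_deg 𝓔 𝓗 g φ hφ).1 (mem_of_comp 𝒜 𝓗 x)⟩
      map_add' := fun x x' => Subtype.ext (map_add φ _ _)
      map_smul' := fun c x => Subtype.ext (map_smul φ (c : R) (x : H)) }
  have hbij : Function.Bijective f := by
    constructor
    · intro x x' h
      exact Subtype.ext (φ.injective (congrArg Subtype.val h))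
    · intro y
      refine ⟨⟨φ.symm (y : E), (mem_iff_of_deg 𝓔 𝓗 g φ hφ).2 ?_⟩,
        Subtype.ext (φ.apply_symm_apply _)⟩
      rw [φ.apply_symm_apply]
      exact mem_of_comp 𝒜 𝓔 y
  rw [(LinearEquiv.ofBijective f hbij).finrank_eq]
  have h1 : g + j = -(a - j) := by
    rw [hg]
    ring
  rw [finrank_comp_congr 𝒜 𝓔 h1]
  exact finrank_piece 𝒜 hpos h0 m hmsp 𝓔 e he (a - j)

include hpos h0 hmsp he ha hφ in
theorem ess_H (j : ℤ) (x : H) (hx : x ∈ 𝓗 j) (hx0 : x ≠ 0) : ∃ r ∈ 𝒜 (a - j), r • x ≠ 0 := by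
  have hg := g_eq 𝒜 hpos h0 m hmsp 𝓔 e he 𝓗 a ha g φ hφ
  have h1 : φ x ∈ 𝓔 (g + j) := (mem_iff_of_deg 𝓔 𝓗 g φ hφ).1 hx
  have h1' : φ x ≠ 0 := fun h => hx0 (φ.injective (by rw [h, map_zero]))
  obtain ⟨r, hr, hru⟩ := exists_smul_eq_u 𝒜 hpos h0 m hmsp 𝓔 e he h1 h1'
  have h2 : -(g + j) = a - j := by
    rw [hg]
    ring
  refine ⟨r, mem_of_eq 𝒜 h2 hr, fun h => ?_⟩
  apply u_ne 𝒜 hpos h0 m hmsp 𝓔 e he
  rw [← hru, ← map_smul, h, map_zero]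

end Rside

/-! ### Veronese transfer -/
section ver

variable {R : Type u} [CommRing R] {𝒜 : ℤ → AddSubgroup R} [GradedRing 𝒜]
variable {R' : Type u} [CommRing R'] {𝒜' : ℤ → AddSubgroup R'} [GradedRing 𝒜']
variable {φ : R' →+* R} {q : ℕ} (hV : VData 𝒜 𝒜' φ q)

/-- `φ` as a semilinear map -/
def gφ (φ : R' →+* R) : R' →ₛₗ[φ] R where
  toFun := φ
  map_add' := map_add φ
  map_smul' := fun r x => by
    show φ (r * x) = φ r * φ x
    exact map_mul φ r x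

include hV in
theorem ring_isVer : Ver3H1.IsVer φ q 𝒜' 𝒜 (φ : R' →+ R) where
  smul := fun r x => by
    show φ (r * x) = φ r * φ x
    exact map_mul φ r x
  inj := hV.inj
  map_mem := fun j x hx => hV.map_mem hx
  surj := fun j y hy => hV.exists_of_mem hy

include hV in
theorem finrank_comp_of_isVer {M' M : Type u} [AddCommGroup M'] [Module R' M'] [AddCommGroup M]
    [Module R M] (ℳ' : ℤ → AddSubgroup M') (ℳ : ℤ → AddSubgroup M) [SetLike.GradedSMul 𝒜' ℳ']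
    [SetLike.GradedSMul 𝒜 ℳ] (Φ : M' →+ M) (hΦ : Ver3H1.IsVer φ q ℳ' ℳ Φ) (j : ℤ) :
    Module.finrank (deg0 𝒜') ↥(comp 𝒜' ℳ' j) = Module.finrank (deg0 𝒜) ↥(comp 𝒜 ℳ (j * q)) := by
  let f : ↥(comp 𝒜' ℳ' j) →+ ↥(comp 𝒜 ℳ (j * q)) :=
    { toFun := fun x => ⟨Φ x.1, hΦ.map_mem j x.1 x.2⟩
      map_zero' := Subtype.ext (map_zero Φ)
      map_add' := fun x y => Subtype.ext (map_add Φ x.1 y.1) }
  let e : ↥(comp 𝒜' ℳ' j) ≃+ ↥(comp 𝒜 ℳ (j * q)) := AddEquiv.ofBijective f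
    ⟨fun x y h => Subtype.ext (hΦ.inj (congrArg Subtype.val h)),
     fun y => by
      obtain ⟨x, hx, hxy⟩ := hΦ.surj j y.1 y.2
      exact ⟨⟨x, hx⟩, Subtype.ext hxy⟩⟩
  let i0 : deg0 𝒜' → deg0 𝒜 := fun r => ⟨φ r.1, by
    have h := hV.map_mem (j := 0) r.2
    rwa [zero_mul] at h⟩
  have hi0 : Function.Bijective i0 :=
    ⟨fun r s h => Subtype.ext (hV.inj (congrArg Subtype.val h)), fun s => by
      obtain ⟨r, hr, hrs⟩ := hV.exists_of_mem (j := 0) (s := s.1) (by rw [zero_mul]; exact s.2)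
      exact ⟨⟨r, hr⟩, Subtype.ext hrs⟩⟩
  have hc : ∀ (r : deg0 𝒜') (x : ↥(comp 𝒜' ℳ' j)), e (r • x) = i0 r • e x := by
    intro r x
    apply Subtype.ext
    exact hΦ.smul r.1 x.1
  have hrank := rank_eq_of_equiv_equiv i0 e hi0 hc
  unfold Module.finrank
  rw [hrank]

variable (m : HomogeneousIdeal 𝒜) (m' : HomogeneousIdeal 𝒜')
variable [IsNoetherianRing R] [IsNoetherianRing R']

include hV in
theorem exists_isVer (hΓ : Ver3H1.GamCompat φ m m') (E : StarInjRes 𝒜 𝒜) (F : StarInjRes 𝒜' 𝒜')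
    (p : ℕ) :
    ∃ Φ : F.H m' p →+ E.H m p, Ver3H1.IsVer φ q (F.Hgr m' p) (E.Hgr m p) Φ := by
  have hg : Function.Injective (gφ φ) := hV.inj
  have hgdeg : ∀ j : ℤ, (𝒜' j).map ((gφ φ : R' →ₛₗ[φ] R) : R' →+ R) = 𝒜 (j * q) := by
    intro j
    rw [← hV.deg j]
    rfl
  let θe : R' ≃ₗ[R'] (Ver3H1.ZG hV E 0).carrier :=
    LinearEquiv.ofBijective (Ver4H1.theta0 hV E (gφ φ))
      (Ver4H1.theta0_bijective hV E (gφ φ) hg hgdeg)
  have hθ : IsGrHom (Ver3H1.ZG hV E 0).gr 𝒜' θe.symm.toLinearMap := by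
    intro k z hz
    apply Ver4H1.theta0_gr_inv hV E (gφ φ) hg hgdeg
    have h1 : Ver4H1.theta0 hV E (gφ φ) (θe.symm z) = z := θe.apply_symm_apply z
    change Ver4H1.theta0 hV E (gφ φ) (θe.symm z) ∈ (Ver3H1.ZG hV E 0).gr k
    rw [h1]
    exact hz
  exact Ver3H1.main_ver hV m m' hΓ E (Ver3H1.reaug F θe.symm hθ) p

end ver

/-! ### the main theorem -/

theorem main18641 (R : Type u) [CommRing R] [hG : LocCoh.IsGorensteinRing R]
    (𝒜 : ℤ → AddSubgroup R) [GradedRing 𝒜] (hpos : ∀ n : ℤ, n < 0 → 𝒜 n = ⊥)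
    (h0 : IsField (GrLC.deg0 𝒜)) (m : HomogeneousIdeal 𝒜) (hm : GrLC.IsStarLocal 𝒜 m)
    (hmsp : m.toIdeal = Ideal.span (⋃ n ∈ Set.Ioi (0 : ℤ), (𝒜 n : Set R))) (n : ℕ)
    (hn : ringKrullDim R = n) (I : GrLC.StarInjRes 𝒜 𝒜) (a : ℤ)
    (ha : GrLC.endDeg (I.Hgr m n) = ((a : WithTop ℤ) : WithBot (WithTop ℤ))) (q : ℕ) (hq : 0 < q)
    (R' : Type u) [CommRing R'] (𝒜' : ℤ → AddSubgroup R') [GradedRing 𝒜'] (φ : R' →+* R)
    (hφ : Function.Injective φ) (hdeg : ∀ j : ℤ, (𝒜' j).map (φ : R' →+ R) = 𝒜 (j * q))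
    (hdvd : (q : ℤ) ∣ a) : LocCoh.IsGorensteinRing R' := by
  haveI : IsNoetherianRing R := inferInstance
  haveI hCM : LocCoh.IsCohenMacaulayRing R :=
    { isCohenMacaulayLocalRing_localization := fun p hp => by
        haveI := hp
        haveI : LocCoh.IsGorensteinLocalRing (Localization.AtPrime p) :=
          LocCoh.IsGorensteinRing.isGorensteinLocalRing_localization p
        exact Groth.Agent.Link9.isCMLocalRing_of_gorenstein (Localization.AtPrime p) }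
  have hV : VData 𝒜 𝒜' φ q := ⟨hq, hφ, hdeg⟩
  haveI : IsNoetherianRing R' := Groth.Agent.Lib.Ver2H1.isNoetherianRing_of_vdata hV
  have hq' : (0 : ℤ) < q := by exact_mod_cast hq
  -- the structure of `R'`
  have hpos' : ∀ j : ℤ, j < 0 → 𝒜' j = ⊥ := by
    intro j hj
    rw [eq_bot_iff]
    intro r hr
    have h1 := hV.map_mem hr
    rw [hpos (j * q) (mul_neg_of_neg_of_pos hj hq')] at h1
    have h2 : φ r = 0 := (AddSubgroup.mem_bot).1 h1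
    rw [AddSubgroup.mem_bot]
    exact hφ (by rw [h2, map_zero])
  have h0' : IsField (deg0 𝒜') := by
    let f0 : ↥(deg0 𝒜') →* ↥(deg0 𝒜) :=
      { toFun := fun r => ⟨φ r.1, by
          have h := hV.map_mem (j := 0) r.2
          rwa [zero_mul] at h⟩
        map_one' := Subtype.ext (map_one φ)
        map_mul' := fun r s => Subtype.ext (map_mul φ r.1 s.1) }
    have hbij : Function.Bijective f0 :=
      ⟨fun r s h => Subtype.ext (hV.inj (congrArg Subtype.val h)), fun s => by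
        obtain ⟨r, hr, hrs⟩ := hV.exists_of_mem (j := 0) (s := s.1) (by rw [zero_mul]; exact s.2)
        exact ⟨⟨r, hr⟩, Subtype.ext hrs⟩⟩
    exact (MulEquiv.ofBijective f0 hbij).isField h0
  obtain ⟨m', hm'def⟩ : ∃ m' : HomogeneousIdeal 𝒜', m' = Rp 𝒜' := ⟨_, rfl⟩
  have hm' : IsStarLocal 𝒜' m' := by
    rw [hm'def]
    exact isStarLocal_Rp 𝒜' hpos' h0'
  have hm'sp : m'.toIdeal = Ideal.span (⋃ j ∈ Set.Ioi (0 : ℤ), (𝒜' j : Set R')) := by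
    rw [hm'def]
    rfl
  have hΓ := Groth.Agent.Lib.Ver3H1.gamCompat_of_span hV m m' hmsp hm'sp
  -- hulls of the residue fields
  obtain ⟨E', e, he⟩ := exists_hull_quot 𝒜 m
  obtain ⟨E'', e'', he''⟩ := exists_hull_quot 𝒜' m'
  -- the top local cohomology of `R`
  have hht : m.toIdeal.height = n := by
    have h1 := Groth.Agent.Lib.GorCanH1.ringKrullDim_eq_height 𝒜 hpos h0 m hm
    rw [hn] at h1
    exact (WithBot.coe_injective h1).symm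
  obtain ⟨g, φR, hφR⟩ := main13244 R 𝒜 m hm n hht I E'.carrier E'.gr e he
  letI := HDecomp 𝒜 𝒜 m I n
  haveI := HGSMul 𝒜 𝒜 m I n
  have hfin := finrank_H 𝒜 hpos h0 m hmsp E'.gr e he (I.Hgr m n) a ha g φR hφR
  have hess := ess_H 𝒜 hpos h0 m hmsp E'.gr e he (I.Hgr m n) a ha g φR hφR
  -- the minimal resolution of `R'`
  obtain ⟨E₂, hE₂⟩ : ∃ E₂ : StarInjRes 𝒜' 𝒜', E₂ = minRes 𝒜' 𝒜' := ⟨_, rfl⟩
  have hmin0 : ∀ P : Submodule R' (E₂.X 0).carrier, P.IsHomogeneous (E₂.X 0).gr → P ≠ ⊥ →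
      P ⊓ LinearMap.range E₂.ε ≠ ⊥ := by
    rw [hE₂]
    exact minRes_min0 𝒜' 𝒜'
  have hmin : ∀ (k : ℕ) (P : Submodule R' (E₂.X (k + 1)).carrier),
      P.IsHomogeneous (E₂.X (k + 1)).gr → P ≠ ⊥ → P ⊓ LinearMap.range (E₂.d k) ≠ ⊥ := by
    rw [hE₂]
    exact minRes_min 𝒜' 𝒜'
  have hΦ : ∀ p, ∃ Φ : E₂.H m' p →+ I.H m p,
      Groth.Agent.Lib.Ver3H1.IsVer φ q (E₂.Hgr m' p) (I.Hgr m p) Φ :=
    fun p => exists_isVer hV m m' hΓ I E₂ p
  have hlow : ∀ k, k < n → Subsingleton (E₂.H m' k) := by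
    intro k hk
    obtain ⟨Ψ, hΨ⟩ := hΦ k
    haveI := Groth.Agent.Lib.AInvH1.H_subsingleton_of_lt 𝒜 m hm n hht I k hk
    exact hΨ.inj.subsingleton
  have hhigh : ∀ j, n < j → Subsingleton (E₂.H m' j) := by
    intro j hj
    obtain ⟨Ψ, hΨ⟩ := hΦ j
    haveI := H_subsingleton_of_gt 𝒜 m hm n hht I j hj
    exact hΨ.inj.subsingleton
  obtain ⟨b, hb⟩ := hdvd
  obtain ⟨Φ, hΦn⟩ := hΦ n
  letI := HDecomp 𝒜' 𝒜' m' E₂ n
  haveI := HGSMul 𝒜' 𝒜' m' E₂ n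
  have h1 : ∀ j : ℤ, Module.finrank (deg0 𝒜') ↥(comp 𝒜' (E₂.Hgr m' n) j) =
      Module.finrank (deg0 𝒜') ↥(comp 𝒜' 𝒜' (b - j)) := by
    intro j
    rw [finrank_comp_of_isVer hV (E₂.Hgr m' n) (I.Hgr m n) Φ hΦn j, hfin (j * q),
      finrank_comp_of_isVer hV 𝒜' 𝒜 (φ : R' →+ R) (ring_isVer hV) (b - j)]
    exact finrank_comp_congr 𝒜 𝒜 (by rw [hb]; ring)
  have h2 : ∀ (j : ℤ) (x : E₂.H m' n), x ∈ E₂.Hgr m' n j → x ≠ 0 →
      ∃ r ∈ 𝒜' (b - j), r • x ≠ 0 := by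
    intro j x hx hx0
    have h3 : Φ x ∈ I.Hgr m n (j * q) := hΦn.map_mem j x hx
    have h4 : Φ x ≠ 0 := fun h => hx0 (hΦn.inj (by rw [h, map_zero]))
    obtain ⟨r, hr, hrx⟩ := hess (j * q) (Φ x) h3 h4
    have h5 : a - j * q = (b - j) * q := by
      rw [hb]
      ring
    rw [h5] at hr
    obtain ⟨r', hr', rfl⟩ := hV.exists_of_mem hr
    refine ⟨r', hr', fun h => hrx ?_⟩
    rw [← hΦn.smul, h, map_zero]
  obtain ⟨θ, hθ⟩ := recognize 𝒜' hpos' h0' m' hm'sp E''.gr e'' he'' (E₂.Hgr m' n) b h1 h2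
  exact gor_of_top 𝒜' E₂ hmin0 hmin m' hm' n hlow hhigh
    (GMod.of 𝒜' E''.carrier (shiftGr E''.gr (-b)))
    (Groth.Agent.Lib.GrLES3H1.shift_starInj 𝒜' E''.gr he''.starInj (-b)) θ hθ

end Groth.Agent.Lib.VerGorH1
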