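import Mathlib
import Groth.Prelude.Def_GrLC
import Groth.Prelude.Def_GrLC2
import Groth.Prelude.Def_CAlg
import Groth.Prelude.Def_Wider
import Groth.Agent.Lib.VerGor_helper1
import Groth.Agent.Lib.GrMono_helper9

/-! Veronese subrings of a standard graded Gorenstein ring over a field: `R^(q)` is Gorenstein iff
`q` divides the `a`-invariant (helper1, S18643). -/

set_option autoImplicit false

namespace Groth.Agent.Lib.VerGor2H1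

open DirectSum GrLC Groth.Agent.Lib.GrStarH1 Groth.Agent.Lib.GrStar2H1 Groth.Agent.Lib.GrStar3H1
  Groth.Agent.Lib.GrStar4H1 Groth.Agent.Lib.GrLES1H1 Groth.Agent.Lib.BassZeroH1
  Groth.Agent.Lib.BassShiftH1 Groth.Agent.Lib.MinResH1 Groth.Agent.Lib.GorTopH1
  Groth.Agent.Lib.GorLocH1 Groth.Agent.Lib.GorTop2H1 Groth.Agent.Lib.SocleH1
  Groth.Agent.Lib.GrHDecH1 Groth.Agent.Lib.Ver1H1 Groth.Agent.Lib.GrHS3H1
  Groth.Agent.Lib.VerGorH1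

universe u

attribute [local instance] shiftDecomp shift_gsmul

section Rside

variable {R : Type u} [CommRing R] [IsNoetherianRing R] (𝒜 : ℤ → AddSubgroup R) [GradedRing 𝒜]
variable (hpos : ∀ n : ℤ, n < 0 → 𝒜 n = ⊥) (h0 : IsField (deg0 𝒜))
variable (m : HomogeneousIdeal 𝒜)
  (hmsp : m.toIdeal = Ideal.span (⋃ n ∈ Set.Ioi (0 : ℤ), (𝒜 n : Set R)))
variable {E : Type u} [AddCommGroup E] [Module R E] (𝓔 : ℤ → AddSubgroup E) [Decomposition 𝓔]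
  [SetLike.GradedSMul 𝒜 𝓔] (e : (R ⧸ m.toIdeal) →ₗ[R] E)
  (he : IsStarInjHull 𝒜 (GrLC.quotGr 𝒜 m) 𝓔 e)
variable {H : Type u} [AddCommGroup H] [Module R H] (𝓗 : ℤ → AddSubgroup H) [Decomposition 𝓗]
  [SetLike.GradedSMul 𝒜 𝓗]
  (g : ℤ) (φ : H ≃ₗ[R] E) (hφ : IsGrHomDeg 𝓗 𝓔 φ.toLinearMap g)

include hpos h0 hmsp he hφ in
theorem finrank_H' (j : ℤ) :
    Module.finrank (deg0 𝒜) ↥(comp 𝒜 𝓗 j) =
      Module.finrank (deg0 𝒜) ↥(comp 𝒜 𝒜 (-(g + j))) := by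
  let f : ↥(comp 𝒜 𝓗 j) →ₗ[deg0 𝒜] ↥(comp 𝒜 𝓔 (g + j)) :=
    { toFun := fun x => ⟨φ (x : H), (mem_iff_of_deg 𝓔 𝓗 g φ hφ).1 (mem_of_comp 𝒜 𝓗 x)⟩
      map_add' := fun x x' => Subtype.ext (map_add φ _ _)
      map_smul' := fun c x => Subtype.ext (map_smul φ (c : R) (x : H)) }
  have hbij : Function.Bijective f := by
    constructor
    · intro x x' h
      exact Subtype.ext (φ.injective (congrArg Subtype.val h))
    · intro y
      refine ⟨⟨φ.symm (y : E), (mem_iff_of_deg 𝓔 𝓗 g φ hφ).2 ?_⟩,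
        Subtype.ext (φ.apply_symm_apply _)⟩
      rw [φ.apply_symm_apply]
      exact mem_of_comp 𝒜 𝓔 y
  rw [(LinearEquiv.ofBijective f hbij).finrank_eq]
  have h1 := finrank_piece 𝒜 hpos h0 m hmsp 𝓔 e he (-(g + j))
  rw [neg_neg] at h1
  exact h1

end Rside

section vdata

variable {R : Type u} [CommRing R] {𝒜 : ℤ → AddSubgroup R} [GradedRing 𝒜]
variable {R' : Type u} [CommRing R'] {𝒜' : ℤ → AddSubgroup R'} [GradedRing 𝒜']
variable {φ : R' →+* R} {q : ℕ} (hV : VData 𝒜 𝒜' φ q)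

include hV in
theorem hpos_of_vdata (hpos : ∀ n : ℤ, n < 0 → 𝒜 n = ⊥) : ∀ j : ℤ, j < 0 → 𝒜' j = ⊥ := by
  have hq' : (0 : ℤ) < q := by exact_mod_cast hV.hq
  intro j hj
  rw [eq_bot_iff]
  intro r hr
  have h1 := hV.map_mem hr
  rw [hpos (j * q) (mul_neg_of_neg_of_pos hj hq')] at h1
  have h2 : φ r = 0 := (AddSubgroup.mem_bot).1 h1
  rw [AddSubgroup.mem_bot]
  exact hV.inj (by rw [h2, map_zero])

include hV in
theorem h0_of_vdata (h0 : IsField (deg0 𝒜)) : IsField (deg0 𝒜') := by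
  let f0 : ↥(deg0 𝒜') →* ↥(deg0 𝒜) :=
    { toFun := fun r => ⟨φ r.1, by
        have h := hV.map_mem (j := 0) r.2
        rwa [zero_mul] at h⟩
      map_one' := Subtype.ext (map_one φ)
      map_mul' := fun r s => Subtype.ext (map_mul φ r.1 s.1) }
  have hbij : Function.Bijective f0 :=
    ⟨fun r s h => Subtype.ext (hV.inj (congrArg Subtype.val h)), fun s => by
      obtain ⟨r, hr, hrs⟩ := hV.exists_of_mem (j := 0) (s := s.1) (by rw [zero_mul]; exact s.2)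
      exact ⟨⟨r, hr⟩, Subtype.ext hrs⟩⟩
  exact (MulEquiv.ofBijective f0 hbij).isField h0

end vdata

/-! ### the converse direction -/

theorem dvd_of_gorenstein (R : Type u) [CommRing R] [hG : LocCoh.IsGorensteinRing R]
    (𝒜 : ℤ → AddSubgroup R) [GradedRing 𝒜] (hpos : ∀ n : ℤ, n < 0 → 𝒜 n = ⊥)
    (h0 : IsField (GrLC.deg0 𝒜)) (m : HomogeneousIdeal 𝒜) (hm : GrLC.IsStarLocal 𝒜 m)
    (hmsp : m.toIdeal = Ideal.span (⋃ n ∈ Set.Ioi (0 : ℤ), (𝒜 n : Set R)))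
    (hstd : Ideal.span (⋃ n ∈ Set.Ioi (0 : ℤ), (𝒜 n : Set R)) =
      Ideal.span ((𝒜 1 : AddSubgroup R) : Set R))
    (hR1 : 2 ≤ Module.finrank (GrLC.deg0 𝒜) (GrLC.comp 𝒜 𝒜 1)) (n : ℕ)
    (hn : ringKrullDim R = n) (hn1 : 1 ≤ n) (I : GrLC.StarInjRes 𝒜 𝒜) (a : ℤ)
    (ha : GrLC.endDeg (I.Hgr m n) = ((a : WithTop ℤ) : WithBot (WithTop ℤ))) (q : ℕ) (hq : 0 < q)
    (R' : Type u) [CommRing R'] (𝒜' : ℤ → AddSubgroup R') [GradedRing 𝒜'] (φ : R' →+* R)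
    (hφ : Function.Injective φ) (hdeg : ∀ j : ℤ, (𝒜' j).map (φ : R' →+ R) = 𝒜 (j * q))
    [hG' : LocCoh.IsGorensteinRing R'] : (q : ℤ) ∣ a := by
  haveI : IsNoetherianRing R := inferInstance
  haveI hCM : LocCoh.IsCohenMacaulayRing R :=
    { isCohenMacaulayLocalRing_localization := fun p hp => by
        haveI := hp
        haveI : LocCoh.IsGorensteinLocalRing (Localization.AtPrime p) :=
          LocCoh.IsGorensteinRing.isGorensteinLocalRing_localization p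
        exact Groth.Agent.Link9.isCMLocalRing_of_gorenstein (Localization.AtPrime p) }
  have hV : VData 𝒜 𝒜' φ q := ⟨hq, hφ, hdeg⟩
  haveI : IsNoetherianRing R' := inferInstance
  have hpos' := hpos_of_vdata hV hpos
  have h0' := h0_of_vdata hV h0
  obtain ⟨m', hm'def⟩ : ∃ m' : HomogeneousIdeal 𝒜', m' = Rp 𝒜' := ⟨_, rfl⟩
  have hm' : IsStarLocal 𝒜' m' := by
    rw [hm'def]
    exact isStarLocal_Rp 𝒜' hpos' h0'
  have hm'sp : m'.toIdeal = Ideal.span (⋃ j ∈ Set.Ioi (0 : ℤ), (𝒜' j : Set R')) := by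
    rw [hm'def]
    rfl
  have hΓ := Groth.Agent.Lib.Ver3H1.gamCompat_of_span hV m m' hmsp hm'sp
  obtain ⟨E', e, he⟩ := exists_hull_quot 𝒜 m
  obtain ⟨E'', e'', he''⟩ := exists_hull_quot 𝒜' m'
  have hht : m.toIdeal.height = n := by
    have h1 := Groth.Agent.Lib.GorCanH1.ringKrullDim_eq_height 𝒜 hpos h0 m hm
    rw [hn] at h1
    exact (WithBot.coe_injective h1).symm
  obtain ⟨g, φR, hφR⟩ := main13244 R 𝒜 m hm n hht I E'.carrier E'.gr e he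
  letI := HDecomp 𝒜 𝒜 m I n
  haveI := HGSMul 𝒜 𝒜 m I n
  have hfin := finrank_H 𝒜 hpos h0 m hmsp E'.gr e he (I.Hgr m n) a ha g φR hφR
  -- the ring `R'`
  haveI hprime' : m'.toIdeal.IsPrime := isPrime_of_coatom 𝒜' m' hm'.1
  obtain ⟨n', hn'⟩ : ∃ n' : ℕ, (n' : ℕ∞) = m'.toIdeal.height :=
    ENat.ne_top_iff_exists.mp Ideal.height_ne_top_of_isPrime
  obtain ⟨E₂, -⟩ : ∃ E₂ : StarInjRes 𝒜' 𝒜', E₂ = minRes 𝒜' 𝒜' := ⟨_, rfl⟩
  obtain ⟨g', φR', hφR'⟩ := main13244 R' 𝒜' m' hm' n' hn'.symm E₂ E''.carrier E''.gr e'' he''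
  have hΦ : ∀ p, ∃ Φ : E₂.H m' p →+ I.H m p,
      Groth.Agent.Lib.Ver3H1.IsVer φ q (E₂.Hgr m' p) (I.Hgr m p) Φ :=
    fun p => exists_isVer hV m m' hΓ I E₂ p
  have hnn : n = n' := by
    by_contra hne
    obtain ⟨Ψ, hΨ⟩ := hΦ n'
    haveI : Subsingleton (I.H m n') := by
      rcases lt_or_gt_of_ne hne with h | h
      · exact H_subsingleton_of_gt 𝒜 m hm n hht I n' h
      · exact Groth.Agent.Lib.AInvH1.H_subsingleton_of_lt 𝒜 m hm n hht I n' h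
    haveI : Subsingleton (E₂.H m' n') := hΨ.inj.subsingleton
    apply u_ne 𝒜' hpos' h0' m' hm'sp E''.gr e'' he''
    have h3 : φR'.symm (e'' (Ideal.Quotient.mk m'.toIdeal 1)) = 0 := Subsingleton.elim _ _
    rw [← φR'.apply_symm_apply (e'' (Ideal.Quotient.mk m'.toIdeal 1)), h3, map_zero]
  subst hnn
  letI := HDecomp 𝒜' 𝒜' m' E₂ n
  haveI := HGSMul 𝒜' 𝒜' m' E₂ n
  obtain ⟨Φ, hΦn⟩ := hΦ n
  have key : ∀ j : ℤ, Module.finrank (deg0 𝒜) ↥(comp 𝒜 𝒜 (a - j * q)) =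
      Module.finrank (deg0 𝒜) ↥(comp 𝒜 𝒜 (-(g' + j) * q)) := by
    intro j
    rw [← hfin (j * q), ← finrank_comp_of_isVer hV (E₂.Hgr m' n) (I.Hgr m n) Φ hΦn j,
      finrank_H' 𝒜' hpos' h0' m' hm'sp E''.gr e'' he'' (E₂.Hgr m' n) g' φR' hφR' j,
      finrank_comp_of_isVer hV 𝒜' 𝒜 (φ : R' →+ R) (ring_isVer hV) (-(g' + j))]
  obtain ⟨ρ, hρdef⟩ : ∃ ρ : ℤ, ρ = a + g' * q := ⟨_, rfl⟩
  have h1dim : Module.finrank (deg0 𝒜) ↥(comp 𝒜 𝒜 ρ) = 1 := by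
    have h3 := key (-g')
    rw [finrank_comp_congr 𝒜 𝒜 (show a - -g' * (q : ℤ) = ρ by rw [hρdef]; ring),
      finrank_comp_congr 𝒜 𝒜 (show -(g' + -g') * (q : ℤ) = 0 by ring),
      finrank_ring_zero 𝒜 h0] at h3
    exact h3
  have hρ0 : ¬ ρ < 0 := by
    intro hlt
    letI : Field (deg0 𝒜) := h0.toField
    haveI : Subsingleton ↥(comp 𝒜 𝒜 ρ) := ⟨fun x y => Subtype.ext (by
      rw [coe_eq_zero_of_bot 𝒜 (hpos _ hlt) _ (mem_of_comp 𝒜 𝒜 x),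
        coe_eq_zero_of_bot 𝒜 (hpos _ hlt) _ (mem_of_comp 𝒜 𝒜 y)])⟩
    rw [Module.finrank_zero_of_subsingleton] at h1dim
    exact zero_ne_one h1dim
  have hdim1 : 1 ≤ ringKrullDim R := by
    rw [hn]
    exact_mod_cast hn1
  have hmono : ∀ i : ℤ, 1 ≤ i → Module.finrank (deg0 𝒜) ↥(comp 𝒜 𝒜 1) ≤
      Module.finrank (deg0 𝒜) ↥(comp 𝒜 𝒜 i) := by
    intro i hi
    induction i, hi using Int.le_induction with
    | base => exact le_rfl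
    | succ i hi ih => exact ih.trans (Groth.Agent.GrMono9.finrank_mono 𝒜 hpos h0 hstd hdim1 i)
  have hρ1 : ¬ 1 ≤ ρ := by
    intro hle
    have h3 := hmono ρ hle
    rw [h1dim] at h3
    omega
  have hρ : ρ = 0 := by omega
  refine ⟨-g', ?_⟩
  rw [hρdef] at hρ
  linear_combination hρ

theorem main18643 (R : Type u) [CommRing R] [hG : LocCoh.IsGorensteinRing R]
    (𝒜 : ℤ → AddSubgroup R) [GradedRing 𝒜] (hpos : ∀ n : ℤ, n < 0 → 𝒜 n = ⊥)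
    (h0 : IsField (GrLC.deg0 𝒜)) (m : HomogeneousIdeal 𝒜) (hm : GrLC.IsStarLocal 𝒜 m)
    (hmsp : m.toIdeal = Ideal.span (⋃ n ∈ Set.Ioi (0 : ℤ), (𝒜 n : Set R)))
    (hstd : Ideal.span (⋃ n ∈ Set.Ioi (0 : ℤ), (𝒜 n : Set R)) =
      Ideal.span ((𝒜 1 : AddSubgroup R) : Set R))
    (hR1 : 2 ≤ Module.finrank (GrLC.deg0 𝒜) (GrLC.comp 𝒜 𝒜 1)) (n : ℕ)
    (hn : ringKrullDim R = n) (hn1 : 1 ≤ n) (I : GrLC.StarInjRes 𝒜 𝒜) (a : ℤ)
    (ha : GrLC.endDeg (I.Hgr m n) = ((a : WithTop ℤ) : WithBot (WithTop ℤ))) (q : ℕ) (hq : 0 < q)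
    (R' : Type u) [CommRing R'] (𝒜' : ℤ → AddSubgroup R') [GradedRing 𝒜'] (φ : R' →+* R)
    (hφ : Function.Injective φ) (hdeg : ∀ j : ℤ, (𝒜' j).map (φ : R' →+ R) = 𝒜 (j * q)) :
    LocCoh.IsGorensteinRing R' ↔ (q : ℤ) ∣ a := by
  constructor
  · intro hG'
    exact dvd_of_gorenstein R 𝒜 hpos h0 m hm hmsp hstd hR1 n hn hn1 I a ha q hq R' 𝒜' φ hφ hdeg
  · intro hdvd
    exact main18641 R 𝒜 hpos h0 m hm hmsp n hn I a ha q hq R' 𝒜' φ hφ hdeg hdvd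

end Groth.Agent.Lib.VerGor2H1
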