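import Mathlib
import Groth.Prelude.Def_GrLC
import Groth.Agent.Lib.Socle_helper1
import Groth.Agent.Lib.GrMono_helper9

/-!
# A duality criterion: a graded module which looks like a shifted hull of the residue field along a
Veronese is one (helper1, towards S18642).  APPEND-ONLY once landed.
-/

set_option autoImplicit false
set_option maxHeartbeats 400000
universe u

namespace Groth.Agent.Lib.VerGor3H1

open DirectSum GrLC Groth.Agent.Lib.SocleH1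

section core

variable {R : Type u} [CommRing R] (𝒜 : ℤ → AddSubgroup R) [GradedRing 𝒜]
variable {H : Type u} [AddCommGroup H] [Module R H] (𝓗 : ℤ → AddSubgroup H)
  [SetLike.GradedSMul 𝒜 𝓗]

theorem smul_mem_of_add {l i j : ℤ} (h : l + i = j) {r : R} (hr : r ∈ 𝒜 l) {x : H}
    (hx : x ∈ 𝓗 i) : r • x ∈ 𝓗 j := by
  have h1 := SetLike.GradedSMul.smul_mem (A := 𝒜) (B := 𝓗) hr hx
  rw [vadd_eq_add, h] at h1
  exact h1

omit [SetLike.GradedSMul 𝒜 𝓗] in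
theorem mul_mem_of_add {l l' j : ℤ} (h : l + l' = j) {r s : R} (hr : r ∈ 𝒜 l) (hs : s ∈ 𝒜 l') :
    r * s ∈ 𝒜 j :=
  mem_of_eq 𝒜 h (SetLike.mul_mem_graded hr hs)

variable (b : ℤ) (κ : ↥(comp 𝒜 𝓗 b) ≃ₗ[deg0 𝒜] deg0 𝒜)

/-- the pairing `H_i × R_l → H_b ≃ k`, `l + i = b` -/
noncomputable def Theta (i l : ℤ) (hil : l + i = b) :
    ↥(comp 𝒜 𝓗 i) →ₗ[deg0 𝒜] Module.Dual (deg0 𝒜) ↥(comp 𝒜 𝒜 l) :=
  LinearMap.mk₂ (deg0 𝒜)
    (fun h r => κ ⟨(r : R) • (h : H),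
      smul_mem_of_add 𝒜 𝓗 hil (mem_of_comp 𝒜 𝒜 r) (mem_of_comp 𝒜 𝓗 h)⟩)
    (fun h h' r => by
      rw [← map_add κ]
      exact congrArg κ (Subtype.ext (by
        show (r : R) • ((h : H) + (h' : H)) = (r : R) • (h : H) + (r : R) • (h' : H)
        exact smul_add _ _ _)))
    (fun c h r => by
      rw [← map_smul κ]
      exact congrArg κ (Subtype.ext (by
        show (r : R) • ((c : R) • (h : H)) = (c : R) • ((r : R) • (h : H))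
        exact smul_comm _ _ _)))
    (fun h r r' => by
      rw [← map_add κ]
      exact congrArg κ (Subtype.ext (by
        show ((r : R) + (r' : R)) • (h : H) = (r : R) • (h : H) + (r' : R) • (h : H)
        exact add_smul _ _ _)))
    (fun c h r => by
      rw [← map_smul κ]
      exact congrArg κ (Subtype.ext (by
        show ((c : R) * (r : R)) • (h : H) = (c : R) • ((r : R) • (h : H))
        exact mul_smul _ _ _)))

theorem Theta_apply (i l : ℤ) (hil : l + i = b) (h : ↥(comp 𝒜 𝓗 i)) (r : ↥(comp 𝒜 𝒜 l)) :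
    Theta 𝒜 𝓗 b κ i l hil h r = κ ⟨(r : R) • (h : H),
      smul_mem_of_add 𝒜 𝓗 hil (mem_of_comp 𝒜 𝒜 r) (mem_of_comp 𝒜 𝓗 h)⟩ := rfl

theorem Theta_eq_zero_iff (i l : ℤ) (hil : l + i = b) (h : ↥(comp 𝒜 𝓗 i))
    (r : ↥(comp 𝒜 𝒜 l)) : Theta 𝒜 𝓗 b κ i l hil h r = 0 ↔ (r : R) • (h : H) = 0 := by
  rw [Theta_apply, LinearEquiv.map_eq_zero_iff]
  constructor
  · intro h1
    exact congrArg Subtype.val h1
  · intro h1
    exact Subtype.ext h1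

theorem Theta_eq_Theta_iff {i l i' l' : ℤ} (hil : l + i = b) (hil' : l' + i' = b)
    (h : ↥(comp 𝒜 𝓗 i)) (r : ↥(comp 𝒜 𝒜 l)) (h' : ↥(comp 𝒜 𝓗 i')) (r' : ↥(comp 𝒜 𝒜 l')) :
    Theta 𝒜 𝓗 b κ i l hil h r = Theta 𝒜 𝓗 b κ i' l' hil' h' r' ↔
      (r : R) • (h : H) = (r' : R) • (h' : H) := by
  rw [Theta_apply, Theta_apply]
  constructor
  · intro h1
    exact congrArg Subtype.val (κ.injective h1)
  · intro h1
    exact congrArg κ (Subtype.ext h1)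

variable (h0 : IsField (deg0 𝒜)) (q : ℕ)
  (hfinH : ∀ i : ℤ, Module.Finite (deg0 𝒜) ↥(comp 𝒜 𝓗 i))
  (hfinR : ∀ l : ℤ, Module.Finite (deg0 𝒜) ↥(comp 𝒜 𝒜 l))
  (hfin : ∀ i l : ℤ, l + i = b → (q : ℤ) ∣ i →
    Module.finrank (deg0 𝒜) ↥(comp 𝒜 𝓗 i) = Module.finrank (deg0 𝒜) ↥(comp 𝒜 𝒜 l))
  (hess : ∀ i l : ℤ, l + i = b → (q : ℤ) ∣ i → ∀ x ∈ 𝓗 i, x ≠ 0 → ∃ r ∈ 𝒜 l, r • x ≠ 0)

include h0 hfinH hfinR hfin hess in
theorem Theta_bijective_of_dvd (i l : ℤ) (hil : l + i = b) (hq : (q : ℤ) ∣ i) :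
    Function.Bijective (Theta 𝒜 𝓗 b κ i l hil) := by
  letI : Field (deg0 𝒜) := h0.toField
  haveI := hfinH i
  haveI := hfinR l
  have hinj : Function.Injective (Theta 𝒜 𝓗 b κ i l hil) := by
    rw [injective_iff_map_eq_zero]
    intro h hh
    by_contra hne
    have hne' : (h : H) ≠ 0 := fun e => hne (Subtype.ext e)
    obtain ⟨r, hr, hrh⟩ := hess i l hil hq (h : H) (mem_of_comp 𝒜 𝓗 h) hne'
    apply hrh
    exact (Theta_eq_zero_iff 𝒜 𝓗 b κ i l hil h ⟨r, hr⟩).1 (by rw [hh]; rfl)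
  refine ⟨hinj, ?_⟩
  have hdim : Module.finrank (deg0 𝒜) ↥(comp 𝒜 𝓗 i) =
      Module.finrank (deg0 𝒜) (Module.Dual (deg0 𝒜) ↥(comp 𝒜 𝒜 l)) := by
    rw [Subspace.dual_finrank_eq]
    exact hfin i l hil hq
  exact (LinearMap.injective_iff_surjective_of_finrank_eq_finrank hdim).1 hinj

variable (hdepth : ∀ r : R, (∀ s ∈ 𝒜 1, s * r = 0) → r = 0)

omit [SetLike.GradedSMul 𝒜 𝓗] in
include hdepth in
theorem depth_t : ∀ (t : ℕ) (r : R), (∀ s ∈ 𝒜 (t : ℤ), s * r = 0) → r = 0 := by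
  intro t
  induction t with
  | zero =>
    intro r hr
    have := hr 1 (by rw [Nat.cast_zero]; exact SetLike.GradedOne.one_mem (A := 𝒜))
    rwa [one_mul] at this
  | succ t ih =>
    intro r hr
    apply hdepth
    intro s₁ hs₁
    apply ih
    intro s hs
    rw [← mul_assoc]
    apply hr
    rw [Nat.cast_succ]
    exact SetLike.mul_mem_graded hs hs₁

include h0 hfinH hfinR hfin hess hdepth in
theorem Theta_surjective (hq0 : 0 < q) (i l : ℤ) (hil : l + i = b) :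
    Function.Surjective (Theta 𝒜 𝓗 b κ i l hil) := by
  letI : Field (deg0 𝒜) := h0.toField
  haveI := hfinR l
  have hq' : (0 : ℤ) < q := by exact_mod_cast hq0
  obtain ⟨t, ht⟩ : ∃ t : ℕ, (q : ℤ) ∣ i - t := by
    refine ⟨(i % q).toNat, i / q, ?_⟩
    rw [Int.toNat_of_nonneg (Int.emod_nonneg i hq'.ne')]
    have := Int.emod_add_mul_ediv i q
    linarith
  have hil' : (l + t) + (i - t) = b := by linarith
  have hbij := Theta_bijective_of_dvd 𝒜 𝓗 b κ h0 q hfinH hfinR hfin hess (i - t) (l + t) hil' ht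
  rw [← LinearMap.range_eq_top]
  have hco : (LinearMap.range (Theta 𝒜 𝓗 b κ i l hil)).dualCoannihilator = ⊥ := by
    rw [eq_bot_iff]
    intro r₀ hr₀
    rw [Submodule.mem_dualCoannihilator] at hr₀
    rw [Submodule.mem_bot]
    apply Subtype.ext
    show (r₀ : R) = 0
    apply depth_t 𝒜 hdepth t
    intro s hs
    have hmem : s * (r₀ : R) ∈ 𝒜 (l + t) :=
      mul_mem_of_add 𝒜 (by ring) hs (mem_of_comp 𝒜 𝒜 r₀)
    have h1 : (⟨s * (r₀ : R), hmem⟩ : ↥(comp 𝒜 𝒜 (l + t))) = 0 := by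
      rw [← Module.forall_dual_apply_eq_zero_iff (deg0 𝒜)]
      intro ν
      obtain ⟨h', rfl⟩ := hbij.2 ν
      have hsh : s • (h' : H) ∈ 𝓗 i :=
        smul_mem_of_add 𝒜 𝓗 (by ring) hs (mem_of_comp 𝒜 𝓗 h')
      have h2 := hr₀ _ (LinearMap.mem_range_self (Theta 𝒜 𝓗 b κ i l hil) ⟨s • (h' : H), hsh⟩)
      have h3 := (Theta_eq_zero_iff 𝒜 𝓗 b κ i l hil _ _).1 h2
      refine (Theta_eq_zero_iff 𝒜 𝓗 b κ (i - t) (l + t) hil' h' _).2 ?_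
      show (s * (r₀ : R)) • (h' : H) = 0
      rw [mul_smul, smul_comm]
      exact h3
    exact congrArg Subtype.val h1
  have h4 := Subspace.dualCoannihilator_dualAnnihilator_eq
    (W := LinearMap.range (Theta 𝒜 𝓗 b κ i l hil))
  rw [hco, Submodule.dualAnnihilator_bot] at h4
  exact h4.symm

/-! ### the kernel of the pairing -/

/-- the kernel of the pairing in degree `i` -/
def IsN (i : ℤ) (h : H) : Prop := h ∈ 𝓗 i ∧ ∀ r ∈ 𝒜 (b - i), r • h = 0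

omit [GradedRing 𝒜] [SetLike.GradedSMul 𝒜 𝓗] in
theorem isN_congr {i i' : ℤ} (e : i = i') {h : H} (hN : IsN 𝒜 𝓗 b i h) : IsN 𝒜 𝓗 b i' h :=
  e ▸ hN

include hess in
theorem isN_eq_zero_of_dvd {i : ℤ} (hq : (q : ℤ) ∣ i) {h : H} (hN : IsN 𝒜 𝓗 b i h) : h = 0 := by
  by_contra hne
  obtain ⟨r, hr, hrh⟩ := hess i (b - i) (by ring) hq h hN.1 hne
  exact hrh (hN.2 r hr)

theorem isN_smul {i t : ℤ} {s : R} (hs : s ∈ 𝒜 t) {h : H} (hN : IsN 𝒜 𝓗 b i h) :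
    IsN 𝒜 𝓗 b (t + i) (s • h) := by
  refine ⟨smul_mem_of_add 𝒜 𝓗 rfl hs hN.1, fun r hr => ?_⟩
  rw [← mul_smul]
  exact hN.2 _ (mul_mem_of_add 𝒜 (by ring) hr hs)

variable [IsNoetherianRing R]
  (hstd : Ideal.span (⋃ n ∈ Set.Ioi (0 : ℤ), (𝒜 n : Set R)) =
    Ideal.span ((𝒜 1 : AddSubgroup R) : Set R))

include hess hstd in
theorem isN_kill (hq0 : 0 < q) {i : ℤ} {h : H} (hN : IsN 𝒜 𝓗 b i h) :
    ∀ t : ℤ, (q : ℤ) - 1 ≤ t → ∀ s ∈ 𝒜 t, s • h = 0 := by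
  classical
  have hq' : (0 : ℤ) < q := by exact_mod_cast hq0
  obtain ⟨s', hs', hirr⟩ := Groth.Agent.GrMono9.exists_gens 𝒜 hstd
  obtain ⟨t₀, ht₀⟩ : ∃ t₀ : ℤ, t₀ = (-i) % q := ⟨_, rfl⟩
  have ht₀0 : 0 ≤ t₀ := by rw [ht₀]; exact Int.emod_nonneg _ hq'.ne'
  have ht₀q : t₀ < q := by rw [ht₀]; exact Int.emod_lt_of_pos _ hq'
  have hdvd : (q : ℤ) ∣ t₀ + i := by
    refine ⟨-((-i) / q), ?_⟩
    have := Int.emod_add_mul_ediv (-i) q
    rw [ht₀]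
    linarith
  have key : ∀ t : ℤ, t₀ ≤ t → ∀ s ∈ 𝒜 t, s • h = 0 := by
    intro t ht
    induction t, ht using Int.le_induction with
    | base =>
      intro s hs
      exact isN_eq_zero_of_dvd 𝒜 𝓗 b q hess hdvd (isN_smul 𝒜 𝓗 b hs hN)
    | succ t ht ih =>
      intro s hs
      obtain ⟨c, hc, hsc⟩ := Groth.Agent.GrMono9.exists_coeffs 𝒜 s' hs' hirr t
        (le_trans ht₀0 ht) s hs
      rw [hsc, Finset.sum_smul]
      apply Finset.sum_eq_zero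
      intro z _
      rw [mul_comm, mul_smul, ih (c z) (hc z), smul_zero]
  intro t ht
  exact key t (by omega)

/-! ### the descent step -/

variable (d : ℤ) (hd : 0 < d) (x : R) (hx : x ∈ 𝒜 d)
  (hxsurj : ∀ (i : ℤ) (u : H), u ∈ 𝓗 i → ∃ h ∈ 𝓗 (i - d), x • h = u)
  (E : ℤ) (hE : (q : ℤ) - 1 ≤ E) (Y : R) (hY : Y ∈ 𝒜 E)
  (hYreg : ∀ (l : ℤ) (r : R), r ∈ 𝒜 l → ∀ s : R, Y * r = x * s → ∃ s' ∈ 𝒜 (l - d), r = x * s')

include κ h0 hfinH hfinR hfin hess hdepth hstd hx hxsurj hE hY hYreg in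
theorem isN_step (hq0 : 0 < q) {i : ℤ} {u : H} (hN : IsN 𝒜 𝓗 b i u) :
    ∃ n₁, IsN 𝒜 𝓗 b (i - d) n₁ ∧ u = x • n₁ := by
  letI : Field (deg0 𝒜) := h0.toField
  obtain ⟨h, hh, hxh⟩ := hxsurj i u hN.1
  obtain ⟨l, hl⟩ : ∃ l : ℤ, l = b - (i - d) := ⟨_, rfl⟩
  have hil : l + (i - d) = b := by rw [hl]; ring
  have hYmem : ∀ r : ↥(comp 𝒜 𝒜 l), Y * (r : R) ∈ 𝒜 (l + E) := fun r =>
    mul_mem_of_add 𝒜 (by ring) hY (mem_of_comp 𝒜 𝒜 r)
  have hxmem : ∀ r' : ↥(comp 𝒜 𝒜 (l + E - d)), x * (r' : R) ∈ 𝒜 (l + E) := fun r' =>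
    mul_mem_of_add 𝒜 (by ring) hx (mem_of_comp 𝒜 𝒜 r')
  let f : (↥(comp 𝒜 𝒜 l) × ↥(comp 𝒜 𝒜 (l + E - d))) →ₗ[deg0 𝒜] ↥(comp 𝒜 𝒜 (l + E)) :=
    { toFun := fun p => ⟨Y * (p.1 : R) + x * (p.2 : R), add_mem (hYmem p.1) (hxmem p.2)⟩
      map_add' := fun p p' => Subtype.ext (by
        show Y * ((p.1 : R) + (p'.1 : R)) + x * ((p.2 : R) + (p'.2 : R)) =
          (Y * (p.1 : R) + x * (p.2 : R)) + (Y * (p'.1 : R) + x * (p'.2 : R))
        ring)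
      map_smul' := fun c p => Subtype.ext (by
        show Y * ((c : R) * (p.1 : R)) + x * ((c : R) * (p.2 : R)) =
          (c : R) * (Y * (p.1 : R) + x * (p.2 : R))
        ring) }
  have hf : ∀ p, ((f p : ↥(comp 𝒜 𝒜 (l + E))) : R) = Y * (p.1 : R) + x * (p.2 : R) :=
    fun _ => rfl
  let g : (↥(comp 𝒜 𝒜 l) × ↥(comp 𝒜 𝒜 (l + E - d))) →ₗ[deg0 𝒜] deg0 𝒜 :=
    (Theta 𝒜 𝓗 b κ (i - d) l hil ⟨h, hh⟩).comp (LinearMap.fst _ _ _)
  have hg : ∀ p, g p = Theta 𝒜 𝓗 b κ (i - d) l hil ⟨h, hh⟩ p.1 := fun _ => rfl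
  have hker : g ∈ (LinearMap.ker f).dualAnnihilator := by
    rw [Submodule.mem_dualAnnihilator]
    intro p hp
    rw [LinearMap.mem_ker] at hp
    have hp' : Y * (p.1 : R) + x * (p.2 : R) = 0 := by
      rw [← hf, hp]
      rfl
    obtain ⟨s₁, hs₁, hrs⟩ := hYreg l (p.1 : R) (mem_of_comp 𝒜 𝒜 p.1) (-(p.2 : R))
      (by linear_combination hp')
    rw [hg, Theta_eq_zero_iff]
    show (p.1 : R) • h = 0
    rw [hrs, mul_comm, mul_smul, hxh]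
    exact hN.2 s₁ (mem_of_eq 𝒜 (by rw [hl]; ring) hs₁)
  rw [← LinearMap.range_dualMap_eq_dualAnnihilator_ker] at hker
  obtain ⟨ν, hν⟩ := hker
  have hν' : ∀ p, ν (f p) = g p := fun p => by
    rw [← hν]
    rfl
  have hil2 : (l + E) + (i - d - E) = b := by linarith
  obtain ⟨h'v, hh'⟩ := Theta_surjective 𝒜 𝓗 b κ h0 q hfinH hfinR hfin hess hdepth hq0
    (i - d - E) (l + E) hil2 ν
  have hYh' : Y • (h'v : H) ∈ 𝓗 (i - d) :=
    smul_mem_of_add 𝒜 𝓗 (by ring) hY (mem_of_comp 𝒜 𝓗 h'v)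
  have hxh' : x • (h'v : H) ∈ 𝓗 (i - E) :=
    smul_mem_of_add 𝒜 𝓗 (by ring) hx (mem_of_comp 𝒜 𝓗 h'v)
  -- the first element
  have hN₁ : IsN 𝒜 𝓗 b (i - d) (h - Y • (h'v : H)) := by
    refine ⟨sub_mem hh hYh', fun r hr => ?_⟩
    have hr' : r ∈ 𝒜 l := mem_of_eq 𝒜 hl.symm hr
    have e1 : Theta 𝒜 𝓗 b κ (i - d) l hil ⟨h, hh⟩ ⟨r, hr'⟩ =
        Theta 𝒜 𝓗 b κ (i - d - E) (l + E) hil2 h'v (f (⟨r, hr'⟩, 0)) := by
      rw [hh', hν', hg]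
    have e2 := (Theta_eq_Theta_iff 𝒜 𝓗 b κ hil hil2 _ _ _ _).1 e1
    rw [hf] at e2
    have e3 : r • h = (Y * r + x * 0) • (h'v : H) := e2
    rw [smul_sub, e3, mul_zero, add_zero, mul_smul, smul_comm r Y, sub_self]
  -- the second element
  have hN₂ : IsN 𝒜 𝓗 b (i - E) (x • (h'v : H)) := by
    refine ⟨hxh', fun r' hr' => ?_⟩
    have hr'' : r' ∈ 𝒜 (l + E - d) := mem_of_eq 𝒜 (by rw [hl]; ring) hr'
    have e1 : Theta 𝒜 𝓗 b κ (i - d - E) (l + E) hil2 h'v (f (0, ⟨r', hr''⟩)) = 0 := by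
      rw [hh', hν', hg, map_zero]
    have e2 := (Theta_eq_zero_iff 𝒜 𝓗 b κ _ _ hil2 _ _).1 e1
    rw [hf] at e2
    have e3 : (Y * 0 + x * r') • (h'v : H) = 0 := e2
    rw [mul_zero, zero_add, mul_comm, mul_smul] at e3
    exact e3
  refine ⟨h - Y • (h'v : H), hN₁, ?_⟩
  have hkill := isN_kill 𝒜 𝓗 b q hess hstd hq0 hN₂ E hE Y hY
  rw [smul_sub, smul_comm x Y, hkill, sub_zero, hxh]

include κ h0 hfinH hfinR hfin hess hdepth hstd hx hxsurj hE hY hYreg in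
theorem isN_iter (hq0 : 0 < q) : ∀ (M : ℕ) (i : ℤ) (u : H), IsN 𝒜 𝓗 b i u →
    ∃ n, IsN 𝒜 𝓗 b (i - M * d) n ∧ u = x ^ M • n := by
  intro M
  induction M with
  | zero =>
    intro i u hN
    exact ⟨u, isN_congr 𝒜 𝓗 b (by rw [Nat.cast_zero]; ring) hN, by rw [pow_zero, one_smul]⟩
  | succ M ih =>
    intro i u hN
    obtain ⟨n₁, hn₁, hu⟩ := isN_step 𝒜 𝓗 b κ h0 q hfinH hfinR hfin hess hdepth hstd d x hx
      hxsurj E hE Y hY hYreg hq0 hN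
    obtain ⟨n, hn, hn₁'⟩ := ih (i - d) n₁ hn₁
    refine ⟨n, isN_congr 𝒜 𝓗 b (by rw [Nat.cast_succ]; ring) hn, ?_⟩
    rw [hu, hn₁', pow_succ', mul_smul]

include κ h0 hfinH hfinR hfin hess hdepth hstd hd hx hxsurj hE hY hYreg in
theorem isN_eq_zero (hq0 : 0 < q) {i : ℤ} {u : H} (hN : IsN 𝒜 𝓗 b i u) : u = 0 := by
  obtain ⟨n, hn, hu⟩ := isN_iter 𝒜 𝓗 b κ h0 q hfinH hfinR hfin hess hdepth hstd d x hx
    hxsurj E hE Y hY hYreg hq0 q i u hN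
  have hxq : x ^ q ∈ 𝒜 ((q : ℤ) * d) := by
    have := SetLike.pow_mem_graded q hx
    rwa [nsmul_eq_mul] at this
  have hq' : (0 : ℤ) ≤ q := by exact_mod_cast (Nat.zero_le q)
  rw [hu]
  exact isN_kill 𝒜 𝓗 b q hess hstd hq0 hn ((q : ℤ) * d) (by nlinarith) (x ^ q) hxq

include κ h0 hfinH hfinR hfin hess hdepth hstd hd hx hxsurj hE hY hYreg in
/-- essentiality over the piece of degree `b` -/
theorem core_ess (hq0 : 0 < q) (i : ℤ) (h : H) (hh : h ∈ 𝓗 i) (hne : h ≠ 0) :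
    ∃ r ∈ 𝒜 (b - i), r • h ≠ 0 := by
  by_contra hcon
  push_neg at hcon
  exact hne (isN_eq_zero 𝒜 𝓗 b κ h0 q hfinH hfinR hfin hess hdepth hstd d hd x hx
    hxsurj E hE Y hY hYreg hq0 ⟨hh, hcon⟩)

include κ h0 hfinH hfinR hfin hess hdepth hstd hd hx hxsurj hE hY hYreg in
/-- the Hilbert function -/
theorem core_finrank (hq0 : 0 < q) (i : ℤ) :
    Module.finrank (deg0 𝒜) ↥(comp 𝒜 𝓗 i) = Module.finrank (deg0 𝒜) ↥(comp 𝒜 𝒜 (b - i)) := by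
  letI : Field (deg0 𝒜) := h0.toField
  haveI := hfinH i
  haveI := hfinR (b - i)
  have hil : (b - i) + i = b := by ring
  have hinj : Function.Injective (Theta 𝒜 𝓗 b κ i (b - i) hil) := by
    rw [injective_iff_map_eq_zero]
    intro h hh
    by_contra hne
    have hne' : (h : H) ≠ 0 := fun e => hne (Subtype.ext e)
    obtain ⟨r, hr, hrh⟩ := core_ess 𝒜 𝓗 b κ h0 q hfinH hfinR hfin hess hdepth hstd d hd x hx
      hxsurj E hE Y hY hYreg hq0 i (h : H) (mem_of_comp 𝒜 𝓗 h) hne'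
    apply hrh
    exact (Theta_eq_zero_iff 𝒜 𝓗 b κ i (b - i) hil h ⟨r, hr⟩).1 (by rw [hh]; rfl)
  have hsurj := Theta_surjective 𝒜 𝓗 b κ h0 q hfinH hfinR hfin hess hdepth hq0 i (b - i) hil
  rw [(LinearEquiv.ofBijective _ ⟨hinj, hsurj⟩).finrank_eq, Subspace.dual_finrank_eq]

end core

end Groth.Agent.Lib.VerGor3H1
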