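import Mathlib
import Groth.Prelude.Def_GrLC
import Groth.Prelude.Def_GrLC2
import Groth.Prelude.Def_CAlg
import Groth.Prelude.Def_Wider
import Groth.Agent.Lib.VerGor2_helper1
import Groth.Agent.Lib.VerGor3_helper1
import Groth.Agent.Lib.AInv_helper1
import Groth.Agent.Lib.GrMono_helper9

/-! If a Veronese subring of a standard graded Cohen–Macaulay ring of dimension at least two over a
field is Gorenstein, so is the ring, and the order of the Veronese divides the `a`-invariant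
(helper1, S18642).  APPEND-ONLY once landed. -/

set_option autoImplicit false
set_option maxHeartbeats 400000

namespace Groth.Agent.Lib.VerGor4H1

open DirectSum GrLC Groth.Agent.Lib.GrStarH1 Groth.Agent.Lib.GrStar2H1 Groth.Agent.Lib.GrStar3H1
  Groth.Agent.Lib.GrStar4H1 Groth.Agent.Lib.GrLES1H1 Groth.Agent.Lib.BassZeroH1
  Groth.Agent.Lib.BassShiftH1 Groth.Agent.Lib.MinResH1 Groth.Agent.Lib.GorTopH1
  Groth.Agent.Lib.GorLocH1 Groth.Agent.Lib.GorTop2H1 Groth.Agent.Lib.SocleH1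
  Groth.Agent.Lib.GrHDecH1 Groth.Agent.Lib.Ver1H1 Groth.Agent.Lib.GrHS3H1
  Groth.Agent.Lib.VerGorH1 Groth.Agent.Lib.VerGor2H1 Groth.Agent.Lib.GrLES3H1
  Groth.Agent.Lib.GrLES4H1

open scoped Pointwise

universe u

attribute [local instance] shiftDecomp shift_gsmul

/-! ### essentiality of a shifted hull, without the end degree -/
section Rside

variable {R : Type u} [CommRing R] [IsNoetherianRing R] (𝒜 : ℤ → AddSubgroup R) [GradedRing 𝒜]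
variable (hpos : ∀ n : ℤ, n < 0 → 𝒜 n = ⊥) (h0 : IsField (deg0 𝒜))
variable (m : HomogeneousIdeal 𝒜)
  (hmsp : m.toIdeal = Ideal.span (⋃ n ∈ Set.Ioi (0 : ℤ), (𝒜 n : Set R)))
variable {E : Type u} [AddCommGroup E] [Module R E] (𝓔 : ℤ → AddSubgroup E) [Decomposition 𝓔]
  [SetLike.GradedSMul 𝒜 𝓔] (e : (R ⧸ m.toIdeal) →ₗ[R] E)
  (he : IsStarInjHull 𝒜 (GrLC.quotGr 𝒜 m) 𝓔 e)
variable {H : Type u} [AddCommGroup H] [Module R H] (𝓗 : ℤ → AddSubgroup H) [Decomposition 𝓗]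
  [SetLike.GradedSMul 𝒜 𝓗]
  (g : ℤ) (φ : H ≃ₗ[R] E) (hφ : IsGrHomDeg 𝓗 𝓔 φ.toLinearMap g)

include hpos h0 hmsp he hφ in
theorem ess_H' (j : ℤ) (x : H) (hx : x ∈ 𝓗 j) (hx0 : x ≠ 0) :
    ∃ r ∈ 𝒜 (-(g + j)), r • x ≠ 0 := by
  have h1 : φ x ∈ 𝓔 (g + j) := (mem_iff_of_deg 𝓔 𝓗 g φ hφ).1 hx
  have h1' : φ x ≠ 0 := fun h => hx0 (φ.injective (by rw [h, map_zero]))
  obtain ⟨r, hr, hru⟩ := exists_smul_eq_u 𝒜 hpos h0 m hmsp 𝓔 e he h1 h1'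
  refine ⟨r, hr, fun h => ?_⟩
  apply u_ne 𝒜 hpos h0 m hmsp 𝓔 e he
  rw [← hru, ← map_smul, h, map_zero]

end Rside

/-! ### depth one -/
section depth

variable {R : Type u} [CommRing R] [hCM : LocCoh.IsCohenMacaulayRing R] (𝒜 : ℤ → AddSubgroup R)
  [GradedRing 𝒜] (hpos : ∀ n : ℤ, n < 0 → 𝒜 n = ⊥) (h0 : IsField (deg0 𝒜))
  (h1 : 1 ≤ ringKrullDim R)

include hpos h0 h1 in
theorem depth_one'
    (hstd : Ideal.span (⋃ n ∈ Set.Ioi (0 : ℤ), (𝒜 n : Set R)) =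
      Ideal.span ((𝒜 1 : AddSubgroup R) : Set R))
    (r : R) (hr : ∀ s ∈ 𝒜 1, s * r = 0) : r = 0 := by
  apply Groth.Agent.GrMono9.eq_zero_of_irr_mul 𝒜 hpos h0 h1 r
  intro a ha
  have ha' : a ∈ Ideal.span ((𝒜 1 : AddSubgroup R) : Set R) := by
    rw [← hstd]
    exact ha
  clear ha
  induction ha' using Submodule.span_induction with
  | mem y hy => exact hr y hy
  | zero => rw [zero_mul]
  | add y z _ _ hy hz => rw [add_mul, hy, hz, add_zero]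
  | smul c y _ hy => rw [smul_eq_mul, mul_assoc, hy, mul_zero]

include hpos h0 h1 in
theorem gamR_eq_bot (m : HomogeneousIdeal 𝒜)
    (hmsp : m.toIdeal = Ideal.span (⋃ n ∈ Set.Ioi (0 : ℤ), (𝒜 n : Set R))) :
    gam m.toIdeal R = ⊥ := by
  rw [eq_bot_iff]
  rintro z ⟨k, hk⟩
  rw [Submodule.mem_bot]
  induction k generalizing z with
  | zero =>
    have := hk 1 (by rw [pow_zero, Ideal.one_eq_top]; exact Submodule.mem_top)
    rwa [one_smul] at this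
  | succ k ih =>
    apply Groth.Agent.GrMono9.eq_zero_of_irr_mul 𝒜 hpos h0 h1 z
    intro a ha
    apply ih (z := a * z)
    intro r hr
    rw [smul_eq_mul, ← mul_assoc]
    have hmem : r * a ∈ m.toIdeal ^ (k + 1) := by
      rw [pow_succ]
      refine Ideal.mul_mem_mul hr ?_
      rw [hmsp]
      exact ha
    exact hk _ hmem

end depth

/-! ### vanishing of `H⁰` and torsion -/
section tors

variable {R : Type u} [CommRing R] (𝒜 : ℤ → AddSubgroup R) [GradedRing 𝒜]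
variable {M : Type u} [AddCommGroup M] [Module R M] (ℳ : ℤ → AddSubgroup M) [Decomposition ℳ]
  [SetLike.GradedSMul 𝒜 ℳ]

theorem gam_eq_bot_of_H0' (F : StarInjRes 𝒜 ℳ) (a : HomogeneousIdeal 𝒜)
    [Subsingleton (F.H a 0)] : gam a.toIdeal M = ⊥ := by
  rw [eq_bot_iff]
  intro z hz
  rw [Submodule.mem_bot]
  have h1 : F.ε z ∈ gam a.toIdeal (F.X 0).carrier := map_mem_gam F.ε hz
  have h2 : F.d 0 (F.ε z) = 0 := d_ε F z
  have h3 : F.toH a 0 (mkZ a F 0 (F.ε z) h1 h2) = 0 := Subsingleton.elim _ _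
  rw [toH_eq_zero_iff] at h3
  have h4 : F.ε z = 0 := (mem_cobdy_zero a F _).1 h3
  exact F.ε_injective (by rw [h4, map_zero])

end tors

/-! ### the regular elements -/

theorem exists_xy (R : Type u) [CommRing R] [hCM : LocCoh.IsCohenMacaulayRing R]
    (𝒜 : ℤ → AddSubgroup R) [GradedRing 𝒜] (hpos : ∀ n : ℤ, n < 0 → 𝒜 n = ⊥)
    (h0 : IsField (GrLC.deg0 𝒜)) (m : HomogeneousIdeal 𝒜) (hm : GrLC.IsStarLocal 𝒜 m)
    (hmsp : m.toIdeal = Ideal.span (⋃ n ∈ Set.Ioi (0 : ℤ), (𝒜 n : Set R)))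
    (n : ℕ) (hn : ringKrullDim R = n) (h2 : 2 ≤ n) (I : GrLC.StarInjRes 𝒜 𝒜) :
    ∃ (d : ℤ) (x : R), 0 < d ∧ x ∈ 𝒜 d ∧
      (∀ (i : ℤ) (u : I.H m n), u ∈ I.Hgr m n i → ∃ h ∈ I.Hgr m n (i - d), x • h = u) ∧
      ∃ (e : ℤ) (y : R), 0 < e ∧ y ∈ 𝒜 e ∧
        ∀ (k : ℕ) (l : ℤ) (r : R), r ∈ 𝒜 l → ∀ s : R, y ^ k * r = x * s →
          ∃ s' ∈ 𝒜 (l - d), r = x * s' := by
  classical
  haveI : IsNoetherianRing R := hCM.toIsNoetherian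
  obtain ⟨d', rfl⟩ : ∃ d', n = d' + 1 := ⟨n - 1, by omega⟩
  have hht : m.toIdeal.height = (d' + 1 : ℕ) := by
    have h1 := Groth.Agent.Lib.GorCanH1.ringKrullDim_eq_height 𝒜 hpos h0 m hm
    rw [hn] at h1
    exact (WithBot.coe_injective h1).symm
  have h1 : 1 ≤ ringKrullDim R := by
    rw [hn]
    exact_mod_cast (by omega : 1 ≤ d' + 1)
  have hgam : gam m.toIdeal R = ⊥ := gamR_eq_bot 𝒜 hpos h0 h1 m hmsp
  obtain ⟨d, hd, x, hx, -, hreg⟩ := exists_regular_homog 𝒜 m hmsp R hgam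
  obtain ⟨P₀, hP₀⟩ : ∃ P₀ : Submodule R R, P₀ = x • (⊤ : Submodule R R) := ⟨_, rfl⟩
  have hP₀r : P₀ = LinearMap.range (LinearMap.lsmul R R x) := by
    rw [hP₀]
    ext y
    rw [Submodule.mem_smul_pointwise_iff_exists, LinearMap.mem_range]
    constructor
    · rintro ⟨z, -, rfl⟩
      exact ⟨z, rfl⟩
    · rintro ⟨z, rfl⟩
      exact ⟨z, Submodule.mem_top, rfl⟩
  have hP₀h : P₀.IsHomogeneous 𝒜 := hP₀r ▸ range_lsmul_isHomogeneous 𝒜 𝒜 hx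
  letI := quotDecomp 𝒜 P₀ hP₀h
  letI := quot_gsmul 𝒜 𝒜 P₀
  obtain ⟨F, hF⟩ : ∃ F : StarInjRes 𝒜 (GrStar2H1.quotGr 𝒜 P₀),
      F = minRes 𝒜 (GrStar2H1.quotGr 𝒜 P₀) := ⟨_, rfl⟩
  have hvan : ∀ i, i ≠ d' + 1 → Subsingleton (I.H m i) := by
    intro i hi
    rcases lt_or_gt_of_ne hi with h | h
    · exact Groth.Agent.Lib.AInvH1.H_subsingleton_of_lt 𝒜 m hm (d' + 1) hht I i h
    · exact H_subsingleton_of_gt 𝒜 m hm (d' + 1) hht I i h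
  obtain ⟨r, hr⟩ := main13227 𝒜 hpos m hmsp R 𝒜 I
  have hbdd : ∃ r : ℤ, ∀ k, r ≤ k → I.Hgr m (d' + 1) k = ⊥ :=
    ⟨r, fun k hk => Groth.Agent.Lib.AInvH1.Hgr_eq_bot_of_Hcomp 𝒜 I m (d' + 1) k
      (hr (d' + 1) k hk)⟩
  have hker : LinearMap.ker P₀.mkQ = LinearMap.range (LinearMap.lsmul R R x) := by
    rw [Submodule.ker_mkQ, hP₀r]
  obtain ⟨hlow, -⟩ := Groth.Agent.Lib.AInvH1.step 𝒜 m I hd hx hreg P₀.mkQ
    (mkQ_isGrHom 𝒜 P₀) P₀.mkQ_surjective hker F d' hvan hbdd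
  have hdimR : Module.supportDim R R ≤ ((d' + 1 : ℕ) : WithBot ℕ∞) := by
    rw [Module.supportDim_self_eq_ringKrullDim, hn]
  have hdim' : Module.supportDim R (R ⧸ P₀) ≤ (d' : WithBot ℕ∞) := by
    have h1 : Module.supportDim R (QuotSMulTop x R) + 1 ≤ Module.supportDim R R :=
      Module.supportDim_quotSMulTop_succ_le_of_notMem_minimalPrimes
        (fun _ => hreg.notMem_of_mem_minimalPrimes)
    rw [hP₀]
    exact Groth.Agent.Lib.AInvH1.wb_le_pred (le_trans h1 hdimR)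
  haveI hFtop : Subsingleton (F.H m (d' + 1)) := by
    obtain ⟨γ⟩ := Groth.Agent.Lib.GrStarLCH1.main13224 R 𝒜 m (R ⧸ P₀)
      (GrStar2H1.quotGr 𝒜 P₀) F (d' + 1)
    haveI : Subsingleton (LocCoh.H m.toIdeal (d' + 1) (R ⧸ P₀)) := by
      apply Groth.Agent.Lib.LocCohGVH7.GV
      exact lt_of_le_of_lt hdim' (by exact_mod_cast (Nat.lt_succ_self d'))
    exact γ.toEquiv.subsingleton
  obtain ⟨ψ, hψ⟩ := mul_les 𝒜 hx hreg P₀.mkQ (mkQ_isGrHom 𝒜 P₀) P₀.mkQ_surjective hker I F m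
  have hxsurj : ∀ (i : ℤ) (u : I.H m (d' + 1)), u ∈ I.Hgr m (d' + 1) i →
      ∃ h ∈ I.Hgr m (d' + 1) (i - d), x • h = u := by
    intro i u hu
    obtain ⟨z, hz, hzu⟩ := (hψ (d' + 1)).1 i u hu (Subsingleton.elim _ _)
    exact ⟨z, mem_of_eq (I.Hgr m (d' + 1)) (by ring) hz, hzu⟩
  refine ⟨d, x, hd, hx, hxsurj, ?_⟩
  haveI : Subsingleton (F.H m 0) := hlow 0 (by omega)
  have hgam' : gam m.toIdeal (R ⧸ P₀) = ⊥ :=
    gam_eq_bot_of_H0' 𝒜 (GrStar2H1.quotGr 𝒜 P₀) F m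
  obtain ⟨e, he, y, hy, -, hyreg⟩ := exists_regular_homog 𝒜 m hmsp (R ⧸ P₀) hgam'
  refine ⟨e, y, he, hy, ?_⟩
  intro k l r hr s hs
  have hxs : x * s ∈ P₀ := by
    rw [hP₀]
    exact Submodule.smul_mem_pointwise_smul s x ⊤ Submodule.mem_top
  have h3 : (y ^ k) • (P₀.mkQ r) = (y ^ k) • (0 : R ⧸ P₀) := by
    rw [smul_zero, ← map_smul, smul_eq_mul, hs]
    exact (Submodule.Quotient.mk_eq_zero P₀).2 hxs
  have h4 : P₀.mkQ r = 0 := (hyreg.pow k) h3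
  have h4' : r ∈ P₀ := (Submodule.Quotient.mk_eq_zero P₀).1 h4
  rw [hP₀, Submodule.mem_smul_pointwise_iff_exists] at h4'
  obtain ⟨s'', -, hs''⟩ := h4'
  refine ⟨(decompose 𝒜 s'' (l - d) : R), (decompose 𝒜 s'' (l - d)).2, ?_⟩
  have h5 : (decompose 𝒜 (x * s'') (d + (l - d)) : R) = x * (decompose 𝒜 s'' (l - d) : R) :=
    coe_decompose_mul_add_of_left_mem 𝒜 hx
  rw [← h5, ← smul_eq_mul x s'', hs'', show d + (l - d) = l by ring,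
    decompose_of_mem_same 𝒜 hr]

/-! ### the main theorem -/

theorem main18642 (R : Type u) [CommRing R] [hCM : LocCoh.IsCohenMacaulayRing R]
    (𝒜 : ℤ → AddSubgroup R) [GradedRing 𝒜] (hpos : ∀ n : ℤ, n < 0 → 𝒜 n = ⊥)
    (h0 : IsField (GrLC.deg0 𝒜)) (m : HomogeneousIdeal 𝒜) (hm : GrLC.IsStarLocal 𝒜 m)
    (hmsp : m.toIdeal = Ideal.span (⋃ n ∈ Set.Ioi (0 : ℤ), (𝒜 n : Set R)))
    (hstd : Ideal.span (⋃ n ∈ Set.Ioi (0 : ℤ), (𝒜 n : Set R)) =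
      Ideal.span ((𝒜 1 : AddSubgroup R) : Set R)) (n : ℕ) (hn : ringKrullDim R = n)
    (h2 : 2 ≤ n) (I : GrLC.StarInjRes 𝒜 𝒜) (q : ℕ) (hq : 0 < q)
    (R' : Type u) [CommRing R'] (𝒜' : ℤ → AddSubgroup R') [GradedRing 𝒜'] (φ : R' →+* R)
    (hφ : Function.Injective φ) (hdeg : ∀ j : ℤ, (𝒜' j).map (φ : R' →+ R) = 𝒜 (j * q))
    [hG' : LocCoh.IsGorensteinRing R'] :
    LocCoh.IsGorensteinRing R ∧ ∃ a : ℤ,
      GrLC.endDeg (I.Hgr m n) = ((a : WithTop ℤ) : WithBot (WithTop ℤ)) ∧ (q : ℤ) ∣ a := by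
  classical
  haveI : IsNoetherianRing R := hCM.toIsNoetherian
  have hV : VData 𝒜 𝒜' φ q := ⟨hq, hφ, hdeg⟩
  haveI : IsNoetherianRing R' := inferInstance
  have hpos' := hpos_of_vdata hV hpos
  have h0' := h0_of_vdata hV h0
  obtain ⟨m', hm'def⟩ : ∃ m' : HomogeneousIdeal 𝒜', m' = Rp 𝒜' := ⟨_, rfl⟩
  have hm' : IsStarLocal 𝒜' m' := by
    rw [hm'def]
    exact isStarLocal_Rp 𝒜' hpos' h0'
  have hm'sp : m'.toIdeal = Ideal.span (⋃ j ∈ Set.Ioi (0 : ℤ), (𝒜' j : Set R')) := by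
    rw [hm'def]
    rfl
  have hΓ := Groth.Agent.Lib.Ver3H1.gamCompat_of_span hV m m' hmsp hm'sp
  obtain ⟨E', e, he⟩ := exists_hull_quot 𝒜 m
  obtain ⟨E'', e'', he''⟩ := exists_hull_quot 𝒜' m'
  have hht : m.toIdeal.height = n := by
    have h1 := Groth.Agent.Lib.GorCanH1.ringKrullDim_eq_height 𝒜 hpos h0 m hm
    rw [hn] at h1
    exact (WithBot.coe_injective h1).symm
  letI := HDecomp 𝒜 𝒜 m I n
  haveI := HGSMul 𝒜 𝒜 m I n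
  haveI hprime' : m'.toIdeal.IsPrime := isPrime_of_coatom 𝒜' m' hm'.1
  obtain ⟨n', hn'⟩ : ∃ n' : ℕ, (n' : ℕ∞) = m'.toIdeal.height :=
    ENat.ne_top_iff_exists.mp Ideal.height_ne_top_of_isPrime
  obtain ⟨E₂, -⟩ : ∃ E₂ : StarInjRes 𝒜' 𝒜', E₂ = minRes 𝒜' 𝒜' := ⟨_, rfl⟩
  obtain ⟨g', φR', hφR'⟩ := main13244 R' 𝒜' m' hm' n' hn'.symm E₂ E''.carrier E''.gr e'' he''
  have hΦ : ∀ p, ∃ Φ : E₂.H m' p →+ I.H m p,
      Groth.Agent.Lib.Ver3H1.IsVer φ q (E₂.Hgr m' p) (I.Hgr m p) Φ :=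
    fun p => exists_isVer hV m m' hΓ I E₂ p
  have hnn : n = n' := by
    by_contra hne
    obtain ⟨Ψ, hΨ⟩ := hΦ n'
    haveI : Subsingleton (I.H m n') := by
      rcases lt_or_gt_of_ne hne with h | h
      · exact H_subsingleton_of_gt 𝒜 m hm n hht I n' h
      · exact Groth.Agent.Lib.AInvH1.H_subsingleton_of_lt 𝒜 m hm n hht I n' h
    haveI : Subsingleton (E₂.H m' n') := hΨ.inj.subsingleton
    apply u_ne 𝒜' hpos' h0' m' hm'sp E''.gr e'' he''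
    have h3 : φR'.symm (e'' (Ideal.Quotient.mk m'.toIdeal 1)) = 0 := Subsingleton.elim _ _
    rw [← φR'.apply_symm_apply (e'' (Ideal.Quotient.mk m'.toIdeal 1)), h3, map_zero]
  subst hnn
  letI := HDecomp 𝒜' 𝒜' m' E₂ n
  haveI := HGSMul 𝒜' 𝒜' m' E₂ n
  obtain ⟨Φ, hΦn⟩ := hΦ n
  obtain ⟨b, hb⟩ : ∃ b : ℤ, b = -g' * q := ⟨_, rfl⟩
  have hfinR : ∀ l : ℤ, Module.Finite (deg0 𝒜) ↥(comp 𝒜 𝒜 l) :=
    fun l => Groth.Agent.GrMono9.finite_comp 𝒜 hpos h0 hstd l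
  have hfinH : ∀ i : ℤ, Module.Finite (deg0 𝒜) ↥(comp 𝒜 (I.Hgr m n) i) :=
    fun i => main13226 𝒜 hpos m hmsp R 𝒜 I n i
  have hfin : ∀ i l : ℤ, l + i = b → (q : ℤ) ∣ i →
      Module.finrank (deg0 𝒜) ↥(comp 𝒜 (I.Hgr m n) i) =
        Module.finrank (deg0 𝒜) ↥(comp 𝒜 𝒜 l) := by
    rintro i l hil ⟨j, rfl⟩
    rw [hb] at hil
    rw [finrank_comp_congr 𝒜 (I.Hgr m n) (mul_comm (q : ℤ) j),
      ← finrank_comp_of_isVer hV (E₂.Hgr m' n) (I.Hgr m n) Φ hΦn j,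
      finrank_H' 𝒜' hpos' h0' m' hm'sp E''.gr e'' he'' (E₂.Hgr m' n) g' φR' hφR' j,
      finrank_comp_of_isVer hV 𝒜' 𝒜 (φ : R' →+ R) (ring_isVer hV) (-(g' + j))]
    exact finrank_comp_congr 𝒜 𝒜 (by linear_combination (-1 : ℤ) * hil)
  have hess : ∀ i l : ℤ, l + i = b → (q : ℤ) ∣ i → ∀ x ∈ I.Hgr m n i, x ≠ 0 →
      ∃ r ∈ 𝒜 l, r • x ≠ 0 := by
    rintro i l hil ⟨j, rfl⟩ x hx hx0
    rw [hb] at hil
    have hx' : x ∈ I.Hgr m n (j * q) := mem_of_eq (I.Hgr m n) (mul_comm _ _) hx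
    obtain ⟨x', hx'mem, rfl⟩ := hΦn.surj j x hx'
    have hx'0 : x' ≠ 0 := fun h => hx0 (by rw [h, map_zero])
    obtain ⟨r', hr', hr'x⟩ := ess_H' 𝒜' hpos' h0' m' hm'sp E''.gr e'' he'' (E₂.Hgr m' n) g'
      φR' hφR' j x' hx'mem hx'0
    refine ⟨φ r', mem_of_eq 𝒜 (by linear_combination (-1 : ℤ) * hil) (hV.map_mem hr'),
      fun h => hr'x (hΦn.inj ?_)⟩
    rw [hΦn.smul, h, map_zero]
  have h1 : 1 ≤ ringKrullDim R := by
    rw [hn]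
    exact_mod_cast (by omega : 1 ≤ n)
  have hdepth : ∀ r : R, (∀ s ∈ 𝒜 1, s * r = 0) → r = 0 :=
    fun r hr => depth_one' 𝒜 hpos h0 h1 hstd r hr
  obtain ⟨d, x, hd, hx, hxsurj, e₁, y, he₁, hy, hyreg⟩ :=
    exists_xy R 𝒜 hpos h0 m hm hmsp n hn h2 I
  have hY : y ^ q ∈ 𝒜 ((q : ℤ) * e₁) := by
    have := SetLike.pow_mem_graded q hy
    rwa [nsmul_eq_mul] at this
  have hq' : (1 : ℤ) ≤ q := by exact_mod_cast hq
  have hE : (q : ℤ) - 1 ≤ (q : ℤ) * e₁ := by nlinarith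
  -- the isomorphism `κ`
  have hdvdb : (q : ℤ) ∣ b := ⟨-g', by rw [hb]; ring⟩
  have hfb : Module.finrank (deg0 𝒜) ↥(comp 𝒜 (I.Hgr m n) b) = 1 := by
    rw [hfin b 0 (zero_add b) hdvdb]
    exact finrank_ring_zero 𝒜 h0
  obtain ⟨κ⟩ : Nonempty (↥(comp 𝒜 (I.Hgr m n) b) ≃ₗ[deg0 𝒜] deg0 𝒜) := by
    letI : Field (deg0 𝒜) := h0.toField
    haveI := hfinH b
    exact ⟨LinearEquiv.ofFinrankEq _ _ (by rw [hfb, Module.finrank_self])⟩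
  have hcore_ess := Groth.Agent.Lib.VerGor3H1.core_ess 𝒜 (I.Hgr m n) b κ h0 q hfinH hfinR hfin
    hess hdepth hstd d hd x hx hxsurj ((q : ℤ) * e₁) hE (y ^ q) hY (hyreg q) hq
  have hcore_fin := Groth.Agent.Lib.VerGor3H1.core_finrank 𝒜 (I.Hgr m n) b κ h0 q hfinH hfinR
    hfin hess hdepth hstd d hd x hx hxsurj ((q : ℤ) * e₁) hE (y ^ q) hY (hyreg q) hq
  -- the end degree
  have hgt : ∀ j : ℤ, b < j → I.Hgr m n j = ⊥ := by
    intro j hj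
    rw [eq_bot_iff]
    intro z hz
    rw [AddSubgroup.mem_bot]
    by_contra hz0
    obtain ⟨r, hr, hrz⟩ := hcore_ess j z hz hz0
    apply hrz
    rw [coe_eq_zero_of_bot 𝒜 (hpos (b - j) (by omega)) r hr, zero_smul]
  have hbne : I.Hgr m n b ≠ ⊥ := by
    intro hbot
    haveI : Nontrivial (deg0 𝒜) := h0.nontrivial
    have h3 : ((κ.symm 1 : ↥(comp 𝒜 (I.Hgr m n) b)) : I.H m n) ∈ I.Hgr m n b :=
      mem_of_comp 𝒜 (I.Hgr m n) _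
    rw [hbot, AddSubgroup.mem_bot] at h3
    have h4 : κ.symm 1 = 0 := Subtype.ext h3
    have h5 : (1 : deg0 𝒜) = 0 := by rw [← κ.apply_symm_apply 1, h4, map_zero]
    exact one_ne_zero h5
  have hend : endDeg (I.Hgr m n) = ((b : WithTop ℤ) : WithBot (WithTop ℤ)) :=
    le_antisymm ((Groth.Agent.Lib.GrConvH1.endDeg_le_iff (I.Hgr m n) b).2 hgt)
      (le_iSup₂ (f := fun (k : ℤ) (_ : I.Hgr m n k ≠ ⊥) =>
        ((k : WithTop ℤ) : WithBot (WithTop ℤ))) b hbne)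
  -- the ring is Gorenstein
  obtain ⟨θ, hθ⟩ := recognize 𝒜 hpos h0 m hmsp E'.gr e he (I.Hgr m n) b hcore_fin hcore_ess
  obtain ⟨E₁, hE₁⟩ : ∃ E₁ : StarInjRes 𝒜 𝒜, E₁ = minRes 𝒜 𝒜 := ⟨_, rfl⟩
  have hmin0 : ∀ P : Submodule R (E₁.X 0).carrier, P.IsHomogeneous (E₁.X 0).gr → P ≠ ⊥ →
      P ⊓ LinearMap.range E₁.ε ≠ ⊥ := by
    rw [hE₁]
    exact minRes_min0 𝒜 𝒜
  have hmin : ∀ (k : ℕ) (P : Submodule R (E₁.X (k + 1)).carrier),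
      P.IsHomogeneous (E₁.X (k + 1)).gr → P ≠ ⊥ → P ⊓ LinearMap.range (E₁.d k) ≠ ⊥ := by
    rw [hE₁]
    exact minRes_min 𝒜 𝒜
  obtain ⟨γ, hγ⟩ := H_equiv E₁ I m n
  have hlow : ∀ k, k < n → Subsingleton (E₁.H m k) :=
    fun k hk => Groth.Agent.Lib.AInvH1.H_subsingleton_of_lt 𝒜 m hm n hht E₁ k hk
  have hhigh : ∀ j, n < j → Subsingleton (E₁.H m j) :=
    fun j hj => H_subsingleton_of_gt 𝒜 m hm n hht E₁ j hj
  have hG : LocCoh.IsGorensteinRing R := gor_of_top 𝒜 E₁ hmin0 hmin m hm n hlow hhigh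
    (GMod.of 𝒜 E'.carrier (shiftGr E'.gr (-b)))
    (Groth.Agent.Lib.GrLES3H1.shift_starInj 𝒜 E'.gr he.starInj (-b)) (γ.trans θ)
    (fun k z hz => hθ k _ (hγ k z hz))
  exact ⟨hG, b, hend, hdvdb⟩

end Groth.Agent.Lib.VerGor4H1
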