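import Mathlib
import Groth.Prelude.Def_GrLC
import Groth.Prelude.Def_GrLC2
import Groth.Prelude.Def_CAlg
import Groth.Prelude.Def_Wider
import Groth.Agent.Lib.VerGor4_helper1
import Groth.Agent.Lib.CanLocG_helper1
import Groth.Agent.Lib.CanShift_helper1

/-! The canonical module of a Veronese subring `R^(q)` of a graded ring over a field is the
Veronese submodule of the canonical module (helper1, S18658).  Graded Matlis duality is used in the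
form of a perfect pairing `C_i × H_{-i} → E_0` between the pieces of a *canonical module and of
the top graded local cohomology.  APPEND-ONLY once landed. -/

set_option autoImplicit false
set_option maxHeartbeats 400000

namespace Groth.Agent.Lib.CanVerH1

open DirectSum GrLC Groth.Agent.Lib.GrStarH1 Groth.Agent.Lib.GrStar2H1 Groth.Agent.Lib.GrStar3H1
  Groth.Agent.Lib.SocleH1 Groth.Agent.Lib.GrHDecH1 Groth.Agent.Lib.Ver1H1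
  Groth.Agent.Lib.VerGorH1 Groth.Agent.Lib.VerGor2H1 Groth.Agent.Lib.GrLES4H1

universe u

/-! ### definitions -/

section defs

variable {R : Type u} [CommRing R] (𝒜 : ℤ → AddSubgroup R)
variable {C : Type u} [AddCommGroup C] [Module R C] (𝒞 : ℤ → AddSubgroup C)
variable {H : Type u} [AddCommGroup H] [Module R H] (𝓗 : ℤ → AddSubgroup H)
variable {E : Type u} [AddCommGroup E] [Module R E] (𝓔 : ℤ → AddSubgroup E)

/-- a generator of the degree-zero piece, free over `R₀` -/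
structure IsSoc (u : E) : Prop where
  mem : u ∈ 𝓔 0
  span : ∀ y ∈ 𝓔 0, ∃ a ∈ 𝒜 0, y = a • u
  free : ∀ a ∈ 𝒜 0, a • u = 0 → a = 0

/-- a perfect graded pairing `C × H → E` into the degree-zero piece -/
structure IsPerf (β : C →ₗ[R] H →ₗ[R] E) : Prop where
  mem : ∀ (i : ℤ) (c : C) (h : H), c ∈ 𝒞 i → h ∈ 𝓗 (-i) → β c h ∈ 𝓔 0
  nondeg : ∀ (i : ℤ) (c : C), c ∈ 𝒞 i → (∀ h ∈ 𝓗 (-i), β c h = 0) → c = 0
  exist : ∀ (i : ℤ) (ρ : H → E → Prop),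
    (∀ h ∈ 𝓗 (-i), ∃ y ∈ 𝓔 0, ρ h y) →
    (∀ h y₁ y₂, ρ h y₁ → ρ h y₂ → y₁ = y₂) →
    (∀ h₁ h₂ y₁ y₂, ρ h₁ y₁ → ρ h₂ y₂ → ρ (h₁ + h₂) (y₁ + y₂)) →
    (∀ a ∈ 𝒜 0, ∀ h y, ρ h y → ρ (a • h) (a • y)) →
    ∃ c ∈ 𝒞 i, ∀ h ∈ 𝓗 (-i), ρ h (β c h)

end defs

/-- the identification of the degree-zero pieces of the two hulls -/
def Rel {R R' : Type u} [CommRing R] [CommRing R'] (𝒜' : ℤ → AddSubgroup R') (φ : R' →+* R)
    {E E'' : Type u} [AddCommGroup E] [Module R E] [AddCommGroup E''] [Module R' E'']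
    (u : E) (u' : E'') (y' : E'') (y : E) : Prop :=
  ∃ a' ∈ 𝒜' 0, y' = a' • u' ∧ y = φ a' • u

/-- the graph of the Veronese map on the canonical modules in degree `j` -/
def G {R R' : Type u} [CommRing R] [CommRing R'] (𝒜' : ℤ → AddSubgroup R') (φ : R' →+* R) (q : ℕ)
    {C H E C' H' E'' : Type u} [AddCommGroup C] [Module R C] [AddCommGroup H] [Module R H]
    [AddCommGroup E] [Module R E] [AddCommGroup C'] [Module R' C'] [AddCommGroup H'] [Module R' H']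
    [AddCommGroup E''] [Module R' E''] (𝒞 : ℤ → AddSubgroup C) (𝓗' : ℤ → AddSubgroup H')
    (β : C →ₗ[R] H →ₗ[R] E) (β' : C' →ₗ[R'] H' →ₗ[R'] E'') (Φ : H' →+ H) (u : E) (u' : E'')
    (j : ℤ) (c' : C') (c : C) : Prop :=
  c ∈ 𝒞 (j * q) ∧ ∀ h' ∈ 𝓗' (-j), Rel 𝒜' φ u u' (β' c' h') (β c (Φ h'))

/-! ### the perfect pairing of a *canonical module with the top local cohomology -/

section perf

variable {R : Type u} [CommRing R] [IsNoetherianRing R] (𝒜 : ℤ → AddSubgroup R) [GradedRing 𝒜]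
variable (hpos : ∀ n : ℤ, n < 0 → 𝒜 n = ⊥) (h0 : IsField (deg0 𝒜))
variable (m : HomogeneousIdeal 𝒜) (hm : IsStarLocal 𝒜 m)
  (hmsp : m.toIdeal = Ideal.span (⋃ n ∈ Set.Ioi (0 : ℤ), (𝒜 n : Set R)))
variable {E : Type u} [AddCommGroup E] [Module R E] (𝓔 : ℤ → AddSubgroup E) [Decomposition 𝓔]
  [SetLike.GradedSMul 𝒜 𝓔] (e : (R ⧸ m.toIdeal) →ₗ[R] E)
  (he : IsStarInjHull 𝒜 (GrLC.quotGr 𝒜 m) 𝓔 e)
variable {C : Type u} [AddCommGroup C] [Module R C] [Module.Finite R C] (𝒞 : ℤ → AddSubgroup C)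
  [Decomposition 𝒞] [SetLike.GradedSMul 𝒜 𝒞]
variable {H : Type u} [AddCommGroup H] [Module R H] (𝓗 : ℤ → AddSubgroup H) [Decomposition 𝓗]
  [SetLike.GradedSMul 𝒜 𝓗]
variable (hfinH : ∀ i : ℤ, Module.Finite (deg0 𝒜) ↥(comp 𝒜 𝓗 i))
variable (φC : (C →ₗ[R] E) ≃ₗ[R] H)
  (hφC : IsGrHom (fun d => (homDeg 𝒜 𝒞 𝓔 d).toAddSubgroup) 𝓗 φC.toLinearMap)

local notation "𝔲" => e (Ideal.Quotient.mk (HomogeneousIdeal.toIdeal m) 1)

include hpos h0 hmsp he in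
theorem isSoc : IsSoc 𝒜 𝓔 𝔲 where
  mem := u_mem 𝒜 m 𝓔 e he
  span := fun y hy => exists_eq_smul_u 𝒜 hpos h0 m hmsp 𝓔 e he hy
  free := fun a ha hau => by
    by_contra hne
    obtain ⟨d, -, hd⟩ := deg0_unit 𝒜 h0 ha hne
    apply u_ne 𝒜 hpos h0 m hmsp 𝓔 e he
    have h1 : (d * a) • 𝔲 = 𝔲 := by rw [mul_comm, hd, one_smul]
    rw [← h1, mul_smul, hau, smul_zero]

include hφC in
theorem symm_mem {d : ℤ} {z : H} (hz : z ∈ 𝓗 d) : IsGrHomDeg 𝒞 𝓔 (φC.symm z) d := by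
  classical
  obtain ⟨f, hf⟩ : ∃ f : C →ₗ[R] E, f = φC.symm z := ⟨_, rfl⟩
  have hfz : φC f = z := by rw [hf, LinearEquiv.apply_symm_apply]
  rw [← hf]
  obtain ⟨D, hD⟩ := Groth.Agent.Lib.CanShiftH1.exists_finset_sum_compLin 𝒜 𝒞 𝓔 f
  have h1 : z = ∑ d' ∈ D, φC (Groth.Agent.Lib.CanShiftH1.compLin 𝒜 𝒞 𝓔 f d') := by
    rw [← hfz]
    exact (congrArg φC hD).trans (map_sum φC _ D)
  have hmemd : ∀ d', φC (Groth.Agent.Lib.CanShiftH1.compLin 𝒜 𝒞 𝓔 f d') ∈ 𝓗 d' :=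
    fun d' => hφC d' _ (Groth.Agent.Lib.CanShiftH1.isGrHomDeg_compLin 𝒜 𝒞 𝓔 f d')
  have hzero : ∀ d' ∈ D, d' ≠ d → Groth.Agent.Lib.CanShiftH1.compLin 𝒜 𝒞 𝓔 f d' = 0 := by
    intro d' hd' hne
    have h2 : (decompose 𝓗 z d' : H) = 0 := decompose_of_mem_ne 𝓗 hz (Ne.symm hne)
    rw [h1, Groth.Agent.Lib.GrLaurentH1.coe_decompose_sum] at h2
    have h3 : ∑ d'' ∈ D, (decompose 𝓗
        (φC (Groth.Agent.Lib.CanShiftH1.compLin 𝒜 𝒞 𝓔 f d'')) d' : H) =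
        φC (Groth.Agent.Lib.CanShiftH1.compLin 𝒜 𝒞 𝓔 f d') := by
      rw [Finset.sum_eq_single d']
      · exact decompose_of_mem_same 𝓗 (hmemd d')
      · intro b _ hb
        exact decompose_of_mem_ne 𝓗 (hmemd b) hb
      · intro hnot
        exact absurd hd' hnot
    rw [h3] at h2
    exact φC.injective (by rw [h2, map_zero])
  rw [hD]
  have hsum : (∑ d' ∈ D, Groth.Agent.Lib.CanShiftH1.compLin 𝒜 𝒞 𝓔 f d') ∈ homDeg 𝒜 𝒞 𝓔 d := by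
    refine Submodule.sum_mem _ (fun d' hd' => ?_)
    by_cases hdd : d' = d
    · rw [hdd]
      exact Groth.Agent.Lib.CanShiftH1.isGrHomDeg_compLin 𝒜 𝒞 𝓔 f d
    · rw [hzero d' hd' hdd]
      exact zero_mem _
  exact hsum

include hpos h0 hm hmsp he hφC in
theorem nondeg_left (β : C →ₗ[R] H →ₗ[R] E) (hβ : ∀ c h, β c h = φC.symm h c) {i : ℤ} {c : C}
    (hc : c ∈ 𝒞 i) (hzero : ∀ h ∈ 𝓗 (-i), β c h = 0) : c = 0 := by
  by_contra hne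
  have hP := phull_of_hull 𝒜 𝓔 m he
  have hbm : ∀ s : R, s • c = 0 → s ∈ m.toIdeal := by
    intro s hs
    by_contra hsm
    have hQ := Groth.Agent.Lib.CanShiftH1.conductor_isHomogeneous 𝒜 𝒞 (isHomogeneous_bot 𝒞) hc
    have hsQ : s ∈ (⊥ : Submodule R C).comap (LinearMap.toSpanSingleton R C c) := by
      rw [Submodule.mem_comap, LinearMap.toSpanSingleton_apply, Submodule.mem_bot]
      exact hs
    have htop := Groth.Agent.Lib.CanShiftH1.eq_top_of_not_le 𝒜 hm _ hQ hsQ hsm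
    have h1 : (1 : R) ∈ (⊥ : Submodule R C).comap (LinearMap.toSpanSingleton R C c) := by
      rw [htop]
      trivial
    rw [Submodule.mem_comap, LinearMap.toSpanSingleton_apply, Submodule.mem_bot, one_smul] at h1
    exact hne h1
  obtain ⟨hh, hdeg, hhc⟩ :=
    Groth.Agent.Lib.CanLocGH1.exists_ext 𝒜 𝓔 𝒞 he.starInj hP.mem hP.ann hc hbm
  have hhdeg : IsGrHomDeg 𝒞 𝓔 hh (-i) := by
    intro k x hx
    have h1 := hdeg k x hx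
    rwa [sub_eq_add_neg] at h1
  have hz : φC hh ∈ 𝓗 (-i) := hφC (-i) hh hhdeg
  have h1 := hzero _ hz
  rw [hβ, LinearEquiv.symm_apply_apply, hhc] at h1
  exact u_ne 𝒜 hpos h0 m hmsp 𝓔 e he h1

include hpos h0 hmsp he hφC in
theorem nondeg_right (β : C →ₗ[R] H →ₗ[R] E) (hβ : ∀ c h, β c h = φC.symm h c) {i : ℤ} {h : H}
    (hh : h ∈ 𝓗 (-i)) (hzero : ∀ c ∈ 𝒞 i, β c h = 0) : h = 0 := by
  classical
  by_contra hne
  have hf0 : φC.symm h ≠ 0 := fun h0' => hne (by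
    rw [← φC.apply_symm_apply h, h0', map_zero])
  obtain ⟨c, hc⟩ : ∃ c, φC.symm h c ≠ 0 := by
    by_contra hcon
    push_neg at hcon
    exact hf0 (LinearMap.ext hcon)
  obtain ⟨j, hj⟩ : ∃ j, φC.symm h (decompose 𝒞 c j : C) ≠ 0 := by
    by_contra hcon
    push_neg at hcon
    apply hc
    rw [← DirectSum.sum_support_decompose 𝒞 c, map_sum]
    exact Finset.sum_eq_zero (fun j _ => hcon j)
  have hmem : φC.symm h (decompose 𝒞 c j : C) ∈ 𝓔 (j + -i) :=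
    symm_mem 𝒜 𝓔 𝒞 𝓗 φC hφC hh j _ (decompose 𝒞 c j).2
  obtain ⟨r, hr, hru⟩ := exists_smul_eq_u 𝒜 hpos h0 m hmsp 𝓔 e he hmem hj
  have hrc : r • (decompose 𝒞 c j : C) ∈ 𝒞 i :=
    mem_of_eq 𝒞 (by ring) (smul_mem_gr 𝒜 𝒞 hr (decompose 𝒞 c j).2)
  have h1 := hzero _ hrc
  rw [hβ, map_smul, hru] at h1
  exact u_ne 𝒜 hpos h0 m hmsp 𝓔 e he h1

/-- the pairing on pieces -/
noncomputable def Bil (β : C →ₗ[R] H →ₗ[R] E) (i : ℤ)
    (hmem : ∀ (c : C) (h : H), c ∈ 𝒞 i → h ∈ 𝓗 (-i) → β c h ∈ 𝓔 0) :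
    ↥(comp 𝒜 𝒞 i) →ₗ[deg0 𝒜] ↥(comp 𝒜 𝓗 (-i)) →ₗ[deg0 𝒜] ↥(comp 𝒜 𝓔 0) :=
  LinearMap.mk₂ (deg0 𝒜)
    (fun c h => ⟨β (c : C) (h : H), hmem _ _ (mem_of_comp 𝒜 𝒞 c) (mem_of_comp 𝒜 𝓗 h)⟩)
    (fun c c' h => Subtype.ext (by
      show β ((c : C) + (c' : C)) (h : H) = β (c : C) (h : H) + β (c' : C) (h : H)
      rw [map_add, LinearMap.add_apply]))
    (fun a c h => Subtype.ext (by
      show β ((a : R) • (c : C)) (h : H) = (a : R) • β (c : C) (h : H)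
      rw [map_smul, LinearMap.smul_apply]))
    (fun c h h' => Subtype.ext (by
      show β (c : C) ((h : H) + (h' : H)) = β (c : C) (h : H) + β (c : C) (h' : H)
      rw [map_add]))
    (fun a c h => Subtype.ext (by
      show β (c : C) ((a : R) • (h : H)) = (a : R) • β (c : C) (h : H)
      rw [map_smul]))

include hpos h0 hm hmsp he hfinH hφC in
theorem isPerf (β : C →ₗ[R] H →ₗ[R] E) (hβ : ∀ c h, β c h = φC.symm h c) :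
    IsPerf 𝒜 𝒞 𝓗 𝓔 β := by
  classical
  have hmem : ∀ (i : ℤ) (c : C) (h : H), c ∈ 𝒞 i → h ∈ 𝓗 (-i) → β c h ∈ 𝓔 0 := by
    intro i c h hc hh
    rw [hβ]
    exact mem_of_eq 𝓔 (by ring) (symm_mem 𝒜 𝓔 𝒞 𝓗 φC hφC hh i c hc)
  refine ⟨hmem, fun i c hc hz =>
    nondeg_left 𝒜 hpos h0 m hm hmsp 𝓔 e he 𝒞 𝓗 φC hφC β hβ hc hz, ?_⟩
  intro i ρ hex hfun hadd hsmul
  letI : Field (deg0 𝒜) := h0.toField
  haveI finV : Module.Finite (deg0 𝒜) ↥(comp 𝒜 𝒞 i) :=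
    Module.Finite.iff_fg.2 (piece_fg 𝒜 hpos 𝒞 i (comp 𝒜 𝒞 i) (fun _ => Iff.rfl))
  haveI finW : Module.Finite (deg0 𝒜) ↥(comp 𝒜 𝓗 (-i)) := hfinH (-i)
  have hL1 : Module.finrank (deg0 𝒜) ↥(comp 𝒜 𝓔 0) = 1 :=
    finrank_deg0 𝒜 hpos h0 m hmsp 𝓔 e he
  haveI finL : Module.Finite (deg0 𝒜) ↥(comp 𝒜 𝓔 0) :=
    Module.finite_of_finrank_pos (by rw [hL1]; exact one_pos)
  obtain ⟨B, hB⟩ : ∃ B : ↥(comp 𝒜 𝒞 i) →ₗ[deg0 𝒜] ↥(comp 𝒜 𝓗 (-i)) →ₗ[deg0 𝒜] ↥(comp 𝒜 𝓔 0),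
      ∀ c h, ((B c h : ↥(comp 𝒜 𝓔 0)) : E) = β (c : C) (h : H) :=
    ⟨Bil 𝒜 𝓔 𝒞 𝓗 β i (hmem i), fun _ _ => rfl⟩
  have hinj : Function.Injective B := by
    rw [injective_iff_map_eq_zero]
    intro c hc
    apply Subtype.ext
    refine nondeg_left 𝒜 hpos h0 m hm hmsp 𝓔 e he 𝒞 𝓗 φC hφC β hβ (mem_of_comp 𝒜 𝒞 c)
      (fun h hh => ?_)
    have h1 := hB c ⟨h, hh⟩
    rw [hc, LinearMap.zero_apply, Submodule.coe_zero] at h1
    exact h1.symm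
  have hinj' : Function.Injective B.flip := by
    rw [injective_iff_map_eq_zero]
    intro h hh0
    apply Subtype.ext
    refine nondeg_right 𝒜 hpos h0 m hmsp 𝓔 e he 𝒞 𝓗 φC hφC β hβ (mem_of_comp 𝒜 𝓗 h)
      (fun c hc => ?_)
    have h1 := hB ⟨c, hc⟩ h
    have h2 : B ⟨c, hc⟩ h = B.flip h ⟨c, hc⟩ := rfl
    rw [h2, hh0, LinearMap.zero_apply, Submodule.coe_zero] at h1
    exact h1.symm
  have e1 : Module.finrank (deg0 𝒜) (↥(comp 𝒜 𝓗 (-i)) →ₗ[deg0 𝒜] ↥(comp 𝒜 𝓔 0)) =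
      Module.finrank (deg0 𝒜) ↥(comp 𝒜 𝓗 (-i)) := by
    rw [Module.finrank_linearMap, hL1, mul_one]
  have e2 : Module.finrank (deg0 𝒜) (↥(comp 𝒜 𝒞 i) →ₗ[deg0 𝒜] ↥(comp 𝒜 𝓔 0)) =
      Module.finrank (deg0 𝒜) ↥(comp 𝒜 𝒞 i) := by
    rw [Module.finrank_linearMap, hL1, mul_one]
  have hle1 : Module.finrank (deg0 𝒜) ↥(comp 𝒜 𝒞 i) ≤
      Module.finrank (deg0 𝒜) ↥(comp 𝒜 𝓗 (-i)) := by
    rw [← e1]
    exact LinearMap.finrank_le_finrank_of_injective hinj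
  have hle2 : Module.finrank (deg0 𝒜) ↥(comp 𝒜 𝓗 (-i)) ≤
      Module.finrank (deg0 𝒜) ↥(comp 𝒜 𝒞 i) := by
    rw [← e2]
    exact LinearMap.finrank_le_finrank_of_injective hinj'
  have heq : Module.finrank (deg0 𝒜) ↥(comp 𝒜 𝒞 i) =
      Module.finrank (deg0 𝒜) (↥(comp 𝒜 𝓗 (-i)) →ₗ[deg0 𝒜] ↥(comp 𝒜 𝓔 0)) := by
    rw [e1]
    exact le_antisymm hle1 hle2
  have hsurj : Function.Surjective B := by
    have h := @LinearMap.injective_iff_surjective_of_finrank_eq_finrank (deg0 𝒜) ↥(comp 𝒜 𝒞 i) _ _ _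
      (↥(comp 𝒜 𝓗 (-i)) →ₗ[deg0 𝒜] ↥(comp 𝒜 𝓔 0)) _ _ _ _ heq B
    exact h.1 hinj
  have hex' : ∀ w : ↥(comp 𝒜 𝓗 (-i)), ∃ y : ↥(comp 𝒜 𝓔 0), ρ (w : H) (y : E) := by
    intro w
    obtain ⟨y, hy, hρ⟩ := hex w.1 (mem_of_comp 𝒜 𝓗 w)
    exact ⟨⟨y, hy⟩, hρ⟩
  choose lamf hlamf using hex'
  obtain ⟨lam, hlam⟩ : ∃ lam : ↥(comp 𝒜 𝓗 (-i)) →ₗ[deg0 𝒜] ↥(comp 𝒜 𝓔 0),
      ∀ w, lam w = lamf w := by
    refine ⟨{ toFun := lamf, map_add' := fun w w' => Subtype.ext ?_,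
              map_smul' := fun a w => Subtype.ext ?_ }, fun _ => rfl⟩
    · exact hfun _ _ _ (hlamf (w + w')) (hadd _ _ _ _ (hlamf w) (hlamf w'))
    · exact hfun _ _ _ (hlamf (a • w))
        (hsmul (a : R) (show (a : R) ∈ 𝒜 0 from a.2) _ _ (hlamf w))
  obtain ⟨c, hc⟩ := hsurj lam
  refine ⟨c.1, mem_of_comp 𝒜 𝒞 c, fun h hh => ?_⟩
  have h1 := hlamf ⟨h, hh⟩
  have h2 : ((lamf ⟨h, hh⟩ : ↥(comp 𝒜 𝓔 0)) : E) = β (c : C) h := by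
    rw [← hlam, ← hc]
    exact hB c ⟨h, hh⟩
  rw [← h2]
  exact h1

end perf

/-! ### the relation between the degree-zero pieces -/

section rel

variable {R : Type u} [CommRing R] {𝒜 : ℤ → AddSubgroup R} [GradedRing 𝒜]
variable {R' : Type u} [CommRing R'] {𝒜' : ℤ → AddSubgroup R'} [GradedRing 𝒜']
variable {φ : R' →+* R} {q : ℕ} (hV : VData 𝒜 𝒜' φ q)
variable {E : Type u} [AddCommGroup E] [Module R E] {𝓔 : ℤ → AddSubgroup E}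
  [Decomposition 𝓔] [SetLike.GradedSMul 𝒜 𝓔]
variable {E'' : Type u} [AddCommGroup E''] [Module R' E''] {𝓔'' : ℤ → AddSubgroup E''}
  [Decomposition 𝓔''] [SetLike.GradedSMul 𝒜' 𝓔'']
variable {u : E} {u' : E''} (hu : IsSoc 𝒜 𝓔 u) (hu' : IsSoc 𝒜' 𝓔'' u')

omit [GradedRing 𝒜'] in
theorem rel_zero : Rel 𝒜' φ u u' 0 0 :=
  ⟨0, zero_mem _, by rw [zero_smul], by rw [map_zero, zero_smul]⟩

omit [GradedRing 𝒜'] in
theorem rel_add {y₁' y₂' : E''} {y₁ y₂ : E} (h1 : Rel 𝒜' φ u u' y₁' y₁)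
    (h2 : Rel 𝒜' φ u u' y₂' y₂) : Rel 𝒜' φ u u' (y₁' + y₂') (y₁ + y₂) := by
  obtain ⟨a, ha, rfl, rfl⟩ := h1
  obtain ⟨b, hb, rfl, rfl⟩ := h2
  exact ⟨a + b, add_mem ha hb, by rw [add_smul], by rw [map_add, add_smul]⟩

theorem rel_smul {a' : R'} (ha' : a' ∈ 𝒜' 0) {y' : E''} {y : E} (h : Rel 𝒜' φ u u' y' y) :
    Rel 𝒜' φ u u' (a' • y') (φ a' • y) := by
  obtain ⟨b, hb, rfl, rfl⟩ := h
  refine ⟨a' * b, ?_, by rw [mul_smul], by rw [map_mul, mul_smul]⟩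
  have h1 := SetLike.GradedMul.mul_mem ha' hb
  rwa [add_zero] at h1

include hu' in
theorem rel_fun {y' : E''} {y₁ y₂ : E} (h1 : Rel 𝒜' φ u u' y' y₁) (h2 : Rel 𝒜' φ u u' y' y₂) :
    y₁ = y₂ := by
  obtain ⟨a, ha, h1a, rfl⟩ := h1
  obtain ⟨b, hb, h2a, rfl⟩ := h2
  have h3 : (a - b) • u' = 0 := by rw [sub_smul, ← h1a, ← h2a, sub_self]
  have h4 := hu'.free (a - b) (sub_mem ha hb) h3
  rw [sub_eq_zero.1 h4]

include hV hu in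
theorem rel_inj {y₁' y₂' : E''} {y : E} (h1 : Rel 𝒜' φ u u' y₁' y) (h2 : Rel 𝒜' φ u u' y₂' y) :
    y₁' = y₂' := by
  obtain ⟨a, ha, rfl, h1b⟩ := h1
  obtain ⟨b, hb, rfl, h2b⟩ := h2
  have h3 : φ (a - b) • u = 0 := by rw [map_sub, sub_smul, ← h1b, ← h2b, sub_self]
  have hmem : φ (a - b) ∈ 𝒜 0 := by
    have h := hV.map_mem (sub_mem ha hb)
    rwa [zero_mul] at h
  have h4 := hu.free _ hmem h3
  have h5 : a - b = 0 := hV.inj (by rw [h4, map_zero])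
  rw [sub_eq_zero.1 h5]

include hV hu hu' in
theorem rel_exists_right {y' : E''} (hy' : y' ∈ 𝓔'' 0) : ∃ y ∈ 𝓔 0, Rel 𝒜' φ u u' y' y := by
  obtain ⟨a, ha, rfl⟩ := hu'.span y' hy'
  refine ⟨φ a • u, ?_, a, ha, rfl, rfl⟩
  have h1 : φ a ∈ 𝒜 0 := by
    have h := hV.map_mem ha
    rwa [zero_mul] at h
  have h2 := smul_mem_gr 𝒜 𝓔 h1 hu.mem
  rwa [add_zero] at h2

include hV hu hu' in
theorem rel_exists_left {y : E} (hy : y ∈ 𝓔 0) : ∃ y' ∈ 𝓔'' 0, Rel 𝒜' φ u u' y' y := by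
  obtain ⟨a, ha, rfl⟩ := hu.span y hy
  obtain ⟨a', ha', rfl⟩ := hV.exists_of_mem (j := 0) (s := a) (by rwa [zero_mul])
  refine ⟨a' • u', ?_, a', ha', rfl, rfl⟩
  have h2 := smul_mem_gr 𝒜' 𝓔'' ha' hu'.mem
  rwa [add_zero] at h2

end rel

/-! ### the Veronese map between the canonical modules -/

section ver

variable {R : Type u} [CommRing R] {𝒜 : ℤ → AddSubgroup R} [GradedRing 𝒜]
variable {R' : Type u} [CommRing R'] {𝒜' : ℤ → AddSubgroup R'} [GradedRing 𝒜']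
variable {φ : R' →+* R} {q : ℕ} (hV : VData 𝒜 𝒜' φ q)
variable {C : Type u} [AddCommGroup C] [Module R C] {𝒞 : ℤ → AddSubgroup C} [Decomposition 𝒞]
  [SetLike.GradedSMul 𝒜 𝒞]
variable {H : Type u} [AddCommGroup H] [Module R H] {𝓗 : ℤ → AddSubgroup H}
  [Decomposition 𝓗] [SetLike.GradedSMul 𝒜 𝓗]
variable {E : Type u} [AddCommGroup E] [Module R E] {𝓔 : ℤ → AddSubgroup E}
  [Decomposition 𝓔] [SetLike.GradedSMul 𝒜 𝓔]
variable {C' : Type u} [AddCommGroup C'] [Module R' C'] {𝒞' : ℤ → AddSubgroup C'}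
  [Decomposition 𝒞'] [SetLike.GradedSMul 𝒜' 𝒞']
variable {H' : Type u} [AddCommGroup H'] [Module R' H'] {𝓗' : ℤ → AddSubgroup H'}
  [Decomposition 𝓗'] [SetLike.GradedSMul 𝒜' 𝓗']
variable {E'' : Type u} [AddCommGroup E''] [Module R' E''] {𝓔'' : ℤ → AddSubgroup E''}
  [Decomposition 𝓔''] [SetLike.GradedSMul 𝒜' 𝓔'']
variable {β : C →ₗ[R] H →ₗ[R] E} {β' : C' →ₗ[R'] H' →ₗ[R'] E''}
variable (hβ : IsPerf 𝒜 𝒞 𝓗 𝓔 β) (hβ' : IsPerf 𝒜' 𝒞' 𝓗' 𝓔'' β')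
variable {Φ : H' →+ H} (hΦ : Ver3H1.IsVer φ q 𝓗' 𝓗 Φ)
variable {u : E} {u' : E''} (hu : IsSoc 𝒜 𝓔 u) (hu' : IsSoc 𝒜' 𝓔'' u')

local notation "𝔊" => G 𝒜' φ q 𝒞 𝓗' β β' Φ u u'

include hβ hΦ hu' in
theorem G_unique {j : ℤ} {c' : C'} {c₁ c₂ : C} (h1 : 𝔊 j c' c₁) (h2 : 𝔊 j c' c₂) : c₁ = c₂ := by
  rw [← sub_eq_zero]
  refine hβ.nondeg (j * q) _ (sub_mem h1.1 h2.1) (fun h hh => ?_)
  obtain ⟨h', hh', rfl⟩ := hΦ.surj (-j) h (mem_of_eq 𝓗 (by ring) hh)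
  rw [map_sub, LinearMap.sub_apply, sub_eq_zero]
  exact rel_fun hu' (h1.2 h' hh') (h2.2 h' hh')

theorem G_zero (j : ℤ) : 𝔊 j 0 0 := by
  refine ⟨zero_mem _, fun h' _ => ?_⟩
  rw [map_zero, LinearMap.zero_apply, map_zero, LinearMap.zero_apply]
  exact rel_zero

theorem G_add {j : ℤ} {c₁' c₂' : C'} {c₁ c₂ : C} (h1 : 𝔊 j c₁' c₁) (h2 : 𝔊 j c₂' c₂) :
    𝔊 j (c₁' + c₂') (c₁ + c₂) := by
  refine ⟨add_mem h1.1 h2.1, fun h' hh' => ?_⟩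
  rw [map_add, LinearMap.add_apply, map_add, LinearMap.add_apply]
  exact rel_add (h1.2 h' hh') (h2.2 h' hh')

include hV hΦ in
theorem G_smul {a j : ℤ} {r' : R'} (hr' : r' ∈ 𝒜' a) {c' : C'} {c : C} (h1 : 𝔊 j c' c) :
    𝔊 (a + j) (r' • c') (φ r' • c) := by
  refine ⟨?_, fun h' hh' => ?_⟩
  · exact mem_of_eq 𝒞 (by ring) (smul_mem_gr 𝒜 𝒞 (hV.map_mem hr') h1.1)
  · have hmem : r' • h' ∈ 𝓗' (-j) := mem_of_eq 𝓗' (by ring) (smul_mem_gr 𝒜' 𝓗' hr' hh')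
    have e1 : β' (r' • c') h' = β' c' (r' • h') := by
      rw [map_smul, LinearMap.smul_apply, map_smul]
    have e2 : β (φ r' • c) (Φ h') = β c (Φ (r' • h')) := by
      rw [hΦ.smul, map_smul, LinearMap.smul_apply, map_smul]
    rw [e1, e2]
    exact h1.2 _ hmem

include hV hβ' hu in
theorem G_inj {j : ℤ} {c' : C'} (hc' : c' ∈ 𝒞' j) (h1 : 𝔊 j c' 0) : c' = 0 := by
  refine hβ'.nondeg j c' hc' (fun h' hh' => ?_)
  have h2 := h1.2 h' hh'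
  rw [map_zero, LinearMap.zero_apply] at h2
  exact rel_inj hV hu h2 rel_zero

include hV hβ hβ' hΦ hu hu' in
theorem G_exists {j : ℤ} {c' : C'} (hc' : c' ∈ 𝒞' j) : ∃ c, 𝔊 j c' c := by
  refine Exists.imp ?_ (hβ.exist (j * q)
    (fun h y => ∃ h' ∈ 𝓗' (-j), Φ h' = h ∧ Rel 𝒜' φ u u' (β' c' h') y) ?_ ?_ ?_ ?_)
  · rintro c ⟨hc, hρ⟩
    refine ⟨hc, fun h' hh' => ?_⟩
    obtain ⟨h'', -, heq, hrel⟩ :=
      hρ (Φ h') (mem_of_eq 𝓗 (by ring) (hΦ.map_mem (-j) h' hh'))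
    rw [hΦ.inj heq] at hrel
    exact hrel
  · intro h hh
    obtain ⟨h', hh', rfl⟩ := hΦ.surj (-j) h (mem_of_eq 𝓗 (by ring) hh)
    obtain ⟨y, hy, hrel⟩ := rel_exists_right hV hu hu' (hβ'.mem j c' h' hc' hh')
    exact ⟨y, hy, h', hh', rfl, hrel⟩
  · rintro h y₁ y₂ ⟨h₁, -, rfl, hr1⟩ ⟨h₂, -, heq, hr2⟩
    rw [hΦ.inj heq] at hr2
    exact rel_fun hu' hr1 hr2
  · rintro _ _ y₁ y₂ ⟨h₁, hh₁, rfl, hr1⟩ ⟨h₂, hh₂, rfl, hr2⟩
    refine ⟨h₁ + h₂, add_mem hh₁ hh₂, map_add Φ h₁ h₂, ?_⟩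
    rw [map_add]
    exact rel_add hr1 hr2
  · rintro a ha _ y ⟨h', hh', rfl, hr⟩
    obtain ⟨a', ha', rfl⟩ := hV.exists_of_mem (j := 0) (s := a) (by rwa [zero_mul])
    refine ⟨a' • h', ?_, hΦ.smul a' h', ?_⟩
    · exact mem_of_eq 𝓗' (by ring) (smul_mem_gr 𝒜' 𝓗' ha' hh')
    · rw [map_smul]
      exact rel_smul ha' hr

include hV hβ hβ' hΦ hu hu' in
theorem G_surj {j : ℤ} {c : C} (hc : c ∈ 𝒞 (j * q)) : ∃ c' ∈ 𝒞' j, 𝔊 j c' c := by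
  refine Exists.imp ?_ (hβ'.exist j (fun h' y' => Rel 𝒜' φ u u' y' (β c (Φ h'))) ?_ ?_ ?_ ?_)
  · rintro c' ⟨hc', hρ⟩
    exact ⟨hc', hc, fun h' hh' => hρ h' hh'⟩
  · intro h' hh'
    have hmem : β c (Φ h') ∈ 𝓔 0 :=
      hβ.mem (j * q) c (Φ h') hc (mem_of_eq 𝓗 (by ring) (hΦ.map_mem (-j) h' hh'))
    exact rel_exists_left hV hu hu' hmem
  · intro h' y₁ y₂ h1 h2
    exact rel_inj hV hu h1 h2
  · intro h₁ h₂ y₁ y₂ h1 h2
    show Rel 𝒜' φ u u' (y₁ + y₂) (β c (Φ (h₁ + h₂)))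
    rw [map_add, map_add]
    exact rel_add h1 h2
  · intro a' ha' h' y' h1
    show Rel 𝒜' φ u u' (a' • y') (β c (Φ (a' • h')))
    rw [hΦ.smul, map_smul]
    exact rel_smul ha' h1

include hV hβ hβ' hΦ hu hu' in
theorem exists_semilinear : ∃ g : C' →ₛₗ[φ] C, Function.Injective g ∧
    ∀ j : ℤ, (𝒞' j).map (g : C' →+ C) = 𝒞 (j * q) := by
  classical
  have hq' : (q : ℤ) ≠ 0 := hV.qne
  have hex : ∀ (j : ℤ) (c' : 𝒞' j), ∃ c, 𝔊 j (c' : C') c :=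
    fun j c' => G_exists hV hβ hβ' hΦ hu hu' c'.2
  choose gf hgf using hex
  obtain ⟨gj, hgj⟩ : ∃ gj : (j : ℤ) → 𝒞' j →+ C, ∀ j c', gj j c' = gf j c' := by
    refine ⟨fun j => { toFun := gf j, map_zero' := ?_, map_add' := fun x y => ?_ },
      fun _ _ => rfl⟩
    · have h := hgf j 0
      rw [ZeroMemClass.coe_zero] at h
      exact G_unique hβ hΦ hu' h (G_zero j)
    · have h := hgf j (x + y)
      rw [AddSubgroup.coe_add] at h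
      exact G_unique hβ hΦ hu' h (G_add (hgf j x) (hgf j y))
  obtain ⟨gA, hgA⟩ : ∃ gA : C' →+ C, ∀ (j : ℤ) (c' : 𝒞' j), gA (c' : C') = gf j c' := by
    refine ⟨(DirectSum.toAddMonoid gj).comp (decomposeAddEquiv 𝒞').toAddMonoidHom,
      fun j c' => ?_⟩
    show DirectSum.toAddMonoid gj (decompose 𝒞' (c' : C')) = _
    rw [decompose_coe, DirectSum.toAddMonoid_of, hgj]
  have hGA : ∀ (j : ℤ) (c' : C'), c' ∈ 𝒞' j → 𝔊 j c' (gA c') := by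
    intro j c' hc'
    have h1 := hgf j ⟨c', hc'⟩
    have h2 : gA c' = gf j ⟨c', hc'⟩ := hgA j ⟨c', hc'⟩
    rw [h2]
    exact h1
  have hsm : ∀ (r' : R') (c' : C'), gA (r' • c') = φ r' • gA c' := by
    intro r' c'
    induction r' using DirectSum.Decomposition.inductionOn 𝒜' with
    | zero => rw [zero_smul, map_zero gA, map_zero φ, zero_smul]
    | @homogeneous a r =>
      induction c' using DirectSum.Decomposition.inductionOn 𝒞' with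
      | zero => rw [smul_zero, map_zero, smul_zero]
      | @homogeneous j c =>
        exact G_unique hβ hΦ hu' (hGA (a + j) _ (smul_mem_gr 𝒜' 𝒞' r.2 c.2))
          (G_smul hV hΦ r.2 (hGA j _ c.2))
      | add x y hx hy => rw [smul_add, map_add, map_add, hx, hy, smul_add]
    | add r s hr hs => rw [add_smul, map_add gA, hr, hs, map_add φ, add_smul]
  have hkey : ∀ (c' : C') (j : ℤ),
      (decompose 𝒞 (gA c') (j * q) : C) = gA (decompose 𝒞' c' j : C') := by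
    intro c' j
    induction c' using DirectSum.Decomposition.inductionOn 𝒞' with
    | zero => simp
    | @homogeneous i c =>
      by_cases hij : i = j
      · subst hij
        rw [decompose_of_mem_same 𝒞 (hGA i _ c.2).1, decompose_of_mem_same 𝒞' c.2]
      · have hne : i * (q : ℤ) ≠ j * q := fun h => hij (mul_right_cancel₀ hq' h)
        rw [decompose_of_mem_ne 𝒞 (hGA i _ c.2).1 hne, decompose_of_mem_ne 𝒞' c.2 hij,
          map_zero]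
    | add x y hx hy =>
      simp only [map_add, decompose_add, DirectSum.add_apply, AddSubgroup.coe_add, hx, hy]
  have hinj : Function.Injective gA := by
    rw [injective_iff_map_eq_zero]
    intro c' hc'
    have hz : ∀ j, (decompose 𝒞' c' j : C') = 0 := by
      intro j
      have h1 := hkey c' j
      rw [hc', decompose_zero, DirectSum.zero_apply, ZeroMemClass.coe_zero] at h1
      have h2 := hGA j _ (decompose 𝒞' c' j).2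
      rw [← h1] at h2
      exact G_inj hV hβ' hu (decompose 𝒞' c' j).2 h2
    rw [← DirectSum.sum_support_decompose 𝒞' c']
    exact Finset.sum_eq_zero (fun j _ => hz j)
  refine ⟨{ toFun := gA, map_add' := gA.map_add, map_smul' := hsm }, hinj, fun j => ?_⟩
  ext c
  constructor
  · rintro ⟨c', hc', rfl⟩
    exact (hGA j c' hc').1
  · intro hc
    obtain ⟨c', hc', hG⟩ := G_surj hV hβ hβ' hΦ hu hu' hc
    exact ⟨c', hc', G_unique hβ hΦ hu' (hGA j c' hc') hG⟩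

end ver

/-! ### the main theorem -/

theorem main18658 (R : Type u) [CommRing R] [IsNoetherianRing R] (𝒜 : ℤ → AddSubgroup R)
    [GradedRing 𝒜] (hpos : ∀ n : ℤ, n < 0 → 𝒜 n = ⊥) (h0 : IsField (GrLC.deg0 𝒜))
    (m : HomogeneousIdeal 𝒜) (hm : GrLC.IsStarLocal 𝒜 m)
    (hmsp : m.toIdeal = Ideal.span (⋃ n ∈ Set.Ioi (0 : ℤ), (𝒜 n : Set R))) (n : ℕ)
    (I : GrLC.StarInjRes 𝒜 𝒜) (E' : Type u) [AddCommGroup E']
    [Module R E'] (𝓔 : ℤ → AddSubgroup E') [DirectSum.Decomposition 𝓔] [SetLike.GradedSMul 𝒜 𝓔]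
    (e : (R ⧸ m.toIdeal) →ₗ[R] E') (he : GrLC.IsStarInjHull 𝒜 (GrLC.quotGr 𝒜 m) 𝓔 e)
    (C : Type u) [AddCommGroup C] [Module R C] (𝒞 : ℤ → AddSubgroup C)
    [DirectSum.Decomposition 𝒞] [SetLike.GradedSMul 𝒜 𝒞]
    (hC : GrLC.IsStarCanonical 𝒜 𝒞 𝓔 m n I) (q : ℕ) (hq : 0 < q) (R' : Type u) [CommRing R']
    (𝒜' : ℤ → AddSubgroup R') [GradedRing 𝒜'] (φ : R' →+* R) (hφ : Function.Injective φ)
    (hdeg : ∀ j : ℤ, (𝒜' j).map (φ : R' →+ R) = 𝒜 (j * q)) (m' : HomogeneousIdeal 𝒜')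
    (hm' : GrLC.IsStarLocal 𝒜' m')
    (hm'sp : m'.toIdeal = Ideal.span (⋃ j ∈ Set.Ioi (0 : ℤ), (𝒜' j : Set R')))
    (I' : GrLC.StarInjRes 𝒜' 𝒜') (E'' : Type u) [AddCommGroup E''] [Module R' E'']
    (𝓔'' : ℤ → AddSubgroup E'') [DirectSum.Decomposition 𝓔''] [SetLike.GradedSMul 𝒜' 𝓔'']
    (e' : (R' ⧸ m'.toIdeal) →ₗ[R'] E'')
    (he' : GrLC.IsStarInjHull 𝒜' (GrLC.quotGr 𝒜' m') 𝓔'' e') (C' : Type u) [AddCommGroup C']
    [Module R' C'] (𝒞' : ℤ → AddSubgroup C') [DirectSum.Decomposition 𝒞']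
    [SetLike.GradedSMul 𝒜' 𝒞'] (hC' : GrLC.IsStarCanonical 𝒜' 𝒞' 𝓔'' m' n I') :
    ∃ g : C' →ₛₗ[φ] C, Function.Injective g ∧
      ∀ j : ℤ, (𝒞' j).map (g : C' →+ C) = 𝒞 (j * q) := by
  classical
  have hV : VData 𝒜 𝒜' φ q := ⟨hq, hφ, hdeg⟩
  haveI : IsNoetherianRing R' := Groth.Agent.Lib.Ver2H1.isNoetherianRing_of_vdata hV
  have hpos' := hpos_of_vdata hV hpos
  have h0' := h0_of_vdata hV h0
  have hΓ := Groth.Agent.Lib.Ver3H1.gamCompat_of_span hV m m' hmsp hm'sp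
  obtain ⟨hfinC, φC, hφC⟩ := hC
  obtain ⟨hfinC', φC', hφC'⟩ := hC'
  haveI := hfinC
  haveI := hfinC'
  letI := HDecomp 𝒜 𝒜 m I n
  haveI := HGSMul 𝒜 𝒜 m I n
  letI := HDecomp 𝒜' 𝒜' m' I' n
  haveI := HGSMul 𝒜' 𝒜' m' I' n
  obtain ⟨Φ, hΦ⟩ := exists_isVer hV m m' hΓ I I' n
  obtain ⟨β, hβ⟩ : ∃ β : C →ₗ[R] I.H m n →ₗ[R] E', ∀ c h, β c h = φC.symm h c :=
    ⟨(φC.symm.toLinearMap).flip, fun _ _ => rfl⟩
  obtain ⟨β', hβ'⟩ : ∃ β' : C' →ₗ[R'] I'.H m' n →ₗ[R'] E'', ∀ c h, β' c h = φC'.symm h c :=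
    ⟨(φC'.symm.toLinearMap).flip, fun _ _ => rfl⟩
  have hP := isPerf 𝒜 hpos h0 m hm hmsp 𝓔 e he 𝒞 (I.Hgr m n)
    (fun i => main13226 𝒜 hpos m hmsp R 𝒜 I n i) φC hφC β hβ
  have hP' := isPerf 𝒜' hpos' h0' m' hm' hm'sp 𝓔'' e' he' 𝒞' (I'.Hgr m' n)
    (fun i => main13226 𝒜' hpos' m' hm'sp R' 𝒜' I' n i) φC' hφC' β' hβ'
  have hu := isSoc 𝒜 hpos h0 m hmsp 𝓔 e he
  have hu' := isSoc 𝒜' hpos' h0' m' hm'sp 𝓔'' e' he'
  exact exists_semilinear hV hP hP' hΦ hu hu'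

end Groth.Agent.Lib.CanVerH1
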