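import Mathlib
import Groth.Prelude.Def_GrLC
import Groth.Agent.Lib.CanVer_helper1

/-! Graded Matlis duality for *canonical modules, numerically: the piece of degree `i` of a
*canonical module has the dimension of the piece of degree `-i` of the top graded local
cohomology (helper1). APPEND-ONLY once landed. -/

set_option autoImplicit false
set_option maxHeartbeats 400000

namespace Groth.Agent.Lib.CanDualH1

open DirectSum GrLC Groth.Agent.Lib.GrStarH1 Groth.Agent.Lib.GrStar2H1 Groth.Agent.Lib.GrStar3H1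
  Groth.Agent.Lib.SocleH1 Groth.Agent.Lib.GrHDecH1 Groth.Agent.Lib.Ver1H1
  Groth.Agent.Lib.VerGorH1 Groth.Agent.Lib.VerGor2H1 Groth.Agent.Lib.GrLES4H1
  Groth.Agent.Lib.CanVerH1

universe u

section perf

variable {R : Type u} [CommRing R] [IsNoetherianRing R] (𝒜 : ℤ → AddSubgroup R) [GradedRing 𝒜]
variable (hpos : ∀ n : ℤ, n < 0 → 𝒜 n = ⊥) (h0 : IsField (deg0 𝒜))
variable (m : HomogeneousIdeal 𝒜) (hm : IsStarLocal 𝒜 m)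
  (hmsp : m.toIdeal = Ideal.span (⋃ n ∈ Set.Ioi (0 : ℤ), (𝒜 n : Set R)))
variable {E : Type u} [AddCommGroup E] [Module R E] (𝓔 : ℤ → AddSubgroup E) [Decomposition 𝓔]
  [SetLike.GradedSMul 𝒜 𝓔] (e : (R ⧸ m.toIdeal) →ₗ[R] E)
  (he : IsStarInjHull 𝒜 (GrLC.quotGr 𝒜 m) 𝓔 e)
variable {C : Type u} [AddCommGroup C] [Module R C] [Module.Finite R C] (𝒞 : ℤ → AddSubgroup C)
  [Decomposition 𝒞] [SetLike.GradedSMul 𝒜 𝒞]
variable {H : Type u} [AddCommGroup H] [Module R H] (𝓗 : ℤ → AddSubgroup H) [Decomposition 𝓗]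
  [SetLike.GradedSMul 𝒜 𝓗]
variable (hfinH : ∀ i : ℤ, Module.Finite (deg0 𝒜) ↥(comp 𝒜 𝓗 i))
variable (φC : (C →ₗ[R] E) ≃ₗ[R] H)
  (hφC : IsGrHom (fun d => (homDeg 𝒜 𝒞 𝓔 d).toAddSubgroup) 𝓗 φC.toLinearMap)

include hpos h0 hm hmsp he hfinH hφC in
theorem finrank_canon_eq (i : ℤ) :
    Module.finrank (deg0 𝒜) ↥(comp 𝒜 𝒞 i) = Module.finrank (deg0 𝒜) ↥(comp 𝒜 𝓗 (-i)) := by
  classical
  obtain ⟨β, hβ⟩ : ∃ β : C →ₗ[R] H →ₗ[R] E, ∀ c h, β c h = φC.symm h c :=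
    ⟨(φC.symm.toLinearMap).flip, fun _ _ => rfl⟩
  have hmem : ∀ (c : C) (h : H), c ∈ 𝒞 i → h ∈ 𝓗 (-i) → β c h ∈ 𝓔 0 := by
    intro c h hc hh
    rw [hβ]
    exact mem_of_eq 𝓔 (by ring) (symm_mem 𝒜 𝓔 𝒞 𝓗 φC hφC hh i c hc)
  letI : Field (deg0 𝒜) := h0.toField
  haveI finV : Module.Finite (deg0 𝒜) ↥(comp 𝒜 𝒞 i) :=
    Module.Finite.iff_fg.2 (piece_fg 𝒜 hpos 𝒞 i (comp 𝒜 𝒞 i) (fun _ => Iff.rfl))
  haveI finW : Module.Finite (deg0 𝒜) ↥(comp 𝒜 𝓗 (-i)) := hfinH (-i)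
  have hL1 : Module.finrank (deg0 𝒜) ↥(comp 𝒜 𝓔 0) = 1 :=
    finrank_deg0 𝒜 hpos h0 m hmsp 𝓔 e he
  haveI finL : Module.Finite (deg0 𝒜) ↥(comp 𝒜 𝓔 0) :=
    Module.finite_of_finrank_pos (by rw [hL1]; exact one_pos)
  obtain ⟨B, hB⟩ : ∃ B : ↥(comp 𝒜 𝒞 i) →ₗ[deg0 𝒜] ↥(comp 𝒜 𝓗 (-i)) →ₗ[deg0 𝒜] ↥(comp 𝒜 𝓔 0),
      ∀ c h, ((B c h : ↥(comp 𝒜 𝓔 0)) : E) = β (c : C) (h : H) :=
    ⟨Bil 𝒜 𝓔 𝒞 𝓗 β i hmem, fun _ _ => rfl⟩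
  have hinj : Function.Injective B := by
    rw [injective_iff_map_eq_zero]
    intro c hc
    apply Subtype.ext
    refine nondeg_left 𝒜 hpos h0 m hm hmsp 𝓔 e he 𝒞 𝓗 φC hφC β hβ (mem_of_comp 𝒜 𝒞 c)
      (fun h hh => ?_)
    have h1 := hB c ⟨h, hh⟩
    rw [hc, LinearMap.zero_apply, Submodule.coe_zero] at h1
    exact h1.symm
  have hinj' : Function.Injective B.flip := by
    rw [injective_iff_map_eq_zero]
    intro h hh0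
    apply Subtype.ext
    refine nondeg_right 𝒜 hpos h0 m hmsp 𝓔 e he 𝒞 𝓗 φC hφC β hβ (mem_of_comp 𝒜 𝓗 h)
      (fun c hc => ?_)
    have h1 := hB ⟨c, hc⟩ h
    have h2 : B ⟨c, hc⟩ h = B.flip h ⟨c, hc⟩ := rfl
    rw [h2, hh0, LinearMap.zero_apply, Submodule.coe_zero] at h1
    exact h1.symm
  have e1 : Module.finrank (deg0 𝒜) (↥(comp 𝒜 𝓗 (-i)) →ₗ[deg0 𝒜] ↥(comp 𝒜 𝓔 0)) =
      Module.finrank (deg0 𝒜) ↥(comp 𝒜 𝓗 (-i)) := by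
    rw [Module.finrank_linearMap, hL1, mul_one]
  have e2 : Module.finrank (deg0 𝒜) (↥(comp 𝒜 𝒞 i) →ₗ[deg0 𝒜] ↥(comp 𝒜 𝓔 0)) =
      Module.finrank (deg0 𝒜) ↥(comp 𝒜 𝒞 i) := by
    rw [Module.finrank_linearMap, hL1, mul_one]
  have hle1 : Module.finrank (deg0 𝒜) ↥(comp 𝒜 𝒞 i) ≤
      Module.finrank (deg0 𝒜) ↥(comp 𝒜 𝓗 (-i)) := by
    rw [← e1]
    exact LinearMap.finrank_le_finrank_of_injective hinj
  have hle2 : Module.finrank (deg0 𝒜) ↥(comp 𝒜 𝓗 (-i)) ≤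
      Module.finrank (deg0 𝒜) ↥(comp 𝒜 𝒞 i) := by
    rw [← e2]
    exact LinearMap.finrank_le_finrank_of_injective hinj'
  exact le_antisymm hle1 hle2

end perf

end Groth.Agent.Lib.CanDualH1
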