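import Mathlib
import Groth.Prelude.Def_GrLC
import Groth.Prelude.Def_CAlg
import Groth.Agent.Lib.CanLoc_helper1
import Groth.Agent.Lib.CanShift_helper1
import Groth.Agent.Lib.Socle_helper1
import Groth.Agent.Lib.GrMono_helper9
import Groth.Agent.Lib.DepthAss_helper5
import Groth.Agent.Lib.GrLES4_helper1
import Groth.Agent.Lib.AInv_helper1

/-!
# The Hilbert function of the *canonical module of a standard graded CM ring (helper1, S18657)
APPEND-ONLY once landed.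
-/

set_option autoImplicit false
set_option maxHeartbeats 400000
universe u

namespace Groth.Agent.Lib.CanHilbH1

open DirectSum GrLC CategoryTheory

/-! ### depth of the localized canonical module -/

theorem depth_loc (R : Type u) [CommRing R] [hCM : LocCoh.IsCohenMacaulayRing R]
    (𝒜 : ℤ → AddSubgroup R) [GradedRing 𝒜] (hpos : ∀ n : ℤ, n < 0 → 𝒜 n = ⊥)
    (h0 : IsField (GrLC.deg0 𝒜)) (m : HomogeneousIdeal 𝒜) (hm : GrLC.IsStarLocal 𝒜 m)
    [hmax : m.toIdeal.IsMaximal] (n : ℕ)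
    (hn : ringKrullDim R = n) (I : GrLC.StarInjRes 𝒜 𝒜) (E' : Type u) [AddCommGroup E']
    [Module R E'] (𝓔 : ℤ → AddSubgroup E') [DirectSum.Decomposition 𝓔]
    [SetLike.GradedSMul 𝒜 𝓔] (e : (R ⧸ m.toIdeal) →ₗ[R] E')
    (he : GrLC.IsStarInjHull 𝒜 (GrLC.quotGr 𝒜 m) 𝓔 e) (C : Type u) [AddCommGroup C]
    [Module R C] (𝒞 : ℤ → AddSubgroup C) [DirectSum.Decomposition 𝒞] [SetLike.GradedSMul 𝒜 𝒞]
    (hC : GrLC.IsStarCanonical 𝒜 𝒞 𝓔 m n I) :
    LocCoh.depth (Localization.AtPrime m.toIdeal) (LocalizedModule m.toIdeal.primeCompl C) =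
      (n : ℕ∞) := by
  classical
  haveI : IsNoetherianRing R := hCM.toIsNoetherian
  have hht : m.toIdeal.height = n := by
    have h1 := Groth.Agent.Lib.GorCanH1.ringKrullDim_eq_height 𝒜 hpos h0 m hm
    rw [hn] at h1
    exact (WithBot.coe_injective h1).symm
  obtain ⟨hfin, φ, -⟩ := hC
  haveI := hfin
  haveI hprime : m.toIdeal.IsPrime := hmax.isPrime
  haveI hCMloc : LocCoh.IsCohenMacaulayLocalRing (Localization.AtPrime m.toIdeal) :=
    LocCoh.IsCohenMacaulayRing.isCohenMacaulayLocalRing_localization m.toIdeal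
  have hdim : ringKrullDim (Localization.AtPrime m.toIdeal) = n := by
    rw [IsLocalization.AtPrime.ringKrullDim_eq_height m.toIdeal (Localization.AtPrime m.toIdeal),
      hht]
    rfl
  obtain ⟨γ⟩ := Groth.Agent.Lib.GrStarLCH1.main13224 R 𝒜 m R 𝒜 I n
  have hull := Groth.Agent.Lib.MaxHullH1.main18637 𝒜 𝓔 m e he
  obtain ⟨f, hf⟩ := Groth.Agent.Lib.CanLocH1.exists_hull_loc m.toIdeal E' e hull
  obtain ⟨eK⟩ := Groth.Agent.Lib.CanLocH1.exists_eK m.toIdeal n C E' (φ.trans γ)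
  haveI : Module.Finite (Localization.AtPrime m.toIdeal)
      (LocalizedModule m.toIdeal.primeCompl C) :=
    Module.Finite.of_isLocalizedModule m.toIdeal.primeCompl
      (LocalizedModule.mkLinearMap m.toIdeal.primeCompl C)
  exact (Groth.Agent.Lib.CanonInjDim_helper6.depth_and_dim n hdim
    (LocalizedModule m.toIdeal.primeCompl E') f hf (LocalizedModule m.toIdeal.primeCompl C) eK).1

/-! ### annihilators of homogeneous elements -/

section ann

variable {R : Type u} [CommRing R] (𝒜 : ℤ → AddSubgroup R) [GradedRing 𝒜]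
variable {C : Type u} [AddCommGroup C] [Module R C] (𝒞 : ℤ → AddSubgroup C) [Decomposition 𝒞]
  [SetLike.GradedSMul 𝒜 𝒞]

theorem comp_smul_eq_zero {c : C} {i : ℤ} (hc : c ∈ 𝒞 i) {s : R} (hs : s • c = 0) (d : ℤ) :
    (decompose 𝒜 s d : R) • c = 0 := by
  have h1 := Groth.Agent.Lib.GrStarH1.decompose_smul_of_mem 𝒜 𝒞 hc s (d + i)
  rw [add_sub_cancel_right, hs, decompose_zero] at h1
  rw [← h1]
  rfl

variable (hpos : ∀ n : ℤ, n < 0 → 𝒜 n = ⊥) (h0 : IsField (GrLC.deg0 𝒜)) (m : HomogeneousIdeal 𝒜)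
  (hmsp : m.toIdeal = Ideal.span (⋃ n ∈ Set.Ioi (0 : ℤ), (𝒜 n : Set R)))

include hpos h0 hmsp in
theorem mk_ne_zero [m.toIdeal.IsPrime] {c : C} {i : ℤ} (hc : c ∈ 𝒞 i) (hc0 : c ≠ 0) :
    LocalizedModule.mkLinearMap m.toIdeal.primeCompl C c ≠ 0 := by
  intro h
  obtain ⟨s, hs⟩ := (IsLocalizedModule.eq_zero_iff m.toIdeal.primeCompl
    (LocalizedModule.mkLinearMap m.toIdeal.primeCompl C)).1 h
  have hs' : (s : R) • c = 0 := hs
  have h1 := comp_smul_eq_zero 𝒜 𝒞 hc hs' 0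
  by_cases h2 : (decompose 𝒜 (s : R) 0 : R) = 0
  · apply s.2
    have := Groth.Agent.Lib.SocleH1.sub_zero_mem 𝒜 hpos m hmsp (s : R)
    rwa [h2, sub_zero] at this
  · obtain ⟨d, -, hd⟩ := Groth.Agent.Lib.SocleH1.deg0_unit 𝒜 h0 (decompose 𝒜 (s : R) 0).2 h2
    apply hc0
    rw [← one_smul R c, ← hd, mul_comm, mul_smul, h1, smul_zero]

end ann

/-! ### a prime of large dimension containing the annihilator -/

theorem exists_prime (R : Type u) [CommRing R] [hCM : LocCoh.IsCohenMacaulayRing R]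
    (𝒜 : ℤ → AddSubgroup R) [GradedRing 𝒜] (hpos : ∀ n : ℤ, n < 0 → 𝒜 n = ⊥)
    (h0 : IsField (GrLC.deg0 𝒜)) (m : HomogeneousIdeal 𝒜) (hm : GrLC.IsStarLocal 𝒜 m)
    (hmsp : m.toIdeal = Ideal.span (⋃ n ∈ Set.Ioi (0 : ℤ), (𝒜 n : Set R)))
    [hmax : m.toIdeal.IsMaximal] (n : ℕ)
    (hn : ringKrullDim R = n) (I : GrLC.StarInjRes 𝒜 𝒜) (E' : Type u) [AddCommGroup E']
    [Module R E'] (𝓔 : ℤ → AddSubgroup E') [DirectSum.Decomposition 𝓔]
    [SetLike.GradedSMul 𝒜 𝓔] (e : (R ⧸ m.toIdeal) →ₗ[R] E')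
    (he : GrLC.IsStarInjHull 𝒜 (GrLC.quotGr 𝒜 m) 𝓔 e) (C : Type u) [AddCommGroup C]
    [Module R C] (𝒞 : ℤ → AddSubgroup C) [DirectSum.Decomposition 𝒞] [SetLike.GradedSMul 𝒜 𝒞]
    (hC : GrLC.IsStarCanonical 𝒜 𝒞 𝓔 m n I) {c : C} {i : ℤ} (hc : c ∈ 𝒞 i) (hc0 : c ≠ 0) :
    ∃ P : Ideal R, P.IsPrime ∧ (∀ r : R, r • c = 0 → r ∈ P) ∧
      ((n : ℕ∞) : WithBot ℕ∞) ≤ ringKrullDim (R ⧸ P) := by
  classical
  haveI : IsNoetherianRing R := hCM.toIsNoetherian
  haveI hprime : m.toIdeal.IsPrime := hmax.isPrime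
  have hdepth := depth_loc R 𝒜 hpos h0 m hm n hn I E' 𝓔 e he C 𝒞 hC
  haveI := hC.1
  haveI hCMloc : LocCoh.IsCohenMacaulayLocalRing (Localization.AtPrime m.toIdeal) :=
    LocCoh.IsCohenMacaulayRing.isCohenMacaulayLocalRing_localization m.toIdeal
  haveI : Module.Finite (Localization.AtPrime m.toIdeal)
      (LocalizedModule m.toIdeal.primeCompl C) :=
    Module.Finite.of_isLocalizedModule m.toIdeal.primeCompl
      (LocalizedModule.mkLinearMap m.toIdeal.primeCompl C)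
  have hc' := mk_ne_zero 𝒜 𝒞 hpos h0 m hmsp hc hc0
  obtain ⟨Q, hQ, hle⟩ := exists_le_isAssociatedPrime_of_isNoetherianRing
    (Localization.AtPrime m.toIdeal) (LocalizedModule.mkLinearMap m.toIdeal.primeCompl C c) hc'
  haveI hQp : Q.IsPrime := hQ.isPrime
  have h1 := Groth.Agent.DepthLib.depth_le_ringKrullDim_quotient (Localization.AtPrime m.toIdeal)
    (LocalizedModule m.toIdeal.primeCompl C) Q hQ
  rw [hdepth] at h1
  have key : ∀ J : Ideal (Localization.AtPrime m.toIdeal),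
      Ideal.map (algebraMap R (Localization.AtPrime m.toIdeal))
        (Ideal.comap (algebraMap R (Localization.AtPrime m.toIdeal)) J) = J :=
    fun J => IsLocalization.map_under m.toIdeal.primeCompl (Localization.AtPrime m.toIdeal) J
  refine ⟨Q.comap (algebraMap R (Localization.AtPrime m.toIdeal)), inferInstance, ?_,
    h1.trans ?_⟩
  · intro r hr
    rw [Ideal.mem_comap]
    apply hle
    rw [Submodule.mem_colon_singleton, Submodule.mem_bot, algebraMap_smul,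
      ← LinearMap.map_smul, hr, map_zero]
  · rw [ringKrullDim_quotient, ringKrullDim_quotient]
    let F : ↥(PrimeSpectrum.zeroLocus ((Q : Ideal (Localization.AtPrime m.toIdeal)) :
          Set (Localization.AtPrime m.toIdeal))) →
        ↥(PrimeSpectrum.zeroLocus
          ((Q.comap (algebraMap R (Localization.AtPrime m.toIdeal)) : Ideal R) : Set R)) :=
      fun q => ⟨⟨Ideal.comap (algebraMap R (Localization.AtPrime m.toIdeal)) q.1.asIdeal,
        inferInstance⟩, by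
          rw [PrimeSpectrum.mem_zeroLocus]
          intro r hr
          exact (PrimeSpectrum.mem_zeroLocus _ _).1 q.2 hr⟩
    refine Order.krullDim_le_of_strictMono F ?_
    intro q q' hlt
    have h0' : q.1 < q'.1 := hlt
    have h1' : q.1.asIdeal < q'.1.asIdeal := (PrimeSpectrum.asIdeal_lt_asIdeal _ _).2 h0'
    show (F q).1 < (F q').1
    rw [← PrimeSpectrum.asIdeal_lt_asIdeal]
    show Ideal.comap (algebraMap R (Localization.AtPrime m.toIdeal)) q.1.asIdeal <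
      Ideal.comap (algebraMap R (Localization.AtPrime m.toIdeal)) q'.1.asIdeal
    refine lt_of_le_of_ne (Ideal.comap_mono h1'.le) (fun heq => h1'.ne ?_)
    have h2' := congrArg (Ideal.map (algebraMap R (Localization.AtPrime m.toIdeal))) heq
    rwa [key, key] at h2'

/-! ### two independent linear forms modulo a prime of dimension at least two -/

theorem exists_indep {R : Type u} [CommRing R] [IsNoetherianRing R] (𝒜 : ℤ → AddSubgroup R)
    [GradedRing 𝒜] (hpos : ∀ n : ℤ, n < 0 → 𝒜 n = ⊥) (h0 : IsField (GrLC.deg0 𝒜))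
    (m : HomogeneousIdeal 𝒜)
    (hmsp : m.toIdeal = Ideal.span (⋃ n ∈ Set.Ioi (0 : ℤ), (𝒜 n : Set R)))
    (hstd : Ideal.span (⋃ n ∈ Set.Ioi (0 : ℤ), (𝒜 n : Set R)) =
      Ideal.span ((𝒜 1 : AddSubgroup R) : Set R))
    (P : Ideal R) [hP : P.IsPrime] (n : ℕ) (h2 : 2 ≤ n)
    (hdim : ((n : ℕ∞) : WithBot ℕ∞) ≤ ringKrullDim (R ⧸ P)) :
    ∃ x ∈ 𝒜 1, ∃ y ∈ 𝒜 1, ∀ α ∈ 𝒜 0, ∀ β ∈ 𝒜 0, α * x + β * y ∈ P → α = 0 ∧ β = 0 := by
  classical
  by_contra hcon
  push_neg at hcon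
  have hle1 : ringKrullDim (R ⧸ P) ≤ 1 := by
    by_cases hsub : ∀ x ∈ 𝒜 1, x ∈ P
    · have hmP : m.toIdeal ≤ P := by
        rw [hmsp, hstd, Ideal.span_le]
        exact fun x hx => hsub x hx
      haveI hmax : m.toIdeal.IsMaximal := by
        rw [hmsp]
        exact Groth.Agent.GrMono9.irr_isMaximal 𝒜 hpos h0
      have hPm : m.toIdeal = P := hmax.eq_of_le hP.ne_top hmP
      have hPmax : P.IsMaximal := hPm ▸ hmax
      rw [ringKrullDim_eq_zero_of_isField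
        ((Ideal.Quotient.maximal_ideal_iff_isField_quotient P).1 hPmax)]
      exact zero_le_one
    · push_neg at hsub
      obtain ⟨x, hx, hxP⟩ := hsub
      have hγ : ∀ y ∈ 𝒜 1, ∃ γ ∈ 𝒜 0, y - γ * x ∈ P := by
        intro y hy
        obtain ⟨α, hα, β, hβ, hmem, hne⟩ := hcon x hx y hy
        have hβ0 : β ≠ 0 := by
          intro hβ0
          have hα0 : α ≠ 0 := fun h => hne h hβ0
          obtain ⟨d, -, hd⟩ := Groth.Agent.Lib.SocleH1.deg0_unit 𝒜 h0 hα hα0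
          apply hxP
          rw [hβ0, zero_mul, add_zero] at hmem
          have := P.mul_mem_left d hmem
          rwa [← mul_assoc, mul_comm d α, hd, one_mul] at this
        obtain ⟨d, hd, hdβ⟩ := Groth.Agent.Lib.SocleH1.deg0_unit 𝒜 h0 hβ hβ0
        refine ⟨-(d * α), ?_, ?_⟩
        · have := SetLike.mul_mem_graded hd hα
          rw [add_zero] at this
          exact neg_mem this
        · have hmem' := P.mul_mem_left d hmem
          have hdβ' : d * β = 1 := by rw [mul_comm]; exact hdβ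
          have heq : d * (α * x + β * y) = y - -(d * α) * x := by
            calc d * (α * x + β * y) = d * α * x + (d * β) * y := by ring
              _ = y - -(d * α) * x := by rw [hdβ']; ring
          rwa [heq] at hmem'
      let f : deg0 𝒜 →+* R ⧸ P := (Ideal.Quotient.mk P).comp (deg0 𝒜).subtype
      let ψ : Polynomial (deg0 𝒜) →+* R ⧸ P :=
        Polynomial.eval₂RingHom f (Ideal.Quotient.mk P x)
      obtain ⟨s', hs', hirr⟩ := Groth.Agent.GrMono9.exists_gens 𝒜 hstd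
      have hzero : ∀ r ∈ 𝒜 0, Ideal.Quotient.mk P r ∈ ψ.range := by
        intro r hr
        refine RingHom.mem_range.2 ⟨Polynomial.C ⟨r, hr⟩, ?_⟩
        show Polynomial.eval₂ f (Ideal.Quotient.mk P x) (Polynomial.C ⟨r, hr⟩) = _
        rw [Polynomial.eval₂_C]
        rfl
      have hX : Ideal.Quotient.mk P x ∈ ψ.range := by
        refine RingHom.mem_range.2 ⟨Polynomial.X, ?_⟩
        show Polynomial.eval₂ f (Ideal.Quotient.mk P x) Polynomial.X = _
        rw [Polynomial.eval₂_X]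
      have hone : ∀ y ∈ 𝒜 1, Ideal.Quotient.mk P y ∈ ψ.range := by
        intro y hy
        obtain ⟨γ, hγ0, hγP⟩ := hγ y hy
        have hyx : Ideal.Quotient.mk P y = Ideal.Quotient.mk P γ * Ideal.Quotient.mk P x := by
          rw [← map_mul, Ideal.Quotient.eq]
          exact hγP
        rw [hyx]
        exact Subring.mul_mem _ (hzero γ hγ0) hX
      have hhom : ∀ d : ℕ, ∀ r ∈ 𝒜 (d : ℤ), Ideal.Quotient.mk P r ∈ ψ.range := by
        intro d
        induction d with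
        | zero =>
          intro r hr
          rw [Nat.cast_zero] at hr
          exact hzero r hr
        | succ d ih =>
          intro r hr
          rw [Nat.cast_succ] at hr
          obtain ⟨c, hc, hrc⟩ := Groth.Agent.GrMono9.exists_coeffs 𝒜 s' hs' hirr (d : ℤ)
            (Int.natCast_nonneg d) r hr
          rw [hrc, map_sum]
          refine Subring.sum_mem _ (fun z hz => ?_)
          rw [map_mul]
          exact Subring.mul_mem _ (ih (c z) (hc z)) (hone z (hs' (Finset.mem_coe.2 hz)))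
      have hsurj : Function.Surjective ψ := by
        intro z
        obtain ⟨r, rfl⟩ := Ideal.Quotient.mk_surjective z
        rw [← RingHom.mem_range, ← DirectSum.sum_support_decompose 𝒜 r, map_sum]
        refine Subring.sum_mem _ (fun i _ => ?_)
        by_cases hi : i < 0
        · have hzero' : (decompose 𝒜 r i : R) = 0 :=
            Groth.Agent.Lib.GrHDecH1.coe_eq_zero_of_bot 𝒜 (hpos i hi) _ (decompose 𝒜 r i).2
          rw [hzero', map_zero]
          exact Subring.zero_mem _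
        · push_neg at hi
          obtain ⟨d, rfl⟩ := Int.eq_ofNat_of_zero_le hi
          exact hhom d _ (decompose 𝒜 r d).2
      calc ringKrullDim (R ⧸ P) ≤ ringKrullDim (Polynomial (deg0 𝒜)) :=
            ringKrullDim_le_of_surjective ψ hsurj
        _ ≤ 2 * ringKrullDim (deg0 𝒜) + 1 := Polynomial.ringKrullDim_le
        _ = 1 := by rw [ringKrullDim_eq_zero_of_isField h0, mul_zero, zero_add]
  have h3 := hdim.trans hle1
  have h4 : n ≤ 1 := by exact_mod_cast h3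
  omega

/-! ### a nonzero homogeneous element of low degree in the canonical module -/

theorem exists_elt (R : Type u) [CommRing R] [IsNoetherianRing R]
    (𝒜 : ℤ → AddSubgroup R) [GradedRing 𝒜] (hpos : ∀ n : ℤ, n < 0 → 𝒜 n = ⊥)
    (h0 : IsField (GrLC.deg0 𝒜)) (m : HomogeneousIdeal 𝒜)
    (hmsp : m.toIdeal = Ideal.span (⋃ n ∈ Set.Ioi (0 : ℤ), (𝒜 n : Set R))) (n : ℕ)
    (I : GrLC.StarInjRes 𝒜 𝒜) (a : ℤ)
    (ha : GrLC.endDeg (I.Hgr m n) = ((a : WithTop ℤ) : WithBot (WithTop ℤ)))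
    (E' : Type u) [AddCommGroup E']
    [Module R E'] (𝓔 : ℤ → AddSubgroup E') [DirectSum.Decomposition 𝓔]
    [SetLike.GradedSMul 𝒜 𝓔] (e : (R ⧸ m.toIdeal) →ₗ[R] E')
    (he : GrLC.IsStarInjHull 𝒜 (GrLC.quotGr 𝒜 m) 𝓔 e) (C : Type u) [AddCommGroup C]
    [Module R C] (𝒞 : ℤ → AddSubgroup C) [DirectSum.Decomposition 𝒞] [SetLike.GradedSMul 𝒜 𝒞]
    (hC : GrLC.IsStarCanonical 𝒜 𝒞 𝓔 m n I) :
    ∃ (i : ℤ) (c : C), i ≤ -a ∧ c ∈ 𝒞 i ∧ c ≠ 0 := by
  classical
  obtain ⟨hfin, φ, hφ⟩ := hC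
  haveI := hfin
  letI := Groth.Agent.Lib.GrHDecH1.HDecomp 𝒜 𝒜 m I n
  have hne := Groth.Agent.Lib.GrHDecH1.ne_bot_of_endDeg_eq (I.Hgr m n) a ha
  obtain ⟨z, hzmem, hz0⟩ := Groth.Agent.Lib.AInvH1.exists_ne_zero_of_ne_bot hne
  obtain ⟨f, hf⟩ : ∃ f : C →ₗ[R] E', φ f = z := ⟨φ.symm z, φ.apply_symm_apply z⟩
  obtain ⟨D, hD⟩ := Groth.Agent.Lib.CanShiftH1.exists_finset_sum_compLin 𝒜 𝒞 𝓔 f
  have h1 : φ f = ∑ d ∈ D, φ (Groth.Agent.Lib.CanShiftH1.compLin 𝒜 𝒞 𝓔 f d) :=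
    (congrArg φ hD).trans (map_sum φ _ D)
  have hmemd : ∀ d, φ (Groth.Agent.Lib.CanShiftH1.compLin 𝒜 𝒞 𝓔 f d) ∈ I.Hgr m n d :=
    fun d => hφ d _ (Groth.Agent.Lib.CanShiftH1.isGrHomDeg_compLin 𝒜 𝒞 𝓔 f d)
  have hza : (decompose (I.Hgr m n) z a : I.H m n) = z := decompose_of_mem_same _ hzmem
  have hfa : Groth.Agent.Lib.CanShiftH1.compLin 𝒜 𝒞 𝓔 f a ≠ 0 := by
    intro hfa
    apply hz0
    rw [← hza, ← hf, h1, Groth.Agent.Lib.GrLaurentH1.coe_decompose_sum]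
    apply Finset.sum_eq_zero
    intro d _
    by_cases hda : d = a
    · rw [hda, hfa, map_zero, decompose_zero]
      rfl
    · exact decompose_of_mem_ne _ (hmemd d) hda
  obtain ⟨c, hc⟩ : ∃ c, Groth.Agent.Lib.CanShiftH1.compLin 𝒜 𝒞 𝓔 f a c ≠ 0 := by
    by_contra h
    push_neg at h
    exact hfa (LinearMap.ext h)
  obtain ⟨i, hi⟩ : ∃ i, Groth.Agent.Lib.CanShiftH1.compLin 𝒜 𝒞 𝓔 f a
      (decompose 𝒞 c i : C) ≠ 0 := by
    by_contra h
    push_neg at h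
    apply hc
    rw [← DirectSum.sum_support_decompose 𝒞 c, map_sum]
    exact Finset.sum_eq_zero (fun i _ => h i)
  refine ⟨i, (decompose 𝒞 c i : C), ?_, (decompose 𝒞 c i).2,
    fun h0' => hi (by rw [h0', map_zero])⟩
  by_contra hlt
  push_neg at hlt
  exact hi (Groth.Agent.Lib.SocleH1.eq_zero_of_pos 𝒜 hpos h0 m hmsp 𝓔 e he
    (by omega : 0 < i + a)
    (Groth.Agent.Lib.CanShiftH1.isGrHomDeg_compLin 𝒜 𝒞 𝓔 f a i _ (decompose 𝒞 c i).2))

/-! ### the main theorem -/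

theorem main18657 (R : Type u) [CommRing R] [hCM : LocCoh.IsCohenMacaulayRing R]
    (𝒜 : ℤ → AddSubgroup R) [GradedRing 𝒜] (hpos : ∀ n : ℤ, n < 0 → 𝒜 n = ⊥)
    (h0 : IsField (GrLC.deg0 𝒜)) (m : HomogeneousIdeal 𝒜) (hm : GrLC.IsStarLocal 𝒜 m)
    (hmsp : m.toIdeal = Ideal.span (⋃ n ∈ Set.Ioi (0 : ℤ), (𝒜 n : Set R)))
    (hstd : Ideal.span (⋃ n ∈ Set.Ioi (0 : ℤ), (𝒜 n : Set R)) =
      Ideal.span ((𝒜 1 : AddSubgroup R) : Set R)) (n : ℕ) (hn : ringKrullDim R = n)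
    (h2 : 2 ≤ n) (I : GrLC.StarInjRes 𝒜 𝒜) (a : ℤ)
    (ha : GrLC.endDeg (I.Hgr m n) = ((a : WithTop ℤ) : WithBot (WithTop ℤ))) (E' : Type u)
    [AddCommGroup E'] [Module R E'] (𝓔 : ℤ → AddSubgroup E') [DirectSum.Decomposition 𝓔]
    [SetLike.GradedSMul 𝒜 𝓔] (e : (R ⧸ m.toIdeal) →ₗ[R] E')
    (he : GrLC.IsStarInjHull 𝒜 (GrLC.quotGr 𝒜 m) 𝓔 e) (C : Type u) [AddCommGroup C]
    [Module R C] (𝒞 : ℤ → AddSubgroup C) [DirectSum.Decomposition 𝒞] [SetLike.GradedSMul 𝒜 𝒞]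
    (hC : GrLC.IsStarCanonical 𝒜 𝒞 𝓔 m n I) (j : ℤ) (hj : -a < j) :
    2 ≤ Module.finrank (GrLC.deg0 𝒜) (GrLC.comp 𝒜 𝒞 j) := by
  classical
  haveI : IsNoetherianRing R := hCM.toIsNoetherian
  haveI hmax : m.toIdeal.IsMaximal := by
    rw [hmsp]
    exact Groth.Agent.GrMono9.irr_isMaximal 𝒜 hpos h0
  obtain ⟨i, c, hi, hc, hc0⟩ := exists_elt R 𝒜 hpos h0 m hmsp n I a ha E' 𝓔 e he C 𝒞 hC
  obtain ⟨P, hP, hann, hdimP⟩ :=
    exists_prime R 𝒜 hpos h0 m hm hmsp n hn I E' 𝓔 e he C 𝒞 hC hc hc0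
  haveI := hP
  obtain ⟨x, hx, y, hy, hxy⟩ := exists_indep 𝒜 hpos h0 m hmsp hstd P n h2 hdimP
  have hxP : x ∉ P := by
    intro h
    have h1 := hxy 1 (SetLike.GradedOne.one_mem (A := 𝒜)) 0 (𝒜 0).zero_mem
      (by rwa [one_mul, zero_mul, add_zero])
    apply hP.ne_top
    rw [Ideal.eq_top_iff_one, h1.1]
    exact P.zero_mem
  obtain ⟨t, ht⟩ : ∃ t : ℕ, (t : ℤ) + 1 = j - i := ⟨(j - i - 1).toNat, by omega⟩
  have hxt : x ^ t ∈ 𝒜 (t : ℤ) := by
    have := SetLike.pow_mem_graded t hx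
    rwa [nsmul_eq_mul, mul_one] at this
  have hr1 : x ^ t * x ∈ 𝒜 ((t : ℤ) + 1) := SetLike.mul_mem_graded hxt hx
  have hr2 : x ^ t * y ∈ 𝒜 ((t : ℤ) + 1) := SetLike.mul_mem_graded hxt hy
  have hdeg : (t : ℤ) + 1 + i = j := by omega
  have hv1 : (x ^ t * x) • c ∈ 𝒞 j := by
    have := Groth.Agent.Lib.GrStarH1.smul_mem_gr 𝒜 𝒞 hr1 hc
    rwa [hdeg] at this
  have hv2 : (x ^ t * y) • c ∈ 𝒞 j := by
    have := Groth.Agent.Lib.GrStarH1.smul_mem_gr 𝒜 𝒞 hr2 hc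
    rwa [hdeg] at this
  haveI : Nontrivial (deg0 𝒜) := h0.nontrivial
  haveI := hC.1
  haveI : IsNoetherian R C := isNoetherian_of_isNoetherianRing_of_finite R C
  haveI hfinj : Module.Finite (deg0 𝒜) ↥(comp 𝒜 𝒞 j) :=
    Module.Finite.iff_fg.2
      (Groth.Agent.Lib.GrLES4H1.piece_fg 𝒜 hpos 𝒞 j (comp 𝒜 𝒞 j) (fun _ => Iff.rfl))
  have hli : LinearIndependent (deg0 𝒜)
      ![(⟨(x ^ t * x) • c, hv1⟩ : ↥(comp 𝒜 𝒞 j)), ⟨(x ^ t * y) • c, hv2⟩] := by
    rw [LinearIndependent.pair_iff]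
    intro α β hαβ
    have e1 := congrArg Subtype.val hαβ
    have h1 : ((α : R) * (x ^ t * x) + (β : R) * (x ^ t * y)) • c = 0 := by
      rw [add_smul, mul_smul (α : R), mul_smul (β : R)]
      exact e1
    have h2 : x ^ t * ((α : R) * x + (β : R) * y) ∈ P := by
      apply hann
      rw [← h1]
      congr 1
      ring
    rcases hP.mem_or_mem h2 with h3 | h3
    · exact absurd (hP.mem_of_pow_mem t h3) hxP
    · obtain ⟨ha', hb'⟩ := hxy _ α.2 _ β.2 h3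
      exact ⟨Subtype.ext ha', Subtype.ext hb'⟩
  have h5 := hli.fintype_card_le_finrank
  simpa using h5

end Groth.Agent.Lib.CanHilbH1
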