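import Mathlib
import Groth.Prelude.Def_Wider
import Groth.Prelude.Def_CAlg
import Groth.Agent.Lib.ExtTop_helper5
import Groth.Agent.Lib.AusBuch_helper5
import Groth.Agent.Lib.Depth_helper5
import Groth.Agent.Lib.InjDimLocal_helper5

/-!
# The module `Ext^c(M, B)` of a Cohen–Macaulay module over a regular local ring (helper5)

* `isSMulRegular_ext`, `quot_equiv`: consequences of the long exact sequence for
  `0 → M --a--> M → M/aM → 0`;
* `ext_vanish`: over a regular local ring `B` of dimension `n`, a finite module `M` with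
  `dim M ≤ d ≤ depth M` has `Ext^i(M, B) = 0` for `i ≠ n - d`;
* `regular_transfer`: an `M`-regular sequence is regular on `Ext^{n-d}(M, B)`.
-/

set_option autoImplicit false
set_option linter.style.haveILetI false
universe u
open CategoryTheory CategoryTheory.Limits Abelian IsLocalRing RingTheory.Sequence
open Pointwise

namespace Groth.Agent.Lib.CanId

open Groth.Agent.DepthLib Groth.Agent.GlDim Groth.Agent.ExtTop Groth.Agent.ExtDev
  Groth.Agent.InjDimLocal

section general

variable {A : Type u} [CommRing A] (M Y : ModuleCat.{u} A) (a : A)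

/-- `a` kills `M/aM`. -/
lemma smul_quotSMulTop (x : QuotSMulTop a M) : a • x = 0 := by
  obtain ⟨y, rfl⟩ := Submodule.Quotient.mk_surjective _ x
  rw [← Submodule.Quotient.mk_smul, Submodule.Quotient.mk_eq_zero]
  exact Submodule.smul_mem_pointwise_smul y a ⊤ Submodule.mem_top

variable {M} {a}

/-- if `Ext^c(M/aM, Y) = 0` then `a` is regular on `Ext^c(M, Y)`. -/
theorem isSMulRegular_ext (hreg : IsSMulRegular M a) (c : ℕ)
    (h : Subsingleton (Ext (ModuleCat.of A (QuotSMulTop a M)) Y c)) :
    IsSMulRegular (Ext M Y c) a := by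
  have hS := hreg.smulShortComplex_shortExact
  intro x y hxy
  have h0 : a • (x - y) = 0 := by
    rw [smul_sub]
    exact sub_eq_zero.mpr hxy
  rw [← mk₀_smul_id_comp] at h0
  obtain ⟨z, hz⟩ := Ext.contravariant_sequence_exact₂ hS Y (x - y) h0
  have hz0 : z = 0 := @Subsingleton.elim _ h _ _
  rw [hz0, Ext.comp_zero] at hz
  exact sub_eq_zero.mp hz.symm

/-- if `Ext^{c+1}(M, Y) = 0` then `Ext^c(M, Y)/a ≃ Ext^{c+1}(M/aM, Y)`. -/
theorem quot_equiv (hreg : IsSMulRegular M a) (c : ℕ) (h : Subsingleton (Ext M Y (c + 1))) :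
    Nonempty (QuotSMulTop a (Ext M Y c) ≃ₗ[A]
      Ext (ModuleCat.of A (QuotSMulTop a M)) Y (c + 1)) := by
  have hS := hreg.smulShortComplex_shortExact
  let δ : Ext M Y c →ₗ[A] Ext (ModuleCat.of A (QuotSMulTop a M)) Y (c + 1) :=
    Ext.precompOfLinear hS.extClass A Y (add_comm 1 c)
  have hδ : ∀ α, δ α = hS.extClass.comp α (add_comm 1 c) := fun α => rfl
  have hsurj : Function.Surjective δ := by
    intro β
    obtain ⟨α, hα⟩ := Ext.contravariant_sequence_exact₃ hS Y β
      (@Subsingleton.elim _ h _ _) (add_comm 1 c)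
    exact ⟨α, hα⟩
  have hker : (a • ⊤ : Submodule A (Ext M Y c)) = LinearMap.ker δ := by
    apply le_antisymm
    · intro x hx
      obtain ⟨y, -, rfl⟩ := (Submodule.mem_smul_pointwise_iff_exists _ _ _).mp hx
      rw [LinearMap.mem_ker, map_smul]
      exact ext_smul_eq_zero_of_src a (smul_quotSMulTop M a) (c + 1) _
    · intro x hx
      rw [LinearMap.mem_ker, hδ] at hx
      obtain ⟨y, hy⟩ := Ext.contravariant_sequence_exact₁ hS Y x (add_comm 1 c) hx
      rw [(Submodule.mem_smul_pointwise_iff_exists _ _ _)]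
      refine ⟨y, Submodule.mem_top, ?_⟩
      rw [← hy]
      exact (mk₀_smul_id_comp a c y).symm
  exact ⟨(Submodule.quotEquivOfEq _ _ hker).trans (LinearMap.quotKerEquivOfSurjective δ hsurj)⟩

end general

section regular

variable (B : Type u) [CommRing B] [IsRegularLocalRing B] (n : ℕ) (hn : ringKrullDim B = n)

lemma withBot_le_of_add_one_le (x : WithBot ℕ∞) (d : ℕ) (h : x + 1 ≤ ((d + 1 : ℕ) : WithBot ℕ∞)) :
    x ≤ (d : WithBot ℕ∞) := by
  induction x using WithBot.recBotCoe with
  | bot => exact bot_le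
  | coe y =>
    have h1 : y + 1 ≤ ((d + 1 : ℕ) : ℕ∞) := by exact_mod_cast h
    have h2 : ((d + 1 : ℕ) : ℕ∞) = (d : ℕ∞) + 1 := by push_cast; rfl
    rw [h2] at h1
    have h3 : y ≤ (d : ℕ∞) := (ENat.add_le_add_iff_right ENat.one_ne_top).1 h1
    exact_mod_cast h3

include hn in
/-- a finite module with `dim M ≤ d ≤ depth M` has `Ext^i(M, B) = 0` for `i ≠ n - d`. -/
theorem ext_vanish (M : Type u) [AddCommGroup M] [Module B M] [Module.Finite B M] (d c : ℕ)
    (hcd : c + d = n) (hdim : Module.supportDim B M ≤ (d : WithBot ℕ∞))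
    (hdepth : (d : ℕ∞) ≤ LocCoh.idealDepth (maximalIdeal B) M) (i : ℕ) (hi : i ≠ c) :
    Subsingleton (Ext (ModuleCat.of B M) (ModuleCat.of B B) i) := by
  rcases lt_or_gt_of_ne hi with h | h
  · apply ext_vanish_of_supportDim B M c ?_ i h
    rw [hn]
    calc Module.supportDim B M + (c : WithBot ℕ∞) ≤ (d : WithBot ℕ∞) + (c : WithBot ℕ∞) :=
          add_le_add_left hdim _
      _ = (n : WithBot ℕ∞) := by
        have : d + c = n := by omega
        exact_mod_cast congrArg (Nat.cast : ℕ → WithBot ℕ∞) this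
  · by_cases hM : Subsingleton M
    · exact subsingleton_of_isZero_left _ (ModuleCat.isZero_of_subsingleton _) i
    haveI : Nontrivial M := not_subsingleton_iff_nontrivial.mp hM
    obtain ⟨e, he1, he2⟩ := exists_pd M ⟨n + 1, hasProjectiveDimensionLT_of_regular B n hn M⟩
    have hpd : projectiveDimension (ModuleCat.of B M) = (e : WithBot ℕ∞) :=
      le_antisymm ((projectiveDimension_le_iff _ e).mpr he1)
        ((projectiveDimension_ge_iff _ e).mpr he2)
    have hAB := Groth.Agent.AB.auslander_buchsbaum B M e hpd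
    unfold LocCoh.depth at hAB
    rw [regular_depth B n hn] at hAB
    have hle : (e : ℕ∞) + (d : ℕ∞) ≤ (n : ℕ∞) := by
      rw [hAB]
      exact add_le_add_right hdepth _
    have hle' : e + d ≤ n := by exact_mod_cast hle
    haveI : HasProjectiveDimensionLT (ModuleCat.of B M) (c + 1) :=
      hasProjectiveDimensionLT_of_ge _ (e + 1) (c + 1) (by omega)
    exact HasProjectiveDimensionLT.subsingleton (ModuleCat.of B M) (c + 1) i (by omega) _

include hn in
/-- an `M`-regular sequence is regular on `Ext^{n-d}(M, B)`. -/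
theorem regular_transfer : ∀ (rs : List B) (M : Type u) [AddCommGroup M] [Module B M]
    [Module.Finite B M] (d c : ℕ), c + d = n → Module.supportDim B M ≤ (d : WithBot ℕ∞) →
    (d : ℕ∞) ≤ LocCoh.idealDepth (maximalIdeal B) M → rs.length ≤ d →
    (∀ r ∈ rs, r ∈ maximalIdeal B) → IsWeaklyRegular M rs →
    IsWeaklyRegular (Ext (ModuleCat.of B M) (ModuleCat.of B B) c) rs := by
  intro rs
  induction rs with
  | nil =>
    intro M _ _ _ d c _ _ _ _ _ _
    exact IsWeaklyRegular.nil B _
  | cons a rs ih =>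
    intro M _ _ _ d c hcd hdim hdepth hlen hmem hreg
    rw [isWeaklyRegular_cons_iff] at hreg
    obtain ⟨hra, hrest⟩ := hreg
    obtain ⟨d', rfl⟩ : ∃ d', d = d' + 1 := ⟨d - 1, by simp at hlen; omega⟩
    have ham : a ∈ maximalIdeal B := hmem a (List.mem_cons_self)
    have hdim' : Module.supportDim B (QuotSMulTop a M) ≤ (d' : WithBot ℕ∞) := by
      apply withBot_le_of_add_one_le
      rw [Module.supportDim_quotSMulTop_succ_eq_supportDim hra ham]
      exact hdim
    have hdepth' : (d' : ℕ∞) ≤ LocCoh.idealDepth (maximalIdeal B) (QuotSMulTop a M) :=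
      (le_idealDepth_quotSMulTop_iff (maximalIdeal B) M ham hra d').mpr hdepth
    have hIH := ih (QuotSMulTop a M) d' (c + 1) (by omega) hdim' hdepth'
      (by simp at hlen; omega) (fun r hr => hmem r (List.mem_cons_of_mem _ hr)) hrest
    have hv1 := ext_vanish B n hn (QuotSMulTop a M) d' (c + 1) (by omega) hdim' hdepth' c (by omega)
    have hv2 := ext_vanish B n hn M (d' + 1) c hcd hdim hdepth (c + 1) (by omega)
    have hra' : IsSMulRegular (ModuleCat.of B M) a := hra
    obtain ⟨e⟩ := quot_equiv (ModuleCat.of B B) hra' c hv2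
    rw [isWeaklyRegular_cons_iff]
    exact ⟨isSMulRegular_ext (ModuleCat.of B B) hra' c hv1,
      (LinearEquiv.isWeaklyRegular_congr e rs).mpr hIH⟩

end regular

end Groth.Agent.Lib.CanId
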