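import Mathlib
import Groth.Prelude.Def_Wider
import Groth.Prelude.Def_CAlg
import Groth.Agent.Lib.CanId1_helper5
import Groth.Agent.Lib.CMChain_helper5
import Groth.Agent.Lib.ExtDual_helper5
import Groth.Agent.Lib.ExtBC_helper5
import Groth.Agent.Lib.Serre_helper5
import Groth.Agent.Lib.FibDepth_helper3

/-!
# `Ext^r_B(B/p, B)` for a Cohen–Macaulay quotient domain of a regular local ring (helper5)

`B` regular local of dimension `n`, `p` a prime of height `r`, `A = B/p` Cohen–Macaulay of
dimension `d`.  We show `r + d = n`, `A` has `dim ≤ d ≤ depth` over `B`, the module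
`ω = Ext^r_B(A, B)` is finite, torsion-free over `A`, of rank one, and embeds into `A`.
-/

set_option autoImplicit false
set_option linter.style.haveILetI false
universe u
open CategoryTheory CategoryTheory.Limits Abelian IsLocalRing RingTheory.Sequence
open Pointwise TensorProduct

namespace Groth.Agent.Lib.CanId

open Groth.Agent.DepthLib Groth.Agent.GlDim Groth.Agent.ExtTop Groth.Agent.ExtDev
  Groth.Agent.InjDimLocal

section congr

variable {A : Type u} [CommRing A]

/-- `Ext` is invariant under isomorphisms in the second variable -/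
noncomputable def extEquivRight {X Y Y' : ModuleCat.{u} A} (e : Y ≅ Y') (j : ℕ) :
    Ext.{u} X Y j ≃ₗ[A] Ext.{u} X Y' j :=
  LinearEquiv.ofLinearMap ((Ext.mk₀ e.hom).postcompOfLinear A X (add_zero j))
    ((Ext.mk₀ e.inv).postcompOfLinear A X (add_zero j))
    (by
      ext x
      change (x.comp (Ext.mk₀ e.inv) (add_zero j)).comp (Ext.mk₀ e.hom) (add_zero j) = x
      rw [Ext.comp_assoc_of_third_deg_zero, Ext.mk₀_comp_mk₀, e.inv_hom_id, Ext.comp_mk₀_id])
    (by
      ext x
      change (x.comp (Ext.mk₀ e.hom) (add_zero j)).comp (Ext.mk₀ e.inv) (add_zero j) = x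
      rw [Ext.comp_assoc_of_third_deg_zero, Ext.mk₀_comp_mk₀, e.hom_inv_id, Ext.comp_mk₀_id])

end congr

section setup

variable (B : Type u) [CommRing B] [IsRegularLocalRing B] (n : ℕ) (hn : ringKrullDim B = n)
  (p : Ideal B) [p.IsPrime]

include hn in
lemma isCM_self : LocCoh.IsCohenMacaulayModule B B := by
  unfold LocCoh.IsCohenMacaulayModule LocCoh.depth
  rw [Module.supportDim_self_eq_ringKrullDim, hn, regular_depth B n hn]
  rfl

lemma support_self : Module.support B B = Set.univ := by
  rw [Set.eq_univ_iff_forall]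
  intro q
  rw [Module.mem_support_iff']
  refine ⟨1, fun r hr h => hr ?_⟩
  rw [smul_eq_mul, mul_one] at h
  rw [h]
  exact q.asIdeal.zero_mem

include hn in
/-- `ht p + dim B/p = dim B`. -/
theorem dims (r : ℕ) (hr : p.height = r) :
    ∃ d : ℕ, ringKrullDim (B ⧸ p) = (d : WithBot ℕ∞) ∧ r + d = n := by
  have h := Groth.Agent.CMChain.height_add_ringKrullDim_quotient B B (isCM_self B n hn)
    (support_self B) p
  rw [hr, hn] at h
  generalize ringKrullDim (B ⧸ p) = x at h
  induction x using WithBot.recBotCoe with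
  | bot =>
    exfalso
    rw [WithBot.add_bot] at h
    exact WithBot.bot_ne_coe h
  | coe y =>
    have h1 : (r : ℕ∞) + y = (n : ℕ∞) := by exact_mod_cast h
    have hy : y ≠ ⊤ := by
      intro hy
      rw [hy, add_top] at h1
      exact ENat.top_ne_natCast n h1
    obtain ⟨d, rfl⟩ := ENat.ne_top_iff_exists.1 hy
    refine ⟨d, rfl, ?_⟩
    exact_mod_cast h1

lemma map_maximalIdeal :
    (maximalIdeal B).map (Ideal.Quotient.mk p) = maximalIdeal (B ⧸ p) := by
  haveI : IsLocalRing (B ⧸ p) :=
    IsLocalRing.of_surjective' (Ideal.Quotient.mk p) Ideal.Quotient.mk_surjective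
  have h1 : (maximalIdeal (B ⧸ p)).comap (Ideal.Quotient.mk p) = maximalIdeal B := by
    haveI := Ideal.comap_isMaximal_of_surjective (Ideal.Quotient.mk p)
      Ideal.Quotient.mk_surjective (K := maximalIdeal (B ⧸ p))
    exact IsLocalRing.eq_maximalIdeal this
  rw [← h1]
  exact Ideal.map_comap_of_surjective _ Ideal.Quotient.mk_surjective _

variable [hA : LocCoh.IsCohenMacaulayLocalRing (B ⧸ p)]

/-- `A = B/p` has `dim ≤ d ≤ depth` over `B`. -/
theorem quot_hyp (d : ℕ) (hd : ringKrullDim (B ⧸ p) = (d : WithBot ℕ∞)) :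
    Module.supportDim B (B ⧸ p) ≤ (d : WithBot ℕ∞) ∧
      (d : ℕ∞) ≤ LocCoh.idealDepth (maximalIdeal B) (B ⧸ p) := by
  refine ⟨?_, ?_⟩
  · rw [Module.supportDim_quotient_eq_ringKrullDim, hd]
  · have h1 := hA.supportDim_eq_depth
    rw [Module.supportDim_self_eq_ringKrullDim, hd] at h1
    have h2 : (d : ℕ∞) = LocCoh.depth (B ⧸ p) (B ⧸ p) := by exact_mod_cast h1
    have h3 := Groth.Agent.Lib.FibDepthH3.idealDepth_map_le_of_surjective (Ideal.Quotient.mk p)
      Ideal.Quotient.mk_surjective (B ⧸ p) (fun s m => rfl) (maximalIdeal B)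
    rw [map_maximalIdeal] at h3
    rw [h2]
    exact h3

end setup

section omega

variable (B : Type u) [CommRing B] [IsRegularLocalRing B] (n : ℕ) (hn : ringKrullDim B = n)
  (p : Ideal B) [p.IsPrime] (r : ℕ)

/-- the module `ω = Ext^r_B(B/p, B)` -/
abbrev Om : Type u := Ext (ModuleCat.of B (B ⧸ p)) (ModuleCat.of B B) r

instance : Module.Finite B (Om B p r) := by
  haveI : Module.Finite B (ModuleCat.of B (B ⧸ p)) := inferInstanceAs (Module.Finite B (B ⧸ p))
  haveI : Module.Finite B (ModuleCat.of B B) := inferInstanceAs (Module.Finite B B)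
  exact ModuleCat.finite_ext B _ _ r

lemma isSMulRegular_quot (t : B) (ht : t ∉ p) : IsSMulRegular (B ⧸ p) t := by
  intro x y hxy
  simp only [Algebra.smul_def] at hxy
  refine mul_left_cancel₀ ?_ hxy
  rw [Ideal.Quotient.algebraMap_eq, Ne, Ideal.Quotient.eq_zero_iff_mem]
  exact ht

variable (hr : p.height = r) [hA : LocCoh.IsCohenMacaulayLocalRing (B ⧸ p)]

include hn hr in
/-- `ω` is torsion-free over `B/p`. -/
theorem torsionFree (t : B) (ht : t ∉ p) : IsSMulRegular (Om B p r) t := by
  have hregA := isSMulRegular_quot B p t ht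
  by_cases hu : IsUnit t
  · exact hu.isSMulRegular _
  · have htm : t ∈ maximalIdeal B := (mem_maximalIdeal t).mpr hu
    obtain ⟨d, hd, hrd⟩ := dims B n hn p r hr
    obtain ⟨hdim, -⟩ := quot_hyp B p d hd
    have hregA' : IsSMulRegular (ModuleCat.of B (B ⧸ p)) t := hregA
    apply isSMulRegular_ext (ModuleCat.of B B) hregA' r
    apply ext_vanish_of_supportDim B (QuotSMulTop t (B ⧸ p)) (r + 1) ?_ r (by omega)
    have h1 := Module.supportDim_quotSMulTop_succ_eq_supportDim hregA htm
    rw [hn]
    calc Module.supportDim B (QuotSMulTop t (B ⧸ p)) + ((r + 1 : ℕ) : WithBot ℕ∞)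
        = (Module.supportDim B (QuotSMulTop t (B ⧸ p)) + 1) + (r : WithBot ℕ∞) := by
          push_cast
          rw [add_assoc, add_comm (1 : WithBot ℕ∞)]
      _ = Module.supportDim B (B ⧸ p) + (r : WithBot ℕ∞) := by rw [h1]
      _ ≤ (d : WithBot ℕ∞) + (r : WithBot ℕ∞) := add_le_add_left hdim _
      _ = (n : WithBot ℕ∞) := by
        have : d + r = n := by omega
        exact_mod_cast congrArg (Nat.cast : ℕ → WithBot ℕ∞) this

omit hA in
lemma simple_fiber : IsSimpleModule (Localization.AtPrime p) (Localization.AtPrime p ⊗[B] (B ⧸ p)) := by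
  let eX : (Localization.AtPrime p ⧸ p.map (algebraMap B (Localization.AtPrime p)))
      ≃ₗ[Localization.AtPrime p] Localization.AtPrime p ⊗[B] (B ⧸ p) :=
    (Algebra.TensorProduct.quotIdealMapEquivTensorQuot (Localization.AtPrime p) p).toLinearEquiv
  have hmax : p.map (algebraMap B (Localization.AtPrime p)) = maximalIdeal (Localization.AtPrime p) :=
    Localization.AtPrime.map_eq_maximalIdeal
  exact isSimpleModule_iff_quot_maximal.mpr
    ⟨p.map (algebraMap B (Localization.AtPrime p)), hmax ▸ inferInstance, ⟨eX.symm⟩⟩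

omit hA in
include hr in
/-- `ω` has rank one. -/
theorem rank_one : Nonempty ((Localization.AtPrime p ⊗[B] Om B p r) ≃ₗ[Localization.AtPrime p]
    (Localization.AtPrime p ⊗[B] (B ⧸ p))) := by
  haveI : IsRegularLocalRing (Localization.AtPrime p) := Groth.Agent.Serre.localization_regular B p
  have hdim : ringKrullDim (Localization.AtPrime p) = (r : WithBot ℕ∞) := by
    rw [IsLocalization.AtPrime.ringKrullDim_eq_height p (Localization.AtPrime p), hr]
    rfl
  obtain ⟨e1⟩ := Groth.Agent.ExtBC.main B (Localization.AtPrime p) B r (B ⧸ p)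
  haveI hXs := simple_fiber B p
  have hlen := Groth.Agent.ExtDual.length_simple (Localization.AtPrime p) r hdim
    (Localization.AtPrime p ⊗[B] (B ⧸ p))
  let eY : ModuleCat.of (Localization.AtPrime p) (Localization.AtPrime p ⊗[B] B) ≅
      ModuleCat.of (Localization.AtPrime p) (Localization.AtPrime p) :=
    (TensorProduct.AlgebraTensorModule.rid B (Localization.AtPrime p)
      (Localization.AtPrime p)).toModuleIso
  let e2 := extEquivRight
    (X := ModuleCat.of (Localization.AtPrime p) (Localization.AtPrime p ⊗[B] (B ⧸ p))) eY r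
  have hlen2 : Module.length (Localization.AtPrime p)
      (Ext (ModuleCat.of (Localization.AtPrime p) (Localization.AtPrime p ⊗[B] (B ⧸ p)))
        (ModuleCat.of (Localization.AtPrime p) (Localization.AtPrime p ⊗[B] B)) r) = 1 := by
    rw [e2.length_eq]
    exact hlen
  have hWs := Module.length_eq_one_iff.mp hlen2
  obtain ⟨I, hI, ⟨eI⟩⟩ := isSimpleModule_iff_quot_maximal.mp hWs
  obtain ⟨J, hJ, ⟨eJ⟩⟩ := isSimpleModule_iff_quot_maximal.mp hXs
  have hIJ : I = J := (IsLocalRing.eq_maximalIdeal hI).trans (IsLocalRing.eq_maximalIdeal hJ).symm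
  subst hIJ
  exact ⟨e1.trans (eI.trans eJ.symm)⟩

include hn hr in
/-- `ω` embeds into `B/p`, and is non-zero. -/
theorem exists_embedding :
    ∃ h : Om B p r →ₗ[B] (B ⧸ p), Function.Injective h ∧ Nontrivial (Om B p r) := by
  obtain ⟨Φ⟩ := rank_one B p r hr
  let f : (B ⧸ p) →ₗ[B] Localization.AtPrime p ⊗[B] (B ⧸ p) :=
    TensorProduct.mk B (Localization.AtPrime p) (B ⧸ p) 1
  let gω : Om B p r →ₗ[B] Localization.AtPrime p ⊗[B] Om B p r :=
    TensorProduct.mk B (Localization.AtPrime p) (Om B p r) 1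
  let g : Om B p r →ₗ[B] Localization.AtPrime p ⊗[B] (B ⧸ p) :=
    (Φ.toLinearMap.restrictScalars B) ∘ₗ gω
  haveI : Module.FinitePresentation B (Om B p r) := Module.finitePresentation_of_finite B _
  obtain ⟨h, s, hs⟩ :=
    Module.FinitePresentation.exists_lift_of_isLocalizedModule p.primeCompl f g
  refine ⟨h, ?_, ?_⟩
  · rw [injective_iff_map_eq_zero]
    intro x hx
    have h1 : s • g x = 0 := by
      rw [← LinearMap.smul_apply, ← hs, LinearMap.comp_apply, hx, map_zero]
    have hinj := ((Module.End.isUnit_iff _).mp (IsLocalizedModule.map_units f s)).1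
    have h2 : g x = 0 := by
      apply hinj
      rw [map_zero]
      exact h1
    have h3 : gω x = 0 := Φ.injective (h2.trans (map_zero Φ).symm)
    obtain ⟨c, hc⟩ := (IsLocalizedModule.eq_zero_iff p.primeCompl gω).mp h3
    exact torsionFree B n hn p r hr c c.2 (hc.trans (smul_zero (c : B)).symm)
  · by_contra hnt
    rw [not_nontrivial_iff_subsingleton] at hnt
    haveI := hnt
    haveI hXs := simple_fiber B p
    haveI : Subsingleton (Localization.AtPrime p ⊗[B] (B ⧸ p)) := Φ.symm.toEquiv.subsingleton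
    haveI : Nontrivial (Localization.AtPrime p ⊗[B] (B ⧸ p)) :=
      IsSimpleModule.nontrivial (Localization.AtPrime p) _
    exact not_subsingleton (Localization.AtPrime p ⊗[B] (B ⧸ p)) inferInstance

end omega

end Groth.Agent.Lib.CanId
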