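import Mathlib
import Groth.Prelude.Def_CAlg
import Groth.Prelude.Def_EGA4b
import Groth.Prelude.Def_FlatCA
import Groth.Agent.Lib.FibDepth_helper3
import Groth.Agent.Lib.FlatDepth3_helper3
import Groth.Agent.Lib.DoubleLoc_helper6
import Groth.Agent.Lib.FlatLocusNoeth_helper6

/-!
# Flatness of the cokernel versus fibrewise depth of the kernel, pointwise on `Spec B` (helper3)
-/

set_option autoImplicit false
set_option linter.style.haveILetI false
universe u

namespace Groth.Agent.Lib.FlatFibDepthH3

open RingTheory.Sequence Pointwise Groth.Agent.DepthLib TensorProduct IsLocalRing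
open Groth.Agent.Lib.FibDepthH3

section ringchange

theorem idealDepth_le_map_of_surjective {S T : Type u} [CommRing S] [CommRing T] (φ : S →+* T)
    (M : Type u) [AddCommGroup M] [Module S M] [Module T M]
    (hsm : ∀ (s : S) (m : M), φ s • m = s • m) (I : Ideal S) :
    LocCoh.idealDepth I M ≤ LocCoh.idealDepth (I.map φ) M := by
  letI : Algebra S T := φ.toAlgebra
  haveI : IsScalarTower S T M := IsScalarTower.of_algebraMap_smul hsm
  rw [← ENat.forall_natCast_le_iff_le]
  intro n hn
  rw [le_idealDepth_iff] at hn ⊢
  rcases hn with h | ⟨rs, h1, h2, h3⟩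
  · left
    rw [eq_top_iff]
    intro m _
    have hm : m ∈ I • (⊤ : Submodule S M) := by rw [h]; trivial
    refine Submodule.smul_induction_on hm ?_ ?_
    · intro s hs m' _
      rw [← hsm]
      exact Submodule.smul_mem_smul (Ideal.mem_map_of_mem φ hs) trivial
    · intro x y hx hy
      exact Submodule.add_mem _ hx hy
  · right
    refine ⟨rs.map (algebraMap S T), ?_, ?_, ?_⟩
    · exact (isWeaklyRegular_map_algebraMap_iff (S := T) (M := M) rs).2 h1
    · intro t ht
      obtain ⟨s, hs, rfl⟩ := List.mem_map.1 ht
      exact Ideal.mem_map_of_mem φ (h2 s hs)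
    · rw [List.length_map, h3]

theorem idealDepth_mono {S : Type u} [CommRing S] {I I' : Ideal S} (h : I ≤ I')
    (M : Type u) [AddCommGroup M] [Module S M] :
    LocCoh.idealDepth I M ≤ LocCoh.idealDepth I' M := by
  rw [← ENat.forall_natCast_le_iff_le]
  intro n hn
  rw [le_idealDepth_iff] at hn ⊢
  rcases hn with h' | ⟨rs, h1, h2, h3⟩
  · left
    rw [eq_top_iff]
    calc (⊤ : Submodule S M) = I • ⊤ := h'.symm
      _ ≤ I' • ⊤ := Submodule.smul_mono_left h
  · right
    exact ⟨rs, h1, fun r hr => h (h2 r hr), h3⟩

end ringchange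

section locquot

/-- localisation commutes with `E ↦ E / 𝔟 E` -/
noncomputable def locQuotEquiv {B : Type u} [CommRing B] (E : Type u) [AddCommGroup E] [Module B E]
    (𝔟 : Ideal B) (Q : Ideal B) [Q.IsPrime] :
    LocalizedModule Q.primeCompl (E ⧸ (𝔟 • ⊤ : Submodule B E)) ≃ₗ[Localization.AtPrime Q]
      (LocalizedModule Q.primeCompl E ⧸ (𝔟.map (algebraMap B (Localization.AtPrime Q)) •
        (⊤ : Submodule (Localization.AtPrime Q) (LocalizedModule Q.primeCompl E)))) :=
  (localizedQuotientEquiv _ _).symm ≪≫ₗ
    Submodule.quotEquivOfEq _ _ (by rw [Submodule.localized,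
      Submodule.localized'_smul, Ideal.localized'_eq_map, Submodule.localized'_top])

end locquot

section pointwise

variable (A B : Type u) [CommRing A] [CommRing B] [IsNoetherianRing B] [Algebra A B]
  (J : Ideal B) (E : Type u) [AddCommGroup E] [Module B E] [Module.Finite B E]

theorem map_maximalIdeal_fibLocRing (Q : Ideal B) [Q.IsPrime] :
    (maximalIdeal (Localization.AtPrime Q)).map
      (Ideal.Quotient.mk ((Q.comap (algebraMap A B)).map
        (algebraMap A (Localization.AtPrime Q)))) =
      Q.map (algebraMap B (EGA4.FibLocRing A B Q)) := by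
  rw [← Localization.AtPrime.map_eq_maximalIdeal, Ideal.map_map]
  rfl

/-- fibrewise depth bounds at all generisations of `q` give a `J`-depth bound for the fibre module
over `B_q` -/
theorem le_idealDepth_loc_of_pointwise (q : Ideal B) [q.IsPrime] (k : ℕ)
    (h : ∀ Q : PrimeSpectrum B, Q.asIdeal ≤ q → J ≤ Q.asIdeal →
      (k : ℕ∞) ≤ LocCoh.idealDepth (Q.asIdeal.map (algebraMap B (EGA4.FibLocRing A B Q.asIdeal)))
        (EGA4.FibLocMod A B Q.asIdeal E)) :
    (k : ℕ∞) ≤ LocCoh.idealDepth (J.map (algebraMap B (Localization.AtPrime q)))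
      (EGA4.FibLocMod A B q E) := by
  set S := Localization.AtPrime q with hS
  set p : Ideal A := q.comap (algebraMap A B) with hp
  set 𝔟 : Ideal B := p.map (algebraMap A B) with h𝔟
  set X := E ⧸ (𝔟 • ⊤ : Submodule B E) with hX
  have hmapmap : ∀ (Q : Ideal B) [Q.IsPrime], 𝔟.map (algebraMap B (Localization.AtPrime Q)) =
      p.map (algebraMap A (Localization.AtPrime Q)) := by
    intro Q _
    rw [h𝔟, Ideal.map_map, ← IsScalarTower.algebraMap_eq]
  let e0 : LocalizedModule q.primeCompl X ≃ₗ[S] EGA4.FibLocMod A B q E :=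
    (locQuotEquiv E 𝔟 q).trans (Submodule.quotEquivOfEq _ _ (by rw [hmapmap q]))
  rw [← idealDepth_congr _ _ e0]
  apply le_idealDepth_of_forall_localization _ k (LocalizedModule q.primeCompl X)
  intro q' hq' hJq'
  rw [Groth.Agent.Lib.DoubleLoc_helper6.depth_eq X q.primeCompl q']
  set Q : Ideal B := q'.comap (algebraMap B (Localization q.primeCompl)) with hQ
  haveI hQprime : Q.IsPrime := Ideal.comap_isPrime _ _
  have hQq : Q ≤ q := by
    intro x hx
    by_contra hxq
    have hu : IsUnit (algebraMap B (Localization q.primeCompl) x) :=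
      IsLocalization.map_units _ (⟨x, hxq⟩ : q.primeCompl)
    exact hq'.ne_top (Ideal.eq_top_of_isUnit_mem _ hx hu)
  have hJQ : J ≤ Q := Ideal.map_le_iff_le_comap.1 hJq'
  by_cases hQp : Q.comap (algebraMap A B) = p
  · let e1 : LocalizedModule Q.primeCompl X ≃ₗ[Localization.AtPrime Q] EGA4.FibLocMod A B Q E :=
      (locQuotEquiv E 𝔟 Q).trans (Submodule.quotEquivOfEq _ _ (by rw [hmapmap Q, hQp]))
    unfold LocCoh.depth
    rw [idealDepth_congr _ _ e1]
    have h5 := idealDepth_map_le_of_surjective
      (Ideal.Quotient.mk ((Q.comap (algebraMap A B)).map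
        (algebraMap A (Localization.AtPrime Q)))) Ideal.Quotient.mk_surjective
      (EGA4.FibLocMod A B Q E) (fun _ _ => rfl) (maximalIdeal (Localization.AtPrime Q))
    rw [map_maximalIdeal_fibLocRing] at h5
    exact (h ⟨Q, hQprime⟩ hQq hJQ).trans h5
  · have hlt : Q.comap (algebraMap A B) < p :=
      lt_of_le_of_ne (Ideal.comap_mono hQq) hQp
    obtain ⟨a, hap, haQ⟩ := SetLike.exists_of_lt hlt
    haveI : Subsingleton (LocalizedModule Q.primeCompl X) := by
      rw [LocalizedModule.subsingleton_iff]
      intro x
      refine ⟨algebraMap A B a, haQ, ?_⟩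
      obtain ⟨e, rfl⟩ := Submodule.Quotient.mk_surjective _ x
      rw [← Submodule.Quotient.mk_smul, Submodule.Quotient.mk_eq_zero]
      exact Submodule.smul_mem_smul (Ideal.mem_map_of_mem _ hap) trivial
    unfold LocCoh.depth
    rw [idealDepth_of_subsingleton]
    exact le_top

theorem le_fibDepth_of_le_idealDepth_loc (q : Ideal B) [q.IsPrime] (hJq : J ≤ q) (k : ℕ∞)
    (h : k ≤ LocCoh.idealDepth (J.map (algebraMap B (Localization.AtPrime q)))
      (EGA4.FibLocMod A B q E)) :
    k ≤ LocCoh.idealDepth (q.map (algebraMap B (EGA4.FibLocRing A B q)))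
      (EGA4.FibLocMod A B q E) := by
  have h1 : J.map (algebraMap B (Localization.AtPrime q)) ≤
      maximalIdeal (Localization.AtPrime q) := by
    rw [← Localization.AtPrime.map_eq_maximalIdeal]
    exact Ideal.map_mono hJq
  have h2 := idealDepth_mono h1 (EGA4.FibLocMod A B q E)
  have h3 := idealDepth_le_map_of_surjective
    (Ideal.Quotient.mk ((q.comap (algebraMap A B)).map
      (algebraMap A (Localization.AtPrime q))))
    (EGA4.FibLocMod A B q E) (fun _ _ => rfl) (maximalIdeal (Localization.AtPrime q))
  rw [map_maximalIdeal_fibLocRing] at h3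
  exact h.trans (h2.trans h3)

end pointwise

section doubleLoc

variable {A B : Type u} [CommRing A] [CommRing B] [Algebra A B]
  (G : Type u) [AddCommGroup G] [Module B G] [Module A G] [IsScalarTower A B G]

set_option backward.isDefEq.respectTransparency false in
theorem flat_doubleLoc (T : Submonoid B) (p : Ideal (Localization T)) [hp : p.IsPrime]
    (h : Module.Flat A (LocalizedModule (p.comap (algebraMap B (Localization T))).primeCompl G)) :
    Module.Flat A (LocalizedModule p.primeCompl (LocalizedModule T G)) := by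
  let p' := p.comap (algebraMap B (Localization T))
  have hp' : T ≤ p'.primeCompl := fun x hx H ↦
    hp.ne_top (Ideal.eq_top_of_isUnit_mem _ H (IsLocalization.map_units _ ⟨x, hx⟩))
  let Rₚ := Localization.AtPrime p'
  let Mₚ := LocalizedModule p'.primeCompl G
  letI : Algebra (Localization T) Rₚ :=
    IsLocalization.localizationAlgebraOfSubmonoidLe _ _ T p'.primeCompl hp'
  haveI : IsScalarTower B (Localization T) Rₚ :=
    IsLocalization.localization_isScalarTower_of_submonoid_le ..
  letI : Module (Localization T) Mₚ := Module.compHom Mₚ (algebraMap _ Rₚ)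
  haveI : IsScalarTower B (Localization T) Mₚ :=
    ⟨fun r r' m ↦ show algebraMap _ Rₚ (r • r') • m = _ by
      simp [p', Rₚ, Mₚ, Algebra.smul_def, ← IsScalarTower.algebraMap_apply, mul_smul]; rfl⟩
  haveI : IsScalarTower (Localization T) Rₚ Mₚ :=
    ⟨fun r r' m ↦ show _ = algebraMap _ Rₚ r • r' • m by rw [← mul_smul, ← Algebra.smul_def]⟩
  let l := (IsLocalizedModule.liftOfLE _ _ hp' (LocalizedModule.mkLinearMap T G)
    (LocalizedModule.mkLinearMap p'.primeCompl G)).extendScalarsOfIsLocalization T
    (Localization T)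
  haveI : IsLocalizedModule p.primeCompl l := by
    have : IsLocalizedModule p'.primeCompl (l.restrictScalars B) :=
      inferInstanceAs (IsLocalizedModule p'.primeCompl
        (IsLocalizedModule.liftOfLE _ _ hp' (LocalizedModule.mkLinearMap T G)
        (LocalizedModule.mkLinearMap p'.primeCompl G)))
    have : IsLocalizedModule (Algebra.algebraMapSubmonoid (Localization T) p'.primeCompl) l :=
      IsLocalizedModule.of_restrictScalars p'.primeCompl ..
    apply IsLocalizedModule.of_exists_mul_mem
      (Algebra.algebraMapSubmonoid (Localization T) p'.primeCompl)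
    · rintro _ ⟨x, hx, rfl⟩; exact hx
    · rintro ⟨x, hx⟩
      obtain ⟨x, s, rfl⟩ := IsLocalization.exists_mk'_eq T x
      refine ⟨algebraMap _ _ s.1, x, fun H ↦ hx ?_, by simp⟩
      rw [IsLocalization.mk'_eq_mul_mk'_one]
      exact Ideal.mul_mem_right _ _ H
  let ε : LocalizedModule p.primeCompl (LocalizedModule T G) ≃ₗ[Localization T] Mₚ :=
    IsLocalizedModule.iso p.primeCompl l
  haveI : IsScalarTower A (Localization T) Mₚ := by
    refine IsScalarTower.of_algebraMap_smul fun a m => ?_
    rw [IsScalarTower.algebraMap_apply A B (Localization T), algebraMap_smul, algebraMap_smul]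
  haveI : Module.Flat A Mₚ := h
  exact Module.Flat.of_linearEquiv (ε.restrictScalars A)

end doubleLoc

section setup

variable (A B : Type u) [CommRing A] [CommRing B] [Algebra A B] (q : Ideal B) [q.IsPrime]

/-- the algebra structure `A_p → B_q` -/
@[instance_reducible]
noncomputable def algRS :
    Algebra (Localization.AtPrime (q.comap (algebraMap A B))) (Localization.AtPrime q) :=
  (Localization.localRingHom (q.comap (algebraMap A B)) q (algebraMap A B) rfl).toAlgebra

attribute [local instance] algRS

/-- the `A_p`-module structure on a `B_q`-module -/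
@[instance_reducible]
noncomputable def modRN (X : Type u) [AddCommGroup X] [Module B X] :
    Module (Localization.AtPrime (q.comap (algebraMap A B))) (LocalizedModule q.primeCompl X) :=
  Module.compHom _ (algebraMap (Localization.AtPrime (q.comap (algebraMap A B)))
    (Localization.AtPrime q))

attribute [local instance] modRN

theorem isLocalHom_RS : IsLocalHom (algebraMap (Localization.AtPrime (q.comap (algebraMap A B)))
    (Localization.AtPrime q)) :=
  Localization.isLocalHom_localRingHom _ q _ rfl

theorem hcomp : (algebraMap (Localization.AtPrime (q.comap (algebraMap A B)))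
    (Localization.AtPrime q)).comp
    (algebraMap A (Localization.AtPrime (q.comap (algebraMap A B)))) =
      algebraMap A (Localization.AtPrime q) := by
  ext a
  change Localization.localRingHom _ q (algebraMap A B) rfl (algebraMap A _ a) = _
  rw [Localization.localRingHom_to_map]
  exact (IsScalarTower.algebraMap_apply A B (Localization.AtPrime q) a).symm

theorem towerARS : IsScalarTower A (Localization.AtPrime (q.comap (algebraMap A B)))
    (Localization.AtPrime q) :=
  IsScalarTower.of_algebraMap_eq' (hcomp A B q).symm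

variable (X : Type u) [AddCommGroup X] [Module B X]

theorem towerRSN : IsScalarTower (Localization.AtPrime (q.comap (algebraMap A B)))
    (Localization.AtPrime q) (LocalizedModule q.primeCompl X) :=
  IsScalarTower.of_algebraMap_smul fun _ _ => rfl

theorem towerARN [Module A X] [IsScalarTower A B X] :
    IsScalarTower A (Localization.AtPrime (q.comap (algebraMap A B)))
      (LocalizedModule q.primeCompl X) := by
  refine IsScalarTower.of_algebraMap_smul fun a n => ?_
  change algebraMap (Localization.AtPrime (q.comap (algebraMap A B))) (Localization.AtPrime q)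
    (algebraMap A (Localization.AtPrime (q.comap (algebraMap A B))) a) • n = a • n
  have : algebraMap (Localization.AtPrime (q.comap (algebraMap A B))) (Localization.AtPrime q)
      (algebraMap A (Localization.AtPrime (q.comap (algebraMap A B))) a) =
      algebraMap A (Localization.AtPrime q) a := by
    rw [← hcomp A B q]; rfl
  rw [this, algebraMap_smul]

attribute [local instance] isLocalHom_RS towerARS towerRSN towerARN

theorem hideal : (maximalIdeal (Localization.AtPrime (q.comap (algebraMap A B)))).map
    (algebraMap (Localization.AtPrime (q.comap (algebraMap A B))) (Localization.AtPrime q)) =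
      (q.comap (algebraMap A B)).map (algebraMap A (Localization.AtPrime q)) := by
  rw [← Localization.AtPrime.map_eq_maximalIdeal, Ideal.map_map, hcomp]

/-- the closed fibre module of `X_q` over `A_p → B_q` is the fibre stalk -/
noncomputable def eFib : EGA4.FibMod (Localization.AtPrime (q.comap (algebraMap A B)))
    (Localization.AtPrime q) (LocalizedModule q.primeCompl X) ≃ₗ[Localization.AtPrime q]
      EGA4.FibLocMod A B q X :=
  Submodule.quotEquivOfEq _ _ (by
    change (maximalIdeal (Localization.AtPrime (q.comap (algebraMap A B)))).map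
      (algebraMap (Localization.AtPrime (q.comap (algebraMap A B)))
        (Localization.AtPrime q)) • _ = _
    rw [hideal])

end setup

section local_equiv

attribute [local instance] algRS modRN isLocalHom_RS towerARS towerRSN towerARN

variable (A B : Type u) [CommRing A] [CommRing B]
    [IsNoetherianRing A] [IsNoetherianRing B] [Algebra A B] (J : Ideal B)
    (F E0 E1 G : Type u) [AddCommGroup F] [Module B F] [Module A F] [IsScalarTower A B F]
    [Module.Finite B F]
    [AddCommGroup E0] [Module B E0] [Module A E0] [IsScalarTower A B E0] [Module.Finite B E0]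
    [Module.Flat A E0]
    [AddCommGroup E1] [Module B E1] [Module A E1] [IsScalarTower A B E1] [Module.Finite B E1]
    [Module.Flat A E1]
    [AddCommGroup G] [Module B G] [Module A G] [IsScalarTower A B G] [Module.Finite B G]
    (f : F →ₗ[B] E0) (u : E0 →ₗ[B] E1) (v : E1 →ₗ[B] G)

include f u v in
theorem local_equiv
    (hf : Function.Injective f) (hfu : Function.Exact f u) (huv : Function.Exact u v)
    (hv : Function.Surjective v)
    (hGU : ∀ q : PrimeSpectrum B, ¬ J ≤ q.asIdeal → FlatCA.FlatAt A q.asIdeal G)
    (h0 : ∀ q : PrimeSpectrum B, J ≤ q.asIdeal →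
      2 ≤ LocCoh.idealDepth (q.asIdeal.map (algebraMap B (EGA4.FibLocRing A B q.asIdeal)))
        (EGA4.FibLocMod A B q.asIdeal E0))
    (h1 : ∀ q : PrimeSpectrum B, J ≤ q.asIdeal →
      1 ≤ LocCoh.idealDepth (q.asIdeal.map (algebraMap B (EGA4.FibLocRing A B q.asIdeal)))
        (EGA4.FibLocMod A B q.asIdeal E1))
    (q : Ideal B) [q.IsPrime] :
    (FlatCA.FlatAt A q G ↔
      2 ≤ LocCoh.idealDepth (J.map (algebraMap B (Localization.AtPrime q)))
        (EGA4.FibLocMod A B q F)) ∧
    (FlatCA.FlatAt A q G → FlatCA.FlatAt A q F) := by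
  set p : Ideal A := q.comap (algebraMap A B) with hp
  set R := Localization.AtPrime p with hR
  set S := Localization.AtPrime q with hS
  set JS : Ideal S := J.map (algebraMap B S) with hJS
  haveI : Module.Flat A (LocalizedModule q.primeCompl E0) :=
    Groth.Agent.Lib.FlatDepth3H3.flat_localizedModule q.primeCompl E0
  haveI : Module.Flat R (LocalizedModule q.primeCompl E0) :=
    (Module.flat_iff_of_isLocalization R p.primeCompl _).2 inferInstance
  haveI : Module.Flat A (LocalizedModule q.primeCompl E1) :=
    Groth.Agent.Lib.FlatDepth3H3.flat_localizedModule q.primeCompl E1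
  haveI : Module.Flat R (LocalizedModule q.primeCompl E1) :=
    (Module.flat_iff_of_isLocalization R p.primeCompl _).2 inferInstance
  have h0S : 2 ≤ LocCoh.idealDepth JS (EGA4.FibMod R S (LocalizedModule q.primeCompl E0)) := by
    rw [idealDepth_congr _ _ (eFib A B q E0)]
    have := le_idealDepth_loc_of_pointwise A B J E0 q 2
      (fun Q _ hJQ => by exact_mod_cast h0 Q hJQ)
    exact_mod_cast this
  have h1S : 1 ≤ LocCoh.idealDepth JS (EGA4.FibMod R S (LocalizedModule q.primeCompl E1)) := by
    rw [idealDepth_congr _ _ (eFib A B q E1)]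
    have := le_idealDepth_loc_of_pointwise A B J E1 q 1
      (fun Q _ hJQ => by exact_mod_cast h1 Q hJQ)
    exact_mod_cast this
  have hGUS : ∀ q'' : PrimeSpectrum S, ¬ JS ≤ q''.asIdeal →
      FlatCA.FlatAt R q''.asIdeal (LocalizedModule q.primeCompl G) := by
    intro q'' hq''
    unfold FlatCA.FlatAt
    have hQ : ¬ J ≤ q''.asIdeal.comap (algebraMap B S) :=
      fun hJ => hq'' (Ideal.map_le_iff_le_comap.2 hJ)
    have hflatA := flat_doubleLoc (A := A) G q.primeCompl q''.asIdeal
      (hGU ⟨q''.asIdeal.comap (algebraMap B S), inferInstance⟩ hQ)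
    exact (Module.flat_iff_of_isLocalization R p.primeCompl _).2 hflatA
  obtain ⟨iff1, -, imp3⟩ := Groth.Agent.Lib.FlatDepth3H3.main R S JS
    (LocalizedModule q.primeCompl F) (LocalizedModule q.primeCompl E0)
    (LocalizedModule q.primeCompl E1) (LocalizedModule q.primeCompl G)
    (LocalizedModule.map q.primeCompl f) (LocalizedModule.map q.primeCompl u)
    (LocalizedModule.map q.primeCompl v)
    (LocalizedModule.map_injective q.primeCompl f hf)
    (LocalizedModule.map_exact q.primeCompl f u hfu)
    (LocalizedModule.map_exact q.primeCompl u v huv)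
    (LocalizedModule.map_surjective q.primeCompl v hv) hGUS h0S h1S
  have hflatG : FlatCA.FlatAt A q G ↔ Module.Flat R (LocalizedModule q.primeCompl G) :=
    (Module.flat_iff_of_isLocalization R p.primeCompl (LocalizedModule q.primeCompl G)).symm
  refine ⟨?_, ?_⟩
  · rw [hflatG, ← iff1, idealDepth_congr _ _ (eFib A B q F)]
  · intro hG
    have := imp3 (hflatG.1 hG)
    exact (Module.flat_iff_of_isLocalization R p.primeCompl (LocalizedModule q.primeCompl F)).1 this

end local_equiv

section main

theorem main18725 (A B : Type u) [CommRing A] [CommRing B]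
    [IsNoetherianRing A] [IsNoetherianRing B] [Algebra A B] (hft : Algebra.FiniteType A B)
    (J : Ideal B)
    (F E0 E1 G : Type u) [AddCommGroup F] [Module B F] [Module A F] [IsScalarTower A B F]
    [Module.Finite B F]
    [AddCommGroup E0] [Module B E0] [Module A E0] [IsScalarTower A B E0] [Module.Finite B E0]
    [Module.Flat A E0]
    [AddCommGroup E1] [Module B E1] [Module A E1] [IsScalarTower A B E1] [Module.Finite B E1]
    [Module.Flat A E1]
    [AddCommGroup G] [Module B G] [Module A G] [IsScalarTower A B G] [Module.Finite B G]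
    (f : F →ₗ[B] E0) (u : E0 →ₗ[B] E1) (v : E1 →ₗ[B] G)
    (hf : Function.Injective f) (hfu : Function.Exact f u) (huv : Function.Exact u v)
    (hv : Function.Surjective v)
    (hGU : ∀ q : PrimeSpectrum B, ¬ J ≤ q.asIdeal → FlatCA.FlatAt A q.asIdeal G)
    (h0 : ∀ q : PrimeSpectrum B, J ≤ q.asIdeal →
      2 ≤ LocCoh.idealDepth (q.asIdeal.map (algebraMap B (EGA4.FibLocRing A B q.asIdeal)))
        (EGA4.FibLocMod A B q.asIdeal E0))
    (h1 : ∀ q : PrimeSpectrum B, J ≤ q.asIdeal →
      1 ≤ LocCoh.idealDepth (q.asIdeal.map (algebraMap B (EGA4.FibLocRing A B q.asIdeal)))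
        (EGA4.FibLocMod A B q.asIdeal E1))
    (n : PrimeSpectrum B) :
    FlatCA.FlatAt A n.asIdeal G ↔
      ∃ s : B, s ∉ n.asIdeal ∧ ∀ q : PrimeSpectrum B, s ∉ q.asIdeal →
        FlatCA.FlatAt A q.asIdeal F ∧
        (J ≤ q.asIdeal →
          2 ≤ LocCoh.idealDepth (q.asIdeal.map (algebraMap B (EGA4.FibLocRing A B q.asIdeal)))
            (EGA4.FibLocMod A B q.asIdeal F)) := by
  have key := fun (q : Ideal B) [q.IsPrime] =>
    local_equiv A B J F E0 E1 G f u v hf hfu huv hv hGU h0 h1 q
  constructor
  · intro hn
    haveI := hft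
    have hopen := Groth.Agent.Lib.FlatLocusNoethH6.isOpen_flatLocus (A := A) (B := B) G
    obtain ⟨V, ⟨s, rfl⟩, hnV, hVU⟩ :=
      PrimeSpectrum.isTopologicalBasis_basic_opens.exists_subset_of_mem_open
        (show n ∈ {q : PrimeSpectrum B | Module.Flat A (LocalizedModule q.asIdeal.primeCompl G)}
          from hn) hopen
    refine ⟨s, hnV, fun q hsq => ?_⟩
    have hGq : FlatCA.FlatAt A q.asIdeal G := hVU hsq
    obtain ⟨k1, k2⟩ := key q.asIdeal
    refine ⟨k2 hGq, fun hJq => ?_⟩
    exact le_fibDepth_of_le_idealDepth_loc A B J F q.asIdeal hJq 2 (k1.1 hGq)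
  · rintro ⟨s, hsn, hs⟩
    obtain ⟨k1, -⟩ := key n.asIdeal
    apply k1.2
    have := le_idealDepth_loc_of_pointwise A B J F n.asIdeal 2 (fun Q hQn hJQ => by
      have hsQ : s ∉ Q.asIdeal := fun h => hsn (hQn h)
      exact_mod_cast (hs Q hsQ).2 hJQ)
    exact_mod_cast this

end main

end Groth.Agent.Lib.FlatFibDepthH3
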