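import Mathlib
import Groth.Prelude.Def_Wider
import Groth.Prelude.Def_CAlg
import Groth.Agent.Lib.CanId2_helper5
import Groth.Agent.Lib.DepthAss_helper5
import Groth.Agent.Lib.FlatFibDepth_helper3

/-!
# `Ext^r_B(B/p, B)` is an unmixed ideal of height one (helper5)
-/

set_option autoImplicit false
set_option linter.style.haveILetI false
universe u
open CategoryTheory CategoryTheory.Limits Abelian IsLocalRing RingTheory.Sequence
open Pointwise TensorProduct

namespace Groth.Agent.Lib.CanId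

open Groth.Agent.DepthLib Groth.Agent.GlDim Groth.Agent.ExtTop Groth.Agent.ExtDev
  Groth.Agent.InjDimLocal

section ideal

variable {B : Type u} [CommRing B] (p : Ideal B)

/-- a `B`-submodule of `B/p` is an ideal -/
def toIdeal (N : Submodule B (B ⧸ p)) : Ideal (B ⧸ p) where
  carrier := N
  add_mem' := N.add_mem
  zero_mem' := N.zero_mem
  smul_mem' := fun c x hx => by
    obtain ⟨b, rfl⟩ := Ideal.Quotient.mk_surjective c
    exact N.smul_mem b hx

lemma mem_toIdeal (N : Submodule B (B ⧸ p)) (x : B ⧸ p) : x ∈ toIdeal p N ↔ x ∈ N := Iff.rfl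

/-- the identification of `N` with the ideal it defines -/
def toIdealEquiv (N : Submodule B (B ⧸ p)) : N ≃ₗ[B] toIdeal p N where
  toFun x := ⟨x.1, x.2⟩
  invFun x := ⟨x.1, x.2⟩
  map_add' _ _ := rfl
  map_smul' _ _ := rfl
  left_inv _ := rfl
  right_inv _ := rfl

end ideal

section main

variable (B : Type u) [CommRing B] [IsRegularLocalRing B] (n : ℕ) (hn : ringKrullDim B = n)
  (p : Ideal B) [p.IsPrime] (r : ℕ) (hr : p.height = r)
  [hA : LocCoh.IsCohenMacaulayLocalRing (B ⧸ p)]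

include hn in
/-- `depth ω ≥ d`. -/
theorem depth_om (d : ℕ) (hd : ringKrullDim (B ⧸ p) = (d : WithBot ℕ∞)) (hrd : r + d = n) :
    (d : ℕ∞) ≤ LocCoh.idealDepth (maximalIdeal B) (Om B p r) := by
  obtain ⟨hdim, hdepth⟩ := quot_hyp B p d hd
  have h1 := (le_idealDepth_iff (maximalIdeal B) (B ⧸ p) d).mp hdepth
  rcases h1 with htop | ⟨rs, hreg, hmem, hlen⟩
  · exfalso
    have := Groth.Agent.AB.subsingleton_of_smul_top B (B ⧸ p) htop
    exact not_subsingleton (B ⧸ p) this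
  · have h2 := regular_transfer B n hn rs (B ⧸ p) d r hrd hdim hdepth (le_of_eq hlen) hmem hreg
    exact (le_idealDepth_iff (maximalIdeal B) (Om B p r) d).mpr (Or.inr ⟨rs, h2, hmem, hlen⟩)

include hn hr in
/-- `ω` is isomorphic to an ideal of `B/p` which, if proper, is unmixed of height one. -/
theorem main : ∃ I : Ideal (B ⧸ p), Nonempty (Om B p r ≃ₗ[B] I) ∧
    (I ≠ ⊤ → ∀ q ∈ associatedPrimes (B ⧸ p) ((B ⧸ p) ⧸ I), q.height = 1) := by
  obtain ⟨d, hd, hrd⟩ := dims B n hn p r hr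
  obtain ⟨h, hinj, hnt⟩ := exists_embedding B n hn p r hr
  let I : Ideal (B ⧸ p) := toIdeal p (LinearMap.range h)
  let e : Om B p r ≃ₗ[B] I :=
    (LinearEquiv.ofInjective h hinj).trans (toIdealEquiv p (LinearMap.range h))
  refine ⟨I, ⟨e⟩, fun hT q hq => ?_⟩
  obtain ⟨-, hdepthA⟩ := quot_hyp B p d hd
  have hdI : (d : ℕ∞) ≤ LocCoh.idealDepth (maximalIdeal B) I := by
    rw [← idealDepth_congr (maximalIdeal B) (Om B p r) e]
    exact depth_om B n hn p r d hd hrd
  haveI : Module.Finite B I := Module.Finite.equiv e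
  haveI : Module.Finite B ((B ⧸ p) ⧸ I) :=
    Module.Finite.of_surjective ((Submodule.mkQ I).restrictScalars B) (Submodule.mkQ_surjective I)
  obtain ⟨-, h2, -⟩ := depth_ses (maximalIdeal B) I (B ⧸ p) ((B ⧸ p) ⧸ I)
    (I.subtype.restrictScalars B) ((Submodule.mkQ I).restrictScalars B)
    (Submodule.injective_subtype I) (Submodule.mkQ_surjective I)
    (LinearMap.exact_subtype_mkQ I)
  have hdQ : ((d - 1 : ℕ) : ℕ∞) ≤ LocCoh.idealDepth (maximalIdeal B) ((B ⧸ p) ⧸ I) := by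
    refine le_trans (le_min ?_ ?_) h2
    · exact le_trans (by exact_mod_cast Nat.sub_le d 1) hdepthA
    · have : ((d - 1 : ℕ) : ℕ∞) = (d : ℕ∞) - 1 := by push_cast; rfl
      rw [this]
      exact tsub_le_tsub_right hdI 1
  have hdQ' : ((d - 1 : ℕ) : ℕ∞) ≤ LocCoh.depth (B ⧸ p) ((B ⧸ p) ⧸ I) := by
    unfold LocCoh.depth
    rw [← map_maximalIdeal B p]
    exact le_trans hdQ (Groth.Agent.Lib.FlatFibDepthH3.idealDepth_le_map_of_surjective
      (Ideal.Quotient.mk p) ((B ⧸ p) ⧸ I) (fun s m => rfl) (maximalIdeal B))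
  haveI := hq.isPrime
  have hq' := depth_le_ringKrullDim_quotient (B ⧸ p) ((B ⧸ p) ⧸ I) q hq
  have hle := Groth.Agent.RegularLib.height_add_ringKrullDim_quotient_le q
  rw [hd] at hle
  -- `ht q ≤ 1`
  have hht1 : q.height ≤ 1 := by
    have h3 : (((d - 1 : ℕ) : ℕ∞) : WithBot ℕ∞) ≤ ringKrullDim ((B ⧸ p) ⧸ q) :=
      le_trans (by exact_mod_cast hdQ') hq'
    have h4 : (q.height : WithBot ℕ∞) + (((d - 1 : ℕ) : ℕ∞) : WithBot ℕ∞) ≤ (d : WithBot ℕ∞) :=
      le_trans (add_le_add_right h3 _) hle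
    have h5 : q.height + ((d - 1 : ℕ) : ℕ∞) ≤ (d : ℕ∞) := by exact_mod_cast h4
    by_contra hcon
    push Not at hcon
    have h6 : (2 : ℕ∞) ≤ q.height := by
      have := Order.add_one_le_of_lt hcon
      exact_mod_cast this
    have h7 : (2 : ℕ∞) + ((d - 1 : ℕ) : ℕ∞) ≤ (d : ℕ∞) := le_trans (add_le_add_left h6 _) h5
    have h8 : 2 + (d - 1) ≤ d := by exact_mod_cast h7
    omega
  -- `ht q ≠ 0`
  have hIq : I ≤ q := by
    obtain ⟨-, x, hx⟩ := isAssociatedPrime_iff.mp hq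
    intro a ha
    obtain ⟨y, rfl⟩ := Submodule.Quotient.mk_surjective _ x
    rw [hx, Submodule.mem_colon_singleton, Submodule.mem_bot, ← Submodule.Quotient.mk_smul,
      Submodule.Quotient.mk_eq_zero, smul_eq_mul]
    exact I.mul_mem_right y ha
  have hIne : I ≠ ⊥ := by
    intro hI
    obtain ⟨x, hx⟩ := exists_ne (0 : Om B p r)
    apply hx
    apply e.injective
    rw [map_zero]
    exact Subtype.ext ((Submodule.eq_bot_iff I).mp hI (e x).1 (e x).2)
  have hq0 : q.height ≠ 0 := by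
    rw [Ne, Ideal.height_eq_zero_iff_eq_bot]
    intro hqb
    apply hIne
    rw [eq_bot_iff, ← hqb]
    exact hIq
  have h1 : 1 ≤ q.height := Order.one_le_iff_pos.mpr (pos_iff_ne_zero.mpr hq0)
  exact le_antisymm hht1 h1

end main

end Groth.Agent.Lib.CanId
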