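import Mathlib
import Groth.Prelude.Def_Wider
import Groth.Prelude.Def_CAlg
import Groth.Agent.Lib.CanId3_helper5

/-!
# Unmixed ideals of height one in a local UFD are principal (helper5)
-/

set_option autoImplicit false
set_option linter.style.haveILetI false
universe u
open IsLocalRing Submodule

namespace Groth.Agent.Lib.CanId

/-- In a Noetherian local UFD, a non-zero ideal all of whose associated primes have height one
is principal. -/
theorem principal_of_unmixed (A : Type u) [CommRing A] [IsDomain A] [IsNoetherianRing A]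
    [IsLocalRing A] [UniqueFactorizationMonoid A] (I : Ideal A) (hI : I ≠ ⊥)
    (hass : ∀ q ∈ associatedPrimes A (A ⧸ I), q.height = 1) : ∃ g : A, I = Ideal.span {g} := by
  let 𝒮 : Set (Ideal A) := {J | ∃ g : A, I = Ideal.span {g} * J}
  have hne : 𝒮.Nonempty := ⟨I, 1, by rw [Ideal.span_singleton_one, Ideal.top_mul]⟩
  obtain ⟨J, ⟨g, hg⟩, hmax⟩ :=
    set_has_maximal_iff_noetherian.mpr (inferInstance : IsNoetherian A A) 𝒮 hne
  have hg0 : g ≠ 0 := by
    rintro rfl
    apply hI
    rw [hg, Ideal.span_singleton_zero, Ideal.bot_mul]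
  have hJ : ∀ y, y ∈ J ↔ g * y ∈ I := by
    intro y
    rw [hg, Ideal.mem_span_singleton_mul]
    constructor
    · intro hy
      exact ⟨y, hy, rfl⟩
    · rintro ⟨z, hz, hzy⟩
      rwa [← mul_left_cancel₀ hg0 hzy]
  by_cases hJt : J = ⊤
  · exact ⟨g, by rw [hg, hJt, Ideal.mul_top]⟩
  exfalso
  haveI : Nontrivial (A ⧸ J) := Ideal.Quotient.nontrivial_iff.mpr hJt
  obtain ⟨q, hq⟩ := associatedPrimes.nonempty A (A ⧸ J)
  obtain ⟨hqp, x, hx⟩ := isAssociatedPrime_iff.mp hq
  obtain ⟨y, rfl⟩ := Submodule.Quotient.mk_surjective _ x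
  have hqI : q ∈ associatedPrimes A (A ⧸ I) := by
    rw [AssociatedPrimes.mem_iff, isAssociatedPrime_iff]
    refine ⟨hqp, Submodule.Quotient.mk (g * y), ?_⟩
    ext a
    rw [hx, mem_colon_singleton, mem_colon_singleton, mem_bot, mem_bot,
      ← Submodule.Quotient.mk_smul, ← Submodule.Quotient.mk_smul, Submodule.Quotient.mk_eq_zero,
      Submodule.Quotient.mk_eq_zero, smul_eq_mul, smul_eq_mul, hJ, mul_left_comm]
  have hht := hass q hqI
  haveI := hqp
  obtain ⟨⟨π, hπ⟩⟩ := UniqueFactorizationMonoid.isPrincipal_of_height_eq_one hht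
  have hπ' : q = Ideal.span {π} := hπ
  have hJq : J ≤ q := by
    intro a ha
    rw [hx, mem_colon_singleton, mem_bot, ← Submodule.Quotient.mk_smul,
      Submodule.Quotient.mk_eq_zero, smul_eq_mul]
    exact Ideal.mul_mem_right y J ha
  have hπq : π ∈ q := by
    rw [hπ']
    exact Ideal.mem_span_singleton_self π
  have hπm : π ∈ maximalIdeal A := IsLocalRing.le_maximalIdeal hqp.ne_top hπq
  let J' : Ideal A := J.colon {π}
  have hJ' : ∀ z, z ∈ J' ↔ z * π ∈ J := fun z => by
    rw [show J' = J.colon {π} from rfl, mem_colon_singleton, smul_eq_mul]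
  have hJJ' : J = Ideal.span {π} * J' := by
    apply le_antisymm
    · intro a ha
      have h1 := hJq ha
      rw [hπ', Ideal.mem_span_singleton'] at h1
      obtain ⟨z, rfl⟩ := h1
      rw [Ideal.mem_span_singleton_mul]
      exact ⟨z, (hJ' z).mpr ha, mul_comm _ _⟩
    · intro a ha
      rw [Ideal.mem_span_singleton_mul] at ha
      obtain ⟨z, hz, rfl⟩ := ha
      rw [mul_comm]
      exact (hJ' z).mp hz
  have hJ'S : J' ∈ 𝒮 := by
    refine ⟨g * π, ?_⟩
    rw [← Ideal.span_singleton_mul_span_singleton, mul_assoc, ← hJJ']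
    exact hg
  have hle : J ≤ J' := fun a ha => (hJ' a).mpr (Ideal.mul_mem_right π J ha)
  have hJeq : J' = J := by
    by_contra hne'
    exact hmax J' hJ'S (lt_of_le_of_ne hle (Ne.symm hne'))
  rw [hJeq] at hJJ'
  have hJbot : J = ⊥ := by
    apply Submodule.eq_bot_of_le_smul_of_le_jacobson_bot (maximalIdeal A) J
      (IsNoetherian.noetherian J)
    · rw [smul_eq_mul]
      conv_lhs => rw [hJJ']
      exact Ideal.mul_mono_left ((Ideal.span_singleton_le_iff_mem _).mpr hπm)
    · exact IsLocalRing.maximalIdeal_le_jacobson ⊥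
  apply hI
  rw [hg, hJbot, Ideal.mul_bot]

section omega

variable (B : Type u) [CommRing B] [IsRegularLocalRing B] (n : ℕ) (hn : ringKrullDim B = n)
  (p : Ideal B) [p.IsPrime] (r : ℕ) (hr : p.height = r)
  [hA : LocCoh.IsCohenMacaulayLocalRing (B ⧸ p)] [UniqueFactorizationMonoid (B ⧸ p)]

include hn hr in
/-- for a UFD, `ω ≃ B/p`. -/
theorem omega_equiv_self : Nonempty (Om B p r ≃ₗ[B] (B ⧸ p)) := by
  obtain ⟨I, ⟨e⟩, hI⟩ := main B n hn p r hr
  obtain ⟨-, -, hnt⟩ := exists_embedding B n hn p r hr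
  by_cases hT : I = ⊤
  · subst hT
    exact ⟨e.trans ((Submodule.topEquiv (R := B ⧸ p) (M := B ⧸ p)).restrictScalars B)⟩
  · have hIne : I ≠ ⊥ := by
      intro hIb
      obtain ⟨x, hx⟩ := exists_ne (0 : Om B p r)
      apply hx
      apply e.injective
      rw [map_zero]
      exact Subtype.ext ((Submodule.eq_bot_iff I).mp hIb (e x).1 (e x).2)
    obtain ⟨g, hg⟩ := principal_of_unmixed (B ⧸ p) I hIne (hI hT)
    subst hg
    have hg0 : g ≠ 0 := by
      rintro rfl
      apply hIne
      rw [Ideal.span_singleton_zero]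
    exact ⟨e.trans (((LinearEquiv.toSpanNonzeroSingleton (B ⧸ p) (B ⧸ p) g hg0).restrictScalars
      B).symm)⟩

end omega

end Groth.Agent.Lib.CanId
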