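import Mathlib
import Groth.Prelude.Def_Wider
import Groth.Prelude.Def_CAlg
import Groth.Agent.Lib.CanId4_helper5
import Groth.Agent.Lib.LocDual2_helper6
import Groth.Agent.Lib.GorHull_helper7
import Groth.Agent.Lib.GorChar_helper7
import Groth.Agent.Lib.LocCohBaseIndep_helper7
import Groth.Agent.Lib.LocCohGV_helper7
import Groth.Agent.Lib.LocCohExtVan_helper7
import Groth.Agent.Lib.Matlis2_helper5
import Groth.Agent.Lib.ExtBridge_helper5

/-!
# A Cohen–Macaulay quotient `B/p` of a regular local ring with `Ext^r_B(B/p, B) ≃ B/p` is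
Gorenstein (helper5)

Via local duality over `B`, base independence of local cohomology and the characterisation of
Gorenstein rings by local cohomology.
-/

set_option autoImplicit false
set_option linter.style.haveILetI false
universe u
open CategoryTheory CategoryTheory.Limits IsLocalRing

namespace Groth.Agent.Lib.CanId

open Groth.Agent.Matlis

section coext

variable {B : Type u} [CommRing B] (p : Ideal B) (E : Type u) [AddCommGroup E] [Module B E]

/-- `Hom_B(B/p, E)` as the coextension of scalars -/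
noncomputable def toHc : ((B ⧸ p) →ₗ[B] E) ≃+ Hc (Ideal.Quotient.mk p) E where
  toFun f := mkH (fun s => f s) (fun x y => map_add f x y) (fun a x => by
    rw [← map_smul f a x, Algebra.smul_def]
    rfl)
  invFun g :=
    { toFun := fun s => ev g s
      map_add' := fun x y => ev_map_add g x y
      map_smul' := fun a x => by
        rw [Algebra.smul_def]
        exact ev_map_smul g a x }
  left_inv f := by
    rfl
  right_inv g := by
    apply ev_ext
    intro x
    rfl
  map_add' f f' := by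
    apply ev_ext
    intro x
    rfl

lemma toHc_smul (b : B) (f : (B ⧸ p) →ₗ[B] E) :
    toHc p E (b • f) = (Ideal.Quotient.mk p b) • toHc p E f := by
  apply ev_ext
  intro x
  rw [ev_smul]
  change b • f x = f (x * Ideal.Quotient.mk p b)
  rw [← map_smul f b x, Algebra.smul_def, mul_comm]
  rfl

end coext

section gor

variable (B : Type u) [CommRing B] [IsRegularLocalRing B] (n : ℕ) (hn : ringKrullDim B = n)
  (p : Ideal B) [p.IsPrime] (r : ℕ) [hA : LocCoh.IsCohenMacaulayLocalRing (B ⧸ p)]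

include hn in
/-- if `ω ≃ B/p` then `B/p` is Gorenstein. -/
theorem gorenstein_of_equiv (e : Om B p r ≃ₗ[B] (B ⧸ p)) (d : ℕ)
    (hd : ringKrullDim (B ⧸ p) = (d : WithBot ℕ∞)) (hrd : r + d = n) :
    HasInjectiveDimensionLT (ModuleCat.of (B ⧸ p) (B ⧸ p)) (d + 1) := by
  haveI hCMB : LocCoh.IsCohenMacaulayLocalRing B := { supportDim_eq_depth := isCM_self B n hn }
  have hinj : ∃ N, HasInjectiveDimensionLT (ModuleCat.of B B) N :=
    ⟨n + 1, Groth.Agent.GlDim.hasInjectiveDimensionLT_of_regular B n hn _⟩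
  obtain ⟨g, hg⟩ := Groth.Agent.Lib.GorHullH7.gorenstein_hull n B hinj hn
  have hE : Module.Injective B (LocCoh.H (maximalIdeal B) n B) := hg.isInjective
  let eK : (B →ₗ[B] LocCoh.H (maximalIdeal B) n B) ≃ₗ[B] LocCoh.H (maximalIdeal B) n B :=
    LinearMap.ringLmapEquivSelf B B (LocCoh.H (maximalIdeal B) n B)
  obtain ⟨Ψ₂⟩ := Groth.Agent.Lib.LocDual2_helper6.duality n hn (LocCoh.H (maximalIdeal B) n B) hE B
    eK r d (by omega) (B ⧸ p)
  obtain ⟨e0⟩ := Groth.Agent.ExtBridge.bridge (ModuleCat.of B (B ⧸ p)) (ModuleCat.of B B) r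
  let Ψ₃ : (Groth.Agent.Lib.LocDual2_helper6.Ex B B r (B ⧸ p) →ₗ[B]
      LocCoh.H (maximalIdeal B) n B) ≃ₗ[B] ((B ⧸ p) →ₗ[B] LocCoh.H (maximalIdeal B) n B) :=
    LinearEquiv.arrowCongr (e0.trans e) (LinearEquiv.refl B _)
  obtain ⟨φ, hφ⟩ := Groth.Agent.Lib.LocCohBaseIndepH7.main (B ⧸ p) (maximalIdeal B) d (B ⧸ p)
  have hmap : (maximalIdeal B).map (algebraMap B (B ⧸ p)) = maximalIdeal (B ⧸ p) :=
    map_maximalIdeal B p
  -- the semilinear additive equivalence
  let Λ₀ : LocCoh.H ((maximalIdeal B).map (algebraMap B (B ⧸ p))) d (B ⧸ p) ≃+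
      Hc (Ideal.Quotient.mk p) (LocCoh.H (maximalIdeal B) n B) :=
    φ.trans (Ψ₂.toAddEquiv.trans (Ψ₃.toAddEquiv.trans (toHc p _)))
  have hΛ₀ : ∀ (b : B) (x : LocCoh.H ((maximalIdeal B).map (algebraMap B (B ⧸ p))) d (B ⧸ p)),
      Λ₀ (Ideal.Quotient.mk p b • x) = Ideal.Quotient.mk p b • Λ₀ x := by
    intro b x
    change toHc p _ (Ψ₃ (Ψ₂ (φ (algebraMap B (B ⧸ p) b • x)))) = _
    rw [hφ, map_smul, map_smul, toHc_smul]
    rfl
  let Λ : LocCoh.H ((maximalIdeal B).map (algebraMap B (B ⧸ p))) d (B ⧸ p) ≃ₗ[B ⧸ p]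
      Hc (Ideal.Quotient.mk p) (LocCoh.H (maximalIdeal B) n B) :=
    { Λ₀ with
      map_smul' := fun a x => by
        obtain ⟨b, rfl⟩ := Ideal.Quotient.mk_surjective a
        exact hΛ₀ b x }
  have h2' : Module.Injective (B ⧸ p)
      (LocCoh.H ((maximalIdeal B).map (algebraMap B (B ⧸ p))) d (B ⧸ p)) :=
    Groth.Agent.Lib.LocCohExtVanH7.injective_of_retract
      (injective_coextend (Ideal.Quotient.mk p) (LocCoh.H (maximalIdeal B) n B))
      Λ.toLinearMap Λ.symm.toLinearMap (fun c => Λ.symm_apply_apply c)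
  rw [hmap] at h2'
  apply Groth.Agent.Lib.GorCharH7.gorenstein_of_H (B ⧸ p) d ?_ h2'
  intro i hi
  rcases lt_or_gt_of_ne hi with h | h
  · exact Groth.Agent.Lib.LocDual2_helper6.H_ring_subsingleton (R := B ⧸ p) d hd i h
  · apply Groth.Agent.Lib.LocCohGVH7.GV (maximalIdeal (B ⧸ p)) (B ⧸ p) i
    rw [Module.supportDim_self_eq_ringKrullDim, hd]
    exact_mod_cast h

end gor

end Groth.Agent.Lib.CanId
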