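import Mathlib

set_option autoImplicit false

namespace Groth.Agent.Lib.ShRepH8
open CategoryTheory Limits Opposite
universe u
variable {C : Type u} [SmallCategory C] (J : GrothendieckTopology C)

/-- `Hom(a h_X, F) ≃ F(X)` for a sheaf `F`. -/
noncomputable def homEquiv (X : C) (F : Sheaf J (Type u)) :
    ((presheafToSheaf J (Type u)).obj (yoneda.obj X) ⟶ F) ≃ F.obj.obj (op X) :=
  ((sheafificationAdjunction J (Type u)).homEquiv (yoneda.obj X) F).trans yonedaEquiv

lemma homEquiv_naturality {X Y : C} (s : Y ⟶ X) (F : Sheaf J (Type u))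
    (f : (presheafToSheaf J (Type u)).obj (yoneda.obj X) ⟶ F) :
    homEquiv J Y F ((presheafToSheaf J (Type u)).map (yoneda.map s) ≫ f) =
      F.obj.map s.op (homEquiv J X F f) := by
  unfold homEquiv
  simp only [Equiv.trans_apply]
  rw [Adjunction.homEquiv_naturality_left]
  exact (yonedaEquiv_naturality _ _).symm

theorem cofan_isColimit_iff {X : C} {ι : Type u} (Y : ι → C) (s : ∀ i, Y i ⟶ X) :
    Nonempty (IsColimit (Cofan.mk ((presheafToSheaf J (Type u)).obj (yoneda.obj X))
      (fun i => (presheafToSheaf J (Type u)).map (yoneda.map (s i))))) ↔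
    ∀ F : Sheaf J (Type u), Function.Bijective
      (fun (x : F.obj.obj (op X)) (i : ι) => F.obj.map (s i).op x) := by
  constructor
  · rintro ⟨hc⟩ F
    constructor
    · intro x x' hxx
      have h1 : (homEquiv J X F).symm x = (homEquiv J X F).symm x' := by
        refine Cofan.IsColimit.hom_ext hc _ _ (fun i => ?_)
        apply (homEquiv J (Y i) F).injective
        show homEquiv J (Y i) F ((presheafToSheaf J (Type u)).map (yoneda.map (s i)) ≫ _) =
          homEquiv J (Y i) F ((presheafToSheaf J (Type u)).map (yoneda.map (s i)) ≫ _)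
        rw [homEquiv_naturality, homEquiv_naturality, Equiv.apply_symm_apply,
          Equiv.apply_symm_apply]
        exact congrFun hxx i
      exact (homEquiv J X F).symm.injective h1
    · intro y
      refine ⟨homEquiv J X F
        (Cofan.IsColimit.desc hc (fun i => (homEquiv J (Y i) F).symm (y i))), ?_⟩
      funext i
      show F.obj.map (s i).op (homEquiv J X F _) = y i
      rw [← homEquiv_naturality]
      have := Cofan.IsColimit.fac hc (fun i => (homEquiv J (Y i) F).symm (y i)) i
      rw [show (presheafToSheaf J (Type u)).map (yoneda.map (s i)) ≫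
        Cofan.IsColimit.desc hc (fun i => (homEquiv J (Y i) F).symm (y i)) =
        (homEquiv J (Y i) F).symm (y i) from this, Equiv.apply_symm_apply]
  · intro h
    have hex : ∀ (F : Sheaf J (Type u))
        (g : ∀ i, (presheafToSheaf J (Type u)).obj (yoneda.obj (Y i)) ⟶ F),
        ∃ f : (presheafToSheaf J (Type u)).obj (yoneda.obj X) ⟶ F,
          (∀ i, (presheafToSheaf J (Type u)).map (yoneda.map (s i)) ≫ f = g i) ∧
          ∀ f' : (presheafToSheaf J (Type u)).obj (yoneda.obj X) ⟶ F,
            (∀ i, (presheafToSheaf J (Type u)).map (yoneda.map (s i)) ≫ f' = g i) → f' = f := by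
      intro F g
      obtain ⟨x, hx⟩ := (h F).2 (fun i => homEquiv J (Y i) F (g i))
      refine ⟨(homEquiv J X F).symm x, fun i => ?_, fun f' hf' => ?_⟩
      · apply (homEquiv J (Y i) F).injective
        rw [homEquiv_naturality, Equiv.apply_symm_apply]
        exact congrFun hx i
      · apply (homEquiv J X F).injective
        rw [Equiv.apply_symm_apply]
        apply (h F).1
        funext i
        show F.obj.map (s i).op (homEquiv J X F f') = F.obj.map (s i).op x
        rw [← homEquiv_naturality, hf' i]
        exact (congrFun hx i).symm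
    choose d hd hd' using hex
    exact ⟨mkCofanColimit _ (fun t => d t.pt t.inj) (fun t i => hd t.pt t.inj i)
      (fun t m hm => hd' t.pt t.inj m hm)⟩

end Groth.Agent.Lib.ShRepH8
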