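import Mathlib

/-!
# Universal effective epimorphisms (helper8)
-/

set_option autoImplicit false
set_option linter.style.haveILetI false

open CategoryTheory Limits

namespace Groth.Agent.Lib.EffEpiH8

universe v₁ u₁
variable {C : Type u₁} [Category.{v₁} C]

/-- universal effective epimorphisms -/
abbrev UEE : MorphismProperty C :=
  MorphismProperty.universally (fun (A B : C) (p : A ⟶ B) => EffectiveEpi p)

theorem uee_effectiveEpi {X Y : C} {f : X ⟶ Y} (hf : UEE f) : EffectiveEpi f :=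
  MorphismProperty.universally_le _ _ hf

theorem uee_baseChange {X Y X' Y' : C} {f : X ⟶ Y} {f' : X' ⟶ Y'} {i₁ : X' ⟶ X} {i₂ : Y' ⟶ Y}
    (H : IsPullback f' i₁ i₂ f) (hf : UEE f) : UEE f' :=
  (MorphismProperty.universally_isStableUnderBaseChange _).of_isPullback H.flip hf

theorem uee_universally_epi {X Y : C} {f : X ⟶ Y} (hf : UEE f) :
    MorphismProperty.universally (MorphismProperty.epimorphisms C) f := by
  intro X' Y' i₁ i₂ f' H
  haveI : EffectiveEpi f' := hf i₁ i₂ f' H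
  exact (inferInstance : Epi f')

theorem uee_epi {X Y : C} {f : X ⟶ Y} (hf : UEE f) : Epi f := by
  haveI := uee_effectiveEpi hf
  infer_instance

/-- S5204 -/
theorem effectiveEpi_comp_of_universally_epi [HasPullbacks C] {U T S : C} (v : U ⟶ T) (u : T ⟶ S)
    [EffectiveEpi u] [EffectiveEpi v]
    (hv : MorphismProperty.universally (MorphismProperty.epimorphisms C) v) :
    EffectiveEpi (v ≫ u) := by
  have key : ∀ {W : C} (e : U ⟶ W),
      (∀ {Z : C} (g₁ g₂ : Z ⟶ U), g₁ ≫ v ≫ u = g₂ ≫ v ≫ u → g₁ ≫ e = g₂ ≫ e) →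
      ∃ d : S ⟶ W, (v ≫ u) ≫ d = e := by
    intro W e he
    have h1 : ∀ {Z : C} (g₁ g₂ : Z ⟶ U), g₁ ≫ v = g₂ ≫ v → g₁ ≫ e = g₂ ≫ e := by
      intro Z g₁ g₂ h
      apply he
      rw [← Category.assoc, h, Category.assoc]
    have he' : v ≫ EffectiveEpi.desc v e h1 = e := EffectiveEpi.fac v e h1
    have h2 : ∀ {Z : C} (h₁ h₂ : Z ⟶ T), h₁ ≫ u = h₂ ≫ u →
        h₁ ≫ EffectiveEpi.desc v e h1 = h₂ ≫ EffectiveEpi.desc v e h1 := by
      intro Z h₁ h₂ h
      have hπ₁ : Epi (pullback.fst h₁ v) := hv _ _ _ (IsPullback.of_hasPullback h₁ v)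
      have hπ₂ : Epi (pullback.fst (pullback.fst h₁ v ≫ h₂) v) :=
        hv _ _ _ (IsPullback.of_hasPullback (pullback.fst h₁ v ≫ h₂) v)
      have hw₁ : pullback.fst h₁ v ≫ h₁ = pullback.snd h₁ v ≫ v := pullback.condition
      have hw₂ : pullback.fst (pullback.fst h₁ v ≫ h₂) v ≫ pullback.fst h₁ v ≫ h₂
          = pullback.snd (pullback.fst h₁ v ≫ h₂) v ≫ v := pullback.condition
      have h3 : (pullback.fst (pullback.fst h₁ v ≫ h₂) v ≫ pullback.snd h₁ v) ≫ e
          = pullback.snd (pullback.fst h₁ v ≫ h₂) v ≫ e := by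
        apply he
        calc (pullback.fst (pullback.fst h₁ v ≫ h₂) v ≫ pullback.snd h₁ v) ≫ v ≫ u
            = pullback.fst (pullback.fst h₁ v ≫ h₂) v ≫ (pullback.snd h₁ v ≫ v) ≫ u := by
              simp only [Category.assoc]
          _ = pullback.fst (pullback.fst h₁ v ≫ h₂) v ≫ (pullback.fst h₁ v ≫ h₁) ≫ u := by
              rw [hw₁]
          _ = (pullback.fst (pullback.fst h₁ v ≫ h₂) v ≫ pullback.fst h₁ v ≫ h₂) ≫ u := by
              simp only [Category.assoc, h]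
          _ = pullback.snd (pullback.fst h₁ v ≫ h₂) v ≫ v ≫ u := by
              rw [hw₂, Category.assoc]
      rw [← cancel_epi (pullback.fst h₁ v), ← cancel_epi (pullback.fst (pullback.fst h₁ v ≫ h₂) v)]
      calc pullback.fst (pullback.fst h₁ v ≫ h₂) v ≫ pullback.fst h₁ v ≫ h₁ ≫
              EffectiveEpi.desc v e h1
          = pullback.fst (pullback.fst h₁ v ≫ h₂) v ≫ (pullback.fst h₁ v ≫ h₁) ≫
              EffectiveEpi.desc v e h1 := by simp only [Category.assoc]
        _ = pullback.fst (pullback.fst h₁ v ≫ h₂) v ≫ (pullback.snd h₁ v ≫ v) ≫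
              EffectiveEpi.desc v e h1 := by rw [hw₁]
        _ = (pullback.fst (pullback.fst h₁ v ≫ h₂) v ≫ pullback.snd h₁ v) ≫ e := by
              simp only [Category.assoc, he']
        _ = pullback.snd (pullback.fst h₁ v ≫ h₂) v ≫ e := h3
        _ = pullback.snd (pullback.fst h₁ v ≫ h₂) v ≫ v ≫ EffectiveEpi.desc v e h1 := by
              rw [he']
        _ = (pullback.fst (pullback.fst h₁ v ≫ h₂) v ≫ pullback.fst h₁ v ≫ h₂) ≫
              EffectiveEpi.desc v e h1 := by rw [hw₂, Category.assoc]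
        _ = pullback.fst (pullback.fst h₁ v ≫ h₂) v ≫ pullback.fst h₁ v ≫ h₂ ≫
              EffectiveEpi.desc v e h1 := by simp only [Category.assoc]
    exact ⟨EffectiveEpi.desc u (EffectiveEpi.desc v e h1) h2,
      by rw [Category.assoc, EffectiveEpi.fac, he']⟩
  haveI : Epi (v ≫ u) := epi_comp v u
  exact ⟨⟨{ desc := fun e he => (key e (fun g₁ g₂ h => he g₁ g₂ h)).choose
            fac := fun e he => (key e (fun g₁ g₂ h => he g₁ g₂ h)).choose_spec
            uniq := fun e he m hm => by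
              rw [← cancel_epi (v ≫ u), hm, (key e (fun g₁ g₂ h => he g₁ g₂ h)).choose_spec] }⟩⟩

/-- if `v ≫ u` is an effective epi whose base change along `u` is epi, then `u` is effective epi -/
theorem effectiveEpi_of_comp_of_epi_pullback [HasPullbacks C] {U T S : C} (v : U ⟶ T) (u : T ⟶ S)
    [EffectiveEpi (v ≫ u)] (hp : Epi (pullback.fst u (v ≫ u))) : EffectiveEpi u := by
  haveI : Epi u := epi_of_epi v u
  have key : ∀ {W : C} (e : T ⟶ W),
      (∀ {Z : C} (g₁ g₂ : Z ⟶ T), g₁ ≫ u = g₂ ≫ u → g₁ ≫ e = g₂ ≫ e) →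
      ∃ d : S ⟶ W, u ≫ d = e := by
    intro W e he
    have h1 : ∀ {Z : C} (g₁ g₂ : Z ⟶ U), g₁ ≫ v ≫ u = g₂ ≫ v ≫ u →
        g₁ ≫ v ≫ e = g₂ ≫ v ≫ e := by
      intro Z g₁ g₂ h
      rw [← Category.assoc, ← Category.assoc]
      apply he
      simpa only [Category.assoc] using h
    refine ⟨EffectiveEpi.desc (v ≫ u) (v ≫ e) h1, ?_⟩
    have hfac : (v ≫ u) ≫ EffectiveEpi.desc (v ≫ u) (v ≫ e) h1 = v ≫ e :=
      EffectiveEpi.fac (v ≫ u) (v ≫ e) h1
    rw [← cancel_epi (pullback.fst u (v ≫ u))]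
    have hc : pullback.fst u (v ≫ u) ≫ u = pullback.snd u (v ≫ u) ≫ v ≫ u := pullback.condition
    calc pullback.fst u (v ≫ u) ≫ u ≫ EffectiveEpi.desc (v ≫ u) (v ≫ e) h1
        = (pullback.fst u (v ≫ u) ≫ u) ≫ EffectiveEpi.desc (v ≫ u) (v ≫ e) h1 := by
          rw [Category.assoc]
      _ = pullback.snd u (v ≫ u) ≫ (v ≫ u) ≫ EffectiveEpi.desc (v ≫ u) (v ≫ e) h1 := by
          rw [hc]; simp only [Category.assoc]
      _ = (pullback.snd u (v ≫ u) ≫ v) ≫ e := by rw [hfac, Category.assoc]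
      _ = pullback.fst u (v ≫ u) ≫ e := by
          apply he
          rw [Category.assoc, hc]
  exact ⟨⟨{ desc := fun e he => (key e (fun g₁ g₂ h => he g₁ g₂ h)).choose
            fac := fun e he => (key e (fun g₁ g₂ h => he g₁ g₂ h)).choose_spec
            uniq := fun e he m hm => by
              rw [← cancel_epi u, hm, (key e (fun g₁ g₂ h => he g₁ g₂ h)).choose_spec] }⟩⟩

/-- S5205 -/
theorem uee_comp [HasPullbacks C] {U T S : C} (v : U ⟶ T) (u : T ⟶ S) (hu : UEE u) (hv : UEE v) :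
    UEE (v ≫ u) := by
  intro X' Z' i₁ i₂ f' H
  have hl := pullback.lift_fst (f := i₂) (g := u) f' (i₁ ≫ v)
    (H.w.trans (Category.assoc _ _ _).symm)
  have hsq : IsPullback (pullback.lift f' (i₁ ≫ v) (H.w.trans (Category.assoc _ _ _).symm)) i₁
      (pullback.snd i₂ u) v := by
    have H' : IsPullback (pullback.lift f' (i₁ ≫ v) (H.w.trans (Category.assoc _ _ _).symm)
        ≫ pullback.fst i₂ u) i₁ i₂ (v ≫ u) := by rw [hl]; exact H
    exact H'.of_right (pullback.lift_snd _ _ _) (IsPullback.of_hasPullback i₂ u)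
  have h1 : UEE (pullback.lift f' (i₁ ≫ v) (H.w.trans (Category.assoc _ _ _).symm)) :=
    uee_baseChange hsq hv
  have h2 : UEE (pullback.fst i₂ u) := uee_baseChange (IsPullback.of_hasPullback i₂ u) hu
  haveI := uee_effectiveEpi h1
  haveI := uee_effectiveEpi h2
  rw [← hl]
  exact effectiveEpi_comp_of_universally_epi _ _ (uee_universally_epi h1)

/-- S5206 -/
theorem uee_of_comp [HasPullbacks C] {U T S : C} (v : U ⟶ T) (u : T ⟶ S) (h : UEE (v ≫ u)) :
    UEE u := by
  intro T' S' i₁ i₂ u' H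
  -- U' = pullback i₁ v, v' = fst
  have Hbig : IsPullback (pullback.fst i₁ v ≫ u') (pullback.snd i₁ v) i₂ (v ≫ u) :=
    (IsPullback.of_hasPullback i₁ v).paste_horiz H
  have hw : UEE (pullback.fst i₁ v ≫ u') := uee_baseChange Hbig h
  haveI := uee_effectiveEpi hw
  apply effectiveEpi_of_comp_of_epi_pullback (pullback.fst i₁ v) u'
  exact uee_universally_epi hw _ _ _ (IsPullback.of_hasPullback u' (pullback.fst i₁ v ≫ u'))

/-- S5207 -/
theorem uee_iff_baseChange [HasPullbacks C] {S' S T : C} (g : S' ⟶ S) (hg : UEE g) (u : T ⟶ S) :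
    UEE u ↔ UEE (pullback.snd u g) := by
  constructor
  · intro hu
    exact uee_baseChange (IsPullback.of_hasPullback u g).flip hu
  · intro hu'
    have h1 : UEE (pullback.snd u g ≫ g) := uee_comp _ _ hg hu'
    rw [← pullback.condition] at h1
    exact uee_of_comp _ _ h1

/-- descent of monomorphisms along universal effective epimorphisms -/
theorem mono_of_isPullback [HasPullbacks C] {X Y X' Y' : C} {g : X ⟶ Y} {g' : X' ⟶ Y'}
    {p : X' ⟶ X} {q : Y' ⟶ Y} (H : IsPullback g' p q g)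
    (hq : MorphismProperty.universally (MorphismProperty.epimorphisms C) q) [Mono g'] : Mono g := by
  constructor
  intro Z x₁ x₂ hx
  have hr : Epi (pullback.fst (x₁ ≫ g) q) := hq _ _ _ (IsPullback.of_hasPullback (x₁ ≫ g) q)
  have hc : pullback.fst (x₁ ≫ g) q ≫ x₁ ≫ g = pullback.snd (x₁ ≫ g) q ≫ q := pullback.condition
  have e1 : pullback.snd (x₁ ≫ g) q ≫ q = (pullback.fst (x₁ ≫ g) q ≫ x₁) ≫ g := by
    rw [Category.assoc, hc]
  have e2 : pullback.snd (x₁ ≫ g) q ≫ q = (pullback.fst (x₁ ≫ g) q ≫ x₂) ≫ g := by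
    rw [Category.assoc, ← hx, hc]
  have hz : H.lift (pullback.snd (x₁ ≫ g) q) (pullback.fst (x₁ ≫ g) q ≫ x₁) e1
      = H.lift (pullback.snd (x₁ ≫ g) q) (pullback.fst (x₁ ≫ g) q ≫ x₂) e2 := by
    rw [← cancel_mono g', H.lift_fst, H.lift_fst]
  have := congrArg (· ≫ p) hz
  simp only [H.lift_snd] at this
  exact (cancel_epi _).mp this

/-- descent of isomorphisms along universal effective epimorphisms -/
theorem isIso_of_isPullback [HasPullbacks C] {X Y X' Y' : C} {g : X ⟶ Y} {g' : X' ⟶ Y'}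
    {p : X' ⟶ X} {q : Y' ⟶ Y} (H : IsPullback g' p q g) (hq : UEE q) [IsIso g'] : IsIso g := by
  haveI : Mono g := mono_of_isPullback H (uee_universally_epi hq)
  haveI := uee_effectiveEpi hq
  have hdesc : ∀ {Z : C} (a₁ a₂ : Z ⟶ Y'), a₁ ≫ q = a₂ ≫ q →
      a₁ ≫ inv g' ≫ p = a₂ ≫ inv g' ≫ p := by
    intro Z a₁ a₂ h
    rw [← cancel_mono g]
    simp only [Category.assoc, ← H.w, IsIso.inv_hom_id_assoc, h]
  refine ⟨EffectiveEpi.desc q (inv g' ≫ p) hdesc, ?_, ?_⟩
  · rw [← cancel_mono g, Category.assoc, Category.id_comp]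
    have h1 : EffectiveEpi.desc q (inv g' ≫ p) hdesc ≫ g = 𝟙 Y := by
      rw [← cancel_epi q, EffectiveEpi.fac_assoc, Category.assoc, ← H.w, IsIso.inv_hom_id_assoc,
        Category.comp_id]
    rw [h1, Category.comp_id]
  · rw [← cancel_epi q, EffectiveEpi.fac_assoc, Category.assoc, ← H.w, IsIso.inv_hom_id_assoc,
      Category.comp_id]

end Groth.Agent.Lib.EffEpiH8
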