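import Mathlib
import Groth.Agent.Lib.EffEpi_helper8

/-!
# Epimorphisms of sheaves of sets are universal effective epimorphisms (helper8)
-/

set_option autoImplicit false

open CategoryTheory Limits Opposite

namespace Groth.Agent.Lib.SheafEpiH8

universe w v₁ u₁
variable {C : Type u₁} [Category.{v₁} C] (J : GrothendieckTopology C)

/-- A pullback square of sheaves of sets is a pullback square on sections. -/
theorem isPullback_app {P X Y Z : Sheaf J (Type w)} {fst : P ⟶ X} {snd : P ⟶ Y}
    {f : X ⟶ Z} {g : Y ⟶ Z} (h : IsPullback fst snd f g) (U : Cᵒᵖ) :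
    IsPullback (fst.hom.app U) (snd.hom.app U) (f.hom.app U) (g.hom.app U) :=
  (h.map (sheafToPresheaf J (Type w))).app U

/-- Local surjectivity is stable under base change. -/
theorem isLocallySurjective_baseChange {X' Y' X Y : Sheaf J (Type w)} {f' : X' ⟶ Y'}
    {i₁ : X' ⟶ X} {i₂ : Y' ⟶ Y} {f : X ⟶ Y} (H : IsPullback f' i₁ i₂ f)
    (hf : Sheaf.IsLocallySurjective f) : Sheaf.IsLocallySurjective f' := by
  constructor
  intro U s
  have h1 : Presheaf.imageSieve f.hom (i₂.hom.app (op U) s) ∈ J U :=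
    hf.imageSieve_mem (i₂.hom.app (op U) s)
  refine J.superset_covering ?_ h1
  intro V g hg
  obtain ⟨t, ht⟩ := hg
  have hV := isPullback_app J H (op V)
  have hn : i₂.hom.app (op V) (Y'.obj.map g.op s) = Y.obj.map g.op (i₂.hom.app (op U) s) :=
    NatTrans.naturality_apply i₂.hom g.op s
  obtain ⟨x', hx1, _⟩ := Types.exists_of_isPullback hV (Y'.obj.map g.op s) t (by rw [hn, ht])
  exact ⟨x', hx1⟩

/-- Epimorphisms of sheaves of sets are stable under base change. -/
theorem epi_baseChange [HasSheafify J (Type w)] {X' Y' X Y : Sheaf J (Type w)} {f' : X' ⟶ Y'}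
    {i₁ : X' ⟶ X} {i₂ : Y' ⟶ Y} {f : X ⟶ Y} (H : IsPullback f' i₁ i₂ f) [Epi f] : Epi f' := by
  rw [← Sheaf.isLocallySurjective_iff_epi]
  apply isLocallySurjective_baseChange J H
  rw [Sheaf.isLocallySurjective_iff_epi]
  infer_instance

/-- S5218: every epimorphism of sheaves of sets is a universal effective epimorphism. -/
theorem epi_uee [HasSheafify J (Type w)] {X Y : Sheaf J (Type w)} (f : X ⟶ Y) [Epi f] :
    Groth.Agent.Lib.EffEpiH8.UEE f := by
  intro X' Y' i₁ i₂ f' H
  have : Epi f' := epi_baseChange J H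
  have := IsRegularEpiCategory.regularEpiOfEpi f'
  infer_instance

end Groth.Agent.Lib.SheafEpiH8
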