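import Mathlib
import Groth.Prelude.Def_SGA4c
import Groth.Agent.Lib.SheafEpi_helper8

/-!
# Finiteness conditions in a sheaf topos: toolkit (helper8)
-/

set_option autoImplicit false

open CategoryTheory Limits Opposite

attribute [-instance] CategoryTheory.hasColimitsEssentiallySmallSite

namespace Groth.Agent.Lib.ToposFinH8

universe u
variable {C : Type u} [SmallCategory C] {J : GrothendieckTopology C}

/-- A jointly epimorphic family. -/
def JE {ι : Type*} {X : Sheaf J (Type u)} {F : ι → Sheaf J (Type u)} (π : ∀ i, F i ⟶ X) : Prop :=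
  ∀ ⦃Z : Sheaf J (Type u)⦄ (a b : X ⟶ Z), (∀ i, π i ≫ a = π i ≫ b) → a = b

/-- A locally jointly surjective family. -/
def LJS {ι : Type*} {X : Sheaf J (Type u)} {F : ι → Sheaf J (Type u)} (π : ∀ i, F i ⟶ X) : Prop :=
  ∀ (U : C) (x : X.obj.obj (op U)), ∃ S ∈ J U, ∀ ⦃V : C⦄ (g : V ⟶ U), S g →
    ∃ (i : ι) (y : (F i).obj.obj (op V)), (π i).hom.app (op V) y = X.obj.map g.op x

theorem epi_sigmaDesc_iff {ι : Type*} {X : Sheaf J (Type u)} {F : ι → Sheaf J (Type u)}
    [HasCoproduct F] (π : ∀ i, F i ⟶ X) : Epi (Sigma.desc π) ↔ JE π := by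
  constructor
  · intro h Z a b hab
    rw [← cancel_epi (Sigma.desc π)]
    apply Sigma.hom_ext
    intro i
    rw [Sigma.ι_desc_assoc, Sigma.ι_desc_assoc]
    exact hab i
  · intro h
    constructor
    intro Z a b hab
    apply h
    intro i
    have := congrArg (fun t => Sigma.ι F i ≫ t) hab
    simpa using this

theorem je_of_ljs {ι : Type*} {X : Sheaf J (Type u)} {F : ι → Sheaf J (Type u)}
    (π : ∀ i, F i ⟶ X) (h : LJS π) : JE π := by
  intro Z a b hab
  apply ObjectProperty.hom_ext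
  ext U x
  obtain ⟨U⟩ := U
  obtain ⟨S, hS, hS'⟩ := h U x
  have hZ : Presieve.IsSheaf J Z.obj := (isSheaf_iff_isSheaf_of_type _ _).1 Z.property
  apply (hZ.isSeparated S hS).ext
  intro V g hg
  obtain ⟨i, y, hy⟩ := hS' g hg
  have n1 := NatTrans.naturality_apply a.hom g.op x
  have n2 := NatTrans.naturality_apply b.hom g.op x
  have h3 : (a.hom.app (op V)) ((π i).hom.app (op V) y) = (b.hom.app (op V)) ((π i).hom.app (op V) y) :=
    congrArg (fun t => t.hom.app (op V) y) (hab i)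
  rw [hy] at h3
  exact n1.symm.trans (h3.trans n2)

/-- The union of the images of a family, as a subpresheaf. -/
def imgSub {ι : Type*} {X : Sheaf J (Type u)} {F : ι → Sheaf J (Type u)} (π : ∀ i, F i ⟶ X) :
    Subfunctor X.obj where
  obj U := {x | ∃ (i : ι) (y : (F i).obj.obj U), (π i).hom.app U y = x}
  map := by
    rintro U V f x ⟨i, y, rfl⟩
    exact ⟨i, (F i).obj.map f y, NatTrans.naturality_apply (π i).hom f y⟩

theorem ljs_of_je {ι : Type*} {X : Sheaf J (Type u)} {F : ι → Sheaf J (Type u)}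
    (π : ∀ i, F i ⟶ X) (h : JE π) : LJS π := by
  have hX : Presieve.IsSheaf J X.obj := (isSheaf_iff_isSheaf_of_type _ _).1 X.property
  let G := (imgSub π).sheafify J
  let X' : Sheaf J (Type u) :=
    ⟨G.toFunctor, (isSheaf_iff_isSheaf_of_type _ _).2 ((imgSub π).sheafify_isSheaf hX)⟩
  let j : X' ⟶ X := ObjectProperty.homMk G.ι
  have hmono : Mono j := by
    haveI : Mono ((sheafToPresheaf J (Type u)).map j) := by
      change Mono G.ι
      infer_instance
    exact (sheafToPresheaf J (Type u)).mono_of_mono_map inferInstance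
  let p : ∀ i, F i ⟶ X' := fun i => ObjectProperty.homMk
    (Subfunctor.lift (π i).hom (by
      rintro U x ⟨y, rfl⟩
      exact (imgSub π).le_sheafify J U ⟨i, y, rfl⟩))
  have hp : ∀ i, p i ≫ j = π i := by
    intro i
    apply ObjectProperty.hom_ext
    rfl
  have hepi : Epi j := by
    constructor
    intro Z a b hab
    apply h
    intro i
    rw [← hp i, Category.assoc, Category.assoc, hab]
  haveI : IsIso j := isIso_of_mono_of_epi j
  intro U x
  have hsurj : Function.Surjective (j.hom.app (op U)) := by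
    haveI : IsIso ((sheafToPresheaf J (Type u)).map j) := inferInstance
    haveI : IsIso (((sheafToPresheaf J (Type u)).map j).app (op U)) := inferInstance
    exact ((isIso_iff_bijective _).1 this).2
  obtain ⟨⟨x', hx'⟩, rfl⟩ := hsurj x
  refine ⟨_, hx', ?_⟩
  intro V g hg
  obtain ⟨i, y, hy⟩ := hg
  exact ⟨i, y, hy⟩

theorem je_iff_ljs {ι : Type*} {X : Sheaf J (Type u)} {F : ι → Sheaf J (Type u)}
    (π : ∀ i, F i ⟶ X) : JE π ↔ LJS π := ⟨ljs_of_je π, je_of_ljs π⟩

/-- Local joint surjectivity is stable under base change. -/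
theorem ljs_pullback {ι : Type*} {X X' : Sheaf J (Type u)} {F F' : ι → Sheaf J (Type u)}
    (π : ∀ i, F i ⟶ X) (g : X' ⟶ X) (π' : ∀ i, F' i ⟶ X') (q : ∀ i, F' i ⟶ F i)
    (H : ∀ i, IsPullback (π' i) (q i) g (π i)) (h : LJS π) : LJS π' := by
  intro U x'
  obtain ⟨S, hS, hS'⟩ := h U (g.hom.app (op U) x')
  refine ⟨S, hS, ?_⟩
  intro V f hf
  obtain ⟨i, y, hy⟩ := hS' f hf
  have hV := Groth.Agent.Lib.SheafEpiH8.isPullback_app J (H i) (op V)
  have hn : g.hom.app (op V) (X'.obj.map f.op x') = X.obj.map f.op (g.hom.app (op U) x') :=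
    NatTrans.naturality_apply g.hom f.op x'
  obtain ⟨z, hz1, _⟩ := Types.exists_of_isPullback hV (X'.obj.map f.op x') y (by rw [hn, hy])
  exact ⟨i, z, hz1⟩

/-- Joint epimorphy is stable under base change. -/
theorem je_pullback {ι : Type*} {X X' : Sheaf J (Type u)} {F F' : ι → Sheaf J (Type u)}
    (π : ∀ i, F i ⟶ X) (g : X' ⟶ X) (π' : ∀ i, F' i ⟶ X') (q : ∀ i, F' i ⟶ F i)
    (H : ∀ i, IsPullback (π' i) (q i) g (π i)) (h : JE π) : JE π' :=
  je_of_ljs _ (ljs_pullback π g π' q H (ljs_of_je _ h))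

theorem je_comp {ι : Type*} {κ : ι → Type*} {X : Sheaf J (Type u)} {F : ι → Sheaf J (Type u)}
    {G : ∀ i, κ i → Sheaf J (Type u)} (π : ∀ i, F i ⟶ X) (ρ : ∀ i (k : κ i), G i k ⟶ F i)
    (hπ : JE π) (hρ : ∀ i, JE (ρ i)) :
    JE (F := fun p : Σ i, κ i => G p.1 p.2) (fun p => ρ p.1 p.2 ≫ π p.1) := by
  intro Z a b hab
  apply hπ
  intro i
  apply hρ i
  intro k
  have := hab ⟨i, k⟩
  simpa using this

theorem je_of_comp {ι κ : Type*} {X : Sheaf J (Type u)} {F : ι → Sheaf J (Type u)}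
    {G : κ → Sheaf J (Type u)} (π : ∀ i, F i ⟶ X) (a : κ → ι) (ρ : ∀ k, G k ⟶ F (a k))
    (h : JE (fun k => ρ k ≫ π (a k))) : JE π := by
  intro Z x y hxy
  apply h
  intro k
  rw [Category.assoc, Category.assoc, hxy]

theorem je_of_factor {ι κ : Type*} {X : Sheaf J (Type u)} {F : ι → Sheaf J (Type u)}
    {G : κ → Sheaf J (Type u)} (π : ∀ i, F i ⟶ X) (σ : ∀ k, G k ⟶ X)
    (hf : ∀ k, ∃ (i : ι) (ρ : G k ⟶ F i), ρ ≫ π i = σ k) (h : JE σ) : JE π := by
  intro Z x y hxy
  apply h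
  intro k
  obtain ⟨i, ρ, hρ⟩ := hf k
  rw [← hρ, Category.assoc, Category.assoc, hxy]

theorem je_of_epi {X Y : Sheaf J (Type u)} (p : X ⟶ Y) [Epi p] {ι : Type*} [Nonempty ι] :
    JE (fun _ : ι => p) := by
  intro Z a b hab
  rw [← cancel_epi p]
  exact hab (Classical.arbitrary ι)

theorem epi_of_je_single {X Y : Sheaf J (Type u)} (p : X ⟶ Y) {ι : Type*}
    (h : JE (fun _ : ι => p)) : Epi p := by
  constructor
  intro Z a b hab
  exact h a b (fun _ => hab)

/-- reindexing along a surjection-like map -/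
theorem je_reindex {ι κ : Type*} {X : Sheaf J (Type u)} {F : ι → Sheaf J (Type u)}
    (π : ∀ i, F i ⟶ X) (e : κ → ι) (he : Function.Surjective e) (h : JE π) :
    JE (fun k => π (e k)) := by
  intro Z a b hab
  apply h
  intro i
  obtain ⟨k, rfl⟩ := he i
  exact hab k

theorem isQC_iff (X : Sheaf J (Type u)) : ToposFin.IsQC X ↔
    ∀ (ι : Type u) (F : ι → Sheaf J (Type u)) (π : ∀ i, F i ⟶ X), JE π →
      ∃ s : Finset ι, JE (fun i : s => π i) := by
  constructor
  · intro h ι F π hπ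
    obtain ⟨s, hs⟩ := h ι F π ((epi_sigmaDesc_iff π).2 hπ)
    exact ⟨s, (epi_sigmaDesc_iff (fun i : s => π i)).1 hs⟩
  · intro h ι F π hπ
    obtain ⟨s, hs⟩ := h ι F π ((epi_sigmaDesc_iff π).1 hπ)
    exact ⟨s, (epi_sigmaDesc_iff (fun i : s => π i)).2 hs⟩

/-- SGA4 VI 1.3: a finite jointly epimorphic family with quasi-compact sources has quasi-compact
target. -/
theorem isQC_of_finite_je {κ : Type*} [Finite κ] {X : Sheaf J (Type u)}
    (F : κ → Sheaf J (Type u)) (π : ∀ k, F k ⟶ X) (hπ : JE π)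
    (hF : ∀ k, ToposFin.IsQC (F k)) : ToposFin.IsQC X := by
  classical
  haveI := Fintype.ofFinite κ
  rw [isQC_iff]
  intro ι G ρ hρ
  have h1 : ∀ k, JE (fun j => pullback.snd (ρ j) (π k)) := fun k =>
    je_pullback ρ (π k) (fun j => pullback.snd (ρ j) (π k)) (fun j => pullback.fst (ρ j) (π k))
      (fun j => (IsPullback.of_hasPullback (ρ j) (π k)).flip) hρ
  have h2 : ∀ k, ∃ s : Finset ι, JE (fun j : s => pullback.snd (ρ j) (π k)) := fun k =>
    (isQC_iff _).1 (hF k) ι _ _ (h1 k)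
  choose s hs using h2
  refine ⟨Finset.univ.biUnion s, ?_⟩
  have h3 := je_comp π (fun k (j : s k) => pullback.snd (ρ j) (π k)) hπ hs
  refine je_of_factor _ _ ?_ h3
  rintro ⟨k, j, hj⟩
  refine ⟨⟨j, Finset.mem_biUnion.2 ⟨k, Finset.mem_univ _, hj⟩⟩, pullback.fst (ρ j) (π k), ?_⟩
  exact pullback.condition

theorem isQC_of_epi {X Y : Sheaf J (Type u)} (p : X ⟶ Y) [Epi p] (h : ToposFin.IsQC X) :
    ToposFin.IsQC Y :=
  isQC_of_finite_je (κ := Unit) (fun _ => X) (fun _ => p) (je_of_epi p) (fun _ => h)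

theorem isQC_of_iso {X Y : Sheaf J (Type u)} (e : X ≅ Y) (h : ToposFin.IsQC X) :
    ToposFin.IsQC Y :=
  isQC_of_epi e.hom h

end Groth.Agent.Lib.ToposFinH8
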