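import Mathlib
import Groth.Prelude.Def_SGA4c
import Groth.Agent.Lib.ToposFin_helper8

/-!
# Quasi-compact and quasi-separated morphisms in a sheaf topos: formal properties (helper8)
-/

set_option autoImplicit false

open CategoryTheory Limits Opposite

attribute [-instance] CategoryTheory.hasColimitsEssentiallySmallSite

namespace Groth.Agent.Lib.ToposFinH8

universe u
variable {C : Type u} [SmallCategory C] {J : GrothendieckTopology C}

theorem isQC_of_isPullback {X Y P Y' : Sheaf J (Type u)} {f : X ⟶ Y} (hf : ToposFin.IsQCHom f)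
    {fst : P ⟶ X} {snd : P ⟶ Y'} {g : Y' ⟶ Y} (H : IsPullback fst snd f g)
    (hY' : ToposFin.IsQC Y') : ToposFin.IsQC P :=
  isQC_of_iso H.isoPullback.symm (hf Y' g hY')

theorem isQCHom_of_isIso {X Y : Sheaf J (Type u)} (f : X ⟶ Y) [IsIso f] : ToposFin.IsQCHom f := by
  intro Y' g hY'
  exact isQC_of_iso (asIso (pullback.snd f g)).symm hY'

theorem isQCHom_comp {X Y Z : Sheaf J (Type u)} (f : X ⟶ Y) (g : Y ⟶ Z)
    (hf : ToposFin.IsQCHom f) (hg : ToposFin.IsQCHom g) : ToposFin.IsQCHom (f ≫ g) := by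
  intro Z' h hZ'
  have H' := (IsPullback.of_hasPullback f (pullback.fst g h)).paste_vert
    (IsPullback.of_hasPullback g h)
  exact isQC_of_iso H'.isoPullback (hf _ _ (hg _ h hZ'))

theorem isQCHom_baseChange {X Y X' Y' : Sheaf J (Type u)} {f : X ⟶ Y} {f' : X' ⟶ Y'}
    {i₁ : X' ⟶ X} {i₂ : Y' ⟶ Y} (H : IsPullback f' i₁ i₂ f) (hf : ToposFin.IsQCHom f) :
    ToposFin.IsQCHom f' := by
  intro Y'' g hY''
  have H' := (IsPullback.of_hasPullback f' g).paste_horiz H.flip
  exact isQC_of_isPullback hf H' hY''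

/-- Quasi-compact morphisms as a morphism property. -/
def qc : MorphismProperty (Sheaf J (Type u)) := fun _ _ f => ToposFin.IsQCHom f

theorem qc_iff {X Y : Sheaf J (Type u)} (f : X ⟶ Y) : qc f ↔ ToposFin.IsQCHom f := Iff.rfl

theorem qc_diagonal_iff {X Y : Sheaf J (Type u)} (f : X ⟶ Y) :
    (qc (J := J)).diagonal f ↔ ToposFin.IsQSHom f := Iff.rfl

instance : (qc (J := J)).IsStableUnderBaseChange where
  of_isPullback H h := isQCHom_baseChange H.flip h

instance : (qc (J := J)).IsMultiplicative where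
  id_mem X := isQCHom_of_isIso (𝟙 X)
  comp_mem f g hf hg := isQCHom_comp f g hf hg

theorem isQC_of_isQCHom {X Y : Sheaf J (Type u)} (f : X ⟶ Y) (hf : ToposFin.IsQCHom f)
    (hY : ToposFin.IsQC Y) : ToposFin.IsQC X :=
  isQC_of_isPullback hf (IsPullback.of_horiz_isIso (fst := 𝟙 X) (snd := f) (f := f) (g := 𝟙 Y)
    ⟨by simp⟩) hY

theorem mono_le_qc_diagonal : MorphismProperty.monomorphisms (Sheaf J (Type u)) ≤ qc.diagonal := by
  intro X Y f hf
  haveI : Mono f := hf
  exact isQCHom_of_isIso (pullback.diagonal f)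

instance : (qc (J := J)).HasOfPostcompProperty (MorphismProperty.monomorphisms _) :=
  MorphismProperty.hasOfPostcompProperty_iff_le_diagonal.2 mono_le_qc_diagonal

instance : (qc (J := J)).HasOfPostcompProperty qc.diagonal :=
  MorphismProperty.hasOfPostcompProperty_iff_le_diagonal.2 le_rfl

/-- If `f ≫ j` is quasi-compact and `j` is a monomorphism then `f` is quasi-compact. -/
theorem isQCHom_of_comp_mono {X Y Z : Sheaf J (Type u)} (f : X ⟶ Y) (j : Y ⟶ Z) [Mono j]
    (h : ToposFin.IsQCHom (f ≫ j)) : ToposFin.IsQCHom f :=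
  MorphismProperty.HasOfPostcompProperty.of_postcomp (W := qc) (W' := MorphismProperty.monomorphisms _)
    f j (inferInstanceAs (Mono j)) h

/-- SGA4 VI 1.8: if `g` is quasi-separated and `f ≫ g` is quasi-compact then `f` is quasi-compact. -/
theorem isQCHom_of_comp_isQSHom {X Y Z : Sheaf J (Type u)} (f : X ⟶ Y) (g : Y ⟶ Z)
    (hg : ToposFin.IsQSHom g) (h : ToposFin.IsQCHom (f ≫ g)) : ToposFin.IsQCHom f :=
  MorphismProperty.HasOfPostcompProperty.of_postcomp (W := qc) (W' := qc.diagonal) f g hg h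

/-- If `f ≫ g` is quasi-separated then so is `f`. -/
theorem isQSHom_of_comp {X Y Z : Sheaf J (Type u)} (f : X ⟶ Y) (g : Y ⟶ Z)
    (h : ToposFin.IsQSHom (f ≫ g)) : ToposFin.IsQSHom f := by
  change ToposFin.IsQCHom (pullback.diagonal (f ≫ g)) at h
  rw [pullback.diagonal_comp] at h
  change ToposFin.IsQCHom (pullback.diagonal f)
  haveI : Mono (pullback.snd (pullback.diagonal g)
      (pullback.map (f ≫ g) (f ≫ g) g g f f (𝟙 Z) (Category.comp_id _) (Category.comp_id _))) :=
    inferInstance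
  exact isQCHom_of_comp_mono _ _ h

theorem isQSHom_comp {X Y Z : Sheaf J (Type u)} (f : X ⟶ Y) (g : Y ⟶ Z)
    (hf : ToposFin.IsQSHom f) (hg : ToposFin.IsQSHom g) : ToposFin.IsQSHom (f ≫ g) :=
  (qc (J := J)).diagonal.comp_mem f g hf hg

theorem isQSHom_baseChange {X Y X' Y' : Sheaf J (Type u)} {f : X ⟶ Y} {f' : X' ⟶ Y'}
    {i₁ : X' ⟶ X} {i₂ : Y' ⟶ Y} (H : IsPullback f' i₁ i₂ f) (hf : ToposFin.IsQSHom f) :
    ToposFin.IsQSHom f' :=
  (qc (J := J)).diagonal.of_isPullback H.flip hf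

theorem isQSHom_of_mono {X Y : Sheaf J (Type u)} (f : X ⟶ Y) [Mono f] : ToposFin.IsQSHom f :=
  mono_le_qc_diagonal f (inferInstanceAs (Mono f))

end Groth.Agent.Lib.ToposFinH8
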